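import Groth.Agent.S0051
import Groth.Agent.S0012
import Groth.Agent.Lib.ProjFormulaInv
import Groth.Agent.Lib.H78AtlasIso
import Groth.Agent.Lib.H78Dual
import Groth.Agent.Lib.TwistEquiv
import Groth.Agent.Lib.CohLESExact
import Groth.Agent.Lib.H4Chase
import Groth.Agent.Lib.H90OXModPushFinite
import Groth.Agent.Lib.H90InvertiblePullback
import Groth.Agent.Lib.OXModTensorQCoh
import Groth.Agent.Lib.OXModRestrict

/-!
# Eventual vanishing of the cohomology of twists, and finite morphisms (helper10)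

`EV L F` : there is `n₀` with `H^p(X, F ⊗ L^{⊗ n}) = 0` for all `n ≥ n₀`, `p > 0`.

* `EV.of_iso`, `EV.of_isZero`, `EV.ext` (extensions; `L` invertible), `EV.quot` (cokernel of a mono),
  `EV.root` (`EV (F^{⊕ r}) → EV F`).
* `EV.push` / `EV.of_push` : for `f : Y ⟶ X` affine, `M` quasi-coherent on `Y`, `L` invertible on `X`:
  `EV (f^* L) M ↔ EV L (f_* M)` (affine Leray S0012 + projection formula + `f^*(L^n) ≅ (f^*L)^n`).
* `isAmple_pullback_of_finite` : `X`, `Y` proper over a Noetherian ring, `f : Y ⟶ X` finite, `L` ample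
  on `X` ⇒ `f^* L` ample on `Y` (via the cohomological criterion S0051).
-/

set_option autoImplicit false
universe u
open CategoryTheory CategoryTheory.Limits AlgebraicGeometry CohB1
open Groth.Agent.Lib.OXModTensor Groth.Agent.Lib.TwistEquiv Groth.Agent.Lib.CohLES

namespace Groth.Agent.Lib.AmpleFiniteCoh

variable {X : Scheme.{u}}

/-- eventual vanishing of the higher cohomology of the twists `F ⊗ L^{⊗ n}` -/
def EV (L F : X.Modules) : Prop :=
  ∃ n₀ : ℕ, ∀ n : ℕ, n₀ ≤ n → ∀ p : ℕ, 0 < p →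
    Subsingleton (Coh.HH X (tensorMod F (tensorPow L n)) p)

theorem EV.of_iso {L F F' : X.Modules} (e : F ≅ F') (h : EV L F) : EV L F' := by
  obtain ⟨n₀, hn₀⟩ := h
  refine ⟨n₀, fun n hn p hp => ?_⟩
  have := hn₀ n hn p hp
  exact subsingleton_of_iso (tensorModIso e.symm (Iso.refl (tensorPow L n))) p

theorem EV.of_isZero {L F : X.Modules} (hF : IsZero F) : EV L F := by
  refine ⟨0, fun n _ p _ => ?_⟩
  apply Groth.Agent.Lib.H4Chase.subsingleton_HH_of_isZero
  exact (tensorRightFunctor (tensorPow L n)).map_isZero hF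

/-- a tensor inverse of `L^{⊗ n}` -/
theorem exists_inverse_pow {L : X.Modules} (hL : PicF.IsInvertible L) (n : ℕ) :
    ∃ M' : X.Modules, Nonempty (tensorMod (tensorPow L n) M' ≅ Coh.structureModule X) := by
  obtain ⟨M', -, ⟨e⟩⟩ := Groth.Agent.Lib.H78Dual.exists_tensor_inverse
    (Groth.Agent.Lib.OXModRestrict.isInvertible_tensorPow hL n)
  exact ⟨M', ⟨braiding _ _ ≪≫ e⟩⟩

theorem EV.ext {L : X.Modules} (hL : PicF.IsInvertible L) {S : ShortComplex X.Modules}
    (hS : S.ShortExact) (h₁ : EV L S.X₁) (h₃ : EV L S.X₃) : EV L S.X₂ := by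
  obtain ⟨n₁, hn₁⟩ := h₁
  obtain ⟨n₃, hn₃⟩ := h₃
  refine ⟨max n₁ n₃, fun n hn p hp => ?_⟩
  obtain ⟨M', ⟨e⟩⟩ := exists_inverse_pow hL n
  have hS' : (S.map (tensorRightFunctor (tensorPow L n))).ShortExact :=
    shortExact_map_tensorRight e hS
  have h1 : Subsingleton (Coh.HH X (S.map (tensorRightFunctor (tensorPow L n))).X₁ p) :=
    hn₁ n (le_trans (le_max_left _ _) hn) p hp
  have h3 : Subsingleton (Coh.HH X (S.map (tensorRightFunctor (tensorPow L n))).X₃ p) :=
    hn₃ n (le_trans (le_max_right _ _) hn) p hp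
  exact subsingleton_mid hS' p

theorem EV.quot {L : X.Modules} (hL : PicF.IsInvertible L) {S : ShortComplex X.Modules}
    (hS : S.ShortExact) (h₁ : EV L S.X₁) (h₂ : EV L S.X₂) : EV L S.X₃ := by
  obtain ⟨n₁, hn₁⟩ := h₁
  obtain ⟨n₂, hn₂⟩ := h₂
  refine ⟨max n₁ n₂, fun n hn p hp => ?_⟩
  obtain ⟨M', ⟨e⟩⟩ := exists_inverse_pow hL n
  have hS' : (S.map (tensorRightFunctor (tensorPow L n))).ShortExact :=
    shortExact_map_tensorRight e hS
  have h1 : Subsingleton (Coh.HH X (S.map (tensorRightFunctor (tensorPow L n))).X₁ (p + 1)) :=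
    hn₁ n (le_trans (le_max_left _ _) hn) (p + 1) (Nat.succ_pos p)
  have h2 : Subsingleton (Coh.HH X (S.map (tensorRightFunctor (tensorPow L n))).X₂ p) :=
    hn₂ n (le_trans (le_max_right _ _) hn) p hp
  exact subsingleton_right hS' p

/-- a retract inherits eventual vanishing -/
theorem EV.of_retract {L F G : X.Modules} (i : F ⟶ G) (r : G ⟶ F) (hir : i ≫ r = 𝟙 F)
    (h : EV L G) : EV L F := by
  obtain ⟨n₀, hn₀⟩ := h
  refine ⟨n₀, fun n hn p hp => ?_⟩
  have hG : Subsingleton (Coh.HH X ((tensorRightFunctor (tensorPow L n)).obj G) p) :=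
    hn₀ n hn p hp
  have hx : ∀ x : Coh.HH X ((tensorRightFunctor (tensorPow L n)).obj F) p, x = 0 := by
    intro x
    have h1 : map ((tensorRightFunctor (tensorPow L n)).map i ≫
        (tensorRightFunctor (tensorPow L n)).map r) p x = x := by
      rw [← CategoryTheory.Functor.map_comp, hir, CategoryTheory.Functor.map_id]
      exact map_id _ p x
    rw [map_comp] at h1
    have h2 : map ((tensorRightFunctor (tensorPow L n)).map i) p x = 0 := Subsingleton.elim _ _
    rw [h2, map_zero] at h1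
    exact h1.symm
  exact ⟨fun a b => (hx a).trans (hx b).symm⟩

theorem EV.root {L F : X.Modules} (r : ℕ) (hr : 1 ≤ r) (h : EV L (∐ fun _ : Fin r => F)) :
    EV L F := by
  let j0 : Fin r := ⟨0, hr⟩
  classical
  refine EV.of_retract (Sigma.ι (fun _ : Fin r => F) j0)
    (Sigma.desc (fun j => if j = j0 then 𝟙 F else 0)) ?_ h
  simp

section Push

variable {Y : Scheme.{u}} (f : Y ⟶ X) [IsAffineHom f] {L : X.Modules}

/-- the key comparison: `H^p(X, f_* M ⊗ L^n) ≃ H^p(Y, M ⊗ (f^* L)^n)` -/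
theorem nonempty_HH_equiv (hL : PicF.IsInvertible L) (M : Y.Modules) [hM : M.IsQuasicoherent]
    (n p : ℕ) :
    Nonempty (Coh.HH X (tensorMod ((Scheme.Modules.pushforward f).obj M) (tensorPow L n)) p ≃+
      Coh.HH Y (tensorMod M (tensorPow ((Scheme.Modules.pullback f).obj L) n)) p) := by
  have hLn : PicF.IsInvertible (tensorPow L n) :=
    Groth.Agent.Lib.OXModRestrict.isInvertible_tensorPow hL n
  have hq1 : ((Scheme.Modules.pullback f).obj (tensorPow L n)).IsQuasicoherent :=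
    (Groth.Agent.Lib.H90Invertible.isCoh_of_isInvertible
      (Groth.Agent.Lib.H90Invertible.isInvertible_pullback f hLn)).1
  have hq2 : Coh.IsQCoh (tensorMod M ((Scheme.Modules.pullback f).obj (tensorPow L n))) :=
    Groth.Agent.Lib.OXModTensorQCoh.isQuasicoherent_tensorMod M _
  obtain ⟨e1⟩ := Groth.Agent.S0012.result f
    (tensorMod M ((Scheme.Modules.pullback f).obj (tensorPow L n))) p
  obtain ⟨e2⟩ := Groth.Agent.Lib.H78AtlasIso.nonempty_pullback_tensorPow_iso f hL n
  let E1 := mapEquiv (Groth.Agent.Lib.ProjFormulaInv.projIso f M (tensorPow L n) hLn) p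
  let E3 := mapEquiv (tensorModIso (Iso.refl M) e2) p
  exact ⟨(E1.trans e1.symm).trans E3⟩

theorem EV.push (hL : PicF.IsInvertible L) (M : Y.Modules) [M.IsQuasicoherent]
    (h : EV ((Scheme.Modules.pullback f).obj L) M) :
    EV L ((Scheme.Modules.pushforward f).obj M) := by
  obtain ⟨n₀, hn₀⟩ := h
  refine ⟨n₀, fun n hn p hp => ?_⟩
  obtain ⟨E⟩ := nonempty_HH_equiv f hL M n p
  have := hn₀ n hn p hp
  exact E.toEquiv.subsingleton

theorem EV.of_push (hL : PicF.IsInvertible L) (M : Y.Modules) [M.IsQuasicoherent]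
    (h : EV L ((Scheme.Modules.pushforward f).obj M)) :
    EV ((Scheme.Modules.pullback f).obj L) M := by
  obtain ⟨n₀, hn₀⟩ := h
  refine ⟨n₀, fun n hn p hp => ?_⟩
  obtain ⟨E⟩ := nonempty_HH_equiv f hL M n p
  have := hn₀ n hn p hp
  exact E.symm.toEquiv.subsingleton

end Push

/-- `L` ample on `X`, `f : Y ⟶ X` finite, `X` and `Y` proper over a Noetherian ring: `f^* L` is
ample. -/
theorem isAmple_pullback_of_finite (R : Type u) [CommRing R] [IsNoetherianRing R]
    {X Y : Scheme.{u}} (gX : X ⟶ Spec (CommRingCat.of R)) (gY : Y ⟶ Spec (CommRingCat.of R))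
    [IsProper gX] [IsProper gY] (f : Y ⟶ X) [IsFinite f] (L : X.Modules)
    (hL : PicF.IsInvertible L) (hamp : CohB1.IsAmple L) :
    CohB1.IsAmple ((Scheme.Modules.pullback f).obj L) := by
  rw [Groth.Agent.S0051.result R Y gY _ (Groth.Agent.Lib.H90Invertible.isInvertible_pullback f hL)]
  intro M hM
  have hMq : M.IsQuasicoherent := hM.1
  have hpush : Coh.IsCoh ((Scheme.Modules.pushforward f).obj M) :=
    Groth.Agent.Lib.H90OXModPushFinite.isCoh_pushforward f M hM
  exact EV.of_push f hL M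
    ((Groth.Agent.S0051.result R X gX L hL).mp hamp _ hpush)

end Groth.Agent.Lib.AmpleFiniteCoh
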