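import Groth.Agent.Lib.CohLESExact

/-!
# Linearity of the long exact sequence of `Coh.HH`

* `smulAb_naturality`, `map_smul`, `δ_smul`: `CohLES.map` and `CohLES.δ` commute with the action of global
  functions (`Coh.moduleΓtop`); `mapΓ`, `δΓ` are the `Γtop`-linear maps.
* For `X` over `Spec A` (`Coh.moduleOver`): `mapₗ A φ n`, `δₗ A hS n`, `mapEquivₗ`, the exactness statements
  `range_mapₗ_f_eq_ker`, `range_mapₗ_g_eq_ker`, `range_δₗ_eq_ker`, and for Noetherian `A` the finiteness
  lemmas `finite_mid`, `finite_left`, `finite_right`, `finite_left_zero`.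
-/

set_option autoImplicit false
universe u
open CategoryTheory CategoryTheory.Limits AlgebraicGeometry TopologicalSpace Opposite Abelian

namespace Groth.Agent.Lib.CohLES

variable {X : Scheme.{u}}

set_option maxHeartbeats 400000 in
/-- Scalar multiplication by a global function commutes with morphisms of modules. -/
theorem smulAb_naturality {M N : X.Modules} (φ : M ⟶ N) (r : Coh.Γtop X) :
    Coh.smulAb M r ≫ (toAbF X).map φ = (toAbF X).map φ ≫ Coh.smulAb N r := by
  ext U m
  change ((toAbF X).map φ).hom.app U ((Coh.smulAb M r).hom.app U m) =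
    (Coh.smulAb N r).hom.app U (((toAbF X).map φ).hom.app U m)
  rw [Coh.smulAb_app, Coh.smulAb_app]
  exact (φ.val.app U).hom.map_smul _ m

theorem smul_def {M : X.Modules} (n : ℕ) (r : Coh.Γtop X) (x : Coh.HH X M n) :
    r • x = Sheaf.H.map (Coh.smulAb M r) n x := rfl

theorem smul_def' {M : X.Modules} (n : ℕ) (r : Coh.Γtop X) (x : Coh.HH X M n) :
    r • x = x.comp (Ext.mk₀ (Coh.smulAb M r)) (add_zero n) := rfl

set_option maxHeartbeats 400000 in
/-- `map φ n` is linear over the global functions. -/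
theorem map_smul {M N : X.Modules} (φ : M ⟶ N) (n : ℕ) (r : Coh.Γtop X) (x : Coh.HH X M n) :
    map φ n (r • x) = r • map φ n x := by
  rw [smul_def, smul_def, map, ← Sheaf.H.map_comp_apply, ← Sheaf.H.map_comp_apply,
    smulAb_naturality]

/-- General fact: the connecting class commutes with endomorphisms of a short exact sequence. -/
theorem comp_extClass_comm {C : Type*} [Category C] [Abelian C] [HasExt C] {T : ShortComplex C}
    (hT : T.ShortExact) (σ : T ⟶ T) {A : C} {n : ℕ} (x : Ext A T.X₃ n) :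
    (x.comp (Ext.mk₀ σ.τ₃) (add_zero n)).comp hT.extClass rfl =
      (x.comp hT.extClass rfl).comp (Ext.mk₀ σ.τ₁) (add_zero (n + 1)) := by
  rw [Ext.comp_assoc_of_second_deg_zero, Ext.comp_assoc_of_third_deg_zero,
    ShortComplex.ShortExact.extClass_naturality hT hT σ]

/-- The endomorphism of `S.map (toAbF X)` given by multiplication by a global function. -/
noncomputable def smulSC (S : ShortComplex X.Modules) (r : Coh.Γtop X) :
    S.map (toAbF X) ⟶ S.map (toAbF X) where
  τ₁ := Coh.smulAb S.X₁ r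
  τ₂ := Coh.smulAb S.X₂ r
  τ₃ := Coh.smulAb S.X₃ r
  comm₁₂ := smulAb_naturality S.f r
  comm₂₃ := smulAb_naturality S.g r

set_option maxHeartbeats 400000 in
theorem δ_smul_aux {S : ShortComplex X.Modules} (hT : (S.map (toAbF X)).ShortExact)
    (σ : S.map (toAbF X) ⟶ S.map (toAbF X)) (n : ℕ)
    (x : Ext.{u} (constZ X) (S.map (toAbF X)).X₃ n) :
    (x.comp (Ext.mk₀ σ.τ₃) (add_zero n)).comp hT.extClass rfl =
      (x.comp hT.extClass rfl).comp (Ext.mk₀ σ.τ₁) (add_zero (n + 1)) := by
  generalize S.map (toAbF X) = T at *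
  exact comp_extClass_comm hT σ x

set_option maxHeartbeats 400000 in
/-- The connecting homomorphism is linear over the global functions. -/
theorem δ_smul {S : ShortComplex X.Modules} (hS : S.ShortExact) (n : ℕ) (r : Coh.Γtop X)
    (x : Coh.HH X S.X₃ n) : δ hS n (r • x) = r • δ hS n x :=
  δ_smul_aux (shortExact_toAb hS) (smulSC S r) n x

/-- `map φ n` as a linear map over the global functions. -/
noncomputable def mapΓ {M N : X.Modules} (φ : M ⟶ N) (n : ℕ) :
    Coh.HH X M n →ₗ[Coh.Γtop X] Coh.HH X N n where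
  toFun := map φ n
  map_add' := (map φ n).map_add
  map_smul' := map_smul φ n

/-- `δ hS n` as a linear map over the global functions. -/
noncomputable def δΓ {S : ShortComplex X.Modules} (hS : S.ShortExact) (n : ℕ) :
    Coh.HH X S.X₃ n →ₗ[Coh.Γtop X] Coh.HH X S.X₁ (n + 1) where
  toFun := δ hS n
  map_add' := (δ hS n).map_add
  map_smul' := δ_smul hS n

section Over

variable (A : Type u) [CommRing A] [X.Over (Spec (CommRingCat.of A))]

theorem smul_over_def {M : X.Modules} (n : ℕ) (a : A) (x : Coh.HH X M n) :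
    a • x = Coh.toGlobal (X ↘ Spec (CommRingCat.of A)) a • x := rfl

/-- `map φ n` as an `A`-linear map, for `X` over `Spec A`. -/
noncomputable def mapₗ {M N : X.Modules} (φ : M ⟶ N) (n : ℕ) :
    Coh.HH X M n →ₗ[A] Coh.HH X N n where
  toFun := map φ n
  map_add' := (map φ n).map_add
  map_smul' a x := by
    rw [smul_over_def, smul_over_def, RingHom.id_apply]
    exact map_smul φ n _ x

/-- `δ hS n` as an `A`-linear map, for `X` over `Spec A`. -/
noncomputable def δₗ {S : ShortComplex X.Modules} (hS : S.ShortExact) (n : ℕ) :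
    Coh.HH X S.X₃ n →ₗ[A] Coh.HH X S.X₁ (n + 1) where
  toFun := δ hS n
  map_add' := (δ hS n).map_add
  map_smul' a x := by
    rw [smul_over_def, smul_over_def, RingHom.id_apply]
    exact δ_smul hS n _ x

@[simp] theorem mapₗ_apply {M N : X.Modules} (φ : M ⟶ N) (n : ℕ) (x : Coh.HH X M n) :
    mapₗ A φ n x = map φ n x := rfl

@[simp] theorem δₗ_apply {S : ShortComplex X.Modules} (hS : S.ShortExact) (n : ℕ)
    (x : Coh.HH X S.X₃ n) : δₗ A hS n x = δ hS n x := rfl

variable {S : ShortComplex X.Modules} (hS : S.ShortExact)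

include hS in
theorem range_mapₗ_f_eq_ker (n : ℕ) :
    LinearMap.range (mapₗ A S.f n) = LinearMap.ker (mapₗ A S.g n) := by
  ext x
  constructor
  · rintro ⟨y, rfl⟩
    exact map_g_map_f n y
  · intro hx
    obtain ⟨y, hy⟩ := exact₂ hS n x hx
    exact ⟨y, hy⟩

theorem range_mapₗ_g_eq_ker (n : ℕ) :
    LinearMap.range (mapₗ A S.g n) = LinearMap.ker (δₗ A hS n) := by
  ext x
  constructor
  · rintro ⟨y, rfl⟩
    exact δ_map_g hS n y
  · intro hx
    obtain ⟨y, hy⟩ := exact₃ hS n x hx
    exact ⟨y, hy⟩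

theorem range_δₗ_eq_ker (n : ℕ) :
    LinearMap.range (δₗ A hS n) = LinearMap.ker (mapₗ A S.f (n + 1)) := by
  ext x
  constructor
  · rintro ⟨y, rfl⟩
    exact map_f_δ hS n y
  · intro hx
    obtain ⟨y, hy⟩ := exact₁ hS n x hx
    exact ⟨y, hy⟩

variable [IsNoetherianRing A]

include hS in
/-- Finiteness of the middle term from the outer terms (Noetherian base ring). -/
theorem finite_mid (n : ℕ) [Module.Finite A (Coh.HH X S.X₁ n)] [Module.Finite A (Coh.HH X S.X₃ n)] :
    Module.Finite A (Coh.HH X S.X₂ n) := by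
  have h1 : IsNoetherian A (Coh.HH X S.X₁ n) := isNoetherian_of_isNoetherianRing_of_finite A _
  have h3 : IsNoetherian A (Coh.HH X S.X₃ n) := isNoetherian_of_isNoetherianRing_of_finite A _
  have := isNoetherian_of_range_eq_ker (mapₗ A S.f n) (mapₗ A S.g n) (range_mapₗ_f_eq_ker A hS n)
  infer_instance

include hS in
/-- Finiteness of `H^n(S.X₃)` from `H^n(S.X₂)` and `H^{n+1}(S.X₁)`. -/
theorem finite_right (n : ℕ) [Module.Finite A (Coh.HH X S.X₂ n)]
    [Module.Finite A (Coh.HH X S.X₁ (n + 1))] : Module.Finite A (Coh.HH X S.X₃ n) := by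
  have h1 : IsNoetherian A (Coh.HH X S.X₂ n) := isNoetherian_of_isNoetherianRing_of_finite A _
  have h3 : IsNoetherian A (Coh.HH X S.X₁ (n + 1)) := isNoetherian_of_isNoetherianRing_of_finite A _
  have := isNoetherian_of_range_eq_ker (mapₗ A S.g n) (δₗ A hS n) (range_mapₗ_g_eq_ker A hS n)
  infer_instance

include hS in
/-- Finiteness of `H^{n+1}(S.X₁)` from `H^n(S.X₃)` and `H^{n+1}(S.X₂)`. -/
theorem finite_left (n : ℕ) [Module.Finite A (Coh.HH X S.X₃ n)]
    [Module.Finite A (Coh.HH X S.X₂ (n + 1))] : Module.Finite A (Coh.HH X S.X₁ (n + 1)) := by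
  have h1 : IsNoetherian A (Coh.HH X S.X₃ n) := isNoetherian_of_isNoetherianRing_of_finite A _
  have h3 : IsNoetherian A (Coh.HH X S.X₂ (n + 1)) := isNoetherian_of_isNoetherianRing_of_finite A _
  have := isNoetherian_of_range_eq_ker (δₗ A hS n) (mapₗ A S.f (n + 1)) (range_δₗ_eq_ker A hS n)
  infer_instance

include hS in
/-- Finiteness of `H^0(S.X₁)` from `H^0(S.X₂)`. -/
theorem finite_left_zero [Module.Finite A (Coh.HH X S.X₂ 0)] :
    Module.Finite A (Coh.HH X S.X₁ 0) := by
  have h1 : IsNoetherian A (Coh.HH X S.X₂ 0) := isNoetherian_of_isNoetherianRing_of_finite A _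
  have : IsNoetherian A (Coh.HH X S.X₁ 0) :=
    isNoetherian_of_injective (mapₗ A S.f 0) (map_f_injective_zero hS)
  infer_instance

/-- An isomorphism of modules induces an `A`-linear equivalence on cohomology. -/
noncomputable def mapEquivₗ {M N : X.Modules} (e : M ≅ N) (n : ℕ) :
    Coh.HH X M n ≃ₗ[A] Coh.HH X N n :=
  { mapEquiv e n with
    map_smul' := (mapₗ A e.hom n).map_smul }

end Over

end Groth.Agent.Lib.CohLES
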