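import Groth.Agent.Lib.FinGlobGen
import Groth.Agent.Lib.OXModTensorColim
import Groth.Agent.Lib.OXModTensorQCoh
import Groth.Agent.Lib.H90OXModExact
import Groth.Agent.Lib.H90InvertibleFP
import Groth.Agent.Lib.CohLESLinear
import Groth.Agent.S0016

/-!
# Finiteness of coherent cohomology in the presence of an ample invertible module (helper48)

The classical descending induction (Serre, FAC / Hartshorne III.5.2), in abstract form:

`finite_HH_of_ample`: let `X` be a locally Noetherian scheme over a Noetherian ring `A`, `L` an ample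
invertible module with inverse `L'` (`L ⊗ L' ≅ O_X`), and suppose `H^i(X, L'^{⊗m})` is a finite `A`-module
for all `m, i`.  Then `H^i(X, F)` is a finite `A`-module for every coherent `F` and every `i`.

Ingredients exposed for reuse:
* `isCoh_of_iso`, `isCoh_tensorMod`, `isCoh_tensorPow`, `isCoh_free` (finite index type);
* `untwistIso : P ⊗ (F ⊗ Q) ≅ F` when `Q ⊗ P ≅ O`; `powInvIso : L^m ⊗ L'^m ≅ O`;
* `exists_epi_sigma` : from `free K ↠ F ⊗ Q` get `∐_K P ↠ F`;
* `exists_finite_epi_sigma_pow` : `X` compact, `L` ample with inverse `L'`, `F` coherent: for all large `m`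
  there are a finite `K` and an epimorphism `∐_K L'^m ↠ F`;
* `finite_HH_of_sum_eq_id`, `finite_HH_sigma` : cohomology of finite direct sums is finite.
-/

set_option autoImplicit false
universe u
open CategoryTheory CategoryTheory.Limits AlgebraicGeometry Opposite TopologicalSpace CohB1
open Groth.Agent.Lib.OXModTensor

namespace Groth.Agent.Lib.CohFinAmple

variable {X : Scheme.{u}}

/-! ### Coherence bookkeeping -/

/-- Coherence (quasi-coherent of finite type) is invariant under isomorphism. -/
theorem isCoh_of_iso {M N : X.Modules} (e : M ≅ N) (hM : Coh.IsCoh M) : Coh.IsCoh N :=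
  Groth.Agent.Lib.H90OXModExact.isCoh_of_epi e.hom hM
    ((SheafOfModules.isQuasicoherent X.ringCatSheaf).prop_of_iso e hM.1)

theorem isCoh_tensorMod {F G : X.Modules} (hF : Coh.IsCoh F) (hG : Coh.IsCoh G) :
    Coh.IsCoh (tensorMod F G) :=
  haveI := hF.1
  haveI := hG.1
  ⟨Groth.Agent.Lib.OXModTensorQCoh.isQuasicoherent_tensorMod F G,
    Groth.Agent.Lib.OXModTensorQCoh.isFiniteType_tensorMod F G hF.2 hG.2⟩

theorem isCoh_structureModule (X : Scheme.{u}) : Coh.IsCoh (Coh.structureModule X) :=
  Groth.Agent.Lib.H90Invertible.isCoh_of_isInvertible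
    (Groth.Agent.Lib.H90Invertible.isInvertible_structureModule X)

theorem isCoh_tensorPow {L : X.Modules} (hL : Coh.IsCoh L) : ∀ m : ℕ, Coh.IsCoh (tensorPow L m)
  | 0 => isCoh_structureModule X
  | m + 1 => isCoh_tensorMod (isCoh_tensorPow hL m) hL

set_option backward.isDefEq.respectTransparency false in
theorem isFinitePresentation_free (X : Scheme.{u}) (K : Type u) [Finite K] :
    SheafOfModules.IsFinitePresentation.{u} (R := X.ringCatSheaf)
      (SheafOfModules.free K : X.Modules) := by
  haveI := Groth.Agent.Lib.H90Invertible.isFinite_freePresentation (R := X.ringCatSheaf) K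
  have h : ((Groth.Agent.Lib.H90Invertible.freePresentation
      (R := X.ringCatSheaf) K).quasicoherentData).IsFinitePresentation := by
    constructor
    intro i
    exact
      { isFiniteType_generators := ⟨inferInstanceAs (Finite
          (Groth.Agent.Lib.H90Invertible.freePresentation (R := X.ringCatSheaf) K).generators.I)⟩
        isFiniteType_relations := ⟨inferInstanceAs (Finite
          (Groth.Agent.Lib.H90Invertible.freePresentation (R := X.ringCatSheaf) K).relations.I)⟩ }
  constructor
  exact ⟨_, h⟩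

set_option backward.isDefEq.respectTransparency false in
theorem isCoh_free (X : Scheme.{u}) (K : Type u) [Finite K] :
    Coh.IsCoh (SheafOfModules.free K : X.Modules) := by
  haveI := isFinitePresentation_free X K
  exact ⟨inferInstance, inferInstance⟩

/-! ### Untwisting -/

/-- `L^m ⊗ L'^m ≅ O` when `L ⊗ L' ≅ O`. -/
noncomputable def powInvIso {L L' : X.Modules} (e : tensorMod L L' ≅ Coh.structureModule X) (m : ℕ) :
    tensorMod (tensorPow L m) (tensorPow L' m) ≅ Coh.structureModule X :=
  (tensorPowTensor L L' m).symm ≪≫ tensorPowIso e m ≪≫ tensorPowUnit m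

/-- `P ⊗ (F ⊗ Q) ≅ F` when `Q ⊗ P ≅ O`. -/
noncomputable def untwistIso (F P Q : X.Modules) (e : tensorMod Q P ≅ Coh.structureModule X) :
    tensorMod P (tensorMod F Q) ≅ F :=
  braiding P (tensorMod F Q) ≪≫ associator F Q P ≪≫ tensorModIso (Iso.refl F) e ≪≫ rightUnitor F

/-- `∐_K P ≅ P ⊗ free K`. -/
noncomputable def sigmaIsoTensorFree (P : X.Modules) (K : Type u) :
    (∐ fun _ : K => P) ≅ (tensorLeftFunctor P).obj (SheafOfModules.free K) :=
  Sigma.mapIso (fun _ : K => (rightUnitor P).symm) ≪≫
    (PreservesCoproduct.iso (tensorLeftFunctor P) (fun _ : K => Coh.structureModule X)).symm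

theorem isCoh_sigma {P : X.Modules} (hP : Coh.IsCoh P) (K : Type u) [Finite K] :
    Coh.IsCoh (∐ fun _ : K => P) :=
  isCoh_of_iso (sigmaIsoTensorFree P K).symm (isCoh_tensorMod hP (isCoh_free X K))

/-- From an epimorphism `free K ↠ F ⊗ Q` and `Q ⊗ P ≅ O`, an epimorphism `∐_K P ↠ F`. -/
theorem exists_epi_sigma (F P Q : X.Modules) (e : tensorMod Q P ≅ Coh.structureModule X) (K : Type u)
    (p : (SheafOfModules.free K : X.Modules) ⟶ tensorMod F Q) (hp : Epi p) :
    ∃ q : (∐ fun _ : K => P) ⟶ F, Epi q := by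
  haveI : PreservesFiniteColimits (tensorLeftFunctor P) := inferInstance
  haveI : (tensorLeftFunctor P).PreservesEpimorphisms := inferInstance
  haveI : Epi ((tensorLeftFunctor P).map p) :=
    @Functor.map_epi _ _ _ _ (tensorLeftFunctor P) _ _ _ p hp
  exact ⟨(sigmaIsoTensorFree P K).hom ≫ (tensorLeftFunctor P).map p ≫ (untwistIso F P Q e).hom,
    inferInstance⟩

/-- **Coherent modules are quotients of finite sums of negative twists**: `X` compact, `L` ample with
inverse `L'`, `F` coherent.  For every large `m` there are a finite type `K` and an epimorphism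
`∐_K L'^{⊗m} ↠ F`. -/
theorem exists_finite_epi_sigma_pow [CompactSpace X] {L L' : X.Modules} (hL : CohB1.IsAmple L)
    (e : tensorMod L L' ≅ Coh.structureModule X) (F : X.Modules) (hF : Coh.IsCoh F) :
    ∃ m₀ : ℕ, ∀ m, m₀ ≤ m → ∃ (K : Type u) (_ : Finite K)
      (q : (∐ fun _ : K => tensorPow L' m) ⟶ F), Epi q := by
  obtain ⟨m₀, h⟩ := Groth.Agent.Lib.FinGlobGen.exists_finite_epi_twist hL F hF
  refine ⟨m₀, fun m hm => ?_⟩
  obtain ⟨K, hK, p, hp⟩ := h m hm
  obtain ⟨q, hq⟩ := exists_epi_sigma F (tensorPow L' m) (tensorPow L m) (powInvIso e m) K p hp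
  exact ⟨K, hK, q, hq⟩

/-! ### Cohomology of finite direct sums -/

open Groth.Agent.Lib.CohLES

theorem map_sum' {M N : X.Modules} {κ : Type*} (s : Finset κ) (φ : κ → (M ⟶ N)) (n : ℕ)
    (x : Coh.HH X M n) : map (∑ k ∈ s, φ k) n x = ∑ k ∈ s, map (φ k) n x := by
  classical
  induction s using Finset.induction_on with
  | empty => rw [Finset.sum_empty, Finset.sum_empty, map_zero']
  | insert a s ha ih => rw [Finset.sum_insert ha, Finset.sum_insert ha, map_add', ih]

section Over

variable (A : Type u) [CommRing A] [X.Over (Spec (CommRingCat.of A))]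

/-- If `𝟙 E` is a finite sum of maps factoring through modules with finite `H^i`, then `H^i(E)` is
finite. -/
theorem finite_HH_of_sum_eq_id {E : X.Modules} {κ : Type*} [Fintype κ] (G : κ → X.Modules)
    (ι : ∀ k, G k ⟶ E) (π : ∀ k, E ⟶ G k) (h : ∑ k, π k ≫ ι k = 𝟙 E) (i : ℕ)
    (hG : ∀ k, Module.Finite A (Coh.HH X (G k) i)) : Module.Finite A (Coh.HH X E i) := by
  classical
  let φ : (∀ k, Coh.HH X (G k) i) →ₗ[A] Coh.HH X E i :=
    ∑ k, (mapₗ A (ι k) i) ∘ₗ (LinearMap.proj k)
  have hφ : Function.Surjective φ := by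
    intro y
    refine ⟨fun k => map (π k) i y, ?_⟩
    have h1 : φ (fun k => map (π k) i y) = ∑ k, map (ι k) i (map (π k) i y) := by
      simp only [φ, LinearMap.sum_apply, LinearMap.comp_apply, LinearMap.proj_apply, mapₗ_apply]
    rw [h1]
    have h2 : ∀ k, map (ι k) i (map (π k) i y) = map (π k ≫ ι k) i y := fun k =>
      (map_comp (π k) (ι k) i y).symm
    simp_rw [h2]
    rw [← map_sum', h, map_id]
  exact Module.Finite.of_surjective φ hφ

/-- `H^i` of a finite coproduct of copies of `P` is finite if `H^i(P)` is. -/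
theorem finite_HH_sigma (K : Type u) [Finite K] (P : X.Modules) (i : ℕ)
    (h : Module.Finite A (Coh.HH X P i)) : Module.Finite A (Coh.HH X (∐ fun _ : K => P) i) := by
  classical
  cases nonempty_fintype K
  haveI : HasFiniteBiproducts X.Modules := Abelian.hasFiniteBiproducts
  let f : K → X.Modules := fun _ => P
  let e : (⨁ f) ≅ ∐ f := biproduct.isoCoproduct f
  refine finite_HH_of_sum_eq_id A f (fun k => Sigma.ι f k) (fun k => e.inv ≫ biproduct.π f k) ?_ i
    (fun _ => h)
  have h1 : ∀ k, (e.inv ≫ biproduct.π f k) ≫ Sigma.ι f k =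
      e.inv ≫ (biproduct.π f k ≫ biproduct.ι f k) ≫ e.hom := by
    intro k
    simp [e, biproduct.isoCoproduct_hom]
  have ht : ∑ j : K, biproduct.π f j ≫ biproduct.ι f j = 𝟙 (⨁ f) :=
    IsBilimit.total (biproduct.isBilimit f)
  simp_rw [h1]
  rw [← Preadditive.comp_sum, ← Preadditive.sum_comp, ht, Category.id_comp, Iso.inv_hom_id]

/-! ### The descending induction -/

variable [IsNoetherianRing A]

/-- **Finiteness of coherent cohomology from an ample invertible module** whose negative powers have
finite cohomology. -/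
theorem finite_HH_of_ample [IsLocallyNoetherian X] [CompactSpace X] {L L' : X.Modules}
    (hL : CohB1.IsAmple L) (e : tensorMod L L' ≅ Coh.structureModule X) (hL' : Coh.IsCoh L')
    (hO : ∀ m i : ℕ, Module.Finite A (Coh.HH X (tensorPow L' m) i))
    (F : X.Modules) (hF : Coh.IsCoh F) (i : ℕ) : Module.Finite A (Coh.HH X F i) := by
  haveI := Groth.Agent.Lib.H78AmpleBasis.quasiSeparatedSpace_of_isAmple hL
  obtain ⟨d, hd⟩ := Groth.Agent.S0016.result X
  -- descending induction
  suffices H : ∀ (k i : ℕ), d ≤ i + k → ∀ (F : X.Modules), Coh.IsCoh F →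
      Module.Finite A (Coh.HH X F i) from H d i (Nat.le_add_left d i) F hF
  intro k
  induction k with
  | zero =>
    intro i hi F hF
    haveI := hd F hF.1 i (by simpa using hi)
    exact Module.Finite.of_finite
  | succ k ih =>
    intro i hi F hF
    obtain ⟨m₀, hm⟩ := exists_finite_epi_sigma_pow hL e F hF
    obtain ⟨K, hK, q, hq⟩ := hm m₀ le_rfl
    haveI := hF.1
    have hE : Coh.IsCoh (∐ fun _ : K => tensorPow L' m₀) := isCoh_sigma (isCoh_tensorPow hL' m₀) K
    have hker : Coh.IsCoh (kernel q) := Groth.Agent.Lib.H90OXModExact.isCoh_kernel q hE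
    let S : ShortComplex X.Modules := ShortComplex.mk (kernel.ι q) q (kernel.condition q)
    have hS : S.ShortExact :=
      { exact := ShortComplex.exact_of_f_is_kernel _ (kernelIsKernel q)
        mono_f := inferInstanceAs (Mono (kernel.ι q))
        epi_g := hq }
    haveI : Module.Finite A (Coh.HH X S.X₂ i) := finite_HH_sigma A K (tensorPow L' m₀) i (hO m₀ i)
    haveI : Module.Finite A (Coh.HH X S.X₁ (i + 1)) := ih (i + 1) (by omega) (kernel q) hker
    exact finite_right A hS i

end Over

end Groth.Agent.Lib.CohFinAmple
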