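import Groth.Agent.Lib.FlatBaseChangeAlg
import Groth.Agent.Lib.AffineBaseChange
import Groth.Agent.Lib.H90OXModQcqs

set_option autoImplicit false
set_option linter.style.haveILetI false
universe u
open CategoryTheory AlgebraicGeometry TopologicalSpace Opposite TensorProduct

namespace Groth.Agent.Lib.FlatBaseChangeQcqs

open Groth.Agent.Lib.QCohStalk Groth.Agent.Lib.H90OXModQcqs

section Sec

variable {X S : Scheme.{u}} (f : X ⟶ S) (V : S.Opens) (F : X.Modules)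

/-- sections of `F` over `U ≤ f⁻¹V`, as a module over `Γ(S, V)` -/
def Sec (U : X.Opens) (_hU : U ≤ f ⁻¹ᵁ V) : Type u := Γ(F, U)

noncomputable instance (U : X.Opens) (hU : U ≤ f ⁻¹ᵁ V) : AddCommGroup (Sec f V F U hU) :=
  inferInstanceAs (AddCommGroup Γ(F, U))

noncomputable instance (U : X.Opens) (hU : U ≤ f ⁻¹ᵁ V) : Module Γ(S, V) (Sec f V F U hU) :=
  Module.compHom Γ(F, U) (f.appLE V U hU).hom

theorem Sec.smul_def {U : X.Opens} (hU : U ≤ f ⁻¹ᵁ V) (a : Γ(S, V)) (s : Sec f V F U hU) :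
    a • s = ((f.appLE V U hU).hom a • (show Γ(F, U) from s) : Γ(F, U)) := rfl

/-- restriction as a linear map -/
noncomputable def resL {U₁ U₂ : X.Opens} (h₁ : U₁ ≤ f ⁻¹ᵁ V) (h₂ : U₂ ≤ f ⁻¹ᵁ V) (h : U₂ ≤ U₁) :
    Sec f V F U₁ h₁ →ₗ[Γ(S, V)] Sec f V F U₂ h₂ where
  toFun s := res F h s
  map_add' x y := map_add (F.presheaf.map (homOfLE h).op).hom x y
  map_smul' a s := by
    change res F h ((f.appLE V U₁ h₁).hom a • (show Γ(F, U₁) from s)) =
      (f.appLE V U₂ h₂).hom a • res F h s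
    rw [res_smul]
    congr 1
    have := Scheme.Hom.appLE_map f h₁ (homOfLE h).op
    exact congrArg (fun t => t.hom a) this

theorem resL_apply {U₁ U₂ : X.Opens} (h₁ : U₁ ≤ f ⁻¹ᵁ V) (h₂ : U₂ ≤ f ⁻¹ᵁ V) (h : U₂ ≤ U₁)
    (s : Sec f V F U₁ h₁) : resL f V F h₁ h₂ h s = res F h s := rfl

end Sec

section Pieces

variable {X S X' S' : Scheme.{u}} {f : X ⟶ S} {g : S' ⟶ S} {g' : X' ⟶ X} {f' : X' ⟶ S'}

/-- Affine pieces of a fibre product: the open `g'⁻¹U ⊓ f'⁻¹V'` is affine and its ring of sections is the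
pushout. -/
theorem isAffineOpen_inf_and_isPushout (h : IsPullback g' f' f g) {V : S.Opens} {V' : S'.Opens}
    {U : X.Opens} (hV : IsAffineOpen V) (hV' : IsAffineOpen V') (hU : IsAffineOpen U)
    (e : V' ≤ g ⁻¹ᵁ V) (eU : U ≤ f ⁻¹ᵁ V) :
    IsAffineOpen (g' ⁻¹ᵁ U ⊓ f' ⁻¹ᵁ V') ∧
    IsPushout (f.appLE V U eU) (g.appLE V V' e)
      (g'.appLE U (g' ⁻¹ᵁ U ⊓ f' ⁻¹ᵁ V') inf_le_left)
      (f'.appLE V' (g' ⁻¹ᵁ U ⊓ f' ⁻¹ᵁ V') inf_le_right) := by
  have H := Scheme.Hom.isPullback_resLE h (US := V) (UT := V') (UX := U) e eU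
    (UY := g' ⁻¹ᵁ U ⊓ f' ⁻¹ᵁ V') rfl
  have : IsAffine (V : Scheme) := hV
  have : IsAffine (V' : Scheme) := hV'
  have : IsAffine (U : Scheme) := hU
  have hA : IsAffine ((g' ⁻¹ᵁ U ⊓ f' ⁻¹ᵁ V' : X'.Opens) : Scheme) := IsAffine.of_isPullback H
  refine ⟨hA, ?_⟩
  have P := isPushout_appTop_of_isPullback H
  refine P.of_iso V.topIso U.topIso V'.topIso (g' ⁻¹ᵁ U ⊓ f' ⁻¹ᵁ V').topIso ?_ ?_ ?_ ?_
  · exact Groth.Agent.Lib.ThickeningBC.resLE_appTop_comm _ _ _ _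
  · exact Groth.Agent.Lib.ThickeningBC.resLE_appTop_comm _ _ _ _
  · exact Groth.Agent.Lib.ThickeningBC.resLE_appTop_comm _ _ _ _
  · exact Groth.Agent.Lib.ThickeningBC.resLE_appTop_comm _ _ _ _

end Pieces

section Cech

variable {X S : Scheme.{u}} (f : X ⟶ S) (V : S.Opens) (F : X.Modules)
variable {I L : Type*} (W : X.Opens) (hW : W ≤ f ⁻¹ᵁ V) (U : I → X.Opens) (hUW : ∀ i, U i ≤ W)
  (T : L → X.Opens) (a b : L → I) (hTa : ∀ l, T l ≤ U (a l)) (hTb : ∀ l, T l ≤ U (b l))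

/-- restriction to the members of the cover -/
noncomputable def ιL : Sec f V F W hW →ₗ[Γ(S, V)] ∀ i, Sec f V F (U i) ((hUW i).trans hW) :=
  LinearMap.pi fun i => resL f V F hW ((hUW i).trans hW) (hUW i)

/-- the Čech differential -/
noncomputable def dL : (∀ i, Sec f V F (U i) ((hUW i).trans hW)) →ₗ[Γ(S, V)]
    ∀ l, Sec f V F (T l) (((hTa l).trans (hUW _)).trans hW) :=
  LinearMap.pi fun l =>
    (resL f V F ((hUW (a l)).trans hW) (((hTa l).trans (hUW _)).trans hW) (hTa l)) ∘ₗ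
        LinearMap.proj (a l) -
      (resL f V F ((hUW (b l)).trans hW) (((hTa l).trans (hUW _)).trans hW) (hTb l)) ∘ₗ
        LinearMap.proj (b l)

theorem ιL_apply (s : Sec f V F W hW) (i : I) :
    ιL f V F W hW U hUW s i = res F (hUW i) s := rfl

theorem dL_apply (y : ∀ i, Sec f V F (U i) ((hUW i).trans hW)) (l : L) :
    dL f V F W hW U hUW T a b hTa hTb y l =
      (res F (hTa l) (y (a l)) - res F (hTb l) (y (b l)) : Γ(F, T l)) := rfl

theorem ιL_injective (hcov : W ≤ ⨆ i, U i) : Function.Injective (ιL f V F W hW U hUW) := by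
  intro s t hst
  refine res_ext F W U hUW hcov s t fun i => ?_
  exact congrFun hst i

theorem exact_ιL_dL (hcov : W ≤ ⨆ i, U i)
    (hT : ∀ i j, U i ⊓ U j ≤ ⨆ (l : {l // a l = i ∧ b l = j}), T l.1) :
    Function.Exact (ιL f V F W hW U hUW) (dL f V F W hW U hUW T a b hTa hTb) := by
  intro y
  constructor
  · intro hy
    have hy' : ∀ l, res F (hTa l) (y (a l)) = res F (hTb l) (y (b l)) := by
      intro l
      have := congrFun hy l
      rw [dL_apply] at this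
      exact sub_eq_zero.mp this
    have hc : ∀ i j, res F (inf_le_left : U i ⊓ U j ≤ U i) (y i) =
        res F (inf_le_right : U i ⊓ U j ≤ U j) (y j) := by
      intro i j
      refine res_ext F (U i ⊓ U j) (fun l : {l // a l = i ∧ b l = j} => T l.1)
        (fun l => ?_) (hT i j) _ _ (fun l => ?_)
      · obtain ⟨l, rfl, rfl⟩ := l
        exact le_inf (hTa l) (hTb l)
      · obtain ⟨l, rfl, rfl⟩ := l
        exact ((res_res F _ _ (y (a l) : Γ(F, U (a l)))).trans (hy' l)).trans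
          (res_res F _ _ (y (b l) : Γ(F, U (b l)))).symm
    obtain ⟨s, hs⟩ := exists_glue F W U hUW hcov y hc
    exact ⟨s, funext fun i => hs i⟩
  · rintro ⟨s, rfl⟩
    funext l
    have e1 : res F (hTa l) (res F (hUW (a l)) (s : Γ(F, W))) =
        res F (hTb l) (res F (hUW (b l)) (s : Γ(F, W))) :=
      (res_res F _ _ _).trans (res_res F _ _ _).symm
    exact sub_eq_zero.mpr e1

end Cech

section Theta

open Scheme.Modules Groth.Agent.Lib.UnitBaseChange Groth.Agent.Lib.AffineBaseChange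

variable {X S X' S' : Scheme.{u}} (f : X ⟶ S) (g : S' ⟶ S) (g' : X' ⟶ X) (f' : X' ⟶ S')
  (h : IsPullback g' f' f g) (F : X.Modules)
variable {V : S.Opens} {V' : S'.Opens} (e : V' ≤ g ⁻¹ᵁ V)

theorem appLE_eq_of_eq {Y Z : Scheme.{u}} {φ ψ : Y ⟶ Z} (hφψ : φ = ψ) (A : Z.Opens) (B : Y.Opens)
    (p₁ : B ≤ φ ⁻¹ᵁ A) (p₂ : B ≤ ψ ⁻¹ᵁ A) : φ.appLE A B p₁ = ψ.appLE A B p₂ := by
  subst hφψ; rfl

include h in
theorem appLE_comm {U : X.Opens} (hU : U ≤ f ⁻¹ᵁ V) {U' : X'.Opens} (hU' : U' ≤ f' ⁻¹ᵁ V')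
    (hUU' : U' ≤ g' ⁻¹ᵁ U) :
    f.appLE V U hU ≫ g'.appLE U U' hUU' = g.appLE V V' e ≫ f'.appLE V' U' hU' := by
  rw [Scheme.Hom.appLE_comp_appLE, Scheme.Hom.appLE_comp_appLE]
  exact appLE_eq_of_eq h.w _ _ _ _

/-- compatibility of the unit on sections with restrictions -/
theorem unitSecFun_res {Y Z : Scheme.{u}} (k : Y ⟶ Z) (G : Z.Modules) {U₁ U₂ : Z.Opens}
    (hU : U₂ ≤ U₁) {U₁' U₂' : Y.Opens} (hU' : U₂' ≤ U₁') (h₁ : U₁' ≤ k ⁻¹ᵁ U₁)
    (h₂ : U₂' ≤ k ⁻¹ᵁ U₂) (m : Γ(G, U₁)) :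
    res ((Scheme.Modules.pullback k).obj G) hU' (unitSecFun k G h₁ m) =
      unitSecFun k G h₂ (res G hU m) := by
  have nat := hom_naturality_apply ((pullbackPushforwardAdjunction k).unit.app G) (homOfLE hU) m
  have e1 : res ((Scheme.Modules.pullback k).obj G) hU' (unitSecFun k G h₁ m) =
      ((Scheme.Modules.pullback k).obj G).presheaf.map (homOfLE (hU'.trans h₁)).op
        (((pullbackPushforwardAdjunction k).unit.app G).app U₁ m) :=
    presheaf_map_map _ _ _ _ _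
  have e2 : unitSecFun k G h₂ (res G hU m) =
      ((Scheme.Modules.pullback k).obj G).presheaf.map (homOfLE h₂).op
        (((Scheme.Modules.pullback k).obj G).presheaf.map
          ((Opens.map k.base).map (homOfLE hU)).op
          (((pullbackPushforwardAdjunction k).unit.app G).app U₁ m)) := by
    unfold unitSecFun
    exact congrArg _ nat.symm
  rw [e1, e2]
  exact (presheaf_map_map _ _ _ _ _).symm

/-- the unit on sections as a `Γ(S, V)`-linear map -/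
noncomputable def θL {U : X.Opens} (hU : U ≤ f ⁻¹ᵁ V) {U' : X'.Opens} (hU' : U' ≤ f' ⁻¹ᵁ V')
    (hUU' : U' ≤ g' ⁻¹ᵁ U) :
    letI : Module Γ(S, V) (Sec f' V' ((Scheme.Modules.pullback g').obj F) U' hU') :=
      Module.compHom _ (g.appLE V V' e).hom
    Sec f V F U hU →ₗ[Γ(S, V)] Sec f' V' ((Scheme.Modules.pullback g').obj F) U' hU' :=
  letI : Module Γ(S, V) (Sec f' V' ((Scheme.Modules.pullback g').obj F) U' hU') :=
    Module.compHom _ (g.appLE V V' e).hom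
  { toFun := fun m => unitSecFun g' F hUU' m
    map_add' := fun x y => map_add (unitSec g' F hUU') x y
    map_smul' := fun a m => by
      change unitSecFun g' F hUU' ((f.appLE V U hU).hom a • (show Γ(F, U) from m)) =
        (f'.appLE V' U' hU').hom ((g.appLE V V' e).hom a) • unitSecFun g' F hUU' m
      rw [unitSecFun_smul]
      congr 1
      exact congrArg (fun t => t.hom a) (appLE_comm f g g' f' h e hU hU' hUU') }

set_option maxHeartbeats 1600000 in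
set_option backward.isDefEq.respectTransparency false in
/-- on affine pieces the unit is a base change along `Γ(S, V) → Γ(S', V')` -/
theorem isBaseChange_θL_affine [F.IsQuasicoherent] (hV : IsAffineOpen V) (hV' : IsAffineOpen V')
    {U : X.Opens} (hUa : IsAffineOpen U) (hU : U ≤ f ⁻¹ᵁ V) :
    letI : Algebra Γ(S, V) Γ(S', V') := (g.appLE V V' e).hom.toAlgebra
    letI : Module Γ(S, V) (Sec f' V' ((Scheme.Modules.pullback g').obj F)
        (g' ⁻¹ᵁ U ⊓ f' ⁻¹ᵁ V') inf_le_right) := Module.compHom _ (g.appLE V V' e).hom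
    haveI : IsScalarTower Γ(S, V) Γ(S', V') (Sec f' V' ((Scheme.Modules.pullback g').obj F)
        (g' ⁻¹ᵁ U ⊓ f' ⁻¹ᵁ V') inf_le_right) := .of_algebraMap_smul fun _ _ => rfl
    IsBaseChange Γ(S', V') (θL f g g' f' h F e hU inf_le_right inf_le_left) := by
  obtain ⟨hU'a, hPO⟩ := isAffineOpen_inf_and_isPushout h hV hV' hUa e hU
  letI algAA' : Algebra Γ(S, V) Γ(S', V') := (g.appLE V V' e).hom.toAlgebra
  letI algAB : Algebra Γ(S, V) Γ(X, U) := (f.appLE V U hU).hom.toAlgebra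
  letI algBB' : Algebra Γ(X, U) Γ(X', g' ⁻¹ᵁ U ⊓ f' ⁻¹ᵁ V') :=
    (g'.appLE U (g' ⁻¹ᵁ U ⊓ f' ⁻¹ᵁ V') inf_le_left).hom.toAlgebra
  letI algA'B' : Algebra Γ(S', V') Γ(X', g' ⁻¹ᵁ U ⊓ f' ⁻¹ᵁ V') :=
    (f'.appLE V' (g' ⁻¹ᵁ U ⊓ f' ⁻¹ᵁ V') inf_le_right).hom.toAlgebra
  letI algAB' : Algebra Γ(S, V) Γ(X', g' ⁻¹ᵁ U ⊓ f' ⁻¹ᵁ V') :=
    (g.appLE V V' e ≫ f'.appLE V' (g' ⁻¹ᵁ U ⊓ f' ⁻¹ᵁ V') inf_le_right).hom.toAlgebra
  haveI : IsScalarTower Γ(S, V) Γ(S', V') Γ(X', g' ⁻¹ᵁ U ⊓ f' ⁻¹ᵁ V') :=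
    .of_algebraMap_eq fun _ => rfl
  haveI : IsScalarTower Γ(S, V) Γ(X, U) Γ(X', g' ⁻¹ᵁ U ⊓ f' ⁻¹ᵁ V') :=
    .of_algebraMap_eq fun x => (congrArg (fun t : Γ(S, V) ⟶ Γ(X', g' ⁻¹ᵁ U ⊓ f' ⁻¹ᵁ V') => t.hom x)
      hPO.w).symm
  haveI : Algebra.IsPushout Γ(S, V) Γ(S', V') Γ(X, U) Γ(X', g' ⁻¹ᵁ U ⊓ f' ⁻¹ᵁ V') :=
    CommRingCat.isPushout_iff_isPushout.mp hPO.flip
  -- modules
  letI modAM : Module Γ(S, V) Γ(F, U) := Module.compHom _ (f.appLE V U hU).hom
  haveI : IsScalarTower Γ(S, V) Γ(X, U) Γ(F, U) := .of_algebraMap_smul fun _ _ => rfl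
  letI modBN : Module Γ(X, U) Γ((Scheme.Modules.pullback g').obj F, g' ⁻¹ᵁ U ⊓ f' ⁻¹ᵁ V') :=
    Module.compHom _ (g'.appLE U (g' ⁻¹ᵁ U ⊓ f' ⁻¹ᵁ V') inf_le_left).hom
  haveI : IsScalarTower Γ(X, U) Γ(X', g' ⁻¹ᵁ U ⊓ f' ⁻¹ᵁ V')
      Γ((Scheme.Modules.pullback g').obj F, g' ⁻¹ᵁ U ⊓ f' ⁻¹ᵁ V') :=
    .of_algebraMap_smul fun _ _ => rfl
  letI modA'N : Module Γ(S', V') Γ((Scheme.Modules.pullback g').obj F, g' ⁻¹ᵁ U ⊓ f' ⁻¹ᵁ V') :=
    Module.compHom _ (f'.appLE V' (g' ⁻¹ᵁ U ⊓ f' ⁻¹ᵁ V') inf_le_right).hom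
  haveI : IsScalarTower Γ(S', V') Γ(X', g' ⁻¹ᵁ U ⊓ f' ⁻¹ᵁ V')
      Γ((Scheme.Modules.pullback g').obj F, g' ⁻¹ᵁ U ⊓ f' ⁻¹ᵁ V') :=
    .of_algebraMap_smul fun _ _ => rfl
  letI modAN : Module Γ(S, V) Γ((Scheme.Modules.pullback g').obj F, g' ⁻¹ᵁ U ⊓ f' ⁻¹ᵁ V') :=
    Module.compHom _ (g.appLE V V' e).hom
  haveI : IsScalarTower Γ(S, V) Γ(S', V')
      Γ((Scheme.Modules.pullback g').obj F, g' ⁻¹ᵁ U ⊓ f' ⁻¹ᵁ V') :=
    .of_algebraMap_smul fun _ _ => rfl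
  have h₂ := isBaseChange_unitSec g' F hU'a hUa inf_le_left
  exact Groth.Agent.Lib.FlatBaseChangeAlg.isBaseChange_of_isPushout (A := Γ(S, V))
    (A' := Γ(S', V')) (B := Γ(X, U)) (B' := Γ(X', g' ⁻¹ᵁ U ⊓ f' ⁻¹ᵁ V')) (M := Γ(F, U))
    (N := Γ((Scheme.Modules.pullback g').obj F, g' ⁻¹ᵁ U ⊓ f' ⁻¹ᵁ V'))
    (unitSec g' F inf_le_left) h₂ (θL f g g' f' h F e hU inf_le_right inf_le_left) (fun m => rfl)

set_option maxHeartbeats 3200000 in
set_option backward.isDefEq.respectTransparency false in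
/-- **Flat base change for sections over a qcqs preimage**: for `f` qcqs, `g` flat, `F` quasi-coherent and
`V' ≤ g⁻¹V` affine, the unit `Γ(F, f⁻¹V) → Γ(g'^*F, f'⁻¹V')` is a base change along `Γ(S, V) → Γ(S', V')`. -/
theorem isBaseChange_θL_preimage [QuasiCompact f] [QuasiSeparated f] [Flat g] [F.IsQuasicoherent]
    (hV : IsAffineOpen V) (hV' : IsAffineOpen V') :
    letI : Algebra Γ(S, V) Γ(S', V') := (g.appLE V V' e).hom.toAlgebra
    letI : Module Γ(S, V) (Sec f' V' ((Scheme.Modules.pullback g').obj F)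
        (f' ⁻¹ᵁ V') le_rfl) := Module.compHom _ (g.appLE V V' e).hom
    haveI : IsScalarTower Γ(S, V) Γ(S', V') (Sec f' V' ((Scheme.Modules.pullback g').obj F)
        (f' ⁻¹ᵁ V') le_rfl) := .of_algebraMap_smul fun _ _ => rfl
    IsBaseChange Γ(S', V') (θL f g g' f' h F e le_rfl le_rfl (preimage_le f g g' f' h e)) := by
  letI algAA' : Algebra Γ(S, V) Γ(S', V') := (g.appLE V V' e).hom.toAlgebra
  letI modA : ∀ (U' : X'.Opens) (hU' : U' ≤ f' ⁻¹ᵁ V'),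
      Module Γ(S, V) (Sec f' V' ((Scheme.Modules.pullback g').obj F) U' hU') :=
    fun U' hU' => Module.compHom _ (g.appLE V V' e).hom
  haveI towA : ∀ (U' : X'.Opens) (hU' : U' ≤ f' ⁻¹ᵁ V'),
      IsScalarTower Γ(S, V) Γ(S', V') (Sec f' V' ((Scheme.Modules.pullback g').obj F) U' hU') :=
    fun U' hU' => .of_algebraMap_smul fun _ _ => rfl
  haveI hflat : Module.Flat Γ(S, V) Γ(S', V') :=
    HasRingHomProperty.appLE (P := @Flat) (f := g) inferInstance ⟨V, hV⟩ ⟨V', hV'⟩ e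
  -- the finite affine cover of `W = f⁻¹V`
  have hWc : IsCompact (f ⁻¹ᵁ V : Set X) := f.isCompact_preimage hV.isCompact
  have hWqs : IsQuasiSeparated (f ⁻¹ᵁ V : Set X) := f.isQuasiSeparated_preimage hV.isQuasiSeparated
  obtain ⟨s, hsfin, hs⟩ := (isCompact_iff_finite_and_eq_biUnion_affineOpens (U := f ⁻¹ᵁ V)).mp hWc
  haveI : Finite s := hsfin.to_subtype
  let U : s → X.Opens := fun i => i.1.1
  have hUa : ∀ i, IsAffineOpen (U i) := fun i => i.1.2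
  have hUW : ∀ i, U i ≤ f ⁻¹ᵁ V := fun i => by
    rw [hs]; exact le_iSup₂ (f := fun (j : X.affineOpens) (_ : j ∈ s) => (j : X.Opens)) i.1 i.2
  have hcov : f ⁻¹ᵁ V ≤ ⨆ i, U i := by
    conv_lhs => rw [hs]
    exact iSup₂_le fun j hj => le_iSup U ⟨j, hj⟩
  have hpair : ∀ p : s × s, ∃ t : Set X.affineOpens, t.Finite ∧
      U p.1 ⊓ U p.2 = ⨆ k ∈ t, (k : X.Opens) := by
    intro p
    apply (isCompact_iff_finite_and_eq_biUnion_affineOpens (U := U p.1 ⊓ U p.2)).mp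
    exact hWqs (U p.1) (U p.2) (hUW p.1) (U p.1).isOpen (hUa p.1).isCompact
      (hUW p.2) (U p.2).isOpen (hUa p.2).isCompact
  choose t htfin ht using hpair
  haveI : ∀ p, Finite (t p) := fun p => (htfin p).to_subtype
  let L := Σ p : s × s, t p
  let T : L → X.Opens := fun l => l.2.1.1
  let a : L → s := fun l => l.1.1
  let b : L → s := fun l => l.1.2
  have hTa_ : ∀ l : L, T l ≤ U (a l) ⊓ U (b l) := fun l => by
    change T l ≤ U l.1.1 ⊓ U l.1.2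
    rw [ht l.1]
    exact le_iSup₂ (f := fun (j : X.affineOpens) (_ : j ∈ t l.1) => (j : X.Opens)) l.2.1 l.2.2
  have hTa : ∀ l, T l ≤ U (a l) := fun l => (hTa_ l).trans inf_le_left
  have hTb : ∀ l, T l ≤ U (b l) := fun l => (hTa_ l).trans inf_le_right
  have hTaff : ∀ l, IsAffineOpen (T l) := fun l => l.2.1.2
  have hT : ∀ i j, U i ⊓ U j ≤ ⨆ (l : {l // a l = i ∧ b l = j}), T l.1 := by
    intro i j
    rw [ht (i, j)]
    exact iSup₂_le fun k hk =>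
      le_iSup (fun l : {l // a l = i ∧ b l = j} => T l.1) ⟨⟨(i, j), ⟨k, hk⟩⟩, rfl, rfl⟩
  -- the `X'`-side
  let U' : s → X'.Opens := fun i => g' ⁻¹ᵁ (U i) ⊓ f' ⁻¹ᵁ V'
  let T' : L → X'.Opens := fun l => g' ⁻¹ᵁ (T l) ⊓ f' ⁻¹ᵁ V'
  have hUW' : ∀ i, U' i ≤ f' ⁻¹ᵁ V' := fun i => inf_le_right
  have hTa' : ∀ l, T' l ≤ U' (a l) := fun l x hx => ⟨hTa l hx.1, hx.2⟩
  have hTb' : ∀ l, T' l ≤ U' (b l) := fun l x hx => ⟨hTb l hx.1, hx.2⟩
  have hWW' := preimage_le f g g' f' h e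
  have hcov' : f' ⁻¹ᵁ V' ≤ ⨆ i, U' i := by
    intro x hx
    obtain ⟨i, hi⟩ := Opens.mem_iSup.mp (hcov (hWW' hx))
    exact Opens.mem_iSup.mpr ⟨i, hi, hx⟩
  have hT' : ∀ i j, U' i ⊓ U' j ≤ ⨆ (l : {l // a l = i ∧ b l = j}), T' l.1 := by
    intro i j x hx
    obtain ⟨l, hl⟩ := Opens.mem_iSup.mp (hT i j ⟨hx.1.1, hx.2.1⟩)
    exact Opens.mem_iSup.mpr ⟨l, hl, hx.1.2⟩
  -- assemble
  let θP : (∀ i, Sec f V F (U i) ((hUW i).trans le_rfl)) →ₗ[Γ(S, V)]
      ∀ i, Sec f' V' ((Scheme.Modules.pullback g').obj F) (U' i) ((hUW' i).trans le_rfl) :=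
    LinearMap.pi fun i => (θL f g g' f' h F e ((hUW i).trans le_rfl) ((hUW' i).trans le_rfl)
      inf_le_left) ∘ₗ LinearMap.proj i
  let θQ : (∀ l, Sec f V F (T l) (((hTa l).trans (hUW _)).trans le_rfl)) →ₗ[Γ(S, V)]
      ∀ l, Sec f' V' ((Scheme.Modules.pullback g').obj F) (T' l)
        (((hTa' l).trans (hUW' _)).trans le_rfl) :=
    LinearMap.pi fun l => (θL f g g' f' h F e (((hTa l).trans (hUW _)).trans le_rfl)
      (((hTa' l).trans (hUW' _)).trans le_rfl) inf_le_left) ∘ₗ LinearMap.proj l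
  have hP : IsBaseChange Γ(S', V') θP :=
    IsBaseChange.pi _ fun i => isBaseChange_θL_affine f g g' f' h F e hV hV' (hUa i) _
  have hQ : IsBaseChange Γ(S', V') θQ :=
    IsBaseChange.pi _ fun l => isBaseChange_θL_affine f g g' f' h F e hV hV' (hTaff l) _
  refine Groth.Agent.Lib.FlatBaseChangeAlg.isBaseChange_of_exact
    (ιL f V F (f ⁻¹ᵁ V) le_rfl U hUW) (dL f V F (f ⁻¹ᵁ V) le_rfl U hUW T a b hTa hTb)
    (ιL_injective f V F _ le_rfl U hUW hcov) (exact_ιL_dL f V F _ le_rfl U hUW T a b hTa hTb hcov hT)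
    (ιL f' V' ((Scheme.Modules.pullback g').obj F) (f' ⁻¹ᵁ V') le_rfl U' hUW')
    (dL f' V' ((Scheme.Modules.pullback g').obj F) (f' ⁻¹ᵁ V') le_rfl U' hUW' T' a b hTa' hTb')
    (ιL_injective f' V' _ _ le_rfl U' hUW' hcov')
    (exact_ιL_dL f' V' _ _ le_rfl U' hUW' T' a b hTa' hTb' hcov' hT')
    _ θP θQ ?_ ?_ hP hQ
  · intro m
    funext i
    exact unitSecFun_res g' F (hUW i) (hUW' i) hWW' inf_le_left m
  · intro p
    funext l
    have e1 := unitSecFun_res g' F (hTa l) (hTa' l) (inf_le_left : U' (a l) ≤ g' ⁻¹ᵁ U (a l))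
      (inf_le_left : T' l ≤ g' ⁻¹ᵁ T l) (p (a l))
    have e2 := unitSecFun_res g' F (hTb l) (hTb' l) (inf_le_left : U' (b l) ≤ g' ⁻¹ᵁ U (b l))
      (inf_le_left : T' l ≤ g' ⁻¹ᵁ T l) (p (b l))
    have e3 : unitSecFun g' F (inf_le_left : T' l ≤ g' ⁻¹ᵁ T l)
        (res F (hTa l) (p (a l)) - res F (hTb l) (p (b l))) =
        unitSecFun g' F (inf_le_left : T' l ≤ g' ⁻¹ᵁ T l) (res F (hTa l) (p (a l))) -
          unitSecFun g' F (inf_le_left : T' l ≤ g' ⁻¹ᵁ T l) (res F (hTb l) (p (b l))) :=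
      map_sub (unitSec g' F (inf_le_left : T' l ≤ g' ⁻¹ᵁ T l)) _ _
    exact (congrArg₂ (· - ·) e1 e2).trans e3.symm

include e in
set_option maxHeartbeats 1600000 in
set_option backward.isDefEq.respectTransparency false in
/-- the base change map is bijective on sections over an affine open `V'` of `S'` mapping into an affine
open `V` of `S` (`f` qcqs, `g` flat) -/
theorem bijective_uMap_app_of_flat [QuasiCompact f] [QuasiSeparated f] [Flat g] [F.IsQuasicoherent]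
    (hV : IsAffineOpen V) (hV' : IsAffineOpen V') :
    Function.Bijective ((uMap f g g' f' h F).app V') := by
  haveI : ((pushforward f).obj F).IsQuasicoherent :=
    Groth.Agent.Lib.H90OXModQcqs.isQuasicoherent_pushforward_of_qcqs f F
  letI algAA' : Algebra Γ(S, V) Γ(S', V') := (g.appLE V V' e).hom.toAlgebra
  letI modAN₁ : Module Γ(S, V) Γ((Scheme.Modules.pullback g).obj ((pushforward f).obj F), V') :=
    Module.compHom _ (g.appLE V V' e).hom
  haveI : IsScalarTower Γ(S, V) Γ(S', V')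
      Γ((Scheme.Modules.pullback g).obj ((pushforward f).obj F), V') :=
    .of_algebraMap_smul fun _ _ => rfl
  letI modAN₂ : Module Γ(S, V) (Sec f' V' ((Scheme.Modules.pullback g').obj F)
      (f' ⁻¹ᵁ V') le_rfl) := Module.compHom _ (g.appLE V V' e).hom
  haveI : IsScalarTower Γ(S, V) Γ(S', V') (Sec f' V' ((Scheme.Modules.pullback g').obj F)
      (f' ⁻¹ᵁ V') le_rfl) := .of_algebraMap_smul fun _ _ => rfl
  have h₁ := isBaseChange_unitSec g ((pushforward f).obj F) hV' hV e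
  have h₂ := isBaseChange_θL_preimage f g g' f' h F e hV hV'
  let ε : Γ((pushforward f).obj F, V) ≃ₗ[Γ(S, V)] Sec f V F (f ⁻¹ᵁ V) le_rfl :=
    { toFun := fun m => m
      invFun := fun m => m
      map_add' := fun _ _ => rfl
      map_smul' := fun a m => by
        change ((f.app V).hom a • (show Γ(F, f ⁻¹ᵁ V) from m) : Γ(F, f ⁻¹ᵁ V)) =
          (f.appLE V (f ⁻¹ᵁ V) le_rfl).hom a • (show Γ(F, f ⁻¹ᵁ V) from m)
        rw [Scheme.Hom.appLE_eq_app]
      left_inv := fun _ => rfl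
      right_inv := fun _ => rfl }
  refine Groth.Agent.Lib.FlatBaseChangeAlg.bijective_of_isBaseChange_of_isBaseChange'
    (A := Γ(S, V)) (A' := Γ(S', V'))
    (unitSec g ((pushforward f).obj F) e) h₁
    (θL f g g' f' h F e le_rfl le_rfl (preimage_le f g g' f' h e)) h₂ ε
    (fun x => (uMap f g g' f' h F).app V' x) ?_ ?_ ?_
  · intro x y
    exact map_add ((uMap f g g' f' h F).app V').hom x y
  · intro r x
    have h1 := Scheme.Modules.Hom.app_smul (uMap f g g' f' h F) r x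
    refine h1.trans ?_
    change ((f'.app V').hom r • (show Γ((Scheme.Modules.pullback g').obj F, f' ⁻¹ᵁ V') from
        (uMap f g g' f' h F).app V' x) : Γ((Scheme.Modules.pullback g').obj F, f' ⁻¹ᵁ V')) =
      (f'.appLE V' (f' ⁻¹ᵁ V') le_rfl).hom r • (show Γ((Scheme.Modules.pullback g').obj F, f' ⁻¹ᵁ V')
        from (uMap f g g' f' h F).app V' x)
    rw [Scheme.Hom.appLE_eq_app]
  · intro m
    exact uMap_unitSec f g g' f' h F e m

set_option backward.isDefEq.respectTransparency false in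
/-- **Flat base change** (degree zero): the base change map `g^* f_* F ⟶ f'_* g'^* F` is an isomorphism for
`f` quasi-compact quasi-separated, `g` flat and `F` quasi-coherent. -/
theorem isIso_uMap_of_flat [QuasiCompact f] [QuasiSeparated f] [Flat g] [F.IsQuasicoherent] :
    IsIso (uMap f g g' f' h F) := by
  haveI hf'1 : QuasiCompact f' := MorphismProperty.of_isPullback h inferInstance
  haveI hf'2 : QuasiSeparated f' := MorphismProperty.of_isPullback h inferInstance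
  haveI : ((pushforward f).obj F).IsQuasicoherent :=
    Groth.Agent.Lib.H90OXModQcqs.isQuasicoherent_pushforward_of_qcqs f F
  haveI : ((Scheme.Modules.pullback g').obj F).IsQuasicoherent := inferInstance
  haveI : ((pushforward f').obj ((Scheme.Modules.pullback g').obj F)).IsQuasicoherent :=
    Groth.Agent.Lib.H90OXModQcqs.isQuasicoherent_pushforward_of_qcqs f' _
  haveI : ((Scheme.Modules.pullback g).obj ((pushforward f).obj F)).IsQuasicoherent := inferInstance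
  let ι := {p : S.Opens × S'.Opens // IsAffineOpen p.1 ∧ IsAffineOpen p.2 ∧ p.2 ≤ g ⁻¹ᵁ p.1}
  refine Groth.Agent.Lib.H90OXModAffineIso.isIso_of_bijective_app_affine_cover _
    (fun p : ι => p.1.2) ?_ (fun p => p.2.2.1)
    (fun p => bijective_uMap_app_of_flat f g g' f' h F p.2.2.2 p.2.1 p.2.2.1)
  rw [eq_top_iff]
  intro x _
  obtain ⟨_, ⟨V, hV, rfl⟩, hxV, -⟩ :=
    S.isBasis_affineOpens.exists_subset_of_mem_open (Set.mem_univ (g x)) isOpen_univ
  obtain ⟨_, ⟨V', hV', rfl⟩, hxV', hV'V⟩ :=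
    S'.isBasis_affineOpens.exists_subset_of_mem_open (show x ∈ (g ⁻¹ᵁ V : Set S') from hxV)
      (g ⁻¹ᵁ V).isOpen
  exact Opens.mem_iSup.mpr ⟨⟨(V, V'), hV, hV', hV'V⟩, hxV'⟩

end Theta

end Groth.Agent.Lib.FlatBaseChangeQcqs
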