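import Groth.Agent.Lib.H72PullbackNat
import Groth.Agent.Lib.ModStalkIso
import Mathlib.RingTheory.Flat.FaithfullyFlat.Basic
import Mathlib.RingTheory.Flat.FaithfullyFlat.Algebra
import Mathlib.RingTheory.RingHom.Flat
import Mathlib.AlgebraicGeometry.Morphisms.Flat

/-!
# helper72: pullback of morphisms of quasi-coherent modules along flat morphisms, and faithfully
flat descent of mono / epi / iso / zero

* `BCNat.*` (algebra): for base change maps `τ : M → N`, `τ' : M' → N'` along `A' → B'` and
  `u : M → M'`, `v : N → N'` with `τ' ∘ u = v ∘ τ`: `v` is injective / surjective / zero iff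
  `B' ⊗ u` is; consequences for `B'` flat / faithfully flat.
* `stalkLin_pullback_*`: pointwise statements for `stalkLin ((pullback h).map ψ) x` versus
  `stalkLin ψ (h x)`, for `ψ` a morphism of quasi-coherent modules.
* `mono_pullback_of_flat`, `epi_pullback`, and the descent statements
  `mono_of_forall_mono_pullback`, `epi_of_forall_epi_pullback`, `isIso_of_forall_isIso_pullback`,
  `eq_zero_of_forall_pullback_eq_zero` for jointly surjective flat families.
-/

set_option autoImplicit false
set_option linter.style.haveILetI false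
universe u

namespace Groth.Agent.Lib.H72PullbackDescent

open TensorProduct

namespace BCNat
variable {A' B' M M' N N' : Type*} [CommRing A'] [CommRing B'] [Algebra A' B']
  [AddCommGroup M] [Module A' M] [AddCommGroup M'] [Module A' M']
  [AddCommGroup N] [Module B' N] [Module A' N] [IsScalarTower A' B' N]
  [AddCommGroup N'] [Module B' N'] [Module A' N'] [IsScalarTower A' B' N']
  (τ : M →ₗ[A'] N) (τ' : M' →ₗ[A'] N') (hτ : IsBaseChange B' τ) (hτ' : IsBaseChange B' τ')
  (u : M →ₗ[A'] M') (v : N →ₗ[B'] N') (hnat : ∀ m, τ' (u m) = v (τ m))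

include hnat in
/-- `v` corresponds to `B' ⊗ u` under the base change equivalences. -/
theorem equiv_lTensor (z : B' ⊗[A'] M) :
    hτ'.equiv (u.lTensor B' z) = v (hτ.equiv z) := by
  induction z using TensorProduct.induction_on with
  | zero => simp
  | tmul b m =>
    rw [LinearMap.lTensor_tmul, IsBaseChange.equiv_tmul, IsBaseChange.equiv_tmul, map_smul, hnat]
  | add x y hx hy => simp only [map_add, hx, hy]

include hnat hτ hτ' in
theorem injective_iff_lTensor : Function.Injective v ↔ Function.Injective (u.lTensor B') := by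
  have e : ∀ z, hτ'.equiv (u.lTensor B' z) = v (hτ.equiv z) := equiv_lTensor τ τ' hτ hτ' u v hnat
  constructor
  · intro hv x y hxy
    apply hτ.equiv.injective
    apply hv
    rw [← e, ← e, hxy]
  · intro hu x y hxy
    obtain ⟨x, rfl⟩ := hτ.equiv.surjective x
    obtain ⟨y, rfl⟩ := hτ.equiv.surjective y
    rw [← e, ← e] at hxy
    rw [hu (hτ'.equiv.injective hxy)]

include hnat hτ hτ' in
theorem surjective_iff_lTensor : Function.Surjective v ↔ Function.Surjective (u.lTensor B') := by
  have e : ∀ z, hτ'.equiv (u.lTensor B' z) = v (hτ.equiv z) := equiv_lTensor τ τ' hτ hτ' u v hnat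
  constructor
  · intro hv y
    obtain ⟨x, hx⟩ := hv (hτ'.equiv y)
    obtain ⟨x, rfl⟩ := hτ.equiv.surjective x
    refine ⟨x, hτ'.equiv.injective ?_⟩
    rw [e, hx]
  · intro hu y
    obtain ⟨y, rfl⟩ := hτ'.equiv.surjective y
    obtain ⟨x, rfl⟩ := hu y
    exact ⟨hτ.equiv x, (e x).symm⟩

include hnat hτ hτ' in
theorem zero_iff_lTensor : v = 0 ↔ u.lTensor B' = 0 := by
  have e : ∀ z, hτ'.equiv (u.lTensor B' z) = v (hτ.equiv z) := equiv_lTensor τ τ' hτ hτ' u v hnat
  constructor
  · intro hv
    refine LinearMap.ext fun z => ?_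
    apply hτ'.equiv.injective
    rw [e, hv]
    simp
  · intro hu
    refine LinearMap.ext fun y => ?_
    obtain ⟨y, rfl⟩ := hτ.equiv.surjective y
    rw [← e, hu]
    simp

include hnat hτ hτ' in
theorem injective_of_flat [Module.Flat A' B'] (hu : Function.Injective u) : Function.Injective v :=
  (injective_iff_lTensor τ τ' hτ hτ' u v hnat).mpr
    (Module.Flat.lTensor_preserves_injective_linearMap u hu)

include hnat hτ hτ' in
theorem surjective_of_surjective (hu : Function.Surjective u) : Function.Surjective v :=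
  (surjective_iff_lTensor τ τ' hτ hτ' u v hnat).mpr (LinearMap.lTensor_surjective B' hu)

include hnat hτ hτ' in
theorem injective_iff_of_faithfullyFlat [Module.FaithfullyFlat A' B'] :
    Function.Injective v ↔ Function.Injective u :=
  (injective_iff_lTensor τ τ' hτ hτ' u v hnat).trans
    (Module.FaithfullyFlat.lTensor_injective_iff_injective A' B' u)

include hnat hτ hτ' in
theorem surjective_iff_of_faithfullyFlat [Module.FaithfullyFlat A' B'] :
    Function.Surjective v ↔ Function.Surjective u :=
  (surjective_iff_lTensor τ τ' hτ hτ' u v hnat).trans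
    (Module.FaithfullyFlat.lTensor_surjective_iff_surjective A' B' u)

include hnat hτ hτ' in
theorem zero_iff_of_faithfullyFlat [Module.FaithfullyFlat A' B'] :
    v = 0 ↔ u = 0 :=
  (zero_iff_lTensor τ τ' hτ hτ' u v hnat).trans
    (Module.FaithfullyFlat.zero_iff_lTensor_zero A' B' u).symm

include hnat hτ hτ' in
theorem zero_of_zero (hu : u = 0) : v = 0 :=
  (zero_iff_lTensor τ τ' hτ hτ' u v hnat).mpr (by rw [hu]; exact LinearMap.lTensor_zero B')

end BCNat

section Pointwise

open AlgebraicGeometry CategoryTheory TopologicalSpace Opposite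
open Groth.Agent.Lib.ModStalkLin Groth.Agent.Lib.H72PullbackNat Groth.Agent.Lib.H72PullbackQCoh

variable {X Y : Scheme.{u}}

theorem stalkLin_pullback_surjective (h : X ⟶ Y) {G G' : Y.Modules} [G.IsQuasicoherent]
    [G'.IsQuasicoherent] (ψ : G ⟶ G') (x : X)
    (hs : Function.Surjective (stalkLin ψ (h x))) :
    Function.Surjective (stalkLin ((Scheme.Modules.pullback h).map ψ) x) := by
  letI : Algebra (Y.presheaf.stalk (h x)) (X.presheaf.stalk x) := (h.stalkMap x).hom.toAlgebra
  letI : Module (Y.presheaf.stalk (h x))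
      (((Scheme.Modules.pullback h).obj G).presheaf.stalk x) :=
    Module.compHom _ (h.stalkMap x).hom
  letI : Module (Y.presheaf.stalk (h x))
      (((Scheme.Modules.pullback h).obj G').presheaf.stalk x) :=
    Module.compHom _ (h.stalkMap x).hom
  haveI : IsScalarTower (Y.presheaf.stalk (h x)) (X.presheaf.stalk x)
      (((Scheme.Modules.pullback h).obj G).presheaf.stalk x) :=
    .of_algebraMap_smul fun _ _ => rfl
  haveI : IsScalarTower (Y.presheaf.stalk (h x)) (X.presheaf.stalk x)
      (((Scheme.Modules.pullback h).obj G').presheaf.stalk x) :=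
    .of_algebraMap_smul fun _ _ => rfl
  obtain ⟨τ, τ', hτ, hτ', hnat⟩ := exists_isBaseChange_stalk_pullback_pair h ψ x
  exact BCNat.surjective_of_surjective τ τ' hτ hτ' (stalkLin ψ (h x))
    (stalkLin ((Scheme.Modules.pullback h).map ψ) x) hnat hs

theorem stalkLin_pullback_eq_zero (h : X ⟶ Y) {G G' : Y.Modules} [G.IsQuasicoherent]
    [G'.IsQuasicoherent] (ψ : G ⟶ G') (x : X)
    (hs : stalkLin ψ (h x) = 0) :
    stalkLin ((Scheme.Modules.pullback h).map ψ) x = 0 := by
  letI : Algebra (Y.presheaf.stalk (h x)) (X.presheaf.stalk x) := (h.stalkMap x).hom.toAlgebra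
  letI : Module (Y.presheaf.stalk (h x))
      (((Scheme.Modules.pullback h).obj G).presheaf.stalk x) :=
    Module.compHom _ (h.stalkMap x).hom
  letI : Module (Y.presheaf.stalk (h x))
      (((Scheme.Modules.pullback h).obj G').presheaf.stalk x) :=
    Module.compHom _ (h.stalkMap x).hom
  haveI : IsScalarTower (Y.presheaf.stalk (h x)) (X.presheaf.stalk x)
      (((Scheme.Modules.pullback h).obj G).presheaf.stalk x) :=
    .of_algebraMap_smul fun _ _ => rfl
  haveI : IsScalarTower (Y.presheaf.stalk (h x)) (X.presheaf.stalk x)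
      (((Scheme.Modules.pullback h).obj G').presheaf.stalk x) :=
    .of_algebraMap_smul fun _ _ => rfl
  obtain ⟨τ, τ', hτ, hτ', hnat⟩ := exists_isBaseChange_stalk_pullback_pair h ψ x
  exact BCNat.zero_of_zero τ τ' hτ hτ' (stalkLin ψ (h x))
    (stalkLin ((Scheme.Modules.pullback h).map ψ) x) hnat hs

theorem stalkLin_pullback_injective_of_flat (h : X ⟶ Y) {G G' : Y.Modules} [G.IsQuasicoherent]
    [G'.IsQuasicoherent] (ψ : G ⟶ G') (x : X) (hflat : (h.stalkMap x).hom.Flat)
    (hs : Function.Injective (stalkLin ψ (h x))) :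
    Function.Injective (stalkLin ((Scheme.Modules.pullback h).map ψ) x) := by
  letI : Algebra (Y.presheaf.stalk (h x)) (X.presheaf.stalk x) := (h.stalkMap x).hom.toAlgebra
  letI : Module (Y.presheaf.stalk (h x))
      (((Scheme.Modules.pullback h).obj G).presheaf.stalk x) :=
    Module.compHom _ (h.stalkMap x).hom
  letI : Module (Y.presheaf.stalk (h x))
      (((Scheme.Modules.pullback h).obj G').presheaf.stalk x) :=
    Module.compHom _ (h.stalkMap x).hom
  haveI : IsScalarTower (Y.presheaf.stalk (h x)) (X.presheaf.stalk x)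
      (((Scheme.Modules.pullback h).obj G).presheaf.stalk x) :=
    .of_algebraMap_smul fun _ _ => rfl
  haveI : IsScalarTower (Y.presheaf.stalk (h x)) (X.presheaf.stalk x)
      (((Scheme.Modules.pullback h).obj G').presheaf.stalk x) :=
    .of_algebraMap_smul fun _ _ => rfl
  haveI : Module.Flat (Y.presheaf.stalk (h x)) (X.presheaf.stalk x) := hflat
  obtain ⟨τ, τ', hτ, hτ', hnat⟩ := exists_isBaseChange_stalk_pullback_pair h ψ x
  exact BCNat.injective_of_flat τ τ' hτ hτ' (stalkLin ψ (h x))
    (stalkLin ((Scheme.Modules.pullback h).map ψ) x) hnat hs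

/-- For `h` flat at `x`: injectivity, surjectivity and vanishing of the stalk map of `h^*ψ` at `x`
are equivalent to those of the stalk map of `ψ` at `h x`. -/
theorem stalkLin_pullback_iff_of_flat (h : X ⟶ Y) {G G' : Y.Modules} [G.IsQuasicoherent]
    [G'.IsQuasicoherent] (ψ : G ⟶ G') (x : X) (hflat : (h.stalkMap x).hom.Flat) :
    (Function.Injective (stalkLin ((Scheme.Modules.pullback h).map ψ) x) ↔
      Function.Injective (stalkLin ψ (h x))) ∧
    (Function.Surjective (stalkLin ((Scheme.Modules.pullback h).map ψ) x) ↔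
      Function.Surjective (stalkLin ψ (h x))) ∧
    (stalkLin ((Scheme.Modules.pullback h).map ψ) x = 0 ↔ stalkLin ψ (h x) = 0) := by
  letI : Algebra (Y.presheaf.stalk (h x)) (X.presheaf.stalk x) := (h.stalkMap x).hom.toAlgebra
  letI : Module (Y.presheaf.stalk (h x))
      (((Scheme.Modules.pullback h).obj G).presheaf.stalk x) :=
    Module.compHom _ (h.stalkMap x).hom
  letI : Module (Y.presheaf.stalk (h x))
      (((Scheme.Modules.pullback h).obj G').presheaf.stalk x) :=
    Module.compHom _ (h.stalkMap x).hom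
  haveI : IsScalarTower (Y.presheaf.stalk (h x)) (X.presheaf.stalk x)
      (((Scheme.Modules.pullback h).obj G).presheaf.stalk x) :=
    .of_algebraMap_smul fun _ _ => rfl
  haveI : IsScalarTower (Y.presheaf.stalk (h x)) (X.presheaf.stalk x)
      (((Scheme.Modules.pullback h).obj G').presheaf.stalk x) :=
    .of_algebraMap_smul fun _ _ => rfl
  haveI : Module.Flat (Y.presheaf.stalk (h x)) (X.presheaf.stalk x) := hflat
  haveI : IsLocalHom (algebraMap (Y.presheaf.stalk (h x)) (X.presheaf.stalk x)) :=
    inferInstanceAs (IsLocalHom (h.stalkMap x).hom)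
  haveI : Module.FaithfullyFlat (Y.presheaf.stalk (h x)) (X.presheaf.stalk x) :=
    Module.FaithfullyFlat.of_flat_of_isLocalHom
  obtain ⟨τ, τ', hτ, hτ', hnat⟩ := exists_isBaseChange_stalk_pullback_pair h ψ x
  exact ⟨BCNat.injective_iff_of_faithfullyFlat τ τ' hτ hτ' (stalkLin ψ (h x))
      (stalkLin ((Scheme.Modules.pullback h).map ψ) x) hnat,
    BCNat.surjective_iff_of_faithfullyFlat τ τ' hτ hτ' (stalkLin ψ (h x))
      (stalkLin ((Scheme.Modules.pullback h).map ψ) x) hnat,
    BCNat.zero_iff_of_faithfullyFlat τ τ' hτ hτ' (stalkLin ψ (h x))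
      (stalkLin ((Scheme.Modules.pullback h).map ψ) x) hnat⟩

end Pointwise

section Global

open AlgebraicGeometry CategoryTheory TopologicalSpace Opposite
open Groth.Agent.Lib.ModStalkLin Groth.Agent.Lib.H72PullbackNat Groth.Agent.Lib.H72PullbackQCoh
  Groth.Agent.Lib.ModStalkIso

variable {X Y : Scheme.{u}}

/-- A morphism of modules all of whose stalk maps vanish is zero. -/
theorem eq_zero_of_stalkLin_eq_zero {M N : X.Modules} (φ : M ⟶ N)
    (h : ∀ x : X, stalkLin φ x = 0) : φ = 0 := by
  ext U s
  refine TopCat.Presheaf.section_ext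
    ((Groth.Agent.Lib.ModStalk.toSheafAb X).obj N) U _ _ (fun x hx => ?_)
  have h1 := stalkLin_germ φ x U hx s
  rw [h x] at h1
  refine h1.symm.trans ?_
  change (0 : N.presheaf.stalk x) = N.presheaf.germ U x hx ((0 : M ⟶ N).app U s)
  have h0 : (0 : M ⟶ N).app U s = 0 := rfl
  rw [h0, map_zero]

theorem mono_iff_stalkLin_injective {M N : X.Modules} (φ : M ⟶ N) :
    Mono φ ↔ ∀ x : X, Function.Injective (stalkLin φ x) :=
  mono_iff_stalk_injective φ

theorem epi_iff_stalkLin_surjective {M N : X.Modules} (φ : M ⟶ N) :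
    Epi φ ↔ ∀ x : X, Function.Surjective (stalkLin φ x) :=
  epi_iff_stalk_surjective φ

theorem isIso_iff_stalkLin_bijective {M N : X.Modules} (φ : M ⟶ N) :
    IsIso φ ↔ ∀ x : X, Function.Bijective (stalkLin φ x) :=
  isIso_iff_stalk_bijective φ

theorem eq_zero_iff_stalkLin_eq_zero {M N : X.Modules} (φ : M ⟶ N) :
    φ = 0 ↔ ∀ x : X, stalkLin φ x = 0 := by
  refine ⟨fun h x => ?_, eq_zero_of_stalkLin_eq_zero φ⟩
  subst h
  refine LinearMap.ext fun m => ?_
  change (Groth.Agent.Lib.ModStalk.stalkFunctor x).map (0 : M ⟶ N) m = 0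
  rw [Functor.map_zero]
  rfl

/-- Pullback along a flat morphism preserves monomorphisms of quasi-coherent modules. -/
theorem mono_pullback_of_flat (h : X ⟶ Y) [Flat h] {G G' : Y.Modules} [G.IsQuasicoherent]
    [G'.IsQuasicoherent] (ψ : G ⟶ G') [Mono ψ] : Mono ((Scheme.Modules.pullback h).map ψ) := by
  rw [mono_iff_stalkLin_injective]
  intro x
  exact stalkLin_pullback_injective_of_flat h ψ x (Flat.stalkMap h x)
    (stalkLin_injective_of_mono ψ (h x))

/-- Pullback preserves epimorphisms of quasi-coherent modules. -/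
theorem epi_pullback (h : X ⟶ Y) {G G' : Y.Modules} [G.IsQuasicoherent]
    [G'.IsQuasicoherent] (ψ : G ⟶ G') [Epi ψ] : Epi ((Scheme.Modules.pullback h).map ψ) := by
  rw [epi_iff_stalkLin_surjective]
  intro x
  exact stalkLin_pullback_surjective h ψ x (stalkLin_surjective_of_epi ψ (h x))

section Family

variable {ι : Type*} {Z : ι → Scheme.{u}} (p : ∀ i, Z i ⟶ Y) (hflat : ∀ i, Flat (p i))
  (hsurj : ∀ y : Y, ∃ i, ∃ z : Z i, p i z = y)
  {G G' : Y.Modules} [G.IsQuasicoherent] [G'.IsQuasicoherent] (ψ : G ⟶ G')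

include hflat hsurj in
/-- Faithfully flat descent of monomorphisms of quasi-coherent modules. -/
theorem mono_of_forall_mono_pullback
    (hm : ∀ i, Mono ((Scheme.Modules.pullback (p i)).map ψ)) : Mono ψ := by
  rw [mono_iff_stalkLin_injective]
  intro y
  obtain ⟨i, z, rfl⟩ := hsurj y
  haveI := hflat i
  haveI := hm i
  exact (stalkLin_pullback_iff_of_flat (p i) ψ z (Flat.stalkMap (p i) z)).1.mp
    (stalkLin_injective_of_mono _ z)

include hflat hsurj in
/-- Faithfully flat descent of epimorphisms of quasi-coherent modules. -/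
theorem epi_of_forall_epi_pullback
    (hm : ∀ i, Epi ((Scheme.Modules.pullback (p i)).map ψ)) : Epi ψ := by
  rw [epi_iff_stalkLin_surjective]
  intro y
  obtain ⟨i, z, rfl⟩ := hsurj y
  haveI := hflat i
  haveI := hm i
  exact (stalkLin_pullback_iff_of_flat (p i) ψ z (Flat.stalkMap (p i) z)).2.1.mp
    (stalkLin_surjective_of_epi _ z)

include hflat hsurj in
/-- Faithfully flat descent of isomorphisms of quasi-coherent modules. -/
theorem isIso_of_forall_isIso_pullback
    (hm : ∀ i, IsIso ((Scheme.Modules.pullback (p i)).map ψ)) : IsIso ψ := by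
  haveI := mono_of_forall_mono_pullback p hflat hsurj ψ (fun i => by haveI := hm i; infer_instance)
  haveI := epi_of_forall_epi_pullback p hflat hsurj ψ (fun i => by haveI := hm i; infer_instance)
  exact isIso_of_mono_of_epi ψ

include hflat hsurj in
/-- Faithfully flat descent of vanishing of morphisms of quasi-coherent modules. -/
theorem eq_zero_of_forall_pullback_eq_zero
    (hm : ∀ i, (Scheme.Modules.pullback (p i)).map ψ = 0) : ψ = 0 := by
  rw [eq_zero_iff_stalkLin_eq_zero]
  intro y
  obtain ⟨i, z, rfl⟩ := hsurj y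
  haveI := hflat i
  exact (stalkLin_pullback_iff_of_flat (p i) ψ z (Flat.stalkMap (p i) z)).2.2.mp
    ((eq_zero_iff_stalkLin_eq_zero _).mp (hm i) z)

end Family

end Global

end Groth.Agent.Lib.H72PullbackDescent
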