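import Groth.Agent.Lib.H78AmpleOps
import Groth.Agent.Lib.H78QAffine
import Mathlib.Topology.Constructible

set_option autoImplicit false
universe u
open CategoryTheory CategoryTheory.Limits AlgebraicGeometry MonoidalCategory Opposite TopologicalSpace
open Groth.Agent.Lib.H90Invertible Groth.Agent.Lib.StructureModule Groth.Agent.Lib.H78TensorGen
open Groth.Agent.Lib.H78SecCoord Groth.Agent.Lib.H78Atlas Groth.Agent.Lib.H78AtlasOps
open Groth.Agent.Lib.H78Restrict Groth.Agent.Lib.H78AmpleBasis Groth.Agent.Lib.H78QAffine Groth.Agent.Lib.H78KeyLemma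

namespace Groth.Agent.Lib.H78AmpleLocal

variable {X : Scheme.{u}}

lemma co_smul {P : X.Modules} {ι : Type*} {V : ι → X.Opens} (A : Atlas P V) (u : Γ(X, ⊤)) (σ : Γ(P, ⊤)) (i : ι) :
    A.co (u • σ) i = rf le_top u * A.co σ i := by
  symm
  apply A.co_unique
  rw [mul_smul, A.co_spec, rs_smul]

/-- multiplying a section by a global unit does not change its generating locus -/
theorem genLocus_smul_unit {P : X.Modules} (hP : PicF.IsInvertible P) {u : Γ(X, ⊤)} (hu : IsUnit u)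
    (σ : Γ(P, ⊤)) : CohB1.genLocus P (ofSection (u • σ)) = CohB1.genLocus P (ofSection σ) := by
  obtain ⟨V, hxV, -, ⟨A⟩⟩ := exists_atlas hP
  refine opens_eq_of_cover (iSup_eq_top_of_mem hxV) (fun i => ?_)
  rw [A.genLocus_inf, A.genLocus_inf, co_smul, Scheme.basicOpen_mul,
    Scheme.basicOpen_of_isUnit _ (hu.map (X.presheaf.map (homOfLE (le_top : V i ≤ ⊤)).op).hom), inf_eq_right]
  exact X.basicOpen_le _

/-- **gluing ampleness over basic opens** -/
theorem isAmple_of_basicOpen_cover [CompactSpace X] {L : X.Modules} (hL : PicF.IsInvertible L)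
    {κ : Type*} (φ : κ → Γ(X, ⊤)) (hcov : ∀ x : X, ∃ k, x ∈ X.basicOpen (φ k))
    (h : ∀ k, CohB1.IsAmple (L.restrict (X.basicOpen (φ k)).ι)) : CohB1.IsAmple L := by
  -- `X` is quasi-separated
  haveI : QuasiSeparatedSpace X := by
    refine QuasiSeparatedSpace.of_isOpenCover (U := fun k => X.basicOpen (φ k)) ?_
      (fun _ => isRetrocompact_basicOpen _) (fun k => ?_)
    · exact top_le_iff.1 (fun x _ => by
        obtain ⟨k, hk⟩ := hcov x
        exact Opens.mem_iSup.2 ⟨k, hk⟩)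
    · exact (isQuasiSeparated_iff_quasiSeparatedSpace _ (X.basicOpen (φ k)).2).2
        (quasiSeparatedSpace_of_isAmple (h k))
  refine ⟨hL, inferInstance, fun x => ?_⟩
  obtain ⟨k, hxk⟩ := hcov x
  obtain ⟨n, s', hx', haff'⟩ := (h k).2.2 ⟨x, hxk⟩
  have hP : PicF.IsInvertible (CohB1.tensorPow L (n + 1)) := isInvertible_tensorPow hL (n + 1)
  have hP' : PicF.IsInvertible ((CohB1.tensorPow L (n + 1)).restrict (X.basicOpen (φ k)).ι) :=
    isInvertible_restrict _ hP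
  -- the section on `U = X_φ` as a section of the restriction of `L^(n+1)`
  obtain ⟨s'', hs''def⟩ : ∃ s'' : Coh.structureModule (X.basicOpen (φ k) : Scheme.{u}) ⟶
      (CohB1.tensorPow L (n + 1)).restrict (X.basicOpen (φ k)).ι,
      s'' = s' ≫ (restrictTensorPowIso (X.basicOpen (φ k)).ι L (n + 1)).inv := ⟨_, rfl⟩
  have hs'' : CohB1.genLocus _ s'' = CohB1.genLocus _ s' := by
    rw [hs''def]
    exact H78AmpleUnit.genLocus_comp_iso s' (restrictTensorPowIso (X.basicOpen (φ k)).ι L (n + 1)).symm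
  have hUtop : (X.basicOpen (φ k)).ι ''ᵁ ⊤ = X.basicOpen (φ k) := (X.basicOpen (φ k)).ι_image_top
  obtain ⟨τ, hτ⟩ : ∃ τ : Γ(CohB1.tensorPow L (n + 1), (X.basicOpen (φ k)).ι ''ᵁ ⊤), τ = sec s'' := ⟨_, rfl⟩
  haveI : (CohB1.tensorPow L (n + 1)).IsQuasicoherent := isQCoh_of_isInvertible hP
  obtain ⟨N, t, ht⟩ := Groth.Agent.Lib.H90OXModQcqs.exists_pow_smul_eq_res_of_qcqs (CohB1.tensorPow L (n + 1))
    (U := ⊤) (by simpa using isCompact_univ) (by simpa using isQuasiSeparated_univ) (φ k)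
    (rs _ (le_of_eq hUtop.symm) τ)
  have ht' : rs (CohB1.tensorPow L (n + 1)) (X.basicOpen_le (φ k)) t =
      rf (X.basicOpen_le (φ k)) (φ k) ^ N • rs _ (le_of_eq hUtop.symm) τ := ht.symm
  -- the global section
  have hle : CohB1.genLocus _ (ofSection (φ k • t)) ≤ X.basicOpen (φ k) := by
    intro y hy
    obtain ⟨W, hyW, hW⟩ := (mem_genLocus_iff _ y).1 hy
    rw [sec_ofSection, rs_smul] at hW
    exact (isUnit_map_iff le_top (φ k)).1 (isUnit_of_isGen_smul hW) hyW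
  -- the unit
  have hau : IsUnit (rf (le_top : (X.basicOpen (φ k)).ι ''ᵁ ⊤ ≤ ⊤) (φ k)) :=
    (isUnit_map_iff le_top (φ k)).2 (le_of_eq hUtop)
  obtain ⟨u, hu⟩ : ∃ u : Γ((X.basicOpen (φ k) : Scheme.{u}), ⊤),
      u = ((X.basicOpen (φ k)).ι.appIso ⊤).hom
        (rf (le_top : (X.basicOpen (φ k)).ι ''ᵁ ⊤ ≤ ⊤) (φ k) ^ (N + 1)) := ⟨_, rfl⟩
  have huu : IsUnit u := by
    rw [hu]
    exact (hau.pow (N + 1)).map ((X.basicOpen (φ k)).ι.appIso ⊤).hom.hom
  have key : sec (restrictSec (X.basicOpen (φ k)).ι (ofSection (φ k • t))) = u • sec s'' := by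
    have h1 := rs_sec_restrictSec (X.basicOpen (φ k)).ι (ofSection (φ k • t)) ⊤
    rw [rs_self, sec_ofSection] at h1
    rw [h1, restrict_smul]
    have h2 : ((X.basicOpen (φ k)).ι.appIso ⊤).inv u =
        rf (le_top : (X.basicOpen (φ k)).ι ''ᵁ ⊤ ≤ ⊤) (φ k) ^ (N + 1) := by
      rw [hu, ← CommRingCat.comp_apply, Iso.hom_inv_id]
      rfl
    rw [h2, ← hτ]
    change rs _ _ (φ k • t) = _ • τ
    rw [rs_smul, pow_succ', mul_smul]
    congr 1
    have h3 : rs (CohB1.tensorPow L (n + 1)) (le_top : (X.basicOpen (φ k)).ι ''ᵁ ⊤ ≤ ⊤) t =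
        rs _ (le_of_eq hUtop) (rs _ (X.basicOpen_le (φ k)) t) := (rs_rs _ _ _ _).symm
    rw [h3, ht', rs_smul, rs_rs, rs_self, rf_pow, rf_rf]
  have hgl : (X.basicOpen (φ k)).ι ⁻¹ᵁ CohB1.genLocus _ (ofSection (φ k • t)) = CohB1.genLocus _ s' := by
    rw [← genLocus_restrictSec, ← hs'', ← ofSection_sec (restrictSec _ _), key, genLocus_smul_unit hP' huu,
      ofSection_sec]
  have himg : CohB1.genLocus _ (ofSection (φ k • t)) =
      (X.basicOpen (φ k)).ι ''ᵁ CohB1.genLocus _ s' := by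
    rw [← hgl, Scheme.Hom.image_preimage_eq_opensRange_inf, Scheme.Opens.opensRange_ι]
    exact (inf_eq_right.2 hle).symm
  refine ⟨n, ofSection (φ k • t), ?_, ?_⟩
  · rw [himg]
    exact ⟨⟨x, hxk⟩, hx', rfl⟩
  · rw [himg]
    exact haff'.image_of_isOpenImmersion _

end Groth.Agent.Lib.H78AmpleLocal
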