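import Groth.Agent.Lib.H78PullSec
import Groth.Agent.Lib.H78AmpleLocal
import Groth.Agent.Lib.H90InvertiblePullback

/-!
# helper78: generating locus of a pulled back section (namespace `Groth.Agent.Lib.H78PullSec`)

* `pbTop f M σ : Γ(f^*M, ⊤)` for `σ : Γ(M, ⊤)`; `pullAtlas_co`, `genLocus_pbTop`.
* `genLocus_pullback_map` (= S4413): `Z_{e ≫ u^* s} = u⁻¹(S_s)` for any iso `e : O_Z ≅ u^* O_S`.
-/

set_option autoImplicit false
universe u
open CategoryTheory CategoryTheory.Limits AlgebraicGeometry MonoidalCategory Opposite TopologicalSpace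
open Groth.Agent.Lib.H90Invertible Groth.Agent.Lib.StructureModule Groth.Agent.Lib.H78TensorGen
open Groth.Agent.Lib.H78SecCoord Groth.Agent.Lib.H78Atlas

namespace Groth.Agent.Lib.H78PullSec

variable {X Y : Scheme.{u}} (f : X ⟶ Y)

/-- pullback of a global section -/
noncomputable def pbTop (M : Y.Modules) (σ : Γ(M, ⊤)) : Γ((Scheme.Modules.pullback f).obj M, ⊤) :=
  pb f M σ

lemma pullAtlas_co {P : Y.Modules} {ι : Type*} {V : ι → Y.Opens} (A : Atlas P V) (σ : Γ(P, ⊤))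
    (i : ι) : (pullAtlas f A).co (pbTop f P σ) i = f.app (V i) (A.co σ i) := by
  symm
  refine Atlas.co_unique (pullAtlas f A) (pbTop f P σ) i ?_
  change f.app (V i) (A.co σ i) • pb f P (A.E i) = rs _ _ (pb f P σ)
  rw [← pb_smul, A.co_spec, pb_rs]

theorem genLocus_pbTop {P : Y.Modules} (hP : PicF.IsInvertible P) (σ : Γ(P, ⊤)) :
    CohB1.genLocus _ (ofSection (pbTop f P σ)) = f ⁻¹ᵁ CohB1.genLocus P (ofSection σ) := by
  obtain ⟨V, hxV, -, ⟨A⟩⟩ := exists_atlas hP
  have hV' : ⨆ i, f ⁻¹ᵁ V i = ⊤ :=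
    top_le_iff.1 (fun x _ => Opens.mem_iSup.2 ⟨f x, hxV (f x)⟩)
  apply opens_eq_of_cover hV'
  intro i
  rw [(pullAtlas f A).genLocus_inf (pbTop f P σ) i, pullAtlas_co, ← Scheme.preimage_basicOpen,
    ← A.genLocus_inf σ i]
  rfl

/-- **S4413**: the generating locus of the pullback of a section -/
theorem genLocus_pullback_map (L : Y.Modules) (hL : PicF.IsInvertible L)
    (s : Coh.structureModule Y ⟶ L)
    (e : Coh.structureModule X ≅ (Scheme.Modules.pullback f).obj (Coh.structureModule Y)) :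
    CohB1.genLocus ((Scheme.Modules.pullback f).obj L) (e.hom ≫ (Scheme.Modules.pullback f).map s) =
      f ⁻¹ᵁ CohB1.genLocus L s := by
  have hw₀ : IsGen ((Scheme.Modules.pullback f).obj (Coh.structureModule Y)) ⊤
      (pbTop f _ (toSec ⊤ 1)) := isGen_pb f (isGen_one ⊤)
  have hw : IsGen ((Scheme.Modules.pullback f).obj (Coh.structureModule Y)) ⊤
      (e.hom.app ⊤ (toSec ⊤ 1)) := (isGen_one ⊤).of_iso e
  obtain ⟨c, hc⟩ : ∃ c : Γ(X, ⊤), c • pbTop f _ (toSec ⊤ 1) = e.hom.app ⊤ (toSec ⊤ 1) := by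
    refine ⟨coord hw₀ le_rfl (e.hom.app ⊤ (toSec ⊤ 1)), ?_⟩
    have := coord_spec hw₀ le_rfl (e.hom.app ⊤ (toSec ⊤ 1))
    rwa [rs_self] at this
  have hcu : IsUnit c := by
    rw [← hc] at hw
    exact (isGen_smul_iff hw₀ c).1 hw
  have key : sec (e.hom ≫ (Scheme.Modules.pullback f).map s) = c • pbTop f L (sec s) := by
    change ((Scheme.Modules.pullback f).map s).app ⊤ (e.hom.app ⊤ (toSec ⊤ 1)) = _
    rw [← hc, Scheme.Modules.Hom.app_smul]
    congr 1
    exact pb_map f s (toSec ⊤ 1)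
  rw [← ofSection_sec (e.hom ≫ (Scheme.Modules.pullback f).map s), key,
    Groth.Agent.Lib.H78AmpleLocal.genLocus_smul_unit (isInvertible_pullback f hL) hcu, genLocus_pbTop f hL,
    ofSection_sec]

end Groth.Agent.Lib.H78PullSec
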