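import Groth.Agent.Lib.ModPullback
import Groth.Agent.Lib.H78GlobGen2
import Groth.Agent.Lib.H78PullSec2
import Groth.Agent.Lib.FlatBaseChangeQcqs
import Groth.Agent.Lib.H72PullbackDescent
import Groth.Prelude.Def_Curv2

/-!
# Global generation and faithfully flat base change (helper42)

* `isGloballyGenerated_pullback`: global generation pulls back along any morphism.
* `free_hom_ext`, `ofSection_comp`, `eq_ofSections`, `ε`, `ofSections_app_ε`: morphisms out of free modules.
* `epi_ofSections_of_mem_span`: if the sections `s k` generate `N` and lie in the `Γ(X, ⊤)`-span of the `t j`,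
  then the `t j` generate `N`.
* `pullbackObjFreeIso_inv_comp_pullback_map_ofSections`: the pullback of `ofSections F ξ` is
  `ofSections (g^*F) (pbTop g F ∘ ξ)`.
* `mem_span_pbTop`: (flat base change over an affine base) every global section of `g'^*F` is a
  `Γ(X', ⊤)`-combination of pullbacks of global sections of `F`.
* `isGloballyGenerated_of_pullback`: descent of global generation along a flat surjective base change of
  affine schemes, for `f` qcqs and `F` quasi-coherent.
-/

set_option autoImplicit false
set_option linter.style.haveILetI false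
universe u
open CategoryTheory CategoryTheory.Limits AlgebraicGeometry Opposite TopologicalSpace
open Groth.Agent.Lib.H90Invertible Groth.Agent.Lib.StructureModule
open Groth.Agent.Lib.H78SecCoord Groth.Agent.Lib.H78GlobGen2 Groth.Agent.Lib.H78PullSec

namespace Groth.Agent.Lib.GlobGenDescent

open Groth.Agent.Lib.ModPullback Groth.Agent.Lib.FlatBaseChangeQcqs Groth.Agent.Lib.AffineBaseChange
  Groth.Agent.Lib.UnitBaseChange

section General

variable {X X' : Scheme.{u}}

set_option backward.isDefEq.respectTransparency false in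
/-- global generation pulls back -/
theorem isGloballyGenerated_pullback (g : X' ⟶ X) {F : X.Modules} (h : Curv2.IsGloballyGenerated F) :
    Curv2.IsGloballyGenerated ((Scheme.Modules.pullback g).obj F) := by
  obtain ⟨I, p, hp⟩ := h
  haveI : PreservesColimitsOfSize.{u, u} (Scheme.Modules.pullback g) :=
    (Scheme.Modules.pullbackPushforwardAdjunction g).leftAdjoint_preservesColimits
  haveI : Epi ((Scheme.Modules.pullback g).map p) := inferInstance
  refine ⟨I, (SheafOfModules.pullbackObjFreeIso g.toRingCatSheafHom I).inv ≫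
    (Scheme.Modules.pullback g).map p, ?_⟩
  exact epi_comp _ _

lemma free_hom_ext {K : Type u} {N : X.Modules} (a b : freeM X K ⟶ N)
    (h : ∀ k, ιF k ≫ a = ιF k ≫ b) : a = b :=
  Cofan.IsColimit.hom_ext (SheafOfModules.isColimitFreeCofan K) _ _ h

lemma ofSection_comp {M N : X.Modules} (σ : Γ(M, ⊤)) (φ : M ⟶ N) :
    ofSection σ ≫ φ = ofSection (φ.app ⊤ σ) := by
  rw [← ofSection_sec (ofSection σ ≫ φ)]
  congr 1
  change φ.app ⊤ (sec (ofSection σ)) = _
  rw [sec_ofSection]

/-- every morphism out of a free module is given by sections -/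
lemma eq_ofSections {K : Type u} {N : X.Modules} (q : freeM X K ⟶ N) :
    q = ofSections N (fun k => sec (ιF k ≫ q)) := by
  refine free_hom_ext _ _ (fun k => ?_)
  rw [ιF_ofSections, ofSection_sec]

/-- the basis sections of a free module -/
noncomputable def ε {K : Type u} (k : K) : Γ(freeM X K, ⊤) := sec (ιF k)

lemma ofSections_app_ε (N : X.Modules) {K : Type u} (ξ : K → Γ(N, ⊤)) (k : K) :
    (ofSections N ξ).app ⊤ (ε k) = ξ k := by
  have h := congrArg sec (ιF_ofSections N ξ k)
  rw [sec_ofSection] at h
  exact h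

/-- if the sections `s k` generate `N` and lie in the span of the `t j`, then the `t j` generate `N`. -/
theorem epi_ofSections_of_mem_span (N : X.Modules) {K J : Type u} (s : K → Γ(N, ⊤)) (t : J → Γ(N, ⊤))
    [Epi (ofSections N s)] (h : ∀ k, s k ∈ Submodule.span Γ(X, ⊤) (Set.range t)) :
    Epi (ofSections N t) := by
  have h' := fun k => (Finsupp.mem_span_range_iff_exists_finsupp).1 (h k)
  choose c hc using h'
  let q : freeM X K ⟶ freeM X J := ofSections (freeM X J) (fun k => (c k).sum fun j a => a • ε j)
  have hq : q ≫ ofSections N t = ofSections N s := by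
    refine free_hom_ext _ _ (fun k => ?_)
    rw [← Category.assoc, ιF_ofSections, ιF_ofSections, ofSection_comp]
    congr 1
    rw [Finsupp.sum, map_sum]
    rw [← hc k, Finsupp.sum]
    refine Finset.sum_congr rfl (fun j _ => ?_)
    rw [Scheme.Modules.Hom.app_smul, ofSections_app_ε]
  have : Epi (q ≫ ofSections N t) := by rw [hq]; infer_instance
  exact epi_of_epi q _

/-- pullback of the morphism attached to a section -/
lemma unitIso_inv_comp_pullback_map_ofSection (g : X' ⟶ X) {F : X.Modules} (σ : Γ(F, ⊤)) :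
    (unitIso g).inv ≫ (Scheme.Modules.pullback g).map (ofSection σ) = ofSection (pbTop g F σ) := by
  rw [← ofSection_sec ((unitIso g).inv ≫ (Scheme.Modules.pullback g).map (ofSection σ))]
  congr 1
  change ((Scheme.Modules.pullback g).map (ofSection σ)).app ⊤ ((unitIso g).inv.app ⊤ (toSec ⊤ 1)) = _
  have h1 := unitIso_inv_toSec g ⊤ 1
  rw [map_one] at h1
  have h2 := pb_map g (ofSection σ) (toSec ⊤ 1)
  have h3 : (ofSection σ).app ⊤ (toSec ⊤ 1) = σ := sec_ofSection σ
  rw [h3] at h2
  exact (congrArg _ h1).trans h2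

set_option backward.isDefEq.respectTransparency false in
lemma ιF_comp_pullbackObjFreeIso_inv (g : X' ⟶ X) {J : Type u} (j : J) :
    ιF j ≫ (SheafOfModules.pullbackObjFreeIso g.toRingCatSheafHom J).inv =
      (unitIso g).inv ≫ (Scheme.Modules.pullback g).map (ιF j) := by
  rw [Iso.comp_inv_eq, Category.assoc]
  erw [SheafOfModules.pullback_map_ιFree_comp_pullbackObjFreeIso_hom]
  exact ((unitIso g).inv_hom_id_assoc _).symm

set_option backward.isDefEq.respectTransparency false in
/-- the pullback of `ofSections F ξ` is `ofSections (g^*F) (pbTop g F ∘ ξ)` -/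
theorem pullbackObjFreeIso_inv_comp_pullback_map_ofSections (g : X' ⟶ X) (F : X.Modules) {J : Type u}
    (ξ : J → Γ(F, ⊤)) :
    (SheafOfModules.pullbackObjFreeIso g.toRingCatSheafHom J).inv ≫
      (Scheme.Modules.pullback g).map (ofSections F ξ) =
      ofSections ((Scheme.Modules.pullback g).obj F) (fun j => pbTop g F (ξ j)) := by
  refine free_hom_ext _ _ (fun j => ?_)
  rw [ιF_ofSections, ← Category.assoc, ιF_comp_pullbackObjFreeIso_inv, Category.assoc,
    ← Functor.map_comp, ιF_ofSections, unitIso_inv_comp_pullback_map_ofSection]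

end General

section BaseChange

variable {X S X' S' : Scheme.{u}} (f : X ⟶ S) (g : S' ⟶ S) (g' : X' ⟶ X) (f' : X' ⟶ S')
  (h : IsPullback g' f' f g) (F : X.Modules)

include h in
set_option maxHeartbeats 1600000 in
set_option backward.isDefEq.respectTransparency false in
/-- over an affine base, flat base change: every global section of `g'^*F` is a `Γ(X', ⊤)`-combination of
pullbacks of global sections of `F` -/
theorem mem_span_pbTop [QuasiCompact f] [QuasiSeparated f] [Flat g] [F.IsQuasicoherent]
    [IsAffine S] [IsAffine S'] (z : Γ((Scheme.Modules.pullback g').obj F, ⊤)) :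
    z ∈ Submodule.span Γ(X', ⊤) (Set.range fun σ : Γ(F, ⊤) => pbTop g' F σ) := by
  have e : (⊤ : S'.Opens) ≤ g ⁻¹ᵁ (⊤ : S.Opens) := le_rfl
  have hV : IsAffineOpen (⊤ : S.Opens) := isAffineOpen_top S
  have hV' : IsAffineOpen (⊤ : S'.Opens) := isAffineOpen_top S'
  letI algAA' : Algebra Γ(S, ⊤) Γ(S', ⊤) := (g.appLE ⊤ ⊤ e).hom.toAlgebra
  letI modAN₂ : Module Γ(S, ⊤) (Sec f' ⊤ ((Scheme.Modules.pullback g').obj F)
      (f' ⁻¹ᵁ ⊤) le_rfl) := Module.compHom _ (g.appLE ⊤ ⊤ e).hom
  haveI : IsScalarTower Γ(S, ⊤) Γ(S', ⊤) (Sec f' ⊤ ((Scheme.Modules.pullback g').obj F)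
      (f' ⁻¹ᵁ ⊤) le_rfl) := .of_algebraMap_smul fun _ _ => rfl
  have h₂ := isBaseChange_θL_preimage f g g' f' h F e hV hV'
  let P : Submodule Γ(X', ⊤) Γ((Scheme.Modules.pullback g').obj F, ⊤) :=
    Submodule.span Γ(X', ⊤) (Set.range fun σ : Γ(F, ⊤) => pbTop g' F σ)
  change z ∈ P
  refine h₂.inductionOn (z : Sec f' ⊤ ((Scheme.Modules.pullback g').obj F) (f' ⁻¹ᵁ ⊤) le_rfl)
    (fun n => (show Γ((Scheme.Modules.pullback g').obj F, ⊤) from n) ∈ P) ?_ ?_ ?_ ?_
  · exact P.zero_mem
  · intro m
    refine Submodule.subset_span ⟨(show Γ(F, ⊤) from m), ?_⟩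
    change pb g' F (show Γ(F, ⊤) from m) = unitSecFun g' F (preimage_le f g g' f' h e) m
    unfold unitSecFun pb
    have hid : (homOfLE (preimage_le f g g' f' h e)).op = 𝟙 _ := Subsingleton.elim _ _
    rw [hid, CategoryTheory.Functor.map_id]
    rfl
  · intro s n hn
    exact P.smul_mem ((f'.appLE ⊤ (f' ⁻¹ᵁ ⊤) le_rfl).hom s) hn
  · intro n₁ n₂ h₁ h₂
    exact P.add_mem h₁ h₂

include h in
set_option backward.isDefEq.respectTransparency false in
/-- the canonical map from the free module on all global sections of `F` is an epimorphism as soon as the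
pullback of `F` along a flat surjective base change of affine schemes is globally generated -/
theorem epi_ofSections_id_of_pullback [QuasiCompact f] [QuasiSeparated f] [Flat g] [Surjective g]
    [F.IsQuasicoherent] [IsAffine S] [IsAffine S']
    (hG : Curv2.IsGloballyGenerated ((Scheme.Modules.pullback g').obj F)) :
    Epi (ofSections F (fun σ : Γ(F, ⊤) => σ)) := by
  obtain ⟨I, q, hq⟩ := hG
  haveI hq' : Epi (ofSections ((Scheme.Modules.pullback g').obj F) (fun k : I => sec (ιF k ≫ q))) := by
    rw [← eq_ofSections (K := I) q]; exact hq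
  haveI hE : Epi (ofSections ((Scheme.Modules.pullback g').obj F)
      (fun σ : Γ(F, ⊤) => pbTop g' F σ)) :=
    epi_ofSections_of_mem_span ((Scheme.Modules.pullback g').obj F) (fun k => sec (ιF k ≫ q))
      (fun σ : Γ(F, ⊤) => pbTop g' F σ) (fun i => mem_span_pbTop f g g' f' h F _)
  rw [← pullbackObjFreeIso_inv_comp_pullback_map_ofSections g' F (fun σ : Γ(F, ⊤) => σ)] at hE
  haveI hE' : Epi ((Scheme.Modules.pullback g').map (ofSections F (fun σ : Γ(F, ⊤) => σ))) :=
    epi_of_epi (SheafOfModules.pullbackObjFreeIso g'.toRingCatSheafHom Γ(F, ⊤)).inv _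
  haveI : Flat g' := MorphismProperty.of_isPullback h.flip inferInstance
  haveI : Surjective g' := MorphismProperty.of_isPullback h.flip inferInstance
  haveI : (freeM X Γ(F, ⊤)).IsQuasicoherent := inferInstance
  refine Groth.Agent.Lib.H72PullbackDescent.epi_of_forall_epi_pullback (ι := PUnit.{1}) (fun _ => g')
    (fun _ => inferInstance) (fun y => ?_) (ofSections F (fun σ : Γ(F, ⊤) => σ)) (fun _ => hE')
  obtain ⟨z, hz⟩ := g'.surjective y
  exact ⟨PUnit.unit, z, hz⟩

include h in
/-- descent of global generation along a flat surjective base change of affine schemes -/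
theorem isGloballyGenerated_of_pullback [QuasiCompact f] [QuasiSeparated f] [Flat g] [Surjective g]
    [F.IsQuasicoherent] [IsAffine S] [IsAffine S']
    (hG : Curv2.IsGloballyGenerated ((Scheme.Modules.pullback g').obj F)) :
    Curv2.IsGloballyGenerated F :=
  ⟨Γ(F, ⊤), ofSections F (fun σ : Γ(F, ⊤) => σ), epi_ofSections_id_of_pullback f g g' f' h F hG⟩

end BaseChange

end Groth.Agent.Lib.GlobGenDescent
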