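import Groth.Agent.Lib.Conormal81E

/-!
# The sequence `j^*N_{Y/X} → N_{Y'/X} → N_{Y'/Y} → 0` for quasi-compact immersions `Y' ⊂ Y ⊂ X` (helper81)

ring level `third_comp_eq_zero`, `third_exact_mid`, `third_surjective`; `span_unitSecFun_comp`;
`chart_third`, `exists_chart_third`, `third_sequence_exact`.
-/

set_option autoImplicit false
set_option linter.style.haveILetI false
set_option linter.unusedSectionVars false
universe u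

open CategoryTheory AlgebraicGeometry TopologicalSpace Opposite

namespace Groth.Agent.Lib.Conormal81

open Groth.Agent.Lib.OmegaDer81 Groth.Agent.Lib.QCohStalk Groth.Agent.Lib.IdealMod
  Groth.Agent.Lib.UnitBaseChange Groth.Agent.Lib.H90OXModSections

section ringThird

variable {B A₁ A : Type*} [CommRing B] [CommRing A₁] [CommRing A] [Algebra B A₁] [Algebra A₁ A]
  [Algebra B A] [IsScalarTower B A₁ A]
  {M₁ M M₂ : Type*}
  [AddCommGroup M₁] [Module A M₁] {T₁ : Type*}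
  [AddCommGroup M] [Module A M] [Module B M] [IsScalarTower B A M]
  [AddCommGroup M₂] [Module A M₂] [Module A₁ M₂] [IsScalarTower A₁ A M₂]
  (uJ₁ : T₁ → M₁) (ι₁ : T₁ → B)
  (uI : RingHom.ker (algebraMap B A) →ₗ[B] M)
  (uI₂ : RingHom.ker (algebraMap A₁ A) →ₗ[A₁] M₂)
  (φ₁ : M₁ →ₗ[A] M) (φ₂ : M →ₗ[A] M₂)

theorem third_comp_eq_zero (hJ : Submodule.span A (Set.range uJ₁) = ⊤)
    (hι₁ : ∀ t, algebraMap B A₁ (ι₁ t) = 0)
    (hφ₁ : ∀ (t : T₁) (x : RingHom.ker (algebraMap B A)), (x : B) = ι₁ t → φ₁ (uJ₁ t) = uI x)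
    (hφ₂ : ∀ (x : RingHom.ker (algebraMap B A)) (y : RingHom.ker (algebraMap A₁ A)),
      (y : A₁) = algebraMap B A₁ x → φ₂ (uI x) = uI₂ y) (m : M₁) : φ₂ (φ₁ m) = 0 := by
  have hm : m ∈ Submodule.span A (Set.range uJ₁) := by rw [hJ]; trivial
  induction hm using Submodule.span_induction with
  | mem x hx =>
    obtain ⟨t, rfl⟩ := hx
    have hx : ι₁ t ∈ RingHom.ker (algebraMap B A) := by
      rw [RingHom.mem_ker, IsScalarTower.algebraMap_apply B A₁ A, hι₁, map_zero]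
    rw [hφ₁ t ⟨_, hx⟩ rfl, hφ₂ ⟨_, hx⟩ 0 (by simp [hι₁]), map_zero]
  | zero => rw [map_zero, map_zero]
  | add n₁ n₂ _ _ h₁ h₂ => rw [map_add, map_add, h₁, h₂, add_zero]
  | smul a n _ hn => rw [map_smul, map_smul, hn, smul_zero]

theorem third_surjective (hBA₁ : Function.Surjective (algebraMap B A₁))
    (hI₂ : IsBaseChange A uI₂)
    (hφ₂ : ∀ (x : RingHom.ker (algebraMap B A)) (y : RingHom.ker (algebraMap A₁ A)),
      (y : A₁) = algebraMap B A₁ x → φ₂ (uI x) = uI₂ y) : Function.Surjective φ₂ := by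
  intro t
  refine hI₂.inductionOn t (fun t => t ∈ LinearMap.range φ₂) (Submodule.zero_mem _) ?_
    (fun a n hn => Submodule.smul_mem _ a hn) (fun n₁ n₂ h₁ h₂ => Submodule.add_mem _ h₁ h₂)
  intro y
  obtain ⟨b, hb⟩ := hBA₁ y
  have hx : b ∈ RingHom.ker (algebraMap B A) := by
    rw [RingHom.mem_ker, IsScalarTower.algebraMap_apply B A₁ A, hb]; exact y.2
  exact ⟨uI ⟨b, hx⟩, hφ₂ ⟨b, hx⟩ y hb.symm⟩

theorem third_exact_mid (hBA₁ : Function.Surjective (algebraMap B A₁))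
    (hI : IsBaseChange A uI) (hI₂ : IsBaseChange A uI₂)
    (hι₁' : ∀ b, algebraMap B A₁ b = 0 → ∃ t, ι₁ t = b)
    (hφ₁ : ∀ (t : T₁) (x : RingHom.ker (algebraMap B A)), (x : B) = ι₁ t → φ₁ (uJ₁ t) = uI x)
    (hφ₂ : ∀ (x : RingHom.ker (algebraMap B A)) (y : RingHom.ker (algebraMap A₁ A)),
      (y : A₁) = algebraMap B A₁ x → φ₂ (uI x) = uI₂ y) (t : M) (ht : φ₂ t = 0) :
    ∃ m, φ₁ m = t := by
  let Q := M ⧸ LinearMap.range φ₁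
  let π : M →ₗ[A] Q := (LinearMap.range φ₁).mkQ
  letI : Module A₁ Q := Module.compHom Q (algebraMap A₁ A)
  haveI : IsScalarTower A₁ A Q := IsScalarTower.of_algebraMap_smul fun _ _ => rfl
  haveI : IsScalarTower B A Q := inferInstance
  let w : RingHom.ker (algebraMap B A) →ₗ[B] Q := (π.restrictScalars B) ∘ₗ uI
  have hkill : ∀ x : RingHom.ker (algebraMap B A), algebraMap B A₁ x = 0 → w x = 0 := by
    intro x hx
    obtain ⟨t', ht'⟩ := hι₁' x hx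
    have : uI x ∈ LinearMap.range φ₁ := ⟨uJ₁ t', hφ₁ t' x ht'.symm⟩
    exact (Submodule.Quotient.mk_eq_zero _).mpr this
  have hmem : ∀ (y : RingHom.ker (algebraMap A₁ A)) (b : B), algebraMap B A₁ b = y →
      b ∈ RingHom.ker (algebraMap B A) := by
    intro y b hb
    rw [RingHom.mem_ker, IsScalarTower.algebraMap_apply B A₁ A, hb]; exact y.2
  choose bb hbb using hBA₁
  let lamf : RingHom.ker (algebraMap A₁ A) → Q := fun y => w ⟨bb y, hmem y _ (hbb y)⟩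
  have lam_eq : ∀ (y : RingHom.ker (algebraMap A₁ A)) (b : B) (hb : algebraMap B A₁ b = y),
      lamf y = w ⟨b, hmem y b hb⟩ := by
    intro y b hb
    change w _ = w _
    rw [← sub_eq_zero, ← map_sub]
    apply hkill
    change algebraMap B A₁ (bb y - b) = 0
    rw [map_sub, hbb, hb, sub_self]
  let lam : RingHom.ker (algebraMap A₁ A) →ₗ[A₁] Q :=
    { toFun := lamf
      map_add' := by
        intro y y'
        have e1 : algebraMap B A₁ (bb y + bb y') = (y + y' : RingHom.ker (algebraMap A₁ A)) := by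
          rw [map_add, hbb, hbb]; rfl
        rw [lam_eq (y + y') (bb y + bb y') e1]
        change _ = w _ + w _
        rw [← map_add]
        rfl
      map_smul' := by
        intro a y
        have e1 : algebraMap B A₁ (bb a * bb y) = (a • y : RingHom.ker (algebraMap A₁ A)) := by
          rw [map_mul, hbb, hbb]; rfl
        rw [lam_eq (a • y) (bb a * bb y) e1, RingHom.id_apply]
        have e2 : (⟨bb a * bb y, hmem _ _ e1⟩ : RingHom.ker (algebraMap B A)) =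
            bb a • ⟨bb y, hmem y _ (hbb y)⟩ := rfl
        rw [e2, map_smul]
        change bb a • lamf y = algebraMap A₁ A a • lamf y
        rw [← algebraMap_smul A (bb a) (lamf y), IsScalarTower.algebraMap_apply B A₁ A, hbb] }
  let χ : M₂ →ₗ[A] Q := hI₂.lift lam
  have hχ : ∀ s : M, χ (φ₂ s) = π s := by
    intro s
    refine hI.inductionOn s _ ?_ ?_ ?_ ?_
    · rw [map_zero, map_zero, map_zero]
    · intro x
      have hy : algebraMap B A₁ x ∈ RingHom.ker (algebraMap A₁ A) := by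
        rw [RingHom.mem_ker, ← IsScalarTower.algebraMap_apply]; exact x.2
      rw [hφ₂ x ⟨_, hy⟩ rfl, hI₂.lift_eq]
      exact lam_eq ⟨_, hy⟩ x rfl
    · intro a n hn
      rw [map_smul, map_smul, map_smul, hn]
    · intro n₁ n₂ h₁ h₂
      rw [map_add, map_add, map_add, h₁, h₂]
  have h0 : π t = 0 := by rw [← hχ, ht, map_zero]
  exact (Submodule.Quotient.mk_eq_zero _).mp h0

end ringThird


section spanComp

variable {X₁ X₂ X₃ : Scheme.{u}} (h₁ : X₁ ⟶ X₂) (h₂ : X₂ ⟶ X₃) (G : X₃.Modules) [G.IsQuasicoherent]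
  {U₁ : X₁.Opens} {U₂ : X₂.Opens} {U₃ : X₃.Opens}

/-- generation of the sections of `h₁^* h₂^* G` over an affine chart by twice pulled back sections -/
theorem span_unitSecFun_comp (hU₁ : IsAffineOpen U₁) (hU₂ : IsAffineOpen U₂) (hU₃ : IsAffineOpen U₃)
    (e₁ : U₁ ≤ h₁ ⁻¹ᵁ U₂) (e₂ : U₂ ≤ h₂ ⁻¹ᵁ U₃) :
    Submodule.span Γ(X₁, U₁) (Set.range fun s : Γ(G, U₃) =>
      unitSecFun h₁ ((Scheme.Modules.pullback h₂).obj G) e₁ (unitSecFun h₂ G e₂ s)) = ⊤ := by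
  have s1 := span_unitSecFun h₁ ((Scheme.Modules.pullback h₂).obj G) hU₁ hU₂ e₁
  have s2 := span_unitSecFun h₂ G hU₂ hU₃ e₂
  rw [eq_top_iff, ← s1]
  apply Submodule.span_le.mpr
  rintro _ ⟨m, rfl⟩
  have hm : m ∈ Submodule.span Γ(X₂, U₂) (Set.range (unitSecFun h₂ G e₂)) := by
    rw [s2]; trivial
  induction hm using Submodule.span_induction with
  | mem x hx =>
    obtain ⟨s, rfl⟩ := hx
    exact Submodule.subset_span ⟨s, rfl⟩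
  | zero =>
    have : unitSecFun h₁ ((Scheme.Modules.pullback h₂).obj G) e₁ 0 = 0 :=
      map_zero (unitSec h₁ ((Scheme.Modules.pullback h₂).obj G) e₁)
    rw [this]; exact Submodule.zero_mem _
  | add x y _ _ hx hy =>
    have : unitSecFun h₁ ((Scheme.Modules.pullback h₂).obj G) e₁ (x + y) =
        unitSecFun h₁ _ e₁ x + unitSecFun h₁ _ e₁ y :=
      map_add (unitSec h₁ ((Scheme.Modules.pullback h₂).obj G) e₁) x y
    rw [this]; exact Submodule.add_mem _ hx hy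
  | smul a x _ hx =>
    rw [unitSecFun_smul]
    exact Submodule.smul_mem _ _ hx

end spanComp

section chartThird

variable {Y' Y X : Scheme.{u}} (f : Y ⟶ X) [IsImmersion f] [QuasiCompact f]
  (j : Y' ⟶ Y) [IsImmersion j] [QuasiCompact j]
  (φ₁ : (Scheme.Modules.pullback j).obj (Omega.conormal f) ⟶ Omega.conormal (j ≫ f))
  (φ₂ : (Scheme.Modules.pullback (𝟙 Y')).obj (Omega.conormal (j ≫ f)) ⟶ Omega.conormal j)

set_option backward.isDefEq.respectTransparency false in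
set_option maxHeartbeats 1600000 in
theorem chart_third (hφ₁ : OmegaSh.IsConormalMap (j ≫ f) f (𝟙 X) j φ₁)
    (hφ₂ : OmegaSh.IsConormalMap j (j ≫ f) f (𝟙 Y') φ₂)
    {U : X.Opens} (hf : IsGoodChart f U) (hjf : IsGoodChart (j ≫ f) U)
    (hj : IsGoodChart j (f ⁻¹ᵁ U)) :
    (∀ m, ((Scheme.Modules.pullbackId Y').inv.app (Omega.conormal (j ≫ f)) ≫ φ₂).app ((j ≫ f) ⁻¹ᵁ U)
      (φ₁.app ((j ≫ f) ⁻¹ᵁ U) m) = 0) ∧
    (∀ t, ((Scheme.Modules.pullbackId Y').inv.app (Omega.conormal (j ≫ f)) ≫ φ₂).app ((j ≫ f) ⁻¹ᵁ U) t = 0 →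
      ∃ m, φ₁.app ((j ≫ f) ⁻¹ᵁ U) m = t) ∧
    Function.Surjective
      (((Scheme.Modules.pullbackId Y').inv.app (Omega.conormal (j ≫ f)) ≫ φ₂).app ((j ≫ f) ⁻¹ᵁ U)) := by
  have hWa : IsAffineOpen ((j ≫ f) ⁻¹ᵁ U) := hjf.isAffineOpen_preimage
  have hV : f ⁻¹ᵁ U = f ⁻¹ᵁ U := rfl
  have hW : (j ≫ f) ⁻¹ᵁ U = (j ≫ f) ⁻¹ᵁ U := rfl
  have hWj : j ⁻¹ᵁ (f ⁻¹ᵁ U) = (j ≫ f) ⁻¹ᵁ U := rfl
  letI algBA₁ : Algebra Γ(X, U) Γ(Y, f ⁻¹ᵁ U) := (f.appLE U (f ⁻¹ᵁ U) hV.ge).hom.toAlgebra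
  letI algA₁A : Algebra Γ(Y, f ⁻¹ᵁ U) Γ(Y', (j ≫ f) ⁻¹ᵁ U) :=
    (j.appLE (f ⁻¹ᵁ U) ((j ≫ f) ⁻¹ᵁ U) hWj.ge).hom.toAlgebra
  letI algBA : Algebra Γ(X, U) Γ(Y', (j ≫ f) ⁻¹ᵁ U) :=
    ((j ≫ f).appLE U ((j ≫ f) ⁻¹ᵁ U) hW.ge).hom.toAlgebra
  haveI : IsScalarTower Γ(X, U) Γ(Y, f ⁻¹ᵁ U) Γ(Y', (j ≫ f) ⁻¹ᵁ U) := by
    apply IsScalarTower.of_algebraMap_eq'
    have := Scheme.Hom.appLE_comp_appLE j f U (f ⁻¹ᵁ U) ((j ≫ f) ⁻¹ᵁ U) hV.ge hWj.ge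
    exact congrArg CommRingCat.Hom.hom this.symm
  letI : Module Γ(X, U)
      Γ((Scheme.Modules.pullback (j ≫ f)).obj (ClSub.idealMod (j ≫ f).ker), (j ≫ f) ⁻¹ᵁ U) :=
    Module.compHom _ ((j ≫ f).appLE U ((j ≫ f) ⁻¹ᵁ U) hW.ge).hom
  haveI : IsScalarTower Γ(X, U) Γ(Y', (j ≫ f) ⁻¹ᵁ U)
      Γ((Scheme.Modules.pullback (j ≫ f)).obj (ClSub.idealMod (j ≫ f).ker), (j ≫ f) ⁻¹ᵁ U) :=
    .of_algebraMap_smul fun _ _ => rfl
  letI : Module Γ(Y, f ⁻¹ᵁ U)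
      Γ((Scheme.Modules.pullback j).obj (ClSub.idealMod j.ker), (j ≫ f) ⁻¹ᵁ U) :=
    Module.compHom _ (j.appLE (f ⁻¹ᵁ U) ((j ≫ f) ⁻¹ᵁ U) hWj.ge).hom
  haveI : IsScalarTower Γ(Y, f ⁻¹ᵁ U) Γ(Y', (j ≫ f) ⁻¹ᵁ U)
      Γ((Scheme.Modules.pullback j).obj (ClSub.idealMod j.ker), (j ≫ f) ⁻¹ᵁ U) :=
    .of_algebraMap_smul fun _ _ => rfl
  obtain ⟨uI, hI, huI⟩ := exists_uI (j ≫ f) hjf.1 hWa hW
  obtain ⟨uI₂, hI₂, huI₂⟩ := exists_uI j hj.1 hWa hWj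
  have hJ := span_unitSecFun_comp j f (ClSub.idealMod f.ker) hWa hj.1 hf.1 hWj.ge hV.ge
  have hBA₁ : Function.Surjective (algebraMap Γ(X, U) Γ(Y, f ⁻¹ᵁ U)) :=
    appLE_surjective_of_eq f hf.app_surjective hV
  -- the map `c`
  have hcdef : ∀ m : Γ(Omega.conormal (j ≫ f), (j ≫ f) ⁻¹ᵁ U),
      ((Scheme.Modules.pullbackId Y').inv.app (Omega.conormal (j ≫ f)) ≫ φ₂).app ((j ≫ f) ⁻¹ᵁ U) m =
      φ₂.app ((j ≫ f) ⁻¹ᵁ U)
        (OmegaSh.pullSect (𝟙 Y') (Omega.conormal (j ≫ f)) ((j ≫ f) ⁻¹ᵁ U) m) := by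
    intro m
    change φ₂.app _ (((Scheme.Modules.pullbackId Y').inv.app (Omega.conormal (j ≫ f))).app _ m) = _
    rw [pullbackId_inv_app]
  -- φ₁ on generators
  have hφ₁' : ∀ (t : Γ(ClSub.idealMod f.ker, U))
      (x : RingHom.ker (algebraMap Γ(X, U) Γ(Y', (j ≫ f) ⁻¹ᵁ U))),
      (x : Γ(X, U)) = idealFn f.ker U t →
      (appLin φ₁ ((j ≫ f) ⁻¹ᵁ U)) (unitSecFun j ((Scheme.Modules.pullback f).obj (ClSub.idealMod f.ker))
        hWj.ge (unitSecFun f (ClSub.idealMod f.ker) hV.ge t)) = uI x := by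
    intro t x hx
    -- the section `s` of the ideal of `j ≫ f`
    have hg : ((j ≫ f).app U).hom (idealFn f.ker U t) = 0 := by
      have h0 := idealFn_mem f.ker ⟨U, hf.1⟩ t
      rw [Scheme.Hom.ker_apply, RingHom.mem_ker] at h0
      rw [Scheme.Hom.comp_app]
      change (j.app (f ⁻¹ᵁ U)).hom ((f.app U).hom (idealFn f.ker U t)) = 0
      rw [h0, map_zero]
    obtain ⟨s, hs⟩ := exists_idealFn_eq_of_app_eq_zero (j ≫ f) U _ hg
    have h₁ : (j ≫ f) ⁻¹ᵁ U ≤ j ⁻¹ᵁ (f ⁻¹ᵁ U) := le_rfl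
    have h₂ : (j ≫ f) ⁻¹ᵁ U ≤ (j ≫ f) ⁻¹ᵁ ((𝟙 X) ⁻¹ᵁ U) := le_rfl
    have key := hφ₁.2 U t s hs ((j ≫ f) ⁻¹ᵁ U) h₁ h₂
    have hL : (appLin φ₁ ((j ≫ f) ⁻¹ᵁ U)) (unitSecFun j
        ((Scheme.Modules.pullback f).obj (ClSub.idealMod f.ker)) hWj.ge
        (unitSecFun f (ClSub.idealMod f.ker) hV.ge t)) =
        (Omega.conormal (j ≫ f)).presheaf.map (homOfLE h₁).op
          (φ₁.app (j ⁻¹ᵁ (f ⁻¹ᵁ U))
            (OmegaSh.pullSect j (Omega.conormal f) (f ⁻¹ᵁ U) (OmegaSh.conormalSect f U t))) := by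
      rw [appLin_apply, unitSecFun_eq f, unitSecFun_res]
      exact hom_app_res' φ₁ h₁ _
    rw [hL, key]
    exact (huI s x (hx.trans hs.symm)).symm
  -- φ₂ on generators
  have hφ₂' : ∀ (x : RingHom.ker (algebraMap Γ(X, U) Γ(Y', (j ≫ f) ⁻¹ᵁ U)))
      (y : RingHom.ker (algebraMap Γ(Y, f ⁻¹ᵁ U) Γ(Y', (j ≫ f) ⁻¹ᵁ U))),
      (y : Γ(Y, f ⁻¹ᵁ U)) = algebraMap Γ(X, U) Γ(Y, f ⁻¹ᵁ U) x →
      (appLin ((Scheme.Modules.pullbackId Y').inv.app (Omega.conormal (j ≫ f)) ≫ φ₂)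
        ((j ≫ f) ⁻¹ᵁ U)) (uI x) = uI₂ y := by
    intro x y hy
    obtain ⟨s', hs'⟩ : ∃ s' : Γ(ClSub.idealMod (j ≫ f).ker, U), idealFn (j ≫ f).ker U s' = x := by
      refine ⟨(Groth.Agent.Lib.H77OmegaSections.idealSectionsEquiv' (j ≫ f) hjf.1 hW).symm x, ?_⟩
      exact congrArg Subtype.val
        ((Groth.Agent.Lib.H77OmegaSections.idealSectionsEquiv' (j ≫ f) hjf.1 hW).apply_symm_apply x)
    obtain ⟨s, hs⟩ : ∃ s : Γ(ClSub.idealMod j.ker, f ⁻¹ᵁ U), idealFn j.ker (f ⁻¹ᵁ U) s = y := by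
      refine ⟨(Groth.Agent.Lib.H77OmegaSections.idealSectionsEquiv' j hj.1 hWj).symm y, ?_⟩
      exact congrArg Subtype.val
        ((Groth.Agent.Lib.H77OmegaSections.idealSectionsEquiv' j hj.1 hWj).apply_symm_apply y)
    have hss : OmegaSh.idealSect j.ker (f ⁻¹ᵁ U) s = f.app U (OmegaSh.idealSect (j ≫ f).ker U s') := by
      rw [idealSect_eq_idealFn, idealSect_eq_idealFn, hs, hs', hy]
      change (f.appLE U (f ⁻¹ᵁ U) hV.ge).hom x = (f.app U).hom x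
      rw [← Scheme.Hom.app_eq_appLE]
    have h₁ : (j ≫ f) ⁻¹ᵁ U ≤ (𝟙 Y') ⁻¹ᵁ ((j ≫ f) ⁻¹ᵁ U) := le_rfl
    have h₂ : (j ≫ f) ⁻¹ᵁ U ≤ j ⁻¹ᵁ (f ⁻¹ᵁ U) := le_rfl
    have key := hφ₂.2 U s' s hss ((j ≫ f) ⁻¹ᵁ U) h₁ h₂
    rw [appLin_apply, hcdef, huI s' x hs'.symm, huI₂ s y hs.symm]
    have e1 : unitSecFun (j ≫ f) (ClSub.idealMod (j ≫ f).ker) hW.ge s' =
        OmegaSh.conormalSect (j ≫ f) U s' := by
      rw [unitSecFun_eq]
      exact res_self _ _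
    have e2 : (Omega.conormal j).presheaf.map (homOfLE h₁).op
        (φ₂.app ((𝟙 Y') ⁻¹ᵁ ((j ≫ f) ⁻¹ᵁ U))
          (OmegaSh.pullSect (𝟙 Y') (Omega.conormal (j ≫ f)) ((j ≫ f) ⁻¹ᵁ U)
            (OmegaSh.conormalSect (j ≫ f) U s'))) =
        φ₂.app ((j ≫ f) ⁻¹ᵁ U)
          (OmegaSh.pullSect (𝟙 Y') (Omega.conormal (j ≫ f)) ((j ≫ f) ⁻¹ᵁ U)
            (OmegaSh.conormalSect (j ≫ f) U s')) := res_self _ _
    rw [e1, ← e2, key]
    rfl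
  have hι₁ : ∀ t : Γ(ClSub.idealMod f.ker, U),
      algebraMap Γ(X, U) Γ(Y, f ⁻¹ᵁ U) (idealFn f.ker U t) = 0 := fun t =>
    Groth.Agent.Lib.H77OmegaSections.idealFn_mem_ker' f hf.1 hV t
  have hι₁' : ∀ b : Γ(X, U), algebraMap Γ(X, U) Γ(Y, f ⁻¹ᵁ U) b = 0 →
      ∃ t : Γ(ClSub.idealMod f.ker, U), idealFn f.ker U t = b := by
    intro b hb
    refine ⟨(Groth.Agent.Lib.H77OmegaSections.idealSectionsEquiv' f hf.1 hV).symm ⟨b, hb⟩, ?_⟩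
    exact congrArg Subtype.val
      ((Groth.Agent.Lib.H77OmegaSections.idealSectionsEquiv' f hf.1 hV).apply_symm_apply ⟨b, hb⟩)
  refine ⟨?_, ?_, ?_⟩
  · intro m
    exact third_comp_eq_zero (B := Γ(X, U)) (A₁ := Γ(Y, f ⁻¹ᵁ U)) (A := Γ(Y', (j ≫ f) ⁻¹ᵁ U)) _
      (idealFn f.ker U) uI uI₂ (appLin φ₁ ((j ≫ f) ⁻¹ᵁ U))
      (appLin ((Scheme.Modules.pullbackId Y').inv.app (Omega.conormal (j ≫ f)) ≫ φ₂)
        ((j ≫ f) ⁻¹ᵁ U)) hJ hι₁ hφ₁' hφ₂' m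
  · intro t ht
    exact third_exact_mid (B := Γ(X, U)) (A₁ := Γ(Y, f ⁻¹ᵁ U)) (A := Γ(Y', (j ≫ f) ⁻¹ᵁ U)) _
      (idealFn f.ker U) uI uI₂ (appLin φ₁ ((j ≫ f) ⁻¹ᵁ U))
      (appLin ((Scheme.Modules.pullbackId Y').inv.app (Omega.conormal (j ≫ f)) ≫ φ₂)
        ((j ≫ f) ⁻¹ᵁ U)) hBA₁ hI hI₂ hι₁' hφ₁' hφ₂' t ht
  · exact third_surjective (B := Γ(X, U)) (A₁ := Γ(Y, f ⁻¹ᵁ U)) (A := Γ(Y', (j ≫ f) ⁻¹ᵁ U))
      uI uI₂ (appLin ((Scheme.Modules.pullbackId Y').inv.app (Omega.conormal (j ≫ f)) ≫ φ₂)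
        ((j ≫ f) ⁻¹ᵁ U)) hBA₁ hI₂ hφ₂'

end chartThird


section mainThird

variable {Y' Y X : Scheme.{u}} (f : Y ⟶ X) [IsImmersion f] [QuasiCompact f]
  (j : Y' ⟶ Y) [IsImmersion j] [QuasiCompact j]
  (φ₁ : (Scheme.Modules.pullback j).obj (Omega.conormal f) ⟶ Omega.conormal (j ≫ f))
  (φ₂ : (Scheme.Modules.pullback (𝟙 Y')).obj (Omega.conormal (j ≫ f)) ⟶ Omega.conormal j)

theorem exists_chart_third (O : Y'.Opens) (y' : Y') (hy' : y' ∈ O) :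
    ∃ U : X.Opens, IsGoodChart f U ∧ IsGoodChart (j ≫ f) U ∧ IsGoodChart j (f ⁻¹ᵁ U) ∧
      y' ∈ (j ≫ f) ⁻¹ᵁ U ∧ (j ≫ f) ⁻¹ᵁ U ≤ O := by
  obtain ⟨t, ht, hte⟩ := f.isEmbedding.isInducing.isOpen_iff.mp j.coborderRange.2
  let O₂ : X.Opens := ⟨t, ht⟩
  have h1 : (j ≫ f) y' ∈ O₂ ⊓ f.coborderRange := by
    have e : (j ≫ f) y' = f (j y') := rfl
    rw [e]
    refine ⟨?_, subset_coborder ⟨j y', rfl⟩⟩
    change j y' ∈ f ⁻¹' t
    rw [hte]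
    exact subset_coborder ⟨y', rfl⟩
  obtain ⟨U, hU, hyU, hUO, hUle⟩ := exists_goodChart' (j ≫ f) y' O (O₂ ⊓ f.coborderRange) hy' h1
  have hfU : IsGoodChart f U := ⟨hU.1, hUle.trans inf_le_right⟩
  refine ⟨U, hfU, hU, ⟨hfU.isAffineOpen_preimage, ?_⟩, hyU, hUO⟩
  intro y hy
  have h2 : f y ∈ O₂ := (hUle hy).1
  have h3 : y ∈ f ⁻¹' t := h2
  rw [hte] at h3
  exact h3

/-- **The sequence `j^*N_{Y/X} → N_{Y'/X} → N_{Y'/Y} → 0` is exact** (quasi-compact immersions). -/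
theorem third_sequence_exact (hφ₁ : OmegaSh.IsConormalMap (j ≫ f) f (𝟙 X) j φ₁)
    (hφ₂ : OmegaSh.IsConormalMap j (j ≫ f) f (𝟙 Y') φ₂) :
    ∃ w : φ₁ ≫ ((Scheme.Modules.pullbackId Y').inv.app (Omega.conormal (j ≫ f)) ≫ φ₂) = 0,
      (ShortComplex.mk φ₁ ((Scheme.Modules.pullbackId Y').inv.app (Omega.conormal (j ≫ f)) ≫ φ₂) w).Exact ∧
      Epi ((Scheme.Modules.pullbackId Y').inv.app (Omega.conormal (j ≫ f)) ≫ φ₂) := by
  let ι := {U : X.Opens // IsGoodChart f U ∧ IsGoodChart (j ≫ f) U ∧ IsGoodChart j (f ⁻¹ᵁ U)}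
  let B : ι → Y'.Opens := fun U => (j ≫ f) ⁻¹ᵁ U.1
  have hcharts : ∀ (O : Y'.Opens) (x : Y'), x ∈ O → ∃ p : ι, x ∈ B p ∧ B p ≤ O := by
    intro O x hx
    obtain ⟨U, h1, h2, h3, hxU, hUO⟩ := exists_chart_third f j O x hx
    exact ⟨⟨U, h1, h2, h3⟩, hxU, hUO⟩
  have hB : Opens.IsBasis (Set.range B) := by
    rw [Opens.isBasis_iff_nbhd]
    intro O x hx
    obtain ⟨p, hxp, hpO⟩ := hcharts O x hx
    exact ⟨B p, ⟨p, rfl⟩, hxp, hpO⟩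
  have hch := fun p : ι => chart_third f j φ₁ φ₂ hφ₁ hφ₂ p.2.1 p.2.2.1 p.2.2.2
  have w : φ₁ ≫ ((Scheme.Modules.pullbackId Y').inv.app (Omega.conormal (j ≫ f)) ≫ φ₂) = 0 := by
    apply Groth.Agent.Lib.ModHomBasis.hom_ext_of_basis hB
    intro p
    ext m
    exact (hch p).1 m
  refine ⟨w, ?_, ?_⟩
  · apply exact_of_locally
    intro O t ht x hx
    obtain ⟨p, hxp, hpO⟩ := hcharts O x hx
    refine ⟨B p, hpO, hxp, ?_⟩
    apply (hch p).2.1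
    have := hom_app_res' ((Scheme.Modules.pullbackId Y').inv.app (Omega.conormal (j ≫ f)) ≫ φ₂) hpO t
    refine this.trans ?_
    have ht' : ((Scheme.Modules.pullbackId Y').inv.app (Omega.conormal (j ≫ f)) ≫ φ₂).app O t = 0 := ht
    rw [ht']
    exact res_zero _ hpO
  · apply epi_of_locally_surjective'
    intro O t x hx
    obtain ⟨p, hxp, hpO⟩ := hcharts O x hx
    exact ⟨B p, hpO, hxp, (hch p).2.2 _⟩

end mainThird

end Groth.Agent.Lib.Conormal81
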