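import Mathlib.RingTheory.IsTensorProduct
import Mathlib.RingTheory.Flat.Basic
import Mathlib.RingTheory.Ideal.Maps
import Mathlib.LinearAlgebra.TensorProduct.Tower

/-!
# helper81: ring-level lemmas for base change of graded pieces `I^n/I^(n+1)`

* `idealMapLin J J'`, `isBaseChange_idealMapLin` (flat base change of an ideal `J → J·B'`)
* `bijective_of_isBaseChange_comm` (a map commuting with two base changes of the same module is bijective)
* `gr_surjective`, `gr_bijective`
-/

set_option autoImplicit false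
set_option linter.style.haveILetI false
set_option linter.unusedSectionVars false
universe u
open TensorProduct

namespace Groth.Agent.Lib.GrMod81

section flat

variable {B B' : Type*} [CommRing B] [CommRing B'] [Algebra B B']

/-- the canonical map `J → J·B'` -/
def idealMapLin (J : Ideal B) (J' : Ideal B') (h : J.map (algebraMap B B') ≤ J') : J →ₗ[B] J' where
  toFun x := ⟨algebraMap B B' x, h (Ideal.mem_map_of_mem _ x.2)⟩
  map_add' x y := by ext; simp
  map_smul' b x := by ext; simp [Algebra.smul_def]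

@[simp] theorem idealMapLin_coe (J : Ideal B) (J' : Ideal B') (h : J.map (algebraMap B B') ≤ J') (x : J) :
    (idealMapLin J J' h x : B') = algebraMap B B' x := rfl

theorem isBaseChange_idealMapLin [Module.Flat B B'] (J : Ideal B) (J' : Ideal B')
    (h : J' = J.map (algebraMap B B')) : IsBaseChange B' (idealMapLin J J' h.ge) := by
  let L : B' ⊗[B] J →ₗ[B'] J' := (idealMapLin J J' h.ge).liftBaseChange B'
  have hL : ∀ (b' : B') (x : J), L (b' ⊗ₜ x) = b' • idealMapLin J J' h.ge x := fun b' x =>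
    LinearMap.liftBaseChange_tmul _ _ _ _
  let c : B' ⊗[B] J →ₗ[B] B' := (TensorProduct.rid B B').toLinearMap ∘ₗ (J.subtype.lTensor B')
  have hc : Function.Injective c := by
    refine (TensorProduct.rid B B').injective.comp ?_
    exact Module.Flat.lTensor_preserves_injective_linearMap _ Subtype.val_injective
  have hLc : ∀ t, ((L t : J') : B') = c t := by
    intro t
    induction t using TensorProduct.induction_on with
    | zero => simp
    | tmul b' x =>
      rw [hL]
      simp [c, Algebra.smul_def, mul_comm]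
    | add a b ha hb => simp [map_add, ha, hb]
  have hinj : Function.Injective L := by
    intro a b hab
    apply hc
    rw [← hLc, ← hLc, hab]
  have hsurj : Function.Surjective L := by
    rintro ⟨y, hy⟩
    have hy' : y ∈ Ideal.span (algebraMap B B' '' (J : Set B)) := by rw [h] at hy; exact hy
    have : ∀ (y : B') (hy' : y ∈ Ideal.span (algebraMap B B' '' (J : Set B))),
        ∃ t, ((L t : J') : B') = y := by
      intro y hy'
      induction hy' using Submodule.span_induction with
      | mem y hy =>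
        obtain ⟨x, hx, rfl⟩ := hy
        exact ⟨1 ⊗ₜ ⟨x, hx⟩, by rw [hL]; simp⟩
      | zero => exact ⟨0, by simp⟩
      | add a b _ _ ha hb =>
        obtain ⟨ta, hta⟩ := ha
        obtain ⟨tb, htb⟩ := hb
        exact ⟨ta + tb, by simp [map_add, hta, htb]⟩
      | smul r a _ ha =>
        obtain ⟨ta, hta⟩ := ha
        exact ⟨r • ta, by simp [hta]⟩
    obtain ⟨t, ht⟩ := this y hy'
    exact ⟨t, Subtype.ext ht⟩
  exact IsBaseChange.of_equiv (LinearEquiv.ofBijective L ⟨hinj, hsurj⟩) (fun x => by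
    change L (1 ⊗ₜ x) = _
    rw [hL, one_smul])

end flat

section uniq

variable {R S M N₁ N₂ : Type*} [CommRing R] [CommRing S] [Algebra R S]
  [AddCommGroup M] [Module R M] [AddCommGroup N₁] [Module R N₁] [Module S N₁] [IsScalarTower R S N₁]
  [AddCommGroup N₂] [Module R N₂] [Module S N₂] [IsScalarTower R S N₂]

theorem bijective_of_isBaseChange_comm (α : M →ₗ[R] N₁) (hα : IsBaseChange S α)
    (β : M →ₗ[R] N₂) (hβ : IsBaseChange S β) (φ : N₁ →ₗ[S] N₂) (h : ∀ m, φ (α m) = β m) :
    Function.Bijective φ := by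
  let e : N₁ ≃ₗ[S] N₂ := hα.equiv.symm ≪≫ₗ hβ.equiv
  have : φ = e.toLinearMap := by
    apply hα.algHom_ext'
    ext m
    simp only [LinearMap.coe_comp, LinearMap.coe_restrictScalars, Function.comp_apply, h,
      LinearEquiv.coe_coe, e, LinearEquiv.trans_apply, IsBaseChange.equiv_symm_apply,
      IsBaseChange.equiv_tmul, one_smul]
  rw [this]
  exact e.bijective

end uniq

section grSurj

variable {B B' A' : Type*} [CommRing B] [CommRing B'] [CommRing A']
  [Algebra B B'] [Algebra B' A']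
  (J : Ideal B) (J' : Ideal B') (hJ : J' = J.map (algebraMap B B'))
  {M₁' M₂ : Type*}
  [AddCommGroup M₁'] [Module A' M₁']
  [AddCommGroup M₂] [Module B' M₂] [Module A' M₂] [IsScalarTower B' A' M₂]
  (θ : J → M₁')
  (θ₂ : J' →ₗ[B'] M₂) (h₂ : IsBaseChange A' θ₂)
  (φ : M₁' →ₗ[A'] M₂) (hφ : ∀ x : J, φ (θ x) = θ₂ (idealMapLin J J' hJ.ge x))

include h₂ hφ in
theorem gr_surjective : Function.Surjective φ := by
  have hgen : ∀ (y : B') (hy : y ∈ Ideal.span (algebraMap B B' '' (J : Set B))) (hy' : y ∈ J'),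
      θ₂ ⟨y, hy'⟩ ∈ LinearMap.range φ := by
    intro y hy
    induction hy using Submodule.span_induction with
    | mem y hy =>
      intro hy'
      obtain ⟨x, hx, rfl⟩ := hy
      exact ⟨θ ⟨x, hx⟩, hφ ⟨x, hx⟩⟩
    | zero =>
      intro hy'
      have : (⟨0, hy'⟩ : J') = 0 := rfl
      rw [this, map_zero]
      exact zero_mem _
    | add a b ha' hb' ha hb =>
      intro hy'
      have haJ : a ∈ J' := hJ ▸ ha'
      have hbJ : b ∈ J' := hJ ▸ hb'
      have : (⟨a + b, hy'⟩ : J') = ⟨a, haJ⟩ + ⟨b, hbJ⟩ := rfl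
      rw [this, map_add]
      exact add_mem (ha haJ) (hb hbJ)
    | smul r a ha' ha =>
      intro hy'
      have haJ : a ∈ J' := hJ ▸ ha'
      have : (⟨r • a, hy'⟩ : J') = r • ⟨a, haJ⟩ := rfl
      rw [this, map_smul, ← algebraMap_smul A' r]
      exact Submodule.smul_mem _ _ (ha haJ)
  intro n
  induction n using h₂.inductionOn with
  | zero => exact ⟨0, map_zero _⟩
  | tmul m =>
    obtain ⟨y, hy⟩ := m
    exact hgen y (by rw [hJ] at hy; exact hy) hy
  | smul s n hn =>
    obtain ⟨t, rfl⟩ := hn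
    exact ⟨s • t, map_smul _ _ _⟩
  | add n₁ n₂ h1 h2 =>
    obtain ⟨t₁, rfl⟩ := h1
    obtain ⟨t₂, rfl⟩ := h2
    exact ⟨t₁ + t₂, map_add _ _ _⟩

end grSurj

section gr

variable {B A B' A' : Type*} [CommRing B] [CommRing A] [CommRing B'] [CommRing A']
  [Algebra B A] [Algebra B B'] [Algebra A A'] [Algebra B' A'] [Algebra B A']
  [IsScalarTower B A A'] [IsScalarTower B B' A']
  (J : Ideal B) (J' : Ideal B') (hJ : J' = J.map (algebraMap B B'))
  {M₁ M₁' M₂ : Type*}
  [AddCommGroup M₁] [Module B M₁] [Module A M₁] [IsScalarTower B A M₁]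
  [AddCommGroup M₁'] [Module B M₁'] [Module A M₁'] [Module A' M₁'] [IsScalarTower A A' M₁']
  [IsScalarTower B A M₁'] [IsScalarTower B A' M₁']
  [AddCommGroup M₂] [Module B M₂] [Module B' M₂] [Module A' M₂] [IsScalarTower B' A' M₂]
  [IsScalarTower B B' M₂] [IsScalarTower B A' M₂]
  (θ₁ : J →ₗ[B] M₁) (h₁ : IsBaseChange A θ₁) (θ₁' : M₁ →ₗ[A] M₁') (h₁' : IsBaseChange A' θ₁')
  (θ₂ : J' →ₗ[B'] M₂) (h₂ : IsBaseChange A' θ₂)
  (φ : M₁' →ₗ[A'] M₂) (hφ : ∀ x : J, φ (θ₁' (θ₁ x)) = θ₂ (idealMapLin J J' hJ.ge x))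

include h₁ h₁' h₂ hφ in
theorem gr_bijective [Module.Flat B B'] : Function.Bijective φ := by
  have hψ := isBaseChange_idealMapLin J J' hJ
  have hα : IsBaseChange A' ((θ₁'.restrictScalars B).comp θ₁) := h₁.comp h₁'
  have hβ : IsBaseChange A' ((θ₂.restrictScalars B).comp (idealMapLin J J' hJ.ge)) := hψ.comp h₂
  exact bijective_of_isBaseChange_comm _ hα _ hβ φ hφ

end gr

end Groth.Agent.Lib.GrMod81
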