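import Groth.Agent.Lib.IdealMod
import Groth.Agent.Lib.H90OXModPush
import Groth.Agent.Lib.StructureModule

/-!
# Kernels of morphisms of quasi-coherent modules are quasi-coherent (any scheme);
the ideal module `ClSub.idealMod I` is quasi-coherent.
-/

set_option autoImplicit false
universe u
open CategoryTheory CategoryTheory.Limits AlgebraicGeometry TopologicalSpace Opposite

namespace Groth.Agent.Lib.H77QCohKernel

open Groth.Agent.Lib.QCohStalk Groth.Agent.Lib.AssPush Groth.Agent.Lib.IdealMod
  Groth.Agent.Lib.H90OXModPush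

variable {X : Scheme.{u}}

lemma app_res {M N : X.Modules} (φ : M ⟶ N) {V U : X.Opens} (h : V ≤ U) (s : Γ(M, U)) :
    φ.val.app (op V) (res M h s) = res N h (φ.val.app (op U) s) := by
  have := congr($(φ.val.naturality (homOfLE h).op) s)
  exact this

lemma app_smul {M N : X.Modules} (φ : M ⟶ N) {U : X.Opens} (r : Γ(X, U)) (s : Γ(M, U)) :
    φ.val.app (op U) (r • s) = r • φ.val.app (op U) s :=
  (φ.val.app (op U)).hom.map_smul r s

set_option backward.isDefEq.respectTransparency false in
/-- The kernel of a morphism between modules which are localizing on `U` is localizing on `U`. -/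
theorem isLocalizingOn_kernel {M N : X.Modules} (φ : M ⟶ N) {U : X.Opens}
    (hM : IsLocalizingOn M U) (hN : IsLocalizingOn N U) : IsLocalizingOn (kernel φ) U := by
  constructor
  · intro f t
    obtain ⟨hinj, hker⟩ := kernel_sections φ (X.basicOpen f)
    obtain ⟨hinjU, hkerU⟩ := kernel_sections φ U
    obtain ⟨n, m, hm⟩ := hM.surj f ((kernel.ι φ).val.app (op (X.basicOpen f)) t)
    -- φ m restricted to D(f) is zero
    have h1 : res N (X.basicOpen_le f) (φ.val.app (op U) m) = 0 := by
      rw [← app_res, ← hm, app_smul, (hker _).mpr ⟨t, rfl⟩, smul_zero]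
    obtain ⟨k, hk⟩ := hN.inj f _ h1
    have hk' : φ.val.app (op U) (f ^ k • m) = 0 := by rw [app_smul]; exact hk
    obtain ⟨s, hs⟩ := (hkerU _).mp hk'
    refine ⟨k + n, s, ?_⟩
    apply hinj
    rw [app_smul, app_res, hs, res_smul, ← hm, resO_pow, smul_smul, ← pow_add]
  · intro f s hs
    obtain ⟨hinjU, -⟩ := kernel_sections φ U
    have h1 : res M (X.basicOpen_le f) ((kernel.ι φ).val.app (op U) s) = 0 := by
      rw [← app_res, hs]
      exact map_zero ((kernel.ι φ).val.app (op (X.basicOpen f))).hom
    obtain ⟨n, hn⟩ := hM.inj f _ h1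
    refine ⟨n, hinjU ?_⟩
    rw [app_smul, hn]
    exact (map_zero ((kernel.ι φ).val.app (op U)).hom).symm

/-- **The kernel of a morphism of quasi-coherent modules is quasi-coherent** (on any scheme). -/
theorem isQuasicoherent_kernel {M N : X.Modules} [M.IsQuasicoherent] [N.IsQuasicoherent]
    (φ : M ⟶ N) : (kernel φ).IsQuasicoherent :=
  (isQuasicoherent_iff_forall_isLocalizingOn _).mpr fun U =>
    isLocalizingOn_kernel φ (isLocalizingOn_of_isQuasicoherent M U.2)
      (isLocalizingOn_of_isQuasicoherent N U.2)

/-- `O_X / I = i_* O_Z` is quasi-coherent. -/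
instance isQuasicoherent_quotMod (I : X.IdealSheafData) : (ClSub.quotMod I).IsQuasicoherent := by
  have := Groth.Agent.Lib.StructureModule.isQuasicoherent_structureModule I.subscheme
  exact isQuasicoherent_pushforward I.subschemeι _

/-- **The ideal sheaf, as an `O_X`-module, is quasi-coherent.** -/
instance isQuasicoherent_idealMod (I : X.IdealSheafData) : (ClSub.idealMod I).IsQuasicoherent := by
  have := Groth.Agent.Lib.StructureModule.isQuasicoherent_structureModule X
  exact isQuasicoherent_kernel (ClSub.toSubscheme I)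

end Groth.Agent.Lib.H77QCohKernel
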