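import Groth.Agent.Lib.Conormal81F
import Groth.Agent.Lib.H77QCohKernel
import Groth.Agent.Lib.H72PullbackQCoh
import Groth.Prelude.Def_OmegaPn

/-!
# helper81: sections of `i^*(𝓘)` on charts for an arbitrary ideal sheaf `𝓘`

* `idealEquiv 𝓘 hU : Γ(idealMod 𝓘, U) ≃ₗ 𝓘.ideal U` (affine `U`)
* `exists_uI'`: for affine `W ≤ i⁻¹U`, `𝓘.ideal U → Γ(i^* idealMod 𝓘, W)` is a base change along `Γ(X,U) → Γ(Z,W)`
* `exists_idealFn_eq_of_locally_mem`: a function lying locally in `𝓘` is a section of `idealMod 𝓘` (any open)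
* `map_ker_le`, `map_ker_pow_le`: a commutative square maps `f.ker^n` into `f'.ker^n`
-/

set_option autoImplicit false
set_option linter.style.haveILetI false
set_option linter.unusedSectionVars false
universe u

open CategoryTheory CategoryTheory.Limits AlgebraicGeometry TopologicalSpace Opposite

namespace Groth.Agent.Lib.GrMod81

open Groth.Agent.Lib.OmegaDer81 Groth.Agent.Lib.QCohStalk Groth.Agent.Lib.IdealMod
  Groth.Agent.Lib.UnitBaseChange Groth.Agent.Lib.Conormal81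

section chartmaps

variable {Z X : Scheme.{u}} (i : Z ⟶ X) (𝓘 : X.IdealSheafData) {U : X.Opens} {W : Z.Opens}

/-- sections of the ideal module over an affine open -/
noncomputable def idealEquiv (hU : IsAffineOpen U) :
    Γ(ClSub.idealMod 𝓘, U) ≃ₗ[Γ(X, U)] 𝓘.ideal ⟨U, hU⟩ :=
  LinearEquiv.ofBijective
    { toFun := fun s => ⟨idealFn 𝓘 U s, idealFn_mem 𝓘 ⟨U, hU⟩ s⟩
      map_add' := fun s t => Subtype.ext (idealFn_add 𝓘 s t)
      map_smul' := fun a s => Subtype.ext (idealFn_smul 𝓘 a s) }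
    ⟨fun s t h => idealFn_injective 𝓘 U (congrArg Subtype.val h), fun ⟨g, hg⟩ => by
      obtain ⟨t, ht⟩ := exists_idealFn_eq 𝓘 ⟨U, hU⟩ hg
      exact ⟨t, Subtype.ext ht⟩⟩

theorem idealEquiv_coe (hU : IsAffineOpen U) (s : Γ(ClSub.idealMod 𝓘, U)) :
    (idealEquiv 𝓘 hU s : Γ(X, U)) = idealFn 𝓘 U s := rfl

set_option backward.isDefEq.respectTransparency false in
/-- sections of `i^*(𝓘)` over a chart are the base change of the ideal. -/
theorem exists_uI' (hU : IsAffineOpen U) (hWa : IsAffineOpen W) (hW : W ≤ i ⁻¹ᵁ U) :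
    letI : Algebra Γ(X, U) Γ(Z, W) := (i.appLE U W hW).hom.toAlgebra
    letI : Module Γ(X, U) Γ((Scheme.Modules.pullback i).obj (ClSub.idealMod 𝓘), W) :=
      Module.compHom _ (i.appLE U W hW).hom
    haveI : IsScalarTower Γ(X, U) Γ(Z, W)
        Γ((Scheme.Modules.pullback i).obj (ClSub.idealMod 𝓘), W) :=
      .of_algebraMap_smul fun _ _ => rfl
    ∃ uI : 𝓘.ideal ⟨U, hU⟩ →ₗ[Γ(X, U)]
        Γ((Scheme.Modules.pullback i).obj (ClSub.idealMod 𝓘), W),
      IsBaseChange Γ(Z, W) uI ∧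
      ∀ (s : Γ(ClSub.idealMod 𝓘, U)) (x : 𝓘.ideal ⟨U, hU⟩),
        (x : Γ(X, U)) = idealFn 𝓘 U s →
          uI x = unitSecFun i (ClSub.idealMod 𝓘) hW s := by
  letI : Algebra Γ(X, U) Γ(Z, W) := (i.appLE U W hW).hom.toAlgebra
  letI : Module Γ(X, U) Γ((Scheme.Modules.pullback i).obj (ClSub.idealMod 𝓘), W) :=
    Module.compHom _ (i.appLE U W hW).hom
  haveI : IsScalarTower Γ(X, U) Γ(Z, W)
      Γ((Scheme.Modules.pullback i).obj (ClSub.idealMod 𝓘), W) :=
    .of_algebraMap_smul fun _ _ => rfl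
  haveI : (ClSub.idealMod 𝓘).IsQuasicoherent := Groth.Agent.Lib.H77QCohKernel.isQuasicoherent_idealMod 𝓘
  have hbc := isBaseChange_unitSec i (ClSub.idealMod 𝓘) hWa hU hW
  let eI := idealEquiv 𝓘 hU
  refine ⟨(unitSec i (ClSub.idealMod 𝓘) hW) ∘ₗ eI.symm.toLinearMap, ?_, ?_⟩
  · exact isBaseChange_of_equivs (unitSec i (ClSub.idealMod 𝓘) hW) hbc eI.symm
      (LinearEquiv.refl _ _) _ (fun m => rfl)
  · intro s x hx
    have : eI s = x := Subtype.ext hx.symm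
    rw [← this]
    simp only [LinearMap.coe_comp, LinearEquiv.coe_coe, Function.comp_apply,
      LinearEquiv.symm_apply_apply]
    rfl

end chartmaps

section ideal

variable {X : Scheme.{u}} (𝓘 : X.IdealSheafData)

/-- over any open, a function lying locally in the ideal is a section of the ideal sheaf -/
theorem exists_idealFn_eq_of_locally_mem (O : X.Opens) (g : Γ(X, O))
    (hg : ∀ (U : X.Opens) (hU : IsAffineOpen U) (hUO : U ≤ O), resO X hUO g ∈ 𝓘.ideal ⟨U, hU⟩) :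
    ∃ t : Γ(ClSub.idealMod 𝓘, O), idealFn 𝓘 O t = g := by
  let ι := {U : X.affineOpens // U.1 ≤ O}
  let V : ι → X.Opens := fun U => U.1.1
  have hV : ∀ a, V a ≤ O := fun a => a.2
  have hcov : O ≤ ⨆ a, V a := by
    intro x hx
    obtain ⟨U, hU, hxU, hUO⟩ := Opens.isBasis_iff_nbhd.mp X.isBasis_affineOpens hx
    exact Opens.mem_iSup.mpr ⟨⟨⟨U, hU⟩, hUO⟩, hxU⟩
  have hloc : ∀ a : ι, ∃ t : Γ(ClSub.idealMod 𝓘, V a), idealFn 𝓘 (V a) t = resO X (hV a) g := by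
    intro a
    exact exists_idealFn_eq 𝓘 a.1 (hg a.1.1 a.1.2 a.2)
  choose tt htt using hloc
  obtain ⟨t, ht⟩ := Groth.Agent.Lib.H90OXModQcqs.exists_glue (ClSub.idealMod 𝓘) O V hV hcov tt
    (by
      intro a b
      apply idealFn_injective 𝓘
      change idealFn 𝓘 _ ((ClSub.idealMod 𝓘).presheaf.map (homOfLE _).op (tt a)) =
        idealFn 𝓘 _ ((ClSub.idealMod 𝓘).presheaf.map (homOfLE _).op (tt b))
      rw [idealFn_map, idealFn_map, htt, htt]
      change resO X _ (resO X _ g) = resO X _ (resO X _ g)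
      rw [resO_resO, resO_resO])
  refine ⟨t, ?_⟩
  refine TopCat.Sheaf.eq_of_locally_eq' X.sheaf V O (fun a => homOfLE (hV a)) hcov _ _ ?_
  intro a
  have h1 := idealFn_map 𝓘 (hV a) t
  have h2 : (ClSub.idealMod 𝓘).presheaf.map (homOfLE (hV a)).op t = tt a := ht a
  rw [h2, htt] at h1
  exact h1.symm

end ideal

section square

variable {Y X Y' X' : Scheme.{u}} (f : Y ⟶ X) (v : X' ⟶ X) (u : Y' ⟶ Y) (f' : Y' ⟶ X')
  (hcomm : u ≫ f = f' ≫ v) [QuasiCompact f] [QuasiCompact f']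

include hcomm in
theorem map_ker_le {U : X.Opens} {U' : X'.Opens} (hU : IsAffineOpen U) (hU' : IsAffineOpen U')
    (hle : U' ≤ v ⁻¹ᵁ U) (x : Γ(X, U)) (hx : x ∈ f.ker.ideal ⟨U, hU⟩) :
    (v.appLE U U' hle).hom x ∈ f'.ker.ideal ⟨U', hU'⟩ := by
  rw [Scheme.Hom.ker_apply, RingHom.mem_ker] at hx ⊢
  have h1 : (v.appLE U U' hle ≫ f'.app U') =
      f.app U ≫ u.appLE (f ⁻¹ᵁ U) (f' ⁻¹ᵁ U') (by
        rw [← Scheme.Hom.comp_preimage, hcomm, Scheme.Hom.comp_preimage]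
        exact f'.preimage_mono hle) := by
    rw [Scheme.Hom.app_eq_appLE, Scheme.Hom.app_eq_appLE, Scheme.Hom.appLE_comp_appLE,
      Scheme.Hom.appLE_comp_appLE]
    congr 1
    exact hcomm.symm
  have h2 := congr($h1 x)
  simp only [CommRingCat.comp_apply] at h2
  rw [h2, hx, map_zero]

include hcomm in
theorem map_ker_pow_le (n : ℕ) {U : X.Opens} {U' : X'.Opens} (hU : IsAffineOpen U)
    (hU' : IsAffineOpen U')
    (hle : U' ≤ v ⁻¹ᵁ U) (x : Γ(X, U)) (hx : x ∈ (f.ker ^ n).ideal ⟨U, hU⟩) :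
    (v.appLE U U' hle).hom x ∈ (f'.ker ^ n).ideal ⟨U', hU'⟩ := by
  change x ∈ (f.ker.ideal ⟨U, hU⟩) ^ n at hx
  change _ ∈ (f'.ker.ideal ⟨U', hU'⟩) ^ n
  have h1 : Ideal.map (v.appLE U U' hle).hom (f.ker.ideal ⟨U, hU⟩) ≤ f'.ker.ideal ⟨U', hU'⟩ := by
    rw [Ideal.map_le_iff_le_comap]
    intro y hy
    exact map_ker_le f v u f' hcomm hU hU' hle y hy
  have h2 := Ideal.mem_map_of_mem (v.appLE U U' hle).hom hx
  rw [Ideal.map_pow] at h2
  exact Ideal.pow_right_mono h1 n h2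

end square

end Groth.Agent.Lib.GrMod81
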