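import Groth.Agent.Lib.H72RelFPBaseChange
import Mathlib.RingTheory.TensorProduct.MvPolynomial

/-!
# helper72: relative finite presentation and arbitrary base change (pushout squares)

* `surjective_of_isPushout`, `ker_of_isPushout`: pushout of a surjection.
* `RelFPHom.baseChange_of_isPushout`: `N` f.p. relative to `A` through `A → B`, `B' = A' ⊗_A B`
  ⟹ `B' ⊗_B N` f.p. relative to `A'`.
-/

set_option autoImplicit false
set_option linter.style.haveILetI false
universe u

namespace Groth.Agent.Lib.H72RelFP

open Groth.Agent.Lib.RelFP TensorProduct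

section Pushout

variable {P P' B B' : Type*} [CommRing P] [CommRing P'] [CommRing B] [CommRing B']
  [Algebra P P'] [Algebra P B] [Algebra P' B'] [Algebra B B'] [Algebra P B']
  [IsScalarTower P P' B'] [IsScalarTower P B B']

/-- In a pushout square with `P → B` surjective, `P' → B'` is surjective. -/
theorem surjective_of_isPushout [Algebra.IsPushout P B P' B']
    (hPB : Function.Surjective (algebraMap P B)) : Function.Surjective (algebraMap P' B') := by
  have h : IsBaseChange B (IsScalarTower.toAlgHom P P' B').toLinearMap :=
    Algebra.IsPushout.out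
  exact IsBaseChange.surjective_of_surjective hPB _ h

/-- In a pushout square with `P → B` surjective, the kernel of `P' → B'` is generated by the kernel
of `P → B`. -/
theorem ker_of_isPushout [Algebra.IsPushout P B P' B']
    (hPB : Function.Surjective (algebraMap P B)) :
    RingHom.ker (algebraMap P' B') =
      Ideal.map (algebraMap P P') (RingHom.ker (algebraMap P B)) := by
  have h : IsBaseChange B (IsScalarTower.toAlgHom P P' B').toLinearMap :=
    Algebra.IsPushout.out
  have hk := IsBaseChange.ker_eq_smul_top hPB _ h
  rw [Ideal.smul_top_eq_map] at hk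
  ext x
  have : x ∈ LinearMap.ker (IsScalarTower.toAlgHom P P' B').toLinearMap ↔
      x ∈ (Ideal.map (algebraMap P P') (RingHom.ker (algebraMap P B))).restrictScalars P := by
    rw [hk]
  simpa using this

end Pushout


section BaseChange

attribute [local instance] MvPolynomial.algebraMvPolynomial

/-- **Arbitrary base change**: in a pushout square `A → B`, `A → A'`, `B' = A' ⊗_A B`, if `N` is
finitely presented relative to `A` then `B' ⊗_B N` is finitely presented relative to `A'`. -/
theorem RelFPHom.baseChange_of_isPushout {A A' B B' : Type*} [CommRing A] [CommRing A']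
    [CommRing B] [CommRing B'] [Algebra A A'] [Algebra A B] [Algebra A' B'] [Algebra B B']
    [Algebra A B'] [IsScalarTower A A' B'] [IsScalarTower A B B'] [hPO : Algebra.IsPushout A B A' B']
    {N N' : Type*} [AddCommGroup N] [Module B N] [AddCommGroup N'] [Module B' N'] [Module B N']
    [IsScalarTower B B' N'] (θ : N →ₗ[B] N') (hθ : IsBaseChange B' θ)
    (h : RelFPHom (algebraMap A B) N) : RelFPHom (algebraMap A' B') N' := by
  obtain ⟨n, β, hβC, hβ, hfp⟩ := h
  let β' : MvPolynomial (Fin n) A' →+* B' :=
    MvPolynomial.eval₂Hom (algebraMap A' B') (fun i => algebraMap B B' (β (MvPolynomial.X i)))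
  have hβ'C : β'.comp MvPolynomial.C = algebraMap A' B' := by
    ext a
    simp [β']
  have hβC' : ∀ a : A, β (MvPolynomial.C a) = algebraMap A B a := fun a =>
    RingHom.congr_fun hβC a
  have hcomp : β'.comp (MvPolynomial.map (algebraMap A A')) = (algebraMap B B').comp β := by
    apply MvPolynomial.ringHom_ext
    · intro a
      simp only [RingHom.comp_apply, MvPolynomial.map_C, β', MvPolynomial.coe_eval₂Hom,
        MvPolynomial.eval₂_C]
      rw [hβC', ← IsScalarTower.algebraMap_apply, ← IsScalarTower.algebraMap_apply]
    · intro i
      simp [β']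
  -- algebra instances
  letI : Algebra (MvPolynomial (Fin n) A) B := β.toAlgebra
  letI : Algebra (MvPolynomial (Fin n) A') B' := β'.toAlgebra
  letI : Algebra (MvPolynomial (Fin n) A) B' := ((algebraMap B B').comp β).toAlgebra
  haveI : IsScalarTower (MvPolynomial (Fin n) A) B B' := IsScalarTower.of_algebraMap_eq fun _ => rfl
  haveI : IsScalarTower (MvPolynomial (Fin n) A) (MvPolynomial (Fin n) A') B' :=
    IsScalarTower.of_algebraMap_eq fun p => (RingHom.congr_fun hcomp p).symm
  haveI : IsScalarTower A (MvPolynomial (Fin n) A) B :=
    IsScalarTower.of_algebraMap_eq fun a => (hβC' a).symm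
  haveI : IsScalarTower A' (MvPolynomial (Fin n) A') B' :=
    IsScalarTower.of_algebraMap_eq fun a => (RingHom.congr_fun hβ'C a).symm
  haveI : IsScalarTower A (MvPolynomial (Fin n) A') B' :=
    IsScalarTower.of_algebraMap_eq fun a => by
      rw [IsScalarTower.algebraMap_apply A A' B',
        IsScalarTower.algebraMap_apply A' (MvPolynomial (Fin n) A') B',
        ← IsScalarTower.algebraMap_apply A A' (MvPolynomial (Fin n) A')]
  haveI : IsScalarTower A (MvPolynomial (Fin n) A) B' :=
    IsScalarTower.of_algebraMap_eq fun a => by
      rw [IsScalarTower.algebraMap_apply A B B',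
        IsScalarTower.algebraMap_apply A (MvPolynomial (Fin n) A) B,
        ← IsScalarTower.algebraMap_apply (MvPolynomial (Fin n) A) B B']
  haveI : Algebra.IsPushout (MvPolynomial (Fin n) A) B (MvPolynomial (Fin n) A') B' :=
    (Algebra.IsPushout.comp_iff A (MvPolynomial (Fin n) A) A' (S' := MvPolynomial (Fin n) A')
      (T := B) (T' := B')).mp hPO
  have hsurjPB : Function.Surjective (algebraMap (MvPolynomial (Fin n) A) B) := hβ
  have hβ' : Function.Surjective β' := surjective_of_isPushout (P := MvPolynomial (Fin n) A)
    (P' := MvPolynomial (Fin n) A') (B := B) (B' := B') hsurjPB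
  have hker := ker_of_isPushout (P := MvPolynomial (Fin n) A)
    (P' := MvPolynomial (Fin n) A') (B := B) (B' := B') hsurjPB
  refine ⟨n, β', hβ'C, hβ', ?_⟩
  -- module instances
  letI : Module (MvPolynomial (Fin n) A) N := Module.compHom N β
  haveI : IsScalarTower (MvPolynomial (Fin n) A) B N :=
    IsScalarTower.of_algebraMap_smul fun _ _ => rfl
  letI : Module (MvPolynomial (Fin n) A') N' := Module.compHom N' β'
  haveI : IsScalarTower (MvPolynomial (Fin n) A') B' N' :=
    IsScalarTower.of_algebraMap_smul fun _ _ => rfl
  letI : Module (MvPolynomial (Fin n) A) N' := Module.compHom N' β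
  haveI : IsScalarTower (MvPolynomial (Fin n) A) B N' :=
    IsScalarTower.of_algebraMap_smul fun _ _ => rfl
  haveI : IsScalarTower (MvPolynomial (Fin n) A) B' N' :=
    IsScalarTower.of_algebraMap_smul fun p y => by
      change algebraMap B B' (β p) • y = β p • y
      rw [algebraMap_smul]
  haveI : IsScalarTower (MvPolynomial (Fin n) A) (MvPolynomial (Fin n) A') N' :=
    IsScalarTower.of_algebraMap_smul fun p y => by
      change β' (MvPolynomial.map (algebraMap A A') p) • y = β p • y
      have := RingHom.congr_fun hcomp p
      simp only [RingHom.comp_apply] at this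
      rw [this, algebraMap_smul]
  haveI : Module.FinitePresentation (MvPolynomial (Fin n) A) N := hfp
  exact finitePresentation_of_isBaseChange_of_ker (P := MvPolynomial (Fin n) A)
    (T := MvPolynomial (Fin n) A') (B := B) (C := B') hβ hβ' ⊥ Submodule.fg_bot
    (by rw [hker, bot_sup_eq]) θ hθ

end BaseChange

end Groth.Agent.Lib.H72RelFP
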