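import Groth.Agent.Lib.OmegaDer81F
import Mathlib.AlgebraicGeometry.Morphisms.Flat

/-!
# helper81: Kähler differentials of a tensor product (ring level)

For a pushout `P = B ⊗[A] C`: the map `(P ⊗[B] Ω[B/A]) × (P ⊗[C] Ω[C/A]) → Ω[P/A]` is bijective
(`eq_zero_of_add_mapBaseChange_eq_zero`, `exists_add_mapBaseChange_eq`).
Also: product charts of a pullback square of schemes (`isAffineOpen_pullbackChart`,
`isPushout_pullbackChart`, `algebraIsPushout_pullbackChart`).
-/

set_option autoImplicit false
set_option linter.style.haveILetI false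
universe u

open TensorProduct KaehlerDifferential

namespace Groth.Agent.Lib.OmegaDer81

section

variable {A B P : Type u} [CommRing A] [CommRing B] [CommRing P] [Algebra A B] [Algebra B P]

/-- `P`-linear maps out of `P ⊗[B] Ω[B/A]` agreeing on the `p ⊗ D b` are equal. -/
theorem tensor_linearMap_ext_D {N : Type*} [AddCommGroup N] [Module P N] [Module B N]
    [IsScalarTower B P N]
    (L L' : P ⊗[B] Ω[B⁄A] →ₗ[P] N) (h : ∀ (p : P) (b : B), L (p ⊗ₜ D A B b) = L' (p ⊗ₜ D A B b)) :
    L = L' := by
  have key : ∀ x : P, (L.restrictScalars B) ∘ₗ (TensorProduct.mk B P Ω[B⁄A] x) =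
      (L'.restrictScalars B) ∘ₗ (TensorProduct.mk B P Ω[B⁄A] x) :=
    fun x => linearMap_ext_D _ _ fun b => h x b
  refine LinearMap.ext fun t => ?_
  induction t using TensorProduct.induction_on with
  | zero => simp
  | tmul x y => exact LinearMap.congr_fun (key x) y
  | add x y hx hy => rw [map_add, map_add, hx, hy]

end

section prod

variable {A B C P : Type u} [CommRing A] [CommRing B] [CommRing C] [CommRing P]
  [Algebra A B] [Algebra A C] [Algebra A P] [Algebra B P] [Algebra C P]
  [IsScalarTower A B P] [IsScalarTower A C P]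

theorem map_comp_mapBaseChange [Algebra.IsPushout A B C P] :
    (KaehlerDifferential.map A B P P) ∘ₗ (KaehlerDifferential.mapBaseChange A C P) =
      (KaehlerDifferential.tensorKaehlerEquiv A B C P).toLinearMap := by
  apply tensor_linearMap_ext_D
  intro p c
  change KaehlerDifferential.map A B P P (KaehlerDifferential.mapBaseChange A C P (p ⊗ₜ D A C c)) =
    KaehlerDifferential.tensorKaehlerEquiv A B C P (p ⊗ₜ D A C c)
  rw [KaehlerDifferential.mapBaseChange_tmul, KaehlerDifferential.map_D, map_smul,
    KaehlerDifferential.map_D, KaehlerDifferential.tensorKaehlerEquiv_tmul_D]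
  rfl

theorem eq_zero_of_add_mapBaseChange_eq_zero [Algebra.IsPushout A B C P]
    (x : P ⊗[B] Ω[B⁄A]) (y : P ⊗[C] Ω[C⁄A])
    (hxy : KaehlerDifferential.mapBaseChange A B P x + KaehlerDifferential.mapBaseChange A C P y = 0) :
    x = 0 ∧ y = 0 := by
  haveI : Algebra.IsPushout A C B P := Algebra.IsPushout.symm inferInstance
  have h1 := map_comp_mapBaseChange (A := A) (B := B) (C := C) (P := P)
  have h2 := map_comp_mapBaseChange (A := A) (B := C) (C := B) (P := P)
  have e1 : ∀ x, KaehlerDifferential.map A B P P (KaehlerDifferential.mapBaseChange A B P x) = 0 :=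
    fun x => (KaehlerDifferential.exact_mapBaseChange_map A B P _).mpr ⟨x, rfl⟩
  have e2 : ∀ y, KaehlerDifferential.map A C P P (KaehlerDifferential.mapBaseChange A C P y) = 0 :=
    fun y => (KaehlerDifferential.exact_mapBaseChange_map A C P _).mpr ⟨y, rfl⟩
  have hy : y = 0 := by
    have := congrArg (KaehlerDifferential.map A B P P) hxy
    rw [map_add, e1, zero_add, map_zero] at this
    have h3 := LinearMap.congr_fun h1 y
    simp only [LinearMap.comp_apply, LinearEquiv.coe_coe] at h3
    rw [this] at h3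
    exact (LinearEquiv.map_eq_zero_iff _).mp h3.symm
  have hx : x = 0 := by
    have := congrArg (KaehlerDifferential.map A C P P) hxy
    rw [map_add, e2, add_zero, map_zero] at this
    have h3 := LinearMap.congr_fun h2 x
    simp only [LinearMap.comp_apply, LinearEquiv.coe_coe] at h3
    rw [this] at h3
    exact (LinearEquiv.map_eq_zero_iff _).mp h3.symm
  exact ⟨hx, hy⟩

theorem exists_add_mapBaseChange_eq [Algebra.IsPushout A B C P] (ω : Ω[P⁄A]) :
    ∃ (x : P ⊗[B] Ω[B⁄A]) (y : P ⊗[C] Ω[C⁄A]),
      KaehlerDifferential.mapBaseChange A B P x + KaehlerDifferential.mapBaseChange A C P y = ω := by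
  have h1 := map_comp_mapBaseChange (A := A) (B := B) (C := C) (P := P)
  let y := (KaehlerDifferential.tensorKaehlerEquiv A B C P).symm (KaehlerDifferential.map A B P P ω)
  have hy : KaehlerDifferential.map A B P P (KaehlerDifferential.mapBaseChange A C P y) =
      KaehlerDifferential.map A B P P ω := by
    have h3 := LinearMap.congr_fun h1 y
    simp only [LinearMap.comp_apply, LinearEquiv.coe_coe] at h3
    rw [h3, LinearEquiv.apply_symm_apply]
  have hker : KaehlerDifferential.map A B P P (ω - KaehlerDifferential.mapBaseChange A C P y) = 0 := by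
    rw [map_sub, hy, sub_self]
  obtain ⟨x, hx⟩ := (KaehlerDifferential.exact_mapBaseChange_map A B P _).mp hker
  exact ⟨x, y, by rw [hx]; abel⟩

end prod

section charts

open AlgebraicGeometry CategoryTheory

variable {X S X' S' : Scheme.{u}} (f : X ⟶ S) (g : S' ⟶ S) (g' : X' ⟶ X) (f' : X' ⟶ S')
    (hsq : IsPullback g' f' f g)
    {V : S.Opens} {V' : S'.Opens} {U : X.Opens}
    (hV : IsAffineOpen V) (hV' : IsAffineOpen V') (hU : IsAffineOpen U)
    (hVV' : V' ≤ g ⁻¹ᵁ V) (e : U ≤ f ⁻¹ᵁ V)

include hsq hV hV' hU hVV' e in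
/-- product charts of a fibre product are affine -/
theorem isAffineOpen_pullbackChart : IsAffineOpen (g' ⁻¹ᵁ U ⊓ f' ⁻¹ᵁ V') := by
  haveI : IsAffine (V : Scheme) := hV
  haveI : IsAffine (V' : Scheme) := hV'
  haveI : IsAffine (U : Scheme) := hU
  exact .of_isIso (Scheme.Hom.isPullback_resLE hsq hVV' e rfl).isoPullback.hom

include hsq hV hV' hU in
/-- sections over a product chart of a fibre product form a pushout of rings -/
theorem isPushout_pullbackChart :
    IsPushout (f.appLE V U e) (g.appLE V V' hVV')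
      (g'.appLE U (g' ⁻¹ᵁ U ⊓ f' ⁻¹ᵁ V') inf_le_left)
      (f'.appLE V' (g' ⁻¹ᵁ U ⊓ f' ⁻¹ᵁ V') inf_le_right) := by
  haveI := isIso_pushoutSection_of_isAffineOpen hsq hVV' e rfl hV hV' hU
  exact (isIso_pushoutSection_iff hsq hVV' e rfl).mp inferInstance

end charts

end Groth.Agent.Lib.OmegaDer81
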