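/-
helper81: base change of graded pieces Gr_n(f) = f^*(I^n) for a closed immersion f along a pullback square.
`chart_gr` (sections over product charts: surjective; bijective if the ring map is flat),
`epi_grMap` (S5952), `isIso_grMap` (S5953, v flat), `isQuasicoherent_grMod`.
-/
import Groth.Agent.Lib.Conormal81F
import Groth.Agent.Lib.H77QCohKernel
import Groth.Agent.Lib.H72RelFPPushout
import Groth.Agent.Lib.H72PullbackQCoh
import Groth.Agent.Lib.H90OXModAffineIso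
import Groth.Agent.Lib.GrMod81A
import Groth.Agent.Lib.GrMod81B
import Groth.Agent.Lib.OmegaDer81G
import Groth.Prelude.Def_OmegaPn

set_option autoImplicit false
set_option linter.style.haveILetI false
set_option linter.unusedSectionVars false
universe u

open CategoryTheory CategoryTheory.Limits AlgebraicGeometry TopologicalSpace Opposite

namespace Groth.Agent.Lib.GrMod81

open Groth.Agent.Lib.OmegaDer81 Groth.Agent.Lib.QCohStalk Groth.Agent.Lib.IdealMod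
  Groth.Agent.Lib.UnitBaseChange Groth.Agent.Lib.Conormal81 Groth.Agent.Lib.H90OXModSections

section chart

variable {Y X Y' X' : Scheme.{u}} (f : Y ⟶ X) (v : X' ⟶ X) (u : Y' ⟶ Y) (f' : Y' ⟶ X')
  (hsq : IsPullback u f' f v) [QuasiCompact f] [QuasiCompact f'] (n : ℕ)
  (φ : (Scheme.Modules.pullback u).obj (PrinPart.grMod f n) ⟶ PrinPart.grMod f' n)
  (hφ : PrinPart.IsGrMap f' f v u n φ)

include hsq in
theorem preimage_le {U : X.Opens} {U' : X'.Opens} (hle : U' ≤ v ⁻¹ᵁ U) :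
    f' ⁻¹ᵁ U' ≤ u ⁻¹ᵁ (f ⁻¹ᵁ U) := by
  rw [← Scheme.Hom.comp_preimage, hsq.w, Scheme.Hom.comp_preimage]
  exact f'.preimage_mono hle

include hsq hφ in
set_option backward.isDefEq.respectTransparency false in
set_option maxHeartbeats 1600000 in
theorem chart_gr {U : X.Opens} {U' : X'.Opens}
    (hU : IsAffineOpen U) (hU' : IsAffineOpen U') (hle : U' ≤ v ⁻¹ᵁ U)
    (hWa : IsAffineOpen (f ⁻¹ᵁ U))
    (hfs : Function.Surjective (f.app U).hom) :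
    Function.Surjective (φ.app (u ⁻¹ᵁ (f ⁻¹ᵁ U) ⊓ f' ⁻¹ᵁ U')) ∧
      ((v.appLE U U' hle).hom.Flat → Function.Bijective (φ.app (u ⁻¹ᵁ (f ⁻¹ᵁ U) ⊓ f' ⁻¹ᵁ U'))) := by
  have hW'a : IsAffineOpen (u ⁻¹ᵁ (f ⁻¹ᵁ U) ⊓ f' ⁻¹ᵁ U') :=
    isAffineOpen_pullbackChart f v u f' hsq hU hU' hWa hle le_rfl
  have hW' : f' ⁻¹ᵁ U' = u ⁻¹ᵁ (f ⁻¹ᵁ U) ⊓ f' ⁻¹ᵁ U' :=
    (inf_eq_right.mpr (preimage_le f v u f' hsq hle)).symm
  generalize hW'def : u ⁻¹ᵁ (f ⁻¹ᵁ U) ⊓ f' ⁻¹ᵁ U' = W' at hW' hW'a ⊢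
  have hW'W : W' ≤ u ⁻¹ᵁ (f ⁻¹ᵁ U) := hW'def ▸ inf_le_left
  have hWf : f ⁻¹ᵁ U ≤ f ⁻¹ᵁ U := le_rfl
  -- algebra structures
  letI algBA : Algebra Γ(X, U) Γ(Y, f ⁻¹ᵁ U) := (f.appLE U (f ⁻¹ᵁ U) hWf).hom.toAlgebra
  letI algBB' : Algebra Γ(X, U) Γ(X', U') := (v.appLE U U' hle).hom.toAlgebra
  letI algAA' : Algebra Γ(Y, f ⁻¹ᵁ U) Γ(Y', W') := (u.appLE (f ⁻¹ᵁ U) W' hW'W).hom.toAlgebra
  letI algB'A' : Algebra Γ(X', U') Γ(Y', W') := (f'.appLE U' W' hW'.ge).hom.toAlgebra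
  letI algBA' : Algebra Γ(X, U) Γ(Y', W') :=
    ((algebraMap Γ(X', U') Γ(Y', W')).comp (algebraMap Γ(X, U) Γ(X', U'))).toAlgebra
  haveI towerB' : IsScalarTower Γ(X, U) Γ(X', U') Γ(Y', W') := .of_algebraMap_eq' rfl
  haveI towerA : IsScalarTower Γ(X, U) Γ(Y, f ⁻¹ᵁ U) Γ(Y', W') := by
    apply IsScalarTower.of_algebraMap_eq'
    have h1 := Scheme.Hom.appLE_comp_appLE u f U (f ⁻¹ᵁ U) W' hWf hW'W
    have h2 := Scheme.Hom.appLE_comp_appLE f' v U U' W' hle hW'.ge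
    have h3 : (u ≫ f).appLE U W' (by rw [Scheme.Hom.comp_preimage]; exact hW'W) =
        (f' ≫ v).appLE U W' (by rw [Scheme.Hom.comp_preimage]; exact hW'.ge.trans (f'.preimage_mono hle)) := by
      congr 1
      exact hsq.w
    change ((f'.appLE U' W' hW'.ge).hom.comp (v.appLE U U' hle).hom) =
      ((u.appLE (f ⁻¹ᵁ U) W' hW'W).hom.comp (f.appLE U (f ⁻¹ᵁ U) hWf).hom)
    rw [← CommRingCat.hom_comp, ← CommRingCat.hom_comp, h1, h2, h3]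
  haveI hPO : Algebra.IsPushout Γ(X, U) Γ(Y, f ⁻¹ᵁ U) Γ(X', U') Γ(Y', W') := by
    subst hW'def
    have hpo := isPushout_pullbackChart f v u f' hsq hU hU' hWa hle hWf
    exact CommRingCat.isPushout_iff_isPushout.mp hpo
  -- the modules
  let G : Y.Modules := (Scheme.Modules.pullback f).obj (ClSub.idealMod (f.ker ^ n))
  let G' : Y'.Modules := (Scheme.Modules.pullback f').obj (ClSub.idealMod (f'.ker ^ n))
  let φ' : (Scheme.Modules.pullback u).obj G ⟶ G' := φ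
  haveI : (ClSub.idealMod (f.ker ^ n)).IsQuasicoherent :=
    Groth.Agent.Lib.H77QCohKernel.isQuasicoherent_idealMod _
  haveI : G.IsQuasicoherent := inferInstance
  letI modBM₁ : Module Γ(X, U) Γ(G, f ⁻¹ᵁ U) := Module.compHom _ (f.appLE U (f ⁻¹ᵁ U) hWf).hom
  haveI : IsScalarTower Γ(X, U) Γ(Y, f ⁻¹ᵁ U) Γ(G, f ⁻¹ᵁ U) := .of_algebraMap_smul fun _ _ => rfl
  letI modAM₁' : Module Γ(Y, f ⁻¹ᵁ U) Γ((Scheme.Modules.pullback u).obj G, W') :=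
    Module.compHom _ (u.appLE (f ⁻¹ᵁ U) W' hW'W).hom
  haveI : IsScalarTower Γ(Y, f ⁻¹ᵁ U) Γ(Y', W') Γ((Scheme.Modules.pullback u).obj G, W') :=
    .of_algebraMap_smul fun _ _ => rfl
  letI modBM₁' : Module Γ(X, U) Γ((Scheme.Modules.pullback u).obj G, W') :=
    Module.compHom _ (algebraMap Γ(X, U) Γ(Y', W'))
  haveI : IsScalarTower Γ(X, U) Γ(Y', W') Γ((Scheme.Modules.pullback u).obj G, W') :=
    .of_algebraMap_smul fun _ _ => rfl
  haveI : IsScalarTower Γ(X, U) Γ(Y, f ⁻¹ᵁ U) Γ((Scheme.Modules.pullback u).obj G, W') := by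
    apply IsScalarTower.of_algebraMap_smul
    intro b m
    change algebraMap Γ(Y, f ⁻¹ᵁ U) Γ(Y', W') (algebraMap Γ(X, U) Γ(Y, f ⁻¹ᵁ U) b) • m =
      algebraMap Γ(X, U) Γ(Y', W') b • m
    rw [← IsScalarTower.algebraMap_apply]
  letI modB'M₂ : Module Γ(X', U') Γ(G', W') := Module.compHom _ (f'.appLE U' W' hW'.ge).hom
  haveI : IsScalarTower Γ(X', U') Γ(Y', W') Γ(G', W') := .of_algebraMap_smul fun _ _ => rfl
  letI modBM₂ : Module Γ(X, U) Γ(G', W') := Module.compHom _ (algebraMap Γ(X, U) Γ(Y', W'))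
  haveI : IsScalarTower Γ(X, U) Γ(Y', W') Γ(G', W') := .of_algebraMap_smul fun _ _ => rfl
  haveI : IsScalarTower Γ(X, U) Γ(X', U') Γ(G', W') := .of_algebraMap_smul fun _ _ => rfl
  obtain ⟨θ₁, h₁, hθ₁⟩ := exists_uI' f (f.ker ^ n) hU hWa hWf
  obtain ⟨θ₂, h₂, hθ₂⟩ := exists_uI' f' (f'.ker ^ n) hU' hW'a hW'.ge
  have h₁' := isBaseChange_unitSec u G hW'a hWa hW'W
  have hBA : Function.Surjective (algebraMap Γ(X, U) Γ(Y, f ⁻¹ᵁ U)) :=
    appLE_surjective_of_eq f hfs rfl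
  -- ideals
  have hI : f.ker.ideal ⟨U, hU⟩ = RingHom.ker (algebraMap Γ(X, U) Γ(Y, f ⁻¹ᵁ U)) := by
    rw [Scheme.Hom.ker_apply]
    exact (Groth.Agent.Lib.H77OmegaSections.ker_appLE_eq f rfl).symm
  have hI' : f'.ker.ideal ⟨U', hU'⟩ = RingHom.ker (algebraMap Γ(X', U') Γ(Y', W')) := by
    rw [Scheme.Hom.ker_apply]
    exact (Groth.Agent.Lib.H77OmegaSections.ker_appLE_eq f' hW').symm
  have hker := Groth.Agent.Lib.H72RelFP.ker_of_isPushout (P := Γ(X, U)) (B := Γ(Y, f ⁻¹ᵁ U))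
    (P' := Γ(X', U')) (B' := Γ(Y', W')) hBA
  have hJ : (f'.ker ^ n).ideal ⟨U', hU'⟩ =
      ((f.ker ^ n).ideal ⟨U, hU⟩).map (algebraMap Γ(X, U) Γ(X', U')) := by
    change (f'.ker.ideal ⟨U', hU'⟩) ^ n = ((f.ker.ideal ⟨U, hU⟩) ^ n).map _
    rw [Ideal.map_pow, hI, hI', hker]
  -- compatibility
  have hcompat : ∀ x : (f.ker ^ n).ideal ⟨U, hU⟩,
      (appLin φ' W') (unitSec u G hW'W (θ₁ x)) =
        θ₂ (idealMapLin ((f.ker ^ n).ideal ⟨U, hU⟩) ((f'.ker ^ n).ideal ⟨U', hU'⟩) hJ.ge x) := by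
    intro x
    obtain ⟨s', hs'⟩ : ∃ s' : Γ(ClSub.idealMod (f.ker ^ n), U),
        idealFn (f.ker ^ n) U s' = x :=
      ⟨(idealEquiv (f.ker ^ n) hU).symm x,
        congrArg Subtype.val ((idealEquiv (f.ker ^ n) hU).apply_symm_apply x)⟩
    obtain ⟨s, hs⟩ : ∃ s : Γ(ClSub.idealMod (f'.ker ^ n), v ⁻¹ᵁ U),
        idealFn (f'.ker ^ n) (v ⁻¹ᵁ U) s = (v.app U).hom x := by
      apply exists_idealFn_eq_of_locally_mem
      intro U'' hU'' hU''le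
      exact map_ker_pow_le f v u f' hsq.w n hU hU'' hU''le x x.2
    have hss : OmegaSh.idealSect (f'.ker ^ n) (v ⁻¹ᵁ U) s =
        v.app U (OmegaSh.idealSect (f.ker ^ n) U s') := by
      rw [idealSect_eq_idealFn, idealSect_eq_idealFn, hs, hs']
    have h₂' : W' ≤ f' ⁻¹ᵁ (v ⁻¹ᵁ U) := hW'.ge.trans (f'.preimage_mono hle)
    have key := hφ.2 U s' s hss W' hW'W h₂'
    have hL : (appLin φ' W') (unitSec u G hW'W (θ₁ x)) =
        (PrinPart.grMod f' n).presheaf.map (homOfLE hW'W).op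
          (φ.app (u ⁻¹ᵁ (f ⁻¹ᵁ U))
            (OmegaSh.pullSect u (PrinPart.grMod f n) (f ⁻¹ᵁ U) (PrinPart.grSect f n U s'))) := by
      rw [hθ₁ s' x hs'.symm, appLin_apply]
      have e1 : unitSecFun f (ClSub.idealMod (f.ker ^ n)) hWf s' = PrinPart.grSect f n U s' := by
        rw [unitSecFun_eq]
        exact res_self _ _
      rw [e1]
      exact hom_app_res' φ' hW'W _
    rw [hL, key]
    have hx' : ((idealMapLin ((f.ker ^ n).ideal ⟨U, hU⟩) ((f'.ker ^ n).ideal ⟨U', hU'⟩) hJ.ge x :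
        (f'.ker ^ n).ideal ⟨U', hU'⟩) : Γ(X', U')) =
        idealFn (f'.ker ^ n) U' (res (ClSub.idealMod (f'.ker ^ n)) hle s) := by
      rw [idealMapLin_coe]
      have := idealFn_map (f'.ker ^ n) hle s
      rw [hs] at this
      exact this.symm
    rw [hθ₂ _ _ hx', unitSecFun_res]
    rfl
  constructor
  · exact gr_surjective ((f.ker ^ n).ideal ⟨U, hU⟩) ((f'.ker ^ n).ideal ⟨U', hU'⟩) hJ
      (fun x => unitSec u G hW'W (θ₁ x)) θ₂ h₂ (appLin φ' W') hcompat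
  · intro hflat
    haveI : Module.Flat Γ(X, U) Γ(X', U') := hflat
    exact gr_bijective ((f.ker ^ n).ideal ⟨U, hU⟩) ((f'.ker ^ n).ideal ⟨U', hU'⟩) hJ
      θ₁ h₁ (unitSec u G hW'W) h₁' θ₂ h₂ (appLin φ' W') hcompat

end chart

section global

variable {Y X Y' X' : Scheme.{u}} (f : Y ⟶ X) [IsClosedImmersion f] (v : X' ⟶ X) (u : Y' ⟶ Y)
  (f' : Y' ⟶ X') (hsq : IsPullback u f' f v) (n : ℕ)
  (φ : (Scheme.Modules.pullback u).obj (PrinPart.grMod f n) ⟶ PrinPart.grMod f' n)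
  (hφ : PrinPart.IsGrMap f' f v u n φ)

instance isQuasicoherent_grMod {Y X : Scheme.{u}} (f : Y ⟶ X) (n : ℕ) :
    (PrinPart.grMod f n).IsQuasicoherent := by
  haveI : (ClSub.idealMod (f.ker ^ n)).IsQuasicoherent :=
    Groth.Agent.Lib.H77QCohKernel.isQuasicoherent_idealMod _
  exact inferInstanceAs
    ((Scheme.Modules.pullback f).obj (ClSub.idealMod (f.ker ^ n))).IsQuasicoherent

include hsq hφ in
theorem epi_grMap : Epi φ := by
  haveI : IsClosedImmersion f' := MorphismProperty.of_isPullback hsq ‹IsClosedImmersion f›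
  refine epi_of_locally_surjective' φ fun O s y' hy' => ?_
  obtain ⟨_, ⟨U₀, hU₀, rfl⟩, hyU₀, -⟩ :=
    X.isBasis_affineOpens.exists_subset_of_mem_open (Set.mem_univ (v (f' y'))) isOpen_univ
  obtain ⟨U', hU'g, hyU', hU'O, hU'le⟩ := exists_goodChart' f' y' O (v ⁻¹ᵁ U₀) hy' hyU₀
  have hWa : IsAffineOpen (f ⁻¹ᵁ U₀) := hU₀.preimage f
  have hch := (chart_gr f v u f' hsq n φ hφ hU₀ hU'g.1 hU'le hWa (f.app_surjective U₀ hU₀)).1
  have hle : u ⁻¹ᵁ (f ⁻¹ᵁ U₀) ⊓ f' ⁻¹ᵁ U' ≤ O := inf_le_right.trans hU'O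
  refine ⟨u ⁻¹ᵁ (f ⁻¹ᵁ U₀) ⊓ f' ⁻¹ᵁ U', hle, ⟨?_, hyU'⟩, hch _⟩
  exact preimage_le f v u f' hsq hU'le hyU'

include hsq hφ in
theorem isIso_grMap [Flat v] : IsIso φ := by
  haveI : IsClosedImmersion f' := MorphismProperty.of_isPullback hsq ‹IsClosedImmersion f›
  haveI : ((Scheme.Modules.pullback u).obj (PrinPart.grMod f n)).IsQuasicoherent := inferInstance
  let ι := {p : X.Opens × X'.Opens // IsAffineOpen p.1 ∧ IsAffineOpen p.2 ∧ p.2 ≤ v ⁻¹ᵁ p.1}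
  refine Groth.Agent.Lib.H90OXModAffineIso.isIso_of_bijective_app_affine_cover φ
    (fun p : ι => u ⁻¹ᵁ (f ⁻¹ᵁ p.1.1) ⊓ f' ⁻¹ᵁ p.1.2) ?_
    (fun p => isAffineOpen_pullbackChart f v u f' hsq p.2.1 p.2.2.1 (p.2.1.preimage f) p.2.2.2 le_rfl)
    (fun p => (chart_gr f v u f' hsq n φ hφ p.2.1 p.2.2.1 p.2.2.2 (p.2.1.preimage f)
      (f.app_surjective _ p.2.1)).2 (Flat.flat_appLE v p.2.1 p.2.2.1 p.2.2.2))
  rw [eq_top_iff]
  intro y' _
  obtain ⟨_, ⟨U₀, hU₀, rfl⟩, hyU₀, -⟩ :=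
    X.isBasis_affineOpens.exists_subset_of_mem_open (Set.mem_univ (v (f' y'))) isOpen_univ
  obtain ⟨_, ⟨U', hU', rfl⟩, hyU', hU'le⟩ :=
    X'.isBasis_affineOpens.exists_subset_of_mem_open (show f' y' ∈ v ⁻¹ᵁ U₀ from hyU₀)
      (v ⁻¹ᵁ U₀).isOpen
  refine Opens.mem_iSup.mpr ⟨⟨(U₀, U'), hU₀, hU', hU'le⟩, ⟨?_, hyU'⟩⟩
  exact preimage_le f v u f' hsq hU'le hyU'

end global

end Groth.Agent.Lib.GrMod81
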