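import Groth.Agent.Lib.H78GlobGen2
import Groth.Agent.Lib.OXModTensor

set_option autoImplicit false
universe u
open CategoryTheory CategoryTheory.Limits AlgebraicGeometry MonoidalCategory Opposite TopologicalSpace
open Groth.Agent.Lib.H90Invertible Groth.Agent.Lib.StructureModule Groth.Agent.Lib.H78TensorGen
open Groth.Agent.Lib.H78SecCoord Groth.Agent.Lib.H78Atlas Groth.Agent.Lib.H78KeyLemma Groth.Agent.Lib.H78AtlasOps
open Groth.Agent.Lib.H78KeyLemma2 Groth.Agent.Lib.H78AmpleBasis Groth.Agent.Lib.H78SecAdd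
open Groth.Agent.Lib.H78GlobGen Groth.Agent.Lib.H78GlobGen2

namespace Groth.Agent.Lib.H78AmpleTwist

variable {X : Scheme.{u}}

lemma isGloballyGenerated_of_iso {M N : X.Modules} (e : M ≅ N) (h : Curv2.IsGloballyGenerated M) :
    Curv2.IsGloballyGenerated N := by
  obtain ⟨ι, p, hp⟩ := h
  exact ⟨ι, p ≫ e.hom, epi_comp _ _⟩

/-- **EGA II 4.5.7-style**: for `L` ample and `L'` invertible on a quasi-compact scheme, `L^n ⊗ L'` is ample and
globally generated for all large `n`. -/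
theorem isAmple_and_isGloballyGenerated_twist [CompactSpace X] {L L' : X.Modules} (hL : CohB1.IsAmple L)
    (hL' : PicF.IsInvertible L') :
    ∃ n₀ : ℕ, 0 < n₀ ∧ ∀ n, n₀ ≤ n →
      CohB1.IsAmple (CohB1.tensorMod (CohB1.tensorPow L n) L') ∧
        Curv2.IsGloballyGenerated (CohB1.tensorMod (CohB1.tensorPow L n) L') := by
  obtain ⟨n₁, hn₁⟩ := isGloballyGenerated_twist hL L' (isCoh_of_isInvertible hL')
  choose a s hx haff using hL.2.2
  obtain ⟨t, ht⟩ := isCompact_univ.elim_finite_subcover (fun y => (CohB1.genLocus _ (s y) : Set X))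
    (fun y => (CohB1.genLocus _ (s y)).2) (fun x _ => Set.mem_iUnion.2 ⟨x, hx x⟩)
  obtain ⟨V, hxV, -, ⟨A⟩, ⟨A'⟩⟩ := exists_atlas₂ hL.1 hL'
  have hV := iSup_eq_top_of_mem hxV
  refine ⟨n₁ + t.sup (fun y => a y + 1) + 1, Nat.succ_pos _, fun n hn => ⟨?_, ?_⟩⟩
  · refine isAmple_of_hasAffSec (isInvertible_tensorMod (isInvertible_tensorPow hL.1 n) hL') (fun x => ?_)
    obtain ⟨y, hy, hxy⟩ := Set.mem_iUnion₂.1 (ht (Set.mem_univ x))
    have hay : a y + 1 ≤ t.sup (fun y => a y + 1) := Finset.le_sup (f := fun y => a y + 1) hy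
    obtain ⟨N, hN⟩ : ∃ N, n = (a y + 1) + N := ⟨n - (a y + 1), by omega⟩
    have hN₁ : n₁ ≤ N := by omega
    have hinv : PicF.IsInvertible (CohB1.tensorMod L' (CohB1.tensorPow L N)) :=
      isInvertible_tensorMod hL' (isInvertible_tensorPow hL.1 N)
    obtain ⟨ρ, hρ⟩ := isBpf_of_isGloballyGenerated hinv (hn₁ N hN₁) x
    obtain ⟨τ, -, hτ⟩ := exists_sec_mul hV (A.pow (a y + 1)) (A'.tmul (A.pow N)) ((A.pow n).tmul A') 1 1 (by
      intro i j
      rw [Atlas.tmul_trans, Atlas.tmul_trans, Atlas.pow_trans, Atlas.pow_trans, Atlas.pow_trans, pow_one,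
        pow_one, hN, pow_add]
      ring) (sec (s y)) ρ
    have hτ' := hτ one_pos one_pos
    rw [ofSection_sec] at hτ'
    refine ⟨τ, hτ' ▸ ⟨hxy, hρ⟩, ?_⟩
    rw [hτ', inf_comm]
    exact isAffineOpen_genLocus_inf hinv _ (haff y)
  · have hn₁' : n₁ ≤ n := by omega
    exact isGloballyGenerated_of_iso (Groth.Agent.Lib.OXModTensor.braiding _ _) (hn₁ n hn₁')

end Groth.Agent.Lib.H78AmpleTwist
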