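import Mathlib.AlgebraicGeometry.Modules.Sheaf

/-!
# Morphisms and isomorphisms of `O_X`-modules from families of maps on sections (helper4)

* `homOfSections f add smul map : L ⟶ N` with `homOfSections_app`;
* `isoOfSections f g ... : L ≅ N`.
-/

set_option autoImplicit false
universe u
open CategoryTheory AlgebraicGeometry TopologicalSpace Opposite

namespace Groth.Agent.Lib.H4ModHom

variable {X : Scheme.{u}} {L N : X.Modules}

/-- A morphism of `O_X`-modules from a compatible family of additive, `O_X`-linear maps on sections. -/
noncomputable def homOfSections (f : ∀ U : X.Opens, Γ(L, U) → Γ(N, U))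
    (add : ∀ U a b, f U (a + b) = f U a + f U b)
    (smul : ∀ U (r : Γ(X, U)) a, f U (r • a) = r • f U a)
    (map : ∀ {U V : X.Opens} (h : V ≤ U) a,
      N.presheaf.map (homOfLE h).op (f U a) = f V (L.presheaf.map (homOfLE h).op a)) : L ⟶ N :=
  ⟨PresheafOfModules.homMk
    { app := fun U => AddCommGrpCat.ofHom (AddMonoidHom.mk' (f U.unop) (add U.unop))
      naturality := by
        intro U V g
        ext a
        exact (map g.unop.le a).symm }
    (fun V r m => smul V.unop r m)⟩

@[simp] theorem homOfSections_app (f : ∀ U : X.Opens, Γ(L, U) → Γ(N, U))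
    (add : ∀ U a b, f U (a + b) = f U a + f U b)
    (smul : ∀ U (r : Γ(X, U)) a, f U (r • a) = r • f U a)
    (map : ∀ {U V : X.Opens} (h : V ≤ U) a,
      N.presheaf.map (homOfLE h).op (f U a) = f V (L.presheaf.map (homOfLE h).op a))
    (U : X.Opens) (a : Γ(L, U)) : (homOfSections f add smul map).app U a = f U a := rfl

/-- An isomorphism of `O_X`-modules from a compatible family of bijective additive, `O_X`-linear maps on sections. -/
noncomputable def isoOfSections (f : ∀ U : X.Opens, Γ(L, U) → Γ(N, U)) (g : ∀ U : X.Opens, Γ(N, U) → Γ(L, U))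
    (hgf : ∀ U a, g U (f U a) = a) (hfg : ∀ U b, f U (g U b) = b)
    (add : ∀ U a b, f U (a + b) = f U a + f U b)
    (smul : ∀ U (r : Γ(X, U)) a, f U (r • a) = r • f U a)
    (map : ∀ {U V : X.Opens} (h : V ≤ U) a,
      N.presheaf.map (homOfLE h).op (f U a) = f V (L.presheaf.map (homOfLE h).op a)) : L ≅ N where
  hom := homOfSections f add smul map
  inv := homOfSections g
    (fun U a b => by
      have := add U (g U a) (g U b)
      rw [hfg, hfg] at this
      rw [← this, hgf])
    (fun U r a => by
      have := smul U r (g U a)
      rw [hfg] at this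
      rw [← this, hgf])
    (fun {U V} h a => by
      have := map h (g U a)
      rw [hfg] at this
      rw [this, hgf])
  hom_inv_id := by
    apply Scheme.Modules.hom_ext
    intro U
    ext a
    exact hgf U a
  inv_hom_id := by
    apply Scheme.Modules.hom_ext
    intro U
    ext b
    exact hfg U b

end Groth.Agent.Lib.H4ModHom
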