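import Groth.Prelude.Def_CohB1
import Mathlib.AlgebraicGeometry.Morphisms.Affine

/-!
# The standard affine cover of projective space `CohB1.ProjSpace n R`

* `stdOpen n R i = D₊(T_i)`, `isAffineOpen_stdOpen`, `iSup_stdOpen : ⨆ i, D₊(T_i) = ⊤`;
* `ProjSpace n R` is separated; intersections of affine opens are affine (`isAffineOpen_inf`).
-/

set_option autoImplicit false
universe u
open CategoryTheory CategoryTheory.Limits AlgebraicGeometry TopologicalSpace

namespace Groth.Agent.Lib.ProjSpaceCover

variable (n : ℕ) (R : Type u) [CommRing R]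

/-- The standard open `D₊(T_i)` of projective space. -/
noncomputable def stdOpen (i : Fin (n + 1)) : (CohB1.ProjSpace n R).Opens :=
  Proj.basicOpen (CohB1.polyGrading n R) (MvPolynomial.X i)

lemma X_mem (i : Fin (n + 1)) :
    (MvPolynomial.X i : MvPolynomial (Fin (n + 1)) R) ∈ CohB1.polyGrading n R 1 :=
  (MvPolynomial.mem_homogeneousSubmodule _ _).mpr (MvPolynomial.isHomogeneous_X R i)

lemma isAffineOpen_stdOpen (i : Fin (n + 1)) : IsAffineOpen (stdOpen n R i) :=
  Proj.isAffineOpen_basicOpen (CohB1.polyGrading n R) (MvPolynomial.X i) (X_mem n R i) Nat.one_pos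

lemma iSup_stdOpen : ⨆ i, stdOpen n R i = ⊤ := by
  apply Proj.iSup_basicOpen_eq_top' (CohB1.polyGrading n R)
    (fun i : Fin (n + 1) => (MvPolynomial.X i : MvPolynomial (Fin (n + 1)) R))
  · intro i
    exact ⟨1, X_mem n R i⟩
  · rw [eq_top_iff]
    intro p _
    induction p using MvPolynomial.induction_on with
    | C a =>
      have : (MvPolynomial.C a : MvPolynomial (Fin (n + 1)) R) ∈ CohB1.polyGrading n R 0 :=
        (MvPolynomial.mem_homogeneousSubmodule _ _).mpr (MvPolynomial.isHomogeneous_C _ a)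
      exact Subalgebra.algebraMap_mem _ (⟨_, this⟩ : CohB1.polyGrading n R 0)
    | add p q hp hq => exact add_mem (hp trivial) (hq trivial)
    | mul_X p i hp => exact mul_mem (hp trivial) (Algebra.subset_adjoin ⟨i, rfl⟩)

instance : Scheme.IsSeparated (CohB1.ProjSpace n R) :=
  inferInstanceAs (Scheme.IsSeparated (Proj (CohB1.polyGrading n R)))

lemma isAffineOpen_inf (V W : (CohB1.ProjSpace n R).Opens) (hV : IsAffineOpen V)
    (hW : IsAffineOpen W) : IsAffineOpen (V ⊓ W) :=
  hV.inf hW

end Groth.Agent.Lib.ProjSpaceCover
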