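import Groth.Agent.Lib.H4TwistGamma
import Groth.Agent.Lib.ProjSpaceCover
import Mathlib.Algebra.MvPolynomial.Division

/-!
# Global sections of `O(d)` on projective space (helper4, CohChain W5)
-/

set_option autoImplicit false
universe u
open CategoryTheory AlgebraicGeometry TopologicalSpace Opposite Twist
open Groth.Agent.Lib.H90Invertible

namespace Groth.Agent.Lib.H4Twist

section General

variable {R A : Type u} [CommRing R] [CommRing A] [Algebra R A] {𝒜 : ℕ → Submodule R A} [GradedAlgebra 𝒜]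

theorem mk_mul_mk_self (x : ProjectiveSpectrum 𝒜) (a s : A) (hs : s ∉ x.asHomogeneousIdeal) :
    (Localization.mk a ⟨s, hs⟩ : Loc 𝒜 x) * Localization.mk s 1 = Localization.mk a 1 := by
  rw [Localization.mk_mul, mul_one, Localization.mk_eq_mk_iff, Localization.r_iff_exists]
  exact ⟨1, by simp [mul_comm]⟩

/-- A global section of `O(d)` is, on `D₊(f)` (`f ∈ 𝒜 1`), of the form `a / f ^ p` with `deg a = p + d`. -/
theorem exists_num {f : A} (hf : f ∈ 𝒜 1) (d : ℤ) (t : Γ(twist 𝒜 d, ⊤)) :
    ∃ (p e : ℕ) (a : A), a ∈ 𝒜 e ∧ (e : ℤ) = p + d ∧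
      ∀ (x : ProjectiveSpectrum 𝒜) (_ : f ∉ x.asHomogeneousIdeal),
        sval t ⟨x, trivial⟩ * (Localization.mk (f ^ p) 1 : Loc 𝒜 x) = Localization.mk a 1 := by
  obtain ⟨k, a, ha, h⟩ := exists_eq_mk_mul_zpow hf hf one_pos le_rfl d
    ((twist 𝒜 d).presheaf.map (homOfLE (le_top : Proj.basicOpen 𝒜 f ≤ ⊤)).op t)
  have hak : a ∈ 𝒜 k := by simpa using ha
  obtain ⟨q, rfl | rfl⟩ := d.eq_nat_or_neg
  · refine ⟨k, k + q, a * f ^ q, SetLike.mul_mem_graded hak (pow_mem_of_one 𝒜 hf q), by push_cast; ring,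
      fun x hx => ?_⟩
    have h1 := h ⟨x, hx⟩
    rw [sval_map] at h1
    rw [h1, zpow_natCast, Units.val_pow_eq_pow_val, fUnit_val, Localization.mk_pow, one_pow, mul_right_comm,
      mk_mul_mk_self, Localization.mk_mul, mul_one]
  · refine ⟨k + q, k, a, hak, by push_cast; ring, fun x hx => ?_⟩
    have h1 := h ⟨x, hx⟩
    rw [sval_map] at h1
    have h2 : (Localization.mk (f ^ (k + q)) 1 : Loc 𝒜 x) =
        Localization.mk (f ^ k) 1 * (((fUnit x f hx) ^ (q : ℤ) : (Loc 𝒜 x)ˣ) : Loc 𝒜 x) := by
      rw [zpow_natCast, Units.val_pow_eq_pow_val, fUnit_val, Localization.mk_pow, one_pow, Localization.mk_mul,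
        mul_one, pow_add]
    rw [h1, h2, mul_mul_mul_comm, mk_mul_mk_self, ← Units.val_mul, ← zpow_add, neg_add_cancel, zpow_zero,
      Units.val_one, mul_one]

end General

section Poly

open MvPolynomial

variable {n : ℕ} {R : Type u} [CommRing R]

/-- If `g * X j ^ k' = g' * X i ^ k` with `j ≠ i` then all monomials of `g` have `i`-exponent at least `k`
(lead's S0024 lemma). -/
theorem le_of_mul_X_pow_eq (i j : Fin (n + 1)) (hij : j ≠ i) (k k' : ℕ)
    (g g' : MvPolynomial (Fin (n + 1)) R) (h : g * X j ^ k' = g' * X i ^ k) :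
    ∀ α ∈ g.support, k ≤ α i := by
  classical
  intro α hα
  have h1 : coeff (α + Finsupp.single j k') (g * X j ^ k') = coeff α g := by
    rw [X_pow_eq_monomial, coeff_mul_monomial', if_pos le_add_self, add_tsub_cancel_right, mul_one]
  rw [h, X_pow_eq_monomial, coeff_mul_monomial'] at h1
  split_ifs at h1 with hle
  · have := hle i
    simpa [Finsupp.single_apply, hij] using this
  · exact absurd h1.symm (mem_support_iff.mp hα)

/-- Division by `X i ^ k` of a polynomial all of whose monomials have `i`-exponent at least `k`. -/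
theorem exists_eq_X_pow_mul (i : Fin (n + 1)) (k : ℕ) (P : MvPolynomial (Fin (n + 1)) R)
    (h : ∀ α ∈ P.support, k ≤ α i) :
    ∃ B : MvPolynomial (Fin (n + 1)) R, P = X i ^ k * B ∧
      ∀ β, coeff β B = coeff (Finsupp.single i k + β) P := by
  classical
  refine ⟨P.divMonomial (Finsupp.single i k), ?_, fun β => coeff_divMonomial _ _ _⟩
  have hmod : P.modMonomial (Finsupp.single i k) = 0 := by
    ext α
    rw [coeff_zero]
    by_cases hle : Finsupp.single i k ≤ α
    · exact coeff_modMonomial_of_le _ hle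
    · rw [coeff_modMonomial_of_not_le _ hle]
      by_contra hne
      apply hle
      have := h α (mem_support_iff.mpr hne)
      intro l
      by_cases hl : l = i
      · subst hl; simpa using this
      · simp [Ne.symm hl]
  have := divMonomial_add_modMonomial P (Finsupp.single i k)
  rw [hmod, add_zero] at this
  rw [X_pow_eq_monomial]
  exact this.symm

/-- The quotient of a homogeneous polynomial by `X i ^ k` is homogeneous. -/
theorem isHomogeneous_of_coeff (i : Fin (n + 1)) (k e d : ℕ) (hd : e = k + d)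
    (P B : MvPolynomial (Fin (n + 1)) R) (hP : P.IsHomogeneous e)
    (hB : ∀ β, coeff β B = coeff (Finsupp.single i k + β) P) : B.IsHomogeneous d := by
  classical
  intro β hβ
  rw [hB] at hβ
  have h1 : Finsupp.degree (Finsupp.single i k + β) = e := by
    rw [Finsupp.degree_eq_weight_one]; exact hP hβ
  change Finsupp.weight 1 β = d
  have h2 : Finsupp.degree β = Finsupp.weight 1 β := by rw [Finsupp.degree_eq_weight_one]; rfl
  rw [← h2]
  rw [map_add, Finsupp.degree_single] at h1
  omega

/-- If `e < k` the quotient vanishes. -/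
theorem eq_zero_of_coeff (i : Fin (n + 1)) (k e : ℕ) (hd : e < k)
    (P B : MvPolynomial (Fin (n + 1)) R) (hP : P.IsHomogeneous e)
    (hB : ∀ β, coeff β B = coeff (Finsupp.single i k + β) P) : B = 0 := by
  classical
  ext β
  rw [coeff_zero, hB]
  by_contra hne
  have h1 : Finsupp.degree (Finsupp.single i k + β) = e := by
    rw [Finsupp.degree_eq_weight_one]; exact hP hne
  rw [map_add, Finsupp.degree_single] at h1
  omega

end Poly

section ProjSpace

open MvPolynomial

variable (n : ℕ) (R : Type u) [CommRing R]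

local notation "𝒜" => CohB1.polyGrading n R

/-- Two homogeneous polynomials of the same degree which agree in `A_x` for all `x ∈ D₊(X i X j)` are equal. -/
theorem eq_of_forall_mk_eq (i j : Fin (n + 1)) (e : ℕ) (P Q : MvPolynomial (Fin (n + 1)) R)
    (hP : P ∈ 𝒜 e) (hQ : Q ∈ 𝒜 e)
    (h : ∀ (x : ProjectiveSpectrum 𝒜), X i ∉ x.asHomogeneousIdeal → X j ∉ x.asHomogeneousIdeal →
      (Localization.mk P 1 : Loc 𝒜 x) = Localization.mk Q 1) : P = Q := by
  have hXi := ProjSpaceCover.X_mem n R i
  have hXj := ProjSpaceCover.X_mem n R j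
  obtain ⟨N, hN⟩ := exists_pow_mul_eq_zero (δ := P - Q) (f := X i * X j) (e := e) (m := 1 + 1)
    (Submodule.sub_mem _ hP hQ) (SetLike.mul_mem_graded hXi hXj) (by norm_num) (by
      intro x hx
      have hi : X i ∉ x.asHomogeneousIdeal := fun h' => hx (Ideal.mul_mem_right _ _ h')
      have hj : X j ∉ x.asHomogeneousIdeal := fun h' => hx (Ideal.mul_mem_left _ _ h')
      have := h x hi hj
      rw [Localization.mk_one_eq_algebraMap, Localization.mk_one_eq_algebraMap] at this
      rw [Localization.mk_one_eq_algebraMap, map_sub, this, sub_self])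
  have hreg : IsRegular ((X i * X j : MvPolynomial (Fin (n + 1)) R) ^ N) :=
    ((isRegular_X (R := R)).mul isRegular_X).pow N
  have : P - Q = 0 := hreg.left (by simp only [hN, mul_zero])
  exact sub_eq_zero.mp this

variable {n R}

/-- Key structure result: a global section of `O(d)` on `P^n_R` is given on each `D₊(X i)` by a polynomial divisible
by the denominator. -/
theorem exists_poly (d : ℤ) (hnd : 1 ≤ n ∨ 0 ≤ d) (t : Γ(twist 𝒜 d, ⊤)) (i : Fin (n + 1)) :
    ∃ (p e : ℕ) (P B : MvPolynomial (Fin (n + 1)) R), P ∈ 𝒜 e ∧ (e : ℤ) = p + d ∧ P = X i ^ p * B ∧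
      (∀ β, coeff β B = coeff (Finsupp.single i p + β) P) ∧
      ∀ (x : ProjectiveSpectrum 𝒜) (_ : X i ∉ x.asHomogeneousIdeal),
        sval t ⟨x, trivial⟩ = Localization.mk B 1 := by
  classical
  have hX := ProjSpaceCover.X_mem n R
  choose p e P hP he hval using fun j => exists_num (hX j) d t
  have hcompat : ∀ i j, P i * X j ^ p j = P j * X i ^ p i := by
    intro i j
    have hdeg : e i + p j = e j + p i := by
      have h1 := he i
      have h2 := he j
      omega
    refine eq_of_forall_mk_eq n R i j (e i + p j) _ _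
      (SetLike.mul_mem_graded (hP i) (pow_mem_of_one 𝒜 (hX j) _))
      (hdeg ▸ SetLike.mul_mem_graded (hP j) (pow_mem_of_one 𝒜 (hX i) _)) ?_
    intro x hi hj
    have h1 := hval i x hi
    have h2 := hval j x hj
    have e1 : (Localization.mk (P i * X j ^ p j) 1 : Loc 𝒜 x) =
        Localization.mk (P i) 1 * Localization.mk (X j ^ p j) 1 := by
      rw [Localization.mk_mul, mul_one]
    have e2 : (Localization.mk (P j * X i ^ p i) 1 : Loc 𝒜 x) =
        Localization.mk (P j) 1 * Localization.mk (X i ^ p i) 1 := by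
      rw [Localization.mk_mul, mul_one]
    rw [e1, e2, ← h1, ← h2]
    ring
  -- monomials of `P i` are divisible by `X i ^ p i`
  have hsupp : ∀ α ∈ (P i).support, p i ≤ α i := by
    by_cases hn : 1 ≤ n
    · -- there is `j ≠ i`
      obtain ⟨j, hj⟩ : ∃ j : Fin (n + 1), j ≠ i := by
        by_cases h0 : i = 0
        · exact ⟨Fin.last n, fun h => by
            rw [h0] at h
            have := congrArg Fin.val h
            simp at this
            omega⟩
        · exact ⟨0, fun h => h0 h.symm⟩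
      exact le_of_mul_X_pow_eq i j hj (p i) (p j) (P i) (P j) (hcompat i j)
    · have hd : 0 ≤ d := hnd.resolve_left hn
      have hn0 : n = 0 := by omega
      have hsub : ∀ l : Fin (n + 1), l = i := by
        intro l
        apply Fin.ext
        have h1 := l.2
        have h2 := i.2
        omega
      intro α hα
      have hdeg : Finsupp.degree α = e i := by
        by_contra hne
        exact (mem_support_iff.mp hα)
          (((mem_homogeneousSubmodule _ _).mp (hP i)).coeff_eq_zero hne)
      have hsum : Finsupp.degree α = α i := by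
        rw [Finsupp.degree_eq_sum]
        exact Finset.sum_eq_single i (fun l _ hl => absurd (hsub l) hl)
          (fun h => absurd (Finset.mem_univ i) h)
      have := he i
      omega
  obtain ⟨B, hPB, hB⟩ := exists_eq_X_pow_mul i (p i) (P i) hsupp
  refine ⟨p i, e i, P i, B, hP i, he i, hPB, hB, fun x hx => ?_⟩
  have h1 := hval i x hx
  rw [hPB] at h1
  have hu : IsUnit (Localization.mk (X i ^ p i) 1 : Loc 𝒜 x) := by
    have : (Localization.mk (X i ^ p i) 1 : Loc 𝒜 x) =
        ((fUnit x (X i) hx ^ p i : (Loc 𝒜 x)ˣ) : Loc 𝒜 x) := by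
      rw [Units.val_pow_eq_pow_val, fUnit_val, Localization.mk_pow, one_pow]
    rw [this]; exact Units.isUnit _
  have h2 : (Localization.mk (X i ^ p i * B) 1 : Loc 𝒜 x) =
      Localization.mk B 1 * Localization.mk (X i ^ p i) 1 := by
    rw [Localization.mk_mul, mul_one, mul_comm]
  rw [h2] at h1
  exact hu.mul_left_injective h1

theorem exists_X_notMem (x : ProjectiveSpectrum 𝒜) : ∃ i : Fin (n + 1), X i ∉ x.asHomogeneousIdeal :=
  exists_notMem_of_adjoin (fun i : Fin (n + 1) => (X i : MvPolynomial (Fin (n + 1)) R))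
    (MvPolynomial.adjoin_range_X) x

/-- Every global section of `O(d)`, `d ≥ 0`, on `P^n_R` is `b / 1` for a homogeneous polynomial `b` of degree `d`. -/
theorem numSec_surjective (d : ℕ) (t : Γ(twist 𝒜 (d : ℤ), ⊤)) :
    ∃ b : 𝒜 d, numSec b.2 (d : ℤ) rfl = t := by
  classical
  choose p e P B hP he hPB hB hval using
    fun i => exists_poly (n := n) (R := R) (d : ℤ) (Or.inr (Int.natCast_nonneg d)) t i
  have hBmem : ∀ i, B i ∈ 𝒜 d := by
    intro i
    rw [mem_homogeneousSubmodule]
    have := he i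
    exact isHomogeneous_of_coeff i (p i) (e i) d (by omega) (P i) (B i)
      ((mem_homogeneousSubmodule _ _).mp (hP i)) (hB i)
  have hBeq : ∀ i, B i = B 0 := by
    intro i
    refine eq_of_forall_mk_eq n R i 0 d _ _ (hBmem i) (hBmem 0) ?_
    intro x hi h0
    rw [← hval i x hi, ← hval 0 x h0]
  refine ⟨⟨B 0, hBmem 0⟩, sec_ext fun x => ?_⟩
  obtain ⟨i, hi⟩ := exists_X_notMem x.1
  rw [sval_numSec]
  exact ((hval i x.1 hi).trans (by rw [hBeq i])).symm

theorem numSec_injective (d : ℕ) (b b' : 𝒜 d)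
    (h : numSec b.2 (d : ℤ) rfl = numSec b'.2 (d : ℤ) rfl) : b = b' := by
  apply Subtype.ext
  refine eq_of_forall_mk_eq n R 0 0 d _ _ b.2 b'.2 ?_
  intro x _ _
  have := congrArg (fun t => sval t (⟨x, trivial⟩ : (⊤ : (Proj 𝒜).Opens))) h
  simpa using this

/-- `Γ(P^n_R, O(d)) = 0` for `d < 0` and `n ≥ 1`. -/
theorem eq_zero_of_neg (hn : 1 ≤ n) (d : ℤ) (hd : d < 0) (t : Γ(twist 𝒜 d, ⊤)) : t = 0 := by
  refine sec_ext fun x => ?_
  obtain ⟨i, hi⟩ := exists_X_notMem x.1
  obtain ⟨p, e, P, B, hP, he, -, hB, hval⟩ := exists_poly (n := n) (R := R) d (Or.inl hn) t i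
  have hB0 : B = 0 := eq_zero_of_coeff i p e (by omega) P B ((mem_homogeneousSubmodule _ _).mp hP) hB
  rw [sval_zero]
  exact (hval x.1 hi).trans (by rw [hB0, Localization.mk_zero])

theorem numSec_add (d : ℕ) (b b' : 𝒜 d) :
    numSec (b + b').2 (d : ℤ) rfl = numSec b.2 (d : ℤ) rfl + numSec b'.2 (d : ℤ) rfl := by
  refine sec_ext fun x => ?_
  rw [sval_add, sval_numSec, sval_numSec, sval_numSec, Localization.mk_one_eq_algebraMap,
    Localization.mk_one_eq_algebraMap, Localization.mk_one_eq_algebraMap, ← map_add]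
  rfl

theorem numSec_smul (d : ℕ) (r : R) (b : 𝒜 d) :
    numSec (r • b).2 (d : ℤ) rfl =
      (show Γ(Proj 𝒜, ⊤) from Coh.toGlobal (structMap 𝒜) r) • numSec b.2 (d : ℤ) rfl := by
  refine sec_ext fun x => ?_
  rw [sval_smul, oval_toGlobal, sval_numSec, sval_numSec, Localization.mk_mul, mul_one]
  congr 1
  exact Algebra.smul_def r (b : MvPolynomial (Fin (n + 1)) R)

variable (n R) in
/-- The `R`-linear map `b ↦ b / 1` from homogeneous polynomials of degree `d` to `H^0(P^n_R, O(d))`. -/
noncomputable def gammaLinearMap (d : ℕ) :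
    ↥(CohB1.polyGrading n R d) →ₗ[R]
      Coh.HH (CohB1.ProjSpace n R) (Twist.twistProjSpace n R (d : ℤ)) 0 where
  toFun b := (h0Equiv (X := CohB1.ProjSpace n R) (Twist.twistProjSpace n R (d : ℤ))).symm
    (numSec b.2 (d : ℤ) rfl)
  map_add' b b' := by
    rw [numSec_add]
    exact map_add _ _ _
  map_smul' r b := by
    rw [numSec_smul]
    exact h0Equiv_symm_smul_over (X := CohB1.ProjSpace n R) (Twist.twistProjSpace n R (d : ℤ)) r _

variable (n R) in
theorem gammaLinearMap_bijective (d : ℕ) : Function.Bijective (gammaLinearMap n R d) := by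
  constructor
  · intro b b' h
    exact numSec_injective d b b' ((h0Equiv _).symm.injective h)
  · intro x
    obtain ⟨b, hb⟩ := numSec_surjective d
      (h0Equiv (X := CohB1.ProjSpace n R) (Twist.twistProjSpace n R (d : ℤ)) x)
    refine ⟨b, ?_⟩
    change (h0Equiv _).symm (numSec b.2 (d : ℤ) rfl) = x
    rw [hb]
    exact AddEquiv.symm_apply_apply _ _

variable (n R) in
/-- `H^0(P^n_R, O(d)) ≃ₗ[R]` homogeneous polynomials of degree `d` (S0843). -/
noncomputable def gammaLinearEquiv (d : ℕ) :
    Coh.HH (CohB1.ProjSpace n R) (Twist.twistProjSpace n R (d : ℤ)) 0 ≃ₗ[R]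
      ↥(MvPolynomial.homogeneousSubmodule (Fin (n + 1)) R d) :=
  (LinearEquiv.ofBijective (gammaLinearMap n R d) (gammaLinearMap_bijective n R d)).symm

variable (n R) in
/-- `H^0(P^n_R, O(d)) = 0` for `d < 0`, `n ≥ 1`. -/
theorem subsingleton_HH_zero_of_neg (hn : 1 ≤ n) (d : ℤ) (hd : d < 0) :
    Subsingleton (Coh.HH (CohB1.ProjSpace n R) (Twist.twistProjSpace n R d) 0) := by
  refine ⟨fun x y => ?_⟩
  apply (h0Equiv (X := CohB1.ProjSpace n R) (Twist.twistProjSpace n R d)).injective
  exact (eq_zero_of_neg hn d hd _).trans (eq_zero_of_neg hn d hd _).symm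

end ProjSpace

end Groth.Agent.Lib.H4Twist
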