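import Groth.Agent.Lib.H4Koszul
import Groth.Agent.Lib.H4TwistAmple
import Groth.Agent.Lib.H4ModHom
import Groth.Agent.Lib.H78TensorGen
import Groth.Agent.Lib.OXModTensor
import Groth.Agent.Lib.RestrictExact
import Groth.Agent.Lib.H90OXModLocal
import Groth.Agent.Lib.H4ProjSpaceGamma
import Groth.Agent.Lib.ProjSpaceCover

/-!
# The Koszul complex of twists on `Proj` / projective space (helper4)

* `mulHom hf d : O(d) ⟶ O(d + 1)` : multiplication by `f ∈ 𝒜 1`; `mulHom_comm`;
* `tensorModMap_tmul` : `tensorModMap` on pure tensors;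
* `isIso_restrict_tensor_mulHom` : `F ⊗ mulHom hf d` restricts to an isomorphism over `D₊(f)`.
-/

set_option autoImplicit false
universe u
open CategoryTheory CategoryTheory.Limits AlgebraicGeometry TopologicalSpace Opposite Twist
open Groth.Agent.Lib.H90Invertible Groth.Agent.Lib.H4TensorPair Groth.Agent.Lib.H4Twist

namespace Groth.Agent.Lib.H4KoszulPn

variable {R A : Type u} [CommRing R] [CommRing A] [Algebra R A] {𝒜 : ℕ → Submodule R A} [GradedAlgebra 𝒜]

section MulHom

variable {f g : A} (hf : f ∈ 𝒜 1) (hg : g ∈ 𝒜 1)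

/-- the restriction to `U` of the global section `f / 1` of `O(1)` -/
noncomputable def fSec (U : (Proj 𝒜).Opens) : Γ(twist 𝒜 1, U) :=
  (twist 𝒜 1).presheaf.map (homOfLE (le_top : U ≤ ⊤)).op (numSec hf 1 (by simp))

@[simp] lemma sval_fSec (U : (Proj 𝒜).Opens) (x : U) : sval (fSec hf U) x = Localization.mk f 1 := rfl

/-- multiplication by `f ∈ 𝒜 1`, as a morphism `O(d) ⟶ O(d + 1)` -/
noncomputable def mulHom (d : ℤ) : twist 𝒜 d ⟶ twist 𝒜 (d + 1) :=
  Groth.Agent.Lib.H4ModHom.homOfSections
    (fun U s => mulSec (rfl : d + 1 = d + 1) s (fSec hf U))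
    (fun U a b => sec_ext fun x => by simp only [sval_mulSec, sval_add]; ring)
    (fun U r a => sec_ext fun x => by simp only [sval_mulSec, sval_smul]; ring)
    (fun {U V} h a => sec_ext fun x => rfl)

@[simp] lemma sval_mulHom_app (d : ℤ) (U : (Proj 𝒜).Opens) (s : Γ(twist 𝒜 d, U)) (x : U) :
    sval ((mulHom hf d).app U s) x = sval s x * Localization.mk f 1 := rfl

lemma mulHom_comm (d : ℤ) :
    mulHom hf d ≫ mulHom hg (d + 1) = mulHom hg d ≫ mulHom hf (d + 1) := by
  ext U s
  refine sec_ext fun x => ?_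
  change sval s x * Localization.mk f 1 * Localization.mk g 1 =
    sval s x * Localization.mk g 1 * Localization.mk f 1
  ring

end MulHom

section TensorMap

open Groth.Agent.Lib.OXModTensor Groth.Agent.Lib.H78TensorGen

variable {X : Scheme.{u}} {M M' N N' : X.Modules}

/-- `tensorModMap` on pure tensors -/
theorem tensorModMap_tmul (f : M ⟶ M') (g : N ⟶ N') {V : X.Opens} (a : Γ(M, V)) (b : Γ(N, V)) :
    (tensorModMap f g).app V (tmul a b) = tmul (f.app V a) (g.app V b) := by
  let φ' : CohB1.tensorPre M N ⟶ CohB1.tensorPre M' N' :=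
    MonoidalCategory.tensorHom (C := CohB1.PMod X) ((fg X).map f) ((fg X).map g)
  let φ : tpre M N ⟶ tpre M' N' := φ'
  have hnat : unitT M N ≫ (Scheme.Modules.toPresheafOfModules X).map ((CohB1.sheafifyMod X).map φ) =
      φ ≫ unitT M' N' := ((H78AmpleUnit.adj X).unit.naturality φ).symm
  have h1 := congrArg (fun ψ => (ψ.app (op V)).hom (ptmul a b)) hnat
  exact h1

/-- a morphism of modules which is bijective on sections over all opens contained in `U` restricts to an
isomorphism over `U` -/
theorem isIso_restrict_of_bijective (ψ : M ⟶ N) (U : X.Opens)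
    (h : ∀ V : X.Opens, V ≤ U → Function.Bijective (ψ.app V)) :
    IsIso ((Scheme.Modules.restrictFunctor U.ι).map ψ) := by
  rw [Scheme.Modules.Hom.isIso_iff_isIso_app]
  intro W
  rw [Groth.Agent.Lib.H90OXModLocal.restrictFunctor_map_app]
  rw [ConcreteCategory.isIso_iff_bijective]
  refine h _ ?_
  rintro _ ⟨x, -, rfl⟩
  exact x.2

/-- tensoring with a morphism `g : N ⟶ N'` which maps a free generator of `N` over `U` to a free generator of
`N'` over `U` gives a morphism which restricts to an isomorphism over `U` -/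
theorem isIso_restrict_tensorModMap (F : X.Modules) (g : N ⟶ N') (U : X.Opens) (e : Γ(N, U))
    (he : IsGen N U e) (he' : IsGen N' U (g.app U e)) :
    IsIso ((Scheme.Modules.restrictFunctor U.ι).map (tensorModMap (𝟙 F) g)) := by
  refine isIso_restrict_of_bijective _ U fun V hV => ?_
  have b1 := tmul_gen_bijective F he hV
  have b2 := tmul_gen_bijective F he' hV
  have hcomp : (fun x : Γ(F, V) => tmul x (rs N' hV (g.app U e))) =
      (tensorModMap (𝟙 F) g).app V ∘ (fun x : Γ(F, V) => tmul x (rs N hV e)) := by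
    funext x
    change _ = (tensorModMap (𝟙 F) g).app V (tmul x (rs N hV e))
    rw [tensorModMap_tmul]
    congr 1
    exact (ConcreteCategory.congr_hom (g.mapPresheaf.naturality (homOfLE hV).op) e).symm
  rw [hcomp] at b2
  exact (Function.Bijective.of_comp_iff _ b1).1 b2

end TensorMap

section MulHomIso

open Groth.Agent.Lib.OXModTensor

variable {f : A} (hf : f ∈ 𝒜 1)

/-- `F ⊗ (multiplication by f)` restricts to an isomorphism over `D₊(f)` -/
theorem isIso_restrict_tensor_mulHom (F : (Proj 𝒜).Modules) (d : ℤ) :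
    IsIso ((Scheme.Modules.restrictFunctor (Proj.basicOpen 𝒜 f).ι).map
      (tensorModMap (𝟙 F) (mulHom hf d))) := by
  have hU : ∀ x : Proj.basicOpen 𝒜 f, f ∉ x.1.asHomogeneousIdeal := fun x => x.2
  refine isIso_restrict_tensorModMap F _ _ (genAt hf hU d d (by simp))
    (isGen_genAt hf hU d d _) ?_
  have h : (mulHom hf d).app _ (genAt hf hU d d (by simp)) =
      genAt hf hU (d + 1) (d + 1) (by simp) := sec_ext fun x => by
    rw [sval_mulHom_app, sval_genAt, sval_genAt, zpow_add_one, Units.val_mul, fUnit_val]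
  rw [h]
  exact isGen_genAt hf hU (d + 1) (d + 1) _

end MulHomIso

section Detect

variable {X : Scheme.{u}}

/-- a module whose restrictions to the members of an open cover vanish is zero -/
theorem isZero_of_forall_restrict (M : X.Modules) {ι : Type*} (U : ι → X.Opens)
    (hU : ⨆ i, U i = ⊤) (h : ∀ i, IsZero ((Scheme.Modules.restrictFunctor (U i).ι).obj M)) :
    IsZero M := by
  rw [IsZero.iff_id_eq_zero]
  refine Groth.Agent.Lib.H90OXModLocal.hom_ext_of_small hU _ _ fun W hW => ?_
  obtain ⟨i, hW⟩ := hW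
  have h1 : (Scheme.Modules.restrictFunctor (U i).ι).map (𝟙 M) =
      (Scheme.Modules.restrictFunctor (U i).ι).map 0 := (h i).eq_of_src _ _
  exact Groth.Agent.Lib.H90OXModLocal.app_eq_of_restrict_eq (𝟙 M) 0 h1 W hW

instance additive_restrictFunctor {U Y : Scheme.{u}} (j : U ⟶ Y) [IsOpenImmersion j] :
    (Scheme.Modules.restrictFunctor j).Additive :=
  (Scheme.Modules.restrictAdjunction j).left_adjoint_additive

end Detect

section Pn

open Groth.Agent.Lib.OXModTensor Groth.Agent.Lib.H4Koszul Groth.Agent.Lib.RestrictExact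

variable (n : ℕ) (R : Type u) [CommRing R]

local notation "𝒜'" => CohB1.polyGrading n R

/-- the twist system `d ↦ F ⊗ O(d)` on `P^n_R`, with multiplication by the coordinates -/
noncomputable def twSys (F : (CohB1.ProjSpace n R).Modules) : TwSys (CohB1.ProjSpace n R).Modules where
  obj d := CohB1.tensorMod F (Twist.twistProjSpace n R d)
  x c d := if h : c < n + 1 then
      tensorModMap (𝟙 F) (show Twist.twistProjSpace n R d ⟶ Twist.twistProjSpace n R (d + 1) from
        mulHom (Groth.Agent.Lib.ProjSpaceCover.X_mem n R ⟨c, h⟩) d)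
    else 0
  comm c c' d := by
    by_cases h : c < n + 1
    · by_cases h' : c' < n + 1
      · rw [dif_pos h, dif_pos h', dif_pos h, dif_pos h', ← tensorModMap_comp, ← tensorModMap_comp]
        congr 1
        exact mulHom_comm _ _ d
      · rw [dif_neg h', dif_neg h', Limits.comp_zero, Limits.zero_comp]
    · rw [dif_neg h, dif_neg h, Limits.comp_zero, Limits.zero_comp]

/-- the standard open `D₊(X_c)` of `P^n_R` -/
noncomputable def stdOpen (c : Fin (n + 1)) : (CohB1.ProjSpace n R).Opens :=
  Proj.basicOpen 𝒜' (MvPolynomial.X c)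

theorem iSup_stdOpen : ⨆ c : Fin (n + 1), stdOpen n R c = ⊤ := by
  rw [eq_top_iff]
  intro x _
  obtain ⟨i, hi⟩ := Groth.Agent.Lib.H4Twist.exists_X_notMem (n := n) (R := R) x
  exact TopologicalSpace.Opens.mem_iSup.mpr ⟨i, hi⟩

theorem isIso_restrict_twSys_x (F : (CohB1.ProjSpace n R).Modules) (c : Fin (n + 1)) (d : ℤ) :
    IsIso ((Scheme.Modules.restrictFunctor (stdOpen n R c).ι).map ((twSys n R F).x c.1 d)) := by
  have h1 : (twSys n R F).x c.1 d = tensorModMap (𝟙 F)
      (show Twist.twistProjSpace n R d ⟶ Twist.twistProjSpace n R (d + 1) from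
        mulHom (Groth.Agent.Lib.ProjSpaceCover.X_mem n R c) d) := dif_pos c.2
  rw [h1]
  exact isIso_restrict_tensor_mulHom (Groth.Agent.Lib.ProjSpaceCover.X_mem n R c) F d

/-- **The Koszul complex of `F` on `P^n_R`**: an exact complex with terms `(F ⊗ O(a + i))^{choose (n+1) i}`,
`0 ≤ i ≤ n + 1`. -/
theorem exists_koszul (F : (CohB1.ProjSpace n R).Modules) (a : ℤ) :
    ∃ C : CochainComplex (CohB1.ProjSpace n R).Modules ℤ, (∀ i : ℤ, C.ExactAt i) ∧
      (∀ i : ℕ, i ≤ n + 1 → Nonempty (C.X (i : ℤ) ≅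
        ∐ fun _ : Fin (Nat.choose (n + 1) i) => CohB1.tensorMod F (Twist.twistProjSpace n R (a + i)))) ∧
      (∀ i : ℤ, i < 0 ∨ (n : ℤ) + 1 < i → IsZero (C.X i)) := by
  refine ⟨TwSys.kosCx (twSys n R F) (n + 1) a, ?_, fun i hi => ?_, fun i hi => ?_⟩
  · refine TwSys.kosCx_acyclic _ _ _ ?_
    refine TwSys.acyclic_of_forall_map
      (𝒟 := fun c : Fin (n + 1) => ((stdOpen n R c : (CohB1.ProjSpace n R).Opens) : Scheme.{u}).Modules)
      (fun c => Scheme.Modules.restrictFunctor (stdOpen n R c).ι)
      (fun M hM => isZero_of_forall_restrict M _ (iSup_stdOpen n R) hM) _ (fun c => ?_)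
    exact TwSys.kos_GAcyclic _ (twSys n R F) c.1 (fun d => isIso_restrict_twSys_x n R F c d)
      (n + 1) c.2 a
  · exact TwSys.nonempty_kosCx_X_iso (twSys n R F) (n + 1) a i hi
  · exact TwSys.isZero_kosCx_X (twSys n R F) (n + 1) a i (by push_cast; omega)

end Pn

end Groth.Agent.Lib.H4KoszulPn
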