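import Groth.Agent.Lib.H4GrTildeTwist
import Groth.Agent.Lib.H78PullSec

/-!
# Projection formula for invertible modules (helper4)

For any morphism of schemes `f : X ⟶ Y`, any `O_X`-module `F` and any invertible `O_Y`-module `L`:
`f_* F ⊗ L ≅ f_* (F ⊗ f^* L)`.

* `projPairing f F L` : the pairing `f_*F × L → f_*(F ⊗ f^*L)`, `(a, ℓ) ↦ a ⊗ f^♯ℓ`;
* `projFormulaIso f F hL : tensorMod (f_* F) L ≅ f_* (tensorMod F (f^* L))`.
-/

set_option autoImplicit false
universe u
open CategoryTheory AlgebraicGeometry TopologicalSpace Opposite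
open Groth.Agent.Lib.H90Invertible Groth.Agent.Lib.H4TensorPair Groth.Agent.Lib.H78TensorGen
open Groth.Agent.Lib.H78PullSec

namespace Groth.Agent.Lib.H4ProjFormula

variable {X Y : Scheme.{u}} (f : X ⟶ Y)

/-- The pairing `f_*F × L → f_*(F ⊗ f^*L)`, `(a, ℓ) ↦ a ⊗ f^♯ℓ`. -/
noncomputable def projPairing (F : X.Modules) (L : Y.Modules) :
    Pairing ((Scheme.Modules.pushforward f).obj F) L
      ((Scheme.Modules.pushforward f).obj (CohB1.tensorMod F ((Scheme.Modules.pullback f).obj L))) where
  toFun U a ℓ := toPush f _ U (tmul (ofPush f F U a) (pb f L ℓ))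
  add_left U a a' b := tmul_add_left (ofPush f F U a) (ofPush f F U a') (pb f L b)
  add_right U a b b' := by
    show tmul (ofPush f F U a) (pb f L (b + b')) = _
    rw [pb_add]
    exact tmul_add_right _ _ _
  smul_left U r a b := by
    show tmul (ofPush f F U (r • a)) (pb f L b) = _
    exact smul_tmul (f.app U r) (ofPush f F U a) (pb f L b)
  smul_right U r a b := by
    show tmul (ofPush f F U a) (pb f L (r • b)) = _
    rw [pb_smul]
    exact tmul_smul (f.app U r) (ofPush f F U a) (pb f L b)
  map {U V} h a b := by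
    show rs (CohB1.tensorMod F ((Scheme.Modules.pullback f).obj L)) (f.preimage_mono h)
      (tmul (ofPush f F U a) (pb f L b)) = tmul _ (pb f L (rs L h b))
    rw [tmul_rs, pb_rs]
    rfl

/-- **Projection formula** for an invertible module `L`: `f_*F ⊗ L ≅ f_*(F ⊗ f^*L)`. -/
noncomputable def projFormulaIso (F : X.Modules) {L : Y.Modules} (hL : PicF.IsInvertible L) :
    CohB1.tensorMod ((Scheme.Modules.pushforward f).obj F) L ≅
      (Scheme.Modules.pushforward f).obj (CohB1.tensorMod F ((Scheme.Modules.pullback f).obj L)) :=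
  (projPairing f F L).isoOfRight (by
    intro y
    obtain ⟨V, hyV, s', hs'⟩ := (isInvertible_iff_exists_isGen L).mp hL y
    refine ⟨V, s', hyV, hs', fun W hW => ?_⟩
    have hgen := isGen_pb f hs'
    have hb := tmul_gen_bijective F hgen (f.preimage_mono hW)
    have heq : (fun a : Γ((Scheme.Modules.pushforward f).obj F, W) =>
        (projPairing f F L).toFun W a (L.presheaf.map (homOfLE hW).op s')) =
        (fun x : Γ(F, f ⁻¹ᵁ W) => tmul x (rs _ (f.preimage_mono hW) (pb f L s'))) := by
      funext a
      show tmul (ofPush f F W a) (pb f L (rs L hW s')) = _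
      rw [pb_rs]
      rfl
    rw [heq]
    exact hb)

end Groth.Agent.Lib.H4ProjFormula
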