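/-
helper20: **pullback commutes with tensoring by an invertible module**: for ANY morphism `f : X ⟶ Y`, ANY `O_Y`-module
`M` and `L` invertible on `Y`:  `f^*(M ⊗ L) ≅ f^*M ⊗ f^*L`  (`nonempty_pullback_tensor_iso`) and
`f^*(M ⊗ L^d) ≅ f^*M ⊗ (f^*L)^d`  (`nonempty_pullback_twist_iso`).

Proof: the projection formula `f_*F ⊗ L ≅ f_*(F ⊗ f^*L)` (helper4) is natural in `F` (`projHom_natural`), hence
`(- ⊗ f^*L) ⋙ f_* ≅ f_* ⋙ (- ⊗ L)`; both twists are equivalences, so passing to left adjoints gives
`(- ⊗ L) ⋙ f^* ≅ f^* ⋙ (- ⊗ f^*L)`.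

Also: `tensorMod_hom_ext` (morphisms out of `M ⊗ N` are determined on pure tensors), `Pairing.hom_app_tmul`.
-/
import Groth.Agent.Lib.H4ProjFormula
import Groth.Agent.Lib.H4KoszulPn
import Groth.Agent.Lib.TwistEquiv
import Groth.Agent.Lib.H78Dual
import Groth.Agent.Lib.H78AtlasIso
import Groth.Agent.Lib.H90InvertiblePullback

set_option autoImplicit false
set_option linter.style.haveILetI false
universe u

open CategoryTheory CategoryTheory.Limits AlgebraicGeometry TopologicalSpace Opposite

namespace Groth.Agent.Lib.PullTensor20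

open Groth.Agent.Lib.H4TensorPair Groth.Agent.Lib.H78TensorGen Groth.Agent.Lib.OXModTensor
open Groth.Agent.Lib.H78PullSec Groth.Agent.Lib.H4ProjFormula Groth.Agent.Lib.TwistEquiv CohB1
open Groth.Agent.Lib.H90Invertible

variable {X Y : Scheme.{u}}

/-- the morphism induced by a pairing, on pure tensors -/
theorem hom_app_tmul {L L' N : X.Modules} (β : Pairing L L' N) {V : X.Opens} (a : Γ(L, V))
    (b : Γ(L', V)) : β.hom.app V (tmul a b) = β.toFun V a b := by
  have h : unitT L L' ≫ (Scheme.Modules.toPresheafOfModules X).map β.hom = β.preHom := by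
    have := ((H4TensorPair.adj X).homEquiv (show X.PresheafOfModules from CohB1.tensorPre L L') N).apply_symm_apply
      β.preHom
    rw [Adjunction.homEquiv_unit] at this
    exact this
  have h1 := congrArg (fun ψ => (ψ.app (op V)).hom (ptmul a b)) h
  exact h1

/-- morphisms out of a tensor product are determined by their values on pure tensors -/
theorem tensorMod_hom_ext {M N P : X.Modules} (φ ψ : tensorMod M N ⟶ P)
    (h : ∀ (V : X.Opens) (a : Γ(M, V)) (b : Γ(N, V)), φ.app V (tmul a b) = ψ.app V (tmul a b)) :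
    φ = ψ := by
  apply ((H4TensorPair.adj X).homEquiv (show X.PresheafOfModules from CohB1.tensorPre M N) P).injective
  rw [Adjunction.homEquiv_unit, Adjunction.homEquiv_unit]
  apply PresheafOfModules.hom_ext
  intro U
  refine ModuleCat.MonoidalCategory.tensor_ext (fun a b => ?_)
  exact h U.unop a b

/-- **The projection formula morphism is natural in `F`.** -/
theorem projHom_natural (f : X ⟶ Y) {F F' : X.Modules} (φ : F ⟶ F') (L : Y.Modules) :
    tensorModMap ((Scheme.Modules.pushforward f).map φ) (𝟙 L) ≫ (projPairing f F' L).hom =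
      (projPairing f F L).hom ≫
        (Scheme.Modules.pushforward f).map (tensorModMap φ (𝟙 ((Scheme.Modules.pullback f).obj L))) := by
  apply tensorMod_hom_ext
  intro V a b
  rw [Scheme.Modules.Hom.comp_app, Scheme.Modules.Hom.comp_app]
  change (projPairing f F' L).hom.app V
      ((tensorModMap ((Scheme.Modules.pushforward f).map φ) (𝟙 L)).app V (tmul a b)) =
    ((Scheme.Modules.pushforward f).map
      (tensorModMap φ (𝟙 ((Scheme.Modules.pullback f).obj L)))).app V
        ((projPairing f F L).hom.app V (tmul a b))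
  rw [H4KoszulPn.tensorModMap_tmul, hom_app_tmul, hom_app_tmul]
  change tmul (φ.app (f ⁻¹ᵁ V) (ofPush f F V a)) (pb f L ((𝟙 L : L ⟶ L).app V b)) =
    (tensorModMap φ (𝟙 _)).app (f ⁻¹ᵁ V) (tmul (ofPush f F V a) (pb f L b))
  rw [H4KoszulPn.tensorModMap_tmul]
  rfl


/-- `(- ⊗ f^*L) ⋙ f_* ≅ f_* ⋙ (- ⊗ L)` for `L` invertible: the projection formula as a natural isomorphism. -/
noncomputable def pushTwistIso (f : X ⟶ Y) {L : Y.Modules} (hL : PicF.IsInvertible L) :
    tensorRightFunctor ((Scheme.Modules.pullback f).obj L) ⋙ Scheme.Modules.pushforward f ≅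
      Scheme.Modules.pushforward f ⋙ tensorRightFunctor L :=
  NatIso.ofComponents (fun F => (projFormulaIso f F hL).symm) (by
    intro F F' φ
    rw [Iso.symm_hom, Iso.symm_hom, Iso.comp_inv_eq, Category.assoc, Iso.eq_inv_comp]
    have h := projHom_natural f φ L
    simp only [Functor.comp_map, tensorRightFunctor_map]
    exact h.symm)

/-- **Pullback commutes with tensoring by an invertible module.** -/
theorem nonempty_pullback_tensor_iso (f : X ⟶ Y) (M : Y.Modules) {L : Y.Modules}
    (hL : PicF.IsInvertible L) :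
    Nonempty ((Scheme.Modules.pullback f).obj (tensorMod M L) ≅
      tensorMod ((Scheme.Modules.pullback f).obj M) ((Scheme.Modules.pullback f).obj L)) := by
  obtain ⟨L', -, ⟨e'⟩⟩ := H78Dual.exists_tensor_inverse hL
  obtain ⟨L₁', -, ⟨e₁'⟩⟩ := H78Dual.exists_tensor_inverse (isInvertible_pullback f hL)
  haveI := isEquivalence_tensorRightFunctor (braiding L L' ≪≫ e')
  haveI := isEquivalence_tensorRightFunctor (braiding ((Scheme.Modules.pullback f).obj L) L₁' ≪≫ e₁')
  let E := (tensorRightFunctor L).asEquivalence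
  let E₁ := (tensorRightFunctor ((Scheme.Modules.pullback f).obj L)).asEquivalence
  let adjf := Scheme.Modules.pullbackPushforwardAdjunction f
  let adj₁ : tensorRightFunctor L ⋙ Scheme.Modules.pullback f ⊣
      Scheme.Modules.pushforward f ⋙ E.inverse := E.toAdjunction.comp adjf
  let adj₂ : Scheme.Modules.pullback f ⋙ tensorRightFunctor ((Scheme.Modules.pullback f).obj L) ⊣
      E₁.inverse ⋙ Scheme.Modules.pushforward f := adjf.comp E₁.toAdjunction
  let π : E₁.functor ⋙ Scheme.Modules.pushforward f ≅ Scheme.Modules.pushforward f ⋙ E.functor :=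
    pushTwistIso f hL
  let iso : E₁.inverse ⋙ Scheme.Modules.pushforward f ≅ Scheme.Modules.pushforward f ⋙ E.inverse :=
    (Functor.rightUnitor _).symm ≪≫
    Functor.isoWhiskerLeft (E₁.inverse ⋙ Scheme.Modules.pushforward f) E.unitIso ≪≫
    (Functor.associator _ _ _) ≪≫
    Functor.isoWhiskerLeft E₁.inverse
      ((Functor.associator _ _ _).symm ≪≫ Functor.isoWhiskerRight π.symm E.inverse ≪≫
        Functor.associator _ _ _) ≪≫
    (Functor.associator _ _ _).symm ≪≫
    Functor.isoWhiskerRight E₁.counitIso (Scheme.Modules.pushforward f ⋙ E.inverse) ≪≫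
    Functor.leftUnitor _
  exact ⟨(adj₁.leftAdjointUniq (adj₂.ofNatIsoRight iso)).app M⟩

/-- `f^*(M ⊗ L^d) ≅ f^*M ⊗ (f^*L)^d` for `L` invertible. -/
theorem nonempty_pullback_twist_iso (f : X ⟶ Y) (M : Y.Modules) {L : Y.Modules}
    (hL : PicF.IsInvertible L) (d : ℕ) :
    Nonempty ((Scheme.Modules.pullback f).obj (tensorMod M (tensorPow L d)) ≅
      tensorMod ((Scheme.Modules.pullback f).obj M) (tensorPow ((Scheme.Modules.pullback f).obj L) d)) := by
  obtain ⟨e⟩ := nonempty_pullback_tensor_iso f M (isInvertible_tensorPow hL d)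
  obtain ⟨e'⟩ := H78AtlasIso.nonempty_pullback_tensorPow_iso f hL d
  exact ⟨e ≪≫ tensorModIso (Iso.refl _) e'⟩

end Groth.Agent.Lib.PullTensor20
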