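import Groth.Agent.Lib.H72PullbackQCoh
import Groth.Agent.Lib.QCohStalk
import Mathlib.RingTheory.Flat.FaithfullyFlat.Algebra
import Mathlib.RingTheory.Flat.Stability
import Mathlib.RingTheory.IsTensorProduct

/-!
# helper72: the stalk of the pullback of a quasi-coherent module is the base change of the stalk

* `exists_isBaseChange_of_isLocalizedModule` (algebra): localizations of a base change.
* `flat_tensor_of_flat`, `flat_of_flat_tensor`, `flat_of_isBaseChange_of_flat`, `flat_iff_of_isBaseChange`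
  (algebra): for `R → A' → B'` with `B'` (faithfully) flat over `A'`, and `NP = B' ⊗[A'] Mp`:
  `Mp` flat over `R` (iff) `NP` flat over `R`.
* `exists_isBaseChange_stalk_pullback h G x`: for `G` quasi-coherent on `Y`, `h : X ⟶ Y`, `x : X` there is an
  `O_{Y,h x}`-linear map `τ : G_{h x} → (h^*G)_x` which is a base change along `h.stalkMap x`
  (i.e. `(h^*G)_x ≅ O_{X,x} ⊗_{O_{Y,h x}} G_{h x}`).
-/

set_option autoImplicit false
set_option linter.style.haveILetI false
universe u

namespace Groth.Agent.Lib.H72PullbackStalk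

open TensorProduct


/-- Abstract "stalk of a pullback" lemma: localizations of a base change are base changes of
localizations. -/
theorem exists_isBaseChange_of_isLocalizedModule
    {A B A' B' M Mp NU NP : Type*} [CommRing A] [CommRing B] [CommRing A'] [CommRing B']
    [Algebra A B] [Algebra A A'] [Algebra B B'] [Algebra A' B'] [Algebra A B']
    [IsScalarTower A B B'] [IsScalarTower A A' B']
    [AddCommGroup M] [Module A M]
    [AddCommGroup Mp] [Module A Mp] [Module A' Mp] [IsScalarTower A A' Mp]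
    [AddCommGroup NU] [Module A NU] [Module B NU] [IsScalarTower A B NU]
    [AddCommGroup NP] [Module A NP] [Module B NP] [Module A' NP] [Module B' NP]
    [IsScalarTower A B NP] [IsScalarTower B B' NP] [IsScalarTower A B' NP]
    [IsScalarTower A A' NP] [IsScalarTower A' B' NP]
    (S : Submonoid A) (T : Submonoid B) [IsLocalization S A'] [IsLocalization T B']
    (f : M →ₗ[A] Mp) [IsLocalizedModule S f]
    (θ : M →ₗ[A] NU) (hθ : IsBaseChange B θ)
    (g : NU →ₗ[B] NP) [IsLocalizedModule T g] :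
    ∃ τ : Mp →ₗ[A'] NP, IsBaseChange B' τ ∧ ∀ m, τ (f m) = g (θ m) := by
  have hf : IsBaseChange A' f := (isLocalizedModule_iff_isBaseChange S A' f).mp inferInstance
  have hg : IsBaseChange B' g := (isLocalizedModule_iff_isBaseChange T B' g).mp inferInstance
  have hgθ : IsBaseChange B' ((g.restrictScalars A).comp θ) := IsBaseChange.comp hθ hg
  refine ⟨hf.lift ((g.restrictScalars A).comp θ), ?_, fun m => ?_⟩
  · refine IsBaseChange.of_comp hf ?_
    have : ((hf.lift ((g.restrictScalars A).comp θ)).restrictScalars A).comp f =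
        (g.restrictScalars A).comp θ := hf.lift_comp _
    change IsBaseChange B' (((hf.lift ((g.restrictScalars A).comp θ)).restrictScalars A).comp f)
    rw [this]
    exact hgθ
  · exact hf.lift_eq _ m


section FF0
variable {R A' B' Mp : Type*} [CommRing R] [CommRing A'] [CommRing B']
    [Algebra R A'] [Algebra A' B'] [Algebra R B'] [IsScalarTower R A' B']
    [AddCommGroup Mp] [Module A' Mp] [Module R Mp] [IsScalarTower R A' Mp]

/-- The comparison square for `assoc`. -/
theorem assoc_comp_lTensor {N P : Type*} [AddCommMonoid N] [Module R N] [AddCommMonoid P] [Module R P]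
    (ι : N →ₗ[R] P) (z : (B' ⊗[A'] Mp) ⊗[R] N) :
    AlgebraTensorModule.assoc R A' A' B' Mp P (ι.lTensor (B' ⊗[A'] Mp) z) =
      (AlgebraTensorModule.lTensor A' Mp ι).lTensor B'
        (AlgebraTensorModule.assoc R A' A' B' Mp N z) := by
  induction z using TensorProduct.induction_on with
  | zero => simp
  | tmul y n =>
    induction y using TensorProduct.induction_on with
    | zero => simp
    | tmul b m => simp
    | add y z hy hz => simp only [add_tmul, map_add, hy, hz]
  | add x y hx hy => simp only [map_add, hx, hy]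

theorem flat_tensor_of_flat [Module.Flat A' B'] [Module.Flat R Mp] :
    Module.Flat R (B' ⊗[A'] Mp) := by
  rw [Module.Flat.iff_lTensor_injectiveₛ]
  intro P _ _ N
  have h1 : Function.Injective (AlgebraTensorModule.lTensor A' Mp N.subtype) := by
    rw [AlgebraTensorModule.coe_lTensor]
    exact Module.Flat.lTensor_preserves_injective_linearMap _ Subtype.val_injective
  have h2 : Function.Injective ((AlgebraTensorModule.lTensor A' Mp N.subtype).lTensor B') :=
    Module.Flat.lTensor_preserves_injective_linearMap _ h1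
  intro x y hxy
  apply (AlgebraTensorModule.assoc R A' A' B' Mp N).injective
  apply h2
  rw [← assoc_comp_lTensor, ← assoc_comp_lTensor, hxy]

theorem flat_of_flat_tensor [Module.FaithfullyFlat A' B'] [Module.Flat R (B' ⊗[A'] Mp)] :
    Module.Flat R Mp := by
  rw [Module.Flat.iff_lTensor_injectiveₛ]
  intro P _ _ N
  have h0 : Function.Injective (N.subtype.lTensor (B' ⊗[A'] Mp)) :=
    Module.Flat.lTensor_preserves_injective_linearMap _ Subtype.val_injective
  rw [← AlgebraTensorModule.coe_lTensor (A := A'),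
    ← Module.FaithfullyFlat.lTensor_injective_iff_injective A' B']
  intro x y hxy
  obtain ⟨x, rfl⟩ := (AlgebraTensorModule.assoc R A' A' B' Mp N).surjective x
  obtain ⟨y, rfl⟩ := (AlgebraTensorModule.assoc R A' A' B' Mp N).surjective y
  rw [← assoc_comp_lTensor, ← assoc_comp_lTensor] at hxy
  rw [h0 ((AlgebraTensorModule.assoc R A' A' B' Mp P).injective hxy)]

end FF0

section FF
variable {R A' B' Mp NP : Type*} [CommRing R] [CommRing A'] [CommRing B']
    [Algebra R A'] [Algebra A' B'] [Algebra R B'] [IsScalarTower R A' B']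
    [AddCommGroup Mp] [Module A' Mp] [Module R Mp] [IsScalarTower R A' Mp]
    [AddCommGroup NP] [Module B' NP] [Module A' NP] [IsScalarTower A' B' NP]
    [Module R NP] [IsScalarTower R A' NP]

/-- The `R`-linear equivalence underlying a base change. -/
noncomputable def equivOfIsBaseChange (τ : Mp →ₗ[A'] NP) (hτ : IsBaseChange B' τ) :
    (B' ⊗[A'] Mp) ≃ₗ[R] NP :=
  ((hτ.equiv).restrictScalars A').restrictScalars R

theorem flat_of_isBaseChange_of_flat [Module.Flat A' B'] (τ : Mp →ₗ[A'] NP)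
    (hτ : IsBaseChange B' τ) (h : Module.Flat R Mp) : Module.Flat R NP :=
  haveI := flat_tensor_of_flat (R := R) (A' := A') (B' := B') (Mp := Mp)
  Module.Flat.of_linearEquiv (equivOfIsBaseChange τ hτ).symm

theorem flat_iff_of_isBaseChange [Module.FaithfullyFlat A' B'] (τ : Mp →ₗ[A'] NP)
    (hτ : IsBaseChange B' τ) : Module.Flat R Mp ↔ Module.Flat R NP := by
  refine ⟨flat_of_isBaseChange_of_flat τ hτ, fun h => ?_⟩
  haveI : Module.Flat R (B' ⊗[A'] Mp) := Module.Flat.of_linearEquiv (equivOfIsBaseChange τ hτ)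
  exact flat_of_flat_tensor (R := R) (A' := A') (B' := B') (Mp := Mp)

end FF


section Geometric

open AlgebraicGeometry CategoryTheory TopologicalSpace Opposite
open Groth.Agent.Lib.QCohStalk Groth.Agent.Lib.H72PullbackQCoh

variable {X Y : Scheme.{u}}

theorem germ_appLE (f : X ⟶ Y) {U : X.Opens} {V : Y.Opens} (hUV : U ≤ f ⁻¹ᵁ V) (x : X)
    (hx : x ∈ U) (r : Γ(Y, V)) :
    (f.stalkMap x).hom ((Y.presheaf.germ V (f x) (hUV hx)).hom r) =
      (X.presheaf.germ U x hx).hom ((f.appLE V U hUV).hom r) := by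
  have h1 := Scheme.Hom.germ_stalkMap_apply f V x (hUV hx) r
  rw [Scheme.Hom.appLE]
  have h2 := TopCat.Presheaf.germ_res_apply X.presheaf (homOfLE hUV) x hx (f.app V r)
  exact h1.trans h2.symm

/-- The base change map on sections. -/
theorem exists_isBaseChange_sections (h : X ⟶ Y) (G : Y.Modules) [G.IsQuasicoherent]
    {U : X.Opens} {V : Y.Opens} (hU : IsAffineOpen U) (hV : IsAffineOpen V) (hUV : U ≤ h ⁻¹ᵁ V) :
    letI : Algebra Γ(Y, V) Γ(X, U) := (h.appLE V U hUV).hom.toAlgebra
    letI : Module Γ(Y, V) Γ((Scheme.Modules.pullback h).obj G, U) :=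
      Module.compHom _ (h.appLE V U hUV).hom
    haveI : IsScalarTower Γ(Y, V) Γ(X, U) Γ((Scheme.Modules.pullback h).obj G, U) :=
      .of_algebraMap_smul fun _ _ => rfl
    ∃ θ : Γ(G, V) →ₗ[Γ(Y, V)] Γ((Scheme.Modules.pullback h).obj G, U), IsBaseChange Γ(X, U) θ := by
  letI : Algebra Γ(Y, V) Γ(X, U) := (h.appLE V U hUV).hom.toAlgebra
  letI : Module Γ(Y, V) Γ((Scheme.Modules.pullback h).obj G, U) :=
    Module.compHom _ (h.appLE V U hUV).hom
  haveI : IsScalarTower Γ(Y, V) Γ(X, U) Γ((Scheme.Modules.pullback h).obj G, U) :=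
    .of_algebraMap_smul fun _ _ => rfl
  let e := pullbackSectionsIso h G hU hV hUV
  let E : Γ(X, U) ⊗[Γ(Y, V)] Γ(G, V) ≃ₗ[Γ(X, U)] Γ((Scheme.Modules.pullback h).obj G, U) :=
    (Groth.Agent.Lib.TildePullback.extendScalarsEquiv Γ(Y, V) Γ(X, U) Γ(G, V)).symm ≪≫ₗ
      e.symm.toLinearEquiv
  refine ⟨(E.toLinearMap.restrictScalars Γ(Y, V)).comp (TensorProduct.mk Γ(Y, V) Γ(X, U) Γ(G, V) 1), ?_⟩
  refine IsBaseChange.of_equiv E (fun x => ?_)
  rw [LinearMap.comp_apply, LinearMap.restrictScalars_apply, TensorProduct.mk_apply,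
    LinearEquiv.coe_coe]

/-- **Stalk of a pullback**: for `G` quasi-coherent on `Y` and `h : X ⟶ Y`, the stalk `(h^*G)_x` is the base
change of `G_{h x}` along `h.stalkMap x : O_{Y, h x} → O_{X, x}`. -/
theorem exists_isBaseChange_stalk_pullback (h : X ⟶ Y) (G : Y.Modules) [G.IsQuasicoherent] (x : X) :
    letI : Algebra (Y.presheaf.stalk (h x)) (X.presheaf.stalk x) := (h.stalkMap x).hom.toAlgebra
    letI : Module (Y.presheaf.stalk (h x))
        (((Scheme.Modules.pullback h).obj G).presheaf.stalk x) :=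
      Module.compHom _ (h.stalkMap x).hom
    haveI : IsScalarTower (Y.presheaf.stalk (h x)) (X.presheaf.stalk x)
        (((Scheme.Modules.pullback h).obj G).presheaf.stalk x) :=
      .of_algebraMap_smul fun _ _ => rfl
    ∃ τ : G.presheaf.stalk (h x) →ₗ[Y.presheaf.stalk (h x)]
        ((Scheme.Modules.pullback h).obj G).presheaf.stalk x,
      IsBaseChange (X.presheaf.stalk x) τ := by
  obtain ⟨V, hV, hxV⟩ : ∃ V : Y.Opens, IsAffineOpen V ∧ h x ∈ V := by
    obtain ⟨_, ⟨V, hV, rfl⟩, hxV, -⟩ :=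
      Y.isBasis_affineOpens.exists_subset_of_mem_open (Set.mem_univ (h x)) isOpen_univ
    exact ⟨V, hV, hxV⟩
  obtain ⟨U, hU, hxU, hUV⟩ : ∃ U : X.Opens, IsAffineOpen U ∧ x ∈ U ∧ U ≤ h ⁻¹ᵁ V := by
    obtain ⟨_, ⟨U, hU, rfl⟩, hxU, hUV⟩ :=
      X.isBasis_affineOpens.exists_subset_of_mem_open (show x ∈ (h ⁻¹ᵁ V : Set X) from hxV)
        (h ⁻¹ᵁ V).isOpen
    exact ⟨U, hU, hxU, hUV⟩
  let F := (Scheme.Modules.pullback h).obj G
  -- rings
  letI algAB : Algebra Γ(Y, V) Γ(X, U) := (h.appLE V U hUV).hom.toAlgebra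
  letI algAA' : Algebra Γ(Y, V) (Y.presheaf.stalk (h x)) :=
    TopCat.Presheaf.algebra_section_stalk Y.presheaf (⟨h x, hxV⟩ : V)
  letI algBB' : Algebra Γ(X, U) (X.presheaf.stalk x) :=
    TopCat.Presheaf.algebra_section_stalk X.presheaf (⟨x, hxU⟩ : U)
  letI algA'B' : Algebra (Y.presheaf.stalk (h x)) (X.presheaf.stalk x) :=
    (h.stalkMap x).hom.toAlgebra
  letI algAB' : Algebra Γ(Y, V) (X.presheaf.stalk x) :=
    ((h.stalkMap x).hom.comp (Y.presheaf.germ V (h x) hxV).hom).toAlgebra
  haveI : IsScalarTower Γ(Y, V) (Y.presheaf.stalk (h x)) (X.presheaf.stalk x) :=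
    IsScalarTower.of_algebraMap_eq' rfl
  haveI : IsScalarTower Γ(Y, V) Γ(X, U) (X.presheaf.stalk x) :=
    IsScalarTower.of_algebraMap_eq fun r => germ_appLE h hUV x hxU r
  haveI locA : IsLocalization.AtPrime (Y.presheaf.stalk (h x))
      (hV.primeIdealOf ⟨h x, hxV⟩).asIdeal := hV.isLocalization_stalk ⟨h x, hxV⟩
  haveI locB : IsLocalization.AtPrime (X.presheaf.stalk x)
      (hU.primeIdealOf ⟨x, hxU⟩).asIdeal := hU.isLocalization_stalk ⟨x, hxU⟩
  -- modules
  letI modAMp : Module Γ(Y, V) (G.presheaf.stalk (h x)) := moduleSectionStalk G (⟨h x, hxV⟩ : V)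
  haveI : IsScalarTower Γ(Y, V) (Y.presheaf.stalk (h x)) (G.presheaf.stalk (h x)) :=
    isScalarTower_sectionStalk G (⟨h x, hxV⟩ : V)
  letI modANU : Module Γ(Y, V) Γ(F, U) := Module.compHom _ (h.appLE V U hUV).hom
  haveI : IsScalarTower Γ(Y, V) Γ(X, U) Γ(F, U) := .of_algebraMap_smul fun _ _ => rfl
  letI modBNP : Module Γ(X, U) (F.presheaf.stalk x) := moduleSectionStalk F (⟨x, hxU⟩ : U)
  haveI : IsScalarTower Γ(X, U) (X.presheaf.stalk x) (F.presheaf.stalk x) :=
    isScalarTower_sectionStalk F (⟨x, hxU⟩ : U)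
  letI modA'NP : Module (Y.presheaf.stalk (h x)) (F.presheaf.stalk x) :=
    Module.compHom _ (h.stalkMap x).hom
  haveI : IsScalarTower (Y.presheaf.stalk (h x)) (X.presheaf.stalk x) (F.presheaf.stalk x) :=
    .of_algebraMap_smul fun _ _ => rfl
  letI modANP : Module Γ(Y, V) (F.presheaf.stalk x) :=
    Module.compHom _ ((h.stalkMap x).hom.comp (Y.presheaf.germ V (h x) hxV).hom)
  haveI : IsScalarTower Γ(Y, V) (X.presheaf.stalk x) (F.presheaf.stalk x) :=
    .of_algebraMap_smul fun _ _ => rfl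
  haveI : IsScalarTower Γ(Y, V) (Y.presheaf.stalk (h x)) (F.presheaf.stalk x) :=
    .of_algebraMap_smul fun _ _ => rfl
  haveI : IsScalarTower Γ(Y, V) Γ(X, U) (F.presheaf.stalk x) := by
    refine .of_algebraMap_smul fun r n => ?_
    exact congrArg (fun t : X.presheaf.stalk x => t • n) (germ_appLE h hUV x hxU r).symm
  -- maps
  haveI hf := isLocalizedModule_germ G hV (⟨h x, hxV⟩ : V)
  haveI hg := isLocalizedModule_germ F hU (⟨x, hxU⟩ : U)
  obtain ⟨θ, hθ⟩ := exists_isBaseChange_sections h G hU hV hUV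
  obtain ⟨τ, hτ, -⟩ := exists_isBaseChange_of_isLocalizedModule
    (A' := Y.presheaf.stalk (h x)) (B' := X.presheaf.stalk x)
    (hV.primeIdealOf ⟨h x, hxV⟩).asIdeal.primeCompl (hU.primeIdealOf ⟨x, hxU⟩).asIdeal.primeCompl
    (germLinear G (⟨h x, hxV⟩ : V)) θ hθ (germLinear F (⟨x, hxU⟩ : U))
  exact ⟨τ, hτ⟩

end Geometric

end Groth.Agent.Lib.H72PullbackStalk
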