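/-
helper42: support of pullbacks. `subsingleton_baseChange_iff` (local hom R → S of local rings, M finite: S ⊗ M = 0 iff M = 0),
`subsingleton_stalk_pullback_iff`, `support_pullback_eq_preimage` (F qcoh of finite type: Supp f^*F = f⁻¹ Supp F).
-/
import Groth.Agent.Lib.H72PullbackStalk
import Groth.Agent.Lib.SupportBaseChange
import Groth.Agent.Lib.CohFinite
import Mathlib.RingTheory.Spectrum.Prime.Module

set_option autoImplicit false
universe u
open CategoryTheory AlgebraicGeometry TopologicalSpace TensorProduct

namespace Groth.Agent.Lib.SupportPullback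

section Algebra
variable {R S : Type*} [CommRing R] [CommRing S] [IsLocalRing R] [IsLocalRing S] [Algebra R S]
  [IsLocalHom (algebraMap R S)] (M : Type*) [AddCommGroup M] [Module R M] [Module.Finite R M]

theorem subsingleton_baseChange_iff : Subsingleton (S ⊗[R] M) ↔ Subsingleton M := by
  constructor
  · intro h
    by_contra hM
    rw [not_subsingleton_iff_nontrivial] at hM
    have h1 : IsLocalRing.closedPoint R ∈ Module.support R M := IsLocalRing.closedPoint_mem_support R M
    have h2 : IsLocalRing.closedPoint S ∈ Module.support S (S ⊗[R] M) := by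
      rw [Groth.Agent.Lib.SupportBaseChange.mem_support_baseChange_iff]
      have : PrimeSpectrum.comap (algebraMap R S) (IsLocalRing.closedPoint S) = IsLocalRing.closedPoint R :=
        IsLocalRing.comap_closedPoint (algebraMap R S)
      rw [this]
      exact h1
    have h3 : (Module.support S (S ⊗[R] M)) = ∅ := Module.support_eq_empty
    rw [h3] at h2
    exact h2
  · intro h
    infer_instance

end Algebra

variable {X Y : Scheme.{u}}

/-- the stalk of a pullback of a quasi-coherent finite type module vanishes iff the stalk of the module
at the image point does -/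
theorem subsingleton_stalk_pullback_iff (f : Y ⟶ X) (F : X.Modules) [F.IsQuasicoherent]
    [F.IsFiniteType] (y : Y) :
    Subsingleton (((Scheme.Modules.pullback f).obj F).presheaf.stalk y) ↔
      Subsingleton (F.presheaf.stalk (f y)) := by
  let _ : Algebra (X.presheaf.stalk (f y)) (Y.presheaf.stalk y) := (f.stalkMap y).hom.toAlgebra
  let _ : Module (X.presheaf.stalk (f y))
      (((Scheme.Modules.pullback f).obj F).presheaf.stalk y) :=
    Module.compHom _ (f.stalkMap y).hom
  have : IsScalarTower (X.presheaf.stalk (f y)) (Y.presheaf.stalk y)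
      (((Scheme.Modules.pullback f).obj F).presheaf.stalk y) :=
    .of_algebraMap_smul fun _ _ => rfl
  obtain ⟨τ, hτ⟩ := Groth.Agent.Lib.H72PullbackStalk.exists_isBaseChange_stalk_pullback f F y
  have : Module.Finite (X.presheaf.stalk (f y)) (F.presheaf.stalk (f y)) :=
    Groth.Agent.Lib.CohFinite.finite_stalk_of_isFiniteType F (f y)
  have : IsLocalHom (algebraMap (X.presheaf.stalk (f y)) (Y.presheaf.stalk y)) :=
    inferInstanceAs (IsLocalHom (f.stalkMap y).hom)
  rw [← subsingleton_baseChange_iff (R := X.presheaf.stalk (f y)) (S := Y.presheaf.stalk y)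
    (F.presheaf.stalk (f y))]
  exact hτ.equiv.toEquiv.symm.subsingleton_congr

theorem support_pullback_eq_preimage (f : Y ⟶ X) (F : X.Modules) [F.IsQuasicoherent]
    [F.IsFiniteType] :
    CohB1.support ((Scheme.Modules.pullback f).obj F) = f.base ⁻¹' CohB1.support F := by
  ext y
  simp only [CohB1.support, Set.mem_preimage]
  exact not_congr (subsingleton_stalk_pullback_iff f F y)

end Groth.Agent.Lib.SupportPullback
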