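import Mathlib.RingTheory.Support
import Mathlib.RingTheory.LocalRing.Module
import Mathlib.RingTheory.Flat.FaithfullyFlat.Basic
import Mathlib.RingTheory.TensorProduct.Finite
import Mathlib.LinearAlgebra.TensorProduct.Tower

set_option autoImplicit false
open TensorProduct

namespace Groth.Agent.Lib.SupportTensor

section Algebra
variable {A : Type*} [CommRing A] (M N : Type*) [AddCommGroup M] [Module A M] [AddCommGroup N]
  [Module A N]

theorem nontrivial_tensor_iff_of_field {K : Type*} [Field K] (V W : Type*) [AddCommGroup V]
    [Module K V] [AddCommGroup W] [Module K W] :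
    Nontrivial (V ⊗[K] W) ↔ Nontrivial V ∧ Nontrivial W := by
  constructor
  · intro h
    constructor
    · by_contra hV
      rw [not_nontrivial_iff_subsingleton] at hV
      exact not_subsingleton (V ⊗[K] W) inferInstance
    · by_contra hW
      rw [not_nontrivial_iff_subsingleton] at hW
      exact not_subsingleton (V ⊗[K] W) inferInstance
  · rintro ⟨hV, hW⟩
    exact (Module.FaithfullyFlat.nontrivial_tensorProduct_iff_right K V).mpr hW

theorem mem_support_tensorProduct_iff [Module.Finite A M] [Module.Finite A N] (p : PrimeSpectrum A) :
    p ∈ Module.support A (M ⊗[A] N) ↔ p ∈ Module.support A M ∧ p ∈ Module.support A N := by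
  rw [Module.mem_support_iff_nontrivial_residueField_tensorProduct,
    Module.mem_support_iff_nontrivial_residueField_tensorProduct,
    Module.mem_support_iff_nontrivial_residueField_tensorProduct,
    ← nontrivial_tensor_iff_of_field (K := p.asIdeal.ResidueField)]
  exact (AlgebraTensorModule.distribBaseChange A p.asIdeal.ResidueField M N).toEquiv.nontrivial_congr

theorem support_tensorProduct [Module.Finite A M] [Module.Finite A N] :
    Module.support A (M ⊗[A] N) = Module.support A M ∩ Module.support A N :=
  Set.ext fun p => mem_support_tensorProduct_iff M N p

end Algebra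

end Groth.Agent.Lib.SupportTensor
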