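/-
helper42: supports of tensor products of quasi-coherent finite type modules:
`mem_support_iff_of_affine` (x ∈ Supp F ↔ prime of x ∈ Module.support Γ(F,U), U affine), `support_tensorMod`
(Supp (F ⊗ G) = Supp F ∩ Supp G), `isFiniteType_pullback`, `support_tensorMod_pullback`.
-/
import Groth.Agent.Lib.SupportTensorAlg
import Groth.Agent.Lib.OXModTensorQCoh
import Groth.Agent.Lib.QCohStalk
import Groth.Agent.Lib.CohFinite
import Groth.Agent.Lib.ModPullback
import Groth.Agent.Lib.SupportPullback
import Groth.Agent.Lib.H72PullbackQCoh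

set_option autoImplicit false
universe u
open CategoryTheory AlgebraicGeometry TopologicalSpace TensorProduct CohB1

namespace Groth.Agent.Lib.SupportTensor

open Groth.Agent.Lib.QCohStalk Groth.Agent.Lib.OXModTensorQCoh Groth.Agent.Lib.H90OXModAffine

variable {X : Scheme.{u}}

/-- membership in the support of a quasi-coherent module, tested on an affine open -/
theorem mem_support_iff_of_affine (F : X.Modules) [F.IsQuasicoherent] {U : X.Opens}
    (hU : IsAffineOpen U) (x : U) :
    (x : X) ∈ CohB1.support F ↔ hU.primeIdealOf x ∈ Module.support Γ(X, U) Γ(F, U) := by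
  let _ := moduleSectionStalk F x
  have := isLocalizedModule_germ F hU x
  rw [Module.mem_support_iff]
  simp only [CohB1.support, not_subsingleton_iff_nontrivial]
  exact (IsLocalizedModule.iso (hU.primeIdealOf x).asIdeal.primeCompl
    (germLinear F x)).toEquiv.symm.nontrivial_congr

/-- the support of a tensor product of quasi-coherent modules of finite type -/
theorem support_tensorMod (F G : X.Modules) [F.IsQuasicoherent] [G.IsQuasicoherent]
    [F.IsFiniteType] [G.IsFiniteType] :
    CohB1.support (tensorMod F G) = CohB1.support F ∩ CohB1.support G := by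
  have := isQuasicoherent_tensorMod F G
  ext z
  obtain ⟨_, ⟨U, hU : IsAffineOpen U, rfl⟩, hzU, -⟩ :=
    X.isBasis_affineOpens.exists_subset_of_mem_open (Set.mem_univ z) isOpen_univ
  have hF : Module.Finite Γ(X, U) Γ(F, U) := Groth.Agent.Lib.CohFinite.finite_sections_of_isAffineOpen F hU
  have hG : Module.Finite Γ(X, U) Γ(G, U) := Groth.Agent.Lib.CohFinite.finite_sections_of_isAffineOpen G hU
  have hF' : Module.Finite Γ(X, U) (ΓSpec (F.restrict hU.fromSpec)) := Module.Finite.equiv (sectionsEquiv F hU)
  have hG' : Module.Finite Γ(X, U) (ΓSpec (G.restrict hU.fromSpec)) := Module.Finite.equiv (sectionsEquiv G hU)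
  rw [Set.mem_inter_iff, mem_support_iff_of_affine _ hU ⟨z, hzU⟩, mem_support_iff_of_affine F hU ⟨z, hzU⟩,
    mem_support_iff_of_affine G hU ⟨z, hzU⟩, (sectionsTensorEquiv F G hU).support_eq,
    mem_support_tensorProduct_iff, (sectionsEquiv F hU).support_eq, (sectionsEquiv G hU).support_eq]

section Pullback
open Groth.Agent.Lib.ModPullback Groth.Agent.Lib.ModStalk
variable {X' : Scheme.{u}}

set_option backward.isDefEq.respectTransparency false in
/-- the pullback of a finite type module is of finite type -/
theorem isFiniteType_pullback (g : X' ⟶ X) (F : X.Modules) [F.IsFiniteType] :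
    SheafOfModules.IsFiniteType (R := X'.ringCatSheaf) ((Scheme.Modules.pullback g).obj F) := by
  obtain ⟨ι, U, gen, hU, hfin⟩ := exists_isOpenCover_generatingSections F
  have hcov : ⨆ i, g ⁻¹ᵁ U i = ⊤ := (hU.comap g.base.hom)
  have : ∀ i, ((pullbackGeneratingSections (g ∣_ U i) (gen i)).ofEpi
      (restrictPullbackIso g (U i) F).inv).IsFiniteType := fun i => by
    have := hfin i
    infer_instance
  exact Groth.Agent.Lib.H90OXModAffineFT.isFiniteType_of_cover _ (fun i => g ⁻¹ᵁ U i) hcov
    (fun i => (pullbackGeneratingSections (g ∣_ U i) (gen i)).ofEpi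
      (restrictPullbackIso g (U i) F).inv)


/-- support of a tensor product of pullbacks (EGA I 9.1.13 (ii) style) -/
theorem support_tensorMod_pullback {S Y : Scheme.{u}} (p : S ⟶ X) (q : S ⟶ Y) (F : X.Modules) (G : Y.Modules)
    [F.IsQuasicoherent] [G.IsQuasicoherent] [F.IsFiniteType] [G.IsFiniteType] :
    CohB1.support (tensorMod ((Scheme.Modules.pullback p).obj F) ((Scheme.Modules.pullback q).obj G)) =
      p ⁻¹' CohB1.support F ∩ q ⁻¹' CohB1.support G := by
  have h1 := isFiniteType_pullback p F
  have h2 := isFiniteType_pullback q G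
  rw [support_tensorMod, Groth.Agent.Lib.SupportPullback.support_pullback_eq_preimage,
    Groth.Agent.Lib.SupportPullback.support_pullback_eq_preimage]

end Pullback

end Groth.Agent.Lib.SupportTensor
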