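import Groth.Agent.Lib.AmpleIdealTwist
import Groth.Agent.Lib.LocFreeCrit
import Groth.Agent.Lib.GlobGenDescent
import Groth.Agent.Lib.PullTensor20
import Groth.Agent.Lib.SupportTensor
import Groth.Agent.Lib.GrMod81C
import Groth.Agent.Lib.H90OXModAffineFT
import Groth.Agent.Lib.CohFinAmple
import Groth.Agent.Lib.H90InvertibleFP
import Groth.Agent.Lib.H78AmpleTwist

/-!
# helper3: fpqc descent of ampleness along a finite jointly surjective family of flat affine base changes

* `epi_pullback_map_ofSections`: (flat base change of affine schemes, no surjectivity) if `g'^*F` is globally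
  generated then `g'^*` of the canonical map `⊕_{Γ(F)} O ⟶ F` is an epimorphism.
* `isGloballyGenerated_of_pullback_family`: global generation descends along a jointly surjective family of flat
  base changes of affine schemes.
* `quasiSeparatedSpace_of_family`: quasi-separatedness descends along a finite jointly surjective family of affine
  base changes.
* `isAmple_of_pullback_family`: ampleness descends (family version of S2491).
-/

set_option autoImplicit false
set_option linter.style.haveILetI false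
universe u
open CategoryTheory CategoryTheory.Limits AlgebraicGeometry Opposite TopologicalSpace
open Groth.Agent.Lib.H90Invertible Groth.Agent.Lib.StructureModule
open Groth.Agent.Lib.H78SecCoord Groth.Agent.Lib.H78GlobGen2 Groth.Agent.Lib.H78PullSec

namespace Groth.Agent.Lib.AmpleFpqcH3

open Groth.Agent.Lib.ModPullback Groth.Agent.Lib.FlatBaseChangeQcqs Groth.Agent.Lib.AffineBaseChange
  Groth.Agent.Lib.UnitBaseChange Groth.Agent.Lib.GlobGenDescent

section Single

variable {X S X' S' : Scheme.{u}} (f : X ⟶ S) (g : S' ⟶ S) (g' : X' ⟶ X) (f' : X' ⟶ S')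
  (h : IsPullback g' f' f g) (F : X.Modules)

include h in
set_option backward.isDefEq.respectTransparency false in
/-- flat base change of affine schemes: if `g'^*F` is globally generated, then the pullback of the canonical map
from the free module on all global sections of `F` is an epimorphism -/
theorem epi_pullback_map_ofSections [QuasiCompact f] [QuasiSeparated f] [Flat g]
    [F.IsQuasicoherent] [IsAffine S] [IsAffine S']
    (hG : Curv2.IsGloballyGenerated ((Scheme.Modules.pullback g').obj F)) :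
    Epi ((Scheme.Modules.pullback g').map (ofSections F (fun σ : Γ(F, ⊤) => σ))) := by
  obtain ⟨I, q, hq⟩ := hG
  haveI hq' : Epi (ofSections ((Scheme.Modules.pullback g').obj F) (fun k : I => sec (ιF k ≫ q))) := by
    rw [← eq_ofSections (K := I) q]; exact hq
  haveI hE : Epi (ofSections ((Scheme.Modules.pullback g').obj F)
      (fun σ : Γ(F, ⊤) => pbTop g' F σ)) :=
    epi_ofSections_of_mem_span ((Scheme.Modules.pullback g').obj F) (fun k => sec (ιF k ≫ q))
      (fun σ : Γ(F, ⊤) => pbTop g' F σ) (fun i => mem_span_pbTop f g g' f' h F _)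
  rw [← pullbackObjFreeIso_inv_comp_pullback_map_ofSections g' F (fun σ : Γ(F, ⊤) => σ)] at hE
  exact epi_of_epi (SheafOfModules.pullbackObjFreeIso g'.toRingCatSheafHom Γ(F, ⊤)).inv _

end Single

section Family

variable {X S : Scheme.{u}} (f : X ⟶ S) {ι : Type*} {S' X' : ι → Scheme.{u}}
  (g : ∀ i, S' i ⟶ S) (g' : ∀ i, X' i ⟶ X) (f' : ∀ i, X' i ⟶ S' i)
  (h : ∀ i, IsPullback (g' i) (f' i) f (g i))
  (hsurj : ∀ y : S, ∃ i, ∃ z : S' i, g i z = y)

include h hsurj in
/-- the base change of a jointly surjective family is jointly surjective -/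
theorem exists_preimage (x : X) : ∃ i, ∃ z : X' i, g' i z = x := by
  obtain ⟨i, y, hy⟩ := hsurj (f x)
  obtain ⟨z, hz, -⟩ := Scheme.Pullback.exists_preimage_pullback x y hy.symm
  refine ⟨i, (h i).isoPullback.inv z, ?_⟩
  rw [← Scheme.Hom.comp_apply, IsPullback.isoPullback_inv_fst]
  exact hz

include h hsurj in
/-- descent of global generation along a jointly surjective family of flat base changes of affine schemes -/
theorem isGloballyGenerated_of_pullback_family [QuasiCompact f] [QuasiSeparated f] [∀ i, Flat (g i)]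
    [IsAffine S] [∀ i, IsAffine (S' i)] (F : X.Modules) [F.IsQuasicoherent]
    (hG : ∀ i, Curv2.IsGloballyGenerated ((Scheme.Modules.pullback (g' i)).obj F)) :
    Curv2.IsGloballyGenerated F := by
  refine ⟨Γ(F, ⊤), ofSections F (fun σ : Γ(F, ⊤) => σ), ?_⟩
  haveI : (freeM X Γ(F, ⊤)).IsQuasicoherent := inferInstance
  refine Groth.Agent.Lib.H72PullbackDescent.epi_of_forall_epi_pullback g'
    (fun i => MorphismProperty.of_isPullback (h i).flip inferInstance)
    (exists_preimage f g g' f' h hsurj) (ofSections F (fun σ : Γ(F, ⊤) => σ))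
    (fun i => epi_pullback_map_ofSections f (g i) (g' i) (f' i) (h i) F (hG i))

include h hsurj in
/-- quasi-separatedness descends along a finite jointly surjective family of base changes of affine schemes -/
theorem quasiSeparatedSpace_of_family [Finite ι] [IsAffine S] [∀ i, IsAffine (S' i)]
    (hqs : ∀ i, QuasiSeparatedSpace (X' i)) : QuasiSeparatedSpace X := by
  haveI : ∀ i, IsAffineHom (g' i) := fun i => MorphismProperty.of_isPullback (h i).flip inferInstance
  rw [quasiSeparatedSpace_iff_forall_affineOpens]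
  intro U V
  have hUV : (U.1 ∩ V.1 : Set X) = ⋃ i, (g' i) '' ((g' i) ⁻¹' (U.1 ∩ V.1 : Set X)) := by
    ext x
    constructor
    · intro hx
      obtain ⟨i, z, rfl⟩ := exists_preimage f g g' f' h hsurj x
      exact Set.mem_iUnion.2 ⟨i, z, hx, rfl⟩
    · intro hx
      obtain ⟨i, z, hz, rfl⟩ := Set.mem_iUnion.1 hx
      exact hz
  rw [hUV]
  refine isCompact_iUnion (fun i => IsCompact.image ?_ (g' i).continuous)
  haveI := hqs i
  have hU' : IsAffineOpen ((g' i) ⁻¹ᵁ U.1) := U.2.preimage (g' i)
  have hV' : IsAffineOpen ((g' i) ⁻¹ᵁ V.1) := V.2.preimage (g' i)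
  exact (quasiSeparatedSpace_iff_forall_affineOpens.1 (hqs i)) ⟨_, hU'⟩ ⟨_, hV'⟩

include h hsurj in
/-- **fpqc descent of ampleness** along a finite jointly surjective family of flat base changes of affine schemes
(family version of S2491) -/
theorem isAmple_of_pullback_family [Finite ι] [IsAffine S] [∀ i, IsAffine (S' i)] [QuasiCompact f]
    [∀ i, Flat (g i)] (L : X.Modules) (hL : PicF.IsInvertible L)
    (hamp : ∀ i, CohB1.IsAmple ((Scheme.Modules.pullback (g' i)).obj L)) : CohB1.IsAmple L := by
  classical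
  haveI hc' : ∀ i, CompactSpace ↥(X' i) := fun i => (hamp i).2.1
  haveI : CompactSpace X := QuasiCompact.compactSpace_of_compactSpace f
  haveI : QuasiSeparatedSpace X := quasiSeparatedSpace_of_family f g g' f' h hsurj
    (fun i => Groth.Agent.Lib.H78AmpleBasis.quasiSeparatedSpace_of_isAmple (hamp i))
  haveI hqsf : QuasiSeparated f := inferInstance
  refine ⟨hL, inferInstance, fun x => ?_⟩
  obtain ⟨U, hU, e₁, 𝓚, hxU, -, he₁, hft, hsupp, h1⟩ :=
    Groth.Agent.Lib.AmpleIdealTwist.exists_ideal_data hL ⊤ x trivial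
  -- the ideal module is coherent
  haveI hqcK : (ClSub.idealMod 𝓚).IsQuasicoherent :=
    Groth.Agent.Lib.H77QCohKernel.isQuasicoherent_idealMod _
  haveI hftK : (ClSub.idealMod 𝓚).IsFiniteType := by
    apply Groth.Agent.Lib.H90OXModAffineFT.isFiniteType_of_forall_affine
    intro V
    haveI : Module.Finite Γ(X, V.1) (𝓚.ideal ⟨V.1, V.2⟩) := Module.Finite.iff_fg.mpr (hft ⟨V.1, V.2⟩)
    exact Module.Finite.equiv (Groth.Agent.Lib.GrMod81.idealEquiv 𝓚 V.2).symm
  -- upstairs: global generation of twists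
  have hcoh' : ∀ i, Coh.IsCoh ((Scheme.Modules.pullback (g' i)).obj (ClSub.idealMod 𝓚)) := fun i =>
    ⟨Groth.Agent.Lib.H72PullbackQCoh.isQuasicoherent_pullback _ _,
      Groth.Agent.Lib.SupportTensor.isFiniteType_pullback _ _⟩
  choose n₀ hn₀ using fun i => Groth.Agent.Lib.H78GlobGen2.isGloballyGenerated_twist (hamp i) _ (hcoh' i)
  obtain ⟨n, hn⟩ := Finite.exists_le n₀
  have hgg' : ∀ i, Curv2.IsGloballyGenerated ((Scheme.Modules.pullback (g' i)).obj
      (CohB1.tensorMod (ClSub.idealMod 𝓚) (CohB1.tensorPow L (n + 1)))) := fun i => by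
    obtain ⟨φ⟩ := Groth.Agent.Lib.PullTensor20.nonempty_pullback_twist_iso (g' i)
      (ClSub.idealMod 𝓚) hL (n + 1)
    exact Groth.Agent.Lib.H78AmpleTwist.isGloballyGenerated_of_iso φ.symm
      (hn₀ i (n + 1) ((hn i).trans (Nat.le_succ n)))
  haveI : (CohB1.tensorMod (ClSub.idealMod 𝓚) (CohB1.tensorPow L (n + 1))).IsQuasicoherent :=
    (Groth.Agent.Lib.CohFinAmple.isCoh_tensorMod ⟨hqcK, hftK⟩
      (Groth.Agent.Lib.CohFinAmple.isCoh_tensorPow
        (Groth.Agent.Lib.H90Invertible.isCoh_of_isInvertible hL) _)).1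
  have hgg : Curv2.IsGloballyGenerated (CohB1.tensorMod (ClSub.idealMod 𝓚) (CohB1.tensorPow L (n + 1))) :=
    isGloballyGenerated_of_pullback_family f g g' f' h hsurj _ hgg'
  obtain ⟨τ, hxτ, haff⟩ := Groth.Agent.Lib.AmpleIdealTwist.exists_affine_genOn
    (Groth.Agent.Lib.H78TensorGen.isInvertible_tensorPow hL (n + 1)) ⊤ U hU le_top
    (Groth.Agent.Lib.H78TensorGen.isGen_epow he₁ (n + 1)) 𝓚 (fun z _ hz => hsupp z hz) h1
    (Groth.Agent.Lib.AmpleIdealTwist.isGloballyGenerated_restrict_top hgg ⊤) x hxU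
  have hloc : CohB1.genLocus _ (Groth.Agent.Lib.H90Invertible.ofSection τ) =
      Groth.Agent.Lib.H78GenOn.genOn _ ⊤ τ := by
    rw [Groth.Agent.Lib.H78GenOn.genLocus_eq_genOn, Groth.Agent.Lib.H78SecCoord.sec_ofSection]
  refine ⟨n, Groth.Agent.Lib.H90Invertible.ofSection τ ≫
    (Groth.Agent.Lib.OXModTensor.leftUnitor (CohB1.tensorPow L (n + 1))).hom, ?_, ?_⟩
  · rw [Groth.Agent.Lib.H78AmpleUnit.genLocus_comp_iso, hloc]; exact hxτ
  · rw [Groth.Agent.Lib.H78AmpleUnit.genLocus_comp_iso, hloc]; exact haff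

end Family

end Groth.Agent.Lib.AmpleFpqcH3
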