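import Groth.Prelude.Def_FSch3
import Mathlib.RingTheory.TensorProduct.Quotient

set_option autoImplicit false
universe u

namespace Groth.Agent.Lib.IdealSheafComap

open AlgebraicGeometry CategoryTheory Limits

variable {X Y Z : Scheme.{u}}

/-- Inverse image of ideals along a bijective ring homomorphism commutes with products. -/
lemma ideal_comap_mul_of_bijective {R S : Type*} [CommRing R] [CommRing S] (g : R →+* S)
    (hg : Function.Bijective g) (I J : Ideal S) :
    (I * J).comap g = I.comap g * J.comap g := by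
  let e := RingEquiv.ofBijective g hg
  have h : ∀ K : Ideal S, K.comap g = K.map (e.symm : S →+* R) := fun K =>
    (Ideal.map_symm (I := K) e).symm
  rw [h, h, h, Ideal.map_mul]

/-- Inverse image of ideal sheaves along an open immersion commutes with products. -/
lemma comap_mul_of_isOpenImmersion (f : X ⟶ Y) [IsOpenImmersion f] (K₁ K₂ : Y.IdealSheafData) :
    (K₁ * K₂).comap f = K₁.comap f * K₂.comap f := by
  ext U : 2
  rw [Scheme.IdealSheafData.ideal_comap_of_isOpenImmersion]
  simp only [Scheme.IdealSheafData.ideal_mul, Pi.mul_apply,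
    Scheme.IdealSheafData.ideal_comap_of_isOpenImmersion]
  have hbij : Function.Bijective ((f.appIso U.1).inv.hom) :=
    ConcreteCategory.bijective_of_isIso (f.appIso U.1).inv
  exact ideal_comap_mul_of_bijective _ hbij _ _

/-- Algebra form: the inverse image along `Spec A ⟶ Spec B` of the ideal sheaf of `𝔟`. -/
lemma comap_idealSpec_algebraMap (B A : Type u) [CommRing A] [CommRing B] [Algebra B A]
    (𝔟 : Ideal B) :
    (FSch.idealSpec B 𝔟).comap (Spec.map (CommRingCat.ofHom (algebraMap B A))) =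
      FSch.idealSpec A (𝔟.map (algebraMap B A)) := by
  unfold FSch.idealSpec
  have hci : IsClosedImmersion (Spec.map (CommRingCat.ofHom (Ideal.Quotient.mk 𝔟))) :=
    IsClosedImmersion.spec_of_surjective _ Ideal.Quotient.mk_surjective
  rw [← Scheme.IdealSheafData.ker_fst_of_isClosedImmersion]
  have h1 : pullback.fst (Spec.map (CommRingCat.ofHom (algebraMap B A)))
      (Spec.map (CommRingCat.ofHom (Ideal.Quotient.mk 𝔟))) =
      (pullbackSpecIso B A (B ⧸ 𝔟)).hom ≫
        Spec.map (CommRingCat.ofHom Algebra.TensorProduct.includeLeftRingHom) :=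
    (pullbackSpecIso_hom_fst B A (B ⧸ 𝔟)).symm
  rw [h1, Scheme.Hom.ker_comp_of_isIso]
  let ψ := Algebra.TensorProduct.quotIdealMapEquivTensorQuot A 𝔟
  have h2 : (Algebra.TensorProduct.includeLeftRingHom : A →+* TensorProduct B A (B ⧸ 𝔟)) =
      ψ.toRingEquiv.toRingHom.comp (Ideal.Quotient.mk (𝔟.map (algebraMap B A))) := by
    ext a
    simp [ψ]
  rw [h2, CommRingCat.ofHom_comp, Spec.map_comp]
  have : IsIso (Spec.map (CommRingCat.ofHom ψ.toRingEquiv.toRingHom)) :=
    inferInstanceAs (IsIso (Scheme.Spec.mapIso ψ.toRingEquiv.toCommRingCatIso.op).hom)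
  rw [Scheme.Hom.ker_comp_of_isIso]

/-- The inverse image along `Spec φ` of the ideal sheaf of `𝔟` is the ideal sheaf of `φ(𝔟)A`. -/
lemma comap_idealSpec (A B : Type u) [CommRing A] [CommRing B] (φ : B →+* A) (𝔟 : Ideal B) :
    (FSch.idealSpec B 𝔟).comap (Spec.map (CommRingCat.ofHom φ)) = FSch.idealSpec A (𝔟.map φ) := by
  algebraize [φ]
  exact comap_idealSpec_algebraMap B A 𝔟

/-- The ideal sheaf of an ideal, through the ideal of global sections. -/
lemma idealSpec_eq_ofIdealTop (B : Type u) [CommRing B] (𝔟 : Ideal B) :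
    FSch.idealSpec B 𝔟 = Scheme.IdealSheafData.ofIdealTop
      (𝔟.comap (Scheme.ΓSpecIso (CommRingCat.of B)).hom.hom) := by
  unfold FSch.idealSpec
  rw [Scheme.ker_of_isAffine]
  congr 1
  have h := Scheme.ΓSpecIso_naturality (CommRingCat.ofHom (Ideal.Quotient.mk 𝔟))
  have hinj : Function.Injective (Scheme.ΓSpecIso (CommRingCat.of (B ⧸ 𝔟))).hom.hom :=
    (ConcreteCategory.bijective_of_isIso (Scheme.ΓSpecIso (CommRingCat.of (B ⧸ 𝔟))).hom).1
  ext x
  rw [RingHom.mem_ker, Ideal.mem_comap, ← Ideal.Quotient.eq_zero_iff_mem,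
    ← map_eq_zero_iff _ hinj]
  have := congr($(h).hom x)
  simp only [CommRingCat.hom_comp, RingHom.comp_apply, CommRingCat.hom_ofHom] at this
  rw [this]

/-- Every ideal sheaf on `Spec B` is the ideal sheaf of an ideal of `B`. -/
lemma exists_eq_idealSpec (B : Type u) [CommRing B]
    (𝓙 : (Spec (CommRingCat.of B)).IdealSheafData) : ∃ 𝔟 : Ideal B, 𝓙 = FSch.idealSpec B 𝔟 := by
  refine ⟨(𝓙.ideal ⟨⊤, isAffineOpen_top _⟩).comap
    (Scheme.ΓSpecIso (CommRingCat.of B)).inv.hom, ?_⟩
  rw [idealSpec_eq_ofIdealTop, Ideal.comap_comap, ← CommRingCat.hom_comp, Iso.hom_inv_id]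
  exact (Scheme.IdealSheafData.equivOfIsAffine.left_inv 𝓙).symm

/-- The ideal sheaf of a product of ideals is the product of the ideal sheaves. -/
lemma idealSpec_mul (B : Type u) [CommRing B] (𝔟₁ 𝔟₂ : Ideal B) :
    FSch.idealSpec B (𝔟₁ * 𝔟₂) = FSch.idealSpec B 𝔟₁ * FSch.idealSpec B 𝔟₂ := by
  rw [idealSpec_eq_ofIdealTop, idealSpec_eq_ofIdealTop, idealSpec_eq_ofIdealTop,
    ideal_comap_mul_of_bijective _
      (ConcreteCategory.bijective_of_isIso (Scheme.ΓSpecIso (CommRingCat.of B)).hom)]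
  exact map_mul (Scheme.IdealSheafData.equivOfIsAffine (X := Spec (CommRingCat.of B))).symm _ _

/-- Inverse image of ideal sheaves along a morphism of spectra commutes with products. -/
lemma comap_mul_SpecMap {A B : CommRingCat.{u}} (φ : B ⟶ A) (K₁ K₂ : (Spec B).IdealSheafData) :
    (K₁ * K₂).comap (Spec.map φ) = K₁.comap (Spec.map φ) * K₂.comap (Spec.map φ) := by
  obtain ⟨𝔟₁, rfl⟩ := exists_eq_idealSpec B K₁
  obtain ⟨𝔟₂, rfl⟩ := exists_eq_idealSpec B K₂
  have h := comap_idealSpec A B φ.hom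
  change ∀ 𝔟, (FSch.idealSpec B 𝔟).comap (Spec.map φ) = _ at h
  rw [← idealSpec_mul, h, h, h, Ideal.map_mul, idealSpec_mul]

/-- Two ideal sheaves agree as soon as their inverse images to the members of an open cover
agree. -/
lemma ext_of_openCover (𝒰 : X.OpenCover) {I J : X.IdealSheafData}
    (H : ∀ i, I.comap (𝒰.f i) = J.comap (𝒰.f i)) : I = J := by
  refine Scheme.IdealSheafData.ext_of_iSup_eq_top
    (fun k : Σ i, (𝒰.X i).affineOpens =>
      ⟨𝒰.f k.1 ''ᵁ k.2.1, k.2.2.image_of_isOpenImmersion (𝒰.f k.1)⟩) ?_ ?_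
  · rw [iSup_sigma]
    have : ∀ i, ⨆ W : (𝒰.X i).affineOpens, 𝒰.f i ''ᵁ W.1 = (𝒰.f i).opensRange := fun i => by
      rw [← Scheme.Hom.image_iSup, iSup_affineOpens_eq_top, Scheme.Hom.image_top_eq_opensRange]
    simp only [this]
    exact 𝒰.iSup_opensRange
  · rintro ⟨i, W⟩
    have h := congr(($(H i)).ideal W)
    rw [Scheme.IdealSheafData.ideal_comap_of_isOpenImmersion,
      Scheme.IdealSheafData.ideal_comap_of_isOpenImmersion] at h
    exact Ideal.comap_injective_of_surjective _
      (ConcreteCategory.bijective_of_isIso ((𝒰.f i).appIso W.1).inv).2 h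

/-- The multiplicativity of inverse images is local on the source. -/
lemma comap_mul_of_openCover (f : X ⟶ Y) (𝒰 : X.OpenCover)
    (H : ∀ i (K₁ K₂ : Y.IdealSheafData),
      (K₁ * K₂).comap (𝒰.f i ≫ f) = K₁.comap (𝒰.f i ≫ f) * K₂.comap (𝒰.f i ≫ f))
    (K₁ K₂ : Y.IdealSheafData) : (K₁ * K₂).comap f = K₁.comap f * K₂.comap f := by
  refine ext_of_openCover 𝒰 fun i => ?_
  rw [comap_mul_of_isOpenImmersion (𝒰.f i), ← Scheme.IdealSheafData.comap_comp,
    ← Scheme.IdealSheafData.comap_comp, ← Scheme.IdealSheafData.comap_comp]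
  exact H i K₁ K₂

/-- The multiplicativity of inverse images is stable under composition. -/
lemma comap_mul_comp (f : X ⟶ Y) (g : Y ⟶ Z)
    (hf : ∀ K₁ K₂ : Y.IdealSheafData, (K₁ * K₂).comap f = K₁.comap f * K₂.comap f)
    (hg : ∀ K₁ K₂ : Z.IdealSheafData, (K₁ * K₂).comap g = K₁.comap g * K₂.comap g)
    (K₁ K₂ : Z.IdealSheafData) :
    (K₁ * K₂).comap (f ≫ g) = K₁.comap (f ≫ g) * K₂.comap (f ≫ g) := by
  rw [Scheme.IdealSheafData.comap_comp, Scheme.IdealSheafData.comap_comp,
    Scheme.IdealSheafData.comap_comp, hg, hf]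

/-- Inverse image of ideal sheaves commutes with products. -/
theorem comap_mul (f : X ⟶ Y) (K₁ K₂ : Y.IdealSheafData) :
    (K₁ * K₂).comap f = K₁.comap f * K₂.comap f := by
  revert K₁ K₂
  wlog hY : ∃ R, Y = Spec R generalizing X Y
  · refine comap_mul_of_openCover f (Y.affineCover.pullback₁ f) fun i K₁ K₂ => ?_
    have h : (Y.affineCover.pullback₁ f).f i ≫ f =
        pullback.snd f (Y.affineCover.f i) ≫ Y.affineCover.f i := pullback.condition
    rw [h]
    exact comap_mul_comp _ _ (this _ ⟨_, rfl⟩)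
      (comap_mul_of_isOpenImmersion (Y.affineCover.f i)) K₁ K₂
  obtain ⟨R, rfl⟩ := hY
  wlog hX : ∃ S, X = Spec S generalizing X
  · exact comap_mul_of_openCover f X.affineCover fun i => this _ ⟨_, rfl⟩
  obtain ⟨S, rfl⟩ := hX
  obtain ⟨φ, rfl⟩ := Spec.map_surjective f
  exact comap_mul_SpecMap φ

/-- Inverse image of ideal sheaves commutes with powers. -/
theorem comap_pow (f : X ⟶ Y) (K : Y.IdealSheafData) (n : ℕ) :
    (K ^ n).comap f = K.comap f ^ n := by
  induction n with
  | zero => simp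
  | succ n ih => rw [pow_succ, pow_succ, comap_mul, ih]

end Groth.Agent.Lib.IdealSheafComap
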