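import Mathlib.RingTheory.Flat.Equalizer
import Mathlib.RingTheory.Flat.TorsionFree
import Mathlib.LinearAlgebra.TensorProduct.RightExactness
import Mathlib.AlgebraicGeometry.Morphisms.Flat
import Mathlib.AlgebraicGeometry.Morphisms.ClosedImmersion
import Mathlib.AlgebraicGeometry.IdealSheaf.Subscheme
import Groth.Prelude.Def_BlowUp2

set_option autoImplicit false
universe u
open CategoryTheory CategoryTheory.Limits AlgebraicGeometry TopologicalSpace Opposite
open scoped TensorProduct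

namespace Groth.Agent.Lib.RelCartier

section Algebra

universe uR u1 u2 u3

variable {R : Type uR} [CommRing R] {M' : Type u1} {M : Type u2} {M'' : Type u3}
  [AddCommGroup M'] [AddCommGroup M]
  [AddCommGroup M''] [Module R M'] [Module R M] [Module R M'']

/-- An extension of flat modules is flat. -/
theorem flat_of_exact_left_right (i : M' →ₗ[R] M) (p : M →ₗ[R] M'')
    (hi : Function.Injective i) (hp : Function.Surjective p) (hex : Function.Exact i p)
    [Module.Flat R M'] [Module.Flat R M''] : Module.Flat R M := by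
  rw [Module.Flat.iff_lTensor_preserves_injective_linearMap]
  intro N N' _ _ _ _ φ hφ
  rw [injective_iff_map_eq_zero]
  intro z hz
  -- image in M'' ⊗ N vanishes
  have h1 : (φ.lTensor M'') (p.rTensor N z) = 0 := by
    have : (φ.lTensor M'') (p.rTensor N z) = p.rTensor N' (φ.lTensor M z) := by
      rw [← LinearMap.comp_apply, ← LinearMap.comp_apply, LinearMap.lTensor_comp_rTensor,
        LinearMap.rTensor_comp_lTensor]
    rw [this, hz, map_zero]
  have h2 : p.rTensor N z = 0 :=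
    (injective_iff_map_eq_zero _).mp
      (Module.Flat.lTensor_preserves_injective_linearMap (M := M'') φ hφ) _ h1
  obtain ⟨z', rfl⟩ := (rTensor_exact N hex hp z).mp h2
  have h3 : i.rTensor N' (φ.lTensor M' z') = 0 := by
    have : i.rTensor N' (φ.lTensor M' z') = φ.lTensor M (i.rTensor N z') := by
      rw [← LinearMap.comp_apply, ← LinearMap.comp_apply, LinearMap.lTensor_comp_rTensor,
        LinearMap.rTensor_comp_lTensor]
    rw [this, hz]
  have hinj : Function.Injective (i.rTensor N') :=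
    (LinearMap.lTensor_inj_iff_rTensor_inj _ _).mp
      (LinearMap.lTensor_injective_of_exact_of_flat p hp i hi hex N')
  have h4 : φ.lTensor M' z' = 0 := (injective_iff_map_eq_zero _).mp hinj _ h3
  have h5 : z' = 0 := (injective_iff_map_eq_zero _).mp
      (Module.Flat.lTensor_preserves_injective_linearMap (M := M') φ hφ) _ h4
  rw [h5, map_zero]

/-- The kernel of a surjection of flat modules is flat. -/
theorem flat_of_exact_mid_right (i : M' →ₗ[R] M) (p : M →ₗ[R] M'')
    (hi : Function.Injective i) (hp : Function.Surjective p) (hex : Function.Exact i p)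
    [Module.Flat R M] [Module.Flat R M''] : Module.Flat R M' := by
  rw [Module.Flat.iff_lTensor_preserves_injective_linearMap]
  intro N N' _ _ _ _ φ hφ
  rw [injective_iff_map_eq_zero]
  intro z' hz'
  have h3 : φ.lTensor M (i.rTensor N z') = 0 := by
    have : i.rTensor N' (φ.lTensor M' z') = φ.lTensor M (i.rTensor N z') := by
      rw [← LinearMap.comp_apply, ← LinearMap.comp_apply, LinearMap.lTensor_comp_rTensor,
        LinearMap.rTensor_comp_lTensor]
    rw [← this, hz', map_zero]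
  have h4 : i.rTensor N z' = 0 := (injective_iff_map_eq_zero _).mp
      (Module.Flat.lTensor_preserves_injective_linearMap (M := M) φ hφ) _ h3
  have hinj : Function.Injective (i.rTensor N) :=
    (LinearMap.lTensor_inj_iff_rTensor_inj _ _).mp
      (LinearMap.lTensor_injective_of_exact_of_flat p hp i hi hex N)
  exact (injective_iff_map_eq_zero _).mp hinj _ h4

section Quot

variable {A : Type*} [CommRing A] (a b : A)

/-- multiplication by `a` as a map `A/(b) → A/(ab)` -/
noncomputable def mulQ : (A ⧸ Ideal.span {b}) →ₗ[A] (A ⧸ Ideal.span {a * b}) :=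
  Submodule.mapQ (Ideal.span {b}) (Ideal.span {a * b}) (LinearMap.mulLeft A a) (by
    intro x hx
    obtain ⟨y, rfl⟩ := Ideal.mem_span_singleton'.mp hx
    rw [Submodule.mem_comap, LinearMap.mulLeft_apply]
    exact Ideal.mem_span_singleton'.mpr ⟨y, by ring⟩)

/-- the projection `A/(ab) → A/(a)` -/
noncomputable def projQ : (A ⧸ Ideal.span {a * b}) →ₗ[A] (A ⧸ Ideal.span {a}) :=
  Submodule.mapQ (Ideal.span {a * b}) (Ideal.span {a}) LinearMap.id (by
    intro x hx
    obtain ⟨y, rfl⟩ := Ideal.mem_span_singleton'.mp hx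
    rw [Submodule.mem_comap, LinearMap.id_apply]
    exact Ideal.mem_span_singleton'.mpr ⟨y * b, by ring⟩)

lemma mulQ_mk (x : A) : mulQ a b (Submodule.Quotient.mk x) = Submodule.Quotient.mk (a * x) := rfl

lemma projQ_mk (x : A) : projQ a b (Submodule.Quotient.mk x) = Submodule.Quotient.mk x := rfl

lemma mulQ_injective (ha : a ∈ nonZeroDivisors A) : Function.Injective (mulQ a b) := by
  rw [injective_iff_map_eq_zero]
  intro z hz
  obtain ⟨x, rfl⟩ := Submodule.Quotient.mk_surjective _ z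
  rw [mulQ_mk, Submodule.Quotient.mk_eq_zero] at hz
  obtain ⟨y, hy⟩ := Ideal.mem_span_singleton'.mp hz
  rw [Submodule.Quotient.mk_eq_zero]
  have h0 : a * (x - y * b) = 0 := by rw [mul_sub, ← hy]; ring
  have h1 : x - y * b = 0 := (mul_left_mem_nonZeroDivisors_eq_zero_iff ha).mp h0
  exact Ideal.mem_span_singleton'.mpr ⟨y, (sub_eq_zero.mp h1).symm⟩

lemma projQ_surjective : Function.Surjective (projQ a b) := by
  intro z
  obtain ⟨x, rfl⟩ := Submodule.Quotient.mk_surjective _ z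
  exact ⟨Submodule.Quotient.mk x, rfl⟩

lemma exact_mulQ_projQ : Function.Exact (mulQ a b) (projQ a b) := by
  intro z
  obtain ⟨x, rfl⟩ := Submodule.Quotient.mk_surjective _ z
  rw [projQ_mk, Submodule.Quotient.mk_eq_zero]
  constructor
  · intro hx
    obtain ⟨y, rfl⟩ := Ideal.mem_span_singleton'.mp hx
    exact ⟨Submodule.Quotient.mk y, by rw [mulQ_mk, mul_comm a y]⟩
  · rintro ⟨w, hw⟩
    obtain ⟨y, rfl⟩ := Submodule.Quotient.mk_surjective _ w
    rw [mulQ_mk, Submodule.Quotient.eq] at hw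
    obtain ⟨c, hc⟩ := Ideal.mem_span_singleton'.mp hw
    exact Ideal.mem_span_singleton'.mpr ⟨y - c * b, by linear_combination (-1 : A) * hc⟩

variable (R : Type*) [CommRing R] [Algebra R A]

/-- If `a` is a nonzerodivisor and `A/(a)`, `A/(b)` are flat over `R`, so is `A/(ab)`. -/
theorem flat_quot_mul (ha : a ∈ nonZeroDivisors A) [Module.Flat R (A ⧸ Ideal.span {a})]
    [Module.Flat R (A ⧸ Ideal.span {b})] : Module.Flat R (A ⧸ Ideal.span {a * b}) :=
  flat_of_exact_left_right ((mulQ a b).restrictScalars R) ((projQ a b).restrictScalars R)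
    (mulQ_injective a b ha) (projQ_surjective a b) (exact_mulQ_projQ a b)

/-- If `a` is a nonzerodivisor and `A/(a)`, `A/(ab)` are flat over `R`, so is `A/(b)`. -/
theorem flat_quot_of_mul (ha : a ∈ nonZeroDivisors A) [Module.Flat R (A ⧸ Ideal.span {a})]
    [Module.Flat R (A ⧸ Ideal.span {a * b})] : Module.Flat R (A ⧸ Ideal.span {b}) :=
  flat_of_exact_mid_right ((mulQ a b).restrictScalars R) ((projQ a b).restrictScalars R)
    (mulQ_injective a b ha) (projQ_surjective a b) (exact_mulQ_projQ a b)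

end Quot

section Transport

variable {R A B : Type*} [CommRing R] [CommRing A] [CommRing B]

/-- For a surjection `π : A → B`, flatness of `B` over `R` is flatness of `A / ker π`. -/
lemma flat_quot_ker_iff (φ : R →+* A) (π : A →+* B) (hπ : Function.Surjective π) :
    (letI := φ.toAlgebra; Module.Flat R (A ⧸ RingHom.ker π)) ↔ (π.comp φ).Flat := by
  letI := φ.toAlgebra
  letI := (π.comp φ).toAlgebra
  let e : (A ⧸ RingHom.ker π) ≃+* B := RingHom.quotientKerEquivOfSurjective hπ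
  let el : (A ⧸ RingHom.ker π) ≃ₗ[R] B :=
    { e with
      map_smul' := by
        intro r x
        obtain ⟨y, rfl⟩ := Ideal.Quotient.mk_surjective x
        change e (r • Ideal.Quotient.mk _ y) = (π.comp φ) r * e (Ideal.Quotient.mk _ y)
        rw [Algebra.smul_def, map_mul]
        rfl }
  constructor
  · intro h
    haveI : Module.Flat R (A ⧸ RingHom.ker π) := h
    exact Module.Flat.of_linearEquiv el.symm
  · intro h
    haveI : Module.Flat R B := h
    exact Module.Flat.of_linearEquiv el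

end Transport

end Algebra

section Geometry

variable {X S : Scheme.{u}}

lemma comp_appLE_subscheme (f : X ⟶ S) (𝓘 : X.IdealSheafData) (T : S.Opens) (U : X.affineOpens)
    (e : U.1 ≤ f ⁻¹ᵁ T) :
    (𝓘.subschemeι ≫ f).appLE T (𝓘.subschemeι ⁻¹ᵁ U.1)
        (fun _ hz => e hz) = f.appLE T U.1 e ≫ 𝓘.subschemeι.app U.1 := by
  rw [Scheme.Hom.app_eq_appLE, Scheme.Hom.appLE_comp_appLE]

/-- Flatness of the closed subscheme over the base gives flatness of the quotient rings. -/
theorem flat_quot_of_flat_subscheme (f : X ⟶ S) (𝓘 : X.IdealSheafData)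
    (hflat : Flat (𝓘.subschemeι ≫ f)) (T : S.affineOpens) (U : X.affineOpens)
    (e : U.1 ≤ f ⁻¹ᵁ T.1) :
    letI := (f.appLE T.1 U.1 e).hom.toAlgebra
    Module.Flat Γ(S, T.1) (Γ(X, U.1) ⧸ 𝓘.ideal U) := by
  have hV : IsAffineOpen (𝓘.subschemeι ⁻¹ᵁ U.1) := U.2.preimage 𝓘.subschemeι
  have h1 := Flat.flat_appLE (𝓘.subschemeι ≫ f) T.2 hV (fun _ hz => e hz)
  rw [comp_appLE_subscheme f 𝓘 T.1 U e, CommRingCat.hom_comp] at h1
  rw [← flat_quot_ker_iff _ _ (𝓘.subschemeι_app_surjective U), 𝓘.ker_subschemeι_app U] at h1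
  exact h1

/-- Flatness of the closed subscheme over the base can be checked on quotient rings locally. -/
theorem flat_subscheme_of_flat_quot (f : X ⟶ S) (𝓘 : X.IdealSheafData)
    (H : ∀ x ∈ 𝓘.support, ∃ (T : S.affineOpens) (U : X.affineOpens) (e : U.1 ≤ f ⁻¹ᵁ T.1),
      x ∈ U.1 ∧ (letI := (f.appLE T.1 U.1 e).hom.toAlgebra
      Module.Flat Γ(S, T.1) (Γ(X, U.1) ⧸ 𝓘.ideal U))) :
    Flat (𝓘.subschemeι ≫ f) := by
  rw [HasRingHomProperty.iff_exists_appLE (P := @Flat)
    (RingHom.Flat.stableUnderComposition.stableUnderCompositionWithLocalizationAway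
      RingHom.Flat.holdsForLocalizationAway).1]
  intro z
  have hz : 𝓘.subschemeι z ∈ 𝓘.support := by
    have : 𝓘.subschemeι z ∈ Set.range 𝓘.subschemeι := ⟨z, rfl⟩
    rw [𝓘.range_subschemeι] at this
    exact this
  obtain ⟨T, U, e, hxU, hfl⟩ := H _ hz
  have hV : IsAffineOpen (𝓘.subschemeι ⁻¹ᵁ U.1) := U.2.preimage 𝓘.subschemeι
  refine ⟨T, ⟨_, hV⟩, hxU, fun _ hz => e hz, ?_⟩
  rw [comp_appLE_subscheme f 𝓘 T.1 U e, CommRingCat.hom_comp,
    ← flat_quot_ker_iff _ _ (𝓘.subschemeι_app_surjective U), 𝓘.ker_subschemeι_app U]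
  exact hfl

/-- restriction between affine opens is flat -/
lemma flat_res {V U : X.Opens} (hV : IsAffineOpen V) (hU : IsAffineOpen U) (h : V ≤ U) :
    (X.presheaf.map (homOfLE h).op).hom.Flat := by
  have h1 := Flat.flat_appLE (𝟙 X) hU hV (by simpa using h)
  have h2 : (𝟙 X : X ⟶ X).appLE U V (by simpa using h) = X.presheaf.map (homOfLE h).op := by
    simp only [Scheme.Hom.appLE, Scheme.Hom.id_app]
    rfl
  rw [h2] at h1
  exact h1

lemma map_mem_nonZeroDivisors_of_flat {A B : Type*} [CommRing A] [CommRing B] (φ : A →+* B)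
    (hφ : φ.Flat) (a : A) (ha : a ∈ nonZeroDivisors A) : φ a ∈ nonZeroDivisors B := by
  letI := φ.toAlgebra
  haveI : Module.Flat A B := hφ
  have hreg : IsSMulRegular B a := Module.Flat.isSMulRegular_of_nonZeroDivisors ha
  rw [mem_nonZeroDivisors_iff_right]
  intro x hx
  apply hreg
  change a • x = a • 0
  rw [smul_zero, Algebra.smul_def]
  rw [mul_comm] at hx
  exact hx

/-- a principal generator by a nonzerodivisor restricts to smaller affine opens -/
lemma cartier_restrict (𝓘 : X.IdealSheafData) {U V : X.affineOpens} (h : V ≤ U)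
    (a : Γ(X, U.1)) (ha : a ∈ nonZeroDivisors Γ(X, U.1)) (hI : 𝓘.ideal U = Ideal.span {a}) :
    X.presheaf.map (homOfLE h).op a ∈ nonZeroDivisors Γ(X, V.1) ∧
      𝓘.ideal V = Ideal.span {(X.presheaf.map (homOfLE h).op a : Γ(X, V.1))} := by
  refine ⟨map_mem_nonZeroDivisors_of_flat _ (flat_res V.2 U.2 h) a ha, ?_⟩
  rw [← 𝓘.map_ideal h, hI, Ideal.map_span, Set.image_singleton]

/-- common local generators for two effective Cartier ideals, on an affine open mapping into an
affine open of the base -/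
lemma exists_local_data (f : X ⟶ S) (𝓘₁ 𝓘₂ : X.IdealSheafData)
    (h₁ : BlowUp.IsEffCartierIdeal 𝓘₁) (h₂ : BlowUp.IsEffCartierIdeal 𝓘₂) (x : X) :
    ∃ (T : S.affineOpens) (V : X.affineOpens) (_ : V.1 ≤ f ⁻¹ᵁ T.1) (b₁ b₂ : Γ(X, V.1)),
      x ∈ V.1 ∧ b₁ ∈ nonZeroDivisors Γ(X, V.1) ∧ b₂ ∈ nonZeroDivisors Γ(X, V.1) ∧
        𝓘₁.ideal V = Ideal.span {b₁} ∧ 𝓘₂.ideal V = Ideal.span {b₂} := by
  obtain ⟨U₁, hx₁, a₁, ha₁, hI₁⟩ := h₁ x
  obtain ⟨U₂, hx₂, a₂, ha₂, hI₂⟩ := h₂ x
  obtain ⟨_, ⟨T, hT, rfl⟩, hxT, -⟩ :=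
    S.isBasis_affineOpens.exists_subset_of_mem_open (Set.mem_univ (f x)) isOpen_univ
  have hxW : x ∈ U₁.1 ⊓ U₂.1 ⊓ f ⁻¹ᵁ T := ⟨⟨hx₁, hx₂⟩, hxT⟩
  obtain ⟨_, ⟨V, hV, rfl⟩, hxV, hVW⟩ :=
    X.isBasis_affineOpens.exists_subset_of_mem_open hxW (U₁.1 ⊓ U₂.1 ⊓ f ⁻¹ᵁ T).2
  have hV₁ : (⟨V, hV⟩ : X.affineOpens) ≤ U₁ := fun y hy => (hVW hy).1.1
  have hV₂ : (⟨V, hV⟩ : X.affineOpens) ≤ U₂ := fun y hy => (hVW hy).1.2
  obtain ⟨hb₁, hJ₁⟩ := cartier_restrict 𝓘₁ hV₁ a₁ ha₁ hI₁
  obtain ⟨hb₂, hJ₂⟩ := cartier_restrict 𝓘₂ hV₂ a₂ ha₂ hI₂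
  exact ⟨⟨T, hT⟩, ⟨V, hV⟩, fun y hy => (hVW hy).2, _, _, hxV, hb₁, hb₂, hJ₁, hJ₂⟩

end Geometry

end Groth.Agent.Lib.RelCartier
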