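import Groth.Prelude.Def_BlowUp2
import Groth.Agent.Lib.IdealComap
import Groth.Agent.Lib.IdealSheafComap
import Groth.Agent.Lib.RelCartier
import Mathlib.AlgebraicGeometry.Properties

/-!
# Blowing up via its universal property (helper24)

Consequences of `BlowUp.IsBlowUp b 𝓘` (no construction):
* `isEffCartier_top`, `comap_eq_top`, `isEffCartier_mul`
* `isIso_morphismRestrict_compl`: `b` is an isomorphism over the complement of the centre
* `basicOpen_le_preimage_compl`
* `isEffCartier_comap_of_isBlowUp`: the pullback of an effective Cartier divisor along a blowing up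
  is an effective Cartier divisor
-/

set_option autoImplicit false
universe u
open CategoryTheory CategoryTheory.Limits AlgebraicGeometry TopologicalSpace

namespace Groth.Agent.Lib.BlowUpUniv

open Groth.Agent.Lib.RelCartier

theorem isEffCartier_top {Y : Scheme.{u}} :
    BlowUp.IsEffCartierIdeal (⊤ : Y.IdealSheafData) := by
  intro y
  obtain ⟨V, hV, hyV, -⟩ := exists_isAffineOpen_mem_and_subset (x := y) (U := ⊤) trivial
  refine ⟨⟨V, hV⟩, hyV, 1, one_mem _, ?_⟩
  rw [Scheme.IdealSheafData.ideal_top, Pi.top_apply, Ideal.span_singleton_one]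

theorem comap_eq_top {X Y : Scheme.{u}} (𝓘 : X.IdealSheafData) (g : Y ⟶ X)
    (h : ∀ y, g y ∉ 𝓘.support) : 𝓘.comap g = ⊤ := by
  rw [← Scheme.IdealSheafData.support_eq_bot_iff, Scheme.IdealSheafData.support_comap]
  ext y
  simp only [Closeds.coe_preimage, Set.mem_preimage, SetLike.mem_coe, Closeds.coe_bot,
    Set.mem_empty_iff_false, iff_false]
  exact h y

/-- The product of two effective Cartier ideals is effective Cartier. -/
theorem isEffCartier_mul {X : Scheme.{u}} (𝓐 𝓑 : X.IdealSheafData)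
    (hA : BlowUp.IsEffCartierIdeal 𝓐) (hB : BlowUp.IsEffCartierIdeal 𝓑) :
    BlowUp.IsEffCartierIdeal (𝓐 * 𝓑) := by
  intro x
  obtain ⟨-, V, -, a, b, hxV, ha, hb, hIa, hIb⟩ := exists_local_data (𝟙 X) 𝓐 𝓑 hA hB x
  refine ⟨V, hxV, a * b, mul_mem ha hb, ?_⟩
  rw [Scheme.IdealSheafData.ideal_mul, Pi.mul_apply, hIa, hIb,
    Ideal.span_singleton_mul_span_singleton]

section blowup

variable {X X' : Scheme.{u}} {𝓘 : X.IdealSheafData} {b : X' ⟶ X}

/-- A blowing up is an isomorphism over the complement of its centre. -/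
theorem isIso_morphismRestrict_compl (hb : BlowUp.IsBlowUp b 𝓘) :
    IsIso (b ∣_ 𝓘.support.compl) := by
  obtain ⟨-, huniv⟩ := hb
  set U : X.Opens := 𝓘.support.compl with hU
  set W : X'.Opens := b ⁻¹ᵁ U with hW
  have hUcart : BlowUp.IsEffCartierIdeal (𝓘.comap U.ι) := by
    rw [comap_eq_top 𝓘 U.ι (fun y => y.2)]
    exact isEffCartier_top
  obtain ⟨h, hh, -⟩ := huniv U U.ι hUcart
  have hrange : Set.range h ⊆ Set.range W.ι := by
    rintro _ ⟨y, rfl⟩
    rw [Scheme.Opens.range_ι]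
    change b (h y) ∈ U
    rw [← Scheme.Hom.comp_apply, hh]
    exact y.2
  let h' : (U : Scheme) ⟶ W := IsOpenImmersion.lift W.ι h hrange
  have hh' : h' ≫ W.ι = h := IsOpenImmersion.lift_fac _ _ _
  have hWcart : BlowUp.IsEffCartierIdeal (𝓘.comap (W.ι ≫ b)) := by
    rw [comap_eq_top 𝓘 (W.ι ≫ b) (fun y => ?_)]
    · exact isEffCartier_top
    · rw [Scheme.Hom.comp_apply]
      exact y.2
  obtain ⟨k, hk, hkuniq⟩ := huniv W (W.ι ≫ b) hWcart
  have e1 : W.ι = k := hkuniq W.ι rfl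
  have e2 : (b ∣_ U) ≫ h = k :=
    hkuniq _ (by change ((b ∣_ U) ≫ h) ≫ b = W.ι ≫ b; rw [Category.assoc, hh, morphismRestrict_ι])
  have e3 : (b ∣_ U) ≫ h' = 𝟙 _ := by
    rw [← cancel_mono W.ι, Category.assoc, hh', e2, ← e1, Category.id_comp]
  have e4 : h' ≫ (b ∣_ U) = 𝟙 _ := by
    rw [← cancel_mono U.ι, Category.assoc, morphismRestrict_ι, ← Category.assoc, hh', hh,
      Category.id_comp]
  exact ⟨h', e3, e4⟩

/-- Where the inverse image ideal is generated by `f`, the basic open of `f` lies over the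
complement of the centre. -/
theorem basicOpen_le_preimage_compl (V : X'.affineOpens) (f : Γ(X', V.1))
    (hI : (𝓘.comap b).ideal V = Ideal.span {f}) :
    X'.basicOpen f ≤ b ⁻¹ᵁ 𝓘.support.compl := by
  intro y hy
  have hyV : y ∈ V.1 := X'.basicOpen_le f hy
  have hns : y ∉ (𝓘.comap b).support := by
    rw [Scheme.IdealSheafData.mem_support_iff_of_mem hyV, hI, Scheme.zeroLocus_span,
      Scheme.zeroLocus_singleton]
    exact fun h => h hy
  rw [Scheme.IdealSheafData.support_comap] at hns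
  exact hns

/-- Over the basic open of a local equation of the exceptional divisor, the blowing up is flat
(it is an open immersion there). -/
theorem flat_basicOpen_ι_comp (hb : BlowUp.IsBlowUp b 𝓘) (V : X'.affineOpens) (f : Γ(X', V.1))
    (hI : (𝓘.comap b).ideal V = Ideal.span {f}) :
    Flat ((X'.basicOpen f).ι ≫ b) := by
  have hiso := isIso_morphismRestrict_compl hb
  have hle := basicOpen_le_preimage_compl V f hI
  have : (X'.basicOpen f).ι ≫ b =
      X'.homOfLE hle ≫ (b ∣_ 𝓘.support.compl) ≫ Scheme.Opens.ι 𝓘.support.compl := by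
    rw [morphismRestrict_ι, ← Category.assoc, Scheme.homOfLE_ι]
  rw [this]
  infer_instance

/-- The pullback of an effective Cartier divisor along a blowing up is an effective Cartier
divisor. -/
theorem isEffCartier_comap_of_isBlowUp (hb : BlowUp.IsBlowUp b 𝓘) (𝓚 : X.IdealSheafData)
    (hK : BlowUp.IsEffCartierIdeal 𝓚) : BlowUp.IsEffCartierIdeal (𝓚.comap b) := by
  intro x'
  obtain ⟨V, hxV, s, hs, hIs⟩ := hb.1 x'
  obtain ⟨U, hxU, t, ht, hKt⟩ := hK (b x')
  have hxW : x' ∈ V.1 ⊓ b ⁻¹ᵁ U.1 := ⟨hxV, hxU⟩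
  obtain ⟨_, ⟨V₁, hV₁, rfl⟩, hxV₁, hV₁W⟩ :=
    X'.isBasis_affineOpens.exists_subset_of_mem_open hxW (V.1 ⊓ b ⁻¹ᵁ U.1).2
  have hV₁V : (⟨V₁, hV₁⟩ : X'.affineOpens) ≤ V := fun y hy => (hV₁W hy).1
  have e : V₁ ≤ b ⁻¹ᵁ U.1 := fun y hy => (hV₁W hy).2
  obtain ⟨hs₁, hIs₁⟩ := cartier_restrict (𝓘.comap b) hV₁V s hs hIs
  set s₁ : Γ(X', V₁) := X'.presheaf.map (homOfLE hV₁V).op s with hs₁def
  refine ⟨⟨V₁, hV₁⟩, hxV₁, (b.appLE U.1 V₁ e).hom t, ?_, ?_⟩
  · -- nonzerodivisor
    set D : X'.Opens := X'.basicOpen s₁ with hDdef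
    have hDV : D ≤ V₁ := X'.basicOpen_le s₁
    have hflat : Flat (D.ι ≫ b) := flat_basicOpen_ι_comp hb ⟨V₁, hV₁⟩ s₁ hIs₁
    have hDaff : IsAffine (D : Scheme) := hV₁.basicOpen s₁
    have e' : (⊤ : (D : Scheme).Opens) ≤ (D.ι ≫ b) ⁻¹ᵁ U.1 := by
      intro y _
      exact e (hDV y.2)
    have h1 : ((D.ι ≫ b).appLE U.1 ⊤ e').hom.Flat :=
      Flat.flat_appLE (D.ι ≫ b) U.2 (isAffineOpen_top _) e'
    have hcomp : (D.ι ≫ b).appLE U.1 ⊤ e' =
        b.appLE U.1 V₁ e ≫ (X'.presheaf.map (homOfLE hDV).op ≫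
          D.ι.appLE D ⊤ D.ι_preimage_self.ge) := by
      rw [← Category.assoc, Scheme.Hom.appLE_map, Scheme.Hom.appLE_comp_appLE]
    have h2 : ((D.ι ≫ b).appLE U.1 ⊤ e').hom t ∈ nonZeroDivisors Γ((D : Scheme), ⊤) :=
      map_mem_nonZeroDivisors_of_flat _ h1 t ht
    -- injectivity of restriction to `D`
    have hloc : IsLocalization.Away s₁ Γ(X', D) := hV₁.isLocalization_basicOpen s₁
    have hinj1 : Function.Injective (X'.presheaf.map (homOfLE hDV).op).hom :=
      IsLocalization.injective (M := Submonoid.powers s₁) Γ(X', D) (Submonoid.powers_le.mpr hs₁)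
    have hinj2 : Function.Injective (D.ι.appLE D ⊤ D.ι_preimage_self.ge).hom :=
      (ConcreteCategory.bijective_of_isIso _).1
    rw [mem_nonZeroDivisors_iff_right]
    intro u hu
    apply hinj1
    apply hinj2
    rw [map_zero, map_zero]
    apply (mem_nonZeroDivisors_iff_right.mp h2)
    rw [hcomp]
    simp only [CommRingCat.hom_comp, RingHom.comp_apply]
    rw [← map_mul, ← map_mul, hu, map_zero, map_zero]
  · rw [Groth.Agent.Lib.IdealComap.ideal_comap 𝓚 b U.1 U.2 V₁ hV₁ e, hKt, Ideal.map_span,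
      Set.image_singleton]

end blowup

end Groth.Agent.Lib.BlowUpUniv
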