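import Groth.Agent.Lib.BlowUpGlue68
import Groth.Agent.Lib.IdealSheafComap
import Groth.Agent.S1683

/-!
# Finite type ideals, admissible ideals and domination of blow-ups (helper68)

* `isFiniteTypeIdeal_comap`: the inverse image of an ideal sheaf of finite type is of finite type.
* `isFiniteTypeIdeal_mul/one/prod`, `isAdmissibleFor_prod`, `isAdmissibleFor_comap`.
* `isBlowUp_iso_comp`: a blowing up precomposed with an isomorphism is a blowing up.
* `exists_factor_of_isBlowUp_mul`: if `b` is a blowing up in `𝓘` and `c` a blowing up in `𝓘 * 𝓚`, then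
  `c` factors through `b` by a blowing up of the source of `b` in the inverse image of `𝓚`.
-/

set_option autoImplicit false
universe u
open CategoryTheory CategoryTheory.Limits AlgebraicGeometry TopologicalSpace

namespace Groth.Agent.Lib.BlowUpAdm68

open Groth.Agent.Lib.BlowUpUniv Groth.Agent.Lib.BlowUpGlue68

variable {X : Scheme.{u}}

theorem isFiniteTypeIdeal_one : BlowUp.IsFiniteTypeIdeal (1 : X.IdealSheafData) := by
  intro V
  change (⊤ : Ideal Γ(X, V.1)).FG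
  exact ⟨{1}, by simp⟩

theorem isFiniteTypeIdeal_mul (𝓘 𝓙 : X.IdealSheafData) (h𝓘 : BlowUp.IsFiniteTypeIdeal 𝓘)
    (h𝓙 : BlowUp.IsFiniteTypeIdeal 𝓙) : BlowUp.IsFiniteTypeIdeal (𝓘 * 𝓙) := by
  intro V
  change (𝓘.ideal V * 𝓙.ideal V).FG
  exact (h𝓘 V).mul (h𝓙 V)

theorem isFiniteTypeIdeal_prod {ι : Type*} (s : Finset ι) (𝓘 : ι → X.IdealSheafData)
    (h : ∀ i ∈ s, BlowUp.IsFiniteTypeIdeal (𝓘 i)) : BlowUp.IsFiniteTypeIdeal (∏ i ∈ s, 𝓘 i) :=
  Finset.prod_induction 𝓘 BlowUp.IsFiniteTypeIdeal isFiniteTypeIdeal_mul isFiniteTypeIdeal_one h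

theorem isAdmissibleFor_prod (U : X.Opens) {ι : Type*} (s : Finset ι) (𝓘 : ι → X.IdealSheafData)
    (h : ∀ i ∈ s, BlowUp.IsAdmissibleFor U (𝓘 i)) : BlowUp.IsAdmissibleFor U (∏ i ∈ s, 𝓘 i) := by
  refine ⟨isFiniteTypeIdeal_prod s 𝓘 (fun i hi => (h i hi).1), ?_⟩
  refine Finset.prod_induction 𝓘
    (fun 𝓙 : X.IdealSheafData => Disjoint (𝓙.support : Set X) (U : Set X)) ?_ ?_
    (fun i hi => (h i hi).2)
  · intro 𝓐 𝓑 hA hB
    rw [Scheme.IdealSheafData.support_mul]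
    change Disjoint ((𝓐.support : Set X) ∪ (𝓑.support : Set X)) (U : Set X)
    exact Set.disjoint_union_left.mpr ⟨hA, hB⟩
  · change Disjoint (((⊤ : X.IdealSheafData).support : Closeds X) : Set X) (U : Set X)
    rw [Scheme.IdealSheafData.support_top]
    exact Set.empty_disjoint _

/-- The inverse image of an ideal sheaf of finite type is of finite type. -/
theorem isFiniteTypeIdeal_comap {Y : Scheme.{u}} (f : Y ⟶ X) (𝓚 : X.IdealSheafData)
    (h : BlowUp.IsFiniteTypeIdeal 𝓚) : BlowUp.IsFiniteTypeIdeal (𝓚.comap f) := by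
  intro V'
  let t : Set Γ(Y, V'.1) := {s | ∃ W : X.affineOpens, Y.basicOpen s ≤ f ⁻¹ᵁ W.1}
  have ht : Ideal.span t = ⊤ := by
    rw [← V'.2.self_le_iSup_basicOpen_iff]
    intro y hy
    obtain ⟨W, hW, hfyW, -⟩ := exists_isAffineOpen_mem_and_subset (x := f y) (U := ⊤) trivial
    obtain ⟨s, hsle, hys⟩ := V'.2.exists_basicOpen_le (V := f ⁻¹ᵁ W) ⟨y, hfyW⟩ hy
    exact Opens.mem_iSup.mpr ⟨⟨s, ⟨W, hW⟩, hsle⟩, hys⟩
  apply Ideal.fg_of_localizationSpan t ht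
  rintro ⟨s, W, hsW⟩
  have hloc : IsLocalization.Away s Γ(Y, Y.basicOpen s) := V'.2.isLocalization_basicOpen s
  have hfg : ((𝓚.comap f).ideal (Y.affineBasicOpen s)).FG := by
    have := Groth.Agent.Lib.IdealComap.ideal_comap 𝓚 f W.1 W.2 (Y.basicOpen s)
      (V'.2.basicOpen s) hsW
    change (𝓚.comap f).ideal ⟨Y.basicOpen s, V'.2.basicOpen s⟩ = _ at this
    change ((𝓚.comap f).ideal ⟨Y.basicOpen s, V'.2.basicOpen s⟩).FG
    rw [this]
    exact (h W).map _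
  rw [← (𝓚.comap f).map_ideal_basicOpen V' s] at hfg
  let e : Γ(Y, Y.basicOpen s) ≃ₐ[Γ(Y, V'.1)] Localization.Away s :=
    IsLocalization.algEquiv (Submonoid.powers s) _ _
  have hcomp : (e : Γ(Y, Y.basicOpen s) →+* Localization.Away s).comp
      (Y.presheaf.map (homOfLE (Y.basicOpen_le s)).op).hom =
        algebraMap Γ(Y, V'.1) (Localization.Away s) := by
    ext x
    exact e.commutes x
  have key : Ideal.map (algebraMap Γ(Y, V'.1) (Localization.Away s)) ((𝓚.comap f).ideal V') =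
      Ideal.map (e : Γ(Y, Y.basicOpen s) →+* Localization.Away s)
        (Ideal.map (Y.presheaf.map (homOfLE (Y.basicOpen_le s)).op).hom
          ((𝓚.comap f).ideal V')) := by
    rw [Ideal.map_map, hcomp]
  change (Ideal.map (algebraMap Γ(Y, V'.1) (Localization.Away s)) ((𝓚.comap f).ideal V')).FG
  rw [key]
  exact hfg.map _

theorem isAdmissibleFor_comap {Y : Scheme.{u}} (f : Y ⟶ X) (U : X.Opens) (𝓚 : X.IdealSheafData)
    (h : BlowUp.IsAdmissibleFor U 𝓚) : BlowUp.IsAdmissibleFor (f ⁻¹ᵁ U) (𝓚.comap f) := by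
  refine ⟨isFiniteTypeIdeal_comap f 𝓚 h.1, ?_⟩
  rw [Scheme.IdealSheafData.support_comap]
  rw [Set.disjoint_left]
  intro y hy hyU
  exact Set.disjoint_left.mp h.2 hy hyU

/-- A blowing up precomposed with an isomorphism is a blowing up. -/
theorem isBlowUp_iso_comp {X₁ X₂ : Scheme.{u}} (e : X₁ ≅ X₂) (b : X₂ ⟶ X) (𝓘 : X.IdealSheafData)
    (hb : BlowUp.IsBlowUp b 𝓘) : BlowUp.IsBlowUp (e.hom ≫ b) 𝓘 := by
  refine ⟨?_, ?_⟩
  · rw [Scheme.IdealSheafData.comap_comp]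
    exact isEffCartier_comap_of_flat _ _ hb.1
  · intro Y g hg
    obtain ⟨h, hh, hu⟩ := hb.2 Y g hg
    change h ≫ b = g at hh
    refine ⟨h ≫ e.inv, by simp [hh], ?_⟩
    intro m hm
    change m ≫ e.hom ≫ b = g at hm
    have := hu (m ≫ e.hom) (by change (m ≫ e.hom) ≫ b = g; rw [Category.assoc, hm])
    rw [← this, Category.assoc, e.hom_inv_id, Category.comp_id]

/-- If `b : X₁ ⟶ X` is a blowing up in `𝓘` and `c : X' ⟶ X` a blowing up in `𝓘 * 𝓚`, then `c` factors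
through `b` by a blowing up of `X₁` in the inverse image of `𝓚`. -/
theorem exists_factor_of_isBlowUp_mul {X₁ X' : Scheme.{u}} (𝓘 𝓚 : X.IdealSheafData) (b : X₁ ⟶ X)
    (hb : BlowUp.IsBlowUp b 𝓘) (c : X' ⟶ X) (hc : BlowUp.IsBlowUp c (𝓘 * 𝓚)) :
    ∃ g : X' ⟶ X₁, g ≫ b = c ∧ BlowUp.IsBlowUp g (𝓚.comap b) := by
  obtain ⟨X'', b', hb'⟩ := exists_isBlowUp X₁ (𝓚.comap b)
  have h2 : BlowUp.IsBlowUp (b' ≫ b) (𝓘 * 𝓚) := Groth.Agent.S1683.result 𝓘 𝓚 b hb b' hb'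
  obtain ⟨e, he⟩ := exists_iso_of_isBlowUp (𝓘 * 𝓚) c (b' ≫ b) hc h2
  exact ⟨e.hom ≫ b', by rw [Category.assoc, he], isBlowUp_iso_comp e b' _ hb'⟩

end Groth.Agent.Lib.BlowUpAdm68
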