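import Groth.Agent.Lib.Fitting82D
import Mathlib.RingTheory.Localization.BaseChange
import Mathlib.RingTheory.IsTensorProduct
import Mathlib.RingTheory.LocalRing.ResidueField.Ideal
import Mathlib.LinearAlgebra.Dimension.Free
import Mathlib.LinearAlgebra.Matrix.NonsingularInverse
import Mathlib.RingTheory.Localization.Ideal

/-!
# Fitting ideals, part F (helper82): Fitting ideals and local number of generators

* `ideal_isBaseChange'`, `ideal_localizedModule`: base change for `IsBaseChange` / `LocalizedModule`.
* `ideal_field`: Fitting ideals of a finite dimensional vector space.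
* `map_residueField_eq_top_iff`: `I κ(p) = ⊤ ↔ ¬ I ≤ p`.
* `not_le_iff_finrank_le`: `¬ Fit_k(M) ≤ p ↔ dim κ(p) ⊗ M ≤ k`.
* `exists_span_of_isUnit_det`: local generation by `k` elements where a generator of `Fit_k` is
  invertible.
* `not_le_iff_exists_span_atPrime`, `not_le_iff_exists_span_away`.
-/

set_option autoImplicit false

universe u v w

namespace Groth.Agent.Lib.Fitting82

open TensorProduct Matrix

variable {R : Type u} [CommRing R] {M : Type v} [AddCommGroup M] [Module R M]

theorem ideal_isBaseChange' (R' : Type w) [CommRing R'] [Algebra R R']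
    {M' : Type*} [AddCommGroup M'] [Module R M'] [Module R' M'] [IsScalarTower R R' M']
    [Module.Finite R M] (g : M →ₗ[R] M') (hg : IsBaseChange R' g) (k : ℕ) :
    Fitt.ideal R' M' k = (Fitt.ideal R M k).map (algebraMap R R') := by
  rw [← ideal_baseChange R' k]
  exact (ideal_congr hg.equiv k).symm

theorem ideal_localizedModule [Module.Finite R M] (S : Submonoid R) (k : ℕ) :
    Fitt.ideal (Localization S) (LocalizedModule S M) k =
      (Fitt.ideal R M k).map (algebraMap R (Localization S)) :=
  ideal_isBaseChange' (Localization S) (LocalizedModule.mkLinearMap S M)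
    (IsLocalizedModule.isBaseChange S (Localization S) (LocalizedModule.mkLinearMap S M)) k

/-- Fitting ideals of a finite dimensional vector space. -/
theorem ideal_field (K : Type u) [Field K] (V : Type v) [AddCommGroup V] [Module K V]
    [Module.Finite K V] (k : ℕ) :
    Fitt.ideal K V k = ⊤ ↔ Module.finrank K V ≤ k := by
  set b := Module.finBasis K V with hb
  have hspan : Submodule.span K (Set.range b) = ⊤ := b.span_eq
  constructor
  · intro h
    by_contra hlt
    rw [not_le] at hlt
    have hbot : Fitt.ideal K V k = ⊥ := by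
      rw [ideal_eq_D k b hspan, eq_bot_iff, D_le_iff]
      intro a ha
      rw [Ideal.mem_bot]
      have h0 : (0 : ℕ) < Module.finrank K V := by omega
      apply det_eq_zero_of_row_eq_zero (⟨0, h0⟩ : Fin (Module.finrank K V))
      intro j
      have hrel := ha ⟨0, h0⟩ (by simp; omega)
      exact (Fintype.linearIndependent_iff.mp b.linearIndependent) _ hrel j
    rw [hbot] at h
    exact bot_ne_top h
  · intro h
    exact ideal_eq_top_of_span b hspan k h

theorem map_residueField_eq_top_iff (p : Ideal R) [p.IsPrime] (I : Ideal R) :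
    I.map (algebraMap R p.ResidueField) = ⊤ ↔ ¬ I ≤ p := by
  constructor
  · intro h hle
    have : I.map (algebraMap R p.ResidueField) ≤ ⊥ := by
      rw [Ideal.map_le_iff_le_comap]
      intro x hx
      rw [Ideal.mem_comap, Ideal.mem_bot, Ideal.algebraMap_residueField_eq_zero]
      exact hle hx
    rw [h] at this
    exact top_ne_bot (le_bot_iff.mp this)
  · intro h
    obtain ⟨i, hiI, hip⟩ := SetLike.not_le_iff_exists.mp h
    have hne : algebraMap R p.ResidueField i ≠ 0 := by
      rw [Ne, Ideal.algebraMap_residueField_eq_zero]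
      exact hip
    exact Ideal.eq_top_of_isUnit_mem _ (Ideal.mem_map_of_mem _ hiI) (isUnit_iff_ne_zero.mpr hne)

theorem not_le_iff_finrank_le [Module.Finite R M] (k : ℕ) (p : Ideal R) [p.IsPrime] :
    ¬ Fitt.ideal R M k ≤ p ↔ Module.finrank p.ResidueField (p.ResidueField ⊗[R] M) ≤ k := by
  rw [← map_residueField_eq_top_iff, ← ideal_baseChange, ideal_field]

/-- Where a generator `det a` of `Fit_k(M)` becomes invertible, the module is generated by `k`
elements. -/
theorem exists_span_of_isUnit_det {R' : Type w} [CommRing R'] [Algebra R R']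
    {M' : Type*} [AddCommGroup M'] [Module R M'] [Module R' M'] [IsScalarTower R R' M']
    (ι : M →ₗ[R] M') (k : ℕ) {n : ℕ} (x : Fin n → M)
    (hx' : Submodule.span R' (Set.range (ι ∘ x)) = ⊤)
    (a : Matrix (Fin n) (Fin n) R) (ha : ∀ i : Fin n, (i : ℕ) < n - k → ∑ j, a i j • x j = 0)
    (hdet : IsUnit (algebraMap R R' a.det)) :
    ∃ g : Fin k → M', Submodule.span R' (Set.range g) = ⊤ := by
  classical
  set a' : Matrix (Fin n) (Fin n) R' := (algebraMap R R').mapMatrix a with ha'
  have hdet' : IsUnit a'.det := by
    rw [ha', ← RingHom.map_det]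
    exact hdet
  set c := a'⁻¹ with hc
  have hca : c * a' = 1 := Matrix.nonsing_inv_mul a' hdet'
  set y : Fin n → M' := fun i => ∑ j, a' i j • ι (x j) with hy
  have hy0 : ∀ i : Fin n, (i : ℕ) < n - k → y i = 0 := by
    intro i hi
    have := congrArg ι (ha i hi)
    rw [map_sum, map_zero] at this
    rw [hy]
    simp only
    rw [← this]
    apply Finset.sum_congr rfl
    intro j _
    rw [ha', RingHom.mapMatrix_apply, Matrix.map_apply, algebraMap_smul, map_smul]
  have hxy : ∀ l : Fin n, ι (x l) = ∑ i, c l i • y i := by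
    intro l
    have h1 : ∑ i, c l i • y i = ∑ j, (c * a') l j • ι (x j) := by
      simp only [hy, Finset.smul_sum, smul_smul, Matrix.mul_apply, Finset.sum_smul]
      rw [Finset.sum_comm]
    rw [h1, hca]
    simp [Matrix.one_apply, ite_smul]
  let g : Fin k → M' := fun j => if h : n - k + (j : ℕ) < n then y ⟨n - k + j, h⟩ else 0
  refine ⟨g, ?_⟩
  rw [eq_top_iff, ← hx', Submodule.span_le]
  rintro _ ⟨l, rfl⟩
  rw [Function.comp_apply, hxy l, SetLike.mem_coe]
  apply Submodule.sum_mem
  intro i _
  apply Submodule.smul_mem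
  by_cases hi : (i : ℕ) < n - k
  · rw [hy0 i hi]
    exact Submodule.zero_mem _
  · have hik : (i : ℕ) - (n - k) < k := by omega
    have hlt : n - k + ((⟨(i : ℕ) - (n - k), hik⟩ : Fin k) : ℕ) < n := by
      simp only
      omega
    have : g ⟨(i : ℕ) - (n - k), hik⟩ = y i := by
      simp only [g]
      rw [dif_pos hlt]
      congr 1
      apply Fin.ext
      simp only
      omega
    rw [← this]
    exact Submodule.subset_span ⟨_, rfl⟩

theorem span_mkLinearMap_eq_top (S : Submonoid R) {n : ℕ} (x : Fin n → M)
    (hx : Submodule.span R (Set.range x) = ⊤) :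
    Submodule.span (Localization S) (Set.range (LocalizedModule.mkLinearMap S M ∘ x)) = ⊤ := by
  rw [eq_top_iff]
  rintro z -
  induction z using LocalizedModule.induction_on with
  | h m s =>
    have h1 : LocalizedModule.mk m s = Localization.mk 1 s • LocalizedModule.mk m (1 : S) := by
      rw [LocalizedModule.mk_smul_mk, one_smul, mul_one]
    rw [h1]
    apply Submodule.smul_mem
    have hm : m ∈ Submodule.span R (Set.range x) := by rw [hx]; trivial
    rw [← LocalizedModule.mkLinearMap_apply]
    clear h1
    induction hm using Submodule.span_induction with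
    | mem y hy =>
      obtain ⟨j, rfl⟩ := hy
      exact Submodule.subset_span ⟨j, rfl⟩
    | zero =>
      rw [map_zero]
      exact Submodule.zero_mem _
    | add a b _ _ ha hb =>
      rw [map_add]
      exact Submodule.add_mem _ ha hb
    | smul r a _ ha =>
      rw [map_smul, ← algebraMap_smul (Localization S) r]
      exact Submodule.smul_mem _ _ ha

/-- If `Fit_k(M)` is not contained in the prime `p` there is a generator `det a ∉ p`. -/
theorem exists_det_notMem_of_not_le (k : ℕ) (p : Ideal R) (h : ¬ Fitt.ideal R M k ≤ p) :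
    ∃ (n : ℕ) (x : Fin n → M) (a : Matrix (Fin n) (Fin n) R),
      Submodule.span R (Set.range x) = ⊤ ∧
        (∀ i : Fin n, (i : ℕ) < n - k → ∑ j, a i j • x j = 0) ∧ a.det ∉ p := by
  by_contra hcon
  apply h
  rw [Fitt.ideal, Ideal.span_le]
  rintro _ ⟨n, x, a, hx, ha, rfl⟩
  by_contra hmem
  exact hcon ⟨n, x, a, hx, ha, hmem⟩

theorem not_le_of_span_localizedModule [Module.Finite R M] (k : ℕ) (p : Ideal R)
    (S : Submonoid R) (hS : ∀ s ∈ S, s ∉ p)
    (g : Fin k → LocalizedModule S M)
    (hg : Submodule.span (Localization S) (Set.range g) = ⊤) : ¬ Fitt.ideal R M k ≤ p := by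
  intro hle
  have h1 := ideal_localizedModule (M := M) S k
  rw [ideal_eq_top_of_span g hg k le_rfl] at h1
  have h2 := (IsLocalization.map_algebraMap_ne_top_iff_disjoint S (Localization S)
    (Fitt.ideal R M k)).not.mp (by rw [not_not]; exact h1.symm)
  rw [Set.not_disjoint_iff] at h2
  obtain ⟨s, hsS, hsI⟩ := h2
  exact hS s hsS (hle hsI)

theorem exists_span_localizedModule_of_not_le (k : ℕ) (p : Ideal R)
    (h : ¬ Fitt.ideal R M k ≤ p) (S : Submonoid R) :
    (∃ (n : ℕ) (x : Fin n → M) (a : Matrix (Fin n) (Fin n) R),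
      Submodule.span R (Set.range x) = ⊤ ∧
        (∀ i : Fin n, (i : ℕ) < n - k → ∑ j, a i j • x j = 0) ∧ a.det ∉ p ∧
          (a.det ∈ S → ∃ g : Fin k → LocalizedModule S M,
            Submodule.span (Localization S) (Set.range g) = ⊤)) := by
  obtain ⟨n, x, a, hx, ha, hdet⟩ := exists_det_notMem_of_not_le k p h
  refine ⟨n, x, a, hx, ha, hdet, fun hS => ?_⟩
  exact exists_span_of_isUnit_det (R' := Localization S) (LocalizedModule.mkLinearMap S M) k x
    (span_mkLinearMap_eq_top S x hx) a ha (IsLocalization.map_units (Localization S) ⟨a.det, hS⟩)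

theorem not_le_iff_exists_span_atPrime [Module.Finite R M] (k : ℕ) (p : Ideal R) [p.IsPrime] :
    ¬ Fitt.ideal R M k ≤ p ↔
      ∃ g : Fin k → LocalizedModule p.primeCompl M,
        Submodule.span (Localization.AtPrime p) (Set.range g) = ⊤ := by
  constructor
  · intro h
    obtain ⟨n, x, a, hx, ha, hdet, hg⟩ := exists_span_localizedModule_of_not_le k p h p.primeCompl
    exact hg hdet
  · rintro ⟨g, hg⟩
    exact not_le_of_span_localizedModule k p p.primeCompl (fun s hs => hs) g hg

theorem not_le_iff_exists_span_away [Module.Finite R M] (k : ℕ) (p : Ideal R) [p.IsPrime] :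
    ¬ Fitt.ideal R M k ≤ p ↔ ∃ f : R, f ∉ p ∧
      ∃ g : Fin k → LocalizedModule (Submonoid.powers f) M,
        Submodule.span (Localization.Away f) (Set.range g) = ⊤ := by
  constructor
  · intro h
    obtain ⟨n, x, a, hx, ha, hdet⟩ := exists_det_notMem_of_not_le k p h
    refine ⟨a.det, hdet, ?_⟩
    exact exists_span_of_isUnit_det (R' := Localization.Away a.det)
      (LocalizedModule.mkLinearMap (Submonoid.powers a.det) M) k x
      (span_mkLinearMap_eq_top _ x hx) a ha
      (IsLocalization.map_units (Localization.Away a.det)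
        ⟨a.det, Submonoid.mem_powers a.det⟩)
  · rintro ⟨f, hf, g, hg⟩
    refine not_le_of_span_localizedModule k p (Submonoid.powers f) ?_ g hg
    rintro _ ⟨m, rfl⟩ hmem
    exact hf (Ideal.IsPrime.mem_of_pow_mem inferInstance m hmem)

end Groth.Agent.Lib.Fitting82
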