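import Groth.Agent.Lib.Fitting82B
import Mathlib.RingTheory.Nakayama
import Mathlib.RingTheory.LocalRing.MaximalIdeal.Basic
import Mathlib.RingTheory.Jacobson.Ideal
import Mathlib.LinearAlgebra.Matrix.Adjugate

/-!
# Fitting ideals, part H (helper82): principal Fitting ideal over a local ring

* `exists_unit_mul_of_span_eq`: in a local ring, if `span S = (f)` then `f = 0` or some element of
  `S` is a unit multiple of `f`.
* `exists_span_quotient_ker_smul`: if `R` is local and `Fit_k(M) = (f)` then `M / M[f]` is
  generated by `k` elements.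
-/

set_option autoImplicit false

universe u v

namespace Groth.Agent.Lib.Fitting82

open Matrix

variable {R : Type u} [CommRing R] {M : Type v} [AddCommGroup M] [Module R M]

theorem exists_unit_mul_of_span_eq [IsLocalRing R] (S : Set R) (f : R)
    (h : Ideal.span S = Ideal.span {f}) :
    f = 0 ∨ ∃ s ∈ S, ∃ u : R, IsUnit u ∧ s = u * f := by
  by_contra hcon
  rw [not_or] at hcon
  obtain ⟨hf0, hS⟩ := hcon
  apply hf0
  have hle : Ideal.span {f} ≤ IsLocalRing.maximalIdeal R • Ideal.span {f} := by
    rw [← h, Ideal.span_le]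
    intro s hs
    have hsf : s ∈ Ideal.span {f} := by rw [← h]; exact Ideal.subset_span hs
    obtain ⟨d, rfl⟩ := Ideal.mem_span_singleton'.mp hsf
    have hd : d ∈ IsLocalRing.maximalIdeal R := by
      by_contra hdu
      exact hS ⟨_, hs, d, IsLocalRing.notMem_maximalIdeal.mp hdu, rfl⟩
    rw [h]
    exact Submodule.smul_mem_smul hd (Ideal.mem_span_singleton_self f)
  have := Submodule.eq_bot_of_le_smul_of_le_jacobson_bot (IsLocalRing.maximalIdeal R)
    (Ideal.span {f}) (Submodule.fg_span_singleton f) hle (IsLocalRing.maximalIdeal_le_jacobson ⊥)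
  rwa [Ideal.span_singleton_eq_bot] at this

theorem exists_span_quotient_ker_smul [IsLocalRing R] [Module.Finite R M] (k : ℕ) (f : R)
    (hf : Fitt.ideal R M k = Ideal.span {f}) :
    ∃ g : Fin k → M ⧸ LinearMap.ker (f • (LinearMap.id : M →ₗ[R] M)),
      Submodule.span R (Set.range g) = ⊤ := by
  classical
  obtain ⟨n, x, hx⟩ := Module.Finite.exists_fin (R := R) (M := M)
  rw [ideal_eq_D k x hx] at hf
  rcases exists_unit_mul_of_span_eq _ f hf with hf0 | ⟨_, ⟨a, ha, rfl⟩, u, hu, hdet⟩
  · -- `f = 0`: the quotient is trivial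
    subst hf0
    refine ⟨fun _ => 0, ?_⟩
    rw [eq_top_iff]
    rintro z -
    obtain ⟨m, rfl⟩ := Submodule.mkQ_surjective _ z
    have : m ∈ LinearMap.ker ((0 : R) • (LinearMap.id : M →ₗ[R] M)) := by
      simp
    rw [Submodule.mkQ_apply, (Submodule.Quotient.mk_eq_zero _).mpr this]
    exact Submodule.zero_mem _
  · set N := LinearMap.ker (f • (LinearMap.id : M →ₗ[R] M)) with hN
    set y : Fin n → M := fun i => ∑ j, a i j • x j with hy
    have hy0 : ∀ i : Fin n, (i : ℕ) < n - k → y i = 0 := fun i hi => ha i hi
    have hadj : ∀ (l i : Fin n), ¬ (i : ℕ) < n - k → ∃ c : R, a.adjugate l i = f * c := by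
      intro l i hi
      have hmem : a.adjugate l i ∈ (D k x : Ideal R) := by
        rw [adjugate_apply]
        apply det_mem_D
        intro i' hi'
        have hne : i' ≠ i := fun e => hi (e ▸ hi')
        rw [updateRow_ne hne]
        exact ha i' hi'
      rw [hf, Ideal.mem_span_singleton'] at hmem
      obtain ⟨c, hc⟩ := hmem
      exact ⟨c, by rw [← hc, mul_comm]⟩
    -- coefficients
    let c : Fin n → Fin n → R := fun l i =>
      if h : (i : ℕ) < n - k then 0 else (hadj l i h).choose
    have hc : ∀ (l i : Fin n), ¬ (i : ℕ) < n - k → a.adjugate l i = f * c l i := by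
      intro l i hi
      simp only [c, dif_neg hi]
      exact (hadj l i hi).choose_spec
    -- the key identity
    have hkey : ∀ l : Fin n, (u * f) • x l = f • ∑ i, c l i • y i := by
      intro l
      have h1 : ∑ i, a.adjugate l i • y i = a.det • x l := by
        simp only [hy, Finset.smul_sum, smul_smul]
        rw [Finset.sum_comm]
        simp_rw [← Finset.sum_smul, ← Matrix.mul_apply, adjugate_mul]
        simp [Matrix.smul_apply, Matrix.one_apply, ite_smul]
      rw [← hdet, ← h1, Finset.smul_sum]
      apply Finset.sum_congr rfl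
      intro i _
      by_cases hi : (i : ℕ) < n - k
      · rw [hy0 i hi, smul_zero, smul_zero, smul_zero]
      · rw [hc l i hi, mul_smul]
    have hmemN : ∀ l : Fin n, u • x l - ∑ i, c l i • y i ∈ N := by
      intro l
      rw [hN, LinearMap.mem_ker, LinearMap.smul_apply, LinearMap.id_apply, smul_sub, ← hkey l,
        smul_smul, mul_comm, sub_self]
    let g : Fin k → M ⧸ N := fun j =>
      if h : n - k + (j : ℕ) < n then N.mkQ (y ⟨n - k + j, h⟩) else 0
    refine ⟨g, ?_⟩
    have hgy : ∀ i : Fin n, ¬ (i : ℕ) < n - k → N.mkQ (y i) ∈ Submodule.span R (Set.range g) := by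
      intro i hi
      have hik : (i : ℕ) - (n - k) < k := by omega
      have hlt : n - k + ((⟨(i : ℕ) - (n - k), hik⟩ : Fin k) : ℕ) < n := by
        simp only
        omega
      have : g ⟨(i : ℕ) - (n - k), hik⟩ = N.mkQ (y i) := by
        simp only [g]
        rw [dif_pos hlt]
        congr 2
        apply Fin.ext
        simp only
        omega
      rw [← this]
      exact Submodule.subset_span ⟨_, rfl⟩
    have hxl : ∀ l : Fin n, N.mkQ (x l) ∈ Submodule.span R (Set.range g) := by
      intro l
      have h1 : u • N.mkQ (x l) = ∑ i, c l i • N.mkQ (y i) := by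
        have := (Submodule.Quotient.mk_eq_zero N).mpr (hmemN l)
        rw [← Submodule.mkQ_apply, map_sub, sub_eq_zero, map_smul, map_sum] at this
        simp_rw [map_smul] at this
        exact this
      obtain ⟨v, hv⟩ := hu.exists_left_inv
      have h2 : N.mkQ (x l) = v • ∑ i, c l i • N.mkQ (y i) := by
        rw [← h1, smul_smul, hv, one_smul]
      rw [h2]
      apply Submodule.smul_mem
      apply Submodule.sum_mem
      intro i _
      by_cases hi : (i : ℕ) < n - k
      · rw [hy0 i hi, map_zero, smul_zero]
        exact Submodule.zero_mem _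
      · exact Submodule.smul_mem _ _ (hgy i hi)
    rw [eq_top_iff]
    rintro z -
    obtain ⟨m, rfl⟩ := Submodule.mkQ_surjective _ z
    have hm : m ∈ Submodule.span R (Set.range x) := by rw [hx]; trivial
    induction hm using Submodule.span_induction with
    | mem w hw =>
      obtain ⟨l, rfl⟩ := hw
      exact hxl l
    | zero =>
      rw [map_zero]
      exact Submodule.zero_mem _
    | add p q _ _ hp hq =>
      rw [map_add]
      exact Submodule.add_mem _ hp hq
    | smul r p _ hp =>
      rw [map_smul]
      exact Submodule.smul_mem _ _ hp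

end Groth.Agent.Lib.Fitting82
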