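import Groth.Agent.Lib.Fitting82F
import Groth.Agent.Lib.Fitting82H
import Mathlib.RingTheory.Localization.Module

/-!
# Fitting ideals, part L (helper82): principal Fitting ideal, global version

* `ideal_quotient_eq_top_of_ker_smul_le`: if `Fit_k(M) = (f)` and `T ⊇ M[f]` is a submodule, then
  `Fit_k(M ⧸ T) = ⊤` (i.e. `M ⧸ T` is locally generated by `k` elements).
-/

set_option autoImplicit false

universe u v

namespace Groth.Agent.Lib.Fitting82

variable {R : Type u} [CommRing R] {M : Type u} [AddCommGroup M] [Module R M]

theorem localizedModule_mk_eq_zero_iff {S : Submonoid R} (m : M) (s : S) :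
    LocalizedModule.mk m s = 0 ↔ ∃ t : S, t • m = 0 := by
  rw [← LocalizedModule.zero_mk s, LocalizedModule.mk_eq]
  constructor
  · rintro ⟨u, hu⟩
    refine ⟨u * s, ?_⟩
    rw [mul_smul, hu, smul_zero, smul_zero]
  · rintro ⟨t, ht⟩
    refine ⟨t, ?_⟩
    rw [smul_comm, ht, smul_zero, smul_zero]

theorem ideal_quotient_eq_top_of_ker_smul_le [Module.Finite R M] (k : ℕ) (f : R)
    (hf : Fitt.ideal R M k = Ideal.span {f}) (T : Submodule R M)
    (hT : LinearMap.ker (f • (LinearMap.id : M →ₗ[R] M)) ≤ T) :
    Fitt.ideal R (M ⧸ T) k = ⊤ := by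
  classical
  by_contra hne
  obtain ⟨p, hp, hle⟩ := Ideal.exists_le_maximal _ hne
  have := hp.isPrime
  refine (not_le_iff_exists_span_atPrime (M := M ⧸ T) k p).2 ?_ hle
  set S := p.primeCompl with hS
  have hloc : Fitt.ideal (Localization S) (LocalizedModule S M) k =
      Ideal.span {algebraMap R (Localization S) f} := by
    rw [ideal_localizedModule, hf, Ideal.map_span, Set.image_singleton]
  obtain ⟨g, hg⟩ := exists_span_quotient_ker_smul (R := Localization.AtPrime p)
    (M := LocalizedModule S M) k _ hloc
  choose y hy using fun i => Submodule.mkQ_surjective _ (g i)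
  let φ := LocalizedModule.map S T.mkQ
  -- `φ` kills the `f`-torsion
  have hφker : ∀ v ∈ LinearMap.ker ((algebraMap R (Localization S) f) •
      (LinearMap.id : LocalizedModule S M →ₗ[Localization S] LocalizedModule S M)),
      φ v = 0 := by
    intro v hv
    induction v using LocalizedModule.induction_on with
    | h m s =>
      rw [LinearMap.mem_ker, LinearMap.smul_apply, LinearMap.id_apply, algebraMap_smul,
        LocalizedModule.smul'_mk, localizedModule_mk_eq_zero_iff] at hv
      obtain ⟨t, ht⟩ := hv
      have hmem : (t : R) • m ∈ T := by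
        apply hT
        rw [LinearMap.mem_ker, LinearMap.smul_apply, LinearMap.id_apply, smul_comm]
        exact ht
      change LocalizedModule.map S T.mkQ (LocalizedModule.mk m s) = 0
      rw [LocalizedModule.map_mk, localizedModule_mk_eq_zero_iff]
      refine ⟨t, ?_⟩
      have : t • T.mkQ m = T.mkQ ((t : R) • m) := by
        rw [map_smul]; rfl
      rw [this, Submodule.mkQ_apply, Submodule.Quotient.mk_eq_zero]
      exact hmem
  refine ⟨fun i => φ (y i), ?_⟩
  rw [eq_top_iff]
  rintro z -
  obtain ⟨w, rfl⟩ := LocalizedModule.map_surjective S T.mkQ (Submodule.mkQ_surjective T) z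
  have hw : (Submodule.mkQ _ w) ∈ Submodule.span (Localization.AtPrime p) (Set.range g) := by
    rw [hg]; trivial
  have hgy : Submodule.span (Localization.AtPrime p) (Set.range g) =
      (Submodule.span (Localization.AtPrime p) (Set.range y)).map (Submodule.mkQ _) := by
    rw [Submodule.map_span, ← Set.range_comp]
    congr 2
    funext i
    exact (hy i).symm
  rw [hgy] at hw
  obtain ⟨w', hw', hww'⟩ := hw
  have hker : w - w' ∈ LinearMap.ker ((algebraMap R (Localization S) f) •
      (LinearMap.id : LocalizedModule S M →ₗ[Localization S] LocalizedModule S M)) := by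
    have := (Submodule.Quotient.eq _).1 hww'.symm
    exact this
  have hφw : φ w = φ w' := by
    rw [← sub_eq_zero, ← map_sub]; exact hφker _ hker
  change φ w ∈ _
  rw [hφw]
  have := Submodule.mem_map_of_mem (f := φ) hw'
  rw [Submodule.map_span, ← Set.range_comp] at this
  exact this

end Groth.Agent.Lib.Fitting82
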