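import Groth.Agent.Lib.Fitting82P
import Groth.Agent.Lib.Fitting82L
import Groth.Agent.Lib.Fitting82F
import Mathlib.Algebra.Module.LocalizedModule.Submodule
import Groth.Prelude.Def_BlowUp2

/-!
# Strict transforms and Fitting ideals on schemes (helper82)

* `exists_pow_smul_mem_span_of_localized`: clearing denominators for spanning families.
* `exists_span_mk_one`: a spanning family of a localized module can be taken among numerators.
* `killedByPowerNear_iff`: on an affine open where the ideal is `(t)`, being killed by a power of the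
  ideal means being killed by a power of `t`.
-/

set_option autoImplicit false
set_option linter.style.haveILetI false

universe u

namespace Groth.Agent.Lib.StrictTransform82

open CategoryTheory AlgebraicGeometry TopologicalSpace Opposite

section Algebra

variable {R : Type*} [CommRing R] {M : Type*} [AddCommGroup M] [Module R M]

theorem exists_pow_smul_mem_span_of_localized (g : R) {n : ℕ} (x : Fin n → M)
    (h : Submodule.span (Localization.Away g) (Set.range fun i =>
      LocalizedModule.mkLinearMap (Submonoid.powers g) M (x i)) = ⊤) (m : M) :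
    ∃ e : ℕ, g ^ e • m ∈ Submodule.span R (Set.range x) := by
  set f := LocalizedModule.mkLinearMap (Submonoid.powers g) M with hf
  have h1 := Submodule.localized'_span (Localization.Away g) (Submonoid.powers g) f (Set.range x)
  have h2 : f '' Set.range x = Set.range fun i => f (x i) := by
    rw [← Set.range_comp]
    rfl
  rw [h2, h] at h1
  have hm : f m ∈ (Submodule.span R (Set.range x)).localized' (Localization.Away g)
      (Submonoid.powers g) f := by
    rw [h1]
    trivial
  obtain ⟨m', hm', s, hs⟩ := hm
  rw [IsLocalizedModule.mk'_eq_iff] at hs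
  have hs' : f m' = f (s • m) := by
    rw [hs, LinearMap.map_smul_of_tower]
  obtain ⟨c, hc⟩ := (IsLocalizedModule.eq_iff_exists (Submonoid.powers g) f).mp hs'
  obtain ⟨_, a, rfl⟩ := c
  obtain ⟨_, b, rfl⟩ := s
  refine ⟨a + b, ?_⟩
  have : g ^ (a + b) • m = g ^ a • m' := by
    rw [pow_add, mul_smul]
    exact hc.symm
  rw [this]
  exact Submodule.smul_mem _ _ hm'

theorem exists_span_mk_one (g : R) {n : ℕ}
    (γ : Fin n → LocalizedModule (Submonoid.powers g) M)
    (hγ : Submodule.span (Localization.Away g) (Set.range γ) = ⊤) :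
    ∃ x : Fin n → M, Submodule.span (Localization.Away g) (Set.range fun i =>
      LocalizedModule.mkLinearMap (Submonoid.powers g) M (x i)) = ⊤ := by
  have hrep : ∀ i, ∃ (m : M) (s : Submonoid.powers g), γ i = LocalizedModule.mk m s := by
    intro i
    induction γ i using LocalizedModule.induction_on with
    | h m s => exact ⟨m, s, rfl⟩
  choose x s hxs using hrep
  refine ⟨x, ?_⟩
  rw [eq_top_iff, ← hγ, Submodule.span_le]
  rintro _ ⟨i, rfl⟩
  have : γ i = (Localization.mk 1 (s i) : Localization.Away g) •
      LocalizedModule.mkLinearMap (Submonoid.powers g) M (x i) := by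
    rw [hxs i, LocalizedModule.mkLinearMap_apply, LocalizedModule.mk_smul_mk, one_smul, mul_one]
  rw [this]
  exact Submodule.smul_mem _ _ (Submodule.subset_span ⟨i, rfl⟩)

end Algebra

section Scheme

variable {X : Scheme.{u}}

theorem killedByPowerNear_iff (𝓔 : X.IdealSheafData) (M : X.Modules) (V : X.affineOpens)
    (t : Γ(X, V.1)) (ht : 𝓔.ideal V = Ideal.span {t}) (m : Γ(M, V.1)) :
    BlowUp.KilledByPowerNear 𝓔 M V m ↔ ∃ n : ℕ, t ^ n • m = 0 := by
  unfold BlowUp.KilledByPowerNear
  have hpow : ∀ n : ℕ, (𝓔 ^ n).ideal V = Ideal.span {t ^ n} := by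
    intro n
    rw [Scheme.IdealSheafData.ideal_pow, Pi.pow_apply, ht, Ideal.span_singleton_pow]
  constructor
  · rintro ⟨n, hn⟩
    exact ⟨n, hn _ (by rw [hpow]; exact Ideal.mem_span_singleton_self _)⟩
  · rintro ⟨n, hn⟩
    refine ⟨n, fun a ha => ?_⟩
    rw [hpow, Ideal.mem_span_singleton'] at ha
    obtain ⟨c, rfl⟩ := ha
    rw [mul_smul, hn, smul_zero]

theorem mem_basicOpen_iff_notMem_primeIdealOf {U : X.Opens} (hU : IsAffineOpen U) (x : U)
    (g : Γ(X, U)) : (x : X) ∈ X.basicOpen g ↔ g ∉ (hU.primeIdealOf x).asIdeal := by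
  rw [X.mem_basicOpen g x.1 x.2]
  haveI := hU.isLocalization_stalk x
  exact IsLocalization.AtPrime.isUnit_to_map_iff (X.presheaf.stalk (x : X))
    (hU.primeIdealOf x).asIdeal g

/-- The map on sections of a morphism of modules, as a linear map. -/
noncomputable def appLinear {M N : X.Modules} (φ : M ⟶ N) (U : X.Opens) :
    Γ(M, U) →ₗ[Γ(X, U)] Γ(N, U) where
  toFun m := φ.app U m
  map_add' := map_add _
  map_smul' r m := Scheme.Modules.Hom.app_smul φ r m

theorem appLinear_apply {M N : X.Modules} (φ : M ⟶ N) (U : X.Opens) (m : Γ(M, U)) :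
    appLinear φ U m = φ.app U m := rfl

end Scheme

end Groth.Agent.Lib.StrictTransform82
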