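import Groth.Agent.Lib.IdealComap
import Groth.Agent.Lib.StrictTransform82
import Groth.Prelude.Def_BlowUp2

/-!
# Separating closed sets after a blow-up: local lemmas (helper68)

Pointwise "vanishing" calculus on affine opens (via `IsAffineOpen.primeIdealOf`) and two local
lemmas used to show that closures of preimages become disjoint after blowing up.
-/

set_option autoImplicit false
universe u
open CategoryTheory CategoryTheory.Limits AlgebraicGeometry TopologicalSpace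

namespace Groth.Agent.Lib.BlowUpSeparate68

variable {X : Scheme.{u}}

/-- The prime ideal of functions on the affine open `N` vanishing at `y ∈ N`. -/
noncomputable abbrev P (N : X.affineOpens) (y : X) (hy : y ∈ N.1) : Ideal Γ(X, N.1) :=
  (N.2.primeIdealOf ⟨y, hy⟩).asIdeal

theorem mem_basicOpen_iff (N : X.affineOpens) (y : X) (hy : y ∈ N.1) (g : Γ(X, N.1)) :
    y ∈ X.basicOpen g ↔ g ∉ P N y hy :=
  Groth.Agent.Lib.StrictTransform82.mem_basicOpen_iff_notMem_primeIdealOf N.2 ⟨y, hy⟩ g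

theorem ideal_le_P_of_mem_support (I : X.IdealSheafData) (N : X.affineOpens) (y : X) (hy : y ∈ N.1)
    (hyI : y ∈ I.support) : I.ideal N ≤ P N y hy := by
  intro s hs
  rw [Scheme.IdealSheafData.mem_support_iff_of_mem hy, Scheme.mem_zeroLocus_iff] at hyI
  by_contra hsP
  exact hyI s hs ((mem_basicOpen_iff N y hy s).2 hsP)

theorem mem_support_of_span_singleton (I : X.IdealSheafData) (N : X.affineOpens) (t : Γ(X, N.1))
    (hI : I.ideal N = Ideal.span {t}) (y : X) (hy : y ∈ N.1) (ht : t ∈ P N y hy) :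
    y ∈ I.support := by
  rw [Scheme.IdealSheafData.mem_support_iff_of_mem hy, Scheme.mem_zeroLocus_iff]
  intro s hs hys
  rw [mem_basicOpen_iff N y hy] at hys
  apply hys
  have hs' : s ∈ Ideal.span {t} := hI ▸ hs
  obtain ⟨c, rfl⟩ := Ideal.mem_span_singleton'.1 hs'
  exact Ideal.mul_mem_left _ _ ht

theorem map_P_le {X' Z' : Scheme.{u}} (g : Z' ⟶ X') (U' : X'.affineOpens) (N : Z'.affineOpens)
    (hle : N.1 ≤ g ⁻¹ᵁ U'.1) (z : Z') (hz : z ∈ N.1) :
    Ideal.map (g.appLE U'.1 N.1 hle).hom (P U' (g z) (hle hz)) ≤ P N z hz := by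
  rw [Ideal.map_le_iff_le_comap]
  have h := IsAffineOpen.comap_primeIdealOf_appLE (f := g) U'.1 U'.2 N.1 N.2 hle hz
  have h2 := congrArg PrimeSpectrum.asIdeal h
  simp only [PrimeSpectrum.comap_asIdeal] at h2
  exact h2.ge

/-- **Lemma B.** If `J ≤ (t)` on the affine open `U'`, `J` vanishes on `S ∩ U'` while `t` vanishes
nowhere on `S ∩ U'`, then at every point `x'` of `U' ∩ closure S` one has `J ≤ (t) * P_{x'}`. -/
theorem le_span_mul_P (U' : X.affineOpens) (t : Γ(X, U'.1)) (J : Ideal Γ(X, U'.1))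
    (hJt : J ≤ Ideal.span {t}) (S : Set X)
    (hS : ∀ y (hy : y ∈ U'.1), y ∈ S → J ≤ P U' y hy ∧ t ∉ P U' y hy)
    (x' : X) (hx' : x' ∈ U'.1) (hcl : x' ∈ closure S) :
    J ≤ Ideal.span {t} * P U' x' hx' := by
  intro j hj
  obtain ⟨β, rfl⟩ := Ideal.mem_span_singleton'.1 (hJt hj)
  rw [mul_comm β t]
  refine Ideal.mul_mem_mul (Ideal.mem_span_singleton_self t) ?_
  by_contra hβ
  have hx'β : x' ∈ X.basicOpen β := (mem_basicOpen_iff U' x' hx' β).2 hβ
  obtain ⟨y, hyβ, hyS⟩ := mem_closure_iff.1 hcl _ (X.basicOpen β).2 hx'β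
  have hyU : y ∈ U'.1 := X.basicOpen_le β hyβ
  obtain ⟨h1, h2⟩ := hS y hyU hyS
  have h3 : β * t ∈ P U' y hyU := h1 hj
  rcases (U'.2.primeIdealOf ⟨y, hyU⟩).isPrime.mem_or_mem h3 with h4 | h4
  · exact (mem_basicOpen_iff U' y hyU β).1 hyβ h4
  · exact h2 h4

/-- **Lemma C.** If `t' * u = κ` on the affine open `N`, `u` does not vanish at `z' ∈ N`,
`z' ∈ closure S'`, and at all points of `S' ∩ N` the function `κ` vanishes but `t'` does not,
we have a contradiction. -/
theorem false_of_mul_eq (N : X.affineOpens) (t' u κ : Γ(X, N.1)) (h : t' * u = κ) (z' : X)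
    (hz' : z' ∈ N.1) (hu : u ∉ P N z' hz') (S' : Set X) (hcl : z' ∈ closure S')
    (hS' : ∀ y (hy : y ∈ N.1), y ∈ S' → κ ∈ P N y hy ∧ t' ∉ P N y hy) : False := by
  have hz'u : z' ∈ X.basicOpen u := (mem_basicOpen_iff N z' hz' u).2 hu
  obtain ⟨y, hyu, hyS⟩ := mem_closure_iff.1 hcl _ (X.basicOpen u).2 hz'u
  have hyN : y ∈ N.1 := X.basicOpen_le u hyu
  obtain ⟨h1, h2⟩ := hS' y hyN hyS
  rw [← h] at h1
  rcases (N.2.primeIdealOf ⟨y, hyN⟩).isPrime.mem_or_mem h1 with h4 | h4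
  · exact h2 h4
  · exact (mem_basicOpen_iff N y hyN u).1 hyu h4

end Groth.Agent.Lib.BlowUpSeparate68
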