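import Groth.Agent.Lib.IdealExt68
import Groth.Agent.Lib.IdealComap
import Groth.Agent.Lib.IdealSheafComap
import Groth.Agent.Lib.BlowUpSeparate68
import Groth.Agent.Lib.BlowUpAdm68
import Groth.Agent.S7846

/-!
# Finite type ideal sheaves and blow-ups: auxiliary lemmas (helper68)

* `ideal_le_of_comap_ι_le`: an inequality of ideal sheaves restricted to an open `W` can be read off
  on the affine opens of `X` contained in `W`.
* `exists_pow_le_on_open`: on a quasi-compact open `W`, if `V(B) ∩ W ⊆ V(A)` with `A` of finite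
  type then `A ^ n ≤ B` over `W`.
-/

set_option autoImplicit false
universe u
open CategoryTheory CategoryTheory.Limits AlgebraicGeometry TopologicalSpace

namespace Groth.Agent.Lib.IdealExtBlowUp68

variable {X : Scheme.{u}}

theorem ideal_le_of_comap_ι_le (I J : X.IdealSheafData) (W : X.Opens)
    (h : I.comap W.ι ≤ J.comap W.ι) (D : X.affineOpens) (hD : D.1 ≤ W) :
    I.ideal D ≤ J.ideal D := by
  have hDr : D.1 ≤ W.ι.opensRange := by rwa [Scheme.Opens.opensRange_ι]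
  have hD' : IsAffineOpen (W.ι ⁻¹ᵁ D.1) := D.2.preimage_of_isOpenImmersion W.ι hDr
  have h1 := Groth.Agent.Lib.IdealComap.ideal_comap I W.ι D.1 D.2 (W.ι ⁻¹ᵁ D.1) hD' le_rfl
  have h2 := Groth.Agent.Lib.IdealComap.ideal_comap J W.ι D.1 D.2 (W.ι ⁻¹ᵁ D.1) hD' le_rfl
  have h3 := h ⟨W.ι ⁻¹ᵁ D.1, hD'⟩
  rw [h1, h2] at h3
  have hiso : IsIso (W.ι.appLE D.1 (W.ι ⁻¹ᵁ D.1) le_rfl) := by
    rw [Scheme.Hom.appLE_eq_app]
    exact W.ι.isIso_app D.1 hDr
  have hbij : Function.Bijective (W.ι.appLE D.1 (W.ι ⁻¹ᵁ D.1) le_rfl).hom :=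
    ConcreteCategory.bijective_of_isIso _
  have h4 := Ideal.comap_mono (f := (W.ι.appLE D.1 (W.ι ⁻¹ᵁ D.1) le_rfl).hom) h3
  rwa [Ideal.comap_map_of_bijective _ hbij, Ideal.comap_map_of_bijective _ hbij] at h4

theorem exists_pow_le_on_open (A B : X.IdealSheafData) (hA : BlowUp.IsFiniteTypeIdeal A)
    (W : X.Opens) (hW : IsCompact (W : Set X))
    (hsupp : ∀ w ∈ W, w ∈ B.support → w ∈ A.support) :
    ∃ n : ℕ, 1 ≤ n ∧ ∀ D : X.affineOpens, D.1 ≤ W → (A.ideal D) ^ n ≤ B.ideal D := by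
  have : CompactSpace (W : Scheme.{u}) := isCompact_iff_compactSpace.mp hW
  obtain ⟨n, hn1, hn⟩ := Groth.Agent.S7846.result (W : Scheme.{u}) (A.comap W.ι) (B.comap W.ι)
    (Groth.Agent.Lib.BlowUpAdm68.isFiniteTypeIdeal_comap W.ι A hA) (by
      intro w hw
      have hw' : w ∈ (B.comap W.ι).support := hw
      rw [Scheme.IdealSheafData.support_comap] at hw'
      change w ∈ (A.comap W.ι).support
      rw [Scheme.IdealSheafData.support_comap]
      exact hsupp _ w.2 hw')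
  refine ⟨n, hn1, fun D hD => ?_⟩
  rw [← Groth.Agent.Lib.IdealSheafComap.comap_pow] at hn
  have := ideal_le_of_comap_ι_le (A ^ n) B W hn D hD
  rwa [Scheme.IdealSheafData.ideal_pow] at this

/-- Restricting the scheme-theoretic closure of a closed subscheme of an open back to the open
gives the closed subscheme: `(𝓘.map j).comap j = 𝓘` for a quasi-compact open immersion `j`. -/
theorem comap_map_of_isOpenImmersion {Y : Scheme.{u}} (j : Y ⟶ X) [IsOpenImmersion j]
    [QuasiCompact j] (𝓘 : Y.IdealSheafData) : (𝓘.map j).comap j = 𝓘 := by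
  have H : IsPullback 𝓘.subschemeι (𝟙 _) j (𝓘.subschemeι ≫ j) := by
    have s : IsPullback 𝓘.subschemeι (𝟙 _) (𝟙 _) 𝓘.subschemeι := IsPullback.of_id_snd
    have t : IsPullback (𝟙 Y) (𝟙 Y) j j := IsKernelPair.id_of_mono j
    have := s.paste_horiz t
    rwa [Category.comp_id] at this
  ext W : 2
  rw [Scheme.IdealSheafData.ideal_comap_of_isOpenImmersion]
  have h1 := Scheme.ker_ideal_of_isPullback_of_isOpenImmersion (𝓘.subschemeι ≫ j) 𝓘.subschemeι
    (𝟙 _) j H W
  rw [Scheme.IdealSheafData.ker_subschemeι] at h1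
  rw [h1]
  rfl

/-- Finite generation of `I(D)` can be read off on the open subscheme `W ⊇ D`. -/
theorem fg_of_comap_ι_fg (I : X.IdealSheafData) (W : X.Opens) (D : X.affineOpens) (hD : D.1 ≤ W)
    (h : ∀ D' : (W : Scheme.{u}).affineOpens, ((I.comap W.ι).ideal D').FG) : (I.ideal D).FG := by
  have hDr : D.1 ≤ W.ι.opensRange := by rwa [Scheme.Opens.opensRange_ι]
  have hD' : IsAffineOpen (W.ι ⁻¹ᵁ D.1) := D.2.preimage_of_isOpenImmersion W.ι hDr
  have h1 := Groth.Agent.Lib.IdealComap.ideal_comap I W.ι D.1 D.2 (W.ι ⁻¹ᵁ D.1) hD' le_rfl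
  have h3 := h ⟨W.ι ⁻¹ᵁ D.1, hD'⟩
  rw [h1] at h3
  have hiso : IsIso (W.ι.appLE D.1 (W.ι ⁻¹ᵁ D.1) le_rfl) := by
    rw [Scheme.Hom.appLE_eq_app]
    exact W.ι.isIso_app D.1 hDr
  have h5 := h3.map (inv (W.ι.appLE D.1 (W.ι ⁻¹ᵁ D.1) le_rfl)).hom
  rw [Ideal.map_map, ← CommRingCat.hom_comp, IsIso.hom_inv_id] at h5
  simpa using h5

/-- Two ideal sheaves agreeing on the affine opens inside `W` have the same restriction to `W`. -/
theorem comap_ι_eq_of_forall_ideal_eq (I J : X.IdealSheafData) (W : X.Opens)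
    (h : ∀ D : X.affineOpens, D.1 ≤ W → I.ideal D = J.ideal D) : I.comap W.ι = J.comap W.ι := by
  ext D' : 2
  rw [Scheme.IdealSheafData.ideal_comap_of_isOpenImmersion,
    Scheme.IdealSheafData.ideal_comap_of_isOpenImmersion, h]
  exact Set.image_subset_iff.2 fun x _ => x.2

end Groth.Agent.Lib.IdealExtBlowUp68
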