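import Groth.Agent.Lib.BlowUpAmple68
import Groth.Agent.Lib.IdealExtBlowUp68
import Groth.Agent.Lib.BlowUpGlue68

/-!
# Composition of blowing ups (helper68)

Stacks 080B: on a quasi-compact quasi-separated scheme, a blowing up in a finite type ideal followed
by a blowing up in a finite type ideal is a blowing up in a finite type ideal.
-/

set_option autoImplicit false
universe u
open CategoryTheory CategoryTheory.Limits AlgebraicGeometry TopologicalSpace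

namespace Groth.Agent.Lib.BlowUpComp68

/-- A criterion for membership in the pushforward ideal: it suffices to be in the ideal locally on the
preimage. -/
theorem mem_map_ideal {X' X : Scheme.{u}} (b : X' ⟶ X) [QuasiCompact b] (𝓛 : X'.IdealSheafData)
    (V : X.affineOpens) (s : Γ(X, V.1))
    (h : ∀ x' : X', x' ∈ b ⁻¹ᵁ V.1 → ∃ W : X'.affineOpens, x' ∈ W.1 ∧
      ∃ hle : W.1 ≤ b ⁻¹ᵁ V.1, (b.appLE V.1 W.1 hle).hom s ∈ 𝓛.ideal W) :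
    s ∈ (𝓛.map b).ideal V := by
  unfold Scheme.IdealSheafData.map
  rw [Scheme.Hom.ker_apply, RingHom.mem_ker]
  apply 𝓛.subscheme.IsSheaf.section_ext
  intro z hz
  have hz' : 𝓛.subschemeι z ∈ b ⁻¹ᵁ V.1 := hz
  obtain ⟨W, hzW, hle, hmem⟩ := h _ hz'
  refine ⟨𝓛.subschemeι ⁻¹ᵁ W.1, ?_, hzW, ?_⟩
  · intro w hw
    exact hle hw
  · rw [map_zero]
    have h1 : (𝓛.subschemeι.app W.1).hom ((b.appLE V.1 W.1 hle).hom s) = 0 := by
      rw [← RingHom.mem_ker, Scheme.IdealSheafData.ker_subschemeι_app]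
      exact hmem
    have hle2 : 𝓛.subschemeι ⁻¹ᵁ W.1 ≤ (𝓛.subschemeι ≫ b) ⁻¹ᵁ V.1 := fun w hw => hle hw
    have h2 : (𝓛.subschemeι ≫ b).appLE V.1 (𝓛.subschemeι ⁻¹ᵁ W.1) hle2 =
        b.appLE V.1 W.1 hle ≫ 𝓛.subschemeι.app W.1 := by
      rw [Scheme.Hom.app_eq_appLE, Scheme.Hom.appLE_comp_appLE]
    change ((𝓛.subschemeι ≫ b).appLE V.1 (𝓛.subschemeι ⁻¹ᵁ W.1) hle2).hom s = 0
    rw [h2]
    exact h1

section transport

open Groth.Agent.Lib.SectionDiv Groth.Agent.Lib.BlowUpAffine Groth.Agent.Lib.AffineBlowupChart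
open Groth.Agent.Lib.BlowUpUniv

variable {X X' : Scheme.{u}} (𝓘 : X.IdealSheafData) (b : X' ⟶ X)

/-- The restriction of `b` over the affine open `V`, as a morphism to `Spec Γ(X, V)`. -/
noncomputable abbrev overSpec (V : X.affineOpens) :
    (b ⁻¹ᵁ V.1 : Scheme.{u}) ⟶ Spec (CommRingCat.of Γ(X, V.1)) :=
  (b ∣_ V.1) ≫ V.2.isoSpec.hom

theorem isPullback_overSpec (V : X.affineOpens) :
    IsPullback (overSpec b V) (b ⁻¹ᵁ V.1).ι V.2.fromSpec b := by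
  refine IsPullback.of_iso (isPullback_morphismRestrict b V.1) (Iso.refl _) V.2.isoSpec
    (Iso.refl _) (Iso.refl _) ?_ ?_ ?_ ?_
  · simp [overSpec]
  · simp
  · rw [Iso.refl_hom, Category.comp_id, ← V.2.isoSpec_inv_ι, Iso.hom_inv_id_assoc]
  · simp

theorem rho_overSpec (V : X.affineOpens) (W' : (b ⁻¹ᵁ V.1 : Scheme.{u}).Opens)
    (hle : W' ≤ ((b ⁻¹ᵁ V.1).ι ≫ b) ⁻¹ᵁ V.1) (s : Γ(X, V.1)) :
    rho Γ(X, V.1) (overSpec b V) W' s = (((b ⁻¹ᵁ V.1).ι ≫ b).appLE V.1 W' hle).hom s := by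
  have hw : overSpec b V ≫ V.2.fromSpec = (b ⁻¹ᵁ V.1).ι ≫ b := (isPullback_overSpec b V).w
  have key : ∀ (f : (b ⁻¹ᵁ V.1 : Scheme.{u}) ⟶ X) (_ : f = (b ⁻¹ᵁ V.1).ι ≫ b)
      (hle' : W' ≤ f ⁻¹ᵁ V.1), f.appLE V.1 W' hle' = ((b ⁻¹ᵁ V.1).ι ≫ b).appLE V.1 W' hle := by
    rintro f rfl hle'
    rfl
  have hle' : W' ≤ (overSpec b V ≫ V.2.fromSpec) ⁻¹ᵁ V.1 := by rw [hw]; exact hle
  rw [← key _ hw hle']
  have htop : (⊤ : (Spec (CommRingCat.of Γ(X, V.1))).Opens) ≤ V.2.fromSpec ⁻¹ᵁ V.1 := by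
    rw [V.2.fromSpec_preimage_self]
  have h1 : (overSpec b V ≫ V.2.fromSpec).appLE V.1 W' hle' =
      V.2.fromSpec.appLE V.1 ⊤ htop ≫ (overSpec b V).appLE ⊤ W' le_top := by
    rw [Scheme.Hom.appLE_comp_appLE]
  have h2 : V.2.fromSpec.appLE V.1 ⊤ htop = (Scheme.ΓSpecIso Γ(X, V.1)).inv := by
    rw [Scheme.Hom.appLE, V.2.fromSpec_app_self, Category.assoc, ← Functor.map_comp]
    convert Category.comp_id _
    exact (Spec Γ(X, V.1)).presheaf.map_id _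
  rw [h1, h2]
  rfl

variable {𝓘 b}

/-- Global generation over an affine open `V` of the base. -/
theorem exists_pow_generated_over (hb : BlowUp.IsBlowUp b 𝓘) (h𝓘 : BlowUp.IsFiniteTypeIdeal 𝓘)
    [QuasiCompact b] (𝓙 : X'.IdealSheafData) (h𝓙 : BlowUp.IsFiniteTypeIdeal 𝓙)
    (V : X.affineOpens) :
    ∃ D₀ : ℕ, ∀ D : ℕ, D₀ ≤ D → ∀ x' : X', x' ∈ b ⁻¹ᵁ V.1 →
      ∃ W : X'.affineOpens, x' ∈ W.1 ∧ ∃ hle : W.1 ≤ b ⁻¹ᵁ V.1,
        (𝓙 * (𝓘.comap b) ^ D).ideal W ≤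
          (((𝓙 * (𝓘.comap b) ^ D).map b).ideal V).map (b.appLE V.1 W.1 hle).hom := by
  set ι' := (b ⁻¹ᵁ V.1).ι with hι'
  have hP := isPullback_overSpec b V
  have hflat : Flat V.2.fromSpec := inferInstance
  have hb' := isBlowUp_of_isPullback_of_flat V.2.fromSpec 𝓘 b hb (overSpec b V) ι' hP
  rw [Groth.Agent.Lib.BlowUpProper68.eq_idealSheaf Γ(X, V.1) (𝓘.comap V.2.fromSpec)] at hb'
  set I : Ideal Γ(X, V.1) := ((𝓘.comap V.2.fromSpec).ideal ⟨⊤, isAffineOpen_top _⟩).map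
      (Scheme.ΓSpecIso (CommRingCat.of Γ(X, V.1))).hom.hom with hI
  have hIsheaf : Curv2.idealSheaf Γ(X, V.1) I = 𝓘.comap V.2.fromSpec :=
    (Groth.Agent.Lib.BlowUpProper68.eq_idealSheaf Γ(X, V.1) (𝓘.comap V.2.fromSpec)).symm
  have hFG : I.FG := by
    apply Ideal.FG.map
    have e : (⊤ : (Spec (CommRingCat.of Γ(X, V.1))).Opens) ≤ V.2.fromSpec ⁻¹ᵁ V.1 := by
      rw [V.2.fromSpec_preimage_self]
    rw [Groth.Agent.Lib.IdealComap.ideal_comap 𝓘 V.2.fromSpec V.1 V.2 ⊤ (isAffineOpen_top _) e]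
    exact (h𝓘 V).map _
  have h𝓙' : BlowUp.IsFiniteTypeIdeal (𝓙.comap ι') :=
    Groth.Agent.Lib.BlowUpAdm68.isFiniteTypeIdeal_comap ι' 𝓙 h𝓙
  obtain ⟨D₀, hD₀⟩ := Groth.Agent.Lib.BlowUpAmple68.exists_pow_generated hb' (𝓙.comap ι') hFG h𝓙'
  refine ⟨D₀, fun D hD x' hx' => ?_⟩
  -- the ideal on the open subscheme
  have hE : (Curv2.idealSheaf Γ(X, V.1) I).comap (overSpec b V) = (𝓘.comap b).comap ι' := by
    rw [hIsheaf, ← Scheme.IdealSheafData.comap_comp, hP.w, Scheme.IdealSheafData.comap_comp]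
  have hL : 𝓙.comap ι' * ((Curv2.idealSheaf Γ(X, V.1) I).comap (overSpec b V)) ^ D =
      (𝓙 * (𝓘.comap b) ^ D).comap ι' := by
    rw [hE, Groth.Agent.Lib.IdealSheafComap.comap_mul, Groth.Agent.Lib.IdealSheafComap.comap_pow]
  set 𝓛 := 𝓙 * (𝓘.comap b) ^ D with h𝓛
  -- dictionary
  have hleall : ∀ W' : (b ⁻¹ᵁ V.1 : Scheme.{u}).Opens, W' ≤ (ι' ≫ b) ⁻¹ᵁ V.1 := by
    intro W' w _
    exact w.2
  have hdict : ∀ (W' : (b ⁻¹ᵁ V.1 : Scheme.{u}).affineOpens) (s : Γ(X, V.1))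
      (hle : ι' ''ᵁ W'.1 ≤ b ⁻¹ᵁ V.1),
      rho Γ(X, V.1) (overSpec b V) W'.1 s ∈ (𝓛.comap ι').ideal W' →
        (b.appLE V.1 (ι' ''ᵁ W'.1) hle).hom s ∈
          𝓛.ideal ⟨ι' ''ᵁ W'.1, W'.2.image_of_isOpenImmersion ι'⟩ := by
    intro W' s hle hmem
    rw [Scheme.IdealSheafData.ideal_comap_of_isOpenImmersion, Ideal.mem_comap] at hmem
    convert hmem using 1
    rw [rho_overSpec b V W'.1 (hleall W'.1) s]
    have h1 : (ι' ≫ b).appLE V.1 W'.1 (hleall W'.1) =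
        b.appLE V.1 (ι' ''ᵁ W'.1) hle ≫ (ι'.appIso W'.1).hom := by
      rw [Scheme.Hom.appIso_hom', Scheme.Hom.appLE_comp_appLE]
    rw [h1]
    change _ = ((ι'.appIso W'.1).hom ≫ (ι'.appIso W'.1).inv).hom _
    rw [Iso.hom_inv_id]
    rfl
  obtain ⟨W', hyW', hW'⟩ := hD₀ D hD ⟨x', hx'⟩
  rw [hL] at hW'
  have hle : ι' ''ᵁ W'.1 ≤ b ⁻¹ᵁ V.1 := (b ⁻¹ᵁ V.1).ι_image_le W'.1
  refine ⟨⟨ι' ''ᵁ W'.1, W'.2.image_of_isOpenImmersion ι'⟩, ⟨⟨x', hx'⟩, hyW', rfl⟩, hle, ?_⟩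
  intro w hw
  -- transport `w` to the open subscheme
  have hz : (ι'.appIso W'.1).hom.hom w ∈ (𝓛.comap ι').ideal W' := by
    rw [Scheme.IdealSheafData.ideal_comap_of_isOpenImmersion, Ideal.mem_comap]
    change ((ι'.appIso W'.1).hom ≫ (ι'.appIso W'.1).inv).hom w ∈ _
    rw [Iso.hom_inv_id]
    exact hw
  have hz' := hW' hz
  have hw' : w = (ι'.appIso W'.1).inv.hom ((ι'.appIso W'.1).hom.hom w) := by
    change w = ((ι'.appIso W'.1).hom ≫ (ι'.appIso W'.1).inv).hom w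
    rw [Iso.hom_inv_id]
    rfl
  rw [hw']
  have h3 := Ideal.mem_map_of_mem (ι'.appIso W'.1).inv.hom hz'
  rw [Ideal.map_span] at h3
  refine (Ideal.span_le.mpr ?_) h3
  rintro _ ⟨_, ⟨s, hs, rfl⟩, rfl⟩
  have hs' : s ∈ (𝓛.map b).ideal V := by
    apply mem_map_ideal b 𝓛 V s
    intro x'' hx''
    obtain ⟨W'', hyW'', hW''⟩ := hs ⟨x'', hx''⟩
    have hle'' : ι' ''ᵁ W''.1 ≤ b ⁻¹ᵁ V.1 := (b ⁻¹ᵁ V.1).ι_image_le W''.1
    exact ⟨⟨ι' ''ᵁ W''.1, W''.2.image_of_isOpenImmersion ι'⟩, ⟨⟨x'', hx''⟩, hyW'', rfl⟩, hle'',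
      hdict W'' s hle'' hW''⟩
  have h4 : (ι'.appIso W'.1).inv.hom (rho Γ(X, V.1) (overSpec b V) W'.1 s) =
      (b.appLE V.1 (ι' ''ᵁ W'.1) hle).hom s := by
    rw [rho_overSpec b V W'.1 (hleall W'.1) s]
    have h1 : (ι' ≫ b).appLE V.1 W'.1 (hleall W'.1) =
        b.appLE V.1 (ι' ''ᵁ W'.1) hle ≫ (ι'.appIso W'.1).hom := by
      rw [Scheme.Hom.appIso_hom', Scheme.Hom.appLE_comp_appLE]
    rw [h1]
    change ((ι'.appIso W'.1).hom ≫ (ι'.appIso W'.1).inv).hom _ = _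
    rw [Iso.hom_inv_id]
    rfl
  rw [h4]
  exact Ideal.mem_map_of_mem _ hs'

end transport

section global

open Groth.Agent.Lib.BlowUpUniv Groth.Agent.Lib.BlowUpAdm68 Groth.Agent.Lib.IdealExt68

variable {X X' : Scheme.{u}} {𝓘 : X.IdealSheafData} {b : X' ⟶ X}

theorem isFiniteTypeIdeal_pow (𝓐 : X.IdealSheafData) (h : BlowUp.IsFiniteTypeIdeal 𝓐) (n : ℕ) :
    BlowUp.IsFiniteTypeIdeal (𝓐 ^ n) := by
  induction n with
  | zero => rw [pow_zero]; exact isFiniteTypeIdeal_one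
  | succ n ih => rw [pow_succ]; exact isFiniteTypeIdeal_mul _ _ ih h

theorem isEffCartier_pow (𝓐 : X.IdealSheafData) (h : BlowUp.IsEffCartierIdeal 𝓐) (n : ℕ) :
    BlowUp.IsEffCartierIdeal (𝓐 ^ n) := by
  induction n with
  | zero => rw [pow_zero]; exact isEffCartier_top
  | succ n ih => rw [pow_succ]; exact isEffCartier_mul _ _ ih h

/-- For `D` large, `𝓙 * 𝓔 ^ D` is generated by its pushforward to the base. -/
theorem exists_le_comap_map [CompactSpace X] (hb : BlowUp.IsBlowUp b 𝓘)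
    (h𝓘 : BlowUp.IsFiniteTypeIdeal 𝓘) [QuasiCompact b] (𝓙 : X'.IdealSheafData)
    (h𝓙 : BlowUp.IsFiniteTypeIdeal 𝓙) :
    ∃ D₀ : ℕ, ∀ D : ℕ, D₀ ≤ D →
      𝓙 * (𝓘.comap b) ^ D ≤ ((𝓙 * (𝓘.comap b) ^ D).map b).comap b := by
  classical
  obtain ⟨t, ht⟩ := isCompact_univ.elim_finite_subcover
    (fun V : X.affineOpens => (V.1 : Set X)) (fun V => V.1.2) (fun x _ => by
      obtain ⟨_, ⟨V, hV, rfl⟩, hxV, -⟩ :=
        X.isBasis_affineOpens.exists_subset_of_mem_open (Set.mem_univ x) isOpen_univ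
      exact Set.mem_iUnion.2 ⟨⟨V, hV⟩, hxV⟩)
  choose D₁ hD₁ using fun V : X.affineOpens => exists_pow_generated_over hb h𝓘 𝓙 h𝓙 V
  refine ⟨t.sup D₁, fun D hD => ?_⟩
  have hpt : ∀ x' : X', ∃ W : X'.affineOpens, x' ∈ W.1 ∧
      (𝓙 * (𝓘.comap b) ^ D).ideal W ≤ (((𝓙 * (𝓘.comap b) ^ D).map b).comap b).ideal W := by
    intro x'
    have := ht (Set.mem_univ (b x'))
    simp only [Set.mem_iUnion] at this
    obtain ⟨V, hV, hxV⟩ := this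
    obtain ⟨W, hxW, hle, hW⟩ := hD₁ V D ((Finset.le_sup hV).trans hD) x' hxV
    refine ⟨W, hxW, ?_⟩
    rw [show W = ⟨W.1, W.2⟩ from rfl,
      Groth.Agent.Lib.IdealComap.ideal_comap _ b V.1 V.2 W.1 W.2 hle]
    exact hW
  choose W hxW hW using hpt
  refine Scheme.IdealSheafData.le_of_iSup_eq_top W ?_ hW
  rw [eq_top_iff]
  intro x' _
  exact Opens.mem_iSup.mpr ⟨x', hxW x'⟩

/-- A finitely generated sub-ideal of `𝔞(V)` is contained in a finite type sub-ideal sheaf of `𝔞`. -/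
theorem exists_finiteType_le_of_fg [CompactSpace X] [QuasiSeparatedSpace X] (𝔞 : X.IdealSheafData)
    (V : X.affineOpens) (𝔟 : Ideal Γ(X, V.1)) (h𝔟 : 𝔟.FG) (hle : 𝔟 ≤ 𝔞.ideal V) :
    ∃ 𝓚 : X.IdealSheafData, 𝓚 ≤ 𝔞 ∧ BlowUp.IsFiniteTypeIdeal 𝓚 ∧ 𝔟 ≤ 𝓚.ideal V := by
  set 𝔠 : X.IdealSheafData := 𝔞 ⊓ closureIdeal V 𝔟 with h𝔠
  have hV : 𝔠.ideal V = 𝔟 := by
    rw [h𝔠, Scheme.IdealSheafData.ideal_inf, Pi.inf_apply, closureIdeal_ideal_self]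
    exact inf_eq_right.mpr hle
  obtain ⟨𝓚, h1, h2, h3⟩ := exists_finiteType_le 𝔠 V.1 V.2.isCompact (fun W hW => by
    have hWV : W ≤ V := hW
    rw [← 𝔠.map_ideal hWV, hV]
    exact h𝔟.map _)
  exact ⟨𝓚, h1.trans inf_le_left, h3, by rw [h2 V le_rfl, hV]⟩

/-- If `𝔞.comap b` is of finite type (and the source is quasi-compact), it is the inverse image of a
finite type sub-ideal sheaf of `𝔞`. -/
theorem exists_finiteType_le_comap_eq [CompactSpace X] [QuasiSeparatedSpace X] [CompactSpace X']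
    (b : X' ⟶ X) (𝔞 : X.IdealSheafData) (hfg : BlowUp.IsFiniteTypeIdeal (𝔞.comap b)) :
    ∃ 𝓚 : X.IdealSheafData, 𝓚 ≤ 𝔞 ∧ BlowUp.IsFiniteTypeIdeal 𝓚 ∧ 𝓚.comap b = 𝔞.comap b := by
  classical
  -- local data
  have hpt : ∀ x' : X', ∃ (V : X.affineOpens) (W : X'.affineOpens) (hle : W.1 ≤ b ⁻¹ᵁ V.1),
      x' ∈ W.1 ∧ ∃ 𝓚 : X.IdealSheafData, 𝓚 ≤ 𝔞 ∧ BlowUp.IsFiniteTypeIdeal 𝓚 ∧
        (𝔞.comap b).ideal W ≤ (𝓚.comap b).ideal W := by
    intro x'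
    obtain ⟨_, ⟨V, hV, rfl⟩, hxV, -⟩ :=
      X.isBasis_affineOpens.exists_subset_of_mem_open (Set.mem_univ (b x')) isOpen_univ
    obtain ⟨_, ⟨W, hW, rfl⟩, hxW, hWV⟩ :=
      X'.isBasis_affineOpens.exists_subset_of_mem_open (show x' ∈ b ⁻¹ᵁ V from hxV) (b ⁻¹ᵁ V).2
    have hle : W ≤ b ⁻¹ᵁ V := hWV
    have h1 : (𝔞.comap b).ideal ⟨W, hW⟩ = (𝔞.ideal ⟨V, hV⟩).map (b.appLE V W hle).hom :=
      Groth.Agent.Lib.IdealComap.ideal_comap 𝔞 b V hV W hW hle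
    obtain ⟨𝔟, h𝔟le, h𝔟fg, h𝔟eq⟩ := exists_fg_le_map_eq (b.appLE V W hle).hom (𝔞.ideal ⟨V, hV⟩)
      (h1 ▸ hfg ⟨W, hW⟩)
    obtain ⟨𝓚, hK1, hK2, hK3⟩ := exists_finiteType_le_of_fg 𝔞 ⟨V, hV⟩ 𝔟 h𝔟fg h𝔟le
    refine ⟨⟨V, hV⟩, ⟨W, hW⟩, hle, hxW, 𝓚, hK1, hK2, ?_⟩
    rw [h1, Groth.Agent.Lib.IdealComap.ideal_comap 𝓚 b V hV W hW hle, ← h𝔟eq]
    exact Ideal.map_mono hK3
  choose V W hle hxW 𝓚 hK1 hK2 hK3 using hpt
  obtain ⟨t, ht⟩ := isCompact_univ.elim_finite_subcover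
    (fun x' : X' => ((W x').1 : Set X')) (fun x' => (W x').1.2)
    (fun x' _ => Set.mem_iUnion.2 ⟨x', hxW x'⟩)
  refine ⟨t.sup 𝓚, Finset.sup_le (fun x' _ => hK1 x'), ?_, ?_⟩
  · -- finite type
    have : ∀ s : Finset X', BlowUp.IsFiniteTypeIdeal (s.sup 𝓚) := by
      intro s
      induction s using Finset.induction_on with
      | empty =>
        intro U
        rw [Finset.sup_empty]
        change (⊥ : Ideal Γ(X, U.1)).FG
        exact Submodule.fg_bot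
      | insert x' s _ ih =>
        intro U
        rw [Finset.sup_insert]
        change ((𝓚 x').ideal U ⊔ (s.sup 𝓚).ideal U).FG
        exact Submodule.FG.sup (hK2 x' U) (ih U)
    exact this t
  · apply le_antisymm
    · exact Scheme.IdealSheafData.comap_mono _ (Finset.sup_le (fun x' _ => hK1 x'))
    · refine Scheme.IdealSheafData.le_of_iSup_eq_top (fun x' : t => W x'.1) ?_ ?_
      · rw [eq_top_iff]
        intro x' _
        have := ht (Set.mem_univ x')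
        simp only [Set.mem_iUnion] at this
        obtain ⟨y', hy', hx'⟩ := this
        exact Opens.mem_iSup.mpr ⟨⟨y', hy'⟩, hx'⟩
      · rintro ⟨x', hx'⟩
        refine (hK3 x').trans ?_
        exact Scheme.IdealSheafData.comap_mono _ (Finset.le_sup hx') (W x')

/-- **Key lemma for composing blowing ups.**  On a qcqs scheme, for `D` large the ideal `𝓙 * 𝓔 ^ D`
on the blowing up is the inverse image of a finite type ideal sheaf on the base. -/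
theorem exists_comap_eq [CompactSpace X] [QuasiSeparatedSpace X] (hb : BlowUp.IsBlowUp b 𝓘)
    (h𝓘 : BlowUp.IsFiniteTypeIdeal 𝓘) (𝓙 : X'.IdealSheafData) (h𝓙 : BlowUp.IsFiniteTypeIdeal 𝓙) :
    ∃ (D : ℕ) (𝓚 : X.IdealSheafData), 1 ≤ D ∧ BlowUp.IsFiniteTypeIdeal 𝓚 ∧
      𝓚.comap b = 𝓙 * (𝓘.comap b) ^ D := by
  have hproper : IsProper b :=
    Groth.Agent.Lib.BlowUpProper68.isProper_of_isBlowUp_of_isFiniteTypeIdeal b 𝓘 hb h𝓘
  have hcpt : CompactSpace X' := by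
    rw [← isCompact_univ_iff]
    exact QuasiCompact.isCompact_preimage (f := b) _ isOpen_univ isCompact_univ
  obtain ⟨D₀, hD₀⟩ := exists_le_comap_map hb h𝓘 𝓙 h𝓙
  set D := max D₀ 1 with hD
  have h1 : ((𝓙 * (𝓘.comap b) ^ D).map b).comap b = 𝓙 * (𝓘.comap b) ^ D :=
    le_antisymm (Scheme.IdealSheafData.comap_map_le _ _) (hD₀ D (le_max_left _ _))
  have hft : BlowUp.IsFiniteTypeIdeal (𝓙 * (𝓘.comap b) ^ D) :=
    isFiniteTypeIdeal_mul _ _ h𝓙 (isFiniteTypeIdeal_pow _ (isFiniteTypeIdeal_comap b 𝓘 h𝓘) D)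
  obtain ⟨𝓚, -, hK2, hK3⟩ := exists_finiteType_le_comap_eq b ((𝓙 * (𝓘.comap b) ^ D).map b)
    (by rw [h1]; exact hft)
  exact ⟨D, 𝓚, le_max_right _ _, hK2, hK3.trans h1⟩

/-- A blowing up is surjective over the complement of its centre. -/
theorem exists_preimage_of_notMem_support (hb : BlowUp.IsBlowUp b 𝓘) (x : X)
    (hx : x ∉ 𝓘.support) : ∃ x' : X', b x' = x := by
  have hiso : IsIso (b ∣_ 𝓘.support.compl) := isIso_morphismRestrict_compl hb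
  set U : X.Opens := 𝓘.support.compl with hU
  have hx' : x ∈ U := hx
  obtain ⟨y, hy⟩ := (ConcreteCategory.bijective_of_isIso (b ∣_ U).base).2 ⟨x, hx'⟩
  refine ⟨y.1, ?_⟩
  have h1 : (b ∣_ U) ≫ U.ι = (b ⁻¹ᵁ U).ι ≫ b := morphismRestrict_ι b _
  have h2 : U.ι ((b ∣_ U) y) = b ((b ⁻¹ᵁ U).ι y) := by
    rw [← Scheme.Hom.comp_apply, ← Scheme.Hom.comp_apply, h1]
  change b ((b ⁻¹ᵁ U).ι y) = x
  rw [← h2]
  have h3 : (b ∣_ U) y = ⟨x, hx'⟩ := hy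
  rw [h3]
  rfl

/-- **Stacks 080B.**  On a quasi-compact quasi-separated scheme, the composition of a blowing up in a
finite type ideal with a blowing up in a finite type ideal is a blowing up in a finite type ideal. -/
theorem exists_isBlowUp_comp [CompactSpace X] [QuasiSeparatedSpace X] {X'' : Scheme.{u}}
    (h𝓘 : BlowUp.IsFiniteTypeIdeal 𝓘) (hb : BlowUp.IsBlowUp b 𝓘)
    (𝓙 : X'.IdealSheafData) (h𝓙 : BlowUp.IsFiniteTypeIdeal 𝓙) (b' : X'' ⟶ X')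
    (hb' : BlowUp.IsBlowUp b' 𝓙) :
    ∃ 𝓚 : X.IdealSheafData, BlowUp.IsFiniteTypeIdeal 𝓚 ∧
      (𝓚.support : Set X) = (𝓘.support : Set X) ∪ (fun x' => b x') '' (𝓙.support : Set X') ∧
      BlowUp.IsBlowUp (b' ≫ b) 𝓚 := by
  obtain ⟨D, 𝓚', hD, hK'ft, hK'⟩ := exists_comap_eq hb h𝓘 𝓙 h𝓙
  refine ⟨𝓘 * 𝓚', isFiniteTypeIdeal_mul _ _ h𝓘 hK'ft, ?_, ?_⟩
  · -- supports
    have hsupp : ∀ x' : X', b x' ∈ 𝓚'.support ↔ (x' ∈ 𝓙.support ∨ b x' ∈ 𝓘.support) := by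
      intro x'
      have h1 : (x' ∈ (𝓚'.comap b).support) ↔ b x' ∈ 𝓚'.support := by
        rw [Scheme.IdealSheafData.support_comap]; rfl
      rw [← h1, hK', Scheme.IdealSheafData.support_mul,
        Scheme.IdealSheafData.support_pow _ D (by omega), Scheme.IdealSheafData.support_comap]
      rfl
    rw [Scheme.IdealSheafData.support_mul]
    ext x
    change (x ∈ 𝓘.support ∨ x ∈ 𝓚'.support) ↔ _
    constructor
    · rintro (h | h)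
      · exact Or.inl h
      · by_cases hxI : x ∈ 𝓘.support
        · exact Or.inl hxI
        · obtain ⟨x', rfl⟩ := exists_preimage_of_notMem_support hb x hxI
          rcases (hsupp x').mp h with h' | h'
          · exact Or.inr ⟨x', h', rfl⟩
          · exact Or.inl h'
    · rintro (h | ⟨x', hx', rfl⟩)
      · exact Or.inl h
      · exact Or.inr ((hsupp x').mpr (Or.inl hx'))
  · -- blowing up
    have hb'' : BlowUp.IsBlowUp b' (𝓚'.comap b) := by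
      rw [hK']
      exact isBlowUp_mul_effCartier 𝓙 ((𝓘.comap b) ^ D) (isEffCartier_pow _ hb.1 D) b' hb'
    exact Groth.Agent.S1683.result 𝓘 𝓚' b hb b' hb''

end global

end Groth.Agent.Lib.BlowUpComp68
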