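import Groth.Agent.Lib.H78Restrict

/-!
# helper78: the generating locus of a local section (namespace `Groth.Agent.Lib.H78GenOn`)

* `genOn P U τ`: the largest open inside `U` on which the section `τ ∈ Γ(P, U)` is a free generator.
  `mem_genOn_iff`, `genOn_le`, `isGen_genOn`, `genLocus_eq_genOn`.
* `isGen_tmul_iff`: if `ρ` generates `R` over `W`, then `t ⊗ ρ` generates `P ⊗ R` iff `t` generates `P`.
* `genLocus_inf_eq_genOn`: if a global section `ξ` of `P ⊗ R` restricts over `U` to `τ ⊗ ρ` with `ρ` a generator of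
  `R` over `U`, then `X_ξ ∩ U = genOn P U τ`.
* `image_genLocus_restrict`: for an open immersion `j : Y ⟶ X` and a section `s'` of `P|_Y`,
  `j(Y_{s'}) = genOn P (j Y) s'`.
-/

set_option autoImplicit false
universe u
open CategoryTheory CategoryTheory.Limits AlgebraicGeometry MonoidalCategory Opposite TopologicalSpace
open Groth.Agent.Lib.H90Invertible Groth.Agent.Lib.StructureModule Groth.Agent.Lib.H78TensorGen
open Groth.Agent.Lib.H78SecCoord Groth.Agent.Lib.H78Atlas Groth.Agent.Lib.H78Restrict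

namespace Groth.Agent.Lib.H78GenOn

variable {X : Scheme.{u}} {P : X.Modules}

/-- the largest open inside `U` on which the section `τ` of `P` over `U` is a free generator -/
def genOn (P : X.Modules) (U : X.Opens) (τ : Γ(P, U)) : X.Opens :=
  sSup {W | ∃ h : W ≤ U, IsGen P W (rs P h τ)}

lemma mem_genOn_iff {U : X.Opens} (τ : Γ(P, U)) (x : X) :
    x ∈ genOn P U τ ↔ ∃ W : X.Opens, x ∈ W ∧ ∃ h : W ≤ U, IsGen P W (rs P h τ) := by
  unfold genOn
  rw [Opens.mem_sSup]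
  constructor
  · rintro ⟨W, hW, hxW⟩; exact ⟨W, hxW, hW⟩
  · rintro ⟨W, hxW, hW⟩; exact ⟨W, hW, hxW⟩

lemma genOn_le {U : X.Opens} (τ : Γ(P, U)) : genOn P U τ ≤ U := by
  intro x hx
  obtain ⟨W, hxW, h, -⟩ := (mem_genOn_iff τ x).1 hx
  exact h hxW

lemma isGen_genOn {U : X.Opens} (τ : Γ(P, U)) : IsGen P (genOn P U τ) (rs P (genOn_le τ) τ) := by
  refine isGen_of_cover _ (fun W : {W : X.Opens // ∃ h : W ≤ U, IsGen P W (rs P h τ)} => W.1)
    (fun W => ?_) ?_ (fun W => ?_)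
  · intro x hx
    exact (mem_genOn_iff τ x).2 ⟨W.1, hx, W.2⟩
  · intro x hx
    obtain ⟨W, hxW, hW⟩ := (mem_genOn_iff τ x).1 hx
    exact Opens.mem_iSup.2 ⟨⟨W, hW⟩, hxW⟩
  · rw [rs_rs]; exact W.2.2

lemma genLocus_eq_genOn (s : Coh.structureModule X ⟶ P) :
    CohB1.genLocus P s = genOn P ⊤ (sec s) := by
  ext x
  rw [SetLike.mem_coe, SetLike.mem_coe, mem_genLocus_iff, mem_genOn_iff]
  constructor
  · rintro ⟨V, hxV, hV⟩; exact ⟨V, hxV, le_top, hV⟩
  · rintro ⟨V, hxV, h, hV⟩; exact ⟨V, hxV, hV⟩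

/-- if `ρ` generates `R` over `W`, then `t ⊗ ρ` generates `P ⊗ R` over `W` iff `t` generates `P` over `W` -/
theorem isGen_tmul_iff {R : X.Modules} {W : X.Opens} {ρ : Γ(R, W)} (hρ : IsGen R W ρ) (t : Γ(P, W)) :
    IsGen (CohB1.tensorMod P R) W (tmul t ρ) ↔ IsGen P W t := by
  refine ⟨fun h => ?_, fun h => isGen_tmul h hρ⟩
  intro W' hW'
  have h1 := h W' hW'
  have h2 := tmul_gen_bijective P hρ hW'
  have h3 : (fun a : Γ(X, W') => a • rs _ hW' (tmul t ρ)) =
      (fun x : Γ(P, W') => tmul x (rs R hW' ρ)) ∘ (fun a : Γ(X, W') => a • rs P hW' t) := by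
    funext a
    change a • rs _ hW' (tmul t ρ) = tmul (a • rs P hW' t) (rs R hW' ρ)
    rw [tmul_rs, smul_tmul]
  have h1' : Function.Bijective
      ((fun x : Γ(P, W') => tmul x (rs R hW' ρ)) ∘ (fun a : Γ(X, W') => a • rs P hW' t)) := by
    rw [← h3]; exact h1
  exact (Function.Bijective.of_comp_iff' h2 _).1 h1'

/-- restricting the section to a smaller open intersects the generating locus -/
lemma genOn_rs {U U' : X.Opens} (h : U' ≤ U) (τ : Γ(P, U)) :
    genOn P U' (rs P h τ) = genOn P U τ ⊓ U' := by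
  ext x
  simp only [SetLike.mem_coe, Opens.coe_inf, Set.mem_inter_iff]
  rw [mem_genOn_iff, mem_genOn_iff]
  constructor
  · rintro ⟨W, hxW, hW, hg⟩
    rw [rs_rs] at hg
    exact ⟨⟨W, hxW, hW.trans h, hg⟩, hW hxW⟩
  · rintro ⟨⟨W, hxW, hW, hg⟩, hxU'⟩
    refine ⟨W ⊓ U', ⟨hxW, hxU'⟩, inf_le_right, ?_⟩
    rw [rs_rs]
    have := hg.mono (inf_le_left : W ⊓ U' ≤ W)
    change IsGen P _ (rs P _ (rs P _ _)) at this
    rwa [rs_rs] at this

lemma genOn_rs_of_eq {U U' : X.Opens} (h : U' = U) (τ : Γ(P, U)) :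
    genOn P U' (rs P h.le τ) = genOn P U τ := by
  rw [genOn_rs, inf_eq_left, h]
  exact genOn_le τ

/-- **the generating locus of an extension**: if the global section `ξ` of `P ⊗ R` restricts over `U` to `τ ⊗ ρ`
with `ρ` a generator of `R` over `U`, then `X_ξ ∩ U` is the generating locus of `τ` -/
theorem genLocus_inf_eq_genOn {R : X.Modules} {U : X.Opens} {ρ : Γ(R, U)} (hρ : IsGen R U ρ) (τ : Γ(P, U))
    (ξ : Γ(CohB1.tensorMod P R, ⊤)) (hξ : rs _ (le_top : U ≤ ⊤) ξ = tmul τ ρ) :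
    CohB1.genLocus _ (ofSection ξ) ⊓ U = genOn P U τ := by
  rw [genLocus_eq_genOn, sec_ofSection, ← genOn_rs le_top ξ, hξ]
  ext x
  rw [SetLike.mem_coe, SetLike.mem_coe, mem_genOn_iff, mem_genOn_iff]
  constructor
  · rintro ⟨W, hxW, hW, hg⟩
    rw [tmul_rs] at hg
    exact ⟨W, hxW, hW, (isGen_tmul_iff (hρ.mono hW) _).1 hg⟩
  · rintro ⟨W, hxW, hW, hg⟩
    refine ⟨W, hxW, hW, ?_⟩
    rw [tmul_rs]
    exact (isGen_tmul_iff (hρ.mono hW) _).2 hg

section Restrict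

variable {Y : Scheme.{u}} (j : Y ⟶ X) [IsOpenImmersion j]

/-- a section of `P.restrict j` over `W` as a section of `P` over `j ''ᵁ W` -/
def ofR (P : X.Modules) (W : Y.Opens) (x : Γ(P.restrict j, W)) : Γ(P, j ''ᵁ W) := x

lemma ofR_rs (P : X.Modules) {W W' : Y.Opens} (h : W' ≤ W) (x : Γ(P.restrict j, W)) :
    ofR j P W' (rs (P.restrict j) h x) = rs P (j.image_mono h) (ofR j P W x) := rfl

/-- **generating loci on an open subscheme**: for a section `s'` of `P|_Y`, `j(Y_{s'})` is the generating locus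
of `s'` viewed as a section of `P` over `j(Y)` -/
theorem image_genLocus_restrict (s' : Coh.structureModule Y ⟶ P.restrict j) :
    j ''ᵁ CohB1.genLocus (P.restrict j) s' = genOn P (j ''ᵁ ⊤) (ofR j P ⊤ (sec s')) := by
  ext x
  rw [SetLike.mem_coe, SetLike.mem_coe, mem_genOn_iff]
  constructor
  · rintro ⟨y, hy, rfl⟩
    obtain ⟨W, hyW, hW⟩ := (mem_genLocus_iff s' y).1 hy
    refine ⟨j ''ᵁ W, ⟨y, hyW, rfl⟩, j.image_mono le_top, ?_⟩
    exact (isGen_restrict_iff j P W _).1 hW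
  · rintro ⟨W', hxW', hW', hg⟩
    obtain ⟨W, rfl⟩ : ∃ W : Y.Opens, j ''ᵁ W = W' := by
      refine ⟨j ⁻¹ᵁ W', ?_⟩
      rw [Scheme.Hom.image_preimage_eq_opensRange_inf]
      refine inf_eq_right.mpr (hW'.trans ?_)
      rintro _ ⟨y, -, rfl⟩
      exact ⟨y, rfl⟩
    obtain ⟨y, hyW, rfl⟩ := hxW'
    refine ⟨y, (mem_genLocus_iff s' y).2 ⟨W, hyW, ?_⟩, rfl⟩
    refine (isGen_restrict_iff j P W _).2 ?_
    exact hg

end Restrict

end Groth.Agent.Lib.H78GenOn
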