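import Groth.Agent.Lib.StructureModule
import Groth.Agent.Lib.QCohStalk
import Groth.Prelude.Def_CurvBase
import Mathlib.RingTheory.Ideal.AssociatedPrime.Basic

/-!
# The stalk of the structure module is the local ring

`(Coh.structureModule X).presheaf.stalk x` (a colimit of abelian groups) versus `X.presheaf.stalk x`
(a colimit of commutative rings):

* `oneStalk x`: the germ of the unit section;
* `germ_toSec`: `germ (toSec W α) = germ α • oneStalk x`;
* `germ_toSec_eq_zero_iff`;
* `stalkEquiv x : X.presheaf.stalk x ≃ₗ[X.presheaf.stalk x] (Coh.structureModule X).presheaf.stalk x`,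
  `a ↦ a • oneStalk x`;
* `isAssPoint_structureModule_iff : Curv2.IsAssPoint (Coh.structureModule X) x ↔
    IsAssociatedPrime (maximalIdeal O_x) O_x`;
* `isWeakAssPoint_structureModule_iff : Curv2.IsWeakAssPoint (Coh.structureModule X) x ↔
    ∃ a : O_x, (ker (toSpanSingleton O_x O_x a)).radical = maximalIdeal O_x`.
-/

set_option autoImplicit false
open CategoryTheory AlgebraicGeometry Opposite
universe u

namespace Groth.Agent.Lib.StructureModuleStalk

open Groth.Agent.Lib.StructureModule Groth.Agent.Lib.QCohStalk

variable {X : Scheme.{u}}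

/-- The germ at `x` of the unit section of the structure module. -/
noncomputable def oneStalk (x : X) : (Coh.structureModule X).presheaf.stalk x :=
  (Coh.structureModule X).presheaf.germ ⊤ x trivial (toSec ⊤ 1)

theorem germ_toSec_one (W : X.Opens) (x : X) (hx : x ∈ W) :
    (Coh.structureModule X).presheaf.germ W x hx (toSec W 1) = oneStalk x := by
  rw [oneStalk, ← TopCat.Presheaf.germ_res_apply (Coh.structureModule X).presheaf
    (homOfLE le_top : W ⟶ ⊤) x hx (toSec ⊤ 1)]
  congr 1
  exact (map_one (X.presheaf.map (homOfLE le_top : W ⟶ ⊤).op).hom).symm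

theorem germ_toSec (W : X.Opens) (x : X) (hx : x ∈ W) (α : Γ(X, W)) :
    (Coh.structureModule X).presheaf.germ W x hx (toSec W α) =
      X.presheaf.germ W x hx α • oneStalk x := by
  rw [toSec_eq_smul_one, germ_smul, germ_toSec_one]

theorem germ_toSec_eq_zero_iff (W : X.Opens) (x : X) (hx : x ∈ W) (α : Γ(X, W)) :
    (Coh.structureModule X).presheaf.germ W x hx (toSec W α) = 0 ↔
      X.presheaf.germ W x hx α = 0 := by
  constructor
  · intro h0
    obtain ⟨W', hxW', i1, i2, hW'⟩ := TopCat.Presheaf.germ_eq (Coh.structureModule X).presheaf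
      x hx hx (toSec W α) 0 (by rw [h0, map_zero])
    rw [map_zero] at hW'
    rw [← TopCat.Presheaf.germ_res_apply X.presheaf i1 x hxW' α]
    have : X.presheaf.map i1.op α = 0 := hW'
    rw [this, map_zero]
  · intro h0
    obtain ⟨W', hxW', i1, i2, hW'⟩ := TopCat.Presheaf.germ_eq X.presheaf
      x hx hx α 0 (by rw [h0, map_zero])
    rw [map_zero] at hW'
    rw [← TopCat.Presheaf.germ_res_apply (Coh.structureModule X).presheaf i1 x hxW' (toSec W α)]
    have : (Coh.structureModule X).presheaf.map i1.op (toSec W α) = 0 := hW'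
    rw [this, map_zero]

theorem exists_germ_toSec (x : X) (ξ : (Coh.structureModule X).presheaf.stalk x) :
    ∃ (W : X.Opens) (hx : x ∈ W) (α : Γ(X, W)),
      (Coh.structureModule X).presheaf.germ W x hx (toSec W α) = ξ := by
  obtain ⟨W, hxW, s, rfl⟩ := TopCat.Presheaf.exists_germ_eq (Coh.structureModule X).presheaf ξ
  exact ⟨W, hxW, s, rfl⟩

/-- The local ring `O_{X,x}` is the stalk of the structure module, linearly. -/
noncomputable def stalkEquiv (x : X) :
    X.presheaf.stalk x ≃ₗ[X.presheaf.stalk x] (Coh.structureModule X).presheaf.stalk x :=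
  LinearEquiv.ofBijective (LinearMap.toSpanSingleton (X.presheaf.stalk x) _ (oneStalk x)) <| by
    constructor
    · rw [injective_iff_map_eq_zero]
      intro a ha
      obtain ⟨W, hxW, α, rfl⟩ := TopCat.Presheaf.exists_germ_eq X.presheaf a
      rw [LinearMap.toSpanSingleton_apply, ← germ_toSec, germ_toSec_eq_zero_iff] at ha
      exact ha
    · intro ξ
      obtain ⟨W, hxW, α, rfl⟩ := exists_germ_toSec x ξ
      exact ⟨X.presheaf.germ W x hxW α, by rw [LinearMap.toSpanSingleton_apply, germ_toSec]⟩

theorem stalkEquiv_apply (x : X) (a : X.presheaf.stalk x) :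
    stalkEquiv x a = a • oneStalk x := rfl

theorem stalkEquiv_germ (W : X.Opens) (x : X) (hx : x ∈ W) (α : Γ(X, W)) :
    stalkEquiv x (X.presheaf.germ W x hx α) =
      (Coh.structureModule X).presheaf.germ W x hx (toSec W α) := by
  rw [stalkEquiv_apply, germ_toSec]

theorem isAssPoint_structureModule_iff (x : X) :
    Curv2.IsAssPoint (Coh.structureModule X) x ↔
      IsAssociatedPrime (IsLocalRing.maximalIdeal (X.presheaf.stalk x)) (X.presheaf.stalk x) :=
  ((stalkEquiv x).isAssociatedPrime_iff).symm

theorem isWeakAssPoint_structureModule_iff (x : X) :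
    Curv2.IsWeakAssPoint (Coh.structureModule X) x ↔
      ∃ a : X.presheaf.stalk x,
        Ideal.radical (LinearMap.ker (LinearMap.toSpanSingleton (X.presheaf.stalk x)
          (X.presheaf.stalk x) a)) = IsLocalRing.maximalIdeal (X.presheaf.stalk x) := by
  have key : ∀ a : X.presheaf.stalk x,
      LinearMap.ker (LinearMap.toSpanSingleton (X.presheaf.stalk x)
        ((Coh.structureModule X).presheaf.stalk x) (stalkEquiv x a)) =
      LinearMap.ker (LinearMap.toSpanSingleton (X.presheaf.stalk x) (X.presheaf.stalk x) a) := by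
    intro a
    ext r
    rw [LinearMap.mem_ker, LinearMap.mem_ker, LinearMap.toSpanSingleton_apply,
      LinearMap.toSpanSingleton_apply, ← map_smul, LinearEquiv.map_eq_zero_iff]
  constructor
  · rintro ⟨m, hm⟩
    refine ⟨(stalkEquiv x).symm m, ?_⟩
    rw [← key, LinearEquiv.apply_symm_apply]
    exact hm
  · rintro ⟨a, ha⟩
    exact ⟨stalkEquiv x a, by rw [key]; exact ha⟩

end Groth.Agent.Lib.StructureModuleStalk
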