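import Groth.Agent.Lib.H78GlobGen
import Groth.Agent.Lib.ModStalkLin
import Groth.Agent.Lib.StructureModuleStalk
import Groth.Agent.Lib.IdealMod2

/-!
# Global generation of ideals and affine basic opens (helper48)

* `exists_mem_basicOpen_of_isGloballyGenerated` : `J ⟶ O_X` a morphism from a globally generated module which hits `1` over a
  neighbourhood of `x` ⇒ some global section of `J` maps to a function not vanishing at `x`.
* `exists_affine_basicOpen` : if moreover `J ⟶ O_X` factors through the ideal of the closed complement of an affine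
  open `U ∋ x`, the basic open of that function is affine and contained in `U`.
-/

set_option autoImplicit false
universe u
open CategoryTheory CategoryTheory.Limits AlgebraicGeometry Opposite TopologicalSpace
open Groth.Agent.Lib.StructureModule Groth.Agent.Lib.ModStalkLin Groth.Agent.Lib.StructureModuleStalk

namespace Groth.Agent.Lib.QAffineGen

variable {X : Scheme.{u}}

/-- the function underlying a section of the structure module -/
noncomputable def fn {V : X.Opens} (s : Γ(Coh.structureModule X, V)) : Γ(X, V) := s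

theorem toSec_fn {V : X.Opens} (s : Γ(Coh.structureModule X, V)) : toSec V (fn s) = s := rfl

set_option backward.isDefEq.respectTransparency false in
/-- If `J` is globally generated and `i : J ⟶ O_X` hits `1` on a neighbourhood of `x`, then some global
section of `J` is mapped by `i` to a function which does not vanish at `x`. -/
theorem exists_mem_basicOpen_of_isGloballyGenerated (J : X.Modules) (i : J ⟶ Coh.structureModule X)
    (hJ : Curv2.IsGloballyGenerated J) (x : X) (U : X.Opens) (hxU : x ∈ U) (g : Γ(J, U))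
    (hg : i.app U g = toSec U 1) :
    ∃ σ : Γ(J, ⊤), x ∈ X.basicOpen (fn (i.app ⊤ σ)) := by
  classical
  obtain ⟨ι, p, hp⟩ := hJ
  let G : SheafOfModules.GeneratingSections J :=
    { I := ι, s := J.freeHomEquiv p, epi := by rw [Equiv.symm_apply_apply]; exact hp }
  have hspan := Groth.Agent.Lib.H78GlobGen.span_germ_eq_top' J G x
  by_contra hcon
  push Not at hcon
  haveI : IsLocalRing (X.presheaf.stalk x) := inferInstance
  let Φ : J.presheaf.stalk x →ₗ[X.presheaf.stalk x] X.presheaf.stalk x :=
    (stalkEquiv x).symm.toLinearMap.comp (stalkLin i x)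
  have hΦ : ∀ (V : X.Opens) (hxV : x ∈ V) (t : Γ(J, V)),
      Φ (J.presheaf.germ V x hxV t) = X.presheaf.germ V x hxV (fn (i.app V t)) := by
    intro V hxV t
    change (stalkEquiv x).symm (stalkLin i x (J.presheaf.germ V x hxV t)) = _
    rw [stalkLin_germ, LinearEquiv.symm_apply_eq]
    have h1 := germ_toSec V x hxV (fn (i.app V t))
    rw [toSec_fn] at h1
    rw [h1]
    rfl
  have hle : Submodule.map Φ ⊤ ≤ (IsLocalRing.maximalIdeal (X.presheaf.stalk x)).restrictScalars _ := by
    rw [← hspan, Submodule.map_span, Submodule.span_le]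
    rintro _ ⟨_, ⟨k, rfl⟩, rfl⟩
    change Φ (J.presheaf.germ ⊤ x trivial ((G.s k).val (op ⊤))) ∈ IsLocalRing.maximalIdeal _
    rw [hΦ ⊤ trivial, IsLocalRing.mem_maximalIdeal, mem_nonunits_iff, ← Scheme.mem_basicOpen]
    exact hcon _
  have h1 : Φ (J.presheaf.germ U x hxU g) = 1 := by
    rw [hΦ U hxU, hg]
    exact map_one _
  have h2 : (1 : X.presheaf.stalk x) ∈ IsLocalRing.maximalIdeal (X.presheaf.stalk x) := by
    rw [← h1]
    exact hle ⟨_, trivial, rfl⟩
  exact (IsLocalRing.maximalIdeal.isMaximal _).ne_top ((Ideal.eq_top_iff_one _).mpr h2)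

open Groth.Agent.Lib.IdealMod Scheme.IdealSheafData in
/-- A global function coming from the ideal of a closed set `Z` does not vanish only outside `Z`. -/
theorem basicOpen_idealFn_le (Z : Closeds X) (U : X.Opens) (hZ : (Z : Set X) = (U : Set X)ᶜ)
    (σ : Γ(ClSub.idealMod (vanishingIdeal Z), ⊤)) :
    X.basicOpen (idealFn (vanishingIdeal Z) ⊤ σ) ≤ U := by
  intro z hz
  by_contra hzU
  have hzZ : z ∈ (Z : Set X) := by rw [hZ]; exact hzU
  obtain ⟨V, hV, hzV, -⟩ := Opens.isBasis_iff_nbhd.1 X.isBasis_affineOpens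
    (show z ∈ (⊤ : X.Opens) from trivial)
  have h1 : idealFn (vanishingIdeal Z) V ((ClSub.idealMod (vanishingIdeal Z)).presheaf.map
      (homOfLE (le_top : V ≤ ⊤)).op σ) ∈ (vanishingIdeal Z).ideal ⟨V, hV⟩ :=
    idealFn_mem (vanishingIdeal Z) ⟨V, hV⟩ _
  rw [idealFn_map] at h1
  have h2 : z ∈ (vanishingIdeal Z).support := by
    have : ((vanishingIdeal Z).support : Set X) = Z := by simp
    rw [← SetLike.mem_coe, this]
    exact hzZ
  have h3 := (mem_support_iff_of_mem (I := vanishingIdeal Z) (U := ⟨V, hV⟩) hzV).mp h2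
  rw [Scheme.mem_zeroLocus_iff] at h3
  refine h3 _ h1 ?_
  rw [Scheme.basicOpen_res]
  exact ⟨hzV, hz⟩

open Groth.Agent.Lib.IdealMod Scheme.IdealSheafData in
/-- `x` in an affine open `U` with closed complement `Z`; a globally generated module `J` mapping to the
ideal of `Z` and hitting `1` over `U`.  Then some global function `r` has `x ∈ X_r ⊆ U` and `X_r` affine. -/
theorem exists_affine_basicOpen (x : X) (U : X.Opens) (hU : IsAffineOpen U) (hxU : x ∈ U)
    (Z : Closeds X) (hZ : (Z : Set X) = (U : Set X)ᶜ) (J : X.Modules)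
    (j : J ⟶ ClSub.idealMod (vanishingIdeal Z)) (hJ : Curv2.IsGloballyGenerated J) (g : Γ(J, U))
    (hg : idealFn (vanishingIdeal Z) U (j.app U g) = 1) :
    ∃ r : Γ(X, ⊤), IsAffineOpen (X.basicOpen r) ∧ x ∈ X.basicOpen r := by
  obtain ⟨σ, hσ⟩ := exists_mem_basicOpen_of_isGloballyGenerated J
    (j ≫ ClSub.idealModι (vanishingIdeal Z)) hJ x U hxU g (by
      change (ClSub.idealModι (vanishingIdeal Z)).app U (j.app U g) = toSec U 1
      rw [← idealFn_def, hg])
  let r : Γ(X, ⊤) := idealFn (vanishingIdeal Z) ⊤ (j.app ⊤ σ)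
  have hr : x ∈ X.basicOpen r := hσ
  have hle : X.basicOpen r ≤ U := basicOpen_idealFn_le Z U hZ _
  refine ⟨r, ?_, hr⟩
  have h1 : X.basicOpen (X.presheaf.map (homOfLE (le_top : U ≤ ⊤)).op r) = X.basicOpen r := by
    rw [Scheme.basicOpen_res]
    exact inf_eq_right.mpr hle
  rw [← h1]
  exact hU.basicOpen _

/-- the ideal of the complement of an open `U` contains `1` over `U` -/
theorem exists_idealFn_eq_one (U : X.Opens) (hU : IsAffineOpen U) (Z : Closeds X)
    (hZ : (Z : Set X) = (U : Set X)ᶜ) :
    ∃ g : Γ(ClSub.idealMod (Scheme.IdealSheafData.vanishingIdeal Z), U),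
      Groth.Agent.Lib.IdealMod.idealFn (Scheme.IdealSheafData.vanishingIdeal Z) U g = 1 := by
  refine Groth.Agent.Lib.IdealMod.exists_idealFn_eq (Scheme.IdealSheafData.vanishingIdeal Z) ⟨U, hU⟩ ?_
  rw [Scheme.IdealSheafData.vanishingIdeal_ideal, PrimeSpectrum.mem_vanishingIdeal]
  intro y hy
  exfalso
  have h1 : hU.fromSpec y ∈ Set.range hU.fromSpec := Set.mem_range_self y
  rw [hU.range_fromSpec] at h1
  have h2 : hU.fromSpec y ∈ (Z : Set X) := hy
  rw [hZ] at h2
  exact h2 h1

end Groth.Agent.Lib.QAffineGen
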