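import Mathlib.Topology.KrullDimension
import Mathlib.Topology.Irreducible
import Mathlib.Topology.Sober
import Mathlib.AlgebraicGeometry.IdealSheaf.Basic
import Mathlib.AlgebraicGeometry.AffineScheme
import Mathlib.RingTheory.Ideal.MinimalPrime.Localization
import Groth.Prelude.Def_FGA

/-!
# An effective Cartier divisor has dimension `< dim X` (helper13; Mathlib + Prelude only)

* `krullDim_add_one_le` : order lemma.
* `topologicalKrullDim_add_one_le_of_forall_not_subset` : a closed subset containing no irreducible
  component has `dim + 1 ≤ dim` of the space.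
* `not_subset_support_of_isEffCartier` : no irreducible component lies in an effective Cartier divisor.
* `dim_support_add_one_le` : `dim D + 1 ≤ dim X`.
-/

set_option autoImplicit false
universe u
open CategoryTheory AlgebraicGeometry TopologicalSpace Topology Order

namespace Groth.Agent.Lib.EffCartierDim13

theorem krullDim_add_one_le {α β : Type*} [Preorder α] [Preorder β] (g : α → β) (hg : StrictMono g)
    (h : ∀ a, ∃ b, g a < b) : krullDim α + 1 ≤ krullDim β := by
  by_cases hα : IsEmpty α
  · rw [krullDim_eq_bot]; simp
  rw [not_isEmpty_iff] at hα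
  rw [krullDim_eq_iSup_height_of_nonempty]
  have key : ∀ a : α, ((height a + 1 : ℕ∞) : WithBot ℕ∞) ≤ krullDim β := by
    intro a
    obtain ⟨b, hb⟩ := h a
    have h1 : height a ≤ height (g a) := height_le_height_apply_of_strictMono g hg a
    have h2 : height (g a) + 1 ≤ height b := height_add_one_le hb
    have h3 : (height b : WithBot ℕ∞) ≤ krullDim β := height_le_krullDim b
    refine le_trans ?_ h3
    exact_mod_cast (add_le_add_left h1 1).trans h2
  have : (((⨆ a : α, height a) + 1 : ℕ∞) : WithBot ℕ∞) ≤ krullDim β := by
    rw [ENat.iSup_add]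
    by_cases hβ : krullDim β = ⊤
    · rw [hβ]; exact le_top
    · have hne : krullDim β ≠ ⊥ := by
        intro hbot
        have := key (Classical.arbitrary α)
        rw [hbot] at this
        exact absurd this (by simp)
      obtain ⟨N, hN⟩ : ∃ N : ℕ∞, krullDim β = (N : WithBot ℕ∞) := by
        induction hk : krullDim β using WithBot.recBotCoe with
        | bot => exact absurd hk hne
        | coe N => exact ⟨N, rfl⟩
      rw [hN]
      refine WithBot.coe_le_coe.2 (iSup_le fun a => ?_)
      have := key a
      rw [hN] at this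
      exact WithBot.coe_le_coe.1 this
  exact_mod_cast this

variable {T : Type*} [TopologicalSpace T]

/-- A closed subset containing no irreducible component has smaller dimension. -/
theorem topologicalKrullDim_add_one_le_of_forall_not_subset {S : Set T} (hS : IsClosed S)
    (h : ∀ W ∈ irreducibleComponents T, ¬ W ⊆ S) :
    topologicalKrullDim S + 1 ≤ topologicalKrullDim T := by
  have hji : IsInducing (Subtype.val : S → T) := IsInducing.subtypeVal
  let g : IrreducibleCloseds S → IrreducibleCloseds T :=
    IrreducibleCloseds.map Subtype.val continuous_subtype_val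
  have hg : StrictMono g := IrreducibleCloseds.map_strictMono_of_isInducing hji
  refine krullDim_add_one_le g hg fun c => ?_
  have hsub : (g c : Set T) ⊆ S := by
    change closure (Subtype.val '' (c : Set S)) ⊆ S
    refine closure_minimal ?_ hS
    rintro _ ⟨x, -, rfl⟩
    exact x.2
  obtain ⟨W, hW, hcW, hmax⟩ := exists_preirreducible (g c : Set T) (g c).isIrreducible.isPreirreducible
  have hWirr : IsIrreducible W := ⟨(g c).isIrreducible.nonempty.mono hcW, hW⟩
  have hWcomp : W ∈ irreducibleComponents T := by
    refine ⟨hWirr, fun u hu hWu => ?_⟩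
    exact (hmax u hu.isPreirreducible hWu).le
  have hWcl : IsClosed W := isClosed_of_mem_irreducibleComponents W hWcomp
  refine ⟨⟨W, hWirr, hWcl⟩, lt_of_le_of_ne hcW fun heq => ?_⟩
  apply h W hWcomp
  have : (g c : Set T) = W := congrArg (fun z : IrreducibleCloseds T => (z : Set T)) heq
  rw [← this]
  exact hsub

variable {X : Scheme.{u}}

/-- No irreducible component of a scheme is contained in an effective Cartier divisor. -/
theorem not_subset_support_of_isEffCartier {D : X.IdealSheafData} (hD : FGA.IsEffCartier D)
    (W : Set X) (hW : W ∈ irreducibleComponents X) : ¬ W ⊆ (D.support : Set X) := by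
  intro hWD
  have hWcl : IsClosed W := isClosed_of_mem_irreducibleComponents W hW
  obtain ⟨η, hη⟩ := QuasiSober.sober hW.1 hWcl
  -- `η` is a maximal point
  have hmax : ∀ ξ : X, ξ ⤳ η → ξ = η := by
    intro ξ hξ
    have h1 : W ⊆ closure {ξ} := by
      rw [← hη.def]
      exact closure_minimal (Set.singleton_subset_iff.2 hξ.mem_closure) isClosed_closure
    have h2 : closure {ξ} ⊆ W := hW.2 isIrreducible_singleton.closure h1
    have h3 : IsGenericPoint ξ W := by
      rw [isGenericPoint_def]; exact Set.Subset.antisymm h2 h1
    exact h3.eq hη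
  have hηW : η ∈ W := hη.mem
  have hηD : η ∈ D.support := hWD hηW
  obtain ⟨U, hηU, a, ha, hDa⟩ := hD η
  have hz : η ∈ X.zeroLocus (U := U.1) (D.ideal U) ∩ U :=
    ⟨(Scheme.IdealSheafData.mem_support_iff_of_mem hηU).1 hηD, hηU⟩
  rw [← IsAffineOpen.fromSpec_image_zeroLocus U.2] at hz
  obtain ⟨q, hq, hqη⟩ := hz
  have haq : a ∈ q.asIdeal := by
    rw [hDa] at hq
    exact hq (Ideal.subset_span (Set.mem_singleton a))
  -- `q` is a minimal prime
  have hqmin : q.asIdeal ∈ minimalPrimes Γ(X, U.1) := by
    rw [minimalPrimes_eq_minimals]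
    refine (show Minimal Ideal.IsPrime q.asIdeal from ⟨q.2, fun p hp hpq => ?_⟩)
    let q' : PrimeSpectrum Γ(X, U.1) := ⟨p, hp⟩
    have hs : q' ⤳ q := (PrimeSpectrum.le_iff_specializes q' q).1 hpq
    have hs' : U.2.fromSpec q' ⤳ U.2.fromSpec q := hs.map U.2.fromSpec.continuous
    rw [hqη] at hs'
    have heq : U.2.fromSpec q' = U.2.fromSpec q := (hmax _ hs').trans hqη.symm
    have : q' = q := U.2.fromSpec.isOpenEmbedding.injective heq
    exact le_of_eq (congrArg PrimeSpectrum.asIdeal this).symm
  exact (Set.disjoint_left.1 (Ideal.disjoint_nonZeroDivisors_of_mem_minimalPrimes hqmin)) haq ha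

/-- **Dimension of an effective Cartier divisor**: `dim D + 1 ≤ dim X`. -/
theorem dim_support_add_one_le {D : X.IdealSheafData} (hD : FGA.IsEffCartier D) :
    topologicalKrullDim (D.support : Set X) + 1 ≤ topologicalKrullDim X :=
  topologicalKrullDim_add_one_le_of_forall_not_subset D.support.isClosed
    (not_subset_support_of_isEffCartier hD)

/-- `dim X = e + 1` ⇒ `dim D ≤ e`. -/
theorem dim_support_le {D : X.IdealSheafData} (hD : FGA.IsEffCartier D) (e : ℕ)
    (hX : topologicalKrullDim X ≤ ((e + 1 : ℕ) : WithBot ℕ∞)) :
    topologicalKrullDim (D.support : Set X) ≤ (e : WithBot ℕ∞) := by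
  have h := (dim_support_add_one_le hD).trans hX
  induction hk : topologicalKrullDim (D.support : Set X) using WithBot.recBotCoe with
  | bot => exact bot_le
  | coe N =>
    rw [hk] at h
    have h' : N + 1 ≤ ((e + 1 : ℕ) : ℕ∞) := by exact_mod_cast h
    have : N ≤ (e : ℕ∞) := by
      push_cast at h'
      exact (ENat.add_le_add_iff_right ENat.one_ne_top).1 h'
    exact_mod_cast this

end Groth.Agent.Lib.EffCartierDim13
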