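/-
helper90: closed immersions and the unit `G ⟶ i_* i^* G`.
* `bijective_of_isBaseChange_of_surjective`: a base change map along a surjective ring map `R → S` whose kernel
  kills `M` is bijective.
* `isIso_unit_iff`: for a closed immersion `i` and quasi-coherent `G`, the unit `G ⟶ i_* i^* G` is an isomorphism iff
  the ideal sheaf of `i` kills `G` on affine opens.
-/
import Mathlib
import Groth.Agent.Lib.UnitBaseChange
import Groth.Agent.Lib.H90OXModPush
import Groth.Agent.Lib.H90OXModAffineIso

set_option autoImplicit false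
set_option linter.style.haveILetI false
universe u
open CategoryTheory AlgebraicGeometry TopologicalSpace Opposite TensorProduct

namespace Groth.Agent.Lib.H90ClosedUnit

section Alg
variable {R S M N : Type*} [CommRing R] [CommRing S] [Algebra R S]
  [AddCommGroup M] [Module R M] [AddCommGroup N] [Module R N] [Module S N] [IsScalarTower R S N]

theorem surjective_of_isBaseChange_of_surjective (f : M →ₗ[R] N) (hf : IsBaseChange S f)
    (hS : Function.Surjective (algebraMap R S)) : Function.Surjective f := by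
  intro n
  induction n using hf.inductionOn with
  | zero => exact ⟨0, map_zero f⟩
  | tmul m => exact ⟨m, rfl⟩
  | smul s n ih =>
    obtain ⟨m, rfl⟩ := ih
    obtain ⟨r, rfl⟩ := hS s
    exact ⟨r • m, by rw [map_smul, algebraMap_smul]⟩
  | add n₁ n₂ h₁ h₂ =>
    obtain ⟨m₁, rfl⟩ := h₁
    obtain ⟨m₂, rfl⟩ := h₂
    exact ⟨m₁ + m₂, map_add f _ _⟩

theorem injective_of_isBaseChange_of_surjective (f : M →ₗ[R] N) (hf : IsBaseChange S f)
    (hS : Function.Surjective (algebraMap R S))
    (hM : ∀ a : R, algebraMap R S a = 0 → ∀ m : M, a • m = 0) : Function.Injective f := by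
  let K := LinearMap.ker (Algebra.linearMap R S)
  let q : (R ⧸ K) ≃ₗ[R] S := LinearMap.quotKerEquivOfSurjective (Algebra.linearMap R S) hS
  let B0 : (R ⧸ K) →ₗ[R] (M →ₗ[R] M) :=
    K.liftQ (LinearMap.lsmul R M) (fun a ha => by
      ext m
      exact hM a ha m)
  let B : S →ₗ[R] M →ₗ[R] M := B0 ∘ₗ q.symm.toLinearMap
  have hq : q.symm 1 = Submodule.Quotient.mk 1 := by
    rw [LinearEquiv.symm_apply_eq]
    change (1 : S) = (Algebra.linearMap R S) 1
    simp
  have hB : ∀ m, B 1 m = m := by
    intro m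
    change B0 (q.symm 1) m = m
    rw [hq]
    change (LinearMap.lsmul R M) 1 m = m
    simp
  let ψ : S ⊗[R] M →ₗ[R] M := TensorProduct.lift B
  rw [injective_iff_map_eq_zero]
  intro m hm
  have h1 : hf.equiv ((1 : S) ⊗ₜ[R] m) = 0 := by
    rw [IsBaseChange.equiv_tmul, one_smul, hm]
  have h2 : (1 : S) ⊗ₜ[R] m = 0 := by
    rwa [LinearEquiv.map_eq_zero_iff] at h1
  have h3 := congrArg ψ h2
  rw [map_zero] at h3
  rw [← h3]
  change m = B 1 m
  exact (hB m).symm

theorem bijective_of_isBaseChange_of_surjective (f : M →ₗ[R] N) (hf : IsBaseChange S f)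
    (hS : Function.Surjective (algebraMap R S))
    (hM : ∀ a : R, algebraMap R S a = 0 → ∀ m : M, a • m = 0) : Function.Bijective f :=
  ⟨injective_of_isBaseChange_of_surjective f hf hS hM,
    surjective_of_isBaseChange_of_surjective f hf hS⟩

end Alg

section Sch
open AlgebraicGeometry.Scheme.Modules Groth.Agent.Lib.UnitBaseChange

variable {Z X : Scheme.{u}} (i : Z ⟶ X) [IsClosedImmersion i]

instance isQuasicoherent_pushPull (G : X.Modules) [G.IsQuasicoherent] :
    ((pushforward i).obj ((pullback i).obj G)).IsQuasicoherent :=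
  Groth.Agent.Lib.H90OXModPush.isQuasicoherent_pushforward i _

set_option backward.isDefEq.respectTransparency false in
theorem smul_eq_zero_of_isIso_unit (G : X.Modules)
    (h : IsIso ((pullbackPushforwardAdjunction i).unit.app G))
    (U : X.affineOpens) (a : Γ(X, U.1)) (ha : a ∈ i.ker.ideal U) (s : Γ(G, U.1)) : a • s = 0 := by
  have hb : Function.Bijective (((pullbackPushforwardAdjunction i).unit.app G).app U.1) := by
    have : IsIso (((pullbackPushforwardAdjunction i).unit.app G).app U.1) := inferInstance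
    exact (ConcreteCategory.isIso_iff_bijective _).mp this
  apply hb.1
  rw [Scheme.Modules.Hom.app_smul]
  rw [Scheme.Hom.ker_apply] at ha
  let x : Γ((pullback i).obj G, i ⁻¹ᵁ U.1) := ((pullbackPushforwardAdjunction i).unit.app G).app U.1 s
  change (i.app U.1).hom a • x = _
  rw [(RingHom.mem_ker).mp ha, zero_smul]
  exact (map_zero (((pullbackPushforwardAdjunction i).unit.app G).app U.1).hom).symm

omit [IsClosedImmersion i] in
theorem appLE_self_eq (U : X.Opens) (a : Γ(X, U)) :
    (i.appLE U (i ⁻¹ᵁ U) le_rfl).hom a = (i.app U).hom a := by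
  rw [Scheme.Hom.app_eq_appLE]

set_option backward.isDefEq.respectTransparency false in
theorem bijective_unit_app (G : X.Modules) [G.IsQuasicoherent] (U : X.affineOpens)
    (h : ∀ (a : Γ(X, U.1)), a ∈ i.ker.ideal U → ∀ s : Γ(G, U.1), a • s = 0) :
    Function.Bijective (((pullbackPushforwardAdjunction i).unit.app G).app U.1) := by
  have hU' : IsAffineOpen (i ⁻¹ᵁ U.1) := U.2.preimage i
  have hbc := isBaseChange_unitSec i G hU' U.2 le_rfl
  letI : Algebra Γ(X, U.1) Γ(Z, i ⁻¹ᵁ U.1) := (i.appLE U.1 (i ⁻¹ᵁ U.1) le_rfl).hom.toAlgebra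
  letI : Module Γ(X, U.1) Γ((pullback i).obj G, i ⁻¹ᵁ U.1) :=
    Module.compHom _ (i.appLE U.1 (i ⁻¹ᵁ U.1) le_rfl).hom
  haveI : IsScalarTower Γ(X, U.1) Γ(Z, i ⁻¹ᵁ U.1) Γ((pullback i).obj G, i ⁻¹ᵁ U.1) :=
    .of_algebraMap_smul fun _ _ => rfl
  have hS : Function.Surjective (algebraMap Γ(X, U.1) Γ(Z, i ⁻¹ᵁ U.1)) := by
    intro b
    obtain ⟨a, ha⟩ := i.app_surjective U.1 U.2 b
    exact ⟨a, (appLE_self_eq i U.1 a).trans ha⟩
  have hM : ∀ a : Γ(X, U.1), algebraMap Γ(X, U.1) Γ(Z, i ⁻¹ᵁ U.1) a = 0 →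
      ∀ m : Γ(G, U.1), a • m = 0 := by
    intro a ha m
    apply h a _ m
    rw [Scheme.Hom.ker_apply, RingHom.mem_ker]
    exact (appLE_self_eq i U.1 a).symm.trans ha
  have hb := bijective_of_isBaseChange_of_surjective (unitSec i G le_rfl) hbc hS hM
  have hfun : ∀ m, unitSec i G (le_refl (i ⁻¹ᵁ U.1)) m =
      ((pullbackPushforwardAdjunction i).unit.app G).app U.1 m := by
    intro m
    rw [unitSec_apply]
    have : (homOfLE (le_refl (i ⁻¹ᵁ U.1))).op = 𝟙 _ := rfl
    rw [this, CategoryTheory.Functor.map_id]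
    rfl
  constructor
  · intro m₁ m₂ hm
    apply hb.1
    rw [hfun, hfun]
    exact hm
  · intro n
    obtain ⟨m, hm⟩ := hb.2 n
    exact ⟨m, (hfun m).symm.trans hm⟩

/-- For a closed immersion `i` and quasi-coherent `G`, the unit `G ⟶ i_* i^* G` is an isomorphism iff the ideal sheaf
of `i` kills `G` on every affine open. -/
theorem isIso_unit_iff (G : X.Modules) [G.IsQuasicoherent] :
    IsIso ((pullbackPushforwardAdjunction i).unit.app G) ↔
      ∀ (U : X.affineOpens) (a : Γ(X, U.1)), a ∈ i.ker.ideal U → ∀ s : Γ(G, U.1), a • s = 0 := by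
  constructor
  · intro h U a ha s
    exact smul_eq_zero_of_isIso_unit i G h U a ha s
  · intro h
    haveI : ((𝟭 X.Modules).obj G).IsQuasicoherent := ‹G.IsQuasicoherent›
    haveI : ((pullback i ⋙ pushforward i).obj G).IsQuasicoherent := isQuasicoherent_pushPull i G
    rw [Groth.Agent.Lib.H90OXModAffineIso.isIso_iff_forall_affine]
    intro U
    exact bijective_unit_app i G U (h U)

end Sch

end Groth.Agent.Lib.H90ClosedUnit
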