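import Groth.Agent.Lib.H90SubShTilde

/-!
# Extending a finite type quasi-coherent sub-module over one more affine open (helper90)
-/

set_option autoImplicit false
universe u

open CategoryTheory CategoryTheory.Limits AlgebraicGeometry TopologicalSpace Opposite
open AlgebraicGeometry.Scheme AlgebraicGeometry.Scheme.Modules

namespace Groth.Agent.Lib.H90SubSh

open Groth.Agent.Lib.QCohStalk Groth.Agent.Lib.AssPush Groth.Agent.Lib.H90OXModQcqs
  Groth.Agent.Lib.H90OXModSections Groth.Agent.Lib.H90OXModExt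

variable {X : Scheme.{u}} {F : X.Modules}

namespace SubSh

/-- `D` is a good open for `T`: it is affine, and `T` is localizing and finitely generated on it. -/
def Good (T : SubSh F) (D : X.Opens) : Prop :=
  IsAffineOpen D ∧ T.IsQCohOn D ∧ (T.obj D).FG

theorem IsQCohOn.congr {T₁ T₂ : SubSh F} {D : X.Opens}
    (h : ∀ V' : X.Opens, V' ≤ D → T₁.obj V' = T₂.obj V') (h1 : T₁.IsQCohOn D) : T₂.IsQCohOn D := by
  intro f t ht
  rw [← h _ (X.basicOpen_le f)] at ht
  obtain ⟨n, s, hs, e⟩ := h1 f t ht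
  exact ⟨n, s, by rwa [← h _ le_rfl], e⟩

theorem Good.congr {T₁ T₂ : SubSh F} {D : X.Opens}
    (h : ∀ V' : X.Opens, V' ≤ D → T₁.obj V' = T₂.obj V') (h1 : T₁.Good D) : T₂.Good D :=
  ⟨h1.1, h1.2.1.congr h, by rw [← h _ le_rfl]; exact h1.2.2⟩

theorem sat_eq_self_of_le {T : SubSh F} {W W' : X.Opens} (hsat : T.sat W = T) (h : W ≤ W') :
    T.sat W' = T := by
  ext V s
  rw [mem_sat_iff]
  constructor
  · intro hs
    rw [← hsat, mem_sat_iff] at hs ⊢
    have hle : V ⊓ W ≤ V ⊓ W' ⊓ W := le_inf (inf_le_inf_left V h) inf_le_right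
    have := T.res_mem hle hs
    rwa [res_res, res_res] at this
  · intro hs
    exact T.res_mem _ hs

theorem sat_inf (T₁ T₂ : SubSh F) (W : X.Opens) : (T₁.inf T₂).sat W = (T₁.sat W).inf (T₂.sat W) := by
  ext V s
  rfl

theorem inf_obj (T₁ T₂ : SubSh F) (V : X.Opens) : (T₁.inf T₂).obj V = T₁.obj V ⊓ T₂.obj V := rfl

set_option backward.isDefEq.respectTransparency false in
/-- EXTENSION STEP. -/
theorem exists_extension_step [F.IsQuasicoherent] (T : SubSh F) (W V : X.Opens)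
    (hV : IsAffineOpen V) (hsat : T.sat W = T)
    (hcomp : IsCompact ((V ⊓ W : X.Opens) : Set X))
    (hgood : ∀ x ∈ V ⊓ W, ∃ g : Γ(X, V), x ∈ X.basicOpen g ∧ X.basicOpen g ≤ W ∧
      T.Good (X.basicOpen g)) :
    ∃ T' : SubSh F, T'.sat (W ⊔ V) = T' ∧ (∀ V' : X.Opens, V' ≤ W → T'.obj V' = T.obj V') ∧
      (∀ g : Γ(X, V), T'.Good (X.basicOpen g)) := by
  classical
  -- a finite cover of `V ⊓ W` by good basic opens
  choose g hxg hgW hgg using hgood
  obtain ⟨K, hK⟩ := hcomp.elim_nhds_subcover' (fun x hx => (X.basicOpen (g x hx) : Set X))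
    (fun x hx => (X.basicOpen (g x hx)).2.mem_nhds (hxg x hx))
  let D : K → X.Opens := fun k => X.basicOpen (g k.1.1 k.1.2)
  have hDV : ∀ k, D k ≤ V := fun k => X.basicOpen_le _
  have hDW : ∀ k, D k ≤ W := fun k => hgW _ _
  have hDle : ∀ k, D k ≤ V ⊓ W := fun k => le_inf (hDV k) (hDW k)
  have hDcov : V ⊓ W ≤ ⨆ k, D k := by
    intro x hx
    obtain ⟨k, hk, hxk⟩ := Set.mem_iUnion₂.mp (hK hx)
    exact Opens.mem_iSup.mpr ⟨⟨k, hk⟩, hxk⟩
  have hDgood : ∀ k, T.Good (D k) := fun k => hgg _ _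
  -- `T` is localizing on `V`
  have hTV : T.IsQCohOn V := by
    have := isQCohOn_sat T W hV D (fun k => (hDgood k).1) hDle hDcov (fun k => (hDgood k).2.1)
    rwa [hsat] at this
  -- generators
  have hgen : ∀ (k : K) (t : Γ(F, D k)), ∃ (n : ℕ) (s : Γ(F, V)), t ∈ T.obj (D k) →
      s ∈ T.obj V ∧ resO X (hDV k) (g k.1.1 k.1.2) ^ n • t = res F (hDV k) s := by
    intro k t
    by_cases ht : t ∈ T.obj (D k)
    · obtain ⟨n, s, hs, e⟩ := hTV (g k.1.1 k.1.2) t ht
      exact ⟨n, s, fun _ => ⟨hs, e⟩⟩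
    · exact ⟨0, 0, fun h => (ht h).elim⟩
  choose n s hs using hgen
  choose S₀ hS₀ using fun k => (hDgood k).2.2
  let N : Submodule Γ(X, V) Γ(F, V) :=
    Submodule.span Γ(X, V) (⋃ k : K, (s k) '' (S₀ k : Set Γ(F, D k)))
  have hNfg : N.FG := Submodule.fg_span (Set.finite_iUnion fun k => (S₀ k).finite_toSet.image _)
  have hS₀T : ∀ k, ∀ t ∈ S₀ k, t ∈ T.obj (D k) := fun k t ht => by
    rw [← hS₀ k]; exact Submodule.subset_span ht
  have hNT : N ≤ T.obj V := by
    apply Submodule.span_le.mpr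
    intro m hm
    obtain ⟨k, t, ht, rfl⟩ := Set.mem_iUnion.mp hm
    exact (hs k t (hS₀T k t ht)).1
  have hspan : ∀ k, spanRes N (hDV k) = T.obj (D k) := by
    intro k
    apply le_antisymm
    · apply Submodule.span_le.mpr
      rintro _ ⟨m, hm, rfl⟩
      exact T.res_mem _ (hNT hm)
    · rw [← hS₀ k]
      apply Submodule.span_le.mpr
      intro t ht
      obtain ⟨u, hu⟩ : ∃ u : Γ(X, D k), u * resO X (hDV k) (g k.1.1 k.1.2) = 1 :=
        (Groth.Agent.Lib.AffVanSections.isUnit_resO_basicOpen (g k.1.1 k.1.2)).exists_left_inv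
      have e := (hs k t (hS₀T k t ht)).2
      have e' : t = u ^ (n k t) • res F (hDV k) (s k t) := by
        rw [← e, smul_smul, ← mul_pow, hu, one_pow, one_smul]
      rw [e']
      refine Submodule.smul_mem _ _ (res_mem_spanRes N _ ?_)
      exact Submodule.subset_span (Set.mem_iUnion.mpr ⟨k, t, ht, rfl⟩)
  -- the new sub-module
  have hgenT : ∀ V' : X.Opens, V' ≤ V → (gen N).obj V' ≤ T.obj V' := fun V' h =>
    gen_obj_le N T hNT h
  have hTgen : ∀ V' : X.Opens, V' ≤ W → T.obj V' ≤ (gen N).obj V' := by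
    intro V' hV' s' hs'
    rw [← sat_gen N, mem_sat_iff]
    apply (gen N).mem_of_local
    intro x hx
    have hxVW : x ∈ V ⊓ W := ⟨hx.2, hV' hx.1⟩
    obtain ⟨k, hxk⟩ := Opens.mem_iSup.mp (hDcov hxVW)
    refine ⟨V' ⊓ V ⊓ D k, inf_le_left, ⟨hx, hxk⟩, ?_⟩
    have heq := obj_eq_of_obj_eq (gen N) T (hDgood k).1 (isQCohOn_gen_basicOpen hV N _)
      (hDgood k).2.1 ((gen_obj_basicOpen hV N _).trans (hspan k))
      (inf_le_right : V' ⊓ V ⊓ D k ≤ D k)
    rw [heq, res_res]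
    exact T.res_mem _ hs'
  refine ⟨(gen N).inf T, ?_, ?_, ?_⟩
  · rw [sat_inf, sat_eq_self_of_le (sat_gen N) le_sup_right, sat_eq_self_of_le hsat le_sup_left]
  · intro V' hV'
    rw [inf_obj]
    exact inf_eq_right.mpr (hTgen V' hV')
  · intro g'
    have hcongr : ∀ V' : X.Opens, V' ≤ X.basicOpen g' → (gen N).obj V' = ((gen N).inf T).obj V' := by
      intro V' hV'
      rw [inf_obj]
      exact (inf_eq_left.mpr (hgenT V' (hV'.trans (X.basicOpen_le g')))).symm
    refine Good.congr hcongr ⟨hV.basicOpen g', isQCohOn_gen_basicOpen hV N g', ?_⟩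
    rw [gen_obj_basicOpen hV N g']
    exact spanRes_fg N hNfg _

end SubSh

end Groth.Agent.Lib.H90SubSh
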