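import Groth.Agent.Lib.H90SubShSat

/-!
# The sub-module generated by a module of sections over an affine open (helper90)
-/

set_option autoImplicit false
universe u

open CategoryTheory CategoryTheory.Limits AlgebraicGeometry TopologicalSpace Opposite
open AlgebraicGeometry.Scheme AlgebraicGeometry.Scheme.Modules

namespace Groth.Agent.Lib.H90SubSh

open Groth.Agent.Lib.QCohStalk Groth.Agent.Lib.AssPush Groth.Agent.Lib.H90OXModQcqs
  Groth.Agent.Lib.H90OXModSections Groth.Agent.Lib.H90OXModExt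

variable {X : Scheme.{u}} {F : X.Modules}

namespace SubSh

/-- The `Γ(X, V')`-span of the restrictions to `V' ≤ V` of the elements of `N ⊆ Γ(F, V)`. -/
noncomputable def spanRes {V : X.Opens} (N : Submodule Γ(X, V) Γ(F, V)) {V' : X.Opens}
    (h : V' ≤ V) : Submodule Γ(X, V') Γ(F, V') :=
  Submodule.span Γ(X, V') (res F h '' (N : Set Γ(F, V)))

theorem res_mem_spanRes {V : X.Opens} (N : Submodule Γ(X, V) Γ(F, V)) {V' : X.Opens}
    (h : V' ≤ V) {m : Γ(F, V)} (hm : m ∈ N) : res F h m ∈ spanRes N h :=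
  Submodule.subset_span ⟨m, hm, rfl⟩

theorem res_spanRes {V : X.Opens} (N : Submodule Γ(X, V) Γ(F, V)) {V'' V' : X.Opens}
    (h' : V'' ≤ V') (h : V' ≤ V) {y : Γ(F, V')} (hy : y ∈ spanRes N h) :
    res F h' y ∈ spanRes N (h'.trans h) := by
  induction hy using Submodule.span_induction with
  | mem x hx =>
    obtain ⟨m, hm, rfl⟩ := hx
    rw [res_res]
    exact res_mem_spanRes N _ hm
  | zero => rw [res_zero]; exact Submodule.zero_mem _
  | add x y _ _ hx hy =>
    rw [Groth.Agent.Lib.AffVanSections.res_add]; exact Submodule.add_mem _ hx hy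
  | smul a x _ hx => rw [res_smul]; exact Submodule.smul_mem _ _ hx

/-- The sub-module of `F` generated over `V` by `N ⊆ Γ(F, V)` (and saturated with respect to `V`). -/
noncomputable def gen {V : X.Opens} (N : Submodule Γ(X, V) Γ(F, V)) : SubSh F where
  obj V' :=
    { carrier := {s | ∀ x ∈ V' ⊓ V, ∃ (V'' : X.Opens) (h1 : V'' ≤ V') (h2 : V'' ≤ V), x ∈ V'' ∧
        res F h1 s ∈ spanRes N h2}
      add_mem' := fun {a b} ha hb x hx => by
        obtain ⟨V₁, h1, h2, hx1, ha'⟩ := ha x hx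
        obtain ⟨V₂, h1', h2', hx2, hb'⟩ := hb x hx
        refine ⟨V₁ ⊓ V₂, inf_le_left.trans h1, inf_le_left.trans h2, ⟨hx1, hx2⟩, ?_⟩
        rw [Groth.Agent.Lib.AffVanSections.res_add]
        refine Submodule.add_mem _ ?_ ?_
        · have := res_spanRes N (inf_le_left : V₁ ⊓ V₂ ≤ V₁) h2 ha'
          rwa [res_res] at this
        · have := res_spanRes N (inf_le_right : V₁ ⊓ V₂ ≤ V₂) h2' hb'
          rwa [res_res] at this
      zero_mem' := fun x hx => ⟨V' ⊓ V, inf_le_left, inf_le_right, hx, by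
        rw [res_zero]; exact Submodule.zero_mem _⟩
      smul_mem' := fun c {a} ha x hx => by
        obtain ⟨V₁, h1, h2, hx1, ha'⟩ := ha x hx
        refine ⟨V₁, h1, h2, hx1, ?_⟩
        rw [res_smul]
        exact Submodule.smul_mem _ _ ha' }
  res_mem := fun {V₁ V'} h {s} hs x hx => by
    obtain ⟨V₂, h1, h2, hx2, hs'⟩ := hs x ⟨h hx.1, hx.2⟩
    refine ⟨V₂ ⊓ V₁, inf_le_right, inf_le_left.trans h2, ⟨hx2, hx.1⟩, ?_⟩
    rw [res_res]
    have := res_spanRes N (inf_le_left : V₂ ⊓ V₁ ≤ V₂) h2 hs'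
    rwa [res_res] at this
  mem_of_local := fun V' s hs x hx => by
    obtain ⟨V₁, h, hx1, hs'⟩ := hs x hx.1
    obtain ⟨V₂, h1, h2, hx2, hs''⟩ := hs' x ⟨hx1, hx.2⟩
    refine ⟨V₂, h1.trans h, h2, hx2, ?_⟩
    rwa [res_res] at hs''

theorem mem_gen_iff {V : X.Opens} (N : Submodule Γ(X, V) Γ(F, V)) (V' : X.Opens) (s : Γ(F, V')) :
    s ∈ (gen N).obj V' ↔ ∀ x ∈ V' ⊓ V, ∃ (V'' : X.Opens) (h1 : V'' ≤ V') (h2 : V'' ≤ V), x ∈ V'' ∧
        res F h1 s ∈ spanRes N h2 := Iff.rfl

theorem spanRes_le_gen {V : X.Opens} (N : Submodule Γ(X, V) Γ(F, V)) {V' : X.Opens} (h : V' ≤ V) :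
    spanRes N h ≤ (gen N).obj V' := by
  intro s hs x hx
  exact ⟨V', le_rfl, h, hx.1, by rwa [res_self]⟩

theorem le_gen {V : X.Opens} (N : Submodule Γ(X, V) Γ(F, V)) : N ≤ (gen N).obj V := by
  intro m hm
  apply spanRes_le_gen N le_rfl
  have := res_mem_spanRes N (le_refl V) hm
  rwa [res_self] at this

/-- `gen N` is saturated with respect to `V`. -/
theorem sat_gen {V : X.Opens} (N : Submodule Γ(X, V) Γ(F, V)) : (gen N).sat V = gen N := by
  ext V' s
  rw [mem_sat_iff]
  constructor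
  · intro hs x hx
    obtain ⟨V₂, h1, h2, hx2, hs'⟩ := hs x ⟨hx, hx.2⟩
    refine ⟨V₂, h1.trans inf_le_left, h2, hx2, ?_⟩
    rwa [res_res] at hs'
  · intro hs
    exact (gen N).res_mem _ hs

/-- If `T` is a sub-module with `N ⊆ T(V)` then `gen N ≤ T` on opens contained in `V`. -/
theorem gen_obj_le {V : X.Opens} (N : Submodule Γ(X, V) Γ(F, V)) (T : SubSh F) (hN : N ≤ T.obj V)
    {V' : X.Opens} (h : V' ≤ V) : (gen N).obj V' ≤ T.obj V' := by
  intro s hs
  apply T.mem_of_local
  intro x hx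
  obtain ⟨V₂, h1, h2, hx2, hs'⟩ := hs x ⟨hx, h hx⟩
  refine ⟨V₂, h1, hx2, ?_⟩
  have hle : spanRes N h2 ≤ T.obj V₂ := by
    apply Submodule.span_le.mpr
    rintro _ ⟨m, hm, rfl⟩
    exact T.res_mem h2 (hN hm)
  exact hle hs'

/-- Functions on `D(h)` are fractions. -/
theorem exists_pow_mul_eq_resO {V : X.Opens} (hV : IsAffineOpen V) (h : Γ(X, V))
    (c : Γ(X, X.basicOpen h)) :
    ∃ (j : ℕ) (c' : Γ(X, V)), resO X (X.basicOpen_le h) h ^ j * c = resO X (X.basicOpen_le h) c' := by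
  haveI := hV.isLocalization_basicOpen h
  obtain ⟨⟨c', ⟨_, j, rfl⟩⟩, hc⟩ := IsLocalization.surj (Submonoid.powers h) c
  refine ⟨j, c', ?_⟩
  rw [mul_comm, ← resO_pow]
  exact hc

set_option backward.isDefEq.respectTransparency false in
theorem exists_pow_smul_of_mem_spanRes {V : X.Opens} (hV : IsAffineOpen V)
    (N : Submodule Γ(X, V) Γ(F, V)) (h : Γ(X, V)) {y : Γ(F, X.basicOpen h)}
    (hy : y ∈ spanRes N (X.basicOpen_le h)) :
    ∃ (k : ℕ) (m : Γ(F, V)), m ∈ N ∧
      resO X (X.basicOpen_le h) h ^ k • y = res F (X.basicOpen_le h) m := by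
  induction hy using Submodule.span_induction with
  | mem x hx =>
    obtain ⟨m, hm, rfl⟩ := hx
    exact ⟨0, m, hm, by rw [pow_zero, one_smul]⟩
  | zero => exact ⟨0, 0, N.zero_mem, by rw [smul_zero, res_zero]⟩
  | add x y _ _ hx hy =>
    obtain ⟨k1, m1, hm1, e1⟩ := hx
    obtain ⟨k2, m2, hm2, e2⟩ := hy
    refine ⟨k1 + k2, h ^ k2 • m1 + h ^ k1 • m2,
      N.add_mem (N.smul_mem _ hm1) (N.smul_mem _ hm2), ?_⟩
    rw [smul_add, Groth.Agent.Lib.AffVanSections.res_add, res_smul, res_smul, ← e1, ← e2,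
      resO_pow, resO_pow, smul_smul, smul_smul, ← pow_add, ← pow_add, add_comm k2 k1]
  | smul c x _ hx =>
    obtain ⟨k, m, hm, e⟩ := hx
    obtain ⟨j, c', hc⟩ := exists_pow_mul_eq_resO hV h c
    refine ⟨j + k, c' • m, N.smul_mem _ hm, ?_⟩
    rw [res_smul, ← e, ← hc, smul_smul, smul_smul, pow_add]
    congr 1
    ring

lemma resO_zero' (X : Scheme.{u}) {V U : X.Opens} (h : V ≤ U) : resO X h (0 : Γ(X, U)) = 0 :=
  map_zero (X.presheaf.map (homOfLE h).op).hom

set_option backward.isDefEq.respectTransparency false in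
/-- LEMMA C: sections of `gen N` over `D(f)` are fractions `m / f ^ n` with `m ∈ N`. -/
theorem exists_pow_smul_of_mem_gen {V : X.Opens} (hV : IsAffineOpen V) [F.IsQuasicoherent]
    (N : Submodule Γ(X, V) Γ(F, V)) (f : Γ(X, V)) {t : Γ(F, X.basicOpen f)}
    (ht : t ∈ (gen N).obj (X.basicOpen f)) :
    ∃ (n : ℕ) (m : Γ(F, V)), m ∈ N ∧
      resO X (X.basicOpen_le f) f ^ n • t = res F (X.basicOpen_le f) m := by
  let I : Ideal Γ(X, V) :=
    { carrier := {a | ∃ m ∈ N, resO X (X.basicOpen_le f) a • t = res F (X.basicOpen_le f) m}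
      add_mem' := by
        rintro a b ⟨m1, hm1, e1⟩ ⟨m2, hm2, e2⟩
        exact ⟨m1 + m2, N.add_mem hm1 hm2, by
          rw [Groth.Agent.Lib.AffVanSections.resO_add, add_smul, e1, e2,
            Groth.Agent.Lib.AffVanSections.res_add]⟩
      zero_mem' := ⟨0, N.zero_mem, by rw [resO_zero', zero_smul, res_zero]⟩
      smul_mem' := by
        rintro c a ⟨m, hm, e⟩
        exact ⟨c • m, N.smul_mem _ hm, by
          rw [smul_eq_mul, Groth.Agent.Lib.AffVanSections.resO_mul, mul_smul, e, res_smul]⟩ }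
  have key : ∀ x ∈ X.basicOpen f, ∃ a ∈ I, x ∈ X.basicOpen a := by
    intro x hx
    obtain ⟨V'', h1, h2, hxV'', hs⟩ := ht x ⟨hx, X.basicOpen_le f hx⟩
    obtain ⟨h, hhV'', hxh⟩ := hV.exists_basicOpen_le ⟨x, hxV''⟩ (X.basicOpen_le f hx)
    have hy : res F (hhV''.trans h1) t ∈ spanRes N (X.basicOpen_le h) := by
      have := res_spanRes N hhV'' h2 hs
      rwa [res_res] at this
    obtain ⟨k, m, hm, e⟩ := exists_pow_smul_of_mem_spanRes hV N h hy
    -- the difference vanishes on `D(h)`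
    set ρh := resO X (X.basicOpen_le f) h with hρh
    have hD : X.basicOpen ρh = X.basicOpen f ⊓ X.basicOpen h := basicOpen_resO _ h
    have hDh : X.basicOpen ρh ≤ X.basicOpen h := hD.le.trans inf_le_right
    let d := ρh ^ k • t - res F (X.basicOpen_le f) m
    have hd : res F (X.basicOpen_le ρh) d = 0 := by
      change res F (X.basicOpen_le ρh) (ρh ^ k • t - res F (X.basicOpen_le f) m) = 0
      have e' := congrArg (res F hDh) e
      rw [res_smul, res_res, res_res, resO_pow, resO_resO] at e'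
      rw [res_sub, res_smul, res_res, resO_pow, hρh, resO_resO, sub_eq_zero]
      exact e'
    obtain ⟨q, hq⟩ := exists_pow_smul_eq_zero F (hV.basicOpen f) ρh d hd
    refine ⟨h ^ (q + k + 1), ⟨h ^ (q + 1) • m, N.smul_mem _ hm, ?_⟩, ?_⟩
    · have hq' : ρh ^ q • (ρh ^ k • t - res F (X.basicOpen_le f) m) = 0 := hq
      rw [smul_sub, sub_eq_zero, smul_smul, ← pow_add] at hq'
      rw [resO_pow, ← hρh, res_smul, resO_pow, ← hρh, show q + k + 1 = 1 + (q + k) by ring,
        pow_add, mul_smul, hq', smul_smul, ← pow_add, add_comm 1 q]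
    · rw [X.basicOpen_pow h (Nat.succ_pos (q + k))]
      exact hxh
  -- `f` lies in the radical of `I`
  have hcov : X.basicOpen f ≤
      ⨆ g : (resO X (X.basicOpen_le f) '' (I : Set Γ(X, V)) : Set Γ(X, X.basicOpen f)),
        X.basicOpen g.1 := by
    intro x hx
    obtain ⟨a, ha, hxa⟩ := key x hx
    refine Opens.mem_iSup.mpr ⟨⟨resO X (X.basicOpen_le f) a, a, ha, rfl⟩, ?_⟩
    rw [basicOpen_resO]
    exact ⟨hx, hxa⟩
  have hspan := (hV.basicOpen f).self_le_iSup_basicOpen_iff.mp hcov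
  haveI := hV.isLocalization_basicOpen f
  have hmap : I.map (algebraMap Γ(X, V) Γ(X, X.basicOpen f)) = ⊤ := hspan
  have hnd : ¬ Disjoint (Submonoid.powers f : Set Γ(X, V)) (I : Set Γ(X, V)) := by
    intro hdis
    exact (IsLocalization.map_algebraMap_ne_top_iff_disjoint (Submonoid.powers f)
      Γ(X, X.basicOpen f) I).mpr hdis hmap
  obtain ⟨_, ⟨n, rfl⟩, m, hm, e⟩ := Set.not_disjoint_iff.mp hnd
  exact ⟨n, m, hm, by rw [← resO_pow]; exact e⟩

theorem spanRes_fg {V : X.Opens} (N : Submodule Γ(X, V) Γ(F, V)) (hN : N.FG) {V' : X.Opens}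
    (h : V' ≤ V) : (spanRes N h).FG := by
  obtain ⟨S₀, rfl⟩ := hN
  have e : spanRes (Submodule.span Γ(X, V) (S₀ : Set Γ(F, V))) h =
      Submodule.span Γ(X, V') (res F h '' (S₀ : Set Γ(F, V))) := by
    apply le_antisymm
    · apply Submodule.span_le.mpr
      rintro _ ⟨m, hm, rfl⟩
      induction hm using Submodule.span_induction with
      | mem x hx => exact Submodule.subset_span ⟨x, hx, rfl⟩
      | zero => rw [res_zero]; exact Submodule.zero_mem _
      | add x y _ _ hx hy =>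
        rw [Groth.Agent.Lib.AffVanSections.res_add]; exact Submodule.add_mem _ hx hy
      | smul a x _ hx => rw [res_smul]; exact Submodule.smul_mem _ _ hx
    · apply Submodule.span_mono
      exact Set.image_mono Submodule.subset_span
  rw [e]
  exact Submodule.fg_span (S₀.finite_toSet.image _)

set_option backward.isDefEq.respectTransparency false in
theorem gen_obj_basicOpen {V : X.Opens} (hV : IsAffineOpen V) [F.IsQuasicoherent]
    (N : Submodule Γ(X, V) Γ(F, V)) (g : Γ(X, V)) :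
    (gen N).obj (X.basicOpen g) = spanRes N (X.basicOpen_le g) := by
  apply le_antisymm
  · intro t ht
    obtain ⟨n, m, hm, e⟩ := exists_pow_smul_of_mem_gen hV N g ht
    obtain ⟨u, hu⟩ : ∃ u : Γ(X, X.basicOpen g), u * resO X (X.basicOpen_le g) g = 1 :=
      (Groth.Agent.Lib.AffVanSections.isUnit_resO_basicOpen g).exists_left_inv
    have e' : t = u ^ n • res F (X.basicOpen_le g) m := by
      rw [← e, smul_smul, ← mul_pow, hu, one_pow, one_smul]
    rw [e']
    exact Submodule.smul_mem _ _ (res_mem_spanRes N _ hm)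
  · exact spanRes_le_gen N _

set_option backward.isDefEq.respectTransparency false in
/-- `gen N` is localizing on every basic open of `V`. -/
theorem isQCohOn_gen_basicOpen {V : X.Opens} (hV : IsAffineOpen V) [F.IsQuasicoherent]
    (N : Submodule Γ(X, V) Γ(F, V)) (g : Γ(X, V)) : (gen N).IsQCohOn (X.basicOpen g) := by
  intro f' t ht
  obtain ⟨j, f'', hf''⟩ := exists_pow_mul_eq_resO hV g f'
  -- `D(f') = D(g * f'')`
  have hgu := Groth.Agent.Lib.AffVanSections.isUnit_resO_basicOpen g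
  have E : X.basicOpen (g * f'') = X.basicOpen f' := by
    rw [X.basicOpen_mul, ← basicOpen_resO (X.basicOpen_le g) f'', ← hf'', X.basicOpen_mul,
      X.basicOpen_of_isUnit (hgu.pow j)]
    exact inf_eq_right.mpr (X.basicOpen_le f')
  have ht' : res F E.le t ∈ (gen N).obj (X.basicOpen (g * f'')) := (gen N).res_mem _ ht
  obtain ⟨n, m, hm, e⟩ := exists_pow_smul_of_mem_gen hV N (g * f'') ht'
  obtain ⟨u, hu⟩ : ∃ u : Γ(X, X.basicOpen g), u * resO X (X.basicOpen_le g) g = 1 :=
    hgu.exists_left_inv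
  refine ⟨n, u ^ ((j + 1) * n) • res F (X.basicOpen_le g) m, ?_, ?_⟩
  · rw [gen_obj_basicOpen hV N g]
    exact Submodule.smul_mem _ _ (res_mem_spanRes N _ hm)
  · -- restrict `e` to `D(f')`
    have e' := congrArg (res F E.ge) e
    rw [res_smul, res_res, res_res, res_self, resO_pow, resO_resO] at e'
    rw [res_smul, res_res, ← e', smul_smul]
    congr 1
    -- an identity in `Γ(X, D(f'))`
    have h1 : resO X ((X.basicOpen_le f').trans (X.basicOpen_le g)) (g * f'') =
        resO X (X.basicOpen_le f') (resO X (X.basicOpen_le g) g ^ (j + 1) * f') := by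
      rw [pow_succ, mul_assoc, mul_comm (resO X (X.basicOpen_le g) g) f', ← mul_assoc, hf'',
        ← Groth.Agent.Lib.AffVanSections.resO_mul, resO_resO, mul_comm]
    have h2 : resO X (X.basicOpen_le f') (u ^ ((j + 1) * n)) *
        resO X (X.basicOpen_le f') (resO X (X.basicOpen_le g) g ^ (j + 1) * f') ^ n =
        resO X (X.basicOpen_le f') f' ^ n := by
      rw [← resO_pow, ← Groth.Agent.Lib.AffVanSections.resO_mul, mul_pow, ← pow_mul, ← mul_assoc,
        ← mul_pow, hu, one_pow, one_mul, resO_pow]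
    rw [h1, h2]

end SubSh

end Groth.Agent.Lib.H90SubSh
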