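/-
helper90: dévissage keystone, part 1: more elementary sub-modules (`SubSh`):
`bot`, `vanishOn O` (sections vanishing on the open `O`, i.e. supported in the complement), `killedBy J`
(sections killed by an ideal sheaf), quasi-coherence (`IsQCohOn`) of `inf`, `vanishOn`, `killedBy`, `gen`
on schemes with Noetherian underlying space, and coherence of the associated modules.
-/
import Mathlib
import Groth.Agent.Lib.H90SubShTilde
import Groth.Agent.Lib.H90SubShExt
import Groth.Agent.Lib.H90LocNoeth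

set_option autoImplicit false
universe u

open CategoryTheory CategoryTheory.Limits AlgebraicGeometry TopologicalSpace Opposite

namespace Groth.Agent.Lib.H90DevSub

open Groth.Agent.Lib.QCohStalk Groth.Agent.Lib.AssPush Groth.Agent.Lib.H90OXModQcqs
  Groth.Agent.Lib.H90OXModSections Groth.Agent.Lib.H90OXModExt Groth.Agent.Lib.H90SubSh

variable {X : Scheme.{u}} {F : X.Modules}

/-- The zero sub-module. -/
noncomputable def bot (F : X.Modules) : SubSh F where
  obj _ := ⊥
  res_mem := fun {V' V} h {s} hs => by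
    rw [Submodule.mem_bot] at hs ⊢
    rw [hs, res_zero]
  mem_of_local := fun V s hs => by
    rw [Submodule.mem_bot]
    choose W hW hxW h0 using hs
    refine res_ext F V (fun x : V => W x.1 x.2) (fun x => hW x.1 x.2)
      (fun x hx => Opens.mem_iSup.mpr ⟨⟨x, hx⟩, hxW x hx⟩) s 0 fun x => ?_
    rw [res_zero]
    exact (Submodule.mem_bot _).mp (h0 x.1 x.2)

theorem mem_bot_iff (V : X.Opens) (s : Γ(F, V)) : s ∈ (bot F).obj V ↔ s = 0 := Submodule.mem_bot _

theorem isQCohOn_bot (V : X.Opens) : (bot F).IsQCohOn V := by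
  intro f t ht
  rw [mem_bot_iff] at ht
  refine ⟨0, 0, (Submodule.zero_mem _), ?_⟩
  rw [ht, smul_zero, res_zero]

/-- Sections vanishing on the open set `O`. -/
noncomputable def vanishOn (F : X.Modules) (O : X.Opens) : SubSh F := (bot F).sat O

theorem mem_vanishOn_iff (O V : X.Opens) (s : Γ(F, V)) :
    s ∈ (vanishOn F O).obj V ↔ res F (inf_le_left : V ⊓ O ≤ V) s = 0 := by
  change res F (inf_le_left : V ⊓ O ≤ V) s ∈ (bot F).obj (V ⊓ O) ↔ _
  rw [mem_bot_iff]

theorem mem_vanishOn_iff' (O V : X.Opens) (s : Γ(F, V)) {V' : X.Opens} (h : V' ≤ V) (h' : V' = V ⊓ O) :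
    s ∈ (vanishOn F O).obj V ↔ res F h s = 0 := by
  subst h'
  exact mem_vanishOn_iff O V s

/-- `T₁ ≤ T₂` sectionwise. -/
def Le (T₁ T₂ : SubSh F) : Prop := ∀ V, T₁.obj V ≤ T₂.obj V

theorem eq_bot_iff (T : SubSh F) : T = bot F ↔ ∀ (V : X.Opens) (s : Γ(F, V)), s ∈ T.obj V → s = 0 := by
  constructor
  · rintro rfl V s hs
    exact (mem_bot_iff V s).mp hs
  · intro h
    ext V s
    rw [mem_bot_iff]
    exact ⟨h V s, fun hs => hs ▸ (T.obj V).zero_mem⟩

set_option backward.isDefEq.respectTransparency false in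
/-- Intersections of localizing sub-modules are localizing (on affine opens). -/
theorem isQCohOn_inf [F.IsQuasicoherent] (T₁ T₂ : SubSh F) {V : X.Opens} (hV : IsAffineOpen V)
    (h1 : T₁.IsQCohOn V) (h2 : T₂.IsQCohOn V) : (T₁.inf T₂).IsQCohOn V := by
  intro f t ht
  obtain ⟨n₁, s₁, hs₁, e₁⟩ := h1 f t ht.1
  obtain ⟨n₂, s₂, hs₂, e₂⟩ := h2 f t ht.2
  have hd : res F (X.basicOpen_le f) (f ^ n₂ • s₁ - f ^ n₁ • s₂) = 0 := by
    rw [res_sub, res_smul, res_smul, ← e₁, ← e₂, resO_pow, resO_pow, smul_smul, smul_smul,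
      mul_comm, sub_self]
  obtain ⟨m, hm⟩ := exists_pow_smul_eq_zero F hV f _ hd
  rw [smul_sub, sub_eq_zero] at hm
  refine ⟨m + n₂ + n₁, f ^ m • f ^ n₂ • s₁, ⟨?_, ?_⟩, ?_⟩
  · exact (T₁.obj V).smul_mem _ ((T₁.obj V).smul_mem _ hs₁)
  · rw [hm]
    exact (T₂.obj V).smul_mem _ ((T₂.obj V).smul_mem _ hs₂)
  · rw [res_smul, res_smul, ← e₁, resO_pow, resO_pow, smul_smul, smul_smul, ← pow_add, ← pow_add]

/-- A compact open subset of an affine open is covered by finitely many basic opens. -/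
theorem exists_finite_basicOpen_cover {U : X.Opens} (hU : IsAffineOpen U) (O : X.Opens) (hO : O ≤ U)
    (hc : IsCompact (O : Set X)) :
    ∃ (κ : Type u) (_ : Finite κ) (g : κ → Γ(X, U)),
      (∀ k, X.basicOpen (g k) ≤ O) ∧ O ≤ ⨆ k, X.basicOpen (g k) := by
  have h1 : ∀ x : O, ∃ f : Γ(X, U), X.basicOpen f ≤ O ∧ (x : X) ∈ X.basicOpen f :=
    fun x => hU.exists_basicOpen_le x (hO x.2)
  choose f hf hxf using h1
  obtain ⟨t, ht⟩ := hc.elim_finite_subcover (fun x : O => (X.basicOpen (f x) : Set X))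
    (fun x => (X.basicOpen (f x)).isOpen) (fun x hx => Set.mem_iUnion.mpr ⟨⟨x, hx⟩, hxf ⟨x, hx⟩⟩)
  refine ⟨ULift.{u} t, inferInstance, fun k => f k.down.1, fun k => hf _, ?_⟩
  intro x hx
  obtain ⟨y, hy⟩ := Set.mem_iUnion.mp (ht hx)
  obtain ⟨hyt, hxy⟩ := Set.mem_iUnion.mp hy
  exact Opens.mem_iSup.mpr ⟨⟨⟨y, hyt⟩⟩, hxy⟩

set_option backward.isDefEq.respectTransparency false in
theorem isQCohOn_vanishOn [F.IsQuasicoherent] (O : X.Opens) {V : X.Opens} (hV : IsAffineOpen V)
    (hc : IsCompact ((V ⊓ O : X.Opens) : Set X)) : (vanishOn F O).IsQCohOn V := by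
  obtain ⟨κ, _, g, hle, hcov⟩ := exists_finite_basicOpen_cover hV (V ⊓ O) inf_le_left hc
  exact SubSh.isQCohOn_sat (bot F) O hV (fun k => X.basicOpen (g k)) (fun k => hV.basicOpen _) hle hcov
    (fun k => isQCohOn_bot _)

set_option backward.isDefEq.respectTransparency false in
theorem isQCohOn_gen [F.IsQuasicoherent] {U : X.Opens} (hU : IsAffineOpen U)
    (N : Submodule Γ(X, U) Γ(F, U)) {V : X.Opens} (hV : IsAffineOpen V)
    (hc : IsCompact ((V ⊓ U : X.Opens) : Set X)) : (SubSh.gen N).IsQCohOn V := by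
  rw [← SubSh.sat_gen N]
  obtain ⟨κ, _, g, hle, hcov⟩ := exists_finite_basicOpen_cover hU (V ⊓ U) inf_le_right hc
  exact SubSh.isQCohOn_sat (SubSh.gen N) U hV (fun k => X.basicOpen (g k)) (fun k => hU.basicOpen _)
    hle hcov (fun k => SubSh.isQCohOn_gen_basicOpen hU N (g k))

theorem resO_mem_ideal (J : X.IdealSheafData) {D' D : X.affineOpens} (h : D'.1 ≤ D.1)
    {a : Γ(X, D.1)} (ha : a ∈ J.ideal D) : resO X h a ∈ J.ideal D' :=
  J.ideal_le_comap_ideal (U := D') (V := D) h ha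

/-- the predicate defining `killedBy` -/
def KilledBy (F : X.Modules) (J : X.IdealSheafData) (V : X.Opens) (s : Γ(F, V)) : Prop :=
  ∀ (D : X.affineOpens) (h : D.1 ≤ V) (a : Γ(X, D.1)), a ∈ J.ideal D → a • res F h s = 0

theorem killedBy_of_local (J : X.IdealSheafData) (V : X.Opens) (s : Γ(F, V))
    (hs : ∀ x ∈ V, ∃ (V' : X.Opens) (h : V' ≤ V), x ∈ V' ∧ KilledBy F J V' (res F h s)) :
    KilledBy F J V s := by
  intro D hD a ha
  choose V' hV'V hxV' hmem using hs
  have hbas : ∀ x : D.1, ∃ D' : X.Opens, IsAffineOpen D' ∧ x.1 ∈ D' ∧ D' ≤ D.1 ⊓ V' x.1 (hD x.2) :=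
    fun x => Opens.isBasis_iff_nbhd.mp X.isBasis_affineOpens
      (U := D.1 ⊓ V' x.1 (hD x.2)) (x := x.1) ⟨x.2, hxV' x.1 (hD x.2)⟩
  choose D' hD'aff hxD' hD'le using hbas
  refine res_ext F D.1 D' (fun x => (hD'le x).trans inf_le_left)
    (fun x hx => Opens.mem_iSup.mpr ⟨⟨x, hx⟩, hxD' ⟨x, hx⟩⟩) _ 0 fun x => ?_
  rw [res_zero, res_smul, res_res]
  have h1 := hmem x.1 (hD x.2) ⟨D' x, hD'aff x⟩ ((hD'le x).trans inf_le_right) _
    (resO_mem_ideal J (D' := ⟨D' x, hD'aff x⟩) (D := D) ((hD'le x).trans inf_le_left) ha)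
  rw [res_res] at h1
  exact h1

/-- Sections killed by the ideal sheaf `J`. -/
noncomputable def killedBy (F : X.Modules) (J : X.IdealSheafData) : SubSh F where
  obj V :=
    { carrier := {s | KilledBy F J V s}
      add_mem' := fun {x y} hx hy D h a ha => by
        rw [Groth.Agent.Lib.AffVanSections.res_add, smul_add, hx D h a ha, hy D h a ha, add_zero]
      zero_mem' := fun D h a _ => by rw [res_zero, smul_zero]
      smul_mem' := fun c {x} hx D h a ha => by
        rw [res_smul, smul_comm, hx D h a ha, smul_zero] }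
  res_mem := fun {V' V} h {s} hs D hD a ha => by
    rw [res_res]
    exact hs D (hD.trans h) a ha
  mem_of_local := fun V s hs => killedBy_of_local J V s hs

theorem mem_killedBy_iff (J : X.IdealSheafData) (V : X.Opens) (s : Γ(F, V)) :
    s ∈ (killedBy F J).obj V ↔ ∀ (D : X.affineOpens) (h : D.1 ≤ V) (a : Γ(X, D.1)), a ∈ J.ideal D →
        a • res F h s = 0 := Iff.rfl

/-- On an affine open, it suffices to be killed by the ideal of that open. -/
theorem mem_killedBy_of_affine (J : X.IdealSheafData) {V : X.Opens} (hV : IsAffineOpen V)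
    (s : Γ(F, V)) (h : ∀ a ∈ J.ideal ⟨V, hV⟩, a • s = 0) : s ∈ (killedBy F J).obj V := by
  intro D hD a' ha'
  rw [← J.map_ideal (U := D) (V := ⟨V, hV⟩) hD] at ha'
  change a' ∈ Submodule.span _ _ at ha'
  induction ha' using Submodule.span_induction with
  | mem x hx =>
    obtain ⟨a, ha, rfl⟩ := hx
    change resO X hD a • res F hD s = 0
    rw [← res_smul, h a ha, res_zero]
  | zero => rw [zero_smul]
  | add x y _ _ hx hy => rw [add_smul, hx, hy, add_zero]
  | smul c x _ hx => rw [smul_eq_mul, mul_smul, hx, smul_zero]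

theorem smul_eq_zero_of_mem_killedBy (J : X.IdealSheafData) {V : X.Opens} (hV : IsAffineOpen V)
    {s : Γ(F, V)} (hs : s ∈ (killedBy F J).obj V) {a : Γ(X, V)} (ha : a ∈ J.ideal ⟨V, hV⟩) :
    a • s = 0 := by
  have := hs ⟨V, hV⟩ le_rfl a ha
  rwa [res_self] at this

set_option backward.isDefEq.respectTransparency false in
theorem isQCohOn_killedBy [F.IsQuasicoherent] (J : X.IdealSheafData) {V : X.Opens}
    (hV : IsAffineOpen V) (hfg : (J.ideal ⟨V, hV⟩).FG) : (killedBy F J).IsQCohOn V := by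
  classical
  intro f t ht
  obtain ⟨n₀, s₀, hs₀⟩ := exists_pow_smul_eq_res F hV f t
  obtain ⟨S₀, hS₀⟩ := hfg
  have h1 : ∀ a ∈ S₀, ∃ m : ℕ, f ^ m • a • s₀ = 0 := by
    intro a ha
    apply exists_pow_smul_eq_zero F hV f
    have ha' : a ∈ J.ideal ⟨V, hV⟩ := hS₀ ▸ Submodule.subset_span ha
    have h2 := smul_eq_zero_of_mem_killedBy J (hV.basicOpen f) ht
      (resO_mem_ideal J (D' := ⟨X.basicOpen f, hV.basicOpen f⟩) (D := ⟨V, hV⟩) (X.basicOpen_le f) ha')
    rw [res_smul, ← hs₀, smul_comm, h2, smul_zero]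
  choose! m hm using h1
  let M := S₀.sup m
  refine ⟨M + n₀, f ^ M • s₀, ?_, ?_⟩
  · apply mem_killedBy_of_affine J hV
    intro a ha
    rw [← hS₀] at ha
    change a ∈ Submodule.span _ _ at ha
    induction ha using Submodule.span_induction with
    | mem x hx =>
      obtain ⟨k, hk⟩ := Nat.exists_eq_add_of_le (Finset.le_sup (f := m) hx)
      rw [smul_comm, show M = m x + k from hk, pow_add, mul_comm, mul_smul, hm x hx, smul_zero]
    | zero => rw [zero_smul]
    | add x y _ _ hx hy => rw [add_smul, hx, hy, add_zero]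
    | smul c x _ hx => rw [smul_eq_mul, mul_smul, hx, smul_zero]
  · rw [res_smul, ← hs₀, resO_pow, smul_smul, ← pow_add]

/-! ### Noetherian schemes -/

/-- `T` is localizing on every affine open. -/
def QC (T : SubSh F) : Prop := ∀ V : X.Opens, IsAffineOpen V → T.IsQCohOn V

theorem qc_bot : QC (bot F) := fun V _ => isQCohOn_bot V

theorem qc_inf [F.IsQuasicoherent] {T₁ T₂ : SubSh F} (h1 : QC T₁) (h2 : QC T₂) : QC (T₁.inf T₂) :=
  fun V hV => isQCohOn_inf T₁ T₂ hV (h1 V hV) (h2 V hV)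

theorem qc_ofMono [F.IsQuasicoherent] {G : X.Modules} (i : G ⟶ F) [Mono i] [G.IsQuasicoherent] :
    QC (SubSh.ofMono i) := fun _ hV => SubSh.isQCohOn_ofMono i hV

section Noeth

variable [AlgebraicGeometry.IsNoetherian X]

theorem qc_vanishOn [F.IsQuasicoherent] (O : X.Opens) : QC (vanishOn F O) :=
  fun _ hV => isQCohOn_vanishOn O hV (NoetherianSpace.isCompact _)

theorem qc_gen [F.IsQuasicoherent] {U : X.Opens} (hU : IsAffineOpen U)
    (N : Submodule Γ(X, U) Γ(F, U)) : QC (SubSh.gen N) :=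
  fun _ hV => isQCohOn_gen hU N hV (NoetherianSpace.isCompact _)

theorem qc_killedBy [F.IsQuasicoherent] (J : X.IdealSheafData) : QC (killedBy F J) := by
  intro V hV
  haveI : IsNoetherianRing Γ(X, V) := IsLocallyNoetherian.component_noetherian ⟨V, hV⟩
  exact isQCohOn_killedBy J hV (_root_.IsNoetherian.noetherian _)

set_option backward.isDefEq.respectTransparency false in
/-- On a Noetherian scheme, a localizing sub-module of a coherent module is coherent. -/
theorem isCoh_toModules_of_qc (hF : Coh.IsCoh F) {T : SubSh F} (hT : QC T) :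
    Coh.IsCoh T.toModules := by
  haveI : F.IsQuasicoherent := hF.1
  refine T.isCoh_toModules (fun V : X.affineOpens => V.1) (AlgebraicGeometry.iSup_affineOpens_eq_top X)
    (fun V => V.2) (fun V => hT V.1 V.2) (fun V => ?_)
  haveI : IsNoetherianRing Γ(X, V.1) := IsLocallyNoetherian.component_noetherian V
  haveI : Module.Finite Γ(X, V.1) Γ(F, V.1) :=
    Groth.Agent.Lib.CohFinite.finite_sections_of_isCoh F hF V.2
  exact _root_.IsNoetherian.noetherian _

end Noeth

end Groth.Agent.Lib.H90DevSub
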