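import Groth.Agent.Lib.H90OXModPushOpen
import Groth.Agent.Lib.RestrictExact
import Groth.Agent.Lib.ModStalk

/-!
# Restriction to an open: zero objects, isomorphisms, supports (helper90)
-/

set_option autoImplicit false
universe u

open CategoryTheory CategoryTheory.Limits AlgebraicGeometry TopologicalSpace Opposite
open AlgebraicGeometry.Scheme AlgebraicGeometry.Scheme.Modules

namespace Groth.Agent.Lib.H90QCohLocalization

open Groth.Agent.Lib.H90OXModPushOpen

variable {X : Scheme.{u}}

/-- A module all of whose sections vanish is zero. -/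
theorem isZero_of_subsingleton_sections (N : X.Modules) (h : ∀ V : X.Opens, Subsingleton Γ(N, V)) :
    IsZero N := by
  rw [IsZero.iff_id_eq_zero]
  ext V s
  haveI := h V
  exact Subsingleton.elim _ _

/-- A module all of whose stalks vanish is zero. -/
theorem isZero_of_stalks (N : X.Modules) (h : ∀ x : X, Subsingleton ↑(N.presheaf.stalk x)) :
    IsZero N :=
  isZero_of_subsingleton_sections N fun V => subsingleton_sections_of_stalks N V fun y _ => h y

/-- The restriction of `M` to `U` is zero iff the support of `M` is disjoint from `U`. -/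
theorem isZero_restrict_iff (M : X.Modules) (U : X.Opens) :
    IsZero ((Scheme.Modules.restrictFunctor U.ι).obj M) ↔ CohB1.support M ⊆ (U : Set X)ᶜ := by
  constructor
  · intro h x hx hxU
    exact hx (Groth.Agent.Lib.ModStalk.subsingleton_stalk_of_isZero_restrict M U h x hxU)
  · intro h
    apply isZero_of_stalks
    intro y
    apply (Groth.Agent.Lib.ModStalk.subsingleton_stalk_restrict_iff M U y).mpr
    by_contra hne
    exact h hne y.2

/-- The restriction of `φ` to `U` is an isomorphism iff kernel and cokernel of `φ` are supported off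
`U`. -/
theorem isIso_restrict_map_iff {M N : X.Modules} (φ : M ⟶ N) (U : X.Opens) :
    IsIso ((Scheme.Modules.restrictFunctor U.ι).map φ) ↔
      CohB1.support (kernel φ) ⊆ (U : Set X)ᶜ ∧ CohB1.support (cokernel φ) ⊆ (U : Set X)ᶜ := by
  rw [← isZero_restrict_iff, ← isZero_restrict_iff]
  let F := Scheme.Modules.restrictFunctor U.ι
  have e1 : F.obj (kernel φ) ≅ kernel (F.map φ) := PreservesKernel.iso F φ
  have e2 : F.obj (cokernel φ) ≅ cokernel (F.map φ) := PreservesCokernel.iso F φ
  constructor
  · intro h
    exact ⟨(isZero_kernel_of_mono (F.map φ)).of_iso e1, (isZero_cokernel_of_epi (F.map φ)).of_iso e2⟩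
  · rintro ⟨h1, h2⟩
    haveI : Mono (F.map φ) := Preadditive.mono_of_isZero_kernel _ (h1.of_iso e1.symm)
    haveI : Epi (F.map φ) := Preadditive.epi_of_isZero_cokernel _ (h2.of_iso e2.symm)
    exact isIso_of_mono_of_epi _

end Groth.Agent.Lib.H90QCohLocalization
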