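/-
helper90: dévissage keystone, part 2: a nonzero coherent module on a Noetherian scheme has a nonzero coherent
sub-module with minimal support; the support is irreducible and the sub-module is torsion-free on it.
-/
import Mathlib
import Groth.Agent.Lib.H90DevSub
import Groth.Agent.Lib.H90QCohLocalization

set_option autoImplicit false
universe u

open CategoryTheory CategoryTheory.Limits AlgebraicGeometry TopologicalSpace Opposite

namespace Groth.Agent.Lib.H90DevMin

open Groth.Agent.Lib.QCohStalk Groth.Agent.Lib.AssPush Groth.Agent.Lib.H90OXModQcqs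
  Groth.Agent.Lib.H90OXModSections Groth.Agent.Lib.H90OXModExt Groth.Agent.Lib.H90SubSh
  Groth.Agent.Lib.H90DevSub

variable {X : Scheme.{u}} {F : X.Modules}

theorem mem_vanishOn_iff_forall (O V : X.Opens) (s : Γ(F, V)) :
    s ∈ (vanishOn F O).obj V ↔ ∀ (V' : X.Opens) (h : V' ≤ V), V' ≤ O → res F h s = 0 := by
  rw [mem_vanishOn_iff]
  constructor
  · intro h0 V' h hO
    have : res F (le_inf h hO : V' ≤ V ⊓ O) (res F (inf_le_left : V ⊓ O ≤ V) s) = 0 := by
      rw [h0, res_zero]
    rwa [res_res] at this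
  · intro h
    exact h (V ⊓ O) inf_le_left inf_le_right

theorem vanishOn_mono {O O' : X.Opens} (h : O' ≤ O) (V : X.Opens) :
    (vanishOn F O).obj V ≤ (vanishOn F O').obj V := by
  intro s hs
  rw [mem_vanishOn_iff_forall] at hs ⊢
  exact fun V' hV' hO' => hs V' hV' (hO'.trans h)

theorem mem_vanishOn_sup {O₁ O₂ V : X.Opens} {s : Γ(F, V)} (h1 : s ∈ (vanishOn F O₁).obj V)
    (h2 : s ∈ (vanishOn F O₂).obj V) : s ∈ (vanishOn F (O₁ ⊔ O₂)).obj V := by
  rw [mem_vanishOn_iff_forall] at h1 h2 ⊢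
  intro V' hV' hO
  refine res_ext_two F V' (V' ⊓ O₁) (V' ⊓ O₂) inf_le_left inf_le_left ?_ _ _ ?_ ?_
  · intro x hx
    rcases hO hx with h | h
    · exact Or.inl ⟨hx, h⟩
    · exact Or.inr ⟨hx, h⟩
  · rw [res_res, res_zero]
    exact h1 _ _ inf_le_right
  · rw [res_res, res_zero]
    exact h2 _ _ inf_le_right

theorem vanishOn_top_eq_bot : vanishOn F ⊤ = bot F := by
  ext V s
  rw [mem_vanishOn_iff_forall, mem_bot_iff]
  constructor
  · intro h
    have := h V le_rfl le_top
    rwa [res_self] at this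
  · rintro rfl V' h _
    exact res_zero F h

/-- The data of a nonzero localizing sub-module with minimal (irreducible) support. -/
structure MinData (F : X.Modules) where
  /-- the support -/
  Z : Closeds X
  /-- the sub-module -/
  T : SubSh F
  irr : IsIrreducible (Z : Set X)
  qc : QC T
  ne : T ≠ bot F
  supp : ∀ V, T.obj V ≤ (vanishOn F Z.compl).obj V
  tf : ∀ (W' : Closeds X), ¬ Z ≤ W' → ∀ (V : X.Opens) (t : Γ(F, V)), t ∈ T.obj V →
    t ∈ (vanishOn F W'.compl).obj V → t = 0

theorem eq_zero_of_le_bot {V : X.Opens} (h : V ≤ ⊥) (s : Γ(F, V)) : s = 0 :=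
  res_ext F V (fun i : Empty => (Empty.elim i : X.Opens)) (fun i => Empty.elim i)
    (h.trans bot_le) s 0 (fun i => Empty.elim i)

theorem compl_inf (Z W : Closeds X) : (Z ⊓ W).compl = Z.compl ⊔ W.compl := by
  ext x
  simp only [Closeds.coe_compl, Closeds.coe_inf, Set.compl_inter, Opens.coe_sup]

set_option backward.isDefEq.respectTransparency false in
theorem exists_minData [AlgebraicGeometry.IsNoetherian X] [F.IsQuasicoherent] (hne : ¬ IsZero F) :
    Nonempty (MinData F) := by
  classical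
  let 𝒲 : Set (Closeds X) := {W | ∃ T : SubSh F, QC T ∧ T ≠ bot F ∧
    ∀ V, T.obj V ≤ (vanishOn F W.compl).obj V}
  have htop : (⊤ : Closeds X) ∈ 𝒲 := by
    refine ⟨SubSh.ofMono (𝟙 F), qc_ofMono _, ?_, ?_⟩
    · intro h
      apply hne
      apply Groth.Agent.Lib.H90QCohLocalization.isZero_of_subsingleton_sections
      intro V
      have h0 : ∀ a : Γ(F, V), a = 0 := by
        intro a
        have ha : a ∈ (SubSh.ofMono (𝟙 F)).obj V := ⟨a, rfl⟩
        rw [h] at ha
        exact (mem_bot_iff V a).mp ha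
      exact ⟨fun a b => (h0 a).trans (h0 b).symm⟩
    · intro V s _
      rw [mem_vanishOn_iff_forall]
      intro V' h hO
      apply eq_zero_of_le_bot
      intro x hx
      exact (hO hx) trivial
  obtain ⟨Z, hZ, hmin⟩ := (wellFounded_lt (α := Closeds X)).has_min 𝒲 ⟨⊤, htop⟩
  obtain ⟨T, hqc, hT, hsupp⟩ := hZ
  have key : ∀ (W' : Closeds X), ¬ Z ≤ W' → ∀ (V : X.Opens) (t : Γ(F, V)), t ∈ T.obj V →
      t ∈ (vanishOn F W'.compl).obj V → t = 0 := by
    intro W' hW' V t ht ht'
    by_contra hne0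
    have hlt : Z ⊓ W' < Z := lt_of_le_of_ne inf_le_left (fun h => hW' (inf_eq_left.mp h))
    refine hmin (Z ⊓ W') ⟨T.inf (vanishOn F (Z ⊓ W').compl), qc_inf hqc (qc_vanishOn _), ?_,
      fun V => inf_le_right⟩ hlt
    intro hbot
    apply hne0
    have hmem : t ∈ (T.inf (vanishOn F (Z ⊓ W').compl)).obj V := by
      refine ⟨ht, ?_⟩
      rw [compl_inf]
      exact mem_vanishOn_sup (hsupp V ht) ht'
    rw [hbot] at hmem
    exact (mem_bot_iff V t).mp hmem
  refine ⟨⟨Z, T, ⟨?_, ?_⟩, hqc, hT, hsupp, key⟩⟩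
  · -- nonempty
    by_contra hempty
    rw [Set.not_nonempty_iff_eq_empty] at hempty
    apply hT
    rw [eq_bot_iff]
    intro V s hs
    have h1 := hsupp V hs
    have h2 : Z.compl = ⊤ := by
      ext x
      simp only [Closeds.coe_compl, hempty, Set.compl_empty, Opens.coe_top]
    rw [h2, vanishOn_top_eq_bot] at h1
    exact (mem_bot_iff V s).mp h1
  · rw [isPreirreducible_iff_isClosed_union_isClosed]
    intro z₁ z₂ hz₁ hz₂ hZ12
    by_contra hcon
    rw [not_or] at hcon
    obtain ⟨hc1, hc2⟩ := hcon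
    let W₁ : Closeds X := ⟨z₁, hz₁⟩
    let W₂ : Closeds X := ⟨z₂, hz₂⟩
    have hW₁ : ¬ Z ≤ W₁ := hc1
    have hW₂ : ¬ Z ≤ W₂ := hc2
    apply hT
    rw [eq_bot_iff]
    intro V s hs
    apply key W₂ hW₂ V s hs
    rw [mem_vanishOn_iff]
    apply key W₁ hW₁ _ _ (T.res_mem _ hs)
    rw [mem_vanishOn_iff_forall]
    intro V' hV' hO
    rw [res_res]
    have h1 := hsupp V hs
    rw [mem_vanishOn_iff_forall] at h1
    apply h1
    intro x hx hxZ
    rcases hZ12 hxZ with h | h
    · exact (hO hx) h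
    · exact ((hV' hx).2) h

end Groth.Agent.Lib.H90DevMin
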