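/-
helper90: dévissage keystone, part 3: the minimal-support sub-module can be taken to be killed by the
vanishing ideal of its support.
-/
import Mathlib
import Groth.Agent.Lib.H90DevMin

set_option autoImplicit false
universe u

open CategoryTheory CategoryTheory.Limits AlgebraicGeometry TopologicalSpace Opposite

namespace Groth.Agent.Lib.H90DevTors

open Groth.Agent.Lib.QCohStalk Groth.Agent.Lib.AssPush Groth.Agent.Lib.H90OXModQcqs
  Groth.Agent.Lib.H90OXModSections Groth.Agent.Lib.H90OXModExt Groth.Agent.Lib.H90SubSh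
  Groth.Agent.Lib.H90DevSub Groth.Agent.Lib.H90DevMin

theorem exists_smul_ne_zero_killed {B M : Type*} [CommRing B] [AddCommGroup M] [Module B M]
    (𝔮 : Ideal B) (s : M) (hs : s ≠ 0) (m : ℕ) (hm : ∀ b ∈ 𝔮 ^ m, b • s = 0) :
    ∃ b : B, b • s ≠ 0 ∧ ∀ q ∈ 𝔮, q • b • s = 0 := by
  induction m with
  | zero =>
    exfalso
    apply hs
    have h1 : (1 : B) ∈ 𝔮 ^ 0 := by rw [pow_zero, Ideal.one_eq_top]; trivial
    have := hm 1 h1
    rwa [one_smul] at this
  | succ m ih =>
    by_cases h : ∀ b ∈ 𝔮 ^ m, b • s = 0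
    · exact ih h
    · push Not at h
      obtain ⟨b, hb, hbs⟩ := h
      refine ⟨b, hbs, fun q hq => ?_⟩
      rw [smul_smul]
      apply hm
      rw [pow_succ, mul_comm q b]
      exact Ideal.mul_mem_mul hb hq

variable {X : Scheme.{u}} {F : X.Modules}

theorem basicOpen_le_compl (Z : Closeds X) (D : X.affineOpens) {q : Γ(X, D.1)}
    (hq : q ∈ (Scheme.IdealSheafData.vanishingIdeal Z).ideal D) : X.basicOpen q ≤ Z.compl := by
  intro x hx hxZ
  have hxD : x ∈ D.1 := X.basicOpen_le q hx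
  have h1 : x ∈ (Scheme.IdealSheafData.vanishingIdeal Z).support := by
    rw [← SetLike.mem_coe, Scheme.IdealSheafData.coe_support_vanishingIdeal]
    exact hxZ
  rw [Scheme.IdealSheafData.mem_support_iff_of_mem (U := D) hxD, Scheme.mem_zeroLocus_iff] at h1
  exact h1 q hq hx

/-- A nonzero section has a nonzero restriction to some affine open. -/
theorem exists_affine_res_ne_zero {V : X.Opens} {s : Γ(F, V)} (hs : s ≠ 0) :
    ∃ (D : X.Opens) (_ : IsAffineOpen D) (h : D ≤ V), res F h s ≠ 0 := by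
  by_contra hcon
  push Not at hcon
  apply hs
  have hbas : ∀ x : V, ∃ D : X.Opens, IsAffineOpen D ∧ x.1 ∈ D ∧ D ≤ V :=
    fun x => Opens.isBasis_iff_nbhd.mp X.isBasis_affineOpens (U := V) (x := x.1) x.2
  choose D hDaff hxD hDle using hbas
  refine res_ext F V D hDle (fun x hx => Opens.mem_iSup.mpr ⟨⟨x, hx⟩, hxD ⟨x, hx⟩⟩) s 0 fun x => ?_
  rw [res_zero]
  exact hcon (D x) (hDaff x) (hDle x)

set_option backward.isDefEq.respectTransparency false in
/-- Claim 3: a nonzero localizing sub-module supported in `Z` has nonzero sections killed by the vanishing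
ideal of `Z`. -/
theorem inf_killedBy_ne_bot [AlgebraicGeometry.IsNoetherian X] [F.IsQuasicoherent] (Z : Closeds X)
    (T : SubSh F) (hT : T ≠ bot F) (hsupp : ∀ V, T.obj V ≤ (vanishOn F Z.compl).obj V) :
    T.inf (killedBy F (Scheme.IdealSheafData.vanishingIdeal Z)) ≠ bot F := by
  classical
  obtain ⟨V, s₀, hs₀, hne₀⟩ : ∃ (V : X.Opens) (s : Γ(F, V)), s ∈ T.obj V ∧ s ≠ 0 := by
    by_contra hcon
    push Not at hcon
    exact hT ((eq_bot_iff T).mpr hcon)
  obtain ⟨D, hD, hDV, hne⟩ := exists_affine_res_ne_zero hne₀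
  set s := res F hDV s₀ with hsdef
  have hs : s ∈ T.obj D := T.res_mem hDV hs₀
  set 𝒥 := Scheme.IdealSheafData.vanishingIdeal Z with h𝒥
  let 𝔮 : Ideal Γ(X, D) := 𝒥.ideal ⟨D, hD⟩
  haveI : IsNoetherianRing Γ(X, D) := IsLocallyNoetherian.component_noetherian ⟨D, hD⟩
  let A : Ideal Γ(X, D) := LinearMap.ker (LinearMap.toSpanSingleton Γ(X, D) Γ(F, D) s)
  have hA : ∀ b, b ∈ A ↔ b • s = 0 := fun b => by
    change (LinearMap.toSpanSingleton Γ(X, D) Γ(F, D) s) b = 0 ↔ _
    rw [LinearMap.toSpanSingleton_apply]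
  have hrad : 𝔮 ≤ A.radical := by
    intro q hq
    have hle : X.basicOpen q ≤ Z.compl := basicOpen_le_compl Z ⟨D, hD⟩ hq
    have h1 := hsupp D hs
    rw [mem_vanishOn_iff_forall] at h1
    obtain ⟨n, hn⟩ := exists_pow_smul_eq_zero F hD q s (h1 _ (X.basicOpen_le q) hle)
    exact ⟨n, (hA _).mpr hn⟩
  obtain ⟨m, hm⟩ := Ideal.exists_pow_le_of_le_radical_of_fg hrad (_root_.IsNoetherian.noetherian 𝔮)
  obtain ⟨b, hb, hkill⟩ := exists_smul_ne_zero_killed 𝔮 s hne m (fun b hb => (hA b).mp (hm hb))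
  intro hbot
  apply hb
  have hmem : b • s ∈ (T.inf (killedBy F 𝒥)).obj D :=
    ⟨(T.obj D).smul_mem b hs, mem_killedBy_of_affine 𝒥 hD _ hkill⟩
  rw [hbot] at hmem
  exact (mem_bot_iff D _).mp hmem

/-- Minimal-support data, moreover killed by the vanishing ideal of the support. -/
structure MinData' (F : X.Modules) extends MinData F where
  killed : ∀ V, T.obj V ≤ (killedBy F (Scheme.IdealSheafData.vanishingIdeal Z)).obj V

theorem exists_minData' [AlgebraicGeometry.IsNoetherian X] [F.IsQuasicoherent] (hne : ¬ IsZero F) :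
    Nonempty (MinData' F) := by
  obtain ⟨d⟩ := exists_minData hne
  exact ⟨{ Z := d.Z
           T := d.T.inf (killedBy F (Scheme.IdealSheafData.vanishingIdeal d.Z))
           irr := d.irr
           qc := qc_inf d.qc (qc_killedBy _)
           ne := inf_killedBy_ne_bot d.Z d.T d.ne d.supp
           supp := fun V => inf_le_left.trans (d.supp V)
           tf := fun W' hW' V t ht ht' => d.tf W' hW' V t ht.1 ht'
           killed := fun V => inf_le_right }⟩

end Groth.Agent.Lib.H90DevTors
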