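import Mathlib
import Groth.Agent.Lib.H90OXModExact
import Groth.Agent.Lib.H90OXModExt
import Groth.Agent.Lib.H90CohRestrict

/-!
# Binary biproducts and pullbacks of quasi-coherent modules are quasi-coherent
-/

set_option autoImplicit false
universe u

open AlgebraicGeometry CategoryTheory CategoryTheory.Limits

namespace Groth.Agent.Lib.H90QCohLimits

variable {X : Scheme.{u}}

theorem isQuasicoherent_biprod (A B : X.Modules) [A.IsQuasicoherent] [B.IsQuasicoherent] :
    (A ⊞ B).IsQuasicoherent := by
  have hS := (ShortComplex.Splitting.ofHasBinaryBiproduct A B).shortExact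
  exact Groth.Agent.Lib.H90OXModExt.isQuasicoherent_of_shortExact hS

theorem isQuasicoherent_pullback {A B C : X.Modules} [A.IsQuasicoherent] [B.IsQuasicoherent]
    [C.IsQuasicoherent] (f : A ⟶ C) (g : B ⟶ C) : (pullback f g).IsQuasicoherent := by
  haveI := isQuasicoherent_biprod A B
  haveI := Groth.Agent.Lib.H90OXModExact.isQuasicoherent_kernel (biprod.desc f (-g))
  let e : kernel (biprod.desc f (-g)) ≅ pullback f g :=
    IsLimit.conePointUniqueUpToIso (kernelIsKernel (biprod.desc f (-g)))
      (Abelian.PullbackToBiproductIsKernel.isLimitPullbackToBiproduct f g)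
  exact Groth.Agent.Lib.H90CohRestrict.isQuasicoherent_of_iso e

end Groth.Agent.Lib.H90QCohLimits
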