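import Groth.Agent.Lib.H90OXModPush
import Groth.Agent.Lib.H90OXModSections
import Groth.Prelude.Def_Coh

/-!
# Finite direct sums of quasi-coherent modules (helper99)

`mono_of_injective_app`, sections of a finite biproduct, `isQuasicoherent_biproduct`,
`subsingleton_HH_biproduct` (cohomology of a finite direct sum).
-/

set_option autoImplicit false
universe u

open CategoryTheory CategoryTheory.Limits AlgebraicGeometry TopologicalSpace Opposite
open AlgebraicGeometry.Scheme AlgebraicGeometry.Scheme.Modules

namespace Groth.Agent.Lib.QCohBiproduct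

open Groth.Agent.Lib.QCohStalk Groth.Agent.Lib.AssPush Groth.Agent.Lib.H90OXModPush

variable {X : Scheme.{u}}

attribute [local instance] CategoryTheory.Abelian.hasFiniteBiproducts

/-- A morphism of `O_X`-modules which is injective on all sections is a monomorphism. -/
theorem mono_of_injective_app {M N : X.Modules} (φ : M ⟶ N)
    (h : ∀ U : X.Opens, Function.Injective (φ.app U)) : Mono φ := by
  refine ⟨fun {K} ψ₁ ψ₂ hψ => ?_⟩
  apply Scheme.Modules.hom_ext
  intro U
  ext x
  apply h U
  have := congrArg (fun χ => (Scheme.Modules.Hom.app χ U) x) hψ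
  simpa using this

lemma hom_app_res {M N : X.Modules} (φ : M ⟶ N) {V U : X.Opens} (h : V ≤ U) (s : Γ(M, U)) :
    φ.app V (res M h s) = res N h (φ.app U s) := by
  have := ConcreteCategory.congr_hom (φ.mapPresheaf.naturality (homOfLE h).op) s
  rw [ConcreteCategory.comp_apply, ConcreteCategory.comp_apply] at this
  exact this

lemma sum_app {ι : Type*} {M N : X.Modules} (s : Finset ι) (φ : ι → (M ⟶ N)) (U : X.Opens)
    (x : Γ(M, U)) : (∑ i ∈ s, φ i).app U x = ∑ i ∈ s, (φ i).app U x := by
  classical
  induction s using Finset.induction_on with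
  | empty => simp
  | insert a s ha ih =>
    rw [Finset.sum_insert ha, Finset.sum_insert ha, Scheme.Modules.Hom.add_app, ← ih]
    rfl

variable {ι : Type} [Fintype ι] (P : ι → X.Modules)

lemma biproduct_decomp (U : X.Opens) (x : Γ(⨁ P, U)) :
    x = ∑ i, (biproduct.ι P i).app U ((biproduct.π P i).app U x) := by
  classical
  have h := congrArg (fun χ => (Scheme.Modules.Hom.app χ U) x) (biproduct.total (f := P))
  simp only [Scheme.Modules.Hom.id_app] at h
  rw [sum_app] at h
  exact h.symm

lemma res_sum' (F : X.Modules) {V U : X.Opens} (h : V ≤ U) {κ : Type*} (t : Finset κ)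
    (g : κ → Γ(F, U)) : res F h (∑ i ∈ t, g i) = ∑ i ∈ t, res F h (g i) :=
  map_sum (ConcreteCategory.hom (F.presheaf.map (homOfLE h).op)) g t

lemma app_sum' {M N : X.Modules} (φ : M ⟶ N) (U : X.Opens) {κ : Type*} (t : Finset κ)
    (g : κ → Γ(M, U)) : φ.app U (∑ i ∈ t, g i) = ∑ i ∈ t, φ.app U (g i) :=
  map_sum (ConcreteCategory.hom (φ.app U)) g t

lemma app_zero' {M N : X.Modules} (φ : M ⟶ N) (U : X.Opens) : φ.app U (0 : Γ(M, U)) = 0 :=
  map_zero (ConcreteCategory.hom (φ.app U))

theorem isLocalizingOn_biproduct (U : X.Opens) (h : ∀ i, IsLocalizingOn (P i) U) :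
    IsLocalizingOn (⨁ P) U := by
  classical
  constructor
  · intro f t
    choose n s hs using fun i => (h i).surj f ((biproduct.π P i).app _ t)
    have hle : ∀ i, n i ≤ ∑ j, n j := fun i =>
      Finset.single_le_sum (fun _ _ => Nat.zero_le _) (Finset.mem_univ i)
    refine ⟨∑ j, n j, ∑ i, (biproduct.ι P i).app U (f ^ ((∑ j, n j) - n i) • s i), ?_⟩
    rw [res_sum']
    conv_lhs => rw [biproduct_decomp P _ t, Finset.smul_sum]
    refine Finset.sum_congr rfl fun i _ => ?_
    rw [← hom_app_res, res_smul, ← hs i, resO_pow, ← Scheme.Modules.Hom.app_smul, smul_smul,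
      ← pow_add, Nat.sub_add_cancel (hle i)]
  · intro f s hs
    have h0 : ∀ i, res (P i) (X.basicOpen_le f) ((biproduct.π P i).app U s) = 0 := fun i => by
      rw [← hom_app_res, hs, app_zero']
    choose n hn using fun i => (h i).inj f ((biproduct.π P i).app U s) (h0 i)
    have hle : ∀ i, n i ≤ ∑ j, n j := fun i =>
      Finset.single_le_sum (fun _ _ => Nat.zero_le _) (Finset.mem_univ i)
    refine ⟨∑ j, n j, ?_⟩
    rw [biproduct_decomp P U s, Finset.smul_sum]
    refine Finset.sum_eq_zero fun i _ => ?_
    rw [← Scheme.Modules.Hom.app_smul]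
    have : f ^ (∑ j, n j) • (biproduct.π P i).app U s = 0 := by
      obtain ⟨k, hk⟩ := Nat.exists_eq_add_of_le (hle i)
      rw [hk, pow_add, mul_comm, mul_smul, hn i, smul_zero]
    rw [this, app_zero']

/-- A finite direct sum of quasi-coherent modules is quasi-coherent. -/
theorem isQuasicoherent_biproduct (h : ∀ i, (P i).IsQuasicoherent) : (⨁ P).IsQuasicoherent :=
  (isQuasicoherent_iff_forall_isLocalizingOn _).mpr fun U =>
    isLocalizingOn_biproduct P U.1 fun i =>
      haveI := h i
      isLocalizingOn_of_isQuasicoherent (P i) U.2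

/-- The underlying abelian sheaf, as a functor on `X.Modules`. -/
noncomputable abbrev toAbF (X : Scheme.{u}) :
    X.Modules ⥤ Sheaf (Opens.grothendieckTopology X) AddCommGrpCat.{u} :=
  SheafOfModules.toSheaf X.ringCatSheaf

instance (X : Scheme.{u}) : (toAbF X).Additive :=
  inferInstanceAs (SheafOfModules.toSheaf X.ringCatSheaf).Additive

/-- Cohomology of a finite direct sum vanishes if it vanishes for every summand. -/
theorem subsingleton_HH_biproduct (p : ℕ) (h : ∀ i, Subsingleton (Coh.HH X (P i) p)) :
    Subsingleton (Coh.HH X (⨁ P) p) := by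
  have hb : ((toAbF X).mapBicone (biproduct.bicone P)).IsBilimit :=
    isBilimitOfPreserves _ (biproduct.isBilimit P)
  let e := Abelian.Ext.addEquivBiproduct
    ((constantSheaf (Opens.grothendieckTopology X) AddCommGrpCat.{u}).obj
      (AddCommGrpCat.of (ULift ℤ))) hb p
  have : ∀ i, Subsingleton (Abelian.Ext
      ((constantSheaf (Opens.grothendieckTopology X) AddCommGrpCat.{u}).obj
        (AddCommGrpCat.of (ULift ℤ)))
      (((toAbF X).obj ∘ P) i) p) := h
  exact e.toEquiv.subsingleton

end Groth.Agent.Lib.QCohBiproduct
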