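/-
helper90: dévissage keystone, part 4: the atom. A nonzero coherent module `N` on a Noetherian scheme contains a
sub-module isomorphic to `i_* I` with `i : Z ⟶ X` an integral closed subscheme and `I ⊆ O_Z` a nonzero
quasi-coherent ideal.
-/
import Mathlib
import Groth.Agent.Lib.H90DevTors
import Groth.Agent.Lib.H90ClosedUnit
import Groth.Agent.Lib.ReducedSubscheme
import Groth.Agent.Lib.StructureModule
import Groth.Agent.Lib.H90QCohLimits
import Groth.Agent.Lib.QCohBiproduct

set_option autoImplicit false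
universe u

open CategoryTheory CategoryTheory.Limits AlgebraicGeometry TopologicalSpace Opposite

namespace Groth.Agent.Lib.H90DevAtom

open Groth.Agent.Lib.QCohStalk Groth.Agent.Lib.AssPush Groth.Agent.Lib.H90OXModQcqs
  Groth.Agent.Lib.H90OXModSections Groth.Agent.Lib.H90OXModExt Groth.Agent.Lib.H90SubSh
  Groth.Agent.Lib.H90DevSub Groth.Agent.Lib.H90DevMin Groth.Agent.Lib.H90DevTors

variable {X : Scheme.{u}}

section Biprod

variable (A B : X.Modules)

theorem biprod_decomp (V : X.Opens) (x : Γ(A ⊞ B, V)) :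
    x = (biprod.inl : A ⟶ A ⊞ B).app V ((biprod.fst : A ⊞ B ⟶ A).app V x) +
      (biprod.inr : B ⟶ A ⊞ B).app V ((biprod.snd : A ⊞ B ⟶ B).app V x) := by
  have h := congrArg (fun χ => (Scheme.Modules.Hom.app χ V) x) (biprod.total (X := A) (Y := B))
  simp only [Scheme.Modules.Hom.id_app, Scheme.Modules.Hom.add_app] at h
  exact h.symm

theorem biprod_eq_zero (V : X.Opens) (x : Γ(A ⊞ B, V))
    (h1 : (biprod.fst : A ⊞ B ⟶ A).app V x = 0) (h2 : (biprod.snd : A ⊞ B ⟶ B).app V x = 0) :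
    x = 0 := by
  rw [biprod_decomp A B V x, h1, h2]
  rw [map_zero, map_zero, add_zero]

theorem fst_mk (V : X.Opens) (a : Γ(A, V)) (b : Γ(B, V)) :
    (biprod.fst : A ⊞ B ⟶ A).app V ((biprod.inl : A ⟶ A ⊞ B).app V a +
      (biprod.inr : B ⟶ A ⊞ B).app V b) = a := by
  rw [map_add]
  have h1 := congrArg (fun χ => (Scheme.Modules.Hom.app χ V) a) (biprod.inl_fst (X := A) (Y := B))
  have h2 := congrArg (fun χ => (Scheme.Modules.Hom.app χ V) b) (biprod.inr_fst (X := A) (Y := B))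
  simp only [Scheme.Modules.Hom.id_app, Scheme.Modules.Hom.comp_app] at h1 h2
  change (biprod.fst : A ⊞ B ⟶ A).app V ((biprod.inl : A ⟶ A ⊞ B).app V a) +
    (biprod.fst : A ⊞ B ⟶ A).app V ((biprod.inr : B ⟶ A ⊞ B).app V b) = a
  erw [h1, h2]
  simp

theorem snd_mk (V : X.Opens) (a : Γ(A, V)) (b : Γ(B, V)) :
    (biprod.snd : A ⊞ B ⟶ B).app V ((biprod.inl : A ⟶ A ⊞ B).app V a +
      (biprod.inr : B ⟶ A ⊞ B).app V b) = b := by
  rw [map_add]
  have h1 := congrArg (fun χ => (Scheme.Modules.Hom.app χ V) a) (biprod.inl_snd (X := A) (Y := B))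
  have h2 := congrArg (fun χ => (Scheme.Modules.Hom.app χ V) b) (biprod.inr_snd (X := A) (Y := B))
  simp only [Scheme.Modules.Hom.id_app, Scheme.Modules.Hom.comp_app] at h1 h2
  change (biprod.snd : A ⊞ B ⟶ B).app V ((biprod.inl : A ⟶ A ⊞ B).app V a) +
    (biprod.snd : A ⊞ B ⟶ B).app V ((biprod.inr : B ⟶ A ⊞ B).app V b) = b
  erw [h1, h2]
  simp

end Biprod

section OZ

open Groth.Agent.Lib.StructureModule

variable {Z : Scheme.{u}} (i : Z ⟶ X)

/-- the pushforward of the structure sheaf -/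
noncomputable abbrev OZ : X.Modules := (Scheme.Modules.pushforward i).obj (Coh.structureModule Z)

/-- sections of `i_* O_Z` over `V` from functions on `i⁻¹V` -/
noncomputable def ofFun (V : X.Opens) (w : Γ(Z, i ⁻¹ᵁ V)) : Γ(OZ i, V) := toSec (i ⁻¹ᵁ V) w

theorem ofFun_surjective (V : X.Opens) : Function.Surjective (ofFun i V) := fun w => ⟨w, rfl⟩

theorem ofFun_injective (V : X.Opens) : Function.Injective (ofFun i V) := fun _ _ h => h

theorem smul_ofFun (V : X.Opens) (r : Γ(X, V)) (w : Γ(Z, i ⁻¹ᵁ V)) :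
    r • ofFun i V w = ofFun i V ((i.app V).hom r * w) := rfl

theorem res_ofFun {V' V : X.Opens} (h : V' ≤ V) (w : Γ(Z, i ⁻¹ᵁ V)) :
    res (OZ i) h (ofFun i V w) = ofFun i V' (resO Z (i.preimage_mono h) w) := rfl

theorem ofFun_zero (V : X.Opens) : ofFun i V 0 = 0 := rfl

theorem eq_zero_of_res_eq_zero [IsIntegral Z] {V U : X.Opens} (hU : (i ⁻¹ᵁ U : Set Z).Nonempty)
    (w : Γ(OZ i, V)) (h : res (OZ i) (inf_le_left : V ⊓ U ≤ V) w = 0) : w = 0 := by
  obtain ⟨w', rfl⟩ := ofFun_surjective i V w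
  rw [res_ofFun] at h
  have h' : resO Z (i.preimage_mono (inf_le_left : V ⊓ U ≤ V)) w' = 0 := ofFun_injective i _ h
  by_cases hV : (i ⁻¹ᵁ V : Set Z).Nonempty
  · have hne : ((i ⁻¹ᵁ (V ⊓ U) : Z.Opens) : Set Z).Nonempty := by
      have := nonempty_preirreducible_inter (i ⁻¹ᵁ V).isOpen (i ⁻¹ᵁ U).isOpen hV hU
      obtain ⟨z, hz1, hz2⟩ := this
      exact ⟨z, hz1, hz2⟩
    obtain ⟨z, hz⟩ := hne
    have hinj := map_injective_of_isIntegral (X := Z) (U := i ⁻¹ᵁ (V ⊓ U)) (V := i ⁻¹ᵁ V)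
      (homOfLE (i.preimage_mono (inf_le_left : V ⊓ U ≤ V))) (H := ⟨⟨z, hz⟩⟩)
    have : w' = 0 := hinj (h'.trans (map_zero _).symm)
    rw [this]
    rfl
  · rw [Set.not_nonempty_iff_eq_empty] at hV
    have hle : i ⁻¹ᵁ V ≤ ⊥ := fun x hx => by
      have : x ∈ (i ⁻¹ᵁ V : Set Z) := hx
      rw [hV] at this
      exact this
    exact eq_zero_of_le_bot (F := Coh.structureModule Z) hle _

theorem smul_res_one_eq_zero_iff {U D : X.Opens} (h : D ≤ U) (a : Γ(X, D)) :
    a • res (OZ i) h (ofFun i U 1) = 0 ↔ (i.app D).hom a = 0 := by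
  rw [res_ofFun]
  have h1 : resO Z (i.preimage_mono h) (1 : Γ(Z, i ⁻¹ᵁ U)) = 1 := map_one _
  rw [h1, smul_ofFun, mul_one]
  exact ⟨fun h => ofFun_injective i D h, fun h => by rw [h]; rfl⟩

end OZ

section Gen

variable {F : X.Modules}

theorem spanRes_span_singleton_le {U : X.Opens} (e : Γ(F, U)) {V'' : X.Opens} (h2 : V'' ≤ U) :
    SubSh.spanRes (Submodule.span Γ(X, U) {e}) h2 ≤ Submodule.span Γ(X, V'') {res F h2 e} := by
  apply Submodule.span_le.mpr
  rintro _ ⟨z, hz, rfl⟩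
  obtain ⟨c, rfl⟩ := Submodule.mem_span_singleton.mp hz
  rw [SetLike.mem_coe, res_smul]
  exact Submodule.smul_mem _ _ (Submodule.mem_span_singleton_self _)

/-- Local structure of the sub-module generated by one section. -/
theorem exists_local_smul_of_mem_gen {U : X.Opens} (e : Γ(F, U)) {V : X.Opens} {x : Γ(F, V)}
    (hx : x ∈ (SubSh.gen (Submodule.span Γ(X, U) {e})).obj V) {y : X} (hy : y ∈ V ⊓ U) :
    ∃ (D : X.Opens) (_ : IsAffineOpen D) (hDV : D ≤ V) (hDU : D ≤ U), y ∈ D ∧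
      ∃ a : Γ(X, D), res F hDV x = a • res F hDU e := by
  obtain ⟨V'', h1, h2, hyV'', hmem⟩ := (SubSh.mem_gen_iff _ V x).mp hx y hy
  obtain ⟨a'', ha''⟩ := Submodule.mem_span_singleton.mp (spanRes_span_singleton_le e h2 hmem)
  obtain ⟨D, hD, hyD, hDle⟩ := Opens.isBasis_iff_nbhd.mp X.isBasis_affineOpens (U := V'') (x := y) hyV''
  refine ⟨D, hD, hDle.trans h1, hDle.trans h2, hyD, resO X hDle a'', ?_⟩
  rw [← res_res F hDle h1, ← ha'', res_smul, res_res]

end Gen

theorem isIntegral_subscheme (Z : Closeds X) (hZ : IsIrreducible (Z : Set X)) :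
    IsIntegral (Scheme.IdealSheafData.vanishingIdeal Z).subscheme := by
  haveI := Groth.Agent.Lib.ReducedSubscheme.isReduced_subscheme_vanishingIdeal Z
  haveI : IrreducibleSpace (Scheme.IdealSheafData.vanishingIdeal Z).subscheme := by
    have hr : Set.range (Scheme.IdealSheafData.vanishingIdeal Z).subschemeι = (Z : Set X) := by
      rw [Scheme.IdealSheafData.range_subschemeι, Scheme.IdealSheafData.coe_support_vanishingIdeal]
    have e := (Scheme.IdealSheafData.vanishingIdeal Z).subschemeι.isEmbedding.toHomeomorph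
    rw [e.irreducibleSpace_iff]
    rw [← hr] at hZ
    exact Subtype.irreducibleSpace hZ
  exact isIntegral_of_irreducibleSpace_of_isReduced _

section Closed

variable {Z : Scheme.{u}} (i : Z ⟶ X) [IsClosedImmersion i]

/-- Pushforward along a closed immersion reflects monomorphisms. -/
theorem mono_of_mono_pushforward {A B : Z.Modules} (f : A ⟶ B)
    (h : Mono ((Scheme.Modules.pushforward i).map f)) : Mono f := by
  apply Groth.Agent.Lib.QCohBiproduct.mono_of_injective_app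
  intro W
  obtain ⟨t, ht, htW⟩ := i.isEmbedding.isInducing.isOpen_iff.mp W.2
  obtain rfl : i ⁻¹ᵁ (⟨t, ht⟩ : X.Opens) = W := Opens.ext htW
  exact injective_appLin_of_mono ((Scheme.Modules.pushforward i).map f) ⟨t, ht⟩

set_option backward.isDefEq.respectTransparency false in
/-- A quasi-coherent sub-module of `i_* O_Z` is `i_*` of a quasi-coherent ideal of `O_Z`. -/
theorem exists_ideal_of_mono (G : X.Modules) [G.IsQuasicoherent] (p : G ⟶ OZ i) [Mono p] :
    ∃ (I : Z.Modules) (ι : I ⟶ Coh.structureModule Z), Mono ι ∧ Coh.IsQCoh I ∧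
      Nonempty (G ≅ (Coh.push i).obj I) := by
  let adj := Scheme.Modules.pullbackPushforwardAdjunction i
  have hunit : IsIso (adj.unit.app G) := by
    rw [Groth.Agent.Lib.H90ClosedUnit.isIso_unit_iff]
    intro D a ha g
    apply injective_appLin_of_mono p D.1
    rw [_root_.map_smul, map_zero]
    obtain ⟨w, hw⟩ := ofFun_surjective i D.1 (appLin p D.1 g)
    rw [← hw, smul_ofFun]
    rw [Scheme.Hom.ker_apply, RingHom.mem_ker] at ha
    rw [ha, zero_mul]
    rfl
  let I : Z.Modules := (Scheme.Modules.pullback i).obj G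
  let ι : I ⟶ Coh.structureModule Z := (adj.homEquiv G (Coh.structureModule Z)).symm p
  have hp : adj.unit.app G ≫ (Scheme.Modules.pushforward i).map ι = p := by
    have h1 := adj.homEquiv_unit (X := G) (Y := Coh.structureModule Z) (f := ι)
    rw [← h1]
    exact (adj.homEquiv G (Coh.structureModule Z)).apply_symm_apply p
  have hm : Mono ((Scheme.Modules.pushforward i).map ι) := by
    have : (Scheme.Modules.pushforward i).map ι = inv (adj.unit.app G) ≫ p := by
      rw [IsIso.eq_inv_comp]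
      exact hp
    rw [this]
    infer_instance
  refine ⟨I, ι, mono_of_mono_pushforward i ι hm, ?_, ⟨asIso (adj.unit.app G)⟩⟩
  exact (inferInstance : ((Scheme.Modules.pullback i).obj G).IsQuasicoherent)

end Closed

section Main

variable [AlgebraicGeometry.IsNoetherian X] {N : X.Modules} (d : MinData' N)

/-- the vanishing ideal of the support -/
noncomputable abbrev J : X.IdealSheafData := Scheme.IdealSheafData.vanishingIdeal d.Z

/-- the reduced closed subscheme on the support -/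
noncomputable abbrev ii : (J d).subscheme ⟶ X := (J d).subschemeι

/-- the minimal-support sub-module as a module -/
noncomputable abbrev N1 : X.Modules := d.T.toModules

omit [AlgebraicGeometry.IsNoetherian X] in
theorem ι_mem (V : X.Opens) (n : Γ(N1 d, V)) : d.T.ι.app V n ∈ d.T.obj V :=
  (d.T.mem_range_ι V _).mp ⟨n, rfl⟩

omit [AlgebraicGeometry.IsNoetherian X] in
theorem ι_injective (V : X.Opens) : Function.Injective (d.T.ι.app V) :=
  injective_appLin_of_mono d.T.ι V

omit [AlgebraicGeometry.IsNoetherian X] in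
/-- sections of `N1` vanishing off a closed set not containing the support are zero -/
theorem eq_zero_of_vanishOn (W' : Closeds X) (hW' : ¬ d.Z ≤ W') {V : X.Opens} (n : Γ(N1 d, V))
    (h : ∀ (V' : X.Opens) (hV' : V' ≤ V), V' ≤ W'.compl → res (N1 d) hV' n = 0) : n = 0 := by
  apply ι_injective d V
  rw [map_zero]
  apply d.tf W' hW' V _ (ι_mem d V n)
  rw [mem_vanishOn_iff_forall]
  intro V' hV' hO
  rw [← app_res, h V' hV' hO, map_zero]

omit [AlgebraicGeometry.IsNoetherian X] in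
/-- sections of `N1` are killed by the vanishing ideal -/
theorem smul_eq_zero_of_mem_J {D : X.Opens} (hD : IsAffineOpen D) (n : Γ(N1 d, D)) {a : Γ(X, D)}
    (ha : a ∈ (J d).ideal ⟨D, hD⟩) : a • n = 0 := by
  apply ι_injective d D
  rw [map_zero]
  have h1 : d.T.ι.app D (a • n) = a • d.T.ι.app D n := (appLin d.T.ι D).map_smul a n
  rw [h1]
  exact smul_eq_zero_of_mem_killedBy (J d) hD (d.killed D (ι_mem d D n)) ha

omit [AlgebraicGeometry.IsNoetherian X] in
/-- the support meets every open set carrying a nonzero section of `N1` -/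
theorem not_le_compl {U : X.Opens} {s : Γ(N1 d, U)} (hs : s ≠ 0) : ¬ d.Z ≤ U.compl := by
  intro hle
  apply hs
  apply ι_injective d U
  rw [map_zero]
  have h1 := d.supp U (ι_mem d U s)
  rw [mem_vanishOn_iff_forall] at h1
  have h2 := h1 U le_rfl (fun x hx hxZ => (hle hxZ) hx)
  rwa [res_self] at h2

omit [AlgebraicGeometry.IsNoetherian X] in
/-- the annihilator of a nonzero section of `N1` lies in the vanishing ideal -/
theorem mem_J_of_smul_eq_zero {U : X.Opens} {s : Γ(N1 d, U)} (hs : s ≠ 0) {D : X.Opens}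
    (hD : IsAffineOpen D) (hDU : D ≤ U) {a : Γ(X, D)} (ha : a • res (N1 d) hDU s = 0) :
    a ∈ (J d).ideal ⟨D, hD⟩ := by
  by_contra hcon
  rw [Scheme.IdealSheafData.vanishingIdeal_ideal, PrimeSpectrum.mem_vanishingIdeal] at hcon
  push Not at hcon
  obtain ⟨p, hpZ, hap⟩ := hcon
  have hz : hD.fromSpec p ∈ X.basicOpen a := by
    have : p ∈ hD.fromSpec ⁻¹ᵁ X.basicOpen a := by
      rw [hD.fromSpec_preimage_basicOpen]
      exact hap
    exact this
  apply hs
  apply eq_zero_of_vanishOn d (X.basicOpen a).compl (fun hle => (hle hpZ) hz) s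
  intro V' hV' hO
  rw [Opens.compl_compl] at hO
  have hBD : X.basicOpen a ≤ D := X.basicOpen_le a
  have h1 : resO X hBD a • res (N1 d) (hBD.trans hDU) s = 0 := by
    have := congrArg (res (N1 d) hBD) ha
    rwa [res_smul, res_res, res_zero] at this
  have h2 : res (N1 d) (hBD.trans hDU) s = 0 :=
    (Groth.Agent.Lib.AffVanSections.isUnit_resO_basicOpen a).smul_eq_zero.mp h1
  have h3 := congrArg (res (N1 d) hO) h2
  rwa [res_res, res_zero] at h3

/-- the ambient module `i_* O_Z ⊞ N1` -/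
noncomputable abbrev FF : X.Modules := OZ (ii d) ⊞ N1 d

/-- the generating section `(1, s)` -/
noncomputable def ee {U : X.Opens} (s : Γ(N1 d, U)) : Γ(FF d, U) :=
  (biprod.inl : OZ (ii d) ⟶ FF d).app U (ofFun (ii d) U 1) +
    (biprod.inr : N1 d ⟶ FF d).app U s

/-- the graph sub-module -/
noncomputable def Gr {U : X.Opens} (s : Γ(N1 d, U)) : SubSh (FF d) :=
  SubSh.gen (Submodule.span Γ(X, U) {ee d s})

omit [AlgebraicGeometry.IsNoetherian X] in
theorem fst_local {U : X.Opens} (s : Γ(N1 d, U)) {V D : X.Opens} (hDV : D ≤ V) (hDU : D ≤ U)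
    (x : Γ(FF d, V)) (a : Γ(X, D)) (hx : res (FF d) hDV x = a • res (FF d) hDU (ee d s)) :
    res (OZ (ii d)) hDV ((biprod.fst : FF d ⟶ OZ (ii d)).app V x) =
      a • res (OZ (ii d)) hDU (ofFun (ii d) U 1) := by
  rw [← app_res, hx]
  have h1 : (biprod.fst : FF d ⟶ OZ (ii d)).app D (a • res (FF d) hDU (ee d s)) =
      a • (biprod.fst : FF d ⟶ OZ (ii d)).app D (res (FF d) hDU (ee d s)) :=
    (appLin (biprod.fst : FF d ⟶ OZ (ii d)) D).map_smul a _
  rw [h1, app_res]
  congr 2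
  exact fst_mk _ _ U _ _

omit [AlgebraicGeometry.IsNoetherian X] in
theorem snd_local {U : X.Opens} (s : Γ(N1 d, U)) {V D : X.Opens} (hDV : D ≤ V) (hDU : D ≤ U)
    (x : Γ(FF d, V)) (a : Γ(X, D)) (hx : res (FF d) hDV x = a • res (FF d) hDU (ee d s)) :
    res (N1 d) hDV ((biprod.snd : FF d ⟶ N1 d).app V x) = a • res (N1 d) hDU s := by
  rw [← app_res, hx]
  have h1 : (biprod.snd : FF d ⟶ N1 d).app D (a • res (FF d) hDU (ee d s)) =
      a • (biprod.snd : FF d ⟶ N1 d).app D (res (FF d) hDU (ee d s)) :=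
    (appLin (biprod.snd : FF d ⟶ N1 d) D).map_smul a _
  rw [h1, app_res]
  congr 2
  exact snd_mk _ _ U _ _

omit [AlgebraicGeometry.IsNoetherian X] in
theorem mem_J_iff_smul_one {U D : X.Opens} (hD : IsAffineOpen D) (hDU : D ≤ U) (a : Γ(X, D)) :
    a • res (OZ (ii d)) hDU (ofFun (ii d) U 1) = 0 ↔ a ∈ (J d).ideal ⟨D, hD⟩ := by
  rw [smul_res_one_eq_zero_iff, ← Scheme.IdealSheafData.ker_subschemeι_app (J d) ⟨D, hD⟩,
    RingHom.mem_ker]

omit [AlgebraicGeometry.IsNoetherian X] in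
/-- (P1) on the graph, the first projection is injective. -/
theorem snd_eq_zero_of_fst_eq_zero {U : X.Opens} {s : Γ(N1 d, U)} (hs : s ≠ 0) {V : X.Opens}
    {x : Γ(FF d, V)} (hx : x ∈ (Gr d s).obj V)
    (h0 : (biprod.fst : FF d ⟶ OZ (ii d)).app V x = 0) :
    (biprod.snd : FF d ⟶ N1 d).app V x = 0 := by
  apply eq_zero_of_vanishOn d U.compl (not_le_compl d hs)
  intro V' hV' hO
  rw [Opens.compl_compl] at hO
  have hloc : ∀ y : V', ∃ (D : X.Opens) (_ : IsAffineOpen D) (hDV : D ≤ V) (hDU : D ≤ U), y.1 ∈ D ∧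
      ∃ a : Γ(X, D), res (FF d) hDV x = a • res (FF d) hDU (ee d s) :=
    fun y => exists_local_smul_of_mem_gen (ee d s) hx ⟨hV' y.2, hO y.2⟩
  choose D hD hDV hDU hyD a ha using hloc
  refine res_ext (N1 d) V' (fun y => D y ⊓ V') (fun y => inf_le_right)
    (fun y hy => Opens.mem_iSup.mpr ⟨⟨y, hy⟩, hyD ⟨y, hy⟩, hy⟩) _ 0 fun y => ?_
  rw [res_zero, res_res]
  have h1 := fst_local d s (hDV y) (hDU y) x (a y) (ha y)
  rw [h0, res_zero] at h1
  have haJ : a y ∈ (J d).ideal ⟨D y, hD y⟩ := (mem_J_iff_smul_one d (hD y) (hDU y) (a y)).mp h1.symm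
  have h2 := snd_local d s (hDV y) (hDU y) x (a y) (ha y)
  rw [smul_eq_zero_of_mem_J d (hD y) _ haJ] at h2
  have h3 := congrArg (res (N1 d) (inf_le_left : D y ⊓ V' ≤ D y)) h2
  rwa [res_res, res_zero] at h3

omit [AlgebraicGeometry.IsNoetherian X] in
/-- (P2) on the graph, the second projection is injective. -/
theorem fst_eq_zero_of_snd_eq_zero {U : X.Opens} {s : Γ(N1 d, U)} (hs : s ≠ 0) {V : X.Opens}
    {x : Γ(FF d, V)} (hx : x ∈ (Gr d s).obj V)
    (h0 : (biprod.snd : FF d ⟶ N1 d).app V x = 0) :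
    (biprod.fst : FF d ⟶ OZ (ii d)).app V x = 0 := by
  haveI := isIntegral_subscheme d.Z d.irr
  have hne : ((ii d) ⁻¹ᵁ U : Set (J d).subscheme).Nonempty := by
    have h1 := not_le_compl d hs
    obtain ⟨z, hzZ, hzU⟩ : ∃ z, z ∈ (d.Z : Set X) ∧ z ∈ U := by
      by_contra hcon
      push Not at hcon
      exact h1 (fun z hz hzU => hcon z hz hzU)
    have hr : Set.range (ii d) = (d.Z : Set X) := by
      rw [Scheme.IdealSheafData.range_subschemeι, Scheme.IdealSheafData.coe_support_vanishingIdeal]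
    rw [← hr] at hzZ
    obtain ⟨z', rfl⟩ := hzZ
    exact ⟨z', hzU⟩
  apply eq_zero_of_res_eq_zero (ii d) hne
  have hloc : ∀ y : (V ⊓ U : X.Opens), ∃ (D : X.Opens) (_ : IsAffineOpen D) (hDV : D ≤ V)
      (hDU : D ≤ U), y.1 ∈ D ∧
      ∃ a : Γ(X, D), res (FF d) hDV x = a • res (FF d) hDU (ee d s) :=
    fun y => exists_local_smul_of_mem_gen (ee d s) hx y.2
  choose D hD hDV hDU hyD a ha using hloc
  refine res_ext (OZ (ii d)) (V ⊓ U) D (fun y => le_inf (hDV y) (hDU y))
    (fun y hy => Opens.mem_iSup.mpr ⟨⟨y, hy⟩, hyD ⟨y, hy⟩⟩) _ 0 fun y => ?_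
  rw [res_zero, res_res]
  have h2 := snd_local d s (hDV y) (hDU y) x (a y) (ha y)
  rw [h0, res_zero] at h2
  have haJ : a y ∈ (J d).ideal ⟨D y, hD y⟩ := mem_J_of_smul_eq_zero d hs (hD y) (hDU y) h2.symm
  rw [fst_local d s (hDV y) (hDU y) x (a y) (ha y)]
  exact (mem_J_iff_smul_one d (hD y) (hDU y) (a y)).mpr haJ

end Main

/-- `G` is the direct image of a nonzero quasi-coherent ideal of an integral closed subscheme. -/
def IsAtom (G : X.Modules) : Prop :=
  ∃ (Z : Scheme.{u}) (i : Z ⟶ X), IsClosedImmersion i ∧ IsIntegral Z ∧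
    ∃ (I : Z.Modules) (ι : I ⟶ Coh.structureModule Z), Mono ι ∧ Coh.IsQCoh I ∧ ¬ IsZero I ∧
      Nonempty (G ≅ (Coh.push i).obj I)

theorem IsAtom.of_iso {G G' : X.Modules} (e : G ≅ G') (h : IsAtom G) : IsAtom G' := by
  obtain ⟨Z, i, h1, h2, I, ι, h3, h4, h5, ⟨e'⟩⟩ := h
  exact ⟨Z, i, h1, h2, I, ι, h3, h4, h5, ⟨e.symm ≪≫ e'⟩⟩

set_option backward.isDefEq.respectTransparency false in
/-- **Key lemma of dévissage**: a nonzero coherent module on a Noetherian scheme contains the direct image of a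
nonzero quasi-coherent ideal of an integral closed subscheme. -/
theorem exists_atom_sub [AlgebraicGeometry.IsNoetherian X] {N : X.Modules} (hN : Coh.IsCoh N)
    (hne : ¬ IsZero N) : ∃ (G : X.Modules) (g : G ⟶ N), Mono g ∧ IsAtom G := by
  haveI : N.IsQuasicoherent := hN.1
  obtain ⟨d⟩ := exists_minData' hne
  haveI : (N1 d).IsQuasicoherent := (isCoh_toModules_of_qc hN d.qc).1
  haveI : (Coh.structureModule (J d).subscheme).IsQuasicoherent :=
    Groth.Agent.Lib.StructureModule.isQuasicoherent_structureModule _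
  haveI : (OZ (ii d)).IsQuasicoherent :=
    Groth.Agent.Lib.H90OXModPush.isQuasicoherent_pushforward (ii d) _
  haveI : (FF d).IsQuasicoherent := Groth.Agent.Lib.H90QCohLimits.isQuasicoherent_biprod _ _
  -- a nonzero section of `N1` over an affine open
  obtain ⟨U, hU, s, hs⟩ : ∃ (U : X.Opens) (_ : IsAffineOpen U) (s : Γ(N1 d, U)), s ≠ 0 := by
    obtain ⟨V, t, ht, hne₀⟩ : ∃ (V : X.Opens) (t : Γ(N, V)), t ∈ d.T.obj V ∧ t ≠ 0 := by
      by_contra hcon
      push Not at hcon
      exact d.ne ((eq_bot_iff d.T).mpr hcon)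
    obtain ⟨D, hD, hDV, hne₁⟩ := exists_affine_res_ne_zero hne₀
    obtain ⟨g, hg⟩ := (d.T.mem_range_ι D _).mpr (d.T.res_mem hDV ht)
    refine ⟨D, hD, g, fun h0 => hne₁ ?_⟩
    rw [← hg, h0, map_zero]
  let Γ := Gr d s
  have hqc : QC Γ := qc_gen hU _
  haveI : Γ.toModules.IsQuasicoherent :=
    Γ.isQuasicoherent_toModules (fun V : X.affineOpens => V.1)
      (AlgebraicGeometry.iSup_affineOpens_eq_top X) (fun V => V.2) (fun V => hqc V.1 V.2)
  let p : Γ.toModules ⟶ OZ (ii d) := Γ.ι ≫ biprod.fst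
  let q : Γ.toModules ⟶ N1 d := Γ.ι ≫ biprod.snd
  have hmem : ∀ (V : X.Opens) (g : Γ(Γ.toModules, V)), Γ.ι.app V g ∈ Γ.obj V :=
    fun V g => (Γ.mem_range_ι V _).mp ⟨g, rfl⟩
  haveI hp : Mono p := by
    apply Groth.Agent.Lib.QCohBiproduct.mono_of_injective_app
    intro V
    change Function.Injective (appLin p V)
    rw [injective_iff_map_eq_zero (appLin p V)]
    intro g hg
    apply injective_appLin_of_mono Γ.ι V
    rw [map_zero]
    have h1 : (biprod.fst : FF d ⟶ OZ (ii d)).app V (Γ.ι.app V g) = 0 := hg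
    exact biprod_eq_zero _ _ V _ h1 (snd_eq_zero_of_fst_eq_zero d hs (hmem V g) h1)
  haveI hq : Mono q := by
    apply Groth.Agent.Lib.QCohBiproduct.mono_of_injective_app
    intro V
    change Function.Injective (appLin q V)
    rw [injective_iff_map_eq_zero (appLin q V)]
    intro g hg
    apply injective_appLin_of_mono Γ.ι V
    rw [map_zero]
    have h1 : (biprod.snd : FF d ⟶ N1 d).app V (Γ.ι.app V g) = 0 := hg
    exact biprod_eq_zero _ _ V _ (fst_eq_zero_of_snd_eq_zero d hs (hmem V g) h1) h1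
  obtain ⟨I, ι, hι, hI, ⟨e⟩⟩ := exists_ideal_of_mono (ii d) Γ.toModules p
  refine ⟨Γ.toModules, q ≫ d.T.ι, mono_comp _ _, (J d).subscheme, ii d, inferInstance,
    isIntegral_subscheme d.Z d.irr, I, ι, hι, hI, ?_, ⟨e⟩⟩
  -- `I` is nonzero since the graph contains the nonzero section `(1, s)`
  intro hI0
  have hG0 : IsZero Γ.toModules :=
    ((Scheme.Modules.pushforward (ii d)).map_isZero hI0).of_iso e
  obtain ⟨g, hg⟩ := (Γ.mem_range_ι U (ee d s)).mpr
    (SubSh.le_gen _ (Submodule.mem_span_singleton_self _))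
  apply hs
  have hg0 : g = 0 := by
    have := hG0.eq_of_src (𝟙 Γ.toModules) 0
    have h2 := congrArg (fun χ => (Scheme.Modules.Hom.app χ U) g) this
    simpa using h2
  have h3 : (biprod.snd : FF d ⟶ N1 d).app U (ee d s) = s := snd_mk _ _ U _ _
  rw [← h3, ← hg, hg0, map_zero, map_zero]

end Groth.Agent.Lib.H90DevAtom
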