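/-
helper90: dévissage keystone, part 5: the filtration of a coherent module on a Noetherian scheme with successive
quotients direct images of nonzero ideals of integral closed subschemes (Stacks 01YF).
-/
import Mathlib
import Groth.Agent.Lib.H90DevAtom
import Groth.Agent.Lib.H90OXModAffineIso
import Groth.Agent.Lib.H90OXModExact
import Groth.Agent.Lib.H90QCohLimits
import Groth.Agent.Lib.H90QCohLocalization
import Groth.Agent.Lib.H90CohRestrict

set_option autoImplicit false
universe u

open CategoryTheory CategoryTheory.Limits AlgebraicGeometry TopologicalSpace Opposite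

namespace Groth.Agent.Lib.H90DevFilt

open Groth.Agent.Lib.QCohStalk Groth.Agent.Lib.H90OXModSections Groth.Agent.Lib.H90OXModExt
  Groth.Agent.Lib.H90DevAtom

section Abelian

variable {C : Type*} [Category C] [Abelian C]

/-- The preimage of a subobject `G` of `M/A` in `M`, as an extension of `G` by `A`. -/
theorem nonempty_cokernel_lift_iso {A M G : C} (a : A ⟶ M) [Mono a] (g : G ⟶ cokernel a) :
    Nonempty (cokernel (pullback.lift (0 : A ⟶ G) a (by simp) : A ⟶ pullback g (cokernel.π a)) ≅ G) := by
  set f : A ⟶ pullback g (cokernel.π a) := pullback.lift (0 : A ⟶ G) a (by simp) with hf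
  have w : f ≫ pullback.fst g (cokernel.π a) = 0 := pullback.lift_fst _ _ _
  haveI : Epi (pullback.fst g (cokernel.π a)) := Abelian.epi_pullback_of_epi_g g (cokernel.π a)
  have hker : IsLimit (KernelFork.ofι a (cokernel.condition a)) :=
    Abelian.monoIsKernelOfCokernel (CokernelCofork.ofπ (cokernel.π a) (cokernel.condition a))
      (cokernelIsCokernel a)
  have hlim : IsLimit (KernelFork.ofι f w) := by
    refine KernelFork.IsLimit.ofι f w
      (fun {K} k hk => hker.lift (KernelFork.ofι (k ≫ pullback.snd g (cokernel.π a)) (by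
        rw [Category.assoc, ← pullback.condition, ← Category.assoc, hk, zero_comp])))
      (fun {K} k hk => ?_) (fun {K} k hk l hl => ?_)
    · have h1 : hker.lift (KernelFork.ofι (k ≫ pullback.snd g (cokernel.π a)) (by
          rw [Category.assoc, ← pullback.condition, ← Category.assoc, hk, zero_comp])) ≫ a =
          k ≫ pullback.snd g (cokernel.π a) := hker.fac _ WalkingParallelPair.zero
      apply pullback.hom_ext
      · rw [Category.assoc, w, comp_zero, hk]
      · rw [Category.assoc, hf, pullback.lift_snd, h1]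
    · have h1 : hker.lift (KernelFork.ofι (k ≫ pullback.snd g (cokernel.π a)) (by
          rw [Category.assoc, ← pullback.condition, ← Category.assoc, hk, zero_comp])) ≫ a =
          k ≫ pullback.snd g (cokernel.π a) := hker.fac _ WalkingParallelPair.zero
      rw [← cancel_mono a, h1, ← hl, Category.assoc, hf, pullback.lift_snd]
  have hcok := Abelian.epiIsCokernelOfKernel (KernelFork.ofι f w) hlim
  exact ⟨IsColimit.coconePointUniqueUpToIso (cokernelIsCokernel f) hcok⟩

end Abelian

variable {X : Scheme.{u}}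

/-- `M` has a finite filtration by coherent modules with atomic successive quotients. -/
def Good (M : X.Modules) : Prop :=
  ∃ (m : ℕ) (F : ℕ → X.Modules) (φ : (j : ℕ) → (F j ⟶ F (j + 1))),
    IsZero (F 0) ∧ Nonempty (F m ≅ M) ∧ (∀ j ≤ m, Coh.IsCoh (F j)) ∧
      ∀ j < m, Mono (φ j) ∧ IsAtom (cokernel (φ j))

theorem good_of_iso {M M' : X.Modules} (e : M ≅ M') (h : Good M) : Good M' := by
  obtain ⟨m, F, φ, h0, ⟨e'⟩, hc, hs⟩ := h
  exact ⟨m, F, φ, h0, ⟨e' ≪≫ e⟩, hc, hs⟩

theorem good_zero {M : X.Modules} (hM : IsZero M) (hc : Coh.IsCoh M) : Good M :=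
  ⟨0, fun _ => M, fun _ => 𝟙 M, hM, ⟨Iso.refl M⟩, fun _ _ => hc, fun j hj => absurd hj (Nat.not_lt_zero j)⟩

theorem isAtom_cokernel_cast {A' A B B' : X.Modules} (hA : A' = A) (hB : B = B') (g : A ⟶ B)
    (h : IsAtom (cokernel g)) : IsAtom (cokernel (eqToHom hA ≫ g ≫ eqToHom hB)) := by
  subst hA hB
  simpa using h

theorem isAtom_cokernel_iso_comp {A' A B : X.Modules} (e : A' ≅ A) (g : A ⟶ B)
    (h : IsAtom (cokernel g)) : IsAtom (cokernel (e.hom ≫ g)) :=
  h.of_iso (cokernel.mapIso (e.hom ≫ g) g e (Iso.refl B) (by simp)).symm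

theorem isCoh_cast {A A' : X.Modules} (h : A' = A) (hA : Coh.IsCoh A) : Coh.IsCoh A' := by
  subst h; exact hA

theorem step_aux {A B : X.Modules} (ψ g : A ⟶ B) (h : ψ = g) (hg : Mono g)
    (hat : IsAtom (cokernel g)) : Mono ψ ∧ IsAtom (cokernel ψ) := by
  subst h; exact ⟨hg, hat⟩

/-- Adding one more step on top of a good filtration. -/
theorem good_step {A B : X.Modules} (f : A ⟶ B) [Mono f] (hA : Good A) (hB : Coh.IsCoh B)
    (hat : IsAtom (cokernel f)) : Good B := by
  classical
  obtain ⟨m, F, φ, h0, ⟨e⟩, hc, hs⟩ := hA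
  let F' : ℕ → X.Modules := fun j => if j ≤ m then F j else B
  have hpos : ∀ j, j ≤ m → F' j = F j := fun j hj => if_pos hj
  have hneg : ∀ j, ¬ j ≤ m → F' j = B := fun j hj => if_neg hj
  let φ' : (j : ℕ) → (F' j ⟶ F' (j + 1)) := fun j =>
    if h : j < m then eqToHom (hpos j h.le) ≫ φ j ≫ eqToHom (hpos (j + 1) h).symm
    else if h2 : j = m then
      eqToHom ((hpos j h2.le).trans (congrArg F h2)) ≫ (e.hom ≫ f) ≫
        eqToHom (hneg (j + 1) (by omega)).symm
    else 0
  refine ⟨m + 1, F', φ', ?_, ?_, ?_, ?_⟩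
  · exact h0.of_iso (eqToIso (hpos 0 (Nat.zero_le m)))
  · exact ⟨eqToIso (hneg (m + 1) (by omega))⟩
  · intro j hj
    by_cases h : j ≤ m
    · exact isCoh_cast (hpos j h) (hc j h)
    · exact isCoh_cast (hneg j h) hB
  · intro j hj
    by_cases h : j < m
    · have e1 : φ' j = eqToHom (hpos j h.le) ≫ φ j ≫ eqToHom (hpos (j + 1) h).symm := dif_pos h
      haveI := (hs j h).1
      exact step_aux _ _ e1 inferInstance (isAtom_cokernel_cast _ _ _ (hs j h).2)
    · have h2 : j = m := by omega
      have e1 : φ' j = eqToHom ((hpos j h2.le).trans (congrArg F h2)) ≫ (e.hom ≫ f) ≫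
          eqToHom (hneg (j + 1) (by omega)).symm := by
        change dite _ _ _ = _
        rw [dif_neg h, dif_pos h2]
      exact step_aux _ _ e1 inferInstance
        (isAtom_cokernel_cast _ _ _ (isAtom_cokernel_iso_comp e f hat))

/-! ### Zero objects, atoms -/

theorem subsingleton_sections_of_isZero {N : X.Modules} (h : IsZero N) (V : X.Opens) :
    Subsingleton Γ(N, V) := by
  refine ⟨fun s t => ?_⟩
  have h0 := h.eq_of_src (𝟙 N) 0
  have hs := congrArg (fun χ => (Scheme.Modules.Hom.app χ V) s) h0
  have ht := congrArg (fun χ => (Scheme.Modules.Hom.app χ V) t) h0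
  have hs' : s = 0 := by simpa using hs
  have ht' : t = 0 := by simpa using ht
  rw [hs', ht']

/-- Pushforward along a closed immersion reflects zero objects. -/
theorem isZero_of_isZero_pushforward {Z : Scheme.{u}} (i : Z ⟶ X) [IsClosedImmersion i]
    {I : Z.Modules} (h : IsZero ((Scheme.Modules.pushforward i).obj I)) : IsZero I := by
  apply Groth.Agent.Lib.H90QCohLocalization.isZero_of_subsingleton_sections
  intro W
  obtain ⟨t, ht, htW⟩ := i.isEmbedding.isInducing.isOpen_iff.mp W.2
  obtain rfl : i ⁻¹ᵁ (⟨t, ht⟩ : X.Opens) = W := Opens.ext htW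
  exact subsingleton_sections_of_isZero h ⟨t, ht⟩

theorem not_isZero_of_isAtom {G : X.Modules} (h : IsAtom G) : ¬ IsZero G := by
  obtain ⟨Z, i, hi, _, I, ι, _, _, hI, ⟨e⟩⟩ := h
  intro hG
  exact hI (isZero_of_isZero_pushforward i (hG.of_iso e.symm))

theorem isQuasicoherent_of_isAtom {G : X.Modules} (h : IsAtom G) : G.IsQuasicoherent := by
  obtain ⟨Z, i, hi, _, I, ι, _, hI, _, ⟨e⟩⟩ := h
  haveI : I.IsQuasicoherent := hI
  haveI : ((Scheme.Modules.pushforward i).obj I).IsQuasicoherent :=
    Groth.Agent.Lib.H90OXModPush.isQuasicoherent_pushforward i I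
  exact Groth.Agent.Lib.H90CohRestrict.isQuasicoherent_of_iso e.symm

open Groth.Agent.Lib.H90OXModAffineFT in
/-- On a locally Noetherian scheme, a quasi-coherent submodule of a coherent module is coherent. -/
theorem isCoh_of_mono [IsLocallyNoetherian X] {A M : X.Modules} (a : A ⟶ M) [Mono a]
    [A.IsQuasicoherent] (hM : Coh.IsCoh M) : Coh.IsCoh A := by
  haveI : M.IsQuasicoherent := hM.1
  rw [isCoh_iff_forall_affine]
  refine ⟨inferInstance, fun U => ?_⟩
  haveI : IsNoetherianRing Γ(X, U.1) := IsLocallyNoetherian.component_noetherian U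
  haveI : Module.Finite Γ(X, U.1) Γ(M, U.1) :=
    Groth.Agent.Lib.CohFinite.finite_sections_of_isCoh M hM U.2
  haveI : _root_.IsNoetherian Γ(X, U.1) Γ(M, U.1) := isNoetherian_of_isNoetherianRing_of_finite _ _
  exact Module.Finite.of_injective (appLin a U.1) (injective_appLin_of_mono a U.1)

/-! ### The filtration -/

set_option backward.isDefEq.respectTransparency false in
/-- **Dévissage filtration** (Stacks 01YF): on a Noetherian scheme every coherent module has a finite filtration
with successive quotients direct images of nonzero quasi-coherent ideals of integral closed subschemes. -/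
theorem good_of_isCoh [AlgebraicGeometry.IsNoetherian X] {M : X.Modules} (hM : Coh.IsCoh M) :
    Good M := by
  classical
  haveI : M.IsQuasicoherent := hM.1
  -- a finite affine open cover
  obtain ⟨t, ht⟩ : ∃ t : Finset X.affineOpens, (Set.univ : Set X) ⊆ ⋃ V ∈ t, ((V : X.affineOpens).1 : Set X) := by
    refine isCompact_univ.elim_finite_subcover (fun V : X.affineOpens => (V.1 : Set X))
      (fun V => V.1.2) ?_
    intro x _
    have hx : x ∈ (⨆ V : X.affineOpens, V.1 : X.Opens) := by
      rw [AlgebraicGeometry.iSup_affineOpens_eq_top X]; trivial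
    obtain ⟨V, hV⟩ := Opens.mem_iSup.mp hx
    exact Set.mem_iUnion.mpr ⟨V, hV⟩
  let U : ↥t → X.Opens := fun k => k.1.1
  have hU : ⨆ k, U k = ⊤ := by
    rw [eq_top_iff]
    intro x _
    obtain ⟨V, hV⟩ := Set.mem_iUnion.mp (ht (Set.mem_univ x))
    obtain ⟨hVt, hxV⟩ := Set.mem_iUnion.mp hV
    exact Opens.mem_iSup.mpr ⟨⟨V, hVt⟩, hxV⟩
  have hA : ∀ k, IsAffineOpen (U k) := fun k => k.1.2
  haveI : ∀ k, IsNoetherianRing Γ(X, U k) := fun k => IsLocallyNoetherian.component_noetherian k.1
  haveI : ∀ k, Module.Finite Γ(X, U k) Γ(M, U k) := fun k =>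
    Groth.Agent.Lib.CohFinite.finite_sections_of_isCoh M hM (hA k)
  haveI : ∀ k, _root_.IsNoetherian Γ(X, U k) Γ(M, U k) := fun k =>
    isNoetherian_of_isNoetherianRing_of_finite _ _
  let S : Set (∀ k : ↥t, (Submodule Γ(X, U k) Γ(M, U k))ᵒᵈ) :=
    {b | ∃ (A : X.Modules) (a : A ⟶ M), Mono a ∧ Coh.IsCoh A ∧ Good A ∧
      ∀ k, b k = OrderDual.toDual (LinearMap.range (appLin a (U k)))}
  have hS : S.Nonempty := by
    refine ⟨_, kernel (𝟙 M), kernel.ι (𝟙 M), inferInstance, ?_, ?_, fun k => rfl⟩
    · exact Groth.Agent.Lib.H90OXModExact.isCoh_kernel (𝟙 M) hM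
    · exact good_zero (isZero_kernel_of_mono (𝟙 M))
        (Groth.Agent.Lib.H90OXModExact.isCoh_kernel (𝟙 M) hM)
  obtain ⟨b, ⟨A, a, ha, hAc, hAg, hb⟩, hmin⟩ := WellFounded.has_min wellFounded_lt S hS
  haveI := ha
  haveI : A.IsQuasicoherent := hAc.1
  by_cases hz : IsZero (cokernel a)
  · haveI : Epi a := Preadditive.epi_of_isZero_cokernel a hz
    haveI : IsIso a := isIso_of_mono_of_epi a
    exact good_of_iso (asIso a) hAg
  · exfalso
    have hQ : Coh.IsCoh (cokernel a) := Groth.Agent.Lib.H90OXModExact.isCoh_cokernel a hM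
    obtain ⟨G, g, hg, hG⟩ := exists_atom_sub hQ hz
    haveI := hg
    haveI : G.IsQuasicoherent := isQuasicoherent_of_isAtom hG
    haveI : (cokernel a).IsQuasicoherent := hQ.1
    let f : A ⟶ pullback g (cokernel.π a) := pullback.lift 0 a (by simp)
    let a' : pullback g (cokernel.π a) ⟶ M := pullback.snd g (cokernel.π a)
    haveI : Mono a' := inferInstance
    have hfa : f ≫ a' = a := pullback.lift_snd _ _ _
    haveI : Mono f := mono_of_mono_fac hfa
    haveI : (pullback g (cokernel.π a)).IsQuasicoherent :=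
      Groth.Agent.Lib.H90QCohLimits.isQuasicoherent_pullback _ _
    have hA'c : Coh.IsCoh (pullback g (cokernel.π a)) := isCoh_of_mono a' hM
    obtain ⟨e⟩ := nonempty_cokernel_lift_iso a g
    have hat : IsAtom (cokernel f) := hG.of_iso e.symm
    have hA'g : Good (pullback g (cokernel.π a)) := good_step f hAg hA'c hat
    have hle : ∀ k, LinearMap.range (appLin a (U k)) ≤ LinearMap.range (appLin a' (U k)) := by
      intro k
      rintro _ ⟨x, rfl⟩
      refine ⟨appLin f (U k) x, ?_⟩
      have h := congrArg (fun χ : A ⟶ M => (Scheme.Modules.Hom.app χ (U k)) x) hfa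
      simp only [Scheme.Modules.Hom.comp_app] at h
      exact h
    have hnlt := hmin (fun k => OrderDual.toDual (LinearMap.range (appLin a' (U k))))
      ⟨_, a', inferInstance, hA'c, hA'g, fun k => rfl⟩
    have hle' : (fun k => OrderDual.toDual (LinearMap.range (appLin a' (U k)))) ≤ b := by
      intro k
      rw [hb k]
      exact OrderDual.toDual_le_toDual.mpr (hle k)
    have heq : (fun k => OrderDual.toDual (LinearMap.range (appLin a' (U k)))) = b := by
      by_contra hne
      exact hnlt (lt_of_le_of_ne hle' hne)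
    have hbij : ∀ k, Function.Bijective (f.app (U k)) := by
      intro k
      refine ⟨injective_appLin_of_mono f (U k), fun y => ?_⟩
      have h1 : LinearMap.range (appLin a' (U k)) = LinearMap.range (appLin a (U k)) := by
        have h2 := congrFun heq k
        rw [hb k] at h2
        exact OrderDual.toDual.injective h2
      have h3 : appLin a' (U k) y ∈ LinearMap.range (appLin a (U k)) := by
        rw [← h1]; exact ⟨y, rfl⟩
      obtain ⟨x, hx⟩ := h3
      refine ⟨x, injective_appLin_of_mono a' (U k) ?_⟩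
      have h := congrArg (fun χ : A ⟶ M => (Scheme.Modules.Hom.app χ (U k)) x) hfa
      simp only [Scheme.Modules.Hom.comp_app] at h
      exact h.trans hx
    haveI : IsIso f :=
      Groth.Agent.Lib.H90OXModAffineIso.isIso_of_bijective_app_affine_cover f U hU hA hbij
    exact not_isZero_of_isAtom hat (isZero_cokernel_of_epi f)

end Groth.Agent.Lib.H90DevFilt
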