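/-
helper90: dévissage keystone, part 6: filtrations of coherent modules with successive quotients in an arbitrary class of
"atoms", as an inductive predicate (convenient for inductions), and the existence theorem.
-/
import Mathlib
import Groth.Agent.Lib.H90DevFilt

set_option autoImplicit false
universe u

open CategoryTheory CategoryTheory.Limits AlgebraicGeometry TopologicalSpace Opposite

namespace Groth.Agent.Lib.H90DevFiltP

open Groth.Agent.Lib.QCohStalk Groth.Agent.Lib.H90OXModSections Groth.Agent.Lib.H90OXModExt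
  Groth.Agent.Lib.H90DevAtom Groth.Agent.Lib.H90DevFilt

variable {X : Scheme.{u}}

/-- `M` is obtained from a zero module by finitely many extensions (on top) by modules in the class `At`, all the
intermediate modules being coherent. -/
inductive Filt (At : X.Modules → Prop) : X.Modules → Prop
  | zero (M : X.Modules) (h : IsZero M) : Filt At M
  | step (A B : X.Modules) (f : A ⟶ B) (hf : Mono f) (hA : Filt At A) (hAc : Coh.IsCoh A)
      (hB : Coh.IsCoh B) (hat : At (cokernel f)) : Filt At B

theorem Filt.of_iso {At : X.Modules → Prop}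
    (hiso : ∀ G G' : X.Modules, (G ≅ G') → At G → At G') {M M' : X.Modules} (e : M ≅ M')
    (h : Filt At M) : Filt At M' := by
  cases h with
  | zero _ h0 => exact Filt.zero _ (h0.of_iso e.symm)
  | step A _ f hf hA hAc hB hat =>
    haveI := hf
    refine Filt.step A M' (f ≫ e.hom) (mono_comp _ _) hA hAc
      (Groth.Agent.Lib.H90CohRestrict.isCoh_of_iso e hB) ?_
    exact hiso _ _ (cokernel.mapIso f (f ≫ e.hom) (Iso.refl A) e (by simp)) hat

set_option backward.isDefEq.respectTransparency false in
/-- **Dévissage filtration, general form**: if every nonzero coherent module contains a sub-module in the class `At`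
(of nonzero quasi-coherent modules, closed under isomorphism), then every coherent module on a Noetherian scheme is a
successive extension of modules in `At`. -/
theorem filt_of_isCoh [AlgebraicGeometry.IsNoetherian X] (At : X.Modules → Prop)
    (hiso : ∀ G G' : X.Modules, (G ≅ G') → At G → At G')
    (hnz : ∀ G : X.Modules, At G → ¬ IsZero G)
    (hqc : ∀ G : X.Modules, At G → G.IsQuasicoherent)
    (hex : ∀ N : X.Modules, Coh.IsCoh N → ¬ IsZero N →
      ∃ (G : X.Modules) (g : G ⟶ N), Mono g ∧ At G)
    {M : X.Modules} (hM : Coh.IsCoh M) : Filt At M := by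
  classical
  haveI : M.IsQuasicoherent := hM.1
  obtain ⟨t, ht⟩ : ∃ t : Finset X.affineOpens,
      (Set.univ : Set X) ⊆ ⋃ V ∈ t, ((V : X.affineOpens).1 : Set X) := by
    refine isCompact_univ.elim_finite_subcover (fun V : X.affineOpens => (V.1 : Set X))
      (fun V => V.1.2) ?_
    intro x _
    have hx : x ∈ (⨆ V : X.affineOpens, V.1 : X.Opens) := by
      rw [AlgebraicGeometry.iSup_affineOpens_eq_top X]; trivial
    obtain ⟨V, hV⟩ := Opens.mem_iSup.mp hx
    exact Set.mem_iUnion.mpr ⟨V, hV⟩
  let U : ↥t → X.Opens := fun k => k.1.1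
  have hU : ⨆ k, U k = ⊤ := by
    rw [eq_top_iff]
    intro x _
    obtain ⟨V, hV⟩ := Set.mem_iUnion.mp (ht (Set.mem_univ x))
    obtain ⟨hVt, hxV⟩ := Set.mem_iUnion.mp hV
    exact Opens.mem_iSup.mpr ⟨⟨V, hVt⟩, hxV⟩
  have hA : ∀ k, IsAffineOpen (U k) := fun k => k.1.2
  haveI : ∀ k, IsNoetherianRing Γ(X, U k) := fun k => IsLocallyNoetherian.component_noetherian k.1
  haveI : ∀ k, Module.Finite Γ(X, U k) Γ(M, U k) := fun k =>
    Groth.Agent.Lib.CohFinite.finite_sections_of_isCoh M hM (hA k)
  haveI : ∀ k, _root_.IsNoetherian Γ(X, U k) Γ(M, U k) := fun k =>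
    isNoetherian_of_isNoetherianRing_of_finite _ _
  let S : Set (∀ k : ↥t, (Submodule Γ(X, U k) Γ(M, U k))ᵒᵈ) :=
    {b | ∃ (A : X.Modules) (a : A ⟶ M), Mono a ∧ Coh.IsCoh A ∧ Filt At A ∧
      ∀ k, b k = OrderDual.toDual (LinearMap.range (appLin a (U k)))}
  have hS : S.Nonempty := by
    refine ⟨_, kernel (𝟙 M), kernel.ι (𝟙 M), inferInstance, ?_, ?_, fun k => rfl⟩
    · exact Groth.Agent.Lib.H90OXModExact.isCoh_kernel (𝟙 M) hM
    · exact Filt.zero _ (isZero_kernel_of_mono (𝟙 M))
  obtain ⟨b, ⟨A, a, ha, hAc, hAg, hb⟩, hmin⟩ := WellFounded.has_min wellFounded_lt S hS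
  haveI := ha
  haveI : A.IsQuasicoherent := hAc.1
  by_cases hz : IsZero (cokernel a)
  · haveI : Epi a := Preadditive.epi_of_isZero_cokernel a hz
    haveI : IsIso a := isIso_of_mono_of_epi a
    exact Filt.of_iso hiso (asIso a) hAg
  · exfalso
    have hQ : Coh.IsCoh (cokernel a) := Groth.Agent.Lib.H90OXModExact.isCoh_cokernel a hM
    obtain ⟨G, g, hg, hG⟩ := hex _ hQ hz
    haveI := hg
    haveI : G.IsQuasicoherent := hqc G hG
    haveI : (cokernel a).IsQuasicoherent := hQ.1
    let f : A ⟶ pullback g (cokernel.π a) := pullback.lift 0 a (by simp)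
    let a' : pullback g (cokernel.π a) ⟶ M := pullback.snd g (cokernel.π a)
    haveI : Mono a' := inferInstance
    have hfa : f ≫ a' = a := pullback.lift_snd _ _ _
    haveI : Mono f := mono_of_mono_fac hfa
    haveI : (pullback g (cokernel.π a)).IsQuasicoherent :=
      Groth.Agent.Lib.H90QCohLimits.isQuasicoherent_pullback _ _
    have hA'c : Coh.IsCoh (pullback g (cokernel.π a)) := isCoh_of_mono a' hM
    obtain ⟨e⟩ := nonempty_cokernel_lift_iso a g
    have hat : At (cokernel f) := hiso _ _ e.symm hG
    have hA'g : Filt At (pullback g (cokernel.π a)) :=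
      Filt.step A _ f inferInstance hAg hAc hA'c hat
    have hle : ∀ k, LinearMap.range (appLin a (U k)) ≤ LinearMap.range (appLin a' (U k)) := by
      intro k
      rintro _ ⟨x, rfl⟩
      refine ⟨appLin f (U k) x, ?_⟩
      have h := congrArg (fun χ : A ⟶ M => (Scheme.Modules.Hom.app χ (U k)) x) hfa
      simp only [Scheme.Modules.Hom.comp_app] at h
      exact h
    have hnlt := hmin (fun k => OrderDual.toDual (LinearMap.range (appLin a' (U k))))
      ⟨_, a', inferInstance, hA'c, hA'g, fun k => rfl⟩
    have hle' : (fun k => OrderDual.toDual (LinearMap.range (appLin a' (U k)))) ≤ b := by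
      intro k
      rw [hb k]
      exact OrderDual.toDual_le_toDual.mpr (hle k)
    have heq : (fun k => OrderDual.toDual (LinearMap.range (appLin a' (U k)))) = b := by
      by_contra hne
      exact hnlt (lt_of_le_of_ne hle' hne)
    have hbij : ∀ k, Function.Bijective (f.app (U k)) := by
      intro k
      refine ⟨injective_appLin_of_mono f (U k), fun y => ?_⟩
      have h1 : LinearMap.range (appLin a' (U k)) = LinearMap.range (appLin a (U k)) := by
        have h2 := congrFun heq k
        rw [hb k] at h2
        exact OrderDual.toDual.injective h2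
      have h3 : appLin a' (U k) y ∈ LinearMap.range (appLin a (U k)) := by
        rw [← h1]; exact ⟨y, rfl⟩
      obtain ⟨x, hx⟩ := h3
      refine ⟨x, injective_appLin_of_mono a' (U k) ?_⟩
      have h := congrArg (fun χ : A ⟶ M => (Scheme.Modules.Hom.app χ (U k)) x) hfa
      simp only [Scheme.Modules.Hom.comp_app] at h
      exact h.trans hx
    haveI : IsIso f :=
      Groth.Agent.Lib.H90OXModAffineIso.isIso_of_bijective_app_affine_cover f U hU hA hbij
    exact hnz _ hat (isZero_cokernel_of_epi f)

end Groth.Agent.Lib.H90DevFiltP
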