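/-
helper90: dévissage keystone, part 7: atoms on the *canonical* reduced closed subscheme of an irreducible closed
subset (`(vanishingIdeal Zc).subscheme`), and the filtration theorem with canonical atoms.
-/
import Mathlib
import Groth.Agent.Lib.H90DevFiltP

set_option autoImplicit false
universe u

open CategoryTheory CategoryTheory.Limits AlgebraicGeometry TopologicalSpace Opposite

namespace Groth.Agent.Lib.H90DevCanon

open Groth.Agent.Lib.QCohStalk Groth.Agent.Lib.AssPush Groth.Agent.Lib.H90OXModQcqs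
  Groth.Agent.Lib.H90OXModSections Groth.Agent.Lib.H90OXModExt Groth.Agent.Lib.H90SubSh
  Groth.Agent.Lib.H90DevSub Groth.Agent.Lib.H90DevMin Groth.Agent.Lib.H90DevTors
  Groth.Agent.Lib.H90DevAtom Groth.Agent.Lib.H90DevFilt Groth.Agent.Lib.H90DevFiltP

variable {X : Scheme.{u}}

/-- the reduced closed subscheme on a closed subset -/
noncomputable abbrev ZZ (Zc : Closeds X) : Scheme.{u} :=
  (Scheme.IdealSheafData.vanishingIdeal Zc).subscheme

/-- its closed immersion -/
noncomputable abbrev iZ (Zc : Closeds X) : ZZ Zc ⟶ X :=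
  (Scheme.IdealSheafData.vanishingIdeal Zc).subschemeι

/-- the structure sheaf of the reduced closed subscheme on `Zc`, as an `O_X`-module -/
noncomputable abbrev hub (Zc : Closeds X) : X.Modules := OZ (iZ Zc)

/-- `G` is the direct image of a nonzero quasi-coherent ideal of the reduced closed subscheme on the irreducible
closed subset `Zc`. -/
def IsAtomC (Zc : Closeds X) (G : X.Modules) : Prop :=
  IsIrreducible (Zc : Set X) ∧
    ∃ (I : (ZZ Zc).Modules) (ι : I ⟶ Coh.structureModule (ZZ Zc)), Mono ι ∧ Coh.IsQCoh I ∧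
      ¬ IsZero I ∧ Nonempty (G ≅ (Coh.push (iZ Zc)).obj I)

/-- `G` is a canonical atom on some irreducible closed subset. -/
def IsAtomC' (G : X.Modules) : Prop := ∃ Zc : Closeds X, IsAtomC Zc G

theorem IsAtomC.of_iso {Zc : Closeds X} {G G' : X.Modules} (e : G ≅ G') (h : IsAtomC Zc G) :
    IsAtomC Zc G' := by
  obtain ⟨hirr, I, ι, h1, h2, h3, ⟨e'⟩⟩ := h
  exact ⟨hirr, I, ι, h1, h2, h3, ⟨e.symm ≪≫ e'⟩⟩

theorem IsAtomC.isAtom {Zc : Closeds X} {G : X.Modules} (h : IsAtomC Zc G) : IsAtom G := by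
  obtain ⟨hirr, I, ι, h1, h2, h3, ⟨e'⟩⟩ := h
  exact ⟨ZZ Zc, iZ Zc, inferInstance, isIntegral_subscheme Zc hirr, I, ι, h1, h2, h3, ⟨e'⟩⟩

theorem IsAtomC'.of_iso {G G' : X.Modules} (e : G ≅ G') (h : IsAtomC' G) : IsAtomC' G' := by
  obtain ⟨Zc, h⟩ := h
  exact ⟨Zc, h.of_iso e⟩

theorem IsAtomC'.isAtom {G : X.Modules} (h : IsAtomC' G) : IsAtom G := by
  obtain ⟨Zc, h⟩ := h
  exact h.isAtom

/-- **Key lemma of dévissage, canonical form**: a nonzero coherent module on a Noetherian scheme contains the direct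
image of a nonzero quasi-coherent ideal of the reduced closed subscheme on an irreducible closed subset. -/
theorem exists_atomC_sub [AlgebraicGeometry.IsNoetherian X] {N : X.Modules} (hN : Coh.IsCoh N)
    (hne : ¬ IsZero N) : ∃ (G : X.Modules) (g : G ⟶ N), Mono g ∧ IsAtomC' G := by
  haveI : N.IsQuasicoherent := hN.1
  obtain ⟨d⟩ := exists_minData' hne
  haveI : (N1 d).IsQuasicoherent := (isCoh_toModules_of_qc hN d.qc).1
  haveI : (Coh.structureModule (J d).subscheme).IsQuasicoherent :=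
    Groth.Agent.Lib.StructureModule.isQuasicoherent_structureModule _
  haveI : (OZ (ii d)).IsQuasicoherent :=
    Groth.Agent.Lib.H90OXModPush.isQuasicoherent_pushforward (ii d) _
  haveI : (FF d).IsQuasicoherent := Groth.Agent.Lib.H90QCohLimits.isQuasicoherent_biprod _ _
  obtain ⟨U, hU, s, hs⟩ : ∃ (U : X.Opens) (_ : IsAffineOpen U) (s : Γ(N1 d, U)), s ≠ 0 := by
    obtain ⟨V, t, ht, hne₀⟩ : ∃ (V : X.Opens) (t : Γ(N, V)), t ∈ d.T.obj V ∧ t ≠ 0 := by
      by_contra hcon
      push Not at hcon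
      exact d.ne ((eq_bot_iff d.T).mpr hcon)
    obtain ⟨D, hD, hDV, hne₁⟩ := exists_affine_res_ne_zero hne₀
    obtain ⟨g, hg⟩ := (d.T.mem_range_ι D _).mpr (d.T.res_mem hDV ht)
    refine ⟨D, hD, g, fun h0 => hne₁ ?_⟩
    rw [← hg, h0, map_zero]
  let Γ := Gr d s
  have hqc : QC Γ := qc_gen hU _
  haveI : Γ.toModules.IsQuasicoherent :=
    Γ.isQuasicoherent_toModules (fun V : X.affineOpens => V.1)
      (AlgebraicGeometry.iSup_affineOpens_eq_top X) (fun V => V.2) (fun V => hqc V.1 V.2)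
  let p : Γ.toModules ⟶ OZ (ii d) := Γ.ι ≫ biprod.fst
  let q : Γ.toModules ⟶ N1 d := Γ.ι ≫ biprod.snd
  have hmem : ∀ (V : X.Opens) (g : Γ(Γ.toModules, V)), Γ.ι.app V g ∈ Γ.obj V :=
    fun V g => (Γ.mem_range_ι V _).mp ⟨g, rfl⟩
  haveI hp : Mono p := by
    apply Groth.Agent.Lib.QCohBiproduct.mono_of_injective_app
    intro V
    change Function.Injective (appLin p V)
    rw [injective_iff_map_eq_zero (appLin p V)]
    intro g hg
    apply injective_appLin_of_mono Γ.ι V
    rw [map_zero]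
    have h1 : (biprod.fst : FF d ⟶ OZ (ii d)).app V (Γ.ι.app V g) = 0 := hg
    exact biprod_eq_zero _ _ V _ h1 (snd_eq_zero_of_fst_eq_zero d hs (hmem V g) h1)
  haveI hq : Mono q := by
    apply Groth.Agent.Lib.QCohBiproduct.mono_of_injective_app
    intro V
    change Function.Injective (appLin q V)
    rw [injective_iff_map_eq_zero (appLin q V)]
    intro g hg
    apply injective_appLin_of_mono Γ.ι V
    rw [map_zero]
    have h1 : (biprod.snd : FF d ⟶ N1 d).app V (Γ.ι.app V g) = 0 := hg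
    exact biprod_eq_zero _ _ V _ (fst_eq_zero_of_snd_eq_zero d hs (hmem V g) h1) h1
  obtain ⟨I, ι, hι, hI, ⟨e⟩⟩ := exists_ideal_of_mono (ii d) Γ.toModules p
  refine ⟨Γ.toModules, q ≫ d.T.ι, mono_comp _ _, d.Z, d.irr, I, ι, hι, hI, ?_, ⟨e⟩⟩
  intro hI0
  have hG0 : IsZero Γ.toModules :=
    ((Scheme.Modules.pushforward (ii d)).map_isZero hI0).of_iso e
  obtain ⟨g, hg⟩ := (Γ.mem_range_ι U (ee d s)).mpr
    (SubSh.le_gen _ (Submodule.mem_span_singleton_self _))
  apply hs
  have hg0 : g = 0 := by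
    have := hG0.eq_of_src (𝟙 Γ.toModules) 0
    have h2 := congrArg (fun χ => (Scheme.Modules.Hom.app χ U) g) this
    simpa using h2
  have h3 : (biprod.snd : FF d ⟶ N1 d).app U (ee d s) = s := snd_mk _ _ U _ _
  rw [← h3, ← hg, hg0, map_zero, map_zero]

/-- **Dévissage filtration with canonical atoms.** -/
theorem filt_atomC_of_isCoh [AlgebraicGeometry.IsNoetherian X] {M : X.Modules}
    (hM : Coh.IsCoh M) : Filt IsAtomC' M :=
  filt_of_isCoh IsAtomC' (fun _ _ e h => h.of_iso e)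
    (fun _ h => not_isZero_of_isAtom h.isAtom) (fun _ h => isQuasicoherent_of_isAtom h.isAtom)
    (fun _ hN hne => exists_atomC_sub hN hne) hM

end Groth.Agent.Lib.H90DevCanon
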