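/-
helper90: dévissage keystone, part 8: the structure sheaf `i_* O_Z` of the reduced closed subscheme on an irreducible
closed subset `Zc` with generic point `ξ`: its stalk at `ξ` is a simple module over `O_{X,ξ}`, and every nonzero
sub-module of it has nonzero stalk at `ξ`.
-/
import Mathlib
import Groth.Agent.Lib.H90DevCanon
import Groth.Agent.Lib.ModStalkLin

set_option autoImplicit false
universe u

open CategoryTheory CategoryTheory.Limits AlgebraicGeometry TopologicalSpace Opposite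

namespace Groth.Agent.Lib.H90DevHub

open Groth.Agent.Lib.QCohStalk Groth.Agent.Lib.H90OXModSections Groth.Agent.Lib.H90OXModExt
  Groth.Agent.Lib.H90DevAtom Groth.Agent.Lib.H90DevFilt Groth.Agent.Lib.H90DevFiltP
  Groth.Agent.Lib.H90DevCanon Groth.Agent.Lib.ModStalkLin

/-- A nonzero cyclic module over a local ring killed by the maximal ideal is simple. -/
theorem isSimpleModule_of_cyclic_killed {R M : Type*} [CommRing R] [IsLocalRing R] [AddCommGroup M]
    [Module R M] (e : M) (he : e ≠ 0) (hc : ∀ w : M, ∃ c : R, w = c • e)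
    (hk : ∀ c ∈ IsLocalRing.maximalIdeal R, c • e = 0) : IsSimpleModule R M := by
  haveI : Nontrivial (Submodule R M) := by
    refine ⟨⟨⊥, ⊤, fun h => he ?_⟩⟩
    have : e ∈ (⊤ : Submodule R M) := Submodule.mem_top
    rw [← h] at this
    exact (Submodule.mem_bot R).mp this
  refine (isSimpleModule_iff R M).mpr { eq_bot_or_eq_top := fun W => ?_ }
  by_cases hW : W = ⊥
  · exact Or.inl hW
  · right
    obtain ⟨w, hwW, hw0⟩ := (Submodule.ne_bot_iff W).mp hW
    obtain ⟨c, rfl⟩ := hc w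
    have hcu : IsUnit c := by
      by_contra hnu
      exact hw0 (hk c ((IsLocalRing.mem_maximalIdeal c).mpr hnu))
    obtain ⟨u, rfl⟩ := hcu
    have heW : e ∈ W := by
      have := W.smul_mem (↑u⁻¹ : R) hwW
      rwa [smul_smul, Units.inv_mul, one_smul] at this
    rw [eq_top_iff]
    intro w' _
    obtain ⟨c', rfl⟩ := hc w'
    exact W.smul_mem c' heW

variable {X : Scheme.{u}}

theorem range_iZ (Zc : Closeds X) : Set.range (iZ Zc) = (Zc : Set X) := by
  rw [Scheme.IdealSheafData.range_subschemeι, Scheme.IdealSheafData.coe_support_vanishingIdeal]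

variable {Zc : Closeds X} {ξ : X}

theorem mem_of_mem_inter (hξ : IsGenericPoint ξ (Zc : Set X)) {V : X.Opens} {z : X}
    (hz : z ∈ (Zc : Set X)) (hzV : z ∈ V) : ξ ∈ V :=
  (hξ.mem_open_set_iff V.2).mpr ⟨z, hz, hzV⟩

theorem preimage_nonempty (hξ : IsGenericPoint ξ (Zc : Set X)) {V : X.Opens} (hV : ξ ∈ V) :
    ((iZ Zc) ⁻¹ᵁ V : Set (ZZ Zc)).Nonempty := by
  have h1 : ξ ∈ Set.range (iZ Zc) := by rw [range_iZ]; exact hξ.mem
  obtain ⟨z, hz⟩ := h1
  refine ⟨z, ?_⟩
  change (iZ Zc) z ∈ V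
  rw [hz]
  exact hV

theorem preimage_eq_bot (hξ : IsGenericPoint ξ (Zc : Set X)) {V : X.Opens} (hV : ξ ∉ V) :
    (iZ Zc) ⁻¹ᵁ V ≤ ⊥ := by
  intro z hz
  exfalso
  apply hV
  have h1 : (iZ Zc) z ∈ (Zc : Set X) := by rw [← range_iZ]; exact ⟨z, rfl⟩
  exact mem_of_mem_inter hξ h1 hz

/-- sections of the hub over an open set not containing the generic point vanish -/
theorem hub_eq_zero_of_notMem (hξ : IsGenericPoint ξ (Zc : Set X)) {V : X.Opens} (hV : ξ ∉ V)
    (w : Γ(hub Zc, V)) : w = 0 := by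
  obtain ⟨w', rfl⟩ := ofFun_surjective (iZ Zc) V w
  have : w' = 0 :=
    Groth.Agent.Lib.H90DevMin.eq_zero_of_le_bot (F := Coh.structureModule (ZZ Zc))
      (preimage_eq_bot hξ hV) _
  rw [this]
  rfl

/-- the germ of `1` in the stalk of the hub -/
noncomputable def hubOne (Zc : Closeds X) (ξ : X) : (hub Zc).presheaf.stalk ξ :=
  (hub Zc).presheaf.germ ⊤ ξ trivial (ofFun (iZ Zc) ⊤ 1)

theorem hubOne_eq {V : X.Opens} (hV : ξ ∈ V) :
    hubOne Zc ξ = (hub Zc).presheaf.germ V ξ hV (ofFun (iZ Zc) V 1) := by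
  rw [hubOne, ← germ_res (hub Zc) (le_top : V ≤ ⊤) ξ hV, res_ofFun]
  congr 2
  exact map_one _

/-- the stalk of the hub at the generic point is cyclic -/
theorem hub_cyclic (w : (hub Zc).presheaf.stalk ξ) :
    ∃ c : X.presheaf.stalk ξ, w = c • hubOne Zc ξ := by
  obtain ⟨V, hV, s, rfl⟩ := TopCat.Presheaf.exists_germ_eq (hub Zc).presheaf w
  obtain ⟨D, hD, hξD, hDV⟩ := Opens.isBasis_iff_nbhd.mp X.isBasis_affineOpens (U := V) (x := ξ) hV
  obtain ⟨t, ht⟩ := ofFun_surjective (iZ Zc) D (res (hub Zc) hDV s)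
  obtain ⟨a, ha⟩ := (Scheme.IdealSheafData.vanishingIdeal Zc).subschemeι_app_surjective ⟨D, hD⟩ t
  refine ⟨X.presheaf.germ D ξ hξD a, ?_⟩
  rw [hubOne_eq hξD, ← germ_smul, smul_ofFun, mul_one, ← germ_res (hub Zc) hDV ξ hξD s, ← ht]
  congr 2
  exact ha.symm

theorem mem_vanishingIdeal_of_notMem_basicOpen (hξ : IsGenericPoint ξ (Zc : Set X)) {D : X.Opens}
    (hD : IsAffineOpen D) (a : Γ(X, D)) (ha : ξ ∉ X.basicOpen a) :
    a ∈ (Scheme.IdealSheafData.vanishingIdeal Zc).ideal ⟨D, hD⟩ := by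
  rw [Scheme.IdealSheafData.vanishingIdeal_ideal, PrimeSpectrum.mem_vanishingIdeal]
  intro p hp
  by_contra hap
  apply ha
  have hz : hD.fromSpec p ∈ X.basicOpen a := by
    have : p ∈ hD.fromSpec ⁻¹ᵁ X.basicOpen a := by
      rw [hD.fromSpec_preimage_basicOpen]
      exact hap
    exact this
  exact mem_of_mem_inter hξ hp hz

/-- the stalk of the hub at the generic point is killed by the maximal ideal -/
theorem hub_killed (hξ : IsGenericPoint ξ (Zc : Set X)) (c : X.presheaf.stalk ξ)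
    (hc : c ∈ IsLocalRing.maximalIdeal (X.presheaf.stalk ξ)) : c • hubOne Zc ξ = 0 := by
  obtain ⟨V, hV, r, rfl⟩ := TopCat.Presheaf.exists_germ_eq X.presheaf c
  obtain ⟨D, hD, hξD, hDV⟩ := Opens.isBasis_iff_nbhd.mp X.isBasis_affineOpens (U := V) (x := ξ) hV
  rw [← germO_res X hDV ξ hξD r] at hc ⊢
  set a := resO X hDV r with ha
  have hnot : ξ ∉ X.basicOpen a := by
    intro hmem
    have hu : IsUnit (X.presheaf.germ D ξ hξD a) := (X.mem_basicOpen _ _ hξD).mp hmem
    exact (IsLocalRing.mem_maximalIdeal _).mp hc hu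
  have hmem := mem_vanishingIdeal_of_notMem_basicOpen hξ hD a hnot
  rw [← Scheme.IdealSheafData.ker_subschemeι_app _ ⟨D, hD⟩, RingHom.mem_ker] at hmem
  rw [hubOne_eq hξD, ← germ_smul, smul_ofFun, mul_one]
  have : ((iZ Zc).app D).hom a = 0 := hmem
  rw [this]
  exact map_zero _

theorem hubOne_ne_zero (hirr : IsIrreducible (Zc : Set X)) (hξ : IsGenericPoint ξ (Zc : Set X)) :
    hubOne Zc ξ ≠ 0 := by
  intro h0
  haveI := isIntegral_subscheme Zc hirr
  have h1 : (hub Zc).presheaf.germ ⊤ ξ trivial (ofFun (iZ Zc) ⊤ 1) =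
      (hub Zc).presheaf.germ ⊤ ξ trivial 0 := by
    rw [map_zero]; exact h0
  obtain ⟨W, hξW, iU, iV, hW⟩ := TopCat.Presheaf.germ_eq (hub Zc).presheaf ξ
    (show ξ ∈ (⊤ : X.Opens) from trivial) (show ξ ∈ (⊤ : X.Opens) from trivial) _ _ h1
  have h2 : res (hub Zc) iU.le (ofFun (iZ Zc) ⊤ 1) = 0 := by
    change (hub Zc).presheaf.map (homOfLE iU.le).op _ = 0
    rw [show (homOfLE iU.le) = iU from rfl, hW, map_zero]
  rw [res_ofFun] at h2
  have h3 : resO (ZZ Zc) ((iZ Zc).preimage_mono iU.le) (1 : Γ(ZZ Zc, (iZ Zc) ⁻¹ᵁ ⊤)) = 0 :=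
    ofFun_injective (iZ Zc) W h2
  have h4 : (1 : Γ(ZZ Zc, (iZ Zc) ⁻¹ᵁ W)) = 0 := by
    rw [← h3]
    exact (map_one _).symm
  obtain ⟨z, hz⟩ := preimage_nonempty hξ hξW
  haveI : Nonempty ((iZ Zc) ⁻¹ᵁ W : (ZZ Zc).Opens) := ⟨⟨z, hz⟩⟩
  haveI : IsDomain Γ(ZZ Zc, (iZ Zc) ⁻¹ᵁ W) := inferInstance
  exact one_ne_zero h4

/-- The stalk of `i_* O_Z` at the generic point of `Z` is a simple module. -/
theorem isSimpleModule_hub (hirr : IsIrreducible (Zc : Set X)) (hξ : IsGenericPoint ξ (Zc : Set X)) :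
    IsSimpleModule (X.presheaf.stalk ξ) ↑((hub Zc).presheaf.stalk ξ) :=
  isSimpleModule_of_cyclic_killed (hubOne Zc ξ) (hubOne_ne_zero hirr hξ) hub_cyclic
    (hub_killed hξ)

/-- A nonzero sub-module of the hub has a nonzero stalk at the generic point. -/
theorem nontrivial_stalk_of_mono_hub (hirr : IsIrreducible (Zc : Set X))
    (hξ : IsGenericPoint ξ (Zc : Set X)) {G : X.Modules} (p : G ⟶ hub Zc) [Mono p]
    (hG : ¬ IsZero G) : Nontrivial ↑(G.presheaf.stalk ξ) := by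
  haveI := isIntegral_subscheme Zc hirr
  obtain ⟨V, g, hg⟩ : ∃ (V : X.Opens) (g : Γ(G, V)), g ≠ 0 := by
    by_contra hcon
    push Not at hcon
    exact hG (Groth.Agent.Lib.H90QCohLocalization.isZero_of_subsingleton_sections G
      fun V => ⟨fun a b => by rw [hcon V a, hcon V b]⟩)
  have hpg : p.app V g ≠ 0 := fun h0 => hg (injective_appLin_of_mono p V (h0.trans (map_zero _).symm))
  have hξV : ξ ∈ V := by
    by_contra hnot
    exact hpg (hub_eq_zero_of_notMem hξ hnot _)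
  refine ⟨⟨G.presheaf.germ V ξ hξV g, 0, fun h0 => hpg ?_⟩⟩
  have h1 : G.presheaf.germ V ξ hξV g = G.presheaf.germ V ξ hξV 0 := by rw [map_zero]; exact h0
  obtain ⟨W, hξW, iU, iV, hW⟩ := TopCat.Presheaf.germ_eq G.presheaf ξ hξV hξV _ _ h1
  have h2 : res G iU.le g = 0 := by
    change G.presheaf.map (homOfLE iU.le).op _ = 0
    rw [show (homOfLE iU.le) = iU from rfl, hW, map_zero]
  apply eq_zero_of_res_eq_zero (iZ Zc) (preimage_nonempty hξ hξW) (p.app V g)
  have h3 : res (hub Zc) ((inf_le_right : V ⊓ W ≤ W).trans iU.le) (p.app V g) = 0 := by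
    rw [← app_res, ← res_res G (inf_le_right : V ⊓ W ≤ W) iU.le, h2, res_zero, map_zero]
  exact h3

/-- A nonzero sub-module of the hub is bijective onto it at the generic point. -/
theorem stalkLin_bijective_of_mono_hub (hirr : IsIrreducible (Zc : Set X))
    (hξ : IsGenericPoint ξ (Zc : Set X)) {G : X.Modules} (p : G ⟶ hub Zc) [Mono p]
    (hG : ¬ IsZero G) : Function.Bijective (stalkLin p ξ) := by
  haveI := isSimpleModule_hub hirr hξ
  haveI := nontrivial_stalk_of_mono_hub hirr hξ p hG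
  refine ⟨stalkLin_injective_of_mono p ξ, ?_⟩
  rcases LinearMap.surjective_or_eq_zero (stalkLin p ξ) with h | h
  · exact h
  · exfalso
    obtain ⟨a, b, hab⟩ := exists_pair_ne ↑(G.presheaf.stalk ξ)
    apply hab
    apply stalkLin_injective_of_mono p ξ
    rw [h]
    rfl

end Groth.Agent.Lib.H90DevHub
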