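/-
helper90: dévissage keystone, part 9: canonical atoms versus the hub `i_* O_Z`: every canonical atom on `Zc` embeds in
the hub, its support is `Zc`; coherence of the hub and of zero modules.
-/
import Mathlib
import Groth.Agent.Lib.H90DevHub
import Groth.Agent.Lib.H90OXModPushFinite
import Groth.Agent.Lib.H90InvertibleFP

set_option autoImplicit false
universe u

open CategoryTheory CategoryTheory.Limits AlgebraicGeometry TopologicalSpace Opposite

namespace Groth.Agent.Lib.H90DevHub2

open Groth.Agent.Lib.QCohStalk Groth.Agent.Lib.H90OXModSections Groth.Agent.Lib.H90OXModExt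
  Groth.Agent.Lib.H90DevAtom Groth.Agent.Lib.H90DevFilt Groth.Agent.Lib.H90DevFiltP
  Groth.Agent.Lib.H90DevCanon Groth.Agent.Lib.H90DevHub Groth.Agent.Lib.ModStalkLin

variable {X : Scheme.{u}}

theorem isCoh_structureModule (X : Scheme.{u}) : Coh.IsCoh (Coh.structureModule X) :=
  Groth.Agent.Lib.H90Invertible.isCoh_of_isInvertible
    (Groth.Agent.Lib.H90Invertible.isInvertible_structureModule X)

/-- a zero module is coherent -/
theorem isCoh_of_isZero {N : X.Modules} (h : IsZero N) : Coh.IsCoh N := by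
  haveI : (Coh.structureModule X).IsQuasicoherent := (isCoh_structureModule X).1
  have h1 : Coh.IsCoh (cokernel (𝟙 (Coh.structureModule X))) :=
    Groth.Agent.Lib.H90OXModExact.isCoh_cokernel _ (isCoh_structureModule X)
  exact Groth.Agent.Lib.H90CohRestrict.isCoh_of_iso ((isZero_cokernel_of_epi _).iso h) h1

theorem subsingleton_stalk_of_isZero {N : X.Modules} (h : IsZero N) (x : X) :
    Subsingleton ↑(N.presheaf.stalk x) := by
  refine ⟨fun a b => ?_⟩
  obtain ⟨V, hV, s, rfl⟩ := TopCat.Presheaf.exists_germ_eq N.presheaf a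
  obtain ⟨W, hW, t, rfl⟩ := TopCat.Presheaf.exists_germ_eq N.presheaf b
  haveI := subsingleton_sections_of_isZero h V
  haveI := subsingleton_sections_of_isZero h W
  rw [Subsingleton.elim s 0, Subsingleton.elim t 0, map_zero, map_zero]

theorem notMem_support_iff (N : X.Modules) (x : X) :
    x ∉ CohB1.support N ↔ Subsingleton ↑(N.presheaf.stalk x) := by
  change ¬ ¬ Subsingleton _ ↔ _
  exact not_not

theorem mem_support_iff (N : X.Modules) (x : X) :
    x ∈ CohB1.support N ↔ Nontrivial ↑(N.presheaf.stalk x) := by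
  change ¬ Subsingleton _ ↔ _
  exact not_subsingleton_iff_nontrivial

/-- the hub is coherent -/
theorem isCoh_hub (Zc : Closeds X) : Coh.IsCoh (hub Zc) :=
  Groth.Agent.Lib.H90OXModPushFinite.isCoh_pushforward (iZ Zc) _ (isCoh_structureModule _)

theorem preimage_le_bot_of_le_compl (Zc : Closeds X) {V : X.Opens} (hV : V ≤ Zc.compl) :
    (iZ Zc) ⁻¹ᵁ V ≤ ⊥ := by
  intro z hz
  exfalso
  have h1 : (iZ Zc) z ∈ (Zc : Set X) := by rw [← range_iZ]; exact ⟨z, rfl⟩
  exact hV hz h1

/-- the support of the hub is contained in `Zc` -/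
theorem support_hub_subset (Zc : Closeds X) : CohB1.support (hub Zc) ⊆ (Zc : Set X) := by
  intro x hx
  by_contra hxZ
  rw [mem_support_iff] at hx
  obtain ⟨a, b, hab⟩ := hx
  apply hab
  have key : ∀ w : ↑((hub Zc).presheaf.stalk x), w = 0 := by
    intro w
    obtain ⟨V, hV, s, rfl⟩ := TopCat.Presheaf.exists_germ_eq (hub Zc).presheaf w
    have hxW : x ∈ V ⊓ Zc.compl := ⟨hV, hxZ⟩
    rw [← germ_res (hub Zc) (inf_le_left : V ⊓ Zc.compl ≤ V) x hxW s]
    obtain ⟨w', hw'⟩ := ofFun_surjective (iZ Zc) _ (res (hub Zc) (inf_le_left : V ⊓ Zc.compl ≤ V) s)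
    have : w' = 0 :=
      Groth.Agent.Lib.H90DevMin.eq_zero_of_le_bot (F := Coh.structureModule (ZZ Zc))
        (preimage_le_bot_of_le_compl Zc inf_le_right) _
    rw [← hw', this]
    exact map_zero _
  rw [key a, key b]

/-- the support of a sub-module is contained in the support -/
theorem support_subset_of_mono {A B : X.Modules} (f : A ⟶ B) [Mono f] :
    CohB1.support A ⊆ CohB1.support B := by
  intro x hx
  rw [mem_support_iff] at hx ⊢
  exact (stalkLin_injective_of_mono f x).nontrivial

/-- the support of a quotient is contained in the support -/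
theorem support_subset_of_epi {A B : X.Modules} (f : A ⟶ B) [Epi f] :
    CohB1.support B ⊆ CohB1.support A := by
  intro x hx
  by_contra hxA
  rw [notMem_support_iff] at hxA
  rw [mem_support_iff] at hx
  exact not_subsingleton _ ((stalkLin_surjective_of_epi f x).subsingleton)

/-- a canonical atom embeds in the hub -/
theorem exists_mono_hub {Zc : Closeds X} {C : X.Modules} (h : IsAtomC Zc C) :
    ∃ p : C ⟶ hub Zc, Mono p := by
  obtain ⟨_, I, ι, hι, _, _, ⟨e⟩⟩ := h
  haveI := hι
  haveI : Mono ((Scheme.Modules.pushforward (iZ Zc)).map ι) := inferInstance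
  exact ⟨e.hom ≫ (Scheme.Modules.pushforward (iZ Zc)).map ι, mono_comp _ _⟩

theorem support_atomC_subset {Zc : Closeds X} {C : X.Modules} (h : IsAtomC Zc C) :
    CohB1.support C ⊆ (Zc : Set X) := by
  obtain ⟨p, hp⟩ := exists_mono_hub h
  exact (support_subset_of_mono p).trans (support_hub_subset Zc)

theorem genericPoint_mem_support_atomC {Zc : Closeds X} {C : X.Modules} (h : IsAtomC Zc C) {ξ : X}
    (hξ : IsGenericPoint ξ (Zc : Set X)) : ξ ∈ CohB1.support C := by
  obtain ⟨p, hp⟩ := exists_mono_hub h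
  rw [mem_support_iff]
  exact nontrivial_stalk_of_mono_hub h.1 hξ p (not_isZero_of_isAtom h.isAtom)

/-- a canonical atom with support in a closed set lives on a subset of it -/
theorem atomC_subset_of_support_subset {Zc : Closeds X} {C : X.Modules} (h : IsAtomC Zc C)
    {T : Set X} (hT : IsClosed T) (hC : CohB1.support C ⊆ T) : (Zc : Set X) ⊆ T := by
  obtain ⟨ξ', hξ'⟩ := QuasiSober.sober h.1 Zc.isClosed
  have h1 : ξ' ∈ T := hC (genericPoint_mem_support_atomC h hξ')
  have h2 : closure {ξ'} = (Zc : Set X) := hξ'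
  rw [← h2]
  exact closure_minimal (Set.singleton_subset_iff.mpr h1) hT

/-- a canonical atom with support in `Z₀ = closure {ξ}` and nonzero stalk at `ξ` lives on `Z₀` -/
theorem atomC_eq_of_mem_support {Zc : Closeds X} {C : X.Modules} (h : IsAtomC Zc C)
    {Z₀ : Closeds X} {ξ : X} (hξ : IsGenericPoint ξ (Z₀ : Set X))
    (hC : CohB1.support C ⊆ (Z₀ : Set X)) (hξC : ξ ∈ CohB1.support C) : Zc = Z₀ := by
  apply le_antisymm
  · exact atomC_subset_of_support_subset h Z₀.isClosed hC
  · have h1 : ξ ∈ (Zc : Set X) := support_atomC_subset h hξC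
    have h2 : closure {ξ} = (Z₀ : Set X) := hξ
    change (Z₀ : Set X) ⊆ (Zc : Set X)
    rw [← h2]
    exact closure_minimal (Set.singleton_subset_iff.mpr h1) Zc.isClosed

/-- the cokernel of a nonzero sub-module of the hub has zero stalk at the generic point -/
theorem notMem_support_cokernel_hub {Zc : Closeds X} (hirr : IsIrreducible (Zc : Set X)) {ξ : X}
    (hξ : IsGenericPoint ξ (Zc : Set X)) {G : X.Modules} (p : G ⟶ hub Zc) [Mono p]
    (hG : ¬ IsZero G) : ξ ∉ CohB1.support (cokernel p) := by
  rw [notMem_support_iff]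
  have hb := stalkLin_bijective_of_mono_hub hirr hξ p hG
  refine ⟨fun a b => ?_⟩
  have key : ∀ w : ↑((cokernel p).presheaf.stalk ξ), w = 0 := by
    intro w
    obtain ⟨h, rfl⟩ := stalkLin_surjective_of_epi (cokernel.π p) ξ w
    obtain ⟨g, rfl⟩ := hb.2 h
    have : stalkLin (cokernel.π p) ξ (stalkLin p ξ g) = stalkLin (p ≫ cokernel.π p) ξ g := by
      rw [stalkLin_comp]; rfl
    rw [this, cokernel.condition]
    obtain ⟨V, hV, s, rfl⟩ := TopCat.Presheaf.exists_germ_eq G.presheaf g
    rw [stalkLin_germ]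
    change (cokernel p).presheaf.germ V ξ hV ((0 : G ⟶ cokernel p).app V s) = 0
    have h0 : (0 : G ⟶ cokernel p).app V s = 0 := by
      simp
    rw [h0, map_zero]
  rw [key a, key b]

end Groth.Agent.Lib.H90DevHub2
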