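/-
helper90: dévissage keystone, part 10: the two-out-of-three dévissage on an irreducible closed subset (Stacks 01YH / EGA III
3.1.2 flavour).
-/
import Mathlib
import Groth.Agent.Lib.H90DevHub2

set_option autoImplicit false
universe u

open CategoryTheory CategoryTheory.Limits AlgebraicGeometry TopologicalSpace Opposite

namespace Groth.Agent.Lib.H90DevTwo

open Groth.Agent.Lib.QCohStalk Groth.Agent.Lib.H90OXModSections Groth.Agent.Lib.H90OXModExt
  Groth.Agent.Lib.H90DevAtom Groth.Agent.Lib.H90DevFilt Groth.Agent.Lib.H90DevFiltP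
  Groth.Agent.Lib.H90DevCanon Groth.Agent.Lib.H90DevHub Groth.Agent.Lib.H90DevHub2
  Groth.Agent.Lib.ModStalkLin Groth.Agent.Lib.ModStalk

variable {X : Scheme.{u}}

theorem shortExact_cokernel {A B : X.Modules} (f : A ⟶ B) [Mono f] :
    (ShortComplex.mk f (cokernel.π f) (cokernel.condition f)).ShortExact :=
  { exact := ShortComplex.exact_cokernel f }

theorem isSimpleModule_residueField (R : Type*) [CommRing R] [IsLocalRing R] :
    IsSimpleModule R (IsLocalRing.ResidueField R) := by
  rw [isSimpleModule_iff_isSimpleModule_of_algebraMap_surjective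
    (S := IsLocalRing.ResidueField R) (by
      rw [IsLocalRing.ResidueField.algebraMap_eq]; exact IsLocalRing.residue_surjective)]
  infer_instance

set_option backward.isDefEq.respectTransparency false in
/-- **Two-out-of-three dévissage on an irreducible closed subset.** -/
theorem devissage_two_of_three_irreducible (X : Scheme.{u}) [AlgebraicGeometry.IsNoetherian X]
    (Z₀ : Set X) (hZ₀ : IsClosed Z₀) (hirr : IsIrreducible Z₀) (ξ : X)
    (hξ : ξ ∈ Z₀ ∧ closure {ξ} = Z₀)
    (P : X.Modules → Prop) (hP : ∀ M N : X.Modules, Nonempty (M ≅ N) → P M → P N)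
    (h₁ : ∀ S : ShortComplex X.Modules, S.ShortExact → Coh.IsCoh S.X₁ → Coh.IsCoh S.X₂ →
      Coh.IsCoh S.X₃ → CohB1.support S.X₂ ⊆ Z₀ →
      (P S.X₁ → P S.X₂ → P S.X₃) ∧ (P S.X₁ → P S.X₃ → P S.X₂) ∧ (P S.X₂ → P S.X₃ → P S.X₁))
    (h₂ : ∀ (Z : Scheme.{u}) (i : Z ⟶ X), IsClosedImmersion i → IsIntegral Z →
      Set.range ⇑i ⊆ Z₀ → Set.range ⇑i ≠ Z₀ →
      ∀ (I : Z.Modules) (ι : I ⟶ Coh.structureModule Z), Mono ι → Coh.IsQCoh I →
        P ((Coh.push i).obj I))
    (h₃ : ∃ G : X.Modules, Coh.IsCoh G ∧ CohB1.support G = Z₀ ∧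
      Nonempty (↑(G.presheaf.stalk ξ) ≃ₗ[X.presheaf.stalk ξ]
        IsLocalRing.ResidueField (X.presheaf.stalk ξ)) ∧ P G)
    (M : X.Modules) (hM : Coh.IsCoh M) (hsupp : CohB1.support M ⊆ Z₀) : P M := by
  classical
  obtain ⟨Zc, hZc⟩ : ∃ Zc : Closeds X, (Zc : Set X) = Z₀ := ⟨⟨Z₀, hZ₀⟩, rfl⟩
  have hgen : IsGenericPoint ξ (Zc : Set X) := by rw [hZc]; exact hξ.2
  have hirrc : IsIrreducible (Zc : Set X) := by rw [hZc]; exact hirr
  obtain ⟨G, hGc, hGs, ⟨eG⟩, hPG⟩ := h₃
  -- `P` holds for zero modules
  have hzero : ∀ N : X.Modules, IsZero N → P N := by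
    intro N hN
    have hS : (ShortComplex.mk (𝟙 G) (0 : G ⟶ N) (by simp)).ShortExact := by
      haveI : Epi (0 : G ⟶ N) := hN.epi _
      exact { exact := (ShortComplex.exact_iff_epi _ rfl).mpr (inferInstanceAs (Epi (𝟙 G))) }
    exact (h₁ _ hS hGc hGc (isCoh_of_isZero hN) (by rw [hGs])).1 hPG hPG
  -- modules with zero stalk at `ξ`
  have J0 : ∀ N : X.Modules, Filt IsAtomC' N → Coh.IsCoh N → CohB1.support N ⊆ Z₀ →
      ξ ∉ CohB1.support N → P N := by
    intro N hN
    induction hN with
    | zero N h0 => intro _ _ _; exact hzero N h0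
    | step A B f hf hA hAc hB hat ih =>
      intro _ hsB hξB
      haveI := hf
      haveI : A.IsQuasicoherent := hAc.1
      have hS := shortExact_cokernel f
      have hCc : Coh.IsCoh (cokernel f) := Groth.Agent.Lib.H90OXModExact.isCoh_cokernel f hB
      have hsA : CohB1.support A ⊆ Z₀ := (support_subset_of_mono f).trans hsB
      have hsC : CohB1.support (cokernel f) ⊆ Z₀ :=
        (support_subset_of_epi (cokernel.π f)).trans hsB
      have hξA : ξ ∉ CohB1.support A := fun h => hξB (support_subset_of_mono f h)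
      have hξC : ξ ∉ CohB1.support (cokernel f) :=
        fun h => hξB (support_subset_of_epi (cokernel.π f) h)
      have hPA := ih hAc hsA hξA
      have hPC : P (cokernel f) := by
        obtain ⟨Zc', hat'⟩ := hat
        have hsub : (Zc' : Set X) ⊆ Z₀ := atomC_subset_of_support_subset hat' hZ₀ hsC
        have hne : (Zc' : Set X) ≠ Z₀ := by
          intro heq
          have hgen' : IsGenericPoint ξ (Zc' : Set X) := by rw [heq]; exact hξ.2
          exact hξC (genericPoint_mem_support_atomC hat' hgen')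
        obtain ⟨hirr', I, ι, hι, hI, hI0, ⟨e⟩⟩ := hat'
        have h := h₂ (ZZ Zc') (iZ Zc') inferInstance (isIntegral_subscheme Zc' hirr')
          (by rw [range_iZ]; exact hsub) (by rw [range_iZ]; exact hne) I ι hι hI
        exact hP _ _ ⟨e.symm⟩ h
      exact (h₁ _ hS hAc hB hCc hsB).2.1 hPA hPC
  have hubc : Coh.IsCoh (hub Zc) := isCoh_hub Zc
  have hubs : CohB1.support (hub Zc) ⊆ Z₀ := by rw [← hZc]; exact support_hub_subset Zc
  -- the quotient of the hub by an atom
  have JQ : ∀ C : X.Modules, IsAtomC Zc C →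
      ∃ (p : C ⟶ hub Zc) (_ : Mono p), Coh.IsCoh (cokernel p) ∧ P (cokernel p) := by
    intro C hC
    obtain ⟨p, hp⟩ := exists_mono_hub hC
    haveI := hp
    haveI : C.IsQuasicoherent := isQuasicoherent_of_isAtom hC.isAtom
    have hQc : Coh.IsCoh (cokernel p) := Groth.Agent.Lib.H90OXModExact.isCoh_cokernel p hubc
    exact ⟨p, hp, hQc, J0 _ (filt_atomC_of_isCoh hQc) hQc
      ((support_subset_of_epi (cokernel.π p)).trans hubs)
      (notMem_support_cokernel_hub hirrc hgen p (not_isZero_of_isAtom hC.isAtom))⟩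
  -- from a module with simple stalk at `ξ` to the hub
  have J1 : ∀ B : X.Modules, Filt IsAtomC' B → Coh.IsCoh B → CohB1.support B ⊆ Z₀ →
      IsSimpleModule (X.presheaf.stalk ξ) ↑(B.presheaf.stalk ξ) → P B → P (hub Zc) := by
    intro B hB
    induction hB with
    | zero N h0 =>
      intro _ _ hsimple _
      exfalso
      haveI := subsingleton_stalk_of_isZero h0 ξ
      haveI := IsSimpleModule.nontrivial (X.presheaf.stalk ξ) ↑(N.presheaf.stalk ξ)
      exact false_of_nontrivial_of_subsingleton ↑(N.presheaf.stalk ξ)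
    | step A B f hf hA hAc hB hat ih =>
      intro _ hsB hsimple hPB
      haveI := hf
      haveI := hsimple
      haveI : A.IsQuasicoherent := hAc.1
      have hS := shortExact_cokernel f
      have hCc : Coh.IsCoh (cokernel f) := Groth.Agent.Lib.H90OXModExact.isCoh_cokernel f hB
      have hsA : CohB1.support A ⊆ Z₀ := (support_subset_of_mono f).trans hsB
      have hsC : CohB1.support (cokernel f) ⊆ Z₀ :=
        (support_subset_of_epi (cokernel.π f)).trans hsB
      obtain ⟨hinj, hex, hsurj⟩ : Function.Injective (stalkLin f ξ) ∧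
          Function.Exact (stalkLin f ξ) (stalkLin (cokernel.π f) ξ) ∧
          Function.Surjective (stalkLin (cokernel.π f) ξ) := stalkLin_exact hS ξ
      rcases LinearMap.surjective_or_eq_zero (stalkLin f ξ) with hfs | hf0
      · have hξC : ξ ∉ CohB1.support (cokernel f) := by
          rw [notMem_support_iff]
          have key : ∀ c : ↑((cokernel f).presheaf.stalk ξ), c = 0 := by
            intro c
            obtain ⟨b', rfl⟩ := hsurj c
            obtain ⟨a', rfl⟩ := hfs b'
            exact (hex _).mpr ⟨a', rfl⟩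
          exact ⟨fun a b => by rw [key a, key b]⟩
        have hPC := J0 _ (filt_atomC_of_isCoh hCc) hCc hsC hξC
        have hPA := (h₁ _ hS hAc hB hCc hsB).2.2 hPB hPC
        haveI : IsSimpleModule (X.presheaf.stalk ξ) ↑(A.presheaf.stalk ξ) :=
          IsSimpleModule.congr (LinearEquiv.ofBijective (stalkLin f ξ) ⟨hinj, hfs⟩)
        exact ih hAc hsA inferInstance hPA
      · have hξA : ξ ∉ CohB1.support A := by
          rw [notMem_support_iff]
          exact ⟨fun a b => hinj (by rw [hf0]; rfl)⟩
        have hPA := J0 A hA hAc hsA hξA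
        have hPC := (h₁ _ hS hAc hB hCc hsB).1 hPA hPB
        have hξC : ξ ∈ CohB1.support (cokernel f) := by
          rw [mem_support_iff]
          have hginj : Function.Injective (stalkLin (cokernel.π f) ξ) := by
            rw [injective_iff_map_eq_zero]
            intro b hb
            obtain ⟨a, rfl⟩ := (hex b).mp hb
            rw [hf0]
            rfl
          haveI := IsSimpleModule.nontrivial (X.presheaf.stalk ξ) ↑(B.presheaf.stalk ξ)
          exact hginj.nontrivial
        obtain ⟨Zc', hat'⟩ := hat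
        have hZ : Zc' = Zc :=
          atomC_eq_of_mem_support hat' hgen (by rw [hZc]; exact hsC) hξC
        rw [hZ] at hat'
        obtain ⟨p, hp, hQc, hPQ⟩ := JQ _ hat'
        haveI := hp
        exact (h₁ _ (shortExact_cokernel p) hCc hubc hQc hubs).2.1 hPC hPQ
  -- from the hub to everything
  have J2 : P (hub Zc) → ∀ M : X.Modules, Filt IsAtomC' M → Coh.IsCoh M →
      CohB1.support M ⊆ Z₀ → P M := by
    intro hPhub M hM
    induction hM with
    | zero N h0 => intro _ _; exact hzero N h0
    | step A B f hf hA hAc hB hat ih =>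
      intro _ hsB
      haveI := hf
      haveI : A.IsQuasicoherent := hAc.1
      have hS := shortExact_cokernel f
      have hCc : Coh.IsCoh (cokernel f) := Groth.Agent.Lib.H90OXModExact.isCoh_cokernel f hB
      have hsA : CohB1.support A ⊆ Z₀ := (support_subset_of_mono f).trans hsB
      have hsC : CohB1.support (cokernel f) ⊆ Z₀ :=
        (support_subset_of_epi (cokernel.π f)).trans hsB
      have hPA := ih hAc hsA
      have hPC : P (cokernel f) := by
        by_cases hξC : ξ ∈ CohB1.support (cokernel f)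
        · obtain ⟨Zc', hat'⟩ := hat
          have hZ : Zc' = Zc :=
            atomC_eq_of_mem_support hat' hgen (by rw [hZc]; exact hsC) hξC
          rw [hZ] at hat'
          obtain ⟨p, hp, hQc, hPQ⟩ := JQ _ hat'
          haveI := hp
          exact (h₁ _ (shortExact_cokernel p) hCc hubc hQc hubs).2.2 hPhub hPQ
        · exact J0 _ (filt_atomC_of_isCoh hCc) hCc hsC hξC
      exact (h₁ _ hS hAc hB hCc hsB).2.1 hPA hPC
  haveI : IsSimpleModule (X.presheaf.stalk ξ) ↑(G.presheaf.stalk ξ) := by
    haveI := isSimpleModule_residueField (X.presheaf.stalk ξ)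
    exact IsSimpleModule.congr eG
  have hPhub := J1 G (filt_atomC_of_isCoh hGc) hGc (by rw [hGs]) inferInstance hPG
  exact J2 hPhub M (filt_atomC_of_isCoh hM) hM hsupp

end Groth.Agent.Lib.H90DevTwo
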