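import Groth.Agent.Lib.QCohStalk
import Groth.Prelude.Def_CurvBase
import Mathlib.RingTheory.Ideal.AssociatedPrime.Basic
import Mathlib.Algebra.Category.Grp.Zero
import Mathlib.Topology.Sheaves.SheafCondition.Sites

/-!
# Stalks of a direct image along a topological embedding

For `f : X ⟶ Y`, `M : X.Modules`, `x : X`:
* `pushStalkHom f M x : (f_* M)_{f x} →+ M_x` with `pushStalkHom_germ`, semilinear over
  `f.stalkMap x` (`pushStalkHom_smul`);
* `pushStalkHom_bijective` when `f.base` is inducing (open / closed immersions, ...);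
* `subsingleton_stalk_push_of_notMem_closure_range`: `(f_* M)_y = 0` for `y ∉ closure (range f)`;
* algebra: `isAssociatedPrime_maximalIdeal_of_semilinear` transports "the maximal ideal is an
  associated prime" along a semilinear bijection over a ring isomorphism of local rings;
* `isAssPoint_push_iff` : for `f` with inducing base map and bijective stalk map at `x`
  (e.g. an open immersion), `f x` is an associated point of `f_* M` iff `x` is one of `M`.
-/

set_option autoImplicit false
universe u
open CategoryTheory AlgebraicGeometry TopologicalSpace Opposite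

namespace Groth.Agent.Lib.PushStalk

open Groth.Agent.Lib.QCohStalk

variable {X Y : Scheme.{u}} (f : X ⟶ Y) (M : X.Modules)

/-- The comparison map from the stalk of the direct image at `f x` to the stalk at `x`. -/
noncomputable def pushStalkHom (x : X) :
    ((Scheme.Modules.pushforward f).obj M).presheaf.stalk (f x) →+ M.presheaf.stalk x :=
  (TopCat.Presheaf.stalkPushforward Ab f.base M.presheaf x).hom

theorem pushStalkHom_germ (x : X) (V : Y.Opens) (hx : f x ∈ V)
    (s : Γ((Scheme.Modules.pushforward f).obj M, V)) :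
    pushStalkHom f M x (((Scheme.Modules.pushforward f).obj M).presheaf.germ V (f x) hx s) =
      M.presheaf.germ (f ⁻¹ᵁ V) x hx (show Γ(M, f ⁻¹ᵁ V) from s) :=
  congr($(TopCat.Presheaf.stalkPushforward_germ Ab f.base M.presheaf V x hx) s)

theorem pushStalkHom_smul (x : X) (r : Y.presheaf.stalk (f x))
    (ξ : ((Scheme.Modules.pushforward f).obj M).presheaf.stalk (f x)) :
    pushStalkHom f M x (r • ξ) = f.stalkMap x r • pushStalkHom f M x ξ := by
  obtain ⟨U, hxU, r', rfl⟩ := TopCat.Presheaf.exists_germ_eq Y.presheaf r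
  obtain ⟨V, hxV, s, rfl⟩ :=
    TopCat.Presheaf.exists_germ_eq ((Scheme.Modules.pushforward f).obj M).presheaf ξ
  have hxW : f x ∈ U ⊓ V := ⟨hxU, hxV⟩
  rw [← TopCat.Presheaf.germ_res_apply Y.presheaf (homOfLE (inf_le_left : U ⊓ V ≤ U)) (f x) hxW r',
    ← TopCat.Presheaf.germ_res_apply ((Scheme.Modules.pushforward f).obj M).presheaf
      (homOfLE (inf_le_right : U ⊓ V ≤ V)) (f x) hxW s,
    ← germ_smul, pushStalkHom_germ, pushStalkHom_germ, Scheme.Hom.germ_stalkMap_apply,
    ← germ_smul]
  rfl

theorem pushStalkHom_bijective (hf : Topology.IsInducing f.base) (x : X) :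
    Function.Bijective (pushStalkHom f M x) := by
  haveI := TopCat.Presheaf.stalkPushforward.stalkPushforward_iso_of_isInducing Ab hf M.presheaf x
  exact ConcreteCategory.bijective_of_isIso
    (TopCat.Presheaf.stalkPushforward Ab f.base M.presheaf x)

/-- Stalks of a direct image vanish outside the closure of the image. -/
theorem subsingleton_stalk_push_of_notMem_closure_range (y : Y)
    (hy : y ∉ closure (Set.range f)) :
    Subsingleton (((Scheme.Modules.pushforward f).obj M).presheaf.stalk y) := by
  refine ⟨fun a b => ?_⟩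
  suffices h : ∀ c : ((Scheme.Modules.pushforward f).obj M).presheaf.stalk y, c = 0 by
    rw [h a, h b]
  intro c
  obtain ⟨V, hyV, s, rfl⟩ :=
    TopCat.Presheaf.exists_germ_eq ((Scheme.Modules.pushforward f).obj M).presheaf c
  let W : Y.Opens := ⟨(closure (Set.range f))ᶜ, isClosed_closure.isOpen_compl⟩
  have hyW : y ∈ V ⊓ W := ⟨hyV, hy⟩
  rw [← TopCat.Presheaf.germ_res_apply ((Scheme.Modules.pushforward f).obj M).presheaf
    (homOfLE (inf_le_left : V ⊓ W ≤ V)) y hyW s]
  have hempty : f ⁻¹ᵁ (V ⊓ W) = ⊥ := by
    ext x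
    simp only [Opens.coe_bot, Set.mem_empty_iff_false, iff_false]
    rintro ⟨-, hx⟩
    exact hx (subset_closure ⟨x, rfl⟩)
  have hsub : Subsingleton Γ((Scheme.Modules.pushforward f).obj M, V ⊓ W) := by
    change Subsingleton Γ(M, f ⁻¹ᵁ (V ⊓ W))
    have ht : Limits.IsTerminal (M.presheaf.obj (op (f ⁻¹ᵁ (V ⊓ W)))) :=
      TopCat.Sheaf.isTerminalOfEqEmpty ⟨M.presheaf, M.isSheaf⟩ hempty
    exact AddCommGrpCat.subsingleton_of_isZero ht.isZero
  rw [Subsingleton.elim (((Scheme.Modules.pushforward f).obj M).presheaf.map _ s) 0, map_zero]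

section Algebra

/-- Transport of "the maximal ideal is an associated prime" along a semilinear bijection. -/
theorem isAssociatedPrime_maximalIdeal_of_semilinear {R R' : Type*} [CommRing R] [CommRing R']
    [IsLocalRing R] [IsLocalRing R'] {N N' : Type*} [AddCommGroup N] [Module R N]
    [AddCommGroup N'] [Module R' N'] (σ : R →+* R') (hσ : Function.Bijective σ) (e : N →+ N')
    (he : Function.Bijective e) (hsmul : ∀ (r : R) (n : N), e (r • n) = σ r • e n)
    (h : IsAssociatedPrime (IsLocalRing.maximalIdeal R) N) :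
    IsAssociatedPrime (IsLocalRing.maximalIdeal R') N' := by
  obtain ⟨-, n, hn⟩ := h
  refine ⟨inferInstance, e n, ?_⟩
  ext r'
  obtain ⟨r, rfl⟩ := hσ.2 r'
  have hunit : IsUnit (σ r) ↔ IsUnit r := by
    constructor
    · intro hu
      obtain ⟨v, hv⟩ := hσ.2 hu.unit.inv
      have h1 : r * v = 1 := by
        apply hσ.1
        rw [map_mul, map_one, hv]
        exact hu.unit.mul_inv
      exact IsUnit.of_mul_eq_one v h1
    · exact fun hu => hu.map σ
  have h1 : σ r ∈ IsLocalRing.maximalIdeal R' ↔ r ∈ IsLocalRing.maximalIdeal R := by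
    rw [IsLocalRing.mem_maximalIdeal, IsLocalRing.mem_maximalIdeal, mem_nonunits_iff,
      mem_nonunits_iff, hunit]
  rw [h1, hn]
  constructor
  · rintro ⟨k, hk⟩
    refine ⟨k, ?_⟩
    rw [Submodule.mem_colon_singleton, Submodule.mem_bot] at hk ⊢
    rw [← map_pow, ← hsmul, hk, map_zero]
  · rintro ⟨k, hk⟩
    refine ⟨k, ?_⟩
    rw [Submodule.mem_colon_singleton, Submodule.mem_bot] at hk ⊢
    apply he.1
    rw [hsmul, map_pow, hk, map_zero]

end Algebra

/-- For `f` with inducing base map and bijective stalk map at `x` (e.g. an open immersion),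
`f x` is an associated point of `f_* M` iff `x` is an associated point of `M`. -/
theorem isAssPoint_push_iff (hf : Topology.IsInducing f.base) (x : X)
    (hx : Function.Bijective (f.stalkMap x)) :
    Curv2.IsAssPoint ((Scheme.Modules.pushforward f).obj M) (f x) ↔ Curv2.IsAssPoint M x := by
  have hb := pushStalkHom_bijective f M hf x
  constructor
  · intro h
    exact isAssociatedPrime_maximalIdeal_of_semilinear (f.stalkMap x).hom hx (pushStalkHom f M x)
      hb (pushStalkHom_smul f M x) h
  · intro h
    let σ := RingEquiv.ofBijective (f.stalkMap x).hom hx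
    let e := AddEquiv.ofBijective (pushStalkHom f M x) hb
    refine isAssociatedPrime_maximalIdeal_of_semilinear σ.symm.toRingHom σ.symm.bijective
      e.symm.toAddMonoidHom e.symm.bijective ?_ h
    intro r n
    apply e.injective
    change e (e.symm (r • n)) = pushStalkHom f M x (σ.symm r • e.symm n)
    rw [AddEquiv.apply_symm_apply, pushStalkHom_smul]
    change r • n = σ (σ.symm r) • e (e.symm n)
    rw [RingEquiv.apply_symm_apply, AddEquiv.apply_symm_apply]

end Groth.Agent.Lib.PushStalk
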