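/-
helper90: dévissage keystone, part 11: the global two-out-of-three dévissage (Stacks 01YI / EGA III 3.1.2).
-/
import Mathlib
import Groth.Agent.Lib.H90DevTwo
import Groth.Agent.Lib.PushStalk

set_option autoImplicit false
universe u

open CategoryTheory CategoryTheory.Limits AlgebraicGeometry TopologicalSpace Opposite

namespace Groth.Agent.Lib.H90DevTwo2

open Groth.Agent.Lib.QCohStalk Groth.Agent.Lib.H90OXModSections Groth.Agent.Lib.H90OXModExt
  Groth.Agent.Lib.H90DevAtom Groth.Agent.Lib.H90DevFilt Groth.Agent.Lib.H90DevFiltP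
  Groth.Agent.Lib.H90DevCanon Groth.Agent.Lib.H90DevHub Groth.Agent.Lib.H90DevHub2
  Groth.Agent.Lib.ModStalkLin Groth.Agent.Lib.ModStalk Groth.Agent.Lib.H90DevTwo

variable {X : Scheme.{u}}

/-- the direct image of a quasi-coherent ideal of a closed subscheme of a locally Noetherian scheme is coherent -/
theorem isCoh_push_ideal [IsLocallyNoetherian X] {Z : Scheme.{u}} (i : Z ⟶ X) [IsClosedImmersion i]
    (I : Z.Modules) (ι : I ⟶ Coh.structureModule Z) [Mono ι] (hI : Coh.IsQCoh I) :
    Coh.IsCoh ((Coh.push i).obj I) := by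
  haveI : IsLocallyNoetherian Z := LocallyOfFiniteType.isLocallyNoetherian i
  haveI : I.IsQuasicoherent := hI
  exact Groth.Agent.Lib.H90OXModPushFinite.isCoh_pushforward i I
    (isCoh_of_mono ι (isCoh_structureModule Z))

theorem support_push_subset {Z : Scheme.{u}} (i : Z ⟶ X) [IsClosedImmersion i] (I : Z.Modules) :
    CohB1.support ((Coh.push i).obj I) ⊆ Set.range ⇑i := by
  intro x hx
  by_contra hnot
  rw [mem_support_iff] at hx
  have hcl : closure (Set.range ⇑i) = Set.range ⇑i := i.isClosedEmbedding.isClosed_range.closure_eq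
  haveI := Groth.Agent.Lib.PushStalk.subsingleton_stalk_push_of_notMem_closure_range i I x
    (by rw [hcl]; exact hnot)
  exact false_of_nontrivial_of_subsingleton ↑(((Coh.push i).obj I).presheaf.stalk x)

theorem isGenericPoint_image_genericPoint {Z : Scheme.{u}} (i : Z ⟶ X) [IsClosedImmersion i]
    [IsIntegral Z] : closure {i (genericPoint Z)} = Set.range ⇑i := by
  have h1 : closure ({genericPoint Z} : Set Z) = Set.univ := genericPoint_closure Z
  have h2 : closure (⇑i '' {genericPoint Z}) = ⇑i '' closure {genericPoint Z} :=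
    (i.isClosedEmbedding.isClosedMap.closure_image_eq_of_continuous i.continuous _)
  rw [Set.image_singleton] at h2
  rw [h2, h1, Set.image_univ]

set_option backward.isDefEq.respectTransparency false in
/-- **Two-out-of-three dévissage.** -/
theorem devissage_two_of_three (X : Scheme.{u}) [AlgebraicGeometry.IsNoetherian X] [Nonempty X]
    (P : X.Modules → Prop) (hP : ∀ M N : X.Modules, Nonempty (M ≅ N) → P M → P N)
    (h₁ : ∀ S : ShortComplex X.Modules, S.ShortExact → Coh.IsCoh S.X₁ → Coh.IsCoh S.X₂ →
      Coh.IsCoh S.X₃ →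
      (P S.X₁ → P S.X₂ → P S.X₃) ∧ (P S.X₁ → P S.X₃ → P S.X₂) ∧ (P S.X₂ → P S.X₃ → P S.X₁))
    (h₂ : ∀ (Z : Scheme.{u}) (i : Z ⟶ X) [IsClosedImmersion i] [IsIntegral Z],
      ∃ G : X.Modules, Coh.IsCoh G ∧ CohB1.support G = Set.range ⇑i ∧
        Nonempty (↑(G.presheaf.stalk (i (genericPoint Z))) ≃ₗ[X.presheaf.stalk (i (genericPoint Z))]
          IsLocalRing.ResidueField (X.presheaf.stalk (i (genericPoint Z)))) ∧ P G)
    (M : X.Modules) (hM : Coh.IsCoh M) : P M := by
  classical
  -- `P` holds for zero modules
  have hzero : ∀ N : X.Modules, IsZero N → P N := by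
    intro N hN
    obtain ⟨x⟩ := (inferInstance : Nonempty X)
    let Zc : Closeds X := ⟨closure {x}, isClosed_closure⟩
    have hirr : IsIrreducible (Zc : Set X) := isIrreducible_singleton.closure
    haveI := isIntegral_subscheme Zc hirr
    obtain ⟨G, hGc, -, -, hPG⟩ := h₂ (ZZ Zc) (iZ Zc)
    have hS : (ShortComplex.mk (𝟙 G) (0 : G ⟶ N) (by simp)).ShortExact := by
      haveI : Epi (0 : G ⟶ N) := hN.epi _
      exact { exact := (ShortComplex.exact_iff_epi _ rfl).mpr (inferInstanceAs (Epi (𝟙 G))) }
    exact (h₁ _ hS hGc hGc (isCoh_of_isZero hN)).1 hPG hPG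
  -- Noetherian induction on the support
  have key : ∀ T : Closeds X, ∀ M : X.Modules, Coh.IsCoh M → CohB1.support M ⊆ (T : Set X) → P M := by
    intro T
    induction T using WellFoundedLT.induction with
    | ind T IH =>
      intro M hM hsM
      have hfilt := filt_atomC_of_isCoh hM
      induction hfilt with
      | zero N h0 => exact hzero N h0
      | step A B f hf hA hAc hB hat ih =>
        haveI := hf
        haveI : A.IsQuasicoherent := hAc.1
        have hS := shortExact_cokernel f
        have hCc : Coh.IsCoh (cokernel f) := Groth.Agent.Lib.H90OXModExact.isCoh_cokernel f hB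
        have hsA : CohB1.support A ⊆ (T : Set X) := (support_subset_of_mono f).trans hsM
        have hsC : CohB1.support (cokernel f) ⊆ (T : Set X) :=
          (support_subset_of_epi (cokernel.π f)).trans hsM
        have hPA := ih hAc hsA
        have hPC : P (cokernel f) := by
          obtain ⟨Zc', hat'⟩ := hat
          have hle : Zc' ≤ T := atomC_subset_of_support_subset hat' T.isClosed hsC
          rcases hle.lt_or_eq with hlt | heq
          · exact IH Zc' hlt _ hCc (support_atomC_subset hat')
          · -- `T` is irreducible: apply the irreducible dévissage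
            subst heq
            have hirr : IsIrreducible (Zc' : Set X) := hat'.1
            haveI := isIntegral_subscheme Zc' hirr
            obtain ⟨G, hGc, hGs, hGe, hPG⟩ := h₂ (ZZ Zc') (iZ Zc')
            have hcl := isGenericPoint_image_genericPoint (iZ Zc')
            rw [range_iZ] at hcl hGs
            refine devissage_two_of_three_irreducible X (Zc' : Set X) Zc'.isClosed hirr
              ((iZ Zc') (genericPoint (ZZ Zc'))) ⟨?_, hcl⟩ P hP
              (fun S hS c1 c2 c3 _ => h₁ S hS c1 c2 c3) ?_ ⟨G, hGc, hGs, hGe, hPG⟩ _ hCc hsC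
            · rw [← range_iZ Zc']; exact ⟨_, rfl⟩
            · intro Z i hi hZ hsub hne I ι hι hI
              haveI := hi
              haveI := hι
              have hlt : (⟨Set.range ⇑i, i.isClosedEmbedding.isClosed_range⟩ : Closeds X) < Zc' :=
                lt_of_le_of_ne hsub (fun h => hne (congrArg (fun W : Closeds X => (W : Set X)) h))
              exact IH _ hlt _ (isCoh_push_ideal i I ι hI) (support_push_subset i I)
        exact (h₁ _ hS hAc hB hCc).2.1 hPA hPC
  exact key ⊤ M hM (Set.subset_univ _)

end Groth.Agent.Lib.H90DevTwo2
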