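import Groth.Agent.Lib.MixedDiff13
import Mathlib.Algebra.MvPolynomial.Funext

/-!
# The mixed difference of a polynomial of total degree `≤ n` in `n` variables (helper13; Mathlib only)

* `sum_powerset_eval_eq_coeff` : for `P : MvPolynomial (Fin n) R` with `P.totalDegree ≤ n`,
  `Σ_{I ⊆ Fin n} (-1)^{|I|} P(1_I) = (-1)^n · coeff_{(1,…,1)} P`.
* `eq_of_eval_nat_eq` : polynomials over `ℚ` agreeing on `ℕ^n` are equal.
-/

set_option autoImplicit false
open Finset

namespace Groth.Agent.Lib.MixedDiff13

variable {R : Type*} [CommRing R] {n : ℕ}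

/-- the exponent `(1, …, 1)` -/
noncomputable def ones (n : ℕ) : Fin n →₀ ℕ := Finsupp.equivFunOnFinite.symm fun _ => 1

@[simp] theorem ones_apply (i : Fin n) : ones n i = 1 := rfl

theorem sum_powerset_monomial_ones :
    ∑ I : Finset (Fin n), (-1 : R) ^ I.card * ∏ i, (ind I i : R) ^ ones n i = (-1) ^ n := by
  classical
  have h : ∀ I : Finset (Fin n), ∏ i, (ind I i : R) ^ ones n i = if I = Finset.univ then 1 else 0 := by
    intro I
    split_ifs with hI
    · subst hI
      apply Finset.prod_eq_one
      intro i _
      simp [ind]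
    · obtain ⟨j, hj⟩ : ∃ j, j ∉ I := by
        by_contra hne
        push Not at hne
        exact hI (Finset.eq_univ_iff_forall.2 hne)
      apply Finset.prod_eq_zero (Finset.mem_univ j)
      simp [ind, hj]
  simp_rw [h, mul_ite, mul_one, mul_zero]
  rw [Finset.sum_ite_eq' Finset.univ Finset.univ]
  simp

theorem sum_powerset_eval_eq_coeff (P : MvPolynomial (Fin n) R) (hP : P.totalDegree ≤ n) :
    ∑ I : Finset (Fin n), (-1 : R) ^ I.card * MvPolynomial.eval (ind I) P =
      (-1) ^ n * MvPolynomial.coeff (ones n) P := by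
  classical
  simp_rw [MvPolynomial.eval_eq', Finset.mul_sum]
  rw [Finset.sum_comm]
  have key : ∀ a ∈ P.support,
      ∑ I : Finset (Fin n), (-1 : R) ^ I.card * (MvPolynomial.coeff a P * ∏ i, ind I i ^ a i) =
        if a = ones n then (-1) ^ n * MvPolynomial.coeff (ones n) P else 0 := by
    intro a ha
    have hfac : ∑ I : Finset (Fin n), (-1 : R) ^ I.card * (MvPolynomial.coeff a P * ∏ i, ind I i ^ a i)
        = MvPolynomial.coeff a P *
          ∑ I : Finset (Fin n), (-1 : R) ^ I.card * ∏ i, (ind I i : R) ^ a i := by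
      rw [Finset.mul_sum]; apply Finset.sum_congr rfl; intro I _; ring
    rw [hfac]
    split_ifs with h1
    · subst h1
      rw [sum_powerset_monomial_ones]; ring
    · have hdeg : (a.sum fun _ e => e) ≤ P.totalDegree := MvPolynomial.le_totalDegree ha
      have hex : ∃ j, a j = 0 := by
        by_contra hne
        push Not at hne
        have h1' : ∀ i, 1 ≤ a i := fun i => Nat.one_le_iff_ne_zero.2 (hne i)
        have h2 : (a.sum fun _ e => e) = ∑ i, a i := Finsupp.sum_fintype a _ (fun _ => rfl)
        have h3 : ∑ i : Fin n, a i ≤ n := by omega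
        have h4 : ∀ i, a i = 1 := by
          by_contra hc
          push Not at hc
          obtain ⟨j, hj⟩ := hc
          have hj2 : 2 ≤ a j := by have := h1' j; omega
          have : n < ∑ i : Fin n, a i := by
            calc n = ∑ _i : Fin n, 1 := by simp
              _ < ∑ i, a i := Finset.sum_lt_sum (fun i _ => h1' i) ⟨j, Finset.mem_univ j, hj2⟩
          omega
        apply h1
        ext i
        rw [h4 i, ones_apply]
      obtain ⟨j, hj⟩ := hex
      rw [sum_powerset_monomial_eq_zero (R := R) a j hj, mul_zero]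
  rw [Finset.sum_congr rfl key, Finset.sum_ite_eq' P.support (ones n)]
  split_ifs with h
  · rfl
  · rw [MvPolynomial.notMem_support_iff.1 h, mul_zero]

/-- Polynomials over `ℚ` which agree on `ℕ^n` are equal. -/
theorem eq_of_eval_nat_eq (P Q : MvPolynomial (Fin n) ℚ)
    (h : ∀ m : Fin n → ℕ, MvPolynomial.eval (fun i => (m i : ℚ)) P =
      MvPolynomial.eval (fun i => (m i : ℚ)) Q) : P = Q := by
  refine MvPolynomial.funext_set (fun _ => Set.range (Nat.cast : ℕ → ℚ))
    (fun _ => Set.infinite_range_of_injective Nat.cast_injective) (fun x hx => ?_)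
  choose m hm using fun i => hx i (Set.mem_univ i)
  have : x = fun i => (m i : ℚ) := funext fun i => (hm i).symm
  rw [this]
  exact h m

/-- the indicator exponent of a subset, as natural numbers -/
def indNat (I : Finset (Fin n)) : Fin n → ℕ := fun i => if i ∈ I then 1 else 0

theorem ind_eq_indNat (I : Finset (Fin n)) : (ind I : Fin n → ℚ) = fun i => (indNat I i : ℚ) := by
  funext i
  simp only [ind, indNat]
  split_ifs <;> simp

end Groth.Agent.Lib.MixedDiff13
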