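/-
helper48: the "two out of three" and isomorphism-invariance properties of
`P F := ∀ n, Module.Finite A (Coh.HH X F n)` for `X` over `Spec A`, `A` Noetherian — exactly hypotheses `hP` and `h₁` of
the dévissage theorem S0818 for the proof of S0002 (finiteness of coherent cohomology).
-/
import Groth.Agent.Lib.CohLESLinear

set_option autoImplicit false
universe u
open CategoryTheory CategoryTheory.Limits AlgebraicGeometry

namespace Groth.Agent.Lib.CohFinTwoOfThree

open Groth.Agent.Lib.CohLES

variable (A : Type u) [CommRing A] {X : Scheme.{u}} [X.Over (Spec (CommRingCat.of A))]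

/-- all cohomology groups are finite `A`-modules -/
def FinCoh (F : X.Modules) : Prop := ∀ n : ℕ, Module.Finite A (Coh.HH X F n)

theorem finCoh_of_iso {M N : X.Modules} (e : M ≅ N) (h : FinCoh A M) : FinCoh A N := fun n =>
  haveI := h n
  Module.Finite.equiv (mapEquivₗ A e n)

variable [IsNoetherianRing A]

theorem finCoh_two_of_three {S : ShortComplex X.Modules} (hS : S.ShortExact) :
    (FinCoh A S.X₁ → FinCoh A S.X₂ → FinCoh A S.X₃) ∧
    (FinCoh A S.X₁ → FinCoh A S.X₃ → FinCoh A S.X₂) ∧
    (FinCoh A S.X₂ → FinCoh A S.X₃ → FinCoh A S.X₁) := by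
  refine ⟨fun h1 h2 n => ?_, fun h1 h3 n => ?_, fun h2 h3 n => ?_⟩
  · haveI := h2 n
    haveI := h1 (n + 1)
    exact finite_right A hS n
  · haveI := h1 n
    haveI := h3 n
    exact finite_mid A hS n
  · cases n with
    | zero =>
      haveI := h2 0
      exact finite_left_zero A hS
    | succ n =>
      haveI := h3 n
      haveI := h2 (n + 1)
      exact finite_left A hS n

end Groth.Agent.Lib.CohFinTwoOfThree
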