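/-
helper48: hypotheses `hP` and `h₁` of the dévissage theorem S0818, in its verbatim shape, for the property
`P F := ∀ n, Module.Finite A (Coh.HH X F n)` (`X` over `Spec A`, `A` Noetherian), and the empty case
(`X` empty ⇒ all `H^n(X, M)` are zero, in particular finite).  For the assembly of S0002 (ProperFin P5).
-/
import Groth.Agent.Lib.CohFinTwoOfThree
import Groth.Agent.Lib.AffVanLoc
import Groth.Agent.Lib.HBridge

set_option autoImplicit false
universe u
open CategoryTheory CategoryTheory.Limits AlgebraicGeometry TopologicalSpace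

namespace Groth.Agent.Lib.CohFinDevissageHyp

open Groth.Agent.Lib.CohFinTwoOfThree

section Empty

variable {X : Scheme.{u}}

/-- On an empty scheme all cohomology groups vanish. -/
theorem subsingleton_HH_of_isEmpty [IsEmpty X] (M : X.Modules) (n : ℕ) :
    Subsingleton (Coh.HH X M n) := by
  have htop : (⊤ : Opens X.toTopCat) = ⊥ := by
    ext x
    exact (IsEmpty.false (show X from x)).elim
  let E := Groth.Agent.Lib.HBridge.HEquivHUTop (X := X.toTopCat) (Coh.toAb M) n
  refine ⟨fun x y => E.injective ?_⟩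
  rw [Groth.Agent.Lib.AffVanTop.HU_eq_zero_of_eq_bot (Coh.toAb M) n htop (E x),
    Groth.Agent.Lib.AffVanTop.HU_eq_zero_of_eq_bot (Coh.toAb M) n htop (E y)]

/-- On an empty scheme over `Spec A` all cohomology groups are finite `A`-modules. -/
theorem finite_HH_of_isEmpty (A : Type u) [CommRing A] [X.Over (Spec (CommRingCat.of A))] [IsEmpty X]
    (M : X.Modules) (n : ℕ) : Module.Finite A (Coh.HH X M n) :=
  haveI := subsingleton_HH_of_isEmpty M n
  Module.Finite.of_finite

end Empty

variable (A : Type u) [CommRing A] {X : Scheme.{u}} [X.Over (Spec (CommRingCat.of A))]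

/-- Hypothesis `hP` of S0818 (isomorphism invariance) for `P F := ∀ n, Module.Finite A (Coh.HH X F n)`. -/
theorem hP : ∀ M N : X.Modules, Nonempty (M ≅ N) →
    (∀ n : ℕ, Module.Finite A (Coh.HH X M n)) → ∀ n : ℕ, Module.Finite A (Coh.HH X N n) := by
  rintro M N ⟨e⟩ h
  exact finCoh_of_iso A e h

/-- Hypothesis `h₁` of S0818 (two out of three), verbatim shape, for
`P F := ∀ n, Module.Finite A (Coh.HH X F n)`, `A` Noetherian. -/
theorem h₁ [IsNoetherianRing A] : ∀ S : ShortComplex X.Modules, S.ShortExact →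
    Coh.IsCoh S.X₁ → Coh.IsCoh S.X₂ → Coh.IsCoh S.X₃ →
    ((∀ n : ℕ, Module.Finite A (Coh.HH X S.X₁ n)) → (∀ n : ℕ, Module.Finite A (Coh.HH X S.X₂ n)) →
        ∀ n : ℕ, Module.Finite A (Coh.HH X S.X₃ n)) ∧
    ((∀ n : ℕ, Module.Finite A (Coh.HH X S.X₁ n)) → (∀ n : ℕ, Module.Finite A (Coh.HH X S.X₃ n)) →
        ∀ n : ℕ, Module.Finite A (Coh.HH X S.X₂ n)) ∧
    ((∀ n : ℕ, Module.Finite A (Coh.HH X S.X₂ n)) → (∀ n : ℕ, Module.Finite A (Coh.HH X S.X₃ n)) →
        ∀ n : ℕ, Module.Finite A (Coh.HH X S.X₁ n)) := by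
  intro S hS _ _ _
  exact finCoh_two_of_three A hS

end Groth.Agent.Lib.CohFinDevissageHyp
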