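/-
helper48: **`A`-linear version of S0012** on a separated base: for an affine morphism `g : Y ⟶ X` over `Spec A`, `X`
separated, and `M` quasi-coherent on `Y`:  `H^p(Y, M) ≃ₗ[A] H^p(X, g_* M)`; in particular finiteness over `A` transfers
in both directions.  (Corollary of Lib/CechPushCompare with the cover of `X` by all affine opens; their preimages are
affine, hence `M`-acyclic by helper48/lead's `AffVan`.)
-/
import Groth.Agent.Lib.CechPushCompare

set_option autoImplicit false
universe u

open CategoryTheory Limits Opposite AlgebraicGeometry TopologicalSpace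

namespace Groth.Agent.Lib.CechPushAffine

open Groth.Agent.Lib.CechPushCompare

variable {X Y : Scheme.{u}}

/-- Acyclicity of a quasi-coherent module on the finite intersections of preimages of affine opens under an affine
morphism (to a scheme with affine diagonal). -/
theorem acyclic_preimage_of_isAffineHom (g : Y ⟶ X) [IsAffineHom g]
    [IsAffineHom (pullback.diagonal (terminal.from X))]
    (M : Y.Modules) [hM : M.IsQuasicoherent] {ι : Type u} (V : ι → X.Opens)
    (hV : ∀ i, IsAffineOpen (V i)) :
    ∀ (n : ℕ) (a : Fin (n + 1) → ι) (q : ℕ),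
      Subsingleton (CohTop.HU (Coh.toAb M) (q + 1) (iInf fun k => g ⁻¹ᵁ V (a k))) := by
  intro n a q
  have h1 : IsAffineOpen (⨅ k, V (a k)) := IsAffineOpen.iInf fun k => hV (a k)
  have h2 : (iInf fun k => g ⁻¹ᵁ V (a k)) = g ⁻¹ᵁ (⨅ k, V (a k)) := by
    ext y
    simp only [Opens.coe_iInf, Set.mem_iInter, SetLike.mem_coe, Scheme.Hom.mem_preimage]
    rw [← SetLike.mem_coe, Opens.coe_iInf, Set.mem_iInter]
    rfl
  have h3 : IsAffineOpen (iInf fun k => g ⁻¹ᵁ V (a k)) := by
    rw [h2]; exact h1.preimage g
  exact subsingleton_of_forall_eq 0 fun α =>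
    Groth.Agent.Lib.AffVan.HU_eq_zero_of_isAffineOpen M hM q h3 α

variable (A : Type u) [CommRing A] [X.Over (Spec (CommRingCat.of A))] [Y.Over (Spec (CommRingCat.of A))]

/-- **`A`-linear S0012**: `H^p(Y, M) ≃ₗ[A] H^p(X, g_* M)` for `g` affine over `Spec A`, `X` with affine diagonal
(e.g. separated), `M` quasi-coherent. -/
theorem nonempty_linearEquiv_push_of_isAffineHom (g : Y ⟶ X) [g.IsOver (Spec (CommRingCat.of A))]
    [IsAffineHom g] [IsAffineHom (pullback.diagonal (terminal.from X))]
    (M : Y.Modules) [M.IsQuasicoherent] (p : ℕ) :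
    Nonempty (Coh.HH Y M p ≃ₗ[A] Coh.HH X ((Scheme.Modules.pushforward g).obj M) p) := by
  haveI : Coh.IsQCoh ((Scheme.Modules.pushforward g).obj M) :=
    Groth.Agent.Lib.H90OXModPush.isQuasicoherent_pushforward g M
  let V : X.affineOpens → X.Opens := fun U => U.1
  have hcov : ⨆ i, V i = ⊤ := by
    rw [eq_top_iff]
    intro x _
    obtain ⟨U, hU, hxU, -⟩ := Opens.isBasis_iff_nbhd.1 X.isBasis_affineOpens
      (show x ∈ (⊤ : X.Opens) from trivial)
    exact Opens.mem_iSup.2 ⟨⟨U, hU⟩, hxU⟩
  have hV : ∀ s : Finset X.affineOpens, s.Nonempty → IsAffineOpen (⨅ i ∈ s, V i) := by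
    intro s hs
    have := IsAffineOpen.biInf (X := X) (s : Set X.affineOpens) s.finite_toSet hs (U := V)
      (fun i _ => i.2)
    simpa using this
  exact nonempty_linearEquiv_push g M A V hcov hV
    (acyclic_preimage_of_isAffineHom g M V (fun i => i.2)) p

/-- Finiteness over `A` transfers along an affine morphism (both directions). -/
theorem finite_push_iff_of_isAffineHom (g : Y ⟶ X) [g.IsOver (Spec (CommRingCat.of A))]
    [IsAffineHom g] [IsAffineHom (pullback.diagonal (terminal.from X))]
    (M : Y.Modules) [M.IsQuasicoherent] (p : ℕ) :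
    Module.Finite A (Coh.HH Y M p) ↔
      Module.Finite A (Coh.HH X ((Scheme.Modules.pushforward g).obj M) p) := by
  obtain ⟨e⟩ := nonempty_linearEquiv_push_of_isAffineHom A g M p
  exact ⟨fun _ => Module.Finite.equiv e, fun _ => Module.Finite.equiv e.symm⟩

end Groth.Agent.Lib.CechPushAffine
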