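import Groth.Agent.Lib.CechDerived2

/-!
# Cech cohomology computes sheaf cohomology for acyclic covering families (main theorem)
-/

universe u

open CategoryTheory Limits Opposite Abelian

namespace Groth.Agent.Lib.CechDerived

open Groth.Agent.Lib.CechLow Groth.Agent.Lib.CechLES Groth.Agent.Lib.CechSES
  Groth.Agent.Lib.CechH0 Groth.Agent.Lib.SiteCoh Groth.Agent.Lib

variable {C : Type u} [SmallCategory C] [HasPullbacks C] {J : GrothendieckTopology C}
  {U : C} {ι : Type u} (Y : ι → Over U)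
  (hY : Sieve.ofArrows (fun i => (Y i).left) (fun i => (Y i).hom) ∈ J U)

/-- sections over `U` are the Cech `0`-cocycles -/
noncomputable def secEquivZ0 (G : Sheaf J AddCommGrpCat.{u}) :
    G.obj.obj (op U) ≃+
      AddMonoidHom.ker (((cechComplexFunctor Y).obj (pre (U := U) G)).d 0 1).hom :=
  AddEquiv.ofBijective
    (AddMonoidHom.mk' (fun s => (⟨aug Y G s, d_aug Y G s⟩ :
        AddMonoidHom.ker (((cechComplexFunctor Y).obj (pre (U := U) G)).d 0 1).hom))
      (fun s t => Subtype.ext (aug_add Y G s t)) : G.obj.obj (op U) →+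
        AddMonoidHom.ker (((cechComplexFunctor Y).obj (pre (U := U) G)).d 0 1).hom)
    ⟨fun s t h => aug_injective Y hY G (congrArg Subtype.val h), fun ⟨x, hx⟩ => by
      obtain ⟨s, hs⟩ := exists_aug_eq Y hY G x hx
      exact ⟨s, Subtype.ext hs⟩⟩

lemma secEquivZ0_apply_coe (G : Sheaf J AddCommGrpCat.{u}) (s : G.obj.obj (op U)) :
    (secEquivZ0 Y hY G s).1 = aug Y G s := rfl

/-- degree `0` -/
noncomputable def equivZero (G : Sheaf J AddCommGrpCat.{u}) :
    CohCx.cechH G.obj Y 0 ≃+ Ext (freeYoneda J U) G 0 :=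
  (H0equiv _).trans ((secEquivZ0 Y hY G).symm.trans
    ((freeYonedaAddEquiv U G).symm.trans Ext.addEquiv₀.symm))

section One

variable {S : ShortComplex (Sheaf J AddCommGrpCat.{u})} (hS : S.ShortExact)

/-- the class in `Ȟ^0` of a section -/
noncomputable def h0 (G : Sheaf J AddCommGrpCat.{u}) :
    G.obj.obj (op U) ≃+ ((cechComplexFunctor Y).obj (pre (U := U) G)).homology 0 :=
  (secEquivZ0 Y hY G).trans (H0equiv _).symm

lemma homologyMap_g_h0 (t : S.X₂.obj.obj (op U)) :
    HomologicalComplex.homologyMap (cechSC' Y S).g 0 (h0 Y hY S.X₂ t) =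
      h0 Y hY S.X₃ (S.g.hom.app (op U) t) := by
  apply (H0equiv (cechSC' Y S).X₃).injective
  apply Subtype.ext
  refine (H0equiv_naturality (cechSC' Y S).g (h0 Y hY S.X₂ t)).trans ?_
  have e2 : (H0equiv (cechSC' Y S).X₂ (h0 Y hY S.X₂ t)).1 = aug Y S.X₂ t := by
    dsimp only [h0]
    rw [AddEquiv.trans_apply]
    erw [AddEquiv.apply_symm_apply]
    rfl
  have e3 : (H0equiv (cechSC' Y S).X₃ (h0 Y hY S.X₃ (S.g.hom.app (op U) t))).1 =
      aug Y S.X₃ (S.g.hom.app (op U) t) := by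
    dsimp only [h0]
    rw [AddEquiv.trans_apply]
    erw [AddEquiv.apply_symm_apply]
    rfl
  rw [e3]
  refine Eq.trans ?_ (map_aug Y S.g t)
  exact congrArg _ e2

variable (hT : (cechSC' Y S).ShortExact)

/-- the Cech connecting map `Q(U) → Ȟ^1(F)` -/
noncomputable def cechConn : S.X₃.obj.obj (op U) →+ (cechSC' Y S).X₁.homology 1 :=
  (hT.δ 0 1 rfl).hom.comp (h0 Y hY S.X₃).toAddMonoidHom

lemma cechConn_apply (s : S.X₃.obj.obj (op U)) :
    cechConn Y hY hT s = hT.δ 0 1 rfl (h0 Y hY S.X₃ s) := rfl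

lemma cechConn_surjective [Injective S.X₂] : Function.Surjective (cechConn Y hY hT) := by
  have h1 : Function.Surjective (hT.δ 0 1 rfl) :=
    (AddCommGrpCat.epi_iff_surjective _).1 (hT.epi_δ 0 1 rfl (isZero_homology_X₂ Y 0))
  intro y
  obtain ⟨x, rfl⟩ := h1 y
  obtain ⟨s, rfl⟩ := (h0 Y hY S.X₃).surjective x
  exact ⟨s, rfl⟩

lemma cechConn_eq_zero_iff (s : S.X₃.obj.obj (op U)) :
    cechConn Y hY hT s = 0 ↔ ∃ t : S.X₂.obj.obj (op U), S.g.hom.app (op U) t = s := by
  rw [cechConn_apply]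
  constructor
  · intro h
    have hex := hT.homology_exact₃ 0 1 rfl
    rw [ShortComplex.ab_exact_iff] at hex
    obtain ⟨t', ht'⟩ := hex _ h
    obtain ⟨t, rfl⟩ := (h0 Y hY S.X₂).surjective t'
    refine ⟨t, ?_⟩
    apply (h0 Y hY S.X₃).injective
    rw [← homologyMap_g_h0]
    exact ht'
  · rintro ⟨t, rfl⟩
    rw [← homologyMap_g_h0]
    exact ConcreteCategory.congr_hom (hT.comp_δ 0 1 rfl) (h0 Y hY S.X₂ t)

include hY hS in
lemma step_one [Injective S.X₂] (hF : Acyclic Y S.X₁) :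
    Nonempty (CohCx.cechH S.X₁.obj Y 1 ≃+ Ext (freeYoneda J U) S.X₁ 1) := by
  have hT := cechSC'_shortExact Y hS hF
  exact nonempty_addEquiv_of_ker_eq (cechConn Y hY hT) (extConn hS U)
    (cechConn_surjective Y hY hT) (extConn_surjective hS U)
    (fun s => (cechConn_eq_zero_iff Y hY hT s).trans (extConn_eq_zero_iff hS U s).symm)

include hS in
lemma step_succ [Injective S.X₂] (hF : Acyclic Y S.X₁) (p : ℕ)
    (e : CohCx.cechH S.X₃.obj Y (p + 1) ≃+ Ext (freeYoneda J U) S.X₃ (p + 1)) :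
    Nonempty (CohCx.cechH S.X₁.obj Y (p + 2) ≃+ Ext (freeYoneda J U) S.X₁ (p + 2)) := by
  have hT := cechSC'_shortExact Y hS hF
  let e1 : (cechSC' Y S).X₃.homology (p + 1) ≃+ (cechSC' Y S).X₁.homology (p + 2) :=
    (hT.δIso (p + 1) (p + 2) rfl (isZero_homology_X₂ Y p)
      (isZero_homology_X₂ Y (p + 1))).addCommGroupIsoToAddEquiv
  exact ⟨e1.symm.trans (e.trans (extShift hS U p))⟩

end One

lemma injSC_X₁ (F : Sheaf J AddCommGrpCat.{u}) : (SiteLES.injSC F).X₁ = F := rfl

include hY in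
/-- **Cech cohomology of an acyclic covering family computes cohomology.** -/
theorem nonempty_cechH_addEquiv (p : ℕ) : ∀ (F : Sheaf J AddCommGrpCat.{u}) (_ : Acyclic Y F),
    Nonempty (CohCx.cechH F.obj Y p ≃+ Ext (freeYoneda J U) F p) := by
  induction p with
  | zero => exact fun F _ => ⟨equivZero Y hY F⟩
  | succ p ih =>
    intro F hF
    have hS := SiteLES.injSC_shortExact F
    have hF' : Acyclic Y (SiteLES.injSC F).X₁ := by
      rw [injSC_X₁]
      exact hF
    cases p with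
    | zero =>
      have key := step_one Y hY hS hF'
      rw [injSC_X₁] at key
      exact key
    | succ p =>
      obtain ⟨e⟩ := ih (SiteLES.injSC F).X₃ (acyclic_X₃ Y hS hF')
      have key := step_succ Y hS hF' p e
      rw [injSC_X₁] at key
      exact key

end Groth.Agent.Lib.CechDerived
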