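import Groth.Agent.Lib.H4ProjSpaceCech
import Groth.Agent.Lib.H90InvertibleFP
import Groth.Agent.S0013
import Groth.Agent.S0022

/-!
# Cohomology of `O(d)` on projective space: vanishing (helper4, CohChain W5)

* `isInvertible_twistProjSpace`, `isQCoh_twistProjSpace`;
* `iSup_stdCover`, `isAffineOpen_iInf_stdCover` : the standard cover has affine finite intersections;
* `subsingleton_HH_twist` : `H^q(P^n_R, O(d)) = 0` for `q > 0` when `q < n` or `d > -(n+1)` (or `q > n`);
* `subsingleton_HH_of_iso` : `Coh.HH` only depends on the isomorphism class of the module.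
-/

set_option autoImplicit false
universe u
open CategoryTheory AlgebraicGeometry TopologicalSpace Opposite Twist MvPolynomial
open Groth.Agent.Lib.H90Invertible

namespace Groth.Agent.Lib.H4Twist

section General

variable {X : Scheme.{u}}

/-- `Coh.HH` only depends on the isomorphism class of the module. -/
theorem subsingleton_HH_of_iso {M M' : X.Modules} (e : M ≅ M') (q : ℕ)
    [h : Subsingleton (Coh.HH X M' q)] : Subsingleton (Coh.HH X M q) := by
  let f : Coh.toAb M ⟶ Coh.toAb M' := (SheafOfModules.toSheaf X.ringCatSheaf).map e.hom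
  let g : Coh.toAb M' ⟶ Coh.toAb M := (SheafOfModules.toSheaf X.ringCatSheaf).map e.inv
  have hfg : f ≫ g = 𝟙 _ :=
    ((SheafOfModules.toSheaf X.ringCatSheaf).map_comp e.hom e.inv).symm.trans
      ((congrArg (SheafOfModules.toSheaf X.ringCatSheaf).map e.hom_inv_id).trans
        ((SheafOfModules.toSheaf X.ringCatSheaf).map_id M))
  refine ⟨fun x y => ?_⟩
  have hx : Sheaf.H.map g q (Sheaf.H.map f q x) = x := by
    rw [← Sheaf.H.map_comp_apply, hfg, Sheaf.H.map_id_apply]
  have hy : Sheaf.H.map g q (Sheaf.H.map f q y) = y := by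
    rw [← Sheaf.H.map_comp_apply, hfg, Sheaf.H.map_id_apply]
  rw [← hx, ← hy, Subsingleton.elim (Sheaf.H.map f q x) (Sheaf.H.map f q y)]

end General

section ProjSpace

variable (n : ℕ) (R : Type u) [CommRing R]

local notation "𝒜" => CohB1.polyGrading n R

theorem isInvertible_twistProjSpace (d : ℤ) : PicF.IsInvertible (Twist.twistProjSpace n R d) := by
  have h := isInvertible_twist_of_cover 𝒜 1 d (fun x => by
    obtain ⟨i, hi⟩ := exists_X_notMem (n := n) (R := R) x
    exact ⟨X i, ProjSpaceCover.X_mem n R i, hi⟩)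
  rw [Nat.cast_one, mul_one] at h
  exact h

theorem isQCoh_twistProjSpace (d : ℤ) : Coh.IsQCoh (Twist.twistProjSpace n R d) :=
  isQCoh_of_isInvertible (isInvertible_twistProjSpace n R d)

theorem iSup_stdCover : ⨆ c, stdCover n R c = ⊤ := by
  rw [eq_top_iff]
  intro x _
  obtain ⟨i, hi⟩ := exists_X_notMem (n := n) (R := R) x
  exact TopologicalSpace.Opens.mem_iSup.mpr ⟨⟨i⟩, hi⟩

theorem isAffineOpen_stdCover (c : ULift.{u} (Fin (n + 1))) :
    IsAffineOpen (X := CohB1.ProjSpace n R) (stdCover n R c) :=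
  ProjSpaceCover.isAffineOpen_stdOpen n R c.down

theorem isAffineOpen_iInf_stdCover (s : Finset (ULift.{u} (Fin (n + 1)))) (hs : s.Nonempty) :
    IsAffineOpen (X := CohB1.ProjSpace n R) (⨅ i ∈ s, stdCover n R i) := by
  classical
  induction hs using Finset.Nonempty.cons_induction with
  | singleton a =>
    simp only [Finset.mem_singleton, iInf_iInf_eq_left]
    exact isAffineOpen_stdCover n R a
  | cons a s ha hs ih =>
    rw [Finset.cons_eq_insert, Finset.iInf_insert]
    exact ProjSpaceCover.isAffineOpen_inf n R _ _ (isAffineOpen_stdCover n R a) ih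

/-- `H^q(P^n_R, O(d)) = 0` for `q > 0` if `q < n` or `d > -(n+1)`. -/
theorem subsingleton_HH_twist (d : ℤ) (q : ℕ) (hq : 0 < q) (h : q < n ∨ -((n : ℤ) + 1) < d) :
    Subsingleton (Coh.HH (CohB1.ProjSpace n R) (Twist.twistProjSpace n R d) q) := by
  have := isQCoh_twistProjSpace n R d
  obtain ⟨p, rfl⟩ : ∃ p, q = p + 1 := ⟨q - 1, by omega⟩
  obtain ⟨e⟩ := Groth.Agent.S0013.result (CohB1.ProjSpace n R) (stdCover n R) (iSup_stdCover n R)
    (isAffineOpen_iInf_stdCover n R) (Twist.twistProjSpace n R d) (p + 1)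
  have hz := isZero_cechHTop_twist (n := n) (R := R) d p (by
    rcases h with h | h
    · left; omega
    · right; exact h)
  exact ⟨fun x y => e.symm.injective
    (@Subsingleton.elim _ (AddCommGrpCat.subsingleton_of_isZero hz) _ _)⟩

/-- All the vanishing of `H^q(P^n_R, O(d))` (S0844). -/
theorem subsingleton_HH_twist_of_not (d : ℤ) (q : ℕ)
    (h₀ : ¬ (q = 0 ∧ 0 ≤ d)) (hn : ¬ (q = n ∧ d ≤ -((n : ℤ) + 1))) :
    Subsingleton (Coh.HH (CohB1.ProjSpace n R) (Twist.twistProjSpace n R d) q) := by
  have := isQCoh_twistProjSpace n R d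
  rcases Nat.eq_zero_or_pos q with hq | hq
  · subst hq
    have hd : d < 0 := by
      by_contra hd
      exact h₀ ⟨rfl, not_lt.mp hd⟩
    have hn1 : 1 ≤ n := by
      by_contra hn0
      apply hn
      have : n = 0 := by omega
      subst this
      exact ⟨rfl, by push_cast; omega⟩
    exact subsingleton_HH_zero_of_neg n R hn1 d hd
  · rcases lt_trichotomy q n with hlt | heq | hgt
    · exact subsingleton_HH_twist n R d q hq (Or.inl hlt)
    · refine subsingleton_HH_twist n R d q hq (Or.inr ?_)
      by_contra hd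
      exact hn ⟨heq, not_lt.mp hd⟩
    · exact Groth.Agent.S0022.result n R (Twist.twistProjSpace n R d) q hgt

end ProjSpace

end Groth.Agent.Lib.H4Twist
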