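import Mathlib
import Groth.Prelude.Def_CohB1

/-!
# Finite fibre products of projective schemes are projective (given Segre)

`FinProd P q` : a fibre product over `S` of a finite nonempty family `q i : P i ⟶ S`, as a bundled
object with projections and a lifting property (no `Over` categories).
`exists_finProd_segre` : if every `P i` has a closed immersion into a projective space over
`Spec A`, so has their fibre product — assuming the Segre embedding over `A` (`SegreHyp A`).
(Lead; preparation for Chow's lemma, keystone ProperFin.)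
-/

set_option autoImplicit false
universe u

open CategoryTheory CategoryTheory.Limits AlgebraicGeometry CohB1

namespace Groth.Agent.Lib.ProjProd

/-- The Segre embedding over `A`, as a hypothesis. -/
def SegreHyp (A : Type u) [CommRing A] : Prop :=
  ∀ n m : ℕ, ∃ φ : pullback (ProjSpace.toSpec n A) (ProjSpace.toSpec m A) ⟶
      ProjSpace (n * m + n + m) A,
    IsClosedImmersion φ ∧ φ ≫ ProjSpace.toSpec (n * m + n + m) A =
      pullback.fst _ _ ≫ ProjSpace.toSpec n A

/-- A fibre product over `S` of the family `q i : P i ⟶ S`, `i : Fin (r + 1)`. -/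
structure FinProd {S : Scheme.{u}} {r : ℕ} (P : Fin (r + 1) → Scheme.{u}) (q : ∀ i, P i ⟶ S) where
  /-- the product -/
  pt : Scheme.{u}
  /-- the projections -/
  π : ∀ i, pt ⟶ P i
  w : ∀ i j, π i ≫ q i = π j ≫ q j
  /-- the lift -/
  lift : ∀ {T : Scheme.{u}} (a : ∀ i, T ⟶ P i) (_ : ∀ i j, a i ≫ q i = a j ≫ q j), T ⟶ pt
  lift_π : ∀ {T : Scheme.{u}} (a : ∀ i, T ⟶ P i) (ha : ∀ i j, a i ≫ q i = a j ≫ q j) (i),
    lift a ha ≫ π i = a i
  hom_ext : ∀ {T : Scheme.{u}} (f g : T ⟶ pt), (∀ i, f ≫ π i = g ≫ π i) → f = g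

namespace FinProd

variable {S : Scheme.{u}} {r : ℕ} {P : Fin (r + 1) → Scheme.{u}} {q : ∀ i, P i ⟶ S}

/-- The structure morphism of the product. -/
def hom (D : FinProd P q) : D.pt ⟶ S := D.π 0 ≫ q 0

lemma π_comp (D : FinProd P q) (i) : D.π i ≫ q i = D.hom := D.w i 0

end FinProd

section Step

variable {S : Scheme.{u}} {r : ℕ} (P : Fin (r + 2) → Scheme.{u}) (q : ∀ i, P i ⟶ S)
  (D' : FinProd (fun i : Fin (r + 1) => P i.succ) (fun i => q i.succ))

/-- One more factor. -/
noncomputable def step : FinProd P q where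
  pt := pullback (q 0) D'.hom
  π := Fin.cases (pullback.fst _ _) (fun i => pullback.snd _ _ ≫ D'.π i)
  w := by
    have h0 : ∀ j : Fin (r + 2),
        (Fin.cases (pullback.fst (q 0) D'.hom) (fun i => pullback.snd (q 0) D'.hom ≫ D'.π i) j :
          pullback (q 0) D'.hom ⟶ P j) ≫ q j = pullback.fst (q 0) D'.hom ≫ q 0 := by
      intro j
      refine Fin.cases rfl (fun i => ?_) j
      simp only [Fin.cases_succ, Category.assoc]
      rw [D'.π_comp i, pullback.condition]
    intro i j
    rw [h0 i, h0 j]
  lift := fun {T} a ha =>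
    pullback.lift (a 0) (D'.lift (fun i => a i.succ) (fun i j => ha i.succ j.succ)) (by
      rw [FinProd.hom, ← Category.assoc, D'.lift_π]
      exact ha 0 (Fin.succ 0))
  lift_π := by
    intro T a ha i
    refine Fin.cases ?_ (fun i => ?_) i
    · simp only [Fin.cases_zero]; exact pullback.lift_fst _ _ _
    · simp only [Fin.cases_succ]
      rw [pullback.lift_snd_assoc, D'.lift_π]
  hom_ext := by
    intro T f g h
    apply pullback.hom_ext
    · simpa using h 0
    · apply D'.hom_ext
      intro i
      simpa using h i.succ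

@[simp] lemma step_pt : (step P q D').pt = pullback (q 0) D'.hom := rfl

lemma step_π_zero : (step P q D').π 0 = pullback.fst _ _ := rfl

lemma step_hom : (step P q D').hom = pullback.fst _ _ ≫ q 0 := rfl

end Step

/-- The product of one factor. -/
def single {S : Scheme.{u}} (P : Fin (0 + 1) → Scheme.{u}) (q : ∀ i, P i ⟶ S) : FinProd P q where
  pt := P 0
  π := fun i => eqToHom (by rw [Fin.fin_one_eq_zero i])
  w := by
    intro i j
    obtain rfl : i = 0 := Fin.fin_one_eq_zero i
    obtain rfl : j = 0 := Fin.fin_one_eq_zero j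
    rfl
  lift := fun a _ => a 0
  lift_π := by
    intro T a ha i
    obtain rfl : i = 0 := Fin.fin_one_eq_zero i
    simp
  hom_ext := by
    intro T f g h
    simpa using h 0

lemma single_hom {S : Scheme.{u}} (P : Fin (0 + 1) → Scheme.{u}) (q : ∀ i, P i ⟶ S) :
    (single P q).hom = q 0 := by
  simp [FinProd.hom, single]

variable {A : Type u} [CommRing A]

local instance : MorphismProperty.IsStableUnderComposition (@IsClosedImmersion.{u}) :=
  MorphismProperty.IsMultiplicative.toIsStableUnderComposition

/-- **Finite products of projective `A`-schemes are projective** (given Segre over `A`). -/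
theorem exists_finProd_segre (hS : SegreHyp A) :
    ∀ (r : ℕ) (P : Fin (r + 1) → Scheme.{u}) (q : ∀ i, P i ⟶ Spec (CommRingCat.of A))
      (n : Fin (r + 1) → ℕ) (c : ∀ i, P i ⟶ ProjSpace (n i) A),
      (∀ i, IsClosedImmersion (c i)) → (∀ i, c i ≫ ProjSpace.toSpec (n i) A = q i) →
      ∃ (D : FinProd P q) (N : ℕ) (σ : D.pt ⟶ ProjSpace N A),
        IsClosedImmersion σ ∧ σ ≫ ProjSpace.toSpec N A = D.hom := by
  intro r
  induction r with
  | zero =>
    intro P q n c hc hcq
    exact ⟨single P q, n 0, c 0, hc 0, (hcq 0).trans (single_hom P q).symm⟩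
  | succ r ih =>
    intro P q n c hc hcq
    obtain ⟨D', N', σ', hσ', hσq'⟩ := ih (fun i => P i.succ) (fun i => q i.succ)
      (fun i => n i.succ) (fun i => c i.succ) (fun i => hc i.succ) (fun i => hcq i.succ)
    obtain ⟨φ, hφ, hφq⟩ := hS (n 0) N'
    refine ⟨step P q D', n 0 * N' + n 0 + N',
      pullback.map (q 0) D'.hom (ProjSpace.toSpec (n 0) A) (ProjSpace.toSpec N' A) (c 0) σ' (𝟙 _)
        ((Category.comp_id _).trans (hcq 0).symm) ((Category.comp_id _).trans hσq'.symm) ≫ φ,
      ?_, ?_⟩
    · have := hc 0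
      have : IsClosedImmersion (pullback.map (q 0) D'.hom (ProjSpace.toSpec (n 0) A)
          (ProjSpace.toSpec N' A) (c 0) σ' (𝟙 _)
          ((Category.comp_id _).trans (hcq 0).symm) ((Category.comp_id _).trans hσq'.symm)) :=
        MorphismProperty.pullbackMap (P := @IsClosedImmersion.{u}) (hc 0) hσ' (hcq 0).symm hσq'.symm
      exact @IsClosedImmersion.comp _ _ _ _ _ this hφ
    · change (pullback.map (q 0) D'.hom (ProjSpace.toSpec (n 0) A) (ProjSpace.toSpec N' A) (c 0) σ'
          (𝟙 _) _ _ ≫ φ) ≫ ProjSpace.toSpec (n 0 * N' + n 0 + N') A = pullback.fst _ _ ≫ q 0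
      rw [Category.assoc, hφq]
      erw [pullback.lift_fst_assoc]
      rw [Category.assoc, hcq 0]

end Groth.Agent.Lib.ProjProd
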