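import Groth.Agent.Lib.H90Segre2
import Groth.Agent.Lib.ProjProd

/-!
# `SegreHyp A` holds for every commutative ring (helper90, ProperFin P1)
-/

set_option autoImplicit false
universe u
open CategoryTheory CategoryTheory.Limits AlgebraicGeometry CohB1

namespace Groth.Agent.Lib.H90Segre

/-- The Segre hypothesis of `Lib/ProjProd` holds over every ring. -/
theorem segreHyp (A : Type u) [CommRing A] : Groth.Agent.Lib.ProjProd.SegreHyp A :=
  fun n m => ⟨segre n m A, isClosedImmersion_segre n m A, segre_tS n m A⟩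

/-- Finite fibre products of projective `A`-schemes are projective. -/
theorem exists_finProd_closedImmersion (A : Type u) [CommRing A] (r : ℕ) (P : Fin (r + 1) → Scheme.{u})
    (q : ∀ i, P i ⟶ Spec (CommRingCat.of A)) (n : Fin (r + 1) → ℕ) (c : ∀ i, P i ⟶ ProjSpace (n i) A)
    (hc : ∀ i, IsClosedImmersion (c i)) (hcq : ∀ i, c i ≫ ProjSpace.toSpec (n i) A = q i) :
    ∃ (D : Groth.Agent.Lib.ProjProd.FinProd P q) (N : ℕ) (σ : D.pt ⟶ ProjSpace N A),
      IsClosedImmersion σ ∧ σ ≫ ProjSpace.toSpec N A = D.hom :=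
  Groth.Agent.Lib.ProjProd.exists_finProd_segre (segreHyp A) r P q n c hc hcq

end Groth.Agent.Lib.H90Segre
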