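import Groth.Agent.Lib.H90Chow2
import Groth.Agent.Lib.H90SegreHyp
import Groth.Agent.Lib.AffineFTImm
import Groth.Agent.Lib.ProjSpaceProper

/-!
# Chow's lemma for integral proper schemes over an affine base (helper90, ProperFin P2)
-/

set_option autoImplicit false
universe u
open CategoryTheory CategoryTheory.Limits AlgebraicGeometry TopologicalSpace CohB1
open Groth.Agent.Lib.ProjProd

namespace Groth.Agent.Lib.H90Chow

/-- in a quasi-separated space, a finite intersection of compact opens is compact -/
theorem isCompact_finset_inf {X : Type*} [TopologicalSpace X] [QuasiSeparatedSpace X] [CompactSpace X]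
    {ι : Type*} (s : Finset ι) (U : ι → Opens X) (hU : ∀ i, IsCompact (U i : Set X)) :
    IsCompact ((s.inf U : Opens X) : Set X) := by
  classical
  induction s using Finset.induction_on with
  | empty => simp [isCompact_univ]
  | insert a s _ ih =>
    rw [Finset.inf_insert, Opens.coe_inf]
    exact QuasiSeparatedSpace.inter_isCompact _ _ (U a).isOpen (hU a) (s.inf U).isOpen ih

/-- in an irreducible space, a finite intersection of nonempty opens is nonempty -/
theorem nonempty_finset_inf {X : Type*} [TopologicalSpace X] [IrreducibleSpace X]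
    {ι : Type*} (s : Finset ι) (U : ι → Opens X) (hU : ∀ i, (U i : Set X).Nonempty) :
    ((s.inf U : Opens X) : Set X).Nonempty := by
  classical
  induction s using Finset.induction_on with
  | empty => simp
  | insert a s _ ih =>
    rw [Finset.inf_insert, Opens.coe_inf]
    exact nonempty_preirreducible_inter (U a).isOpen (s.inf U).isOpen (hU a) ih

set_option maxHeartbeats 800000 in
/-- **Chow's lemma** for an integral scheme proper over an affine base. -/
theorem chow_integral (A : Type u) [CommRing A] (X : Scheme.{u}) [IsIntegral X]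
    (f : X ⟶ Spec (CommRingCat.of A)) [IsProper f] :
    ∃ (N : ℕ) (X' : Scheme.{u}) (π : X' ⟶ X) (j : X' ⟶ ProjSpace N A),
      IsClosedImmersion j ∧ j ≫ ProjSpace.toSpec N A = π ≫ f ∧ IsProper π ∧ Function.Surjective π ∧
      IsReduced X' ∧ ∃ U : X.Opens, (U : Set X).Nonempty ∧ IsIso (π ∣_ U) := by
  classical
  haveI : CompactSpace X := QuasiCompact.compactSpace_of_compactSpace f
  haveI : QuasiSeparatedSpace X := quasiSeparatedSpace_of_quasiSeparated f
  -- affine neighbourhoods
  have hV : ∀ x : X, ∃ V : X.Opens, IsAffineOpen V ∧ x ∈ V := by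
    intro x
    obtain ⟨_, ⟨V, hV, rfl⟩, hxV, -⟩ :=
      X.isBasis_affineOpens.exists_subset_of_mem_open (Set.mem_univ x) isOpen_univ
    exact ⟨V, hV, hxV⟩
  choose V hVa hVx using hV
  obtain ⟨t, ht⟩ := CompactSpace.elim_nhds_subcover (fun x => (V x : Set X))
    (fun x => (V x).isOpen.mem_nhds (hVx x))
  have htne : t.Nonempty := by
    by_contra hne
    rw [Finset.not_nonempty_iff_eq_empty] at hne
    subst hne
    obtain ⟨x⟩ := (inferInstance : Nonempty X)
    have : x ∈ (⊤ : Set X) := trivial
    rw [← ht] at this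
    simp at this
  obtain ⟨r, hr⟩ := Nat.exists_eq_succ_of_ne_zero (Finset.card_ne_zero.mpr htne)
  let e : Fin (r + 1) ≃ ↥t := (finCongr hr.symm).trans t.equivFin.symm
  let Uo : Fin (r + 1) → X.Opens := fun i => V (e i).1
  have cov : ⨆ i, Uo i = ⊤ := by
    rw [eq_top_iff]
    intro x _
    have hx : x ∈ (⊤ : Set X) := trivial
    rw [← ht] at hx
    simp only [Set.mem_iUnion] at hx
    obtain ⟨y, hy, hxy⟩ := hx
    refine Opens.mem_iSup.mpr ⟨e.symm ⟨y, hy⟩, ?_⟩
    change x ∈ V (e (e.symm ⟨y, hy⟩)).1
    rw [Equiv.apply_symm_apply]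
    exact hxy
  have hUa : ∀ i, IsAffineOpen (Uo i) := fun i => hVa _
  haveI : ∀ i, IsAffine (Uo i).toScheme := fun i => hUa i
  have hne : ∀ i, (Uo i : Set X).Nonempty := fun i => ⟨_, hVx _⟩
  -- immersions into projective spaces
  have him := fun i => Groth.Agent.Lib.AffineFTImm.exists_immersion_of_isAffine A ((Uo i).ι ≫ f)
  choose n j hjimm hjcomp using him
  haveI : ∀ i, IsProper (ProjSpace.toSpec (n i) A) :=
    fun i => Groth.Agent.Lib.ProjSpaceProper.isProper_toSpec (n i) A
  haveI : ∀ i, QuasiSeparatedSpace (ProjSpace (n i) A) :=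
    fun i => quasiSeparatedSpace_of_quasiSeparated (ProjSpace.toSpec (n i) A)
  haveI : ∀ i, IsImmersion (j i) := hjimm
  haveI : ∀ i, QuasiCompact (j i) := fun i => inferInstance
  let P : Fin (r + 1) → Scheme.{u} := fun i => (j i).image
  let c : ∀ i, P i ⟶ ProjSpace (n i) A := fun i => (j i).imageι
  let q : ∀ i, P i ⟶ Spec (CommRingCat.of A) := fun i => c i ≫ ProjSpace.toSpec (n i) A
  obtain ⟨D, N, σ, hσ, hσq⟩ := Groth.Agent.Lib.H90Segre.exists_finProd_closedImmersion A r P q n c
    (fun i => inferInstance) (fun i => rfl)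
  haveI := hσ
  haveI : IsProper (ProjSpace.toSpec N A) := Groth.Agent.Lib.ProjSpaceProper.isProper_toSpec N A
  haveI hDp : IsProper D.hom := by rw [← hσq]; infer_instance
  haveI : ∀ i, IsProper (q i) := fun i => inferInstance
  have hcpt : CompactSpace ↥(⨅ i, Uo i : X.Opens) := by
    refine isCompact_iff_compactSpace.mp ?_
    rw [← Finset.inf_univ_eq_iInf]
    exact isCompact_finset_inf _ _ (fun i => (hUa i).isCompact)
  have hqs : QuasiSeparatedSpace ↥(pullback f D.hom) :=
    quasiSeparatedSpace_of_quasiSeparated (pullback.fst f D.hom ≫ f)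
  let C : ChowData (Spec (CommRingCat.of A)) X :=
    { f := f, r := r, P := P, q := q, D := D, Uo := Uo
      t := fun i => (j i).toImage
      ht := fun i => by
        change (j i).toImage ≫ (j i).imageι ≫ _ = _
        rw [← Category.assoc, Scheme.Hom.toImage_imageι, hjcomp]
      sepf := inferInstance
      sepq := fun i => inferInstance
      sepD := inferInstance
      ot := fun i => inferInstance
      red := inferInstance
      cov := cov
      cpt := hcpt
      qs := hqs }
  have hUne : (C.U : Set X).Nonempty := by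
    change ((⨅ i, Uo i : X.Opens) : Set X).Nonempty
    rw [← Finset.inf_univ_eq_iInf]
    exact nonempty_finset_inf _ _ hne
  have hUd : Dense (C.U : Set X) := C.U.isOpen.dense hUne
  haveI : IsProper C.D.hom := hDp
  haveI : IsProper C.f := ‹IsProper f›
  haveI := C.isClosedImmersion_φ
  refine ⟨N, C.X', C.π, C.φ ≫ σ, inferInstance, ?_, C.isProper_π, C.surjective_π hUd, inferInstance,
    C.U, hUne, C.isIso_π_restrict⟩
  rw [Category.assoc, hσq]
  exact C.π_f.symm

end Groth.Agent.Lib.H90Chow
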