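import Groth.Agent.Lib.PushStalk
import Groth.Agent.Lib.H90Invertible

/-!
# Stalks of a direct image at points where the morphism is "locally inducing"; stalks of invertible
modules (helper90, ProperFin P5)
-/

set_option autoImplicit false
universe u
open CategoryTheory AlgebraicGeometry TopologicalSpace Opposite

namespace Groth.Agent.Lib.H90PushStalkLocal

open Groth.Agent.Lib.QCohStalk Groth.Agent.Lib.PushStalk Groth.Agent.Lib.H90Invertible

variable {X Y : Scheme.{u}}

/-- for a closed map whose fibre through `x` is `{x}`, the preimages of neighbourhoods of `f x` form a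
basis of neighbourhoods of `x` -/
theorem exists_nhds_of_isClosedMap (f : X ⟶ Y) (hcl : IsClosedMap f) (x : X)
    (hfib : ∀ x', f x' = f x → x' = x) (V' : X.Opens) (hx : x ∈ V') :
    ∃ V : Y.Opens, f x ∈ V ∧ f ⁻¹ᵁ V ≤ V' := by
  refine ⟨⟨(f '' ((V' : Set X)ᶜ))ᶜ, (hcl _ V'.isOpen.isClosed_compl).isOpen_compl⟩, ?_, ?_⟩
  · rintro ⟨x', hx', h⟩
    exact hx' (hfib x' h ▸ hx)
  · intro y hy
    by_contra hne
    exact hy ⟨y, hne, rfl⟩

/-- **local bijectivity of the stalk comparison map of a direct image** -/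
theorem pushStalkHom_bijective_of_nhds (f : X ⟶ Y) (M : X.Modules) (x : X)
    (h : ∀ V' : X.Opens, x ∈ V' → ∃ V : Y.Opens, f x ∈ V ∧ f ⁻¹ᵁ V ≤ V') :
    Function.Bijective (pushStalkHom f M x) := by
  constructor
  · rw [injective_iff_map_eq_zero]
    intro c hc
    obtain ⟨V, hV, s, rfl⟩ :=
      TopCat.Presheaf.exists_germ_eq ((Scheme.Modules.pushforward f).obj M).presheaf c
    rw [pushStalkHom_germ] at hc
    have hc' : M.presheaf.germ (f ⁻¹ᵁ V) x hV (show Γ(M, f ⁻¹ᵁ V) from s) =
        M.presheaf.germ (f ⁻¹ᵁ V) x hV 0 := by rw [hc, map_zero]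
    obtain ⟨W, hxW, iU, iV, hW⟩ := TopCat.Presheaf.germ_eq M.presheaf x hV hV _ _ hc'
    rw [map_zero] at hW
    obtain ⟨V₁, hV₁, hle⟩ := h W hxW
    have hle2 : f ⁻¹ᵁ (V ⊓ V₁) ≤ W := fun y hy => hle hy.2
    rw [← TopCat.Presheaf.germ_res_apply ((Scheme.Modules.pushforward f).obj M).presheaf
      (homOfLE (inf_le_left : V ⊓ V₁ ≤ V)) (f x) ⟨hV, hV₁⟩ s]
    have h0 : ((Scheme.Modules.pushforward f).obj M).presheaf.map
        (homOfLE (inf_le_left : V ⊓ V₁ ≤ V)).op s = 0 := by
      change M.presheaf.map (homOfLE (show f ⁻¹ᵁ (V ⊓ V₁) ≤ f ⁻¹ᵁ V from fun y hy => hy.1)).op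
        (show Γ(M, f ⁻¹ᵁ V) from s) = 0
      have h1 : (homOfLE (show f ⁻¹ᵁ (V ⊓ V₁) ≤ f ⁻¹ᵁ V from fun y hy => hy.1)).op =
          iU.op ≫ (homOfLE hle2).op := rfl
      rw [h1, M.presheaf.map_comp, ConcreteCategory.comp_apply, hW, map_zero]
    rw [h0, map_zero]
  · intro m
    obtain ⟨V', hV', s, rfl⟩ := TopCat.Presheaf.exists_germ_eq M.presheaf m
    obtain ⟨V, hV, hle⟩ := h V' hV'
    let t0 : Γ(M, f ⁻¹ᵁ V) := M.presheaf.map (homOfLE hle).op s
    let t : Γ((Scheme.Modules.pushforward f).obj M, V) := t0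
    refine ⟨((Scheme.Modules.pushforward f).obj M).presheaf.germ V (f x) hV t, ?_⟩
    exact (pushStalkHom_germ f M x V hV t).trans
      (TopCat.Presheaf.germ_res_apply M.presheaf (homOfLE hle) x hV s)

/-- the stalk of a module with a free generator near `x` is free of rank one -/
theorem IsGen.stalk_bijective {L : X.Modules} {V : X.Opens} {s : Γ(L, V)} (hs : IsGen L V s) (x : X)
    (hx : x ∈ V) :
    Function.Bijective
      (fun a : X.presheaf.stalk x => a • (L.presheaf.germ V x hx s : L.presheaf.stalk x)) := by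
  constructor
  · intro a b hab
    obtain ⟨Wa, hWa, a', rfl⟩ := TopCat.Presheaf.exists_germ_eq X.presheaf a
    obtain ⟨Wb, hWb, b', rfl⟩ := TopCat.Presheaf.exists_germ_eq X.presheaf b
    let W : X.Opens := Wa ⊓ Wb ⊓ V
    have hxW : x ∈ W := ⟨⟨hWa, hWb⟩, hx⟩
    have hWV : W ≤ V := inf_le_right
    have hWa' : W ≤ Wa := inf_le_left.trans inf_le_left
    have hWb' : W ≤ Wb := inf_le_left.trans inf_le_right
    have ea : X.presheaf.germ Wa x hWa a' = X.presheaf.germ W x hxW (resO X hWa' a') :=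
      (germO_res X hWa' x hxW a').symm
    have eb : X.presheaf.germ Wb x hWb b' = X.presheaf.germ W x hxW (resO X hWb' b') :=
      (germO_res X hWb' x hxW b').symm
    have es : L.presheaf.germ V x hx s = L.presheaf.germ W x hxW (res L hWV s) :=
      (germ_res L hWV x hxW s).symm
    simp only at hab
    rw [ea, eb, es, ← germ_smul, ← germ_smul] at hab
    obtain ⟨W', hxW', iU, iV, hW'⟩ := TopCat.Presheaf.germ_eq L.presheaf x hxW hxW _ _ hab
    have hW'W : W' ≤ W := iU.le
    have h1 : res L hW'W (resO X hWa' a' • res L hWV s) = res L hW'W (resO X hWb' b' • res L hWV s) := hW'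
    rw [res_smul, res_smul, res_res, resO_resO, resO_resO] at h1
    have h2 := (hs W' (hW'W.trans hWV)).1 h1
    rw [ea, eb, ← germO_res X hW'W x hxW', ← germO_res X hW'W x hxW', resO_resO, resO_resO, h2]
  · intro m
    obtain ⟨W₀, hW₀, t, rfl⟩ := TopCat.Presheaf.exists_germ_eq L.presheaf m
    let W : X.Opens := W₀ ⊓ V
    have hxW : x ∈ W := ⟨hW₀, hx⟩
    obtain ⟨a, ha⟩ := (hs W inf_le_right).2 (res L (inf_le_left : W ≤ W₀) t)
    refine ⟨X.presheaf.germ W x hxW a, ?_⟩
    simp only at ha ⊢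
    rw [← germ_res L (inf_le_right : W ≤ V) x hxW s, ← germ_smul]
    change L.presheaf.germ W x hxW (a • L.presheaf.map (homOfLE _).op s) = _
    rw [ha]
    exact germ_res L inf_le_left x hxW t

/-- the stalk of an invertible module is free of rank one -/
theorem exists_stalk_bijective_of_isInvertible {L : X.Modules} (hL : PicF.IsInvertible L) (x : X) :
    ∃ m : L.presheaf.stalk x, Function.Bijective (fun a : X.presheaf.stalk x => a • m) := by
  obtain ⟨V, hx, s, hs⟩ := (isInvertible_iff_exists_isGen L).mp hL x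
  exact ⟨_, IsGen.stalk_bijective hs x hx⟩

/-- a module over a local ring which is semilinearly isomorphic to a field quotient of the ring is
isomorphic to the residue field -/
theorem nonempty_linearEquiv_residueField {R : Type*} [CommRing R] [IsLocalRing R] {M : Type*}
    [AddCommGroup M] [Module R M] {K : Type*} [CommRing K] (hK : IsField K) (φ : R →+* K)
    (hφ : Function.Surjective φ) (e : M →+ K) (he : Function.Bijective e)
    (hsm : ∀ (r : R) (m : M), e (r • m) = φ r * e m) :
    Nonempty (M ≃ₗ[R] IsLocalRing.ResidueField R) := by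
  let ψ : (R ⧸ RingHom.ker φ) ≃+* K := RingHom.quotientKerEquivOfSurjective hφ
  have hmax : (RingHom.ker φ).IsMaximal := by
    rw [Ideal.Quotient.maximal_ideal_iff_isField_quotient]
    exact ψ.toMulEquiv.isField hK
  have hker : RingHom.ker φ = IsLocalRing.maximalIdeal R := IsLocalRing.eq_maximalIdeal hmax
  let χ : (R ⧸ RingHom.ker φ) ≃+* IsLocalRing.ResidueField R := Ideal.quotEquivOfEq hker
  have hψ : ∀ r : R, ψ.symm (φ r) = Ideal.Quotient.mk _ r := by
    intro r
    rw [RingEquiv.symm_apply_eq]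
    exact (RingHom.quotientKerEquivOfSurjective_apply_mk hφ r).symm
  let f : M →ₗ[R] IsLocalRing.ResidueField R :=
    { toFun := fun m => χ (ψ.symm (e m))
      map_add' := fun a b => by rw [map_add, map_add, map_add]
      map_smul' := fun r m => by
        rw [hsm, map_mul, map_mul, hψ, RingHom.id_apply, Algebra.smul_def]
        rfl }
  refine ⟨LinearEquiv.ofBijective f ?_⟩
  exact χ.bijective.comp (ψ.symm.bijective.comp he)

/-- **generic stalk of the direct image of an invertible module** -/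
theorem nonempty_stalk_push_equiv_residueField {Z' : Scheme.{u}} (g : Z' ⟶ X) (L : Z'.Modules)
    (hL : PicF.IsInvertible L) (ξ' : Z') (hcl : IsClosedMap g) (hfib : ∀ x', g x' = g ξ' → x' = ξ')
    (hK : IsField (Z'.presheaf.stalk ξ')) (hsurj : Function.Surjective (g.stalkMap ξ')) :
    Nonempty (↑(((Scheme.Modules.pushforward g).obj L).presheaf.stalk (g ξ')) ≃ₗ[X.presheaf.stalk (g ξ')]
      IsLocalRing.ResidueField (X.presheaf.stalk (g ξ'))) := by
  obtain ⟨m, hm⟩ := exists_stalk_bijective_of_isInvertible hL ξ'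
  let b : Z'.presheaf.stalk ξ' ≃ L.presheaf.stalk ξ' := Equiv.ofBijective _ hm
  have hb : ∀ a, b a = a • m := fun a => rfl
  have hbs_add : ∀ y y', b.symm (y + y') = b.symm y + b.symm y' := by
    intro y y'
    rw [Equiv.symm_apply_eq, hb, add_smul, ← hb, ← hb, Equiv.apply_symm_apply, Equiv.apply_symm_apply]
  have hbs_smul : ∀ (c : Z'.presheaf.stalk ξ') y, b.symm (c • y) = c * b.symm y := by
    intro c y
    rw [Equiv.symm_apply_eq, hb, mul_smul, ← hb, Equiv.apply_symm_apply]
  have hbs_zero : b.symm 0 = 0 := by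
    rw [Equiv.symm_apply_eq, hb, zero_smul]
  let e : ((Scheme.Modules.pushforward g).obj L).presheaf.stalk (g ξ') →+ Z'.presheaf.stalk ξ' :=
    { toFun := fun c => b.symm (pushStalkHom g L ξ' c)
      map_zero' := by rw [map_zero, hbs_zero]
      map_add' := fun c c' => by rw [map_add, hbs_add] }
  refine nonempty_linearEquiv_residueField hK (g.stalkMap ξ').hom hsurj e ?_ ?_
  · exact b.symm.bijective.comp
      (pushStalkHom_bijective_of_nhds g L ξ' (exists_nhds_of_isClosedMap g hcl ξ' hfib))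
  · intro r c
    change b.symm (pushStalkHom g L ξ' (r • c)) = _
    rw [pushStalkHom_smul, hbs_smul]
    rfl

/-- variant with the point of `X` given up to equality -/
theorem nonempty_stalk_push_equiv_residueField' {Z' : Scheme.{u}} (g : Z' ⟶ X) (L : Z'.Modules)
    (hL : PicF.IsInvertible L) (ξ' : Z') (hcl : IsClosedMap g) (hfib : ∀ x', g x' = g ξ' → x' = ξ')
    (hK : IsField (Z'.presheaf.stalk ξ')) (hsurj : Function.Surjective (g.stalkMap ξ'))
    (y : X) (hy : g ξ' = y) :
    Nonempty (↑(((Scheme.Modules.pushforward g).obj L).presheaf.stalk y) ≃ₗ[X.presheaf.stalk y]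
      IsLocalRing.ResidueField (X.presheaf.stalk y)) := by
  subst hy
  exact nonempty_stalk_push_equiv_residueField g L hL ξ' hcl hfib hK hsurj

end Groth.Agent.Lib.H90PushStalkLocal
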