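import Mathlib
import Groth.Agent.Lib.H90PushStalkLocal

/-!
# The generic stalk of `(π ≫ i)_* L` for a modification `π` of an integral closed subscheme
(helper90, ProperFin P5)
-/

set_option autoImplicit false
universe u
open CategoryTheory AlgebraicGeometry TopologicalSpace Opposite

namespace Groth.Agent.Lib.H90ChowStalk

open Groth.Agent.Lib.H90PushStalkLocal

variable {X Z Z' : Scheme.{u}}

/-- the stalk map of a morphism which is an isomorphism over an open is bijective at points over it -/
theorem stalkMap_bijective_of_isIso_restrict (π : Z' ⟶ Z) (U : Z.Opens) [IsIso (π ∣_ U)]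
    (x : (π ⁻¹ᵁ U).toScheme) : Function.Bijective (π.stalkMap x.1) := by
  have h1 : IsIso ((π ∣_ U).stalkMap x) := inferInstance
  have h2 : IsIso (π.stalkMap x.1) :=
    ((MorphismProperty.isomorphisms _).arrow_mk_iso_iff (morphismRestrictStalkMap π U x)).mp h1
  exact ConcreteCategory.bijective_of_isIso _

/-- **the generic stalk of `(π ≫ i)_* L`** -/
theorem nonempty_stalk_equiv_residueField [IsIntegral Z] (i : Z ⟶ X) [IsClosedImmersion i]
    (π : Z' ⟶ Z) [IsProper π] (U : Z.Opens) (hU : (U : Set Z).Nonempty) [IsIso (π ∣_ U)]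
    (L : Z'.Modules) (hL : PicF.IsInvertible L) :
    Nonempty (↑(((Scheme.Modules.pushforward (π ≫ i)).obj L).presheaf.stalk (i (genericPoint Z)))
      ≃ₗ[X.presheaf.stalk (i (genericPoint Z))]
      IsLocalRing.ResidueField (X.presheaf.stalk (i (genericPoint Z)))) := by
  have hξ : genericPoint Z ∈ U := by
    rw [SetLike.mem_coe.symm, (genericPoint_spec Z).mem_open_set_iff U.isOpen, Set.univ_inter]
    exact hU
  -- the point over `ξ`
  let ξ₀ : (π ⁻¹ᵁ U).toScheme := (inv (π ∣_ U)) ⟨genericPoint Z, hξ⟩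
  let ξ' : Z' := ξ₀.1
  have hπξ₀ : (π ∣_ U) ξ₀ = ⟨genericPoint Z, hξ⟩ := by
    change ((inv (π ∣_ U)) ≫ (π ∣_ U)) _ = _
    rw [IsIso.inv_hom_id]
    rfl
  have hπξ' : π ξ' = genericPoint Z := by
    have := congrArg Subtype.val hπξ₀
    rwa [morphismRestrict_base_coe] at this
  have hinjU : Function.Injective (π ∣_ U) :=
    (ConcreteCategory.bijective_of_isIso (π ∣_ U).base).1
  have hfib : ∀ x', (π ≫ i) x' = (π ≫ i) ξ' → x' = ξ' := by
    intro x' hx'
    rw [Scheme.Hom.comp_apply, Scheme.Hom.comp_apply] at hx'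
    have h1 : π x' = π ξ' := i.isClosedEmbedding.injective hx'
    have hx'U : x' ∈ π ⁻¹ᵁ U := by
      change π x' ∈ U
      rw [h1, hπξ']; exact hξ
    let x₀ : (π ⁻¹ᵁ U).toScheme := ⟨x', hx'U⟩
    have h2 : (π ∣_ U) x₀ = (π ∣_ U) ξ₀ := by
      apply Subtype.ext
      rw [morphismRestrict_base_coe, morphismRestrict_base_coe]
      exact h1
    exact congrArg Subtype.val (hinjU h2)
  have hbij := stalkMap_bijective_of_isIso_restrict π U ξ₀
  -- the stalk at `ξ'` is a field
  have hK : IsField (Z'.presheaf.stalk ξ') := by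
    have hF : IsField (Z.presheaf.stalk (genericPoint Z)) :=
      (inferInstance : Field Z.functionField).toIsField
    have hF' : IsField (Z.presheaf.stalk (π ξ')) := by rw [hπξ']; exact hF
    exact (RingEquiv.ofBijective (π.stalkMap ξ').hom hbij).toMulEquiv.symm.isField hF'
  have hsurj : Function.Surjective ((π ≫ i).stalkMap ξ') := by
    rw [Scheme.Hom.stalkMap_comp]
    exact hbij.2.comp (i.stalkMap_surjective _)
  haveI : IsProper (π ≫ i) := inferInstance
  refine nonempty_stalk_push_equiv_residueField' (π ≫ i) L hL ξ' (π ≫ i).isClosedMap hfib hK hsurj _ ?_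
  rw [Scheme.Hom.comp_apply, hπξ']

end Groth.Agent.Lib.H90ChowStalk
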