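import Groth.Agent.Lib.H4TwistAdjoin
import Mathlib.RingTheory.GradedAlgebra.Radical

/-!
# Sections of Serre twists on `Proj` over basic opens; the `H^0` bridge (helper4, CohChain W5)

General (any scheme `X`):
* `h0Equiv M : Coh.HH X M 0 ≃+ Γ(M, ⊤)` (Mathlib's `Sheaf.H.equiv₀`), `h0Equiv_smul` (compatibility with the
  `Γ(X, O_X)`-action), `h0Equiv_symm_smul`, and for `X` over `Spec R`: `h0Equiv_symm_smul_over`.

`Proj 𝒜` for a graded `R`-algebra:
* `exists_pow_mul_eq_zero` : a homogeneous `δ` whose image in `A_x` vanishes for every `x ∈ D₊(f)` (`f` homogeneous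
  of positive degree) is killed by a power of `f`;
* `toSpecZero_appTop_res`, `oval_appTop_toSpecZero` : the global function attached to `a₀ ∈ 𝒜 0` has value `a₀ / 1`;
  `oval_toGlobal` : for the structure morphism `Proj 𝒜 ⟶ Spec R`, `r ∈ R` acts by `r / 1`;
* `oval_awayToSection_mk` : values of Mathlib's `Proj.awayToSection`;
* `exists_eq_mk_mul_zpow` : every section of `O(d)` over `D₊(g) ≤ D₊(f)`, `f ∈ 𝒜 1`, `g ∈ 𝒜 m`, `m > 0`, is of the form
  `x ↦ (a / g ^ k) * f ^ d` with `a ∈ 𝒜 (k • m)`.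
-/

set_option autoImplicit false
universe u
open CategoryTheory AlgebraicGeometry TopologicalSpace Opposite Twist
open Groth.Agent.Lib.H90Invertible

namespace Groth.Agent.Lib.H4Twist

section Bridge

variable {X : Scheme.{u}} (M : X.Modules)

/-- `H^0(X, M) ≃+ Γ(X, M)`. -/
noncomputable def h0Equiv : Coh.HH X M 0 ≃+ Γ(M, ⊤) :=
  Sheaf.H.equiv₀ (Coh.toAb M) (Limits.isTerminalTop (α := X.Opens))

theorem h0Equiv_smul (ρ : Coh.Γtop X) (x : Coh.HH X M 0) :
    h0Equiv M (ρ • x) = (show Γ(X, ⊤) from ρ) • h0Equiv M x := by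
  change Sheaf.H.equiv₀ (Coh.toAb M) _ (Sheaf.H.map (Coh.smulAb M ρ) 0 x) = _
  rw [← Sheaf.H.equiv₀_naturality]
  erw [Coh.smulAb_app]
  congr 1
  change (X.ringCatSheaf.obj.map (𝟙 _)).hom ρ = ρ
  rw [X.ringCatSheaf.obj.map_id]
  rfl

theorem h0Equiv_symm_smul (ρ : Coh.Γtop X) (s : Γ(M, ⊤)) :
    (h0Equiv M).symm ((show Γ(X, ⊤) from ρ) • s) = ρ • (h0Equiv M).symm s := by
  apply (h0Equiv M).injective
  rw [h0Equiv_smul, AddEquiv.apply_symm_apply, AddEquiv.apply_symm_apply]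

theorem h0Equiv_symm_smul_over {R : Type u} [CommRing R] [X.Over (Spec (CommRingCat.of R))]
    (r : R) (s : Γ(M, ⊤)) :
    (h0Equiv M).symm ((show Γ(X, ⊤) from Coh.toGlobal (X ↘ Spec (CommRingCat.of R)) r) • s) =
      r • (h0Equiv M).symm s :=
  h0Equiv_symm_smul M _ s

end Bridge

variable {R A : Type u} [CommRing R] [CommRing A] [Algebra R A] {𝒜 : ℕ → Submodule R A} [GradedAlgebra 𝒜]

section Vanish

/-- A homogeneous element whose image in `A_x` vanishes for all `x ∈ D₊(f)`, `f` homogeneous of positive degree,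
is killed by a power of `f`. -/
theorem exists_pow_mul_eq_zero {δ f : A} {e m : ℕ} (hδ : δ ∈ 𝒜 e) (hf : f ∈ 𝒜 m) (hm : 0 < m)
    (h : ∀ (x : ProjectiveSpectrum 𝒜) (_ : f ∉ x.asHomogeneousIdeal),
      (Localization.mk δ 1 : Loc 𝒜 x) = 0) : ∃ N : ℕ, f ^ N * δ = 0 := by
  classical
  by_contra H
  simp only [not_exists] at H
  set I : Ideal A := (Ideal.span {δ}).annihilator with hI
  have hmemI : ∀ s : A, s ∈ I ↔ s * δ = 0 := fun s => by
    rw [hI, Submodule.mem_annihilator_span_singleton, smul_eq_mul]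
  have hdisj : Disjoint (I : Set A) (Submonoid.powers f : Set A) := by
    rw [Set.disjoint_left]
    rintro s hs ⟨N, rfl⟩
    exact H N ((hmemI _).mp hs)
  obtain ⟨p, hp, hIp, hpf⟩ := Ideal.exists_le_prime_disjoint I (Submonoid.powers f) hdisj
  have hfp : f ∉ p := fun hfp => Set.disjoint_left.mp hpf hfp (Submonoid.mem_powers f)
  let q : HomogeneousIdeal 𝒜 := p.homogeneousCore 𝒜
  have hqp : q.toIdeal ≤ p := Ideal.toIdeal_homogeneousCore_le 𝒜 p
  have hfq : f ∉ q := fun hfq => hfp (hqp hfq)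
  let x : ProjectiveSpectrum 𝒜 := ⟨q, hp.homogeneousCore, fun hle =>
    hfq (hle (HomogeneousIdeal.mem_irrelevant_of_mem 𝒜 hm hf))⟩
  have h0 := h x hfq
  rw [Localization.mk_eq_mk', IsLocalization.mk'_eq_zero_iff] at h0
  obtain ⟨⟨s, hs⟩, hsδ⟩ := h0
  change s * δ = 0 at hsδ
  -- some homogeneous component of `s` is not in `q`, and it kills `δ`
  have hcomp : ∃ i, (DirectSum.decompose 𝒜 s i : A) ∉ q.toIdeal := by
    by_contra hall
    simp only [not_exists, not_not] at hall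
    apply hs
    change s ∈ q.toIdeal
    rw [← DirectSum.sum_support_decompose 𝒜 s]
    exact Ideal.sum_mem _ fun i _ => hall i
  obtain ⟨i, hi⟩ := hcomp
  have hkill : (DirectSum.decompose 𝒜 s i : A) * δ = 0 := by
    rw [← DirectSum.coe_decompose_mul_add_of_right_mem 𝒜 hδ, hsδ, DirectSum.decompose_zero]
    rfl
  apply hi
  have hmem : (DirectSum.decompose 𝒜 s i : A) ∈ p := hIp ((hmemI _).mpr hkill)
  exact Ideal.mem_homogeneousCore_of_homogeneous_of_mem ⟨i, SetLike.coe_mem _⟩ hmem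

end Vanish

section Away

open HomogeneousLocalization

/-- Values of `Proj.awayToSection`. -/
theorem oval_awayToSection (f : A) (b : Away 𝒜 f) (x : Proj.basicOpen 𝒜 f) :
    oval ((Proj.awayToSection 𝒜 f).hom b) x =
      IsLocalization.map (M := Submonoid.powers f) (T := x.1.asHomogeneousIdeal.toIdeal.primeCompl)
        (Loc 𝒜 x.1) (RingHom.id A) (Submonoid.powers_le.mpr x.2) b.val :=
  ProjectiveSpectrum.Proj.awayToSection_apply 𝒜 f b x

theorem oval_awayToSection_mk {f : A} {m : ℕ} (hf : f ∈ 𝒜 m) (k : ℕ) (a : A) (ha : a ∈ 𝒜 (k • m))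
    (x : Proj.basicOpen 𝒜 f) :
    oval ((Proj.awayToSection 𝒜 f).hom (Away.mk 𝒜 hf k a ha)) x =
      (Localization.mk a ⟨f ^ k, fun h => x.2 (x.1.isPrime.mem_of_pow_mem k h)⟩ : Loc 𝒜 x.1) := by
  rw [oval_awayToSection, Away.val_mk, Localization.mk_eq_mk', IsLocalization.map_mk',
    Localization.mk_eq_mk']
  rfl

theorem oval_awayToSection_fromZero (f : A) (a : 𝒜 0) (x : Proj.basicOpen 𝒜 f) :
    oval ((Proj.awayToSection 𝒜 f).hom (fromZeroRingHom 𝒜 _ a)) x = Localization.mk (a : A) 1 := by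
  rw [oval_awayToSection]
  change IsLocalization.map _ _ _ (Localization.mk (a : A) 1) = _
  rw [Localization.mk_one_eq_algebraMap, IsLocalization.map_eq, Localization.mk_one_eq_algebraMap]
  rfl

theorem awayToSection_bijective {f : A} {m : ℕ} (hf : f ∈ 𝒜 m) (hm : 0 < m) :
    Function.Bijective (Proj.awayToSection 𝒜 f).hom := by
  have : IsIso (Proj.awayToSection 𝒜 f) := (Proj.basicOpenIsoAway 𝒜 f hf hm).isIso_hom
  exact (ConcreteCategory.isIso_iff_bijective _).mp this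

end Away

section ToSpecZero

open HomogeneousLocalization

variable (𝒜)

/-- Restriction to a standard chart of the function pulled back from `Spec 𝒜₀` (lead's S0024 lemma, for a general
graded ring). -/
theorem toSpecZero_appTop_res {m : ℕ} (f : A) (f_deg : f ∈ 𝒜 m) (hm : 0 < m) :
    (Scheme.ΓSpecIso (.of (𝒜 0))).inv ≫ (Proj.toSpecZero 𝒜).appTop ≫
      (Proj 𝒜).presheaf.map (homOfLE (le_top : Proj.basicOpen 𝒜 f ≤ ⊤)).op =
    CommRingCat.ofHom (fromZeroRingHom 𝒜 _) ≫ Proj.awayToSection 𝒜 f := by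
  have h := congrArg Scheme.Hom.appTop (Proj.awayι_toSpecZero 𝒜 f f_deg hm)
  rw [Scheme.Hom.comp_appTop, Proj.awayι, Scheme.Hom.comp_appTop] at h
  have h2 : (Proj.toSpecZero 𝒜).appTop ≫ (Proj.basicOpen 𝒜 f).ι.appTop =
      (Spec.map (CommRingCat.ofHom (fromZeroRingHom 𝒜 (Submonoid.powers f)))).appTop ≫
        (Proj.basicOpenIsoSpec 𝒜 f f_deg hm).hom.appTop := by
    have h5 : (Proj.basicOpenIsoSpec 𝒜 f f_deg hm).inv.appTop ≫
        (Proj.basicOpenIsoSpec 𝒜 f f_deg hm).hom.appTop = 𝟙 _ := by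
      rw [← Scheme.Hom.comp_appTop, Iso.hom_inv_id]; rfl
    rw [← h, Category.assoc, Category.assoc, h5, Category.comp_id]
  have h3 : (Proj.basicOpenIsoSpec 𝒜 f f_deg hm).hom.appTop =
      (Scheme.ΓSpecIso _).hom ≫ Proj.awayToSection 𝒜 f ≫ (Proj.basicOpen 𝒜 f).topIso.inv := by
    rw [Proj.basicOpenIsoSpec_hom]
    exact Proj.basicOpenToSpec_app_top 𝒜 f
  have h4 : (Proj.basicOpen 𝒜 f).ι.appTop ≫ (Proj.basicOpen 𝒜 f).topIso.hom =
      (Proj 𝒜).presheaf.map (homOfLE (le_top : Proj.basicOpen 𝒜 f ≤ ⊤)).op := by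
    rw [Scheme.Opens.ι_appTop, Scheme.Opens.topIso_hom]
    exact ((Proj 𝒜).presheaf.map_comp _ _).symm
  rw [← h4, reassoc_of% h2, h3]
  simp only [Category.assoc, Iso.inv_hom_id, Category.comp_id, Scheme.ΓSpecIso_naturality_assoc,
    Iso.inv_hom_id_assoc]

/-- The structure morphism `Proj 𝒜 ⟶ Spec R` of a graded `R`-algebra. -/
noncomputable def structMap : Proj 𝒜 ⟶ Spec (CommRingCat.of R) :=
  Proj.toSpecZero 𝒜 ≫ Spec.map (CommRingCat.ofHom (algebraMap R (𝒜 0)))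

/-- The global function on `Proj 𝒜` attached to `r ∈ R` has value `r / 1` everywhere. -/
theorem oval_toGlobal (r : R) (x : (⊤ : (Proj 𝒜).Opens)) :
    oval (show Γ(Proj 𝒜, ⊤) from Coh.toGlobal (structMap 𝒜) r) x =
      Localization.mk (algebraMap R A r) 1 := by
  obtain ⟨m, hm, f, hf, hfx⟩ := exists_pos_notMem 𝒜 x.1
  have h1 : (show Γ(Proj 𝒜, ⊤) from Coh.toGlobal (structMap 𝒜) r) =
      ((Scheme.ΓSpecIso (.of (𝒜 0))).inv ≫ (Proj.toSpecZero 𝒜).appTop).hom (algebraMap R (𝒜 0) r) := by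
    unfold Coh.toGlobal structMap
    rw [Scheme.Hom.comp_appTop]
    have := Scheme.ΓSpecIso_inv_naturality (CommRingCat.ofHom (algebraMap R (𝒜 0)))
    change ((Scheme.ΓSpecIso (CommRingCat.of R)).inv ≫
      (Spec.map (CommRingCat.ofHom (algebraMap R (𝒜 0)))).appTop ≫ (Proj.toSpecZero 𝒜).appTop).hom r = _
    rw [← Category.assoc, ← this]
    rfl
  have h2 := congrArg (fun φ => φ.hom (algebraMap R (𝒜 0) r)) (toSpecZero_appTop_res 𝒜 f hf hm)
  simp only [CommRingCat.hom_comp, CommRingCat.hom_ofHom, RingHom.coe_comp, Function.comp_apply] at h2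
  have h3 : oval (show Γ(Proj 𝒜, ⊤) from Coh.toGlobal (structMap 𝒜) r) x =
      oval (((Proj 𝒜).presheaf.map (homOfLE (le_top : Proj.basicOpen 𝒜 f ≤ ⊤)).op).hom
        (show Γ(Proj 𝒜, ⊤) from Coh.toGlobal (structMap 𝒜) r)) ⟨x.1, hfx⟩ := rfl
  rw [h3, h1]
  erw [h2]
  rw [oval_awayToSection_fromZero]
  rfl

end ToSpecZero

section LocalForm

variable {f g : A} {m : ℕ} (hf : f ∈ 𝒜 1) (hg : g ∈ 𝒜 m) (hm : 0 < m)
  (hle : Proj.basicOpen 𝒜 g ≤ Proj.basicOpen 𝒜 f)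

include hf hg hm hle in
/-- Every section of `O(d)` over `D₊(g) ≤ D₊(f)`, `f ∈ 𝒜 1`, is `x ↦ (a / g ^ k) * f ^ d`. -/
theorem exists_eq_mk_mul_zpow (d : ℤ) (t : Γ(twist 𝒜 d, Proj.basicOpen 𝒜 g)) :
    ∃ (k : ℕ) (a : A) (_ : a ∈ 𝒜 (k • m)), ∀ x : Proj.basicOpen 𝒜 g,
      sval t x = (Localization.mk a ⟨g ^ k, fun h => x.2 (x.1.isPrime.mem_of_pow_mem k h)⟩ : Loc 𝒜 x.1) *
        (((fUnit x.1 f (hle x.2)) ^ d : (Loc 𝒜 x.1)ˣ) : Loc 𝒜 x.1) := by
  have hU : ∀ x : Proj.basicOpen 𝒜 g, f ∉ x.1.asHomogeneousIdeal := fun x => hle x.2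
  obtain ⟨c, hc⟩ := (isGen_genAt hf hU d d (by simp) _ le_rfl).2 t
  obtain ⟨b, hb⟩ := (awayToSection_bijective hg hm).2 c
  obtain ⟨k, a, ha, rfl⟩ := HomogeneousLocalization.Away.mk_surjective 𝒜 hg b
  refine ⟨k, a, ha, fun x => ?_⟩
  have h1 := congrArg (fun s => sval s x) hc
  simp only [sval_smul] at h1
  rw [← h1, ← hb, oval_awayToSection_mk]
  rfl

end LocalForm

end Groth.Agent.Lib.H4Twist
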