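import Mathlib.RingTheory.GradedAlgebra.FiniteType
import Mathlib.RingTheory.GradedAlgebra.Noetherian
import Mathlib.RingTheory.GradedAlgebra.Homogeneous.Ideal
import Mathlib.AlgebraicGeometry.ProjectiveSpectrum.Proper
import Mathlib.AlgebraicGeometry.Noetherian

set_option autoImplicit false

namespace Groth.Agent.Lib.GradedNoetherian

open DirectSum

section ring

variable {A σ : Type*} [CommRing A] [SetLike σ A] [AddSubgroupClass σ A]
variable (𝒜 : ℕ → σ) [GradedRing 𝒜]

/-- In a Noetherian graded ring the irrelevant ideal is spanned by finitely many homogeneous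
elements of positive degree. -/
theorem exists_finset_span_irrelevant [IsNoetherianRing A] :
    ∃ s : Finset A, (∀ a ∈ s, ∃ n, 0 < n ∧ a ∈ 𝒜 n) ∧
      (HomogeneousIdeal.irrelevant 𝒜).toIdeal = Ideal.span (s : Set A) := by
  classical
  obtain ⟨F, hF⟩ := (IsNoetherian.noetherian (HomogeneousIdeal.irrelevant 𝒜).toIdeal)
  have hFmem : ∀ a ∈ F, a ∈ (HomogeneousIdeal.irrelevant 𝒜).toIdeal := fun a ha ↦
    hF ▸ Submodule.subset_span ha
  let ι₀ := Σ (x : F), (DirectSum.decompose 𝒜 x.1).support
  let x (i : ι₀) : A := ((DirectSum.decompose 𝒜) i.1 i.2).1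
  refine ⟨Finset.univ.image x, ?_, ?_⟩
  · intro a ha
    simp only [Finset.mem_image, Finset.mem_univ, true_and] at ha
    obtain ⟨⟨⟨b, hb⟩, n, hn⟩, rfl⟩ := ha
    refine ⟨n, ?_, (DirectSum.decompose 𝒜 b n).2⟩
    rw [Nat.pos_iff_ne_zero]
    rintro rfl
    have h0 : ((DirectSum.decompose 𝒜 b 0 : 𝒜 0) : A) = 0 := hFmem b hb
    exact (DFinsupp.mem_support_iff.mp hn) (Subtype.ext h0)
  · apply le_antisymm
    · rw [← hF]
      refine Ideal.span_le.mpr fun a ha ↦ ?_
      rw [← DirectSum.sum_support_decompose 𝒜 a]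
      refine sum_mem fun n hn ↦ Ideal.subset_span ?_
      simp only [Finset.coe_image, Finset.coe_univ, Set.image_univ, Set.mem_range]
      exact ⟨⟨⟨a, ha⟩, n, hn⟩, rfl⟩
    · refine Ideal.span_le.mpr fun y hy ↦ ?_
      simp only [Finset.coe_image, Finset.coe_univ, Set.image_univ, Set.mem_range] at hy
      obtain ⟨⟨⟨b, hb⟩, n, hn⟩, rfl⟩ := hy
      exact (HomogeneousIdeal.irrelevant 𝒜).isHomogeneous n (hFmem b hb)

/-- A Noetherian `ℕ`-graded ring is of finite type over its degree zero part. -/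
theorem finiteType_of_isNoetherianRing [IsNoetherianRing A] : Algebra.FiniteType (𝒜 0) A := by
  classical
  obtain ⟨s, hs, hspan⟩ := exists_finset_span_irrelevant 𝒜
  refine ⟨⟨s, ?_⟩⟩
  have key : ∀ n : ℕ, ∀ y ∈ 𝒜 n, y ∈ Algebra.adjoin (𝒜 0) (s : Set A) := by
    intro n
    induction n using Nat.strong_induction_on with
    | _ n ih =>
      intro y hy
      rcases Nat.eq_zero_or_pos n with rfl | hn
      · exact Subalgebra.algebraMap_mem _ (⟨y, hy⟩ : 𝒜 0)
      · have hy' : y ∈ (HomogeneousIdeal.irrelevant 𝒜).toIdeal :=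
          HomogeneousIdeal.mem_irrelevant_of_mem 𝒜 hn hy
        rw [hspan] at hy'
        obtain ⟨c, -, hc⟩ := Submodule.mem_span_finset.mp hy'
        have h1 : y = ∑ a ∈ s, ((DirectSum.decompose 𝒜 (c a * a) n : 𝒜 n) : A) := by
          conv_lhs => rw [← DirectSum.decompose_of_mem_same 𝒜 hy, ← hc]
          rw [DirectSum.decompose_sum, DFinsupp.finsetSum_apply, AddSubmonoidClass.coe_finsetSum]
          rfl
        rw [h1]
        refine sum_mem fun a ha ↦ ?_
        obtain ⟨d, hd, had⟩ := hs a ha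
        by_cases hdn : d ≤ n
        · rw [DirectSum.coe_decompose_mul_of_right_mem_of_le 𝒜 had hdn]
          refine Subalgebra.mul_mem _ ?_ (Algebra.subset_adjoin ha)
          exact ih (n - d) (by omega) _ (DirectSum.decompose 𝒜 (c a) (n - d)).2
        · rw [DirectSum.coe_decompose_mul_of_right_mem_of_not_le 𝒜 had hdn]
          exact zero_mem _
  rw [eq_top_iff]
  intro y _
  rw [← DirectSum.sum_support_decompose 𝒜 y]
  exact sum_mem fun n _ ↦ key n _ (DirectSum.decompose 𝒜 y n).2

end ring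

section scheme

universe u

open AlgebraicGeometry

/-- `Proj` of a Noetherian graded ring is a Noetherian scheme. -/
theorem proj_isNoetherian {R A : Type u} [CommRing R] [CommRing A] [Algebra R A]
    (𝒜 : ℕ → Submodule R A) [GradedAlgebra 𝒜] [IsNoetherianRing A] :
    IsNoetherian (Proj 𝒜) := by
  have : Algebra.FiniteType (𝒜 0) A := finiteType_of_isNoetherianRing 𝒜
  have : IsLocallyNoetherian (Proj 𝒜) :=
    LocallyOfFiniteType.isLocallyNoetherian (Proj.toSpecZero 𝒜)
  have : CompactSpace (Proj 𝒜) := QuasiCompact.compactSpace_of_compactSpace (Proj.toSpecZero 𝒜)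
  constructor

end scheme

end Groth.Agent.Lib.GradedNoetherian
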