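import Groth.Agent.Lib.H4ProjSpaceTop

/-!
# Finiteness of the cohomology of `O(d)` on projective space (helper4, CohChain W5)

`finite_HH_twist n R d q : Module.Finite R (H^q(P^n_R, O(d)))` for every commutative ring `R`.
-/

set_option autoImplicit false
universe u
open CategoryTheory AlgebraicGeometry MvPolynomial

namespace Groth.Agent.Lib.H4Twist

theorem finite_homogeneousSubmodule (σ : Type*) [Finite σ] (R : Type*) [CommRing R] (k : ℕ) :
    Module.Finite R ↥(homogeneousSubmodule σ R k) :=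
  Module.Finite.iff_fg.mpr (homogeneousSubmodule_fg σ R k)

/-- Every cohomology group of `O(d)` on `P^n_R` is a finite `R`-module. -/
theorem finite_HH_twist (n : ℕ) (R : Type u) [CommRing R] (d : ℤ) (q : ℕ) :
    Module.Finite R (Coh.HH (CohB1.ProjSpace n R) (Twist.twistProjSpace n R d) q) := by
  by_cases h₀ : q = 0 ∧ 0 ≤ d
  · obtain ⟨rfl, hd⟩ := h₀
    obtain ⟨k, rfl⟩ : ∃ k : ℕ, d = (k : ℤ) := ⟨d.toNat, (Int.toNat_of_nonneg hd).symm⟩
    have := finite_homogeneousSubmodule (Fin (n + 1)) R k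
    exact Module.Finite.equiv (gammaLinearEquiv n R k).symm
  by_cases hn : q = n ∧ d ≤ -((n : ℤ) + 1)
  · obtain ⟨rfl, hd⟩ := hn
    obtain ⟨k, rfl⟩ : ∃ k : ℕ, d = -((q : ℤ) + 1 + k) :=
      ⟨(-d - ((q : ℤ) + 1)).toNat, by rw [Int.toNat_of_nonneg (by omega)]; ring⟩
    obtain ⟨e⟩ := nonempty_HH_top_equiv_homogeneous q R k
    have := finite_homogeneousSubmodule (Fin (q + 1)) R k
    exact Module.Finite.equiv e.symm
  · have := subsingleton_HH_twist_of_not n R d q h₀ hn
    exact Module.Finite.of_finite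

end Groth.Agent.Lib.H4Twist
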