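import Groth.Agent.Lib.H4TwistMul

/-!
# Serre twists on `Proj`: unit sections, covers by `D₊(f)` (helper4, OXMod M6)

* `isGen_of_mul_eq_one` : a section `s` of `O(k)` over `U` with a pointwise inverse `s'` in `O(-k)` is a free
  generator of `O(k)` over `U`;
* `oneSec`, `isGen_oneSec` : the unit section of `O(0)`;
* `isInvertible_twist_restrict_of_le` : `O(n * d)|_Y` is invertible for `Y ≤ ⋃_{f ∈ 𝒜 d} D₊(f)`;
* `twistMulIso_of_cover`, `nonempty_twistPowIso_of_cover` : variants for `Proj` covered by `D₊(f)`, `f ∈ 𝒜 1`.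
-/

set_option autoImplicit false
universe u
open CategoryTheory AlgebraicGeometry TopologicalSpace Opposite Twist
open Groth.Agent.Lib.H90Invertible Groth.Agent.Lib.H4TensorPair

namespace Groth.Agent.Lib.H4Twist

variable {R A : Type u} [CommRing R] [CommRing A] [Algebra R A] {𝒜 : ℕ → Submodule R A} [GradedAlgebra 𝒜]

/-- The unit section of `O(0)`. -/
def oneSec (U : (Proj 𝒜).Opens) : Γ(twist 𝒜 0, U) :=
  genAt (f := (1 : A)) (d := 0) SetLike.GradedOne.one_mem (fun x => one_notMem x.1) 0 0 (by simp)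

@[simp] theorem sval_oneSec (U : (Proj 𝒜).Opens) (x : U) : sval (oneSec (𝒜 := 𝒜) U) x = 1 := by
  show (((fUnit x.1 (1 : A) (one_notMem x.1)) ^ (0 : ℤ) : (Loc 𝒜 x.1)ˣ) : Loc 𝒜 x.1) = 1
  rw [zpow_zero, Units.val_one]

theorem isGen_oneSec (U : (Proj 𝒜).Opens) : IsGen (twist 𝒜 0) U (oneSec U) :=
  isGen_genAt _ _ 0 0 _

/-- A section of `O(k)` which has a pointwise inverse in `O(k')`, `k + k' = 0`, is a free generator. -/
theorem isGen_of_mul_eq_one {k k' : ℤ} (hk : k + k' = 0) {U : (Proj 𝒜).Opens}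
    (s : Γ(twist 𝒜 k, U)) (s' : Γ(twist 𝒜 k', U)) (h : ∀ x : U, sval s x * sval s' x = 1) :
    IsGen (twist 𝒜 k) U s := by
  intro W hW
  constructor
  · intro a b hab
    dsimp only at hab
    refine oval_ext fun x => ?_
    have h1 := congrArg (fun t : Γ(twist 𝒜 k, W) => sval t x) hab
    simp only [sval_smul, sval_map] at h1
    have h2 := congrArg (fun z => z * sval s' ⟨x.1, hW x.2⟩) h1
    simp only [mul_assoc, h ⟨x.1, hW x.2⟩, mul_one] at h2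
    exact h2
  · intro t
    obtain ⟨c, hc⟩ := (isGen_oneSec W W le_rfl).2
      (mulSec hk t ((twist 𝒜 k').presheaf.map (homOfLE hW).op s'))
    refine ⟨c, sec_ext fun x => ?_⟩
    have h1 := congrArg (fun t : Γ(twist 𝒜 0, W) => sval t x) hc
    simp only [sval_smul, sval_map, sval_oneSec, mul_one, sval_mulSec] at h1
    rw [sval_smul, sval_map, h1, mul_assoc, mul_comm (sval s' _), h ⟨x.1, hW x.2⟩, mul_one]

variable (𝒜)

/-- `O(n * d)|_Y` is invertible for every open `Y` contained in the union of the `D₊(f)`, `f ∈ 𝒜 d`. -/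
theorem isInvertible_twist_restrict_of_le (d : ℕ) (n : ℤ) (Y : (Proj 𝒜).Opens)
    (hY : ∀ y ∈ Y, ∃ f ∈ 𝒜 d, f ∉ (y : ProjectiveSpectrum 𝒜).asHomogeneousIdeal) :
    PicF.IsInvertible ((twist 𝒜 (n * d)).restrict Y.ι) := by
  rw [isInvertible_iff_exists_isGen]
  intro y
  obtain ⟨f, hfd, hf⟩ := hY y.1 y.2
  refine ⟨Y.ι ⁻¹ᵁ Proj.basicOpen 𝒜 f, hf, ?_⟩
  have hle : Y.ι ''ᵁ (Y.ι ⁻¹ᵁ Proj.basicOpen 𝒜 f) ≤ Proj.basicOpen 𝒜 f :=
    Y.ι.image_preimage_le _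
  obtain ⟨s, hs⟩ := exists_isGen_of_le_basicOpen 𝒜 hfd n hle
  exact ⟨s, (isGen_restrict_iff Y.ι (twist 𝒜 (n * d)) _ s).mpr hs⟩

/-- `O(m) ⊗ O(n) ≅ O(m + n)` on `Proj 𝒜` when `Proj 𝒜` is covered by the `D₊(f)`, `f ∈ 𝒜 1`. -/
noncomputable def twistMulIso_of_cover
    (hcov : ∀ x : ProjectiveSpectrum 𝒜, ∃ f ∈ 𝒜 1, f ∉ x.asHomogeneousIdeal) (m n : ℤ) :
    CohB1.tensorMod (twist 𝒜 m) (twist 𝒜 n) ≅ twist 𝒜 (m + n) :=
  (mulPairing 𝒜 m n (m + n) rfl).iso (by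
    intro x
    obtain ⟨f, hf1, hfx⟩ := hcov x
    have hU : ∀ y : Proj.basicOpen 𝒜 f, f ∉ y.1.asHomogeneousIdeal := fun y => y.2
    refine ⟨Proj.basicOpen 𝒜 f, genAt hf1 hU m m (by simp), genAt hf1 hU n n (by simp), hfx,
      isGen_genAt hf1 hU m m _, isGen_genAt hf1 hU n n _, ?_⟩
    have : (mulPairing 𝒜 m n (m + n) rfl).toFun (Proj.basicOpen 𝒜 f) (genAt hf1 hU m m (by simp))
        (genAt hf1 hU n n (by simp)) = genAt hf1 hU (m + n) (m + n) (by simp) :=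
      sec_ext fun y => by
        show sval (genAt hf1 hU m m _) y * sval (genAt hf1 hU n n _) y = _
        rw [sval_genAt, sval_genAt, sval_genAt, ← Units.val_mul, ← zpow_add]
    rw [this]
    exact isGen_genAt hf1 hU (m + n) (m + n) _)

theorem nonempty_twistPowIso_of_cover
    (hcov : ∀ x : ProjectiveSpectrum 𝒜, ∃ f ∈ 𝒜 1, f ∉ x.asHomogeneousIdeal) (n : ℕ) :
    Nonempty (twist 𝒜 (n : ℤ) ≅ CohB1.tensorPow (twist 𝒜 1) n) := by
  induction n with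
  | zero => exact nonempty_twistZeroIso 𝒜
  | succ n ih =>
    obtain ⟨e⟩ := ih
    have e1 : twist 𝒜 ((n + 1 : ℕ) : ℤ) ≅ twist 𝒜 ((n : ℤ) + 1) := eqToIso (by push_cast; rfl)
    exact ⟨e1 ≪≫ (twistMulIso_of_cover 𝒜 hcov n 1).symm ≪≫
      Groth.Agent.Lib.H78AmpleUnit.tensorModIso e (Iso.refl _)⟩

variable {𝒜} in
theorem cover_of_iSup_eq_top (d : ℕ) (hcov : (⨆ f : 𝒜 d, Proj.basicOpen 𝒜 (f : A)) = ⊤)
    (x : ProjectiveSpectrum 𝒜) : ∃ f ∈ 𝒜 d, f ∉ x.asHomogeneousIdeal := by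
  have hx : (x : Proj 𝒜) ∈ (⨆ f : 𝒜 d, Proj.basicOpen 𝒜 (f : A)) := by rw [hcov]; trivial
  obtain ⟨f, hf⟩ := TopologicalSpace.Opens.mem_iSup.mp hx
  exact ⟨f.1, f.2, hf⟩

end Groth.Agent.Lib.H4Twist
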