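import Groth.Agent.Lib.CohFinAmple
import Groth.Agent.Lib.H4ProjSpaceFinite
import Groth.Agent.Lib.H4TwistAmple
import Groth.Agent.Lib.H4TwistUnit
import Groth.Agent.Lib.GradedNoetherian
import Mathlib.RingTheory.MvPolynomial.Ideal
import Mathlib.RingTheory.Polynomial.Basic

/-!
# Finiteness of coherent cohomology on projective space, reduced to the twists `O(d)` (helper48)

For `X = P^n_R` (`CohB1.ProjSpace n R`), `R` Noetherian:

* `irrelevant_eq_span_X`, `isAmple_twist_one` : `O(1)` is ample;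
* `nonempty_negPowIso` : `O(-1)^{⊗ m} ≅ O(-m)`; `nonempty_invIso` : `O(1) ⊗ O(-1) ≅ O`;
* `finite_HH_projSpace` : all `H^i(P^n_R, F)`, `F` coherent, are finite `R`-modules (uses helper4's
  `H4Twist.finite_HH_twist` for the twists and `CohFinAmple.finite_HH_of_ample`).
-/

set_option autoImplicit false
universe u
open CategoryTheory CategoryTheory.Limits AlgebraicGeometry Opposite TopologicalSpace CohB1 Twist
open MvPolynomial Groth.Agent.Lib.H4Twist Groth.Agent.Lib.OXModTensor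

namespace Groth.Agent.Lib.ProjSpaceFin

variable (n : ℕ) (R : Type u) [CommRing R]

local notation "𝒜" => CohB1.polyGrading n R

/-- Every point of `P^n_R` lies in some `D₊(X i)`. -/
theorem hcov (x : ProjectiveSpectrum 𝒜) : ∃ f ∈ 𝒜 1, f ∉ x.asHomogeneousIdeal := by
  obtain ⟨i, hi⟩ := exists_X_notMem (n := n) (R := R) x
  exact ⟨X i, ProjSpaceCover.X_mem n R i, hi⟩

/-- The irrelevant ideal of the polynomial ring is generated by the variables. -/
theorem irrelevant_eq_span_X :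
    (HomogeneousIdeal.irrelevant 𝒜).toIdeal =
      Ideal.span (X '' (Set.univ : Set (Fin (n + 1))) : Set (MvPolynomial (Fin (n + 1)) R)) := by
  apply le_antisymm
  · intro p hp
    have hp' : GradedRing.proj 𝒜 0 p = 0 := hp
    have h0 : coeff 0 p = 0 := by
      have h1 : GradedRing.proj 𝒜 0 p = homogeneousComponent 0 p :=
        decomposition.decompose'_apply p 0
      rw [h1, homogeneousComponent_zero] at hp'
      exact C_injective _ _ (hp'.trans C_0.symm)
    rw [mem_ideal_span_X_image]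
    intro m hm
    have hm0 : m ≠ 0 := by
      rintro rfl
      exact (mem_support_iff.mp hm) h0
    obtain ⟨i, hi⟩ := Finsupp.ne_iff.mp hm0
    exact ⟨i, Set.mem_univ i, by simpa using hi⟩
  · rw [Ideal.span_le]
    rintro _ ⟨i, -, rfl⟩
    exact HomogeneousIdeal.mem_irrelevant_of_mem 𝒜 one_pos (ProjSpaceCover.X_mem n R i)

/-- `O(1)` is ample on `P^n_R`. -/
theorem isAmple_twist_one : CohB1.IsAmple (twist 𝒜 1) := by
  classical
  refine Groth.Agent.Lib.H4Twist.isAmple_twist_one 𝒜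
    (Finset.univ.image (X : Fin (n + 1) → MvPolynomial (Fin (n + 1)) R)) ?_ ?_
  · intro f hf
    obtain ⟨i, -, rfl⟩ := Finset.mem_image.mp hf
    exact ProjSpaceCover.X_mem n R i
  · rw [Finset.coe_image, Finset.coe_univ]
    exact irrelevant_eq_span_X n R

/-- `O(-1)^{⊗ m} ≅ O(-m)`. -/
theorem nonempty_negPowIso (m : ℕ) :
    Nonempty (tensorPow (twist 𝒜 (-1)) m ≅ twist 𝒜 (-(m : ℤ))) := by
  induction m with
  | zero =>
    obtain ⟨e⟩ := nonempty_twistZeroIso 𝒜
    exact ⟨e.symm ≪≫ eqToIso (by simp)⟩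
  | succ m ih =>
    obtain ⟨e⟩ := ih
    exact ⟨tensorModIso e (Iso.refl _) ≪≫ twistMulIso_of_cover 𝒜 (hcov n R) (-(m : ℤ)) (-1) ≪≫
      eqToIso (by push_cast; ring_nf)⟩

/-- `O(1) ⊗ O(-1) ≅ O`. -/
theorem nonempty_invIso :
    Nonempty (tensorMod (twist 𝒜 1) (twist 𝒜 (-1)) ≅ Coh.structureModule (Proj 𝒜)) := by
  obtain ⟨e⟩ := nonempty_twistZeroIso 𝒜
  exact ⟨twistMulIso_of_cover 𝒜 (hcov n R) 1 (-1) ≪≫ eqToIso (by norm_num) ≪≫ e⟩

open Groth.Agent.Lib.CohLES

/-- **Finiteness of coherent cohomology on `P^n_R`**, `R` Noetherian. -/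
theorem finite_HH_projSpace [IsNoetherianRing R]
    (F : (CohB1.ProjSpace n R).Modules) (hF : Coh.IsCoh F) (i : ℕ) :
    Module.Finite R (Coh.HH (CohB1.ProjSpace n R) F i) := by
  haveI : IsNoetherian (Proj 𝒜) := Groth.Agent.Lib.GradedNoetherian.proj_isNoetherian 𝒜
  haveI : IsLocallyNoetherian (CohB1.ProjSpace n R) :=
    inferInstanceAs (IsLocallyNoetherian (Proj 𝒜))
  haveI : CompactSpace (CohB1.ProjSpace n R) := inferInstanceAs (CompactSpace (Proj 𝒜))
  obtain ⟨e⟩ := nonempty_invIso n R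
  have hL' : Coh.IsCoh (X := CohB1.ProjSpace n R) (twist 𝒜 (-1)) :=
    Groth.Agent.Lib.H90Invertible.isCoh_of_isInvertible (isInvertible_twistProjSpace n R (-1))
  refine Groth.Agent.Lib.CohFinAmple.finite_HH_of_ample R (X := CohB1.ProjSpace n R)
    (L := twist 𝒜 1) (L' := twist 𝒜 (-1)) (isAmple_twist_one n R) e hL' ?_ F hF i
  intro m j
  obtain ⟨em⟩ := nonempty_negPowIso n R m
  haveI : Module.Finite R (Coh.HH (CohB1.ProjSpace n R) (twist 𝒜 (-(m : ℤ))) j) :=
    finite_HH_twist n R (-(m : ℤ)) j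
  exact Module.Finite.equiv (mapEquivₗ R (X := CohB1.ProjSpace n R) em j).symm

end Groth.Agent.Lib.ProjSpaceFin
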