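import Mathlib
import Groth.Agent.Lib.ProjSpaceFin
import Groth.Agent.Lib.H4TwistGamma
import Groth.Agent.Lib.H90OXModAffineFT
import Groth.Agent.Lib.H90OXModQcqs
import Groth.Agent.Lib.CohLocal
import Groth.Agent.Lib.ProjSpaceProper

/-!
# `(P^N_B → Spec B)_*` preserves coherence (helper90), `B` Noetherian
-/

set_option autoImplicit false
universe u

open CategoryTheory CategoryTheory.Limits AlgebraicGeometry TopologicalSpace Opposite Coherent

namespace Groth.Agent.Lib.H90ProjPush

variable (N : ℕ) (B : Type u) [CommRing B]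

/-- The structure map `B → Γ(P^N_B, O)`. -/
noncomputable def toΓ : B →+* Γ(CohB1.ProjSpace N B, ⊤) :=
  ((CohB1.ProjSpace.toSpec N B).appTop).hom.comp (Scheme.ΓSpecIso (CommRingCat.of B)).inv.hom

/-- `Γ(F, ⊤)` is finite over `B` (acting through `B → Γ(P^N_B, O)`). -/
theorem finite_sections_top [IsNoetherianRing B] (F : (CohB1.ProjSpace N B).Modules)
    (hF : Coh.IsCoh F) :
    @Module.Finite B Γ(F, ⊤) _ _ (Module.compHom Γ(F, ⊤) (toΓ N B)) := by
  letI : Module B Γ(F, ⊤) := Module.compHom Γ(F, ⊤) (toΓ N B)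
  have h := Groth.Agent.Lib.ProjSpaceFin.finite_HH_projSpace N B F hF 0
  let e : Coh.HH (CohB1.ProjSpace N B) F 0 ≃ₗ[B] Γ(F, ⊤) :=
    { Groth.Agent.Lib.H4Twist.h0Equiv F with
      map_smul' := fun b x => by
        exact Groth.Agent.Lib.H4Twist.h0Equiv_smul F
          (Coh.toGlobal (CohB1.ProjSpace.toSpec N B) b) x }
  exact Module.Finite.equiv e

/-- **Pushforward along `P^N_B → Spec B` preserves coherence** (`B` Noetherian). -/
theorem isCoh_pushforward_toSpec [IsNoetherianRing B] (F : (CohB1.ProjSpace N B).Modules)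
    (hF : Coh.IsCoh F) :
    Coh.IsCoh ((Scheme.Modules.pushforward (CohB1.ProjSpace.toSpec N B)).obj F) := by
  haveI : F.IsQuasicoherent := hF.1
  haveI : IsProper (CohB1.ProjSpace.toSpec N B) :=
    Groth.Agent.Lib.ProjSpaceProper.isProper_toSpec N B
  haveI : ((Scheme.Modules.pushforward (CohB1.ProjSpace.toSpec N B)).obj F).IsQuasicoherent :=
    Groth.Agent.Lib.H90OXModQcqs.isQuasicoherent_pushforward_of_qcqs _ F
  refine Groth.Agent.Lib.H90OXModAffineFT.isCoh_of_affine_cover _ (fun _ : PUnit.{u+1} => ⊤)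
    (by simp) (fun _ => isAffineOpen_top _) fun _ => ?_
  have h := finite_sections_top N B F hF
  letI : Module B Γ((Scheme.Modules.pushforward (CohB1.ProjSpace.toSpec N B)).obj F, ⊤) :=
    Module.compHom Γ(F, ⊤) (toΓ N B)
  haveI : Module.Finite B Γ((Scheme.Modules.pushforward (CohB1.ProjSpace.toSpec N B)).obj F, ⊤) := h
  exact Groth.Agent.Lib.CohLocal.finite_of_smul_eq
    (Scheme.ΓSpecIso (CommRingCat.of B)).inv.hom (fun _ _ => rfl)

end Groth.Agent.Lib.H90ProjPush
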