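import Mathlib
import Groth.Agent.Lib.H90ProjBC

/-!
# Relative projectivity over affine opens (helper90, ProperFin K1-d step 1)

`j : Z' ⟶ P^N_A` closed immersion, `g : Z' ⟶ X` over `Spec A` (`X` separated over `A`), `V ⊆ X` affine open,
`B = Γ(X, V)`: then `g⁻¹(V)` is a closed subscheme of `P^N_B`, compatibly with `β : P^N_B ⟶ P^N_A`.
-/

set_option autoImplicit false
universe u
open CategoryTheory CategoryTheory.Limits AlgebraicGeometry CohB1

namespace Groth.Agent.Lib.H90RelProj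

section Cat

variable {C : Type*} [Category C] {P S X V PV Z' W : C} (p : P ⟶ S) (f : X ⟶ S) (v : V ⟶ X)
  [HasPullback p f] (β : PV ⟶ P) (q : PV ⟶ V) (hPV : IsPullback β q p (v ≫ f))

/-- `P_V ⟶ P ×_S X` -/
noncomputable def mm : PV ⟶ pullback p f :=
  pullback.lift β (q ≫ v) (by rw [hPV.w, Category.assoc])

include hPV in
theorem isPullback_mm : IsPullback (mm p f v β q hPV) q (pullback.snd p f) v := by
  refine IsPullback.of_right ?_ (pullback.lift_snd _ _ _) (IsPullback.of_hasPullback p f)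
  rw [mm, pullback.lift_fst]
  exact hPV

variable (c : Z' ⟶ pullback p f) (wι : W ⟶ Z') (gV : W ⟶ V)
  (hW : IsPullback wι gV (c ≫ pullback.snd p f) v)

/-- the induced map `W ⟶ P_V` -/
noncomputable def jj : W ⟶ PV :=
  (isPullback_mm p f v β q hPV).lift (wι ≫ c) gV (by rw [Category.assoc, hW.w])

theorem jj_q : jj p f v β q hPV c wι gV hW ≫ q = gV := IsPullback.lift_snd _ _ _ _

theorem jj_mm : jj p f v β q hPV c wι gV hW ≫ mm p f v β q hPV = wι ≫ c := IsPullback.lift_fst _ _ _ _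

theorem jj_β : jj p f v β q hPV c wι gV hW ≫ β = wι ≫ c ≫ pullback.fst p f := by
  have h := congrArg (fun t => t ≫ pullback.fst p f) (jj_mm p f v β q hPV c wι gV hW)
  simp only [Category.assoc] at h
  rw [mm, pullback.lift_fst] at h
  exact h

theorem isPullback_jj :
    IsPullback (jj p f v β q hPV c wι gV hW) wι (mm p f v β q hPV) c := by
  refine IsPullback.of_right ?_ (jj_mm p f v β q hPV c wι gV hW) (isPullback_mm p f v β q hPV).flip
  rw [jj_q]
  exact hW.flip

end Cat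

section Scheme

open Groth.Agent.Lib.H90ProjBC

variable (N : ℕ) (A : Type u) [CommRing A] {X Z' : Scheme.{u}} (fX : X ⟶ Spec (CommRingCat.of A))
  [IsSeparated fX] (j : Z' ⟶ ProjSpace N A) [IsClosedImmersion j] (g : Z' ⟶ X)
  (hjg : j ≫ ProjSpace.toSpec N A = g ≫ fX) {V : X.Opens} (hV : IsAffineOpen V)

/-- the structure ring hom `A → Γ(X, V)` -/
noncomputable def φV : A →+* Γ(X, V) := (Spec.preimage (hV.fromSpec ≫ fX)).hom

omit [IsSeparated fX] in
theorem spec_map_φV : Spec.map (CommRingCat.ofHom (φV A fX hV)) = hV.fromSpec ≫ fX :=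
  Spec.map_preimage _

variable [Algebra A Γ(X, V)]
  (hφ : Spec.map (CommRingCat.ofHom (algebraMap A Γ(X, V))) = hV.fromSpec ≫ fX)

omit [IsSeparated fX] in
include hφ in
theorem isPullback_β_affine :
    IsPullback (β N A Γ(X, V)) (ProjSpace.toSpec N Γ(X, V) ≫ hV.isoSpec.inv)
      (ProjSpace.toSpec N A) (V.ι ≫ fX) := by
  refine (isPullback_β N A Γ(X, V)).of_iso (Iso.refl _) (Iso.refl _) hV.isoSpec.symm (Iso.refl _)
    ?_ ?_ ?_ ?_
  · simp
  · simp
  · simp
  · rw [hφ, Iso.refl_hom, Category.comp_id, Iso.symm_hom, IsAffineOpen.fromSpec, Category.assoc]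

/-- the graph `Z' ⟶ P^N_A ×_A X` -/
noncomputable def cc : Z' ⟶ pullback (ProjSpace.toSpec N A) fX := pullback.lift j g hjg

instance : IsClosedImmersion (cc N A fX j g hjg) := by
  haveI : IsClosedImmersion (cc N A fX j g hjg ≫ pullback.fst (ProjSpace.toSpec N A) fX) := by
    rw [cc, pullback.lift_fst]
    infer_instance
  exact IsClosedImmersion.of_comp (cc N A fX j g hjg) (pullback.fst (ProjSpace.toSpec N A) fX)

include hφ hjg in
/-- **`g⁻¹(V)` is a closed subscheme of `P^N_{Γ(X,V)}`** -/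
theorem exists_closedImmersion_over_affine :
    ∃ jV : (g ⁻¹ᵁ V).toScheme ⟶ ProjSpace N Γ(X, V), IsClosedImmersion jV ∧
      jV ≫ β N A Γ(X, V) = (g ⁻¹ᵁ V).ι ≫ j ∧
      jV ≫ ProjSpace.toSpec N Γ(X, V) ≫ hV.isoSpec.inv = g ∣_ V := by
  have hPV := isPullback_β_affine N A fX hV hφ
  have hW : IsPullback (g ⁻¹ᵁ V).ι (g ∣_ V)
      (cc N A fX j g hjg ≫ pullback.snd (ProjSpace.toSpec N A) fX) V.ι := by
    rw [cc, pullback.lift_snd]
    exact (isPullback_morphismRestrict g V).flip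
  refine ⟨jj (ProjSpace.toSpec N A) fX V.ι _ _ hPV (cc N A fX j g hjg) _ _ hW, ?_, ?_, ?_⟩
  · exact MorphismProperty.of_isPullback (P := @IsClosedImmersion)
      (isPullback_jj (ProjSpace.toSpec N A) fX V.ι _ _ hPV (cc N A fX j g hjg) _ _ hW).flip
      inferInstance
  · rw [jj_β, cc, pullback.lift_fst]
  · exact jj_q _ _ _ _ _ hPV _ _ _ hW

end Scheme

end Groth.Agent.Lib.H90RelProj
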