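import Mathlib.AlgebraicGeometry.Modules.Sheaf
import Mathlib.AlgebraicGeometry.Restrict

/-!
# `(f_* M)|_V ≅ (f|_V)_* (M|_{f⁻¹V})` for `O`-modules on schemes (helper10)
-/

set_option autoImplicit false
universe u

open CategoryTheory CategoryTheory.Limits AlgebraicGeometry TopologicalSpace Opposite

namespace Groth.Agent.Lib.PushRestrict

variable {X S : Scheme.{u}} (f : X ⟶ S) (V : S.Opens)

/-- the two composite functors on opens agree -/
noncomputable def opensIso :
    Opens.map (f ∣_ V).base ⋙ (f ⁻¹ᵁ V).ι.opensFunctor ≅ V.ι.opensFunctor ⋙ Opens.map f.base :=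
  NatIso.ofComponents (fun W => eqToIso (image_morphismRestrict_preimage f V W))

set_option backward.isDefEq.respectTransparency.types false in
set_option backward.defeqAttrib.useBackward true in
/-- `(f_* -)|_V ≅ (f|_V)_* (-|_{f⁻¹V})` -/
noncomputable def pushRestrictIso :
    Scheme.Modules.pushforward f ⋙ Scheme.Modules.restrictFunctor V.ι ≅
      Scheme.Modules.restrictFunctor (f ⁻¹ᵁ V).ι ⋙ Scheme.Modules.pushforward (f ∣_ V) :=
  letI := CategoryTheory.Functor.isContinuous_comp.{u} V.ι.opensFunctor (Opens.map f.base)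
    (Opens.grothendieckTopology V) (Opens.grothendieckTopology S) (Opens.grothendieckTopology X)
  letI := CategoryTheory.Functor.isContinuous_comp.{u} (Opens.map (f ∣_ V).base)
    (f ⁻¹ᵁ V).ι.opensFunctor
    (Opens.grothendieckTopology V) (Opens.grothendieckTopology (f ⁻¹ᵁ V).toScheme)
    (Opens.grothendieckTopology X)
  (SheafOfModules.pushforwardComp _ _) ≪≫
    SheafOfModules.pushforwardCongr₂ _ (opensIso f V) (by
      ext W x
      have h := morphismRestrict_app f V W.unop
      dsimp [opensIso]
      rw [Scheme.Opens.ι_appIso, Scheme.Opens.ι_appIso]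
      exact (congr($h x)).symm) ≪≫
    (SheafOfModules.pushforwardComp _ _).symm

end Groth.Agent.Lib.PushRestrict
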