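import Mathlib
import Groth.Agent.Lib.H90ProjPush
import Groth.Agent.Lib.H90RelProj
import Groth.Agent.Lib.PushRestrict
import Groth.Agent.Lib.H90OXModPushFinite
import Groth.Agent.Lib.H90CohRestrict

/-!
# Coherence of `g_* K` for `g : Z' ⟶ X` with `Z'` closed in `P^N_A` (helper90, ProperFin K1)
-/

set_option autoImplicit false
universe u

open CategoryTheory CategoryTheory.Limits AlgebraicGeometry TopologicalSpace Opposite Coherent CohB1

namespace Groth.Agent.Lib.H90PushCoh

open Groth.Agent.Lib.H90RelProj Groth.Agent.Lib.H90ProjBC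

variable (N : ℕ) (A : Type u) [CommRing A] {X Z' : Scheme.{u}} [IsLocallyNoetherian X]
  (fX : X ⟶ Spec (CommRingCat.of A)) [IsSeparated fX] (j : Z' ⟶ ProjSpace N A) [IsClosedImmersion j]
  (g : Z' ⟶ X) (hjg : j ≫ ProjSpace.toSpec N A = g ≫ fX)

include hjg in
/-- over an affine open `V` of `X`, `(g_* K)|_V` is coherent. -/
theorem isCoh_restrict_pushforward {V : X.Opens} (hV : IsAffineOpen V) (K : Z'.Modules)
    (hK : Coh.IsCoh K) :
    Coh.IsCoh (((Scheme.Modules.pushforward g).obj K).restrict V.ι) := by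
  haveI : IsNoetherianRing Γ(X, V) := IsLocallyNoetherian.component_noetherian ⟨V, hV⟩
  letI : Algebra A Γ(X, V) := (φV A fX hV).toAlgebra
  have hφ : Spec.map (CommRingCat.ofHom (algebraMap A Γ(X, V))) = hV.fromSpec ≫ fX :=
    spec_map_φV A fX hV
  obtain ⟨jV, hjV, -, hg⟩ := exists_closedImmersion_over_affine N A fX j g hjg hV hφ
  haveI := hjV
  let W := g ⁻¹ᵁ V
  let K' : W.toScheme.Modules := K.restrict W.ι
  have hK' : Coh.IsCoh K' := Groth.Agent.Lib.H90CohRestrict.isCoh_restrict W.ι K hK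
  have h1 : Coh.IsCoh ((Scheme.Modules.pushforward jV).obj K') :=
    Groth.Agent.Lib.H90OXModPushFinite.isCoh_pushforward jV K' hK'
  have h2 := Groth.Agent.Lib.H90ProjPush.isCoh_pushforward_toSpec N Γ(X, V) _ h1
  have h3 := Groth.Agent.Lib.H90OXModPushFinite.isCoh_pushforward hV.isoSpec.inv _ h2
  let e : ((Scheme.Modules.pushforward g).obj K).restrict V.ι ≅
      (Scheme.Modules.pushforward hV.isoSpec.inv).obj
        ((Scheme.Modules.pushforward (ProjSpace.toSpec N Γ(X, V))).obj
          ((Scheme.Modules.pushforward jV).obj K')) :=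
    (Groth.Agent.Lib.PushRestrict.pushRestrictIso g V).app K ≪≫
      (Scheme.Modules.pushforwardCongr hg.symm).app K' ≪≫
      ((Scheme.Modules.pushforwardComp jV (ProjSpace.toSpec N Γ(X, V) ≫ hV.isoSpec.inv)).app K').symm ≪≫
      ((Scheme.Modules.pushforwardComp (ProjSpace.toSpec N Γ(X, V)) hV.isoSpec.inv).app
        ((Scheme.Modules.pushforward jV).obj K')).symm
  exact Groth.Agent.Lib.H90CohRestrict.isCoh_of_iso e.symm h3

include hjg in
/-- **`g_* K` is coherent** for `K` coherent on `Z'`, `Z'` closed in `P^N_A`, `g : Z' ⟶ X` over `A`,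
`X` locally Noetherian and separated over `A`. -/
theorem isCoh_pushforward (K : Z'.Modules) (hK : Coh.IsCoh K) :
    Coh.IsCoh ((Scheme.Modules.pushforward g).obj K) := by
  refine Groth.Agent.Lib.CohLocal.isCoh_of_forall_restrict_opens _ fun x => ?_
  obtain ⟨_, ⟨V, hV, rfl⟩, hxV, -⟩ :=
    X.isBasis_affineOpens.exists_subset_of_mem_open (Set.mem_univ x) isOpen_univ
  exact ⟨V, hxV, isCoh_restrict_pushforward N A fX j g hjg hV K hK⟩

end Groth.Agent.Lib.H90PushCoh
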