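import Groth.Agent.Lib.H4TwistSec

/-!
# Serre twists on `Proj`: invertibility (helper4, OXMod M6)

* `exists_isGen_of_le_basicOpen` : for `f ∈ 𝒜 d` and `V ≤ D₊(f)`, `O(n * d)` has a free generator over `V`;
* `isInvertible_twist_restrict` : `O(n * d)` restricted to `⋃_{f ∈ 𝒜 d} D₊(f)` is invertible (S4399);
* `isInvertible_twist_of_cover` : if the `D₊(f)`, `f ∈ 𝒜 d`, cover `Proj 𝒜` then `O(n * d)` is invertible;
* `exists_degree_one_notMem`, `isInvertible_twist` : if `A₊` is generated in degree one then every `O(n)` is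
  invertible.
-/

set_option autoImplicit false
universe u
open CategoryTheory AlgebraicGeometry TopologicalSpace Opposite Twist
open Groth.Agent.Lib.H90Invertible

namespace Groth.Agent.Lib.H4Twist

variable {R A : Type u} [CommRing R] [CommRing A] [Algebra R A] (𝒜 : ℕ → Submodule R A) [GradedAlgebra 𝒜]

theorem exists_isGen_of_le_basicOpen {f : A} {d : ℕ} (hfd : f ∈ 𝒜 d) (n : ℤ) {V : (Proj 𝒜).Opens}
    (hV : V ≤ Proj.basicOpen 𝒜 f) : ∃ s : Γ(twist 𝒜 (n * d), V), IsGen (twist 𝒜 (n * d)) V s :=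
  ⟨gen hfd (fun x => hV x.2) n, isGen_gen hfd _ n⟩

/-- `O(n * d)` is invertible on the union of the `D₊(f)`, `f ∈ 𝒜 d` (S4399). -/
theorem isInvertible_twist_restrict (d : ℕ) (n : ℤ) :
    PicF.IsInvertible ((twist 𝒜 (n * d)).restrict (⨆ f : 𝒜 d, Proj.basicOpen 𝒜 (f : A)).ι) := by
  rw [isInvertible_iff_exists_isGen]
  intro y
  obtain ⟨f, hf⟩ := TopologicalSpace.Opens.mem_iSup.mp y.2
  set U : (Proj 𝒜).Opens := ⨆ f : 𝒜 d, Proj.basicOpen 𝒜 (f : A) with hU
  refine ⟨U.ι ⁻¹ᵁ Proj.basicOpen 𝒜 (f : A), hf, ?_⟩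
  have hle : U.ι ''ᵁ (U.ι ⁻¹ᵁ Proj.basicOpen 𝒜 (f : A)) ≤ Proj.basicOpen 𝒜 (f : A) :=
    U.ι.image_preimage_le _
  obtain ⟨s, hs⟩ := exists_isGen_of_le_basicOpen 𝒜 f.2 n hle
  exact ⟨s, (isGen_restrict_iff U.ι (twist 𝒜 (n * d)) _ s).mpr hs⟩

/-- If the `D₊(f)`, `f ∈ 𝒜 d`, cover `Proj 𝒜`, then `O(n * d)` is invertible. -/
theorem isInvertible_twist_of_cover (d : ℕ) (n : ℤ)
    (hcov : ∀ x : ProjectiveSpectrum 𝒜, ∃ f ∈ 𝒜 d, f ∉ x.asHomogeneousIdeal) :
    PicF.IsInvertible (twist 𝒜 (n * d)) := by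
  rw [isInvertible_iff_exists_isGen]
  intro x
  obtain ⟨f, hfd, hfx⟩ := hcov x
  exact ⟨Proj.basicOpen 𝒜 f, hfx, exists_isGen_of_le_basicOpen 𝒜 hfd n le_rfl⟩

variable {𝒜} in
/-- If the irrelevant ideal is generated in degree one, every point of `Proj` avoids some element of
degree one. -/
theorem exists_degree_one_notMem
    (hgen : (HomogeneousIdeal.irrelevant 𝒜).toIdeal = Ideal.span (𝒜 1 : Set A))
    (x : ProjectiveSpectrum 𝒜) : ∃ f ∈ 𝒜 1, f ∉ x.asHomogeneousIdeal := by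
  by_contra H
  simp only [not_exists, not_and, not_not] at H
  apply x.not_irrelevant_le
  intro z hz
  have hz' : z ∈ (HomogeneousIdeal.irrelevant 𝒜).toIdeal := hz
  rw [hgen] at hz'
  exact (Ideal.span_le.2 fun y hy => H y hy) hz'

/-- If the irrelevant ideal is generated in degree one, every `O(n)` is invertible. -/
theorem isInvertible_twist
    (hgen : (HomogeneousIdeal.irrelevant 𝒜).toIdeal = Ideal.span (𝒜 1 : Set A)) (n : ℤ) :
    PicF.IsInvertible (twist 𝒜 n) := by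
  have := isInvertible_twist_of_cover 𝒜 1 n (exists_degree_one_notMem hgen)
  simpa using this

end Groth.Agent.Lib.H4Twist
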