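/-
helper3: coordinates on projective space `P^n_R = Proj R[X_0..X_n]` (frozen `CohB1.ProjSpace`), for the ProjUP cluster.
* general `Proj 𝒜`: `mem_basicOpen_iff`, `mem_basicOpen_iff_of_oval` (non-vanishing locus of a function through its value);
* charts `D j = D₊(X_j)`, functions `τ i j = X_i / X_j`, structure map `κ j : R → Γ(D j)`, values `oval_τ`, `oval_κ`,
  `τ_self`, `mem_basicOpen_τ`;
* `coordRes i j` = `ProjUP.coord i` restricted to `D j`; `coordRes_eq : coordRes i j = τ i j • coordRes j j`;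
  `isGen_coordRes` (free generator of `O(1)` on `D j`), `isInvertible_O1`, instance `isQuasicoherent_O1`;
* `induction_D`: `Γ(D j)` is generated as a ring by `κ j r` and `τ i j`; `finiteType_κ`;
* `lin c j = ∑ c_i X_i / X_j`, `lin_single_sub`, `lin_single`; `mem_basicOpen_iff_notMem_primeIdealOf`;
* over an algebraically closed field `k`: `exists_sub_κ_mem` (residue field of a closed point is `k`),
  `exists_primeIdealOf_eq_span` (maximal ideal of a closed point of `D j` is `(X_i/X_j - λ_i)_i`),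
  `exists_separating` (linear forms separate closed points), `maximalIdeal_le_span` (linear forms vanishing at a
  closed point generate the maximal ideal of the local ring).
-/
import Groth.Agent.Lib.H4ProjSpaceGamma
import Groth.Agent.Lib.H4GenBy
import Groth.Agent.Lib.H4TwistInv
import Groth.Agent.Lib.ProjSpaceProper
import Groth.Agent.Lib.H90InvertibleFP
import Groth.Prelude.Def_ProjUP
import Mathlib

set_option autoImplicit false
set_option linter.style.haveILetI false
universe u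
open CategoryTheory AlgebraicGeometry TopologicalSpace Opposite Twist MvPolynomial HomogeneousLocalization
open Groth.Agent.Lib.H90Invertible Groth.Agent.Lib.H4Twist Groth.Agent.Lib

namespace Groth.Agent.Lib.ProjSpaceCoordH3

section General

variable {R A : Type u} [CommRing R] [CommRing A] [Algebra R A] {𝒜 : ℕ → Submodule R A} [GradedAlgebra 𝒜]

/-- Membership in the non-vanishing locus of a function on `Proj`, through its value. -/
theorem mem_basicOpen_iff {U : (Proj 𝒜).Opens} (c : Γ(Proj 𝒜, U)) (x : U) :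
    x.1 ∈ (Proj 𝒜).basicOpen c ↔ IsUnit (oval c x) := by
  rw [Scheme.mem_basicOpen _ _ x.1 x.2]
  have h1 : IsUnit ((Proj 𝒜).presheaf.germ U x.1 x.2 c) ↔
      IsUnit (AlgebraicGeometry.Proj.stalkIso' 𝒜 x.1 ((Proj 𝒜).presheaf.germ U x.1 x.2 c)) :=
    (MulEquiv.isUnit_map (AlgebraicGeometry.Proj.stalkIso' 𝒜 x.1)).symm
  rw [h1]
  have h2 : AlgebraicGeometry.Proj.stalkIso' 𝒜 x.1 ((Proj 𝒜).presheaf.germ U x.1 x.2 c) =
      (show O (𝒜 := 𝒜) (op U) from c).1 x :=
    AlgebraicGeometry.Proj.stalkIso'_germ 𝒜 U x.1 x.2 c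
  rw [h2, ← HomogeneousLocalization.isUnit_iff_isUnit_val]
  rfl

/-- For `c = a / s` at `x`: `x ∈ X_c ↔ a ∉ x`. -/
theorem mem_basicOpen_iff_of_oval {U : (Proj 𝒜).Opens} (c : Γ(Proj 𝒜, U)) (x : U) (a s : A)
    (hs : s ∉ x.1.asHomogeneousIdeal) (hc : oval c x = Localization.mk a ⟨s, hs⟩) :
    x.1 ∈ (Proj 𝒜).basicOpen c ↔ a ∉ x.1.asHomogeneousIdeal := by
  have : (x.1.asHomogeneousIdeal.toIdeal).IsPrime := x.1.isPrime
  rw [mem_basicOpen_iff, hc, Localization.mk_eq_mk',
    IsLocalization.AtPrime.isUnit_mk'_iff (Loc 𝒜 x.1) x.1.asHomogeneousIdeal.toIdeal]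
  rfl

end General

variable (n : ℕ) (R : Type u) [CommRing R]

local notation "𝒜" => CohB1.polyGrading n R

/-- the standard chart `D₊(X_j)` -/
noncomputable abbrev D (j : Fin (n + 1)) : (Proj 𝒜).Opens := Proj.basicOpen 𝒜 (X j)

theorem X_mem (i : Fin (n + 1)) : (X i : MvPolynomial (Fin (n + 1)) R) ∈ 𝒜 1 :=
  ProjSpaceCover.X_mem n R i

theorem X_mem' (i : Fin (n + 1)) : (X i : MvPolynomial (Fin (n + 1)) R) ∈ 𝒜 (1 • 1) := by
  simpa using X_mem n R i

theorem isAffineOpen_D (j : Fin (n + 1)) : IsAffineOpen (D n R j) :=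
  Proj.isAffineOpen_basicOpen 𝒜 (X j) (X_mem n R j) Nat.one_pos

theorem exists_mem_D (y : Proj 𝒜) : ∃ j, y ∈ D n R j := by
  obtain ⟨i, hi⟩ := exists_X_notMem (n := n) (R := R) y
  exact ⟨i, hi⟩

/-- `X_i / X_j` as a function on `D₊(X_j)` -/
noncomputable def τ (i j : Fin (n + 1)) : Γ(Proj 𝒜, D n R j) :=
  (Proj.awayToSection 𝒜 (X j)).hom (Away.mk 𝒜 (X_mem n R j) 1 (X i) (X_mem' n R i))

theorem oval_τ (i j : Fin (n + 1)) (y : D n R j) :
    oval (τ n R i j) y = (Localization.mk (X i) ⟨X j, y.2⟩ : Loc 𝒜 y.1) := by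
  unfold τ
  rw [oval_awayToSection_mk]
  congr 1
  exact Subtype.ext (pow_one _)

/-- the structure map `R → Γ(D₊(X_j))` -/
noncomputable def κ (j : Fin (n + 1)) : R →+* Γ(Proj 𝒜, D n R j) :=
  ((Proj 𝒜).presheaf.map (homOfLE (le_top : D n R j ≤ ⊤)).op).hom.comp
    (ProjUP.toGlobal (CohB1.ProjSpace.toSpec n R))

theorem oval_κ (j : Fin (n + 1)) (r : R) (y : D n R j) :
    oval (κ n R j r) y = (Localization.mk (C r) 1 : Loc 𝒜 y.1) := by
  have := oval_toGlobal 𝒜 r ⟨y.1, trivial⟩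
  exact this

theorem τ_self (j : Fin (n + 1)) : τ n R j j = 1 := by
  refine oval_ext fun y => ?_
  rw [oval_τ, oval_one]
  have : (y.1.asHomogeneousIdeal.toIdeal).IsPrime := y.1.isPrime
  exact Localization.mk_self (⟨X j, y.2⟩ : y.1.asHomogeneousIdeal.toIdeal.primeCompl)

theorem mem_basicOpen_τ (i j : Fin (n + 1)) (y : D n R j) :
    y.1 ∈ (Proj 𝒜).basicOpen (τ n R i j) ↔ y.1 ∈ D n R i := by
  exact mem_basicOpen_iff_of_oval (τ n R i j) y (X i) (X j) y.2 (oval_τ n R i j y)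

local notation "O1" => Twist.twistProjSpace n R 1

/-- the coordinate section restricted to the chart `D₊(X_j)` -/
noncomputable def coordRes (i j : Fin (n + 1)) : Γ(twist 𝒜 1, D n R j) :=
  (twist 𝒜 1).presheaf.map (homOfLE (le_top : D n R j ≤ ⊤)).op (ProjUP.coord n R i)

theorem sval_coordRes (i j : Fin (n + 1)) (y : D n R j) :
    sval (coordRes n R i j) y = (Localization.mk (X i) 1 : Loc 𝒜 y.1) := rfl

theorem coordRes_eq (i j : Fin (n + 1)) : coordRes n R i j = τ n R i j • coordRes n R j j := by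
  refine sec_ext fun y => ?_
  rw [sval_smul, sval_coordRes, sval_coordRes, oval_τ, Localization.mk_mul, mul_one]
  rw [Localization.mk_eq_mk_iff, Localization.r_iff_exists]
  exact ⟨1, by simp [mul_comm]⟩

theorem isGen_coordRes (j : Fin (n + 1)) : IsGen (twist 𝒜 1) (D n R j) (coordRes n R j j) :=
  isGen_numSec_of_le (X_mem n R j) 1 (pow_one _).symm (X_mem n R j) (one_mul 1).symm 1 rfl le_rfl

theorem isInvertible_O1 : PicF.IsInvertible (twist 𝒜 1) := by
  have h := isInvertible_twist_of_cover 𝒜 1 1 (fun x => by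
    obtain ⟨i, hi⟩ := exists_X_notMem (n := n) (R := R) x
    exact ⟨X i, X_mem n R i, hi⟩)
  rw [Nat.cast_one, mul_one] at h
  exact h

instance isQuasicoherent_O1 : (twist 𝒜 1).IsQuasicoherent :=
  isQCoh_of_isInvertible (isInvertible_O1 n R)

theorem adjoin_X_eq_top :
    Algebra.adjoin (𝒜 0) (Set.range (fun i : Fin (n + 1) => (X i : MvPolynomial (Fin (n + 1)) R))) = ⊤ := by
  rw [eq_top_iff]
  intro p _
  induction p using MvPolynomial.induction_on with
  | C a =>
    have : (MvPolynomial.C a : MvPolynomial (Fin (n + 1)) R) ∈ 𝒜 0 :=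
      (MvPolynomial.mem_homogeneousSubmodule _ _).mpr (MvPolynomial.isHomogeneous_C _ a)
    exact Subalgebra.algebraMap_mem _ (⟨_, this⟩ : 𝒜 0)
  | add p q hp hq => exact add_mem (hp trivial) (hq trivial)
  | mul_X p i hp => exact mul_mem (hp trivial) (Algebra.subset_adjoin ⟨i, rfl⟩)

theorem awayToSection_algebraMap (j : Fin (n + 1)) (r : R) :
    (Proj.awayToSection 𝒜 (X j)).hom (algebraMap (𝒜 0) (Away 𝒜 (X j)) (algebraMap R (𝒜 0) r)) =
      κ n R j r := by
  refine oval_ext fun y => ?_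
  rw [oval_κ]
  exact oval_awayToSection_fromZero (X j) (algebraMap R (𝒜 0) r) y

theorem awayToSection_mk_X (i j : Fin (n + 1)) :
    (Proj.awayToSection 𝒜 (X j)).hom (Away.mk 𝒜 (X_mem n R j) 1 (X i) (X_mem' n R i)) = τ n R i j := rfl

/-- Induction principle: `Γ(D₊(X_j))` is generated as a ring by the constants and the `X_i / X_j`. -/
theorem induction_D (j : Fin (n + 1)) (p : Γ(Proj 𝒜, D n R j) → Prop) (hκ : ∀ r, p (κ n R j r))
    (hτ : ∀ i, p (τ n R i j)) (hadd : ∀ a b, p a → p b → p (a + b))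
    (hmul : ∀ a b, p a → p b → p (a * b)) : ∀ b, p b := by
  intro b
  obtain ⟨β, rfl⟩ := (awayToSection_bijective (X_mem n R j) Nat.one_pos).2 b
  have h1 : p 1 := by simpa using hκ 1
  have hpow : ∀ (a : Γ(Proj 𝒜, D n R j)) (k : ℕ), p a → p (a ^ k) := by
    intro a k ha
    induction k with
    | zero => simpa using h1
    | succ k ih => rw [pow_succ]; exact hmul _ _ ih ha
  have htop := Away.adjoin_mk_prod_pow_eq_top (X_mem n R j) (Fin (n + 1))
    (fun i => (X i : MvPolynomial (Fin (n + 1)) R)) (adjoin_X_eq_top n R) (fun _ => 1)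
    (fun i => X_mem n R i)
  have hβ : β ∈ Algebra.adjoin (𝒜 0) _ := htop ▸ (Algebra.mem_top : β ∈ (⊤ : Subalgebra (𝒜 0) _))
  induction hβ using Algebra.adjoin_induction with
  | mem x hx =>
    obtain ⟨a, ai, hai, -, rfl⟩ := hx
    have hprod : Away.mk 𝒜 (X_mem n R j) a (∏ i, (X i : MvPolynomial (Fin (n + 1)) R) ^ ai i)
        (hai ▸ SetLike.prod_pow_mem_graded _ _ _ _ fun i _ => X_mem n R i) =
        ∏ i, (Away.mk 𝒜 (X_mem n R j) 1 (X i) (X_mem' n R i)) ^ ai i := by
      apply HomogeneousLocalization.val_injective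
      rw [← HomogeneousLocalization.algebraMap_apply, ← HomogeneousLocalization.algebraMap_apply,
        map_prod]
      simp only [map_pow]
      simp only [HomogeneousLocalization.algebraMap_apply, Away.val_mk,
        Localization.mk_pow, Localization.mk_prod]
      congr 1
      apply Subtype.ext
      simp only [SubmonoidClass.coe_pow, ← pow_mul, Finset.prod_pow_eq_pow_sum, one_mul]
      congr 1
      simpa using hai.symm
    rw [hprod, map_prod]
    refine Finset.prod_induction _ p hmul h1 (fun i _ => ?_)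
    rw [map_pow]
    exact hpow _ _ (hτ i)
  | algebraMap r =>
    obtain ⟨r', rfl⟩ := (ProjSpaceProper.bijective_algebraMap_polyGrading_zero n R).2 r
    rw [awayToSection_algebraMap]
    exact hκ r'
  | add x y _ _ hx hy => rw [map_add]; exact hadd _ _ hx hy
  | mul x y _ _ hx hy => rw [map_mul]; exact hmul _ _ hx hy

theorem finiteType_κ (j : Fin (n + 1)) : (κ n R j).FiniteType := by
  classical
  letI := (κ n R j).toAlgebra
  refine ⟨⟨Finset.univ.image (fun i => τ n R i j), ?_⟩⟩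
  rw [eq_top_iff]
  intro b _
  exact induction_D n R j
    (fun b => b ∈ Algebra.adjoin R (↑(Finset.univ.image (fun i => τ n R i j)) : Set Γ(Proj 𝒜, D n R j)))
    (fun r => Subalgebra.algebraMap_mem _ r)
    (fun i => Algebra.subset_adjoin (by simp))
    (fun a b ha hb => add_mem ha hb) (fun a b ha hb => mul_mem ha hb) b

/-- the linear form `∑ c_i X_i / X_j` on `D₊(X_j)` -/
noncomputable def lin (c : Fin (n + 1) → R) (j : Fin (n + 1)) : Γ(Proj 𝒜, D n R j) :=
  ∑ i, κ n R j (c i) * τ n R i j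

theorem lin_single_sub (i j : Fin (n + 1)) (μ : R) :
    lin n R (Pi.single i 1 - Pi.single j μ) j = τ n R i j - κ n R j μ := by
  classical
  unfold lin
  simp only [Pi.sub_apply, map_sub, sub_mul, Finset.sum_sub_distrib]
  congr 1
  · rw [Finset.sum_eq_single i]
    · simp
    · intro b _ hb
      simp [hb]
    · intro h; exact absurd (Finset.mem_univ i) h
  · rw [Finset.sum_eq_single j]
    · simp [τ_self]
    · intro b _ hb
      simp [hb]
    · intro h; exact absurd (Finset.mem_univ j) h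

theorem lin_single (i j : Fin (n + 1)) : lin n R (Pi.single i 1) j = τ n R i j := by
  have := lin_single_sub n R i j 0
  simpa using this

theorem mem_basicOpen_iff_notMem_primeIdealOf {X : Scheme.{u}} {V : X.Opens} (hV : IsAffineOpen V)
    {x : X} (hx : x ∈ V) (r : Γ(X, V)) :
    x ∈ X.basicOpen r ↔ r ∉ (hV.primeIdealOf ⟨x, hx⟩).asIdeal := by
  have hq : hV.fromSpec (hV.primeIdealOf ⟨x, hx⟩) = x := hV.fromSpec_primeIdealOf ⟨x, hx⟩
  have h1 : x ∈ X.basicOpen r ↔ hV.primeIdealOf ⟨x, hx⟩ ∈ hV.fromSpec ⁻¹ᵁ X.basicOpen r := by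
    conv_lhs => rw [← hq]
    rfl
  rw [h1, hV.fromSpec_preimage_basicOpen]
  rfl

section AlgClosed

variable (k : Type u) [Field k] [IsAlgClosed k]

local notation "𝒜k" => CohB1.polyGrading n k

theorem exists_sub_κ_mem (j : Fin (n + 1)) (y : Proj 𝒜k) (hy : y ∈ D n k j)
    (hcl : IsClosed ({y} : Set (Proj 𝒜k))) (b : Γ(Proj 𝒜k, D n k j)) :
    ∃ μ : k, b - κ n k j μ ∈ ((isAffineOpen_D n k j).primeIdealOf ⟨y, hy⟩).asIdeal := by
  set q := ((isAffineOpen_D n k j).primeIdealOf ⟨y, hy⟩).asIdeal with hq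
  have hmax : q.IsMaximal := (isAffineOpen_D n k j).primeIdealOf_isMaximal_of_isClosed ⟨y, hy⟩ hcl
  let _ := Ideal.Quotient.field q
  let g : k →+* (Γ(Proj 𝒜k, D n k j) ⧸ q) := (Ideal.Quotient.mk q).comp (κ n k j)
  have hg : g.FiniteType :=
    (RingHom.FiniteType.of_surjective _ Ideal.Quotient.mk_surjective).comp (finiteType_κ n k j)
  have hgfin : g.Finite := RingHom.finite_iff_finiteType_of_isJacobsonRing.mpr hg
  have hbij := IsAlgClosed.ringHom_bijective_of_isIntegral g hgfin.to_isIntegral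
  obtain ⟨c, hc⟩ := hbij.2 (Ideal.Quotient.mk q b)
  refine ⟨c, ?_⟩
  rw [← Ideal.Quotient.eq, ← hc]
  rfl

theorem exists_primeIdealOf_eq_span (j : Fin (n + 1)) (y : Proj 𝒜k) (hy : y ∈ D n k j)
    (hcl : IsClosed ({y} : Set (Proj 𝒜k))) :
    ∃ lam : Fin (n + 1) → k, ((isAffineOpen_D n k j).primeIdealOf ⟨y, hy⟩).asIdeal =
      Ideal.span (Set.range fun i => τ n k i j - κ n k j (lam i)) := by
  set q := ((isAffineOpen_D n k j).primeIdealOf ⟨y, hy⟩).asIdeal with hq
  have hprime : q.IsPrime := ((isAffineOpen_D n k j).primeIdealOf ⟨y, hy⟩).isPrime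
  choose lam hlam using fun i => exists_sub_κ_mem n k j y hy hcl (τ n k i j)
  refine ⟨lam, ?_⟩
  set I := Ideal.span (Set.range fun i => τ n k i j - κ n k j (lam i)) with hI
  have hIq : I ≤ q := by
    rw [hI, Ideal.span_le]
    rintro _ ⟨i, rfl⟩
    exact hlam i
  have key : ∀ b : Γ(Proj 𝒜k, D n k j), ∃ μ : k, b - κ n k j μ ∈ I := by
    refine induction_D n k j _ (fun r => ⟨r, by simp⟩)
      (fun i => ⟨lam i, Ideal.subset_span ⟨i, rfl⟩⟩) ?_ ?_
    · rintro a b ⟨μ, hμ⟩ ⟨ν, hν⟩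
      refine ⟨μ + ν, ?_⟩
      have : a + b - κ n k j (μ + ν) = (a - κ n k j μ) + (b - κ n k j ν) := by
        rw [map_add]; ring
      rw [this]
      exact I.add_mem hμ hν
    · rintro a b ⟨μ, hμ⟩ ⟨ν, hν⟩
      refine ⟨μ * ν, ?_⟩
      have : a * b - κ n k j (μ * ν) = (a - κ n k j μ) * b + κ n k j μ * (b - κ n k j ν) := by
        rw [map_mul]; ring
      rw [this]
      exact I.add_mem (I.mul_mem_right _ hμ) (I.mul_mem_left _ hν)
  refine le_antisymm ?_ hIq
  intro b hb
  obtain ⟨μ, hμ⟩ := key b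
  have h1 : κ n k j μ ∈ q := by
    have := q.sub_mem hb (hIq hμ)
    rwa [sub_sub_cancel] at this
  have h2 : μ = 0 := by
    by_contra hne
    apply hprime.ne_top
    rw [Ideal.eq_top_iff_one]
    have : κ n k j μ⁻¹ * κ n k j μ = 1 := by
      rw [← map_mul, inv_mul_cancel₀ hne, map_one]
    rw [← this]
    exact q.mul_mem_left _ h1
  rw [h2, map_zero, sub_zero] at hμ
  exact hμ

theorem exists_separating (y y' : Proj 𝒜k) (hcl : IsClosed ({y} : Set (Proj 𝒜k)))
    (hne : y ≠ y') :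
    ∃ (c : Fin (n + 1) → k) (j j' : Fin (n + 1)) (_ : y ∈ D n k j) (_ : y' ∈ D n k j'),
      y ∉ (Proj 𝒜k).basicOpen (lin n k c j) ∧ y' ∈ (Proj 𝒜k).basicOpen (lin n k c j') := by
  obtain ⟨j', hy'⟩ := exists_mem_D n k y'
  by_cases hy : y ∈ D n k j'
  · obtain ⟨lam, hlam⟩ := exists_primeIdealOf_eq_span n k j' y hy hcl
    have hmax := (isAffineOpen_D n k j').primeIdealOf_isMaximal_of_isClosed ⟨y, hy⟩ hcl
    have hnle : ¬ ((isAffineOpen_D n k j').primeIdealOf ⟨y, hy⟩).asIdeal ≤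
        ((isAffineOpen_D n k j').primeIdealOf ⟨y', hy'⟩).asIdeal := by
      intro hle
      have h1 := hmax.eq_of_le ((isAffineOpen_D n k j').primeIdealOf ⟨y', hy'⟩).isPrime.ne_top hle
      have h2 : (isAffineOpen_D n k j').primeIdealOf ⟨y, hy⟩ =
          (isAffineOpen_D n k j').primeIdealOf ⟨y', hy'⟩ := PrimeSpectrum.ext h1
      have h3 : (⟨y, hy⟩ : D n k j') = ⟨y', hy'⟩ :=
        (isAffineOpen_D n k j').isoSpec.hom.homeomorph.injective h2
      exact hne (congrArg Subtype.val h3)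
    rw [hlam, Ideal.span_le] at hnle
    obtain ⟨_, ⟨i, rfl⟩, hi⟩ := Set.not_subset.mp hnle
    refine ⟨Pi.single i 1 - Pi.single j' (lam i), j', j', hy, hy', ?_, ?_⟩
    · rw [mem_basicOpen_iff_notMem_primeIdealOf (isAffineOpen_D n k j') hy, not_not,
        lin_single_sub, hlam]
      exact Ideal.subset_span ⟨i, rfl⟩
    · rw [mem_basicOpen_iff_notMem_primeIdealOf (isAffineOpen_D n k j') hy', lin_single_sub]
      exact hi
  · obtain ⟨j, hyj⟩ := exists_mem_D n k y
    refine ⟨Pi.single j' 1, j, j', hyj, hy', ?_, ?_⟩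
    · rw [lin_single]
      exact fun h => hy ((mem_basicOpen_τ n k j' j ⟨y, hyj⟩).mp h)
    · rw [lin_single]
      exact (mem_basicOpen_τ n k j' j' ⟨y', hy'⟩).mpr hy'

theorem maximalIdeal_le_span (j : Fin (n + 1)) (y : Proj 𝒜k) (hy : y ∈ D n k j)
    (hcl : IsClosed ({y} : Set (Proj 𝒜k))) :
    IsLocalRing.maximalIdeal ((Proj 𝒜k).presheaf.stalk y) ≤
      Ideal.span {r | ∃ c : Fin (n + 1) → k, y ∉ (Proj 𝒜k).basicOpen (lin n k c j) ∧
        r = ((Proj 𝒜k).presheaf.germ (D n k j) y hy).hom (lin n k c j)} := by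
  obtain ⟨lam, hlam⟩ := exists_primeIdealOf_eq_span n k j y hy hcl
  let algY := (Proj 𝒜k).presheaf.algebra_section_stalk (⟨y, hy⟩ : D n k j)
  have loc := (isAffineOpen_D n k j).isLocalization_stalk ⟨y, hy⟩
  have hm : ((isAffineOpen_D n k j).primeIdealOf ⟨y, hy⟩).asIdeal.map
      (algebraMap Γ(Proj 𝒜k, D n k j) ((Proj 𝒜k).presheaf.stalk y)) =
      IsLocalRing.maximalIdeal ((Proj 𝒜k).presheaf.stalk y) :=
    IsLocalization.AtPrime.map_eq_maximalIdeal _ _
  rw [← hm, hlam, Ideal.map_span, Ideal.span_le]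
  rintro _ ⟨_, ⟨i, rfl⟩, rfl⟩
  apply Ideal.subset_span
  refine ⟨Pi.single i 1 - Pi.single j (lam i), ?_, ?_⟩
  · rw [mem_basicOpen_iff_notMem_primeIdealOf (isAffineOpen_D n k j) hy, not_not,
      lin_single_sub, hlam]
    exact Ideal.subset_span ⟨i, rfl⟩
  · rw [lin_single_sub]
    rfl

end AlgClosed

end Groth.Agent.Lib.ProjSpaceCoordH3
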