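import Groth.Agent.Lib.H90ProjBC
import Groth.Agent.Lib.ModIsoGlueH3
import Groth.Agent.Lib.PullSecH3
import Groth.Agent.Lib.ProjSpaceCoordH3
import Groth.Agent.Lib.H4ProjSpaceCoh

/-!
# Base change of the twisting sheaves: `β^* O_{P^N_A}(d) ≅ O_{P^N_B}(d)` (helper90, ProperFin BC2)
-/

set_option autoImplicit false
set_option linter.style.haveILetI false
universe u
open CategoryTheory CategoryTheory.Limits AlgebraicGeometry CohB1 MvPolynomial TopologicalSpace Opposite Twist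
  HomogeneousLocalization
open Groth.Agent.Lib.H90Invertible Groth.Agent.Lib.H4Twist Groth.Agent.Lib
open Groth.Agent.Lib.PullSecH3 Groth.Agent.Lib.ProjSpaceCoordH3
open Groth.Agent.Lib.H78TensorGen Groth.Agent.Lib.H78Atlas

namespace Groth.Agent.Lib.H90ProjBC

section General

variable {R A : Type u} [CommRing R] [CommRing A] [Algebra R A] {𝒜 : ℕ → Submodule R A} [GradedAlgebra 𝒜]

theorem oval_pow {U : (Proj 𝒜).Opens} (r : Γ(Proj 𝒜, U)) (d : ℕ) (x : U) :
    oval (r ^ d) x = oval r x ^ d := by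
  induction d with
  | zero => rw [pow_zero, pow_zero, oval_one]
  | succ d ih => rw [pow_succ, pow_succ, oval_mul, ih]

/-- `(b/s)^d * (s^d/1) = b^d/1` -/
theorem mk_pow_mul_mk {M : Submonoid A} (b : A) (s : M) (d : ℕ) :
    (Localization.mk b s) ^ d * Localization.mk ((s : A) ^ d) 1 = Localization.mk (b ^ d) 1 := by
  rw [Localization.mk_pow, Localization.mk_mul, Localization.mk_eq_mk_iff, Localization.r_iff_exists]
  refine ⟨1, ?_⟩
  simp only [OneMemClass.coe_one, one_mul, mul_one, SubmonoidClass.coe_pow]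
  ring

end General

variable (N : ℕ) (A B : Type u) [CommRing A] [CommRing B] [Algebra A B] (d : ℕ)

local notation "𝒜A" => polyGrading N A
local notation "𝒜B" => polyGrading N B

theorem X_pow_mem (R : Type u) [CommRing R] (k : Fin (N + 1)) :
    (X k : MvPolynomial (Fin (N + 1)) R) ^ d ∈ polyGrading N R d := by
  have h := SetLike.pow_mem_graded (A := polyGrading N R) d (X_mem N R k)
  simpa using h

theorem gX_mem (k : Fin (N + 1)) : gmap N A B (X k) ∈ 𝒜B 1 := (gmap N A B).map_mem (X_mem N A k)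

theorem gX_pow_mem (k : Fin (N + 1)) : gmap N A B (X k) ^ d ∈ 𝒜B d := by
  have h := SetLike.pow_mem_graded (A := 𝒜B) d (gX_mem N A B k)
  simpa using h

/-- `x_k^d`, a global section of `O_A(d)` -/
noncomputable def sA (k : Fin (N + 1)) : Γ(twist 𝒜A (d : ℤ), ⊤) := numSec (X_pow_mem N d A k) (d : ℤ) rfl

/-- `x_k^d`, a global section of `O_B(d)` -/
noncomputable def sB (k : Fin (N + 1)) : Γ(twist 𝒜B (d : ℤ), ⊤) := numSec (gX_pow_mem N A B d k) (d : ℤ) rfl

/-- `β` with its type unfolded -/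
noncomputable abbrev βm : Proj 𝒜B ⟶ Proj 𝒜A := Proj.map (gmap N A B) (irrelevant_le N A B)

/-- the chart `β⁻¹ D₊(x_i)` -/
noncomputable abbrev UB (i : Fin (N + 1)) : (Proj 𝒜B).Opens := βm N A B ⁻¹ᵁ D N A i

theorem UB_eq (i : Fin (N + 1)) : UB N A B i = Proj.basicOpen 𝒜B (gmap N A B (X i)) := rfl

theorem iSup_UB : ⨆ i, UB N A B i = ⊤ := by
  rw [eq_top_iff]
  intro y _
  obtain ⟨j, hj⟩ := exists_mem_D N A (βm N A B y)
  exact Opens.mem_iSup.mpr ⟨j, hj⟩

/-- the ratio `(x_k/x_i)^d` on the chart -/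
noncomputable def aB (i k : Fin (N + 1)) : Γ(Proj 𝒜B, UB N A B i) :=
  ((βm N A B).app (D N A i)).hom (τ N A k i ^ d)

theorem oval_app_τ (i k : Fin (N + 1)) (y : UB N A B i) :
    oval (((βm N A B).app (D N A i)).hom (τ N A k i)) y =
      (Localization.mk (gmap N A B (X k)) ⟨gmap N A B (X i), y.2⟩ : Loc 𝒜B y.1) := by
  have h := Proj.awayToSection_comp_appLE (gmap N A B) (irrelevant_le N A B) (X_mem N A i)
  have h2 := congrArg (fun φ => φ.hom (Away.mk 𝒜A (X_mem N A i) 1 (X k) (X_mem' N A k))) h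
  simp only [CommRingCat.hom_comp, RingHom.comp_apply, CommRingCat.hom_ofHom, Away.map_mk] at h2
  have h3 : ((βm N A B).app (D N A i)).hom (τ N A k i) =
      (Scheme.Hom.appLE (Proj.map (gmap N A B) (irrelevant_le N A B)) (Proj.basicOpen 𝒜A (X i))
        (Proj.basicOpen 𝒜B (gmap N A B (X i))) (by rfl)).hom
        ((Proj.awayToSection 𝒜A (X i)).hom (Away.mk 𝒜A (X_mem N A i) 1 (X k) (X_mem' N A k))) := by
    rw [Scheme.Hom.app_eq_appLE]
    rfl
  rw [h3, h2]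
  have h4 := oval_awayToSection_mk (𝒜 := 𝒜B) (gX_mem N A B i) 1 (gmap N A B (X k))
    ((gmap N A B).map_mem (X_mem' N A k)) y
  refine h4.trans ?_
  congr 1
  exact Subtype.ext (pow_one _)

theorem oval_aB (i k : Fin (N + 1)) (y : UB N A B i) :
    oval (aB N A B d i k) y =
      (Localization.mk (gmap N A B (X k)) ⟨gmap N A B (X i), y.2⟩ : Loc 𝒜B y.1) ^ d := by
  unfold aB
  rw [map_pow, oval_pow, oval_app_τ]

theorem hsa (i k : Fin (N + 1)) :
    rs (twist 𝒜B (d : ℤ)) (le_top : UB N A B i ≤ ⊤) (sB N A B d k) =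
      aB N A B d i k • rs (twist 𝒜B (d : ℤ)) (le_top : UB N A B i ≤ ⊤) (sB N A B d i) := by
  refine sec_ext fun y => ?_
  have hp : (y.1.asHomogeneousIdeal.toIdeal).IsPrime := y.1.isPrime
  rw [sval_smul, oval_aB]
  exact (mk_pow_mul_mk (M := y.1.asHomogeneousIdeal.toIdeal.primeCompl) (gmap N A B (X k))
    ⟨gmap N A B (X i), y.2⟩ d).symm

theorem htaA (i k : Fin (N + 1)) :
    rs (twist 𝒜A (d : ℤ)) (le_top : D N A i ≤ ⊤) (sA N A d k) =
      (τ N A k i ^ d) • rs (twist 𝒜A (d : ℤ)) (le_top : D N A i ≤ ⊤) (sA N A d i) := by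
  refine sec_ext fun y => ?_
  have hp : (y.1.asHomogeneousIdeal.toIdeal).IsPrime := y.1.isPrime
  rw [sval_smul, oval_pow, oval_τ]
  exact (mk_pow_mul_mk (M := y.1.asHomogeneousIdeal.toIdeal.primeCompl) (X k) ⟨X i, y.2⟩ d).symm

/-- `β^* x_k^d` -/
noncomputable def tB (k : Fin (N + 1)) :
    Γ((Scheme.Modules.pullback (βm N A B)).obj (twist 𝒜A (d : ℤ)), ⊤) :=
  ProjUP.pullSec (βm N A B) (twist 𝒜A (d : ℤ)) (sA N A d k)

theorem rs_tB (i k : Fin (N + 1)) :
    rs ((Scheme.Modules.pullback (βm N A B)).obj (twist 𝒜A (d : ℤ))) (le_top : UB N A B i ≤ ⊤)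
        (tB N A B d k) =
      unitV (βm N A B) (twist 𝒜A (d : ℤ)) (D N A i)
        (rs (twist 𝒜A (d : ℤ)) (le_top : D N A i ≤ ⊤) (sA N A d k)) :=
  (unitV_res (βm N A B) (twist 𝒜A (d : ℤ)) (le_top : D N A i ≤ ⊤) (sA N A d k)).symm

theorem hta (i k : Fin (N + 1)) :
    rs ((Scheme.Modules.pullback (βm N A B)).obj (twist 𝒜A (d : ℤ))) (le_top : UB N A B i ≤ ⊤)
        (tB N A B d k) =
      aB N A B d i k • rs ((Scheme.Modules.pullback (βm N A B)).obj (twist 𝒜A (d : ℤ)))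
        (le_top : UB N A B i ≤ ⊤) (tB N A B d i) := by
  rw [rs_tB, rs_tB, htaA, unitV_smul]
  rfl

theorem isGen_sA (i : Fin (N + 1)) :
    IsGen (twist 𝒜A (d : ℤ)) (D N A i) (rs (twist 𝒜A (d : ℤ)) (le_top : D N A i ≤ ⊤) (sA N A d i)) :=
  isGen_numSec_of_le (X_mem N A i) d rfl (X_pow_mem N d A i) (mul_one d).symm (d : ℤ) rfl le_rfl

theorem isGen_sB (i : Fin (N + 1)) :
    IsGen (twist 𝒜B (d : ℤ)) (UB N A B i)
      (rs (twist 𝒜B (d : ℤ)) (le_top : UB N A B i ≤ ⊤) (sB N A B d i)) :=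
  isGen_numSec_of_le (gX_mem N A B i) d rfl (gX_pow_mem N A B d i) (mul_one d).symm (d : ℤ) rfl le_rfl

theorem isGen_tB (i : Fin (N + 1)) :
    IsGen ((Scheme.Modules.pullback (βm N A B)).obj (twist 𝒜A (d : ℤ))) (UB N A B i)
      (rs ((Scheme.Modules.pullback (βm N A B)).obj (twist 𝒜A (d : ℤ))) (le_top : UB N A B i ≤ ⊤)
        (tB N A B d i)) := by
  haveI : (twist 𝒜A (d : ℤ)).IsQuasicoherent :=
    Groth.Agent.Lib.H4Twist.isQCoh_twistProjSpace N A (d : ℤ)
  rw [rs_tB]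
  exact isGen_unitV (βm N A B) (twist 𝒜A (d : ℤ)) (isGen_sA N A d i)

/-- **Base change of twisting sheaves** (`d ≥ 0`). -/
theorem nonempty_pullback_twist_iso :
    Nonempty ((Scheme.Modules.pullback (β N A B)).obj (Twist.twistProjSpace N A (d : ℤ)) ≅
      Twist.twistProjSpace N B (d : ℤ)) := by
  obtain ⟨φ, -⟩ := Groth.Agent.Lib.ModIsoGlueH3.exists_iso_of_ratios (iSup_UB N A B)
    (isGen_tB N A B d) (isGen_sB N A B d) (aB N A B d) (hta N A B d) (hsa N A B d)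
  exact ⟨φ⟩

end Groth.Agent.Lib.H90ProjBC
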