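import Groth.Agent.Lib.CohFinAmple
import Groth.Agent.Lib.OXModRestrict

/-!
# Vanishing of coherent cohomology from vanishing for negative powers of an ample module (helper48)

* `isInvertible_of_inverse` : `M ⊗ L ≅ O`, `L` invertible ⇒ `M` invertible;
* `subsingleton_HH_of_sum_eq_id`, `subsingleton_HH_sigma` : cohomology of finite direct sums;
* `subsingleton_HH_of_ample` : `X` locally Noetherian and compact, `L` ample with inverse `L'`; if
  `H^i(X, L'^{⊗m}) = 0` for all `i > r` and all large `m`, then `H^i(X, F) = 0` for all `i > r` and all coherent `F`.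
-/

set_option autoImplicit false
universe u
open CategoryTheory CategoryTheory.Limits AlgebraicGeometry Opposite TopologicalSpace CohB1
open Groth.Agent.Lib.OXModTensor Groth.Agent.Lib.CohFinAmple Groth.Agent.Lib.CohLES

namespace Groth.Agent.Lib.CohVanAmple

variable {X : Scheme.{u}}

/-- A tensor inverse of an invertible module is invertible. -/
theorem isInvertible_of_inverse {M L : X.Modules} (e : tensorMod M L ≅ Coh.structureModule X)
    (hL : PicF.IsInvertible L) : PicF.IsInvertible M := by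
  intro y
  obtain ⟨U, hyU, ⟨t⟩⟩ := hL y
  refine ⟨U, hyU, ⟨?_⟩⟩
  exact (rightUnitor (M.restrict U.ι)).symm ≪≫ tensorModIso (Iso.refl _) t.symm ≪≫
    (Groth.Agent.Lib.OXModRestrict.restrictTensorIso U.ι M L).symm ≪≫
    (Scheme.Modules.restrictFunctor U.ι).mapIso e ≪≫ Scheme.Modules.restrictUnitIso U.ι

/-- If `𝟙 E` is a finite sum of maps factoring through modules with vanishing `H^i`, then `H^i(E) = 0`. -/
theorem subsingleton_HH_of_sum_eq_id {E : X.Modules} {κ : Type*} [Fintype κ] (G : κ → X.Modules)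
    (ι : ∀ k, G k ⟶ E) (π : ∀ k, E ⟶ G k) (h : ∑ k, π k ≫ ι k = 𝟙 E) (i : ℕ)
    (hG : ∀ k, Subsingleton (Coh.HH X (G k) i)) : Subsingleton (Coh.HH X E i) := by
  refine subsingleton_of_forall_eq 0 fun y => ?_
  have h1 : y = ∑ k, map (ι k) i (map (π k) i y) := by
    have h2 : ∀ k, map (ι k) i (map (π k) i y) = map (π k ≫ ι k) i y := fun k =>
      (map_comp (π k) (ι k) i y).symm
    simp_rw [h2]
    rw [← map_sum', h, map_id]
  rw [h1]
  refine Finset.sum_eq_zero fun k _ => ?_
  rw [@Subsingleton.elim _ (hG k) (map (π k) i y) 0, map_zero]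

/-- `H^i` of a finite coproduct of copies of `P` vanishes if `H^i(P)` does. -/
theorem subsingleton_HH_sigma (K : Type u) [Finite K] (P : X.Modules) (i : ℕ)
    (h : Subsingleton (Coh.HH X P i)) : Subsingleton (Coh.HH X (∐ fun _ : K => P) i) := by
  classical
  cases nonempty_fintype K
  haveI : HasFiniteBiproducts X.Modules := Abelian.hasFiniteBiproducts
  let f : K → X.Modules := fun _ => P
  let e : (⨁ f) ≅ ∐ f := biproduct.isoCoproduct f
  refine subsingleton_HH_of_sum_eq_id f (fun k => Sigma.ι f k) (fun k => e.inv ≫ biproduct.π f k) ?_ i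
    (fun _ => h)
  have h1 : ∀ k, (e.inv ≫ biproduct.π f k) ≫ Sigma.ι f k =
      e.inv ≫ (biproduct.π f k ≫ biproduct.ι f k) ≫ e.hom := by
    intro k
    simp [e, biproduct.isoCoproduct_hom]
  have ht : ∑ j : K, biproduct.π f j ≫ biproduct.ι f j = 𝟙 (⨁ f) :=
    IsBilimit.total (biproduct.isBilimit f)
  simp_rw [h1]
  rw [← Preadditive.comp_sum, ← Preadditive.sum_comp, ht, Category.id_comp, Iso.inv_hom_id]

/-- **Cohomological dimension from the negative powers of an ample module.** -/
theorem subsingleton_HH_of_ample [IsLocallyNoetherian X] [CompactSpace X] {L L' : X.Modules}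
    (hL : CohB1.IsAmple L) (e : tensorMod L L' ≅ Coh.structureModule X) (hL' : Coh.IsCoh L') (r : ℕ)
    (hneg : ∃ m₀ : ℕ, ∀ m : ℕ, m₀ ≤ m → ∀ i : ℕ, r < i → Subsingleton (Coh.HH X (tensorPow L' m) i))
    (F : X.Modules) (hF : Coh.IsCoh F) (i : ℕ) (hi : r < i) : Subsingleton (Coh.HH X F i) := by
  haveI := Groth.Agent.Lib.H78AmpleBasis.quasiSeparatedSpace_of_isAmple hL
  obtain ⟨d, hd⟩ := Groth.Agent.S0016.result X
  obtain ⟨m₀, hm₀⟩ := hneg
  suffices H : ∀ (k i : ℕ), d ≤ i + k → r < i → ∀ (F : X.Modules), Coh.IsCoh F →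
      Subsingleton (Coh.HH X F i) from H d i (Nat.le_add_left d i) hi F hF
  intro k
  induction k with
  | zero =>
    intro i hi _ F hF
    exact hd F hF.1 i (by simpa using hi)
  | succ k ih =>
    intro i hi hri F hF
    obtain ⟨m₁, hm⟩ := exists_finite_epi_sigma_pow hL e F hF
    obtain ⟨K, hK, q, hq⟩ := hm (max m₀ m₁) (le_max_right _ _)
    haveI := hF.1
    have hE : Coh.IsCoh (∐ fun _ : K => tensorPow L' (max m₀ m₁)) :=
      isCoh_sigma (isCoh_tensorPow hL' _) K
    have hker : Coh.IsCoh (kernel q) := Groth.Agent.Lib.H90OXModExact.isCoh_kernel q hE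
    let S : ShortComplex X.Modules := ShortComplex.mk (kernel.ι q) q (kernel.condition q)
    have hS : S.ShortExact :=
      { exact := ShortComplex.exact_of_f_is_kernel _ (kernelIsKernel q)
        mono_f := inferInstanceAs (Mono (kernel.ι q))
        epi_g := hq }
    haveI : Subsingleton (Coh.HH X S.X₂ i) :=
      subsingleton_HH_sigma K (tensorPow L' (max m₀ m₁)) i (hm₀ _ (le_max_left _ _) i hri)
    haveI : Subsingleton (Coh.HH X S.X₁ (i + 1)) :=
      ih (i + 1) (by omega) (by omega) (kernel q) hker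
    exact subsingleton_right hS i

end Groth.Agent.Lib.CohVanAmple
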