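/-
helper48: **Serre vanishing on projective space** `P^N_B` over a Noetherian ring `B` (stage P3 of the ProperFin keystone).
For `F` coherent there is `d₀ : ℤ` with `H^q(P^N_B, F ⊗ O(d)) = 0` for all `q > 0`, `d ≥ d₀`.
Also the `tensorPow` form `H^q(F ⊗ O(1)^{⊗ n}) = 0`, `n ≥ n₁`.
Uses Lib/SerreVanAmple (abstract pattern), helper4's `subsingleton_HH_twist` and `twistMulIso_of_cover`.
-/
import Groth.Agent.Lib.SerreVanAmple
import Groth.Agent.Lib.ProjSpaceFin
import Groth.Agent.Lib.H4ProjSpaceCoh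

set_option autoImplicit false
universe u
open CategoryTheory CategoryTheory.Limits AlgebraicGeometry Opposite TopologicalSpace CohB1 Twist
open MvPolynomial Groth.Agent.Lib.H4Twist Groth.Agent.Lib.OXModTensor Groth.Agent.Lib.CohLES

namespace Groth.Agent.Lib.SerreVanPN

variable (n : ℕ) (R : Type u) [CommRing R]

local notation "𝒜" => CohB1.polyGrading n R

/-- `O(1)^{⊗ m} ≅ O(m)` on `P^n_R`. -/
theorem nonempty_powIso (m : ℕ) :
    Nonempty (tensorPow (twistProjSpace n R 1) m ≅ twistProjSpace n R (m : ℤ)) := by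
  obtain ⟨e⟩ := nonempty_twistPowIso_of_cover 𝒜 (Groth.Agent.Lib.ProjSpaceFin.hcov n R) m
  exact ⟨e.symm⟩

/-- **Serre vanishing on `P^n_R`**, `tensorPow` form: for `F` coherent on `P^n_R` (`R` Noetherian) there is `n₁`
such that `H^q(P^n_R, F ⊗ O(1)^{⊗ m}) = 0` for all `q > 0` and `m ≥ n₁`. -/
theorem serre_vanishing_pow [IsNoetherianRing R]
    (F : (CohB1.ProjSpace n R).Modules) (hF : Coh.IsCoh F) :
    ∃ n₁ : ℕ, ∀ m : ℕ, n₁ ≤ m → ∀ q : ℕ, 0 < q →
      Subsingleton (Coh.HH (CohB1.ProjSpace n R)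
        (tensorMod F (tensorPow (twistProjSpace n R 1) m)) q) := by
  haveI : IsNoetherian (Proj 𝒜) := Groth.Agent.Lib.GradedNoetherian.proj_isNoetherian 𝒜
  haveI : IsLocallyNoetherian (CohB1.ProjSpace n R) :=
    inferInstanceAs (IsLocallyNoetherian (Proj 𝒜))
  haveI : CompactSpace (CohB1.ProjSpace n R) := inferInstanceAs (CompactSpace (Proj 𝒜))
  obtain ⟨e⟩ := Groth.Agent.Lib.ProjSpaceFin.nonempty_invIso n R
  have hL : Coh.IsCoh (X := CohB1.ProjSpace n R) (twistProjSpace n R 1) :=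
    Groth.Agent.Lib.H90Invertible.isCoh_of_isInvertible (isInvertible_twistProjSpace n R 1)
  have hL' : Coh.IsCoh (X := CohB1.ProjSpace n R) (twistProjSpace n R (-1)) :=
    Groth.Agent.Lib.H90Invertible.isCoh_of_isInvertible (isInvertible_twistProjSpace n R (-1))
  refine Groth.Agent.Lib.SerreVanAmple.subsingleton_HH_twist_of_ample (X := CohB1.ProjSpace n R)
    (L := twistProjSpace n R 1) (L' := twistProjSpace n R (-1))
    (Groth.Agent.Lib.ProjSpaceFin.isAmple_twist_one n R) e hL hL' ⟨0, fun m _ q hq => ?_⟩ F hF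
  obtain ⟨em⟩ := nonempty_powIso n R m
  haveI : Subsingleton (Coh.HH (CohB1.ProjSpace n R) (twistProjSpace n R (m : ℤ)) q) :=
    subsingleton_HH_twist n R (m : ℤ) q hq (Or.inr (by have := Int.natCast_nonneg m; omega))
  exact subsingleton_of_iso em q

/-- **Serre vanishing on `P^n_R`** (`R` Noetherian): for `F` coherent there is `d₀ : ℤ` such that
`H^q(P^n_R, F ⊗ O(d)) = 0` for all `q > 0` and all `d ≥ d₀`. -/
theorem serre_vanishing [IsNoetherianRing R]
    (F : (CohB1.ProjSpace n R).Modules) (hF : Coh.IsCoh F) :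
    ∃ d₀ : ℤ, ∀ d : ℤ, d₀ ≤ d → ∀ q : ℕ, 0 < q →
      Subsingleton (Coh.HH (CohB1.ProjSpace n R) (tensorMod F (twistProjSpace n R d)) q) := by
  obtain ⟨n₁, h⟩ := serre_vanishing_pow n R F hF
  refine ⟨(n₁ : ℤ), fun d hd q hq => ?_⟩
  obtain ⟨m, rfl⟩ : ∃ m : ℕ, d = (m : ℤ) := ⟨d.toNat, by omega⟩
  obtain ⟨em⟩ := nonempty_powIso n R m
  haveI := h m (by exact_mod_cast hd) q hq
  exact subsingleton_of_iso (tensorModIso (Iso.refl F) em.symm) q

end Groth.Agent.Lib.SerreVanPN
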