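/-
helper48: **Serre vanishing for schemes finite over projective space** (in particular closed subschemes of `P^N_B`),
`B` Noetherian: for `i : Z ⟶ P^N_B` finite (e.g. a closed immersion) and `G` coherent on `Z` there is `d₀` with
`H^q(Z, G ⊗ i^* O(d)) = 0` for all `q > 0`, `d ≥ d₀`.

Proof: `H^q(Z, G ⊗ i^*O(d)) ≅ H^q(P, i_*(G ⊗ i^*O(d)))` (S0012, `i` affine) `≅ H^q(P, i_*G ⊗ O(d))` (projection formula
for invertible modules, Lib/ProjFormulaInv) and `i_* G` is coherent (helper90 `isCoh_pushforward`), so Serre vanishing on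
`P^N_B` (Lib/SerreVanPN) applies.

Also the general transfer statement `subsingleton_HH_pullback_twist` for an arbitrary affine morphism.
-/
import Groth.Agent.Lib.SerreVanPN
import Groth.Agent.Lib.ProjFormulaInv
import Groth.Agent.Lib.H90OXModPushFinite
import Groth.Agent.Lib.H90InvertiblePullback
import Groth.Agent.S0012

set_option autoImplicit false
universe u
open CategoryTheory CategoryTheory.Limits AlgebraicGeometry Opposite TopologicalSpace CohB1 Twist
open Groth.Agent.Lib.H4Twist Groth.Agent.Lib.OXModTensor Groth.Agent.Lib.CohLES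
open Groth.Agent.Lib.H90Invertible

namespace Groth.Agent.Lib.SerreVanClosed

/-- **Transfer of vanishing along an affine morphism and an invertible twist**: for `f : Z ⟶ P` affine, `G`
quasi-coherent on `Z`, `L` invertible on `P`:  `H^q(P, f_*G ⊗ L) = 0 ⇒ H^q(Z, G ⊗ f^*L) = 0`. -/
theorem subsingleton_HH_pullback_twist {Z P : Scheme.{u}} (f : Z ⟶ P) [IsAffineHom f]
    (G : Z.Modules) [hG : G.IsQuasicoherent] (L : P.Modules) (hL : PicF.IsInvertible L) (q : ℕ)
    [h : Subsingleton (Coh.HH P (tensorMod ((Scheme.Modules.pushforward f).obj G) L) q)] :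
    Subsingleton (Coh.HH Z (tensorMod G ((Scheme.Modules.pullback f).obj L)) q) := by
  haveI : ((Scheme.Modules.pullback f).obj L).IsQuasicoherent :=
    (isCoh_of_isInvertible (isInvertible_pullback f hL)).1
  haveI : Coh.IsQCoh (tensorMod G ((Scheme.Modules.pullback f).obj L)) :=
    Groth.Agent.Lib.OXModTensorQCoh.isQuasicoherent_tensorMod G _
  obtain ⟨e⟩ := Groth.Agent.S0012.result f (tensorMod G ((Scheme.Modules.pullback f).obj L)) q
  haveI : Subsingleton (Coh.HH P
      ((Coh.push f).obj (tensorMod G ((Scheme.Modules.pullback f).obj L))) q) :=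
    subsingleton_of_iso (Groth.Agent.Lib.ProjFormulaInv.projIso f G L hL).symm q
  exact e.toEquiv.subsingleton

variable (n : ℕ) (R : Type u) [CommRing R]

/-- **Serre vanishing for schemes finite over `P^n_R`** (`R` Noetherian), e.g. closed subschemes. -/
theorem serre_vanishing_of_finite [IsNoetherianRing R] {Z : Scheme.{u}}
    (i : Z ⟶ CohB1.ProjSpace n R) [IsFinite i] (G : Z.Modules) (hG : Coh.IsCoh G) :
    ∃ d₀ : ℤ, ∀ d : ℤ, d₀ ≤ d → ∀ q : ℕ, 0 < q →
      Subsingleton (Coh.HH Z
        (tensorMod G ((Scheme.Modules.pullback i).obj (twistProjSpace n R d))) q) := by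
  have hpush : Coh.IsCoh ((Scheme.Modules.pushforward i).obj G) :=
    Groth.Agent.Lib.H90OXModPushFinite.isCoh_pushforward i G hG
  obtain ⟨d₀, h⟩ := Groth.Agent.Lib.SerreVanPN.serre_vanishing n R _ hpush
  refine ⟨d₀, fun d hd q hq => ?_⟩
  haveI := hG.1
  haveI := h d hd q hq
  exact subsingleton_HH_pullback_twist i G (twistProjSpace n R d) (isInvertible_twistProjSpace n R d) q

/-- Special case `G = O_Z`: the pullbacks `i^* O(d)` are acyclic for `d ≫ 0`. -/
theorem serre_vanishing_structure [IsNoetherianRing R] {Z : Scheme.{u}}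
    (i : Z ⟶ CohB1.ProjSpace n R) [IsFinite i] :
    ∃ d₀ : ℤ, ∀ d : ℤ, d₀ ≤ d → ∀ q : ℕ, 0 < q →
      Subsingleton (Coh.HH Z ((Scheme.Modules.pullback i).obj (twistProjSpace n R d)) q) := by
  obtain ⟨d₀, h⟩ := serre_vanishing_of_finite n R i (Coh.structureModule Z)
    (Groth.Agent.Lib.CohFinAmple.isCoh_structureModule Z)
  refine ⟨d₀, fun d hd q hq => ?_⟩
  haveI := h d hd q hq
  exact subsingleton_of_iso (leftUnitor ((Scheme.Modules.pullback i).obj (twistProjSpace n R d))).symm q

end Groth.Agent.Lib.SerreVanClosed
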