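import Groth.Agent.Lib.H90RelProj
import Groth.Agent.Lib.H90TwistBC
import Groth.Agent.Lib.SerreVanClosed
import Groth.Agent.S0463

/-!
# Relative Serre vanishing over affine opens (helper90, ProperFin K1-d step 2)
-/

set_option autoImplicit false
universe u
open CategoryTheory CategoryTheory.Limits AlgebraicGeometry CohB1 Twist

namespace Groth.Agent.Lib.H90RelVan

open Groth.Agent.Lib.H90RelProj Groth.Agent.Lib.H90ProjBC

/-- cohomology over an open `W` of `X` vanishes if the cohomology of the open subscheme does -/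
theorem subsingleton_HU_of_restrict {X : Scheme.{u}} (M : X.Modules) (W : X.Opens) (q : ℕ)
    [h : Subsingleton (Coh.HH W.toScheme (M.restrict W.ι) q)] :
    Subsingleton (CohTop.HU (Coh.toAb M) q W) := by
  obtain ⟨e⟩ := Groth.Agent.S0463.result (Coh.toAb M) W q
  haveI : Subsingleton (CohTop.H (CohTop.restr (Coh.toAb M) W) q) := h
  exact e.toEquiv.subsingleton

section Main

variable (N : ℕ) (A : Type u) [CommRing A] {X Z' : Scheme.{u}} [IsLocallyNoetherian X]
  (fX : X ⟶ Spec (CommRingCat.of A)) [IsSeparated fX] (j : Z' ⟶ ProjSpace N A) [IsClosedImmersion j]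
  (g : Z' ⟶ X) (hjg : j ≫ ProjSpace.toSpec N A = g ≫ fX) {V : X.Opens} (hV : IsAffineOpen V)

omit [IsLocallyNoetherian X] in
include hjg hV in
/-- the restriction of `j^* O_A(d)` to `g⁻¹(V)` is the pullback of `O_B(d)` along a closed immersion into
`P^N_B`, `B = Γ(X, V)` -/
theorem exists_closedImmersion_iso (d : ℕ) :
    ∃ jV : (g ⁻¹ᵁ V).toScheme ⟶ ProjSpace N Γ(X, V), IsClosedImmersion jV ∧
      Nonempty (((Scheme.Modules.pullback j).obj (twistProjSpace N A (d : ℤ))).restrict (g ⁻¹ᵁ V).ι ≅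
        (Scheme.Modules.pullback jV).obj (twistProjSpace N Γ(X, V) (d : ℤ))) := by
  letI : Algebra A Γ(X, V) := (φV A fX hV).toAlgebra
  have hφ : Spec.map (CommRingCat.ofHom (algebraMap A Γ(X, V))) = hV.fromSpec ≫ fX :=
    spec_map_φV A fX hV
  obtain ⟨jV, hjV, hβ, -⟩ := exists_closedImmersion_over_affine N A fX j g hjg hV hφ
  refine ⟨jV, hjV, ?_⟩
  obtain ⟨e⟩ := nonempty_pullback_twist_iso N A Γ(X, V) d
  let W := g ⁻¹ᵁ V
  let OA := twistProjSpace N A (d : ℤ)
  exact ⟨(Scheme.Modules.restrictFunctorIsoPullback W.ι).app ((Scheme.Modules.pullback j).obj OA) ≪≫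
    (Scheme.Modules.pullbackComp W.ι j).app OA ≪≫
    (Scheme.Modules.pullbackCongr hβ.symm).app OA ≪≫
    ((Scheme.Modules.pullbackComp jV (β N A Γ(X, V))).app OA).symm ≪≫
    (Scheme.Modules.pullback jV).mapIso e⟩

include hjg hV in
/-- **relative Serre vanishing over an affine open** -/
theorem exists_vanishing_over_affine :
    ∃ d₀ : ℕ, ∀ d : ℕ, d₀ ≤ d → ∀ q : ℕ, 0 < q →
      Subsingleton (CohTop.HU (Coh.toAb ((Scheme.Modules.pullback j).obj (twistProjSpace N A (d : ℤ))))
        q (g ⁻¹ᵁ V)) := by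
  haveI : IsNoetherianRing Γ(X, V) := IsLocallyNoetherian.component_noetherian ⟨V, hV⟩
  -- the closed immersion does not depend on `d`
  letI : Algebra A Γ(X, V) := (φV A fX hV).toAlgebra
  have hφ : Spec.map (CommRingCat.ofHom (algebraMap A Γ(X, V))) = hV.fromSpec ≫ fX :=
    spec_map_φV A fX hV
  obtain ⟨jV, hjV, hβ, -⟩ := exists_closedImmersion_over_affine N A fX j g hjg hV hφ
  haveI := hjV
  obtain ⟨d₀, h⟩ := Groth.Agent.Lib.SerreVanClosed.serre_vanishing_structure N Γ(X, V) jV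
  refine ⟨d₀.toNat, fun d hd q hq => ?_⟩
  have hd' : d₀ ≤ (d : ℤ) := by
    have := Int.self_le_toNat d₀
    omega
  haveI := h d hd' q hq
  obtain ⟨e⟩ := nonempty_pullback_twist_iso N A Γ(X, V) d
  let W := g ⁻¹ᵁ V
  let OA := twistProjSpace N A (d : ℤ)
  have e' : ((Scheme.Modules.pullback j).obj OA).restrict W.ι ≅
      (Scheme.Modules.pullback jV).obj (twistProjSpace N Γ(X, V) (d : ℤ)) :=
    (Scheme.Modules.restrictFunctorIsoPullback W.ι).app ((Scheme.Modules.pullback j).obj OA) ≪≫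
    (Scheme.Modules.pullbackComp W.ι j).app OA ≪≫
    (Scheme.Modules.pullbackCongr hβ.symm).app OA ≪≫
    ((Scheme.Modules.pullbackComp jV (β N A Γ(X, V))).app OA).symm ≪≫
    (Scheme.Modules.pullback jV).mapIso e
  haveI : Subsingleton (Coh.HH W.toScheme (((Scheme.Modules.pullback j).obj OA).restrict W.ι) q) :=
    Groth.Agent.Lib.CohLES.subsingleton_of_iso e' q
  exact subsingleton_HU_of_restrict _ W q

end Main

end Groth.Agent.Lib.H90RelVan
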