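import Groth.Agent.Lib.CechLinear9

/-!
# `A`-linear comparison `H^n(Y, M)` vs `H^n(X, g_* M)` through Čech cohomology

(Lead; stage P4 of keystone ProperFin.)
* `exists_addEquiv_smul_of_acyclic`: helper9's linear Čech-to-derived comparison with the affineness
  hypothesis replaced by acyclicity of `M` on the finite intersections of the cover.
-/

universe u

open CategoryTheory Limits Opposite Abelian AlgebraicGeometry TopologicalSpace

open Groth.Agent.Lib.CechEquivariant9 Groth.Agent.Lib.CechLinear9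

namespace Groth.Agent.Lib.PushCechLead

section Acyclic

variable {X : Scheme.{u}}

/-- Linear Čech-to-derived comparison for a cover on whose finite intersections `M` is acyclic. -/
theorem exists_addEquiv_smul_of_acyclic {ι : Type u} (U : ι → X.Opens) (hcov : ⨆ i, U i = ⊤)
    (M : X.Modules)
    (hacyc : ∀ (n : ℕ) (a : Fin (n + 1) → ι) (q : ℕ),
      Subsingleton (CohTop.HU (Coh.toAb M) (q + 1) (iInf fun k => U (a k)))) (p : ℕ) :
    ∃ e : ↑(CohB1.cechH U M p) ≃+ Coh.HH X M p,
      ∀ (r : Coh.Γtop X) (x : ↑(CohB1.cechH U M p)), e (cechSmul U M p r x) = r • e x := by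
  classical
  have key : ∀ (V : X.Opens) (_ : iSup U = V),
      ∃ e : CohTop.cechH (Coh.toAb M).obj U p ≃+ CohTop.HU (Coh.toAb M) p V,
        ∀ (m : Coh.Γtop X) (x : CohTop.cechH (Coh.toAb M).obj U p),
          e (HomologicalComplex.homologyMap
            ((cechComplexFunctor U).map (smulAct M m : Coh.toAb M ⟶ Coh.toAb M).hom) p x) =
          (e x).comp (Ext.mk₀ (smulAct M m : Coh.toAb M ⟶ Coh.toAb M)) (add_zero p) := by
    rintro V rfl
    exact exists_equivariant_top (X := X.toTopCat) (Coh.toAb M) U hacyc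
      (Coh.Γtop X) (smulAct M) p
  obtain ⟨e, he⟩ := key ⊤ hcov
  let E := Groth.Agent.Lib.HBridge.HEquivHUTop (Coh.toAb M) p
  let e' : ↑(CohB1.cechH U M p) ≃+ Coh.HH X M p := e.trans E.symm
  refine ⟨e', ?_⟩
  intro r x
  have h1 : e' (cechSmul U M p r x) = E.symm (e (cechSmul U M p r x)) := rfl
  have h2 : e' x = E.symm (e x) := rfl
  rw [h1, h2, AddEquiv.symm_apply_eq]
  have h3 : E (r • E.symm (e x)) =
      (E (E.symm (e x))).comp (Ext.mk₀ (Coh.smulAb M r)) (add_zero p) :=
    HEquivHUTop_map (Coh.smulAb M r) p _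
  rw [h3, AddEquiv.apply_symm_apply]
  exact he r x

end Acyclic

section Push

open Groth.Agent.Lib.CechTransfer

variable {X Y : Scheme.{u}} (g : Y ⟶ X)

/-- `g^#` on global functions, between the `Coh.Γtop`s. -/
noncomputable def gtop : Coh.Γtop X →+* Coh.Γtop Y := g.appTop.hom

lemma isIso_piComparison_map {ι : Type u} (V : ι → X.Opens) (n : ℕ) (a : Fin (n + 1) → ι) :
    IsIso (piComparison (Opens.map g.base) (fun k => V (a k))) := by
  refine ⟨⟨homOfLE ?_, Subsingleton.elim _ _, Subsingleton.elim _ _⟩⟩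
  intro y hy
  have h1 : ∀ k, g.base y ∈ V (a k) := fun k =>
    (Pi.π (fun k => (Opens.map g.base).obj (V (a k))) k).le hy
  have h2 : g.base y ∈ (⨅ k, V (a k) : Opens X) := by
    rw [← SetLike.mem_coe, Opens.coe_iInf]
    simpa using h1
  exact (Pi.lift (fun k => homOfLE (iInf_le (fun k => V (a k)) k)) :
    (⨅ k, V (a k)) ⟶ ∏ᶜ fun k => V (a k)).le h2

/-- The Čech complex of `M` for the cover `g⁻¹ V` is the Čech complex of `g_* M` for `V`. -/
noncomputable def cechPushIso {ι : Type u} (V : ι → X.Opens) (M : Y.Modules) :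
    (cechComplexFunctor (fun i => g ⁻¹ᵁ V i)).obj M.presheaf ≅
      (cechComplexFunctor V).obj ((Coh.push g).obj M).presheaf :=
  cechIso (Opens.map g.base) V M.presheaf (isIso_piComparison_map g V)

lemma toRingCatSheafHom_resTop (r : Coh.Γtop X) (U : (Opens X)ᵒᵖ) :
    (g.toRingCatSheafHom.hom.app U).hom (Coh.resTop X U r) =
      Coh.resTop Y ((Opens.map g.base).op.obj U) (gtop g r) := by
  have := g.toRingCatSheafHom.hom.naturality (homOfLE (le_top (a := U.unop))).op
  exact congr($(this).hom r)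

lemma smul_push (M : Y.Modules) (U : (Opens X)ᵒᵖ) (s : X.ringCatSheaf.obj.obj U)
    (m : ((Coh.push g).obj M).val.obj U) :
    @HSMul.hSMul (X.ringCatSheaf.obj.obj U) (((Coh.push g).obj M).val.obj U)
      (((Coh.push g).obj M).val.obj U) _ s m =
    @HSMul.hSMul (Y.ringCatSheaf.obj.obj ((Opens.map g.base).op.obj U))
      (M.val.obj ((Opens.map g.base).op.obj U)) (M.val.obj ((Opens.map g.base).op.obj U)) _
      ((g.toRingCatSheafHom.hom.app U).hom s) m := rfl

lemma smulAb_push_app (M : Y.Modules) (r : Coh.Γtop X) (U : (Opens X)ᵒᵖ)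
    (m : (Coh.toAb ((Coh.push g).obj M)).obj.obj U) :
    (Coh.smulAb ((Coh.push g).obj M) r).hom.app U m =
      (Coh.smulAb M (gtop g r)).hom.app ((Opens.map g.base).op.obj U)
        (show (Coh.toAb M).obj.obj ((Opens.map g.base).op.obj U) from m) := by
  refine (Coh.smulAb_app _ _ _ _).trans ?_
  refine (smul_push g M U _ m).trans ?_
  rw [toRingCatSheafHom_resTop]
  exact (Coh.smulAb_app M (gtop g r) ((Opens.map g.base).op.obj U) _).symm

lemma smulAb_push_hom (M : Y.Modules) (r : Coh.Γtop X) :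
    ((Coh.smulAb ((Coh.push g).obj M) r).hom : ((Coh.push g).obj M).presheaf ⟶ _) =
      Functor.whiskerLeft (Opens.map g.base).op
        ((Coh.smulAb M (gtop g r)).hom : M.presheaf ⟶ M.presheaf) := by
  ext U m
  exact smulAb_push_app g M r U m

/-- The comparison on Čech cohomology. -/
noncomputable def cechHPushIso {ι : Type u} (V : ι → X.Opens) (M : Y.Modules) (p : ℕ) :
    CohB1.cechH (fun i => g ⁻¹ᵁ V i) M p ≅ CohB1.cechH V ((Coh.push g).obj M) p :=
  (HomologicalComplex.homologyFunctor _ _ p).mapIso (cechPushIso g V M)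

lemma cechHPushIso_smul {ι : Type u} (V : ι → X.Opens) (M : Y.Modules) (p : ℕ) (r : Coh.Γtop X)
    (x : ↑(CohB1.cechH (fun i => g ⁻¹ᵁ V i) M p)) :
    (cechHPushIso g V M p).hom (cechSmul (fun i => g ⁻¹ᵁ V i) M p (gtop g r) x) =
      cechSmul V ((Coh.push g).obj M) p r ((cechHPushIso g V M p).hom x) := by
  have hnat := cechIso_naturality (Opens.map g.base) V
    ((Coh.smulAb M (gtop g r)).hom : M.presheaf ⟶ M.presheaf) (isIso_piComparison_map g V)
  rw [← smulAb_push_hom g M r] at hnat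
  have h2 := congrArg (fun φ => HomologicalComplex.homologyMap φ p) hnat
  simp only [HomologicalComplex.homologyMap_comp] at h2
  exact congr($(h2).hom x)

/-- **Cohomology of `M` on `Y` versus cohomology of `g_* M` on `X`**, compatibly with multiplication by
global functions of `X`: for a cover `V` of `X` with affine finite intersections such that `M` is
acyclic on the preimages of these intersections (and `g_* M` quasi-coherent). -/
theorem exists_addEquiv_push {ι : Type u} (V : ι → X.Opens) (hcov : ⨆ i, V i = ⊤)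
    (hV : ∀ s : Finset ι, s.Nonempty → IsAffineOpen (⨅ i ∈ s, V i))
    (M : Y.Modules) [Coh.IsQCoh ((Coh.push g).obj M)]
    (hacyc : ∀ (n : ℕ) (a : Fin (n + 1) → ι) (q : ℕ),
      Subsingleton (CohTop.HU (Coh.toAb M) (q + 1) (iInf fun k => g ⁻¹ᵁ V (a k)))) (p : ℕ) :
    ∃ e : Coh.HH Y M p ≃+ Coh.HH X ((Coh.push g).obj M) p,
      ∀ (r : Coh.Γtop X) (x : Coh.HH Y M p), e (gtop g r • x) = r • e x := by
  have hcovY : ⨆ i, g ⁻¹ᵁ V i = ⊤ := by
    rw [← Scheme.Hom.preimage_iSup, hcov]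
    rfl
  obtain ⟨eY, heY⟩ := exists_addEquiv_smul_of_acyclic (fun i => g ⁻¹ᵁ V i) hcovY M hacyc p
  obtain ⟨eX, heX⟩ := exists_addEquiv_smul V hcov hV ((Coh.push g).obj M) p
  let c := (cechHPushIso g V M p).addCommGroupIsoToAddEquiv
  refine ⟨eY.symm.trans (c.trans eX), fun r x => ?_⟩
  obtain ⟨y, rfl⟩ := eY.surjective x
  rw [← heY]
  simp only [AddEquiv.trans_apply, AddEquiv.symm_apply_apply]
  rw [← heX]
  congr 1
  exact cechHPushIso_smul g V M p r y

section Over

variable (A : Type u) [CommRing A] [X.Over (Spec (CommRingCat.of A))]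
  [Y.Over (Spec (CommRingCat.of A))] [g.IsOver (Spec (CommRingCat.of A))]

lemma gtop_toGlobal (a : A) :
    gtop g (Coh.toGlobal (X ↘ Spec (CommRingCat.of A)) a) =
      Coh.toGlobal (Y ↘ Spec (CommRingCat.of A)) a := by
  have h : g ≫ (X ↘ Spec (CommRingCat.of A)) = Y ↘ Spec (CommRingCat.of A) :=
    CategoryTheory.comp_over g _
  unfold Coh.toGlobal gtop
  rw [← h]
  rfl

/-- `A`-linear version of `exists_addEquiv_push` for a morphism of schemes over `Spec A`. -/
theorem nonempty_linearEquiv_push {ι : Type u} (V : ι → X.Opens) (hcov : ⨆ i, V i = ⊤)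
    (hV : ∀ s : Finset ι, s.Nonempty → IsAffineOpen (⨅ i ∈ s, V i))
    (M : Y.Modules) [Coh.IsQCoh ((Coh.push g).obj M)]
    (hacyc : ∀ (n : ℕ) (a : Fin (n + 1) → ι) (q : ℕ),
      Subsingleton (CohTop.HU (Coh.toAb M) (q + 1) (iInf fun k => g ⁻¹ᵁ V (a k)))) (p : ℕ) :
    Nonempty (Coh.HH Y M p ≃ₗ[A] Coh.HH X ((Coh.push g).obj M) p) := by
  obtain ⟨e, he⟩ := exists_addEquiv_push g V hcov hV M hacyc p
  refine ⟨{ e with map_smul' := fun a x => ?_ }⟩
  change e (Coh.toGlobal (Y ↘ Spec (CommRingCat.of A)) a • x) =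
    Coh.toGlobal (X ↘ Spec (CommRingCat.of A)) a • e x
  rw [← gtop_toGlobal g A a, he]

/-- Finiteness of the cohomology of `M` on `Y` implies finiteness for `g_* M` on `X`. -/
theorem finite_HH_push {ι : Type u} (V : ι → X.Opens) (hcov : ⨆ i, V i = ⊤)
    (hV : ∀ s : Finset ι, s.Nonempty → IsAffineOpen (⨅ i ∈ s, V i))
    (M : Y.Modules) [Coh.IsQCoh ((Coh.push g).obj M)]
    (hacyc : ∀ (n : ℕ) (a : Fin (n + 1) → ι) (q : ℕ),
      Subsingleton (CohTop.HU (Coh.toAb M) (q + 1) (iInf fun k => g ⁻¹ᵁ V (a k)))) (p : ℕ)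
    (hfin : Module.Finite A (Coh.HH Y M p)) :
    Module.Finite A (Coh.HH X ((Coh.push g).obj M) p) := by
  obtain ⟨e⟩ := nonempty_linearEquiv_push g A V hcov hV M hacyc p
  exact Module.Finite.equiv e

omit [X.Over (Spec (CommRingCat.of A))] [Y.Over (Spec (CommRingCat.of A))]
  [g.IsOver (Spec (CommRingCat.of A))] in
/-- Acyclicity on the preimages of the finite intersections, finset form ⇒ tuple form. -/
lemma acyclic_tuple_of_finset {ι : Type u} (V : ι → X.Opens) (M : Y.Modules)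
    (hacyc : ∀ s : Finset ι, s.Nonempty → ∀ q : ℕ,
      Subsingleton (CohTop.HU (Coh.toAb M) (q + 1) (g ⁻¹ᵁ (⨅ i ∈ s, V i))))
    (n : ℕ) (a : Fin (n + 1) → ι) (q : ℕ) :
    Subsingleton (CohTop.HU (Coh.toAb M) (q + 1) (iInf fun k => g ⁻¹ᵁ V (a k))) := by
  classical
  have hs : (Finset.univ.image a).Nonempty := ⟨a 0, Finset.mem_image_of_mem a (Finset.mem_univ 0)⟩
  have heq : (⨅ i ∈ Finset.univ.image a, V i) = iInf fun k => V (a k) := by
    apply le_antisymm
    · exact le_iInf fun k => iInf₂_le (a k) (Finset.mem_image_of_mem a (Finset.mem_univ k))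
    · refine le_iInf₂ fun i hi => ?_
      obtain ⟨k, -, rfl⟩ := Finset.mem_image.1 hi
      exact iInf_le _ k
  have heq2 : g ⁻¹ᵁ (iInf fun k => V (a k)) = iInf fun k => g ⁻¹ᵁ V (a k) := by
    ext y
    simp only [← SetLike.mem_coe, Opens.coe_iInf, Set.mem_iInter, Scheme.Hom.coe_preimage,
      Set.mem_preimage]
  have := hacyc _ hs q
  rwa [heq, heq2] at this

/-- Finset form of `finite_HH_push`. -/
theorem finite_HH_push' {ι : Type u} (V : ι → X.Opens) (hcov : ⨆ i, V i = ⊤)
    (hV : ∀ s : Finset ι, s.Nonempty → IsAffineOpen (⨅ i ∈ s, V i))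
    (M : Y.Modules) [Coh.IsQCoh ((Coh.push g).obj M)]
    (hacyc : ∀ s : Finset ι, s.Nonempty → ∀ q : ℕ,
      Subsingleton (CohTop.HU (Coh.toAb M) (q + 1) (g ⁻¹ᵁ (⨅ i ∈ s, V i)))) (p : ℕ)
    (hfin : Module.Finite A (Coh.HH Y M p)) :
    Module.Finite A (Coh.HH X ((Coh.push g).obj M) p) :=
  finite_HH_push g A V hcov hV M (acyclic_tuple_of_finset g V M hacyc) p hfin

end Over

end Push

end Groth.Agent.Lib.PushCechLead
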