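import Mathlib
import Groth.Agent.Lib.H90Chow3
import Groth.Agent.Lib.H90ChowStalk
import Groth.Agent.Lib.H90RelVan
import Groth.Agent.Lib.H90PushCoh
import Groth.Agent.Lib.PushCechLead
import Groth.Agent.Lib.CechPushAffine
import Groth.Agent.Lib.ProjSpaceFin
import Groth.Agent.Lib.H90DevTwo2
import Groth.Agent.Lib.H90InvertiblePullback
import Groth.Agent.Lib.H4ProjSpaceCoh
import Groth.Agent.Lib.ModStalk

/-!
# Finiteness of coherent cohomology on proper schemes: the dévissage input (helper90, K1)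
-/

set_option autoImplicit false
universe u

open CategoryTheory CategoryTheory.Limits AlgebraicGeometry TopologicalSpace Opposite Coherent CohB1 Twist

namespace Groth.Agent.Lib.H90ProperFin

/-- a compact scheme has a finite affine open cover -/
theorem exists_finite_affine_cover (X : Scheme.{u}) [CompactSpace X] :
    ∃ (ι : Type u) (_ : Fintype ι) (V : ι → X.Opens), (⨆ i, V i = ⊤) ∧ ∀ i, IsAffineOpen (V i) := by
  classical
  have hV : ∀ x : X, ∃ V : X.Opens, IsAffineOpen V ∧ x ∈ V := by
    intro x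
    obtain ⟨_, ⟨V, hV, rfl⟩, hxV, -⟩ :=
      X.isBasis_affineOpens.exists_subset_of_mem_open (Set.mem_univ x) isOpen_univ
    exact ⟨V, hV, hxV⟩
  choose V hVa hVx using hV
  obtain ⟨t, ht⟩ := CompactSpace.elim_nhds_subcover (fun x => (V x : Set X))
    (fun x => (V x).isOpen.mem_nhds (hVx x))
  refine ⟨↥t, inferInstance, fun i => V i.1, ?_, fun i => hVa _⟩
  rw [eq_top_iff]
  intro x _
  have hx : x ∈ (⊤ : Set X) := trivial
  rw [← ht] at hx
  simp only [Set.mem_iUnion] at hx
  obtain ⟨y, hy, hxy⟩ := hx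
  exact Opens.mem_iSup.mpr ⟨⟨y, hy⟩, hxy⟩

/-- the support of `(π ≫ i)_* L` -/
theorem support_eq_range {X Z Z' : Scheme.{u}} (i : Z ⟶ X) [IsClosedImmersion i] [IsIntegral Z]
    (π : Z' ⟶ Z) (L : Z'.Modules)
    (hG : Coh.IsCoh ((Scheme.Modules.pushforward (π ≫ i)).obj L))
    (hst : Nonempty (↑(((Scheme.Modules.pushforward (π ≫ i)).obj L).presheaf.stalk (i (genericPoint Z)))
      ≃ₗ[X.presheaf.stalk (i (genericPoint Z))]
      IsLocalRing.ResidueField (X.presheaf.stalk (i (genericPoint Z))))) :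
    CohB1.support ((Scheme.Modules.pushforward (π ≫ i)).obj L) = Set.range ⇑i := by
  apply Set.Subset.antisymm
  · intro x hx
    by_contra hnot
    have hcl : closure (Set.range ⇑(π ≫ i)) ⊆ Set.range ⇑i := by
      refine closure_minimal ?_ i.isClosedEmbedding.isClosed_range
      rintro _ ⟨z, rfl⟩
      exact ⟨π z, rfl⟩
    haveI := Groth.Agent.Lib.PushStalk.subsingleton_stalk_push_of_notMem_closure_range (π ≫ i) L x
      (fun h => hnot (hcl h))
    exact hx inferInstance
  · rw [← Groth.Agent.Lib.H90DevTwo2.isGenericPoint_image_genericPoint i]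
    refine closure_minimal ?_ (Groth.Agent.Lib.ModStalk.isClosed_support_of_isFT _ hG.2)
    rintro _ rfl
    obtain ⟨e⟩ := hst
    intro hsub
    haveI : Subsingleton (IsLocalRing.ResidueField (X.presheaf.stalk (i (genericPoint Z)))) :=
      e.symm.toEquiv.subsingleton
    exact false_of_nontrivial_of_subsingleton
      (IsLocalRing.ResidueField (X.presheaf.stalk (i (genericPoint Z))))

theorem isSeparated_of_over_affine {X : Scheme.{u}} {R : CommRingCat.{u}} (f : X ⟶ Spec R)
    [IsSeparated f] : X.IsSeparated := by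
  refine ⟨?_⟩
  rw [← terminal.comp_from f]
  infer_instance

instance (X : Scheme.{u}) [X.IsSeparated] : IsAffineHom (pullback.diagonal (terminal.from X)) := by
  haveI : IsClosedImmersion (pullback.diagonal (terminal.from X)) :=
    IsSeparated.isClosedImmersion_diagonal
  infer_instance

/-- **The dévissage input for finiteness of coherent cohomology on a proper scheme**: for every integral
closed subscheme `i : Z → X` there is a coherent module with support `i(Z)`, generic stalk the residue
field, and finite cohomology. -/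
theorem exists_devissage_module (A : Type u) [CommRing A] [IsNoetherianRing A] (X : Scheme.{u})
    [X.Over (Spec (CommRingCat.of A))] [IsProper (X ↘ Spec (CommRingCat.of A))]
    (Z : Scheme.{u}) (i : Z ⟶ X) [IsClosedImmersion i] [IsIntegral Z] :
    ∃ G : X.Modules, Coh.IsCoh G ∧ CohB1.support G = Set.range ⇑i ∧
      Nonempty (↑(G.presheaf.stalk (i (genericPoint Z))) ≃ₗ[X.presheaf.stalk (i (genericPoint Z))]
          IsLocalRing.ResidueField (X.presheaf.stalk (i (genericPoint Z)))) ∧
      ∀ n, Module.Finite A (Coh.HH X G n) := by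
  classical
  let f : X ⟶ Spec (CommRingCat.of A) := X ↘ Spec (CommRingCat.of A)
  haveI : IsProper f := ‹_›
  haveI : IsLocallyNoetherian X := LocallyOfFiniteType.isLocallyNoetherian f
  haveI : CompactSpace X := QuasiCompact.compactSpace_of_compactSpace f
  haveI : X.IsSeparated := isSeparated_of_over_affine f
  obtain ⟨N, Z', π, j, hj, hcomm, hπ, hsurj, hred, U, hU, hiso⟩ :=
    Groth.Agent.Lib.H90Chow.chow_integral A Z (i ≫ f)
  haveI := hj
  haveI := hπ
  haveI := hiso
  have hjg : j ≫ ProjSpace.toSpec N A = (π ≫ i) ≫ f := by rw [hcomm, Category.assoc]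
  obtain ⟨ι, _, V, hcov, hVa⟩ := exists_finite_affine_cover X
  have hV : ∀ s : Finset ι, s.Nonempty → IsAffineOpen (⨅ i ∈ s, V i) := by
    intro s hs
    have := IsAffineOpen.biInf (X := X) (s : Set ι) s.finite_toSet hs (U := V) (fun i _ => hVa i)
    simpa using this
  have hex : ∀ s : Finset ι, ∃ d₀ : ℕ, s.Nonempty → ∀ d : ℕ, d₀ ≤ d → ∀ q : ℕ, 0 < q →
      Subsingleton (CohTop.HU (Coh.toAb ((Scheme.Modules.pullback j).obj (twistProjSpace N A (d : ℤ))))
        q ((π ≫ i) ⁻¹ᵁ (⨅ i ∈ s, V i))) := by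
    intro s
    by_cases hs : s.Nonempty
    · obtain ⟨d₀, h⟩ := Groth.Agent.Lib.H90RelVan.exists_vanishing_over_affine N A f j (π ≫ i) hjg
        (hV s hs)
      exact ⟨d₀, fun _ => h⟩
    · exact ⟨0, fun h => absurd h hs⟩
  choose d₀ hd₀ using hex
  let d : ℕ := Finset.univ.sup d₀
  let L : Z'.Modules := (Scheme.Modules.pullback j).obj (twistProjSpace N A (d : ℤ))
  have hL : PicF.IsInvertible L :=
    Groth.Agent.Lib.H90Invertible.isInvertible_pullback j
      (Groth.Agent.Lib.H4Twist.isInvertible_twistProjSpace N A (d : ℤ))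
  have hLc : Coh.IsCoh L := Groth.Agent.Lib.H90Invertible.isCoh_of_isInvertible hL
  have hG : Coh.IsCoh ((Scheme.Modules.pushforward (π ≫ i)).obj L) :=
    Groth.Agent.Lib.H90PushCoh.isCoh_pushforward N A f j (π ≫ i) hjg L hLc
  have hst := Groth.Agent.Lib.H90ChowStalk.nonempty_stalk_equiv_residueField i π U hU L hL
  refine ⟨(Scheme.Modules.pushforward (π ≫ i)).obj L, hG, support_eq_range i π L hG hst, hst, ?_⟩
  intro n
  letI : Z'.Over (Spec (CommRingCat.of A)) := ⟨(π ≫ i) ≫ f⟩
  haveI : (π ≫ i).IsOver (Spec (CommRingCat.of A)) := ⟨rfl⟩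
  haveI : j.IsOver (Spec (CommRingCat.of A)) := ⟨hjg⟩
  haveI : L.IsQuasicoherent := hLc.1
  haveI : (ProjSpace N A).IsSeparated := by
    haveI : IsProper (ProjSpace.toSpec N A) := Groth.Agent.Lib.ProjSpaceProper.isProper_toSpec N A
    exact isSeparated_of_over_affine (ProjSpace.toSpec N A)
  have h1 : Module.Finite A (Coh.HH Z' L n) :=
    (Groth.Agent.Lib.CechPushAffine.finite_push_iff_of_isAffineHom A j L n).mpr
      (Groth.Agent.Lib.ProjSpaceFin.finite_HH_projSpace N A _
        (Groth.Agent.Lib.H90OXModPushFinite.isCoh_pushforward j L hLc) n)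
  haveI : Coh.IsQCoh ((Coh.push (π ≫ i)).obj L) := hG.1
  refine Groth.Agent.Lib.PushCechLead.finite_HH_push' (π ≫ i) A V hcov hV L ?_ n h1
  intro s hs q
  exact hd₀ s hs d (Finset.le_sup (f := d₀) (Finset.mem_univ s)) (q + 1) (Nat.succ_pos q)

end Groth.Agent.Lib.H90ProperFin
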