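import Groth.Agent.Lib.SnapperCurv13
import Groth.Agent.Lib.MixedDiffCoeff13
import Groth.Agent.Lib.EffCartierDim13
import Groth.Agent.Lib.IdealMod
import Groth.Agent.Lib.H90DevTwo2
import Groth.Agent.Lib.H90OXModPushFinite
import Groth.Agent.S0002

/-!
# Coefficients of Snapper polynomials as intersection numbers (helper13)

`X` proper over a field `k`, `dim X ≤ D`.
* `intNum_add_of_shortExact` : `FGA.intNum k X D M -` is additive on short exact sequences of coherent modules
  (`M i` invertible).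
* `coeff_ones_eq_intNum` : if `P` computes `n ↦ χ(F ⊗ L_1^{n_1} ⊗ ⋯ ⊗ L_d^{n_d})` on `ℕ^d` (`Curv2.tensorPows`) and
  `dim Supp F ≤ d`, then the coefficient of `n_1 ⋯ n_d` in `P` is `(-1)^d · FGA.intNum k X D L F`.
* `isCoh_quotMod`, `dim_support_quotMod_le`.
* `intNum_quotMod_of_isEffCartier` : `(L_0 ⋯ L_e · X) = (L_1 ⋯ L_e · D)` in `intNum` form.
-/

set_option autoImplicit false
universe u
open CategoryTheory CategoryTheory.Limits AlgebraicGeometry

namespace Groth.Agent.Lib.SnapCoeff13

open Groth.Agent.Lib Groth.Agent.Lib.IsoCls13 Groth.Agent.Lib.IntNumAlg13 CohB1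
open Groth.Agent.Lib.MixedDiff13

/-- finiteness of coherent cohomology (landed S0002) in the `ProperFinHyp.Hyp` form -/
theorem properFinHyp : ProperFinHyp.Hyp.{u} := by
  intro A _ _ X _ _ M hM n
  exact Groth.Agent.S0002.result A X M hM n

variable (k : Type u) [Field k] {X : Scheme.{u}} [X.Over (Spec (CommRingCat.of k))]
  [IsProper (X ↘ Spec (CommRingCat.of k))]

/-- `FGA.intNum` is additive in the coherent argument. -/
theorem intNum_add_of_shortExact (D : ℕ) (hD : topologicalKrullDim X ≤ D) {r : ℕ}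
    (M : Fin r → X.Modules) (hM : ∀ i, PicF.IsInvertible (M i)) (S : ShortComplex X.Modules)
    (hS : S.ShortExact) (h₁ : Coh.IsCoh S.X₁) (h₂ : Coh.IsCoh S.X₂) (h₃ : Coh.IsCoh S.X₃) :
    FGA.intNum k X D M S.X₂ = FGA.intNum k X D M S.X₁ + FGA.intNum k X D M S.X₃ := by
  unfold FGA.intNum
  rw [← Finset.sum_add_distrib]
  refine Finset.sum_congr rfl fun I _ => ?_
  rw [← mul_add]
  congr 1
  refine EulerLE48.eulerCharLE_tensorLeft_add k X properFinHyp DegTensor13.vanHyp D hD _ ?_ S hS h₁ h₂ h₃
  refine EulerLE48.isInvertible_tensorList _ fun N hN => ?_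
  obtain ⟨i, _, rfl⟩ := List.mem_map.mp hN
  exact hM i

theorem prod_pow_indNat {d : ℕ} {α : Type*} [CommMonoid α] (c : Fin d → α) (I : Finset (Fin d)) :
    ∏ i, c i ^ indNat I i = ∏ i ∈ I, c i := by
  classical
  rw [← Finset.prod_subset (Finset.subset_univ I)]
  · refine Finset.prod_congr rfl fun i hi => ?_
    simp [indNat, hi]
  · intro i _ hi
    simp [indNat, hi]

/-- **The coefficient of `n_1 ⋯ n_d` in the Snapper polynomial is `(-1)^d` times `FGA.intNum`.** -/
theorem coeff_ones_eq_intNum (D : ℕ) (hD : topologicalKrullDim X ≤ D) {d : ℕ} (F : X.Modules)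
    (hF : Coh.IsCoh F) (hsupp : topologicalKrullDim (CohB1.support F) ≤ d) (L : Fin d → X.Modules)
    (hL : ∀ i, PicF.IsInvertible (L i)) (P : MvPolynomial (Fin d) ℚ)
    (hP : ∀ n : Fin d → ℕ, (Curv2.euler k X (Curv2.tensorPows F d L n) : ℚ) =
      MvPolynomial.eval (fun i => (n i : ℚ)) P) :
    MvPolynomial.coeff (Finsupp.equivFunOnFinite.symm fun _ : Fin d => 1) P =
      (((-1) ^ d * FGA.intNum k X D L F : ℤ) : ℚ) := by
  obtain ⟨P₀, hdeg, hP₀⟩ := SnapperCurv13.snapper_euler k X F hF d hsupp d L hL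
  have hPP : P = P₀ := eq_of_eval_nat_eq _ _ fun m => by rw [← hP m, ← hP₀ m]
  subst hPP
  have h := sum_powerset_eval_eq_coeff P hdeg
  have hcoeff : MvPolynomial.coeff (ones d) P =
      (-1) ^ d * ∑ I : Finset (Fin d), (-1 : ℚ) ^ I.card * MvPolynomial.eval (ind I) P := by
    rw [h, ← mul_assoc, ← mul_pow]; simp
  change MvPolynomial.coeff (ones d) P = _
  rw [hcoeff, intNum_eq]
  push_cast
  congr 1
  refine Finset.sum_congr rfl fun I _ => ?_
  congr 1
  rw [ind_eq_indNat, ← hP (indNat I), ← EulerLE48.eulerCharLE_eq_euler k X DegTensor13.vanHyp D hD,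
    ← chi_cls, SnapperCurv13.cls_tensorPows, prod_pow_indNat, mul_comm]

/-- `O_X / I` is coherent on a locally Noetherian scheme. -/
theorem isCoh_quotMod {Y : Scheme.{u}} (I : Y.IdealSheafData) : Coh.IsCoh (ClSub.quotMod I) :=
  H90OXModPushFinite.isCoh_pushforward I.subschemeι _ (CohFinAmple.isCoh_structureModule _)

theorem support_quotMod_subset {Y : Scheme.{u}} (I : Y.IdealSheafData) :
    CohB1.support (ClSub.quotMod I) ⊆ (I.support : Set Y) := by
  have h := H90DevTwo2.support_push_subset I.subschemeι (Coh.structureModule I.subscheme)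
  rwa [Scheme.IdealSheafData.range_subschemeι] at h

theorem dim_support_quotMod_le {Y : Scheme.{u}} (I : Y.IdealSheafData) :
    topologicalKrullDim (CohB1.support (ClSub.quotMod I)) ≤ topologicalKrullDim (I.support : Set Y) :=
  IntNumAlg13.topologicalKrullDim_mono (support_quotMod_subset I)

/-- `(L_0 ⋯ L_e · X) = (L_1 ⋯ L_e · D)` for an effective Cartier divisor `D` with `L_0 ≅ O(D)`,
in `FGA.intNum` form (note the sign: `intNum` is taken with the `L_i` themselves). -/
theorem intNum_quotMod_of_isEffCartier (e : ℕ) (hX : topologicalKrullDim X ≤ ((e + 1 : ℕ) : WithBot ℕ∞))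
    (I : X.IdealSheafData) (L : Fin (e + 1) → X.Modules) (hL : ∀ j, PicF.IsInvertible (L j))
    (hLD : ClSub.IsInverseOf (L 0) (ClSub.idealMod I)) :
    FGA.intNum k X (e + 1) (fun j : Fin e => L j.succ) (ClSub.quotMod I) =
      - FGA.intNum k X (e + 1) L (Coh.structureModule X) := by
  have := EulerLE48.isLocallyNoetherian k X
  have hIinv : PicF.IsInvertible (ClSub.idealMod I) :=
    IntNumCalc13.isInvertible_of_tensor_iso (hL 0) hLD
  have hIcoh : Coh.IsCoh (ClSub.idealMod I) := H90Invertible.isCoh_of_isInvertible hIinv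
  have hOcoh : Coh.IsCoh (Coh.structureModule X) := CohFinAmple.isCoh_structureModule X
  -- additivity on `0 → I → O → O/I → 0`
  have hadd := intNum_add_of_shortExact k (e + 1) hX (fun j : Fin e => L j.succ) (fun j => hL j.succ)
    _ (IdealMod.idealMod_shortExact I) hIcoh hOcoh (isCoh_quotMod I)
  simp only at hadd
  have hq : FGA.intNum k X (e + 1) (fun j : Fin e => L j.succ) (ClSub.quotMod I) =
      FGA.intNum k X (e + 1) (fun j : Fin e => L j.succ) (Coh.structureModule X) -
        FGA.intNum k X (e + 1) (fun j : Fin e => L j.succ) (ClSub.idealMod I) := by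
    linarith
  rw [hq, intNum_eq_lin, intNum_eq_lin, intNum_eq_lin, ← map_sub, ← map_neg]
  -- the identity in the group ring
  obtain ⟨eiso⟩ := hLD
  have hal : br (L 0) * br (ClSub.idealMod I) = 1 := by
    rw [← br_tensorMod, br_eq_of_iso eiso, br_structureModule]
  set a := br (ClSub.idealMod I) with ha
  set Pr' := ∏ j : Fin e, (1 - br (L j.succ)) with hPr'
  have hPr : ∏ j : Fin (e + 1), (1 - br (L j)) = (1 - br (L 0)) * Pr' := Fin.prod_univ_succ _
  rw [hPr, br_structureModule, mul_one, mul_one]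
  -- `Pr' - Pr' a = -(a (1 - l₀) Pr')` and `(1 - a)(1 - l₀) Pr'` is killed by `lin`
  have hvan : lin k (e + 1) ((∏ j : Fin (e + 2), (1 - br ((Fin.cons (ClSub.idealMod I) L :
      Fin (e + 2) → X.Modules) j))) * br (Coh.structureModule X)) = 0 := by
    refine lin_prod_one_sub_mul_br_eq_zero DegTensor13.snapperHyp k (e + 1) hX _ ?_ hOcoh
      (r := e + 1) ((DegTensor13.topologicalKrullDim_set_le _).trans hX) (by omega)
    intro j
    refine Fin.cases ?_ (fun j => ?_) j
    · simpa using hIinv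
    · simpa using hL j
  rw [Fin.prod_univ_succ, br_structureModule, mul_one] at hvan
  simp only [Fin.cons_zero, Fin.cons_succ] at hvan
  rw [hPr] at hvan
  have e1 : Pr' - Pr' * a = -((1 - br (L 0)) * Pr') + (1 - a) * ((1 - br (L 0)) * Pr') := by
    have : a * br (L 0) = 1 := by rw [mul_comm]; exact hal
    linear_combination (-Pr') * this
  rw [e1, map_add, hvan, add_zero]

end Groth.Agent.Lib.SnapCoeff13
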