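import Groth.Agent.Lib.FinLocFree2
import Groth.Agent.Lib.CohFinite
import Groth.Agent.Lib.ModStalkLin

/-!
# Stalks of free `O_X`-modules

The stalk of `O_X^n` at `x` is a free `O_{X,x}`-module with basis the germs of the standard sections;
stalk maps of morphisms `O_X^n ⟶ M` in terms of this basis.
-/

set_option autoImplicit false
universe u

open CategoryTheory CategoryTheory.Limits AlgebraicGeometry TopologicalSpace Opposite

namespace Groth.Agent.Lib.FreeModStalk

open Groth.Agent.Lib.ModStalk Groth.Agent.Lib.ModStalkLin Groth.Agent.Lib.FreeModSch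
  Groth.Agent.Lib.QCohStalk

variable {X : Scheme.{u}}

section Additive

variable {M N : X.Modules}

theorem stalkLin_add (φ ψ : M ⟶ N) (x : X) :
    stalkLin (φ + ψ) x = stalkLin φ x + stalkLin ψ x := by
  ext m
  change (stalkFunctor x).map (φ + ψ) m = (stalkFunctor x).map φ m + (stalkFunctor x).map ψ m
  rw [Functor.map_add]
  rfl

theorem stalkLin_zero (x : X) : stalkLin (0 : M ⟶ N) x = 0 := by
  ext m
  change (stalkFunctor x).map (0 : M ⟶ N) m = 0
  rw [Functor.map_zero]
  rfl

theorem stalkLin_sum {ι : Type*} (s : Finset ι) (φ : ι → (M ⟶ N)) (x : X) :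
    stalkLin (∑ i ∈ s, φ i) x = ∑ i ∈ s, stalkLin (φ i) x := by
  classical
  induction s using Finset.induction_on with
  | empty => simp [stalkLin_zero]
  | insert a s ha ih => rw [Finset.sum_insert ha, Finset.sum_insert ha, stalkLin_add, ih]

end Additive

section Unit

/-- The germ of the section `1` of the structure module. -/
noncomputable def one (x : X) : (Coh.structureModule X).presheaf.stalk x :=
  (Coh.structureModule X).presheaf.germ ⊤ x trivial (1 : Γ(X, ⊤))

/-- The germ of a function, viewed as a section of the structure module, is the germ of the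
function times the germ of `1`. -/
theorem germ_unit_eq_smul_one (x : X) (U : X.Opens) (hx : x ∈ U) (a : Γ(X, U)) :
    (Coh.structureModule X).presheaf.germ U x hx (show Γ(Coh.structureModule X, U) from a) =
      X.presheaf.germ U x hx a • one x := by
  have h1 : (Coh.structureModule X).presheaf.germ U x hx
      (show Γ(Coh.structureModule X, U) from (1 : Γ(X, U))) = one x := by
    have h2 : (show Γ(Coh.structureModule X, U) from (1 : Γ(X, U))) =
        res (Coh.structureModule X) (le_top : U ≤ ⊤)
          (show Γ(Coh.structureModule X, ⊤) from (1 : Γ(X, ⊤))) :=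
      (map_one (X.presheaf.map (homOfLE (le_top : U ≤ ⊤)).op).hom).symm
    rw [h2]
    exact germ_res (Coh.structureModule X) le_top x hx _
  have ha : (show Γ(Coh.structureModule X, U) from a) =
      a • (show Γ(Coh.structureModule X, U) from (1 : Γ(X, U))) := (mul_one a).symm
  calc (Coh.structureModule X).presheaf.germ U x hx (show Γ(Coh.structureModule X, U) from a)
      = (Coh.structureModule X).presheaf.germ U x hx
          (a • (show Γ(Coh.structureModule X, U) from (1 : Γ(X, U)))) := congrArg _ ha
    _ = X.presheaf.germ U x hx a • (Coh.structureModule X).presheaf.germ U x hx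
          (show Γ(Coh.structureModule X, U) from (1 : Γ(X, U))) := germ_smul _ U x hx a _
    _ = X.presheaf.germ U x hx a • one x := by rw [h1]

theorem exists_eq_smul_one (x : X) (ζ : (Coh.structureModule X).presheaf.stalk x) :
    ∃ a : X.presheaf.stalk x, ζ = a • one x := by
  obtain ⟨U, hxU, a, rfl⟩ := TopCat.Presheaf.exists_germ_eq (Coh.structureModule X).presheaf ζ
  exact ⟨X.presheaf.germ U x hxU a, germ_unit_eq_smul_one x U hxU a⟩

theorem smul_one_eq_zero_iff (x : X) (a : X.presheaf.stalk x) : a • one x = 0 ↔ a = 0 := by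
  refine ⟨fun h => ?_, fun h => by rw [h, zero_smul]⟩
  obtain ⟨U, hxU, a, rfl⟩ := TopCat.Presheaf.exists_germ_eq X.presheaf a
  rw [← germ_unit_eq_smul_one] at h
  have h0 : (Coh.structureModule X).presheaf.germ U x hxU
      (show Γ(Coh.structureModule X, U) from a) =
      (Coh.structureModule X).presheaf.germ U x hxU (0 : Γ(Coh.structureModule X, U)) := by
    rw [h, map_zero]
  obtain ⟨W, hxW, iU, iV, hW⟩ := TopCat.Presheaf.germ_eq (Coh.structureModule X).presheaf
    x hxU hxU _ _ h0
  rw [map_zero] at hW
  have hW' : X.presheaf.map iU.op a = 0 := hW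
  rw [← TopCat.Presheaf.germ_res_apply X.presheaf iU x hxW a, hW', map_zero]

end Unit


section Unit2

/-- `O_{X,x}` is the stalk of the structure module, linearly. -/
noncomputable def unitStalkEquiv (x : X) :
    X.presheaf.stalk x ≃ₗ[X.presheaf.stalk x] (Coh.structureModule X).presheaf.stalk x :=
  LinearEquiv.ofBijective (LinearMap.toSpanSingleton (X.presheaf.stalk x) _ (one x))
    ⟨by
      rw [← LinearMap.ker_eq_bot, LinearMap.ker_eq_bot']
      intro a ha
      exact (smul_one_eq_zero_iff x a).mp ha,
    fun ζ => by
      obtain ⟨a, rfl⟩ := exists_eq_smul_one x ζ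
      exact ⟨a, rfl⟩⟩

@[simp]
theorem unitStalkEquiv_apply (x : X) (a : X.presheaf.stalk x) :
    unitStalkEquiv x a = a • one x := rfl

theorem stalkLin_unit_one {N : X.Modules} (φ : Coh.structureModule X ⟶ N) (x : X) :
    stalkLin φ x (one x) = N.presheaf.germ ⊤ x trivial (toSection φ) :=
  stalkLin_germ φ x ⊤ trivial _

end Unit2

section Free

variable (X) (n : ℕ)

/-- The standard sections of `O_X^n`. -/
noncomputable def basisSec (i : Fin n) : Γ(FlatMod.freeMod X n, ⊤) :=
  toSection (Sigma.ι (fun _ : Fin n => Coh.structureModule X) i)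

/-- The projections `O_X^n ⟶ O_X`. -/
noncomputable def proj (i : Fin n) : FlatMod.freeMod X n ⟶ Coh.structureModule X :=
  Sigma.desc (fun j => if j = i then 𝟙 _ else 0)

lemma ι_proj (i j : Fin n) :
    Sigma.ι (fun _ : Fin n => Coh.structureModule X) j ≫ proj X n i =
      if j = i then 𝟙 _ else 0 :=
  Sigma.ι_desc _ _

lemma sum_proj_ι :
    ∑ i, proj X n i ≫ Sigma.ι (fun _ : Fin n => Coh.structureModule X) i = 𝟙 _ := by
  apply Sigma.hom_ext
  intro j
  rw [Preadditive.comp_sum, Category.comp_id, Finset.sum_eq_single j]
  · rw [← Category.assoc, ι_proj, if_pos rfl, Category.id_comp]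
  · intro i _ hij
    rw [← Category.assoc, ι_proj, if_neg (Ne.symm hij), zero_comp]
  · intro h
    exact absurd (Finset.mem_univ j) h

variable {X n}

/-- The coordinates of an element of the stalk of `O_X^n`. -/
noncomputable def coord (x : X) (i : Fin n) :
    (FlatMod.freeMod X n).presheaf.stalk x →ₗ[X.presheaf.stalk x] X.presheaf.stalk x :=
  (unitStalkEquiv x).symm.toLinearMap.comp (stalkLin (proj X n i) x)

theorem coord_smul_one (x : X) (i : Fin n) (ζ : (FlatMod.freeMod X n).presheaf.stalk x) :
    coord x i ζ • one x = stalkLin (proj X n i) x ζ := by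
  have := (unitStalkEquiv x).apply_symm_apply (stalkLin (proj X n i) x ζ)
  exact this

/-- The stalk map of a morphism `O_X^n ⟶ N` in coordinates. -/
theorem stalkLin_freeMod_apply {N : X.Modules} (φ : FlatMod.freeMod X n ⟶ N) (x : X)
    (ζ : (FlatMod.freeMod X n).presheaf.stalk x) :
    stalkLin φ x ζ = ∑ i, coord x i ζ •
      N.presheaf.germ ⊤ x trivial
        (toSection (Sigma.ι (fun _ : Fin n => Coh.structureModule X) i ≫ φ)) := by
  have h1 : φ = ∑ i, proj X n i ≫ Sigma.ι (fun _ : Fin n => Coh.structureModule X) i ≫ φ := by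
    conv_lhs => rw [← Category.id_comp φ, ← sum_proj_ι, Preadditive.sum_comp]
    simp only [Category.assoc]
  conv_lhs => rw [h1]
  rw [stalkLin_sum, LinearMap.sum_apply]
  refine Finset.sum_congr rfl (fun i _ => ?_)
  rw [stalkLin_comp, LinearMap.comp_apply, ← coord_smul_one, map_smul, stalkLin_unit_one]

end Free


section Basis

variable {n : ℕ}

/-- The germ of the `i`-th standard section of `O_X^n`. -/
noncomputable def basisGerm (x : X) (i : Fin n) : (FlatMod.freeMod X n).presheaf.stalk x :=
  (FlatMod.freeMod X n).presheaf.germ ⊤ x trivial (basisSec X n i)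

theorem coord_basisGerm (x : X) (i j : Fin n) :
    coord x j (basisGerm x i) = if i = j then 1 else 0 := by
  apply (unitStalkEquiv x).injective
  have h1 : unitStalkEquiv x (coord x j (basisGerm x i)) =
      (Coh.structureModule X).presheaf.germ ⊤ x trivial
        (toSection (Sigma.ι (fun _ : Fin n => Coh.structureModule X) i ≫ proj X n j)) := by
    rw [unitStalkEquiv_apply, coord_smul_one]
    unfold basisGerm basisSec
    rw [stalkLin_germ, ← toSection_comp]
  rw [h1, ι_proj]
  split_ifs with h
  · rw [unitStalkEquiv_apply, one_smul]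
    rfl
  · rw [map_zero]
    exact map_zero _

/-- The stalk of `O_X^n` is `O_{X,x}^n`. -/
noncomputable def stalkEquivFun (x : X) :
    (FlatMod.freeMod X n).presheaf.stalk x ≃ₗ[X.presheaf.stalk x] (Fin n → X.presheaf.stalk x) where
  toFun ζ i := coord x i ζ
  map_add' ζ ξ := by ext i; simp
  map_smul' a ζ := by ext i; simp
  invFun a := ∑ i, a i • basisGerm x i
  left_inv ζ := by
    have h := stalkLin_freeMod_apply (𝟙 (FlatMod.freeMod X n)) x ζ
    rw [stalkLin_id, LinearMap.id_apply] at h
    conv_rhs => rw [h]
    refine Finset.sum_congr rfl (fun i _ => ?_)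
    rw [Category.comp_id]
    rfl
  right_inv a := by
    ext j
    change coord x j (∑ i, a i • basisGerm x i) = a j
    rw [map_sum, Finset.sum_eq_single j]
    · rw [map_smul, coord_basisGerm, if_pos rfl, smul_eq_mul, mul_one]
    · intro i _ hij
      rw [map_smul, coord_basisGerm, if_neg hij, smul_zero]
    · intro h
      exact absurd (Finset.mem_univ j) h

/-- The basis of the stalk of `O_X^n` given by the germs of the standard sections. -/
noncomputable def stalkBasis (x : X) :
    Module.Basis (Fin n) (X.presheaf.stalk x) ((FlatMod.freeMod X n).presheaf.stalk x) :=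
  Module.Basis.ofEquivFun (stalkEquivFun x)

theorem stalkBasis_apply (x : X) (i : Fin n) : stalkBasis x i = basisGerm x i := by
  unfold stalkBasis
  rw [Module.Basis.coe_ofEquivFun]
  change ∑ j, (Pi.single i (1 : X.presheaf.stalk x) : Fin n → _) j • basisGerm x j = _
  rw [Finset.sum_eq_single i]
  · rw [Pi.single_eq_same, one_smul]
  · intro j _ hji
    rw [Pi.single_eq_of_ne hji, zero_smul]
  · intro h
    exact absurd (Finset.mem_univ i) h

instance (x : X) : Module.Free (X.presheaf.stalk x) ((FlatMod.freeMod X n).presheaf.stalk x) :=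
  Module.Free.of_basis (stalkBasis x)

instance (x : X) : Module.Finite (X.presheaf.stalk x) ((FlatMod.freeMod X n).presheaf.stalk x) :=
  Module.Finite.of_basis (stalkBasis x)

/-- The stalk map of `ofSections M t` sends the standard basis to the germs of `t`. -/
theorem stalkLin_ofSections_basisGerm {M : X.Modules} (t : Fin n → Γ(M, ⊤)) (x : X) (i : Fin n) :
    stalkLin (ofSections M t) x (basisGerm x i) = M.presheaf.germ ⊤ x trivial (t i) := by
  unfold basisGerm basisSec
  rw [stalkLin_germ, ← toSection_comp, ι_ofSections, toSection_ofSection]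

/-- If the germs of `t` form a basis of the stalk `M_x`, then `ofSections M t` is bijective on
stalks at `x`. -/
theorem bijective_stalkLin_ofSections {M : X.Modules} (t : Fin n → Γ(M, ⊤)) (x : X)
    (hli : LinearIndependent (X.presheaf.stalk x) (fun i => M.presheaf.germ ⊤ x trivial (t i)))
    (hsp : Submodule.span (X.presheaf.stalk x)
      (Set.range fun i => M.presheaf.germ ⊤ x trivial (t i)) = ⊤) :
    Function.Bijective (stalkLin (ofSections M t) x) := by
  let b : Module.Basis (Fin n) (X.presheaf.stalk x) (M.presheaf.stalk x) :=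
    Module.Basis.mk hli hsp.ge
  have h : stalkLin (ofSections M t) x = ((stalkBasis x).equiv b (Equiv.refl _)).toLinearMap := by
    apply (stalkBasis x).ext
    intro i
    rw [stalkBasis_apply, stalkLin_ofSections_basisGerm, LinearEquiv.coe_coe,
      ← stalkBasis_apply, Module.Basis.equiv_apply]
    simp [b]
  rw [h]
  exact LinearEquiv.bijective _

end Basis

end Groth.Agent.Lib.FreeModStalk
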