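import Groth.Prelude.Def_FlatMod2
import Groth.Agent.Lib.ModStalk

/-!
# Free modules on schemes: maps out of `O_X` and `O_X^n`, local lifting along epimorphisms
-/

set_option autoImplicit false
universe u

open CategoryTheory CategoryTheory.Limits AlgebraicGeometry TopologicalSpace Opposite

namespace Groth.Agent.Lib.FreeModSch

variable {X : Scheme.{u}}

/-- The section over `U` of a module induced by a global section. -/
noncomputable def resTop (M : X.Modules) (U : X.Opens) (t : Γ(M, ⊤)) : Γ(M, U) :=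
  M.presheaf.map (homOfLE le_top).op t

/-- The compatible family of sections determined by a global section. -/
noncomputable def sectionsOfTop (M : X.Modules) (t : Γ(M, ⊤)) :
    SheafOfModules.sections (R := X.ringCatSheaf) M :=
  PresheafOfModules.sectionsMk (M := M.val) (fun U => resTop M U.unop t) (by
    intro U V f
    change M.presheaf.map f (M.presheaf.map _ t) = M.presheaf.map _ t
    rw [← ConcreteCategory.comp_apply, ← Functor.map_comp]
    rfl)

/-- The morphism `O_X ⟶ M` determined by a global section of `M`. -/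
noncomputable def ofSection (M : X.Modules) (t : Γ(M, ⊤)) : Coh.structureModule X ⟶ M :=
  (SheafOfModules.unitHomEquiv (R := X.ringCatSheaf) M).symm (sectionsOfTop M t)

/-- The global section of `M` determined by a morphism `O_X ⟶ M`. -/
noncomputable def toSection {M : X.Modules} (f : Coh.structureModule X ⟶ M) : Γ(M, ⊤) :=
  (SheafOfModules.unitHomEquiv (R := X.ringCatSheaf) M f).val (op ⊤)

lemma toSection_ofSection (M : X.Modules) (t : Γ(M, ⊤)) : toSection (ofSection M t) = t := by
  unfold toSection ofSection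
  rw [Equiv.apply_symm_apply]
  change M.presheaf.map (𝟙 _) t = t
  rw [M.presheaf.map_id]
  rfl

lemma unit_hom_ext {M : X.Modules} (f g : Coh.structureModule X ⟶ M)
    (h : toSection f = toSection g) : f = g := by
  apply (SheafOfModules.unitHomEquiv (R := X.ringCatSheaf) M).injective
  apply PresheafOfModules.sections_ext
  intro U
  have hf := (SheafOfModules.unitHomEquiv (R := X.ringCatSheaf) M f).2
    (homOfLE (le_top : U.unop ≤ ⊤)).op
  have hg := (SheafOfModules.unitHomEquiv (R := X.ringCatSheaf) M g).2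
    (homOfLE (le_top : U.unop ≤ ⊤)).op
  rw [← hf, ← hg]
  exact congrArg _ h

lemma toSection_comp {M N : X.Modules} (f : Coh.structureModule X ⟶ M) (p : M ⟶ N) :
    toSection (f ≫ p) = p.app ⊤ (toSection f) := rfl

/-- The morphism `O_X^n ⟶ M` determined by `n` global sections. -/
noncomputable def ofSections (M : X.Modules) {n : ℕ} (t : Fin n → Γ(M, ⊤)) :
    FlatMod.freeMod X n ⟶ M :=
  Sigma.desc (fun i => ofSection M (t i))

lemma ι_ofSections (M : X.Modules) {n : ℕ} (t : Fin n → Γ(M, ⊤)) (i : Fin n) :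
    Sigma.ι (fun _ : Fin n => Coh.structureModule X) i ≫ ofSections M t = ofSection M (t i) :=
  Sigma.ι_desc _ _

lemma freeMod_hom_ext {M : X.Modules} {n : ℕ} (f g : FlatMod.freeMod X n ⟶ M)
    (h : ∀ i, toSection (Sigma.ι (fun _ : Fin n => Coh.structureModule X) i ≫ f) =
      toSection (Sigma.ι (fun _ : Fin n => Coh.structureModule X) i ≫ g)) : f = g :=
  Sigma.hom_ext _ _ (fun i => unit_hom_ext _ _ (h i))

/-- Sections lift locally along an epimorphism of `O_X`-modules. -/
theorem exists_lift_section {G F : X.Modules} (p : G ⟶ F) [Epi p] (U : X.Opens) (s : Γ(F, U))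
    (x : X) (hx : x ∈ U) :
    ∃ (V : X.Opens) (hVU : V ≤ U) (_ : x ∈ V) (t : Γ(G, V)),
      p.app V t = F.presheaf.map (homOfLE hVU).op s := by
  have surj : Function.Surjective
      ((TopCat.Presheaf.stalkFunctor Ab.{u} x).map p.mapPresheaf) :=
    ModStalk.stalk_surjective_of_epi p x
  obtain ⟨g, hg⟩ := surj (F.presheaf.germ U x hx s)
  obtain ⟨W, hxW, t0, rfl⟩ := TopCat.Presheaf.exists_germ_eq G.presheaf g
  rw [TopCat.Presheaf.stalkFunctor_map_germ_apply] at hg
  obtain ⟨V, hxV, iW, iU, hV⟩ := TopCat.Presheaf.germ_eq F.presheaf x hxW hx _ _ hg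
  refine ⟨V, iU.le, hxV, G.presheaf.map iW.op t0, ?_⟩
  have hnat := congr($(p.mapPresheaf.naturality iW.op) t0)
  simp only [ConcreteCategory.comp_apply] at hnat
  change p.mapPresheaf.app (op V) (G.presheaf.map iW.op t0) = _
  rw [hnat]
  exact hV


/-- Finitely many sections lift simultaneously on a neighbourhood. -/
theorem exists_lift_sections {G F : X.Modules} (p : G ⟶ F) [Epi p] {n : ℕ}
    (s : Fin n → Γ(F, ⊤)) (x : X) :
    ∃ (V : X.Opens) (_ : x ∈ V) (t : Fin n → Γ(G, V)),
      ∀ i, p.app V (t i) = F.presheaf.map (homOfLE (le_top : V ≤ ⊤)).op (s i) := by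
  choose W hW hxW t ht using fun i => exists_lift_section p ⊤ (s i) x trivial
  refine ⟨⨅ i, W i, ?_, fun i => G.presheaf.map (homOfLE (iInf_le W i)).op (t i), fun i => ?_⟩
  · rw [← SetLike.mem_coe, Opens.coe_iInf]
    exact Set.mem_iInter.mpr hxW
  · have hnat := congr($(p.mapPresheaf.naturality (homOfLE (iInf_le W i)).op) (t i))
    simp only [ConcreteCategory.comp_apply] at hnat
    change p.mapPresheaf.app (op (⨅ i, W i)) (G.presheaf.map (homOfLE (iInf_le W i)).op (t i)) = _
    rw [hnat]
    change F.presheaf.map _ (p.app (W i) (t i)) = _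
    rw [ht i, ← ConcreteCategory.comp_apply, ← Functor.map_comp]
    rfl


/-- A map from a free module of finite rank lifts locally along an epimorphism: there is an open
neighbourhood `V` of `x` such that the lift exists after restricting along any open immersion
landing in `V`. -/
theorem exists_lift_freeMod_of_le {G F : X.Modules} (p : G ⟶ F) [Epi p] {n : ℕ}
    (φ : FlatMod.freeMod X n ⟶ F) (x : X) :
    ∃ (V : X.Opens), x ∈ V ∧ ∀ {W : Scheme.{u}} (j : W ⟶ X) [IsOpenImmersion j],
      j.opensRange ≤ V → ∃ ψ : (FlatMod.freeMod X n).restrict j ⟶ G.restrict j,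
        ψ ≫ (Scheme.Modules.restrictFunctor j).map p =
          (Scheme.Modules.restrictFunctor j).map φ := by
  obtain ⟨V, hxV, t, ht⟩ := exists_lift_sections p
    (fun i => toSection (Sigma.ι (fun _ : Fin n => Coh.structureModule X) i ≫ φ)) x
  refine ⟨V, hxV, fun {W} j _ hj => ?_⟩
  have hle : j ''ᵁ (j ⁻¹ᵁ ⊤) ≤ V := by
    rw [Scheme.Hom.image_preimage_eq_opensRange_inf]
    exact inf_le_left.trans hj
  let adj := Scheme.Modules.restrictAdjunction j
  let N := (Scheme.Modules.pushforward j).obj (G.restrict j)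
  let t' : Fin n → Γ(N, ⊤) := fun i => G.presheaf.map (homOfLE hle).op (t i)
  refine ⟨(adj.homEquiv _ _).symm (ofSections N t'), ?_⟩
  apply (adj.homEquiv _ _).injective
  rw [Adjunction.homEquiv_naturality_right, Equiv.apply_symm_apply, Adjunction.homEquiv_unit,
    adj.unit_naturality]
  apply freeMod_hom_ext
  intro i
  rw [← Category.assoc, ι_ofSections, toSection_comp, toSection_ofSection, ← Category.assoc,
    toSection_comp]
  change p.mapPresheaf.app (op (j ''ᵁ (j ⁻¹ᵁ ⊤))) (G.presheaf.map (homOfLE hle).op (t i)) =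
    F.presheaf.map (homOfLE (j.image_preimage_le ⊤)).op
      (toSection (Sigma.ι (fun _ : Fin n => Coh.structureModule X) i ≫ φ))
  have hnat := congr($(p.mapPresheaf.naturality (homOfLE hle).op) (t i))
  simp only [ConcreteCategory.comp_apply] at hnat
  rw [hnat]
  change F.presheaf.map _ (p.app V (t i)) = _
  rw [ht i, ← ConcreteCategory.comp_apply, ← Functor.map_comp]
  rfl

/-- A map from a free module of finite rank lifts locally along an epimorphism. -/
theorem exists_lift_freeMod {G F : X.Modules} (p : G ⟶ F) [Epi p] {n : ℕ}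
    (φ : FlatMod.freeMod X n ⟶ F) (x : X) :
    ∃ (V : X.Opens) (ψ : (FlatMod.freeMod X n).restrict V.ι ⟶ G.restrict V.ι), x ∈ V ∧
      ψ ≫ (Scheme.Modules.restrictFunctor V.ι).map p =
        (Scheme.Modules.restrictFunctor V.ι).map φ := by
  obtain ⟨V, hxV, h⟩ := exists_lift_freeMod_of_le p φ x
  obtain ⟨ψ, hψ⟩ := h V.ι (by rw [Scheme.Opens.opensRange_ι])
  exact ⟨V, ψ, hxV, hψ⟩

/-- Restricting to `U` and then to a smaller open `V ≤ U` is restricting to `V`. -/
noncomputable def restrictRestrictIso {U V : X.Opens} (h : V ≤ U) :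
    Scheme.Modules.restrictFunctor U.ι ⋙ Scheme.Modules.restrictFunctor (X.homOfLE h) ≅
      Scheme.Modules.restrictFunctor V.ι :=
  (Scheme.Modules.restrictFunctorComp (X.homOfLE h) U.ι).symm ≪≫
    Scheme.Modules.restrictFunctorCongr (X.homOfLE_ι h)

/-- A map from a finite locally free module lifts locally along an epimorphism. -/
theorem exists_lift_of_isFinLocFree {E F G : X.Modules} (p : G ⟶ F) [Epi p] (φ : E ⟶ F)
    (hE : FlatMod.IsFinLocFree E) (x : X) :
    ∃ (V : X.Opens) (ψ : E.restrict V.ι ⟶ G.restrict V.ι), x ∈ V ∧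
      ψ ≫ (Scheme.Modules.restrictFunctor V.ι).map p =
        (Scheme.Modules.restrictFunctor V.ι).map φ := by
  obtain ⟨U, n, hxU, ⟨e⟩⟩ := hE x
  obtain ⟨V', hxV', h⟩ := exists_lift_freeMod_of_le
    ((Scheme.Modules.restrictFunctor U.ι).map p)
    (e.inv ≫ (Scheme.Modules.restrictFunctor U.ι).map φ) ⟨x, hxU⟩
  have hVU : U.ι ''ᵁ V' ≤ U := U.ι_image_le V'
  obtain ⟨ψ', hψ'⟩ := h (X.homOfLE hVU) (by
    rw [Scheme.opensRange_homOfLE, Scheme.Hom.preimage_image_eq])
  let β := restrictRestrictIso hVU
  refine ⟨U.ι ''ᵁ V', β.inv.app E ≫ (Scheme.Modules.restrictFunctor (X.homOfLE hVU)).map e.hom ≫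
    ψ' ≫ β.hom.app G, ⟨⟨x, hxU⟩, hxV', rfl⟩, ?_⟩
  have h1 := β.hom.naturality p
  have h2 := β.hom.naturality φ
  simp only [Functor.comp_map] at h1 h2
  rw [Category.assoc, Category.assoc, Category.assoc, ← h1, reassoc_of% hψ', Functor.map_comp,
    Category.assoc, ← Functor.map_comp_assoc, e.hom_inv_id, CategoryTheory.Functor.map_id, Category.id_comp,
    h2, ← Category.assoc, ← NatTrans.comp_app, β.inv_hom_id, NatTrans.id_app, Category.id_comp]

end Groth.Agent.Lib.FreeModSch
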