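import Groth.Agent.Lib.HilbPoly48
import Groth.Agent.Lib.FreeModSch

/-!
# Hilbert polynomials, part 2 (helper48): values for large twists (Serre vanishing + global generation)

`X` proper over a field `k`, `L` ample, `E` coherent, `H : ProperFinHyp.Hyp` (= S0002).

* `nontrivial_H0_of_isGloballyGenerated` : a nonzero globally generated module has a nonzero `H^0`.
* `not_isZero_twist` : twisting by an invertible module reflects zero objects.
* `exists_eval_eq_finrank H` : `P_E(m) = dim_k H^0(X, E(m))` for `m ≫ 0`.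
* `polyLE_zero H` : `0 ≤ P_E(m)` for `m ≫ 0`;  `polyLT_zero H` : `0 < P_E(m)` for `m ≫ 0` if `E ≠ 0`.
-/

set_option autoImplicit false
set_option linter.style.haveILetI false
universe u
open CategoryTheory CategoryTheory.Limits AlgebraicGeometry Polynomial

namespace Groth.Agent.Lib.HilbPoly48

open Groth.Agent.Lib

section GlobGen

variable {X : Scheme.{u}}

/-- A nonzero globally generated module has a nonzero global section. -/
theorem nontrivial_H0_of_isGloballyGenerated {F : X.Modules} (hg : Curv2.IsGloballyGenerated F)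
    (hF : ¬ IsZero F) : Nontrivial (Coh.HH X F 0) := by
  by_contra hn
  rw [not_nontrivial_iff_subsingleton] at hn
  haveI : Subsingleton Γ(F, ⊤) := (H4Twist.h0Equiv F).symm.subsingleton
  obtain ⟨ι, p, hp⟩ := hg
  have h0 : p = 0 := by
    refine Cofan.IsColimit.hom_ext (SheafOfModules.isColimitFreeCofan (R := X.ringCatSheaf) ι) _ _
      fun i => ?_
    exact FreeModSch.unit_hom_ext _ _ (Subsingleton.elim _ _)
  exact hF (@IsZero.of_epi_eq_zero _ _ _ _ _ p hp h0)

/-- Twisting by an invertible module reflects zero objects. -/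
theorem not_isZero_twist {L : X.Modules} (hL : PicF.IsInvertible L) {E : X.Modules}
    (hE : ¬ IsZero E) (m : ℕ) : ¬ IsZero (ShStab.twist X L E m) := by
  have hM : PicF.IsInvertible (CohB1.tensorPow L m) := H78TensorGen.isInvertible_tensorPow hL m
  obtain ⟨M', _, ⟨e⟩⟩ := H78Dual.exists_tensor_inverse hM
  have e' : CohB1.tensorMod (CohB1.tensorPow L m) M' ≅ Coh.structureModule X :=
    OXModTensor.braiding _ _ ≪≫ e
  haveI := TwistEquiv.isEquivalence_tensorRightFunctor e'
  intro hz
  exact hE (IsZero.of_full_of_faithful_of_isZero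
    (TwistEquiv.tensorRightFunctor (CohB1.tensorPow L m)) E hz)

end GlobGen

section Proper

variable (H : ProperFinHyp.Hyp.{u})
variable (k : Type u) [Field k] (X : Scheme.{u}) [X.Over (Spec (CommRingCat.of k))]
  [IsProper (X ↘ Spec (CommRingCat.of k))]

omit [IsProper (X ↘ Spec (CommRingCat.of k))] in
/-- If the higher cohomology of `E(m)` vanishes then `P_E(m) = h^0(E(m))`. -/
theorem eval_eq_finrank_of_vanishing {L E : X.Modules} {P : ℚ[X]} (hP : ShStab.IsHilbPoly k X L E P)
    (m : ℕ) (hv : ∀ p : ℕ, 0 < p → Subsingleton (Coh.HH X (ShStab.twist X L E m) p)) :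
    P.eval (m : ℚ) = (Module.finrank k (Coh.HH X (ShStab.twist X L E m) 0) : ℚ) := by
  rw [← hP m, EulerChar54.euler_eq_finrank_zero k X _ hv]
  push_cast
  rfl

/-- Serre: `P_E(m) = h^0(X, E(m))` for all large `m`. -/
theorem exists_eval_eq_finrank {L : X.Modules} (hL : CohB1.IsAmple L) {E : X.Modules}
    (hE : Coh.IsCoh E) {P : ℚ[X]} (hP : ShStab.IsHilbPoly k X L E P) :
    ∃ N : ℕ, ∀ m : ℕ, N ≤ m →
      P.eval (m : ℚ) = (Module.finrank k (Coh.HH X (ShStab.twist X L E m) 0) : ℚ) := by
  obtain ⟨N, hN⟩ := H78SerreVan.serre_vanishing_of_isAmple (X ↘ Spec (CommRingCat.of k)) hL E hE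
  exact ⟨N, fun m hm => eval_eq_finrank_of_vanishing k X hP m (hN m hm)⟩

/-- `0 ≤ P_E(m)` for `m ≫ 0`. -/
theorem polyLE_zero {L : X.Modules} (hL : CohB1.IsAmple L) {E : X.Modules}
    (hE : Coh.IsCoh E) {P : ℚ[X]} (hP : ShStab.IsHilbPoly k X L E P) : StabCat.PolyLE 0 P := by
  obtain ⟨N, hN⟩ := exists_eval_eq_finrank k X hL hE hP
  refine ⟨N, fun m hm => ?_⟩
  rw [hN m hm, eval_zero]
  exact Nat.cast_nonneg _

include H in
/-- `0 < P_E(m)` for `m ≫ 0` if `E ≠ 0`. -/
theorem polyLT_zero {L : X.Modules} (hL : CohB1.IsAmple L) {E : X.Modules}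
    (hE : Coh.IsCoh E) (hE0 : ¬ IsZero E) {P : ℚ[X]} (hP : ShStab.IsHilbPoly k X L E P) :
    StabCat.PolyLT 0 P := by
  obtain ⟨N, hN⟩ := exists_eval_eq_finrank k X hL hE hP
  haveI := EulerChar54.compactSpace_of_isProper k X
  obtain ⟨N', hN'⟩ := H78GlobGen2.isGloballyGenerated_twist hL E hE
  refine ⟨max N N', fun m hm => ?_⟩
  rw [hN m (le_trans (le_max_left _ _) hm), eval_zero]
  have hg : Curv2.IsGloballyGenerated (ShStab.twist X L E m) := hN' m (le_trans (le_max_right _ _) hm)
  haveI := nontrivial_H0_of_isGloballyGenerated hg (not_isZero_twist hL.1 hE0 m)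
  have hLc : Coh.IsCoh (CohB1.tensorPow L m) :=
    H90Invertible.isCoh_of_isInvertible (H78TensorGen.isInvertible_tensorPow hL.1 m)
  haveI := ParHilb48.isLocallyNoetherian k X
  haveI : Module.Finite k (Coh.HH X (ShStab.twist X L E m) 0) :=
    H k X _ (CohFinAmple.isCoh_tensorMod hE hLc) 0
  exact_mod_cast Module.finrank_pos (R := k) (M := Coh.HH X (ShStab.twist X L E m) 0)

end Proper

end Groth.Agent.Lib.HilbPoly48
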