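import Groth.Prelude.Def_Coh
import Mathlib.AlgebraicGeometry.Morphisms.Proper
import Mathlib.RingTheory.Noetherian.Defs

/-!
# The finiteness theorem for proper morphisms, as a hypothesis

`Groth.Agent.Lib.ProperFinHyp.Hyp.{u}` is, verbatim, the statement of milestone S0002
(`Coh.T2_proper_cohomology_finite`): for a Noetherian ring `A`, a scheme `X` proper over `Spec A`
and a coherent `O_X`-module `M`, every `H^n(X, M)` is a finite `A`-module.

Purpose: consumers of S0002 (Euler characteristic, formal functions, cohomology and base change,
Stein factorisation, ...) can be developed **before** S0002 itself is landed, as theorems of the form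
`theorem foo (H : ProperFinHyp.Hyp.{u}) ... : ...`.  Once `Groth.Agent.S0002.result` exists, the
hypothesis is discharged by
`fun A _ _ X _ _ M hM n => Groth.Agent.S0002.result A X M hM n`.
-/

set_option autoImplicit false
universe u
open CategoryTheory AlgebraicGeometry

namespace Groth.Agent.Lib.ProperFinHyp

/-- The statement of S0002 (finiteness of coherent cohomology of a proper scheme over a Noetherian
affine base), as a proposition. -/
def Hyp : Prop :=
  ∀ (A : Type u) [CommRing A] [IsNoetherianRing A] (X : Scheme.{u})
    [X.Over (Spec (CommRingCat.of A))] [IsProper (X ↘ Spec (CommRingCat.of A))]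
    (M : X.Modules) (_ : Coh.IsCoh M) (n : ℕ), Module.Finite A (Coh.HH X M n)

theorem Hyp.finite (H : Hyp.{u}) (A : Type u) [CommRing A] [IsNoetherianRing A] (X : Scheme.{u})
    [X.Over (Spec (CommRingCat.of A))] [IsProper (X ↘ Spec (CommRingCat.of A))]
    (M : X.Modules) (hM : Coh.IsCoh M) (n : ℕ) : Module.Finite A (Coh.HH X M n) :=
  H A X M hM n

end Groth.Agent.Lib.ProperFinHyp
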