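import Groth.Agent.Lib.EulerNat54
import Groth.Agent.Lib.CohLESLinear
import Groth.Agent.Lib.ProperFinHyp
import Groth.Agent.S0010
import Groth.Prelude.Def_CurvBase
import Mathlib.RingTheory.HopkinsLevitzki

/-!
# Euler characteristic of coherent modules on proper schemes (helper54; campaign K2a)

Namespace `Groth.Agent.Lib.EulerChar54`.  Everything that needs the finiteness theorem S0002 takes it as the
hypothesis `H : ProperFinHyp.Hyp` (verbatim statement of S0002).

* `exists_fin_affine_cover`, `exists_vanishing_bound` (S0010: uniform `t` with `H^n(X, M) = 0` for quasi-coherent `M`,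
  `n ≥ t`, for `X` quasi-compact and separated over an affine base), `compactSpace_of_isProper`.
* `sum_range_len_add`: additivity of `Σ_{i ≤ N} (-1)^i length_A H^i` along a short exact sequence (finite length and
  `H^{N+1}(S.X₁) = 0` as hypotheses; no `Hyp`).
* `isFiniteLength_HH H`, `euler_eq_sum_range`, `euler_add H` (= S1524), `sum_range_length_add H` (= S2420 form),
  `euler_eq_finrank_zero` (`χ = dim H^0` when the higher cohomology vanishes).
-/

set_option autoImplicit false
universe u

open CategoryTheory CategoryTheory.Limits AlgebraicGeometry TopologicalSpace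

namespace Groth.Agent.Lib.EulerChar54

open Groth.Agent.Lib.EulerNat54 Groth.Agent.Lib.CohLES Groth.Agent.Lib.ProperFinHyp

/-- a quasi-compact scheme is covered by finitely many affine opens, indexed by `Fin t` -/
theorem exists_fin_affine_cover (X : Scheme.{u}) [CompactSpace X] :
    ∃ (t : ℕ) (U : Fin t → X.Opens), (∀ i, IsAffineOpen (U i)) ∧ ⨆ i, U i = ⊤ := by
  have hcov : (Set.univ : Set X) ⊆ ⋃ V : X.affineOpens, ((V : X.Opens) : Set X) := by
    intro x _
    obtain ⟨_, ⟨V, hV, rfl⟩, hxV, -⟩ := (X.isBasis_affineOpens).exists_subset_of_mem_open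
      (Set.mem_univ x) isOpen_univ
    exact Set.mem_iUnion.mpr ⟨⟨V, hV⟩, hxV⟩
  obtain ⟨s, hs⟩ := isCompact_univ.elim_finite_subcover
    (fun V : X.affineOpens => ((V : X.Opens) : Set X)) (fun V => (V : X.Opens).2) hcov
  refine ⟨s.card, fun i => ((s.equivFin.symm i : X.affineOpens) : X.Opens),
    fun i => (s.equivFin.symm i : X.affineOpens).2, ?_⟩
  rw [eq_top_iff]
  intro x _
  obtain ⟨V, hV⟩ := Set.mem_iUnion.mp (hs (Set.mem_univ x))
  obtain ⟨hVs, hxV⟩ := Set.mem_iUnion.mp hV
  refine Opens.mem_iSup.mpr ⟨s.equivFin ⟨V, hVs⟩, ?_⟩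
  simpa using hxV

/-- uniform vanishing bound for quasi-coherent cohomology on a quasi-compact scheme separated over an
affine base -/
theorem exists_vanishing_bound {X S : Scheme.{u}} [IsAffine S] (f : X ⟶ S) [IsSeparated f]
    [CompactSpace X] :
    ∃ t : ℕ, ∀ (M : X.Modules), Coh.IsQCoh M → ∀ n : ℕ, t ≤ n → Subsingleton (Coh.HH X M n) := by
  obtain ⟨t, U, hU, hcov⟩ := exists_fin_affine_cover X
  refine ⟨t, fun M hM n hn => ?_⟩
  have : Coh.IsQCoh M := hM
  have hd : ∀ V W : X.Opens, IsAffineOpen V → IsAffineOpen W → IsAffineOpen (V ⊓ W) :=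
    fun V W hV hW => (isAffineHom_diagonal_iff (f := f)).mp inferInstance ⊤ (isAffineOpen_top S)
      V (by simp) W (by simp) hV hW
  exact Groth.Agent.S0010.result X t U hU hcov hd M n hn

theorem compactSpace_of_isProper (A : Type u) [CommRing A] (X : Scheme.{u}) [X.Over (Spec (CommRingCat.of A))]
    [IsProper (X ↘ (Spec (CommRingCat.of A)))] : CompactSpace X :=
  QuasiCompact.compactSpace_of_compactSpace (X ↘ (Spec (CommRingCat.of A)))

section LES

variable (A : Type u) [CommRing A] {X : Scheme.{u}} [X.Over (Spec (CommRingCat.of A))]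
  {S : ShortComplex X.Modules} (hS : S.ShortExact)

include hS in
/-- Additivity of the alternating sum of lengths of cohomology up to degree `N`
(finite length hypotheses explicit). -/
theorem sum_range_len_add
    (fin1 : ∀ i, IsFiniteLength A (Coh.HH X S.X₁ i)) (fin2 : ∀ i, IsFiniteLength A (Coh.HH X S.X₂ i))
    (fin3 : ∀ i, IsFiniteLength A (Coh.HH X S.X₃ i))
    (N : ℕ) (hN : Subsingleton (Coh.HH X S.X₁ (N + 1))) :
    (∑ i ∈ Finset.range (N + 1), (-1 : ℤ) ^ i * (len A (Coh.HH X S.X₂ i) : ℤ)) =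
      (∑ i ∈ Finset.range (N + 1), (-1 : ℤ) ^ i * (len A (Coh.HH X S.X₁ i) : ℤ)) +
      (∑ i ∈ Finset.range (N + 1), (-1 : ℤ) ^ i * (len A (Coh.HH X S.X₃ i) : ℤ)) := by
  refine sum_range_LES (fun i => Coh.HH X S.X₁ i) (fun i => Coh.HH X S.X₂ i)
    (fun i => Coh.HH X S.X₃ i) (fun i => mapₗ A S.f i) (fun i => mapₗ A S.g i)
    (fun i => δₗ A hS i) (map_f_injective_zero hS) (fun i => ?_) (fun i => ?_) (fun i => ?_)
    fin1 fin2 fin3 N hN
  · exact LinearMap.exact_iff.mpr (range_mapₗ_f_eq_ker A hS i).symm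
  · exact LinearMap.exact_iff.mpr (range_mapₗ_g_eq_ker A hS i).symm
  · exact LinearMap.exact_iff.mpr (range_δₗ_eq_ker A hS i).symm

end LES

section Hyp

variable (H : Hyp.{u})

include H in
theorem isFiniteLength_HH (A : Type u) [CommRing A] [IsArtinianRing A] (X : Scheme.{u})
    [X.Over (Spec (CommRingCat.of A))] [IsProper (X ↘ Spec (CommRingCat.of A))]
    (M : X.Modules) (hM : Coh.IsCoh M) (n : ℕ) : IsFiniteLength A (Coh.HH X M n) := by
  have := H A X M hM n
  rw [isFiniteLength_iff_isNoetherian_isArtinian]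
  exact ⟨isNoetherian_of_isNoetherianRing_of_finite A _, inferInstance⟩

omit H in
/-- the Euler characteristic is the finite alternating sum up to any vanishing bound -/
theorem euler_eq_sum_range (k : Type u) [Field k] (X : Scheme.{u}) [X.Over (Spec (CommRingCat.of k))]
    (M : X.Modules) (N : ℕ) (hN : ∀ i, N < i → Subsingleton (Coh.HH X M i)) :
    Curv2.euler k X M = ∑ i ∈ Finset.range (N + 1), (-1 : ℤ) ^ i * (len k (Coh.HH X M i) : ℤ) := by
  unfold Curv2.euler
  rw [← finsum_eq_sum_range (fun i => Coh.HH X M i) N hN]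
  apply finsum_congr
  intro i
  rw [len_eq_finrank]

include H in
/-- **Additivity of the Euler characteristic** on a proper scheme over a field (S1524), assuming the
finiteness theorem `Hyp`. -/
theorem euler_add (k : Type u) [Field k] (X : Scheme.{u}) [X.Over (Spec (CommRingCat.of k))]
    [IsProper (X ↘ (Spec (CommRingCat.of k)))]
    (S : ShortComplex X.Modules) (hS : S.ShortExact)
    (h₁ : Coh.IsCoh S.X₁) (h₂ : Coh.IsCoh S.X₂) (h₃ : Coh.IsCoh S.X₃) :
    Curv2.euler k X S.X₂ = Curv2.euler k X S.X₁ + Curv2.euler k X S.X₃ := by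
  have := compactSpace_of_isProper k X
  obtain ⟨t, ht⟩ := exists_vanishing_bound (X ↘ (Spec (CommRingCat.of k)))
  have hv : ∀ (M : X.Modules), Coh.IsCoh M → ∀ i, t < i → Subsingleton (Coh.HH X M i) :=
    fun M hM i hi => ht M hM.1 i hi.le
  rw [euler_eq_sum_range k X S.X₁ t (hv _ h₁), euler_eq_sum_range k X S.X₂ t (hv _ h₂),
    euler_eq_sum_range k X S.X₃ t (hv _ h₃)]
  exact sum_range_len_add k hS (fun i => isFiniteLength_HH H k X _ h₁ i)
    (fun i => isFiniteLength_HH H k X _ h₂ i) (fun i => isFiniteLength_HH H k X _ h₃ i) t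
    (hv _ h₁ (t + 1) (by lia))


include H in
/-- S2420 form: alternating sums of lengths over an Artinian base ring. -/
theorem sum_range_length_add (A : Type u) [CommRing A] [IsArtinianRing A]
    (X : Scheme.{u}) [X.Over (Spec (CommRingCat.of A))] [IsProper (X ↘ Spec (CommRingCat.of A))]
    (S : ShortComplex X.Modules) (hS : S.ShortExact) (h1 : Coh.IsCoh S.X₁) (h2 : Coh.IsCoh S.X₂)
    (h3 : Coh.IsCoh S.X₃) (N : ℕ) (hN : Subsingleton (Coh.HH X S.X₁ (N + 1))) :
    ((Finset.range (N + 1)).sum fun i => (-1 : ℤ) ^ i * ((Module.length A (Coh.HH X S.X₂ i)).toNat : ℤ)) =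
      ((Finset.range (N + 1)).sum fun i => (-1 : ℤ) ^ i * ((Module.length A (Coh.HH X S.X₁ i)).toNat : ℤ)) +
      ((Finset.range (N + 1)).sum fun i => (-1 : ℤ) ^ i * ((Module.length A (Coh.HH X S.X₃ i)).toNat : ℤ)) :=
  sum_range_len_add A hS (fun i => isFiniteLength_HH H A X _ h1 i)
    (fun i => isFiniteLength_HH H A X _ h2 i) (fun i => isFiniteLength_HH H A X _ h3 i) N hN

omit H in
/-- if the higher cohomology vanishes, the Euler characteristic is `dim H^0` -/
theorem euler_eq_finrank_zero (k : Type u) [Field k] (X : Scheme.{u}) [X.Over (Spec (CommRingCat.of k))]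
    (M : X.Modules) (hM : ∀ i, 0 < i → Subsingleton (Coh.HH X M i)) :
    Curv2.euler k X M = Module.finrank k (Coh.HH X M 0) := by
  rw [euler_eq_sum_range k X M 0 hM]
  simp [len_eq_finrank]

end Hyp

end Groth.Agent.Lib.EulerChar54
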