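import Groth.Agent.Lib.OXModTensor
import Groth.Agent.Lib.CohLESLinear
import Groth.Prelude.Def_FGA

/-!
# The commutative monoid of isomorphism classes of `O_X`-modules under `⊗` (helper13, K3.N)

* `Cls X`: isomorphism classes of `X.Modules`, a `CommMonoid` under `CohB1.tensorMod` with unit `O_X`;
  `cls M`, `cls_eq_iff`, `cls_tensorMod`, `cls_tensorPow`, `cls_tensorList`, `cls_multiTwist`.
* `chi k d : Cls X → ℤ`: `FGA.eulerCharLE` on isomorphism classes (`chi_cls`), `eulerCharLE_congr`.
* `intNum_eq`: `FGA.intNum` as an alternating sum of `chi` of products of classes.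
-/

set_option autoImplicit false
universe u
open CategoryTheory AlgebraicGeometry

namespace Groth.Agent.Lib.IsoCls13

open Groth.Agent.Lib.OXModTensor CohB1

variable {X : Scheme.{u}}

/-- Isomorphism classes of `O_X`-modules. -/
def Cls (X : Scheme.{u}) : Type (u + 1) := Quotient (isIsomorphicSetoid X.Modules)

/-- The class of a module. -/
def cls (M : X.Modules) : Cls X := Quotient.mk _ M

theorem cls_eq_iff {M N : X.Modules} : cls M = cls N ↔ Nonempty (M ≅ N) :=
  Quotient.eq (r := isIsomorphicSetoid X.Modules)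

theorem cls_eq_of_iso {M N : X.Modules} (e : M ≅ N) : cls M = cls N := cls_eq_iff.2 ⟨e⟩

noncomputable instance : CommMonoid (Cls X) where
  mul := Quotient.map₂ tensorMod (fun _ _ e _ _ e' => ⟨tensorModIso e.some e'.some⟩)
  one := cls (Coh.structureModule X)
  mul_assoc := by
    rintro ⟨M⟩ ⟨N⟩ ⟨K⟩
    exact cls_eq_of_iso (associator M N K)
  one_mul := by
    rintro ⟨M⟩
    exact cls_eq_of_iso (leftUnitor M)
  mul_one := by
    rintro ⟨M⟩
    exact cls_eq_of_iso (rightUnitor M)
  mul_comm := by
    rintro ⟨M⟩ ⟨N⟩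
    exact cls_eq_of_iso (braiding M N)

theorem cls_tensorMod (M N : X.Modules) : cls (tensorMod M N) = cls M * cls N := rfl

theorem cls_one : cls (Coh.structureModule X) = 1 := rfl

theorem cls_tensorPow (L : X.Modules) (n : ℕ) : cls (tensorPow L n) = cls L ^ n := by
  induction n with
  | zero => rw [pow_zero]; rfl
  | succ n ih =>
    change cls (tensorMod (tensorPow L n) L) = _
    rw [cls_tensorMod, ih, pow_succ]

theorem cls_tensorList (l : List X.Modules) : cls (FGA.tensorList l) = (l.map cls).prod := by
  induction l with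
  | nil => rfl
  | cons M l ih =>
    change cls (tensorMod M (FGA.tensorList l)) = _
    rw [cls_tensorMod, ih, List.map_cons, List.prod_cons]

theorem cls_multiTwist {n : ℕ} (L : Fin n → X.Modules) (m : Fin n → ℕ) :
    cls (FGA.multiTwist L m) = ∏ i, cls (L i) ^ m i := by
  unfold FGA.multiTwist
  rw [cls_tensorList, List.map_map, Fin.prod_univ_def]
  congr 1
  apply List.map_congr_left
  intro i _
  exact cls_tensorPow (L i) (m i)

section Euler

variable (k : Type u) [Field k] [X.Over (Spec (CommRingCat.of k))]

theorem eulerCharLE_congr {F G : X.Modules} (e : F ≅ G) (d : ℕ) :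
    FGA.eulerCharLE k X F d = FGA.eulerCharLE k X G d := by
  unfold FGA.eulerCharLE
  apply Finset.sum_congr rfl
  intro i _
  rw [(Groth.Agent.Lib.CohLES.mapEquivₗ k e i).finrank_eq]

/-- The Euler characteristic on isomorphism classes. -/
noncomputable def chi (d : ℕ) : Cls X → ℤ :=
  Quotient.lift (fun F => FGA.eulerCharLE k X F d) (fun _ _ e => eulerCharLE_congr k e.some d)

theorem chi_cls (d : ℕ) (F : X.Modules) : chi k d (cls F) = FGA.eulerCharLE k X F d := rfl

/-- `FGA.intNum` as an alternating sum over subsets, in the monoid of classes. -/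
theorem intNum_eq (d : ℕ) {r : ℕ} (M : Fin r → X.Modules) (F : X.Modules) :
    FGA.intNum k X d M F =
      ∑ I : Finset (Fin r), (-1 : ℤ) ^ I.card * chi k d ((∏ i ∈ I, cls (M i)) * cls F) := by
  unfold FGA.intNum
  apply Finset.sum_congr rfl
  intro I _
  congr 1
  rw [← chi_cls, cls_tensorMod, cls_tensorList, List.map_map]
  congr 2
  have hperm : (I.sort (· ≤ ·)).Perm I.toList := Finset.sort_perm_toList _ _
  rw [(hperm.map (cls ∘ M)).prod_eq]
  exact Finset.prod_map_toList I (fun i => cls (M i))

end Euler

end Groth.Agent.Lib.IsoCls13
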