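import Groth.Prelude.Def_FGA
import Groth.Agent.Lib.EulerChar54
import Groth.Agent.Lib.TwistEquiv
import Groth.Agent.Lib.IsoCls13
import Groth.Agent.Lib.H78Dual
import Groth.Agent.Lib.H78TensorGen
import Groth.Agent.Lib.CohFinAmple
import Groth.Agent.Lib.H90Invertible
import Mathlib.AlgebraicGeometry.Noetherian
import Mathlib.AlgebraicGeometry.Morphisms.FiniteType

/-!
# K3.X: API for `FGA.eulerCharLE` (helper48)

Hypothesis form: `H : ProperFinHyp.Hyp` (finiteness of coherent cohomology, = S0002) and `V : VanHyp`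
(Grothendieck vanishing above the dimension, K3.V).

* `VanHyp` : Grothendieck vanishing on Noetherian schemes, as a hypothesis.
* `isNoetherian k X` : a proper `k`-scheme is Noetherian.
* `eulerCharLE_eq_euler V` : `FGA.eulerCharLE k X F d = Curv2.euler k X F` when `dim X ≤ d`.
* `eulerCharLE_add H V` : additivity on short exact sequences of coherent modules.
* `isInvertible_tensorList`, `isInvertible_multiTwist`.
* `eulerCharLE_tensorLeft_add H V` : additivity of `G ↦ χ(T ⊗ G)`, `T` invertible.
* `Q k X d L G m := χ(multiTwist L m ⊗ G)` with `Q_congr` (Q1), `Q_add H V` (Q2), `Q_tensor_single` (Q3): the three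
  inputs of helper90's abstract Snapper theorem.
-/

set_option autoImplicit false
universe u
open CategoryTheory CategoryTheory.Limits AlgebraicGeometry

namespace Groth.Agent.Lib.EulerLE48

open Groth.Agent.Lib

/-- **Grothendieck vanishing** (K3.V) as a hypothesis: on a Noetherian scheme of dimension `≤ d` the cohomology of
every `O_X`-module vanishes in degrees `> d`. -/
def VanHyp : Prop :=
  ∀ (X : Scheme.{u}) [IsNoetherian X] (d : ℕ), topologicalKrullDim X ≤ d →
    ∀ (F : X.Modules) (p : ℕ), d < p → Subsingleton (Coh.HH X F p)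

section Proper

theorem isLocallyNoetherian (k : Type u) [Field k] (X : Scheme.{u}) [X.Over (Spec (CommRingCat.of k))]
    [IsProper (X ↘ Spec (CommRingCat.of k))] : IsLocallyNoetherian X :=
  LocallyOfFiniteType.isLocallyNoetherian (X ↘ Spec (CommRingCat.of k))

/-- A proper scheme over a field is Noetherian. -/
theorem isNoetherian (k : Type u) [Field k] (X : Scheme.{u}) [X.Over (Spec (CommRingCat.of k))]
    [IsProper (X ↘ Spec (CommRingCat.of k))] : IsNoetherian X :=
  @AlgebraicGeometry.IsNoetherian.mk X (isLocallyNoetherian k X) (EulerChar54.compactSpace_of_isProper k X)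

variable (k : Type u) [Field k] (X : Scheme.{u}) [X.Over (Spec (CommRingCat.of k))]
  [IsProper (X ↘ Spec (CommRingCat.of k))]

variable (H : ProperFinHyp.Hyp.{u}) (V : VanHyp.{u})

include V in
/-- The truncated alternating sum is the Euler characteristic when `dim X ≤ d`. -/
theorem eulerCharLE_eq_euler (d : ℕ) (hd : topologicalKrullDim X ≤ d) (F : X.Modules) :
    FGA.eulerCharLE k X F d = Curv2.euler k X F := by
  have := isNoetherian k X
  rw [EulerChar54.euler_eq_sum_range k X F d (fun i hi => V X d hd F i hi)]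
  unfold FGA.eulerCharLE
  refine Finset.sum_congr rfl fun i _ => ?_
  rw [EulerNat54.len_eq_finrank]

include H V in
/-- **Additivity** of `FGA.eulerCharLE` on short exact sequences of coherent modules. -/
theorem eulerCharLE_add (d : ℕ) (hd : topologicalKrullDim X ≤ d) (S : ShortComplex X.Modules)
    (hS : S.ShortExact) (h₁ : Coh.IsCoh S.X₁) (h₂ : Coh.IsCoh S.X₂) (h₃ : Coh.IsCoh S.X₃) :
    FGA.eulerCharLE k X S.X₂ d = FGA.eulerCharLE k X S.X₁ d + FGA.eulerCharLE k X S.X₃ d := by
  rw [eulerCharLE_eq_euler k X V d hd, eulerCharLE_eq_euler k X V d hd,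
    eulerCharLE_eq_euler k X V d hd]
  exact EulerChar54.euler_add H k X S hS h₁ h₂ h₃

end Proper

section Invertible

variable {X : Scheme.{u}}

theorem isInvertible_tensorList (l : List X.Modules) (h : ∀ M ∈ l, PicF.IsInvertible M) :
    PicF.IsInvertible (FGA.tensorList l) := by
  induction l with
  | nil => exact H90Invertible.isInvertible_structureModule X
  | cons M l ih =>
    change PicF.IsInvertible (CohB1.tensorMod M (FGA.tensorList l))
    exact H78TensorGen.isInvertible_tensorMod (h M (List.mem_cons_self ..))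
      (ih fun N hN => h N (List.mem_cons_of_mem _ hN))

theorem isInvertible_multiTwist {n : ℕ} (L : Fin n → X.Modules) (hL : ∀ i, PicF.IsInvertible (L i))
    (m : Fin n → ℕ) : PicF.IsInvertible (FGA.multiTwist L m) := by
  unfold FGA.multiTwist
  refine isInvertible_tensorList _ fun M hM => ?_
  obtain ⟨i, _, rfl⟩ := List.mem_map.mp hM
  exact H78TensorGen.isInvertible_tensorPow (hL i) (m i)

end Invertible

section Twist

variable (k : Type u) [Field k] (X : Scheme.{u}) [X.Over (Spec (CommRingCat.of k))]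
  [IsProper (X ↘ Spec (CommRingCat.of k))]
variable (H : ProperFinHyp.Hyp.{u}) (V : VanHyp.{u})

include H V in
/-- Additivity of `G ↦ χ(T ⊗ G)` for `T` invertible. -/
theorem eulerCharLE_tensorLeft_add (d : ℕ) (hd : topologicalKrullDim X ≤ d) (T : X.Modules)
    (hT : PicF.IsInvertible T) (S : ShortComplex X.Modules)
    (hS : S.ShortExact) (h₁ : Coh.IsCoh S.X₁) (h₂ : Coh.IsCoh S.X₂) (h₃ : Coh.IsCoh S.X₃) :
    FGA.eulerCharLE k X (CohB1.tensorMod T S.X₂) d =
      FGA.eulerCharLE k X (CohB1.tensorMod T S.X₁) d +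
        FGA.eulerCharLE k X (CohB1.tensorMod T S.X₃) d := by
  have := isLocallyNoetherian k X
  obtain ⟨T', _, ⟨e⟩⟩ := H78Dual.exists_tensor_inverse hT
  have e' : CohB1.tensorMod T T' ≅ Coh.structureModule X := OXModTensor.braiding _ _ ≪≫ e
  have hS' := TwistEquiv.shortExact_map_tensorLeft e' hS
  have hTc : Coh.IsCoh T := H90Invertible.isCoh_of_isInvertible hT
  have c₁ : Coh.IsCoh (CohB1.tensorMod T S.X₁) := CohFinAmple.isCoh_tensorMod hTc h₁
  have c₂ : Coh.IsCoh (CohB1.tensorMod T S.X₂) := CohFinAmple.isCoh_tensorMod hTc h₂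
  have c₃ : Coh.IsCoh (CohB1.tensorMod T S.X₃) := CohFinAmple.isCoh_tensorMod hTc h₃
  exact eulerCharLE_add k X H V d hd (S.map (OXModTensor.tensorLeftFunctor T)) hS' c₁ c₂ c₃

end Twist

section Snapper

variable (k : Type u) [Field k] (X : Scheme.{u}) [X.Over (Spec (CommRingCat.of k))]

/-- The Snapper function `m ↦ χ(L^m ⊗ G)`. -/
noncomputable def Q (d : ℕ) {n : ℕ} (L : Fin n → X.Modules) (G : X.Modules) (m : Fin n → ℕ) : ℤ :=
  FGA.eulerCharLE k X (CohB1.tensorMod (FGA.multiTwist L m) G) d

/-- (Q1) invariance under isomorphisms. -/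
theorem Q_congr (d : ℕ) {n : ℕ} (L : Fin n → X.Modules) {G G' : X.Modules} (e : Nonempty (G ≅ G')) :
    Q k X d L G = Q k X d L G' := by
  funext m
  unfold Q
  rw [← IsoCls13.chi_cls, ← IsoCls13.chi_cls, IsoCls13.cls_tensorMod, IsoCls13.cls_tensorMod,
    IsoCls13.cls_eq_iff.2 e]

/-- (Q3) twisting `G` by `L j` shifts the exponent. -/
theorem Q_tensor_single (d : ℕ) {n : ℕ} (L : Fin n → X.Modules) (j : Fin n) (G : X.Modules)
    (m : Fin n → ℕ) :
    Q k X d L (CohB1.tensorMod G (L j)) m = Q k X d L G (m + Pi.single j 1) := by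
  unfold Q
  rw [← IsoCls13.chi_cls, ← IsoCls13.chi_cls, IsoCls13.cls_tensorMod, IsoCls13.cls_tensorMod,
    IsoCls13.cls_tensorMod, IsoCls13.cls_multiTwist, IsoCls13.cls_multiTwist]
  congr 1
  have h : ∏ i, IsoCls13.cls (L i) ^ (m + Pi.single j 1 : Fin n → ℕ) i =
      (∏ i, IsoCls13.cls (L i) ^ m i) * IsoCls13.cls (L j) := by
    simp only [Pi.add_apply, pow_add, Finset.prod_mul_distrib]
    congr 1
    rw [Finset.prod_eq_single j]
    · rw [Pi.single_eq_same, pow_one]
    · intro i _ hi
      rw [Pi.single_eq_of_ne hi, pow_zero]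
    · intro hj
      exact absurd (Finset.mem_univ j) hj
  rw [h, mul_assoc, mul_comm (IsoCls13.cls G)]

variable [IsProper (X ↘ Spec (CommRingCat.of k))] (H : ProperFinHyp.Hyp.{u}) (V : VanHyp.{u})

include H V in
/-- (Q2) additivity on short exact sequences of coherent modules. -/
theorem Q_add (d : ℕ) (hd : topologicalKrullDim X ≤ d) {n : ℕ} (L : Fin n → X.Modules)
    (hL : ∀ i, PicF.IsInvertible (L i)) (S : ShortComplex X.Modules)
    (hS : S.ShortExact) (h₁ : Coh.IsCoh S.X₁) (h₂ : Coh.IsCoh S.X₂) (h₃ : Coh.IsCoh S.X₃)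
    (m : Fin n → ℕ) :
    Q k X d L S.X₂ m = Q k X d L S.X₁ m + Q k X d L S.X₃ m :=
  eulerCharLE_tensorLeft_add k X H V d hd _ (isInvertible_multiTwist L hL m) S hS h₁ h₂ h₃

end Snapper

end Groth.Agent.Lib.EulerLE48
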