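/-
helper90: the centre of the category of coherent modules on a Noetherian scheme is the ring of global functions.
-/
import Mathlib
import Groth.Agent.Lib.H90DevHub2

set_option autoImplicit false
universe u

open CategoryTheory CategoryTheory.Limits AlgebraicGeometry TopologicalSpace Opposite

namespace Groth.Agent.Lib.H90CohCenter

open Groth.Agent.Lib.QCohStalk Groth.Agent.Lib.AssPush Groth.Agent.Lib.H90OXModQcqs
  Groth.Agent.Lib.H90OXModSections Groth.Agent.Lib.H90OXModExt Groth.Agent.Lib.H90SubSh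
  Groth.Agent.Lib.H90DevSub Groth.Agent.Lib.H90DevAtom Groth.Agent.Lib.H90DevHub2
  Groth.Agent.Lib.StructureModule

variable {X : Scheme.{u}}

/-- the category of coherent modules -/
abbrev CohCat (X : Scheme.{u}) : Type _ :=
  ObjectProperty.FullSubcategory (fun M : X.Modules => Coh.IsCoh M)

set_option backward.isDefEq.respectTransparency false in
theorem isCoh_biprod {A B : X.Modules} (hA : Coh.IsCoh A) (hB : Coh.IsCoh B) :
    Coh.IsCoh (A ⊞ B) := by
  haveI := hA.1
  haveI := hB.1
  rw [Groth.Agent.Lib.H90OXModAffineFT.isCoh_iff_forall_affine]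
  refine ⟨Groth.Agent.Lib.H90QCohLimits.isQuasicoherent_biprod A B, fun U => ?_⟩
  haveI : Module.Finite Γ(X, U.1) Γ(A, U.1) :=
    Groth.Agent.Lib.CohFinite.finite_sections_of_isCoh A hA U.2
  haveI : Module.Finite Γ(X, U.1) Γ(B, U.1) :=
    Groth.Agent.Lib.CohFinite.finite_sections_of_isCoh B hB U.2
  let f : (Γ(A, U.1) × Γ(B, U.1)) →ₗ[Γ(X, U.1)] Γ(A ⊞ B, U.1) :=
    (appLin (biprod.inl : A ⟶ A ⊞ B) U.1).coprod (appLin (biprod.inr : B ⟶ A ⊞ B) U.1)
  refine Module.Finite.of_surjective f fun x => ?_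
  refine ⟨((biprod.fst : A ⊞ B ⟶ A).app U.1 x, (biprod.snd : A ⊞ B ⟶ B).app U.1 x), ?_⟩
  rw [LinearMap.coprod_apply]
  exact (biprod_decomp A B U.1 x).symm

section

variable (φ : 𝟭 (CohCat X) ⟶ 𝟭 (CohCat X))

/-- the component of `φ` at `M`, as an endomorphism of the underlying module -/
noncomputable def cmp (M : CohCat X) : M.obj ⟶ M.obj := (φ.app M).hom

theorem nat_hom {A B : CohCat X} (f : A.obj ⟶ B.obj) :
    f ≫ cmp φ B = cmp φ A ≫ f := by
  have h := φ.naturality (ObjectProperty.homMk f)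
  have h2 := congrArg (fun g => g.hom) h
  have h3 : f ≫ (φ.app B).hom = (φ.app A).hom ≫ f := by simpa using h2
  exact h3

theorem nat_hom_app {A B : CohCat X} (f : A.obj ⟶ B.obj) (V : X.Opens) (s : Γ(A.obj, V)) :
    (cmp φ B).app V (f.app V s) = f.app V ((cmp φ A).app V s) := by
  have h := congrArg (fun χ => (Scheme.Modules.Hom.app χ V) s) (nat_hom φ f)
  simp only [Scheme.Modules.Hom.comp_app] at h
  exact h

/-- the structure sheaf as a coherent module -/
noncomputable abbrev Oc (X : Scheme.{u}) : CohCat X :=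
  ⟨Coh.structureModule X, isCoh_structureModule X⟩

/-- the global function attached to a natural endomorphism of the identity -/
noncomputable def rOf : Γ(X, ⊤) := (cmp φ (Oc X)).app ⊤ (toSec ⊤ 1)

theorem app_one (U : X.Opens) :
    (cmp φ (Oc X)).app U (toSec U 1) = toSec U (resO X (le_top : U ≤ ⊤) (rOf φ)) := by
  have h1 : toSec U (1 : Γ(X, U)) = res (Coh.structureModule X) (le_top : U ≤ ⊤) (toSec ⊤ 1) :=
    (map_one (X.presheaf.map (homOfLE (le_top : U ≤ ⊤)).op).hom).symm
  rw [h1, app_res]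
  rfl

set_option backward.isDefEq.respectTransparency false in
/-- on an affine open, a natural endomorphism of the identity acts on sections by its global function -/
theorem app_eq_smul_of_isAffineOpen [AlgebraicGeometry.IsNoetherian X] (M : CohCat X)
    {U : X.Opens} (hU : IsAffineOpen U) (m : Γ(M.obj, U)) :
    (cmp φ M).app U m = resO X (le_top : U ≤ ⊤) (rOf φ) • m := by
  have hFFc : Coh.IsCoh (Coh.structureModule X ⊞ M.obj) :=
    isCoh_biprod (isCoh_structureModule X) M.property
  haveI : (Coh.structureModule X ⊞ M.obj).IsQuasicoherent := hFFc.1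
  let e : Γ(Coh.structureModule X ⊞ M.obj, U) :=
    (biprod.inl : Coh.structureModule X ⟶ Coh.structureModule X ⊞ M.obj).app U (toSec U 1) +
      (biprod.inr : M.obj ⟶ Coh.structureModule X ⊞ M.obj).app U m
  let Gr : SubSh (Coh.structureModule X ⊞ M.obj) := SubSh.gen (Submodule.span Γ(X, U) {e})
  have hqc : QC Gr := qc_gen hU _
  have hGc : Coh.IsCoh Gr.toModules := isCoh_toModules_of_qc hFFc hqc
  let Gc : CohCat X := ⟨Gr.toModules, hGc⟩
  let p : Gr.toModules ⟶ Coh.structureModule X := Gr.ι ≫ biprod.fst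
  let q : Gr.toModules ⟶ M.obj := Gr.ι ≫ biprod.snd
  obtain ⟨g₀, hg₀⟩ := (Gr.mem_range_ι U e).mpr
    (SubSh.le_gen _ (Submodule.mem_span_singleton_self _))
  have hpg : p.app U g₀ = toSec U 1 := by
    change (biprod.fst : Coh.structureModule X ⊞ M.obj ⟶ _).app U (Gr.ι.app U g₀) = _
    rw [hg₀]
    exact fst_mk _ _ U _ _
  have hqg : q.app U g₀ = m := by
    change (biprod.snd : Coh.structureModule X ⊞ M.obj ⟶ _).app U (Gr.ι.app U g₀) = _
    rw [hg₀]
    exact snd_mk _ _ U _ _
  set y := (cmp φ Gc).app U g₀ with hy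
  have hyG : Gr.ι.app U y ∈ Gr.obj U := (Gr.mem_range_ι U _).mp ⟨y, rfl⟩
  have hp : (biprod.fst : Coh.structureModule X ⊞ M.obj ⟶ _).app U (Gr.ι.app U y) =
      toSec U (resO X (le_top : U ≤ ⊤) (rOf φ)) := by
    have h := nat_hom_app φ (A := Gc) (B := Oc X) p U g₀
    rw [hpg, app_one] at h
    exact h.symm
  have hq : (biprod.snd : Coh.structureModule X ⊞ M.obj ⟶ _).app U (Gr.ι.app U y) =
      (cmp φ M).app U m := by
    have h := nat_hom_app φ (A := Gc) (B := M) q U g₀
    rw [hqg] at h
    exact h.symm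
  -- local structure of sections of the graph
  have hloc : ∀ x : U, ∃ (D : X.Opens) (_ : IsAffineOpen D) (hDV : D ≤ U) (hDU : D ≤ U), x.1 ∈ D ∧
      ∃ a : Γ(X, D), res (Coh.structureModule X ⊞ M.obj) hDV (Gr.ι.app U y) =
        a • res (Coh.structureModule X ⊞ M.obj) hDU e :=
    fun x => exists_local_smul_of_mem_gen e hyG ⟨x.2, x.2⟩
  choose D hD hDV hDU hxD a ha using hloc
  refine res_ext M.obj U D hDV (fun x hx => Opens.mem_iSup.mpr ⟨⟨x, hx⟩, hxD ⟨x, hx⟩⟩) _ _
    fun x => ?_
  -- first component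
  have h1 : res (Coh.structureModule X) (hDV x) (toSec U (resO X (le_top : U ≤ ⊤) (rOf φ))) =
      a x • res (Coh.structureModule X) (hDU x) (toSec U 1) := by
    rw [← hp, ← app_res, ha x]
    have h3 : (biprod.fst : Coh.structureModule X ⊞ M.obj ⟶ _).app (D x)
        (a x • res (Coh.structureModule X ⊞ M.obj) (hDU x) e) =
        a x • (biprod.fst : Coh.structureModule X ⊞ M.obj ⟶ _).app (D x)
          (res (Coh.structureModule X ⊞ M.obj) (hDU x) e) :=
      (appLin (biprod.fst : Coh.structureModule X ⊞ M.obj ⟶ _) (D x)).map_smul (a x) _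
    rw [h3, app_res]
    congr 2
    exact fst_mk _ _ U _ _
  have h1' : resO X (hDV x) (resO X (le_top : U ≤ ⊤) (rOf φ)) = a x := by
    have h4 : res (Coh.structureModule X) (hDU x) (toSec U 1) = toSec (D x) 1 :=
      map_one (X.presheaf.map (homOfLE (hDU x)).op).hom
    rw [h4, ← toSec_eq_smul_one] at h1
    exact h1
  -- second component
  have h2 : res M.obj (hDV x) ((cmp φ M).app U m) = a x • res M.obj (hDU x) m := by
    rw [← hq, ← app_res, ha x]
    have h3 : (biprod.snd : Coh.structureModule X ⊞ M.obj ⟶ _).app (D x)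
        (a x • res (Coh.structureModule X ⊞ M.obj) (hDU x) e) =
        a x • (biprod.snd : Coh.structureModule X ⊞ M.obj ⟶ _).app (D x)
          (res (Coh.structureModule X ⊞ M.obj) (hDU x) e) :=
      (appLin (biprod.snd : Coh.structureModule X ⊞ M.obj ⟶ _) (D x)).map_smul (a x) _
    rw [h3, app_res]
    congr 2
    exact snd_mk _ _ U _ _
  rw [h2, res_smul, h1']

set_option backward.isDefEq.respectTransparency false in
/-- a natural endomorphism of the identity of `Coh(X)` acts on sections by its global function -/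
theorem app_eq_smul [AlgebraicGeometry.IsNoetherian X] (M : CohCat X) (V : X.Opens)
    (m : Γ(M.obj, V)) : (cmp φ M).app V m = resO X (le_top : V ≤ ⊤) (rOf φ) • m := by
  have hbas : ∀ x : V, ∃ D : X.Opens, IsAffineOpen D ∧ x.1 ∈ D ∧ D ≤ V :=
    fun x => Opens.isBasis_iff_nbhd.mp X.isBasis_affineOpens (U := V) (x := x.1) x.2
  choose D hDaff hxD hDle using hbas
  refine res_ext M.obj V D hDle (fun x hx => Opens.mem_iSup.mpr ⟨⟨x, hx⟩, hxD ⟨x, hx⟩⟩) _ _
    fun x => ?_
  rw [← app_res, app_eq_smul_of_isAffineOpen φ M (hDaff x), res_smul, resO_resO]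

set_option backward.isDefEq.respectTransparency false in
theorem toSheaf_map_eq [AlgebraicGeometry.IsNoetherian X] (M : CohCat X) :
    (SheafOfModules.toSheaf X.ringCatSheaf).map (φ.app M).hom = Coh.smulAb M.obj (rOf φ) := by
  ext U m
  exact app_eq_smul φ M U.unop m

set_option backward.isDefEq.respectTransparency false in
theorem eq_rOf (r' : Coh.Γtop X)
    (h : (SheafOfModules.toSheaf X.ringCatSheaf).map (φ.app (Oc X)).hom =
      Coh.smulAb (Oc X).obj r') : r' = rOf φ := by
  have h2 := congrArg (fun g => g.hom.app (Opposite.op ⊤) (toSec (X := X) ⊤ 1)) h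
  have h3 : Coh.resTop X (Opposite.op ⊤) r' = r' := by
    change (X.ringCatSheaf.obj.map (𝟙 _)).hom r' = r'
    rw [CategoryTheory.Functor.map_id]
    rfl
  have h4 : (Coh.smulAb (Oc X).obj r').hom.app (Opposite.op ⊤) (toSec (X := X) ⊤ 1) = r' := by
    change Coh.resTop X (Opposite.op ⊤) r' * 1 = r'
    rw [h3, mul_one]
  exact h4.symm.trans h2.symm

end

end Groth.Agent.Lib.H90CohCenter
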