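import Groth.Agent.Lib.H90SubShZorn
import Groth.Agent.Lib.H90OXModPushFinite
import Groth.Agent.Lib.RestrictExact
import Groth.Agent.Lib.CohFinite

/-!
# Extension of finite type quasi-coherent submodules (EGA I 9.4.7, Stacks 01PD–01PF) (helper90)
-/

set_option autoImplicit false
universe u v

open CategoryTheory CategoryTheory.Limits AlgebraicGeometry TopologicalSpace Opposite
open AlgebraicGeometry.Scheme AlgebraicGeometry.Scheme.Modules

namespace Groth.Agent.Lib.H90QCohExt

open Groth.Agent.Lib.QCohStalk Groth.Agent.Lib.AssPush Groth.Agent.Lib.H90OXModQcqs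
  Groth.Agent.Lib.H90OXModSections Groth.Agent.Lib.H90OXModExt Groth.Agent.Lib.H90SubSh

variable {X : Scheme.{u}}

lemma res_surjective_of_eq (F : X.Modules) {V U : X.Opens} (h : V = U) :
    Function.Surjective (res F h.le) := by
  subst h
  intro a
  exact ⟨a, res_self F a⟩

/-- The preimage of an elementary sub-module under a morphism. -/
noncomputable def comap {F F' : X.Modules} (φ : F ⟶ F') (T : SubSh F') : SubSh F where
  obj V := (T.obj V).comap (appLin φ V)
  res_mem := fun {V' V} h {s} hs => by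
    change appLin φ V' (res F h s) ∈ T.obj V'
    rw [appLin_res]
    exact T.res_mem h hs
  mem_of_local := fun V s hs => by
    change appLin φ V s ∈ T.obj V
    apply T.mem_of_local
    intro x hx
    obtain ⟨V', h, hx', hs'⟩ := hs x hx
    refine ⟨V', h, hx', ?_⟩
    rw [← appLin_res]
    exact hs'

theorem mem_comap_iff {F F' : X.Modules} (φ : F ⟶ F') (T : SubSh F') (V : X.Opens) (s : Γ(F, V)) :
    s ∈ (comap φ T).obj V ↔ φ.app V s ∈ T.obj V := Iff.rfl

set_option backward.isDefEq.respectTransparency false in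
/-- Two monomorphisms into `F` with the same sections are isomorphic over `F`. -/
theorem exists_iso_of_ofMono_eq {F G₁ G₂ : X.Modules} (i₁ : G₁ ⟶ F) (i₂ : G₂ ⟶ F) [Mono i₁]
    [Mono i₂] (h : SubSh.ofMono i₁ = SubSh.ofMono i₂) : ∃ e : G₁ ≅ G₂, e.hom ≫ i₂ = i₁ := by
  have key : ∀ {A B : X.Modules} (a : A ⟶ F) (b : B ⟶ F) [Mono a] [Mono b],
      SubSh.ofMono a = SubSh.ofMono b → a ≫ cokernel.π b = 0 := by
    intro A B a b _ _ hab
    ext V s
    have hs : a.app V s ∈ (SubSh.ofMono a).obj V := ⟨s, rfl⟩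
    rw [hab] at hs
    obtain ⟨t, ht⟩ := hs
    change (cokernel.π b).app V (a.app V s) = 0
    have ht' : b.app V t = a.app V s := ht
    rw [← ht']
    change (b ≫ cokernel.π b).app V t = 0
    rw [cokernel.condition]
    rfl
  let k₁ := Abelian.monoLift i₂ i₁ (key i₁ i₂ h)
  let k₂ := Abelian.monoLift i₁ i₂ (key i₂ i₁ h.symm)
  have h1 : k₁ ≫ i₂ = i₁ := Abelian.monoLift_comp _ _ _
  have h2 : k₂ ≫ i₁ = i₂ := Abelian.monoLift_comp _ _ _
  refine ⟨⟨k₁, k₂, ?_, ?_⟩, h1⟩
  · rw [← cancel_mono i₁, Category.assoc, h2, h1, Category.id_comp]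
  · rw [← cancel_mono i₂, Category.assoc, h1, h2, Category.id_comp]

/-- Restriction maps of a pushforward along `U.ι` between opens with the same trace on `U` are
bijective. -/
theorem bijective_res_pushforward (U : X.Opens) (Q : (↑U : Scheme.{u}).Modules) {V' V : X.Opens}
    (h : V' ≤ V) (hU : V ⊓ U ≤ V') :
    Function.Bijective (res ((Scheme.Modules.pushforward U.ι).obj Q) h) := by
  have e : U.ι ⁻¹ᵁ V' = U.ι ⁻¹ᵁ V := by
    apply le_antisymm (Scheme.Hom.preimage_mono _ h)
    intro x hx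
    exact hU ⟨hx, x.2⟩
  exact ⟨res_injective_of_eq Q e, res_surjective_of_eq Q e⟩

variable (U : X.Opens) (F : X.Modules) {G : (↑U : Scheme.{u}).Modules}
  (i : G ⟶ F.restrict U.ι) [Mono i]

/-- The unit `F ⟶ j_* j^* F`. -/
noncomputable abbrev unitF : F ⟶ (Scheme.Modules.pushforward U.ι).obj (F.restrict U.ι) :=
  (Scheme.Modules.restrictAdjunction U.ι).unit.app F

instance : Mono ((Scheme.Modules.pushforward U.ι).map i) := inferInstance

/-- The canonical extension of the submodule `G ⊆ F|_U`: sections of `F` whose restriction to `U` lies in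
`G`. -/
noncomputable def T₀ : SubSh F :=
  comap (unitF U F) (SubSh.ofMono ((Scheme.Modules.pushforward U.ι).map i))

theorem unitF_app (V : X.Opens) (s : Γ(F, V)) :
    (unitF U F).app V s = res F (U.ι.image_preimage_le V) s := rfl

set_option backward.isDefEq.respectTransparency false in
theorem sat_T₀ : (T₀ U F i).sat U = T₀ U F i := by
  ext V s
  rw [SubSh.mem_sat_iff]
  change (unitF U F).app _ (res F _ s) ∈ (SubSh.ofMono _).obj (V ⊓ U) ↔
    (unitF U F).app V s ∈ (SubSh.ofMono _).obj V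
  rw [app_res]
  constructor
  · rintro ⟨g', hg'⟩
    obtain ⟨g, rfl⟩ := (bijective_res_pushforward U G (inf_le_left : V ⊓ U ≤ V) le_rfl).2 g'
    refine ⟨g, ?_⟩
    apply (bijective_res_pushforward U (F.restrict U.ι) (inf_le_left : V ⊓ U ≤ V) le_rfl).1
    rw [← hg']
    exact (appLin_res ((Scheme.Modules.pushforward U.ι).map i) _ g).symm
  · intro hs
    exact (SubSh.ofMono _).res_mem _ hs

theorem image_preimage_eq_of_le {D : X.Opens} (hD : D ≤ U) : U.ι ''ᵁ (U.ι ⁻¹ᵁ D) = D := by
  rw [Scheme.Hom.image_preimage_eq_opensRange_inf, Scheme.Opens.opensRange_ι]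
  exact inf_eq_right.mpr hD

theorem bijective_unitF_app {D : X.Opens} (hD : D ≤ U) :
    Function.Bijective ((unitF U F).app D) :=
  ⟨res_injective_of_eq F (image_preimage_eq_of_le U hD),
    res_surjective_of_eq F (image_preimage_eq_of_le U hD)⟩

set_option backward.isDefEq.respectTransparency false in
theorem good_T₀ [QuasiCompact U.ι] [G.IsQuasicoherent] (hG : CohB1.IsFT G) {D : X.Opens}
    (hD : IsAffineOpen D) (hDU : D ≤ U) : (T₀ U F i).Good D := by
  haveI : ((Scheme.Modules.pushforward U.ι).obj G).IsQuasicoherent :=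
    isQuasicoherent_pushforward_of_qcqs U.ι G
  have hq := SubSh.isQCohOn_ofMono ((Scheme.Modules.pushforward U.ι).map i) hD
  refine ⟨hD, ?_, ?_⟩
  · intro f t ht
    obtain ⟨n, y, hy, e⟩ := hq f ((unitF U F).app _ t) ht
    obtain ⟨s, rfl⟩ := (bijective_unitF_app U F hDU).2 y
    refine ⟨n, s, hy, ?_⟩
    apply (bijective_unitF_app U F ((X.basicOpen_le f).trans hDU)).1
    rw [Scheme.Modules.Hom.app_smul, app_res]
    exact e
  · let eη : Γ(F, D) ≃ₗ[Γ(X, D)] Γ((Scheme.Modules.pushforward U.ι).obj (F.restrict U.ι), D) :=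
      LinearEquiv.ofBijective (appLin (unitF U F) D) (bijective_unitF_app U F hDU)
    have h1 : (T₀ U F i).obj D =
        ((SubSh.ofMono ((Scheme.Modules.pushforward U.ι).map i)).obj D).comap eη.toLinearMap := rfl
    rw [h1, Submodule.comap_equiv_eq_map_symm]
    apply Submodule.FG.map
    apply SubSh.fg_ofMono
    have hle : D ≤ U.ι.opensRange := by rw [Scheme.Opens.opensRange_ι]; exact hDU
    haveI : IsIso (U.ι.app D) := U.ι.isIso_app D hle
    refine Groth.Agent.Lib.H90OXModPushFinite.finite_sections_pushforward U.ι G D ?_ ?_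
    · apply RingHom.Finite.of_surjective
      exact (ConcreteCategory.bijective_of_isIso (U.ι.app D)).2
    · exact Groth.Agent.Lib.CohFinite.finite_sections_of_isCoh G ⟨inferInstance, hG⟩
        (hD.preimage_of_isOpenImmersion U.ι hle)

theorem isCompact_inf_of_quasiCompact [QuasiCompact U.ι] {D : X.Opens} (hD : IsAffineOpen D) :
    IsCompact ((D ⊓ U : X.Opens) : Set X) := by
  have h1 : IsCompact (U.ι ⁻¹' (D : Set X)) :=
    QuasiCompact.isCompact_preimage (f := U.ι) D D.2 hD.isCompact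
  have h2 := h1.image U.ι.continuous
  have e : U.ι '' (U.ι ⁻¹' (D : Set X)) = ((D ⊓ U : X.Opens) : Set X) := by
    rw [Set.image_preimage_eq_inter_range, Scheme.Opens.range_ι]
    rfl
  rwa [e] at h2

set_option backward.isDefEq.respectTransparency false in
/-- EXTENSION OF FINITE TYPE QUASI-COHERENT SUBMODULES (EGA I 9.4.7; master statement). -/
theorem exists_finiteType_extension {L : Type v} [LinearOrder L] [WellFoundedLT L]
    (V : L → X.Opens) (hV : ∀ l, IsAffineOpen (V l)) (hcov : ⨆ l, V l = ⊤)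
    (hW : ∀ l, IsCompact ((V l : Set X) ∩ ⋃ m ∈ Set.Iio l, (V m : Set X)))
    [QuasiCompact U.ι] [F.IsQuasicoherent] [G.IsQuasicoherent] (hG : CohB1.IsFT G) :
    ∃ (G' : X.Modules) (i' : G' ⟶ F) (e : G'.restrict U.ι ≅ G), Mono i' ∧ G'.IsQuasicoherent ∧
      CohB1.IsFT G' ∧ e.hom ≫ i = (Scheme.Modules.restrictFunctor U.ι).map i' := by
  obtain ⟨T, hagree, hgood⟩ := SubSh.exists_extension (Vc := V) (U := U) (T₀ := T₀ U F i) hV hW
    (fun D hD => isCompact_inf_of_quasiCompact U hD) (sat_T₀ U F i)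
    (fun D hD hDU => good_T₀ U F i hG hD hDU)
  -- coherence of `T.toModules`
  let ι' : Type u := {D : X.Opens // ∃ l, D = V l}
  have hcoh : Coh.IsCoh T.toModules := by
    refine T.isCoh_toModules (fun D : ι' => D.1) ?_ ?_ ?_ ?_
    · rw [eq_top_iff, ← hcov]
      exact iSup_le fun l => le_iSup (fun D : ι' => D.1) ⟨V l, l, rfl⟩
    · rintro ⟨D, l, rfl⟩; exact hV l
    · rintro ⟨D, l, rfl⟩; exact (hgood l).2.1
    · rintro ⟨D, l, rfl⟩; exact (hgood l).2.2
  -- the isomorphism over `U`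
  let r := (Scheme.Modules.restrictFunctor U.ι).map T.ι
  haveI : Mono r := inferInstance
  have h : SubSh.ofMono r = SubSh.ofMono i := by
    ext W s
    have hA : U.ι ⁻¹ᵁ (U.ι ''ᵁ W) = W := U.ι.preimage_image_eq W
    rw [(SubSh.ofMono i).mem_iff_of_eq hA s]
    have h1 : s ∈ (SubSh.ofMono r).obj W ↔ (show Γ(F, U.ι ''ᵁ W) from s) ∈ T.obj (U.ι ''ᵁ W) :=
      T.mem_range_ι (U.ι ''ᵁ W) s
    rw [h1, hagree _ (by
      have := U.ι.image_le_opensRange W
      rwa [Scheme.Opens.opensRange_ι] at this)]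
    rfl
  obtain ⟨e, he⟩ := exists_iso_of_ofMono_eq r i h
  exact ⟨T.toModules, T.ι, e, inferInstance, hcoh.1, hcoh.2, he⟩

end Groth.Agent.Lib.H90QCohExt
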