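import Mathlib
import Groth.Agent.Lib.H90QCohExt

/-!
# Extension of finite type quasi-coherent subsheaves on schemes with locally Noetherian space
-/

set_option autoImplicit false
universe u

open AlgebraicGeometry CategoryTheory TopologicalSpace

namespace Groth.Agent.Lib.H90LocNoeth

/-- In a locally Noetherian topological space, every subset of a compact set is compact. -/
theorem isCompact_of_subset {X : Type*} [TopologicalSpace X]
    (hX : ∀ x : X, ∃ U : Opens X, x ∈ U ∧ NoetherianSpace (U : Set X)) {W t : Set X}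
    (hW : IsCompact W) (ht : t ⊆ W) : IsCompact t := by
  classical
  choose N hxN hN using hX
  obtain ⟨s, hs⟩ := hW.elim_finite_subcover (fun x => (N x : Set X)) (fun x => (N x).isOpen)
    (fun x _ => Set.mem_iUnion.mpr ⟨x, hxN x⟩)
  have : t = ⋃ x ∈ s, (t ∩ N x) := by
    rw [← Set.inter_iUnion₂]
    exact (Set.inter_eq_left.mpr (ht.trans hs)).symm
  rw [this]
  refine s.finite_toSet.isCompact_biUnion fun x _ => ?_
  exact (noetherianSpace_set_iff _).mp (hN x) _ Set.inter_subset_right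

variable {X : Scheme.{u}}

theorem quasiCompact_ι
    (hX : ∀ x : X, ∃ U : X.Opens, x ∈ U ∧ NoetherianSpace (U : Set X)) (U : X.Opens) :
    QuasiCompact U.ι := by
  rw [quasiCompact_iff_forall_isAffineOpen]
  intro W hW
  have h1 : IsCompact ((W : Set X) ∩ U) := isCompact_of_subset hX hW.isCompact Set.inter_subset_left
  have h2 : ((U.ι ⁻¹ᵁ W : (U : Scheme.{u}).Opens) : Set U) = U.ι ⁻¹' ((W : Set X) ∩ U) := by
    ext x
    simp only [Scheme.Hom.coe_preimage, Set.mem_preimage, Set.mem_inter_iff, SetLike.mem_coe]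
    exact ⟨fun h => ⟨h, x.2⟩, fun h => h.1⟩
  rw [h2]
  refine (U.ι.isEmbedding.isInducing.isCompact_preimage_iff ?_).mpr h1
  simp

/-- Extension of finite type quasi-coherent subsheaves on a scheme with locally Noetherian
underlying space. -/
theorem exists_finiteType_extension
    (hX : ∀ x : X, ∃ U : X.Opens, x ∈ U ∧ NoetherianSpace (U : Set X)) (U : X.Opens)
    (F : X.Modules) [F.IsQuasicoherent]
    {G : (U : Scheme.{u}).Modules} (i : G ⟶ F.restrict U.ι) [Mono i]
    [G.IsQuasicoherent] (hG : CohB1.IsFT G) :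
    ∃ (G' : X.Modules) (i' : G' ⟶ F) (e : G'.restrict U.ι ≅ G), Mono i' ∧ G'.IsQuasicoherent ∧
      CohB1.IsFT G' ∧ e.hom ≫ i = (Scheme.Modules.restrictFunctor U.ι).map i' := by
  classical
  haveI := quasiCompact_ι hX U
  obtain ⟨L, ⟨eL⟩, inst, hwf⟩ : ∃ (L : Type u), Nonempty (L ≃ X) ∧
      ∃ (_ : LinearOrder L), WellFoundedLT L := by
    obtain ⟨inst, hwf⟩ := exists_wellFoundedLT (α := ULift.{u} X)
    exact ⟨ULift.{u} X, ⟨Equiv.ulift⟩, inst, hwf⟩
  have hbasis := X.isBasis_affineOpens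
  have hV' : ∀ x : X, ∃ V : X.Opens, IsAffineOpen V ∧ x ∈ V := by
    intro x
    obtain ⟨V, hV, hxV, -⟩ := Opens.isBasis_iff_nbhd.mp hbasis (U := ⊤) (x := x) trivial
    exact ⟨V, hV, hxV⟩
  choose V₀ hV₀ hxV₀ using hV'
  have hcov : ⨆ l : L, V₀ (eL l) = ⊤ := by
    rw [eq_top_iff]
    intro x _
    exact Opens.mem_iSup.mpr ⟨eL.symm x, by simpa using hxV₀ x⟩
  have hW : ∀ l : L, IsCompact ((V₀ (eL l) : Set X) ∩ ⋃ m ∈ Set.Iio l, (V₀ (eL m) : Set X)) :=
    fun l => isCompact_of_subset hX (hV₀ (eL l)).isCompact Set.inter_subset_left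
  exact Groth.Agent.Lib.H90QCohExt.exists_finiteType_extension U F i (fun l : L => V₀ (eL l))
    (fun l => hV₀ (eL l)) hcov hW hG

end Groth.Agent.Lib.H90LocNoeth
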