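import Groth.Agent.Lib.InvEngineA
import Groth.Agent.Lib.H90LocNoeth
import Groth.Agent.Lib.H90CohCenter
import Groth.Agent.Lib.RestrictExact

/-!
# K3.E (lead), part B: the engine of Snapper's theorem

On an integral Noetherian scheme `Z`, for every invertible module `N` there is a coherent module `G` with
monomorphisms `a : G ⟶ O_Z` and `b : G ⟶ N` which are both isomorphisms over a nonempty open `U`
(so the cokernels of `a` and `b` are supported on the proper closed subset `Z ∖ U`).
-/

set_option autoImplicit false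
set_option linter.style.haveILetI false
universe u
open CategoryTheory CategoryTheory.Limits AlgebraicGeometry Opposite TopologicalSpace

namespace Groth.Agent.Lib.InvEngine

open Scheme.Modules

variable {Z : Scheme.{u}}

/-- support form of part A -/
theorem isZero_of_mono_invertible_of_support [IsIntegral Z] {K N : Z.Modules}
    (hN : PicF.IsInvertible N) (κ : K ⟶ N) [Mono κ] (U : Z.Opens) (hU : (U : Set Z).Nonempty)
    (hK : CohB1.support K ⊆ (U : Set Z)ᶜ) : IsZero K := by
  refine Groth.Agent.Lib.H90QCohLocalization.isZero_of_subsingleton_sections K fun V => ?_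
  refine subsingleton_of_forall_eq 0 fun s => ?_
  refine section_eq_zero_of_mono_invertible hN κ U hU (fun W hW => ?_) V s
  refine Groth.Agent.Lib.H90OXModPushOpen.subsingleton_sections_of_stalks K W fun y hy => ?_
  by_contra hne
  exact hK hne (hW hy)

theorem exists_common_subsheaf (Z : Scheme.{u}) [IsIntegral Z] [IsNoetherian Z] (N : Z.Modules)
    (hN : PicF.IsInvertible N) :
    ∃ (G : Z.Modules) (a : G ⟶ Coh.structureModule Z) (b : G ⟶ N) (U : Z.Opens),
      Coh.IsCoh G ∧ Mono a ∧ Mono b ∧ (U : Set Z).Nonempty ∧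
      IsIso ((restrictFunctor U.ι).map a) ∧ IsIso ((restrictFunctor U.ι).map b) ∧
      CohB1.support (cokernel a) ⊆ (U : Set Z)ᶜ ∧ CohB1.support (cokernel b) ⊆ (U : Set Z)ᶜ := by
  obtain ⟨z⟩ : Nonempty Z := inferInstance
  obtain ⟨U, hzU, ⟨e⟩⟩ := hN z
  have hUne : (U : Set Z).Nonempty := ⟨z, hzU⟩
  let R := restrictFunctor U.ι
  let O := Coh.structureModule Z
  let u : R.obj O ≅ Coh.structureModule (↑U : Scheme.{u}) := restrictUnitIso U.ι
  have hcohF : Coh.IsCoh (N ⊞ O) :=
    Groth.Agent.Lib.H90CohCenter.isCoh_biprod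
      (Groth.Agent.Lib.H90Invertible.isCoh_of_isInvertible hN)
      (Groth.Agent.Lib.H90DevHub2.isCoh_structureModule Z)
  haveI : (N ⊞ O).IsQuasicoherent := hcohF.1
  -- the graph of the trivialisation over `U`
  let i : Coh.structureModule (↑U : Scheme.{u}) ⟶ (N ⊞ O).restrict U.ι :=
    e.inv ≫ R.map biprod.inl + u.inv ≫ R.map biprod.inr
  have hi_fst : i ≫ R.map biprod.fst = e.inv := by
    simp only [i, Preadditive.add_comp, Category.assoc, ← Functor.map_comp, biprod.inl_fst,
      biprod.inr_fst, Functor.map_zero, comp_zero, add_zero]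
    rw [R.map_id, Category.comp_id]
  have hi_snd : i ≫ R.map biprod.snd = u.inv := by
    simp only [i, Preadditive.add_comp, Category.assoc, ← Functor.map_comp, biprod.inl_snd,
      biprod.inr_snd, Functor.map_zero, comp_zero, zero_add]
    rw [R.map_id, Category.comp_id]
  haveI : Mono i := by
    haveI : Mono (i ≫ R.map biprod.snd) := by rw [hi_snd]; infer_instance
    exact mono_of_mono i (R.map biprod.snd)
  have hcohU := Groth.Agent.Lib.H90DevHub2.isCoh_structureModule (↑U : Scheme.{u})
  haveI : (Coh.structureModule (↑U : Scheme.{u})).IsQuasicoherent := hcohU.1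
  have hX : ∀ x : Z, ∃ V : Z.Opens, x ∈ V ∧ NoetherianSpace (V : Set Z) :=
    fun x => ⟨⊤, trivial, inferInstance⟩
  obtain ⟨G, i', ε, hmono, hq, hft, hcompat⟩ :=
    Groth.Agent.Lib.H90LocNoeth.exists_finiteType_extension hX U (N ⊞ O) i hcohU.2
  haveI := hmono
  have hRa : R.map (i' ≫ biprod.snd) = ε.hom ≫ u.inv := by
    rw [R.map_comp, ← hcompat, Category.assoc, hi_snd]
  have hRb : R.map (i' ≫ biprod.fst) = ε.hom ≫ e.inv := by
    rw [R.map_comp, ← hcompat, Category.assoc, hi_fst]
  have isoA : IsIso (R.map (i' ≫ biprod.snd)) := by rw [hRa]; infer_instance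
  have isoB : IsIso (R.map (i' ≫ biprod.fst)) := by rw [hRb]; infer_instance
  have hsA := (Groth.Agent.Lib.H90QCohLocalization.isIso_restrict_map_iff (i' ≫ biprod.snd) U).mp isoA
  have hsB := (Groth.Agent.Lib.H90QCohLocalization.isIso_restrict_map_iff (i' ≫ biprod.fst) U).mp isoB
  have hO : PicF.IsInvertible O := Groth.Agent.Lib.H90Invertible.isInvertible_structureModule Z
  have monoA : Mono (i' ≫ (biprod.snd : N ⊞ O ⟶ O)) := by
    let k := kernel.ι (i' ≫ (biprod.snd : N ⊞ O ⟶ O))
    have hk : k ≫ i' ≫ (biprod.snd : N ⊞ O ⟶ O) = 0 := kernel.condition _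
    haveI : Mono (k ≫ i' ≫ (biprod.fst : N ⊞ O ⟶ N)) := by
      refine Preadditive.mono_of_cancel_zero _ fun {T} x hx => ?_
      have h1 : (x ≫ k) ≫ i' = 0 := by
        apply biprod.hom_ext
        · rw [zero_comp, Category.assoc, Category.assoc]
          simpa only [Category.assoc] using hx
        · rw [zero_comp, Category.assoc, Category.assoc, hk, comp_zero]
      have h2 : x ≫ k = 0 := (cancel_mono i').mp (h1.trans zero_comp.symm)
      exact (cancel_mono k).mp (h2.trans zero_comp.symm)
    have hz := isZero_of_mono_invertible_of_support hN (k ≫ i' ≫ (biprod.fst : N ⊞ O ⟶ N)) U hUne hsA.1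
    exact Preadditive.mono_of_kernel_zero (hz.eq_of_src _ _)
  have monoB : Mono (i' ≫ (biprod.fst : N ⊞ O ⟶ N)) := by
    let k := kernel.ι (i' ≫ (biprod.fst : N ⊞ O ⟶ N))
    have hk : k ≫ i' ≫ (biprod.fst : N ⊞ O ⟶ N) = 0 := kernel.condition _
    haveI : Mono (k ≫ i' ≫ (biprod.snd : N ⊞ O ⟶ O)) := by
      refine Preadditive.mono_of_cancel_zero _ fun {T} x hx => ?_
      have h1 : (x ≫ k) ≫ i' = 0 := by
        apply biprod.hom_ext
        · rw [zero_comp, Category.assoc, Category.assoc, hk, comp_zero]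
        · rw [zero_comp, Category.assoc, Category.assoc]
          simpa only [Category.assoc] using hx
      have h2 : x ≫ k = 0 := (cancel_mono i').mp (h1.trans zero_comp.symm)
      exact (cancel_mono k).mp (h2.trans zero_comp.symm)
    have hz := isZero_of_mono_invertible_of_support hO (k ≫ i' ≫ (biprod.snd : N ⊞ O ⟶ O)) U hUne hsB.1
    exact Preadditive.mono_of_kernel_zero (hz.eq_of_src _ _)
  exact ⟨G, i' ≫ biprod.snd, i' ≫ biprod.fst, U, ⟨hq, hft⟩, monoA, monoB, hUne, isoA, isoB,
    hsA.2, hsB.2⟩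

end Groth.Agent.Lib.InvEngine
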