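/-
helper90: K3.S (Snapper), geometric step.  For an irreducible closed subset `Zc` of a Noetherian scheme `X` and an
invertible module `L` on `X` there is a coherent module `A` on `X` with monomorphisms `A ⟶ hub Zc` and
`A ⟶ hub Zc ⊗ L` whose cokernels are supported on proper closed subsets of `Zc` (of strictly smaller dimension).
-/
import Mathlib
import Groth.Agent.Lib.H90DevTwo2
import Groth.Agent.Lib.InvEngineB
import Groth.Agent.Lib.ProjFormulaInv
import Groth.Agent.Lib.OXModTensor
import Groth.Agent.Lib.DimDrop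
import Groth.Agent.Lib.H90InvertiblePullback
import Groth.Agent.Lib.SupportTensor

set_option autoImplicit false
set_option linter.style.haveILetI false
universe u

open CategoryTheory CategoryTheory.Limits AlgebraicGeometry TopologicalSpace Opposite

namespace Groth.Agent.Lib.H90SnapGeom

open Groth.Agent.Lib.H90DevCanon Groth.Agent.Lib.H90DevHub Groth.Agent.Lib.H90DevHub2
  Groth.Agent.Lib.ModStalkLin Groth.Agent.Lib.ModStalk Groth.Agent.Lib.H90DevTwo
  Groth.Agent.Lib.H90DevTwo2 Groth.Agent.Lib.PushStalk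

variable {X : Scheme.{u}}

/-- if the stalk map of a monomorphism is surjective at `x`, then `x` is not in the support of the cokernel -/
theorem notMem_support_cokernel_of_surjective {A B : X.Modules} (p : A ⟶ B) [Mono p] (x : X)
    (h : Function.Surjective (stalkLin p x)) : x ∉ CohB1.support (cokernel p) := by
  rw [notMem_support_iff]
  have hS := stalkLin_exact (shortExact_cokernel p) x
  refine ⟨fun a b => ?_⟩
  have key : ∀ w : ↑((cokernel p).presheaf.stalk x), w = 0 := by
    intro w
    obtain ⟨v, rfl⟩ := hS.2.2 w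
    obtain ⟨g, rfl⟩ := h v
    exact (hS.2.1 _).mpr ⟨g, rfl⟩
  rw [key a, key b]

/-- conversely, outside the support of the cokernel the stalk map is surjective -/
theorem surjective_stalkLin_of_notMem_support_cokernel {A B : X.Modules} (p : A ⟶ B) [Mono p] (x : X)
    (h : x ∉ CohB1.support (cokernel p)) : Function.Surjective (stalkLin p x) := by
  rw [notMem_support_iff] at h
  have hS := stalkLin_exact (shortExact_cokernel p) x
  intro v
  obtain ⟨g, hg⟩ := (hS.2.1 v).mp (Subsingleton.elim _ _)
  exact ⟨g, hg⟩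

/-- naturality of the comparison map of stalks of a direct image -/
theorem pushStalkHom_naturality {Z : Scheme.{u}} (f : Z ⟶ X) {M N : Z.Modules} (φ : M ⟶ N) (z : Z)
    (w : ↑(((Scheme.Modules.pushforward f).obj M).presheaf.stalk (f z))) :
    pushStalkHom f N z (stalkLin ((Scheme.Modules.pushforward f).map φ) (f z) w) =
      stalkLin φ z (pushStalkHom f M z w) := by
  obtain ⟨V, hV, s, rfl⟩ :=
    TopCat.Presheaf.exists_germ_eq ((Scheme.Modules.pushforward f).obj M).presheaf w
  rw [stalkLin_germ, pushStalkHom_germ, pushStalkHom_germ]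
  exact (stalkLin_germ φ z (f ⁻¹ᵁ V) hV _).symm

/-- for a topological embedding `f`, surjectivity of the stalk map of `φ` at `z` gives surjectivity of the stalk map of
`f_* φ` at `f z` -/
theorem surjective_stalkLin_pushforward {Z : Scheme.{u}} (f : Z ⟶ X)
    (hf : Topology.IsInducing f.base) {M N : Z.Modules} (φ : M ⟶ N) (z : Z)
    (h : Function.Surjective (stalkLin φ z)) :
    Function.Surjective (stalkLin ((Scheme.Modules.pushforward f).map φ) (f z)) := by
  intro v
  obtain ⟨g, hg⟩ := h (pushStalkHom f N z v)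
  obtain ⟨w, rfl⟩ := (pushStalkHom_bijective f M hf z).2 g
  refine ⟨w, (pushStalkHom_bijective f N hf z).1 ?_⟩
  rw [pushStalkHom_naturality, hg]

/-- **Geometric step of Snapper's theorem.**  For an irreducible closed subset `Zc` of a Noetherian scheme and an
invertible module `L`, the modules `hub Zc = i_* O_Z` and `hub Zc ⊗ L` contain a common coherent sub-module `A`
such that both quotients are supported on proper closed subsets of `Zc`. -/
theorem exists_step [AlgebraicGeometry.IsNoetherian X] (Zc : Closeds X) (hirr : IsIrreducible (Zc : Set X))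
    (L : X.Modules) (hL : PicF.IsInvertible L) :
    ∃ (A : X.Modules) (pa : A ⟶ hub Zc) (pb : A ⟶ CohB1.tensorMod (hub Zc) L),
      Coh.IsCoh A ∧ Mono pa ∧ Mono pb ∧
      CohB1.support (cokernel pa) ⊆ (Zc : Set X) ∧ CohB1.support (cokernel pa) ≠ (Zc : Set X) ∧
      CohB1.support (cokernel pb) ⊆ (Zc : Set X) ∧ CohB1.support (cokernel pb) ≠ (Zc : Set X) := by
  haveI : IsIntegral (ZZ Zc) := Groth.Agent.Lib.H90DevAtom.isIntegral_subscheme Zc hirr
  haveI : IsLocallyNoetherian (ZZ Zc) := LocallyOfFiniteType.isLocallyNoetherian (iZ Zc)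
  haveI : CompactSpace (ZZ Zc) := QuasiCompact.compactSpace_of_compactSpace (iZ Zc)
  haveI : AlgebraicGeometry.IsNoetherian (ZZ Zc) := { }
  let i := iZ Zc
  let N₀ : (ZZ Zc).Modules := (Scheme.Modules.pullback i).obj L
  have hN₀ : PicF.IsInvertible N₀ := Groth.Agent.Lib.H90Invertible.isInvertible_pullback i hL
  let N : (ZZ Zc).Modules := CohB1.tensorMod (Coh.structureModule (ZZ Zc)) N₀
  have hN : PicF.IsInvertible N :=
    Groth.Agent.Lib.H90Invertible.isInvertible_of_iso (Groth.Agent.Lib.OXModTensor.leftUnitor N₀).symm hN₀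
  obtain ⟨G, a, b, U, hG, ha, hb, hU, -, -, hsa, hsb⟩ :=
    Groth.Agent.Lib.InvEngine.exists_common_subsheaf (ZZ Zc) N hN
  haveI := ha
  haveI := hb
  let z : ZZ Zc := genericPoint (ZZ Zc)
  have hzU : z ∈ (U : Set (ZZ Zc)) := by
    obtain ⟨y, hy⟩ := hU
    exact (genericPoint_spec (ZZ Zc)).mem_open_set_iff U.2 |>.mpr ⟨y, trivial, hy⟩ |> fun h => h
  have hind : Topology.IsInducing i.base := i.isEmbedding.isInducing
  let ξ : X := i z
  have hξ : closure {ξ} = (Zc : Set X) := by
    rw [← range_iZ Zc]
    exact isGenericPoint_image_genericPoint i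
  have hξZ : ξ ∈ (Zc : Set X) := by rw [← hξ]; exact subset_closure rfl
  let A : X.Modules := (Scheme.Modules.pushforward i).obj G
  let pa : A ⟶ hub Zc := (Scheme.Modules.pushforward i).map a
  let e := Groth.Agent.Lib.ProjFormulaInv.projIso i (Coh.structureModule (ZZ Zc)) L hL
  let pb₀ : A ⟶ (Scheme.Modules.pushforward i).obj N := (Scheme.Modules.pushforward i).map b
  let pb : A ⟶ CohB1.tensorMod (hub Zc) L := pb₀ ≫ e.inv
  haveI : Mono pa := inferInstance
  haveI : Mono pb₀ := inferInstance
  haveI : Mono pb := mono_comp _ _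
  have hA : Coh.IsCoh A := Groth.Agent.Lib.H90OXModPushFinite.isCoh_pushforward i G hG
  have hsa' : Function.Surjective (stalkLin pa ξ) :=
    surjective_stalkLin_pushforward i hind a z
      (surjective_stalkLin_of_notMem_support_cokernel a z (fun h => hsa h hzU))
  have hsb₀ : Function.Surjective (stalkLin pb₀ ξ) :=
    surjective_stalkLin_pushforward i hind b z
      (surjective_stalkLin_of_notMem_support_cokernel b z (fun h => hsb h hzU))
  have hsb' : Function.Surjective (stalkLin pb ξ) := by
    have : stalkLin pb ξ = (stalkLin e.inv ξ).comp (stalkLin pb₀ ξ) := stalkLin_comp pb₀ e.inv ξ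
    rw [this]
    exact (stalkLin_surjective_of_epi e.inv ξ).comp hsb₀
  refine ⟨A, pa, pb, hA, inferInstance, inferInstance, ?_, ?_, ?_, ?_⟩
  · exact (support_subset_of_epi (cokernel.π pa)).trans (support_hub_subset Zc)
  · intro h
    exact notMem_support_cokernel_of_surjective pa ξ hsa' (h ▸ hξZ)
  · refine (support_subset_of_epi (cokernel.π pb)).trans ?_
    refine (support_subset_of_epi e.inv).trans ?_
    rw [← range_iZ Zc]
    exact support_push_subset i N
  · intro h
    exact notMem_support_cokernel_of_surjective pb ξ hsb' (h ▸ hξZ)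

/-- the dimension of the support of the cokernel of a nonzero sub-module of the hub drops -/
theorem dim_support_cokernel_hub [AlgebraicGeometry.IsNoetherian X] {Zc : Closeds X}
    (hirr : IsIrreducible (Zc : Set X)) {G : X.Modules} (p : G ⟶ hub Zc) [Mono p] [G.IsQuasicoherent]
    (hG : ¬ IsZero G) :
    topologicalKrullDim ↥(CohB1.support (cokernel p)) + 1 ≤ topologicalKrullDim ↥(Zc : Set X) := by
  obtain ⟨ξ, hξ⟩ := QuasiSober.sober hirr Zc.isClosed
  have hc : Coh.IsCoh (cokernel p) := Groth.Agent.Lib.H90OXModExact.isCoh_cokernel p (isCoh_hub Zc)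
  refine Groth.Agent.Lib.DimDrop.topologicalKrullDim_add_one_le_of_ssubset
    (isClosed_support_of_isFT _ hc.2) hirr
    ((support_subset_of_epi (cokernel.π p)).trans (support_hub_subset Zc)) ?_
  intro h
  have hξZ : ξ ∈ (Zc : Set X) := by
    have h2 : closure {ξ} = (Zc : Set X) := hξ
    rw [← h2]; exact subset_closure rfl
  exact notMem_support_cokernel_hub hirr hξ p hG (h ▸ hξZ)

/-- **Geometric step of Snapper's theorem, dimension form.** -/
theorem exists_step_dim [AlgebraicGeometry.IsNoetherian X] (Zc : Closeds X)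
    (hirr : IsIrreducible (Zc : Set X)) (L : X.Modules) (hL : PicF.IsInvertible L) :
    ∃ (A : X.Modules) (pa : A ⟶ hub Zc) (pb : A ⟶ CohB1.tensorMod (hub Zc) L),
      Coh.IsCoh A ∧ Mono pa ∧ Mono pb ∧ Coh.IsCoh (CohB1.tensorMod (hub Zc) L) ∧
      Coh.IsCoh (cokernel pa) ∧ Coh.IsCoh (cokernel pb) ∧
      topologicalKrullDim ↥(CohB1.support (cokernel pa)) + 1 ≤ topologicalKrullDim ↥(Zc : Set X) ∧
      topologicalKrullDim ↥(CohB1.support (cokernel pb)) + 1 ≤ topologicalKrullDim ↥(Zc : Set X) := by
  obtain ⟨A, pa, pb, hA, hpa, hpb, h1, h2, h3, h4⟩ := exists_step Zc hirr L hL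
  haveI := hpa
  haveI := hpb
  haveI : A.IsQuasicoherent := hA.1
  have hT : Coh.IsCoh (CohB1.tensorMod (hub Zc) L) := by
    haveI : IsLocallyNoetherian (ZZ Zc) := LocallyOfFiniteType.isLocallyNoetherian (iZ Zc)
    refine Groth.Agent.Lib.H90CohRestrict.isCoh_of_iso
      (Groth.Agent.Lib.ProjFormulaInv.projIso (iZ Zc) (Coh.structureModule (ZZ Zc)) L hL).symm ?_
    refine Groth.Agent.Lib.H90OXModPushFinite.isCoh_pushforward (iZ Zc) _ ?_
    exact Groth.Agent.Lib.H90Invertible.isCoh_of_isInvertible
      (Groth.Agent.Lib.H90Invertible.isInvertible_of_iso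
        (Groth.Agent.Lib.OXModTensor.leftUnitor _).symm
        (Groth.Agent.Lib.H90Invertible.isInvertible_pullback (iZ Zc) hL))
  have hca : Coh.IsCoh (cokernel pa) := Groth.Agent.Lib.H90OXModExact.isCoh_cokernel pa (isCoh_hub Zc)
  have hcb : Coh.IsCoh (cokernel pb) := Groth.Agent.Lib.H90OXModExact.isCoh_cokernel pb hT
  exact ⟨A, pa, pb, hA, hpa, hpb, hT, hca, hcb,
    Groth.Agent.Lib.DimDrop.topologicalKrullDim_add_one_le_of_ssubset
      (isClosed_support_of_isFT _ hca.2) hirr h1 h2,
    Groth.Agent.Lib.DimDrop.topologicalKrullDim_add_one_le_of_ssubset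
      (isClosed_support_of_isFT _ hcb.2) hirr h3 h4⟩

end Groth.Agent.Lib.H90SnapGeom
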