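/-
helper90: K3.S, **abstract Snapper theorem**.  Let `X` be a Noetherian scheme, `L_1, …, L_n` invertible modules and
`Q : X.Modules → (Fin n → ℕ) → ℤ` a function which is
(Q1) invariant under isomorphism,
(Q2) additive on short exact sequences of coherent modules,
(Q3) `Q (G ⊗ L_j) m = Q G (m + e_j)` for coherent `G`.
Then for every coherent `F` with `dim Supp F ≤ r` the function `Q F` is a polynomial of total degree `≤ r`.
The elementary polynomial lemma (a function on `ℕ^n` all of whose first differences are polynomials of degree `< r` is a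
polynomial of degree `≤ r`) is a hypothesis `PolyDiffHyp n`.
-/
import Mathlib
import Groth.Agent.Lib.H90SnapGeom
import Groth.Agent.Lib.ModPullback

set_option autoImplicit false
set_option linter.style.haveILetI false
universe u

open CategoryTheory CategoryTheory.Limits AlgebraicGeometry TopologicalSpace Opposite

namespace Groth.Agent.Lib.H90Snapper

open Groth.Agent.Lib.H90DevCanon Groth.Agent.Lib.H90DevHub Groth.Agent.Lib.H90DevHub2
  Groth.Agent.Lib.ModStalkLin Groth.Agent.Lib.ModStalk Groth.Agent.Lib.H90DevTwo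
  Groth.Agent.Lib.H90DevTwo2 Groth.Agent.Lib.H90DevFiltP Groth.Agent.Lib.H90SnapGeom

/-- The polynomial lemma used in Snapper's theorem: a function on `ℕ^n` all of whose first differences are polynomials
of total degree `< r` (zero if `r = 0`) is a polynomial of total degree `≤ r`. -/
def PolyDiffHyp (n : ℕ) : Prop :=
  ∀ (g : (Fin n → ℕ) → ℚ) (r : ℕ) (D : Fin n → MvPolynomial (Fin n) ℚ),
    (∀ j, D j = 0 ∨ (D j).totalDegree < r) →
    (∀ j m, g (m + Pi.single j 1) - g m = MvPolynomial.eval (fun i => (m i : ℚ)) (D j)) →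
    ∃ P : MvPolynomial (Fin n) ℚ, P.totalDegree ≤ r ∧
      ∀ m, g m = MvPolynomial.eval (fun i => (m i : ℚ)) P

section Poly

variable {n : ℕ}

/-- `f` is a polynomial of total degree `≤ r` -/
def IsPoly (r : ℕ) (f : (Fin n → ℕ) → ℤ) : Prop :=
  ∃ P : MvPolynomial (Fin n) ℚ, P.totalDegree ≤ r ∧
    ∀ m, (f m : ℚ) = MvPolynomial.eval (fun i => (m i : ℚ)) P

/-- `f` is a polynomial of total degree `< r` (zero if `r = 0`) -/
def IsPolyLt (r : ℕ) (f : (Fin n → ℕ) → ℤ) : Prop :=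
  ∃ P : MvPolynomial (Fin n) ℚ, (P = 0 ∨ P.totalDegree < r) ∧
    ∀ m, (f m : ℚ) = MvPolynomial.eval (fun i => (m i : ℚ)) P

theorem IsPoly.isPolyLt {r : ℕ} {f : (Fin n → ℕ) → ℤ} (h : IsPoly r f) : IsPolyLt (r + 1) f := by
  obtain ⟨P, hP, hf⟩ := h
  exact ⟨P, Or.inr (Nat.lt_succ_of_le hP), hf⟩

theorem IsPolyLt.isPoly {r : ℕ} {f : (Fin n → ℕ) → ℤ} (h : IsPolyLt r f) : IsPoly r f := by
  obtain ⟨P, hP, hf⟩ := h
  refine ⟨P, ?_, hf⟩
  rcases hP with rfl | hP
  · simp
  · exact hP.le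

theorem isPolyLt_zero (r : ℕ) : IsPolyLt r (0 : (Fin n → ℕ) → ℤ) :=
  ⟨0, Or.inl rfl, fun m => by simp⟩

theorem IsPoly.add {r : ℕ} {f g : (Fin n → ℕ) → ℤ} (hf : IsPoly r f) (hg : IsPoly r g) :
    IsPoly r (f + g) := by
  obtain ⟨P, hP, hf⟩ := hf
  obtain ⟨P', hP', hg⟩ := hg
  refine ⟨P + P', (MvPolynomial.totalDegree_add P P').trans (max_le hP hP'), fun m => ?_⟩
  simp [hf m, hg m]

theorem IsPoly.sub {r : ℕ} {f g : (Fin n → ℕ) → ℤ} (hf : IsPoly r f) (hg : IsPoly r g) :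
    IsPoly r (f - g) := by
  obtain ⟨P, hP, hf⟩ := hf
  obtain ⟨P', hP', hg⟩ := hg
  refine ⟨P - P', (MvPolynomial.totalDegree_sub P P').trans (max_le hP hP'), fun m => ?_⟩
  simp [hf m, hg m]

theorem degLt_sub {r : ℕ} {P P' : MvPolynomial (Fin n) ℚ} (hP : P = 0 ∨ P.totalDegree < r)
    (hP' : P' = 0 ∨ P'.totalDegree < r) : P - P' = 0 ∨ (P - P').totalDegree < r := by
  rcases Nat.eq_zero_or_pos r with rfl | hr
  · left
    rcases hP with rfl | hP
    · rcases hP' with rfl | hP'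
      · simp
      · exact absurd hP' (Nat.not_lt_zero _)
    · exact absurd hP (Nat.not_lt_zero _)
  · right
    have h1 : P.totalDegree < r := by
      rcases hP with rfl | hP
      · simpa using hr
      · exact hP
    have h2 : P'.totalDegree < r := by
      rcases hP' with rfl | hP'
      · simpa using hr
      · exact hP'
    exact lt_of_le_of_lt (MvPolynomial.totalDegree_sub P P') (max_lt h1 h2)

end Poly

section Dim

/-- in `WithBot ℕ∞`, `x + 1 ≤ 0` forces `x = ⊥` -/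
theorem eq_bot_of_add_one_le_zero {x : WithBot ℕ∞} (h : x + 1 ≤ ((0 : ℕ) : WithBot ℕ∞)) : x = ⊥ := by
  induction x using WithBot.recBotCoe with
  | bot => rfl
  | coe y =>
    exfalso
    have h1 : y + 1 ≤ (0 : ℕ∞) := by exact_mod_cast h
    simp at h1

theorem le_of_add_one_le_succ {x : WithBot ℕ∞} {r : ℕ}
    (h : x + 1 ≤ ((r + 1 : ℕ) : WithBot ℕ∞)) : x ≤ (r : WithBot ℕ∞) := by
  induction x using WithBot.recBotCoe with
  | bot => exact bot_le
  | coe y =>
    have h1 : y + 1 ≤ ((r : ℕ∞) + 1) := by exact_mod_cast h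
    have h2 : y ≤ (r : ℕ∞) := by
      have hy : y ≠ ⊤ := by
        rintro rfl
        simp at h1
      lift y to ℕ using hy
      have : y + 1 ≤ r + 1 := by exact_mod_cast h1
      exact_mod_cast Nat.le_of_succ_le_succ this
    exact_mod_cast h2

theorem eq_empty_of_topologicalKrullDim_eq_bot {T : Type*} [TopologicalSpace T] (S : Set T)
    (h : topologicalKrullDim S = ⊥) : S = ∅ := by
  by_contra hne
  obtain ⟨s, hs⟩ := Set.nonempty_iff_ne_empty.2 hne
  have : Nonempty (TopologicalSpace.IrreducibleCloseds S) :=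
    ⟨⟨closure {⟨s, hs⟩}, isIrreducible_singleton.closure, isClosed_closure⟩⟩
  have h0 : (0 : WithBot ℕ∞) ≤ topologicalKrullDim S := by
    unfold topologicalKrullDim
    exact Order.krullDim_nonneg
  rw [h] at h0
  simp at h0

end Dim

section Abstract

variable {X : Scheme.{u}} [AlgebraicGeometry.IsNoetherian X] {n : ℕ} (L : Fin n → X.Modules)
  (hL : ∀ i, PicF.IsInvertible (L i)) (Q : X.Modules → (Fin n → ℕ) → ℤ)
  (Q1 : ∀ G G' : X.Modules, Nonempty (G ≅ G') → Q G = Q G')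
  (Q2 : ∀ S : ShortComplex X.Modules, S.ShortExact → Coh.IsCoh S.X₁ → Coh.IsCoh S.X₂ →
    Coh.IsCoh S.X₃ → ∀ m, Q S.X₂ m = Q S.X₁ m + Q S.X₃ m)
  (Q3 : ∀ (j : Fin n) (G : X.Modules), Coh.IsCoh G → ∀ m,
    Q (CohB1.tensorMod G (L j)) m = Q G (m + Pi.single j 1))

include Q1 Q2 in
theorem Q_of_isZero {G : X.Modules} (hG : IsZero G) : Q G = 0 := by
  have hc : Coh.IsCoh G := isCoh_of_isZero hG
  haveI : Mono (𝟙 G) := inferInstance
  have hz : IsZero (cokernel (𝟙 G)) := isZero_cokernel_of_epi (𝟙 G)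
  have h1 := Q2 _ (shortExact_cokernel (𝟙 G)) hc hc (isCoh_of_isZero hz)
  have h2 : Q (cokernel (𝟙 G)) = Q G := Q1 _ _ ⟨hz.iso hG⟩
  funext m
  have := h1 m
  simp only [h2] at this
  simpa using this

include Q2 in
theorem Q_of_mono {A B : X.Modules} (p : A ⟶ B) [Mono p] (hA : Coh.IsCoh A) (hB : Coh.IsCoh B) :
    Q B = Q A + Q (cokernel p) := by
  haveI : A.IsQuasicoherent := hA.1
  funext m
  exact Q2 _ (shortExact_cokernel p) hA hB (Groth.Agent.Lib.H90OXModExact.isCoh_cokernel p hB) m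

include Q1 Q2 in
theorem isPolyLt_zero_of_dim {G : X.Modules}
    (h : topologicalKrullDim ↥(CohB1.support G) + 1 ≤ ((0 : ℕ) : WithBot ℕ∞)) :
    IsPolyLt 0 (Q G) := by
  have h1 := eq_empty_of_topologicalKrullDim_eq_bot _ (eq_bot_of_add_one_le_zero h)
  have hz : IsZero G := by
    apply Groth.Agent.Lib.ModPullback.isZero_of_forall_subsingleton_stalk
    intro y
    by_contra hy
    have : y ∈ CohB1.support G := hy
    rw [h1] at this
    exact this
  rw [Q_of_isZero Q Q1 Q2 hz]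
  exact isPolyLt_zero 0

include hL Q2 Q3 in
/-- the hub case: `Q (i_* O_Z)` is a polynomial of degree `≤ r` when `dim Z ≤ r`, given the result in smaller
dimensions -/
theorem isPoly_hub (hP : PolyDiffHyp n) (r : ℕ)
    (IH : ∀ G : X.Modules, Coh.IsCoh G →
      topologicalKrullDim ↥(CohB1.support G) + 1 ≤ (r : WithBot ℕ∞) → IsPolyLt r (Q G))
    (Zc : Closeds X) (hirr : IsIrreducible (Zc : Set X))
    (hdim : topologicalKrullDim ↥(Zc : Set X) ≤ (r : WithBot ℕ∞)) : IsPoly r (Q (hub Zc)) := by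
  have key : ∀ j, ∃ D : MvPolynomial (Fin n) ℚ, (D = 0 ∨ D.totalDegree < r) ∧
      ∀ m, ((Q (hub Zc) (m + Pi.single j 1) : ℚ) - (Q (hub Zc) m : ℚ)) =
        MvPolynomial.eval (fun i => (m i : ℚ)) D := by
    intro j
    obtain ⟨A, pa, pb, hA, hpa, hpb, hT, hca, hcb, hda, hdb⟩ := exists_step_dim Zc hirr (L j) (hL j)
    haveI := hpa
    haveI := hpb
    obtain ⟨Pa, hPa, hfa⟩ := IH _ hca (hda.trans hdim)
    obtain ⟨Pb, hPb, hfb⟩ := IH _ hcb (hdb.trans hdim)
    have e1 := Q_of_mono Q Q2 pa hA (isCoh_hub Zc)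
    have e2 := Q_of_mono Q Q2 pb hA hT
    refine ⟨Pb - Pa, degLt_sub hPb hPa, fun m => ?_⟩
    have h3 := Q3 j (hub Zc) (isCoh_hub Zc) m
    rw [← h3, e2, e1, map_sub, ← hfa m, ← hfb m]
    simp only [Pi.add_apply]
    push_cast
    ring
  choose D hD hDiff using key
  obtain ⟨P, hP1, hP2⟩ := hP (fun m => (Q (hub Zc) m : ℚ)) r D hD hDiff
  exact ⟨P, hP1, hP2⟩

include hL Q2 Q3 in
/-- the atom case -/
theorem isPoly_atom (hP : PolyDiffHyp n) (r : ℕ)
    (IH : ∀ G : X.Modules, Coh.IsCoh G →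
      topologicalKrullDim ↥(CohB1.support G) + 1 ≤ (r : WithBot ℕ∞) → IsPolyLt r (Q G))
    {Zc : Closeds X} {C : X.Modules} (hat : IsAtomC Zc C) (hC : Coh.IsCoh C)
    (hdim : topologicalKrullDim ↥(Zc : Set X) ≤ (r : WithBot ℕ∞)) : IsPoly r (Q C) := by
  obtain ⟨p, hp⟩ := exists_mono_hub hat
  haveI := hp
  haveI : C.IsQuasicoherent := hC.1
  have e1 := Q_of_mono Q Q2 p hC (isCoh_hub Zc)
  have hd := dim_support_cokernel_hub hat.1 p
    (Groth.Agent.Lib.H90DevFilt.not_isZero_of_isAtom hat.isAtom)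
  have h1 := isPoly_hub L hL Q Q2 Q3 hP r IH Zc hat.1 hdim
  have h2 := (IH _ (Groth.Agent.Lib.H90OXModExact.isCoh_cokernel p (isCoh_hub Zc))
    (hd.trans hdim)).isPoly
  have : Q C = Q (hub Zc) - Q (cokernel p) := by rw [e1]; simp
  rw [this]
  exact h1.sub h2

include hL Q1 Q2 Q3 in
/-- induction along a dévissage filtration -/
theorem isPoly_of_filt (hP : PolyDiffHyp n) (r : ℕ)
    (IH : ∀ G : X.Modules, Coh.IsCoh G →
      topologicalKrullDim ↥(CohB1.support G) + 1 ≤ (r : WithBot ℕ∞) → IsPolyLt r (Q G))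
    {M : X.Modules} (hF : Filt IsAtomC' M) (hM : Coh.IsCoh M)
    (hdim : topologicalKrullDim ↥(CohB1.support M) ≤ (r : WithBot ℕ∞)) : IsPoly r (Q M) := by
  induction hF with
  | zero M h =>
    rw [Q_of_isZero Q Q1 Q2 h]
    exact (isPolyLt_zero r).isPoly
  | step A B f hf hA hAc hB hat ih =>
    haveI := hf
    haveI : A.IsQuasicoherent := hAc.1
    have e := Q_of_mono Q Q2 f hAc hB
    rw [e]
    refine (ih hAc ?_).add ?_
    · exact (Groth.Agent.Lib.DimDrop.topologicalKrullDim_mono (support_subset_of_mono f)).trans hdim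
    · obtain ⟨Zc, hat⟩ := hat
      have hcC : Coh.IsCoh (cokernel f) := Groth.Agent.Lib.H90OXModExact.isCoh_cokernel f hB
      have hsub : (Zc : Set X) ⊆ CohB1.support B :=
        atomC_subset_of_support_subset hat (isClosed_support_of_isFT _ hB.2)
          (support_subset_of_epi (cokernel.π f))
      exact isPoly_atom L hL Q Q2 Q3 hP r IH hat hcC
        ((Groth.Agent.Lib.DimDrop.topologicalKrullDim_mono hsub).trans hdim)

include hL Q1 Q2 Q3 in
/-- the inductive statement -/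
theorem isPolyLt_of_dim (hP : PolyDiffHyp n) (r : ℕ) :
    ∀ G : X.Modules, Coh.IsCoh G →
      topologicalKrullDim ↥(CohB1.support G) + 1 ≤ (r : WithBot ℕ∞) → IsPolyLt r (Q G) := by
  induction r with
  | zero => exact fun G _ h => isPolyLt_zero_of_dim Q Q1 Q2 h
  | succ r ih =>
    intro G hG h
    exact (isPoly_of_filt L hL Q Q1 Q2 Q3 hP r ih (filt_atomC_of_isCoh hG) hG
      (le_of_add_one_le_succ h)).isPolyLt

include hL Q1 Q2 Q3 in
/-- **Abstract Snapper theorem.** -/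
theorem snapper (hP : PolyDiffHyp n) (F : X.Modules) (hF : Coh.IsCoh F) (r : ℕ)
    (hr : topologicalKrullDim ↥(CohB1.support F) ≤ (r : WithBot ℕ∞)) :
    ∃ P : MvPolynomial (Fin n) ℚ, P.totalDegree ≤ r ∧
      ∀ m : Fin n → ℕ, (Q F m : ℚ) = MvPolynomial.eval (fun i => (m i : ℚ)) P :=
  isPoly_of_filt L hL Q Q1 Q2 Q3 hP r (isPolyLt_of_dim L hL Q Q1 Q2 Q3 hP r)
    (filt_atomC_of_isCoh hF) hF hr

end Abstract

end Groth.Agent.Lib.H90Snapper
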