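import Mathlib

/-!
# K3.P (lead): a function on `ℕ^σ` whose first differences are polynomials is a polynomial

`exists_of_differences` : `g : (σ → ℕ) → ℚ`, `σ` finite, such that each first difference
`g (m + e_j) - g m` is given by a polynomial `D j` of total degree `≤ r`. Then `g` is given by a polynomial of total
degree `≤ r + 1`.  `exists_of_differences_zero` : if all first differences vanish, `g` is constant.

Pure Mathlib.  The one-variable discrete antiderivative is Faulhaber's formula (`sum_range_pow`).
-/

set_option autoImplicit false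
set_option linter.unusedSectionVars false

open MvPolynomial Finset

namespace Groth.Agent.Lib.NumPolyDiff

/-! ### Faulhaber polynomials -/

/-- the polynomial `S_b` with `S_b(N) = ∑_{t < N} t^b` -/
noncomputable def Sb (b : ℕ) : Polynomial ℚ :=
  ∑ i ∈ range (b + 1),
    Polynomial.C (bernoulli i * ((b + 1).choose i : ℚ) / ((b : ℚ) + 1)) * Polynomial.X ^ (b + 1 - i)

theorem Sb_eval (b N : ℕ) : (Sb b).eval (N : ℚ) = ∑ t ∈ range N, (t : ℚ) ^ b := by
  rw [sum_range_pow, Sb, Polynomial.eval_finsetSum]
  refine Finset.sum_congr rfl fun i _ => ?_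
  simp only [Polynomial.eval_mul, Polynomial.eval_C, Polynomial.eval_pow, Polynomial.eval_X]
  ring

theorem Sb_natDegree (b : ℕ) : (Sb b).natDegree ≤ b + 1 := by
  refine Polynomial.natDegree_sum_le_of_forall_le _ _ fun i _ => ?_
  exact (Polynomial.natDegree_C_mul_X_pow_le _ _).trans (Nat.sub_le _ _)

variable {σ : Type*} [Fintype σ] [DecidableEq σ]

/-- evaluation at a point with natural coordinates -/
noncomputable def ev (m : σ → ℕ) (P : MvPolynomial σ ℚ) : ℚ := eval (fun i => (m i : ℚ)) P

theorem ev_add (m : σ → ℕ) (P Q : MvPolynomial σ ℚ) : ev m (P + Q) = ev m P + ev m Q :=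
  map_add _ _ _

theorem ev_sum {ι : Type*} (m : σ → ℕ) (s : Finset ι) (P : ι → MvPolynomial σ ℚ) :
    ev m (∑ i ∈ s, P i) = ∑ i ∈ s, ev m (P i) := map_sum _ _ _

theorem ev_eq (m : σ → ℕ) (P : MvPolynomial σ ℚ) :
    ev m P = ∑ β ∈ P.support, coeff β P * ∏ i, (m i : ℚ) ^ β i := eval_eq' _ _

/-! ### total degree of a one-variable polynomial substituted into `X a` -/

theorem totalDegree_aeval_X_le (a : σ) (p : Polynomial ℚ) :
    (Polynomial.aeval (X a : MvPolynomial σ ℚ) p).totalDegree ≤ p.natDegree := by
  rw [Polynomial.aeval_eq_sum_range]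
  refine (totalDegree_finsetSum_le fun i hi => ?_)
  refine (totalDegree_smul_le _ _).trans ?_
  rw [totalDegree_X_pow]
  exact Nat.lt_succ_iff.mp (Finset.mem_range.mp hi)

theorem ev_aeval_X (m : σ → ℕ) (a : σ) (p : Polynomial ℚ) :
    ev m (Polynomial.aeval (X a : MvPolynomial σ ℚ) p) = p.eval (m a : ℚ) := by
  unfold ev
  rw [Polynomial.aeval_def, Polynomial.hom_eval₂, eval_X]
  have : (eval fun i => (m i : ℚ)).comp (algebraMap ℚ (MvPolynomial σ ℚ)) = RingHom.id ℚ := by
    ext x
    simp
  rw [this, Polynomial.eval₂_id]

/-! ### antiderivative of a monomial -/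

/-- the antiderivative of the monomial `X^β` in the variable `a` -/
noncomputable def antiMono (a : σ) (β : σ →₀ ℕ) : MvPolynomial σ ℚ :=
  Polynomial.aeval (X a : MvPolynomial σ ℚ) (Sb (β a)) * monomial (β.erase a) 1

theorem prod_update (m : σ → ℕ) (a : σ) (t : ℕ) (β : σ →₀ ℕ) :
    ∏ i, ((Function.update m a t i : ℕ) : ℚ) ^ β i =
      (t : ℚ) ^ β a * ∏ i, (m i : ℚ) ^ (β.erase a) i := by
  rw [← Finset.mul_prod_erase Finset.univ _ (Finset.mem_univ a),
    ← Finset.mul_prod_erase Finset.univ (fun i => (m i : ℚ) ^ (β.erase a) i) (Finset.mem_univ a)]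
  simp only [Function.update_self, Finsupp.erase_same, pow_zero, one_mul]
  congr 1
  refine Finset.prod_congr rfl fun i hi => ?_
  have hia : i ≠ a := Finset.ne_of_mem_erase hi
  rw [Function.update_of_ne hia, Finsupp.erase_ne hia]

theorem ev_antiMono (m : σ → ℕ) (a : σ) (β : σ →₀ ℕ) :
    ev m (antiMono a β) = ∑ t ∈ range (m a), ∏ i, ((Function.update m a t i : ℕ) : ℚ) ^ β i := by
  have h1 : ev m (antiMono a β) =
      ev m (Polynomial.aeval (X a : MvPolynomial σ ℚ) (Sb (β a))) * ev m (monomial (β.erase a) 1) :=
    map_mul _ _ _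
  rw [h1, ev_aeval_X, Sb_eval]
  have h2 : ev m (monomial (β.erase a) (1 : ℚ)) = ∏ i, (m i : ℚ) ^ (β.erase a) i := by
    unfold ev
    rw [eval_monomial, one_mul, Finsupp.prod_fintype]
    intro i
    exact pow_zero _
  rw [h2, Finset.sum_mul]
  refine Finset.sum_congr rfl fun t _ => ?_
  rw [prod_update]

theorem degree_erase_add (a : σ) (β : σ →₀ ℕ) :
    ((β.erase a).sum fun _ e => e) + β a = β.sum fun _ e => e := by
  by_cases h : a ∈ β.support
  · rw [add_comm]
    exact Finsupp.add_sum_erase β a (fun _ e => e) h
  · have h0 : β a = 0 := Finsupp.notMem_support_iff.mp h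
    rw [h0, add_zero, Finsupp.erase_of_notMem_support h]

theorem totalDegree_antiMono (a : σ) (β : σ →₀ ℕ) :
    (antiMono a β).totalDegree ≤ (β.sum fun _ e => e) + 1 := by
  unfold antiMono
  refine (totalDegree_mul _ _).trans ?_
  have h1 := (totalDegree_aeval_X_le (σ := σ) a (Sb (β a))).trans (Sb_natDegree (β a))
  have h2 : (monomial (β.erase a) (1 : ℚ)).totalDegree ≤ (β.erase a).sum fun _ e => e :=
    totalDegree_monomial_le _ _
  have h3 := degree_erase_add a β
  omega

/-! ### antiderivative of a polynomial -/

/-- the discrete antiderivative in the variable `a` -/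
noncomputable def anti (a : σ) (P : MvPolynomial σ ℚ) : MvPolynomial σ ℚ :=
  ∑ β ∈ P.support, C (coeff β P) * antiMono a β

theorem ev_anti (m : σ → ℕ) (a : σ) (P : MvPolynomial σ ℚ) :
    ev m (anti a P) = ∑ t ∈ range (m a), ev (Function.update m a t) P := by
  unfold anti
  rw [ev_sum]
  have h1 : ∀ β ∈ P.support, ev m (C (coeff β P) * antiMono a β) =
      ∑ t ∈ range (m a), coeff β P * ∏ i, ((Function.update m a t i : ℕ) : ℚ) ^ β i := by
    intro β _
    have : ev m (C (coeff β P) * antiMono a β) = ev m (C (coeff β P)) * ev m (antiMono a β) :=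
      map_mul _ _ _
    rw [this, ev_antiMono, Finset.mul_sum]
    unfold ev
    rw [eval_C]
  rw [Finset.sum_congr rfl h1, Finset.sum_comm]
  refine Finset.sum_congr rfl fun t _ => ?_
  rw [ev_eq]

theorem totalDegree_anti (a : σ) (P : MvPolynomial σ ℚ) :
    (anti a P).totalDegree ≤ P.totalDegree + 1 := by
  unfold anti
  refine totalDegree_finsetSum_le fun β hβ => ?_
  refine (totalDegree_mul _ _).trans ?_
  rw [totalDegree_C, zero_add]
  exact (totalDegree_antiMono a β).trans (Nat.add_le_add_right (le_totalDegree hβ) 1)

/-! ### setting a variable to zero -/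

/-- `P` with the variable `a` set to `0` -/
noncomputable def zeroAt (a : σ) (P : MvPolynomial σ ℚ) : MvPolynomial σ ℚ :=
  ∑ β ∈ P.support.filter (fun β => β a = 0), monomial β (coeff β P)

theorem ev_zeroAt (m : σ → ℕ) (a : σ) (P : MvPolynomial σ ℚ) :
    ev m (zeroAt a P) = ev (Function.update m a 0) P := by
  unfold zeroAt
  rw [ev_sum, ev_eq, Finset.sum_filter]
  refine Finset.sum_congr rfl fun β _ => ?_
  rw [prod_update]
  by_cases h : β a = 0
  · rw [if_pos h, h, pow_zero, one_mul]
    unfold ev
    rw [eval_monomial, Finsupp.prod_fintype _ _ (fun i => pow_zero _)]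
    congr 1
    refine Finset.prod_congr rfl fun i _ => ?_
    by_cases hia : i = a
    · subst hia
      rw [h, Finsupp.erase_same]
    · rw [Finsupp.erase_ne hia]
  · rw [if_neg h]
    push_cast
    rw [zero_pow h, zero_mul, mul_zero]

theorem totalDegree_zeroAt (a : σ) (P : MvPolynomial σ ℚ) :
    (zeroAt a P).totalDegree ≤ P.totalDegree := by
  unfold zeroAt
  refine totalDegree_finsetSum_le fun β hβ => ?_
  refine (totalDegree_monomial_le _ _).trans ?_
  exact le_totalDegree (Finset.mem_filter.mp hβ).1

/-! ### the main lemma -/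

theorem exists_of_differences_aux (g : (σ → ℕ) → ℚ) (r : ℕ)
    (D : σ → MvPolynomial σ ℚ) (hD : ∀ j, (D j).totalDegree ≤ r)
    (h : ∀ j m, g (m + Pi.single j 1) - g m = ev m (D j)) (s : Finset σ) :
    ∃ P : MvPolynomial σ ℚ, P.totalDegree ≤ r + 1 ∧
      ∀ m : σ → ℕ, (∀ i, i ∉ s → m i = 0) → g m = ev m P := by
  induction s using Finset.induction_on with
  | empty =>
    refine ⟨C (g 0), by rw [totalDegree_C]; exact Nat.zero_le _, fun m hm => ?_⟩
    have : m = 0 := funext fun i => hm i (Finset.notMem_empty i)
    rw [this]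
    unfold ev
    rw [eval_C]
  | insert a s ha ih =>
    obtain ⟨P, hP, hPs⟩ := ih
    refine ⟨zeroAt a P + anti a (D a), ?_, fun m hm => ?_⟩
    · refine (totalDegree_add _ _).trans (max_le ((totalDegree_zeroAt a P).trans hP) ?_)
      exact (totalDegree_anti a (D a)).trans (Nat.add_le_add_right (hD a) 1)
    · rw [ev_add, ev_zeroAt, ev_anti]
      have hm' : ∀ i, i ∉ s → Function.update m a 0 i = 0 := by
        intro i hi
        by_cases hia : i = a
        · subst hia
          exact Function.update_self _ _ _
        · rw [Function.update_of_ne hia]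
          exact hm i (fun hmem => (Finset.mem_insert.mp hmem).elim hia hi)
      rw [← hPs _ hm']
      have htel : ∀ t, ev (Function.update m a t) (D a) =
          g (Function.update m a (t + 1)) - g (Function.update m a t) := by
        intro t
        rw [← h a (Function.update m a t)]
        congr 2
        funext i
        by_cases hia : i = a
        · subst hia
          simp
        · simp [Function.update_of_ne hia, Pi.single_eq_of_ne hia]
      rw [Finset.sum_congr rfl (fun t _ => htel t), Finset.sum_range_sub (fun t => g (Function.update m a t)),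
        Function.update_eq_self]
      ring

theorem exists_of_differences {n : ℕ} (g : (Fin n → ℕ) → ℚ) (r : ℕ)
    (D : Fin n → MvPolynomial (Fin n) ℚ) (hD : ∀ j, (D j).totalDegree ≤ r)
    (h : ∀ j m, g (m + Pi.single j 1) - g m = MvPolynomial.eval (fun i => (m i : ℚ)) (D j)) :
    ∃ P : MvPolynomial (Fin n) ℚ, P.totalDegree ≤ r + 1 ∧
      ∀ m, g m = MvPolynomial.eval (fun i => (m i : ℚ)) P := by
  obtain ⟨P, hP, hPs⟩ := exists_of_differences_aux g r D hD h Finset.univ
  exact ⟨P, hP, fun m => hPs m fun i hi => absurd (Finset.mem_univ i) hi⟩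

/-- if all first differences vanish the function is constant -/
theorem exists_of_differences_zero {n : ℕ} (g : (Fin n → ℕ) → ℚ)
    (h : ∀ j m, g (m + Pi.single j 1) - g m = 0) :
    ∃ P : MvPolynomial (Fin n) ℚ, P.totalDegree = 0 ∧
      ∀ m, g m = MvPolynomial.eval (fun i => (m i : ℚ)) P := by
  obtain ⟨P, -, hPs⟩ := exists_of_differences_aux g 0 (fun _ => 0) (fun _ => by simp)
    (fun j m => by rw [h j m]; simp [ev]) (∅ : Finset (Fin n))
  -- direct: `g` is constant
  have hconst : ∀ (s : Finset (Fin n)) (m : Fin n → ℕ), (∀ i, i ∉ s → m i = 0) → g m = g 0 := by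
    intro s
    induction s using Finset.induction_on with
    | empty =>
      intro m hm
      have : m = 0 := funext fun i => hm i (Finset.notMem_empty i)
      rw [this]
    | insert a s ha ih =>
      intro m hm
      have key : ∀ t : ℕ, g (Function.update m a t) = g (Function.update m a 0) := by
        intro t
        induction t with
        | zero => rfl
        | succ t iht =>
          have := h a (Function.update m a t)
          have e : Function.update m a t + Pi.single a 1 = Function.update m a (t + 1) := by
            funext i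
            by_cases hia : i = a
            · subst hia
              simp
            · simp [Function.update_of_ne hia, Pi.single_eq_of_ne hia]
          rw [e] at this
          linarith
      have h1 := key (m a)
      rw [Function.update_eq_self] at h1
      rw [h1]
      apply ih
      intro i hi
      by_cases hia : i = a
      · subst hia
        exact Function.update_self _ _ _
      · rw [Function.update_of_ne hia]
        exact hm i (fun hmem => (Finset.mem_insert.mp hmem).elim hia hi)
  refine ⟨C (g 0), totalDegree_C _, fun m => ?_⟩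
  rw [eval_C]
  exact hconst Finset.univ m fun i hi => absurd (Finset.mem_univ i) hi

end Groth.Agent.Lib.NumPolyDiff
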