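/-
helper90: K3.S, Snapper's theorem (statement of S3230) from Grothendieck vanishing `VanHyp` and finiteness of coherent
cohomology `ProperFinHyp.Hyp` (= S0002): assembly of the abstract Snapper theorem (Lib/H90Snapper), the polynomial
lemma (lead, Lib/NumPolyDiff) and the Euler characteristic API (helper48, Lib/EulerLE48).
-/
import Mathlib
import Groth.Agent.Lib.H90Snapper
import Groth.Agent.Lib.NumPolyDiff
import Groth.Agent.Lib.EulerLE48

set_option autoImplicit false
set_option linter.style.haveILetI false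
universe u

open CategoryTheory CategoryTheory.Limits AlgebraicGeometry

namespace Groth.Agent.Lib.H90SnapperFin

open Groth.Agent.Lib.H90Snapper Groth.Agent.Lib.EulerLE48

/-- the polynomial lemma in the form used by the abstract Snapper theorem -/
theorem polyDiffHyp (n : ℕ) : PolyDiffHyp n := by
  intro g r D hD h
  rcases Nat.eq_zero_or_pos r with rfl | hr
  · have hD0 : ∀ j, D j = 0 := fun j => (hD j).resolve_right (Nat.not_lt_zero _)
    obtain ⟨P, hP, hPs⟩ := Groth.Agent.Lib.NumPolyDiff.exists_of_differences_zero g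
      (fun j m => by rw [h j m, hD0 j]; simp)
    exact ⟨P, hP.le, hPs⟩
  · obtain ⟨r', rfl⟩ : ∃ r', r = r' + 1 := ⟨r - 1, by omega⟩
    have hD' : ∀ j, (D j).totalDegree ≤ r' := fun j => by
      rcases hD j with h0 | hlt
      · rw [h0]; simp
      · omega
    exact Groth.Agent.Lib.NumPolyDiff.exists_of_differences g r' D hD' h

/-- **Snapper's theorem** (statement of S3230) from finiteness (S0002) and Grothendieck vanishing (S0458). -/
theorem snapper_of_hyps (H : ProperFinHyp.Hyp.{u}) (V : VanHyp.{u})
    (k : Type u) [Field k] (X : Scheme.{u}) [X.Over (Spec (CommRingCat.of k))]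
    [IsProper (X ↘ Spec (CommRingCat.of k))] (d : ℕ) (hd : topologicalKrullDim X ≤ d)
    {n : ℕ} (L : Fin n → X.Modules) (hL : ∀ i, PicF.IsInvertible (L i)) (F : X.Modules) (hF : Coh.IsCoh F)
    (r : ℕ) (hr : topologicalKrullDim (CohB1.support F) ≤ r) :
    ∃ P : MvPolynomial (Fin n) ℚ, P.totalDegree ≤ r ∧
      ∀ m : Fin n → ℕ, (FGA.eulerCharLE k X (CohB1.tensorMod (FGA.multiTwist L m) F) d : ℚ) =
        MvPolynomial.eval (fun i => (m i : ℚ)) P := by
  haveI : IsNoetherian X := Groth.Agent.Lib.EulerLE48.isNoetherian k X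
  exact snapper L hL (Q k X d L) (fun G G' e => Q_congr k X d L e)
    (fun S hS h1 h2 h3 m => Q_add k X H V d hd L hL S hS h1 h2 h3 m)
    (fun j G _ m => Q_tensor_single k X d L j G m) (polyDiffHyp n) F hF r hr

end Groth.Agent.Lib.H90SnapperFin
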