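import Groth.Agent.Lib.IntNumAlg13
import Groth.Agent.Lib.ModPullback
import Groth.Agent.Lib.H78Dual

/-!
# Intersection number calculus from Snapper's theorem (helper13, K3.N)

All in hypothesis form `HS : SnapperHyp` (verbatim S3230):
* `intNum_eq_zero_of_dim_lt` (= S3231): `dim Supp F < r ⇒ intNum (M_1..M_r) F = 0`;
* `intNum_cons_tensorMod` (= S3232): additivity in one entry;
* `eulerCharLE_tensorPow_eq_sum` (= S11753): `χ(L^m ⊗ F) = Σ_{i ≤ r} C(m+i-1, i) ∫ c_1(L)^i F`.
-/

set_option autoImplicit false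
universe u
open CategoryTheory CategoryTheory.Limits AlgebraicGeometry

namespace Groth.Agent.Lib.IntNumCalc13

open Groth.Agent.Lib.IsoCls13 Groth.Agent.Lib.IntNumAlg13 CohB1

variable {X : Scheme.{u}}

/-! ### Generalities -/

theorem subsingleton_HH_of_isZero {F : X.Modules} (hF : IsZero F) (i : ℕ) :
    Subsingleton (Coh.HH X F i) := by
  refine ⟨fun x y => ?_⟩
  have h0 : ∀ z : Coh.HH X F i, z = 0 := by
    intro z
    have h1 : (𝟙 F : F ⟶ F) = 0 := hF.eq_of_src _ _
    rw [← Groth.Agent.Lib.CohLES.map_id F i z, h1, Groth.Agent.Lib.CohLES.map_zero']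
  rw [h0 x, h0 y]

theorem eulerCharLE_eq_zero_of_support_eq_empty (k : Type u) [Field k]
    [X.Over (Spec (CommRingCat.of k))] (d : ℕ) {F : X.Modules} (h : CohB1.support F = ∅) :
    FGA.eulerCharLE k X F d = 0 := by
  have hz : IsZero F := by
    apply Groth.Agent.Lib.ModPullback.isZero_of_forall_subsingleton_stalk
    intro y
    by_contra hy
    have : y ∈ CohB1.support F := hy
    rw [h] at this
    exact this
  unfold FGA.eulerCharLE
  apply Finset.sum_eq_zero
  intro i _
  have := subsingleton_HH_of_isZero hz i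
  rw [Module.finrank_zero_of_subsingleton]
  simp

theorem eq_empty_of_topologicalKrullDim_lt_zero {T : Type*} [TopologicalSpace T] (S : Set T)
    (h : topologicalKrullDim S < ((0 : ℕ) : WithBot ℕ∞)) : S = ∅ := by
  by_contra hne
  obtain ⟨s, hs⟩ := Set.nonempty_iff_ne_empty.2 hne
  have : Nonempty (TopologicalSpace.IrreducibleCloseds S) :=
    ⟨⟨closure {⟨s, hs⟩}, isIrreducible_singleton.closure, isClosed_closure⟩⟩
  have h0 : (0 : WithBot ℕ∞) ≤ topologicalKrullDim S := by
    unfold topologicalKrullDim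
    exact Order.krullDim_nonneg
  exact absurd (lt_of_le_of_lt h0 h) (by simp)

theorem le_of_lt_succ_withBot {x : WithBot ℕ∞} {r : ℕ} (h : x < ((r + 1 : ℕ) : WithBot ℕ∞)) :
    x ≤ (r : WithBot ℕ∞) := by
  induction x using WithBot.recBotCoe with
  | bot => exact bot_le
  | coe y =>
    have h1 : y < ((r + 1 : ℕ) : ℕ∞) := by exact_mod_cast h
    have h2 : y ≤ (r : ℕ∞) := by
      have hy : y ≠ ⊤ := ne_top_of_lt h1
      lift y to ℕ using hy
      have : y < r + 1 := by exact_mod_cast h1
      exact_mod_cast Nat.lt_succ_iff.1 this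
    exact_mod_cast h2

section results

variable (HS : SnapperHyp.{u}) (k : Type u) [Field k] [X.Over (Spec (CommRingCat.of k))]
  [IsProper (X ↘ Spec (CommRingCat.of k))] (d : ℕ) (hd : topologicalKrullDim X ≤ d)

include HS hd in
/-- S3231 from Snapper. -/
theorem intNum_eq_zero_of_dim_lt {r : ℕ} (M : Fin r → X.Modules)
    (hM : ∀ i, PicF.IsInvertible (M i)) (F : X.Modules) (hF : Coh.IsCoh F)
    (hr : topologicalKrullDim (CohB1.support F) < r) : FGA.intNum k X d M F = 0 := by
  rw [intNum_eq_lin]
  cases r with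
  | zero =>
    have hemp := eq_empty_of_topologicalKrullDim_lt_zero _ hr
    rw [Finset.univ_eq_empty, Finset.prod_empty, one_mul, lin_br]
    exact eulerCharLE_eq_zero_of_support_eq_empty k d hemp
  | succ r' =>
    exact lin_prod_one_sub_mul_eq_zero HS k d hd M hM (Nat.lt_succ_self r')
      (br_mem_Small hF (le_of_lt_succ_withBot hr))

include HS hd in
/-- S3232 from Snapper. -/
theorem intNum_cons_tensorMod {r : ℕ} (M : Fin r → X.Modules) (hM : ∀ i, PicF.IsInvertible (M i))
    (A B : X.Modules) (hA : PicF.IsInvertible A) (hB : PicF.IsInvertible B)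
    (F : X.Modules) (hF : Coh.IsCoh F)
    (hr : topologicalKrullDim (CohB1.support F) ≤ (r + 1 : ℕ)) :
    FGA.intNum k X d (Fin.cons (CohB1.tensorMod A B) M) F =
      FGA.intNum k X d (Fin.cons A M) F + FGA.intNum k X d (Fin.cons B M) F := by
  have hcons : ∀ T : X.Modules, FGA.intNum k X d (Fin.cons T M) F =
      lin k d ((1 - br T) * ((∏ i, (1 - br (M i))) * br F)) := by
    intro T
    rw [intNum_eq_lin, Fin.prod_univ_succ]
    simp only [Fin.cons_zero, Fin.cons_succ]
    rw [mul_assoc]
  rw [hcons, hcons, hcons, ← map_add, br_tensorMod]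
  -- the vanishing mixed difference with `r + 2` bundles
  have hL : ∀ i, PicF.IsInvertible ((Fin.cons A (Fin.cons B M) : Fin (r + 1 + 1) → X.Modules) i) := by
    intro i
    refine Fin.cases ?_ (fun j => ?_) i
    · simpa using hA
    · refine Fin.cases ?_ (fun l => ?_) j
      · simpa using hB
      · simpa using hM l
  have hv := lin_prod_one_sub_mul_eq_zero HS k d hd
    (Fin.cons A (Fin.cons B M) : Fin (r + 1 + 1) → X.Modules) hL (Nat.lt_succ_self (r + 1))
    (br_mem_Small hF hr)
  rw [Fin.prod_univ_succ, Fin.prod_univ_succ] at hv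
  simp only [Fin.cons_zero, Fin.cons_succ] at hv
  have hid : (1 - br A * br B) * ((∏ i, (1 - br (M i))) * br F) =
      ((1 - br A) * ((∏ i, (1 - br (M i))) * br F) + (1 - br B) * ((∏ i, (1 - br (M i))) * br F)) -
        (1 - br A) * ((1 - br B) * ∏ i, (1 - br (M i))) * br F := by ring
  rw [hid, map_sub, hv, sub_zero]

end results

/-! ### The binomial expansion -/

section binom

variable {S : Type*} [CommRing S]

/-- `Σ_{i ≤ r} C(m+i-1, i) y^i` -/
noncomputable def T (y : S) (m r : ℕ) : S :=
  ∑ i ∈ Finset.range (r + 1), ((m + i - 1).choose i : S) * y ^ i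

theorem T_zero (y : S) (r : ℕ) : T y 0 r = 1 := by
  unfold T
  rw [Finset.sum_range_succ']
  have : ∀ i ∈ Finset.range r, (((0 + (i + 1) - 1).choose (i + 1) : ℕ) : S) * y ^ (i + 1) = 0 := by
    intro i _
    have : (0 + (i + 1) - 1).choose (i + 1) = 0 := Nat.choose_eq_zero_of_lt (by omega)
    rw [this]; simp
  rw [Finset.sum_eq_zero this]
  simp

theorem T_succ_mul (y : S) (m r : ℕ) :
    T y (m + 1) r * (1 - y) = T y m r - ((m + r).choose r : S) * y ^ (r + 1) := by
  induction r with
  | zero => simp [T]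
  | succ r ih =>
    have e1 : T y (m + 1) (r + 1) =
        T y (m + 1) r + ((m + 1 + (r + 1) - 1).choose (r + 1) : S) * y ^ (r + 1) := by
      unfold T; rw [Finset.sum_range_succ]
    have e2 : T y m (r + 1) = T y m r + ((m + (r + 1) - 1).choose (r + 1) : S) * y ^ (r + 1) := by
      unfold T; rw [Finset.sum_range_succ]
    rw [e1, e2, add_mul, ih]
    have hp : ((m + 1 + (r + 1) - 1).choose (r + 1) : S) =
        ((m + r).choose r : S) + ((m + (r + 1) - 1).choose (r + 1) : S) := by
      have : (m + 1 + (r + 1) - 1).choose (r + 1) = (m + r).choose r + (m + (r + 1) - 1).choose (r + 1) := by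
        have h1 : m + 1 + (r + 1) - 1 = (m + r) + 1 := by omega
        have h2 : m + (r + 1) - 1 = m + r := by omega
        rw [h1, h2, Nat.choose_succ_succ]
      rw [this]; push_cast; ring
    have hq : ((m + (r + 1)).choose (r + 1) : S) = ((m + 1 + (r + 1) - 1).choose (r + 1) : S) := by
      have : m + (r + 1) = m + 1 + (r + 1) - 1 := by omega
      rw [← this]
    rw [hq, hp]
    ring

/-- If `ℓ (1 - y) = 1` then `ℓ^m = T y m r + y^(r+1) w` with `w` in any subring containing `ℓ`. -/
theorem exists_pow_eq (W : Subring S) (l y : S) (hl : l ∈ W) (h : l * (1 - y) = 1) (r m : ℕ) :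
    ∃ w ∈ W, l ^ m = T y m r + y ^ (r + 1) * w := by
  induction m with
  | zero => exact ⟨0, W.zero_mem, by rw [T_zero]; ring⟩
  | succ m ih =>
    obtain ⟨w, hw, e⟩ := ih
    refine ⟨((m + r).choose r : S) * l + l * w,
      W.add_mem (W.mul_mem (natCast_mem W _) hl) (W.mul_mem hl hw), ?_⟩
    have h1 := T_succ_mul y m r
    have h2 : T y m r = T y (m + 1) r * (1 - y) + ((m + r).choose r : S) * y ^ (r + 1) := by
      rw [h1]; ring
    calc l ^ (m + 1) = l * l ^ m := pow_succ' l m
      _ = l * (T y (m + 1) r * (1 - y) + ((m + r).choose r : S) * y ^ (r + 1) + y ^ (r + 1) * w) := by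
        rw [e, ← h2]
      _ = (l * (1 - y)) * T y (m + 1) r +
          y ^ (r + 1) * (((m + r).choose r : S) * l + l * w) := by ring
      _ = _ := by rw [h, one_mul]

end binom

section S11753

variable (HS : SnapperHyp.{u}) (k : Type u) [Field k] [X.Over (Spec (CommRingCat.of k))]
  [IsProper (X ↘ Spec (CommRingCat.of k))] (d : ℕ) (hd : topologicalKrullDim X ≤ d)

/-- An inverse of an invertible module is invertible. -/
theorem isInvertible_of_tensor_iso {L M : X.Modules} (hL : PicF.IsInvertible L)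
    (hLM : Nonempty (CohB1.tensorMod L M ≅ Coh.structureModule X)) : PicF.IsInvertible M := by
  obtain ⟨M', hM', ⟨e'⟩⟩ := Groth.Agent.Lib.H78Dual.exists_tensor_inverse hL
  obtain ⟨e⟩ := hLM
  have h1 : cls M' * cls L = 1 := by rw [← cls_tensorMod]; exact cls_eq_of_iso e'
  have h2 : cls L * cls M = 1 := by rw [← cls_tensorMod]; exact cls_eq_of_iso e
  have h3 : cls M' = cls M := by
    calc cls M' = cls M' * (cls L * cls M) := by rw [h2, mul_one]
      _ = (cls M' * cls L) * cls M := by rw [mul_assoc]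
      _ = cls M := by rw [h1, one_mul]
  obtain ⟨i⟩ := cls_eq_iff.1 h3
  exact Groth.Agent.Lib.OXModRestrict.isInvertible_of_iso i hM'

/-- The subring of the group ring preserving `Small X r`. -/
noncomputable def Stab (X : Scheme.{u}) (r : ℕ) : Subring (R X) where
  carrier := {w | ∀ z ∈ Small X r, w * z ∈ Small X r}
  mul_mem' := fun {a b} ha hb z hz => by rw [mul_assoc]; exact ha _ (hb _ hz)
  one_mem' := fun z hz => by rw [one_mul]; exact hz
  add_mem' := fun {a b} ha hb z hz => by rw [add_mul]; exact add_mem (ha _ hz) (hb _ hz)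
  zero_mem' := fun z _ => by rw [zero_mul]; exact zero_mem _
  neg_mem' := fun {a} ha z hz => by rw [neg_mul]; exact neg_mem (ha _ hz)

include HS hd in
/-- S11753 from Snapper. -/
theorem eulerCharLE_tensorPow_eq_sum (L M : X.Modules) (hL : PicF.IsInvertible L)
    (hLM : Nonempty (CohB1.tensorMod L M ≅ Coh.structureModule X))
    (F : X.Modules) (hF : Coh.IsCoh F) (r : ℕ)
    (hr : topologicalKrullDim (CohB1.support F) ≤ r) (m : ℕ) :
    FGA.eulerCharLE k X (CohB1.tensorMod (CohB1.tensorPow L m) F) d =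
      (Finset.range (r + 1)).sum (fun i => ((m + i - 1).choose i : ℤ) *
        FGA.intNum k X d (fun _ : Fin i => M) F) := by
  have hM : PicF.IsInvertible M := isInvertible_of_tensor_iso hL hLM
  obtain ⟨e⟩ := hLM
  have hlm : br L * (1 - (1 - br M)) = 1 := by
    rw [sub_sub_cancel, ← br_tensorMod, br_eq_of_iso e, br_structureModule]
  have hlW : br L ∈ Stab X r := fun z hz => Small.of_mul hL hz
  obtain ⟨w, hw, hpow⟩ := exists_pow_eq (Stab X r) (br L) (1 - br M) hlW hlm r m
  rw [← lin_br, br_tensorMod, br_tensorPow, hpow, add_mul, map_add]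
  have hvan : lin k d ((1 - br M) ^ (r + 1) * w * br F) = 0 := by
    have := lin_prod_one_sub_mul_eq_zero HS k d hd (fun _ : Fin (r + 1) => M) (fun _ => hM)
      (Nat.lt_succ_self r) (hw _ (br_mem_Small hF hr))
    rw [Finset.prod_const, Finset.card_univ, Fintype.card_fin] at this
    rw [mul_assoc]; exact this
  rw [hvan, add_zero]
  unfold T
  rw [Finset.sum_mul, map_sum]
  apply Finset.sum_congr rfl
  intro i _
  rw [intNum_eq_lin, Finset.prod_const, Finset.card_univ, Fintype.card_fin]
  have : ((m + i - 1).choose i : R X) * (1 - br M) ^ i * br F =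
      ((m + i - 1).choose i : ℤ) • ((1 - br M) ^ i * br F) := by
    rw [zsmul_eq_mul]; push_cast; ring
  rw [this, map_zsmul, smul_eq_mul]

end S11753

end Groth.Agent.Lib.IntNumCalc13
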