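import Groth.Agent.Lib.HilbPoly48b
import Groth.Agent.Lib.H90SnapperFin
import Groth.Agent.Lib.IntNumCalc13

/-!
# Hilbert polynomials, part 3 (helper48): existence and degree bound (Snapper for `Curv2.euler`)

`X` proper over a field `k`, `H : ProperFinHyp.Hyp` (= S0002).  No Grothendieck vanishing and no bound on `dim X` is
needed here, because `Curv2.euler` is the full alternating sum.

* `Qc k X L G m := χ(L^m ⊗ G)` (`χ = Curv2.euler`), `Qc_congr`, `Qc_add H`, `Qc_tensor_single`.
* `snapperC H` : Snapper's theorem for `Curv2.euler`.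
* `exists_isHilbPoly H` : for `L` invertible, `E` coherent with `dim Supp E ≤ r` there is a Hilbert polynomial of degree `≤ r`.
* `natDegree_le_of_isHilbPoly H`, `alpha_eq_zero_of_dim_lt H`, `alpha_eq_zero_of_natDegree_lt`.
-/

set_option autoImplicit false
set_option linter.style.haveILetI false
universe u
open CategoryTheory CategoryTheory.Limits AlgebraicGeometry Polynomial

namespace Groth.Agent.Lib.HilbPoly48

open Groth.Agent.Lib

section Classes

variable (k : Type u) [Field k] (X : Scheme.{u}) [X.Over (Spec (CommRingCat.of k))]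

/-- `Curv2.euler` on isomorphism classes. -/
noncomputable def chiC : IsoCls13.Cls X → ℤ :=
  Quotient.lift (fun F => Curv2.euler k X F) (fun _ _ e => ParHilb48.euler_congr k X e.some)

theorem chiC_cls (F : X.Modules) : chiC k X (IsoCls13.cls F) = Curv2.euler k X F := rfl

/-- The Snapper function `m ↦ χ(L^m ⊗ G)` for the full Euler characteristic. -/
noncomputable def Qc {n : ℕ} (L : Fin n → X.Modules) (G : X.Modules) (m : Fin n → ℕ) : ℤ :=
  Curv2.euler k X (CohB1.tensorMod (FGA.multiTwist L m) G)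

theorem Qc_congr {n : ℕ} (L : Fin n → X.Modules) {G G' : X.Modules} (e : Nonempty (G ≅ G')) :
    Qc k X L G = Qc k X L G' := by
  funext m
  unfold Qc
  rw [← chiC_cls, ← chiC_cls, IsoCls13.cls_tensorMod, IsoCls13.cls_tensorMod,
    IsoCls13.cls_eq_iff.2 e]

theorem Qc_tensor_single {n : ℕ} (L : Fin n → X.Modules) (j : Fin n) (G : X.Modules)
    (m : Fin n → ℕ) :
    Qc k X L (CohB1.tensorMod G (L j)) m = Qc k X L G (m + Pi.single j 1) := by
  unfold Qc
  rw [← chiC_cls, ← chiC_cls, IsoCls13.cls_tensorMod, IsoCls13.cls_tensorMod,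
    IsoCls13.cls_tensorMod, IsoCls13.cls_multiTwist, IsoCls13.cls_multiTwist]
  congr 1
  have h : ∏ i, IsoCls13.cls (L i) ^ (m + Pi.single j 1 : Fin n → ℕ) i =
      (∏ i, IsoCls13.cls (L i) ^ m i) * IsoCls13.cls (L j) := by
    simp only [Pi.add_apply, pow_add, Finset.prod_mul_distrib]
    congr 1
    rw [Finset.prod_eq_single j]
    · rw [Pi.single_eq_same, pow_one]
    · intro i _ hi
      rw [Pi.single_eq_of_ne hi, pow_zero]
    · intro hj
      exact absurd (Finset.mem_univ j) hj
  rw [h, mul_assoc, mul_comm (IsoCls13.cls G)]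

variable [IsProper (X ↘ Spec (CommRingCat.of k))] (H : ProperFinHyp.Hyp.{u})

include H in
theorem Qc_add {n : ℕ} (L : Fin n → X.Modules)
    (hL : ∀ i, PicF.IsInvertible (L i)) (S : ShortComplex X.Modules)
    (hS : S.ShortExact) (h₁ : Coh.IsCoh S.X₁) (h₂ : Coh.IsCoh S.X₂) (h₃ : Coh.IsCoh S.X₃)
    (m : Fin n → ℕ) :
    Qc k X L S.X₂ m = Qc k X L S.X₁ m + Qc k X L S.X₃ m := by
  have := ParHilb48.isLocallyNoetherian k X
  have hT := EulerLE48.isInvertible_multiTwist L hL m
  obtain ⟨T', _, ⟨e⟩⟩ := H78Dual.exists_tensor_inverse hT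
  have e' : CohB1.tensorMod (FGA.multiTwist L m) T' ≅ Coh.structureModule X :=
    OXModTensor.braiding _ _ ≪≫ e
  have hS' := TwistEquiv.shortExact_map_tensorLeft e' hS
  have hTc : Coh.IsCoh (FGA.multiTwist L m) := H90Invertible.isCoh_of_isInvertible hT
  have c₁ : Coh.IsCoh (CohB1.tensorMod (FGA.multiTwist L m) S.X₁) :=
    CohFinAmple.isCoh_tensorMod hTc h₁
  have c₂ : Coh.IsCoh (CohB1.tensorMod (FGA.multiTwist L m) S.X₂) :=
    CohFinAmple.isCoh_tensorMod hTc h₂
  have c₃ : Coh.IsCoh (CohB1.tensorMod (FGA.multiTwist L m) S.X₃) :=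
    CohFinAmple.isCoh_tensorMod hTc h₃
  exact EulerChar54.euler_add H k X (S.map (OXModTensor.tensorLeftFunctor (FGA.multiTwist L m)))
    hS' c₁ c₂ c₃

include H in
/-- **Snapper's theorem** for the full Euler characteristic `Curv2.euler`. -/
theorem snapperC {n : ℕ} (L : Fin n → X.Modules) (hL : ∀ i, PicF.IsInvertible (L i))
    (F : X.Modules) (hF : Coh.IsCoh F) (r : ℕ) (hr : topologicalKrullDim (CohB1.support F) ≤ r) :
    ∃ P : MvPolynomial (Fin n) ℚ, P.totalDegree ≤ r ∧
      ∀ m : Fin n → ℕ, (Curv2.euler k X (CohB1.tensorMod (FGA.multiTwist L m) F) : ℚ) =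
        MvPolynomial.eval (fun i => (m i : ℚ)) P := by
  haveI : IsNoetherian X := EulerLE48.isNoetherian k X
  exact H90Snapper.snapper L hL (Qc k X L) (fun G G' e => Qc_congr k X L e)
    (fun S hS h1 h2 h3 m => Qc_add k X H L hL S hS h1 h2 h3 m)
    (fun j G _ m => Qc_tensor_single k X L j G m) (H90SnapperFin.polyDiffHyp n) F hF r hr

include H in
/-- **Existence of Hilbert polynomials**, with the degree bound `deg ≤ dim Supp`. -/
theorem exists_isHilbPoly {L : X.Modules} (hL : PicF.IsInvertible L) {E : X.Modules} (hE : Coh.IsCoh E)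
    (r : ℕ) (hr : topologicalKrullDim (CohB1.support E) ≤ r) :
    ∃ P : ℚ[X], P.natDegree ≤ r ∧ ShStab.IsHilbPoly k X L E P := by
  obtain ⟨P, hdeg, hP⟩ := snapperC k X H (fun _ : Fin 1 => L) (fun _ => hL) E hE r hr
  refine ⟨MvPolynomial.aeval (fun _ : Fin 1 => (Polynomial.X : ℚ[X])) P, ?_, fun m => ?_⟩
  · have := MvPolynomial.aeval_natDegree_le P hdeg (fun _ : Fin 1 => (Polynomial.X : ℚ[X]))
      (n := 1) (fun _ => Polynomial.natDegree_X_le)
    simpa using this
  · have h1 : Curv2.euler k X (ShStab.twist X L E m) =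
        Curv2.euler k X (CohB1.tensorMod (FGA.multiTwist (fun _ : Fin 1 => L) (fun _ => m)) E) := by
      unfold ShStab.twist
      rw [← chiC_cls, ← chiC_cls, IsoCls13.cls_tensorMod, IsoCls13.cls_tensorMod,
        IsoCls13.cls_multiTwist, IsoCls13.cls_tensorPow, mul_comm]
      simp
    rw [h1, hP (fun _ => m)]
    have h2 : Polynomial.eval (m : ℚ) (MvPolynomial.aeval (fun _ : Fin 1 => (Polynomial.X : ℚ[X])) P) =
        MvPolynomial.eval (fun _ : Fin 1 => (m : ℚ)) P := by
      have := MvPolynomial.eval₂_comp_left (Polynomial.evalRingHom (m : ℚ))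
        (algebraMap ℚ ℚ[X]) (fun _ : Fin 1 => (Polynomial.X : ℚ[X])) P
      rw [MvPolynomial.aeval_def]
      refine this.trans ?_
      rw [MvPolynomial.eval, MvPolynomial.eval₂Hom]
      change _ = MvPolynomial.eval₂ (RingHom.id ℚ) _ P
      congr 1
      · ext q; simp
      · funext i; simp
    exact h2.symm

include H in
/-- Any Hilbert polynomial has degree `≤ dim Supp`. -/
theorem natDegree_le_of_isHilbPoly {L : X.Modules} (hL : PicF.IsInvertible L) {E : X.Modules}
    (hE : Coh.IsCoh E) (r : ℕ) (hr : topologicalKrullDim (CohB1.support E) ≤ r) {P : ℚ[X]}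
    (hP : ShStab.IsHilbPoly k X L E P) : P.natDegree ≤ r := by
  obtain ⟨P', hdeg, hP'⟩ := exists_isHilbPoly k X H hL hE r hr
  rw [isHilbPoly_unique hP hP']
  exact hdeg

theorem alpha_eq_zero_of_natDegree_lt {d : ℕ} {P : ℚ[X]} (h : P.natDegree < d) :
    StabCat.alpha d P = 0 := by
  unfold StabCat.alpha
  rw [Polynomial.coeff_eq_zero_of_natDegree_lt h, mul_zero]

include H in
/-- The multiplicity in dimension `d` vanishes when `dim Supp E < d`. -/
theorem alpha_eq_zero_of_dim_lt {L : X.Modules} (hL : PicF.IsInvertible L) {E : X.Modules}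
    (hE : Coh.IsCoh E) (d : ℕ) (hd : topologicalKrullDim (CohB1.support E) < (d : WithBot ℕ∞))
    {P : ℚ[X]} (hP : ShStab.IsHilbPoly k X L E P) : StabCat.alpha d P = 0 := by
  rcases Nat.eq_zero_or_pos d with rfl | hpos
  · -- empty support: `E = 0`
    have hemp : CohB1.support E = ∅ := IntNumCalc13.eq_empty_of_topologicalKrullDim_lt_zero _ hd
    have hz : IsZero E := by
      apply ModPullback.isZero_of_forall_subsingleton_stalk
      intro y
      by_contra hy
      have : y ∈ CohB1.support E := hy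
      rw [hemp] at this
      exact this
    rw [isHilbPoly_unique hP (isHilbPoly_zero k X L hz)]
    simp [StabCat.alpha]
  · obtain ⟨d', rfl⟩ : ∃ d', d = d' + 1 := ⟨d - 1, by omega⟩
    have hle : topologicalKrullDim (CohB1.support E) ≤ (d' : WithBot ℕ∞) := by
      generalize topologicalKrullDim (CohB1.support E) = x at hd
      induction x using WithBot.recBotCoe with
      | bot => exact bot_le
      | coe x =>
        induction x using ENat.recTopCoe with
        | top =>
          exfalso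
          have : ((⊤ : ℕ∞) : WithBot ℕ∞) < (((d' + 1 : ℕ) : ℕ∞) : WithBot ℕ∞) := hd
          rw [WithBot.coe_lt_coe] at this
          exact absurd this (by simp)
        | coe x =>
          have h1 : (((x : ℕ) : ℕ∞) : WithBot ℕ∞) < (((d' + 1 : ℕ) : ℕ∞) : WithBot ℕ∞) := hd
          rw [WithBot.coe_lt_coe, Nat.cast_lt] at h1
          have h2 : x ≤ d' := by omega
          change (((x : ℕ) : ℕ∞) : WithBot ℕ∞) ≤ (((d' : ℕ) : ℕ∞) : WithBot ℕ∞)
          rw [WithBot.coe_le_coe, Nat.cast_le]
          exact h2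
    exact alpha_eq_zero_of_natDegree_lt
      (lt_of_le_of_lt (natDegree_le_of_isHilbPoly k X H hL hE d' hle hP) (Nat.lt_succ_self d'))

end Classes

end Groth.Agent.Lib.HilbPoly48
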