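import Groth.Agent.Lib.HilbPos48b
import Groth.Agent.Lib.EulerLE48

/-!
# Positivity of the leading coefficient of Hilbert polynomials, part c (helper48): the theorem

`X` proper over a field `k`, `L` ample, `E` coherent with `dim Supp E = d`, `P` the Hilbert polynomial of `E`
w.r.t. `L`.  Then `0 < P.coeff d`, i.e. `0 < StabCat.alpha d P` (`alpha_pos`).

Only hypothesis: `H : ProperFinHyp.Hyp` (finiteness of coherent cohomology, discharged by `S0002`).
-/

set_option autoImplicit false
set_option linter.style.haveILetI false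
universe u
open CategoryTheory CategoryTheory.Limits AlgebraicGeometry TopologicalSpace Polynomial

namespace Groth.Agent.Lib.HilbPoly48

open Groth.Agent.Lib Groth.Agent.Lib.PosPoly48 Groth.Agent.Lib.H90DevCanon Groth.Agent.Lib.H90DevHub
  Groth.Agent.Lib.H90DevHub2 Groth.Agent.Lib.H90DevAtom Groth.Agent.Lib.H90DevFilt
  Groth.Agent.Lib.H90DevFiltP

section General

variable {X : Scheme.{u}}

theorem support_eq_empty_of_isZero {E : X.Modules} (hz : IsZero E) : CohB1.support E = ∅ := by
  ext x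
  simp only [Set.mem_empty_iff_false, iff_false]
  rw [notMem_support_iff]
  exact subsingleton_stalk_of_isZero hz x

theorem not_isZero_of_dim_eq {E : X.Modules} {d : ℕ}
    (hd : topologicalKrullDim (CohB1.support E) = (d : WithBot ℕ∞)) : ¬ IsZero E := by
  intro hz
  rw [support_eq_empty_of_isZero hz] at hd
  have h1 : topologicalKrullDim ((∅ : Set X) : Type u) = ⊥ := by
    unfold topologicalKrullDim
    rw [Order.krullDim_eq_bot_iff]
    exact ⟨fun c => c.isIrreducible.nonempty.some.2⟩
  rw [h1] at hd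
  exact absurd hd (by simp)

/-- `x ≤ d + 1` and `x ≠ d + 1` in `WithBot ℕ∞` give `x < d + 1`. -/
theorem lt_of_le_of_ne' {x : WithBot ℕ∞} {d : ℕ} (h : x ≤ ((d + 1 : ℕ) : WithBot ℕ∞))
    (hne : x ≠ ((d + 1 : ℕ) : WithBot ℕ∞)) : x < ((d + 1 : ℕ) : WithBot ℕ∞) :=
  lt_of_le_of_ne h hne

end General

section Proper

variable (H : ProperFinHyp.Hyp.{u})
variable (k : Type u) [Field k] (X : Scheme.{u}) [X.Over (Spec (CommRingCat.of k))]
  [IsProper (X ↘ Spec (CommRingCat.of k))]

/-- Positivity of the `d`-th coefficient of the Hilbert polynomial for all coherent modules with support of dimension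
exactly `d`. -/
def PosAt (L : X.Modules) (d : ℕ) : Prop :=
  ∀ E : X.Modules, Coh.IsCoh E → topologicalKrullDim (CohB1.support E) = (d : WithBot ℕ∞) →
    ∀ P : ℚ[X], ShStab.IsHilbPoly k X L E P → 0 < P.coeff d

include H in
theorem coeff_eq_zero_of_dim_lt {L : X.Modules} (hL : PicF.IsInvertible L) {E : X.Modules}
    (hE : Coh.IsCoh E) (d : ℕ) (hd : topologicalKrullDim (CohB1.support E) < (d : WithBot ℕ∞))
    {P : ℚ[X]} (hP : ShStab.IsHilbPoly k X L E P) : P.coeff d = 0 := by
  have h := alpha_eq_zero_of_dim_lt k X H hL hE d hd hP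
  unfold StabCat.alpha at h
  rcases mul_eq_zero.mp h with h | h
  · exact absurd h (by exact_mod_cast d.factorial_ne_zero)
  · exact h

include H in
theorem posAt_zero {L : X.Modules} (hL : CohB1.IsAmple L) : PosAt k X L 0 := by
  intro E hE hd P hP
  have hne : ¬ IsZero E := not_isZero_of_dim_eq hd
  exact coeff_zero_pos_of_polyLT_zero (natDegree_le_of_isHilbPoly k X H hL.1 hE 0 hd.le hP)
    (polyLT_zero H k X hL hE hne hP)

include H in
/-- Positivity for `i_* O_Z`, `Z` irreducible of dimension `d + 1`, from positivity in dimension `d`. -/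
theorem hub_pos {L : X.Modules} (hL : CohB1.IsAmple L) {d : ℕ} (IH : PosAt k X L d)
    (Zc : Closeds X) (hirr : IsIrreducible (Zc : Set X))
    (hd : topologicalKrullDim (Zc : Set X) = ((d + 1 : ℕ) : WithBot ℕ∞)) {P : ℚ[X]}
    (hP : ShStab.IsHilbPoly k X L (hub Zc) P) : 0 < P.coeff (d + 1) := by
  haveI := EulerLE48.isNoetherian k X
  obtain ⟨W, hWc, hWirr, hWZ, hWne, hWd⟩ :=
    DimChain48.exists_irreducible_closed_dim_pred Zc.isClosed hirr hd
  let Wc : Closeds X := ⟨W, hWc⟩
  obtain ⟨S, n, φ, hS, hS2, hS1, hS3, hsupp, hφ⟩ := exists_mono_hub_twist hL Zc Wc hirr hWZ hWne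
  haveI := hφ
  have hc2 : Coh.IsCoh S.X₂ := hS2 ▸ isCoh_hub Zc
  have hP2 : ShStab.IsHilbPoly k X L S.X₂ P := hS2 ▸ hP
  have hdim3 : topologicalKrullDim (CohB1.support S.X₃) = (d : WithBot ℕ∞) := by
    rw [hsupp]; exact hWd
  obtain ⟨PR, hPRdeg, hPR⟩ := exists_isHilbPoly k X H hL.1 hS3 d hdim3.le
  have hPRpos : 0 < PR.coeff d := IH S.X₃ hS3 hdim3 PR hPR
  have hPJ := isHilbPoly_sub_right H k X hL.1 S hS hS1 hc2 hS3 hP2 hPR
  have hPJn := isHilbPoly_twist hPJ n
  have hLc : Coh.IsCoh (CohB1.tensorPow L n) :=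
    H90Invertible.isCoh_of_isInvertible (H78TensorGen.isInvertible_tensorPow hL.1 n)
  have hJn : Coh.IsCoh (ShStab.twist X L S.X₁ n) := CohFinAmple.isCoh_tensorMod hS1 hLc
  have hle : StabCat.PolyLE P (shift (P - PR) n) :=
    polyLE_of_mono H k X hL φ (isCoh_hub Zc) hJn hP hPJn
  have hdegP : P.natDegree ≤ d + 1 := by
    refine natDegree_le_of_isHilbPoly k X H hL.1 (isCoh_hub Zc) (d + 1) ?_ hP
    rw [support_hub Zc hirr, hd]
  refine pos_step n hdegP hPRdeg hPRpos ?_
  obtain ⟨N, hN⟩ := hle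
  refine ⟨N, fun m hm => ?_⟩
  have := hN m hm
  rw [shift_sub, eval_sub] at this
  rw [eval_sub]
  linarith

include H in
theorem posAt_succ_aux {L : X.Modules} (hL : CohB1.IsAmple L) {d : ℕ} (IH : PosAt k X L d)
    {E : X.Modules} (hfilt : Filt IsAtomC' E) :
    Coh.IsCoh E → topologicalKrullDim (CohB1.support E) = ((d + 1 : ℕ) : WithBot ℕ∞) →
      ∀ P : ℚ[X], ShStab.IsHilbPoly k X L E P → 0 < P.coeff (d + 1) := by
  haveI := EulerLE48.isNoetherian k X
  induction hfilt with
  | zero M hz => intro _ hd; exact absurd hz (not_isZero_of_dim_eq hd)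
  | step A B f hf hA hAc hB hat ih =>
    intro _ hd P hP
    haveI := hf
    haveI : A.IsQuasicoherent := hAc.1
    obtain ⟨Zc, hat⟩ := hat
    have hcC : Coh.IsCoh (cokernel f) := H90OXModExact.isCoh_cokernel f hB
    have hsA : CohB1.support A ⊆ CohB1.support B := support_subset_of_mono f
    have hsC : CohB1.support (cokernel f) ⊆ CohB1.support B := support_subset_of_epi (cokernel.π f)
    have hdA : topologicalKrullDim (CohB1.support A) ≤ ((d + 1 : ℕ) : WithBot ℕ∞) :=
      (DimDrop.topologicalKrullDim_mono hsA).trans hd.le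
    have hdC : topologicalKrullDim (CohB1.support (cokernel f)) ≤ ((d + 1 : ℕ) : WithBot ℕ∞) :=
      (DimDrop.topologicalKrullDim_mono hsC).trans hd.le
    obtain ⟨PA, hPAdeg, hPA⟩ := exists_isHilbPoly k X H hL.1 hAc (d + 1) hdA
    obtain ⟨PC, hPCdeg, hPC⟩ := exists_isHilbPoly k X H hL.1 hcC (d + 1) hdC
    have hadd := isHilbPoly_add H k X hL.1 _ (H90DevTwo.shortExact_cokernel f) hAc hB hcC hPA hPC
    have hPeq : P = PA + PC := isHilbPoly_unique hP hadd
    have hA0 : 0 ≤ PA.coeff (d + 1) := coeff_nonneg H k X hL hAc (d + 1) hdA hPA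
    have hC0 : 0 ≤ PC.coeff (d + 1) := coeff_nonneg H k X hL hcC (d + 1) hdC hPC
    rw [hPeq, coeff_add]
    by_cases hA1 : topologicalKrullDim (CohB1.support A) = ((d + 1 : ℕ) : WithBot ℕ∞)
    · have := ih hAc hA1 PA hPA
      linarith
    · by_cases hZ1 : topologicalKrullDim (Zc : Set X) = ((d + 1 : ℕ) : WithBot ℕ∞)
      · obtain ⟨p, hp⟩ := exists_mono_hub hat
        haveI := hp
        haveI : (cokernel f).IsQuasicoherent := hcC.1
        have hdrop := H90SnapGeom.dim_support_cokernel_hub hat.1 p (not_isZero_of_isAtom hat.isAtom)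
        have hcK : Coh.IsCoh (cokernel p) := H90OXModExact.isCoh_cokernel p (isCoh_hub Zc)
        have hlt : topologicalKrullDim (CohB1.support (cokernel p)) < ((d + 1 : ℕ) : WithBot ℕ∞) := by
          rw [hZ1] at hdrop
          exact lt_of_le_of_lt (H90Snapper.le_of_add_one_le_succ hdrop)
            (by exact_mod_cast Nat.lt_succ_self d)
        obtain ⟨PH, hPHdeg, hPH⟩ := exists_isHilbPoly k X H hL.1 (isCoh_hub Zc) (d + 1)
          (by rw [support_hub Zc hat.1]; exact hZ1.le)
        have hPK := isHilbPoly_sub_left H k X hL.1 _ (H90DevTwo.shortExact_cokernel p) hcC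
          (isCoh_hub Zc) hcK hPC hPH
        have hK0 := coeff_eq_zero_of_dim_lt H k X hL.1 hcK (d + 1) hlt hPK
        have hHpos := hub_pos H k X hL IH Zc hat.1 hZ1 hPH
        rw [coeff_sub] at hK0
        linarith
      · exfalso
        have hZle : (Zc : Set X) ⊆ CohB1.support B :=
          atomC_subset_of_support_subset hat (ModStalk.isClosed_support_of_isFT _ hB.2) hsC
        have hdZ : topologicalKrullDim (Zc : Set X) ≤ ((d + 1 : ℕ) : WithBot ℕ∞) :=
          (DimDrop.topologicalKrullDim_mono hZle).trans hd.le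
        have h1 := lt_of_le_of_ne hdA hA1
        have h2 := lt_of_le_of_ne hdZ hZ1
        have h3 := DimChain48.dim_lt_of_subset_union (S := CohB1.support B)
          (ModStalk.isClosed_support_of_isFT _ hAc.2) Zc.isClosed
          ((support_subset_union X f).trans
            (Set.union_subset_union_right _ (support_atomC_subset hat))) h1 h2
        rw [hd] at h3
        exact lt_irrefl _ h3

include H in
theorem posAt_succ {L : X.Modules} (hL : CohB1.IsAmple L) {d : ℕ} (IH : PosAt k X L d) :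
    PosAt k X L (d + 1) := by
  haveI := EulerLE48.isNoetherian k X
  intro E hE hd P hP
  exact posAt_succ_aux H k X hL IH (filt_atomC_of_isCoh hE) hE hd P hP

include H in
theorem posAt {L : X.Modules} (hL : CohB1.IsAmple L) : ∀ d : ℕ, PosAt k X L d
  | 0 => posAt_zero H k X hL
  | d + 1 => posAt_succ H k X hL (posAt hL d)

include H in
/-- **Positivity of the leading coefficient of the Hilbert polynomial.** -/
theorem coeff_pos {L : X.Modules} (hL : CohB1.IsAmple L) {E : X.Modules} (hE : Coh.IsCoh E) (d : ℕ)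
    (hd : topologicalKrullDim (CohB1.support E) = (d : WithBot ℕ∞)) {P : ℚ[X]}
    (hP : ShStab.IsHilbPoly k X L E P) : 0 < P.coeff d :=
  posAt H k X hL d E hE hd P hP

include H in
/-- **Positivity of the multiplicity** `α_d(E) > 0` when `dim Supp E = d`. -/
theorem alpha_pos {L : X.Modules} (hL : CohB1.IsAmple L) {E : X.Modules} (hE : Coh.IsCoh E) (d : ℕ)
    (hd : topologicalKrullDim (CohB1.support E) = (d : WithBot ℕ∞)) {P : ℚ[X]}
    (hP : ShStab.IsHilbPoly k X L E P) : 0 < StabCat.alpha d P := by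
  unfold StabCat.alpha
  exact mul_pos (by exact_mod_cast d.factorial_pos) (coeff_pos H k X hL hE d hd hP)

end Proper

end Groth.Agent.Lib.HilbPoly48
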