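import Groth.Agent.Lib.SnapCoeff13
import Groth.Agent.Lib.HilbPos48c
import Groth.Agent.Lib.HilbPoly48b
import Groth.Agent.Lib.HilbPoly48c
import Groth.Agent.Lib.FreeModStalk
import Mathlib.Algebra.Group.ForwardDiff
import Mathlib.Data.Nat.Choose.Sum

/-!
# Asymptotic Riemann–Roch for an ample invertible module (helper13)

* `sum_card_eval` : `Σ_{I ⊆ Fin d} (-1)^{|I|} p(|I|) = (-1)^d d! p_d` for `p : ℚ[X]` of degree `≤ d`.
* `exists_bound` : if `p(n) = h n` for `n ≥ N` then `|h n - p_d n^d| ≤ C (n+1)^(d-1)`.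
* `support_structureModule`, `dim_support_structureModule`.
* `coeff_ones_eq_factorial_mul` : the coefficient of `n_1 ⋯ n_d` in the Snapper polynomial of `(L, …, L)` is `d!` times the
  `d`-th coefficient of the Hilbert polynomial.
* `asymptotic_rr` : the statement of S7649.
-/

set_option autoImplicit false
universe u
open CategoryTheory CategoryTheory.Limits AlgebraicGeometry

namespace Groth.Agent.Lib.AmpleVol13

open Groth.Agent.Lib Groth.Agent.Lib.IsoCls13 CohB1
open Groth.Agent.Lib.MixedDiff13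

section Algebra

open Polynomial Finset

/-- the `d`-th forward difference at `0` of a polynomial of degree `≤ d` -/
theorem fwdDiff_iter_eval_zero (p : ℚ[X]) (d : ℕ) (hp : p.natDegree ≤ d) :
    (fwdDiff (1 : ℚ))^[d] p.eval 0 = (d.factorial : ℚ) * p.coeff d := by
  rcases hp.lt_or_eq with h | h
  · rw [Polynomial.fwdDiff_iter_eq_zero_of_degree_lt h, Polynomial.coeff_eq_zero_of_natDegree_lt h]
    simp
  · subst h
    rw [Polynomial.fwdDiff_iter_degree_eq_factorial]
    simp only [Pi.smul_apply, Pi.natCast_apply, smul_eq_mul, Polynomial.leadingCoeff]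
    ring

theorem sum_card_eval (p : ℚ[X]) (d : ℕ) (hp : p.natDegree ≤ d) :
    ∑ I : Finset (Fin d), (-1 : ℚ) ^ I.card * p.eval (I.card : ℚ) =
      (-1) ^ d * ((d.factorial : ℚ) * p.coeff d) := by
  have h1 := Finset.sum_powerset_apply_card (α := ℚ) (fun j => (-1 : ℚ) ^ j * p.eval (j : ℚ))
    (x := (Finset.univ : Finset (Fin d)))
  rw [Finset.powerset_univ, Finset.card_univ, Fintype.card_fin] at h1
  rw [h1, ← fwdDiff_iter_eval_zero p d hp, fwdDiff_iter_eq_sum_shift, Finset.mul_sum]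
  refine Finset.sum_congr rfl fun j hj => ?_
  have hj' : j ≤ d := Nat.lt_succ_iff.1 (Finset.mem_range.1 hj)
  have hpow : (-1 : ℚ) ^ d * (-1) ^ (d - j) = (-1) ^ j := by
    rw [← pow_add]
    have : d + (d - j) = j + 2 * (d - j) := by omega
    rw [this, pow_add, pow_mul]; simp
  simp only [zsmul_eq_mul, nsmul_eq_mul, zero_add, mul_one]
  push_cast
  rw [← hpow]
  ring

theorem abs_eval_sub_le (p : ℚ[X]) (d : ℕ) (hp : p.natDegree ≤ d) (n : ℕ) :
    |p.eval (n : ℚ) - p.coeff d * (n : ℚ) ^ d| ≤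
      (∑ j ∈ range d, |p.coeff j|) * ((n : ℚ) + 1) ^ (d - 1) := by
  rw [Polynomial.eval_eq_sum_range' (Nat.lt_succ_of_le hp), Finset.sum_range_succ, add_sub_cancel_right,
    Finset.sum_mul]
  refine (Finset.abs_sum_le_sum_abs _ _).trans (Finset.sum_le_sum fun j hj => ?_)
  have hj' : j ≤ d - 1 := by have := Finset.mem_range.1 hj; omega
  rw [abs_mul]
  refine mul_le_mul_of_nonneg_left ?_ (abs_nonneg _)
  have hn : (0 : ℚ) ≤ n := Nat.cast_nonneg n
  rw [abs_of_nonneg (pow_nonneg hn j)]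
  calc (n : ℚ) ^ j ≤ ((n : ℚ) + 1) ^ j := pow_le_pow_left₀ hn (by linarith) j
    _ ≤ ((n : ℚ) + 1) ^ (d - 1) := pow_le_pow_right₀ (by linarith) hj'

theorem exists_bound (p : ℚ[X]) (d : ℕ) (hp : p.natDegree ≤ d) (h : ℕ → ℚ) (N : ℕ)
    (hN : ∀ n, N ≤ n → p.eval (n : ℚ) = h n) :
    ∃ C : ℚ, ∀ n : ℕ, |h n - p.coeff d * (n : ℚ) ^ d| ≤ C * ((n : ℚ) + 1) ^ (d - 1) := by
  refine ⟨(∑ j ∈ range d, |p.coeff j|) + ∑ n ∈ range N, |h n - p.coeff d * (n : ℚ) ^ d|, fun n => ?_⟩
  have h1 : (1 : ℚ) ≤ ((n : ℚ) + 1) ^ (d - 1) :=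
    one_le_pow₀ (by have : (0 : ℚ) ≤ n := Nat.cast_nonneg n; linarith)
  have hA : (0 : ℚ) ≤ ∑ j ∈ range d, |p.coeff j| := Finset.sum_nonneg fun _ _ => abs_nonneg _
  have hB : (0 : ℚ) ≤ ∑ n ∈ range N, |h n - p.coeff d * (n : ℚ) ^ d| :=
    Finset.sum_nonneg fun _ _ => abs_nonneg _
  rw [add_mul]
  rcases le_or_gt N n with hn | hn
  · rw [← hN n hn]
    refine (abs_eval_sub_le p d hp n).trans ?_
    have := mul_nonneg hB (le_trans zero_le_one h1)
    linarith
  · have h2 : |h n - p.coeff d * (n : ℚ) ^ d| ≤ ∑ n ∈ range N, |h n - p.coeff d * (n : ℚ) ^ d| :=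
      Finset.single_le_sum (f := fun n => |h n - p.coeff d * (n : ℚ) ^ d|)
        (fun _ _ => abs_nonneg _) (Finset.mem_range.2 hn)
    have h3 := mul_le_mul_of_nonneg_left h1 hB
    have := mul_nonneg hA (le_trans zero_le_one h1)
    linarith

end Algebra

section Geometry

theorem support_structureModule (X : Scheme.{u}) :
    CohB1.support (Coh.structureModule X) = Set.univ := by
  ext x
  simp only [Set.mem_univ, iff_true]
  intro hs
  have : Subsingleton (X.presheaf.stalk x) := (FreeModStalk.unitStalkEquiv x).toEquiv.subsingleton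
  exact not_subsingleton (X.presheaf.stalk x) this

theorem dim_support_structureModule (X : Scheme.{u}) :
    topologicalKrullDim (CohB1.support (Coh.structureModule X)) = topologicalKrullDim X := by
  rw [support_structureModule]
  exact (IsHomeomorph.topologicalKrullDim_eq _ (Homeomorph.Set.univ X).isHomeomorph)

variable (k : Type u) [Field k] (X : Scheme.{u}) [X.Over (Spec (CommRingCat.of k))]
  [IsProper (X ↘ Spec (CommRingCat.of k))]

theorem euler_tensorPows_indNat {d : ℕ} (L : X.Modules) (I : Finset (Fin d)) :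
    Curv2.euler k X (Curv2.tensorPows (Coh.structureModule X) d (fun _ => L) (indNat I)) =
      Curv2.euler k X (ShStab.twist X L (Coh.structureModule X) I.card) := by
  have h : cls (Curv2.tensorPows (Coh.structureModule X) d (fun _ => L) (indNat I)) =
      cls (ShStab.twist X L (Coh.structureModule X) I.card) := by
    unfold ShStab.twist
    rw [SnapperCurv13.cls_tensorPows, SnapCoeff13.prod_pow_indNat, cls_tensorMod, cls_tensorPow,
      Finset.prod_const]
  obtain ⟨e⟩ := cls_eq_iff.1 h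
  exact DegTensor13.euler_congr k e

theorem coeff_ones_eq_factorial_mul {d : ℕ} (L : X.Modules) (hL : PicF.IsInvertible L)
    (hX : topologicalKrullDim X ≤ d) (P : MvPolynomial (Fin d) ℚ)
    (hP : ∀ n : Fin d → ℕ, (Curv2.euler k X (Curv2.tensorPows (Coh.structureModule X) d
      (fun _ => L) n) : ℚ) = MvPolynomial.eval (fun i => (n i : ℚ)) P)
    (p : Polynomial ℚ) (hpd : p.natDegree ≤ d)
    (hp : ShStab.IsHilbPoly k X L (Coh.structureModule X) p) :
    MvPolynomial.coeff (Finsupp.equivFunOnFinite.symm fun _ : Fin d => 1) P =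
      (d.factorial : ℚ) * p.coeff d := by
  have := EulerLE48.isLocallyNoetherian k X
  have hOcoh : Coh.IsCoh (Coh.structureModule X) := CohFinAmple.isCoh_structureModule X
  have hsupp : topologicalKrullDim (CohB1.support (Coh.structureModule X)) ≤ d := by
    rw [dim_support_structureModule]; exact hX
  obtain ⟨P₀, hdeg, hP₀⟩ := SnapperCurv13.snapper_euler k X _ hOcoh d hsupp d (fun _ => L) (fun _ => hL)
  have hPP : P = P₀ := eq_of_eval_nat_eq _ _ fun m => by rw [← hP m, ← hP₀ m]
  subst hPP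
  have h := sum_powerset_eval_eq_coeff P hdeg
  have hcoeff : MvPolynomial.coeff (ones d) P =
      (-1) ^ d * ∑ I : Finset (Fin d), (-1 : ℚ) ^ I.card * MvPolynomial.eval (ind I) P := by
    rw [h, ← mul_assoc, ← mul_pow]; simp
  change MvPolynomial.coeff (ones d) P = _
  have hsum : ∑ I : Finset (Fin d), (-1 : ℚ) ^ I.card * MvPolynomial.eval (ind I) P =
      ∑ I : Finset (Fin d), (-1 : ℚ) ^ I.card * p.eval (I.card : ℚ) := by
    refine Finset.sum_congr rfl fun I _ => ?_
    congr 1
    rw [ind_eq_indNat, ← hP (indNat I), euler_tensorPows_indNat, hp I.card]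
  rw [hcoeff, hsum, sum_card_eval p d hpd, ← mul_assoc, ← mul_pow]
  simp

/-- **Asymptotic Riemann–Roch** (= S7649). -/
theorem asymptotic_rr (d : ℕ) (hX : topologicalKrullDim X = d) (L : X.Modules) (hL : CohB1.IsAmple L)
    (P : MvPolynomial (Fin d) ℚ)
    (hP : ∀ n : Fin d → ℕ, (Curv2.euler k X (Curv2.tensorPows (Coh.structureModule X) d
      (fun _ => L) n) : ℚ) = MvPolynomial.eval (fun i => (n i : ℚ)) P) :
    0 < MvPolynomial.coeff (Finsupp.equivFunOnFinite.symm fun _ : Fin d => 1) P ∧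
      ∃ C : ℚ, ∀ n : ℕ,
        |(Module.finrank k (Coh.HH X (CohB1.tensorPow L n) 0) : ℚ) -
            MvPolynomial.coeff (Finsupp.equivFunOnFinite.symm fun _ : Fin d => 1) P /
              (d.factorial : ℚ) * (n : ℚ) ^ d| ≤
          C * ((n : ℚ) + 1) ^ (d - 1) := by
  have := EulerLE48.isLocallyNoetherian k X
  have H : ProperFinHyp.Hyp.{u} := SnapCoeff13.properFinHyp
  have hOcoh : Coh.IsCoh (Coh.structureModule X) := CohFinAmple.isCoh_structureModule X
  have hsupp : topologicalKrullDim (CohB1.support (Coh.structureModule X)) = d := by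
    rw [dim_support_structureModule]; exact hX
  obtain ⟨p, hpd, hp⟩ := HilbPoly48.exists_isHilbPoly k X H hL.1 hOcoh d hsupp.le
  have hcoeff := coeff_ones_eq_factorial_mul k X L hL.1 hX.le P hP p hpd hp
  have hpos : 0 < p.coeff d := HilbPoly48.coeff_pos H k X hL hOcoh d hsupp hp
  have hfac : (0 : ℚ) < d.factorial := by exact_mod_cast d.factorial_pos
  refine ⟨by rw [hcoeff]; exact mul_pos hfac hpos, ?_⟩
  have hc : MvPolynomial.coeff (Finsupp.equivFunOnFinite.symm fun _ : Fin d => 1) P /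
      (d.factorial : ℚ) = p.coeff d := by
    rw [hcoeff]; field_simp
  rw [hc]
  obtain ⟨N, hN⟩ := HilbPoly48.exists_eval_eq_finrank k X hL hOcoh hp
  refine exists_bound p d hpd (fun n => (Module.finrank k (Coh.HH X (CohB1.tensorPow L n) 0) : ℚ)) N
    fun n hn => ?_
  rw [hN n hn]
  have h : cls (ShStab.twist X L (Coh.structureModule X) n) = cls (CohB1.tensorPow L n) := by
    unfold ShStab.twist
    rw [cls_tensorMod, cls_one, one_mul]
  obtain ⟨e⟩ := cls_eq_iff.1 h
  rw [(Groth.Agent.Lib.CohLES.mapEquivₗ k e 0).finrank_eq]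

end Geometry

end Groth.Agent.Lib.AmpleVol13
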