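import Groth.Prelude.Def_AnCl
import Mathlib.CategoryTheory.Sites.DenseSubsite.SheafEquiv

/-!
The inclusion of the opens of a space `T` into the classical site `An.Cl T` is a dense subsite.
-/

universe u

open CategoryTheory TopologicalSpace Topology Opposite

namespace Groth.Agent.Lib.AnClDense

variable (T : Type u) [TopologicalSpace T]

lemma p_mem {V : Opens T} (y : ((An.opensToCl T).obj V).E) :
    ((An.opensToCl T).obj V).p y ∈ V := Subtype.property (p := fun t => t ∈ V) y

lemma p_injective {V : Opens T} : Function.Injective ((An.opensToCl T).obj V).p :=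
  Subtype.val_injective

instance faithful : (An.opensToCl T).Faithful where
  map_injective {_ _} f g _ := Subsingleton.elim f g

instance full : (An.opensToCl T).Full where
  map_surjective {U V} f := by
    have hle : U ≤ V := by
      intro x hx
      have h : ((An.opensToCl T).obj V).p (f.toFun ⟨x, hx⟩) = x := f.over ⟨x, hx⟩
      rw [← h]
      exact p_mem T _
    refine ⟨homOfLE hle, ?_⟩
    apply An.Cl.hom_ext
    funext x
    apply p_injective T
    rw [f.over, ((An.opensToCl T).map (homOfLE hle)).over]

instance isCoverDense : (An.opensToCl T).IsCoverDense (An.Cl.topology T) where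
  is_cover A := by
    intro a
    obtain ⟨e, hae, hep⟩ := A.lh a
    let U : Opens T := ⟨e.target, e.open_target⟩
    let g : (An.opensToCl T).obj U ⟶ A :=
      { toFun := fun u => e.symm (Subtype.val (p := fun t => t ∈ U) u)
        continuous := e.continuousOn_symm.comp_continuous continuous_subtype_val
          (fun u => Subtype.property (p := fun t => t ∈ U) u)
        over := fun u => by
          change A.p (e.symm (Subtype.val (p := fun t => t ∈ U) u)) = u.1
          rw [hep]
          exact e.right_inv u.2 }
    refine ⟨(An.opensToCl T).obj U, g, Presieve.in_coverByImage _ g, ?_, ?_⟩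
    · have hcont : Continuous g.toFun := g.continuous
      have hinj : Function.Injective g.toFun := by
        intro u v huv
        apply Subtype.ext
        have := congrArg e huv
        change e (e.symm u.1) = e (e.symm v.1) at this
        rwa [e.right_inv u.2, e.right_inv v.2] at this
      have hopen : IsOpenMap g.toFun := by
        intro W hW
        obtain ⟨W', hW', rfl⟩ := isOpen_induced_iff.mp hW
        have : g.toFun '' ((Subtype.val (p := fun t => t ∈ U)) ⁻¹' W') =
            e.source ∩ e ⁻¹' (W' ∩ e.target) := by
          ext x
          constructor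
          · rintro ⟨u, hu, rfl⟩
            refine ⟨e.map_target u.2, ?_⟩
            change e (e.symm u.1) ∈ W' ∩ e.target
            rw [e.right_inv u.2]
            exact ⟨hu, u.2⟩
          · rintro ⟨hx, hxW, hxt⟩
            refine ⟨⟨e x, hxt⟩, hxW, ?_⟩
            change e.symm (e x) = x
            exact e.left_inv hx
        have h2 := e.isOpen_inter_preimage (hW'.inter e.open_target)
        rw [← this] at h2
        exact h2
      exact IsOpenEmbedding.of_continuous_injective_isOpenMap hcont hinj hopen
    · exact ⟨⟨e a, e.map_source hae⟩, e.left_inv hae⟩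

instance isDenseSubsite :
    (An.opensToCl T).IsDenseSubsite (Opens.grothendieckTopology T) (An.Cl.topology T) where
  functorPushforward_mem_iff {U S} := by
    constructor
    · intro h x hx
      obtain ⟨B, g, ⟨V, f, k, hSf, hfac⟩, -, b, hb⟩ := h ⟨x, hx⟩
      refine ⟨V, f, hSf, ?_⟩
      have h1 : ((An.opensToCl T).obj U).p (g.toFun b) = x := by rw [hb]; rfl
      rw [hfac] at h1
      have h2 : ((An.opensToCl T).obj U).p ((k ≫ (An.opensToCl T).map f).toFun b) =
          ((An.opensToCl T).obj V).p (k.toFun b) := ((An.opensToCl T).map f).over _
      rw [h2] at h1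
      rw [← h1]
      exact p_mem T _
    · intro h a
      obtain ⟨V, f, hSf, hxV⟩ := h a.1 a.2
      refine ⟨(An.opensToCl T).obj V, (An.opensToCl T).map f, ⟨V, f, 𝟙 _, hSf, by simp⟩, ?_,
        ⟨⟨a.1, hxV⟩, rfl⟩⟩
      exact IsOpenEmbedding.inclusion f.le (V.2.preimage continuous_subtype_val)

end Groth.Agent.Lib.AnClDense
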