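import Mathlib.Topology.Constructible
import Mathlib.Topology.NoetherianSpace
import Mathlib.Topology.Sober
import Mathlib.Topology.Irreducible

/-!
Constructible subsets of Noetherian spaces: induction on closed subsets and the
open-or-nowhere-dense dichotomy on irreducible closed subsets.
-/

namespace Groth.Agent.Lib.ConstrTop

open Topology TopologicalSpace Set

variable {X : Type*} [TopologicalSpace X]

/-- Noetherian induction on closed subsets, split along irreducible decomposition. -/
theorem closed_induction [NoetherianSpace X] {P : Set X → Prop}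
    (h0 : P ∅)
    (hU : ∀ Z₁ Z₂ : Set X, IsClosed Z₁ → IsClosed Z₂ → P Z₁ → P Z₂ → P (Z₁ ∪ Z₂))
    (hI : ∀ Z : Set X, IsClosed Z → IsIrreducible Z →
      (∀ Z' : Set X, IsClosed Z' → Z' ⊂ Z → P Z') → P Z)
    (Z : Set X) (hZ : IsClosed Z) : P Z := by
  lift Z to Closeds X using hZ
  refine wellFounded_lt.induction (C := fun Z : Closeds X => P (Z : Set X)) Z ?_
  intro s H
  rcases eq_or_ne s ⊥ with rfl | h₀
  · simpa using h0
  · by_cases h₁ : IsPreirreducible (s : Set X)
    · have h₁' : IsIrreducible (s : Set X) := ⟨Closeds.coe_nonempty.2 h₀, h₁⟩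
      apply hI _ s.isClosed h₁'
      intro Z' hZ' hlt
      exact H ⟨Z', hZ'⟩ (by rw [← SetLike.coe_ssubset_coe]; exact hlt)
    · simp only [isPreirreducible_iff_isClosed_union_isClosed, not_forall, not_or] at h₁
      obtain ⟨z₁, z₂, hz₁, hz₂, h, hz₁', hz₂'⟩ := h₁
      lift z₁ to Closeds X using hz₁
      lift z₂ to Closeds X using hz₂
      have e : (s : Set X) = ((s ⊓ z₁ : Closeds X) : Set X) ∪ ((s ⊓ z₂ : Closeds X) : Set X) := by
        simp only [Closeds.coe_inf]
        rw [← inter_union_distrib_left]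
        exact (inter_eq_left.2 h).symm
      rw [e]
      exact hU _ _ (s ⊓ z₁).isClosed (s ⊓ z₂).isClosed
        (H (s ⊓ z₁) (inf_lt_left.2 hz₁')) (H (s ⊓ z₂) (inf_lt_left.2 hz₂'))

/-- On an irreducible subset `Y`, a constructible set either contains a nonempty relatively open
subset of `Y`, or its complement does. -/
theorem dichotomy {E : Set X} (hE : IsConstructible E) {Y : Set X} (hY : IsIrreducible Y) :
    (∃ U : Set X, IsOpen U ∧ (U ∩ Y).Nonempty ∧ U ∩ Y ⊆ E) ∨
      (∃ U : Set X, IsOpen U ∧ (U ∩ Y).Nonempty ∧ U ∩ Y ⊆ Eᶜ) := by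
  induction hE using IsConstructible.empty_union_induction with
  | open_retrocompact U hUo hUc =>
    by_cases h : (U ∩ Y).Nonempty
    · exact Or.inl ⟨U, hUo, h, inter_subset_left⟩
    · refine Or.inr ⟨univ, isOpen_univ, by simpa using hY.nonempty, ?_⟩
      intro x hx hxU
      exact h ⟨x, hxU, hx.2⟩
  | union s hs t ht ihs iht =>
    rcases ihs with ⟨U, hU, hUn, hUs⟩ | ⟨U, hU, hUn, hUs⟩
    · exact Or.inl ⟨U, hU, hUn, hUs.trans subset_union_left⟩
    rcases iht with ⟨V, hV, hVn, hVt⟩ | ⟨V, hV, hVn, hVt⟩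
    · exact Or.inl ⟨V, hV, hVn, hVt.trans subset_union_right⟩
    refine Or.inr ⟨U ∩ V, hU.inter hV, ?_, ?_⟩
    · have := hY.2 U V hU hV (by rwa [inter_comm]) (by rwa [inter_comm])
      rwa [inter_comm] at this
    · intro x hx
      simp only [compl_union, mem_inter_iff, mem_compl_iff]
      exact ⟨hUs ⟨hx.1.1, hx.2⟩, hVt ⟨hx.1.2, hx.2⟩⟩
  | compl s hs ih =>
    rcases ih with h | h
    · exact Or.inr (by simpa using h)
    · exact Or.inl h

/-- In a Noetherian space every subset is retrocompact. -/
theorem isRetrocompact_of_noetherian [NoetherianSpace X] (s : Set X) : IsRetrocompact s :=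
  fun _ _ _ => NoetherianSpace.isCompact _

theorem isConstructible_of_isOpen [NoetherianSpace X] {U : Set X} (hU : IsOpen U) :
    IsConstructible U :=
  (isRetrocompact_of_noetherian U).isConstructible hU

theorem isConstructible_of_isClosed [NoetherianSpace X] {Z : Set X} (hZ : IsClosed Z) :
    IsConstructible Z := by
  have := (isConstructible_of_isOpen hZ.isOpen_compl).compl
  rwa [compl_compl] at this

/-- If `E ∩ Y` is dense in the irreducible set `Y` (i.e. `Y ⊆ closure (E ∩ Y)`) and `E` is
constructible, then `E` contains a nonempty relatively open subset of `Y`. -/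
theorem exists_open_of_subset_closure {E : Set X} (hE : IsConstructible E) {Y : Set X}
    (hY : IsIrreducible Y) (hd : Y ⊆ closure (E ∩ Y)) :
    ∃ U : Set X, IsOpen U ∧ (U ∩ Y).Nonempty ∧ U ∩ Y ⊆ E := by
  rcases dichotomy hE hY with h | ⟨U, hU, ⟨x, hxU, hxY⟩, hUE⟩
  · exact h
  · exfalso
    have hx : x ∈ closure (E ∩ Y) := hd hxY
    rw [mem_closure_iff] at hx
    obtain ⟨y, hyU, hyE, hyY⟩ := hx U hU hxU
    exact hUE ⟨hyU, hyY⟩ hyE

/-- A nonempty relatively open subset of an irreducible set is dense in it. -/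
theorem subset_closure_of_open_inter {Y U : Set X} (hY : IsIrreducible Y) (hU : IsOpen U)
    (hn : (U ∩ Y).Nonempty) : Y ⊆ closure (U ∩ Y) := by
  intro x hx
  rw [mem_closure_iff]
  intro V hV hxV
  have := hY.2 V U hV hU ⟨x, hx, hxV⟩ (by rwa [inter_comm])
  obtain ⟨y, hyY, hyV, hyU⟩ := this
  exact ⟨y, hyV, hyU, hyY⟩

/-- Density in a subspace, expressed in the ambient space. -/
theorem dense_preimage_val_iff {Y E : Set X} :
    Dense (Subtype.val ⁻¹' E : Set Y) ↔ Y ⊆ closure (E ∩ Y) := by
  rw [Subtype.dense_iff]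
  constructor
  · intro h x hx
    have := h hx
    refine closure_mono ?_ this
    rintro _ ⟨y, hy, rfl⟩
    exact ⟨hy, y.2⟩
  · intro h x hx
    refine closure_mono ?_ (h hx)
    rintro y ⟨hyE, hyY⟩
    exact ⟨⟨y, hyY⟩, hyE, rfl⟩

/-- If a constructible set contains the generic point of an irreducible closed set `Y`, it contains
a nonempty relatively open subset of `Y`. -/
theorem exists_open_of_genericPoint_mem [QuasiSober X] {E : Set X} (hE : IsConstructible E)
    {Y : Set X} (hYc : IsClosed Y) (hY : IsIrreducible Y) (h : hY.genericPoint ∈ E) :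
    ∃ U : Set X, IsOpen U ∧ (U ∩ Y).Nonempty ∧ U ∩ Y ⊆ E := by
  refine exists_open_of_subset_closure hE hY ?_
  have hcl : closure ({hY.genericPoint} : Set X) = Y := hY.closure_genericPoint hYc
  have hmem : hY.genericPoint ∈ Y :=
    hcl.subset (subset_closure (mem_singleton _))
  calc Y = closure ({hY.genericPoint} : Set X) := hcl.symm
    _ ⊆ closure (E ∩ Y) := closure_mono (by
        intro z hz
        rw [mem_singleton_iff] at hz
        subst hz
        exact ⟨h, hmem⟩)

end Groth.Agent.Lib.ConstrTop
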