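import Groth.Prelude.Def_AnPts
import Mathlib.AlgebraicGeometry.Morphisms.FiniteType
import Mathlib.AlgebraicGeometry.AffineScheme
import Mathlib.Analysis.Normed.Field.Basic
import Mathlib.Topology.Algebra.Field
import Mathlib.RingTheory.Jacobson.Ring
import Mathlib.FieldTheory.IsAlgClosed.Basic
import Mathlib.Analysis.Complex.Polynomial.Basic
import Mathlib.AlgebraicGeometry.Morphisms.RingHomProperties
import Mathlib.AlgebraicGeometry.Properties
import Mathlib.RingTheory.FiniteType
import Mathlib.AlgebraicGeometry.AffineSpace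
import Mathlib.AlgebraicGeometry.Morphisms.ClosedImmersion
import Mathlib.Topology.LocalAtTarget
import Mathlib.AlgebraicGeometry.Morphisms.Immersion
import Mathlib.Topology.LocallyClosed
import Mathlib.AlgebraicGeometry.AlgClosed.Basic
import Mathlib.AlgebraicGeometry.Morphisms.FinitePresentation
import Mathlib.AlgebraicGeometry.Noetherian
import Mathlib.AlgebraicGeometry.PullbackCarrier
import Mathlib.Topology.JacobsonSpace
import Groth.Agent.Lib.ConstrTop
import Mathlib.RingTheory.Algebraic.LinearIndependent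
import Mathlib.Analysis.Complex.Cardinality
import Mathlib.RingTheory.MvPolynomial
import Mathlib.RingTheory.HopkinsLevitzki
import Mathlib.RingTheory.KrullDimension.Basic
import Mathlib.RingTheory.Spectrum.Prime.Noetherian
import Mathlib.AlgebraicGeometry.Artinian
import Mathlib.RingTheory.Localization.FractionRing
import Mathlib.Data.Finsupp.Encodable
import Mathlib.Topology.Compactness.LocallyCompact
import Mathlib.Topology.Algebra.MvPolynomial
import Mathlib.Algebra.MvPolynomial.Eval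

set_option autoImplicit false

namespace Groth.Agent.Lib.AnPts

open AlgebraicGeometry CategoryTheory TopologicalSpace Opposite An

noncomputable section

variable {X : Scheme.{0}} [X.Over SC]

/-- Evaluation at a complex point, as a ring homomorphism. -/
def evHom (x : Pts X) (U : X.Opens) (h : x.pt ∈ U) : Γ(X, U) →+* ℂ :=
  ((x.1.appLE U ⊤ (x.top_le_preimage h)) ≫ (Scheme.ΓSpecIso (CommRingCat.of ℂ)).hom).hom

lemma evHom_apply (x : Pts X) (U : X.Opens) (h : x.pt ∈ U) (f : Γ(X, U)) :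
    evHom x U h f = x.ev U h f := rfl

lemma ev_res (x : Pts X) {U U' : X.Opens} (hUU' : U' ≤ U) (h' : x.pt ∈ U') (f : Γ(X, U)) :
    x.ev U (hUU' h') f = x.ev U' h' (X.presheaf.map (homOfLE hUU').op f) := by
  unfold Pts.ev
  congr 1
  have := x.1.map_appLE (x.top_le_preimage h') (homOfLE hUU').op
  exact congr($(this.symm) f)

lemma evTop_res (x : Pts X) {U' : X.Opens} (hU' : U' ≤ ⊤) (h' : x.pt ∈ U') (f : Γ(X, ⊤)) :
    x.evTop f = x.ev U' h' (X.presheaf.map (homOfLE hU').op f) :=
  ev_res x hU' h' f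

lemma ev_add (x : Pts X) (U : X.Opens) (h : x.pt ∈ U) (f g : Γ(X, U)) :
    x.ev U h (f + g) = x.ev U h f + x.ev U h g := map_add (evHom x U h) f g

lemma ev_mul (x : Pts X) (U : X.Opens) (h : x.pt ∈ U) (f g : Γ(X, U)) :
    x.ev U h (f * g) = x.ev U h f * x.ev U h g := map_mul (evHom x U h) f g

lemma ev_one (x : Pts X) (U : X.Opens) (h : x.pt ∈ U) :
    x.ev U h 1 = 1 := map_one (evHom x U h)

lemma ev_zero (x : Pts X) (U : X.Opens) (h : x.pt ∈ U) :
    x.ev U h 0 = 0 := map_zero (evHom x U h)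

lemma ev_pow (x : Pts X) (U : X.Opens) (h : x.pt ∈ U) (f : Γ(X, U)) (n : ℕ) :
    x.ev U h (f ^ n) = x.ev U h f ^ n := map_pow (evHom x U h) f n

lemma ev_strHom (x : Pts X) (c : ℂ) : x.evTop (strHom X c) = c := by
  unfold Pts.evTop Pts.ev strHom
  have h1 : x.1.appLE ⊤ ⊤ (x.top_le_preimage (Opens.mem_top _)) = x.1.appTop := by
    exact (Scheme.Hom.app_eq_appLE x.1 (U := ⊤)).symm
  rw [h1]
  have h2 : (X ↘ SC).appTop ≫ x.1.appTop = 𝟙 _ := by
    rw [← Scheme.Hom.comp_appTop, x.2, Scheme.Hom.id_appTop]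
  simp only [RingHom.coe_comp, Function.comp_apply]
  have h3 := congr($h2 ((Scheme.ΓSpecIso (CommRingCat.of ℂ)).inv c))
  simp only [CommRingCat.comp_apply, CommRingCat.id_apply] at h3
  erw [h3]
  exact Iso.inv_hom_id_apply (Scheme.ΓSpecIso (CommRingCat.of ℂ)) c

lemma cpt_mem_basicOpen_iff (s : Γ(SC, ⊤)) :
    cpt ∈ SC.basicOpen s ↔ (Scheme.ΓSpecIso (CommRingCat.of ℂ)).hom s ≠ 0 := by
  rw [basicOpen_eq_of_affine']
  change _ ∉ cpt.asIdeal ↔ _
  have : cpt.asIdeal = ⊥ :=
    (Ideal.eq_bot_or_top cpt.asIdeal).resolve_right cpt.isPrime.ne_top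
  rw [this, Ideal.mem_bot]

lemma pt_mem_basicOpen_iff (x : Pts X) (U : X.Opens) (h : x.pt ∈ U) (g : Γ(X, U)) :
    x.pt ∈ X.basicOpen g ↔ x.ev U h g ≠ 0 := by
  unfold Pts.ev
  rw [← cpt_mem_basicOpen_iff, Scheme.basicOpen_appLE]
  change _ ↔ cpt ∈ (⊤ : SC.Opens) ∧ x.1 cpt ∈ X.basicOpen g
  simp only [Opens.mem_top, true_and]
  rfl

lemma evTop_eq (x : Pts X) (f : Γ(X, ⊤)) :
    x.evTop f = (Scheme.ΓSpecIso (CommRingCat.of ℂ)).hom (x.1.appTop f) := by
  unfold Pts.evTop Pts.ev
  have h1 : x.1.appLE ⊤ ⊤ (x.top_le_preimage (Opens.mem_top _)) = x.1.appTop :=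
    (Scheme.Hom.app_eq_appLE x.1 (U := ⊤)).symm
  rw [h1]

lemma ext_of_isAffine [IsAffine X] {x y : Pts X} (h : ∀ f : Γ(X, ⊤), x.evTop f = y.evTop f) :
    x = y := by
  apply Subtype.ext
  apply AlgebraicGeometry.ext_of_isAffine
  ext f
  have := h f
  rw [evTop_eq, evTop_eq] at this
  exact (ConcreteCategory.bijective_of_isIso (Scheme.ΓSpecIso (CommRingCat.of ℂ)).hom).injective this

/-- The morphism `Spec ℂ ⟶ X` attached to a ring homomorphism `Γ(X, ⊤) →+* ℂ`, `X` affine. -/
def homOfRingHom [IsAffine X] (φ : Γ(X, ⊤) →+* ℂ) : SC ⟶ X :=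
  Spec.map (CommRingCat.ofHom φ) ≫ X.isoSpec.inv

lemma homOfRingHom_appTop [IsAffine X] (φ : Γ(X, ⊤) →+* ℂ) :
    (homOfRingHom φ).appTop ≫ (Scheme.ΓSpecIso (CommRingCat.of ℂ)).hom = CommRingCat.ofHom φ := by
  unfold homOfRingHom
  have h0 : X.isoSpec.hom.appTop = (Scheme.ΓSpecIso Γ(X, ⊤)).hom := by
    rw [Scheme.isoSpec_hom, Scheme.toSpecΓ_appTop]
  have h1 : X.isoSpec.inv.appTop = (Scheme.ΓSpecIso Γ(X, ⊤)).inv := by
    rw [← cancel_mono (Scheme.ΓSpecIso Γ(X, ⊤)).hom, Iso.inv_hom_id, ← h0,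
      ← Scheme.Hom.comp_appTop, Iso.hom_inv_id, Scheme.Hom.id_appTop]
  rw [Scheme.Hom.comp_appTop, h1, Category.assoc, Scheme.ΓSpecIso_naturality]
  exact Iso.inv_hom_id_assoc _ _

/-- The complex point attached to a ring homomorphism `Γ(X, ⊤) →+* ℂ` which is a retraction of
the structure homomorphism, for `X` affine. -/
def ofRingHom [IsAffine X] (φ : Γ(X, ⊤) →+* ℂ) (hφ : ∀ c, φ (strHom X c) = c) : Pts X :=
  ⟨homOfRingHom φ, by
    apply AlgebraicGeometry.ext_of_isAffine
    rw [Scheme.Hom.comp_appTop, Scheme.Hom.id_appTop,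
      ← cancel_mono (Scheme.ΓSpecIso (CommRingCat.of ℂ)).hom,
      ← cancel_epi (Scheme.ΓSpecIso (CommRingCat.of ℂ)).inv, Category.assoc, homOfRingHom_appTop]
    rw [Category.id_comp, Iso.inv_hom_id]
    ext c
    exact hφ c⟩

lemma evTop_ofRingHom [IsAffine X] (φ : Γ(X, ⊤) →+* ℂ) (hφ : ∀ c, φ (strHom X c) = c)
    (f : Γ(X, ⊤)) : (ofRingHom φ hφ).evTop f = φ f := by
  rw [evTop_eq]
  exact congr($(homOfRingHom_appTop φ) f)

/-- The map sending a complex point to the family of values of all global sections. -/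
def evAll (X : Scheme.{0}) [X.Over SC] (x : Pts X) : Γ(X, ⊤) → ℂ := fun f => x.evTop f

lemma continuous_evTop (f : Γ(X, ⊤)) : Continuous (fun x : Pts X => x.evTop f) := by
  refine continuous_def.2 fun V hV => ?_
  have : (fun x : Pts X => x.evTop f) ⁻¹' V = Pts.basicSet ⊤ f V := by
    ext x
    simp only [Set.mem_preimage, Pts.basicSet, Set.mem_ofPred_eq]
    exact ⟨fun h => ⟨Opens.mem_top _, h⟩, fun ⟨_, h⟩ => h⟩
  rw [this]
  exact Pts.isOpen_basicSet _ _ hV

lemma continuous_evAll : Continuous (evAll X) :=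
  continuous_pi fun f => continuous_evTop f

lemma continuousOn_ev (U : X.Opens) (f : Γ(X, U)) :
    ∀ V : Set ℂ, IsOpen V → IsOpen {x : Pts X | ∃ h : x.pt ∈ U, x.ev U h f ∈ V} :=
  fun _ hV => Pts.isOpen_basicSet U f hV

lemma isOpen_div_set (n : ℕ) {V : Set ℂ} (hV : IsOpen V) :
    IsOpen {p : ℂ × ℂ | p.2 ≠ 0 ∧ p.1 / p.2 ^ n ∈ V} := by
  have h1 : IsOpen {p : ℂ × ℂ | p.2 ≠ 0} := isOpen_ne_fun continuous_snd continuous_const
  have h2 : ContinuousOn (fun p : ℂ × ℂ => p.1 / p.2 ^ n) {p : ℂ × ℂ | p.2 ≠ 0} := by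
    apply ContinuousOn.div continuousOn_fst (continuousOn_snd.pow n)
    intro p hp
    exact pow_ne_zero n hp
  exact h2.isOpen_inter_preimage h1 hV

theorem isInducing_evAll [IsAffine X] : Topology.IsInducing (evAll X) := by
  refine ⟨le_antisymm ?_ ?_⟩
  · exact continuous_evAll.le_induced
  · refine le_generateFrom ?_
    rintro _ ⟨U, f, V, hV, rfl⟩
    rw [@isOpen_iff_forall_mem_open]
    rintro x ⟨hxU, hxV⟩
    obtain ⟨g, hgU, hxg⟩ := (isAffineOpen_top X).exists_basicOpen_le (V := U) ⟨x.pt, hxU⟩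
      (Opens.mem_top _)
    obtain ⟨n, a, ha⟩ := IsLocalization.Away.surj (S := Γ(X, X.basicOpen g)) g
      (X.presheaf.map (homOfLE hgU).op f)
    have key : ∀ y : Pts X, ∀ hy : y.pt ∈ X.basicOpen g,
        y.ev U (hgU hy) f = y.evTop a / y.evTop g ^ n := by
      intro y hy
      have hg0 : y.evTop g ≠ 0 := (pt_mem_basicOpen_iff y ⊤ (Opens.mem_top _) g).1 hy
      rw [eq_div_iff (pow_ne_zero n hg0)]
      rw [ev_res y hgU hy f, evTop_res y (X.basicOpen_le g) hy g,
        evTop_res y (X.basicOpen_le g) hy a, ← ev_pow, ← ev_mul]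
      exact congrArg _ ha
    refine ⟨evAll X ⁻¹' ((fun z : Γ(X, ⊤) → ℂ => (z a, z g)) ⁻¹'
      {p : ℂ × ℂ | p.2 ≠ 0 ∧ p.1 / p.2 ^ n ∈ V}), ?_, ?_, ?_⟩
    · rintro y ⟨hy0, hyV⟩
      have hy : y.pt ∈ X.basicOpen g := (pt_mem_basicOpen_iff y ⊤ (Opens.mem_top _) g).2 hy0
      refine ⟨hgU hy, ?_⟩
      rw [key y hy]
      exact hyV
    · refine ⟨_, ?_, rfl⟩
      exact (isOpen_div_set n hV).preimage
        ((continuous_apply a).prodMk (continuous_apply g))
    · have hx0 : x.evTop g ≠ 0 := (pt_mem_basicOpen_iff x ⊤ (Opens.mem_top _) g).1 hxg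
      refine ⟨hx0, ?_⟩
      change x.evTop a / x.evTop g ^ n ∈ V
      rw [← key x hxg]
      exact hxV

section maps

variable {Y : Scheme.{0}} [Y.Over SC]

lemma ev_map_appLE (g : X ⟶ Y) [g.IsOver SC] (x : Pts X) (U : Y.Opens) (W : X.Opens)
    (e : W ≤ g ⁻¹ᵁ U) (h : x.pt ∈ W) (s : Γ(Y, U)) :
    (Pts.map g x).ev U (by rw [Pts.pt_map]; exact e h) s = x.ev W h (g.appLE U W e s) := by
  unfold Pts.ev
  congr 1
  have := Scheme.Hom.appLE_comp_appLE x.1 g U W ⊤ e (x.top_le_preimage h)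
  exact congr($(this.symm) s)

lemma map_injective_of_mono (g : X ⟶ Y) [g.IsOver SC] [Mono g] :
    Function.Injective (Pts.map g) := by
  intro x x' h
  apply Subtype.ext
  have : x.1 ≫ g = x'.1 ≫ g := congrArg Subtype.val h
  exact (cancel_mono g).1 this

lemma range_map_of_isOpenImmersion (g : X ⟶ Y) [g.IsOver SC] [IsOpenImmersion g] :
    Set.range (Pts.map g) = Pts.pt ⁻¹' (g.opensRange : Set Y) := by
  ext y
  constructor
  · rintro ⟨x, rfl⟩
    change (Pts.map g x).pt ∈ Set.range g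
    rw [Pts.pt_map]
    exact ⟨_, rfl⟩
  · intro hy
    have H : Set.range y.1 ⊆ Set.range g := by
      rintro _ ⟨p, rfl⟩
      rw [eq_cpt p]
      exact hy
    refine ⟨⟨IsOpenImmersion.lift g y.1 H, ?_⟩, ?_⟩
    · rw [← comp_over g SC, IsOpenImmersion.lift_fac_assoc]
      exact y.2
    · apply Subtype.ext
      exact IsOpenImmersion.lift_fac g y.1 H

lemma basicSet_eq_preimage_of_isOpenImmersion (g : X ⟶ Y) [g.IsOver SC] [IsOpenImmersion g]
    (U : X.Opens) (s : Γ(X, U)) (V : Set ℂ) :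
    Pts.basicSet U s V = Pts.map g ⁻¹' Pts.basicSet (g ''ᵁ U) ((g.appIso U).inv s) V := by
  have hmem : ∀ x : Pts X, (Pts.map g x).pt ∈ g ''ᵁ U ↔ x.pt ∈ U := by
    intro x
    rw [Pts.pt_map]
    constructor
    · rintro ⟨p, hp, hpx⟩
      rwa [← g.isOpenEmbedding.injective hpx]
    · intro h
      exact ⟨_, h, rfl⟩
  have hev : ∀ (x : Pts X) (h : x.pt ∈ U) (h' : (Pts.map g x).pt ∈ g ''ᵁ U),
      (Pts.map g x).ev (g ''ᵁ U) h' ((g.appIso U).inv s) = x.ev U h s := by
    intro x h h'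
    rw [ev_map_appLE g x (g ''ᵁ U) U (g.preimage_image_eq U).ge h, ← Scheme.Hom.appIso_hom']
    exact congrArg _ (Iso.inv_hom_id_apply (g.appIso U) s)
  ext x
  constructor
  · rintro ⟨h, hv⟩
    refine ⟨(hmem x).2 h, ?_⟩
    rw [hev x h]
    exact hv
  · rintro ⟨h', hv⟩
    refine ⟨(hmem x).1 h', ?_⟩
    rw [← hev x ((hmem x).1 h') h']
    exact hv

theorem isOpenEmbedding_map_of_isOpenImmersion (g : X ⟶ Y) [g.IsOver SC] [IsOpenImmersion g] :
    Topology.IsOpenEmbedding (Pts.map g) := by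
  refine ⟨⟨⟨le_antisymm ?_ ?_⟩, map_injective_of_mono g⟩, ?_⟩
  · exact (Pts.continuous_map g).le_induced
  · refine le_generateFrom ?_
    rintro _ ⟨U, s, V, hV, rfl⟩
    rw [basicSet_eq_preimage_of_isOpenImmersion g U s V]
    exact ⟨_, Pts.isOpen_basicSet _ _ hV, rfl⟩
  · rw [range_map_of_isOpenImmersion]
    exact Pts.isOpen_preimage_pt _

end maps

section generators

variable {n : ℕ} (s : Fin n → Γ(X, ⊤))

/-- The values of finitely many global sections at a complex point. -/
def evFam (x : Pts X) : Fin n → ℂ := fun i => x.evTop (s i)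

lemma evTop_eval₂Hom (x : Pts X) (P : MvPolynomial (Fin n) ℂ) :
    x.evTop (MvPolynomial.eval₂Hom (strHom X) s P) = MvPolynomial.eval (evFam s x) P := by
  have : (evHom x ⊤ (Opens.mem_top _)).comp (MvPolynomial.eval₂Hom (strHom X) s) =
      MvPolynomial.eval (evFam s x) := by
    apply MvPolynomial.ringHom_ext
    · intro c
      simp only [RingHom.comp_apply, MvPolynomial.eval₂Hom_C, MvPolynomial.eval_C]
      exact ev_strHom x c
    · intro i
      simp only [RingHom.comp_apply, MvPolynomial.eval₂Hom_X', MvPolynomial.eval_X]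
      rfl
  exact congr($this P)

lemma continuous_evFam : Continuous (evFam s : Pts X → Fin n → ℂ) :=
  continuous_pi fun i => continuous_evTop (s i)

theorem isClosedEmbedding_evFam [IsAffine X]
    (hs : Function.Surjective (MvPolynomial.eval₂Hom (strHom X) s)) :
    Topology.IsClosedEmbedding (evFam s : Pts X → Fin n → ℂ) := by
  choose P hP using hs
  have hev : ∀ (x : Pts X) (f : Γ(X, ⊤)), x.evTop f = MvPolynomial.eval (evFam s x) (P f) := by
    intro x f
    rw [← evTop_eval₂Hom, hP]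
  refine ⟨⟨?_, ?_⟩, ?_⟩
  · let G : (Fin n → ℂ) → (Γ(X, ⊤) → ℂ) := fun z f => MvPolynomial.eval z (P f)
    have hG : Continuous G := continuous_pi fun f => MvPolynomial.continuous_eval (P f)
    have hcomp : G ∘ evFam s = evAll X := by
      funext x f
      exact (hev x f).symm
    exact Topology.IsInducing.of_comp (continuous_evFam s) hG (hcomp ▸ isInducing_evAll)
  · intro x y hxy
    apply ext_of_isAffine
    intro f
    rw [hev x f, hev y f, hxy]
  · have hrange : Set.range (evFam s : Pts X → Fin n → ℂ) =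
        ⋂ Q ∈ RingHom.ker (MvPolynomial.eval₂Hom (strHom X) s),
          {z : Fin n → ℂ | MvPolynomial.eval z Q = 0} := by
      ext z
      simp only [Set.mem_range, Set.mem_iInter, Set.mem_ofPred_eq]
      constructor
      · rintro ⟨x, rfl⟩ Q hQ
        rw [← evTop_eval₂Hom, (RingHom.mem_ker).1 hQ]
        exact ev_zero x ⊤ (Opens.mem_top _)
      · intro hz
        let g : {g : MvPolynomial (Fin n) ℂ →+* ℂ //
            RingHom.ker (MvPolynomial.eval₂Hom (strHom X) s) ≤ RingHom.ker g} :=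
          ⟨MvPolynomial.eval z, fun Q hQ => (RingHom.mem_ker).2 (hz Q hQ)⟩
        have hsurj : Function.Surjective (MvPolynomial.eval₂Hom (strHom X) s) :=
          fun f => ⟨P f, hP f⟩
        let φ : Γ(X, ⊤) →+* ℂ := RingHom.liftOfSurjective _ hsurj g
        have hφ : ∀ Q, φ (MvPolynomial.eval₂Hom (strHom X) s Q) = MvPolynomial.eval z Q :=
          fun Q => RingHom.liftOfSurjective_comp_apply _ hsurj g Q
        have hφc : ∀ c, φ (strHom X c) = c := by
          intro c
          have := hφ (MvPolynomial.C c)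
          rwa [MvPolynomial.eval₂Hom_C, MvPolynomial.eval_C] at this
        refine ⟨ofRingHom φ hφc, ?_⟩
        funext i
        change (ofRingHom φ hφc).evTop (s i) = z i
        rw [evTop_ofRingHom]
        have := hφ (MvPolynomial.X i)
        rwa [MvPolynomial.eval₂Hom_X', MvPolynomial.eval_X] at this
    rw [hrange]
    exact isClosed_biInter fun Q _ =>
      isClosed_eq (MvPolynomial.continuous_eval Q) continuous_const

end generators

section nullstellensatz

lemma exists_retraction_of_finiteType {A : Type} [CommRing A] [Nontrivial A] (ι : ℂ →+* A)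
    (h : ι.FiniteType) : ∃ φ : A →+* ℂ, ∀ c, φ (ι c) = c := by
  obtain ⟨m, hm⟩ := Ideal.exists_maximal A
  let := Ideal.Quotient.field m
  let q : A →+* A ⧸ m := Ideal.Quotient.mk m
  have hq : (q.comp ι).FiniteType :=
    (RingHom.FiniteType.of_surjective q Ideal.Quotient.mk_surjective).comp h
  let : Algebra ℂ (A ⧸ m) := (q.comp ι).toAlgebra
  have : Algebra.FiniteType ℂ (A ⧸ m) := hq
  have : Module.Finite ℂ (A ⧸ m) := finite_of_finite_type_of_isJacobsonRing ℂ (A ⧸ m)
  have hbij : Function.Bijective (algebraMap ℂ (A ⧸ m)) :=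
    IsAlgClosed.algebraMap_bijective_of_isIntegral
  let e : ℂ ≃+* A ⧸ m := RingEquiv.ofBijective _ hbij
  refine ⟨e.symm.toRingHom.comp q, fun c => ?_⟩
  change e.symm (q (ι c)) = c
  rw [RingEquiv.symm_apply_eq]
  rfl

lemma strHom_finiteType_of_isAffine [IsAffine X] [LocallyOfFiniteType (X ↘ SC)] :
    (strHom X).FiniteType := by
  unfold strHom
  have h1 : (X ↘ SC).appTop.hom.FiniteType :=
    HasRingHomProperty.appTop (P := @LocallyOfFiniteType) (X ↘ SC) inferInstance
  exact h1.comp (RingHom.FiniteType.of_surjective _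
    (ConcreteCategory.bijective_of_isIso (Scheme.ΓSpecIso (CommRingCat.of ℂ)).inv).surjective)

theorem nonempty_pts_of_isAffine [IsAffine X] [LocallyOfFiniteType (X ↘ SC)] [Nonempty X] :
    Nonempty (Pts X) := by
  have : Nonempty (⊤ : X.Opens) := ⟨⟨Classical.arbitrary X, trivial⟩⟩
  have : Nontrivial Γ(X, ⊤) := X.component_nontrivial ⊤
  obtain ⟨φ, hφ⟩ := exists_retraction_of_finiteType (strHom X) strHom_finiteType_of_isAffine
  exact ⟨ofRingHom φ hφ⟩

end nullstellensatz

section opens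

instance locallyOfFiniteType_opens [LocallyOfFiniteType (X ↘ SC)] (U : X.Opens) :
    LocallyOfFiniteType ((U : Scheme.{0}) ↘ SC) :=
  inferInstanceAs (LocallyOfFiniteType (U.ι ≫ X ↘ SC))

theorem nonempty_pts [LocallyOfFiniteType (X ↘ SC)] [Nonempty X] : Nonempty (Pts X) := by
  obtain ⟨U, hU, hpU, -⟩ := exists_isAffineOpen_mem_and_subset (x := Classical.arbitrary X)
    (U := ⊤) trivial
  have : IsAffine (U : Scheme.{0}) := hU
  have : Nonempty (U : Scheme.{0}) := ⟨⟨_, hpU⟩⟩
  obtain ⟨x⟩ := nonempty_pts_of_isAffine (X := (U : Scheme.{0}))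
  exact ⟨Pts.map U.ι x⟩

end opens

section locallyCompact

lemma exists_generators [IsAffine X] [LocallyOfFiniteType (X ↘ SC)] :
    ∃ (n : ℕ) (s : Fin n → Γ(X, ⊤)),
      Function.Surjective (MvPolynomial.eval₂Hom (strHom X) s) := by
  have h : (strHom X).FiniteType := strHom_finiteType_of_isAffine
  let : Algebra ℂ Γ(X, ⊤) := (strHom X).toAlgebra
  have h' : Algebra.FiniteType ℂ Γ(X, ⊤) := h
  obtain ⟨n, f, hf⟩ := Algebra.FiniteType.iff_quotient_mvPolynomial''.1 h'
  refine ⟨n, fun i => f (MvPolynomial.X i), ?_⟩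
  intro a
  obtain ⟨P, rfl⟩ := hf a
  refine ⟨P, ?_⟩
  conv_rhs => rw [MvPolynomial.aeval_unique f]
  rw [MvPolynomial.aeval_eq_eval₂Hom]
  rfl

instance locallyCompactSpace_of_isAffine [IsAffine X] [LocallyOfFiniteType (X ↘ SC)] :
    LocallyCompactSpace (Pts X) := by
  obtain ⟨n, s, hs⟩ := exists_generators (X := X)
  exact (isClosedEmbedding_evFam s hs).locallyCompactSpace

lemma exists_affine_lift (x : Pts X) :
    ∃ (U : X.Opens) (_ : IsAffineOpen U) (x' : Pts (U : Scheme.{0})), Pts.map U.ι x' = x := by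
  obtain ⟨U, hU, hpU, -⟩ := exists_isAffineOpen_mem_and_subset (x := x.pt) (U := ⊤) trivial
  have hx : x ∈ Set.range (Pts.map U.ι) := by
    rw [range_map_of_isOpenImmersion]
    change x.pt ∈ U.ι.opensRange
    rw [Scheme.Opens.opensRange_ι]
    exact hpU
  obtain ⟨x', hx'⟩ := hx
  exact ⟨U, hU, x', hx'⟩

theorem locallyCompactSpace_pts [LocallyOfFiniteType (X ↘ SC)] :
    LocallyCompactSpace (Pts X) := by
  refine ⟨fun x n hn => ?_⟩
  obtain ⟨U, hU, x', rfl⟩ := exists_affine_lift x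
  have : IsAffine (U : Scheme.{0}) := hU
  have hj := isOpenEmbedding_map_of_isOpenImmersion U.ι
  have hn' : Pts.map U.ι ⁻¹' n ∈ nhds x' := hj.continuous.continuousAt hn
  obtain ⟨s', hs', hs'n, hs'c⟩ := LocallyCompactSpace.local_compact_nhds x' _ hn'
  refine ⟨Pts.map U.ι '' s', (hj.image_mem_nhds).2 hs', ?_, hs'c.image hj.continuous⟩
  rintro _ ⟨y, hy, rfl⟩
  exact hs'n hy

end locallyCompact

section affineSpace

open AffineSpace in
lemma surjective_eval₂Hom_coord (n : ℕ) :
    Function.Surjective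
      (MvPolynomial.eval₂Hom (strHom (𝔸(Fin n; SC))) (AffineSpace.coord SC)) := by
  intro a
  have h1 := AffineSpace.isoOfIsAffine_hom_appTop (n := Fin n) (S := SC)
  have hiso : IsIso (AffineSpace.isoOfIsAffine (Fin n) SC).hom.appTop :=
    ⟨(AffineSpace.isoOfIsAffine (Fin n) SC).inv.appTop,
      by rw [← Scheme.Hom.comp_appTop, Iso.inv_hom_id, Scheme.Hom.id_appTop],
      by rw [← Scheme.Hom.comp_appTop, Iso.hom_inv_id, Scheme.Hom.id_appTop]⟩
  have hbij : Function.Bijective (AffineSpace.isoOfIsAffine (Fin n) SC).hom.appTop :=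
    ConcreteCategory.bijective_of_isIso _
  obtain ⟨b, hb⟩ := hbij.surjective a
  rw [h1] at hb
  set q : MvPolynomial (Fin n) Γ(SC, ⊤) := (Scheme.ΓSpecIso _).hom b with hq
  refine ⟨MvPolynomial.map (Scheme.ΓSpecIso (CommRingCat.of ℂ)).hom.hom q, ?_⟩
  rw [MvPolynomial.coe_eval₂Hom, MvPolynomial.eval₂_map]
  rw [← hb]
  change _ = MvPolynomial.eval₂Hom _ _ q
  rw [MvPolynomial.coe_eval₂Hom]
  congr 1
  ext c
  unfold strHom
  simp only [RingHom.comp_apply]
  congr 1
  exact Iso.hom_inv_id_apply (Scheme.ΓSpecIso (CommRingCat.of ℂ)) c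

theorem isHomeomorph_affineSpace (n : ℕ) :
    IsHomeomorph (fun (x : Pts (𝔸(Fin n; SC))) (i : Fin n) =>
      x.evTop (AffineSpace.coord SC i)) := by
  have hE := isClosedEmbedding_evFam (X := 𝔸(Fin n; SC)) (AffineSpace.coord SC)
    (surjective_eval₂Hom_coord n)
  have hsurj : Function.Surjective (evFam (X := 𝔸(Fin n; SC)) (AffineSpace.coord SC)) := by
    intro z
    let v : Fin n → Γ(SC, ⊤) := fun i => (Scheme.ΓSpecIso (CommRingCat.of ℂ)).inv (z i)
    refine ⟨⟨AffineSpace.homOfVector (𝟙 SC) v, AffineSpace.homOfVector_over _ _⟩, ?_⟩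
    funext i
    change Pts.evTop _ (AffineSpace.coord SC i) = z i
    rw [evTop_eq]
    change (Scheme.ΓSpecIso (CommRingCat.of ℂ)).hom
      ((AffineSpace.homOfVector (𝟙 SC) v).appTop (AffineSpace.coord SC i)) = z i
    rw [AffineSpace.homOfVector_appTop_coord]
    exact Iso.inv_hom_id_apply (Scheme.ΓSpecIso (CommRingCat.of ℂ)) (z i)
  exact (hE.isEmbedding.toHomeomorphOfSurjective hsurj).isHomeomorph

end affineSpace

section restrict

variable {Y : Scheme.{0}} [Y.Over SC]

instance morphismRestrict_isOver (f : X ⟶ Y) [f.IsOver SC] (W : Y.Opens) :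
    (f ∣_ W).IsOver SC :=
  ⟨by
    change (f ∣_ W) ≫ W.ι ≫ (Y ↘ SC) = (f ⁻¹ᵁ W).ι ≫ (X ↘ SC)
    rw [← Category.assoc, morphismRestrict_ι, Category.assoc, comp_over]⟩

lemma strHom_comp (f : X ⟶ Y) [f.IsOver SC] :
    strHom X = f.appTop.hom.comp (strHom Y) := by
  have h : (X ↘ SC).appTop = (Y ↘ SC).appTop ≫ f.appTop := by
    rw [← Scheme.Hom.comp_appTop, comp_over]
  unfold strHom
  rw [h]
  rfl

lemma evTop_map (f : X ⟶ Y) [f.IsOver SC] (x : Pts X) (t : Γ(Y, ⊤)) :
    (Pts.map f x).evTop t = x.evTop (f.appTop t) := by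
  rw [evTop_eq, evTop_eq]
  rfl

lemma range_map_ι (W : X.Opens) :
    Set.range (Pts.map W.ι) = Pts.pt ⁻¹' (W : Set X) := by
  rw [range_map_of_isOpenImmersion, Scheme.Opens.opensRange_ι]

lemma isClosedEmbedding_restrictPreimage_of_comm {A B A' B' : Type*} [TopologicalSpace A]
    [TopologicalSpace B] [TopologicalSpace A'] [TopologicalSpace B']
    (φ : A → B) (S : Set B) (a : A' → A) (b : B' → B) (ψ : A' → B')
    (ha : Topology.IsEmbedding a) (hb : Topology.IsEmbedding b)
    (hra : Set.range a = φ ⁻¹' S) (hrb : Set.range b = S) (hcomm : ∀ x, φ (a x) = b (ψ x))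
    (hψ : Topology.IsClosedEmbedding ψ) :
    Topology.IsClosedEmbedding (S.restrictPreimage φ) := by
  let eA : A' ≃ₜ φ ⁻¹' S := (ha.toHomeomorph).trans (Homeomorph.setCongr hra)
  let eB : B' ≃ₜ S := (hb.toHomeomorph).trans (Homeomorph.setCongr hrb)
  have h : S.restrictPreimage φ = eB ∘ ψ ∘ eA.symm := by
    funext x
    obtain ⟨x', rfl⟩ := eA.surjective x
    apply Subtype.ext
    simp only [Function.comp_apply, Homeomorph.symm_apply_apply]
    exact hcomm x'
  rw [h]
  exact eB.isClosedEmbedding.comp (hψ.comp eA.symm.isClosedEmbedding)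

theorem isClosedEmbedding_map_of_iSup_eq_top (f : X ⟶ Y) [f.IsOver SC] {ι : Type*}
    (W : ι → Y.Opens) (hW : ⨆ i, W i = ⊤)
    (h : ∀ i, Topology.IsClosedEmbedding (Pts.map (f ∣_ W i))) :
    Topology.IsClosedEmbedding (Pts.map f) := by
  let V : ι → Opens (Pts Y) := fun i => ⟨Pts.pt ⁻¹' (W i : Set Y), Pts.isOpen_preimage_pt _⟩
  have hV : IsOpenCover V := by
    rw [IsOpenCover, eq_top_iff]
    intro y _
    have : y.pt ∈ ⨆ i, W i := hW ▸ Opens.mem_top _
    obtain ⟨i, hi⟩ := Opens.mem_iSup.1 this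
    exact Opens.mem_iSup.2 ⟨i, hi⟩
  rw [hV.isClosedEmbedding_iff_restrictPreimage (Pts.continuous_map f)]
  intro i
  refine isClosedEmbedding_restrictPreimage_of_comm (Pts.map f) _ (Pts.map (f ⁻¹ᵁ W i).ι)
    (Pts.map (W i).ι) (Pts.map (f ∣_ W i))
    (isOpenEmbedding_map_of_isOpenImmersion _).isEmbedding
    (isOpenEmbedding_map_of_isOpenImmersion _).isEmbedding ?_ ?_ ?_ (h i)
  · rw [range_map_ι]
    ext x
    change x.pt ∈ f ⁻¹ᵁ W i ↔ (Pts.map f x).pt ∈ W i
    rw [Pts.pt_map]
    rfl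
  · exact range_map_ι _
  · intro x
    rw [← Pts.map_comp, ← Pts.map_comp]
    apply Subtype.ext
    change x.1 ≫ (f ⁻¹ᵁ W i).ι ≫ f = x.1 ≫ (f ∣_ W i) ≫ (W i).ι
    rw [morphismRestrict_ι]

theorem isClosedEmbedding_map_of_isAffine (f : X ⟶ Y) [f.IsOver SC] [IsAffine X] [IsAffine Y]
    [LocallyOfFiniteType (Y ↘ SC)] (hf : Function.Surjective f.appTop) :
    Topology.IsClosedEmbedding (Pts.map f) := by
  obtain ⟨n, t, ht⟩ := exists_generators (X := Y)
  let s : Fin n → Γ(X, ⊤) := fun i => f.appTop (t i)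
  have hst : MvPolynomial.eval₂Hom (strHom X) s =
      f.appTop.hom.comp (MvPolynomial.eval₂Hom (strHom Y) t) := by
    apply MvPolynomial.ringHom_ext
    · intro c
      simp only [RingHom.comp_apply, MvPolynomial.eval₂Hom_C]
      rw [strHom_comp f]
      rfl
    · intro i
      simp only [RingHom.comp_apply, MvPolynomial.eval₂Hom_X']
      rfl
  have hs : Function.Surjective (MvPolynomial.eval₂Hom (strHom X) s) := by
    rw [hst]
    exact hf.comp ht
  have hX := isClosedEmbedding_evFam s hs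
  have hY := isClosedEmbedding_evFam t ht
  have hcomp : evFam s = evFam t ∘ Pts.map f := by
    funext x i
    exact (evTop_map f x (t i)).symm
  rw [hcomp] at hX
  exact (Topology.IsClosedEmbedding.of_comp_iff hY).1 hX

theorem isClosedEmbedding_map_of_isClosedImmersion (f : X ⟶ Y) [f.IsOver SC]
    [LocallyOfFiniteType (Y ↘ SC)] [IsClosedImmersion f] :
    Topology.IsClosedEmbedding (Pts.map f) := by
  refine isClosedEmbedding_map_of_iSup_eq_top f (fun W : Y.affineOpens => (W : Y.Opens))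
    (iSup_affineOpens_eq_top Y) ?_
  intro W
  have : IsAffine ((W : Y.Opens) : Scheme.{0}) := W.2
  obtain ⟨h1, h2⟩ := IsClosedImmersion.isAffine_surjective_of_isAffine (f ∣_ (W : Y.Opens))
  exact isClosedEmbedding_map_of_isAffine (f ∣_ (W : Y.Opens)) h2

end restrict

section immersion

variable {Y : Scheme.{0}} [Y.Over SC]

instance liftCoborder_isOver (f : X ⟶ Y) [f.IsOver SC] [IsImmersion f] :
    f.liftCoborder.IsOver SC :=
  ⟨by
    change f.liftCoborder ≫ f.coborderRange.ι ≫ (Y ↘ SC) = X ↘ SC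
    rw [← Category.assoc, Scheme.Hom.liftCoborder_ι, comp_over]⟩

theorem isEmbedding_map_of_isImmersion (f : X ⟶ Y) [f.IsOver SC]
    [LocallyOfFiniteType (Y ↘ SC)] [IsImmersion f] :
    Topology.IsEmbedding (Pts.map f) ∧ IsLocallyClosed (Set.range (Pts.map f)) := by
  have h1 := isClosedEmbedding_map_of_isClosedImmersion f.liftCoborder
  have h2 := isOpenEmbedding_map_of_isOpenImmersion f.coborderRange.ι
  have hcomp : Pts.map f = Pts.map f.coborderRange.ι ∘ Pts.map f.liftCoborder := by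
    funext x
    rw [Function.comp_apply, ← Pts.map_comp]
    apply Subtype.ext
    change x.1 ≫ f = x.1 ≫ f.liftCoborder ≫ f.coborderRange.ι
    rw [Scheme.Hom.liftCoborder_ι]
  rw [hcomp]
  refine ⟨h2.isEmbedding.comp h1.isEmbedding, ?_⟩
  rw [Set.range_comp]
  exact h1.isClosed_range.isLocallyClosed.image h2.isInducing h2.isOpen_range.isLocallyClosed

end immersion

section surjective

open Topology

variable {Y : Scheme.{0}} [Y.Over SC]

lemma locallyOfFiniteType_of_isOver (f : X ⟶ Y) [f.IsOver SC] [LocallyOfFiniteType (X ↘ SC)] :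
    LocallyOfFiniteType f := by
  have : LocallyOfFiniteType (f ≫ Y ↘ SC) := by rw [comp_over]; infer_instance
  exact locallyOfFiniteType_of_comp f (Y ↘ SC)

theorem map_surjective_of_surjective (f : X ⟶ Y) [f.IsOver SC]
    [LocallyOfFiniteType (X ↘ SC)] (hf : Function.Surjective f) :
    Function.Surjective (Pts.map f) := by
  intro y
  obtain ⟨x₀, hx₀⟩ := hf y.pt
  obtain ⟨z₀, -, -⟩ := Scheme.Pullback.exists_preimage_pullback (f := f) (g := y.1) x₀ cpt hx₀
  have : LocallyOfFiniteType f := locallyOfFiniteType_of_isOver f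
  let inst : (Limits.pullback f y.1).Over SC := ⟨Limits.pullback.snd f y.1⟩
  have : LocallyOfFiniteType ((Limits.pullback f y.1) ↘ SC) :=
    inferInstanceAs (LocallyOfFiniteType (Limits.pullback.snd f y.1))
  have : Nonempty ↥(Limits.pullback f y.1 : Scheme.{0}) := ⟨z₀⟩
  obtain ⟨z⟩ := nonempty_pts (X := Limits.pullback f y.1)
  have hz : z.1 ≫ Limits.pullback.snd f y.1 = 𝟙 SC := z.2
  refine ⟨⟨z.1 ≫ Limits.pullback.fst f y.1, ?_⟩, ?_⟩
  · rw [← comp_over f SC, Category.assoc, Limits.pullback.condition_assoc, reassoc_of% hz]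
    exact y.2
  · apply Subtype.ext
    change (z.1 ≫ Limits.pullback.fst f y.1) ≫ f = y.1
    rw [Category.assoc, Limits.pullback.condition, reassoc_of% hz]

/-- The complex point attached to a closed point. -/
def ofClosedPoint [LocallyOfFiniteType (X ↘ SC)] (p : X) (hp : IsClosed ({p} : Set X)) : Pts X :=
  ⟨pointOfClosedPoint (X ↘ SC) p hp, pointOfClosedPoint_comp (X ↘ SC) p hp⟩

lemma pt_ofClosedPoint [LocallyOfFiniteType (X ↘ SC)] (p : X) (hp : IsClosed ({p} : Set X)) :
    (ofClosedPoint p hp).pt = p :=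
  pointOfClosedPoint_apply (X ↘ SC) p hp cpt

lemma pt_eq (x : Pts X) : x.pt = x.1 (IsLocalRing.closedPoint ℂ) :=
  congrArg _ (eq_cpt _).symm

lemma isClosed_singleton_pt [LocallyOfFiniteType (X ↘ SC)] (x : Pts X) :
    IsClosed ({x.pt} : Set X) := by
  rw [pt_eq]
  exact ((pointEquivClosedPoint (X ↘ SC)) ⟨x.1, x.2⟩).2

lemma pt_injective [LocallyOfFiniteType (X ↘ SC)] : Function.Injective (Pts.pt : Pts X → X) := by
  intro x x' h
  apply Subtype.ext
  rw [pt_eq, pt_eq] at h
  exact ext_of_apply_closedPoint_eq (X ↘ SC) x.2 x'.2 h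

lemma exists_closedPoint_of_isConstructible {W : Type*} [TopologicalSpace W] [JacobsonSpace W]
    {E : Set W} (hE : IsConstructible E) (hne : E.Nonempty) :
    (E ∩ closedPoints W).Nonempty := by
  obtain ⟨z, hz⟩ := hne
  have hY : IsIrreducible (closure ({z} : Set W)) := isIrreducible_singleton.closure
  have hd : closure ({z} : Set W) ⊆ closure (E ∩ closure ({z} : Set W)) :=
    closure_mono (by
      intro w hw
      rw [Set.mem_singleton_iff] at hw
      subst hw
      exact ⟨hz, subset_closure (Set.mem_singleton _)⟩)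
  obtain ⟨U, hU, hne', hsub⟩ := Groth.Agent.Lib.ConstrTop.exists_open_of_subset_closure hE hY hd
  have hlc : IsLocallyClosed (U ∩ closure ({z} : Set W)) :=
    hU.isLocallyClosed.inter isClosed_closure.isLocallyClosed
  obtain ⟨p, hp, hpc⟩ := nonempty_inter_closedPoints hne' hlc
  exact ⟨p, hsub hp, hpc⟩

theorem surjective_of_map_surjective (f : X ⟶ Y) [f.IsOver SC]
    [LocallyOfFiniteType (X ↘ SC)] [LocallyOfFiniteType (Y ↘ SC)] [QuasiCompact f]
    (hf : Function.Surjective (Pts.map f)) : Function.Surjective f := by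
  have : LocallyOfFiniteType f := locallyOfFiniteType_of_isOver f
  have : IsLocallyNoetherian Y := LocallyOfFiniteType.isLocallyNoetherian (Y ↘ SC)
  have hc : IsLocallyConstructible (Set.range f) := by
    rw [← Set.image_univ]
    exact f.isLocallyConstructible_image IsConstructible.univ.isLocallyConstructible
  by_contra hns
  obtain ⟨y₀, hy₀⟩ : ∃ y₀, y₀ ∉ Set.range f := not_forall.1 hns
  obtain ⟨W, hW, hyW, -⟩ := exists_isAffineOpen_mem_and_subset (x := y₀) (U := ⊤) trivial
  have : IsAffine (W : Scheme.{0}) := hW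
  have hE : IsConstructible ((W.ι ⁻¹' Set.range f)ᶜ : Set (W : Scheme.{0})) :=
    ((hc.preimage_of_isOpenEmbedding W.ι.isOpenEmbedding).isConstructible).compl
  have : JacobsonSpace (W : Scheme.{0}) :=
    LocallyOfFiniteType.jacobsonSpace ((W : Scheme.{0}) ↘ SC)
  obtain ⟨p, hpE, hpc⟩ := exists_closedPoint_of_isConstructible hE ⟨⟨y₀, hyW⟩, hy₀⟩
  obtain ⟨x, hx⟩ := hf (Pts.map W.ι (ofClosedPoint p hpc))
  apply hpE
  refine ⟨x.pt, ?_⟩
  rw [← Pts.pt_map, hx, Pts.pt_map, pt_ofClosedPoint]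

end surjective

section injective

open Topology

variable {Y : Scheme.{0}} [Y.Over SC]

instance jacobsonSpace_of_lft [LocallyOfFiniteType (X ↘ SC)] : JacobsonSpace X :=
  LocallyOfFiniteType.jacobsonSpace (X ↘ SC)

/-- A nonempty locally closed subset of a scheme locally of finite type over `ℂ` contains the
underlying point of a complex point. -/
theorem exists_pt_mem_of_isLocallyClosed [LocallyOfFiniteType (X ↘ SC)] {T : Set X}
    (hT : IsLocallyClosed T) (hne : T.Nonempty) : ∃ x : Pts X, x.pt ∈ T := by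
  obtain ⟨p, hpT, hpc⟩ := nonempty_inter_closedPoints hne hT
  exact ⟨ofClosedPoint p hpc, by rwa [pt_ofClosedPoint]⟩

theorem map_injective_of_injective (f : X ⟶ Y) [f.IsOver SC] [LocallyOfFiniteType (X ↘ SC)]
    (hf : Function.Injective f) : Function.Injective (Pts.map f) := by
  intro x x' h
  apply pt_injective
  apply hf
  rw [← Pts.pt_map, ← Pts.pt_map, h]

theorem injective_of_map_injective (f : X ⟶ Y) [f.IsOver SC] [LocallyOfFiniteType (X ↘ SC)]
    (hf : Function.Injective (Pts.map f)) : Function.Injective f := by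
  have : LocallyOfFiniteType f := locallyOfFiniteType_of_isOver f
  have : LocallyOfFiniteType ((Limits.pullback f f) ↘ SC) :=
    inferInstanceAs (LocallyOfFiniteType (Limits.pullback.fst f f ≫ X ↘ SC))
  intro a b hab
  by_contra hne
  obtain ⟨z, hza, hzb⟩ := Scheme.Pullback.exists_preimage_pullback (f := f) (g := f) a b hab
  have hz : z ∉ Set.range (Limits.pullback.diagonal f) := by
    rintro ⟨c, rfl⟩
    apply hne
    rw [← hza, ← hzb, ← Scheme.Hom.comp_apply, ← Scheme.Hom.comp_apply,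
      Limits.pullback.diagonal_fst, Limits.pullback.diagonal_snd]
  obtain ⟨U, C, hU, hC, hUC⟩ := (Limits.pullback.diagonal f).isLocallyClosed_range
  have key : ∃ w : Pts (Limits.pullback f f), w.pt ∉ Set.range (Limits.pullback.diagonal f) := by
    rw [hUC] at hz ⊢
    by_cases hzU : z ∈ U
    · have hzC : z ∈ Cᶜ := fun h => hz ⟨hzU, h⟩
      obtain ⟨w, hw⟩ := exists_pt_mem_of_isLocallyClosed hC.isOpen_compl.isLocallyClosed ⟨z, hzC⟩
      exact ⟨w, fun h => hw h.2⟩
    · obtain ⟨w, hw⟩ := exists_pt_mem_of_isLocallyClosed hU.isClosed_compl.isLocallyClosed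
        ⟨z, hzU⟩
      exact ⟨w, fun h => hw h.1⟩
  obtain ⟨w, hw⟩ := key
  apply hw
  have h12 : Pts.map (Limits.pullback.fst f f) w = Pts.map (Limits.pullback.snd f f) w :=
    hf (Pts.map_pullback_condition f f w)
  have h12' : w.1 ≫ Limits.pullback.fst f f = w.1 ≫ Limits.pullback.snd f f :=
    congrArg Subtype.val h12
  have hw1 : w.1 = (w.1 ≫ Limits.pullback.fst f f) ≫ Limits.pullback.diagonal f := by
    apply Limits.pullback.hom_ext
    · rw [Category.assoc, Limits.pullback.diagonal_fst, Category.comp_id]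
    · rw [Category.assoc, Limits.pullback.diagonal_snd, Category.comp_id, h12']
  refine ⟨(w.1 ≫ Limits.pullback.fst f f) cpt, ?_⟩
  rw [← Scheme.Hom.comp_apply, ← hw1]
  rfl

end injective

section discrete

open Cardinal

/-- A non-unit of a finitely generated `ℂ`-algebra is killed by some `ℂ`-point. -/
lemma exists_algHom_eq_zero_of_not_isUnit {A : Type} [CommRing A] [Algebra ℂ A]
    [Algebra.FiniteType ℂ A] {a : A} (ha : ¬ IsUnit a) : ∃ φ : A →ₐ[ℂ] ℂ, φ a = 0 := by
  have hne : Ideal.span {a} ≠ ⊤ := by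
    rwa [Ne, Ideal.span_singleton_eq_top]
  have : Nontrivial (A ⧸ Ideal.span {a}) := Ideal.Quotient.nontrivial_iff.2 hne
  have hft : (algebraMap ℂ (A ⧸ Ideal.span {a})).FiniteType :=
    RingHom.finiteType_algebraMap.2 inferInstance
  obtain ⟨ψ, hψ⟩ := exists_retraction_of_finiteType _ hft
  refine ⟨{ toRingHom := ψ.comp (Ideal.Quotient.mk _), commutes' := fun c => hψ c }, ?_⟩
  change ψ (Ideal.Quotient.mk _ a) = 0
  rw [Ideal.Quotient.eq_zero_iff_mem.2 (Ideal.mem_span_singleton_self a), map_zero]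

lemma rank_le_aleph0_of_finiteType {B : Type} [CommRing B] [Algebra ℂ B]
    [Algebra.FiniteType ℂ B] : Module.rank ℂ B ≤ ℵ₀ := by
  obtain ⟨n, f, hf⟩ := Algebra.FiniteType.iff_quotient_mvPolynomial''.1
    (inferInstance : Algebra.FiniteType ℂ B)
  refine (LinearMap.rank_le_of_surjective f.toLinearMap hf).trans ?_
  rw [MvPolynomial.rank_eq]
  exact Cardinal.mk_le_aleph0

lemma algebraMap_bijective_of_countable {B : Type} [CommRing B] [IsDomain B] [Algebra ℂ B]
    [Algebra.FiniteType ℂ B] [Countable (B →ₐ[ℂ] ℂ)] :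
    Function.Bijective (algebraMap ℂ B) := by
  have hint : Algebra.IsIntegral ℂ B := by
    refine ⟨fun b => ?_⟩
    rw [← isAlgebraic_iff_isIntegral]
    by_contra hb
    let K := FractionRing B
    have hinj : Function.Injective (algebraMap B K) := IsFractionRing.injective B K
    have hbK : Transcendental ℂ (algebraMap B K b) := by
      rwa [Transcendental, isAlgebraic_algebraMap_iff hinj]
    have hli := hbK.linearIndependent_sub_inv
    let S : Set ℂ := Set.range fun φ : B →ₐ[ℂ] ℂ => φ b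
    have hS : S.Countable := Set.countable_range _
    have hunit : ∀ c : (Sᶜ : Set ℂ), IsUnit (b - algebraMap ℂ B c) := by
      intro c
      by_contra hc
      obtain ⟨φ, hφ⟩ := exists_algHom_eq_zero_of_not_isUnit hc
      apply c.2
      refine ⟨φ, ?_⟩
      rw [map_sub, AlgHom.commutes, sub_eq_zero] at hφ
      exact hφ
    let u : (Sᶜ : Set ℂ) → B := fun c => ((hunit c).unit⁻¹ : Bˣ)
    have hu : ∀ c : (Sᶜ : Set ℂ), algebraMap B K (u c) =
        (algebraMap B K b - algebraMap ℂ K c)⁻¹ := by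
      intro c
      have h1 : (b - algebraMap ℂ B c) * u c = 1 := (hunit c).mul_val_inv
      have h2 := congrArg (algebraMap B K) h1
      rw [map_mul, map_one, map_sub, ← IsScalarTower.algebraMap_apply ℂ B K] at h2
      exact eq_inv_of_mul_eq_one_right h2
    have hli' : LinearIndependent ℂ u := by
      apply LinearIndependent.of_comp (IsScalarTower.toAlgHom ℂ B K).toLinearMap
      have : (IsScalarTower.toAlgHom ℂ B K).toLinearMap ∘ u =
          (fun a : ℂ => (algebraMap B K b - algebraMap ℂ K a)⁻¹) ∘ (Subtype.val : (Sᶜ : Set ℂ) → ℂ) := by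
        funext c
        exact hu c
      rw [this]
      exact hli.comp _ Subtype.val_injective
    have hcard := hli'.cardinal_le_rank
    have hle : #(Sᶜ : Set ℂ) ≤ ℵ₀ := hcard.trans rank_le_aleph0_of_finiteType
    have hScc : (Sᶜ : Set ℂ).Countable := by
      rwa [← Cardinal.le_aleph0_iff_set_countable]
    apply not_countable_complex
    rw [← Set.union_compl_self S]
    exact hS.union hScc
  exact IsAlgClosed.algebraMap_bijective_of_isIntegral

lemma krullDimLE_zero_of_countable {A : Type} [CommRing A] [Algebra ℂ A]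
    [Algebra.FiniteType ℂ A] [Countable (A →ₐ[ℂ] ℂ)] : Ring.KrullDimLE 0 A := by
  rw [Ring.krullDimLE_zero_iff]
  intro p hp
  have : Countable ((A ⧸ p) →ₐ[ℂ] ℂ) := by
    refine Function.Injective.countable (f := fun φ : (A ⧸ p) →ₐ[ℂ] ℂ => φ.comp (Ideal.Quotient.mkₐ ℂ p)) ?_
    intro φ ψ h
    exact AlgHom.cancel_right (Ideal.Quotient.mkₐ_surjective ℂ p) |>.1 h
  have hb := algebraMap_bijective_of_countable (B := A ⧸ p)
  apply Ideal.Quotient.maximal_of_isField
  exact (MulEquiv.isField (Field.toIsField ℂ) (RingEquiv.ofBijective _ hb).symm.toMulEquiv)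


theorem discreteTopology_pts_of_discreteTopology [LocallyOfFiniteType (X ↘ SC)]
    [DiscreteTopology X] : DiscreteTopology (Pts X) := by
  rw [discreteTopology_iff_isOpen_singleton]
  intro x
  have : ({x} : Set (Pts X)) = Pts.pt ⁻¹' {x.pt} := by
    ext y
    simp only [Set.mem_singleton_iff, Set.mem_preimage]
    exact ⟨fun h => h ▸ rfl, fun h => pt_injective h⟩
  rw [this]
  exact (isOpen_discrete _).preimage Pts.continuous_pt

lemma countable_algHom_of_countable_pts [IsAffine X] [Countable (Pts X)] :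
    letI : Algebra ℂ Γ(X, ⊤) := (strHom X).toAlgebra
    Countable (Γ(X, ⊤) →ₐ[ℂ] ℂ) := by
  let : Algebra ℂ Γ(X, ⊤) := (strHom X).toAlgebra
  refine Function.Injective.countable
    (f := fun φ : Γ(X, ⊤) →ₐ[ℂ] ℂ => ofRingHom (X := X) φ.toRingHom (fun c => φ.commutes c)) ?_
  intro φ ψ h
  ext a
  have h1 := evTop_ofRingHom (X := X) φ.toRingHom (fun c => φ.commutes c) a
  have h2 := evTop_ofRingHom (X := X) ψ.toRingHom (fun c => ψ.commutes c) a
  have h' : ofRingHom (X := X) φ.toRingHom (fun c => φ.commutes c) =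
      ofRingHom (X := X) ψ.toRingHom (fun c => ψ.commutes c) := h
  rw [h'] at h1
  exact h1.symm.trans h2

theorem discreteTopology_of_discreteTopology_pts [LocallyOfFiniteType (X ↘ SC)]
    [DiscreteTopology (Pts X)] : DiscreteTopology X := by
  apply discreteTopology_iff_isOpen_singleton.mpr
  intro x
  obtain ⟨W, hW1, hW2, _⟩ := exists_isAffineOpen_mem_and_subset (Opens.mem_top x)
  have : IsAffine (W : Scheme.{0}) := hW1
  have hj := isOpenEmbedding_map_of_isOpenImmersion W.ι
  have : DiscreteTopology (Pts (W : Scheme.{0})) := hj.isEmbedding.discreteTopology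
  obtain ⟨n, s, hs⟩ := exists_generators (X := (W : Scheme.{0}))
  have hE := isClosedEmbedding_evFam s hs
  have : SecondCountableTopology (Pts (W : Scheme.{0})) :=
    hE.isEmbedding.secondCountableTopology
  have : Countable (Pts (W : Scheme.{0})) :=
    TopologicalSpace.separableSpace_iff_countable.1 inferInstance
  let : Algebra ℂ Γ((W : Scheme.{0}), ⊤) := (strHom (W : Scheme.{0})).toAlgebra
  have : Algebra.FiniteType ℂ Γ((W : Scheme.{0}), ⊤) :=
    strHom_finiteType_of_isAffine (X := (W : Scheme.{0}))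
  have : Countable (Γ((W : Scheme.{0}), ⊤) →ₐ[ℂ] ℂ) :=
    countable_algHom_of_countable_pts (X := (W : Scheme.{0}))
  have hk : Ring.KrullDimLE 0 Γ((W : Scheme.{0}), ⊤) := krullDimLE_zero_of_countable
  have : IsNoetherianRing Γ((W : Scheme.{0}), ⊤) := Algebra.FiniteType.isNoetherianRing ℂ _
  have : IsArtinianRing Γ((W : Scheme.{0}), ⊤) := isArtinianRing_iff_krullDimLE_zero.2 hk
  have : DiscreteTopology (Spec Γ((W : Scheme.{0}), ⊤)) :=
    inferInstanceAs (DiscreteTopology (PrimeSpectrum _))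
  have : DiscreteTopology (W : Scheme.{0}) :=
    (W : Scheme.{0}).isoSpec.hom.homeomorph.symm.discreteTopology
  have hopen := (isOpen_discrete ({⟨x, hW2⟩} : Set W)).trans W.2
  have himg : ({x} : Set X) = Subtype.val '' ({⟨x, hW2⟩} : Set W) := by
    ext y
    constructor
    · intro hy
      rw [Set.mem_singleton_iff] at hy
      subst hy
      exact ⟨⟨y, hW2⟩, rfl, rfl⟩
    · rintro ⟨z, hz, rfl⟩
      have hz' : z = ⟨x, hW2⟩ := hz
      rw [hz']
      rfl
  rw [himg]
  exact hopen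

end discrete

end

end Groth.Agent.Lib.AnPts
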