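import Groth.Agent.Lib.CohenFactor3
import Groth.Agent.S2462

/-!
# Formally smooth local homomorphisms are flat: the complete case (helper89)

EGA 0_IV 19.7.1.  `flat_of_presentation`: if `A → B` is formally smooth for the adic topologies and
fits into a commutative square with surjections `ρ : R → A`, `σ : S → B` and a flat map
`τ : R → S`, `S` a complete Noetherian local ring, then `B` is flat over `A`
(`B` is a retract of the flat `A`-algebra `A ⊗[R] S`).
`flat_of_isFormallySmoothAdic_complete`: the case of complete Noetherian local rings, where such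
a square is given by a flat Cohen factorization.
-/

set_option autoImplicit false
universe u

namespace Groth.Agent.Lib.FSFlat

open IsLocalRing TensorProduct

/-- A quotient of a complete Noetherian local ring is complete. -/
theorem isAdicComplete_of_surjective {S C : Type*} [CommRing S] [IsNoetherianRing S]
    [IsLocalRing S] [IsAdicComplete (maximalIdeal S) S] [CommRing C] [IsLocalRing C]
    (f : S →+* C) (hf : Function.Surjective f) : IsAdicComplete (maximalIdeal C) C := by
  let _ : Algebra S C := f.toAlgebra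
  have hmap : (maximalIdeal S).map (algebraMap S C) = maximalIdeal C :=
    map_maximalIdeal_of_surjective f hf
  rw [← hmap, IsAdicComplete.map_algebraMap_iff (R := S) (S := C) (M := C)]
  have hfin : Module.Finite S C := Module.Finite.of_surjective (Algebra.linearMap S C) hf
  have hH : IsHausdorff (maximalIdeal S) C :=
    IsHausdorff.of_le_jacobson _ _ (IsAdicComplete.le_jacobson_bot _)
  have hP : IsPrecomplete (maximalIdeal S) C := by
    rw [← AdicCompletion.of_surjective_iff]
    intro y
    obtain ⟨x', hx'⟩ := AdicCompletion.map_surjective (maximalIdeal S)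
      (f := Algebra.linearMap S C) hf y
    obtain ⟨b, hb⟩ := (AdicCompletion.of_surjective_iff (I := maximalIdeal S) (M := S)).2
      inferInstance x'
    refine ⟨Algebra.linearMap S C b, ?_⟩
    rw [← AdicCompletion.map_of, hb, hx']
  exact { toIsHausdorff := hH, toIsPrecomplete := hP }

/-- **EGA 0_IV 19.7.1**, abstract form with algebra structures. -/
theorem flat_of_presentation_aux {A B R S : Type u} [CommRing A] [CommRing B] [CommRing R]
    [CommRing S] [IsLocalRing A] [IsLocalRing B] [IsLocalRing S] [IsNoetherianRing S]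
    [IsAdicComplete (maximalIdeal S) S] [Algebra A B] [IsLocalHom (algebraMap A B)]
    [Algebra R A] [Algebra R S] [Algebra R B] [IsScalarTower R A B] [Module.Flat R S]
    (h : EGA41.IsFormallySmoothAdic A (maximalIdeal A) B (maximalIdeal B))
    (hρ : Function.Surjective (algebraMap R A)) (σ' : S →ₐ[R] B) (hσ : Function.Surjective σ') :
    Module.Flat A B := by
  let π : A ⊗[R] S →ₐ[A] B :=
    Algebra.TensorProduct.lift (Algebra.ofId A B) σ' (fun _ _ => Commute.all _ _)
  have hπ1 : ∀ s : S, π (1 ⊗ₜ[R] s) = σ' s := by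
    intro s
    simp [π]
  have hπsurj : Function.Surjective π := by
    intro b
    obtain ⟨s, rfl⟩ := hσ b
    exact ⟨1 ⊗ₜ[R] s, hπ1 s⟩
  have hinc : Function.Surjective (Algebra.TensorProduct.includeRight : S →ₐ[R] A ⊗[R] S) :=
    Algebra.TensorProduct.includeRight_surjective S hρ
  have hCN : IsNoetherianRing (A ⊗[R] S) :=
    isNoetherianRing_of_surjective S (A ⊗[R] S)
      (Algebra.TensorProduct.includeRight : S →ₐ[R] A ⊗[R] S).toRingHom hinc
  have hCnt : Nontrivial (A ⊗[R] S) := π.toRingHom.domain_nontrivial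
  have hCloc : IsLocalRing (A ⊗[R] S) :=
    IsLocalRing.of_surjective' (Algebra.TensorProduct.includeRight : S →ₐ[R] A ⊗[R] S).toRingHom
      hinc
  have hCc : IsAdicComplete (maximalIdeal (A ⊗[R] S)) (A ⊗[R] S) :=
    isAdicComplete_of_surjective
      (Algebra.TensorProduct.includeRight : S →ₐ[R] A ⊗[R] S).toRingHom hinc
  have hA : (maximalIdeal A).map (algebraMap A (A ⊗[R] S)) ≤ maximalIdeal (A ⊗[R] S) := by
    rw [Ideal.map_le_iff_le_comap]
    intro a ha
    rw [Ideal.mem_comap, mem_maximalIdeal, mem_nonunits_iff]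
    intro hu
    have h1 : IsUnit (π (algebraMap A (A ⊗[R] S) a)) := hu.map π
    rw [AlgHom.commutes] at h1
    exact ha ((isUnit_map_iff (algebraMap A B) a).mp h1)
  have hJ : RingHom.ker π ≠ ⊤ := RingHom.ker_ne_top π.toRingHom
  let e : ((A ⊗[R] S) ⧸ RingHom.ker π) ≃ₐ[A] B := Ideal.quotientKerAlgEquivOfSurjective hπsurj
  have he : ∀ c, e (Ideal.Quotient.mk _ c) = π c := fun c => rfl
  have hQnt : Nontrivial ((A ⊗[R] S) ⧸ RingHom.ker π) := Ideal.Quotient.nontrivial_iff.mpr hJ
  have hQloc : IsLocalRing ((A ⊗[R] S) ⧸ RingHom.ker π) :=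
    IsLocalRing.of_surjective' (Ideal.Quotient.mk (RingHom.ker π)) Ideal.Quotient.mk_surjective
  have hu : (maximalIdeal B).map (e.symm : B →ₐ[A] _).toRingHom ≤
      (maximalIdeal (A ⊗[R] S)).map (Ideal.Quotient.mk (RingHom.ker π)) := by
    rw [map_maximalIdeal_of_surjective _ Ideal.Quotient.mk_surjective, Ideal.map_le_iff_le_comap]
    intro b hb
    rw [Ideal.mem_comap, mem_maximalIdeal, mem_nonunits_iff]
    intro hunit
    have h1 : IsUnit (e (e.symm b)) := hunit.map e
    rw [AlgEquiv.apply_symm_apply] at h1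
    exact hb h1
  have key := Groth.Agent.S2462.result (maximalIdeal A) (maximalIdeal B) h hA
    (RingHom.ker π) hJ
  have key2 := key (e.symm : B →ₐ[A] _)
  obtain ⟨v, -, hv⟩ := key2 hu
  have hπv : ∀ b, π (v b) = b := by
    intro b
    have h1 : Ideal.Quotient.mk (RingHom.ker π) (v b) = e.symm b := AlgHom.congr_fun hv b
    rw [← he, h1, AlgEquiv.apply_symm_apply]
  have hcomp : π.toLinearMap ∘ₗ v.toLinearMap = LinearMap.id := by
    ext b
    exact hπv b
  have hfl : Module.Flat A (A ⊗[R] S) := inferInstance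
  exact Module.Flat.of_retract v.toLinearMap π.toLinearMap hcomp

/-- **EGA 0_IV 19.7.1**, abstract form. -/
theorem flat_of_presentation {A B R S : Type u} [CommRing A] [CommRing B] [CommRing R]
    [CommRing S] [IsLocalRing A] [IsLocalRing B] [IsLocalRing S] [IsNoetherianRing S]
    [IsAdicComplete (maximalIdeal S) S] [Algebra A B] [IsLocalHom (algebraMap A B)]
    (h : EGA41.IsFormallySmoothAdic A (maximalIdeal A) B (maximalIdeal B))
    (ρ : R →+* A) (hρ : Function.Surjective ρ) (σ : S →+* B) (hσ : Function.Surjective σ)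
    (τ : R →+* S) (hτ : τ.Flat) (hcomm : σ.comp τ = (algebraMap A B).comp ρ) :
    Module.Flat A B := by
  let _ : Algebra R A := ρ.toAlgebra
  let _ : Algebra R S := τ.toAlgebra
  let _ : Algebra R B := ((algebraMap A B).comp ρ).toAlgebra
  have : IsScalarTower R A B := IsScalarTower.of_algebraMap_eq (fun r => rfl)
  have hflatRS : Module.Flat R S := hτ
  let σ' : S →ₐ[R] B := { σ with commutes' := fun r => RingHom.congr_fun hcomm r }
  exact flat_of_presentation_aux h hρ σ' hσ

/-- Flat Cohen presentations of local homomorphisms of complete Noetherian local rings, with the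
power series rings abstracted away. -/
theorem exists_flat_presentation (A B : Type u) [CommRing A] [CommRing B] [IsLocalRing A]
    [IsLocalRing B] [IsNoetherianRing A] [IsNoetherianRing B] [IsAdicComplete (maximalIdeal A) A]
    [IsAdicComplete (maximalIdeal B) B] [Algebra A B] [IsLocalHom (algebraMap A B)] :
    ∃ (R S : Type u) (_ : CommRing R) (_ : CommRing S) (_ : IsLocalRing S)
      (_ : IsNoetherianRing S) (_ : IsAdicComplete (maximalIdeal S) S)
      (ρ : R →+* A) (σ : S →+* B) (τ : R →+* S), Function.Surjective ρ ∧ Function.Surjective σ ∧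
        σ.comp τ = (algebraMap A B).comp ρ ∧ τ.Flat := by
  classical
  obtain ⟨Λ, _, _, q, vA, hΛ, hqA, hvAloc, hvAsurj⟩ := Groth.Agent.Lib.CohenFactor.exists_isCoeff A
  obtain ⟨Λ', _, _, q', vB, hΛ', hqB, hvBloc, hvBsurj⟩ :=
    Groth.Agent.Lib.CohenFactor.exists_isCoeff B
  have hqq : q' = q := by
    have h1 : CharP (ResidueField A) q' :=
      RingHom.charP (ResidueField.map (algebraMap A B)) (RingHom.injective _) q'
    exact CharP.eq (ResidueField A) h1 hqA
  subst hqq
  obtain ⟨n, bA, hbA⟩ := (Submodule.fg_iff_exists_fin_generating_family).1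
    (IsNoetherian.noetherian (maximalIdeal A))
  have hbA' : Ideal.span (Set.range bA) = maximalIdeal A := hbA
  obtain ⟨m, bB, hbB⟩ := (Submodule.fg_iff_exists_fin_generating_family).1
    (IsNoetherian.noetherian (maximalIdeal B))
  have hbB' : Ideal.span (Set.range bB) = maximalIdeal B := hbB
  have hΛc := hΛ.complete
  obtain ⟨ρ, hρsurj, -, -⟩ := Groth.Agent.Lib.CohenFactor.exists_surjective_of_family Λ A vA
    (fun a ha => map_nonunit vA a ha) hvAsurj bA
    (fun i => hbA' ▸ Ideal.subset_span ⟨i, rfl⟩) (hbA' ▸ le_sup_left)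
  obtain ⟨σ, τ, hσsurj, hcomm, -, -, -, -, hflat, -, -⟩ :=
    Groth.Agent.Lib.CohenFactor.exists_factor hΛ hΛ' ρ hρsurj vB hvBsurj bB
      (fun j => hbB' ▸ Ideal.subset_span ⟨j, rfl⟩)
      (hbB' ▸ le_sup_of_le_left le_sup_left)
  have hSreg := Groth.Agent.Lib.CohenFactor.isRegularLocalRing_mvPowerSeries hΛ' (n + m)
  exact ⟨_, _, inferInstance, inferInstance, inferInstance, inferInstance,
    Groth.Agent.Lib.CohenFactor.isAdicComplete_mvPowerSeries hΛ' (n + m), ρ, σ, τ, hρsurj,
    hσsurj, hcomm, hflat⟩

/-- **EGA 0_IV 19.7.1**, complete case: a local homomorphism of complete Noetherian local rings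
which is formally smooth for the adic topologies is flat. -/
theorem flat_of_isFormallySmoothAdic_complete {A B : Type u} [CommRing A] [CommRing B]
    [IsLocalRing A] [IsLocalRing B] [IsNoetherianRing A] [IsNoetherianRing B]
    [IsAdicComplete (maximalIdeal A) A] [IsAdicComplete (maximalIdeal B) B] [Algebra A B]
    [IsLocalHom (algebraMap A B)]
    (h : EGA41.IsFormallySmoothAdic A (maximalIdeal A) B (maximalIdeal B)) : Module.Flat A B := by
  obtain ⟨R, S, _, _, _, _, _, ρ, σ, τ, hρ, hσ, hcomm, hτ⟩ := exists_flat_presentation A B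
  exact flat_of_presentation h ρ hρ σ hσ τ hτ hcomm

end Groth.Agent.Lib.FSFlat
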