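import Mathlib
import Groth.Prelude.Def_Found
import Groth.Agent.Lib.AdicPi

/-!
Abstract pieces for Tate's lemma (`R` normal Noetherian, `(x)` prime, `R/(x)` N-2, `R`
`x`-adically complete implies `R` N-2).
-/

set_option autoImplicit false
set_option maxHeartbeats 400000
universe u

namespace Groth.Agent.Lib.TateN2A98

open Submodule

/-- `x`-adic descent of linear independence. -/
theorem linearIndependent_of_dvd {R M : Type*} [CommRing R] [AddCommGroup M] [Module R M] (x : R)
    (hx : ∀ m : M, x • m = 0 → m = 0) (hsep : ∀ r : R, (∀ k : ℕ, x ^ k ∣ r) → r = 0)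
    {ι : Type*} [Fintype ι] (s : ι → M)
    (H : ∀ g : ι → R, ∑ i, g i • s i = 0 → ∀ i, x ∣ g i) : LinearIndependent R s := by
  classical
  have key : ∀ k : ℕ, ∀ g : ι → R, ∑ i, g i • s i = 0 → ∀ i, x ^ k ∣ g i := by
    intro k
    induction k with
    | zero => intro g _ i; simp
    | succ k ih =>
      intro g hg i
      have h1 := H g hg
      choose g' hg' using h1
      have h2 : ∑ i, g' i • s i = 0 := by
        apply hx
        rw [Finset.smul_sum, ← hg]
        refine Finset.sum_congr rfl (fun j _ => ?_)
        rw [hg' j, mul_smul]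
      have h3 := ih g' h2 i
      rw [hg' i, pow_succ']
      exact mul_dvd_mul_left x h3
  rw [Fintype.linearIndependent_iff]
  intro g hg i
  exact hsep _ (fun k => key k g hg i)

attribute [local instance] FractionRing.liftAlgebra in
/-- A domain integral and of finite rank over an N-2 Noetherian domain is a finite module. -/
theorem finite_of_isN2_of_rank_lt (D E : Type u) [CommRing D] [IsDomain D] [IsNoetherianRing D]
    [CommRing E] [IsDomain E] [Algebra D E] [FaithfulSMul D E] [Algebra.IsIntegral D E]
    (h2 : CAlg.IsN2 D) (hr : Module.rank D E < Cardinal.aleph0) : Module.Finite D E := by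
  have hrank : Module.rank (FractionRing D) (FractionRing E) = Module.rank D E :=
    Algebra.IsAlgebraic.rank_fractionRing D E
  have hfd : FiniteDimensional (FractionRing D) (FractionRing E) := by
    rw [← hrank] at hr
    exact Module.rank_lt_aleph0_iff.mp hr
  have hfin : Module.Finite D (integralClosure D (FractionRing E)) := h2 (FractionRing E) hfd
  have hnoeth : IsNoetherian D (integralClosure D (FractionRing E)) :=
    isNoetherian_of_isNoetherianRing_of_finite D _
  let f : E →ₗ[D] (integralClosure D (FractionRing E)) :=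
    { toFun := fun e => ⟨algebraMap E (FractionRing E) e,
        (Algebra.IsIntegral.isIntegral (R := D) e).algebraMap⟩
      map_add' := fun a b => Subtype.ext (map_add _ a b)
      map_smul' := fun d a => Subtype.ext (by
        simp only [RingHom.id_apply]
        rw [Algebra.smul_def, map_mul, ← IsScalarTower.algebraMap_apply]
        rw [Subalgebra.coe_smul, Algebra.smul_def]) }
  have hf : Function.Injective f := by
    intro a b hab
    have := congrArg Subtype.val hab
    exact IsFractionRing.injective E (FractionRing E) this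
  exact Module.Finite.of_injective f hf

/-- Lifting finiteness from `S/(y)` to `S` when `y ^ Q = x`, `S` is `x`-adically separated and
`R` is `x`-adically complete. -/
theorem finite_of_quotient_finite {R S : Type*} [CommRing R] [CommRing S] [Algebra R S]
    (x : R) (y : S) (Q : ℕ) (hy : y ^ Q = algebraMap R S x)
    [IsPrecomplete (Ideal.span ({x} : Set R)) R] [IsHausdorff (Ideal.span ({x} : Set R)) S]
    (hfin : Module.Finite R (S ⧸ Ideal.span ({y} : Set S))) : Module.Finite R S := by
  classical
  -- a finitely generated `R`-submodule `P` with `P + yS = S`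
  obtain ⟨n, e, he⟩ := Module.Finite.exists_fin (R := R) (M := S ⧸ Ideal.span ({y} : Set S))
  have hlift : ∀ i, ∃ s : S, Ideal.Quotient.mk (Ideal.span ({y} : Set S)) s = e i :=
    fun i => Ideal.Quotient.mk_surjective (e i)
  choose s hs using hlift
  let P : Submodule R S := span R (Set.range s)
  have hPfg : P.FG := Submodule.fg_span (Set.finite_range s)
  have hP : ∀ t : S, ∃ g ∈ P, ∃ v : S, t = g + y * v := by
    intro t
    have ht : Ideal.Quotient.mk (Ideal.span ({y} : Set S)) t ∈ span R (Set.range e) := by
      rw [he]; exact mem_top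
    obtain ⟨c, hc⟩ := (Submodule.mem_span_range_iff_exists_fun R).1 ht
    refine ⟨∑ i, c i • s i, ?_, ?_⟩
    · exact Submodule.sum_mem _ (fun i _ =>
        Submodule.smul_mem _ _ (Submodule.subset_span (Set.mem_range_self i)))
    · have h0 : Ideal.Quotient.mk (Ideal.span ({y} : Set S)) (t - ∑ i, c i • s i) = 0 := by
        rw [map_sub, map_sum, ← hc, sub_eq_zero]
        refine (Finset.sum_congr rfl (fun i _ => ?_)).symm
        rw [← hs i, Algebra.smul_def, Algebra.smul_def, map_mul]
        rfl
      rw [Ideal.Quotient.eq_zero_iff_mem, Ideal.mem_span_singleton] at h0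
      obtain ⟨v, hv⟩ := h0
      exact ⟨v, by rw [← hv]; ring⟩
  -- induction: a f.g. submodule `P_k` with `P_k + y^k S = S`
  have hk : ∀ k : ℕ, ∃ Pk : Submodule R S, Pk.FG ∧ ∀ t : S, ∃ p ∈ Pk, ∃ u : S, t = p + y ^ k * u := by
    intro k
    induction k with
    | zero => exact ⟨⊥, Submodule.fg_bot, fun t => ⟨0, Submodule.zero_mem _, t, by simp⟩⟩
    | succ k ih =>
      obtain ⟨Pk, hfg, hPk⟩ := ih
      refine ⟨Pk ⊔ P.map (LinearMap.mulLeft R (y ^ k)), hfg.sup (hPfg.map _), fun t => ?_⟩
      obtain ⟨p, hp, u, rfl⟩ := hPk t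
      obtain ⟨g, hg, v, rfl⟩ := hP u
      refine ⟨p + y ^ k * g, ?_, v, by ring⟩
      exact Submodule.add_mem_sup hp (Submodule.mem_map.mpr ⟨g, hg, rfl⟩)
  obtain ⟨PQ, hfg, hPQ⟩ := hk Q
  haveI : Module.Finite R PQ := Module.Finite.iff_fg.mpr hfg
  apply Groth.Agent.Lib.AdicPi.finite_of_finite_quotient (Ideal.span ({x} : Set R)) S
  let f : PQ →ₗ[R] (S ⧸ ((Ideal.span ({x} : Set R)) • ⊤ : Submodule R S)) :=
    (mkQ _).comp PQ.subtype
  refine Module.Finite.of_surjective f ?_
  intro z
  obtain ⟨t, rfl⟩ := mkQ_surjective _ z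
  obtain ⟨p, hp, u, rfl⟩ := hPQ t
  refine ⟨⟨p, hp⟩, ?_⟩
  show mkQ _ p = mkQ _ (p + y ^ Q * u)
  rw [map_add, left_eq_add, mkQ_apply, Submodule.Quotient.mk_eq_zero, hy, ← Algebra.smul_def]
  exact Submodule.smul_mem_smul (Ideal.mem_span_singleton_self x) mem_top

end Groth.Agent.Lib.TateN2A98
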