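import Mathlib
import Groth.Prelude.Def_Found
import Groth.Agent.Lib.TateN2A98

/-!
Tate's lemma, core step: a finite extension `K'` of `K = Frac R` all of whose `Q`-th powers lie
in `K` and containing a `Q`-th root of `x` has module-finite integral closure of `R`.
-/

set_option autoImplicit false
set_option maxHeartbeats 400000
universe u

namespace Groth.Agent.Lib.TateN2A98

open Submodule

theorem tate_core (R : Type u) [CommRing R] [IsDomain R] [IsNoetherianRing R]
    [IsIntegrallyClosed R]
    (x : R) (hx0 : x ≠ 0) [hprime : (Ideal.span ({x} : Set R)).IsPrime]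
    (h2 : CAlg.IsN2 (R ⧸ Ideal.span ({x} : Set R))) [IsAdicComplete (Ideal.span ({x} : Set R)) R]
    (K : Type*) [Field K] [Algebra R K] [IsFractionRing R K]
    (K' : Type u) [Field K'] [Algebra R K'] [Algebra K K'] [IsScalarTower R K K']
    [FiniteDimensional K K'] (Q : ℕ) (hQ : 0 < Q)
    (hpow : ∀ z : K', z ^ Q ∈ (algebraMap K K').range)
    (y : K') (hy : y ^ Q = algebraMap R K' x) :
    Module.Finite R (integralClosure R K') := by
  classical
  have hinj : Function.Injective (algebraMap R K') := by
    rw [IsScalarTower.algebraMap_eq R K K']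
    exact (algebraMap K K').injective.comp (IsFractionRing.injective R K)
  -- `Q`-th powers of integral elements lie in `R`
  have hφ : ∀ s : integralClosure R K', ∃ r : R, algebraMap R K' r = (s : K') ^ Q := by
    intro s
    obtain ⟨k, hk⟩ := hpow (s : K')
    have hint : IsIntegral R (algebraMap K K' k) := by rw [hk]; exact s.2.pow Q
    have hintk : IsIntegral R k := (isIntegral_algebraMap_iff (algebraMap K K').injective).mp hint
    obtain ⟨r, hr⟩ := IsIntegrallyClosed.isIntegral_iff.mp hintk
    exact ⟨r, by rw [← hk, ← hr, ← IsScalarTower.algebraMap_apply]⟩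
  have hsepR : ∀ r : R, (∀ k : ℕ, x ^ k ∣ r) → r = 0 := by
    intro r hr
    have hH : IsHausdorff (Ideal.span ({x} : Set R)) R := inferInstance
    refine IsHausdorff.haus hH r (fun n => ?_)
    rw [SModEq.zero, smul_eq_mul, Ideal.mul_top, Ideal.span_singleton_pow,
      Ideal.mem_span_singleton]
    exact hr n
  have hy0 : y ≠ 0 := by
    intro h0
    rw [h0, zero_pow hQ.ne'] at hy
    exact hx0 (hinj (by rw [← hy, map_zero]))
  have hyint : IsIntegral R y := by
    apply IsIntegral.of_pow hQ
    rw [hy]; exact isIntegral_algebraMap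
  obtain ⟨yS, hyS⟩ : ∃ yS : integralClosure R K', (yS : K') = y := ⟨⟨y, hyint⟩, rfl⟩
  obtain ⟨𝔮, h𝔮⟩ : ∃ 𝔮 : Ideal (integralClosure R K'), 𝔮 = Ideal.span {yS} := ⟨_, rfl⟩
  have ha : ∀ s : integralClosure R K', s ∈ 𝔮 →
      ∀ r : R, algebraMap R K' r = (s : K') ^ Q → x ∣ r := by
    intro s hs r hr
    rw [h𝔮] at hs
    obtain ⟨t, rfl⟩ := Ideal.mem_span_singleton.mp hs
    obtain ⟨rt, hrt⟩ := hφ t
    refine ⟨rt, hinj ?_⟩
    have hc : ((yS * t : integralClosure R K') : K') = y * (t : K') := by
      rw [← hyS]; rfl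
    rw [hr, map_mul, hrt, ← hy, hc, mul_pow]
  have hb : ∀ s : integralClosure R K',
      (∃ r : R, algebraMap R K' r = (s : K') ^ Q ∧ x ∣ r) → s ∈ 𝔮 := by
    rintro s ⟨r, hr, r', rfl⟩
    have htint : IsIntegral R ((s : K') / y) := by
      apply IsIntegral.of_pow hQ
      have : ((s : K') / y) ^ Q = algebraMap R K' r' := by
        rw [div_pow, ← hr, map_mul, ← hy, mul_div_cancel_left₀ _ (pow_ne_zero Q hy0)]
      rw [this]; exact isIntegral_algebraMap
    rw [h𝔮]
    refine Ideal.mem_span_singleton.mpr ⟨⟨(s : K') / y, htint⟩, Subtype.ext ?_⟩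
    show (s : K') = (yS : K') * ((s : K') / y)
    rw [hyS]
    field_simp
  have hq_prime : 𝔮.IsPrime := by
    rw [Ideal.isPrime_iff]
    refine ⟨?_, ?_⟩
    · intro htop
      have h1 : (1 : integralClosure R K') ∈ 𝔮 := by rw [htop]; trivial
      have hdvd := ha 1 h1 1 (by simp)
      exact hprime.ne_top (Ideal.eq_top_of_isUnit_mem _ (Ideal.mem_span_singleton_self x)
        (isUnit_of_dvd_one hdvd))
    · intro s t hst
      obtain ⟨rs, hrs⟩ := hφ s
      obtain ⟨rt, hrt⟩ := hφ t
      have hdvd : x ∣ rs * rt :=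
        ha (s * t) hst (rs * rt) (by rw [map_mul, hrs, hrt, ← mul_pow]; rfl)
      rcases hprime.mem_or_mem (Ideal.mem_span_singleton.mpr hdvd) with h | h
      · exact Or.inl (hb s ⟨rs, hrs, Ideal.mem_span_singleton.mp h⟩)
      · exact Or.inr (hb t ⟨rt, hrt, Ideal.mem_span_singleton.mp h⟩)
  have hover : 𝔮.LiesOver (Ideal.span ({x} : Set R)) := by
    constructor
    ext r
    rw [Ideal.under_def, Ideal.mem_comap, Ideal.mem_span_singleton]
    constructor
    · intro hxr
      exact hb _ ⟨r ^ Q, by rw [map_pow]; rfl, dvd_pow hxr hQ.ne'⟩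
    · intro hr
      have hdvd := ha _ hr (r ^ Q) (by rw [map_pow]; rfl)
      exact Ideal.mem_span_singleton.mp
        (hprime.mem_of_pow_mem Q (Ideal.mem_span_singleton.mpr hdvd))
  have hrank : Module.rank (R ⧸ Ideal.span ({x} : Set R)) ((integralClosure R K') ⧸ 𝔮) ≤
      (Module.finrank K K' : ℕ) := by
    apply _root_.rank_le
    intro t ht
    have hl : ∀ i : t, ∃ s : integralClosure R K', Ideal.Quotient.mk 𝔮 s = (i : _ ⧸ 𝔮) :=
      fun i => Ideal.Quotient.mk_surjective _
    choose m hm using hl
    have hmR : LinearIndependent R m := by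
      apply linearIndependent_of_dvd x
      · intro s hs
        have h1 : algebraMap R K' x * (s : K') = 0 := by
          have h2 := congrArg Subtype.val hs
          rw [Algebra.smul_def] at h2
          exact h2
        rcases mul_eq_zero.mp h1 with h | h
        · exact absurd (hinj (by rw [h, map_zero])) hx0
        · exact Subtype.ext h
      · exact hsepR
      · intro g hg i
        have h0 : ∑ j, (Ideal.Quotient.mk (Ideal.span ({x} : Set R)) (g j)) •
            ((j : t) : (integralClosure R K') ⧸ 𝔮) = 0 := by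
          have h1 := congrArg (Ideal.Quotient.mk 𝔮) hg
          rw [map_sum, map_zero] at h1
          rw [← h1]
          refine Finset.sum_congr rfl (fun j _ => ?_)
          rw [← hm j, Algebra.smul_def, Algebra.smul_def, map_mul,
            Ideal.Quotient.algebraMap_mk_of_liesOver]
        have h3 := (Fintype.linearIndependent_iff.mp ht)
          (fun j => Ideal.Quotient.mk (Ideal.span ({x} : Set R)) (g j)) h0 i
        exact Ideal.mem_span_singleton.mp (Ideal.Quotient.eq_zero_iff_mem.mp h3)
    have hmK' : LinearIndependent R (fun i => ((m i : integralClosure R K') : K')) :=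
      hmR.map' (integralClosure R K').val.toLinearMap (by
        rw [LinearMap.ker_eq_bot]; exact Subtype.val_injective)
    have hmK : LinearIndependent K (fun i => ((m i : integralClosure R K') : K')) :=
      (LinearIndependent.iff_fractionRing R K).mp hmK'
    have hcard := hmK.fintype_card_le_finrank
    rwa [Fintype.card_coe] at hcard
  have hrlt : Module.rank (R ⧸ Ideal.span ({x} : Set R)) ((integralClosure R K') ⧸ 𝔮) <
      Cardinal.aleph0 := lt_of_le_of_lt hrank Cardinal.natCast_lt_aleph0
  have hEfin : Module.Finite (R ⧸ Ideal.span ({x} : Set R)) ((integralClosure R K') ⧸ 𝔮) :=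
    finite_of_isN2_of_rank_lt _ _ h2 hrlt
  have hEfinR : Module.Finite R ((integralClosure R K') ⧸ 𝔮) :=
    Module.Finite.trans (R ⧸ Ideal.span ({x} : Set R)) _
  have hHausS : IsHausdorff (Ideal.span ({x} : Set R)) (integralClosure R K') := by
    constructor
    intro s hs
    obtain ⟨r, hr⟩ := hφ s
    have hr0 : r = 0 := by
      apply hsepR
      intro k
      have hk := hs k
      rw [SModEq.zero, Ideal.span_singleton_pow, Submodule.ideal_span_singleton_smul,
        Submodule.mem_smul_pointwise_iff_exists] at hk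
      obtain ⟨t, -, rfl⟩ := hk
      obtain ⟨rt, hrt⟩ := hφ t
      have hc : (((x ^ k) • t : integralClosure R K') : K') =
          algebraMap R K' (x ^ k) * (t : K') := by
        rw [Algebra.smul_def]; rfl
      have hrr : r = (x ^ k) ^ Q * rt := hinj (by
        rw [hr, map_mul, hrt, hc, mul_pow, map_pow (algebraMap R K') (x ^ k) Q])
      rw [hrr]
      exact Dvd.dvd.mul_right (dvd_pow_self _ hQ.ne') _
    rw [hr0, map_zero] at hr
    exact Subtype.ext ((pow_eq_zero_iff hQ.ne').mp hr.symm)
  have hyQ : yS ^ Q = algebraMap R (integralClosure R K') x := Subtype.ext (by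
    show (yS : K') ^ Q = algebraMap R K' x
    rw [hyS, hy])
  subst h𝔮
  exact finite_of_quotient_finite x yS Q hyQ hEfinR

end Groth.Agent.Lib.TateN2A98
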