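import Mathlib
import Groth.Agent.Lib.AdicPi
import Groth.Agent.Lib.H59PowerSeries
import Groth.Agent.Lib.PowerSeriesLift50

/-!
# Cohen structure theorem, finite-injective form (helper89)

* `finite_of_primary`: a local homomorphism `φ : P → R` from a complete local ring to a Noetherian
  local ring with `𝔪_P R` primary to `𝔪_R` and surjective on residue fields is finite.
* `injective_of_finite`: a finite map from a domain `P` with `dim P ≤ dim R < ∞` is injective.
* `exists_powerSeries`: a complete Noetherian local domain `R` with a "coefficient ring" `ι : Λ → R`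
  (`Λ` a complete local Noetherian domain with principal maximal ideal `(π)`, `π = 0` or `ι π ≠ 0`,
  `ι` surjective on residue fields) is finite over an injective image of `Λ[[x_1, …, x_n]]`.
-/

set_option autoImplicit false
set_option linter.unusedSectionVars false

namespace Groth.Agent.Lib.CohenStructure

open IsLocalRing

/-- integral ring maps do not raise dimension -/
lemma dim_le_of_integral {R S : Type*} [CommRing R] [CommRing S] (f : R →+* S)
    (hf : f.IsIntegral) : ringKrullDim S ≤ ringKrullDim R := by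
  algebraize [f]
  have : Algebra.IsIntegral R S := ⟨hf⟩
  exact Order.krullDim_le_of_strictMono
    (fun I ↦ ⟨Ideal.comap (algebraMap R S) I.asIdeal, inferInstance⟩)
    (fun I J hIJ ↦ by
      have : I.asIdeal < J.asIdeal := hIJ
      exact Ideal.IsIntegral.comap_lt_comap (R := R) this)

section general

variable {P R : Type*} [CommRing P] [IsLocalRing P] [CommRing R] [IsLocalRing R]
  [IsNoetherianRing R]

theorem finite_of_primary [IsPrecomplete (maximalIdeal P) P] (φ : P →+* R)
    (hloc : (maximalIdeal P).map φ ≤ maximalIdeal R)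
    (hrad : maximalIdeal R ≤ ((maximalIdeal P).map φ).radical)
    (hres : Function.Surjective ((residue R).comp φ)) : φ.Finite := by
  algebraize [φ]
  have hne : (maximalIdeal P).map (algebraMap P R) ≠ ⊤ := fun h =>
    (maximalIdeal.isMaximal R).ne_top (top_le_iff.mp (h ▸ hloc))
  have hH : IsHausdorff (maximalIdeal P) R := by
    rw [← IsHausdorff.map_algebraMap_iff (S := R)]
    exact IsHausdorff.of_isLocalRing _ _ hne
  have hfinres : Module.Finite P (ResidueField R) :=
    Module.Finite.of_surjective (Algebra.linearMap P (ResidueField R)) (fun y => by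
      obtain ⟨x, hx⟩ := hres y
      exact ⟨x, hx⟩)
  -- the quotient by `q = 𝔪_P R` is a finite `P`-module
  have hfq : Module.Finite P (R ⧸ (maximalIdeal P).map (algebraMap P R)) := by
    let f : (R ⧸ (maximalIdeal P).map (algebraMap P R)) →ₐ[P] ResidueField R :=
      Ideal.Quotient.liftₐ _ (IsScalarTower.toAlgHom P R (ResidueField R))
        (fun a ha => by
          change residue R a = 0
          rw [residue_eq_zero_iff]
          exact hloc ha)
    have hf : ∀ a : R, f (Ideal.Quotient.mk _ a) = residue R a := fun a => rfl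
    have hker : RingHom.ker f =
        (maximalIdeal R).map (Ideal.Quotient.mk ((maximalIdeal P).map (algebraMap P R))) := by
      ext y
      obtain ⟨a, rfl⟩ := Ideal.Quotient.mk_surjective y
      rw [RingHom.mem_ker, hf, residue_eq_zero_iff]
      constructor
      · intro ha
        exact Ideal.mem_map_of_mem _ ha
      · intro ha
        rw [Ideal.mem_map_iff_of_surjective _ Ideal.Quotient.mk_surjective] at ha
        obtain ⟨b, hb, hba⟩ := ha
        rw [Ideal.Quotient.eq] at hba
        have : a = b - (b - a) := by ring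
        rw [this]
        exact Ideal.sub_mem _ hb (hloc hba)
    refine Module.finite_of_surjective_of_ker_le_nilradical f ?_ ?_ ?_
    · intro y
      obtain ⟨a, rfl⟩ := residue_surjective y
      exact ⟨Ideal.Quotient.mk _ a, hf a⟩
    · rw [hker, Ideal.map_le_iff_le_comap]
      intro a ha
      obtain ⟨n, hn⟩ := hrad ha
      rw [Ideal.mem_comap, mem_nilradical]
      refine ⟨n, ?_⟩
      rw [← map_pow]
      exact Ideal.Quotient.eq_zero_iff_mem.mpr hn
    · rw [hker]
      exact Ideal.FG.map (IsNoetherian.noetherian _) _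
  apply Groth.Agent.Lib.AdicPi.finite_of_finite_quotient (maximalIdeal P) R
  have hJ : (maximalIdeal P • ⊤ : Submodule P R) =
      ((maximalIdeal P).map (algebraMap P R)).restrictScalars P := Ideal.smul_top_eq_map _
  have e1 := Submodule.Quotient.restrictScalarsEquiv P ((maximalIdeal P).map (algebraMap P R))
  have e3 := Submodule.quotEquivOfEq _ _ hJ
  exact Module.Finite.equiv (e3.trans e1).symm

end general

theorem injective_of_finite {P R : Type*} [CommRing P] [IsDomain P] [CommRing R] (φ : P →+* R)
    (hfin : φ.Finite) (d : ℕ) (hd : ringKrullDim R = d)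
    (hdim : ringKrullDim P ≤ ringKrullDim R) : Function.Injective φ := by
  rw [injective_iff_map_eq_zero]
  intro r hr
  by_contra hr0
  have hle : Ideal.span {r} ≤ RingHom.ker φ := by
    rw [Ideal.span_singleton_le_iff_mem]; exact hr
  let g : (P ⧸ Ideal.span {r}) →+* R :=
    Ideal.Quotient.lift (Ideal.span {r}) φ (fun a ha => hle ha)
  have hg : g.comp (Ideal.Quotient.mk _) = φ := Ideal.Quotient.lift_comp_mk ..
  have hint : g.IsIntegral := RingHom.IsIntegral.tower_top _ _ (hg ▸ hfin.to_isIntegral)
  have h1 := dim_le_of_integral g hint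
  have h2 := ringKrullDim_quotient_succ_le_of_nonZeroDivisor (r := r)
    (mem_nonZeroDivisors_of_ne_zero hr0)
  have h4 : ringKrullDim R + 1 ≤ ringKrullDim R :=
    le_trans (add_le_add_left h1 1) (le_trans h2 hdim)
  rw [hd] at h4
  norm_cast at h4
  omega

section main

open Groth.Agent.Lib.H59PowerSeries

variable {Λ R : Type*} [CommRing Λ] [IsLocalRing Λ] [IsDomain Λ] [IsNoetherianRing Λ]
  [CommRing R] [IsDomain R] [IsLocalRing R] [IsNoetherianRing R]

/-- dimension bound for the power series ring over a local ring with principal maximal ideal. -/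
theorem ringKrullDim_mvPowerSeries_le (n : ℕ) (π : Λ) (hπ : maximalIdeal Λ = Ideal.span {π})
    (ε : ℕ) (hε : π ≠ 0 → 1 ≤ ε) :
    ringKrullDim (MvPowerSeries (Fin n) Λ) ≤ ((n + ε : ℕ) : WithBot ℕ∞) := by
  classical
  refine le_trans (ringKrullDim_le_spanFinrank_maximalIdeal _) ?_
  rw [maximalIdeal_eq_bigIdeal, bigIdeal, hπ, Ideal.map_span, Set.image_singleton]
  have hX : (Set.range (MvPowerSeries.X : Fin n → MvPowerSeries (Fin n) Λ)).ncard ≤ n := by
    rw [← Set.image_univ]
    refine le_trans (Set.ncard_image_le Set.finite_univ) ?_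
    simp
  by_cases h : π = 0
  · rw [h, map_zero, Ideal.span_singleton_eq_bot.mpr rfl, sup_bot_eq]
    have h1 := Submodule.spanFinrank_span_le_ncard_of_finite
      (R := MvPowerSeries (Fin n) Λ)
      (Set.finite_range (MvPowerSeries.X : Fin n → MvPowerSeries (Fin n) Λ))
    have h3 : Submodule.spanFinrank (Ideal.span (Set.range
        (MvPowerSeries.X : Fin n → MvPowerSeries (Fin n) Λ))) ≤ n + ε :=
      le_trans h1 (le_trans hX (Nat.le_add_right _ _))
    exact_mod_cast h3
  · rw [← Ideal.span_union]
    have hfin : (Set.range (MvPowerSeries.X : Fin n → MvPowerSeries (Fin n) Λ) ∪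
        {MvPowerSeries.C π}).Finite := (Set.finite_range _).union (Set.finite_singleton _)
    have h1 := Submodule.spanFinrank_span_le_ncard_of_finite
      (R := MvPowerSeries (Fin n) Λ) hfin
    have h2 : (Set.range (MvPowerSeries.X : Fin n → MvPowerSeries (Fin n) Λ) ∪
        {MvPowerSeries.C π}).ncard ≤ n + ε := by
      refine le_trans (Set.ncard_union_le _ _) ?_
      rw [Set.ncard_singleton]
      have := hε h
      omega
    have h3 : Submodule.spanFinrank (Ideal.span (Set.range
        (MvPowerSeries.X : Fin n → MvPowerSeries (Fin n) Λ) ∪ {MvPowerSeries.C π})) ≤ n + ε :=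
      le_trans h1 h2
    exact_mod_cast h3

/-- **Cohen structure theorem**, finite-injective form. -/
theorem exists_powerSeries [IsAdicComplete (maximalIdeal Λ) Λ] [IsAdicComplete (maximalIdeal R) R]
    (ι : Λ →+* R) (π : Λ) (hπ : maximalIdeal Λ = Ideal.span {π})
    (hπR : ι π ∈ maximalIdeal R) (hπ0 : π = 0 ∨ ι π ≠ 0)
    (hres : Function.Surjective ((residue R).comp ι)) :
    ∃ (n : ℕ) (f : MvPowerSeries (Fin n) Λ →+* R), Function.Injective f ∧ f.Finite ∧
      Function.Surjective ((residue R).comp f) := by
  classical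
  -- dimension of `R`
  obtain ⟨s₀, hs₀, hcard₀⟩ := (maximalIdeal R).exists_finset_card_eq_height_of_isNoetherianRing
  have hdimR : ringKrullDim R = (s₀.card : ℕ) := by
    rw [← IsLocalRing.maximalIdeal_height_eq_ringKrullDim, ← hcard₀]
    rfl
  -- the quotient by `a = ι π`
  have hane : Ideal.span {ι π} ≠ ⊤ := by
    intro h
    rw [Ideal.span_singleton_eq_top] at h
    exact hπR h
  have hnt : Nontrivial (R ⧸ Ideal.span {ι π}) := Ideal.Quotient.nontrivial_iff.mpr hane
  have hlocb : IsLocalRing (R ⧸ Ideal.span {ι π}) :=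
    IsLocalRing.of_surjective' (Ideal.Quotient.mk _) Ideal.Quotient.mk_surjective
  obtain ⟨s, hs, hcard⟩ := (maximalIdeal (R ⧸ Ideal.span {ι π})).exists_finset_card_eq_height_of_isNoetherianRing
  have hdimRb : ringKrullDim (R ⧸ Ideal.span {ι π}) = (s.card : ℕ) := by
    rw [← IsLocalRing.maximalIdeal_height_eq_ringKrullDim, ← hcard]
    rfl
  -- the number of extra generators
  obtain ⟨ε, hε1, hε2⟩ : ∃ ε : ℕ, (π ≠ 0 → 1 ≤ ε) ∧
      ((s.card + ε : ℕ) : WithBot ℕ∞) ≤ ringKrullDim R := by
    by_cases h : π = 0
    · refine ⟨0, fun h' => absurd h h', ?_⟩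
      rw [add_zero, ← hdimRb]
      exact ringKrullDim_le_of_surjective (Ideal.Quotient.mk _) Ideal.Quotient.mk_surjective
    · refine ⟨1, fun _ => le_rfl, ?_⟩
      have ha0 : ι π ≠ 0 := hπ0.resolve_left h
      have := ringKrullDim_quotient_succ_le_of_nonZeroDivisor (r := ι π)
        (mem_nonZeroDivisors_of_ne_zero ha0)
      rw [hdimRb] at this
      exact_mod_cast this
  -- lifts of the system of parameters
  let yb : Fin s.card → R ⧸ Ideal.span {ι π} := fun i => (s.equivFin.symm i : R ⧸ Ideal.span {ι π})
  have hyb : Set.range yb = (s : Set (R ⧸ Ideal.span {ι π})) := by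
    ext b
    constructor
    · rintro ⟨i, rfl⟩
      exact (s.equivFin.symm i).2
    · intro hb
      exact ⟨s.equivFin ⟨b, hb⟩, by simp [yb]⟩
  choose y hy using fun i => Ideal.Quotient.mk_surjective (yb i)
  have hqm : Ideal.span (s : Set (R ⧸ Ideal.span {ι π})) ≤ maximalIdeal (R ⧸ Ideal.span {ι π}) :=
    hs.1.2
  have hradb : maximalIdeal (R ⧸ Ideal.span {ι π}) ≤
      (Ideal.span (s : Set (R ⧸ Ideal.span {ι π}))).radical := by
    rw [Ideal.radical_eq_sInf]
    refine le_sInf ?_
    rintro p ⟨hp1, hp2⟩
    have hpm : p ≤ maximalIdeal (R ⧸ Ideal.span {ι π}) := IsLocalRing.le_maximalIdeal hp2.ne_top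
    exact hs.2 ⟨hp2, hp1⟩ hpm
  have hym : ∀ i, y i ∈ maximalIdeal R := by
    intro i
    have h1 : yb i ∈ maximalIdeal (R ⧸ Ideal.span {ι π}) :=
      hqm (Ideal.subset_span (s.equivFin.symm i).2)
    by_contra h
    have hu : IsUnit (y i) := by rwa [mem_maximalIdeal, mem_nonunits_iff, not_not] at h
    have := hu.map (Ideal.Quotient.mk (Ideal.span {ι π}))
    rw [hy i] at this
    exact h1 this
  let _ : Algebra Λ R := ι.toAlgebra
  obtain ⟨ψ, hψX, -⟩ := Groth.Agent.Lib.PowerSeriesLift50.exists_algHom (k := Λ)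
    (maximalIdeal R) y hym
  have hψC : ∀ c : Λ, ψ (MvPowerSeries.C c) = ι c := fun c => ψ.commutes c
  -- image of the maximal ideal
  have hmap : (maximalIdeal (MvPowerSeries (Fin s.card) Λ)).map ψ.toRingHom =
      Ideal.span (Set.range y) ⊔ Ideal.span {ι π} := by
    rw [maximalIdeal_eq_bigIdeal, bigIdeal, hπ, Ideal.map_sup, Ideal.map_span, Ideal.map_map,
      Ideal.map_span, Set.image_singleton, ← Set.range_comp]
    congr 2
    · ext i
      simp [hψX]
    · show {ψ (MvPowerSeries.C π)} = {ι π}
      rw [hψC]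
  have hloc : (maximalIdeal (MvPowerSeries (Fin s.card) Λ)).map ψ.toRingHom ≤ maximalIdeal R := by
    rw [hmap, sup_le_iff, Ideal.span_le, Ideal.span_le]
    refine ⟨?_, ?_⟩
    · rintro _ ⟨i, rfl⟩
      exact hym i
    · rintro _ rfl
      exact hπR
  have hrad : maximalIdeal R ≤
      ((maximalIdeal (MvPowerSeries (Fin s.card) Λ)).map ψ.toRingHom).radical := by
    intro a ha
    have h1 : Ideal.Quotient.mk (Ideal.span {ι π}) a ∈ maximalIdeal (R ⧸ Ideal.span {ι π}) := by
      rw [mem_maximalIdeal, mem_nonunits_iff]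
      intro hu
      have : IsLocalHom (Ideal.Quotient.mk (Ideal.span {ι π})) :=
        IsLocalHom.of_surjective _ Ideal.Quotient.mk_surjective
      exact ha (isUnit_of_map_unit (Ideal.Quotient.mk (Ideal.span {ι π})) a hu)
    obtain ⟨N, hN⟩ := hradb h1
    refine ⟨N, ?_⟩
    have hspan : Ideal.span (s : Set (R ⧸ Ideal.span {ι π})) =
        (Ideal.span (Set.range y)).map (Ideal.Quotient.mk (Ideal.span {ι π})) := by
      rw [Ideal.map_span, ← Set.range_comp, ← hyb]
      congr 2
      ext i
      exact (hy i).symm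
    rw [hspan, ← map_pow, Ideal.mem_map_iff_of_surjective _ Ideal.Quotient.mk_surjective] at hN
    obtain ⟨b, hb, hba⟩ := hN
    rw [Ideal.Quotient.eq] at hba
    rw [hmap]
    have : a ^ N = b - (b - a ^ N) := by ring
    rw [this]
    exact Ideal.sub_mem _ (Ideal.mem_sup_left hb) (Ideal.mem_sup_right hba)
  have hres' : Function.Surjective ((residue R).comp ψ.toRingHom) := by
    intro z
    obtain ⟨c, hc⟩ := hres z
    refine ⟨MvPowerSeries.C c, ?_⟩
    show residue R (ψ (MvPowerSeries.C c)) = z
    rw [hψC]
    exact hc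
  have hcomplete : IsAdicComplete (maximalIdeal (MvPowerSeries (Fin s.card) Λ))
      (MvPowerSeries (Fin s.card) Λ) := by
    rw [maximalIdeal_eq_bigIdeal]
    exact isAdicComplete_bigIdeal _
  have hfin : ψ.toRingHom.Finite := finite_of_primary ψ.toRingHom hloc hrad hres'
  have hdimP : ringKrullDim (MvPowerSeries (Fin s.card) Λ) ≤ ringKrullDim R :=
    le_trans (ringKrullDim_mvPowerSeries_le s.card π hπ ε hε1) hε2
  have hdomP : IsDomain (MvPowerSeries (Fin s.card) Λ) := NoZeroDivisors.to_isDomain _
  exact ⟨s.card, ψ.toRingHom, injective_of_finite ψ.toRingHom hfin s₀.card hdimR hdimP, hfin, hres'⟩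

end main

end Groth.Agent.Lib.CohenStructure
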