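import Mathlib
import Groth.Prelude.Def_Found
import Groth.Agent.S0569
import Groth.Agent.S0581
import Groth.Agent.S2114
import Groth.Agent.Lib.PSRegular33
import Groth.Agent.Lib.RegularNormal
import Groth.Agent.Lib.H87FieldN2
import Groth.Agent.Lib.FSFlat1
import Groth.Agent.Lib.H59PowerSeries

/-!
Complete Noetherian local rings are Nagata (Stacks 032W), via the Cohen structure theorem
(S0581) and Tate's lemma (S0569).

* `isN2_powerSeries` : `B` regular local and N-2 implies `B⟦X⟧` N-2;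
* `isN2_mvPowerSeries`;
* `isN2_of_isCohenRing`;
* `isN2_of_complete_local_domain`;
* `isNagata_of_complete_local`.
-/

set_option autoImplicit false
set_option maxHeartbeats 400000
universe u

namespace Groth.Agent.Lib.CompleteNagata98

open IsLocalRing PowerSeries Groth.Agent.Lib

theorem isAdicComplete_span_X (B : Type u) [CommRing B] :
    IsAdicComplete (Ideal.span ({(X : B⟦X⟧)} : Set B⟦X⟧)) B⟦X⟧ := by
  have h := H59PowerSeries.isAdicComplete_bigIdeal (σ := Unit) (R := B) (⊥ : Ideal B)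
  have he : H59PowerSeries.bigIdeal Unit (⊥ : Ideal B) =
      Ideal.span ({(X : B⟦X⟧)} : Set B⟦X⟧) := by
    unfold H59PowerSeries.bigIdeal
    rw [Ideal.map_bot, sup_bot_eq, Set.range_unique]
    rfl
  rw [← he]; exact h

/-- Power series over an N-2 regular local ring are N-2 (Tate). -/
theorem isN2_powerSeries (B : Type u) [CommRing B] [IsDomain B] [IsRegularLocalRing B]
    (h : CAlg.IsN2 B) : CAlg.IsN2 B⟦X⟧ := by
  haveI := PSRegular33.isRegularLocalRing_powerSeries B
  haveI : IsIntegrallyClosed B⟦X⟧ := RegularNormal.isIntegrallyClosed B⟦X⟧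
  haveI : (Ideal.span ({(X : B⟦X⟧)} : Set B⟦X⟧)).IsPrime := PowerSeries.span_X_isPrime
  haveI := isAdicComplete_span_X B
  have h2 : CAlg.IsN2 (B⟦X⟧ ⧸ Ideal.span ({(X : B⟦X⟧)} : Set B⟦X⟧)) :=
    H87FieldN2.isN2_of_ringEquiv (PSRegular33.quotXEquiv B).symm h
  exact Groth.Agent.S0569.result B⟦X⟧ X h2

theorem isDomain_mvPowerSeries (σ A : Type*) [CommRing A] [IsDomain A] :
    IsDomain (MvPowerSeries σ A) :=
  NoZeroDivisors.to_isDomain _

attribute [local instance] isDomain_mvPowerSeries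

theorem isN2_mvPowerSeries (A : Type u) [CommRing A] [IsDomain A] [IsRegularLocalRing A]
    (h : CAlg.IsN2 A) (n : ℕ) : CAlg.IsN2 (MvPowerSeries (Fin n) A) := by
  induction n with
  | zero =>
    exact H87FieldN2.isN2_of_ringEquiv (MvPowerSeries.isEmptyEquiv (Fin 0) A).toRingEquiv.symm h
  | succ n ih =>
    haveI := PSRegular33.isRegularLocalRing_mvPowerSeries_fin A n
    have h1 := isN2_powerSeries (MvPowerSeries (Fin n) A) ih
    exact H87FieldN2.isN2_of_ringEquiv (MvPowerSeries.finSuccEquiv A n).toRingEquiv.symm h1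

theorem isN2_of_isCohenRing (Λ : Type u) [CommRing Λ] [IsDomain Λ] (h : CAlg.IsCohenRing Λ) :
    CAlg.IsN2 Λ := by
  obtain ⟨hdom, hdvr, hcompl, p, hp, hmax⟩ := h
  haveI hmaxI : (Ideal.span ({(p : Λ)} : Set Λ)).IsMaximal := by
    rw [← hmax]; infer_instance
  haveI : (Ideal.span ({(p : Λ)} : Set Λ)).IsPrime := hmaxI.isPrime
  haveI : IsAdicComplete (Ideal.span ({(p : Λ)} : Set Λ)) Λ := by
    rw [← hmax]; exact hcompl
  have h2 : CAlg.IsN2 (Λ ⧸ Ideal.span ({(p : Λ)} : Set Λ)) := by
    letI : Field (Λ ⧸ Ideal.span ({(p : Λ)} : Set Λ)) := Ideal.Quotient.field _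
    exact H87FieldN2.isN2_field _
  exact Groth.Agent.S0569.result Λ (p : Λ) h2

theorem isN2_of_complete_local_domain (A : Type u) [CommRing A] [IsDomain A] [IsLocalRing A]
    [IsNoetherianRing A] [IsAdicComplete (maximalIdeal A) A] : CAlg.IsN2 A := by
  obtain ⟨Λ, _, n, f, hΛ, hinj, hfin, -⟩ := Groth.Agent.S0581.result A
  haveI hreg : IsRegularLocalRing Λ := by
    rcases hΛ with h | h
    · letI := h.toField; infer_instance
    · obtain ⟨hdom, hdvr, -, -⟩ := h; infer_instance
  haveI hdomΛ : IsDomain Λ := RegularLocal.isDomain Λ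
  have hΛN2 : CAlg.IsN2 Λ := by
    rcases hΛ with h | h
    · letI := h.toField
      exact H87FieldN2.isN2_field Λ
    · exact isN2_of_isCohenRing Λ h
  have hP : CAlg.IsN2 (MvPowerSeries (Fin n) Λ) := isN2_mvPowerSeries Λ hΛN2 n
  haveI : IsNoetherianRing (MvPowerSeries (Fin n) Λ) := by
    haveI := PSRegular33.isRegularLocalRing_mvPowerSeries_fin Λ n
    infer_instance
  letI : Algebra (MvPowerSeries (Fin n) Λ) A := f.toAlgebra
  haveI : Module.Finite (MvPowerSeries (Fin n) Λ) A := hfin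
  exact Groth.Agent.S2114.result (R := MvPowerSeries (Fin n) Λ) (S := A) hinj hP

/-- A complete Noetherian local ring is Nagata. -/
theorem isNagata_of_complete_local (R : Type u) [CommRing R] [IsLocalRing R]
    [IsNoetherianRing R] [IsAdicComplete (maximalIdeal R) R] : CAlg.IsNagata R := by
  refine ⟨inferInstance, fun p hp => ?_⟩
  haveI : Nontrivial (R ⧸ p) := Ideal.Quotient.nontrivial_iff.mpr hp.ne_top
  haveI : IsLocalRing (R ⧸ p) :=
    IsLocalRing.of_surjective' (Ideal.Quotient.mk p) Ideal.Quotient.mk_surjective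
  haveI : IsAdicComplete (maximalIdeal (R ⧸ p)) (R ⧸ p) :=
    FSFlat.isAdicComplete_of_surjective (Ideal.Quotient.mk p) Ideal.Quotient.mk_surjective
  exact isN2_of_complete_local_domain (R ⧸ p)

end Groth.Agent.Lib.CompleteNagata98
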