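import Groth.Agent.Lib.NagataNormFin96F
import Groth.Agent.Lib.CompleteNagata98
import Groth.Agent.Lib.AdicNoeth
import Mathlib

/-!
# Analytically unramified local domains and finiteness of integral closures (EGA 0_IV 23.1.6)

* `isNoetherianRing_of_essFiniteType`
* `finite_integralClosure_of_essFiniteType`: the integral closure of a Nagata ring in a reduced
  algebra essentially of finite type is finite.
* `finite_integralClosure_of_faithfullyFlat`: faithfully flat descent of the finiteness of an
  integral closure.
* `finite_integralClosure_of_isReduced_tensor`: the main theorem.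
-/

set_option autoImplicit false
set_option linter.style.haveILetI false
universe u

open TensorProduct

namespace Groth.Agent.Lib.AnUnram51

theorem isNoetherianRing_of_essFiniteType (R S : Type*) [CommRing R] [CommRing S] [Algebra R S]
    [IsNoetherianRing R] [Algebra.EssFiniteType R S] : IsNoetherianRing S := by
  haveI : IsNoetherianRing (Algebra.EssFiniteType.subalgebra R S) :=
    Algebra.FiniteType.isNoetherianRing R _
  exact IsLocalization.isNoetherianRing (Algebra.EssFiniteType.submonoid R S) S inferInstance

/-- The integral closure of a Nagata ring in a reduced algebra essentially of finite type is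
finite. -/
theorem finite_integralClosure_of_essFiniteType {R : Type u} [CommRing R] (hR : CAlg.IsNagata R)
    (S : Type u) [CommRing S] [IsReduced S] [Algebra R S] [Algebra.EssFiniteType R S] :
    Module.Finite R (integralClosure R S) := by
  haveI : IsNoetherianRing R := hR.1
  haveI : IsNoetherianRing S := isNoetherianRing_of_essFiniteType R S
  have hfin : (minimalPrimes S).Finite := minimalPrimes.finite_of_isNoetherianRing S
  haveI : Finite (minimalPrimes S) := hfin
  haveI : ∀ q : minimalPrimes S, q.1.IsPrime := fun q => q.2.1.1
  let φ : S →ₐ[R] (∀ q : minimalPrimes S, FractionRing (S ⧸ q.1)) :=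
    AlgHom.pi (fun q => (IsScalarTower.toAlgHom R (S ⧸ q.1) (FractionRing (S ⧸ q.1))).comp
      (Ideal.Quotient.mkₐ R q.1))
  have hφ : Function.Injective φ := by
    rw [injective_iff_map_eq_zero]
    intro s hs
    have hs' : s ∈ nilradical S := by
      rw [nilradical_eq_sInf, Ideal.mem_sInf]
      intro J hJ
      haveI : J.IsPrime := hJ
      obtain ⟨q, hq, hqJ⟩ := Ideal.exists_minimalPrimes_le (bot_le : ⊥ ≤ J)
      have h1 : algebraMap (S ⧸ q) (FractionRing (S ⧸ q)) (Ideal.Quotient.mk q s) = 0 :=
        congrFun hs ⟨q, hq⟩
      haveI : q.IsPrime := hq.1.1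
      have h2 : Ideal.Quotient.mk q s = 0 :=
        IsFractionRing.injective (S ⧸ q) (FractionRing (S ⧸ q)) (by rw [h1, map_zero])
      exact hqJ (Ideal.Quotient.eq_zero_iff_mem.mp h2)
    rwa [nilradical_eq_zero, Ideal.zero_eq_bot, Ideal.mem_bot] at hs'
  refine Groth.Agent.Lib.NagataNormFin96.finite_integralClosure_of_injective_pi
    (fun q : minimalPrimes S => FractionRing (S ⧸ q.1)) φ hφ (fun q => ?_)
  haveI : Algebra.EssFiniteType (S ⧸ q.1) (FractionRing (S ⧸ q.1)) :=
    Algebra.EssFiniteType.of_isLocalization _ (nonZeroDivisors (S ⧸ q.1))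
  haveI : Algebra.EssFiniteType R (FractionRing (S ⧸ q.1)) :=
    Algebra.EssFiniteType.comp R (S ⧸ q.1) (FractionRing (S ⧸ q.1))
  exact Groth.Agent.Lib.NagataNormFin96.finite_integralClosure_field' hR (FractionRing (S ⧸ q.1))

section descent

variable (A B R K' : Type*) [CommRing A] [CommRing B] [Algebra A B] [CommRing R] [Algebra B R]
  [Algebra A R] [IsScalarTower A B R] [CommRing K'] [Algebra A K']

/-- The comparison map `B ⊗[A] A' → R ⊗[A] K'`, where `A'` is the integral closure of `A`
in `K'`. -/
noncomputable def cmp : B ⊗[A] (integralClosure A K') →ₐ[B] R ⊗[A] K' :=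
  Algebra.TensorProduct.map (IsScalarTower.toAlgHom B B R) (integralClosure A K').val

theorem cmp_injective [Module.Flat A B] [Module.Flat A K']
    (hinj : Function.Injective (algebraMap B R)) : Function.Injective (cmp A B R K') := by
  have h1 : Function.Injective
      (LinearMap.lTensor B ((integralClosure A K').val.toLinearMap)) :=
    Module.Flat.lTensor_preserves_injective_linearMap _ Subtype.val_injective
  have h2 : Function.Injective
      (LinearMap.rTensor K' ((IsScalarTower.toAlgHom A B R).toLinearMap)) :=
    Module.Flat.rTensor_preserves_injective_linearMap _ hinj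
  have h3 : ⇑(cmp A B R K') = ⇑(LinearMap.rTensor K' ((IsScalarTower.toAlgHom A B R).toLinearMap))
      ∘ ⇑(LinearMap.lTensor B ((integralClosure A K').val.toLinearMap)) := by
    funext z
    induction z using TensorProduct.induction_on with
    | zero => simp
    | tmul x y => simp [cmp]
    | add x y hx hy => simp only [map_add, Function.comp_apply] at hx hy ⊢; rw [hx, hy]
  rw [h3]
  exact h2.comp h1

theorem cmp_mem (z : B ⊗[A] (integralClosure A K')) :
    cmp A B R K' z ∈ integralClosure B (R ⊗[A] K') :=
  (Algebra.IsIntegral.isIntegral (R := B) z).map (cmp A B R K')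

/-- Faithfully flat descent of finiteness of the integral closure. -/
theorem finite_integralClosure_of_faithfullyFlat [Module.FaithfullyFlat A B] [Module.Flat A K']
    [IsNoetherianRing B] (hinj : Function.Injective (algebraMap B R))
    (h : Module.Finite B (integralClosure B (R ⊗[A] K'))) :
    Module.Finite A (integralClosure A K') := by
  let ψ : B ⊗[A] (integralClosure A K') →ₗ[B] integralClosure B (R ⊗[A] K') :=
    LinearMap.codRestrict (Subalgebra.toSubmodule (integralClosure B (R ⊗[A] K')))
      (cmp A B R K').toLinearMap (cmp_mem A B R K')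
  have hψ : Function.Injective ψ := by
    intro a b hab
    apply cmp_injective A B R K' hinj
    exact congrArg Subtype.val hab
  haveI : IsNoetherian B (integralClosure B (R ⊗[A] K')) :=
    isNoetherian_of_isNoetherianRing_of_finite B _
  haveI : Module.Finite B (B ⊗[A] (integralClosure A K')) := Module.Finite.of_injective ψ hψ
  exact Module.Finite.of_finite_tensorProduct_of_faithfullyFlat B

end descent

/-- EGA 0_IV 23.1.6. -/
theorem finite_integralClosure_of_isReduced_tensor {A K' R : Type u}
    [CommRing A] [IsDomain A] [IsLocalRing A] [IsNoetherianRing A]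
    [CommRing R] [Algebra (AdicCompletion (IsLocalRing.maximalIdeal A) A) R]
    [IsFractionRing (AdicCompletion (IsLocalRing.maximalIdeal A) A) R] [Algebra A R]
    [IsScalarTower A (AdicCompletion (IsLocalRing.maximalIdeal A) A) R]
    [Field K'] [Algebra A K'] [Algebra (FractionRing A) K'] [IsScalarTower A (FractionRing A) K']
    [FiniteDimensional (FractionRing A) K'] (h : IsReduced (R ⊗[A] K')) :
    Module.Finite A (integralClosure A K') := by
  haveI : IsNoetherianRing (AdicCompletion (IsLocalRing.maximalIdeal A) A) :=
    Groth.Agent.Lib.AdicNoeth.isNoetherianRing_adicCompletion _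
  have hNag : CAlg.IsNagata (AdicCompletion (IsLocalRing.maximalIdeal A) A) :=
    Groth.Agent.Lib.CompleteNagata98.isNagata_of_complete_local _
  haveI : Module.FaithfullyFlat A (AdicCompletion (IsLocalRing.maximalIdeal A) A) :=
    Module.FaithfullyFlat.of_flat_of_isLocalHom
  haveI : Module.Flat A (FractionRing A) := IsLocalization.flat _ (nonZeroDivisors A)
  haveI : Module.Flat A K' := Module.Flat.trans A (FractionRing A) K'
  haveI : Algebra.EssFiniteType (AdicCompletion (IsLocalRing.maximalIdeal A) A) R :=
    Algebra.EssFiniteType.of_isLocalization R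
      (nonZeroDivisors (AdicCompletion (IsLocalRing.maximalIdeal A) A))
  haveI : Algebra.EssFiniteType A (FractionRing A) :=
    Algebra.EssFiniteType.of_isLocalization _ (nonZeroDivisors A)
  haveI : Algebra.EssFiniteType A K' := Algebra.EssFiniteType.comp A (FractionRing A) K'
  haveI : Algebra.EssFiniteType (AdicCompletion (IsLocalRing.maximalIdeal A) A) (R ⊗[A] K') :=
    Algebra.EssFiniteType.comp (AdicCompletion (IsLocalRing.maximalIdeal A) A) R (R ⊗[A] K')
  have h1 := finite_integralClosure_of_essFiniteType hNag (R ⊗[A] K')
  exact finite_integralClosure_of_faithfullyFlat A (AdicCompletion (IsLocalRing.maximalIdeal A) A)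
    R K' (IsFractionRing.injective _ R) h1

end Groth.Agent.Lib.AnUnram51
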