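import Mathlib.RingTheory.Ideal.MinimalPrime.Noetherian
import Mathlib.RingTheory.Ideal.MinimalPrime.Localization
import Mathlib.RingTheory.Localization.FractionRing
import Mathlib.RingTheory.IntegralClosure.IntegrallyClosed
import Mathlib.RingTheory.Nilpotent.Lemmas
import Mathlib.Algebra.Group.Pi.Units

/-!
# Total ring of fractions of a reduced Noetherian ring

For a reduced Noetherian ring `A` with minimal primes `p`, the total ring of fractions
`FractionRing A` is isomorphic (as an `A`-algebra) to the product of the fraction fields of the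
`A ⧸ p` (`TotalFrac.equivPi`), and under this isomorphism the integral closure of `A` corresponds to
the product of the integral closures of the `A ⧸ p` (`TotalFrac.integralClosureEquivPi`).
(owner: helper98)
-/

set_option autoImplicit false
set_option maxHeartbeats 400000
universe u

namespace Groth.Agent.Lib.TotalFrac

open scoped nonZeroDivisors

variable (A : Type u) [CommRing A]

/-- The type of minimal primes of `A`. -/
abbrev MinPrime := {p : Ideal A // p ∈ minimalPrimes A}

instance (p : MinPrime A) : p.1.IsPrime := p.2.1.1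

instance [IsNoetherianRing A] : Finite (MinPrime A) :=
  (minimalPrimes.finite_of_isNoetherianRing A).to_subtype

/-- The fraction field of `A ⧸ p`. -/
abbrev Lq (p : MinPrime A) := FractionRing (A ⧸ p.1)

variable {A}

lemma eq_zero_of_forall_mem [IsReduced A] {z : A} (hz : ∀ q : MinPrime A, z ∈ q.1) : z = 0 := by
  have : z ∈ sInf (minimalPrimes A) := by
    rw [Ideal.mem_sInf]; exact fun {q} hq => hz ⟨q, hq⟩
  rw [minimalPrimes, Ideal.sInf_minimalPrimes, Ideal.radical_bot_of_isReduced] at this
  simpa using this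

lemma mem_nonZeroDivisors_iff_forall_notMem [IsReduced A] {s : A} :
    s ∈ A⁰ ↔ ∀ q : MinPrime A, s ∉ q.1 := by
  constructor
  · intro hs q hq
    exact Set.disjoint_left.1 (Ideal.disjoint_nonZeroDivisors_of_mem_minimalPrimes q.2) hq hs
  · intro h
    rw [mem_nonZeroDivisors_iff_right]
    intro z hz
    apply eq_zero_of_forall_mem
    intro q
    have : z * s ∈ q.1 := by rw [hz]; exact zero_mem _
    exact (q.2.1.1.mem_or_mem this).resolve_right (h q)

lemma algebraMap_Lq_eq_zero_iff (q : MinPrime A) (a : A) :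
    algebraMap A (Lq A q) a = 0 ↔ a ∈ q.1 := by
  rw [IsScalarTower.algebraMap_apply A (A ⧸ q.1) (Lq A q),
    map_eq_zero_iff _ (IsFractionRing.injective (A ⧸ q.1) (Lq A q)), Ideal.Quotient.algebraMap_eq,
    Ideal.Quotient.eq_zero_iff_mem]

variable (A) in
/-- The canonical map from the total ring of fractions to the product of the fraction fields of the
quotients by minimal primes. -/
noncomputable def toPi [IsReduced A] : FractionRing A →ₐ[A] (∀ q : MinPrime A, Lq A q) :=
  IsLocalization.liftAlgHom (M := A⁰) (f := Algebra.ofId A (∀ q : MinPrime A, Lq A q)) (by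
    rintro ⟨s, hs⟩
    rw [Pi.isUnit_iff]
    intro q
    rw [isUnit_iff_ne_zero]
    change algebraMap A (Lq A q) s ≠ 0
    rw [Ne, algebraMap_Lq_eq_zero_iff]
    exact mem_nonZeroDivisors_iff_forall_notMem.1 hs q)

lemma toPi_injective [IsReduced A] : Function.Injective (toPi A) := by
  rw [injective_iff_map_eq_zero]
  intro x hx
  obtain ⟨a, s, rfl⟩ := IsLocalization.exists_mk'_eq A⁰ x
  have h1 : toPi A (algebraMap A (FractionRing A) a) = 0 := by
    rw [← IsLocalization.mk'_spec (FractionRing A) a s, map_mul, hx, zero_mul]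
  rw [AlgHom.commutes] at h1
  have ha : a = 0 := by
    apply eq_zero_of_forall_mem
    intro q
    rw [← algebraMap_Lq_eq_zero_iff]
    exact congrFun h1 q
  rw [ha, IsLocalization.mk'_zero]

lemma toPi_mk'_mul [IsReduced A] (a : A) (s : A⁰) (q : MinPrime A) :
    toPi A (IsLocalization.mk' (FractionRing A) a s) q * algebraMap A (Lq A q) s =
      algebraMap A (Lq A q) a := by
  have h := IsLocalization.mk'_spec (FractionRing A) a s
  have h2 := congrArg (fun t => toPi A t q) h
  simp only [map_mul, AlgHom.commutes, Pi.mul_apply] at h2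
  exact h2

section Noeth

variable [IsNoetherianRing A]

/-- For each minimal prime `p` an element outside `p` lying in all other minimal primes. -/
lemma exists_u (p : MinPrime A) : ∃ u : A, u ∉ p.1 ∧ ∀ q : MinPrime A, q ≠ p → u ∈ q.1 := by
  classical
  have hfin : (minimalPrimes A).Finite := minimalPrimes.finite_of_isNoetherianRing A
  set T : Finset (Ideal A) := hfin.toFinset.erase p.1 with hT
  have hTmem : ∀ q, q ∈ T ↔ q ∈ minimalPrimes A ∧ q ≠ p.1 := by
    intro q; simp [hT, and_comm]
  by_contra hcon
  push Not at hcon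
  have hle : T.inf id ≤ p.1 := by
    intro x hx
    by_contra hxp
    obtain ⟨q, hqp, hxq⟩ := hcon x hxp
    have hqT : q.1 ∈ T := (hTmem q.1).2 ⟨q.2, fun h => hqp (Subtype.ext h)⟩
    exact hxq ((Finset.inf_le (f := id) hqT) hx)
  obtain ⟨q, hqT, hqp⟩ := (Ideal.IsPrime.inf_le' p.2.1.1).1 hle
  obtain ⟨hqmin, hqne⟩ := (hTmem q).1 hqT
  exact hqne (le_antisymm hqp (p.2.2 hqmin.1 hqp))

/-- For each minimal prime `p` an element of `p` lying in no other minimal prime. -/
lemma exists_v (p : MinPrime A) : ∃ v : A, v ∈ p.1 ∧ ∀ q : MinPrime A, q ≠ p → v ∉ q.1 := by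
  classical
  have hfin : (minimalPrimes A).Finite := minimalPrimes.finite_of_isNoetherianRing A
  set T : Finset (Ideal A) := hfin.toFinset.erase p.1 with hT
  have hTmem : ∀ q, q ∈ T ↔ q ∈ minimalPrimes A ∧ q ≠ p.1 := by
    intro q; simp [hT, and_comm]
  by_contra hcon
  push Not at hcon
  have hsub : (p.1 : Set A) ⊆ ⋃ q ∈ (T : Set (Ideal A)), (q : Set A) := by
    intro y hy
    obtain ⟨q, hqp, hyq⟩ := hcon y hy
    have hqT : q.1 ∈ T := (hTmem q.1).2 ⟨q.2, fun h => hqp (Subtype.ext h)⟩
    exact Set.mem_biUnion hqT hyq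
  rw [Ideal.subset_union_prime p.1 p.1 (fun q hq _ _ => ((hTmem q).1 hq).1.1.1)] at hsub
  obtain ⟨q, hqT, hpq⟩ := hsub
  obtain ⟨hqmin, hqp⟩ := (hTmem q).1 hqT
  exact hqp (le_antisymm (hqmin.2 p.2.1 hpq) hpq)

lemma toPi_surjective [IsReduced A] : Function.Surjective (toPi A) := by
  classical
  have : Fintype (MinPrime A) := Fintype.ofFinite _
  intro z
  have hz : ∀ p : MinPrime A, ∃ a s : A, s ∉ p.1 ∧
      z p * algebraMap A (Lq A p) s = algebraMap A (Lq A p) a := by
    intro p
    obtain ⟨a', s', h⟩ := IsLocalization.exists_mk'_eq (A ⧸ p.1)⁰ (z p)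
    obtain ⟨a, rfl⟩ := Ideal.Quotient.mk_surjective a'
    obtain ⟨s, hs⟩ := Ideal.Quotient.mk_surjective s'.1
    refine ⟨a, s, ?_, ?_⟩
    · intro hmem
      have : (s'.1 : A ⧸ p.1) = 0 := by
        rw [← hs]; exact Ideal.Quotient.eq_zero_iff_mem.2 hmem
      exact nonZeroDivisors.coe_ne_zero s' this
    · rw [← h, IsScalarTower.algebraMap_apply A (A ⧸ p.1) (Lq A p),
        IsScalarTower.algebraMap_apply A (A ⧸ p.1) (Lq A p) a, Ideal.Quotient.algebraMap_eq, hs,
        IsLocalization.mk'_spec]
  choose a s hs hz using hz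
  choose u hu hu' using exists_u (A := A)
  choose v hv hv' using exists_v (A := A)
  have hs' : ∀ p, s p * u p + v p ∈ A⁰ := by
    intro p
    rw [mem_nonZeroDivisors_iff_forall_notMem]
    intro q hmem
    by_cases hqp : q = p
    · subst hqp
      have h1 : s q * u q ∈ q.1 := by simpa using Ideal.sub_mem _ hmem (hv q)
      rcases q.2.1.1.mem_or_mem h1 with h | h
      · exact hs q h
      · exact hu q h
    · have h1 : v p ∈ q.1 := by
        simpa using Ideal.sub_mem _ hmem (Ideal.mul_mem_left _ (s p) (hu' p q hqp))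
      exact hv' p q hqp h1
  refine ⟨∑ p, IsLocalization.mk' (FractionRing A) (a p * u p) ⟨s p * u p + v p, hs' p⟩, ?_⟩
  funext q
  rw [map_sum, Finset.sum_apply, Finset.sum_eq_single q]
  · have key := toPi_mk'_mul (a q * u q) ⟨s q * u q + v q, hs' q⟩ q
    simp only [map_add, map_mul] at key
    rw [(algebraMap_Lq_eq_zero_iff q (v q)).2 (hv q), add_zero] at key
    have h1 : algebraMap A (Lq A q) (s q) ≠ 0 := fun h =>
      hs q ((algebraMap_Lq_eq_zero_iff q _).1 h)
    have h2 : algebraMap A (Lq A q) (u q) ≠ 0 := fun h =>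
      hu q ((algebraMap_Lq_eq_zero_iff q _).1 h)
    have h3 := hz q
    apply mul_right_cancel₀ (mul_ne_zero h1 h2)
    rw [key, ← mul_assoc, h3]
  · intro p _ hpq
    have key := toPi_mk'_mul (a p * u p) ⟨s p * u p + v p, hs' p⟩ q
    simp only [map_mul] at key
    rw [(algebraMap_Lq_eq_zero_iff q (u p)).2 (hu' p q (Ne.symm hpq)), mul_zero] at key
    have h1 : algebraMap A (Lq A q) (s p * u p + v p) ≠ 0 := fun h =>
      mem_nonZeroDivisors_iff_forall_notMem.1 (hs' p) q ((algebraMap_Lq_eq_zero_iff q _).1 h)
    exact (mul_eq_zero.1 key).resolve_right h1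
  · intro h; exact absurd (Finset.mem_univ q) h

variable (A) in
/-- The total ring of fractions of a reduced Noetherian ring is the product of the fraction fields
of the quotients by the minimal primes. -/
noncomputable def equivPi [IsReduced A] : FractionRing A ≃ₐ[A] (∀ q : MinPrime A, Lq A q) :=
  AlgEquiv.ofBijective (toPi A) ⟨toPi_injective, toPi_surjective⟩

end Noeth

/-- Integrality in a finite product can be checked componentwise. -/
lemma isIntegral_pi {ι : Type*} [Finite ι] {R : Type*} [CommRing R] {B : ι → Type*}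
    [∀ i, CommRing (B i)] [∀ i, Algebra R (B i)] (x : ∀ i, B i) (h : ∀ i, IsIntegral R (x i)) :
    IsIntegral R x := by
  classical
  have : Fintype ι := Fintype.ofFinite ι
  choose g hg hgx using h
  refine ⟨∏ i, g i, Polynomial.monic_prod_of_monic _ _ (fun i _ => hg i), ?_⟩
  funext q
  have h1 : (Polynomial.aeval x (∏ i, g i)) q = Polynomial.aeval (x q) (∏ i, g i) :=
    (Polynomial.aeval_algHom_apply (Pi.evalAlgHom R B q) x _).symm
  change (Polynomial.aeval x (∏ i, g i)) q = 0
  rw [h1, map_prod]
  exact Finset.prod_eq_zero (Finset.mem_univ q) (hgx q)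

variable (A) in
/-- The integral closure of `A ⧸ p` in its fraction field. -/
abbrev Cq (p : MinPrime A) := integralClosure (A ⧸ p.1) (Lq A p)

instance (p : MinPrime A) : Algebra.IsIntegral A (A ⧸ p.1) :=
  Algebra.isIntegral_of_surjective Ideal.Quotient.mk_surjective

variable (A) in
/-- The integral closure of `A` in the product of the `Lq` is the product of the integral
closures. -/
noncomputable def piEquiv [IsNoetherianRing A] :
    integralClosure A (∀ p : MinPrime A, Lq A p) ≃ₐ[A] (∀ p : MinPrime A, Cq A p) where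
  toFun x p := ⟨x.1 p, (x.2.map (Pi.evalAlgHom A (fun p => Lq A p) p)).tower_top⟩
  invFun y := ⟨fun p => (y p).1, isIntegral_pi _ fun p => isIntegral_trans _ (y p).2⟩
  left_inv _ := rfl
  right_inv _ := rfl
  map_mul' _ _ := rfl
  map_add' _ _ := rfl
  commutes' _ := rfl

variable (A) in
/-- The integral closure of a reduced Noetherian ring in its total ring of fractions is the product
of the integral closures of the quotients by the minimal primes. -/
noncomputable def integralClosureEquivPi [IsNoetherianRing A] [IsReduced A] :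
    integralClosure A (FractionRing A) ≃ₐ[A] (∀ p : MinPrime A, Cq A p) :=
  (equivPi A).mapIntegralClosure.trans (piEquiv A)

end Groth.Agent.Lib.TotalFrac
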