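import Mathlib
import Groth.Prelude.Def_Found
import Groth.Agent.Lib.CompleteNagata98
import Groth.Agent.Lib.TotalFrac
import Groth.Agent.Lib.AdicNoeth

/-!
An analytically unramified Noetherian local domain is N-1 (Stacks 0331).

* `isN1_of_faithfullyFlat` : if `A` is a faithfully flat Noetherian `R`-algebra whose integral
  closure in its total ring of fractions is a finite `A`-module, then the domain `R` is N-1;
* `finite_integralClosure_of_complete` : reduced complete Noetherian local rings have finite
  normalization;
* `isN1_of_isReduced_completion`.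
-/

set_option autoImplicit false
set_option maxHeartbeats 400000
universe u

namespace Groth.Agent.Lib.AnalyticN1_98

open IsLocalRing TensorProduct Groth.Agent.Lib

/-- Every element of `A ⊗[R] Frac R` has the form `a ⊗ 1/s`. -/
theorem exists_tmul_inv (R A K : Type*) [CommRing R] [IsDomain R] [CommRing A] [Algebra R A]
    [Field K] [Algebra R K] [IsFractionRing R K] (x : A ⊗[R] K) :
    ∃ (a : A) (s : R), s ≠ 0 ∧ x = a ⊗ₜ[R] (algebraMap R K s)⁻¹ := by
  induction x using TensorProduct.induction_on with
  | zero => exact ⟨0, 1, one_ne_zero, (zero_tmul _ _).symm⟩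
  | tmul a k =>
    obtain ⟨r, s, hs, rfl⟩ := IsFractionRing.div_surjective (A := R) k
    refine ⟨r • a, s, nonZeroDivisors.ne_zero hs, ?_⟩
    rw [smul_tmul, Algebra.smul_def, div_eq_mul_inv]
  | add x y hx hy =>
    obtain ⟨a, s, hs, rfl⟩ := hx
    obtain ⟨b, t, ht, rfl⟩ := hy
    have hsK : algebraMap R K s ≠ 0 := by
      rwa [Ne, map_eq_zero_iff _ (IsFractionRing.injective R K)]
    have htK : algebraMap R K t ≠ 0 := by
      rwa [Ne, map_eq_zero_iff _ (IsFractionRing.injective R K)]
    refine ⟨t • a + s • b, s * t, mul_ne_zero hs ht, ?_⟩
    rw [add_tmul, smul_tmul, smul_tmul]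
    congr 2
    · rw [Algebra.smul_def, map_mul]; field_simp
    · rw [Algebra.smul_def, map_mul]; field_simp

/-- Descent of N-1 along a faithfully flat Noetherian algebra with finite normalization. -/
theorem isN1_of_faithfullyFlat (R A : Type u) [CommRing R] [IsDomain R] [CommRing A] [Algebra R A]
    [Module.FaithfullyFlat R A] [IsNoetherianRing A]
    (hfin : Module.Finite A (integralClosure A (FractionRing A))) : CAlg.IsN1 R := by
  classical
  have hreg : ∀ s : R, s ≠ 0 → algebraMap R A s ∈ nonZeroDivisors A := by
    intro s hs
    have h1 : IsSMulRegular R s := fun a b hab => mul_left_cancel₀ hs hab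
    have h2 : IsSMulRegular A (algebraMap R A s) := IsSMulRegular.of_flat h1
    rw [mem_nonZeroDivisors_iff_right]
    intro z hz
    apply h2
    show algebraMap R A s • z = algebraMap R A s • 0
    rw [smul_eq_mul, smul_zero, mul_comm, hz]
  let g0 : R →+* FractionRing A := (algebraMap A (FractionRing A)).comp (algebraMap R A)
  have hg0 : ∀ s : nonZeroDivisors R, IsUnit (g0 s) := fun s =>
    IsLocalization.map_units (FractionRing A)
      (⟨algebraMap R A s, hreg s (nonZeroDivisors.ne_zero s.2)⟩ : nonZeroDivisors A)
  let ι : FractionRing R →+* FractionRing A := IsLocalization.lift hg0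
  have hι : ∀ r : R, ι (algebraMap R (FractionRing R) r) =
      algebraMap A (FractionRing A) (algebraMap R A r) := fun r => IsLocalization.lift_eq hg0 r
  letI algKQ : Algebra (FractionRing R) (FractionRing A) := ι.toAlgebra
  haveI : IsScalarTower R (FractionRing R) (FractionRing A) :=
    IsScalarTower.of_algebraMap_eq (fun r => by
      rw [IsScalarTower.algebraMap_apply R A (FractionRing A)]; exact (hι r).symm)
  let μK : A ⊗[R] FractionRing R →ₐ[A] FractionRing A :=
    Algebra.TensorProduct.productLeftAlgHom (Algebra.ofId A (FractionRing A))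
      (IsScalarTower.toAlgHom R (FractionRing R) (FractionRing A))
  have hμK : ∀ (a : A) (k : FractionRing R),
      μK (a ⊗ₜ k) = algebraMap A (FractionRing A) a * ι k := by
    intro a k
    simp [μK, Algebra.ofId_apply]
    rfl
  have hμKinj : Function.Injective μK := by
    rw [injective_iff_map_eq_zero]
    intro x hx
    obtain ⟨a, s, hs, rfl⟩ := exists_tmul_inv R A (FractionRing R) x
    rw [hμK] at hx
    have hsK : (algebraMap R (FractionRing R) s)⁻¹ ≠ 0 := by
      apply inv_ne_zero
      rwa [Ne, map_eq_zero_iff _ (IsFractionRing.injective R (FractionRing R))]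
    have hu : IsUnit (ι (algebraMap R (FractionRing R) s)⁻¹) := (IsUnit.mk0 _ hsK).map ι
    have ha : algebraMap A (FractionRing A) a = 0 := (hu.mul_left_eq_zero).mp hx
    have ha0 : a = 0 :=
      IsLocalization.injective (FractionRing A) (le_refl (nonZeroDivisors A)) (by rw [ha, map_zero])
    rw [ha0, zero_tmul]
  let j : A ⊗[R] (integralClosure R (FractionRing R)) →ₗ[A] A ⊗[R] FractionRing R :=
    LinearMap.baseChange A (integralClosure R (FractionRing R)).val.toLinearMap
  have hj : Function.Injective j := fun x y h =>
    Module.Flat.lTensor_preserves_injective_linearMap (M := A)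
      (integralClosure R (FractionRing R)).val.toLinearMap Subtype.val_injective h
  have hint : ∀ x : A ⊗[R] (integralClosure R (FractionRing R)), IsIntegral A (μK (j x)) := by
    intro x
    induction x using TensorProduct.induction_on with
    | zero => rw [map_zero, map_zero]; exact isIntegral_zero
    | tmul a r' =>
      have h1 : j (a ⊗ₜ r') = a ⊗ₜ (r' : FractionRing R) := by
        simp [j]
      rw [h1, hμK]
      refine IsIntegral.mul isIntegral_algebraMap ?_
      have h2 : IsIntegral R (ι (r' : FractionRing R)) :=
        r'.2.map (IsScalarTower.toAlgHom R (FractionRing R) (FractionRing A))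
      exact h2.tower_top
    | add x y hx hy => rw [map_add, map_add]; exact hx.add hy
  let ν : A ⊗[R] (integralClosure R (FractionRing R)) →ₗ[A] integralClosure A (FractionRing A) :=
    { toFun := fun x => ⟨μK (j x), hint x⟩
      map_add' := fun x y => Subtype.ext (by simp [map_add])
      map_smul' := fun c x => Subtype.ext (by simp [map_smul]) }
  have hν : Function.Injective ν := by
    intro x y hxy
    have h1 := congrArg Subtype.val hxy
    exact hj (hμKinj h1)
  haveI : IsNoetherian A (integralClosure A (FractionRing A)) :=
    isNoetherian_of_isNoetherianRing_of_finite A _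
  haveI : Module.Finite A (A ⊗[R] (integralClosure R (FractionRing R))) :=
    Module.Finite.of_injective ν hν
  exact Module.Finite.of_finite_tensorProduct_of_faithfullyFlat A

/-- A reduced complete Noetherian local ring has finite normalization. -/
theorem finite_integralClosure_of_complete (A : Type u) [CommRing A] [IsLocalRing A]
    [IsNoetherianRing A] [IsAdicComplete (maximalIdeal A) A] [IsReduced A] :
    Module.Finite A (integralClosure A (FractionRing A)) := by
  have hNag := CompleteNagata98.isNagata_of_complete_local A
  have hq : ∀ p : TotalFrac.MinPrime A, Module.Finite A (TotalFrac.Cq A p) := by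
    intro p
    have h2 : CAlg.IsN2 (A ⧸ p.1) := hNag.2 p.1
    have h1 : Module.Finite (A ⧸ p.1) (TotalFrac.Cq A p) :=
      h2 (FractionRing (A ⧸ p.1)) inferInstance
    exact Module.Finite.trans (A ⧸ p.1) _
  haveI := hq
  exact Module.Finite.equiv (TotalFrac.integralClosureEquivPi A).symm.toLinearEquiv

/-- An analytically unramified Noetherian local domain is N-1. -/
theorem isN1_of_isReduced_completion (R : Type u) [CommRing R] [IsDomain R] [IsLocalRing R]
    [IsNoetherianRing R] [IsReduced (AdicCompletion (maximalIdeal R) R)] : CAlg.IsN1 R := by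
  haveI : IsNoetherianRing (AdicCompletion (maximalIdeal R) R) :=
    AdicNoeth.isNoetherianRing_adicCompletion _
  haveI hflat : Module.Flat R (AdicCompletion (maximalIdeal R) R) :=
    AdicCompletion.flat_of_isNoetherian _
  haveI hff : Module.FaithfullyFlat R (AdicCompletion (maximalIdeal R) R) :=
    Module.FaithfullyFlat.of_flat_of_isLocalHom
  exact isN1_of_faithfullyFlat R (AdicCompletion (maximalIdeal R) R)
    (finite_integralClosure_of_complete _)

end Groth.Agent.Lib.AnalyticN1_98
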