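import Mathlib

/-!
# Isometries of anisotropic quadratic forms

* `eq_one_of_pow_char`: in characteristic `p > 2` an isometry `g` with `g ^ p = 1` is trivial.
* `sq_eq_one_of_pow_eq_one`: if `K` contains all roots of unity and `2 ≠ 0`, an isometry of finite
  order is an involution.
-/

set_option autoImplicit false

namespace Groth.Agent.Lib.AnisoIsometry

open Polynomial

variable {K : Type*} [Field K] {V : Type*} [AddCommGroup V] [Module K V]

/-- the endomorphism underlying a power of a linear equivalence -/
theorem toLinearMap_pow (g : V ≃ₗ[K] V) (n : ℕ) :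
    ((g ^ n : V ≃ₗ[K] V) : V →ₗ[K] V) = (g : V →ₗ[K] V) ^ n :=
  map_pow (LinearEquiv.automorphismGroup.toLinearMapMonoidHom (R := K) (M := V)) g n

/-- A unipotent isometry `g` (with `(g - 1)^m = 0`) of an anisotropic form is trivial when
`2 ≠ 0`. -/
theorem eq_one_of_nilpotent (h2 : (2 : K) ≠ 0) (q : QuadraticForm K V) (hq : q.Anisotropic)
    (g : V ≃ₗ[K] V) (hg : ∀ x : V, q (g x) = q x) (m : ℕ)
    (hN : ((g : V →ₗ[K] V) - 1) ^ m = 0) : g = 1 := by
  classical
  by_contra hne
  set N : Module.End K V := (g : V →ₗ[K] V) - 1 with hNdef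
  have hN0 : N ≠ 0 := by
    intro h0
    apply hne
    ext v
    have : N v = 0 := by rw [h0]; rfl
    simp only [hNdef, LinearMap.sub_apply, LinearEquiv.coe_coe, Module.End.one_apply,
      sub_eq_zero] at this
    simpa using this
  have hex : ∃ m, N ^ m = 0 := ⟨m, hN⟩
  set k := Nat.find hex with hk
  have hk0 : N ^ k = 0 := Nat.find_spec hex
  have hk2 : 2 ≤ k := by
    by_contra hlt
    have : k = 0 ∨ k = 1 := by omega
    rcases this with h | h
    · rw [h, pow_zero] at hk0
      apply hN0
      calc N = N * 1 := (mul_one N).symm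
        _ = 0 := by rw [hk0, mul_zero]
    · rw [h, pow_one] at hk0
      exact hN0 hk0
  have hkm : N ^ (k - 1) ≠ 0 := Nat.find_min hex (by omega)
  obtain ⟨y, hy⟩ : ∃ y, (N ^ (k - 1)) y ≠ 0 := by
    by_contra hall
    push Not at hall
    exact hkm (LinearMap.ext hall)
  set x := (N ^ (k - 2)) y with hx
  set u := N x with hu
  have hu1 : u = (N ^ (k - 1)) y := by
    rw [hu, hx, ← Module.End.mul_apply, ← pow_succ']
    congr 2
    omega
  have hu0 : u ≠ 0 := by rw [hu1]; exact hy
  have hNu : N u = 0 := by
    rw [hu1, ← Module.End.mul_apply, ← pow_succ']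
    have : k - 1 + 1 = k := by omega
    rw [this, hk0]; rfl
  have hgx : g x = x + u := by
    have : N x = g x - x := by simp [hNdef]
    rw [hu, this]; abel
  have hgu : g u = u := by
    have : N u = g u - u := by simp [hNdef]
    rw [this, sub_eq_zero] at hNu
    exact hNu
  have e1 : q (x + u) = q x := by rw [← hgx, hg]
  have e2 : q (x + (u + u)) = q x := by
    have : g (g x) = x + (u + u) := by rw [hgx, map_add, hgx, hgu]; abel
    rw [← this, hg, hg]
  rw [QuadraticMap.map_add (⇑q) x u] at e1
  rw [QuadraticMap.map_add (⇑q) x (u + u)] at e2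
  rw [QuadraticMap.polar_add_right, QuadraticMap.map_add_self] at e2
  have h3 : (2 : K) * q u = 0 := by
    have e2' : q x + 4 * q u + (QuadraticMap.polar q x u + QuadraticMap.polar q x u) = q x := by
      simpa [nsmul_eq_mul] using e2
    linear_combination e2' - 2 * e1
  have hqu : q u = 0 := (mul_eq_zero.mp h3).resolve_left h2
  exact hu0 (hq u hqu)

/-- In characteristic `p > 2`, an isometry of an anisotropic form with `g ^ p = 1` is trivial. -/
theorem eq_one_of_pow_char (p : ℕ) [Fact p.Prime] [CharP K p] (hp : p ≠ 2)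
    (q : QuadraticForm K V) (hq : q.Anisotropic)
    (g : V ≃ₗ[K] V) (hg : ∀ x : V, q (g x) = q x) (hgp : g ^ p = 1) : g = 1 := by
  have h2 : (2 : K) ≠ 0 := by
    intro h
    have : ((2 : ℕ) : K) = 0 := by exact_mod_cast h
    rw [CharP.cast_eq_zero_iff K p] at this
    exact hp ((Nat.prime_dvd_prime_iff_eq Fact.out Nat.prime_two).mp this)
  refine eq_one_of_nilpotent h2 q hq g hg p ?_
  have hpoly : (X - 1 : K[X]) ^ p = X ^ p - 1 := by
    rw [sub_pow_char, one_pow]
  have := congrArg (aeval (g : V →ₗ[K] V)) hpoly
  simp only [map_pow, map_sub, aeval_X, map_one] at this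
  rw [this, ← toLinearMap_pow, hgp]
  exact sub_self _

end Groth.Agent.Lib.AnisoIsometry

namespace Groth.Agent.Lib.AnisoIsometry

open Polynomial

variable {K : Type*} [Field K] {V : Type*} [AddCommGroup V] [Module K V]

/-- powers of isometries are isometries -/
theorem isometry_pow (q : QuadraticForm K V) (g : V ≃ₗ[K] V) (hg : ∀ x : V, q (g x) = q x)
    (n : ℕ) (x : V) : q ((g ^ n) x) = q x := by
  induction n generalizing x with
  | zero => simp
  | succ n ih => rw [pow_succ, LinearEquiv.mul_apply, ih, hg]

/-- A product of injective operators `G - a` is injective. -/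
theorem injective_aeval_prod (G : Module.End K V) (s : Multiset K)
    (hs : ∀ a ∈ s, Function.Injective (G - algebraMap K (Module.End K V) a)) :
    Function.Injective (aeval G (s.map (fun a => X - C a)).prod) := by
  induction s using Multiset.induction_on with
  | empty =>
    simp only [Multiset.map_zero, Multiset.prod_zero, map_one]
    exact Function.injective_id
  | cons a s ih =>
    rw [Multiset.map_cons, Multiset.prod_cons, map_mul]
    have h1 : Function.Injective (aeval G (X - C a)) := by
      simpa using hs a (Multiset.mem_cons_self a s)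
    have h2 := ih (fun b hb => hs b (Multiset.mem_cons_of_mem hb))
    exact h1.comp h2

/-- If `K` contains all roots of unity and `2 ≠ 0`, an isometry of finite order of an anisotropic
form squares to the identity. -/
theorem sq_eq_one_of_pow_eq_one (hK : ∀ n : ℕ, 0 < n → (X ^ n - 1 : K[X]).Splits)
    (h2 : (2 : K) ≠ 0) (q : QuadraticForm K V) (hq : q.Anisotropic) :
    ∀ d : ℕ, 0 < d → ∀ g : V ≃ₗ[K] V, (∀ x, q (g x) = q x) → g ^ d = 1 → g ^ 2 = 1 := by
  classical
  intro d
  induction d using Nat.strong_induction_on with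
  | _ d ih =>
  intro hd g hg hgd
  by_cases hdK : (d : K) = 0
  · obtain ⟨p, hp⟩ := CharP.exists K
    have hpd : p ∣ d := (CharP.cast_eq_zero_iff K p d).mp hdK
    have hp0 : p ≠ 0 := by
      rintro rfl
      rw [zero_dvd_iff] at hpd
      omega
    have hprime : p.Prime := (CharP.char_is_prime_or_zero K p).resolve_right hp0
    haveI : Fact p.Prime := ⟨hprime⟩
    have hp2 : p ≠ 2 := by
      rintro rfl
      apply h2
      exact_mod_cast CharP.cast_eq_zero K 2
    obtain ⟨d', rfl⟩ := hpd
    have hd' : 0 < d' := Nat.pos_of_mul_pos_left hd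
    have h1 : g ^ d' = 1 :=
      eq_one_of_pow_char p hp2 q hq (g ^ d') (isometry_pow q g hg d')
        (by rw [← pow_mul, mul_comm]; exact hgd)
    have hlt : d' < p * d' := by
      have := hprime.two_le
      nlinarith
    exact ih d' hlt hd' g hg h1
  · set G : Module.End K V := (g : V →ₗ[K] V) with hG
    set P : K[X] := X ^ d - 1 with hP
    have hP' : P = X ^ d - C 1 := by rw [hP, map_one]
    have hmonic : P.Monic := by rw [hP']; exact monic_X_pow_sub_C 1 hd.ne'
    have hsep : P.Separable := by rw [hP']; exact separable_X_pow_sub_C 1 hdK one_ne_zero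
    have hnodup : P.roots.Nodup := nodup_roots hsep
    have hprod := (hK d hd).eq_prod_roots_of_monic hmonic
    set s₁ := P.roots.filter (fun a => a ^ 2 = 1) with hs₁
    set s₂ := P.roots.filter (fun a => ¬ a ^ 2 = 1) with hs₂
    have hsplit : P = (s₂.map (fun a => X - C a)).prod * (s₁.map (fun a => X - C a)).prod := by
      rw [← Multiset.prod_add, ← Multiset.map_add, add_comm, Multiset.filter_add_not]
      exact hprod
    have hinj : Function.Injective (aeval G (s₂.map (fun a => X - C a)).prod) := by
      apply injective_aeval_prod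
      intro a ha
      have ha2 : ¬ a ^ 2 = 1 := (Multiset.mem_filter.mp ha).2
      rw [← LinearMap.ker_eq_bot, LinearMap.ker_eq_bot']
      intro v hv
      have hgv : g v = a • v := by
        have : G v - a • v = 0 := by simpa using hv
        rw [sub_eq_zero] at this
        exact this
      have h1 : q v = (a * a) * q v := by
        conv_lhs => rw [← hg v, hgv, QuadraticMap.map_smul]
        rfl
      have h3 : (a ^ 2 - 1) * q v = 0 := by linear_combination -h1
      have hq0 : q v = 0 := (mul_eq_zero.mp h3).resolve_left (sub_ne_zero.mpr ha2)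
      exact hq v hq0
    have hPG : aeval G P = 0 := by
      simp only [hP, map_sub, map_pow, aeval_X, map_one]
      rw [hG, ← toLinearMap_pow, hgd]
      exact sub_self _
    have hA : aeval G (s₁.map (fun a => X - C a)).prod = 0 := by
      apply LinearMap.ext
      intro v
      apply hinj
      rw [LinearMap.zero_apply, map_zero, ← Module.End.mul_apply, ← map_mul, ← hsplit, hPG]
      rfl
    have hne : (X ^ 2 - 1 : K[X]) ≠ 0 := by
      have : (X ^ 2 - 1 : K[X]) = X ^ 2 - C 1 := by rw [map_one]
      rw [this]
      exact (monic_X_pow_sub_C 1 two_ne_zero).ne_zero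
    have hdvd : (s₁.map (fun a => X - C a)).prod ∣ (X ^ 2 - 1 : K[X]) := by
      rw [Multiset.prod_X_sub_C_dvd_iff_le_roots hne]
      rw [Multiset.le_iff_subset (hnodup.filter _)]
      intro a ha
      have ha2 : a ^ 2 = 1 := (Multiset.mem_filter.mp ha).2
      rw [mem_roots hne]
      simp [ha2]
    obtain ⟨B, hB⟩ := hdvd
    have hG2 : G ^ 2 = 1 := by
      have : aeval G (X ^ 2 - 1 : K[X]) = 0 := by
        rw [hB, mul_comm, map_mul, hA, mul_zero]
      simp only [map_sub, map_pow, aeval_X, map_one] at this
      exact sub_eq_zero.mp this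
    ext v
    have : ((g ^ 2 : V ≃ₗ[K] V) : V →ₗ[K] V) v = v := by
      rw [toLinearMap_pow, ← hG, hG2]; rfl
    simpa using this

end Groth.Agent.Lib.AnisoIsometry
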