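import Mathlib
import Groth.Agent.Lib.AlgSpSrcCover3

/-!
# Flat surjective morphisms (helper18)

* `app_injective_of_flat_of_surjective` : sections inject along a flat surjective morphism.
* `isReduced_of_flat_surjective_factor` : `q = r ≫ p` flat surjective and the source of `p`
  reduced imply the target of `p` reduced.
* `flat_of_comp_surjective` : `g` flat surjective and `g ≫ f` flat imply `f` flat.
-/

set_option autoImplicit false
set_option maxHeartbeats 400000
universe u
open CategoryTheory CategoryTheory.Limits AlgebraicGeometry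

namespace Groth.Agent.Lib.FlatSurj18

lemma stalkMap_injective_of_flat {X Y : Scheme.{u}} (f : X ⟶ Y) [Flat f] (x : X) :
    Function.Injective (f.stalkMap x) := by
  algebraize [(f.stalkMap x).hom]
  have : Module.FaithfullyFlat (Y.presheaf.stalk (f x)) (X.presheaf.stalk x) :=
    @Module.FaithfullyFlat.of_flat_of_isLocalHom _ _ _ _ _ _ _
      (Flat.stalkMap f x) (f.toLRSHom.prop x)
  exact ‹RingHom.FaithfullyFlat _›.injective

lemma app_injective_of_flat_of_surjective {X Y : Scheme.{u}} (f : X ⟶ Y) [Flat f] [Surjective f]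
    (U : Y.Opens) : Function.Injective (f.app U) := by
  rw [injective_iff_map_eq_zero]
  intro s hs
  apply TopCat.Presheaf.section_ext Y.sheaf U s 0
  intro y hy
  change (Y.presheaf.germ U y hy) s = (Y.presheaf.germ U y hy) 0
  rw [map_zero]
  obtain ⟨x, rfl⟩ := f.surjective y
  apply stalkMap_injective_of_flat f x
  rw [Scheme.Hom.germ_stalkMap_apply, hs, map_zero, map_zero]

lemma isReduced_of_flat_surjective_factor {X Y Z : Scheme.{u}} (p : X ⟶ Y) (q : Z ⟶ Y)
    (r : Z ⟶ X) (h : r ≫ p = q) [Flat q] [Surjective q] [IsReduced X] : IsReduced Y := by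
  refine ⟨fun U => ⟨fun s hs => ?_⟩⟩
  apply app_injective_of_flat_of_surjective q U
  rw [map_zero]
  subst h
  have h0 : p.app U s = 0 := (hs.map _).eq_zero
  have h1 : (r ≫ p).app U = p.app U ≫ r.app (p ⁻¹ᵁ U) := Scheme.Hom.comp_app r p U
  have h2 : (r ≫ p).app U s = r.app (p ⁻¹ᵁ U) (p.app U s) := by
    rw [h1]; rfl
  rw [h2, h0, map_zero]
  rfl

lemma flat_of_comp_surjective {W X Y : Scheme.{u}} (g : W ⟶ X) (f : X ⟶ Y) [Flat g]
    [Surjective g] [Flat (g ≫ f)] : Flat f := by
  rw [Flat.iff_flat_stalkMap]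
  intro x
  obtain ⟨w, rfl⟩ := g.surjective x
  exact Groth.Agent.Lib.AlgSpSrcCover.flat_stalkMap_of_comp g f w

end Groth.Agent.Lib.FlatSurj18
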