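import Mathlib

/-!
# Pullback squares in cartesian monoidal categories (helper18)

* `isPullback_whiskerLeft_snd`, `isPullback_whiskerRight_fst` : `M ◁ z` and `z ▷ M` are base
  changes of `z`.
* `isPullback_lift_diag` : `X ×_Y X ⟶ X ⊗ X` is the base change of the diagonal of `Y`
  along `p ⊗ₘ p`.
-/

set_option autoImplicit false
universe v u
open CategoryTheory CategoryTheory.Limits MonoidalCategory CartesianMonoidalCategory

namespace Groth.Agent.Lib.CartPull18

variable {C : Type u} [Category.{v} C] [CartesianMonoidalCategory C]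

lemma isPullback_whiskerLeft_snd (M : C) {Z X : C} (z : Z ⟶ X) :
    IsPullback (M ◁ z) (snd M Z) (snd M X) z := by
  refine ⟨⟨by simp⟩, ⟨PullbackCone.IsLimit.mk _ (fun s => lift (s.fst ≫ fst M X) s.snd)
    ?_ ?_ ?_⟩⟩
  · intro s
    apply CartesianMonoidalCategory.hom_ext
    · simp
    · simp [s.condition]
  · intro s
    simp
  · intro s m h1 h2
    apply CartesianMonoidalCategory.hom_ext
    · rw [lift_fst, ← h1]; simp
    · rw [lift_snd, ← h2]

lemma isPullback_whiskerRight_fst (M : C) {Z X : C} (z : Z ⟶ X) :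
    IsPullback (z ▷ M) (fst Z M) (fst X M) z := by
  refine ⟨⟨by simp⟩, ⟨PullbackCone.IsLimit.mk _ (fun s => lift s.snd (s.fst ≫ snd X M))
    ?_ ?_ ?_⟩⟩
  · intro s
    apply CartesianMonoidalCategory.hom_ext
    · simp [s.condition]
    · simp
  · intro s
    simp
  · intro s m h1 h2
    apply CartesianMonoidalCategory.hom_ext
    · rw [lift_fst, ← h2]
    · rw [lift_snd, ← h1]; simp

lemma isPullback_lift_diag [HasPullbacks C] {X Y : C} (p : X ⟶ Y) :
    IsPullback (lift (pullback.fst p p) (pullback.snd p p)) (pullback.fst p p ≫ p)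
      (p ⊗ₘ p) (lift (𝟙 Y) (𝟙 Y)) := by
  have hc : ∀ s : PullbackCone (p ⊗ₘ p) (lift (𝟙 Y) (𝟙 Y)),
      (s.fst ≫ fst X X) ≫ p = (s.fst ≫ snd X X) ≫ p := by
    intro s
    have h1 := congrArg (· ≫ fst Y Y) s.condition
    have h2 := congrArg (· ≫ snd Y Y) s.condition
    simp only [Category.assoc, tensorHom_fst, tensorHom_snd, lift_fst, lift_snd,
      Category.comp_id] at h1 h2
    rw [Category.assoc, Category.assoc, h1, h2]
  refine ⟨⟨?_⟩, ⟨PullbackCone.IsLimit.mk _
    (fun s => pullback.lift (s.fst ≫ fst X X) (s.fst ≫ snd X X) (hc s)) ?_ ?_ ?_⟩⟩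
  · apply CartesianMonoidalCategory.hom_ext
    · simp
    · simp [pullback.condition]
  · intro s
    apply CartesianMonoidalCategory.hom_ext
    · simp only [comp_lift, lift_fst]
      exact pullback.lift_fst _ _ _
    · simp only [comp_lift, lift_snd]
      exact pullback.lift_snd _ _ _
  · intro s
    have h1 := congrArg (· ≫ fst Y Y) s.condition
    simp only [Category.assoc, tensorHom_fst, lift_fst, Category.comp_id] at h1
    rw [pullback.lift_fst_assoc, Category.assoc, h1]
  · intro s m h1 h2
    apply pullback.hom_ext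
    · rw [pullback.lift_fst, ← h1]; simp
    · rw [pullback.lift_snd, ← h1]; simp

end Groth.Agent.Lib.CartPull18
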