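import Mathlib
import Groth.Agent.Lib.FpqcDescent

/-!
# Local fpqc coverings (helper18)

`IsFpqcCov q` : every point of the target of `q : Z ⟶ Y` has an open neighbourhood `V` together
with a flat, surjective, quasi-compact morphism `h : W ⟶ V` such that `W ⟶ V ⟶ Y` factors through
`q`.  This is the form of "covering for the fpqc topology" which is stable under base change and
along which properties descend.

* `isFpqcCov_of_exists` : the SGA3-style hypothesis implies `IsFpqcCov`.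
* `IsFpqcCov.of_isPullback` : stability under base change.
* `IsFpqcCov.descends` : descent of a property which is Zariski-local at the target, stable under
  base change and descends along flat surjective quasi-compact morphisms.
* `IsFpqcCov.surjective`.
* instance: `Flat` descends along fpqc morphisms.
-/

set_option autoImplicit false
set_option maxHeartbeats 400000
universe u
open CategoryTheory CategoryTheory.Limits AlgebraicGeometry MorphismProperty

namespace Groth.Agent.Lib.FpqcCov18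

section flatDescent

open TensorProduct

lemma flat_codescendsAlong_faithfullyFlat :
    RingHom.CodescendsAlong RingHom.Flat RingHom.FaithfullyFlat := by
  apply RingHom.CodescendsAlong.mk _ RingHom.Flat.respectsIso
  introv h H
  rw [RingHom.faithfullyFlat_algebraMap_iff] at h
  rw [RingHom.flat_algebraMap_iff] at H ⊢
  exact Module.Flat.of_flat_tensorProduct R T S

instance descendsAlong_flat :
    DescendsAlong @Flat (@Surjective ⊓ @Flat ⊓ @QuasiCompact : MorphismProperty Scheme.{u}) :=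
  HasRingHomProperty.descendsAlong_flat flat_codescendsAlong_faithfullyFlat

end flatDescent

/-- `q` is, locally on the target, dominated by flat surjective quasi-compact morphisms. -/
def IsFpqcCov {Z Y : Scheme.{u}} (q : Z ⟶ Y) : Prop :=
  ∀ y : Y, ∃ (V : Y.Opens) (W : Scheme.{u}) (h : W ⟶ (V : Scheme.{u})) (r : W ⟶ Z),
    y ∈ V ∧ Surjective h ∧ Flat h ∧ QuasiCompact h ∧ r ≫ q = h ≫ V.ι

lemma isFpqcCov_of_exists {X Y : Scheme.{u}} (p : X ⟶ Y)
    (hcov : ∃ (Z : Scheme.{u}) (q : Z ⟶ Y) (r : Z ⟶ X), r ≫ p = q ∧ Surjective q ∧ Flat q ∧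
      ∀ V : Y.Opens, IsAffineOpen V → ∃ W : Z.Opens, IsCompact (W : Set Z) ∧
        q.base '' (W : Set Z) = (V : Set Y)) :
    IsFpqcCov p := by
  obtain ⟨Z, q, r, rfl, hsurj, hflat, hW⟩ := hcov
  intro y
  obtain ⟨_, ⟨V, hV, rfl⟩, hyV, -⟩ :=
    Y.isBasis_affineOpens.exists_subset_of_mem_open (Set.mem_univ y) isOpen_univ
  obtain ⟨W, hWc, hWV⟩ := hW V hV
  have hle : W ≤ (r ≫ p) ⁻¹ᵁ V := by
    intro z hz
    show (r ≫ p).base z ∈ (V : Set Y)
    rw [← hWV]
    exact ⟨z, hz, rfl⟩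
  refine ⟨V, W, (r ≫ p).resLE V W hle, W.ι ≫ r, hyV, ?_, ?_, ?_, ?_⟩
  · constructor
    intro v
    have hv : v.1 ∈ (V : Set Y) := v.2
    rw [← hWV] at hv
    obtain ⟨z, hz, hzv⟩ := hv
    refine ⟨⟨z, hz⟩, Subtype.ext ?_⟩
    rw [Scheme.Hom.coe_resLE_apply]
    exact hzv
  · infer_instance
  · have : IsAffine (V : Scheme.{u}) := hV
    have : CompactSpace (W : Scheme.{u}) := isCompact_iff_compactSpace.mp hWc
    exact (quasiCompact_iff_compactSpace _).mpr inferInstance
  · rw [Scheme.Hom.resLE_comp_ι, Category.assoc]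

lemma IsFpqcCov.of_isPullback {Z' Z Y' Y : Scheme.{u}} {fst : Z' ⟶ Z} {snd : Z' ⟶ Y'}
    {q : Z ⟶ Y} {g : Y' ⟶ Y} (sq : IsPullback fst snd q g) (hq : IsFpqcCov q) :
    IsFpqcCov snd := by
  intro y'
  obtain ⟨V, W, h, r, hyV, hs, hf, hqc, hr⟩ := hq (g.base y')
  have hc : (pullback.fst h (g ∣_ V) ≫ r) ≫ q = (pullback.snd h (g ∣_ V) ≫ (g ⁻¹ᵁ V).ι) ≫ g := by
    rw [Category.assoc, hr, Category.assoc, ← morphismRestrict_ι, ← Category.assoc,
      ← Category.assoc, pullback.condition]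
  refine ⟨g ⁻¹ᵁ V, pullback h (g ∣_ V), pullback.snd h (g ∣_ V), sq.lift _ _ hc, hyV,
    inferInstance, inferInstance, inferInstance, ?_⟩
  exact sq.lift_snd _ _ _

lemma IsFpqcCov.surjective {Z Y : Scheme.{u}} {q : Z ⟶ Y} (hq : IsFpqcCov q) : Surjective q := by
  constructor
  intro y
  obtain ⟨V, W, h, r, hyV, hs, hf, hqc, hr⟩ := hq y
  obtain ⟨w, hw⟩ := h.surjective ⟨y, hyV⟩
  refine ⟨r.base w, ?_⟩
  rw [← Scheme.Hom.comp_apply, hr, Scheme.Hom.comp_apply, hw]
  rfl

lemma IsFpqcCov.descends (P : MorphismProperty Scheme.{u}) [IsZariskiLocalAtTarget P]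
    [P.IsStableUnderBaseChange] [P.DescendsAlong (@Surjective ⊓ @Flat ⊓ @QuasiCompact)]
    {T' Z T Y : Scheme.{u}} {fst : T' ⟶ Z} {snd : T' ⟶ T} {q : Z ⟶ Y} {f : T ⟶ Y}
    (sq : IsPullback fst snd q f) (hq : IsFpqcCov q) (hfst : P fst) : P f := by
  choose V W h r hyV hs hf hqc hr using hq
  have hV : iSup V = ⊤ := by
    rw [eq_top_iff]
    intro y _
    exact TopologicalSpace.Opens.mem_iSup.mpr ⟨y, hyV y⟩
  apply IsZariskiLocalAtTarget.of_iSup_eq_top (P := P) V hV
  intro y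
  refine MorphismProperty.of_pullback_fst_of_descendsAlong (P := P)
    (Q := @Surjective ⊓ @Flat ⊓ @QuasiCompact) (f := h y) ⟨⟨hs y, hf y⟩, hqc y⟩ ?_
  have sq1 : IsPullback (pullback.snd (h y) (f ∣_ V y)) (pullback.fst (h y) (f ∣_ V y))
      (f ∣_ V y) (h y) := (IsPullback.of_hasPullback _ _).flip
  have sq2 : IsPullback (f ⁻¹ᵁ V y).ι (f ∣_ V y) f (V y).ι := (isPullback_morphismRestrict f (V y)).flip
  have sq3 := sq1.paste_horiz sq2
  have hc : (pullback.fst (h y) (f ∣_ V y) ≫ r y) ≫ q =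
      (pullback.snd (h y) (f ∣_ V y) ≫ (f ⁻¹ᵁ V y).ι) ≫ f := by
    rw [Category.assoc, hr, sq3.w]
  have sq4 : IsPullback (sq.lift _ _ hc) (pullback.fst (h y) (f ∣_ V y)) fst (r y) := by
    refine IsPullback.of_right (h₁₂ := snd) (h₂₂ := q) (v₁₃ := f) ?_ (sq.lift_fst _ _ _) sq.flip
    rw [sq.lift_snd, hr]
    exact sq3
  exact P.of_isPullback sq4 hfst

end Groth.Agent.Lib.FpqcCov18
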