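import Mathlib
import Groth.Agent.Lib.FpqcCov18
import Groth.Agent.Lib.CartPull18

/-!
# Local fpqc coverings are (universal) effective epimorphisms (helper18)

* `IsFpqcCov.epi`, `IsFpqcCov.exists_desc` : descent of morphisms of schemes along `IsFpqcCov`.
* Over `S`: `epi_over`, `exists_desc_over`, `isFpqcCov_whiskerLeft`, `isFpqcCov_whiskerRight`.
-/

set_option autoImplicit false
set_option maxHeartbeats 400000
universe u
open CategoryTheory CategoryTheory.Limits AlgebraicGeometry MonoidalCategory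
  CartesianMonoidalCategory

namespace Groth.Agent.Lib.FpqcCov18

lemma IsFpqcCov.epi {Z Y : Scheme.{u}} {q : Z ⟶ Y} (hq : IsFpqcCov q) : Epi q := by
  constructor
  intro T a b hab
  apply Scheme.hom_ext_of_forall
  intro y
  obtain ⟨V, W, h, r, hyV, hs, hf, hqc, hr⟩ := hq y
  refine ⟨V, hyV, ?_⟩
  have : Epi h := Flat.epi_of_flat_of_surjective h
  rw [← cancel_epi h, ← Category.assoc, ← hr, Category.assoc, hab, ← Category.assoc, hr,
    Category.assoc]

lemma IsFpqcCov.exists_desc {Z Y T : Scheme.{u}} {q : Z ⟶ Y} (hq : IsFpqcCov q) (x : Z ⟶ T)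
    (hx : ∀ {A : Scheme.{u}} (g₁ g₂ : A ⟶ Z), g₁ ≫ q = g₂ ≫ q → g₁ ≫ x = g₂ ≫ x) :
    ∃ ψ : Y ⟶ T, q ≫ ψ = x := by
  have hq' := hq
  choose V W h r hyV hs hf hqc hr using hq
  have hloc : ∀ y, ∀ {A : Scheme.{u}} (g₁ g₂ : A ⟶ W y), g₁ ≫ h y = g₂ ≫ h y →
      g₁ ≫ (r y ≫ x) = g₂ ≫ (r y ≫ x) := by
    intro y A g₁ g₂ hg
    rw [← Category.assoc, ← Category.assoc]
    apply hx
    rw [Category.assoc, Category.assoc, hr, ← Category.assoc, hg, Category.assoc]
  have hee : ∀ y, EffectiveEpi (h y) := fun y => by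
    have := hs y; have := hf y; have := hqc y; infer_instance
  let ψ : ∀ y, (V y : Scheme.{u}) ⟶ T := fun y => EffectiveEpi.desc (h y) (r y ≫ x) (hloc y)
  have hψ : ∀ y, h y ≫ ψ y = r y ≫ x := fun y => EffectiveEpi.fac _ _ _
  have key : ∀ y {A : Scheme.{u}} (a : A ⟶ Z) (b : A ⟶ (V y : Scheme.{u})),
      a ≫ q = b ≫ (V y).ι → b ≫ ψ y = a ≫ x := by
    intro y A a b hab
    have : Epi (pullback.snd (h y) b) := by
      have := hs y; have := hf y
      exact Flat.epi_of_flat_of_surjective _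
    rw [← cancel_epi (pullback.snd (h y) b), ← pullback.condition_assoc, hψ, ← Category.assoc,
      ← Category.assoc]
    apply hx
    rw [Category.assoc, Category.assoc, hr, hab, pullback.condition_assoc]
  let 𝒰 : Y.OpenCover :=
    { I₀ := Y, X := fun i => (V i : Scheme.{u}), f := fun i => (V i).ι,
      mem₀ := by
        rw [Scheme.presieve₀_mem_precoverage_iff]
        refine ⟨fun y ↦ ⟨y, by simpa using hyV y⟩, inferInstance⟩ }
  have hcompat : ∀ i j : Y, pullback.fst (V i).ι (V j).ι ≫ ψ i =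
      pullback.snd (V i).ι (V j).ι ≫ ψ j := by
    intro i j
    have hcov : IsFpqcCov (pullback.snd q (pullback.fst (V i).ι (V j).ι ≫ (V i).ι)) :=
      hq'.of_isPullback (IsPullback.of_hasPullback q _)
    have := hcov.epi
    rw [← cancel_epi (pullback.snd q (pullback.fst (V i).ι (V j).ι ≫ (V i).ι))]
    have e1 := key i (pullback.fst q (pullback.fst (V i).ι (V j).ι ≫ (V i).ι))
      (pullback.snd q (pullback.fst (V i).ι (V j).ι ≫ (V i).ι) ≫ pullback.fst (V i).ι (V j).ι)
      (by rw [pullback.condition (f := q), Category.assoc])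
    have e2 := key j (pullback.fst q (pullback.fst (V i).ι (V j).ι ≫ (V i).ι))
      (pullback.snd q (pullback.fst (V i).ι (V j).ι ≫ (V i).ι) ≫ pullback.snd (V i).ι (V j).ι)
      (by rw [pullback.condition (f := q), Category.assoc,
        pullback.condition (f := (V i).ι)])
    rw [Category.assoc] at e1 e2
    rw [e1, e2]
  refine ⟨𝒰.glueMorphisms ψ hcompat, ?_⟩
  apply Scheme.hom_ext_of_forall
  intro z
  refine ⟨q ⁻¹ᵁ V (q.base z), hyV _, ?_⟩
  rw [← Category.assoc, ← morphismRestrict_ι, Category.assoc]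
  have h1 : (V (q.base z)).ι ≫ 𝒰.glueMorphisms ψ hcompat = ψ (q.base z) :=
    𝒰.ι_glueMorphisms ψ hcompat (q.base z)
  rw [h1]
  exact key _ _ _ (morphismRestrict_ι _ _).symm

section overS

variable {S : Scheme.{u}}

lemma epi_over {X Y : Over S} (p : X ⟶ Y) (hp : IsFpqcCov p.left) : Epi p := by
  have := hp.epi
  exact (Over.forget S).epi_of_epi_map this

lemma exists_desc_over {X Y M : Over S} (p : X ⟶ Y) (hp : IsFpqcCov p.left) (x : X ⟶ M)
    (hx : ∀ (T : Over S) (t₁ t₂ : T ⟶ X), t₁ ≫ p = t₂ ≫ p → t₁ ≫ x = t₂ ≫ x) :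
    ∃ ψ : Y ⟶ M, p ≫ ψ = x := by
  have hq : ∀ {Z : Scheme.{u}} (g₁ g₂ : Z ⟶ X.left), g₁ ≫ p.left = g₂ ≫ p.left →
      g₁ ≫ x.left = g₂ ≫ x.left := by
    intro Z g₁ g₂ h
    let Zo : Over S := Over.mk (g₁ ≫ X.hom)
    let g₁o : Zo ⟶ X := Over.homMk g₁ rfl
    let g₂o : Zo ⟶ X := Over.homMk g₂ (by
      change g₂ ≫ X.hom = g₁ ≫ X.hom
      rw [← Over.w p, ← Category.assoc, ← Category.assoc, h])
    have := hx Zo g₁o g₂o (Over.OverMorphism.ext h)
    exact congrArg (fun k => k.left) this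
  obtain ⟨ψ, hψ⟩ := hp.exists_desc x.left hq
  have := hp.epi
  refine ⟨Over.homMk ψ ?_, Over.OverMorphism.ext hψ⟩
  rw [← cancel_epi p.left, ← Category.assoc, hψ, Over.w x, Over.w p]

lemma isFpqcCov_whiskerLeft (K : Over S) {X Y : Over S} (p : X ⟶ Y) (hp : IsFpqcCov p.left) :
    IsFpqcCov (K ◁ p).left := by
  have sq : IsPullback (K ◁ p).left (snd K X).left (snd K Y).left p.left :=
    (Groth.Agent.Lib.CartPull18.isPullback_whiskerLeft_snd K p).map (Over.forget S)
  exact hp.of_isPullback sq.flip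

lemma isFpqcCov_whiskerRight (K : Over S) {X Y : Over S} (p : X ⟶ Y) (hp : IsFpqcCov p.left) :
    IsFpqcCov (p ▷ K).left := by
  have sq : IsPullback (p ▷ K).left (fst X K).left (fst Y K).left p.left :=
    (Groth.Agent.Lib.CartPull18.isPullback_whiskerRight_fst K p).map (Over.forget S)
  exact hp.of_isPullback sq.flip

end overS

end Groth.Agent.Lib.FpqcCov18
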