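import Mathlib.AlgebraicGeometry.Sites.Fpqc
import Mathlib.AlgebraicGeometry.AffineSpace

/-!
# Global functions form an fpqc sheaf (helper21)

Via `Γ(Y, ⊤) ≃ (Y ⟶ 𝔸¹_ℤ)` (`fnEquiv`, natural in `Y`) and `fpqcTopology.Subcanonical`:

* `isSheafFor_yoneda` : representables are sheaves for every `R ∈ Scheme.fpqcPrecoverage S`;
* `Γ_ext` : global functions on `S` agreeing on every member of an fpqc covering family are equal;
* `Γ_glue` : a compatible family of global functions on the members of an fpqc covering family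
  glues to a global function on `S`.
-/

universe u

open CategoryTheory Limits AlgebraicGeometry Opposite

namespace Groth.Agent.Lib.GammaFpqc

/-- The affine line over `ℤ`, representing global functions. -/
noncomputable abbrev A1 : Scheme.{u} :=
  Spec (CommRingCat.of (MvPolynomial PUnit.{u + 1} (ULift.{u} ℤ)))

/-- Global functions are morphisms to the affine line. -/
noncomputable def fnEquiv (Y : Scheme.{u}) : (Y ⟶ A1.{u}) ≃ Γ(Y, ⊤) :=
  (AffineSpace.toSpecMvPolyIntEquiv PUnit.{u + 1}).trans (Equiv.funUnique _ _)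

lemma fnEquiv_comp {Y' Y : Scheme.{u}} (p : Y' ⟶ Y) (g : Y ⟶ A1.{u}) :
    fnEquiv Y' (p ≫ g) = p.appTop.hom (fnEquiv Y g) := rfl

lemma fnEquiv_symm_comp {Y' Y : Scheme.{u}} (p : Y' ⟶ Y) (t : Γ(Y, ⊤)) :
    p ≫ (fnEquiv Y).symm t = (fnEquiv Y').symm (p.appTop.hom t) := by
  apply (fnEquiv Y').injective
  rw [fnEquiv_comp, Equiv.apply_symm_apply, Equiv.apply_symm_apply]

variable {S : Scheme.{u}} {R : Presieve S}

theorem isSheafFor_yoneda (hR : R ∈ Scheme.fpqcPrecoverage S) (A : Scheme.{u}) :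
    Presieve.IsSheafFor (yoneda.obj A) R := by
  rw [Presieve.isSheafFor_iff_generate]
  exact (GrothendieckTopology.Subcanonical.isSheaf_of_isRepresentable
    (J := Scheme.fpqcTopology.{u}) (yoneda.obj A)) _
      (Precoverage.generate_mem_toGrothendieck hR)

theorem hom_ext_of_mem_fpqcPrecoverage (hR : R ∈ Scheme.fpqcPrecoverage S) {A : Scheme.{u}}
    (t t' : S ⟶ A) (h : ∀ ⦃T : Scheme.{u}⦄ (f : T ⟶ S), R f → f ≫ t = f ≫ t') : t = t' :=
  (isSheafFor_yoneda hR A).isSeparatedFor.ext fun _ f hf => h f hf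

theorem Γ_ext (hR : R ∈ Scheme.fpqcPrecoverage S) (t t' : Γ(S, ⊤))
    (h : ∀ ⦃T : Scheme.{u}⦄ (f : T ⟶ S), R f → f.appTop.hom t = f.appTop.hom t') : t = t' := by
  apply (fnEquiv S).symm.injective
  apply hom_ext_of_mem_fpqcPrecoverage hR
  intro T f hf
  rw [fnEquiv_symm_comp, fnEquiv_symm_comp, h f hf]

theorem Γ_glue (hR : R ∈ Scheme.fpqcPrecoverage S)
    (x : ∀ ⦃T : Scheme.{u}⦄ (f : T ⟶ S), R f → Γ(T, ⊤))
    (hx : ∀ ⦃T₁ T₂ Z : Scheme.{u}⦄ (g₁ : Z ⟶ T₁) (g₂ : Z ⟶ T₂) ⦃f₁ : T₁ ⟶ S⦄ ⦃f₂ : T₂ ⟶ S⦄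
      (h₁ : R f₁) (h₂ : R f₂), g₁ ≫ f₁ = g₂ ≫ f₂ →
        g₁.appTop.hom (x f₁ h₁) = g₂.appTop.hom (x f₂ h₂)) :
    ∃ t : Γ(S, ⊤), ∀ ⦃T : Scheme.{u}⦄ (f : T ⟶ S) (hf : R f), f.appTop.hom t = x f hf := by
  let y : Presieve.FamilyOfElements (yoneda.obj A1.{u}) R :=
    fun T f hf => (fnEquiv T).symm (x f hf)
  have hy : y.Compatible := by
    intro T₁ T₂ Z g₁ g₂ f₁ f₂ h₁ h₂ e
    change g₁ ≫ (fnEquiv T₁).symm (x f₁ h₁) = g₂ ≫ (fnEquiv T₂).symm (x f₂ h₂)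
    rw [fnEquiv_symm_comp, fnEquiv_symm_comp, hx g₁ g₂ h₁ h₂ e]
  obtain ⟨t, ht, -⟩ := isSheafFor_yoneda hR A1.{u} y hy
  refine ⟨fnEquiv S t, fun T f hf => ?_⟩
  have := ht f hf
  change f ≫ t = (fnEquiv T).symm (x f hf) at this
  rw [← fnEquiv_comp, this, Equiv.apply_symm_apply]

end Groth.Agent.Lib.GammaFpqc
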