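import Groth.Agent.Lib.FpqcCovMore18
import Groth.Agent.Lib.FpqcCovDesc18
import Groth.Agent.Lib.GammaFpqc
import Groth.Agent.Lib.FlatSurj18
import Groth.Prelude.Def_AlgGrp
import Mathlib.AlgebraicGeometry.Morphisms.Flat
import Mathlib.AlgebraicGeometry.Morphisms.QuasiSeparated

set_option autoImplicit false
universe u
open CategoryTheory CategoryTheory.Limits AlgebraicGeometry MonoidalCategory CartesianMonoidalCategory
  MonObj GrpObj

namespace Groth.Agent.Lib.AntiAffExt45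

open Groth.Agent.Lib.GammaFpqc Groth.Agent.Lib.FpqcCov18

variable {k : Type u} [Field k]

theorem appLE_top_top {X Y : Scheme.{u}} (f : X ⟶ Y) (e : (⊤ : X.Opens) ≤ f ⁻¹ᵁ ⊤) :
    f.appLE ⊤ ⊤ e = f.appTop := by
  rw [Scheme.Hom.appLE, Scheme.Hom.appTop]
  have : (homOfLE e).op = 𝟙 (Opposite.op (⊤ : X.Opens)) := Subsingleton.elim _ _
  rw [this]
  exact (congrArg (f.app ⊤ ≫ ·) (X.presheaf.map_id _)).trans (Category.comp_id _)

/-- Künneth for global sections: if `Γ(Y) = Γ(Spec k)` then `pr₁^* : Γ(X) → Γ(X ×_k Y)` is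
bijective (for `X`, `Y` qcqs over the field `k`). -/
theorem bijective_fst_appTop {X Y : Scheme.{u}} (f : X ⟶ Spec (CommRingCat.of k))
    (g : Y ⟶ Spec (CommRingCat.of k)) [CompactSpace X] [QuasiSeparatedSpace X]
    [CompactSpace Y] [QuasiSeparatedSpace Y]
    (hg : Function.Bijective g.appTop.hom) :
    Function.Bijective (pullback.fst f g).appTop.hom := by
  have H : IsPullback (pullback.fst f g) (pullback.snd f g) f g := IsPullback.of_hasPullback f g
  have hfield : IsField Γ(Spec (CommRingCat.of k), ⊤) :=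
    (Scheme.ΓSpecIso (CommRingCat.of k)).commRingCatIsoToRingEquiv.toMulEquiv.isField
      (Field.toIsField k)
  have hUST : (⊤ : Y.Opens) ≤ g ⁻¹ᵁ ⊤ := le_top
  have hUSX : (⊤ : X.Opens) ≤ f ⁻¹ᵁ ⊤ := le_top
  have hUY : (⊤ : (pullback f g).Opens) = pullback.fst f g ⁻¹ᵁ ⊤ ⊓ pullback.snd f g ⁻¹ᵁ ⊤ := by
    simp
  have hiso := isIso_pushoutSection_of_isCompact_of_flat_right_of_ringHomFlat H hUST hUSX hUY
    (isAffineOpen_top _) (CompactSpace.isCompact_univ) isQuasiSeparated_univ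
    (CompactSpace.isCompact_univ) isQuasiSeparated_univ (RingHom.Flat.of_isField hfield _)
  have hpo := (isIso_pushoutSection_iff H hUST hUSX hUY).mp hiso
  have h1 : IsIso (g.appLE ⊤ ⊤ hUST) := by
    rw [appLE_top_top]
    exact (ConcreteCategory.isIso_iff_bijective _).mpr hg
  have h2 := hpo.isIso_inl_of_isIso
  rw [appLE_top_top] at h2
  exact (ConcreteCategory.isIso_iff_bijective _).mp h2

variable {G₁ G G₂ : Over (Spec (CommRingCat.of k))} [GrpObj G₁] [GrpObj G] [GrpObj G₂]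
  (i : G₁ ⟶ G) [IsMonHom i] (q : G ⟶ G₂) [IsMonHom q]

/-- If `Γ(G₁) = k`, every function on `G` is invariant under right translation by `G₁`. -/
theorem mul_comp_eq_fst_comp [CompactSpace G.left] [QuasiSeparatedSpace G.left]
    [CompactSpace G₁.left] [QuasiSeparatedSpace G₁.left]
    (h1 : Function.Bijective G₁.hom.appTop.hom) (x : G.left ⟶ A1.{u}) :
    ((G ◁ i) ≫ μ[G]).left ≫ x = (fst G G₁).left ≫ x := by
  have hb : Function.Bijective (fst G G₁).left.appTop.hom :=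
    bijective_fst_appTop G.hom G₁.hom h1
  obtain ⟨f', hf'⟩ := hb.2 (fnEquiv _ (((G ◁ i) ≫ μ[G]).left ≫ x))
  have e1 : ((G ◁ i) ≫ μ[G]).left ≫ x = (fst G G₁).left ≫ (fnEquiv G.left).symm f' := by
    apply (fnEquiv _).injective
    rw [fnEquiv_comp _ ((fnEquiv G.left).symm f'), Equiv.apply_symm_apply, hf']
  let s : G ⟶ G ⊗ G₁ := lift (𝟙 G) (toUnit G ≫ η[G₁])
  have hs1 : s ≫ (G ◁ i) ≫ μ[G] = 𝟙 G := by
    have : s ≫ (G ◁ i) = lift (𝟙 G) (toUnit G ≫ η[G]) := by
      simp only [s, lift_whiskerLeft, Category.assoc, IsMonHom.one_hom]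
    rw [← Category.assoc, this]
    simp
  have hs2 : s ≫ fst G G₁ = 𝟙 G := lift_fst _ _
  have e2 : x = (fnEquiv G.left).symm f' := by
    have := congrArg (s.left ≫ ·) e1
    simp only [← Category.assoc, ← Over.comp_left] at this
    rw [Category.assoc, hs1, hs2] at this
    simpa using this
  rw [e1, ← e2]

/-- Functions on `G` descend to `G₂ = G/G₁` when `Γ(G₁) = k`. -/
theorem exists_desc_fn (hker : AlgGrp.IsKernel i q) [Flat q.left] [Surjective q.left]
    [QuasiCompact q.left] [CompactSpace G.left] [QuasiSeparatedSpace G.left]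
    [CompactSpace G₁.left] [QuasiSeparatedSpace G₁.left]
    (h1 : Function.Bijective G₁.hom.appTop.hom) (f : Γ(G.left, ⊤)) :
    ∃ f₂ : Γ(G₂.left, ⊤), q.left.appTop.hom f₂ = f := by
  let x : G.left ⟶ A1.{u} := (fnEquiv G.left).symm f
  have hq : IsFpqcCov q.left := Groth.Agent.Lib.FpqcCov18.isFpqcCov_of_fpqc q.left
  have key : ∀ {A : Scheme.{u}} (g₁ g₂ : A ⟶ G.left), g₁ ≫ q.left = g₂ ≫ q.left →
      g₁ ≫ x = g₂ ≫ x := by
    intro A g₁ g₂ h
    let Ao : Over (Spec (CommRingCat.of k)) := Over.mk (g₁ ≫ G.hom)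
    let g₁o : Ao ⟶ G := Over.homMk g₁ rfl
    let g₂o : Ao ⟶ G := Over.homMk g₂ (by
      change g₂ ≫ G.hom = g₁ ≫ G.hom
      rw [← Over.w q, ← Category.assoc, ← Category.assoc, h])
    have hgo : g₁o ≫ q = g₂o ≫ q := Over.OverMorphism.ext h
    let n : Ao ⟶ G := g₁o⁻¹ * g₂o
    have hn : n ≫ q = toUnit Ao ≫ η[G₂] := by
      simp only [n, MonObj.mul_comp, GrpObj.inv_comp, ← hgo]
      rw [inv_mul_cancel]; rfl
    obtain ⟨n', hn', -⟩ := hker.exists_lift n (toUnit Ao) hn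
    have hg₂ : g₂o = lift g₁o n' ≫ (G ◁ i) ≫ μ[G] := by
      rw [lift_whiskerLeft_assoc, hn']
      change g₂o = g₁o * n
      simp only [n, mul_inv_cancel_left]
    have e := mul_comp_eq_fst_comp i h1 x
    have : g₂ = (lift g₁o n').left ≫ ((G ◁ i) ≫ μ[G]).left := by
      rw [← Over.comp_left, ← hg₂]; rfl
    rw [this, Category.assoc, e, ← Category.assoc, ← Over.comp_left, lift_fst]; rfl
  obtain ⟨ψ, hψ⟩ := hq.exists_desc x key
  refine ⟨fnEquiv _ ψ, ?_⟩
  rw [← fnEquiv_comp, hψ]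
  exact Equiv.apply_symm_apply _ _

end Groth.Agent.Lib.AntiAffExt45
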