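import Mathlib

/-!
# The coefficient ideal (helper27)

For a `C`-algebra `B` free with basis `b` and an ideal `J ≤ B`, `coeffIdeal b J ≤ C` is generated by the
coordinates of the elements of `J`.  `le_ker_iff`: a base change `v : B → B'` over `w : C → D` keeping `b`
independent kills `J` iff `w` kills `coeffIdeal b J`.  `exists_ideal_of_isPushout` is the same statement
for pushouts in `CommRingCat` with a free leg.  This is the algebra behind "Weil restriction of a closed
subscheme along an essentially free morphism is a closed subscheme" (SGA3 VIII 6.4).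
-/

set_option autoImplicit false
universe u

namespace Groth.Agent.Lib.CoeffIdeal27

open Module

variable {C B : Type*} [CommRing C] [CommRing B] [Algebra C B] {ι : Type*} (b : Basis ι C B)
  (J : Ideal B)

/-- the ideal of `C` generated by the coordinates of the elements of `J` in the basis `b`. -/
def coeffIdeal : Ideal C := Ideal.span {c | ∃ j ∈ J, ∃ i, b.repr j i = c}

theorem repr_mem_coeffIdeal {j : B} (hj : j ∈ J) (i : ι) : b.repr j i ∈ coeffIdeal b J :=
  Ideal.subset_span ⟨j, hj, i, rfl⟩

/-- **Key property** of the coefficient ideal: a base change `v : B → B'` over `w : C → D` that keeps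
`b` linearly independent kills `J` iff `w` kills the coefficient ideal. -/
theorem le_ker_iff {D B' : Type*} [CommRing D] [CommRing B'] [Algebra D B'] (w : C →+* D)
    (v : B →+* B') (hv : ∀ c, v (algebraMap C B c) = algebraMap D B' (w c))
    (hli : LinearIndependent D (fun i => v (b i))) :
    J ≤ RingHom.ker v ↔ coeffIdeal b J ≤ RingHom.ker w := by
  have hsum : ∀ j : B, v j = (b.repr j).sum fun i c => w c • v (b i) := by
    intro j
    conv_lhs => rw [← b.linearCombination_repr j, Finsupp.linearCombination_apply]
    rw [map_finsuppSum]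
    refine Finsupp.sum_congr fun i _ => ?_
    rw [Algebra.smul_def, map_mul, hv, Algebra.smul_def]
  constructor
  · intro h
    unfold coeffIdeal
    rw [Ideal.span_le]
    rintro _ ⟨j, hj, i, rfl⟩
    have h0 : v j = 0 := h hj
    rw [hsum j] at h0
    have h1 : (Finsupp.linearCombination D (fun i => v (b i)))
        ((b.repr j).mapRange w (map_zero w)) = 0 := by
      rw [Finsupp.linearCombination_apply, Finsupp.sum_mapRange_index (by intro i; simp)]
      exact h0
    have h2 := (linearIndependent_iff.mp hli) _ h1
    have := congrArg (fun f => f i) h2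
    simpa using this
  · intro h j hj
    rw [RingHom.mem_ker, hsum j]
    refine Finset.sum_eq_zero fun i _ => ?_
    have : w (b.repr j i) = 0 := h (repr_mem_coeffIdeal b J hj i)
    show w (b.repr j i) • v (b i) = 0
    rw [this, zero_smul]

open CategoryTheory CategoryTheory.Limits

/-- basis of a pushout of commutative rings along a free leg. -/
theorem exists_basis_of_isPushout {R A C B : CommRingCat.{u}} {f : R ⟶ A} {g : R ⟶ C} {a : A ⟶ B}
    {c : C ⟶ B} (H : IsPushout f g a c) {ι : Type u}
    (e : letI := f.hom.toAlgebra; Module.Basis ι R A) :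
    letI := c.hom.toAlgebra
    ∃ b : Module.Basis ι C B, ∀ i, b i = a.hom (e i) := by
  algebraize [f.hom, g.hom, a.hom, c.hom, a.hom.comp f.hom]
  have : IsScalarTower R C B := IsScalarTower.of_algebraMap_eq' (by
    show a.hom.comp f.hom = c.hom.comp g.hom
    rw [← CommRingCat.hom_comp, ← CommRingCat.hom_comp, H.w])
  have hP : Algebra.IsPushout R A C B := by
    rw [← CommRingCat.isPushout_iff_isPushout]
    exact H
  have hP' : Algebra.IsPushout R C A B := hP.symm
  refine ⟨hP'.out.basis e, fun i => ?_⟩
  rw [IsBaseChange.basis_apply]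
  rfl


/-- **Coefficient ideal for pushouts of rings.**  Let `B = A ⊗_R C` with `A` free over `R` and `J` an
ideal of `B`.  There is an ideal `I` of `C` such that for every `w : C ⟶ D`, the induced map
`v : B ⟶ B' = A ⊗_R D` kills `J` iff `w` kills `I`. -/
theorem exists_ideal_of_isPushout {R A C B : CommRingCat.{u}} {f : R ⟶ A} {g : R ⟶ C} {a : A ⟶ B}
    {c : C ⟶ B} (H : IsPushout f g a c)
    (hfree : letI := f.hom.toAlgebra; Module.Free R A) (J : Ideal B) :
    ∃ I : Ideal C, ∀ (D B' : CommRingCat.{u}) (g' : R ⟶ D) (a' : A ⟶ B') (c' : D ⟶ B')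
      (_ : IsPushout f g' a' c') (w : C ⟶ D) (v : B ⟶ B'), a ≫ v = a' → c ≫ v = w ≫ c' →
      (J ≤ RingHom.ker v.hom ↔ I ≤ RingHom.ker w.hom) := by
  let _ := f.hom.toAlgebra
  obtain ⟨b, hb⟩ := exists_basis_of_isPushout H (Module.Free.chooseBasis R A)
  let _ := c.hom.toAlgebra
  refine ⟨coeffIdeal b J, ?_⟩
  intro D B' g' a' c' H' w v hav hcv
  obtain ⟨b', hb'⟩ := exists_basis_of_isPushout H' (Module.Free.chooseBasis R A)
  let _ := c'.hom.toAlgebra
  refine le_ker_iff b J w.hom v.hom ?_ ?_
  · intro x
    exact congrArg (fun k => k.hom x) hcv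
  · have : (fun i => v.hom (b i)) = fun i => b' i := by
      funext i
      rw [hb, hb', ← hav]
      rfl
    rw [this]
    exact b'.linearIndependent

end Groth.Agent.Lib.CoeffIdeal27
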