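import Mathlib

/-!
# Flat descent of ideals along a jointly faithfully flat family (algebra)

`A` a commutative ring, `B c` flat `A`-algebras with ideals `K c`, compatible on the (weak) pushouts
`B c ⊗[A] B d`, and a finite subfamily jointly surjective on spectra.  Then
`J = ⨅ c, (K c).comap (algebraMap A (B c))` satisfies `J.map (algebraMap A (B d)) = K d` for all `d`.

* `eq_zero_of_tmul_eq_zero` : joint faithful flatness on elements.
* `Compat A K c d` : the two ideals `K c`, `K d` agree in a weak pushout of `B c ← A → B d`.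
* `map_iInf_comap_eq` : the descent statement.
* `eq_of_map_eq` : uniqueness.
-/

set_option autoImplicit false
universe u v w
open TensorProduct

namespace Groth.Agent.Lib.IdealDesc27

variable {A : Type u} [CommRing A] {𝒞 : Type v} {B : 𝒞 → Type u} [∀ c, CommRing (B c)]
  [∀ c, Algebra A (B c)]

/-- The family `F` is jointly surjective on prime spectra. -/
def JointlySurj (A : Type u) [CommRing A] (B : 𝒞 → Type u) [∀ c, CommRing (B c)] [∀ c, Algebra A (B c)] (F : Set 𝒞) : Prop :=
  ∀ p : PrimeSpectrum A, ∃ c ∈ F, p ∈ Set.range (PrimeSpectrum.comap (algebraMap A (B c)))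

theorem eq_zero_of_tmul_eq_zero [∀ c, Module.Flat A (B c)] {F : Set 𝒞} (hF : JointlySurj A B F)
    {M : Type w} [AddCommGroup M] [Module A M] (m : M)
    (h : ∀ c ∈ F, (1 : B c) ⊗ₜ[A] m = 0) : m = 0 := by
  by_contra hm
  let I : Ideal A := LinearMap.ker (LinearMap.toSpanSingleton A M m)
  have hI : I ≠ ⊤ := by
    intro hI
    have : (1 : A) ∈ I := hI ▸ Submodule.mem_top
    rw [LinearMap.mem_ker, LinearMap.toSpanSingleton_apply, one_smul] at this
    exact hm this
  obtain ⟨p, hp, hIp⟩ := Ideal.exists_le_maximal I hI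
  obtain ⟨c, hc, q, hq⟩ := hF ⟨p, hp.isPrime⟩
  have hqp : q.asIdeal.comap (algebraMap A (B c)) = p := congrArg PrimeSpectrum.asIdeal hq
  let ι : A ⧸ I →ₗ[A] M := Submodule.liftQ I (LinearMap.toSpanSingleton A M m) le_rfl
  have hι : Function.Injective ι := by
    rw [← LinearMap.ker_eq_bot]
    exact Submodule.ker_liftQ_eq_bot _ _ _ le_rfl
  have hinj := Module.Flat.lTensor_preserves_injective_linearMap (M := B c) ι hι
  have h1 : (1 : B c) ⊗ₜ[A] (1 : A ⧸ I) = 0 := by
    apply hinj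
    rw [LinearMap.lTensor_tmul, map_zero]
    have : ι (1 : A ⧸ I) = m := by
      change ι (Submodule.Quotient.mk 1) = m
      rw [Submodule.liftQ_apply, LinearMap.toSpanSingleton_apply, one_smul]
    rw [this, h c hc]
  -- map to `B c ⧸ q`
  have hle : ∀ a : A, a ∈ I → (Algebra.ofId A (B c ⧸ q.asIdeal)) a = 0 := by
    intro a ha
    have : a ∈ q.asIdeal.comap (algebraMap A (B c)) := hqp ▸ hIp ha
    rw [Algebra.ofId_apply, IsScalarTower.algebraMap_apply A (B c) (B c ⧸ q.asIdeal),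
      Ideal.Quotient.algebraMap_eq, Ideal.Quotient.eq_zero_iff_mem]
    exact this
  let g : A ⧸ I →ₐ[A] B c ⧸ q.asIdeal := Ideal.Quotient.liftₐ I (Algebra.ofId A _) hle
  let θ : B c ⊗[A] (A ⧸ I) →ₐ[A] B c ⧸ q.asIdeal :=
    Algebra.TensorProduct.lift (Ideal.Quotient.mkₐ A q.asIdeal) g (fun _ _ => Commute.all _ _)
  have h2 : θ ((1 : B c) ⊗ₜ[A] (1 : A ⧸ I)) = 1 := by
    rw [Algebra.TensorProduct.lift_tmul, map_one, map_one, mul_one]
  rw [h1, map_zero] at h2
  have : (1 : B c) ∈ q.asIdeal := by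
    rw [← Ideal.Quotient.eq_zero_iff_mem, map_one]
    exact h2.symm
  exact q.isPrime.ne_top ((Ideal.eq_top_iff_one _).mpr this)

/-- `K c` and `K d` agree in a weak pushout of `B c ← A → B d`. -/
def Compat (A : Type u) [CommRing A] {B : 𝒞 → Type u} [∀ c, CommRing (B c)]
    [∀ c, Algebra A (B c)] (K : ∀ c, Ideal (B c)) (c d : 𝒞) : Prop :=
  ∃ (P : Type u) (_ : CommRing P) (inl : B c →+* P) (inr : B d →+* P),
    (∀ (T : Type u) [CommRing T] (f : B c →+* T) (g : B d →+* T),
      f.comp (algebraMap A (B c)) = g.comp (algebraMap A (B d)) →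
        ∃ h : P →+* T, h.comp inl = f ∧ h.comp inr = g) ∧
    (K c).map inl = (K d).map inr

variable {K : ∀ c, Ideal (B c)}

theorem Compat.tmul_mk_eq_zero {c d : 𝒞} (H : Compat A K c d) (a : A)
    (ha : algebraMap A (B c) a ∈ K c) :
    (1 : B c) ⊗ₜ[A] (Ideal.Quotient.mk (K d) (algebraMap A (B d) a)) = 0 := by
  obtain ⟨P, _, inl, inr, hdesc, hK⟩ := H
  let f : B c →+* B c ⊗[A] (B d ⧸ K d) := Algebra.TensorProduct.includeLeftRingHom
  let g : B d →+* B c ⊗[A] (B d ⧸ K d) :=
    (Algebra.TensorProduct.includeRight (R := A) (A := B c) (B := B d ⧸ K d)).toRingHom.comp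
      (Ideal.Quotient.mk (K d))
  have hfg : f.comp (algebraMap A (B c)) = g.comp (algebraMap A (B d)) := by
    ext x
    change (algebraMap A (B c) x) ⊗ₜ[A] (1 : B d ⧸ K d) =
      (1 : B c) ⊗ₜ[A] (Ideal.Quotient.mk (K d) (algebraMap A (B d) x))
    have e1 : Ideal.Quotient.mk (K d) (algebraMap A (B d) x) = algebraMap A (B d ⧸ K d) x := rfl
    rw [e1, Algebra.algebraMap_eq_smul_one, Algebra.algebraMap_eq_smul_one (A := B d ⧸ K d),
      TensorProduct.smul_tmul]
  obtain ⟨h, hl, hr⟩ := hdesc _ f g hfg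
  have hker : (K d).map inr ≤ RingHom.ker h := by
    rw [Ideal.map_le_iff_le_comap]
    intro k hk
    rw [Ideal.mem_comap, RingHom.mem_ker, ← RingHom.comp_apply, hr]
    change (1 : B c) ⊗ₜ[A] (Ideal.Quotient.mk (K d) k) = 0
    rw [Ideal.Quotient.eq_zero_iff_mem.mpr hk, tmul_zero]
  have hmem : inl (algebraMap A (B c) a) ∈ RingHom.ker h :=
    hker (hK ▸ Ideal.mem_map_of_mem inl ha)
  rw [RingHom.mem_ker, ← RingHom.comp_apply, hl] at hmem
  have : f (algebraMap A (B c) a) = g (algebraMap A (B d) a) := by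
    rw [← RingHom.comp_apply, hfg, RingHom.comp_apply]
  rw [this] at hmem
  exact hmem

theorem Compat.tmul_one_eq_zero {c d : 𝒞} (H : Compat A K c d) (b : B d) (hb : b ∈ K d) :
    b ⊗ₜ[A] (1 : B c ⧸ K c) = 0 := by
  obtain ⟨P, _, inl, inr, hdesc, hK⟩ := H
  let f : B c →+* B d ⊗[A] (B c ⧸ K c) :=
    (Algebra.TensorProduct.includeRight (R := A) (A := B d) (B := B c ⧸ K c)).toRingHom.comp
      (Ideal.Quotient.mk (K c))
  let g : B d →+* B d ⊗[A] (B c ⧸ K c) := Algebra.TensorProduct.includeLeftRingHom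
  have hfg : f.comp (algebraMap A (B c)) = g.comp (algebraMap A (B d)) := by
    ext x
    change (1 : B d) ⊗ₜ[A] (Ideal.Quotient.mk (K c) (algebraMap A (B c) x)) =
      (algebraMap A (B d) x) ⊗ₜ[A] (1 : B c ⧸ K c)
    have e1 : Ideal.Quotient.mk (K c) (algebraMap A (B c) x) = algebraMap A (B c ⧸ K c) x := rfl
    rw [e1, Algebra.algebraMap_eq_smul_one, Algebra.algebraMap_eq_smul_one (A := B d),
      TensorProduct.smul_tmul]
  obtain ⟨h, hl, hr⟩ := hdesc _ f g hfg
  have hker : (K c).map inl ≤ RingHom.ker h := by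
    rw [Ideal.map_le_iff_le_comap]
    intro k hk
    rw [Ideal.mem_comap, RingHom.mem_ker, ← RingHom.comp_apply, hl]
    change (1 : B d) ⊗ₜ[A] (Ideal.Quotient.mk (K c) k) = 0
    rw [Ideal.Quotient.eq_zero_iff_mem.mpr hk, tmul_zero]
  have hmem : inr b ∈ RingHom.ker h := hker (hK ▸ Ideal.mem_map_of_mem inr hb)
  rw [RingHom.mem_ker, ← RingHom.comp_apply, hr] at hmem
  exact hmem

variable [∀ c, Module.Flat A (B c)]

/-- The finite intersection already computes the full intersection. -/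
theorem mem_comap_of_forall_mem {F : Set 𝒞} (hF : JointlySurj A B F)
    (H : ∀ c d, Compat A K c d) (a : A) (ha : ∀ c ∈ F, algebraMap A (B c) a ∈ K c) (d : 𝒞) :
    algebraMap A (B d) a ∈ K d := by
  rw [← Ideal.Quotient.eq_zero_iff_mem]
  exact eq_zero_of_tmul_eq_zero hF _ fun c hc => (H c d).tmul_mk_eq_zero a (ha c hc)

theorem map_iInf_comap_eq (F : Finset 𝒞) (hF : JointlySurj A B (F : Set 𝒞))
    (H : ∀ c d, Compat A K c d) (d : 𝒞) :
    (⨅ c, (K c).comap (algebraMap A (B c))).map (algebraMap A (B d)) = K d := by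
  classical
  set J : Ideal A := ⨅ c, (K c).comap (algebraMap A (B c)) with hJ
  apply le_antisymm
  · rw [Ideal.map_le_iff_le_comap]
    exact iInf_le _ d
  · intro b hb
    -- the injective map `A ⧸ J → ∏_{c ∈ F} B c ⧸ K c`
    let π : A →ₗ[A] (∀ c : F, B c ⧸ K c.1) :=
      LinearMap.pi fun c => ((Ideal.Quotient.mkₐ A (K c.1)).toLinearMap).comp
        (Algebra.linearMap A (B c.1))
    have hπ : ∀ a ∈ J, π a = 0 := by
      intro a ha
      ext c
      have : algebraMap A (B c.1) a ∈ K c.1 := (Ideal.mem_iInf.mp ha c.1)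
      change Ideal.Quotient.mk (K c.1) (algebraMap A (B c.1) a) = 0
      exact Ideal.Quotient.eq_zero_iff_mem.mpr this
    let ι : A ⧸ J →ₗ[A] (∀ c : F, B c ⧸ K c.1) :=
      Submodule.liftQ J π (fun a ha => LinearMap.mem_ker.mpr (hπ a ha))
    have hι : Function.Injective ι := by
      rw [← LinearMap.ker_eq_bot]
      apply Submodule.ker_liftQ_eq_bot
      intro a ha
      rw [LinearMap.mem_ker] at ha
      rw [hJ, Ideal.mem_iInf]
      intro e
      rw [Ideal.mem_comap]
      refine mem_comap_of_forall_mem hF H a (fun c hc => ?_) e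
      have := congrFun ha ⟨c, hc⟩
      change Ideal.Quotient.mk (K c) (algebraMap A (B c) a) = 0 at this
      exact Ideal.Quotient.eq_zero_iff_mem.mp this
    have hinj := Module.Flat.lTensor_preserves_injective_linearMap (M := B d) ι hι
    have h0 : b ⊗ₜ[A] (1 : A ⧸ J) = 0 := by
      apply hinj
      apply (TensorProduct.piRight A A (B d) (fun c : F => B c ⧸ K c.1)).injective
      rw [LinearMap.lTensor_tmul, map_zero, map_zero, TensorProduct.piRight_apply,
        TensorProduct.piRightHom_tmul]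
      ext c
      have : ι (1 : A ⧸ J) c = 1 := by
        change ι (Submodule.Quotient.mk 1) c = 1
        rw [Submodule.liftQ_apply]
        change Ideal.Quotient.mk (K c.1) (algebraMap A (B c.1) 1) = 1
        rw [map_one, map_one]
      rw [this]
      exact (H c.1 d).tmul_one_eq_zero b hb
    -- conclude
    have hle : ∀ a : A, a ∈ J →
        (Algebra.ofId A (B d ⧸ J.map (algebraMap A (B d)))) a = 0 := by
      intro a ha
      rw [Algebra.ofId_apply, IsScalarTower.algebraMap_apply A (B d) (B d ⧸ J.map (algebraMap A (B d))),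
        Ideal.Quotient.algebraMap_eq, Ideal.Quotient.eq_zero_iff_mem]
      exact Ideal.mem_map_of_mem _ ha
    let g : A ⧸ J →ₐ[A] B d ⧸ J.map (algebraMap A (B d)) :=
      Ideal.Quotient.liftₐ J (Algebra.ofId A _) hle
    let θ : B d ⊗[A] (A ⧸ J) →ₐ[A] B d ⧸ J.map (algebraMap A (B d)) :=
      Algebra.TensorProduct.lift (Ideal.Quotient.mkₐ A _) g (fun _ _ => Commute.all _ _)
    have h2 : θ (b ⊗ₜ[A] (1 : A ⧸ J)) = Ideal.Quotient.mk _ b := by
      rw [Algebra.TensorProduct.lift_tmul, map_one, mul_one]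
      rfl
    rw [h0, map_zero] at h2
    exact Ideal.Quotient.eq_zero_iff_mem.mp h2.symm

/-- Uniqueness: an ideal of `A` is determined by its extensions to a jointly faithfully flat family. -/
theorem le_of_map_le {F : Set 𝒞} (hF : JointlySurj A B F) {J J' : Ideal A}
    (h : ∀ c ∈ F, J.map (algebraMap A (B c)) ≤ J'.map (algebraMap A (B c))) : J ≤ J' := by
  intro a ha
  rw [← Ideal.Quotient.eq_zero_iff_mem]
  refine eq_zero_of_tmul_eq_zero hF (M := A ⧸ J') _ fun c hc => ?_
  have hle : ∀ x : A, x ∈ J' →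
      (Algebra.ofId A (B c ⧸ J'.map (algebraMap A (B c)))) x = 0 := by
    intro x hx
    rw [Algebra.ofId_apply, IsScalarTower.algebraMap_apply A (B c) (B c ⧸ J'.map (algebraMap A (B c))),
      Ideal.Quotient.algebraMap_eq, Ideal.Quotient.eq_zero_iff_mem]
    exact Ideal.mem_map_of_mem _ hx
  -- `B c ⊗ A ⧸ J' ≃ B c ⧸ J' B c`
  have key : (1 : B c) ⊗ₜ[A] (Ideal.Quotient.mk J' a) =
      (algebraMap A (B c) a) ⊗ₜ[A] (1 : A ⧸ J') := by
    have : Ideal.Quotient.mk J' a = a • (1 : A ⧸ J') := by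
      rw [← Ideal.Quotient.algebraMap_eq, Algebra.algebraMap_eq_smul_one]
    rw [this, ← TensorProduct.smul_tmul, Algebra.algebraMap_eq_smul_one]
  rw [key]
  have hmem : algebraMap A (B c) a ∈ J'.map (algebraMap A (B c)) := h c hc (Ideal.mem_map_of_mem _ ha)
  -- elements of `J'.map` tensor `1` vanish
  refine Submodule.span_induction (p := fun x _ => x ⊗ₜ[A] (1 : A ⧸ J') = 0) ?_ ?_ ?_ ?_ hmem
  · rintro _ ⟨y, hy, rfl⟩
    rw [Algebra.algebraMap_eq_smul_one, TensorProduct.smul_tmul]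
    have : y • (1 : A ⧸ J') = 0 := by
      have h1 : y • (1 : A ⧸ J') = Ideal.Quotient.mk J' y := by
        rw [← Ideal.Quotient.algebraMap_eq, Algebra.algebraMap_eq_smul_one]
      rw [h1]
      exact Ideal.Quotient.eq_zero_iff_mem.mpr hy
    rw [this, tmul_zero]
  · exact zero_tmul _ _
  · intro x y _ _ hx hy
    rw [add_tmul, hx, hy, add_zero]
  · intro r x _ hx
    have : (r • x) ⊗ₜ[A] (1 : A ⧸ J') = (r ⊗ₜ[A] (1 : A ⧸ J')) * (x ⊗ₜ[A] (1 : A ⧸ J')) := by
      rw [Algebra.TensorProduct.tmul_mul_tmul, mul_one, smul_eq_mul]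
    rw [this, hx, mul_zero]

theorem eq_of_map_eq {F : Set 𝒞} (hF : JointlySurj A B F) {J J' : Ideal A}
    (h : ∀ c ∈ F, J.map (algebraMap A (B c)) = J'.map (algebraMap A (B c))) : J = J' :=
  le_antisymm (le_of_map_le hF fun c hc => (h c hc).le) (le_of_map_le hF fun c hc => (h c hc).ge)

/-! ### Versions stated with ring homomorphisms instead of algebra instances -/

section RingHom

variable {A : Type u} [CommRing A] {𝒞 : Type v} {B : 𝒞 → Type u} [∀ c, CommRing (B c)]
  (φ : ∀ c, A →+* B c)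

/-- Joint surjectivity on spectra, for a family of ring homomorphisms. -/
def JointlySurjR (F : Set 𝒞) : Prop :=
  ∀ p : PrimeSpectrum A, ∃ c ∈ F, p ∈ Set.range (PrimeSpectrum.comap (φ c))

/-- Compatibility of ideals in a weak pushout, for a family of ring homomorphisms. -/
def CompatR (K : ∀ c, Ideal (B c)) (c d : 𝒞) : Prop :=
  ∃ (P : Type u) (_ : CommRing P) (inl : B c →+* P) (inr : B d →+* P),
    (∀ (T : Type u) [CommRing T] (f : B c →+* T) (g : B d →+* T),
      f.comp (φ c) = g.comp (φ d) → ∃ h : P →+* T, h.comp inl = f ∧ h.comp inr = g) ∧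
    (K c).map inl = (K d).map inr

variable {φ} {K : ∀ c, Ideal (B c)}

theorem map_iInf_comap_eq' (hφ : ∀ c, (φ c).Flat) (F : Finset 𝒞) (hF : JointlySurjR φ (F : Set 𝒞))
    (H : ∀ c d, CompatR φ K c d) (d : 𝒞) :
    (⨅ c, (K c).comap (φ c)).map (φ d) = K d := by
  let _ : ∀ c, Algebra A (B c) := fun c => (φ c).toAlgebra
  have : ∀ c, Module.Flat A (B c) := fun c => hφ c
  exact map_iInf_comap_eq (A := A) (B := B) (K := K) F hF H d

theorem eq_of_map_eq' (hφ : ∀ c, (φ c).Flat) {F : Set 𝒞} (hF : JointlySurjR φ F) {J J' : Ideal A}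
    (h : ∀ c ∈ F, J.map (φ c) = J'.map (φ c)) : J = J' := by
  let _ : ∀ c, Algebra A (B c) := fun c => (φ c).toAlgebra
  have : ∀ c, Module.Flat A (B c) := fun c => hφ c
  exact eq_of_map_eq (A := A) (B := B) hF h

end RingHom

end Groth.Agent.Lib.IdealDesc27
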