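import Mathlib
import Groth.Agent.Lib.IdealDesc27
import Groth.Agent.Lib.IdealComap

/-!
# fpqc descent of quasi-coherent ideal sheaves (`IdealSheafData`)

`existsUnique_comap_eq` : for an fpqc covering family `g i : Q i ⟶ P` and ideal sheaves `I i` on `Q i`
whose pullbacks to `Q i ×_P Q j` agree, there is a unique ideal sheaf `J` on `P` with
`J.comap (g i) = I i`.
-/

set_option autoImplicit false
universe u
open CategoryTheory CategoryTheory.Limits AlgebraicGeometry TopologicalSpace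

namespace Groth.Agent.Lib.IdealSheafDesc27

open Groth.Agent.Lib.IdealDesc27 Groth.Agent.Lib.IdealComap

variable {P : Scheme.{u}} {ι : Type u} {Q : ι → Scheme.{u}} (g : ∀ i, Q i ⟶ P)

/-- An affine chart of the family over the open `V` of `P`. -/
structure Chart (V : P.Opens) where
  i : ι
  U : (Q i).Opens
  hU : IsAffineOpen U
  le : U ≤ g i ⁻¹ᵁ V

variable {g}

/-- The ring map of a chart. -/
def Chart.φ {V : P.Opens} (c : Chart g V) : Γ(P, V) →+* Γ(Q c.i, c.U) :=
  ((g c.i).appLE V c.U c.le).hom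

/-- The ideal of a chart. -/
def Chart.K (I : ∀ i, (Q i).IdealSheafData) {V : P.Opens} (c : Chart g V) : Ideal Γ(Q c.i, c.U) :=
  (I c.i).ideal ⟨c.U, c.hU⟩

/-- Restrict a chart over a smaller open to a bigger one. -/
def Chart.ofLE {V V' : P.Opens} (hVV' : V' ≤ V) (c : Chart g V') : Chart g V :=
  ⟨c.i, c.U, c.hU, c.le.trans ((Opens.map (g c.i).base).map (homOfLE hVV')).le⟩

theorem Chart.flat (hfl : ∀ i, Flat (g i)) {V : P.Opens} (hV : IsAffineOpen V) (c : Chart g V) :
    c.φ.Flat :=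
  (g c.i).flat_appLE hV c.hU c.le

theorem isAffineOpen_inf {X Y S T : Scheme.{u}} {f : T ⟶ S} {g' : Y ⟶ X} {iX : X ⟶ S} {iY : Y ⟶ T}
    (H : IsPullback g' iY iX f) {US : S.Opens} {UT : T.Opens} {UX : X.Opens}
    (hUST : UT ≤ f ⁻¹ᵁ US) (hUSX : UX ≤ iX ⁻¹ᵁ US) (hUS : IsAffineOpen US) (hUT : IsAffineOpen UT)
    (hUX : IsAffineOpen UX) : IsAffineOpen (g' ⁻¹ᵁ UX ⊓ iY ⁻¹ᵁ UT) := by
  have : IsAffine _ := hUS
  have : IsAffine _ := hUT
  have : IsAffine _ := hUX
  exact .of_isIso (Scheme.Hom.isPullback_resLE H hUST hUSX rfl).isoPullback.hom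

theorem compatR (I : ∀ i, (Q i).IdealSheafData)
    (h : ∀ i j, (I i).comap (pullback.fst (g i) (g j)) = (I j).comap (pullback.snd (g i) (g j)))
    {V : P.Opens} (hV : IsAffineOpen V) (c d : Chart g V) :
    CompatR (B := fun c : Chart g V => Γ(Q c.i, c.U)) (fun c => c.φ) (fun c => c.K I) c d := by
  have H := IsPullback.of_hasPullback (g c.i) (g d.i)
  have hW : IsAffineOpen (pullback.fst (g c.i) (g d.i) ⁻¹ᵁ c.U ⊓ pullback.snd (g c.i) (g d.i) ⁻¹ᵁ d.U) :=
    isAffineOpen_inf H d.le c.le hV d.hU c.hU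
  have hiso := isIso_pushoutSection_of_isAffineOpen H d.le c.le rfl hV d.hU c.hU
  have hpo := (isIso_pushoutSection_iff H d.le c.le rfl).mp hiso
  refine ⟨Γ(pullback (g c.i) (g d.i), pullback.fst (g c.i) (g d.i) ⁻¹ᵁ c.U ⊓ pullback.snd (g c.i) (g d.i) ⁻¹ᵁ d.U),
    inferInstance, ((pullback.fst (g c.i) (g d.i)).appLE c.U _ inf_le_left).hom,
    ((pullback.snd (g c.i) (g d.i)).appLE d.U _ inf_le_right).hom, ?_, ?_⟩
  · intro T _ f g' hfg
    have hw : (g c.i).appLE V c.U c.le ≫ CommRingCat.ofHom f =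
        (g d.i).appLE V d.U d.le ≫ CommRingCat.ofHom g' := by
      ext x
      exact congrArg (fun r : Γ(P, V) →+* T => r x) hfg
    refine ⟨(hpo.desc (CommRingCat.ofHom f) (CommRingCat.ofHom g') hw).hom, ?_, ?_⟩
    · have := hpo.inl_desc (CommRingCat.ofHom f) (CommRingCat.ofHom g') hw
      exact congrArg CommRingCat.Hom.hom this
    · have := hpo.inr_desc (CommRingCat.ofHom f) (CommRingCat.ofHom g') hw
      exact congrArg CommRingCat.Hom.hom this
  · have := congrArg (fun J => J.ideal ⟨_, hW⟩) (h c.i d.i)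
    simp only at this
    rw [ideal_comap (I c.i) (pullback.fst (g c.i) (g d.i)) c.U c.hU _ hW inf_le_left,
      ideal_comap (I d.i) (pullback.snd (g c.i) (g d.i)) d.U d.hU _ hW inf_le_right] at this
    exact this

/-- A finite jointly surjective family of charts over an affine open, from quasi-compactness of the cover. -/
theorem exists_finset_jointlySurjR
    (hg : Presieve.ofArrows Q g ∈ Scheme.fpqcPrecoverage P) {V : P.Opens} (hV : IsAffineOpen V) :
    ∃ F : Finset (Chart g V),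
      JointlySurjR (B := fun c : Chart g V => Γ(Q c.i, c.U)) (fun c => c.φ) (F : Set (Chart g V)) := by
  classical
  let E : PreZeroHypercover.{u} P := ⟨ι, Q, g⟩
  have hqc : QuasiCompactCover E := Scheme.presieve₀_mem_qcPrecoverage_iff.mp hg.1
  obtain ⟨n, f, W, hW, hcov⟩ := QuasiCompactCover.exists_isAffineOpen_of_isCompact E hV.isCompact
  have hle : ∀ k, W k ≤ g (f k) ⁻¹ᵁ V := by
    intro k y hy
    have : (g (f k)) y ∈ ⋃ i, E.f (f i) '' (W i) := Set.mem_iUnion.mpr ⟨k, y, hy, rfl⟩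
    rw [hcov] at this
    exact this
  let ch : Fin n → Chart g V := fun k => ⟨f k, W k, hW k, hle k⟩
  refine ⟨Finset.univ.image ch, ?_⟩
  intro p
  -- the point of `V` corresponding to `p`
  obtain ⟨x, rfl⟩ : ∃ x : V, hV.primeIdealOf x = p :=
    ⟨hV.isoSpec.inv p, by
      change hV.isoSpec.hom (hV.isoSpec.inv p) = p
      rw [← Scheme.Hom.comp_apply, Iso.inv_hom_id]; rfl⟩
  have hx : (x : P) ∈ ⋃ i, E.f (f i) '' (W i) := by rw [hcov]; exact x.2
  obtain ⟨k, y, hy, hyx⟩ := Set.mem_iUnion.mp hx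
  refine ⟨ch k, by simp, (hW k).primeIdealOf ⟨y, hy⟩, ?_⟩
  have := IsAffineOpen.comap_primeIdealOf_appLE (f := g (f k)) V hV (W k) (hW k) (hle k) hy
  have hxy : (⟨(g (f k)) y, hle k hy⟩ : V) = x := Subtype.ext hyx
  rw [hxy] at this
  exact this

variable (g) in
/-- The descended family of ideals. -/
def descIdeal (I : ∀ i, (Q i).IdealSheafData) (V : P.Opens) : Ideal Γ(P, V) :=
  ⨅ c : Chart g V, (c.K I).comap c.φ

section

variable (hg : Presieve.ofArrows Q g ∈ Scheme.fpqcPrecoverage P) (I : ∀ i, (Q i).IdealSheafData)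
  (h : ∀ i j, (I i).comap (pullback.fst (g i) (g j)) = (I j).comap (pullback.snd (g i) (g j)))

include hg in
theorem flat_of_mem (i : ι) : Flat (g i) :=
  hg.2.2 (Presieve.ofArrows.mk i)

include hg h in
theorem map_descIdeal {V : P.Opens} (hV : IsAffineOpen V) (c : Chart g V) :
    (descIdeal g I V).map c.φ = c.K I := by
  obtain ⟨F, hF⟩ := exists_finset_jointlySurjR hg hV
  exact map_iInf_comap_eq' (B := fun c : Chart g V => Γ(Q c.i, c.U)) (φ := fun c => c.φ)
    (K := fun c => c.K I) (fun c => c.flat (flat_of_mem hg) hV) F hF (fun c d => compatR I h hV c d) c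

include hg in
theorem eq_of_forall_map_eq {V : P.Opens} (hV : IsAffineOpen V) {J J' : Ideal Γ(P, V)}
    (hJ : ∀ c : Chart g V, J.map c.φ = J'.map c.φ) : J = J' := by
  obtain ⟨F, hF⟩ := exists_finset_jointlySurjR hg hV
  exact eq_of_map_eq' (B := fun c : Chart g V => Γ(Q c.i, c.U)) (φ := fun c => c.φ)
    (fun c => c.flat (flat_of_mem hg) hV) hF (fun c _ => hJ c)

theorem Chart.ofLE_φ {V V' : P.Opens} (hVV' : V' ≤ V) (c : Chart g V') :
    (c.ofLE hVV').φ = c.φ.comp (P.presheaf.map (homOfLE hVV').op).hom := by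
  have := Scheme.Hom.map_appLE (g c.i) c.le (homOfLE hVV').op
  exact (congrArg CommRingCat.Hom.hom this).symm

include hg h in
/-- The descended ideal sheaf. -/
def descIdealSheaf : P.IdealSheafData where
  ideal V := descIdeal g I V.1
  map_ideal_basicOpen V s := by
    have hVs : IsAffineOpen (P.basicOpen s) := V.2.basicOpen s
    apply eq_of_forall_map_eq hg hVs
    intro c
    change _ = Ideal.map c.φ (descIdeal g I (P.basicOpen s))
    rw [map_descIdeal hg I h hVs c, Ideal.map_map, ← Chart.ofLE_φ (P.basicOpen_le s) c]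
    exact map_descIdeal hg I h V.2 (c.ofLE (P.basicOpen_le s))

@[simp] theorem descIdealSheaf_ideal (V : P.affineOpens) :
    (descIdealSheaf hg I h).ideal V = descIdeal g I V.1 := rfl

include hg h in
theorem comap_descIdealSheaf (i : ι) : (descIdealSheaf hg I h).comap (g i) = I i := by
  -- index: affine opens of `Q i` lying over an affine open of `P`
  let S := Σ V : P.affineOpens, {U : (Q i).affineOpens // U.1 ≤ g i ⁻¹ᵁ V.1}
  refine Scheme.IdealSheafData.ext_of_iSup_eq_top (ι := S) (fun s => s.2.1) ?_ ?_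
  · rw [eq_top_iff]
    intro y _
    obtain ⟨V, hV, hyV, -⟩ := Opens.isBasis_iff_nbhd.mp P.isBasis_affineOpens
      (show (g i) y ∈ (⊤ : P.Opens) from trivial)
    obtain ⟨U, hU, hyU, hUV⟩ := Opens.isBasis_iff_nbhd.mp (Q i).isBasis_affineOpens
      (show y ∈ (g i ⁻¹ᵁ V : (Q i).Opens) from hyV)
    exact Opens.mem_iSup.mpr ⟨⟨⟨V, hV⟩, ⟨⟨U, hU⟩, hUV⟩⟩, hyU⟩
  · rintro ⟨V, ⟨U, hUV⟩⟩
    change ((descIdealSheaf hg I h).comap (g i)).ideal ⟨U.1, U.2⟩ = (I i).ideal U
    rw [ideal_comap _ (g i) V.1 V.2 U.1 U.2 hUV]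
    exact map_descIdeal hg I h V.2 ⟨i, U.1, U.2, hUV⟩

include hg h in
theorem existsUnique_comap_eq : ∃! J : P.IdealSheafData, ∀ i, J.comap (g i) = I i := by
  refine ⟨descIdealSheaf hg I h, comap_descIdealSheaf hg I h, ?_⟩
  intro J' hJ'
  ext V : 2
  apply eq_of_forall_map_eq hg V.2
  intro c
  rw [descIdealSheaf_ideal, map_descIdeal hg I h V.2 c]
  change Ideal.map ((g c.i).appLE V.1 c.U c.le).hom (J'.ideal ⟨V.1, V.2⟩) = _
  rw [← ideal_comap J' (g c.i) V.1 V.2 c.U c.hU c.le, hJ' c.i]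
  rfl

end

end Groth.Agent.Lib.IdealSheafDesc27
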