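import Mathlib
import Groth.Agent.Lib.CoeffIdeal27
import Groth.Agent.Lib.IdealSheafDesc27

/-!
# Closed conditions on `T`-points cut out by a closed subscheme of `P ×_S T` (helper27)

Weil-restriction-type lemma (SGA3 VIII 6.4 over an affine base with `P` essentially free, e.g. any `P` over
a field): for an ideal sheaf `𝓘` on `P ×_S T`, the `T'`-points `t` of `T` such that
`P ×_S T' ⟶ P ×_S T` factors through `V(𝓘)` are those factoring through a closed subscheme of `T`.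
-/

set_option autoImplicit false
universe u

open CategoryTheory CategoryTheory.Limits AlgebraicGeometry TopologicalSpace MonoidalCategory
  CartesianMonoidalCategory

namespace Groth.Agent.Lib.ClosedCond27

/-- a section which vanishes on a family of opens covering its domain vanishes. -/
theorem section_eq_zero_of_cover {W : Scheme.{u}} (V : W.Opens) (σ : Γ(W, V))
    (h : ∀ x ∈ V, ∃ (V' : W.Opens) (hle : V' ≤ V), x ∈ V' ∧ W.presheaf.map (homOfLE hle).op σ = 0) :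
    σ = 0 := by
  choose V' hle hx hσ using h
  refine TopCat.Sheaf.eq_of_locally_eq' W.sheaf (fun x : V => V' x.1 x.2) V
    (fun x => homOfLE (hle x.1 x.2)) ?_ σ 0 ?_
  · intro x hxV
    exact Opens.mem_iSup.mpr ⟨⟨x, hxV⟩, hx x hxV⟩
  · intro x
    rw [map_zero]
    exact hσ x.1 x.2

/-- `𝓘 ≤ ker f` can be checked on a family of open immersions covering the source. -/
theorem le_ker_of_cover {W' W : Scheme.{u}} (f : W' ⟶ W) (𝓘 : W.IdealSheafData)
    (h : ∀ x : W', ∃ (U : Scheme.{u}) (j : U ⟶ W'), IsOpenImmersion j ∧ x ∈ Set.range j ∧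
      𝓘 ≤ (j ≫ f).ker) : 𝓘 ≤ f.ker := by
  rw [Scheme.Hom.ker, Scheme.IdealSheafData.le_ofIdeals_iff]
  intro V s hs
  rw [RingHom.mem_ker]
  apply section_eq_zero_of_cover
  intro x hx
  obtain ⟨U, j, hj, hxj, hle⟩ := h x
  refine ⟨j ''ᵁ (j ⁻¹ᵁ (f ⁻¹ᵁ V.1)), ?_, ?_, ?_⟩
  · exact fun _ hy => Set.image_preimage_subset _ _ hy
  · obtain ⟨u, rfl⟩ := hxj
    exact ⟨u, hx, rfl⟩
  · have h1 : ((j ≫ f).app V.1).hom s = 0 := (Scheme.Hom.ideal_ker_le (j ≫ f) V) (hle V hs)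
    have h1' : (j.app (f ⁻¹ᵁ V.1)).hom ((f.app V.1).hom s) = 0 := by
      rw [Scheme.Hom.comp_app] at h1
      exact h1
    have h2 := Scheme.Hom.app_appIso_inv j (f ⁻¹ᵁ V.1)
    have h3 := congrArg (fun k => k.hom ((f.app V.1).hom s)) h2
    simp only [CommRingCat.comp_apply] at h3
    rw [h1', map_zero] at h3
    exact h3.symm

variable {S : Scheme.{u}}

theorem isPullback_fst_snd (P T : Over S) :
    IsPullback (fst P T).left (snd P T).left P.hom T.hom :=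
  IsPullback.of_hasPullback P.hom T.hom

instance isAffine_tensor_left [IsAffine S] (P T : Over S) [IsAffine P.left] [IsAffine T.left] :
    IsAffine (P ⊗ T).left :=
  inferInstanceAs (IsAffine (pullback P.hom T.hom))

theorem isPushout_appTop [IsAffine S] (P T : Over S) [IsAffine P.left] [IsAffine T.left] :
    IsPushout P.hom.appTop T.hom.appTop (fst P T).left.appTop (snd P T).left.appTop :=
  isPushout_appTop_of_isPullback (isPullback_fst_snd P T)

/-- for an affine target, `𝓘 ≤ ker f` is a condition on global sections. -/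
theorem le_ker_iff_of_isAffine {W' W : Scheme.{u}} [IsAffine W] (f : W' ⟶ W) (𝓘 : W.IdealSheafData) :
    𝓘 ≤ f.ker ↔ 𝓘.ideal ⟨⊤, isAffineOpen_top W⟩ ≤ RingHom.ker f.appTop.hom := by
  rw [Scheme.ker_of_isAffine]
  constructor
  · intro h
    have := h ⟨⊤, isAffineOpen_top W⟩
    simpa using this
  · intro h
    apply Scheme.IdealSheafData.le_of_isAffine
    simpa using h

/-- **Affine core**: for affine `P` (free over the affine base), affine `T` and an ideal sheaf `𝓘` on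
`P ×_S T`, the condition `P ×_S T' ⟶ P ×_S T` factors through `V(𝓘)` on affine `T'`-points of `T` is
cut out by an ideal of `Γ(T)`. -/
theorem exists_ideal_affine [IsAffine S] (P T : Over S) [IsAffine P.left] [IsAffine T.left]
    (hfree : letI := P.hom.appTop.hom.toAlgebra; Module.Free Γ(S, ⊤) Γ(P.left, ⊤))
    (𝓘 : (P ⊗ T).left.IdealSheafData) :
    ∃ I : Ideal Γ(T.left, ⊤), ∀ (T' : Over S) [IsAffine T'.left] (t : T' ⟶ T),
      𝓘 ≤ (P ◁ t).left.ker ↔ I ≤ RingHom.ker t.left.appTop.hom := by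
  obtain ⟨I, hI⟩ := Groth.Agent.Lib.CoeffIdeal27.exists_ideal_of_isPushout (isPushout_appTop P T) hfree
    (𝓘.ideal ⟨⊤, isAffineOpen_top _⟩)
  refine ⟨I, fun T' _ t => ?_⟩
  rw [le_ker_iff_of_isAffine]
  refine hI _ _ T'.hom.appTop (fst P T').left.appTop (snd P T').left.appTop (isPushout_appTop P T')
    t.left.appTop (P ◁ t).left.appTop ?_ ?_
  · rw [← Scheme.Hom.comp_appTop, ← Over.comp_left, whiskerLeft_fst]
  · rw [← Scheme.Hom.comp_appTop, ← Over.comp_left, whiskerLeft_snd, Over.comp_left,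
      Scheme.Hom.comp_appTop]

theorem isPullback_whiskerLeft_left (R A B : Over S) (f : A ⟶ B) :
    IsPullback (R ◁ f).left (snd R A).left (snd R B).left f.left := by
  refine IsPullback.flip (IsPullback.of_bot ?_ (Over.whiskerLeft_left_snd f).symm
    (IsPullback.of_hasPullback R.hom B.hom).flip)
  rw [Over.whiskerLeft_left_fst, Over.w f]
  exact (IsPullback.of_hasPullback R.hom A.hom).flip

theorem isPullback_whiskerRight_left (R A B : Over S) (f : A ⟶ B) :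
    IsPullback (f ▷ R).left (fst A R).left (fst B R).left f.left := by
  refine IsPullback.flip (IsPullback.of_bot ?_ (Over.whiskerRight_left_fst f).symm
    (IsPullback.of_hasPullback B.hom R.hom))
  rw [Over.whiskerRight_left_snd]
  have : f.left ≫ B.hom = A.hom := Over.w f
  rw [this]
  exact (IsPullback.of_hasPullback A.hom R.hom)

instance isOpenImmersion_whiskerLeft_left (R : Over S) {A B : Over S} (f : A ⟶ B)
    [IsOpenImmersion f.left] : IsOpenImmersion (R ◁ f).left :=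
  MorphismProperty.of_isPullback (isPullback_whiskerLeft_left R A B f).flip inferInstance

instance isOpenImmersion_whiskerRight_left (R : Over S) {A B : Over S} (f : A ⟶ B)
    [IsOpenImmersion f.left] : IsOpenImmersion (f ▷ R).left :=
  MorphismProperty.of_isPullback (isPullback_whiskerRight_left R A B f).flip inferInstance

theorem mem_range_whiskerLeft_left (R : Over S) {A B : Over S} (f : A ⟶ B) (p : (R ⊗ B).left)
    (hp : (snd R B).left p ∈ Set.range f.left) : p ∈ Set.range (R ◁ f).left := by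
  obtain ⟨u, hu⟩ := hp
  obtain ⟨q, hq, -⟩ := Scheme.exists_preimage_of_isPullback (isPullback_whiskerLeft_left R A B f) p u hu.symm
  exact ⟨q, hq⟩

theorem mem_range_whiskerRight_left (R : Over S) {A B : Over S} (f : A ⟶ B) (p : (B ⊗ R).left)
    (hp : (fst B R).left p ∈ Set.range f.left) : p ∈ Set.range (f ▷ R).left := by
  obtain ⟨u, hu⟩ := hp
  obtain ⟨q, hq, -⟩ := Scheme.exists_preimage_of_isPullback (isPullback_whiskerRight_left R A B f) p u hu.symm
  exact ⟨q, hq⟩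

section Phi

variable (P : Over S) {T : Over S} (𝓘 : (P ⊗ T).left.IdealSheafData)

/-- the condition on `T'`-points `t` of `T`: `P ×_S T' ⟶ P ×_S T` factors through `V(𝓘)`. -/
def Phi {T' : Over S} (t : T' ⟶ T) : Prop := 𝓘 ≤ (P ◁ t).left.ker

theorem Phi_comp {T' T'' : Over S} (s : T'' ⟶ T') (t : T' ⟶ T) (h : Phi P 𝓘 t) :
    Phi P 𝓘 (s ≫ t) := by
  unfold Phi at *
  rw [MonoidalCategory.whiskerLeft_comp, Over.comp_left]
  exact h.trans (Scheme.Hom.le_ker_comp _ _)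

theorem Phi_comp_iff_of_isIso {T' T'' : Over S} (s : T'' ⟶ T') [IsIso s] (t : T' ⟶ T) :
    Phi P 𝓘 (s ≫ t) ↔ Phi P 𝓘 t := by
  refine ⟨fun h => ?_, Phi_comp P 𝓘 s t⟩
  have := Phi_comp P 𝓘 (inv s) (s ≫ t) h
  rwa [IsIso.inv_hom_id_assoc] at this

/-- `Phi` for morphisms of schemes `z : Z ⟶ T.left`. -/
def Phi' {Z : Scheme.{u}} (z : Z ⟶ T.left) : Prop :=
  Phi P 𝓘 (Over.homMk z rfl : Over.mk (z ≫ T.hom) ⟶ T)

theorem Phi_iff_Phi' {T' : Over S} (t : T' ⟶ T) : Phi P 𝓘 t ↔ Phi' P 𝓘 t.left := by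
  let e : T' ≅ Over.mk (t.left ≫ T.hom) := Over.isoMk (Iso.refl _) (by simp [Over.w t])
  have ht : t = e.hom ≫ (Over.homMk t.left rfl : Over.mk (t.left ≫ T.hom) ⟶ T) := by
    ext; simp [e]
  unfold Phi'
  conv_lhs => rw [ht]
  exact Phi_comp_iff_of_isIso P 𝓘 _ _

theorem Phi'_comp {Z Z' : Scheme.{u}} (y : Z' ⟶ Z) (z : Z ⟶ T.left) (h : Phi' P 𝓘 z) :
    Phi' P 𝓘 (y ≫ z) := by
  unfold Phi' at *
  have : (Over.homMk (y ≫ z) rfl : Over.mk ((y ≫ z) ≫ T.hom) ⟶ T) =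
      (Over.homMk y (by simp) : Over.mk ((y ≫ z) ≫ T.hom) ⟶ Over.mk (z ≫ T.hom)) ≫
        (Over.homMk z rfl : Over.mk (z ≫ T.hom) ⟶ T) := by
    ext; simp
  rw [this]
  exact Phi_comp P 𝓘 _ _ h

theorem Phi'_local {Z : Scheme.{u}} (z : Z ⟶ T.left)
    (h : ∀ x : Z, ∃ (U : Scheme.{u}) (j : U ⟶ Z), IsOpenImmersion j ∧ x ∈ Set.range j ∧
      Phi' P 𝓘 (j ≫ z)) : Phi' P 𝓘 z := by
  unfold Phi' Phi
  apply le_ker_of_cover
  intro p
  obtain ⟨U, j, hj, hx, hΦ⟩ := h ((snd P (Over.mk (z ≫ T.hom))).left p)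
  let j' : Over.mk ((j ≫ z) ≫ T.hom) ⟶ Over.mk (z ≫ T.hom) := Over.homMk j (by simp)
  have : IsOpenImmersion j'.left := hj
  refine ⟨_, (P ◁ j').left, inferInstance, mem_range_whiskerLeft_left P j' p hx, ?_⟩
  unfold Phi' Phi at hΦ
  have e : (Over.homMk (j ≫ z) rfl : Over.mk ((j ≫ z) ≫ T.hom) ⟶ T) =
      j' ≫ (Over.homMk z rfl : Over.mk (z ≫ T.hom) ⟶ T) := by
    ext; simp [j']
  rw [e, MonoidalCategory.whiskerLeft_comp, Over.comp_left] at hΦ
  exact hΦ

/-- the universal property `𝓙 ≤ ker z ↔ Phi' z` is local on the source of `z`. -/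
theorem up_local (𝓙 : T.left.IdealSheafData) {Z : Scheme.{u}} (z : Z ⟶ T.left)
    (h : ∀ x : Z, ∃ (U : Scheme.{u}) (j : U ⟶ Z), IsOpenImmersion j ∧ x ∈ Set.range j ∧
      (𝓙 ≤ (j ≫ z).ker ↔ Phi' P 𝓘 (j ≫ z))) : 𝓙 ≤ z.ker ↔ Phi' P 𝓘 z := by
  constructor
  · intro h𝓙
    apply Phi'_local
    intro x
    obtain ⟨U, j, hj, hx, hiff⟩ := h x
    exact ⟨U, j, hj, hx, hiff.mp (h𝓙.trans (Scheme.Hom.le_ker_comp _ _))⟩
  · intro hΦ
    apply le_ker_of_cover
    intro x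
    obtain ⟨U, j, hj, hx, hiff⟩ := h x
    exact ⟨U, j, hj, hx, hiff.mpr (Phi'_comp P 𝓘 j z hΦ)⟩

end Phi

theorem eq_of_forall_le_ker_iff {Q : Scheme.{u}} (𝓚₁ 𝓚₂ : Q.IdealSheafData)
    (h : ∀ (Z : Scheme.{u}) (z : Z ⟶ Q), 𝓚₁ ≤ z.ker ↔ 𝓚₂ ≤ z.ker) : 𝓚₁ = 𝓚₂ := by
  apply le_antisymm
  · have := (h _ 𝓚₂.subschemeι).mpr (by rw [Scheme.IdealSheafData.ker_subschemeι])
    rwa [Scheme.IdealSheafData.ker_subschemeι] at this
  · have := (h _ 𝓚₁.subschemeι).mp (by rw [Scheme.IdealSheafData.ker_subschemeι])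
    rwa [Scheme.IdealSheafData.ker_subschemeι] at this

theorem comap_le_ker_iff {Q Q' Z : Scheme.{u}} (𝓚 : Q.IdealSheafData) (f : Q' ⟶ Q) (z : Z ⟶ Q') :
    𝓚.comap f ≤ z.ker ↔ 𝓚 ≤ (z ≫ f).ker := by
  rw [Scheme.Hom.ker_comp, Scheme.IdealSheafData.le_map_iff_comap_le]

section

variable (P : Over S) {T : Over S} (𝓘 : (P ⊗ T).left.IdealSheafData)

theorem Phi'_comap {T₁ : Over S} (τ : T₁ ⟶ T) {Z : Scheme.{u}} (ζ : Z ⟶ T₁.left) :
    Phi' P (𝓘.comap (P ◁ τ).left) ζ ↔ Phi' P 𝓘 (ζ ≫ τ.left) := by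
  have h1 : Phi' P (𝓘.comap (P ◁ τ).left) ζ ↔
      Phi P 𝓘 ((Over.homMk ζ rfl : Over.mk (ζ ≫ T₁.hom) ⟶ T₁) ≫ τ) := by
    unfold Phi' Phi
    rw [comap_le_ker_iff, MonoidalCategory.whiskerLeft_comp, Over.comp_left]
  rw [h1, Phi_iff_Phi']
  rfl

end

/-- freeness of the coordinate ring of `P` over that of the (affine) base. -/
def FreeOver (P : Over S) : Prop :=
  letI := P.hom.appTop.hom.toAlgebra; Module.Free Γ(S, ⊤) Γ(P.left, ⊤)

/-- (R1) `P` affine and free over the affine base, `T` affine. -/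
theorem exists_idealSheaf_of_affine_affine [IsAffine S] (P T : Over S) [IsAffine P.left]
    [IsAffine T.left] (hfree : FreeOver P) (𝓘 : (P ⊗ T).left.IdealSheafData) :
    ∃ 𝓙 : T.left.IdealSheafData, ∀ (Z : Scheme.{u}) (z : Z ⟶ T.left),
      𝓙 ≤ z.ker ↔ Phi' P 𝓘 z := by
  obtain ⟨I, hI⟩ := exists_ideal_affine P T hfree 𝓘
  refine ⟨Scheme.IdealSheafData.ofIdealTop I, fun Z z => ?_⟩
  apply up_local
  intro x
  obtain ⟨Z'', hZ'', hx, -⟩ := exists_isAffineOpen_mem_and_subset (X := Z) (x := x) (U := ⊤) trivial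
  refine ⟨Z''.toScheme, Z''.ι, inferInstance, by simpa using hx, ?_⟩
  have : IsAffine Z''.toScheme := hZ''
  have : IsAffine (Over.mk ((Z''.ι ≫ z) ≫ T.hom)).left := hZ''
  rw [le_ker_iff_of_isAffine]
  unfold Phi' Phi
  rw [hI (Over.mk ((Z''.ι ≫ z) ≫ T.hom)) (Over.homMk (Z''.ι ≫ z) rfl)]
  simp

/-- (R2) `P` affine and free over the affine base, `T` arbitrary. -/
theorem exists_idealSheaf_of_affine [IsAffine S] (P T : Over S) [IsAffine P.left]
    (hfree : FreeOver P) (𝓘 : (P ⊗ T).left.IdealSheafData) :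
    ∃ 𝓙 : T.left.IdealSheafData, ∀ (Z : Scheme.{u}) (z : Z ⟶ T.left),
      𝓙 ≤ z.ker ↔ Phi' P 𝓘 z := by
  -- local pieces
  let TU : T.left.affineOpens → Over S := fun U => Over.mk (U.1.ι ≫ T.hom)
  let τ : ∀ U : T.left.affineOpens, TU U ⟶ T := fun U => Over.homMk U.1.ι rfl
  have hloc : ∀ U : T.left.affineOpens, ∃ 𝓙U : U.1.toScheme.IdealSheafData,
      ∀ (Z : Scheme.{u}) (ζ : Z ⟶ U.1.toScheme), 𝓙U ≤ ζ.ker ↔ Phi' P 𝓘 (ζ ≫ U.1.ι) := by
    intro U
    have : IsAffine (TU U).left := U.2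
    obtain ⟨𝓙U, h𝓙U⟩ := exists_idealSheaf_of_affine_affine P (TU U) hfree (𝓘.comap (P ◁ τ U).left)
    refine ⟨𝓙U, fun Z ζ => ?_⟩
    rw [h𝓙U Z ζ, Phi'_comap]
    rfl
  choose 𝓙U h𝓙U using hloc
  -- glue
  have hg : Presieve.ofArrows (fun U : T.left.affineOpens => U.1.toScheme) (fun U => U.1.ι) ∈
      Scheme.fpqcPrecoverage T.left := by
    apply Scheme.zariskiPrecoverage_le_fpqcPrecoverage
    rw [Scheme.ofArrows_mem_precoverage_iff]
    refine ⟨fun x => ?_, fun U => inferInstance⟩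
    obtain ⟨U, hU, hx, -⟩ := exists_isAffineOpen_mem_and_subset (X := T.left) (x := x) (U := ⊤) trivial
    exact ⟨⟨U, hU⟩, by simpa using hx⟩
  have hcompat : ∀ U U' : T.left.affineOpens,
      (𝓙U U).comap (pullback.fst U.1.ι U'.1.ι) = (𝓙U U').comap (pullback.snd U.1.ι U'.1.ι) := by
    intro U U'
    apply eq_of_forall_le_ker_iff
    intro Z z
    rw [comap_le_ker_iff, comap_le_ker_iff, h𝓙U, h𝓙U, Category.assoc, Category.assoc,
      pullback.condition]
  obtain ⟨𝓙, h𝓙, -⟩ := Groth.Agent.Lib.IdealSheafDesc27.existsUnique_comap_eq hg 𝓙U hcompat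
  refine ⟨𝓙, fun Z z => ?_⟩
  apply up_local
  intro x
  obtain ⟨U, hU, hx, -⟩ := exists_isAffineOpen_mem_and_subset (X := T.left) (x := z x) (U := ⊤) trivial
  refine ⟨(z ⁻¹ᵁ U).toScheme, (z ⁻¹ᵁ U).ι, inferInstance, by simpa using hx, ?_⟩
  rw [← morphismRestrict_ι, ← comap_le_ker_iff, h𝓙 ⟨U, hU⟩, h𝓙U ⟨U, hU⟩]

/-- `P` is covered by affine opens whose coordinate rings are free over `Γ(S)`. -/
def EssFree (P : Over S) : Prop :=
  ∀ x : P.left, ∃ V : P.left.Opens, x ∈ V ∧ IsAffineOpen V ∧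
    FreeOver (Over.mk (V.ι ≫ P.hom))

section

variable (P : Over S) {T : Over S} (𝓘 : (P ⊗ T).left.IdealSheafData)

theorem Phi'_chart {P₁ : Over S} (ι₁ : P₁ ⟶ P) {Z : Scheme.{u}} (z : Z ⟶ T.left) :
    Phi' P₁ (𝓘.comap (ι₁ ▷ T).left) z ↔
      𝓘 ≤ ((ι₁ ▷ Over.mk (z ≫ T.hom)).left ≫
        (P ◁ (Over.homMk z rfl : Over.mk (z ≫ T.hom) ⟶ T)).left).ker := by
  unfold Phi' Phi
  rw [comap_le_ker_iff, ← Over.comp_left, ← Over.comp_left, whisker_exchange]

end

/-- (R3) **Main lemma** (ideal-sheaf form): `S` affine, `P` essentially free over `S`, `T` arbitrary. -/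
theorem exists_idealSheaf [IsAffine S] (P T : Over S) (hP : EssFree P)
    (𝓘 : (P ⊗ T).left.IdealSheafData) :
    ∃ 𝓙 : T.left.IdealSheafData, ∀ (Z : Scheme.{u}) (z : Z ⟶ T.left),
      𝓙 ≤ z.ker ↔ Phi' P 𝓘 z := by
  -- the good charts of `P`
  let G : Type u := {V : P.left.Opens // IsAffineOpen V ∧ FreeOver (Over.mk (V.ι ≫ P.hom))}
  let PV : G → Over S := fun V => Over.mk (V.1.ι ≫ P.hom)
  let ιV : ∀ V : G, PV V ⟶ P := fun V => Over.homMk V.1.ι rfl
  have hloc : ∀ V : G, ∃ 𝓙V : T.left.IdealSheafData, ∀ (Z : Scheme.{u}) (z : Z ⟶ T.left),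
      𝓙V ≤ z.ker ↔ Phi' (PV V) (𝓘.comap (ιV V ▷ T).left) z := by
    intro V
    have : IsAffine (PV V).left := V.2.1
    exact exists_idealSheaf_of_affine (PV V) T V.2.2 _
  choose 𝓙V h𝓙V using hloc
  refine ⟨⨆ V, 𝓙V V, fun Z z => ?_⟩
  rw [iSup_le_iff]
  constructor
  · intro h
    unfold Phi' Phi
    apply le_ker_of_cover
    intro p
    obtain ⟨V, hpV, hV, hVfree⟩ := hP ((fst P (Over.mk (z ≫ T.hom))).left p)
    have : IsOpenImmersion (ιV ⟨V, hV, hVfree⟩).left := inferInstanceAs (IsOpenImmersion V.ι)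
    refine ⟨_, (ιV ⟨V, hV, hVfree⟩ ▷ Over.mk (z ≫ T.hom)).left, inferInstance, ?_, ?_⟩
    · apply mem_range_whiskerRight_left
      exact ⟨⟨_, hpV⟩, rfl⟩
    · exact (Phi'_chart P 𝓘 (ιV ⟨V, hV, hVfree⟩) z).mp ((h𝓙V _ Z z).mp (h _))
  · intro h V
    rw [h𝓙V, Phi'_chart]
    exact le_trans h (Scheme.Hom.le_ker_comp _ _)

/-- over a field every scheme is essentially free. -/
theorem essFree_of_field (k : Type u) [Field k] (P : Over (Spec (CommRingCat.of k))) : EssFree P := by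
  intro x
  obtain ⟨V, hV, hx, -⟩ := exists_isAffineOpen_mem_and_subset (X := P.left) (x := x) (U := ⊤) trivial
  refine ⟨V, hx, hV, ?_⟩
  unfold FreeOver
  have h : IsField Γ(Spec (CommRingCat.of k), ⊤) :=
    (Scheme.ΓSpecIso (CommRingCat.of k)).commRingCatIsoToRingEquiv.toMulEquiv.isField
      (Field.toIsField k)
  let _ := (Over.mk (V.ι ≫ P.hom)).hom.appTop.hom.toAlgebra
  let _ : Field Γ(Spec (CommRingCat.of k), ⊤) := h.toField
  exact Module.Free.of_divisionRing _ _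

/-- for a separated target, equalizing two morphisms is a closed condition. -/
theorem eq_iff_le_ker {W X : Over S} [IsSeparated X.hom] (φ₁ φ₂ : W ⟶ X) {U : Over S} (u : U ⟶ W) :
    u ≫ φ₁ = u ≫ φ₂ ↔ (equalizer.ι φ₁ φ₂).left.ker ≤ u.left.ker := by
  constructor
  · intro h
    have : u = equalizer.lift u h ≫ equalizer.ι φ₁ φ₂ := (equalizer.lift_ι u h).symm
    rw [this, Over.comp_left]
    exact Scheme.Hom.le_ker_comp _ _
  · intro h
    let l := IsClosedImmersion.lift (equalizer.ι φ₁ φ₂).left u.left h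
    have hl : l ≫ (equalizer.ι φ₁ φ₂).left = u.left := IsClosedImmersion.lift_fac _ _ _
    let l' : U ⟶ equalizer φ₁ φ₂ := Over.homMk l (by
      rw [← Over.w (equalizer.ι φ₁ φ₂), ← Category.assoc, hl, Over.w u])
    have : u = l' ≫ equalizer.ι φ₁ φ₂ := by
      ext; exact hl.symm
    rw [this, Category.assoc, Category.assoc, equalizer.condition]

/-- factoring through the closed subscheme `V(𝓙)` of `T`. -/
theorem exists_lift_iff_le_ker {T : Over S} (𝓙 : T.left.IdealSheafData) {T' : Over S} (t : T' ⟶ T) :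
    (∃ z : T' ⟶ Over.mk (𝓙.subschemeι ≫ T.hom),
      z ≫ (Over.homMk 𝓙.subschemeι rfl : Over.mk (𝓙.subschemeι ≫ T.hom) ⟶ T) = t) ↔
      𝓙 ≤ t.left.ker := by
  constructor
  · rintro ⟨z, rfl⟩
    rw [Over.comp_left]
    conv_lhs => rw [← 𝓙.ker_subschemeι]
    exact Scheme.Hom.le_ker_comp _ _
  · intro h
    have h' : 𝓙.subschemeι.ker ≤ t.left.ker := by rw [𝓙.ker_subschemeι]; exact h
    refine ⟨Over.homMk (IsClosedImmersion.lift 𝓙.subschemeι t.left h') ?_, ?_⟩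
    · simp only [Over.mk_left, Over.mk_hom]
      rw [IsClosedImmersion.lift_fac_assoc, Over.w t]
    · ext
      simp only [Over.comp_left, Over.homMk_left]
      exact IsClosedImmersion.lift_fac _ _ _

/-- **Closed conditions** (SGA3 VIII 6.4 over an affine base): let `P` be essentially free over the affine
base `S`, `X` separated over `S`, and `φ₁ φ₂ : P ×_S T ⟶ X`.  The `T'`-points `t` of `T` with
`φ₁ ∘ (P × t) = φ₂ ∘ (P × t)` are those factoring through a closed subscheme of `T`. -/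
theorem exists_closedImmersion_of_eq [IsAffine S] (P T X : Over S) (hP : EssFree P)
    [IsSeparated X.hom] (φ₁ φ₂ : P ⊗ T ⟶ X) :
    ∃ (Z : Over S) (i : Z ⟶ T), IsClosedImmersion i.left ∧ ∀ (T' : Over S) (t : T' ⟶ T),
      (∃ z : T' ⟶ Z, z ≫ i = t) ↔ (P ◁ t) ≫ φ₁ = (P ◁ t) ≫ φ₂ := by
  obtain ⟨𝓙, h𝓙⟩ := exists_idealSheaf P T hP (equalizer.ι φ₁ φ₂).left.ker
  refine ⟨Over.mk (𝓙.subschemeι ≫ T.hom), Over.homMk 𝓙.subschemeι rfl,
    inferInstanceAs (IsClosedImmersion 𝓙.subschemeι), fun T' t => ?_⟩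
  rw [exists_lift_iff_le_ker, h𝓙, ← Phi_iff_Phi', eq_iff_le_ker]
  rfl

end Groth.Agent.Lib.ClosedCond27
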