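/-
helper27: closed conditions, part 2 (continues Lib/ClosedCond27).
`exists_closedImmersion_of_factors`: for `P` essentially free over the affine base `S`, a closed
immersion `y : Y ⟶ X` and `φ : P ×_S T ⟶ X`, the `T'`-points `t` of `T` such that `φ ∘ (P × t)`
factors through `y` are those factoring through a closed subscheme of `T`.
`exists_closedImmersion_and`: conjunction of two closed conditions is closed.
-/
import Mathlib
import Groth.Agent.Lib.ClosedCond27

set_option autoImplicit false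
universe u
open CategoryTheory CategoryTheory.Limits MonoidalCategory CartesianMonoidalCategory AlgebraicGeometry

namespace Groth.Agent.Lib.ClosedCond27

variable {S : Scheme.{u}}

/-- factoring through a closed immersion in `Over S` in terms of kernels. -/
theorem exists_factor_iff_le_ker {W X Y : Over S} (y : Y ⟶ X) [IsClosedImmersion y.left]
    (f : W ⟶ X) : (∃ w : W ⟶ Y, w ≫ y = f) ↔ y.left.ker ≤ f.left.ker := by
  constructor
  · rintro ⟨w, rfl⟩
    rw [Over.comp_left]
    exact Scheme.Hom.le_ker_comp _ _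
  · intro h
    refine ⟨Over.homMk (IsClosedImmersion.lift y.left f.left h) ?_, ?_⟩
    · rw [← Over.w y, IsClosedImmersion.lift_fac_assoc, Over.w f]
    · ext
      simp only [Over.comp_left, Over.homMk_left]
      exact IsClosedImmersion.lift_fac _ _ _

/-- **Closed conditions, factoring version**: let `P` be essentially free over the affine base `S`,
`y : Y ⟶ X` a closed immersion and `φ : P ×_S T ⟶ X`. The `T'`-points `t` of `T` such that
`φ ∘ (P × t)` factors through `y` are those factoring through a closed subscheme of `T`. -/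
theorem exists_closedImmersion_of_factors [IsAffine S] (P T X : Over S) (hP : EssFree P)
    (φ : P ⊗ T ⟶ X) {Y : Over S} (y : Y ⟶ X) [IsClosedImmersion y.left] :
    ∃ (Z : Over S) (i : Z ⟶ T), IsClosedImmersion i.left ∧ ∀ (T' : Over S) (t : T' ⟶ T),
      (∃ z : T' ⟶ Z, z ≫ i = t) ↔ ∃ w : P ⊗ T' ⟶ Y, w ≫ y = (P ◁ t) ≫ φ := by
  obtain ⟨𝓙, h𝓙⟩ := exists_idealSheaf P T hP (y.left.ker.comap φ.left)
  refine ⟨Over.mk (𝓙.subschemeι ≫ T.hom), Over.homMk 𝓙.subschemeι rfl,
    inferInstanceAs (IsClosedImmersion 𝓙.subschemeι), fun T' t => ?_⟩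
  rw [exists_lift_iff_le_ker, h𝓙, ← Phi_iff_Phi', exists_factor_iff_le_ker]
  unfold Phi
  rw [comap_le_ker_iff, Over.comp_left]

/-- the conjunction of two closed conditions is a closed condition. -/
theorem exists_closedImmersion_and {T : Over S} {C₁ C₂ : ∀ (T' : Over S), (T' ⟶ T) → Prop}
    (h₁ : ∃ (Z : Over S) (i : Z ⟶ T), IsClosedImmersion i.left ∧ ∀ (T' : Over S) (t : T' ⟶ T),
      (∃ z : T' ⟶ Z, z ≫ i = t) ↔ C₁ T' t)
    (h₂ : ∃ (Z : Over S) (i : Z ⟶ T), IsClosedImmersion i.left ∧ ∀ (T' : Over S) (t : T' ⟶ T),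
      (∃ z : T' ⟶ Z, z ≫ i = t) ↔ C₂ T' t) :
    ∃ (Z : Over S) (i : Z ⟶ T), IsClosedImmersion i.left ∧ ∀ (T' : Over S) (t : T' ⟶ T),
      (∃ z : T' ⟶ Z, z ≫ i = t) ↔ (C₁ T' t ∧ C₂ T' t) := by
  obtain ⟨Z₁, i₁, hi₁, H₁⟩ := h₁
  obtain ⟨Z₂, i₂, hi₂, H₂⟩ := h₂
  refine ⟨pullback i₁ i₂, pullback.fst i₁ i₂ ≫ i₁, ?_, fun T' t => ?_⟩
  · have hpb : IsPullback (pullback.fst i₁ i₂).left (pullback.snd i₁ i₂).left i₁.left i₂.left :=
      (IsPullback.of_hasPullback i₁ i₂).map (Over.forget S)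
    have : IsClosedImmersion (pullback.fst i₁ i₂).left :=
      MorphismProperty.of_isPullback hpb.flip hi₂
    rw [Over.comp_left]
    infer_instance
  · rw [← H₁, ← H₂]
    constructor
    · rintro ⟨z, rfl⟩
      exact ⟨⟨z ≫ pullback.fst i₁ i₂, by rw [Category.assoc]⟩,
        ⟨z ≫ pullback.snd i₁ i₂, by rw [Category.assoc, ← pullback.condition]⟩⟩
    · rintro ⟨⟨z₁, hz₁⟩, ⟨z₂, hz₂⟩⟩
      refine ⟨pullback.lift z₁ z₂ (by rw [hz₁, hz₂]), ?_⟩
      rw [pullback.lift_fst_assoc, hz₁]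

end Groth.Agent.Lib.ClosedCond27
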