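/-
helper27: closed conditions, part 3 (continues Lib/ClosedCond27, ClosedCond27b): arbitrary base.
`exists_idealSheaf_of_cover` (the universal ideal sheaf can be constructed locally on `T`),
`bcIso` (`(j^*P ×_{S'} A) ≅ (P ×_S j_! A)`), `Phi'_baseChange`,
`EssFreeLoc`, `exists_idealSheaf_of_essFreeLoc`, `exists_closedImmersion_of_eq_of_essFreeLoc`,
`exists_closedImmersion_of_factors_of_essFreeLoc`.
-/
import Mathlib
import Groth.Agent.Lib.ClosedCond27b

set_option autoImplicit false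
universe u
open CategoryTheory CategoryTheory.Limits MonoidalCategory CartesianMonoidalCategory AlgebraicGeometry

namespace Groth.Agent.Lib.ClosedCond27

variable {S : Scheme.{u}}

section Cover

variable (P : Over S) {T : Over S} (𝓘 : (P ⊗ T).left.IdealSheafData)

/-- the universal ideal sheaf `𝓙` on `T` can be constructed locally on `T`. -/
theorem exists_idealSheaf_of_cover {ι : Type u} (W : ι → Scheme.{u}) (w : ∀ i, W i ⟶ T.left)
    [∀ i, IsOpenImmersion (w i)] (hcov : ∀ x : T.left, ∃ i, x ∈ Set.range (w i))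
    (h : ∀ i, ∃ 𝓙i : (W i).IdealSheafData, ∀ (Z : Scheme.{u}) (ζ : Z ⟶ W i),
      𝓙i ≤ ζ.ker ↔ Phi' P 𝓘 (ζ ≫ w i)) :
    ∃ 𝓙 : T.left.IdealSheafData, ∀ (Z : Scheme.{u}) (z : Z ⟶ T.left),
      𝓙 ≤ z.ker ↔ Phi' P 𝓘 z := by
  choose 𝓙i h𝓙i using h
  have hg : Presieve.ofArrows W w ∈ Scheme.fpqcPrecoverage T.left := by
    apply Scheme.zariskiPrecoverage_le_fpqcPrecoverage
    rw [Scheme.ofArrows_mem_precoverage_iff]
    exact ⟨hcov, fun i => inferInstance⟩
  have hcompat : ∀ i i' : ι,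
      (𝓙i i).comap (pullback.fst (w i) (w i')) = (𝓙i i').comap (pullback.snd (w i) (w i')) := by
    intro i i'
    apply eq_of_forall_le_ker_iff
    intro Z z
    rw [comap_le_ker_iff, comap_le_ker_iff, h𝓙i, h𝓙i, Category.assoc, Category.assoc,
      pullback.condition]
  obtain ⟨𝓙, h𝓙, -⟩ := Groth.Agent.Lib.IdealSheafDesc27.existsUnique_comap_eq hg 𝓙i hcompat
  refine ⟨𝓙, fun Z z => ?_⟩
  apply up_local
  intro x
  obtain ⟨i, hi⟩ := hcov (z x)
  refine ⟨pullback z (w i), pullback.fst z (w i), inferInstance, ?_, ?_⟩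
  · rw [Scheme.Pullback.range_fst]
    exact hi
  · rw [pullback.condition, ← comap_le_ker_iff, h𝓙 i, h𝓙i i]

end Cover

section BaseChange

variable {S' : Scheme.{u}} (j : S' ⟶ S) (P : Over S)

theorem isPullback_bc (A : Over S') :
    IsPullback ((fst ((Over.pullback j).obj P) A).left ≫ pullback.fst P.hom j)
      (snd ((Over.pullback j).obj P) A).left P.hom ((Over.map j).obj A).hom :=
  (isPullback_fst_snd ((Over.pullback j).obj P) A).paste_horiz
    (IsPullback.of_hasPullback P.hom j)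

/-- `j^*P ×_{S'} A ≅ P ×_S j_! A`. -/
noncomputable def bcIso (A : Over S') :
    ((Over.pullback j).obj P ⊗ A).left ≅ (P ⊗ (Over.map j).obj A).left :=
  (isPullback_bc j P A).isoIsPullback _ _ (isPullback_fst_snd P ((Over.map j).obj A))

@[reassoc]
theorem bcIso_hom_fst (A : Over S') :
    (bcIso j P A).hom ≫ (fst P ((Over.map j).obj A)).left =
      (fst ((Over.pullback j).obj P) A).left ≫ pullback.fst P.hom j :=
  IsPullback.isoIsPullback_hom_fst _ _ _ _

@[reassoc]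
theorem bcIso_hom_snd (A : Over S') :
    (bcIso j P A).hom ≫ (snd P ((Over.map j).obj A)).left =
      (snd ((Over.pullback j).obj P) A).left :=
  IsPullback.isoIsPullback_hom_snd _ _ _ _

@[reassoc]
theorem bcIso_naturality {A B : Over S'} (f : A ⟶ B) :
    ((Over.pullback j).obj P ◁ f).left ≫ (bcIso j P B).hom =
      (bcIso j P A).hom ≫ (P ◁ (Over.map j).map f).left := by
  apply (isPullback_fst_snd P ((Over.map j).obj B)).hom_ext
  · rw [Category.assoc, bcIso_hom_fst, Category.assoc, ← Over.comp_left, whiskerLeft_fst,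
      bcIso_hom_fst, ← Over.comp_left_assoc, whiskerLeft_fst]
  · rw [Category.assoc, bcIso_hom_snd, Category.assoc, ← Over.comp_left, whiskerLeft_snd,
      Over.comp_left]
    conv_rhs => rw [← Over.comp_left, whiskerLeft_snd, Over.comp_left, bcIso_hom_snd_assoc]
    rfl

variable (T : Over S)

/-- the counit `j_! j^* T ⟶ T`. -/
noncomputable def bcCounit : (Over.map j).obj ((Over.pullback j).obj T) ⟶ T :=
  Over.homMk (pullback.fst T.hom j) pullback.condition

/-- the canonical morphism `j^*P ×_{S'} j^*T ⟶ P ×_S T`. -/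
noncomputable def bcMap : ((Over.pullback j).obj P ⊗ (Over.pullback j).obj T).left ⟶ (P ⊗ T).left :=
  (bcIso j P ((Over.pullback j).obj T)).hom ≫ (P ◁ bcCounit j T).left

theorem Phi'_baseChange (𝓘 : (P ⊗ T).left.IdealSheafData) {Z : Scheme.{u}}
    (z : Z ⟶ ((Over.pullback j).obj T).left) :
    Phi' ((Over.pullback j).obj P) (𝓘.comap (bcMap j P T)) z ↔
      Phi' P 𝓘 (z ≫ pullback.fst T.hom j) := by
  let ζ : Over.mk (z ≫ ((Over.pullback j).obj T).hom) ⟶ (Over.pullback j).obj T := Over.homMk z rfl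
  have h1 : Phi' ((Over.pullback j).obj P) (𝓘.comap (bcMap j P T)) z ↔
      Phi P 𝓘 ((Over.map j).map ζ ≫ bcCounit j T) := by
    unfold Phi' Phi
    rw [comap_le_ker_iff]
    unfold bcMap
    rw [bcIso_naturality_assoc, ← Over.comp_left, ← MonoidalCategory.whiskerLeft_comp,
      Scheme.Hom.ker_comp_of_isIso]
  rw [h1, Phi_iff_Phi']
  rfl

end BaseChange

/-- `P` is essentially free locally on the base. -/
def EssFreeLoc (P : Over S) : Prop :=
  ∀ s : S, ∃ U : S.Opens, s ∈ U ∧ IsAffineOpen U ∧ EssFree ((Over.pullback U.ι).obj P)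

/-- **Main lemma** over an arbitrary base. -/
theorem exists_idealSheaf_of_essFreeLoc (P T : Over S) (hP : EssFreeLoc P)
    (𝓘 : (P ⊗ T).left.IdealSheafData) :
    ∃ 𝓙 : T.left.IdealSheafData, ∀ (Z : Scheme.{u}) (z : Z ⟶ T.left),
      𝓙 ≤ z.ker ↔ Phi' P 𝓘 z := by
  choose U hsU hU hfree using hP
  refine exists_idealSheaf_of_cover P 𝓘 (fun s : S => ((Over.pullback (U s).ι).obj T).left)
    (fun s => pullback.fst T.hom (U s).ι) (fun x => ⟨T.hom x, ?_⟩) (fun s => ?_)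
  · rw [Scheme.Pullback.range_fst]
    simpa using hsU (T.hom x)
  · have : IsAffine ((U s : S.Opens) : Scheme.{u}) := hU s
    obtain ⟨𝓙, h𝓙⟩ := exists_idealSheaf ((Over.pullback (U s).ι).obj P)
      ((Over.pullback (U s).ι).obj T) (hfree s) (𝓘.comap (bcMap (U s).ι P T))
    refine ⟨𝓙, fun Z ζ => ?_⟩
    rw [h𝓙, Phi'_baseChange]

theorem exists_closedImmersion_of_eq_of_essFreeLoc (P T X : Over S) (hP : EssFreeLoc P)
    [IsSeparated X.hom] (φ₁ φ₂ : P ⊗ T ⟶ X) :
    ∃ (Z : Over S) (i : Z ⟶ T), IsClosedImmersion i.left ∧ ∀ (T' : Over S) (t : T' ⟶ T),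
      (∃ z : T' ⟶ Z, z ≫ i = t) ↔ (P ◁ t) ≫ φ₁ = (P ◁ t) ≫ φ₂ := by
  obtain ⟨𝓙, h𝓙⟩ := exists_idealSheaf_of_essFreeLoc P T hP (equalizer.ι φ₁ φ₂).left.ker
  refine ⟨Over.mk (𝓙.subschemeι ≫ T.hom), Over.homMk 𝓙.subschemeι rfl,
    inferInstanceAs (IsClosedImmersion 𝓙.subschemeι), fun T' t => ?_⟩
  rw [exists_lift_iff_le_ker, h𝓙, ← Phi_iff_Phi', eq_iff_le_ker]
  rfl

theorem exists_closedImmersion_of_factors_of_essFreeLoc (P T X : Over S) (hP : EssFreeLoc P)
    (φ : P ⊗ T ⟶ X) {Y : Over S} (y : Y ⟶ X) [IsClosedImmersion y.left] :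
    ∃ (Z : Over S) (i : Z ⟶ T), IsClosedImmersion i.left ∧ ∀ (T' : Over S) (t : T' ⟶ T),
      (∃ z : T' ⟶ Z, z ≫ i = t) ↔ ∃ w : P ⊗ T' ⟶ Y, w ≫ y = (P ◁ t) ≫ φ := by
  obtain ⟨𝓙, h𝓙⟩ := exists_idealSheaf_of_essFreeLoc P T hP (y.left.ker.comap φ.left)
  refine ⟨Over.mk (𝓙.subschemeι ≫ T.hom), Over.homMk 𝓙.subschemeι rfl,
    inferInstanceAs (IsClosedImmersion 𝓙.subschemeι), fun T' t => ?_⟩
  rw [exists_lift_iff_le_ker, h𝓙, ← Phi_iff_Phi', exists_factor_iff_le_ker]
  unfold Phi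
  rw [comap_le_ker_iff, Over.comp_left]

end Groth.Agent.Lib.ClosedCond27
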