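/-
helper27: closed conditions, part 4: criteria for `FreeOver`, `EssFree`, `EssFreeLoc`.
`free_of_commSq`, `freeOver_of_iso`, `freeOver_morphismRestrict`, `essFree_of_isAffine`,
`essFreeLoc_of_isAffineHom` (affine over `S` with locally free coordinate ring).
-/
import Mathlib
import Groth.Agent.Lib.ClosedCond27c

set_option autoImplicit false
universe u
open CategoryTheory CategoryTheory.Limits MonoidalCategory CartesianMonoidalCategory AlgebraicGeometry

namespace Groth.Agent.Lib.ClosedCond27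

/-- freeness transfers along an isomorphism of ring homomorphisms. -/
theorem free_of_commSq {R R' M M' : CommRingCat.{u}} (f : R ⟶ M) (f' : R' ⟶ M') (eR : R ≅ R')
    (eM : M ≅ M') (h : f ≫ eM.hom = eR.hom ≫ f')
    (hfree : @Module.Free R M _ _ f.hom.toAlgebra.toModule) :
    @Module.Free R' M' _ _ f'.hom.toAlgebra.toModule := by
  let _ := f.hom.toAlgebra
  let _ := f'.hom.toAlgebra
  let σ : R →+* R' := eR.hom.hom
  let σ' : R' →+* R := eR.inv.hom
  have : RingHomInvPair σ σ' :=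
    ⟨by ext x; change (eR.hom ≫ eR.inv).hom x = x; rw [Iso.hom_inv_id]; rfl,
     by ext x; change (eR.inv ≫ eR.hom).hom x = x; rw [Iso.inv_hom_id]; rfl⟩
  have : RingHomInvPair σ' σ :=
    ⟨by ext x; change (eR.inv ≫ eR.hom).hom x = x; rw [Iso.inv_hom_id]; rfl,
     by ext x; change (eR.hom ≫ eR.inv).hom x = x; rw [Iso.hom_inv_id]; rfl⟩
  let e₂ : M ≃ₛₗ[σ] M' :=
    { eM.commRingCatIsoToRingEquiv.toAddEquiv with
      map_smul' := by
        intro r m
        change eM.hom.hom (f.hom r * m) = f'.hom (eR.hom.hom r) * eM.hom.hom m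
        rw [map_mul]
        congr 1
        exact congrArg (fun k => k.hom r) h }
  exact Module.Free.of_equiv e₂

variable {S : Scheme.{u}}

theorem freeOver_of_iso {Q Q' : Over S} (e : Q ≅ Q') (h : FreeOver Q) : FreeOver Q' := by
  unfold FreeOver at *
  let eM : Γ(Q.left, ⊤) ≅ Γ(Q'.left, ⊤) :=
    { hom := e.inv.left.appTop
      inv := e.hom.left.appTop
      hom_inv_id := by
        rw [← Scheme.Hom.comp_appTop, ← Over.comp_left, Iso.hom_inv_id, Over.id_left,
          Scheme.Hom.id_appTop]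
      inv_hom_id := by
        rw [← Scheme.Hom.comp_appTop, ← Over.comp_left, Iso.inv_hom_id, Over.id_left,
          Scheme.Hom.id_appTop] }
  refine free_of_commSq Q.hom.appTop Q'.hom.appTop (Iso.refl _) eM ?_ h
  change Q.hom.appTop ≫ e.inv.left.appTop = 𝟙 _ ≫ Q'.hom.appTop
  rw [Category.id_comp, ← Scheme.Hom.comp_appTop, Over.w]

theorem freeOver_morphismRestrict {X : Scheme.{u}} (f : X ⟶ S) (U : S.Opens)
    (h : @Module.Free Γ(S, U) Γ(X, f ⁻¹ᵁ U) _ _ (f.app U).hom.toAlgebra.toModule) :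
    FreeOver (Over.mk (f ∣_ U) : Over (U : Scheme.{u})) := by
  unfold FreeOver
  have key : ∀ (U₁ : S.Opens) (V₁ : X.Opens) (hU : U₁ = U) (hV : V₁ = f ⁻¹ᵁ U₁),
      @Module.Free Γ(S, U₁) Γ(X, V₁) _ _
        (f.app U₁ ≫ X.presheaf.map (eqToHom hV).op).hom.toAlgebra.toModule := by
    intro U₁ V₁ hU hV
    subst hU
    subst hV
    have e : f.app U₁ ≫ X.presheaf.map (eqToHom (rfl : f ⁻¹ᵁ U₁ = f ⁻¹ᵁ U₁)).op = f.app U₁ := by
      simp
    rw [e]
    exact h
  have := key (U.ι ''ᵁ ⊤) ((f ⁻¹ᵁ U).ι ''ᵁ ⊤) (by simp) (image_morphismRestrict_preimage f U ⊤)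
  change @Module.Free _ _ _ _ ((f ∣_ U).appTop).hom.toAlgebra.toModule
  rw [morphismRestrict_appTop]
  exact this

theorem essFree_of_isAffine (Q : Over S) [IsAffine Q.left] (h : FreeOver Q) : EssFree Q := by
  intro x
  refine ⟨⊤, trivial, isAffineOpen_top _, ?_⟩
  refine freeOver_of_iso (Over.isoMk Q.left.topIso.symm ?_) h
  simp only [Over.mk_left, Over.mk_hom, Iso.symm_hom]
  rw [← Category.assoc, Scheme.toIso_inv_ι, Category.id_comp]

/-- a scheme affine over `S` whose coordinate ring is locally free is essentially free locally on `S`. -/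
theorem essFreeLoc_of_isAffineHom (G : Over S) [IsAffineHom G.hom]
    (hfree : ∀ s : S, ∃ U : S.affineOpens, s ∈ (U : S.Opens) ∧
      @Module.Free Γ(S, U) Γ(G.left, G.hom ⁻¹ᵁ U) _ _ (G.hom.app U).hom.toAlgebra.toModule) :
    EssFreeLoc G := by
  intro s
  obtain ⟨U, hsU, hU⟩ := hfree s
  refine ⟨U.1, hsU, U.2, ?_⟩
  have : IsAffine ((U.1 : S.Opens) : Scheme.{u}) := U.2
  have haff : IsAffine ((Over.pullback U.1.ι).obj G).left :=
    inferInstanceAs (IsAffine (pullback G.hom U.1.ι))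
  apply essFree_of_isAffine
  have e : (Over.pullback U.1.ι).obj G ≅ (Over.mk (G.hom ∣_ U.1) : Over (U.1 : Scheme.{u})) :=
    Over.isoMk (pullbackRestrictIsoRestrict G.hom U.1)
      (pullbackRestrictIsoRestrict_hom_morphismRestrict G.hom U.1)
  exact freeOver_of_iso e.symm (freeOver_morphismRestrict G.hom U.1 hU)

end Groth.Agent.Lib.ClosedCond27
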