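import Mathlib

/-!
# The coefficient ideal, projective version (helper27)

`B = C ⊗_R A` with `A` projective as an `R`-module and `J` an ideal of `B`: there is an ideal `I` of `C`
such that for every `w : C ⟶ D` the induced `v : B ⟶ B' = D ⊗_R A` kills `J` iff `w` kills `I`
(`exists_ideal_of_isPushout_of_projective`).  Generalises `Lib/CoeffIdeal27` (free case); the coordinates
are taken with respect to a splitting `s : A → A →₀ R` of `Finsupp.linearCombination R id`.
-/

set_option autoImplicit false
universe u

namespace Groth.Agent.Lib.CoeffIdeal27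

section Algebra

variable {R A : Type u} [CommRing R] [CommRing A] [Algebra R A] (s : A →ₗ[R] (A →₀ R))

section one

variable (C B : Type u) [CommRing C] [CommRing B] [Algebra R C] [Algebra A B] [Algebra C B]
  [Algebra R B] [IsScalarTower R A B] [IsScalarTower R C B] [h : Algebra.IsPushout R C A B]

/-- coordinates of elements of `B = C ⊗_R A` with respect to the splitting `s`. -/
noncomputable def coord : B →ₗ[C] (A →₀ C) :=
  h.out.lift ((Finsupp.mapRange.linearMap (Algebra.linearMap R C)).comp s)

theorem coord_algebraMap (x : A) :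
    coord s C B (algebraMap A B x) = Finsupp.mapRange (algebraMap R C) (map_zero _) (s x) := by
  have := h.out.lift_eq ((Finsupp.mapRange.linearMap (Algebra.linearMap R C)).comp s) x
  exact this

theorem recon_coord (hs : ∀ x, Finsupp.linearCombination R (id : A → A) (s x) = x) (y : B) :
    Finsupp.linearCombination C (fun x : A => algebraMap A B x) (coord s C B y) = y := by
  induction y using h.out.inductionOn with
  | zero => simp
  | tmul x =>
    change Finsupp.linearCombination C (fun x : A => algebraMap A B x)
      (coord s C B (algebraMap A B x)) = algebraMap A B x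
    rw [coord_algebraMap, Finsupp.linearCombination_apply,
      Finsupp.sum_mapRange_index (by intro z; simp)]
    conv_rhs => rw [← hs x, Finsupp.linearCombination_apply, map_finsuppSum]
    refine Finsupp.sum_congr fun z _ => ?_
    simp only [id_eq, algebraMap_smul]
    rw [Algebra.smul_def, Algebra.smul_def, map_mul, ← IsScalarTower.algebraMap_apply]
  | smul γ y ih => rw [map_smul, map_smul, ih]
  | add y₁ y₂ h₁ h₂ => rw [map_add, map_add, h₁, h₂]

end one

variable {C B : Type u} [CommRing C] [CommRing B] [Algebra R C] [Algebra A B] [Algebra C B]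
  [Algebra R B] [IsScalarTower R A B] [IsScalarTower R C B] [h : Algebra.IsPushout R C A B]
  {D B' : Type u} [CommRing D] [CommRing B'] [Algebra R D] [Algebra A B'] [Algebra D B']
  [Algebra R B'] [IsScalarTower R A B'] [IsScalarTower R D B'] [h' : Algebra.IsPushout R D A B']

theorem coord_natural (w : C →+* D) (v : B →+* B')
    (hw : ∀ r, w (algebraMap R C r) = algebraMap R D r)
    (hva : ∀ x, v (algebraMap A B x) = algebraMap A B' x)
    (hvc : ∀ γ, v (algebraMap C B γ) = algebraMap D B' (w γ)) (y : B) :
    Finsupp.mapRange w (map_zero w) (coord s C B y) = coord s D B' (v y) := by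
  induction y using h.out.inductionOn with
  | zero => simp
  | tmul x =>
    change Finsupp.mapRange w (map_zero w) (coord s C B (algebraMap A B x)) =
      coord s D B' (v (algebraMap A B x))
    rw [hva, coord_algebraMap, coord_algebraMap]
    ext z
    simp only [Finsupp.mapRange_apply]
    exact hw _
  | smul γ y ih =>
    rw [map_smul, Algebra.smul_def, map_mul, hvc, ← Algebra.smul_def, map_smul, ← ih]
    ext z
    simp only [Finsupp.mapRange_apply, Finsupp.smul_apply, smul_eq_mul, map_mul]
  | add y₁ y₂ h₁ h₂ =>
    rw [map_add, map_add, map_add, ← h₁, ← h₂]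
    ext z
    simp only [Finsupp.mapRange_apply, Finsupp.add_apply, map_add]

/-- the ideal of `C` generated by the coordinates of the elements of `J`. -/
def coeffIdealP (J : Ideal B) : Ideal C :=
  Ideal.span {γ | ∃ y ∈ J, ∃ z : A, coord s C B y z = γ}

theorem le_ker_iff_P (hs : ∀ x, Finsupp.linearCombination R (id : A → A) (s x) = x)
    (J : Ideal B) (w : C →+* D) (v : B →+* B')
    (hw : ∀ r, w (algebraMap R C r) = algebraMap R D r)
    (hva : ∀ x, v (algebraMap A B x) = algebraMap A B' x)
    (hvc : ∀ γ, v (algebraMap C B γ) = algebraMap D B' (w γ)) :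
    J ≤ RingHom.ker v ↔ coeffIdealP s J ≤ RingHom.ker w := by
  constructor
  · intro hJ
    unfold coeffIdealP
    rw [Ideal.span_le]
    rintro _ ⟨y, hy, z, rfl⟩
    have h0 : v y = 0 := hJ hy
    have := congrArg (fun ξ => ξ z) (coord_natural s w v hw hva hvc y)
    simp only [Finsupp.mapRange_apply] at this
    rw [SetLike.mem_coe, RingHom.mem_ker, this, h0, map_zero, Finsupp.zero_apply]
  · intro hI y hy
    rw [RingHom.mem_ker, ← recon_coord s D B' hs (v y), ← coord_natural s w v hw hva hvc y]
    have : Finsupp.mapRange w (map_zero w) (coord s C B y) = 0 := by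
      ext z
      simp only [Finsupp.mapRange_apply, Finsupp.zero_apply]
      exact hI (Ideal.subset_span ⟨y, hy, z, rfl⟩)
    rw [this, map_zero]

end Algebra

open CategoryTheory CategoryTheory.Limits

/-- **Coefficient ideal for pushouts of rings, projective leg.**  Let `B = A ⊗_R C` with `A` projective
over `R` and `J` an ideal of `B`.  There is an ideal `I` of `C` such that for every `w : C ⟶ D` (over `R`),
the induced map `v : B ⟶ B' = A ⊗_R D` kills `J` iff `w` kills `I`. -/
theorem exists_ideal_of_isPushout_of_projective {R A C B : CommRingCat.{u}} {f : R ⟶ A} {g : R ⟶ C}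
    {a : A ⟶ B} {c : C ⟶ B} (H : IsPushout f g a c)
    (hproj : letI := f.hom.toAlgebra; Module.Projective R A) (J : Ideal B) :
    ∃ I : Ideal C, ∀ (D B' : CommRingCat.{u}) (g' : R ⟶ D) (a' : A ⟶ B') (c' : D ⟶ B')
      (_ : IsPushout f g' a' c') (w : C ⟶ D) (v : B ⟶ B'), g ≫ w = g' → a ≫ v = a' →
      c ≫ v = w ≫ c' → (J ≤ RingHom.ker v.hom ↔ I ≤ RingHom.ker w.hom) := by
  algebraize [f.hom, g.hom, a.hom, c.hom, a.hom.comp f.hom]
  have : IsScalarTower R C B := IsScalarTower.of_algebraMap_eq' (by
    show a.hom.comp f.hom = c.hom.comp g.hom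
    rw [← CommRingCat.hom_comp, ← CommRingCat.hom_comp, H.w])
  have hP : Algebra.IsPushout R A C B := by
    rw [← CommRingCat.isPushout_iff_isPushout]
    exact H
  have hP' : Algebra.IsPushout R C A B := hP.symm
  obtain ⟨s, hs⟩ := hproj.out
  refine ⟨coeffIdealP s J, ?_⟩
  intro D B' g' a' c' H' w v hgw hav hcv
  algebraize [g'.hom, a'.hom, c'.hom, a'.hom.comp f.hom]
  have : IsScalarTower R D B' := IsScalarTower.of_algebraMap_eq' (by
    show a'.hom.comp f.hom = c'.hom.comp g'.hom
    rw [← CommRingCat.hom_comp, ← CommRingCat.hom_comp, H'.w])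
  have hQ : Algebra.IsPushout R A D B' := by
    rw [← CommRingCat.isPushout_iff_isPushout]
    exact H'
  have hQ' : Algebra.IsPushout R D A B' := hQ.symm
  refine le_ker_iff_P s hs J w.hom v.hom ?_ ?_ ?_
  · intro r
    exact congrArg (fun k => k.hom r) hgw
  · intro x
    exact congrArg (fun k => k.hom x) hav
  · intro γ
    exact congrArg (fun k => k.hom γ) hcv

end Groth.Agent.Lib.CoeffIdeal27
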