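/-
helper27: closed conditions, part 5: the abstract framework `Good P` (for every `T` and every ideal sheaf
on `P ×_S T` the universal ideal sheaf on `T` exists), its permanence (`Good.of_charts`: local on `P`;
`Good.of_base_cover`: Zariski local on the base; `good_of_goodAff`: enough to treat affine `T`), and the
projective affine core `goodAff_of_projOver` (`S`, `P` affine, `Γ(P)` projective over `Γ(S)`), whence
`good_of_essProjLoc`.  Consequences: `exists_closedImmersion_of_eq_of_good`,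
`exists_closedImmersion_of_factors_of_good`.
-/
import Mathlib
import Groth.Agent.Lib.ClosedCond27d
import Groth.Agent.Lib.CoeffIdeal27P

set_option autoImplicit false
universe u
open CategoryTheory CategoryTheory.Limits MonoidalCategory CartesianMonoidalCategory AlgebraicGeometry

namespace Groth.Agent.Lib.ClosedCond27

variable {S : Scheme.{u}}

/-- for every `T` and every ideal sheaf on `P ×_S T`, the universal ideal sheaf on `T` exists. -/
def Good (P : Over S) : Prop :=
  ∀ (T : Over S) (𝓘 : (P ⊗ T).left.IdealSheafData), ∃ 𝓙 : T.left.IdealSheafData,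
    ∀ (Z : Scheme.{u}) (z : Z ⟶ T.left), 𝓙 ≤ z.ker ↔ Phi' P 𝓘 z

/-- the same, for `T` with affine total space only. -/
def GoodAff (P : Over S) : Prop :=
  ∀ (T : Over S) [IsAffine T.left] (𝓘 : (P ⊗ T).left.IdealSheafData), ∃ 𝓙 : T.left.IdealSheafData,
    ∀ (Z : Scheme.{u}) (z : Z ⟶ T.left), 𝓙 ≤ z.ker ↔ Phi' P 𝓘 z

theorem good_of_essFree [IsAffine S] (P : Over S) (hP : EssFree P) : Good P :=
  fun T 𝓘 => exists_idealSheaf P T hP 𝓘

theorem good_of_essFreeLoc (P : Over S) (hP : EssFreeLoc P) : Good P :=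
  fun T 𝓘 => exists_idealSheaf_of_essFreeLoc P T hP 𝓘

/-- it is enough to treat affine `T`. -/
theorem good_of_goodAff (P : Over S) (h : GoodAff P) : Good P := by
  intro T 𝓘
  let TU : T.left.affineOpens → Over S := fun U => Over.mk (U.1.ι ≫ T.hom)
  let τ : ∀ U : T.left.affineOpens, TU U ⟶ T := fun U => Over.homMk U.1.ι rfl
  refine exists_idealSheaf_of_cover P 𝓘 (fun U : T.left.affineOpens => U.1.toScheme)
    (fun U => U.1.ι) (fun x => ?_) (fun U => ?_)
  · obtain ⟨U, hU, hx, -⟩ :=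
      exists_isAffineOpen_mem_and_subset (X := T.left) (x := x) (U := ⊤) trivial
    exact ⟨⟨U, hU⟩, by simpa using hx⟩
  · have : IsAffine (TU U).left := U.2
    obtain ⟨𝓙U, h𝓙U⟩ := h (TU U) (𝓘.comap (P ◁ τ U).left)
    refine ⟨𝓙U, fun Z ζ => ?_⟩
    rw [h𝓙U Z ζ, Phi'_comap]
    rfl

/-- `Good` is local on `P`. -/
theorem Good.of_charts (P : Over S)
    (h : ∀ x : P.left, ∃ V : P.left.Opens, x ∈ V ∧ Good (Over.mk (V.ι ≫ P.hom))) : Good P := by
  intro T 𝓘
  let G : Type u := {V : P.left.Opens // Good (Over.mk (V.ι ≫ P.hom))}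
  let PV : G → Over S := fun V => Over.mk (V.1.ι ≫ P.hom)
  let ιV : ∀ V : G, PV V ⟶ P := fun V => Over.homMk V.1.ι rfl
  have hloc : ∀ V : G, ∃ 𝓙V : T.left.IdealSheafData, ∀ (Z : Scheme.{u}) (z : Z ⟶ T.left),
      𝓙V ≤ z.ker ↔ Phi' (PV V) (𝓘.comap (ιV V ▷ T).left) z := fun V => V.2 T _
  choose 𝓙V h𝓙V using hloc
  refine ⟨⨆ V, 𝓙V V, fun Z z => ?_⟩
  rw [iSup_le_iff]
  constructor
  · intro h'
    unfold Phi' Phi
    apply le_ker_of_cover
    intro p
    obtain ⟨V, hpV, hV⟩ := h ((fst P (Over.mk (z ≫ T.hom))).left p)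
    have : IsOpenImmersion (ιV ⟨V, hV⟩).left := inferInstanceAs (IsOpenImmersion V.ι)
    refine ⟨_, (ιV ⟨V, hV⟩ ▷ Over.mk (z ≫ T.hom)).left, inferInstance, ?_, ?_⟩
    · apply mem_range_whiskerRight_left
      exact ⟨⟨_, hpV⟩, rfl⟩
    · exact (Phi'_chart P 𝓘 (ιV ⟨V, hV⟩) z).mp ((h𝓙V _ Z z).mp (h' _))
  · intro h' V
    rw [h𝓙V, Phi'_chart]
    exact le_trans h' (Scheme.Hom.le_ker_comp _ _)

/-- `Good` is Zariski local on the base. -/
theorem Good.of_base_cover (P : Over S)
    (h : ∀ s : S, ∃ U : S.Opens, s ∈ U ∧ Good ((Over.pullback U.ι).obj P)) : Good P := by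
  intro T 𝓘
  choose U hsU hgood using h
  refine exists_idealSheaf_of_cover P 𝓘 (fun s : S => ((Over.pullback (U s).ι).obj T).left)
    (fun s => pullback.fst T.hom (U s).ι) (fun x => ⟨T.hom x, ?_⟩) (fun s => ?_)
  · rw [Scheme.Pullback.range_fst]
    simpa using hsU (T.hom x)
  · obtain ⟨𝓙, h𝓙⟩ := hgood s ((Over.pullback (U s).ι).obj T) (𝓘.comap (bcMap (U s).ι P T))
    refine ⟨𝓙, fun Z ζ => ?_⟩
    rw [h𝓙, Phi'_baseChange]

/-- projectivity of the coordinate ring of `P` over that of the (affine) base. -/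
def ProjOver (P : Over S) : Prop :=
  letI := P.hom.appTop.hom.toAlgebra; Module.Projective Γ(S, ⊤) Γ(P.left, ⊤)

/-- **Affine core, projective version.** -/
theorem exists_ideal_affine_of_projOver [IsAffine S] (P T : Over S) [IsAffine P.left]
    [IsAffine T.left] (hproj : ProjOver P) (𝓘 : (P ⊗ T).left.IdealSheafData) :
    ∃ I : Ideal Γ(T.left, ⊤), ∀ (T' : Over S) [IsAffine T'.left] (t : T' ⟶ T),
      𝓘 ≤ (P ◁ t).left.ker ↔ I ≤ RingHom.ker t.left.appTop.hom := by
  obtain ⟨I, hI⟩ := Groth.Agent.Lib.CoeffIdeal27.exists_ideal_of_isPushout_of_projective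
    (isPushout_appTop P T) hproj (𝓘.ideal ⟨⊤, isAffineOpen_top _⟩)
  refine ⟨I, fun T' _ t => ?_⟩
  rw [le_ker_iff_of_isAffine]
  refine hI _ _ T'.hom.appTop (fst P T').left.appTop (snd P T').left.appTop (isPushout_appTop P T')
    t.left.appTop (P ◁ t).left.appTop ?_ ?_ ?_
  · rw [← Scheme.Hom.comp_appTop, Over.w]
  · rw [← Scheme.Hom.comp_appTop, ← Over.comp_left, whiskerLeft_fst]
  · rw [← Scheme.Hom.comp_appTop, ← Over.comp_left, whiskerLeft_snd, Over.comp_left,
      Scheme.Hom.comp_appTop]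

theorem goodAff_of_projOver [IsAffine S] (P : Over S) [IsAffine P.left] (hproj : ProjOver P) :
    GoodAff P := by
  intro T _ 𝓘
  obtain ⟨I, hI⟩ := exists_ideal_affine_of_projOver P T hproj 𝓘
  refine ⟨Scheme.IdealSheafData.ofIdealTop I, fun Z z => ?_⟩
  apply up_local
  intro x
  obtain ⟨Z'', hZ'', hx, -⟩ := exists_isAffineOpen_mem_and_subset (X := Z) (x := x) (U := ⊤) trivial
  refine ⟨Z''.toScheme, Z''.ι, inferInstance, by simpa using hx, ?_⟩
  have : IsAffine Z''.toScheme := hZ''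
  have : IsAffine (Over.mk ((Z''.ι ≫ z) ≫ T.hom)).left := hZ''
  rw [le_ker_iff_of_isAffine]
  unfold Phi' Phi
  rw [hI (Over.mk ((Z''.ι ≫ z) ≫ T.hom)) (Over.homMk (Z''.ι ≫ z) rfl)]
  simp

theorem good_of_projOver [IsAffine S] (P : Over S) [IsAffine P.left] (hproj : ProjOver P) :
    Good P :=
  good_of_goodAff P (goodAff_of_projOver P hproj)

theorem projOver_of_iso {Q Q' : Over S} (e : Q ≅ Q') (h : ProjOver Q) : ProjOver Q' := by
  unfold ProjOver at *
  let eM : Γ(Q.left, ⊤) ≅ Γ(Q'.left, ⊤) :=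
    { hom := e.inv.left.appTop
      inv := e.hom.left.appTop
      hom_inv_id := by
        rw [← Scheme.Hom.comp_appTop, ← Over.comp_left, Iso.hom_inv_id, Over.id_left,
          Scheme.Hom.id_appTop]
      inv_hom_id := by
        rw [← Scheme.Hom.comp_appTop, ← Over.comp_left, Iso.inv_hom_id, Over.id_left,
          Scheme.Hom.id_appTop] }
  let _ := Q.hom.appTop.hom.toAlgebra
  let _ := Q'.hom.appTop.hom.toAlgebra
  have hcomm : Q.hom.appTop ≫ e.inv.left.appTop = Q'.hom.appTop := by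
    rw [← Scheme.Hom.comp_appTop, Over.w]
  let eL : Γ(Q.left, ⊤) ≃ₗ[Γ(S, ⊤)] Γ(Q'.left, ⊤) :=
    { eM.commRingCatIsoToRingEquiv.toAddEquiv with
      map_smul' := by
        intro r m
        change e.inv.left.appTop.hom (Q.hom.appTop.hom r * m) =
          Q'.hom.appTop.hom r * e.inv.left.appTop.hom m
        rw [map_mul]
        congr 1
        exact congrArg (fun k => k.hom r) hcomm }
  exact Module.Projective.of_equiv eL

end Groth.Agent.Lib.ClosedCond27
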