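/-
helper27: closed conditions, part 6: consequences of `Good P` and examples.
`exists_closedImmersion_of_eq_of_good`, `exists_closedImmersion_of_factors_of_good`,
`projOver_of_finite_flat_lfp`, `good_of_finite_flat_lfp` (finite locally free `F ⟶ S` is `Good`).
-/
import Mathlib
import Groth.Agent.Lib.ClosedCond27e

set_option autoImplicit false
universe u
open CategoryTheory CategoryTheory.Limits MonoidalCategory CartesianMonoidalCategory AlgebraicGeometry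

namespace Groth.Agent.Lib.ClosedCond27

variable {S : Scheme.{u}}

theorem exists_closedImmersion_of_eq_of_good (P T X : Over S) (hP : Good P)
    [IsSeparated X.hom] (φ₁ φ₂ : P ⊗ T ⟶ X) :
    ∃ (Z : Over S) (i : Z ⟶ T), IsClosedImmersion i.left ∧ ∀ (T' : Over S) (t : T' ⟶ T),
      (∃ z : T' ⟶ Z, z ≫ i = t) ↔ (P ◁ t) ≫ φ₁ = (P ◁ t) ≫ φ₂ := by
  obtain ⟨𝓙, h𝓙⟩ := hP T (equalizer.ι φ₁ φ₂).left.ker
  refine ⟨Over.mk (𝓙.subschemeι ≫ T.hom), Over.homMk 𝓙.subschemeι rfl,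
    inferInstanceAs (IsClosedImmersion 𝓙.subschemeι), fun T' t => ?_⟩
  rw [exists_lift_iff_le_ker, h𝓙, ← Phi_iff_Phi', eq_iff_le_ker]
  rfl

/-- ideal sheaf form of `exists_closedImmersion_of_eq_of_good`. -/
theorem exists_idealSheaf_of_eq_of_good (P T X : Over S) (hP : Good P)
    [IsSeparated X.hom] (φ₁ φ₂ : P ⊗ T ⟶ X) :
    ∃ 𝓙 : T.left.IdealSheafData, ∀ (T' : Over S) (t : T' ⟶ T),
      𝓙 ≤ t.left.ker ↔ (P ◁ t) ≫ φ₁ = (P ◁ t) ≫ φ₂ := by
  obtain ⟨𝓙, h𝓙⟩ := hP T (equalizer.ι φ₁ φ₂).left.ker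
  refine ⟨𝓙, fun T' t => ?_⟩
  rw [h𝓙, ← Phi_iff_Phi', eq_iff_le_ker]
  rfl

theorem exists_closedImmersion_of_factors_of_good (P T X : Over S) (hP : Good P)
    (φ : P ⊗ T ⟶ X) {Y : Over S} (y : Y ⟶ X) [IsClosedImmersion y.left] :
    ∃ (Z : Over S) (i : Z ⟶ T), IsClosedImmersion i.left ∧ ∀ (T' : Over S) (t : T' ⟶ T),
      (∃ z : T' ⟶ Z, z ≫ i = t) ↔ ∃ w : P ⊗ T' ⟶ Y, w ≫ y = (P ◁ t) ≫ φ := by
  obtain ⟨𝓙, h𝓙⟩ := hP T (y.left.ker.comap φ.left)
  refine ⟨Over.mk (𝓙.subschemeι ≫ T.hom), Over.homMk 𝓙.subschemeι rfl,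
    inferInstanceAs (IsClosedImmersion 𝓙.subschemeι), fun T' t => ?_⟩
  rw [exists_lift_iff_le_ker, h𝓙, ← Phi_iff_Phi', exists_factor_iff_le_ker]
  unfold Phi
  rw [comap_le_ker_iff, Over.comp_left]

theorem projOver_of_finite_flat_lfp [IsAffine S] (P : Over S) [IsFinite P.hom] [Flat P.hom]
    [LocallyOfFinitePresentation P.hom] : ProjOver P := by
  have : IsAffine P.left := isAffine_of_isAffineHom P.hom
  unfold ProjOver
  have h1 := Scheme.Hom.finite_appTop P.hom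
  have h2 : P.hom.appTop.hom.Flat := HasRingHomProperty.appTop (P := @Flat) P.hom inferInstance
  have h3 := Scheme.Hom.finitePresentation_appTop P.hom
  algebraize [P.hom.appTop.hom]
  have := Module.FinitePresentation.of_finite_of_finitePresentation
    (R := Γ(S, ⊤)) (S := Γ(P.left, ⊤))
  exact Module.Flat.projective_of_finitePresentation

/-- a finite locally free `S`-scheme is `Good`. -/
theorem good_of_finite_flat_lfp (F : Over S) [IsFinite F.hom] [Flat F.hom]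
    [LocallyOfFinitePresentation F.hom] : Good F := by
  apply Good.of_base_cover
  intro s
  obtain ⟨U, hU, hs, -⟩ := exists_isAffineOpen_mem_and_subset (X := S) (x := s) (U := ⊤) trivial
  refine ⟨U, hs, ?_⟩
  have : IsAffine (U : Scheme.{u}) := hU
  have h1 : IsFinite ((Over.pullback U.ι).obj F).hom :=
    inferInstanceAs (IsFinite (pullback.snd F.hom U.ι))
  have h2 : Flat ((Over.pullback U.ι).obj F).hom :=
    inferInstanceAs (Flat (pullback.snd F.hom U.ι))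
  have h3 : LocallyOfFinitePresentation ((Over.pullback U.ι).obj F).hom :=
    inferInstanceAs (LocallyOfFinitePresentation (pullback.snd F.hom U.ι))
  have : IsAffine ((Over.pullback U.ι).obj F).left :=
    isAffine_of_isAffineHom ((Over.pullback U.ι).obj F).hom
  exact good_of_projOver _ (projOver_of_finite_flat_lfp _)

/-- **Generic gluing of universal ideal sheaves**: a condition `Ψ` on morphisms into `Q`, stable under
precomposition and local on the source, which is represented by an ideal sheaf locally on `Q`, is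
represented by an ideal sheaf on `Q`. -/
theorem exists_idealSheaf_glue {Q : Scheme.{u}} (Ψ : ∀ (Z : Scheme.{u}), (Z ⟶ Q) → Prop)
    (hcomp : ∀ (Z Z' : Scheme.{u}) (y : Z' ⟶ Z) (z : Z ⟶ Q), Ψ Z z → Ψ Z' (y ≫ z))
    (hloc : ∀ (Z : Scheme.{u}) (z : Z ⟶ Q), (∀ x : Z, ∃ (U : Scheme.{u}) (j : U ⟶ Z),
      IsOpenImmersion j ∧ x ∈ Set.range j ∧ Ψ U (j ≫ z)) → Ψ Z z)
    {ι : Type u} (W : ι → Scheme.{u}) (w : ∀ i, W i ⟶ Q) [∀ i, IsOpenImmersion (w i)]
    (hcov : ∀ x : Q, ∃ i, x ∈ Set.range (w i))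
    (h : ∀ i, ∃ 𝓙i : (W i).IdealSheafData, ∀ (Z : Scheme.{u}) (ζ : Z ⟶ W i),
      𝓙i ≤ ζ.ker ↔ Ψ Z (ζ ≫ w i)) :
    ∃ 𝓙 : Q.IdealSheafData, ∀ (Z : Scheme.{u}) (z : Z ⟶ Q), 𝓙 ≤ z.ker ↔ Ψ Z z := by
  choose 𝓙i h𝓙i using h
  have hg : Presieve.ofArrows W w ∈ Scheme.fpqcPrecoverage Q := by
    apply Scheme.zariskiPrecoverage_le_fpqcPrecoverage
    rw [Scheme.ofArrows_mem_precoverage_iff]
    exact ⟨hcov, fun i => inferInstance⟩
  have hcompat : ∀ i i' : ι,
      (𝓙i i).comap (pullback.fst (w i) (w i')) = (𝓙i i').comap (pullback.snd (w i) (w i')) := by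
    intro i i'
    apply eq_of_forall_le_ker_iff
    intro Z z
    rw [comap_le_ker_iff, comap_le_ker_iff, h𝓙i, h𝓙i, Category.assoc, Category.assoc,
      pullback.condition]
  obtain ⟨𝓙, h𝓙, -⟩ := Groth.Agent.Lib.IdealSheafDesc27.existsUnique_comap_eq hg 𝓙i hcompat
  refine ⟨𝓙, fun Z z => ?_⟩
  have key : ∀ x : Z, ∃ (U : Scheme.{u}) (j : U ⟶ Z), IsOpenImmersion j ∧ x ∈ Set.range j ∧
      (𝓙 ≤ (j ≫ z).ker ↔ Ψ U (j ≫ z)) := by
    intro x
    obtain ⟨i, hi⟩ := hcov (z x)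
    refine ⟨pullback z (w i), pullback.fst z (w i), inferInstance, ?_, ?_⟩
    · rw [Scheme.Pullback.range_fst]
      exact hi
    · rw [pullback.condition, ← comap_le_ker_iff, h𝓙 i, h𝓙i i]
  constructor
  · intro h𝓙z
    apply hloc
    intro x
    obtain ⟨U, j, hj, hx, hiff⟩ := key x
    exact ⟨U, j, hj, hx, hiff.mp (h𝓙z.trans (Scheme.Hom.le_ker_comp _ _))⟩
  · intro hΨ
    apply le_ker_of_cover
    intro x
    obtain ⟨U, j, hj, hx, hiff⟩ := key x
    exact ⟨U, j, hj, hx, hiff.mpr (hcomp _ _ j z hΨ)⟩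

end Groth.Agent.Lib.ClosedCond27
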