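import Mathlib.Order.Interval.Finset.Fin
import Mathlib.Algebra.BigOperators.Group.Finset.Basic
import Mathlib.Tactic

/-!
# Antitone integer sequences are determined by the sums of positive parts of their shifts (lead; K8)
-/

namespace Groth.Agent.Lib.AntitoneCount

lemma toNat_succ (x : ℤ) : (x + 1).toNat = x.toNat + (if 0 ≤ x then 1 else 0) := by
  split_ifs <;> omega

/-- the counting function `#{i | t ≤ d i}` from the sums of positive parts -/
theorem card_filter_le_eq {r : ℕ} (d : Fin r → ℤ) (t : ℤ) :
    ∑ i, (d i + (1 - t)).toNat = ∑ i, (d i + (-t)).toNat + (Finset.univ.filter (fun i => t ≤ d i)).card := by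
  rw [Finset.card_filter, ← Finset.sum_add_distrib]
  refine Finset.sum_congr rfl fun i _ => ?_
  have h := toNat_succ (d i + (-t))
  have e : d i + -t + 1 = d i + (1 - t) := by ring
  rw [e] at h
  rw [h]
  congr 1
  by_cases ht : t ≤ d i
  · rw [if_pos ht, if_pos (by omega)]
  · rw [if_neg ht, if_neg (by omega)]

theorem key {r : ℕ} (d d' : Fin r → ℤ) (hd : Antitone d) (hd' : Antitone d')
    (h : ∀ t : ℤ, (Finset.univ.filter (fun i => t ≤ d i)).card = (Finset.univ.filter (fun i => t ≤ d' i)).card)
    (i : Fin r) (hlt : d' i < d i) : False := by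
  have hA : Finset.Iic i ⊆ Finset.univ.filter (fun j => d i ≤ d j) := by
    intro j hj
    rw [Finset.mem_Iic] at hj
    simp only [Finset.mem_filter, Finset.mem_univ, true_and]
    exact hd hj
  have hB : Finset.univ.filter (fun j => d i ≤ d' j) ⊆ Finset.Iio i := by
    intro j hj
    simp only [Finset.mem_filter, Finset.mem_univ, true_and] at hj
    rw [Finset.mem_Iio]
    by_contra hji
    rw [not_lt] at hji
    have := hd' hji
    omega
  have h1 := Finset.card_le_card hA
  have h2 := Finset.card_le_card hB
  rw [Fin.card_Iic] at h1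
  rw [Fin.card_Iio] at h2
  have := h (d i)
  omega

/-- antitone integer sequences are determined by the sums of the positive parts of their shifts -/
theorem antitone_eq_of_sum_toNat_eq {r : ℕ} (d d' : Fin r → ℤ) (hd : Antitone d) (hd' : Antitone d')
    (h : ∀ m : ℤ, ∑ i, (d i + m).toNat = ∑ i, (d' i + m).toNat) : d = d' := by
  have hc : ∀ t : ℤ, (Finset.univ.filter (fun i => t ≤ d i)).card =
      (Finset.univ.filter (fun i => t ≤ d' i)).card := by
    intro t
    have h1 := card_filter_le_eq d t
    have h2 := card_filter_le_eq d' t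
    rw [h (1 - t), h (-t)] at h1
    omega
  by_contra hne
  obtain ⟨i, hi⟩ := Function.ne_iff.mp hne
  rcases lt_or_gt_of_ne hi with hlt | hlt
  · exact key d' d hd' hd (fun t => (hc t).symm) i hlt
  · exact key d d' hd hd' hc i hlt

end Groth.Agent.Lib.AntitoneCount
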