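import Mathlib.Algebra.MvPolynomial.PDeriv
import Mathlib.Algebra.Algebra.Subalgebra.Lattice
import Mathlib.Algebra.MvPolynomial.CommRing
import Mathlib.Algebra.Order.BigOperators.Ring.Finset
import Mathlib.Data.Nat.Factorial.Basic

/-!
# The apolar (Sylvester) pairing on a polynomial ring (helper38)

`B P f = Σ_α α! P_α f_α = (P(∂) f)(0)`; multiplication by `X i` is adjoint to `∂_i`;
`dopE P = P(∂)` as an endomorphism (an algebra map into a commutative algebra of operators).
Mathlib-only.
-/

set_option autoImplicit false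
universe u v
open MvPolynomial

namespace Groth.Agent.Lib.Apolar38

section Fact
variable {σ : Type u} [Fintype σ]

/-- `α! = ∏ᵢ (αᵢ)!` -/
def fact (α : σ →₀ ℕ) : ℕ := ∏ i, (α i).factorial

theorem fact_pos (α : σ →₀ ℕ) : 0 < fact α :=
  Finset.prod_pos fun _ _ => Nat.factorial_pos _

theorem fact_zero : fact (0 : σ →₀ ℕ) = 1 := by
  simp [fact]

theorem fact_add_single [DecidableEq σ] (α : σ →₀ ℕ) (i : σ) :
    fact (α + Finsupp.single i 1) = (α i + 1) * fact α := by
  unfold fact
  rw [← Finset.mul_prod_erase Finset.univ _ (Finset.mem_univ i),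
    ← Finset.mul_prod_erase Finset.univ (fun j => (α j).factorial) (Finset.mem_univ i)]
  have h1 : (α + Finsupp.single i 1 : σ →₀ ℕ) i = α i + 1 := by simp
  rw [h1, Nat.factorial_succ, mul_assoc]
  congr 2
  apply Finset.prod_congr rfl
  intro j hj
  have hji : j ≠ i := Finset.ne_of_mem_erase hj
  simp [Finsupp.single_apply, hji.symm]

end Fact

section Pairing
variable {σ : Type u} [Fintype σ] {R : Type v} [CommRing R]

/-- the apolar pairing, linear in the second variable -/
noncomputable def B (P : MvPolynomial σ R) : MvPolynomial σ R →ₗ[R] R :=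
  ∑ α ∈ P.support, ((fact α : R) * coeff α P) • lcoeff R α

theorem B_apply (P f : MvPolynomial σ R) :
    B P f = ∑ α ∈ P.support, (fact α : R) * coeff α P * coeff α f := by
  simp [B, LinearMap.sum_apply]

theorem B_eq_sum_of_subset (P f : MvPolynomial σ R) (s : Finset (σ →₀ ℕ)) (hs : P.support ⊆ s) :
    B P f = ∑ α ∈ s, (fact α : R) * coeff α P * coeff α f := by
  rw [B_apply]
  apply Finset.sum_subset hs
  intro α _ hα
  rw [notMem_support_iff.mp hα]
  ring

theorem B_comm (P f : MvPolynomial σ R) : B P f = B f P := by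
  classical
  rw [B_eq_sum_of_subset P f (P.support ∪ f.support) Finset.subset_union_left,
    B_eq_sum_of_subset f P (P.support ∪ f.support) Finset.subset_union_right]
  apply Finset.sum_congr rfl
  intro α _
  ring

theorem B_add_left (P Q f : MvPolynomial σ R) : B (P + Q) f = B P f + B Q f := by
  rw [B_comm, map_add, B_comm f P, B_comm f Q]

theorem B_smul_left (c : R) (P f : MvPolynomial σ R) : B (c • P) f = c * B P f := by
  rw [B_comm, map_smul, B_comm f P, smul_eq_mul]

theorem B_zero_left (f : MvPolynomial σ R) : B (0 : MvPolynomial σ R) f = 0 := by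
  rw [B_comm, map_zero]

theorem B_sum_left {ι : Type*} (s : Finset ι) (P : ι → MvPolynomial σ R) (f : MvPolynomial σ R) :
    B (∑ i ∈ s, P i) f = ∑ i ∈ s, B (P i) f := by
  rw [B_comm, map_sum]
  exact Finset.sum_congr rfl fun i _ => B_comm f (P i)

theorem B_monomial_left (β : σ →₀ ℕ) (a : R) (f : MvPolynomial σ R) :
    B (monomial β a) f = (fact β : R) * a * coeff β f := by
  classical
  rw [B_eq_sum_of_subset _ f {β} support_monomial_subset, Finset.sum_singleton, coeff_monomial,
    if_pos rfl]

theorem B_one_left (f : MvPolynomial σ R) : B (1 : MvPolynomial σ R) f = coeff 0 f := by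
  have : (1 : MvPolynomial σ R) = monomial 0 1 := rfl
  rw [this, B_monomial_left, fact_zero]
  simp

/-- multiplication by `X i` is adjoint to `∂ᵢ` -/
theorem B_X_mul [DecidableEq σ] (i : σ) (P f : MvPolynomial σ R) :
    B (X i * P) f = B P (pderiv i f) := by
  induction P using MvPolynomial.induction_on' with
  | add p q hp hq => rw [mul_add, B_add_left, B_add_left, hp, hq]
  | monomial α a =>
    have h : (X i : MvPolynomial σ R) * monomial α a = monomial (α + Finsupp.single i 1) a := by
      rw [X, monomial_mul, one_mul, add_comm]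
    rw [h, B_monomial_left, B_monomial_left, coeff_pderiv, fact_add_single]
    push_cast
    ring

theorem B_C_mul (c : R) (P f : MvPolynomial σ R) : B (C c * P) f = c * B P f := by
  rw [C_mul', B_smul_left]

end Pairing

section Dop
variable {σ : Type u} {R : Type v} [CommRing R]

/-- `∂ᵢ` as an endomorphism -/
noncomputable def pdEnd (i : σ) : Module.End R (MvPolynomial σ R) := (pderiv i).toLinearMap

@[simp] theorem pdEnd_apply (i : σ) (f : MvPolynomial σ R) : pdEnd i f = pderiv i f := rfl

theorem pderiv_comm (i j : σ) (f : MvPolynomial σ R) :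
    pderiv i (pderiv j f) = pderiv j (pderiv i f) := by
  classical
  ext m
  rw [coeff_pderiv, coeff_pderiv, coeff_pderiv, coeff_pderiv]
  by_cases hij : i = j
  · subst hij; rfl
  · have h1 : (m + Finsupp.single i 1 : σ →₀ ℕ) j = m j := by
      simp [Finsupp.single_apply, hij]
    have h2 : (m + Finsupp.single j 1 : σ →₀ ℕ) i = m i := by
      simp [Finsupp.single_apply, Ne.symm hij]
    rw [h1, h2, add_right_comm]
    ring

theorem pdEnd_comm (i j : σ) :
    (pdEnd i : Module.End R (MvPolynomial σ R)) * pdEnd j = pdEnd j * pdEnd i := by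
  apply LinearMap.ext
  intro f
  exact pderiv_comm i j f

variable (σ R) in
/-- the commutative algebra of constant-coefficient differential operators -/
noncomputable abbrev DAlg : Subalgebra R (Module.End R (MvPolynomial σ R)) :=
  Algebra.adjoin R (Set.range (pdEnd (σ := σ) (R := R)))

instance : IsMulCommutative (DAlg σ R) :=
  Algebra.isMulCommutative_adjoin R (by
    rintro _ ⟨i, rfl⟩ _ ⟨j, rfl⟩
    exact pdEnd_comm i j)

open scoped IsMulCommutative

/-- `P ↦ P(∂)`, as an algebra map into the commutative algebra of operators -/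
noncomputable def dop : MvPolynomial σ R →ₐ[R] DAlg σ R :=
  aeval fun i => ⟨pdEnd i, Algebra.subset_adjoin ⟨i, rfl⟩⟩

/-- `P(∂)` as an endomorphism -/
noncomputable def dopE (P : MvPolynomial σ R) : Module.End R (MvPolynomial σ R) := (dop P).1

theorem dopE_X (i : σ) : dopE (X i : MvPolynomial σ R) = pdEnd i := by
  simp [dopE, dop]

theorem dopE_C (c : R) : dopE (C c : MvPolynomial σ R) = c • (1 : Module.End R (MvPolynomial σ R)) := by
  simp [dopE, dop, Algebra.algebraMap_eq_smul_one]

theorem dopE_one : dopE (1 : MvPolynomial σ R) = 1 := by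
  simp [dopE]

theorem dopE_mul (P Q : MvPolynomial σ R) : dopE (P * Q) = dopE P * dopE Q := by
  simp [dopE]

theorem dopE_add (P Q : MvPolynomial σ R) : dopE (P + Q) = dopE P + dopE Q := by
  simp [dopE]

theorem dopE_smul (c : R) (P : MvPolynomial σ R) : dopE (c • P) = c • dopE P := by
  simp [dopE]

theorem dopE_pow (P : MvPolynomial σ R) (n : ℕ) : dopE (P ^ n) = dopE P ^ n := by
  simp [dopE]

theorem dopE_sum {ι : Type*} (s : Finset ι) (P : ι → MvPolynomial σ R) :
    dopE (∑ i ∈ s, P i) = ∑ i ∈ s, dopE (P i) := by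
  simp [dopE]

theorem dopE_comm (P Q : MvPolynomial σ R) : dopE P * dopE Q = dopE Q * dopE P := by
  rw [← dopE_mul, mul_comm, dopE_mul]

theorem dopE_mul_apply (P Q : MvPolynomial σ R) (f : MvPolynomial σ R) :
    dopE (P * Q) f = dopE P (dopE Q f) := by
  rw [dopE_mul]; rfl

end Dop

section PairingDop
variable {σ : Type u} [Fintype σ] [DecidableEq σ] {R : Type v} [CommRing R]

/-- `B (Q P) f = B P (Q(∂) f)` -/
theorem B_mul_left (Q : MvPolynomial σ R) : ∀ (P f : MvPolynomial σ R),
    B (Q * P) f = B P (dopE Q f) := by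
  induction Q using MvPolynomial.induction_on with
  | C c =>
    intro P f
    rw [B_C_mul, dopE_C, LinearMap.smul_apply, map_smul, smul_eq_mul]
    rfl
  | add p q hp hq =>
    intro P f
    rw [add_mul, B_add_left, hp, hq, dopE_add, LinearMap.add_apply, map_add]
  | mul_X p i hp =>
    intro P f
    rw [mul_assoc, hp, B_X_mul, mul_comm p (X i), dopE_mul_apply, dopE_X]
    rfl

theorem B_eq_coeff_zero (P f : MvPolynomial σ R) : B P f = coeff 0 (dopE P f) := by
  rw [← B_one_left, ← B_mul_left, mul_one]

end PairingDop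

section Map
variable {σ : Type u} [Fintype σ] {R : Type v} [CommRing R] {S : Type*} [CommRing S]

theorem B_map (φ : R →+* S) (P f : MvPolynomial σ R) :
    B (map φ P) (map φ f) = φ (B P f) := by
  rw [B_eq_sum_of_subset _ _ P.support (support_map_subset φ P), B_apply, map_sum]
  apply Finset.sum_congr rfl
  intro α _
  rw [coeff_map, coeff_map, map_mul, map_mul, map_natCast]

theorem B_self_pos {P : MvPolynomial σ ℤ} (hP : P ≠ 0) : 0 < B P P := by
  rw [B_apply]
  apply Finset.sum_pos
  · intro α hα
    have hc : coeff α P ≠ 0 := mem_support_iff.mp hα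
    have h1 : (0 : ℤ) < (fact α : ℤ) := by exact_mod_cast fact_pos α
    rw [mul_assoc]
    exact mul_pos h1 (mul_self_pos.mpr hc)
  · exact support_nonempty.mpr hP

end Map

end Groth.Agent.Lib.Apolar38
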