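import Groth.Agent.Lib.LimDescentClosedImm
import Mathlib.AlgebraicGeometry.Morphisms.Finite

/-!
# Descent of finite morphisms through cofiltered limits (EGA IV 8.10.5 (x))
-/

set_option autoImplicit false
universe u

open CategoryTheory Limits AlgebraicGeometry

namespace Groth.Agent.Lib.LimDescent

open Groth.Agent.Lib.LimPullback

section ring

/-- In a pushout square of commutative rings, a subring of `C` containing the images of `A` and
`B₀` is everything. -/
theorem subring_eq_top_of_isPushout {A₀ B₀ A C : CommRingCat.{u}} {φ₀ : A₀ ⟶ B₀} {α : A₀ ⟶ A}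
    {β : B₀ ⟶ C} {φ : A ⟶ C} (sq : IsPushout φ₀ α β φ) (R' : Subring C)
    (hA : ∀ a : A, φ a ∈ R') (hB : ∀ b : B₀, β b ∈ R') : R' = ⊤ := by
  let ρ : A ⟶ CommRingCat.of R' := CommRingCat.ofHom (φ.hom.codRestrict R' hA)
  let σ : B₀ ⟶ CommRingCat.of R' := CommRingCat.ofHom (β.hom.codRestrict R' hB)
  let incl : CommRingCat.of R' ⟶ C := CommRingCat.ofHom R'.subtype
  have hρ : ρ ≫ incl = φ := by ext a; rfl
  have hσ : σ ≫ incl = β := by ext a; rfl
  have w : φ₀ ≫ σ = α ≫ ρ := by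
    ext a
    exact congr($(sq.w) a)
  let d : C ⟶ CommRingCat.of R' := sq.desc σ ρ w
  have hd1 : β ≫ d = σ := sq.inl_desc _ _ _
  have hd2 : φ ≫ d = ρ := sq.inr_desc _ _ _
  have hid : d ≫ incl = 𝟙 C := by
    apply sq.hom_ext
    · rw [← Category.assoc, hd1, hσ, Category.comp_id]
    · rw [← Category.assoc, hd2, hρ, Category.comp_id]
  rw [eq_top_iff]
  intro y _
  have hy : incl (d y) = y := congr($hid y)
  rw [← hy]
  exact (d y).2

/-- In a pushout square `C = A ⊗_{A₀} B₀` with `B₀` generated over `A₀` by a finite set whose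
images in `C` are integral over `A`, the ring `C` is finite over `A`. -/
theorem finite_of_isPushout {A₀ B₀ A C : CommRingCat.{u}} {φ₀ : A₀ ⟶ B₀} {α : A₀ ⟶ A}
    {β : B₀ ⟶ C} {φ : A ⟶ C} (sq : IsPushout φ₀ α β φ) (s : Finset B₀)
    (hs : letI := φ₀.hom.toAlgebra; Algebra.adjoin A₀ (s : Set B₀) = ⊤)
    (hint : ∀ x ∈ s, φ.hom.IsIntegralElem (β x)) : φ.hom.Finite := by
  letI := φ₀.hom.toAlgebra
  letI := φ.hom.toAlgebra
  let T : Subalgebra A C := Algebra.adjoin A (β '' (s : Set B₀))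
  have hfg : T.toSubmodule.FG := by
    refine fg_adjoin_of_finite (s.finite_toSet.image _) ?_
    rintro _ ⟨x, hx, rfl⟩
    exact hint x hx
  have hT : T.toSubring = ⊤ := by
    refine subring_eq_top_of_isPushout sq T.toSubring (fun a => T.algebraMap_mem a) ?_
    let S' : Subalgebra A₀ B₀ :=
      { (T.toSubring.comap β.hom).toSubsemiring with
        algebraMap_mem' := fun a₀ => by
          change β.hom (φ₀.hom a₀) ∈ T
          have : β.hom (φ₀.hom a₀) = φ.hom (α.hom a₀) := congr($(sq.w) a₀)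
          rw [this]
          exact T.algebraMap_mem _ }
    have hle : Algebra.adjoin A₀ (s : Set B₀) ≤ S' :=
      Algebra.adjoin_le (fun x hx => Algebra.subset_adjoin ⟨x, hx, rfl⟩)
    intro b
    have hb : b ∈ S' := hle (hs ▸ Algebra.mem_top)
    exact hb
  have hT' : T = ⊤ := by
    rw [eq_top_iff]
    intro y _
    have : y ∈ T.toSubring := hT ▸ Subring.mem_top y
    exact this
  change Module.Finite A C
  refine ⟨?_⟩
  rw [← Algebra.top_toSubmodule, ← hT']
  exact hfg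

theorem isIntegralElem_of_comm_sq {A B A' B' : Type u} [CommRing A] [CommRing B] [CommRing A']
    [CommRing B'] (φ : A →+* B) (φ' : A' →+* B') (a : A →+* A') (b : B →+* B')
    (h : b.comp φ = φ'.comp a) (x : B) (hx : φ.IsIntegralElem x) : φ'.IsIntegralElem (b x) := by
  obtain ⟨p, hp, hpx⟩ := hx
  refine ⟨p.map a, hp.map a, ?_⟩
  rw [Polynomial.eval₂_map, ← h, ← Polynomial.hom_eval₂, hpx, map_zero]

end ring

section

variable {I : Type u} [Category.{u} I] (D : I ⥤ Scheme.{u}) (c : Cone D)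
variable [IsCofiltered I] (hc : IsLimit c)

include hc in
/-- Monic polynomials over the global sections of an affine limit come from a finite stage. -/
theorem exists_monic_lift_of_isAffine [∀ i, IsAffine (D.obj i)]
    (p : Polynomial Γ(c.pt, ⊤)) (hp : p.Monic) :
    ∃ (i : I) (q : Polynomial Γ(D.obj i, ⊤)), q.Monic ∧ q.map (c.π.app i).appTop.hom = p := by
  classical
  have hex : ∀ n : ℕ, ∃ (i : I) (t : Γ(D.obj i, ⊤)), (c.π.app i).appTop t = p.coeff n :=
    fun n => exists_appTop_π_eq_of_isAffine_of_isLimit D c hc (p.coeff n)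
  choose i t ht using hex
  obtain ⟨k, hk⟩ := IsCofiltered.inf_objs_exists (p.support.image i)
  have hl : p ∈ Polynomial.lifts (c.π.app k).appTop.hom := by
    rw [Polynomial.lifts_iff_coeff_lifts]
    intro n
    by_cases hn : n ∈ p.support
    · obtain ⟨m⟩ := hk (Finset.mem_image_of_mem i hn)
      refine ⟨(D.map m).appTop (t n), ?_⟩
      change (c.π.app k).appTop ((D.map m).appTop (t n)) = p.coeff n
      rw [appTop_comp_apply, c.w, ht]
    · rw [Polynomial.notMem_support_iff] at hn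
      exact ⟨0, by rw [map_zero, hn]⟩
  obtain ⟨q, hq, -, hqm⟩ := Polynomial.lifts_and_natDegree_eq_and_monic hl hp
  exact ⟨k, q, hqm, hq⟩

end

section

variable {I : Type u} [Category.{u} I] (D : I ⥤ Scheme.{u}) (c : Cone D)
variable [IsCofiltered I] (hc : IsLimit c) [∀ {i j} (f : i ⟶ j), IsAffineHom (D.map f)]
variable {i₀ : I} {X₀ Y₀ : Scheme.{u}} (f₀ : X₀ ⟶ Y₀) (g₀ : Y₀ ⟶ D.obj i₀)

include hc in
/-- Core affine case. -/
theorem exists_isFinite_stage_of_isAffine [IsAffine X₀] [IsAffine Y₀]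
    [LocallyOfFiniteType f₀] (h : IsFinite (bcMap f₀ g₀ (c.π.app i₀))) :
    ∃ j : Over i₀, IsFinite (bcMap f₀ g₀ (D.map j.hom)) := by
  classical
  haveI := isAffineHom_π_app D c hc i₀
  haveI hYaff : ∀ j : Over i₀, IsAffine ((pbDiagram D i₀ g₀).obj j) := fun j =>
    (inferInstance : IsAffine (pullback g₀ (D.map j.hom)))
  haveI hXaff : ∀ j : Over i₀, IsAffine ((pbDiagram D i₀ (f₀ ≫ g₀)).obj j) := fun j =>
    (inferInstance : IsAffine (pullback (f₀ ≫ g₀) (D.map j.hom)))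
  haveI hYaff' : ∀ j : Over i₀, IsAffine (pullback g₀ (D.map j.hom)) := fun j => inferInstance
  haveI hXaff' : ∀ j : Over i₀, IsAffine (pullback (f₀ ≫ g₀) (D.map j.hom)) :=
    fun j => inferInstance
  haveI : IsAffine (pullback g₀ (c.π.app i₀)) := inferInstance
  haveI : IsAffine (pullback (f₀ ≫ g₀) (c.π.app i₀)) := inferInstance
  have hft : RingHom.FiniteType f₀.appTop.hom :=
    (HasRingHomProperty.iff_of_isAffine (P := @LocallyOfFiniteType)).mp inferInstance
  letI := f₀.appTop.hom.toAlgebra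
  obtain ⟨s, hs⟩ := (hft : Algebra.FiniteType Γ(Y₀, ⊤) Γ(X₀, ⊤)).out
  -- the property of a stage
  let Good : Over i₀ → Γ(X₀, ⊤) → Prop := fun k x =>
    (bcMap f₀ g₀ (D.map k.hom)).appTop.hom.IsIntegralElem
      ((pullback.fst (f₀ ≫ g₀) (D.map k.hom)).appTop x)
  have hsq : ∀ {k k' : Over i₀} (m : k' ⟶ k),
      (pbMap D i₀ (f₀ ≫ g₀) m).appTop.hom.comp (bcMap f₀ g₀ (D.map k.hom)).appTop.hom =
        (bcMap f₀ g₀ (D.map k'.hom)).appTop.hom.comp (pbMap D i₀ g₀ m).appTop.hom := by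
    intro k k' m
    have := congr(($(pbMap_bcMap D f₀ g₀ m)).appTop.hom)
    exact this
  have hfst : ∀ {k k' : Over i₀} (m : k' ⟶ k) (x : Γ(X₀, ⊤)),
      (pbMap D i₀ (f₀ ≫ g₀) m).appTop.hom ((pullback.fst (f₀ ≫ g₀) (D.map k.hom)).appTop x) =
        (pullback.fst (f₀ ≫ g₀) (D.map k'.hom)).appTop x := by
    intro k k' m x
    change (pbMap D i₀ (f₀ ≫ g₀) m).appTop ((pullback.fst (f₀ ≫ g₀) (D.map k.hom)).appTop x) = _
    rw [appTop_comp_apply, pbMap_fst]
  have hmono : ∀ {k k' : Over i₀} (m : k' ⟶ k) (x : Γ(X₀, ⊤)), Good k x → Good k' x := by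
    intro k k' m x hx
    have := isIntegralElem_of_comm_sq _ _ _ _ (hsq m) _ hx
    rwa [hfst m x] at this
  have hintlim : (bcMap f₀ g₀ (c.π.app i₀)).appTop.hom.IsIntegral :=
    (Scheme.Hom.finite_appTop (bcMap f₀ g₀ (c.π.app i₀))).to_isIntegral
  have hex : ∀ x : Γ(X₀, ⊤), ∃ k : Over i₀, Good k x := by
    intro x
    obtain ⟨p, hp, hpx⟩ := hintlim ((pullback.fst (f₀ ≫ g₀) (c.π.app i₀)).appTop x)
    obtain ⟨j, q, hq, hqp⟩ := exists_monic_lift_of_isAffine (pbDiagram D i₀ g₀)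
      (pbCone D c i₀ g₀) (isLimitPbCone hc) p hp
    obtain ⟨q, hq, hqp⟩ : ∃ q : Polynomial Γ(pullback g₀ (D.map j.hom), ⊤), q.Monic ∧
        q.map (pbProj D c i₀ g₀ j).appTop.hom = p := ⟨q, hq, hqp⟩
    let β : Γ(pullback (f₀ ≫ g₀) (D.map j.hom), ⊤) :=
      Polynomial.eval₂ (bcMap f₀ g₀ (D.map j.hom)).appTop.hom
        ((pullback.fst (f₀ ≫ g₀) (D.map j.hom)).appTop x) q
    have hsq' : (pbProj D c i₀ (f₀ ≫ g₀) j).appTop.hom.comp
        (bcMap f₀ g₀ (D.map j.hom)).appTop.hom =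
        (bcMap f₀ g₀ (c.π.app i₀)).appTop.hom.comp (pbProj D c i₀ g₀ j).appTop.hom := by
      have := congr(($(pbProj_bcMap D c f₀ g₀ j)).appTop.hom)
      exact this
    have hfst' : (pbProj D c i₀ (f₀ ≫ g₀) j).appTop.hom
        ((pullback.fst (f₀ ≫ g₀) (D.map j.hom)).appTop x) =
        (pullback.fst (f₀ ≫ g₀) (c.π.app i₀)).appTop x := by
      change (pbProj D c i₀ (f₀ ≫ g₀) j).appTop
        ((pullback.fst (f₀ ≫ g₀) (D.map j.hom)).appTop x) = _
      rw [appTop_comp_apply, pbProj_fst]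
    have hβ : (pbProj D c i₀ (f₀ ≫ g₀) j).appTop β = 0 := by
      change (pbProj D c i₀ (f₀ ≫ g₀) j).appTop.hom β = 0
      rw [Polynomial.hom_eval₂, hsq', hfst', ← Polynomial.eval₂_map, hqp, hpx]
    obtain ⟨k, m, hk⟩ := exists_appTop_map_eq_zero_of_isAffine_of_isLimit
      (pbDiagram D i₀ (f₀ ≫ g₀)) (pbCone D c i₀ (f₀ ≫ g₀)) (isLimitPbCone hc) j β hβ
    change (pbMap D i₀ (f₀ ≫ g₀) m).appTop.hom β = 0 at hk
    refine ⟨k, q.map (pbMap D i₀ g₀ m).appTop.hom, hq.map _, ?_⟩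
    rw [Polynomial.eval₂_map, ← hsq m, ← hfst m x, ← Polynomial.hom_eval₂]
    exact hk
  choose k hk using hex
  obtain ⟨k', hk'⟩ := IsCofiltered.inf_objs_exists (s.image k)
  have hall : ∀ x ∈ s, Good k' x := fun x hx => by
    obtain ⟨m⟩ := hk' (Finset.mem_image_of_mem k hx)
    exact hmono m x (hk x)
  refine ⟨k', ?_⟩
  have sq := isPushout_appTop_of_isPullback (isPullback_bcMap f₀ g₀ (D.map k'.hom))
  rw [HasAffineProperty.iff_of_isAffine (P := @IsFinite)]
  exact ⟨inferInstance, finite_of_isPushout sq s hs hall⟩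

include hc in
/-- Affine target. -/
theorem exists_isFinite_stage_of_isAffine_target [IsAffine Y₀] [QuasiCompact f₀]
    [QuasiSeparated f₀] [LocallyOfFiniteType f₀]
    (h : IsFinite (bcMap f₀ g₀ (c.π.app i₀))) :
    ∃ j : Over i₀, IsFinite (bcMap f₀ g₀ (D.map j.hom)) := by
  obtain ⟨k, hk⟩ := exists_isAffineHom_stage' D c hc f₀ g₀ (inferInstance : IsAffineHom _)
  refine exists_stage_of_rebase D c f₀ g₀ @IsFinite k (fun h' => ?_) h
  haveI : IsAffine (pullback g₀ (D.map k.hom)) := inferInstance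
  haveI : IsAffine (pullback (f₀ ≫ g₀) (D.map k.hom)) :=
    isAffine_of_isAffineHom (bcMap f₀ g₀ (D.map k.hom))
  haveI : LocallyOfFiniteType (bcMap f₀ g₀ (D.map k.hom)) :=
    MorphismProperty.of_isPullback (isPullback_bcMap f₀ g₀ (D.map k.hom)) inferInstance
  exact exists_isFinite_stage_of_isAffine D c hc _ _ h'

include hc in
/-- EGA IV 8.10.5 (x): descent of finite morphisms (finite type suffices). -/
theorem exists_isFinite_stage [CompactSpace Y₀] [QuasiCompact f₀]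
    [QuasiSeparated f₀] [LocallyOfFiniteType f₀]
    (h : IsFinite (bcMap f₀ g₀ (c.π.app i₀))) :
    ∃ j : Over i₀, IsFinite (bcMap f₀ g₀ (D.map j.hom)) :=
  exists_stage_of_openCover D c f₀ g₀ @IsFinite Y₀.affineCover.finiteSubcover
    (fun a h' => exists_isFinite_stage_of_isAffine_target D c hc _ _ h') h

end

end Groth.Agent.Lib.LimDescent
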