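import Mathlib.AlgebraicGeometry.AffineTransitionLimit
import Mathlib.AlgebraicGeometry.Morphisms.FinitePresentation
import Mathlib.Topology.Constructible

set_option autoImplicit false
universe u

open CategoryTheory Limits AlgebraicGeometry Topology TopologicalSpace

namespace Groth.Agent.Lib.LimConstructible

/-- In a compact space, constructible sets are compact. -/
theorem isCompact_of_isConstructible {X : Type*} [TopologicalSpace X] [CompactSpace X]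
    {s : Set X} (hs : IsConstructible s) : IsCompact s := by
  refine BooleanSubalgebra.closure_sdiff_sup_induction
    (s := {U : Set X | IsOpen U ∧ IsRetrocompact U})
    (p := fun g _ => IsCompact g) ?_ ?_ ?_ ?_ ?_ s hs
  · exact ⟨fun s hs t ht ↦ ⟨hs.1.union ht.1, hs.2.union ht.2⟩,
      fun s hs t ht ↦ ⟨hs.1.inter ht.1, hs.2.inter_isOpen ht.2 ht.1⟩⟩
  · exact ⟨isOpen_empty, .empty⟩
  · exact ⟨isOpen_univ, .univ⟩
  · intro x hx y hy
    exact hx.2.isCompact.diff hy.1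
  · intro x _ y _ hx hy
    exact hx.union hy

variable {I : Type u} [Category.{u} I] [IsCofiltered I] (D : I ⥤ Scheme.{u}) (c : Cone D)
  (hc : IsLimit c) [∀ {i j : I} (f : i ⟶ j), IsAffineHom (D.map f)]

include hc in
/-- Key descent lemma for inclusions between preimages. -/
theorem exists_map_preimage_inter_subset {i : I} (E : Set (D.obj i)) (hE : IsConstructible E)
    (U : (D.obj i).Opens) (hU : IsCompact (U : Set (D.obj i))) (U' : (D.obj i).Opens)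
    (H : (c.π.app i) ⁻¹' ((U : Set (D.obj i)) ∩ E) ⊆ (c.π.app i) ⁻¹' (U' : Set (D.obj i))) :
    ∃ (j : I) (φ : j ⟶ i),
      (D.map φ) ⁻¹' ((U : Set (D.obj i)) ∩ E) ⊆ (D.map φ) ⁻¹' (U' : Set (D.obj i)) := by
  revert H
  refine BooleanSubalgebra.closure_sdiff_sup_induction
    (s := {U : Set (D.obj i) | IsOpen U ∧ IsRetrocompact U})
    (p := fun E _ => (c.π.app i) ⁻¹' ((U : Set (D.obj i)) ∩ E) ⊆
        (c.π.app i) ⁻¹' (U' : Set (D.obj i)) →
      ∃ (j : I) (φ : j ⟶ i),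
        (D.map φ) ⁻¹' ((U : Set (D.obj i)) ∩ E) ⊆ (D.map φ) ⁻¹' (U' : Set (D.obj i)))
    ?_ ?_ ?_ ?_ ?_ E hE
  · exact ⟨fun s hs t ht ↦ ⟨hs.1.union ht.1, hs.2.union ht.2⟩,
      fun s hs t ht ↦ ⟨hs.1.inter ht.1, hs.2.inter_isOpen ht.2 ht.1⟩⟩
  · exact ⟨isOpen_empty, .empty⟩
  · exact ⟨isOpen_univ, .univ⟩
  · intro A hA B hB H
    let UA : (D.obj i).Opens := U ⊓ ⟨A, hA.1⟩
    have hUA : IsCompact (UA : Set (D.obj i)) := by
      have := hA.2 hU U.2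
      simpa [UA, Set.inter_comm] using this
    let BU : (D.obj i).Opens := ⟨B, hB.1⟩ ⊔ U'
    have H' : c.π.app i ⁻¹ᵁ UA ≤ c.π.app i ⁻¹ᵁ BU := by
      intro x hx
      by_cases hxB : c.π.app i x ∈ B
      · exact Or.inl hxB
      · exact Or.inr (H ⟨hx.1, hx.2, hxB⟩)
    obtain ⟨j, φ, hj⟩ := exists_map_preimage_le_map_preimage D c hc hUA H'
    refine ⟨j, φ, ?_⟩
    rintro x ⟨hxU, hxA, hxB⟩
    rcases hj (show x ∈ D.map φ ⁻¹ᵁ UA from ⟨hxU, hxA⟩) with h | h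
    · exact absurd h hxB
    · exact h
  · intro E₁ _ E₂ _ ih₁ ih₂ H
    obtain ⟨j₁, φ₁, h₁⟩ := ih₁ (fun x hx => H ⟨hx.1, Or.inl hx.2⟩)
    obtain ⟨j₂, φ₂, h₂⟩ := ih₂ (fun x hx => H ⟨hx.1, Or.inr hx.2⟩)
    obtain ⟨k, g₁, g₂, e⟩ := IsCofiltered.cospan φ₁ φ₂
    refine ⟨k, g₁ ≫ φ₁, ?_⟩
    have hx1 : ∀ x, (D.map (g₁ ≫ φ₁)) x = (D.map φ₁) ((D.map g₁) x) := fun x => by
      rw [D.map_comp, Scheme.Hom.comp_apply]
    have hx2 : ∀ x, (D.map (g₁ ≫ φ₁)) x = (D.map φ₂) ((D.map g₂) x) := fun x => by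
      rw [e, D.map_comp, Scheme.Hom.comp_apply]
    rintro x ⟨hxU, hxE | hxE⟩
    · change (D.map (g₁ ≫ φ₁)) x ∈ (U' : Set _)
      change (D.map (g₁ ≫ φ₁)) x ∈ (U : Set _) at hxU
      change (D.map (g₁ ≫ φ₁)) x ∈ E₁ at hxE
      rw [hx1] at hxU hxE ⊢
      exact h₁ ⟨hxU, hxE⟩
    · change (D.map (g₁ ≫ φ₁)) x ∈ (U' : Set _)
      change (D.map (g₁ ≫ φ₁)) x ∈ (U : Set _) at hxU
      change (D.map (g₁ ≫ φ₁)) x ∈ E₂ at hxE
      rw [hx2] at hxU hxE ⊢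
      exact h₂ ⟨hxU, hxE⟩

include hc in
/-- Every constructible subset of the limit comes from a constructible subset of a stage. -/
theorem exists_isConstructible_preimage_eq (i₀ : I) [CompactSpace (D.obj i₀)]
    [QuasiSeparatedSpace (D.obj i₀)] (Z : Set c.pt) (hZ : IsConstructible Z) :
    ∃ (i : I) (_ : i ⟶ i₀) (Zi : Set (D.obj i)),
      IsConstructible Zi ∧ (c.π.app i) ⁻¹' Zi = Z := by
  have hπaff : ∀ i, IsAffineHom (c.π.app i) := isAffineHom_π_app D c hc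
  have hcpt : CompactSpace c.pt := QuasiCompact.compactSpace_of_compactSpace (c.π.app i₀)
  have hqs : QuasiSeparatedSpace c.pt := quasiSeparatedSpace_of_quasiSeparated (c.π.app i₀)
  induction hZ using IsConstructible.empty_union_induction with
  | open_retrocompact U hUo hUc =>
    have hUcpt : IsCompact U := hUc.isCompact
    obtain ⟨i, V, hV, hVU⟩ := exists_preimage_eq D c hc ⟨U, hUo⟩ hUcpt
    let k := IsCofiltered.min i i₀
    let f₁ : k ⟶ i := IsCofiltered.minToLeft i i₀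
    let f₂ : k ⟶ i₀ := IsCofiltered.minToRight i i₀
    have hk1 : CompactSpace (D.obj k) := QuasiCompact.compactSpace_of_compactSpace (D.map f₂)
    have hk2 : QuasiSeparatedSpace (D.obj k) := quasiSeparatedSpace_of_quasiSeparated (D.map f₂)
    refine ⟨k, f₂, (D.map f₁) ⁻¹' (V : Set (D.obj i)), ?_, ?_⟩
    · have h1 : IsCompact ((D.map f₁) ⁻¹' (V : Set (D.obj i))) :=
        QuasiCompact.isCompact_preimage (f := D.map f₁) _ V.2 hV
      exact h1.isConstructible (V.2.preimage (D.map f₁).continuous)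
    · have e : c.π.app k ≫ D.map f₁ = c.π.app i := c.w f₁
      have h2 : ((c.π.app i ⁻¹ᵁ V : c.pt.Opens) : Set c.pt) = U := by rw [hVU]; rfl
      rw [← h2, ← e]
      rfl
  | union s hs t ht ihs iht =>
    obtain ⟨i₁, f₁, Z₁, hZ₁, rfl⟩ := ihs
    obtain ⟨i₂, f₂, Z₂, hZ₂, rfl⟩ := iht
    let k := IsCofiltered.min i₁ i₂
    let g₁ : k ⟶ i₁ := IsCofiltered.minToLeft i₁ i₂
    let g₂ : k ⟶ i₂ := IsCofiltered.minToRight i₁ i₂
    refine ⟨k, g₁ ≫ f₁, (D.map g₁) ⁻¹' Z₁ ∪ (D.map g₂) ⁻¹' Z₂, ?_, ?_⟩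
    · exact ((D.map g₁).isConstructible_preimage hZ₁).union
        ((D.map g₂).isConstructible_preimage hZ₂)
    · have e₁ : c.π.app k ≫ D.map g₁ = c.π.app i₁ := c.w g₁
      have e₂ : c.π.app k ≫ D.map g₂ = c.π.app i₂ := c.w g₂
      rw [Set.preimage_union, ← e₁, ← e₂]
      rfl
  | compl s hs ih =>
    obtain ⟨i, f, Zi, hZi, rfl⟩ := ih
    exact ⟨i, f, Ziᶜ, hZi.compl, rfl⟩

omit [IsCofiltered I] [∀ {i j : I} (f : i ⟶ j), IsAffineHom (D.map f)] in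
theorem map_comp_apply {a b d : I} (f : a ⟶ b) (g : b ⟶ d) (x : D.obj a) :
    (D.map (f ≫ g)) x = (D.map g) ((D.map f) x) := by
  rw [D.map_comp, Scheme.Hom.comp_apply]

omit [IsCofiltered I] [∀ {i j : I} (f : i ⟶ j), IsAffineHom (D.map f)] in
theorem π_comp_apply {a b : I} (f : a ⟶ b) (x : c.pt) :
    (D.map f) ((c.π.app a) x) = (c.π.app b) x := by
  rw [← Scheme.Hom.comp_apply, c.w]

include hc in
/-- Two constructible-vs-open subsets of a stage with equal preimages in the limit have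
equal preimages at some later stage. -/
theorem exists_map_preimage_eq_of_isConstructible {k : I} [CompactSpace (D.obj k)]
    (Z' : Set (D.obj k)) (hZ' : IsConstructible Z') (V' : (D.obj k).Opens)
    (hV' : IsCompact (V' : Set (D.obj k)))
    (H : (c.π.app k) ⁻¹' Z' = (c.π.app k) ⁻¹' (V' : Set (D.obj k))) :
    ∃ (l : I) (ψ : l ⟶ k), (D.map ψ) ⁻¹' Z' = (D.map ψ) ⁻¹' (V' : Set (D.obj k)) := by
  obtain ⟨j₁, φ₁, h₁⟩ := exists_map_preimage_inter_subset D c hc Z' hZ' ⊤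
    (by simpa using isCompact_univ) V' (by
      intro x hx
      rw [← H]
      exact hx.2)
  obtain ⟨j₂, φ₂, h₂⟩ := exists_map_preimage_inter_subset D c hc Z'ᶜ hZ'.compl V' hV' ⊥ (by
      rintro x ⟨hx1, hx2⟩
      have : x ∈ (c.π.app k) ⁻¹' Z' := by rw [H]; exact hx1
      exact absurd this hx2)
  obtain ⟨l, g₁, g₂, e⟩ := IsCofiltered.cospan φ₁ φ₂
  refine ⟨l, g₁ ≫ φ₁, ?_⟩
  ext x
  simp only [Set.mem_preimage]
  constructor
  · intro hx
    rw [map_comp_apply] at hx ⊢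
    exact h₁ ⟨trivial, hx⟩
  · intro hx
    by_contra hcon
    rw [e, map_comp_apply] at hx hcon
    exact h₂ ⟨hx, hcon⟩

include hc in
/-- The preimage of a constructible subset of a quasi-compact stage is open in the limit iff it
is open at some stage. -/
theorem isOpen_preimage_iff (i₁ : I) [CompactSpace (D.obj i₁)] (Z₁ : Set (D.obj i₁))
    (hZ : IsConstructible Z₁) :
    IsOpen ((c.π.app i₁) ⁻¹' Z₁) ↔ ∃ (j : I) (φ : j ⟶ i₁), IsOpen ((D.map φ) ⁻¹' Z₁) := by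
  have hπaff : ∀ i, IsAffineHom (c.π.app i) := isAffineHom_π_app D c hc
  constructor
  · intro hWo
    have hcpt : CompactSpace c.pt := QuasiCompact.compactSpace_of_compactSpace (c.π.app i₁)
    have hcpt' : CompactSpace ↥(((Functor.const I).obj c.pt).obj i₁) := hcpt
    have hWc : IsConstructible ((c.π.app i₁) ⁻¹' Z₁) := (c.π.app i₁).isConstructible_preimage hZ
    have hWcpt : IsCompact ((c.π.app i₁) ⁻¹' Z₁) := isCompact_of_isConstructible hWc
    obtain ⟨i, V, hV, hVW⟩ := exists_preimage_eq D c hc ⟨_, hWo⟩ hWcpt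
    let k := IsCofiltered.min i i₁
    let g₁ : k ⟶ i := IsCofiltered.minToLeft i i₁
    let g₂ : k ⟶ i₁ := IsCofiltered.minToRight i i₁
    have hk : CompactSpace (D.obj k) := QuasiCompact.compactSpace_of_compactSpace (D.map g₂)
    have hV' : IsCompact ((D.map g₁ ⁻¹ᵁ V : (D.obj k).Opens) : Set (D.obj k)) :=
      QuasiCompact.isCompact_preimage (f := D.map g₁) _ V.2 hV
    have hZ' : IsConstructible ((D.map g₂) ⁻¹' Z₁) := (D.map g₂).isConstructible_preimage hZ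
    have H : (c.π.app k) ⁻¹' ((D.map g₂) ⁻¹' Z₁) =
        (c.π.app k) ⁻¹' ((D.map g₁ ⁻¹ᵁ V : (D.obj k).Opens) : Set (D.obj k)) := by
      have h2 : ((c.π.app i ⁻¹ᵁ V : c.pt.Opens) : Set c.pt) = (c.π.app i₁) ⁻¹' Z₁ := by
        rw [hVW]; rfl
      ext x
      simp only [Set.mem_preimage, Scheme.Hom.coe_preimage]
      rw [π_comp_apply, π_comp_apply]
      exact (Set.ext_iff.1 h2 x).symm
    obtain ⟨l, ψ, hl⟩ := exists_map_preimage_eq_of_isConstructible D c hc _ hZ' _ hV' H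
    refine ⟨l, ψ ≫ g₂, ?_⟩
    have : (D.map (ψ ≫ g₂)) ⁻¹' Z₁ = (D.map ψ) ⁻¹' ((D.map g₂) ⁻¹' Z₁) := by
      ext x
      simp only [Set.mem_preimage]
      rw [map_comp_apply]
    rw [this, hl]
    exact (D.map g₁ ⁻¹ᵁ V).2.preimage (D.map ψ).continuous
  · rintro ⟨j, φ, hj⟩
    have : (c.π.app i₁) ⁻¹' Z₁ = (c.π.app j) ⁻¹' ((D.map φ) ⁻¹' Z₁) := by
      ext x
      simp only [Set.mem_preimage]
      rw [π_comp_apply]
    rw [this]
    exact hj.preimage (c.π.app j).continuous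

/-- The intersection of a compact open set with a constructible set is compact. -/
theorem isCompact_inter_of_isConstructible {X : Type*} [TopologicalSpace X]
    {U : Set X} (hU : IsCompact U) (hUo : IsOpen U) {s : Set X} (hs : IsConstructible s) :
    IsCompact (U ∩ s) := by
  refine BooleanSubalgebra.closure_sdiff_sup_induction
    (s := {U : Set X | IsOpen U ∧ IsRetrocompact U})
    (p := fun g _ => IsCompact (U ∩ g)) ?_ ?_ ?_ ?_ ?_ s hs
  · exact ⟨fun s hs t ht ↦ ⟨hs.1.union ht.1, hs.2.union ht.2⟩,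
      fun s hs t ht ↦ ⟨hs.1.inter ht.1, hs.2.inter_isOpen ht.2 ht.1⟩⟩
  · exact ⟨isOpen_empty, .empty⟩
  · exact ⟨isOpen_univ, .univ⟩
  · intro x hx y hy
    have h1 : IsCompact (x ∩ U) := hx.2 hU hUo
    have h2 : U ∩ (x \ y) = (x ∩ U) \ y := by
      ext z; simp only [Set.mem_inter_iff, Set.mem_sdiff]; tauto
    rw [h2]
    exact h1.diff hy.1
  · intro x _ y _ hx hy
    have : U ∩ (x ⊔ y) = (U ∩ x) ∪ (U ∩ y) := Set.inter_union_distrib_left U x y
    rw [this]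
    exact hx.union hy

/-- A compact locally closed subset of a scheme is closed in some compact open subset. -/
theorem exists_isCompact_isOpen_of_isLocallyClosed {X : Scheme.{u}} {Z : Set X}
    (hZ : IsLocallyClosed Z) (hZc : IsCompact Z) :
    ∃ U : X.Opens, IsCompact (U : Set X) ∧ Z ⊆ U ∧ IsOpen ((U : Set X) \ Z) := by
  classical
  obtain ⟨A, F, hA, hF, rfl⟩ := hZ
  have key : ∀ z ∈ A ∩ F, ∃ B : X.Opens, IsAffineOpen B ∧ z ∈ B ∧ (B : Set X) ⊆ A := by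
    intro z hz
    obtain ⟨_, ⟨B, hB : IsAffineOpen B, rfl⟩, hzB, hBA⟩ :=
      X.isBasis_affineOpens.exists_subset_of_mem_open hz.1 hA
    exact ⟨B, hB, hzB, hBA⟩
  choose B hB hzB hBA using key
  obtain ⟨t, ht⟩ := hZc.elim_nhds_subcover' (fun z hz => (B z hz : Set X))
    (fun z hz => (B z hz).2.mem_nhds (hzB z hz))
  refine ⟨⨆ x ∈ t, B x.1 x.2, ?_, ?_, ?_⟩
  · simp only [TopologicalSpace.Opens.coe_iSup]
    exact t.isCompact_biUnion fun x _ => (hB x.1 x.2).isCompact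
  · simpa only [TopologicalSpace.Opens.coe_iSup] using ht
  · have h1 : ((⨆ x ∈ t, B x.1 x.2 : X.Opens) : Set X) ⊆ A := by
      simp only [TopologicalSpace.Opens.coe_iSup]
      exact Set.iUnion₂_subset fun x _ => hBA x.1 x.2
    have h2 : ((⨆ x ∈ t, B x.1 x.2 : X.Opens) : Set X) \ (A ∩ F) =
        ((⨆ x ∈ t, B x.1 x.2 : X.Opens) : Set X) ∩ Fᶜ := by
      ext z
      simp only [Set.mem_sdiff, Set.mem_inter_iff, Set.mem_compl_iff]
      constructor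
      · rintro ⟨hz1, hz2⟩
        exact ⟨hz1, fun hzF => hz2 ⟨h1 hz1, hzF⟩⟩
      · rintro ⟨hz1, hz2⟩
        exact ⟨hz1, fun h => hz2 h.2⟩
    rw [h2]
    exact (⨆ x ∈ t, B x.1 x.2 : X.Opens).2.inter hF.isOpen_compl

section

omit [IsCofiltered I] [∀ {i j : I} (f : i ⟶ j), IsAffineHom (D.map f)] in
theorem preimage_subset_of_comp {j k l : I} (φ : j ⟶ k) (g : l ⟶ j) (ψ : l ⟶ k) (e : g ≫ φ = ψ)
    {A B : Set (D.obj k)} (h : (D.map φ) ⁻¹' A ⊆ (D.map φ) ⁻¹' B) :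
    (D.map ψ) ⁻¹' A ⊆ (D.map ψ) ⁻¹' B := by
  intro x hx
  simp only [Set.mem_preimage] at hx ⊢
  rw [← e, map_comp_apply] at hx ⊢
  exact h hx

omit [∀ {i j : I} (f : i ⟶ j), IsAffineHom (D.map f)] in
theorem exists_common_three {k j₁ j₂ j₃ : I} (φ₁ : j₁ ⟶ k) (φ₂ : j₂ ⟶ k) (φ₃ : j₃ ⟶ k) :
    ∃ (l : I) (ψ : l ⟶ k) (g₁ : l ⟶ j₁) (g₂ : l ⟶ j₂) (g₃ : l ⟶ j₃),
      g₁ ≫ φ₁ = ψ ∧ g₂ ≫ φ₂ = ψ ∧ g₃ ≫ φ₃ = ψ := by
  obtain ⟨m, a₁, a₂, e⟩ := IsCofiltered.cospan φ₁ φ₂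
  obtain ⟨l, b₁, b₃, e'⟩ := IsCofiltered.cospan (a₁ ≫ φ₁) φ₃
  refine ⟨l, b₁ ≫ a₁ ≫ φ₁, b₁ ≫ a₁, b₁ ≫ a₂, b₃, by simp, by simp [e], by rw [← e']⟩

include hc in
/-- The preimage of a constructible subset of a quasi-compact stage is locally closed in the limit
iff it is locally closed at some stage. -/
theorem isLocallyClosed_preimage_iff (i₁ : I) [CompactSpace (D.obj i₁)] (Z₁ : Set (D.obj i₁))
    (hZ : IsConstructible Z₁) :
    IsLocallyClosed ((c.π.app i₁) ⁻¹' Z₁) ↔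
      ∃ (j : I) (φ : j ⟶ i₁), IsLocallyClosed ((D.map φ) ⁻¹' Z₁) := by
  have hπaff : ∀ i, IsAffineHom (c.π.app i) := isAffineHom_π_app D c hc
  constructor
  · intro hloc
    have hcpt : CompactSpace c.pt := QuasiCompact.compactSpace_of_compactSpace (c.π.app i₁)
    have hcpt' : CompactSpace ↥(((Functor.const I).obj c.pt).obj i₁) := hcpt
    have hZc : IsConstructible ((c.π.app i₁) ⁻¹' Z₁) := (c.π.app i₁).isConstructible_preimage hZ
    have hZcpt : IsCompact ((c.π.app i₁) ⁻¹' Z₁) := isCompact_of_isConstructible hZc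
    obtain ⟨U, hUc, hZU, hU₂o⟩ :=
      exists_isCompact_isOpen_of_isLocallyClosed (X := c.pt) hloc hZcpt
    have hU₂c : IsCompact ((U : Set c.pt) \ ((c.π.app i₁) ⁻¹' Z₁)) := by
      rw [Set.sdiff_eq]
      exact isCompact_inter_of_isConstructible hUc U.2 hZc.compl
    obtain ⟨a, V, hV, hVU⟩ := exists_preimage_eq D c hc U hUc
    obtain ⟨b, V₂, hV₂, hVU₂⟩ := exists_preimage_eq D c hc ⟨_, hU₂o⟩ hU₂c
    let k₁ := IsCofiltered.min a b
    let k := IsCofiltered.min k₁ i₁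
    let fa : k ⟶ a := IsCofiltered.minToLeft k₁ i₁ ≫ IsCofiltered.minToLeft a b
    let fb : k ⟶ b := IsCofiltered.minToLeft k₁ i₁ ≫ IsCofiltered.minToRight a b
    let f₁ : k ⟶ i₁ := IsCofiltered.minToRight k₁ i₁
    have hk : CompactSpace (D.obj k) := QuasiCompact.compactSpace_of_compactSpace (D.map f₁)
    have hVk : IsCompact ((D.map fa ⁻¹ᵁ V : (D.obj k).Opens) : Set (D.obj k)) :=
      QuasiCompact.isCompact_preimage (f := D.map fa) _ V.2 hV
    have hV₂k : IsCompact ((D.map fb ⁻¹ᵁ V₂ : (D.obj k).Opens) : Set (D.obj k)) :=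
      QuasiCompact.isCompact_preimage (f := D.map fb) _ V₂.2 hV₂
    have hZk : IsConstructible ((D.map f₁) ⁻¹' Z₁) := (D.map f₁).isConstructible_preimage hZ
    have hU' : ∀ x : c.pt, (c.π.app k) x ∈ (D.map fa ⁻¹ᵁ V : (D.obj k).Opens) ↔ x ∈ U := by
      intro x
      rw [← hVU]
      change (D.map fa) ((c.π.app k) x) ∈ V ↔ (c.π.app a) x ∈ V
      rw [π_comp_apply]
    have hU₂' : ∀ x : c.pt, (c.π.app k) x ∈ (D.map fb ⁻¹ᵁ V₂ : (D.obj k).Opens) ↔
        (x ∈ U ∧ (c.π.app i₁) x ∉ Z₁) := by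
      intro x
      have : x ∈ (⟨_, hU₂o⟩ : c.pt.Opens) ↔ (x ∈ U ∧ (c.π.app i₁) x ∉ Z₁) := Iff.rfl
      rw [← this, ← hVU₂]
      change (D.map fb) ((c.π.app k) x) ∈ V₂ ↔ (c.π.app b) x ∈ V₂
      rw [π_comp_apply]
    have hZ' : ∀ x : c.pt, (c.π.app k) x ∈ (D.map f₁) ⁻¹' Z₁ ↔ (c.π.app i₁) x ∈ Z₁ := by
      intro x
      simp only [Set.mem_preimage]
      rw [π_comp_apply]
    obtain ⟨j₁, φ₁, h₁⟩ := exists_map_preimage_inter_subset D c hc _ hZk ⊤
      (by simpa using isCompact_univ) (D.map fa ⁻¹ᵁ V) (by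
        rintro x ⟨-, hx⟩
        exact (hU' x).2 (hZU ((hZ' x).1 hx)))
    obtain ⟨j₂, φ₂, h₂⟩ := exists_map_preimage_inter_subset D c hc _ hZk (D.map fb ⁻¹ᵁ V₂) hV₂k ⊥
      (by
        rintro x ⟨hx1, hx2⟩
        exact absurd ((hZ' x).1 hx2) ((hU₂' x).1 hx1).2)
    obtain ⟨j₃, φ₃, h₃⟩ := exists_map_preimage_inter_subset D c hc _ hZk.compl (D.map fa ⁻¹ᵁ V) hVk
      (D.map fb ⁻¹ᵁ V₂) (by
        rintro x ⟨hx1, hx2⟩
        exact (hU₂' x).2 ⟨(hU' x).1 hx1, fun h => hx2 ((hZ' x).2 h)⟩)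
    obtain ⟨l, ψ, g₁, g₂, g₃, e₁, e₂, e₃⟩ := exists_common_three φ₁ φ₂ φ₃
    have h₁' := preimage_subset_of_comp D φ₁ g₁ ψ e₁ h₁
    have h₂' := preimage_subset_of_comp D φ₂ g₂ ψ e₂ h₂
    have h₃' := preimage_subset_of_comp D φ₃ g₃ ψ e₃ h₃
    refine ⟨l, ψ ≫ f₁, ?_⟩
    have heq : (D.map (ψ ≫ f₁)) ⁻¹' Z₁ =
        (D.map ψ) ⁻¹' ((D.map fa ⁻¹ᵁ V : (D.obj k).Opens) : Set (D.obj k)) ∩
        ((D.map ψ) ⁻¹' ((D.map fb ⁻¹ᵁ V₂ : (D.obj k).Opens) : Set (D.obj k)))ᶜ := by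
      ext x
      simp only [Set.mem_preimage, Set.mem_inter_iff, Set.mem_compl_iff]
      rw [map_comp_apply]
      constructor
      · intro hx
        exact ⟨h₁' ⟨trivial, hx⟩, fun h => h₂' ⟨h, hx⟩⟩
      · rintro ⟨hx1, hx2⟩
        by_contra hcon
        exact hx2 (h₃' ⟨hx1, hcon⟩)
    rw [heq]
    refine IsLocallyClosed.inter ?_ ?_
    · exact ((D.map fa ⁻¹ᵁ V).2.preimage (D.map ψ).continuous).isLocallyClosed
    · exact ((D.map fb ⁻¹ᵁ V₂).2.preimage (D.map ψ).continuous).isClosed_compl.isLocallyClosed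
  · rintro ⟨j, φ, hj⟩
    have : (c.π.app i₁) ⁻¹' Z₁ = (c.π.app j) ⁻¹' ((D.map φ) ⁻¹' Z₁) := by
      ext x
      simp only [Set.mem_preimage]
      rw [π_comp_apply]
    rw [this]
    exact hj.preimage (c.π.app j).continuous

end

end Groth.Agent.Lib.LimConstructible
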