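import Groth.Agent.Lib.LimDescentClosedImm
import Groth.Agent.Lib.LimConstructible
import Mathlib.AlgebraicGeometry.Morphisms.Immersion

/-!
# Descent of immersions through cofiltered limits (EGA IV 8.10.5 (ii))
-/

set_option autoImplicit false
universe u

open CategoryTheory Limits AlgebraicGeometry

namespace Groth.Agent.Lib.LimDescent

open Groth.Agent.Lib.LimPullback

section aux

/-- In a pullback square the range of the base-changed map is the preimage of the range. -/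
theorem range_eq_preimage_of_isPullback {P X Y Z : Scheme.{u}} {p : P ⟶ X} {h' : P ⟶ Y}
    {f : X ⟶ Z} {q : Y ⟶ Z} (sq : IsPullback p h' f q) :
    Set.range h'.base = q.base ⁻¹' Set.range f.base := by
  have := Scheme.image_preimage_eq_of_isPullback sq Set.univ
  rwa [Set.preimage_univ, Set.image_univ, Set.image_univ] at this

variable {X₀ Y₀ B : Scheme.{u}} {f₀ : X₀ ⟶ Y₀} {g₀ : Y₀ ⟶ B}

/-- Variant of `isBC_of_factor` exposing the squares. -/
theorem isBC_of_factor' {B₁ X₁ V Y₁ : Scheme.{u}} (r : X₁ ⟶ V) (ι : V ⟶ Y₁) (gY₁ : Y₁ ⟶ B₁)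
    {B₂ T W : Scheme.{u}} {b₂ : B₂ ⟶ B₁} {ρ : T ⟶ W} (H : IsBC r (ι ≫ gY₁) b₂ ρ) :
    ∃ (ι₂ : W ⟶ pullback gY₁ b₂) (pW : W ⟶ V) (pT : T ⟶ X₁),
      IsPullback pW ι₂ ι (pullback.fst gY₁ b₂) ∧
      IsPullback pT (ρ ≫ ι₂) (r ≫ ι) (pullback.fst gY₁ b₂) := by
  obtain ⟨pW, gW, pT, hW, hT⟩ := H
  let ι₂ : W ⟶ pullback gY₁ b₂ := pullback.lift (pW ≫ ι) gW (by rw [Category.assoc, hW.w])
  have h1 : ι₂ ≫ pullback.fst gY₁ b₂ = pW ≫ ι := pullback.lift_fst _ _ _
  have h2 : ι₂ ≫ pullback.snd gY₁ b₂ = gW := pullback.lift_snd _ _ _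
  have sq : IsPullback pW ι₂ ι (pullback.fst gY₁ b₂) := by
    refine IsPullback.of_bot ?_ h1.symm (IsPullback.of_hasPullback gY₁ b₂)
    rw [h2]
    exact hW
  exact ⟨ι₂, pW, pT, sq, hT.paste_vert sq⟩

/-- If `ρ ≫ ι₂` is an immersion, `ι₂` an open immersion, and the range of `ρ ≫ ι₂` is closed in
the range of `ι₂`, then `ρ` is a closed immersion. -/
theorem isClosedImmersion_of_comp_openImmersion {T W Y : Scheme.{u}} (ρ : T ⟶ W) (ι₂ : W ⟶ Y)
    [IsOpenImmersion ι₂] [IsImmersion (ρ ≫ ι₂)]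
    (hopen : IsOpen (Set.range ι₂.base \ Set.range (ρ ≫ ι₂).base)) : IsClosedImmersion ρ := by
  haveI : IsImmersion ρ := IsImmersion.of_comp ρ ι₂
  refine IsClosedImmersion.of_isPreimmersion ρ ?_
  rw [← isOpen_compl_iff]
  have : (Set.range ρ.base)ᶜ = ι₂.base ⁻¹' (Set.range ι₂.base \ Set.range (ρ ≫ ι₂).base) := by
    ext x
    simp only [Set.mem_compl_iff, Set.mem_range, Set.mem_preimage, Set.mem_sdiff,
      exists_apply_eq_apply, true_and, not_exists]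
    constructor
    · intro hx t ht
      refine hx t (ι₂.isOpenEmbedding.injective ?_)
      rw [← ht, Scheme.Hom.comp_apply]
    · intro hx t ht
      exact hx t (by rw [Scheme.Hom.comp_apply, ht])
  rw [this]
  exact hopen.preimage ι₂.continuous

end aux

variable {I : Type u} [Category.{u} I] (D : I ⥤ Scheme.{u}) (c : Cone D)
variable [IsCofiltered I] (hc : IsLimit c) [∀ {i j} (f : i ⟶ j), IsAffineHom (D.map f)]
variable {i₀ : I} {X₀ Y₀ : Scheme.{u}} (f₀ : X₀ ⟶ Y₀) (g₀ : Y₀ ⟶ D.obj i₀)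

include hc in
/-- EGA IV 8.10.5 (ii): descent of immersions (finite type suffices). -/
theorem exists_isImmersion_stage [CompactSpace X₀] [QuasiCompact f₀] [QuasiSeparated f₀]
    [LocallyOfFiniteType f₀] (h : IsImmersion (bcMap f₀ g₀ (c.π.app i₀))) :
    ∃ j : Over i₀, IsImmersion (bcMap f₀ g₀ (D.map j.hom)) := by
  haveI := isAffineHom_π_app D c hc i₀
  haveI : IsAffineHom (pullback.fst (f₀ ≫ g₀) (c.π.app i₀)) :=
    MorphismProperty.pullback_fst _ _ inferInstance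
  haveI : CompactSpace ↥(pullback (f₀ ≫ g₀) (c.π.app i₀)) :=
    QuasiCompact.compactSpace_of_compactSpace (pullback.fst (f₀ ≫ g₀) (c.π.app i₀))
  obtain ⟨U, hUc, hfU, hUopen⟩ :=
    Groth.Agent.Lib.LimConstructible.exists_isCompact_isOpen_of_isLocallyClosed
      (bcMap f₀ g₀ (c.π.app i₀)).isLocallyClosed_range
      (isCompact_range (bcMap f₀ g₀ (c.π.app i₀)).continuous)
  obtain ⟨j, V', hV', hVU'⟩ := exists_preimage_eq (pbDiagram D i₀ g₀) (pbCone D c i₀ g₀)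
    (isLimitPbCone hc) U hUc
  obtain ⟨V, hV, hVU⟩ : ∃ V : (pullback g₀ (D.map j.hom)).Opens,
      IsCompact (V : Set ↥(pullback g₀ (D.map j.hom))) ∧ (pbProj D c i₀ g₀ j) ⁻¹ᵁ V = U :=
    ⟨V', hV', hVU'⟩
  clear hVU' hV' V'
  haveI : ∀ l : Over i₀, CompactSpace ↥((pbDiagram D i₀ (f₀ ≫ g₀)).obj l) :=
    fun l => inferInstance
  have hfU' : (bcMap f₀ g₀ (c.π.app i₀)) ⁻¹ᵁ U = ⊤ := by
    rw [eq_top_iff]
    intro x _
    exact hfU ⟨x, rfl⟩
  obtain ⟨W, hW, hWtop⟩ : ∃ W : (pullback (f₀ ≫ g₀) (D.map j.hom)).Opens,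
      W = (bcMap f₀ g₀ (D.map j.hom)) ⁻¹ᵁ V ∧ (pbProj D c i₀ (f₀ ≫ g₀) j) ⁻¹ᵁ W = ⊤ := by
    refine ⟨_, rfl, ?_⟩
    rw [← Scheme.Hom.comp_preimage, pbProj_bcMap, Scheme.Hom.comp_preimage, hVU, hfU']
  obtain ⟨k, m, hk'⟩ := exists_map_eq_top (pbDiagram D i₀ (f₀ ≫ g₀)) (pbCone D c i₀ (f₀ ≫ g₀))
    (isLimitPbCone hc) (i := j) W hWtop
  have hk : (pbMap D i₀ (f₀ ≫ g₀) m) ⁻¹ᵁ W = ⊤ := hk'
  rw [hW] at hk
  -- the open at stage `k`
  obtain ⟨Vk, hVkc, hVktop, hVkU⟩ : ∃ Vk : (pullback g₀ (D.map k.hom)).Opens,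
      IsCompact (Vk : Set ↥(pullback g₀ (D.map k.hom))) ∧
      (bcMap f₀ g₀ (D.map k.hom)) ⁻¹ᵁ Vk = ⊤ ∧ (pbProj D c i₀ g₀ k) ⁻¹ᵁ Vk = U := by
    refine ⟨(pbMap D i₀ g₀ m) ⁻¹ᵁ V, ?_, ?_, ?_⟩
    · exact QuasiCompact.isCompact_preimage (f := pbMap D i₀ g₀ m) _ V.2 hV
    · rw [← Scheme.Hom.comp_preimage, ← pbMap_bcMap, Scheme.Hom.comp_preimage]
      exact hk
    · rw [← Scheme.Hom.comp_preimage, pbProj_pbMap, hVU]
  refine exists_stage_of_rebase D c f₀ g₀ @IsImmersion k (fun h' => ?_) h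
  -- factor through `Vk`
  have hrange : Set.range (bcMap f₀ g₀ (D.map k.hom)).base ⊆ (Vk : Set ↥(pullback g₀ (D.map k.hom))) := by
    rintro _ ⟨x, rfl⟩
    have : x ∈ (bcMap f₀ g₀ (D.map k.hom)) ⁻¹ᵁ Vk := by rw [hVktop]; trivial
    exact this
  let r : pullback (f₀ ≫ g₀) (D.map k.hom) ⟶ Vk.toScheme :=
    IsOpenImmersion.lift Vk.ι (bcMap f₀ g₀ (D.map k.hom)) (by
      rw [Scheme.Opens.range_ι]; exact hrange)
  have hr : r ≫ Vk.ι = bcMap f₀ g₀ (D.map k.hom) := IsOpenImmersion.lift_fac _ _ _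
  haveI : CompactSpace ↥Vk.toScheme := isCompact_iff_compactSpace.mp hVkc
  haveI : QuasiCompact (bcMap f₀ g₀ (D.map k.hom)) :=
    MorphismProperty.of_isPullback (isPullback_bcMap f₀ g₀ (D.map k.hom)) inferInstance
  haveI : QuasiSeparated (bcMap f₀ g₀ (D.map k.hom)) :=
    MorphismProperty.of_isPullback (isPullback_bcMap f₀ g₀ (D.map k.hom)) inferInstance
  haveI : LocallyOfFiniteType (bcMap f₀ g₀ (D.map k.hom)) :=
    MorphismProperty.of_isPullback (isPullback_bcMap f₀ g₀ (D.map k.hom)) inferInstance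
  haveI : QuasiCompact (r ≫ Vk.ι) := by rw [hr]; infer_instance
  haveI : QuasiSeparated (r ≫ Vk.ι) := by rw [hr]; infer_instance
  haveI : LocallyOfFiniteType (r ≫ Vk.ι) := by rw [hr]; infer_instance
  haveI : QuasiCompact r := QuasiCompact.of_comp r Vk.ι
  haveI : QuasiSeparated r := QuasiSeparated.of_comp r Vk.ι
  haveI : LocallyOfFiniteType r := locallyOfFiniteType_of_comp r Vk.ι
  set g₁ := pullback.snd g₀ (D.map k.hom) with hg₁
  set g' : Vk.toScheme ⟶ D.obj k.left := Vk.ι ≫ g₁ with hg'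
  have claim : IsClosedImmersion (bcMap r g' (c.π.app k.left)) := by
    obtain ⟨ι₂, pW, pT, sq, sqT⟩ := isBC_of_factor' r Vk.ι g₁ (isBC_bcMap r g' (c.π.app k.left))
    rw [hr] at sqT
    haveI : IsOpenImmersion ι₂ := MorphismProperty.of_isPullback sq inferInstance
    have Hbc : IsBC (bcMap f₀ g₀ (D.map k.hom)) g₁ (c.π.app k.left)
        (bcMap r g' (c.π.app k.left) ≫ ι₂) :=
      ⟨_, _, pT, IsPullback.of_hasPullback g₁ (c.π.app k.left), sqT⟩
    haveI : IsImmersion (bcMap r g' (c.π.app k.left) ≫ ι₂) := (Hbc.iff @IsImmersion).mpr h'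
    apply isClosedImmersion_of_comp_openImmersion _ ι₂
    let θ := (isPullback_pbProj D c i₀ g₀ k).isoPullback
    have hθ : θ.hom ≫ pullback.fst g₁ (c.π.app k.left) = pbProj D c i₀ g₀ k :=
      IsPullback.isoPullback_hom_fst _
    have hθ' : θ.inv ≫ pbProj D c i₀ g₀ k = pullback.fst g₁ (c.π.app k.left) := by
      rw [← hθ, Iso.inv_hom_id_assoc]
    have e1 : Set.range ι₂.base =
        (pullback.fst g₁ (c.π.app k.left)).base ⁻¹' (Vk : Set ↥(pullback g₀ (D.map k.hom))) := by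
      rw [range_eq_preimage_of_isPullback sq, Scheme.Opens.range_ι]
    have e2 : Set.range (bcMap r g' (c.π.app k.left) ≫ ι₂).base =
        (pullback.fst g₁ (c.π.app k.left)).base ⁻¹'
          Set.range (bcMap f₀ g₀ (D.map k.hom)).base :=
      range_eq_preimage_of_isPullback sqT
    have e3 : Set.range (bcMap f₀ g₀ (c.π.app i₀)).base =
        (pbProj D c i₀ g₀ k).base ⁻¹' Set.range (bcMap f₀ g₀ (D.map k.hom)).base :=
      range_eq_preimage_of_isPullback (isPullback_pbProj_bcMap D c f₀ g₀ k)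
    have e4 : (U : Set ↥(pullback g₀ (c.π.app i₀))) =
        (pbProj D c i₀ g₀ k).base ⁻¹' (Vk : Set ↥(pullback g₀ (D.map k.hom))) := by
      rw [← hVkU]; rfl
    have key : θ.inv.base ⁻¹' ((U : Set ↥(pullback g₀ (c.π.app i₀))) \
        Set.range (bcMap f₀ g₀ (c.π.app i₀)).base) =
        Set.range ι₂.base \ Set.range (bcMap r g' (c.π.app k.left) ≫ ι₂).base := by
      rw [e1, e2, e3, e4, Set.preimage_sdiff, ← Set.preimage_comp, ← Set.preimage_comp,
        ← TopCat.coe_comp, ← Scheme.Hom.comp_base, hθ']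
    rw [← key]
    exact hUopen.preimage θ.inv.continuous
  obtain ⟨l, hl⟩ := exists_isClosedImmersion_stage D c hc r g' claim
  refine ⟨l, ?_⟩
  obtain ⟨ι₂, pW, sq, Hbc⟩ := isBC_of_factor r Vk.ι g₁ (isBC_bcMap r g' (D.map l.hom))
  rw [hr] at Hbc
  haveI : IsOpenImmersion ι₂ := MorphismProperty.of_isPullback sq inferInstance
  haveI := hl
  exact (Hbc.iff @IsImmersion).mp inferInstance

end Groth.Agent.Lib.LimDescent
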