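import Groth.Agent.Lib.LimDescent
import Groth.Agent.S4599

/-!
# Descent of isomorphisms through cofiltered limits with affine transition maps (EGA IV 8.10.5 (i))
-/

set_option autoImplicit false
universe u

open CategoryTheory Limits AlgebraicGeometry

namespace Groth.Agent.Lib.LimDescent

open Groth.Agent.Lib.LimPullback

section nat

variable {I : Type u} [Category.{u} I] (D : I ⥤ Scheme.{u}) (c : Cone D)
variable {i₀ : I} {X₀ Y₀ : Scheme.{u}} (f₀ : X₀ ⟶ Y₀) (g₀ : Y₀ ⟶ D.obj i₀)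

@[reassoc]
theorem pbMap_bcMap {j k : Over i₀} (f : j ⟶ k) :
    pbMap D i₀ (f₀ ≫ g₀) f ≫ bcMap f₀ g₀ (D.map k.hom) =
      bcMap f₀ g₀ (D.map j.hom) ≫ pbMap D i₀ g₀ f := by
  apply pullback.hom_ext
  · rw [Category.assoc, bcMap_fst, pbMap_fst_assoc, Category.assoc, pbMap_fst, bcMap_fst]
  · rw [Category.assoc, bcMap_snd, pbMap_snd, Category.assoc, pbMap_snd, bcMap_snd_assoc]

@[reassoc]
theorem pbProj_bcMap (j : Over i₀) :
    pbProj D c i₀ (f₀ ≫ g₀) j ≫ bcMap f₀ g₀ (D.map j.hom) =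
      bcMap f₀ g₀ (c.π.app i₀) ≫ pbProj D c i₀ g₀ j := by
  apply pullback.hom_ext
  · rw [Category.assoc, bcMap_fst, pbProj_fst_assoc, Category.assoc, pbProj_fst, bcMap_fst]
  · rw [Category.assoc, bcMap_snd, pbProj_snd, Category.assoc, pbProj_snd, bcMap_snd_assoc]

/-- `X_lim = X_j ×_{Y_j} Y_lim`. -/
theorem isPullback_pbProj_bcMap (j : Over i₀) :
    IsPullback (pbProj D c i₀ (f₀ ≫ g₀) j) (bcMap f₀ g₀ (c.π.app i₀))
      (bcMap f₀ g₀ (D.map j.hom)) (pbProj D c i₀ g₀ j) := by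
  refine IsPullback.of_right ?_ (pbProj_bcMap D c f₀ g₀ j) (isPullback_bcMap f₀ g₀ (D.map j.hom))
  rw [pbProj_fst, pbProj_fst]
  exact isPullback_bcMap f₀ g₀ (c.π.app i₀)

/-- `X_j = X_k ×_{Y_k} Y_j`. -/
theorem isPullback_pbMap_bcMap {j k : Over i₀} (f : j ⟶ k) :
    IsPullback (pbMap D i₀ (f₀ ≫ g₀) f) (bcMap f₀ g₀ (D.map j.hom))
      (bcMap f₀ g₀ (D.map k.hom)) (pbMap D i₀ g₀ f) := by
  refine IsPullback.of_right ?_ (pbMap_bcMap D f₀ g₀ f) (isPullback_bcMap f₀ g₀ (D.map k.hom))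
  rw [pbMap_fst, pbMap_fst]
  exact isPullback_bcMap f₀ g₀ (D.map j.hom)

end nat

section iso

variable {I : Type u} [Category.{u} I] (D : I ⥤ Scheme.{u}) (c : Cone D)
variable [IsCofiltered I] (hc : IsLimit c) [∀ {i j} (f : i ⟶ j), IsAffineHom (D.map f)]

include hc in
theorem exists_isIso_stage {i₀ : I} [CompactSpace (D.obj i₀)] [QuasiSeparatedSpace (D.obj i₀)]
    {X₀ Y₀ : Scheme.{u}} (f₀ : X₀ ⟶ Y₀) (g₀ : Y₀ ⟶ D.obj i₀) [QuasiCompact g₀] [QuasiSeparated g₀]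
    [QuasiCompact (f₀ ≫ g₀)] [QuasiSeparated (f₀ ≫ g₀)] [LocallyOfFinitePresentation f₀]
    (h : IsIso (bcMap f₀ g₀ (c.π.app i₀))) :
    ∃ j : Over i₀, IsIso (bcMap f₀ g₀ (D.map j.hom)) := by
  haveI : CompactSpace Y₀ := QuasiCompact.compactSpace_of_compactSpace g₀
  haveI : QuasiSeparatedSpace Y₀ := quasiSeparatedSpace_of_quasiSeparated g₀
  haveI : CompactSpace X₀ := QuasiCompact.compactSpace_of_compactSpace (f₀ ≫ g₀)
  haveI : QuasiSeparatedSpace X₀ := quasiSeparatedSpace_of_quasiSeparated (f₀ ≫ g₀)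
  -- the systems
  let tY : pbDiagram D i₀ g₀ ⟶ (Functor.const (Over i₀)).obj Y₀ :=
    { app := fun j => pullback.fst g₀ (D.map j.hom)
      naturality := fun j k f => by
        change pbMap D i₀ g₀ f ≫ pullback.fst g₀ (D.map k.hom) = pullback.fst g₀ (D.map j.hom) ≫ 𝟙 _
        rw [pbMap_fst, Category.comp_id] }
  let tX : pbDiagram D i₀ (f₀ ≫ g₀) ⟶ (Functor.const (Over i₀)).obj Y₀ :=
    { app := fun j => pullback.fst (f₀ ≫ g₀) (D.map j.hom) ≫ f₀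
      naturality := fun j k f => by
        change pbMap D i₀ (f₀ ≫ g₀) f ≫ pullback.fst (f₀ ≫ g₀) (D.map k.hom) ≫ f₀ =
          (pullback.fst (f₀ ≫ g₀) (D.map j.hom) ≫ f₀) ≫ 𝟙 _
        rw [pbMap_fst_assoc, Category.comp_id] }
  -- Step 1: descend the inverse
  let e : pullback (f₀ ≫ g₀) (c.π.app i₀) ≅ pullback g₀ (c.π.app i₀) :=
    @asIso _ _ _ _ (bcMap f₀ g₀ (c.π.app i₀)) h
  have he : e.hom = bcMap f₀ g₀ (c.π.app i₀) := rfl
  let a : pullback g₀ (c.π.app i₀) ⟶ X₀ := e.inv ≫ pullback.fst (f₀ ≫ g₀) (c.π.app i₀)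
  have haf : a ≫ f₀ = pullback.fst g₀ (c.π.app i₀) := by
    simp only [a, Category.assoc]
    rw [← bcMap_fst, ← he, Iso.inv_hom_id_assoc]
  have ha : (pbCone D c i₀ g₀).π ≫ tY =
      (Functor.const _).map ((a : (pbCone D c i₀ g₀).pt ⟶ X₀) ≫ f₀) := by
    ext j : 2
    change pbProj D c i₀ g₀ j ≫ pullback.fst g₀ (D.map j.hom) = a ≫ f₀
    rw [pbProj_fst, haf]
  obtain ⟨j, g', hg1', hg2'⟩ := Scheme.exists_π_app_comp_eq_of_locallyOfFinitePresentation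
    (pbDiagram D i₀ g₀) tY f₀ (pbCone D c i₀ g₀) (isLimitPbCone hc) a ha
  obtain ⟨g, hg1, hg2⟩ : ∃ g : pullback g₀ (D.map j.hom) ⟶ X₀,
      pbProj D c i₀ g₀ j ≫ g = a ∧ g ≫ f₀ = pullback.fst g₀ (D.map j.hom) := ⟨g', hg1', hg2'⟩
  clear hg1' hg2' g'
  -- Step 3: the two maps agree at a later stage
  obtain ⟨k, hkj, hk⟩ := Scheme.exists_hom_comp_eq_comp_of_locallyOfFiniteType
    (pbDiagram D i₀ (f₀ ≫ g₀)) tX f₀ (pbCone D c i₀ (f₀ ≫ g₀)) (isLimitPbCone hc) (i := j)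
    (bcMap f₀ g₀ (D.map j.hom) ≫ g) (pullback.fst (f₀ ≫ g₀) (D.map j.hom))
    (by
      change pullback.fst (f₀ ≫ g₀) (D.map j.hom) ≫ f₀ = (bcMap f₀ g₀ (D.map j.hom) ≫ g) ≫ f₀
      rw [Category.assoc, hg2, bcMap_fst])
    rfl
    (by
      change pbProj D c i₀ (f₀ ≫ g₀) j ≫ bcMap f₀ g₀ (D.map j.hom) ≫ g =
        pbProj D c i₀ (f₀ ≫ g₀) j ≫ pullback.fst (f₀ ≫ g₀) (D.map j.hom)
      rw [pbProj_bcMap_assoc, hg1, pbProj_fst]
      simp only [a]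
      rw [← he, Iso.hom_inv_id_assoc])
  change pbMap D i₀ (f₀ ≫ g₀) hkj ≫ bcMap f₀ g₀ (D.map j.hom) ≫ g =
    pbMap D i₀ (f₀ ≫ g₀) hkj ≫ pullback.fst (f₀ ≫ g₀) (D.map j.hom) at hk
  -- Step 4: inverse at stage k
  refine ⟨k, ?_⟩
  have hP := isPullback_bcMap f₀ g₀ (D.map k.hom)
  let σ : pullback g₀ (D.map k.hom) ⟶ pullback (f₀ ≫ g₀) (D.map k.hom) :=
    hP.lift (pbMap D i₀ g₀ hkj ≫ g) (𝟙 _) (by rw [Category.assoc, hg2, pbMap_fst, Category.id_comp])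
  have hσ1 : σ ≫ pullback.fst (f₀ ≫ g₀) (D.map k.hom) = pbMap D i₀ g₀ hkj ≫ g := hP.lift_fst _ _ _
  have hσ2 : σ ≫ bcMap f₀ g₀ (D.map k.hom) = 𝟙 _ := hP.lift_snd _ _ _
  refine ⟨σ, ?_, hσ2⟩
  apply hP.hom_ext
  · rw [Category.assoc, hσ1, ← pbMap_bcMap_assoc, hk, pbMap_fst, Category.id_comp]
  · rw [Category.assoc, hσ2, Category.comp_id, Category.id_comp]

end iso

end Groth.Agent.Lib.LimDescent
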