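import Groth.Agent.Lib.QuasiFiniteAtBC
import Groth.Agent.Lib.LimDescentIso

/-!
# Descent of locally quasi-finite morphisms through cofiltered limits (EGA IV 8.10.5 (xi))
-/

set_option autoImplicit false
universe u

open CategoryTheory Limits AlgebraicGeometry

namespace Groth.Agent.Lib.LimDescent

open Groth.Agent.Lib.LimPullback Groth.Agent.Lib.QuasiFiniteAtBC

variable {I : Type u} [Category.{u} I] (D : I ⥤ Scheme.{u}) (c : Cone D)
variable [IsCofiltered I] (hc : IsLimit c) [∀ {i j} (f : i ⟶ j), IsAffineHom (D.map f)]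
variable {i₀ : I} {X₀ Y₀ : Scheme.{u}} (f₀ : X₀ ⟶ Y₀) (g₀ : Y₀ ⟶ D.obj i₀)

include hc in
theorem exists_locallyQuasiFinite_stage [CompactSpace X₀] [LocallyOfFiniteType f₀]
    (h : LocallyQuasiFinite (bcMap f₀ g₀ (c.π.app i₀))) :
    ∃ j : Over i₀, LocallyQuasiFinite (bcMap f₀ g₀ (D.map j.hom)) := by
  let j₀ : Over i₀ := Over.mk (𝟙 i₀)
  haveI hlft : ∀ j : Over i₀, LocallyOfFiniteType (bcMap f₀ g₀ (D.map j.hom)) := fun j =>
    MorphismProperty.of_isPullback (isPullback_bcMap f₀ g₀ (D.map j.hom)) inferInstance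
  haveI : LocallyOfFiniteType (bcMap f₀ g₀ (c.π.app i₀)) :=
    MorphismProperty.of_isPullback (isPullback_bcMap f₀ g₀ (c.π.app i₀)) inferInstance
  obtain ⟨E, hE⟩ : ∃ E : (pullback (f₀ ≫ g₀) (D.map j₀.hom)).Opens,
      E = (bcMap f₀ g₀ (D.map j₀.hom)).quasiFiniteLocus := ⟨_, rfl⟩
  have htop : (pbProj D c i₀ (f₀ ≫ g₀) j₀) ⁻¹ᵁ E = ⊤ := by
    rw [hE, ← quasiFiniteLocus_of_isPullback (isPullback_pbProj_bcMap D c f₀ g₀ j₀)]
    exact Scheme.Hom.quasiFiniteLocus_eq_top _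
  haveI : ∀ l : Over i₀, CompactSpace ↥((pbDiagram D i₀ (f₀ ≫ g₀)).obj l) :=
    fun l => inferInstance
  obtain ⟨k, m, hk'⟩ := exists_map_eq_top (pbDiagram D i₀ (f₀ ≫ g₀)) (pbCone D c i₀ (f₀ ≫ g₀))
    (isLimitPbCone hc) (i := j₀) E htop
  have hk : (pbMap D i₀ (f₀ ≫ g₀) m) ⁻¹ᵁ E = ⊤ := hk'
  refine ⟨k, ?_⟩
  rw [← Scheme.Hom.quasiFiniteLocus_eq_top_iff,
    quasiFiniteLocus_of_isPullback (isPullback_pbMap_bcMap D f₀ g₀ m), ← hE]
  exact hk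

end Groth.Agent.Lib.LimDescent
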