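import Groth.Agent.Lib.LimDescentPrime
import Mathlib.AlgebraicGeometry.Morphisms.UnderlyingMap
import Mathlib.AlgebraicGeometry.Morphisms.UniversallyInjective

/-!
# Descent through limits with `Y₀` only quasi-compact

Versions of the descent lemmas where `Y₀` is only assumed quasi-compact; obtained from the
versions for quasi-compact quasi-separated `Y₀` by localising along a finite affine cover.
-/

set_option autoImplicit false
universe u

open CategoryTheory Limits AlgebraicGeometry

namespace Groth.Agent.Lib.LimDescent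

open Groth.Agent.Lib.LimPullback

section

variable {X₀ B : Scheme.{u}}

/-- `pullback.snd f₀ b` is the base change of `f₀` (over `B` via the identity) along `b`. -/
theorem isBC_snd (f₀ : X₀ ⟶ B) {B' : Scheme.{u}} (b : B' ⟶ B) :
    IsBC f₀ (𝟙 B) b (pullback.snd f₀ b) :=
  ⟨b, 𝟙 B', pullback.fst f₀ b, IsPullback.of_vert_isIso ⟨by simp⟩,
    IsPullback.of_hasPullback f₀ b⟩

end

variable {I : Type u} [Category.{u} I] (D : I ⥤ Scheme.{u}) (c : Cone D)
variable [IsCofiltered I] (hc : IsLimit c) [∀ {i j} (f : i ⟶ j), IsAffineHom (D.map f)]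
variable {i₀ : I} {X₀ Y₀ : Scheme.{u}} (f₀ : X₀ ⟶ Y₀) (g₀ : Y₀ ⟶ D.obj i₀)

include hc

theorem exists_isAffineHom_stage'' [CompactSpace Y₀] [QuasiCompact f₀]
    [QuasiSeparated f₀] (h : IsAffineHom (bcMap f₀ g₀ (c.π.app i₀))) :
    ∃ j : Over i₀, IsAffineHom (bcMap f₀ g₀ (D.map j.hom)) :=
  exists_stage_of_openCover D c f₀ g₀ @IsAffineHom Y₀.affineCover.finiteSubcover
    (fun _ h' => exists_isAffineHom_stage' D c hc _ _ h') h

theorem exists_isIso_stage'' [CompactSpace Y₀] [QuasiCompact f₀]
    [QuasiSeparated f₀] [LocallyOfFinitePresentation f₀]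
    (h : IsIso (bcMap f₀ g₀ (c.π.app i₀))) :
    ∃ j : Over i₀, IsIso (bcMap f₀ g₀ (D.map j.hom)) :=
  exists_stage_of_openCover D c f₀ g₀ (MorphismProperty.isomorphisms _)
    Y₀.affineCover.finiteSubcover
    (fun _ h' => exists_isIso_stage' D c hc _ _ h') h

theorem exists_mono_stage'' [CompactSpace Y₀] [QuasiCompact f₀]
    [QuasiSeparated f₀] [LocallyOfFinitePresentation f₀]
    (h : Mono (bcMap f₀ g₀ (c.π.app i₀))) :
    ∃ j : Over i₀, Mono (bcMap f₀ g₀ (D.map j.hom)) :=
  exists_stage_of_openCover D c f₀ g₀ (MorphismProperty.monomorphisms _)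
    Y₀.affineCover.finiteSubcover
    (fun _ h' => exists_mono_stage' D c hc _ _ h') h

theorem exists_surjective_stage'' [CompactSpace Y₀] [QuasiCompact f₀]
    [LocallyOfFinitePresentation f₀]
    (h : Surjective (bcMap f₀ g₀ (c.π.app i₀))) :
    ∃ j : Over i₀, Surjective (bcMap f₀ g₀ (D.map j.hom)) :=
  exists_stage_of_openCover D c f₀ g₀ @Surjective Y₀.affineCover.finiteSubcover
    (fun _ h' => exists_surjective_stage' D c hc _ _ h') h

theorem exists_universallyInjective_stage'' [CompactSpace Y₀]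
    [QuasiCompact f₀] [QuasiSeparated f₀] [LocallyOfFinitePresentation f₀]
    (h : UniversallyInjective (bcMap f₀ g₀ (c.π.app i₀))) :
    ∃ j : Over i₀, UniversallyInjective (bcMap f₀ g₀ (D.map j.hom)) :=
  exists_stage_of_openCover D c f₀ g₀ @UniversallyInjective Y₀.affineCover.finiteSubcover
    (fun _ h' => exists_universallyInjective_stage' D c hc _ _ h') h

theorem exists_isOpenImmersion_stage'' [CompactSpace Y₀]
    [QuasiCompact f₀] [QuasiSeparated f₀] [LocallyOfFinitePresentation f₀]
    (h : IsOpenImmersion (bcMap f₀ g₀ (c.π.app i₀))) :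
    ∃ j : Over i₀, IsOpenImmersion (bcMap f₀ g₀ (D.map j.hom)) :=
  exists_stage_of_openCover D c f₀ g₀ @IsOpenImmersion Y₀.affineCover.finiteSubcover
    (fun _ h' => exists_isOpenImmersion_stage' D c hc _ _ h') h

end Groth.Agent.Lib.LimDescent
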