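import Groth.Agent.Lib.LimDescentClosedImm
import Mathlib.AlgebraicGeometry.Morphisms.Separated

/-!
# Descent of separatedness through cofiltered limits
-/

set_option autoImplicit false
universe u

open CategoryTheory Limits AlgebraicGeometry

namespace Groth.Agent.Lib.LimDescent

open Groth.Agent.Lib.LimPullback

variable {I : Type u} [Category.{u} I] (D : I ⥤ Scheme.{u}) (c : Cone D)
variable [IsCofiltered I] (hc : IsLimit c) [∀ {i j} (f : i ⟶ j), IsAffineHom (D.map f)]
variable {i₀ : I} {X₀ Y₀ : Scheme.{u}} (f₀ : X₀ ⟶ Y₀) (g₀ : Y₀ ⟶ D.obj i₀)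

include hc in
theorem exists_isSeparated_stage [CompactSpace Y₀] [QuasiCompact f₀] [QuasiSeparated f₀]
    (h : IsSeparated (bcMap f₀ g₀ (c.π.app i₀))) :
    ∃ j : Over i₀, IsSeparated (bcMap f₀ g₀ (D.map j.hom)) := by
  haveI : CompactSpace X₀ := QuasiCompact.compactSpace_of_compactSpace f₀
  haveI : CompactSpace ↥(pullback f₀ f₀) := inferInstance
  haveI : QuasiCompact (pullback.diagonal f₀) := inferInstance
  haveI : QuasiSeparated (pullback.diagonal f₀) := inferInstance
  haveI : LocallyOfFiniteType (pullback.diagonal f₀) := inferInstance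
  have hlim : IsClosedImmersion
      (bcMap (pullback.diagonal f₀) (pullback.fst f₀ f₀ ≫ f₀ ≫ g₀) (c.π.app i₀)) :=
    ((isBC_bcMap f₀ g₀ (c.π.app i₀)).diagonal.iff @IsClosedImmersion).mp
      h.isClosedImmersion_diagonal
  obtain ⟨j, hj⟩ := exists_isClosedImmersion_stage D c hc (pullback.diagonal f₀)
    (pullback.fst f₀ f₀ ≫ f₀ ≫ g₀) hlim
  exact ⟨j, ⟨((isBC_bcMap f₀ g₀ (D.map j.hom)).diagonal.iff @IsClosedImmersion).mpr hj⟩⟩

end Groth.Agent.Lib.LimDescent
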