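import Groth.Agent.Lib.ConsPairGeom
import Groth.Agent.Lib.LimDescentLoc
import Groth.Agent.Lib.LimDescentFinite
import Groth.Agent.Lib.LimDescentSep
import Groth.Agent.Lib.LimDescentClosedImm
import Groth.Agent.Lib.LimDescentImm
import Groth.Agent.Lib.LimDescentLQF

/-!
# Instances of `DescendsAlongLimit` for the standard properties of morphisms
-/

set_option autoImplicit false
universe u

open CategoryTheory Limits AlgebraicGeometry

namespace Groth.Agent.Lib.ConsPairGeom

open Groth.Agent.Lib.SpreadPair Groth.Agent.Lib.LimDescent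

theorem descends_isIso : DescendsAlongLimit (MorphismProperty.isomorphisms Scheme.{u}) :=
  fun D c hc _ _ _ _ f₀ g₀ _ _ _ _ _ _ _ h => exists_isIso_stage'' D c hc f₀ g₀ h

theorem descends_isClosedImmersion : DescendsAlongLimit @IsClosedImmersion.{u} :=
  fun D c hc _ _ _ _ f₀ g₀ _ _ _ _ _ _ _ h => exists_isClosedImmersion_stage D c hc f₀ g₀ h

theorem descends_isOpenImmersion : DescendsAlongLimit @IsOpenImmersion.{u} :=
  fun D c hc _ _ _ _ f₀ g₀ _ _ _ _ _ _ _ h => exists_isOpenImmersion_stage'' D c hc f₀ g₀ h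

theorem descends_surjective : DescendsAlongLimit @Surjective.{u} :=
  fun D c hc _ _ _ _ f₀ g₀ _ _ _ _ _ _ _ h => exists_surjective_stage'' D c hc f₀ g₀ h

theorem descends_isFinite : DescendsAlongLimit @IsFinite.{u} :=
  fun D c hc _ _ _ _ f₀ g₀ _ _ _ _ _ _ _ h => exists_isFinite_stage D c hc f₀ g₀ h

theorem descends_isAffineHom : DescendsAlongLimit @IsAffineHom.{u} :=
  fun D c hc _ _ _ _ f₀ g₀ _ _ _ _ _ _ _ h => exists_isAffineHom_stage'' D c hc f₀ g₀ h

theorem descends_universallyInjective : DescendsAlongLimit @UniversallyInjective.{u} :=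
  fun D c hc _ _ _ _ f₀ g₀ _ _ _ _ _ _ _ h => exists_universallyInjective_stage'' D c hc f₀ g₀ h

theorem descends_isImmersion : DescendsAlongLimit @IsImmersion.{u} :=
  fun D c hc _ _ _ _ f₀ g₀ _ _ _ _ _ _ _ h => exists_isImmersion_stage D c hc f₀ g₀ h

theorem descends_mono : DescendsAlongLimit (MorphismProperty.monomorphisms Scheme.{u}) :=
  fun D c hc _ _ _ _ f₀ g₀ _ _ _ _ _ _ _ h => exists_mono_stage'' D c hc f₀ g₀ h

theorem descends_isSeparated : DescendsAlongLimit @IsSeparated.{u} :=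
  fun D c hc _ _ _ _ f₀ g₀ _ _ _ _ _ _ _ h => exists_isSeparated_stage D c hc f₀ g₀ h

/-- locally of finite type, quasi-compact and locally quasi-finite. -/
def QuasiFiniteProp : MorphismProperty Scheme.{u} :=
  @LocallyOfFiniteType ⊓ (@QuasiCompact ⊓ @LocallyQuasiFinite)

instance : (QuasiFiniteProp.{u}).RespectsIso := by
  unfold QuasiFiniteProp; infer_instance

instance : (QuasiFiniteProp.{u}).IsStableUnderBaseChange := by
  unfold QuasiFiniteProp; infer_instance

theorem descends_quasiFiniteProp : DescendsAlongLimit QuasiFiniteProp.{u} := by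
  intro I _ _ D c hc _ i₀ X₀ Y₀ f₀ g₀ _ _ _ _ _ _ _ h
  obtain ⟨j, hj⟩ := exists_locallyQuasiFinite_stage D c hc f₀ g₀ h.2.2
  exact ⟨j, MorphismProperty.of_isPullback (isPullback_bcMap f₀ g₀ (D.map j.hom)) inferInstance,
    MorphismProperty.of_isPullback (isPullback_bcMap f₀ g₀ (D.map j.hom)) inferInstance, hj⟩

end Groth.Agent.Lib.ConsPairGeom
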