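import Groth.Agent.Lib.SpreadPair
import Groth.Agent.Lib.ConsPairGeomInst
import Groth.Agent.Lib.FGSubalgLimitU

/-!
# Combining two Noetherian approximations of a morphism of affine schemes

If `f : X ⟶ S` (affine schemes) is a base change of `f₁ : X₁ ⟶ S₁` and also of `f₂ : X₂ ⟶ S₂`
(finite type, all affine, `Γ(Sᵢ)` of finite type over `ℤ`), then `f` is a base change of a single
`f₀ : X₀ ⟶ S₀` of the same kind which is simultaneously a base change of `f₁` and isomorphic (over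
`S₀`) to a base change of `f₂`.  Proof: `Γ(S)` is the directed union of its f.g. `ℤ`-subalgebras
containing the images of `Γ(S₁)`, `Γ(S₂)`; the isomorphism between the two pulled-back families over
`S` descends to a finite stage (helper62's `SpreadPair.exists_stage_pair` + `descends_isIso`).
-/

set_option autoImplicit false
universe u

open CategoryTheory Limits AlgebraicGeometry

namespace Groth.Agent.Lib.ApproxCombine64

open Groth.Agent.Lib.FGSubalgLimitU Groth.Agent.Lib.SpreadPair Groth.Agent.Lib.ConsPairGeom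
theorem finiteType_int_Γ_Spec (K : Type u) [CommRing K] (A : FGSub ℤ K) :
    Algebra.FiniteType ℤ Γ(Spec (CommRingCat.of A.1), ⊤) := by
  have h : Algebra.FiniteType ℤ A.1 := (Subalgebra.fg_iff_finiteType _).mp A.2
  let e : A.1 ≃+* Γ(Spec (CommRingCat.of A.1), ⊤) :=
    (Scheme.ΓSpecIso (CommRingCat.of A.1)).symm.commRingCatIsoToRingEquiv
  have h' : @Algebra.FiniteType ℤ A.1 _ _ (Ring.toIntAlgebra _) := by
    convert h
  exact h'.equiv e.toIntAlgEquiv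

theorem exists_combine (P Q : MorphismProperty Scheme.{u}) [P.IsStableUnderBaseChange]
    [Q.IsStableUnderBaseChange]
    {X S : Scheme.{u}} (f : X ⟶ S) [IsAffine X] [IsAffine S]
    {X₁ S₁ X₂ S₂ : Scheme.{u}} [IsAffine X₁] [IsAffine S₁] [IsAffine X₂] [IsAffine S₂]
    (f₁ : X₁ ⟶ S₁) (g₁ : S ⟶ S₁) (g₁' : X ⟶ X₁) (h₁ : IsPullback g₁' f f₁ g₁)
    (f₂ : X₂ ⟶ S₂) (g₂ : S ⟶ S₂) (g₂' : X ⟶ X₂) (h₂ : IsPullback g₂' f f₂ g₂)
    (hS₁ : Algebra.FiniteType ℤ Γ(S₁, ⊤)) (hS₂ : Algebra.FiniteType ℤ Γ(S₂, ⊤))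
    [LocallyOfFiniteType f₁] [LocallyOfFiniteType f₂] (hP : P f₁) (hQ : Q f₂) :
    ∃ (X₀ S₀ : Scheme.{u}) (f₀ : X₀ ⟶ S₀) (g : S ⟶ S₀) (g' : X ⟶ X₀), IsAffine X₀ ∧ IsAffine S₀ ∧
      IsPullback g' f f₀ g ∧
      Algebra.FiniteType ℤ Γ(S₀, ⊤) ∧ LocallyOfFiniteType f₀ ∧ P f₀ ∧ Q f₀ := by
  let K : Type u := Γ(S, ⊤)
  let φ₁ : Γ(S₁, ⊤) →ₐ[ℤ] K := (g₁.appTop.hom).toIntAlgHom
  let φ₂ : Γ(S₂, ⊤) →ₐ[ℤ] K := (g₂.appTop.hom).toIntAlgHom
  let A₀ : Subalgebra ℤ K := φ₁.range ⊔ φ₂.range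
  have hA₀ : A₀.FG := by
    refine Subalgebra.FG.sup ?_ ?_
    · rw [← Algebra.map_top]; exact hS₁.1.map φ₁
    · rw [← Algebra.map_top]; exact hS₂.1.map φ₂
  let ψ₁ : Γ(S₁, ⊤) →+* A₀ :=
    (φ₁.codRestrict A₀ (fun x => (le_sup_left : φ₁.range ≤ A₀) ⟨x, rfl⟩)).toRingHom
  let ψ₂ : Γ(S₂, ⊤) →+* A₀ :=
    (φ₂.codRestrict A₀ (fun x => (le_sup_right : φ₂.range ≤ A₀) ⟨x, rfl⟩)).toRingHom
  let i₀ : (FGSub ℤ K)ᵒᵖ := Opposite.op ⟨A₀, hA₀⟩
  let π₀ : Spec (CommRingCat.of K) ⟶ (D ℤ K).obj i₀ := (cone ℤ K).π.app i₀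
  let b₁ : (D ℤ K).obj i₀ ⟶ S₁ := Spec.map (CommRingCat.ofHom ψ₁) ≫ S₁.isoSpec.inv
  let b₂ : (D ℤ K).obj i₀ ⟶ S₂ := Spec.map (CommRingCat.ofHom ψ₂) ≫ S₂.isoSpec.inv
  have hg₁ : g₁ = S.isoSpec.hom ≫ π₀ ≫ b₁ := by
    have h := Scheme.isoSpec_hom_naturality g₁
    have h2 : Spec.map g₁.appTop = π₀ ≫ Spec.map (CommRingCat.ofHom ψ₁) := by
      change _ = Spec.map _ ≫ Spec.map _
      rw [← Spec.map_comp]
      rfl
    rw [← Category.assoc, ← Category.assoc, Iso.eq_comp_inv, ← h, h2, Category.assoc]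
  have hg₂ : g₂ = S.isoSpec.hom ≫ π₀ ≫ b₂ := by
    have h := Scheme.isoSpec_hom_naturality g₂
    have h2 : Spec.map g₂.appTop = π₀ ≫ Spec.map (CommRingCat.ofHom ψ₂) := by
      change _ = Spec.map _ ≫ Spec.map _
      rw [← Spec.map_comp]
      rfl
    rw [← Category.assoc, ← Category.assoc, Iso.eq_comp_inv, ← h, h2, Category.assoc]
  have hAff : ∀ k : (FGSub ℤ K)ᵒᵖ, IsAffine ((D ℤ K).obj k) := fun k => by
    change IsAffine (Spec _); infer_instance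
  -- the two models over `Spec A₀`
  let aX : pullback f₁ b₁ ⟶ (D ℤ K).obj i₀ := pullback.snd f₁ b₁
  let aY : pullback f₂ b₂ ⟶ (D ℤ K).obj i₀ := pullback.snd f₂ b₂
  have : LocallyOfFinitePresentation aX := inferInstance
  have : LocallyOfFinitePresentation aY := inferInstance
  -- comparison of the two pullbacks to the limit
  have sq₁ : IsPullback (pullback.fst aX π₀ ≫ pullback.fst f₁ b₁) (pullback.snd aX π₀) f₁
      (π₀ ≫ b₁) :=
    (IsPullback.of_hasPullback aX π₀).paste_horiz (IsPullback.of_hasPullback f₁ b₁)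
  have sq₂ : IsPullback (pullback.fst aY π₀ ≫ pullback.fst f₂ b₂) (pullback.snd aY π₀) f₂
      (π₀ ≫ b₂) :=
    (IsPullback.of_hasPullback aY π₀).paste_horiz (IsPullback.of_hasPullback f₂ b₂)
  have h₁' : IsPullback g₁' (f ≫ S.isoSpec.hom) f₁ (π₀ ≫ b₁) :=
    h₁.of_iso (Iso.refl _) (Iso.refl _) S.isoSpec (Iso.refl _) (by simp) (by simp) (by simp)
      (by rw [hg₁]; simp)
  have h₂' : IsPullback g₂' (f ≫ S.isoSpec.hom) f₂ (π₀ ≫ b₂) :=
    h₂.of_iso (Iso.refl _) (Iso.refl _) S.isoSpec (Iso.refl _) (by simp) (by simp) (by simp)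
      (by rw [hg₂]; simp)
  let e₁ : X ≅ pullback aX π₀ := h₁'.isoIsPullback _ _ sq₁
  let e₂ : X ≅ pullback aY π₀ := h₂'.isoIsPullback _ _ sq₂
  let g : pullback aX ((cone ℤ K).π.app i₀) ⟶ pullback aY ((cone ℤ K).π.app i₀) :=
    e₁.inv ≫ e₂.hom
  have hg : g ≫ pullback.snd _ _ = pullback.snd _ _ := by
    have e2 : e₂.hom ≫ pullback.snd aY π₀ = f ≫ S.isoSpec.hom :=
      IsPullback.isoIsPullback_hom_snd _ _ h₂' sq₂
    have e1 : e₁.inv ≫ (f ≫ S.isoSpec.hom) = pullback.snd aX π₀ :=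
      IsPullback.isoIsPullback_inv_snd _ _ h₁' sq₁
    change (e₁.inv ≫ e₂.hom) ≫ pullback.snd aY π₀ = pullback.snd aX π₀
    rw [Category.assoc, e2, e1]
  have hgiso : (MorphismProperty.isomorphisms Scheme.{u}) g := by
    change IsIso g
    infer_instance
  obtain ⟨k, φ, Xk, Yk, pX, qX, pY, qY, gk, sqX, sqY, hgk, hiso⟩ :=
    exists_stage_pair (D ℤ K) (cone ℤ K) (isLimitCone ℤ K)
      (MorphismProperty.isomorphisms Scheme.{u}) descends_isIso aX aY g hg hgiso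
  have hiso' : IsIso gk := hiso
  have bigX : IsPullback (pX ≫ pullback.fst f₁ b₁) qX f₁ ((D ℤ K).map φ ≫ b₁) :=
    sqX.paste_horiz (IsPullback.of_hasPullback f₁ b₁)
  have bigY : IsPullback (pY ≫ pullback.fst f₂ b₂) qY f₂ ((D ℤ K).map φ ≫ b₂) :=
    sqY.paste_horiz (IsPullback.of_hasPullback f₂ b₂)
  have hπ : (cone ℤ K).π.app k ≫ (D ℤ K).map φ = π₀ := (cone ℤ K).w φ
  let gS : S ⟶ (D ℤ K).obj k := S.isoSpec.hom ≫ (cone ℤ K).π.app k
  have hg₁' : g₁ = gS ≫ ((D ℤ K).map φ ≫ b₁) := by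
    rw [hg₁, ← hπ]; simp only [gS, Category.assoc]
    exact congrArg (S.isoSpec.hom ≫ ·) (Category.assoc _ _ _)
  have hw : g₁' ≫ f₁ = (f ≫ gS) ≫ ((D ℤ K).map φ ≫ b₁) := by
    rw [h₁.w, Category.assoc, ← hg₁']
  let g' : X ⟶ Xk := bigX.lift g₁' (f ≫ gS) hw
  have hfst : g' ≫ (pX ≫ pullback.fst f₁ b₁) = g₁' := bigX.lift_fst _ _ _
  have hsnd : g' ≫ qX = f ≫ gS := bigX.lift_snd _ _ _
  have hpb : IsPullback g' f qX gS := by
    refine IsPullback.of_right ?_ hsnd bigX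
    rw [hfst, ← hg₁']
    exact h₁
  refine ⟨Xk, (D ℤ K).obj k, qX, gS, g', ?_, hAff k, hpb, ?_, ?_, ?_, ?_⟩
  · have : IsAffine (pullback aX ((D ℤ K).map φ)) := inferInstance
    exact IsAffine.of_isIso sqX.isoPullback.hom
  · exact finiteType_int_Γ_Spec K k.unop
  · exact MorphismProperty.of_isPullback (P := @LocallyOfFiniteType) bigX inferInstance
  · exact MorphismProperty.of_isPullback bigX hP
  · have hQY : Q qY := MorphismProperty.of_isPullback bigY hQ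
    rw [← hgk]
    exact (Q.cancel_left_of_respectsIso gk qY).mpr hQY

end Groth.Agent.Lib.ApproxCombine64
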