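import Groth.Agent.Lib.LimDescentBC
import Mathlib.AlgebraicGeometry.Morphisms.Separated

/-!
# Graphs of morphisms over a base, their base change, and separatedness
-/

set_option autoImplicit false
universe u

open CategoryTheory Limits AlgebraicGeometry

namespace Groth.Agent.Lib.GraphSep

open Groth.Agent.Lib.LimDescent

variable {A A' B S : Scheme.{u}}

/-- The graph `A ⟶ A ×_S B` of an `S`-morphism `u : A ⟶ B`. -/
noncomputable def graph (a : A ⟶ S) (b : B ⟶ S) (u : A ⟶ B) (hu : u ≫ b = a) : A ⟶ pullback a b :=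
  pullback.lift (𝟙 A) u (by rw [Category.id_comp, hu])

@[reassoc (attr := simp)]
theorem graph_fst (a : A ⟶ S) (b : B ⟶ S) (u : A ⟶ B) (hu : u ≫ b = a) :
    graph a b u hu ≫ pullback.fst a b = 𝟙 A := pullback.lift_fst _ _ _

@[reassoc (attr := simp)]
theorem graph_snd (a : A ⟶ S) (b : B ⟶ S) (u : A ⟶ B) (hu : u ≫ b = a) :
    graph a b u hu ≫ pullback.snd a b = u := pullback.lift_snd _ _ _

/-- The map `A' ×_S B ⟶ A ×_S B` induced by `v : A' ⟶ A`. -/
noncomputable def graphBase (a : A ⟶ S) (b : B ⟶ S) (v : A' ⟶ A) (a' : A' ⟶ S)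
    (ha' : v ≫ a = a') : pullback a' b ⟶ pullback a b :=
  pullback.map a' b a b v (𝟙 B) (𝟙 S) (by rw [Category.comp_id, ha']) (by simp)

@[reassoc (attr := simp)]
theorem graphBase_fst (a : A ⟶ S) (b : B ⟶ S) (v : A' ⟶ A) (a' : A' ⟶ S) (ha' : v ≫ a = a') :
    graphBase a b v a' ha' ≫ pullback.fst a b = pullback.fst a' b ≫ v := pullback.lift_fst _ _ _

@[reassoc (attr := simp)]
theorem graphBase_snd (a : A ⟶ S) (b : B ⟶ S) (v : A' ⟶ A) (a' : A' ⟶ S) (ha' : v ≫ a = a') :
    graphBase a b v a' ha' ≫ pullback.snd a b = pullback.snd a' b :=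
  (pullback.lift_snd _ _ _).trans (Category.comp_id _)

theorem isPullback_graphBase_fst (a : A ⟶ S) (b : B ⟶ S) (v : A' ⟶ A) (a' : A' ⟶ S)
    (ha' : v ≫ a = a') :
    IsPullback (graphBase a b v a' ha') (pullback.fst a' b) (pullback.fst a b) v := by
  subst ha'
  refine IsPullback.of_right ?_ (graphBase_fst a b v _ rfl) (IsPullback.of_hasPullback a b).flip
  rw [graphBase_snd]
  exact (IsPullback.of_hasPullback (v ≫ a) b).flip

theorem isPullback_graph (a : A ⟶ S) (b : B ⟶ S) (u : A ⟶ B) (hu : u ≫ b = a) (v : A' ⟶ A)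
    (a' : A' ⟶ S) (ha' : v ≫ a = a') (u' : A' ⟶ B) (hu' : v ≫ u = u') :
    IsPullback v (graph a' b u' (by rw [← hu', Category.assoc, hu, ha'])) (graph a b u hu)
      (graphBase a b v a' ha') := by
  subst hu'
  refine IsPullback.of_bot ?_ ?_ (isPullback_graphBase_fst a b v a' ha')
  · rw [graph_fst, graph_fst]
    exact IsPullback.of_vert_isIso ⟨by simp⟩
  · apply pullback.hom_ext
    · rw [Category.assoc, graph_fst, Category.assoc, graphBase_fst, graph_fst_assoc,
        Category.comp_id]
    · rw [Category.assoc, graph_snd, Category.assoc, graphBase_snd, graph_snd]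

theorem isBC_graph (a : A ⟶ S) (b : B ⟶ S) (u : A ⟶ B) (hu : u ≫ b = a) (v : A' ⟶ A)
    (a' : A' ⟶ S) (ha' : v ≫ a = a') (u' : A' ⟶ B) (hu' : v ≫ u = u') :
    IsBC (graph a b u hu) (pullback.fst a b) v
      (graph a' b u' (by rw [← hu', Category.assoc, hu, ha'])) :=
  ⟨graphBase a b v a' ha', pullback.fst a' b, v, isPullback_graphBase_fst a b v a' ha',
    isPullback_graph a b u hu v a' ha' u' hu'⟩

/-- If the graph of a separated `S`-morphism `u : A ⟶ B` is a closed immersion then `A` is
separated over `S`. -/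
theorem isSeparated_of_graph (a : A ⟶ S) (b : B ⟶ S) (u : A ⟶ B) (hu : u ≫ b = a)
    [IsSeparated u] (h : IsClosedImmersion (graph a b u hu)) : IsSeparated a := by
  have hP : IsSeparated (pullback.map a a a b (𝟙 A) u (𝟙 S)
      ((Category.comp_id _).trans (Category.id_comp a).symm)
      ((Category.comp_id _).trans hu.symm)) :=
    MorphismProperty.pullbackMap (P := @IsSeparated) (inferInstance : IsSeparated (𝟙 A))
      (inferInstance : IsSeparated u) (Category.id_comp a).symm hu.symm
  have hfac : pullback.diagonal a ≫ pullback.map a a a b (𝟙 A) u (𝟙 S)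
      ((Category.comp_id _).trans (Category.id_comp a).symm)
      ((Category.comp_id _).trans hu.symm) = graph a b u hu := by
    apply pullback.hom_ext
    · rw [Category.assoc, pullback.lift_fst, pullback.diagonal_fst_assoc, graph_fst]
    · rw [Category.assoc, pullback.lift_snd, pullback.diagonal_snd_assoc, graph_snd]
  haveI : IsClosedImmersion (pullback.diagonal a ≫ pullback.map a a a b (𝟙 A) u (𝟙 S)
      ((Category.comp_id _).trans (Category.id_comp a).symm)
      ((Category.comp_id _).trans hu.symm)) := by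
    rw [hfac]
    exact h
  haveI := hP
  exact ⟨IsClosedImmersion.of_comp (pullback.diagonal a) (pullback.map a a a b (𝟙 A) u (𝟙 S)
      ((Category.comp_id _).trans (Category.id_comp a).symm)
      ((Category.comp_id _).trans hu.symm))⟩

end Groth.Agent.Lib.GraphSep
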