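import Groth.Agent.Lib.LimClosedIntoStage2
import Groth.Agent.Lib.GraphSep
import Groth.Agent.Lib.LimDescentSep

/-!
# Separatedness of the stages of a cofiltered limit (Stacks 086Q-type)

`X = lim Xᵢ` over a quasi-separated `S`, `Xᵢ` qcqs, affine transitions. If `X → S` is separated
then `Xᵢ → S` is separated for all small `i`.
-/

set_option autoImplicit false
universe u

open CategoryTheory Limits AlgebraicGeometry

namespace Groth.Agent.Lib.LimStructureMap

open Groth.Agent.Lib.LimDescent Groth.Agent.Lib.LimPullback Groth.Agent.Lib.GraphSep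

section graphBase'

variable {A B B' S : Scheme.{u}}

/-- The map `A ×_S B' ⟶ A ×_S B` induced by `w : B' ⟶ B`. -/
noncomputable def graphBase' (a : A ⟶ S) (b' : B' ⟶ S) (b : B ⟶ S) (w : B' ⟶ B)
    (hw : w ≫ b = b') : pullback a b' ⟶ pullback a b :=
  pullback.map a b' a b (𝟙 A) w (𝟙 S) (by simp) (by rw [Category.comp_id, hw])

@[reassoc (attr := simp)]
theorem graphBase'_fst (a : A ⟶ S) (b' : B' ⟶ S) (b : B ⟶ S) (w : B' ⟶ B) (hw : w ≫ b = b') :
    graphBase' a b' b w hw ≫ pullback.fst a b = pullback.fst a b' :=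
  (pullback.lift_fst _ _ _).trans (Category.comp_id _)

@[reassoc (attr := simp)]
theorem graphBase'_snd (a : A ⟶ S) (b' : B' ⟶ S) (b : B ⟶ S) (w : B' ⟶ B) (hw : w ≫ b = b') :
    graphBase' a b' b w hw ≫ pullback.snd a b = pullback.snd a b' ≫ w :=
  pullback.lift_snd _ _ _

end graphBase'

variable {I : Type u} [Category.{u} I] [IsCofiltered I] (D : I ⥤ Scheme.{u}) (c : Cone D)
variable (hc : IsLimit c) {S : Scheme.{u}} (τ : ∀ i, D.obj i ⟶ S)
variable (hτ : ∀ {i j : I} (f : i ⟶ j), D.map f ≫ τ j = τ i)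

include hc hτ in
/-- Step 1: the graph `X → X ×_S X_j` of some projection is a closed immersion. -/
theorem exists_isClosedImmersion_graph [QuasiSeparatedSpace S]
    [∀ {i j : I} (f : i ⟶ j), IsAffineHom (D.map f)]
    [∀ i, CompactSpace (D.obj i)] [∀ i, QuasiSeparatedSpace (D.obj i)]
    (s : c.pt ⟶ S) (hs : ∀ i, c.π.app i ≫ τ i = s) [IsSeparated s] :
    ∃ j : I, IsClosedImmersion (graph s (τ j) (c.π.app j) (hs j)) := by
  let i₀ : I := (IsCofiltered.nonempty (C := I)).some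
  haveI : CompactSpace c.pt := Scheme.compactSpace_of_isLimit D c hc
  haveI hqc : ∀ i, QuasiCompact (τ i) := fun i => inferInstance
  let gT : pullback s (τ i₀) ⟶ D.obj i₀ := pullback.snd s (τ i₀)
  haveI : CompactSpace ↥(pullback s (τ i₀)) :=
    QuasiCompact.compactSpace_of_compactSpace (pullback.fst s (τ i₀))
  haveI : IsSeparated gT := (inferInstance : IsSeparated (pullback.snd s (τ i₀)))
  let σ : ∀ j : Over i₀, (pbDiagram D i₀ gT).obj j ⟶ c.pt := fun j =>
    pullback.fst gT (D.map j.hom) ≫ pullback.fst s (τ i₀)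
  have hσ : ∀ {j k : Over i₀} (m : j ⟶ k), (pbDiagram D i₀ gT).map m ≫ σ k = σ j := by
    intro j k m
    change pbMap D i₀ gT m ≫ pullback.fst gT (D.map k.hom) ≫ _ = _
    rw [pbMap_fst_assoc]
    rfl
  let h : c.pt ⟶ pullback gT (c.π.app i₀) :=
    pullback.lift (graph s (τ i₀) (c.π.app i₀) (hs i₀)) (𝟙 _)
      (by rw [graph_snd, Category.id_comp])
  have hh1 : h ≫ pullback.fst gT (c.π.app i₀) = graph s (τ i₀) (c.π.app i₀) (hs i₀) :=
    pullback.lift_fst _ _ _
  have hh2 : h ≫ pullback.snd gT (c.π.app i₀) = 𝟙 _ := pullback.lift_snd _ _ _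
  haveI : IsClosedImmersion (h ≫ pullback.snd gT (c.π.app i₀)) := by
    rw [hh2]
    infer_instance
  haveI : IsClosedImmersion h := IsClosedImmersion.of_comp h (pullback.snd gT (c.π.app i₀))
  let j₀ : Over i₀ := Over.mk (𝟙 i₀)
  have hid : ∀ j : Over i₀, h ≫ pbProj D c i₀ gT j ≫ pullback.fst gT (D.map j.hom) ≫
      pullback.fst s (τ i₀) = 𝟙 _ := by
    intro j
    rw [pbProj_fst_assoc, ← Category.assoc, hh1, graph_fst]
  let h' : c.pt ⟶ (pbCone D c i₀ gT).pt := h
  haveI : IsClosedImmersion h' := (inferInstance : IsClosedImmersion h)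
  haveI : LocallyOfFiniteType (h' ≫ (pbCone D c i₀ gT).π.app j₀ ≫ σ j₀) := by
    have : h' ≫ (pbCone D c i₀ gT).π.app j₀ ≫ σ j₀ = 𝟙 _ := hid j₀
    rw [this]
    infer_instance
  obtain ⟨J, hJ⟩ := exists_isClosedImmersion_into_stage (pbDiagram D i₀ gT) (pbCone D c i₀ gT)
    (isLimitPbCone hc) σ hσ j₀ h'
  have hcl : IsClosedImmersion (h ≫ pbProj D c i₀ gT J.left) := hJ J (𝟙 _)
  obtain ⟨j, hj⟩ : ∃ j : Over i₀, IsClosedImmersion (h ≫ pbProj D c i₀ gT j) := ⟨J.left, hcl⟩
  refine ⟨j.left, ?_⟩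
  -- compare with the graph
  let θ : pullback s (τ j.left) ⟶ pullback gT (D.map j.hom) :=
    pullback.lift (graphBase' s (τ j.left) (τ i₀) (D.map j.hom) (hτ j.hom))
      (pullback.snd s (τ j.left)) (by
        change _ ≫ pullback.snd s (τ i₀) = _
        rw [graphBase'_snd])
  have hθ1 : θ ≫ pullback.fst gT (D.map j.hom) =
      graphBase' s (τ j.left) (τ i₀) (D.map j.hom) (hτ j.hom) := pullback.lift_fst _ _ _
  have hθ2 : θ ≫ pullback.snd gT (D.map j.hom) = pullback.snd s (τ j.left) :=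
    pullback.lift_snd _ _ _
  haveI : Mono θ := by
    refine ⟨fun {Z} a b hab => ?_⟩
    apply pullback.hom_ext
    · have := congr($hab ≫ pullback.fst gT (D.map j.hom) ≫ pullback.fst s (τ i₀))
      simpa only [Category.assoc, reassoc_of% hθ1, graphBase'_fst] using this
    · have := congr($hab ≫ pullback.snd gT (D.map j.hom))
      simpa only [Category.assoc, hθ2] using this
  have hfac : graph s (τ j.left) (c.π.app j.left) (hs j.left) ≫ θ = h ≫ pbProj D c i₀ gT j := by
    apply pullback.hom_ext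
    · rw [Category.assoc, hθ1, Category.assoc, pbProj_fst, hh1]
      apply pullback.hom_ext
      · rw [Category.assoc, graphBase'_fst, graph_fst, graph_fst]
      · rw [Category.assoc, graphBase'_snd, graph_snd_assoc, graph_snd, c.w]
    · rw [Category.assoc, hθ2, graph_snd, Category.assoc, pbProj_snd, ← Category.assoc, hh2,
        Category.id_comp]
  haveI : IsClosedImmersion (graph s (τ j.left) (c.π.app j.left) (hs j.left) ≫ θ) := by
    rw [hfac]
    exact hj
  exact IsClosedImmersion.of_comp _ θ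


include hc hτ in
/-- `X = lim Xᵢ` over a quasi-separated `S`, `Xᵢ` qcqs, affine transitions. If `X → S` is
separated then `Xᵢ → S` is separated for all small `i`. -/
theorem exists_isSeparated_structureMap_stage [QuasiSeparatedSpace S]
    [∀ {i j : I} (f : i ⟶ j), IsAffineHom (D.map f)]
    [∀ i, CompactSpace (D.obj i)] [∀ i, QuasiSeparatedSpace (D.obj i)]
    (s : c.pt ⟶ S) (hs : ∀ i, c.π.app i ≫ τ i = s) [IsSeparated s] :
    ∃ i₁ : I, ∀ (i : I) (_ : i ⟶ i₁), IsSeparated (τ i) := by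
  obtain ⟨j₁, hj₁⟩ := exists_isClosedImmersion_graph D c hc τ hτ s hs
  haveI hqc : ∀ i, QuasiCompact (τ i) := fun i => inferInstance
  haveI hqs : ∀ i, QuasiSeparated (τ i) := fun i => inferInstance
  let f₀ : D.obj j₁ ⟶ pullback (τ j₁) (τ j₁) := graph (τ j₁) (τ j₁) (𝟙 _) (Category.id_comp _)
  let g₀ : pullback (τ j₁) (τ j₁) ⟶ D.obj j₁ := pullback.fst (τ j₁) (τ j₁)
  have hfg : f₀ ≫ g₀ = 𝟙 _ := graph_fst _ _ _ _
  haveI : CompactSpace ↥(pullback (τ j₁) (τ j₁)) :=
    QuasiCompact.compactSpace_of_compactSpace (pullback.fst (τ j₁) (τ j₁))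
  haveI : QuasiCompact (f₀ ≫ g₀) := by rw [hfg]; infer_instance
  haveI : QuasiSeparated g₀ := (inferInstance : QuasiSeparated (pullback.fst (τ j₁) (τ j₁)))
  haveI : QuasiCompact f₀ := QuasiCompact.of_comp f₀ g₀
  haveI : QuasiSeparated (f₀ ≫ g₀) := by rw [hfg]; infer_instance
  haveI : QuasiSeparated f₀ := QuasiSeparated.of_comp f₀ g₀
  haveI : LocallyOfFiniteType (f₀ ≫ g₀) := by rw [hfg]; infer_instance
  haveI : LocallyOfFiniteType f₀ := locallyOfFiniteType_of_comp f₀ g₀
  have hBClim := isBC_graph (τ j₁) (τ j₁) (𝟙 _) (Category.id_comp _) (c.π.app j₁) s (hs j₁)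
    (c.π.app j₁) (Category.comp_id _)
  have hlim : IsClosedImmersion (bcMap f₀ g₀ (c.π.app j₁)) :=
    (hBClim.iff @IsClosedImmersion).mp hj₁
  obtain ⟨k, hk⟩ := exists_isClosedImmersion_stage D c hc f₀ g₀ hlim
  refine ⟨k.left, fun l m => ?_⟩
  let kl : Over j₁ := Over.mk (m ≫ k.hom)
  let ml : kl ⟶ k := Over.homMk m
  have hkl : IsClosedImmersion (bcMap f₀ g₀ (D.map kl.hom)) :=
    MorphismProperty.of_isPullback (isPullback_pbMap_bcMap D f₀ g₀ ml) hk
  have hBC := isBC_graph (τ j₁) (τ j₁) (𝟙 _) (Category.id_comp _) (D.map kl.hom) (τ l) (hτ _)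
    (D.map kl.hom) (Category.comp_id _)
  have hgl := (hBC.iff @IsClosedImmersion).mpr hkl
  exact isSeparated_of_graph (τ l) (τ j₁) (D.map kl.hom) _ hgl

end Groth.Agent.Lib.LimStructureMap
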