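import Groth.Agent.Lib.AbsApproxHyp62
import Groth.Agent.Lib.LimSeparatedStage
import Groth.Agent.S2076

/-!
# Consumers of Noetherian approximation, part A (helper5): closed immersions into finitely
presented schemes (Stacks 09ZQ), in hypothesis form over `AbsApproxHyp62.Hyp7383`.

* `exists_stage` : `f : X ⟶ S` locally of finite type, `X` qcqs, `S` qcqs. Then there are a finitely
  presented `f' : X' ⟶ S` and a closed immersion `X → X'` over `S`; if `f` is separated one can take
  `f'` separated.
-/

set_option autoImplicit false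
set_option linter.style.haveILetI false
universe u

open CategoryTheory CategoryTheory.Limits AlgebraicGeometry TopologicalSpace Opposite

namespace Groth.Agent.Lib.ApproxCons5

open Groth.Agent.Lib.AbsApproxHyp62

variable (H : Hyp7383.{u})

include H in
/-- Closed immersion into a finitely presented stage, compact base. With `hsep`, for separated `f`
the stage is separated. -/
theorem exists_stage_of_compact {X S : Scheme.{u}} (f : X ⟶ S) [LocallyOfFiniteType f]
    [CompactSpace X] [QuasiSeparatedSpace X] [CompactSpace S] [QuasiSeparatedSpace S] :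
    ∃ (X' : Scheme.{u}) (f' : X' ⟶ S) (j : X ⟶ X'), LocallyOfFinitePresentation f' ∧
      QuasiCompact f' ∧ QuasiSeparated f' ∧ IsClosedImmersion j ∧ j ≫ f' = f ∧
      (IsSeparated f → IsSeparated f') := by
  obtain ⟨I, _, _, _, D, c, hc, hD, hD', ⟨e⟩⟩ := H f
  haveI : ∀ (i j : Iᵒᵖ) (a : i ⟶ j), IsAffineHom (D.map a).left := hD'
  haveI : ∀ i, QuasiCompact (D.obj i).hom := fun i => (hD i).2.1
  haveI : ∀ i, QuasiSeparated (D.obj i).hom := fun i => (hD i).2.2
  haveI : ∀ i, CompactSpace (D.obj i).left := fun i =>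
    QuasiCompact.compactSpace_of_compactSpace (D.obj i).hom
  haveI : ∀ i, QuasiSeparatedSpace (D.obj i).left := fun i =>
    quasiSeparatedSpace_of_quasiSeparated (D.obj i).hom
  let h : X ⟶ c.pt.left := e.inv.left
  have hh : h ≫ c.pt.hom = f := Over.w e.inv
  haveI : IsIso h := inferInstanceAs (IsIso ((Over.forget S).map e.inv))
  haveI : IsClosedImmersion h := inferInstance
  haveI : LocallyOfFiniteType (h ≫ c.pt.hom) := by rw [hh]; infer_instance
  obtain ⟨i, hi⟩ := Groth.Agent.S2076.result S D c hc h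
  -- the forgetful cone
  let D' : Iᵒᵖ ⥤ Scheme.{u} := D ⋙ Over.forget S
  let c' : Cone D' := (Over.forget S).mapCone c
  have hc' : IsLimit c' := isLimitOfPreserves (Over.forget S) hc
  let τ : ∀ i, D'.obj i ⟶ S := fun i => (D.obj i).hom
  have hτ : ∀ {i j : Iᵒᵖ} (a : i ⟶ j), D'.map a ≫ τ j = τ i := fun a => Over.w (D.map a)
  haveI : ∀ {i j : Iᵒᵖ} (a : i ⟶ j), IsAffineHom (D'.map a) := fun a => hD' _ _ a
  haveI : ∀ i, CompactSpace (D'.obj i) := fun i => inferInstanceAs (CompactSpace (D.obj i).left)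
  haveI : ∀ i, QuasiSeparatedSpace (D'.obj i) := fun i =>
    inferInstanceAs (QuasiSeparatedSpace (D.obj i).left)
  by_cases hsep : IsSeparated f
  · have hs : ∀ i, c'.π.app i ≫ τ i = c.pt.hom := fun i => Over.w (c.π.app i)
    haveI : IsSeparated c.pt.hom := by
      have : c.pt.hom = e.hom.left ≫ f := (Over.w e.hom).symm
      rw [this]
      infer_instance
    let s : c'.pt ⟶ S := c.pt.hom
    haveI : IsSeparated s := ‹IsSeparated c.pt.hom›
    obtain ⟨i₁, hi₁⟩ := Groth.Agent.Lib.LimStructureMap.exists_isSeparated_structureMap_stage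
      D' c' hc' τ hτ s hs
    -- a common lower bound
    obtain ⟨k, a, b, -⟩ := IsCofilteredOrEmpty.cone_objs i i₁
    haveI := hi
    haveI : IsClosedImmersion ((h ≫ (c.π.app k).left) ≫ (D.map a).left) := by
      have : (c.π.app k).left ≫ (D.map a).left = (c.π.app i).left := by
        rw [← Over.comp_left, c.w]
      rw [Category.assoc, this]
      exact hi
    haveI : IsClosedImmersion (h ≫ (c.π.app k).left) :=
      IsClosedImmersion.of_comp _ (D.map a).left
    refine ⟨(D.obj k).left, (D.obj k).hom, h ≫ (c.π.app k).left, (hD k).1, inferInstance,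
      inferInstance, inferInstance, ?_, fun _ => hi₁ k b⟩
    rw [Category.assoc]
    exact (congrArg (h ≫ ·) (Over.w (c.π.app k))).trans hh
  · refine ⟨(D.obj i).left, (D.obj i).hom, h ≫ (c.π.app i).left, (hD i).1, inferInstance,
      inferInstance, hi, ?_, fun h' => absurd h' hsep⟩
    rw [Category.assoc]
    exact (congrArg (h ≫ ·) (Over.w (c.π.app i))).trans hh

end Groth.Agent.Lib.ApproxCons5

namespace Groth.Agent.Lib.ApproxCons5

open Groth.Agent.Lib.AbsApproxHyp62

/-- The image of a quasi-compact scheme lies in a quasi-compact open. -/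
theorem exists_isCompact_opens_range_le {X S : Scheme.{u}} (f : X ⟶ S) [CompactSpace X] :
    ∃ S' : S.Opens, IsCompact (S' : Set S) ∧ Set.range f.base ⊆ (S' : Set S) := by
  choose V hV hxV using fun x : X =>
    (S.isBasis_affineOpens.exists_subset_of_mem_open (Set.mem_univ (f.base x)) isOpen_univ)
  have hV' : ∀ x, ∃ W : S.Opens, IsAffineOpen W ∧ (W : Set S) = V x := fun x => by
    obtain ⟨W, hW, hWV⟩ := hV x
    exact ⟨W, hW, hWV⟩
  choose W hW hWV using hV'
  obtain ⟨t, ht⟩ := CompactSpace.elim_nhds_subcover (fun x : X => f.base ⁻¹' (V x))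
    (fun x => (by
      rw [← hWV x]
      exact ((W x).2.preimage f.base.hom.continuous).mem_nhds (by
        change f.base x ∈ (W x : Set S)
        rw [hWV x]
        exact (hxV x).1)))
  refine ⟨⨆ x ∈ t, W x, ?_, ?_⟩
  · have : ((⨆ x ∈ t, W x : S.Opens) : Set S) = ⋃ x ∈ t, (W x : Set S) := by
      simp only [Opens.iSup_mk, Opens.carrier_eq_coe, Opens.coe_mk]
    rw [this]
    exact t.isCompact_biUnion fun x _ => (hW x).isCompact
  · rintro _ ⟨x, rfl⟩
    have hx : x ∈ ⋃ x ∈ t, f.base ⁻¹' (V x) := by rw [ht]; trivial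
    simp only [Set.mem_iUnion, Set.mem_preimage] at hx
    obtain ⟨y, hy, hxy⟩ := hx
    simp only [SetLike.mem_coe, Opens.mem_iSup]
    refine ⟨y, hy, ?_⟩
    change f.base x ∈ (W y : Set S)
    rw [hWV y]
    exact hxy

variable (H : Hyp7383.{u})

include H in
/-- **Stacks 09ZQ** in hypothesis form: closed immersion into a finitely presented `S`-scheme. -/
theorem exists_stage {X S : Scheme.{u}} (f : X ⟶ S) [LocallyOfFiniteType f]
    [CompactSpace X] [QuasiSeparatedSpace X] [QuasiSeparatedSpace S] :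
    ∃ (X' : Scheme.{u}) (f' : X' ⟶ S) (j : X ⟶ X'), LocallyOfFinitePresentation f' ∧
      QuasiCompact f' ∧ QuasiSeparated f' ∧ IsClosedImmersion j ∧ j ≫ f' = f ∧
      (IsSeparated f → IsSeparated f') ∧ CompactSpace X' ∧ QuasiSeparatedSpace X' := by
  obtain ⟨S', hS'c, hS'⟩ := exists_isCompact_opens_range_le f
  haveI : CompactSpace S' := isCompact_iff_compactSpace.mp hS'c
  haveI : QuasiSeparatedSpace S' := quasiSeparatedSpace_of_quasiSeparated S'.ι
  have hr : Set.range f.base ⊆ Set.range S'.ι.base := by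
    rw [Scheme.Opens.range_ι]
    exact hS'
  let f₁ : X ⟶ S' := IsOpenImmersion.lift S'.ι f hr
  have hf₁ : f₁ ≫ S'.ι = f := IsOpenImmersion.lift_fac _ _ _
  haveI : LocallyOfFiniteType (f₁ ≫ S'.ι) := by rw [hf₁]; infer_instance
  haveI : LocallyOfFiniteType f₁ := locallyOfFiniteType_of_comp f₁ S'.ι
  obtain ⟨X', g, j, h1, h2, h3, h4, h5, h6⟩ := exists_stage_of_compact H f₁
  haveI := h1
  haveI := h2
  haveI := h3
  haveI : CompactSpace X' := QuasiCompact.compactSpace_of_compactSpace g
  haveI : QuasiSeparatedSpace X' := quasiSeparatedSpace_of_quasiSeparated g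
  refine ⟨X', g ≫ S'.ι, j, inferInstance, inferInstance, inferInstance, h4, ?_, fun hs => ?_,
    inferInstance, inferInstance⟩
  · rw [← Category.assoc, h5, hf₁]
  · haveI : IsSeparated (f₁ ≫ S'.ι) := by rw [hf₁]; exact hs
    haveI : IsSeparated f₁ := IsSeparated.of_comp f₁ S'.ι
    haveI := h6 inferInstance
    infer_instance

end Groth.Agent.Lib.ApproxCons5
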