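import Groth.Agent.Lib.LimDescentClosedImm

/-!
# Structure maps of a cofiltered limit with closed-immersion transitions

`X = lim Xᵢ` over `S` with closed immersions as transition maps: if `X → S` is a closed immersion
then so is some `Xᵢ → S` (finite type assumed).
-/

set_option autoImplicit false
universe u

open CategoryTheory Limits AlgebraicGeometry

namespace Groth.Agent.Lib.LimStructureMap

open Groth.Agent.Lib.LimDescent

theorem surjective_comp {A B C : CommRingCat.{u}} (a : A ⟶ B) (b : B ⟶ C)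
    (ha : Function.Surjective a) (hb : Function.Surjective b) : Function.Surjective (a ≫ b) := by
  intro z
  obtain ⟨y, rfl⟩ := hb z
  obtain ⟨x, rfl⟩ := ha y
  exact ⟨x, rfl⟩

/-- A morphism is a closed immersion if this holds over an affine open cover, in terms of
sections. -/
theorem isClosedImmersion_of_cover {X Y : Scheme.{u}} (f : X ⟶ Y) {ι : Type*} (U : ι → Y.Opens)
    (hU : iSup U = ⊤) (h1 : ∀ i, IsAffineOpen (U i)) (h2 : ∀ i, IsAffineOpen (f ⁻¹ᵁ U i))
    (h3 : ∀ i, Function.Surjective (f.app (U i))) : IsClosedImmersion f := by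
  refine (IsZariskiLocalAtTarget.iff_of_iSup_eq_top (P := @IsClosedImmersion) U hU).mpr fun i => ?_
  haveI : IsAffine (U i).toScheme := h1 i
  haveI : IsAffine (f ⁻¹ᵁ U i).toScheme := h2 i
  refine IsClosedImmersion.of_surjective_of_isAffine _ ?_
  rw [morphismRestrict_appTop]
  have key : ∀ U' : Y.Opens, U' = U i → Function.Surjective (f.app U') := by
    rintro U' rfl
    exact h3 i
  have hiso : Function.Bijective
      (X.presheaf.map (eqToHom (image_morphismRestrict_preimage f (U i) ⊤)).op) :=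
    ConcreteCategory.bijective_of_isIso _
  exact surjective_comp _ _ (key _ (Scheme.Opens.ι_image_top _)) hiso.2

section secMap

variable {S X X' X'' : Scheme.{u}} (V : S.Opens)

/-- Transition map on sections over the preimages of `V`. -/
noncomputable def secMap (p : X' ⟶ X) (a : X ⟶ S) (a' : X' ⟶ S) (h : p ≫ a = a') :
    Γ(X, a ⁻¹ᵁ V) ⟶ Γ(X', a' ⁻¹ᵁ V) :=
  p.appLE (a ⁻¹ᵁ V) (a' ⁻¹ᵁ V) (by rw [← h, Scheme.Hom.comp_preimage])

theorem app_secMap (p : X' ⟶ X) (a : X ⟶ S) (a' : X' ⟶ S) (h : p ≫ a = a') :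
    a.app V ≫ secMap V p a a' h = a'.app V := by
  subst h
  rw [secMap, Scheme.Hom.app_eq_appLE, Scheme.Hom.appLE_comp_appLE, Scheme.Hom.app_eq_appLE]

theorem secMap_comp (p : X' ⟶ X) (q : X'' ⟶ X') (a : X ⟶ S) (a' : X' ⟶ S) (a'' : X'' ⟶ S)
    (h : p ≫ a = a') (h' : q ≫ a' = a'') (r : X'' ⟶ X) (hr : q ≫ p = r) (h'' : r ≫ a = a'') :
    secMap V p a a' h ≫ secMap V q a' a'' h' = secMap V r a a'' h'' := by
  subst h
  subst h'
  subst hr
  simp only [secMap, Scheme.Hom.appLE_comp_appLE]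

theorem secMap_eq (p : X' ⟶ X) (a : X ⟶ S) (a' : X' ⟶ S) (h : p ≫ a = a') :
    secMap V p a a' h = p.app (a ⁻¹ᵁ V) ≫
      X'.presheaf.map (eqToHom (by rw [← h, Scheme.Hom.comp_preimage])).op := by
  rfl

theorem secMap_surjective (p : X' ⟶ X) (a : X ⟶ S) (a' : X' ⟶ S) (h : p ≫ a = a')
    [IsClosedImmersion p] (hW : IsAffineOpen (a ⁻¹ᵁ V)) :
    Function.Surjective (secMap V p a a' h) := by
  rw [secMap_eq]
  exact surjective_comp _ _ (Scheme.Hom.app_surjective _ _ hW)
    (ConcreteCategory.bijective_of_isIso _).2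

end secMap


section limit

variable {I : Type u} [Category.{u} I] [IsCofiltered I] (D : I ⥤ Scheme.{u}) (c : Cone D)
variable (hc : IsLimit c) {S : Scheme.{u}} (τ : ∀ i, D.obj i ⟶ S)
variable (hτ : ∀ {i j : I} (f : i ⟶ j), D.map f ≫ τ j = τ i)

include hc hτ in
/-- Key step: over an affine open `V ⊆ S` whose preimage in `Xᵢ` is affine, `𝒪(V) → 𝒪(Xₖ|V)`
becomes surjective for all `k` below some stage. -/
theorem exists_surjective_app_stage [∀ {i j : I} (f : i ⟶ j), IsClosedImmersion (D.map f)]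
    (i : I) (V : S.Opens) (hV : IsAffineOpen V) (hW : IsAffineOpen (τ i ⁻¹ᵁ V))
    [LocallyOfFiniteType (τ i)] [IsClosedImmersion (c.π.app i ≫ τ i)] :
    ∃ (j : I) (_ : j ⟶ i), ∀ (k : I) (_ : k ⟶ j), Function.Surjective ((τ k).app V) := by
  classical
  haveI : ∀ {i j : I} (f : i ⟶ j), IsAffineHom (D.map f) := fun f => inferInstance
  have hft : RingHom.FiniteType ((τ i).app V).hom := by
    have := HasRingHomProperty.appLE (P := @LocallyOfFiniteType) (f := τ i) inferInstance
      ⟨V, hV⟩ ⟨_, hW⟩ le_rfl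
    rwa [Scheme.Hom.appLE_eq_app] at this
  obtain ⟨gens, hgens⟩ := exists_finset_generators ((τ i).app V) hft
  let Good : Over i → Γ(D.obj i, τ i ⁻¹ᵁ V) → Prop := fun k x =>
    ∃ a : Γ(S, V), secMap V (D.map k.hom) (τ i) (τ k.left) (hτ _) x = (τ k.left).app V a
  have hmono : ∀ {k k' : Over i} (m : k' ⟶ k) (x : Γ(D.obj i, τ i ⁻¹ᵁ V)),
      Good k x → Good k' x := by
    rintro k k' m x ⟨a, ha⟩
    refine ⟨a, ?_⟩
    have hr : D.map m.left ≫ D.map k.hom = D.map k'.hom := by
      rw [← D.map_comp, Over.w m]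
    rw [← secMap_comp V (D.map k.hom) (D.map m.left) (τ i) (τ k.left) (τ k'.left) (hτ _) (hτ _)
      (D.map k'.hom) hr (hτ _), ← app_secMap V (D.map m.left) (τ k.left) (τ k'.left) (hτ _)]
    exact congr(secMap V (D.map m.left) (τ k.left) (τ k'.left) (hτ _) $ha)
  have hex : ∀ x : Γ(D.obj i, τ i ⁻¹ᵁ V), ∃ k : Over i, Good k x := by
    intro x
    obtain ⟨a, ha⟩ := Scheme.Hom.app_surjective (c.π.app i ≫ τ i) V hV
      ((c.π.app i).app (τ i ⁻¹ᵁ V) x)
    have h' : (c.π.app i).app (τ i ⁻¹ᵁ V) x =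
        (c.π.app i).app (τ i ⁻¹ᵁ V) ((τ i).app V a) := ha.symm
    obtain ⟨j, f, hj⟩ := exists_app_map_eq_map_of_isLimit D c hc hW.isCompact x
      ((τ i).app V a) h'
    refine ⟨Over.mk f, a, ?_⟩
    change secMap V (D.map f) (τ i) (τ j) (hτ _) x = (τ j).app V a
    rw [← app_secMap V (D.map f) (τ i) (τ j) (hτ f), secMap_eq]
    exact congr((D.obj j).presheaf.map _ $hj)
  choose k hk using hex
  obtain ⟨k', hk'⟩ := IsCofiltered.inf_objs_exists (gens.image k)
  have hall : ∀ x ∈ gens, Good k' x := fun x hx => by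
    obtain ⟨m⟩ := hk' (Finset.mem_image_of_mem k hx)
    exact hmono m x (hk x)
  have hall' := hgens (𝟙 _) (secMap V (D.map k'.hom) (τ i) (τ k'.left) (hτ _))
    ((τ k'.left).app V) (by rw [app_secMap, Category.id_comp])
    (fun x hx => by obtain ⟨a, ha⟩ := hall x hx; exact ⟨a, ha.symm⟩)
  have hsurj : Function.Surjective ((τ k'.left).app V) := by
    intro y
    obtain ⟨x, rfl⟩ := secMap_surjective V (D.map k'.hom) (τ i) (τ k'.left) (hτ _) hW y
    exact hall' x
  have hW' : IsAffineOpen (τ k'.left ⁻¹ᵁ V) := by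
    have := hW.preimage (D.map k'.hom)
    rwa [← Scheme.Hom.comp_preimage, hτ] at this
  refine ⟨k'.left, k'.hom, fun l g => ?_⟩
  rw [← app_secMap V (D.map g) (τ k'.left) (τ l) (hτ g)]
  exact surjective_comp _ _ hsurj (secMap_surjective V (D.map g) _ _ (hτ g) hW')

end limit

end Groth.Agent.Lib.LimStructureMap
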