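import Groth.Agent.Lib.ChowGen85d

/-!
# Chow's lemma without finiteness of irreducible components (helper68)

On top of helper85's `ChowData` closure construction (`Lib/ChowGen85a-d`), Chow's lemma over a
quasi-compact quasi-separated base for an arbitrary separated finite type `X`, without the dense
open: by induction on the number of quasi-projective compact opens covering `X`.  The closure of
the common intersection `U` of the opens is dominated by the Chow construction; the complements of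
the opens (reduced closed subschemes covered by fewer opens) are handled by induction; the pieces
are glued by a finite coproduct.

* `Piece f T`: `T ⊆ X` is in the image of a proper `X`-scheme immersed in some `P^n_S`.
* `Piece.union`, `piece_iInf`, `chow_of_cover`, `chow_general`.
-/

set_option autoImplicit false
universe u
open CategoryTheory CategoryTheory.Limits AlgebraicGeometry TopologicalSpace CohB1
open Groth.Agent.Lib.ProjProd Groth.Agent.Lib.H90Chow

namespace Groth.Agent.Lib.ChowAll68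

open Groth.Agent.Lib.ChowGen85

variable {X S : Scheme.{u}}

/-- `T ⊆ X` is covered by a proper `X`-scheme which is immersed in a projective space over `S`. -/
def Piece (f : X ⟶ S) (T : Set X) : Prop :=
  ∃ (n : ℕ) (Y : Scheme.{u}) (p : Y ⟶ X) (j : Y ⟶ ProjSpaceOver n S),
    IsImmersion j ∧ j ≫ ProjSpaceOver.toBase n S = p ≫ f ∧ IsProper p ∧ T ⊆ Set.range p

theorem Piece.mono {f : X ⟶ S} {T T' : Set X} (h : T' ⊆ T) (hT : Piece f T) : Piece f T' := by
  obtain ⟨n, Y, p, j, hj, hjf, hp, hT⟩ := hT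
  exact ⟨n, Y, p, j, hj, hjf, hp, h.trans hT⟩

theorem isProper_coprodDesc {U V : Scheme.{u}} (p₁ : U ⟶ X) (p₂ : V ⟶ X) [IsProper p₁]
    [IsProper p₂] : IsProper (coprod.desc p₁ p₂) := by
  have h1 : coprod.desc p₁ p₂ = coprod.map p₁ p₂ ≫ coprod.desc (𝟙 X) (𝟙 X) := by
    rw [coprod.map_desc, Category.comp_id, Category.comp_id]
  rw [h1]
  have : IsProper (coprod.map p₁ p₂) :=
    IsZariskiLocalAtTarget.coprodMap (P := @IsProper) p₁ p₂ inferInstance inferInstance
  infer_instance

theorem Piece.union {f : X ⟶ S} {T₁ T₂ : Set X} (h₁ : Piece f T₁) (h₂ : Piece f T₂) :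
    Piece f (T₁ ∪ T₂) := by
  obtain ⟨n₁, Y₁, p₁, j₁, hj₁, hj₁f, hp₁, hT₁⟩ := h₁
  obtain ⟨n₂, Y₂, p₂, j₂, hj₂, hj₂f, hp₂, hT₂⟩ := h₂
  let Y : Scheme.{u} := Y₁ ⨿ Y₂
  let p : Y ⟶ X := coprod.desc p₁ p₂
  let g : Y ⟶ S := p ≫ f
  have hp : IsProper p := isProper_coprodDesc p₁ p₂
  let W₁ : Y.Opens := (coprod.inl : Y₁ ⟶ Y).opensRange
  let W₂ : Y.Opens := (coprod.inr : Y₂ ⟶ Y).opensRange
  have hcompl : IsCompl W₁ W₂ := isCompl_opensRange_inl_inr Y₁ Y₂
  have hg₁ : Good g W₁ := by
    refine ⟨n₁, (coprod.inl : Y₁ ⟶ Y).isoOpensRange.inv ≫ j₁, inferInstance, ?_⟩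
    rw [Category.assoc, hj₁f]
    have h1 : (coprod.inl : Y₁ ⟶ Y) ≫ g = p₁ ≫ f := by
      change coprod.inl ≫ coprod.desc p₁ p₂ ≫ f = _
      rw [coprod.inl_desc_assoc]
    rw [← h1, Scheme.Hom.isoOpensRange_inv_comp_assoc]
  have hg₂ : Good g W₂ := by
    refine ⟨n₂, (coprod.inr : Y₂ ⟶ Y).isoOpensRange.inv ≫ j₂, inferInstance, ?_⟩
    rw [Category.assoc, hj₂f]
    have h1 : (coprod.inr : Y₂ ⟶ Y) ≫ g = p₂ ≫ f := by
      change coprod.inr ≫ coprod.desc p₁ p₂ ≫ f = _
      rw [coprod.inr_desc_assoc]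
    rw [← h1, Scheme.Hom.isoOpensRange_inv_comp_assoc]
  have hg : Good g (W₁ ⊔ W₂) := Good.sup hcompl.disjoint hg₁ hg₂
  rw [hcompl.sup_eq_top] at hg
  obtain ⟨N, j', hj', hj'g⟩ := hg
  refine ⟨N, Y, p, Y.topIso.inv ≫ j', inferInstance, ?_, hp, ?_⟩
  · rw [Category.assoc, hj'g, ← Category.assoc]
    have : Y.topIso.inv ≫ (⊤ : Y.Opens).ι = 𝟙 Y := Y.toIso_inv_ι
    rw [this, Category.id_comp]
  · rintro x (hx | hx)
    · obtain ⟨y, rfl⟩ := hT₁ hx
      refine ⟨(coprod.inl : Y₁ ⟶ Y) y, ?_⟩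
      rw [← Scheme.Hom.comp_apply]
      change (coprod.inl ≫ coprod.desc p₁ p₂) y = _
      rw [coprod.inl_desc]
    · obtain ⟨y, rfl⟩ := hT₂ hx
      refine ⟨(coprod.inr : Y₂ ⟶ Y) y, ?_⟩
      rw [← Scheme.Hom.comp_apply]
      change (coprod.inr ≫ coprod.desc p₁ p₂) y = _
      rw [coprod.inr_desc]

/-- The Chow construction covers the common intersection of a finite cover by compact
quasi-projective opens. -/
theorem piece_iInf [QuasiSeparatedSpace S] (f : X ⟶ S) [IsSeparated f] [LocallyOfFiniteType f]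
    (r : ℕ) (Uo : Fin (r + 1) → X.Opens) (hUc : ∀ i, IsCompact (Uo i : Set X))
    (him : ∀ i, Good f (Uo i)) (cov : ⨆ i, Uo i = ⊤) :
    Piece f ((⨅ i, Uo i : X.Opens) : Set X) := by
  classical
  have : QuasiSeparatedSpace X := quasiSeparatedSpace_of_quasiSeparated f
  have hXc : CompactSpace X := by
    refine ⟨?_⟩
    have h1 : (Set.univ : Set X) = ⋃ i, (Uo i : Set X) := by
      have := congrArg (fun W : X.Opens => (W : Set X)) cov
      simp only [Opens.coe_iSup, Opens.coe_top] at this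
      exact this.symm
    rw [h1]
    exact isCompact_iUnion hUc
  have : ∀ i, CompactSpace (Uo i).toScheme := fun i => isCompact_iff_compactSpace.mp (hUc i)
  choose n j hjimm hjcomp using him
  have : ∀ i, IsProper (ProjSpaceOver.toBase (n i) S) :=
    fun i => Groth.Agent.Lib.ProjSpaceProper.isProper_toBase (n i) S
  have : ∀ i, QuasiSeparatedSpace (ProjSpaceOver (n i) S) :=
    fun i => quasiSeparatedSpace_of_quasiSeparated (ProjSpaceOver.toBase (n i) S)
  have : ∀ i, IsImmersion (j i) := hjimm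
  have : ∀ i, QuasiCompact (j i) := fun i => inferInstance
  let P : Fin (r + 1) → Scheme.{u} := fun i => (j i).image
  let c : ∀ i, P i ⟶ ProjSpaceOver (n i) S := fun i => (j i).imageι
  let q : ∀ i, P i ⟶ S := fun i => c i ≫ ProjSpaceOver.toBase (n i) S
  obtain ⟨D, N, σ, hσ, hσq⟩ := exists_finProd_segre_over S r P q n c
    (fun i => inferInstance) (fun i => rfl)
  have := hσ
  have : IsProper (ProjSpaceOver.toBase N S) :=
    Groth.Agent.Lib.ProjSpaceProper.isProper_toBase N S
  have hDp : IsProper D.hom := by rw [← hσq]; infer_instance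
  have : ∀ i, IsProper (q i) := fun i => inferInstance
  have hcpt : CompactSpace ↥(⨅ i, Uo i : X.Opens) := by
    refine isCompact_iff_compactSpace.mp ?_
    rw [← Finset.inf_univ_eq_iInf]
    exact isCompact_finset_inf _ _ hUc
  have hsepD : IsSeparated D.hom := inferInstance
  have hqs1 : QuasiSeparated (pullback.fst f D.hom) := inferInstance
  have hqs2 : QuasiSeparated (pullback.fst f D.hom ≫ f) := inferInstance
  have hqs : QuasiSeparatedSpace ↥(pullback f D.hom) :=
    quasiSeparatedSpace_of_quasiSeparated (pullback.fst f D.hom ≫ f)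
  let C : ChowGen85.ChowData S X :=
    { f := f, r := r, P := P, q := q, D := D, Uo := Uo
      t := fun i => (j i).toImage
      ht := fun i => by
        change (j i).toImage ≫ (j i).imageι ≫ _ = _
        rw [← Category.assoc, Scheme.Hom.toImage_imageι, hjcomp]
      sepf := inferInstance
      sepq := fun i => inferInstance
      sepD := inferInstance
      ot := fun i => inferInstance
      cov := cov
      cpt := hcpt
      qs := hqs }
  have : IsProper C.D.hom := hDp
  have := C.isImmersion_φ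
  refine ⟨N, C.X', C.π, C.φ ≫ σ, inferInstance, ?_, C.isProper_π, ?_⟩
  · rw [Category.assoc, hσq]
    exact C.π_f.symm
  · intro x hx
    have h2 : ∀ y : C.U.toScheme, C.π (C.θ y) = C.U.ι y := fun y => by
      rw [← Scheme.Hom.comp_apply, C.θ_π]
    exact ⟨C.θ (⟨x, hx⟩ : C.U), h2 _⟩

theorem Good.comap_isClosedImmersion {Z : Scheme.{u}} (i : Z ⟶ X) [IsClosedImmersion i]
    {f : X ⟶ S} {W : X.Opens} (hW : Good f W) : Good (i ≫ f) (i ⁻¹ᵁ W) := by
  obtain ⟨n, j, hj, hjf⟩ := hW
  have : IsClosedImmersion (i ∣_ W) := inferInstance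
  refine ⟨n, (i ∣_ W) ≫ j, inferInstance, ?_⟩
  rw [Category.assoc, hjf, ← Category.assoc, morphismRestrict_ι, Category.assoc]

theorem piece_of_isClosedImmersion {Z : Scheme.{u}} (i : Z ⟶ X) [IsClosedImmersion i]
    (f : X ⟶ S) (h : Piece (i ≫ f) Set.univ) : Piece f (Set.range i) := by
  obtain ⟨n, Y, p, j, hj, hjf, hp, hT⟩ := h
  refine ⟨n, Y, p ≫ i, j, hj, by rw [hjf, Category.assoc], inferInstance, ?_⟩
  rintro _ ⟨z, rfl⟩
  obtain ⟨y, rfl⟩ := hT (Set.mem_univ z)
  exact ⟨y, by rw [Scheme.Hom.comp_apply]⟩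

theorem piece_univ_of_isEmpty (f : X ⟶ S) [IsEmpty X] : Piece f Set.univ :=
  ⟨0, X, 𝟙 X, isInitialOfIsEmpty.to _, inferInstance, isInitialOfIsEmpty.hom_ext _ _,
    inferInstance, fun x _ => ⟨x, rfl⟩⟩

/-- Chow's lemma for a scheme covered by at most `k` compact quasi-projective opens. -/
theorem chow_of_cover [QuasiSeparatedSpace S] : ∀ (k : ℕ) (X : Scheme.{u}) (f : X ⟶ S)
    [IsSeparated f] [LocallyOfFiniteType f] (𝒰 : Finset X.Opens), 𝒰.card ≤ k →
    (∀ W ∈ 𝒰, IsCompact (W : Set X) ∧ Good f W) → (⨆ W ∈ 𝒰, W) = ⊤ → Piece f Set.univ := by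
  classical
  intro k
  induction k with
  | zero =>
    intro X f _ _ 𝒰 hcard _ hcov
    have h𝒰 : 𝒰 = ∅ := Finset.card_eq_zero.mp (Nat.le_zero.mp hcard)
    subst h𝒰
    have hX : IsEmpty X := by
      refine ⟨fun x => ?_⟩
      have hx : x ∈ (⊤ : X.Opens) := trivial
      rw [← hcov] at hx
      simp at hx
    exact piece_univ_of_isEmpty f
  | succ k ih =>
    intro X f _ _ 𝒰 hcard h𝒰 hcov
    rcases 𝒰.eq_empty_or_nonempty with hemp | hne
    · subst hemp
      have hX : IsEmpty X := by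
        refine ⟨fun x => ?_⟩
        have hx : x ∈ (⊤ : X.Opens) := trivial
        rw [← hcov] at hx
        simp at hx
      exact piece_univ_of_isEmpty f
    -- the pieces over the complements
    have hcompl : ∀ W ∈ 𝒰, Piece f ((W : Set X)ᶜ) := by
      intro W hW
      let Zc : Closeds X := ⟨(W : Set X)ᶜ, W.isOpen.isClosed_compl⟩
      let I : X.IdealSheafData := Scheme.IdealSheafData.vanishingIdeal Zc
      have hrange : Set.range I.subschemeι = (W : Set X)ᶜ := by
        rw [I.range_subschemeι]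
        simp [I, Zc]
      let 𝒰' : Finset I.subscheme.Opens := (𝒰.erase W).image (fun W' => I.subschemeι ⁻¹ᵁ W')
      have hcard' : 𝒰'.card ≤ k := by
        refine Finset.card_image_le.trans ?_
        rw [Finset.card_erase_of_mem hW]
        omega
      have h𝒰' : ∀ V ∈ 𝒰', IsCompact (V : Set I.subscheme) ∧ Good (I.subschemeι ≫ f) V := by
        intro V hV
        obtain ⟨W', hW', rfl⟩ := Finset.mem_image.mp hV
        have hW'𝒰 : W' ∈ 𝒰 := Finset.mem_of_mem_erase hW'
        refine ⟨?_, Good.comap_isClosedImmersion I.subschemeι (h𝒰 W' hW'𝒰).2⟩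
        exact I.subschemeι.isClosedEmbedding.isCompact_preimage (h𝒰 W' hW'𝒰).1
      have hcov' : (⨆ V ∈ 𝒰', V) = ⊤ := by
        rw [eq_top_iff]
        intro z _
        have hz : I.subschemeι z ∈ (⊤ : X.Opens) := trivial
        rw [← hcov] at hz
        simp only [Opens.mem_iSup] at hz
        obtain ⟨W', hW', hzW'⟩ := hz
        have hne' : W' ≠ W := by
          rintro rfl
          have h1 : I.subschemeι z ∈ Set.range I.subschemeι := Set.mem_range_self z
          rw [hrange] at h1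
          exact h1 hzW'
        simp only [Opens.mem_iSup]
        exact ⟨I.subschemeι ⁻¹ᵁ W', Finset.mem_image.mpr ⟨W', Finset.mem_erase.mpr ⟨hne', hW'⟩, rfl⟩,
          hzW'⟩
      have h1 := ih I.subscheme (I.subschemeι ≫ f) 𝒰' hcard' h𝒰' hcov'
      have h2 := piece_of_isClosedImmersion I.subschemeι f h1
      rwa [hrange] at h2
    -- the piece over the common intersection
    obtain ⟨r, hr⟩ := Nat.exists_eq_succ_of_ne_zero (Finset.card_ne_zero.mpr hne)
    let e : Fin (r + 1) ≃ ↥𝒰 := (finCongr hr.symm).trans 𝒰.equivFin.symm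
    let Uo : Fin (r + 1) → X.Opens := fun i => (e i).1
    have cov : ⨆ i, Uo i = ⊤ := by
      rw [eq_top_iff]
      intro x _
      have hx : x ∈ (⊤ : X.Opens) := trivial
      rw [← hcov] at hx
      simp only [Opens.mem_iSup] at hx
      obtain ⟨W, hW, hxW⟩ := hx
      refine Opens.mem_iSup.mpr ⟨e.symm ⟨W, hW⟩, ?_⟩
      change x ∈ (e (e.symm ⟨W, hW⟩)).1
      rw [Equiv.apply_symm_apply]
      exact hxW
    have h0 : Piece f ((⨅ i, Uo i : X.Opens) : Set X) :=
      piece_iInf f r Uo (fun i => (h𝒰 _ (e i).2).1) (fun i => (h𝒰 _ (e i).2).2) cov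
    -- assemble
    have hall : ∀ s : Finset X.Opens, s ⊆ 𝒰 →
        Piece f (((⨅ i, Uo i : X.Opens) : Set X) ∪ ⋃ W ∈ s, (W : Set X)ᶜ) := by
      intro s
      induction s using Finset.induction_on with
      | empty => intro _; simpa using h0
      | insert W s _ ihs =>
        intro hs
        have h1 := ihs (fun _ h => hs (Finset.mem_insert_of_mem h))
        have h2 := hcompl W (hs (Finset.mem_insert_self W s))
        refine (h1.union h2).mono ?_
        intro x hx
        rcases hx with hx | hx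
        · exact Or.inl (Or.inl hx)
        · simp only [Finset.mem_insert, Set.mem_iUnion] at hx
          obtain ⟨W', hW' | hW', hxW'⟩ := hx
          · subst hW'
            exact Or.inr hxW'
          · exact Or.inl (Or.inr (Set.mem_iUnion₂.mpr ⟨W', hW', hxW'⟩))
    refine (hall 𝒰 subset_rfl).mono ?_
    intro x _
    by_cases hx : ∀ W ∈ 𝒰, x ∈ W
    · refine Or.inl ?_
      rw [Opens.coe_iInf]
      exact Set.mem_iInter.mpr (fun i => hx _ (e i).2)
    · push Not at hx
      obtain ⟨W, hW, hxW⟩ := hx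
      exact Or.inr (Set.mem_iUnion₂.mpr ⟨W, hW, hxW⟩)

/-- **Chow's lemma** over a quasi-compact quasi-separated base, for an arbitrary separated
morphism of finite type (no hypothesis on irreducible components). -/
theorem chow_general (f : X ⟶ S) [CompactSpace S] [QuasiSeparatedSpace S]
    [IsSeparated f] [LocallyOfFiniteType f] [QuasiCompact f] :
    ∃ (n : ℕ) (X' : Scheme.{u}) (π : X' ⟶ X) (j : X' ⟶ ProjSpaceOver n S),
      IsImmersion j ∧ j ≫ ProjSpaceOver.toBase n S = π ≫ f ∧ IsProper π ∧ Surjective π := by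
  classical
  have hX : CompactSpace X := QuasiCompact.compactSpace_of_compactSpace f
  choose W hxW _ hWaff hWgood using fun x : X => exists_good_nhds f x ⊤ trivial
  obtain ⟨t, ht⟩ := CompactSpace.elim_nhds_subcover (fun x => (W x : Set X))
    (fun x => (W x).isOpen.mem_nhds (hxW x))
  let 𝒰 : Finset X.Opens := t.image W
  have h𝒰 : ∀ V ∈ 𝒰, IsCompact (V : Set X) ∧ Good f V := by
    intro V hV
    obtain ⟨x, _, rfl⟩ := Finset.mem_image.mp hV
    exact ⟨(hWaff x).isCompact, hWgood x⟩
  have hcov : (⨆ V ∈ 𝒰, V) = ⊤ := by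
    rw [eq_top_iff]
    intro z _
    have hz : z ∈ ⋃ x ∈ t, (W x : Set X) := by rw [ht]; trivial
    obtain ⟨x, hx, hzx⟩ := Set.mem_iUnion₂.mp hz
    simp only [Opens.mem_iSup]
    exact ⟨W x, Finset.mem_image.mpr ⟨x, hx, rfl⟩, hzx⟩
  obtain ⟨n, Y, p, j, hj, hjf, hp, hT⟩ := chow_of_cover 𝒰.card X f 𝒰 le_rfl h𝒰 hcov
  exact ⟨n, Y, p, j, hj, hjf, hp, ⟨fun x => hT (Set.mem_univ x)⟩⟩

end Groth.Agent.Lib.ChowAll68
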