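import Groth.Agent.Lib.ApproxCons5A
import Groth.Agent.Lib.ProjSpaceProper
import Groth.Agent.S0594
import Groth.Agent.S7409
import Mathlib.AlgebraicGeometry.ZariskisMainTheorem

/-!
# Consumers of Noetherian approximation, part B (helper5): a proper stage (Stacks 0A0N-type)

`p' : X' ⟶ S` separated of finite type over a qcqs base, `X = lim X_i` a directed limit (in
`Over X'`) of closed subschemes of `X'` with `X → S` proper. Then some `X_i → S` is proper
(via Chow's lemma and descent of closed immersions to a stage).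
-/

set_option autoImplicit false
set_option linter.style.haveILetI false
universe u

open CategoryTheory CategoryTheory.Limits AlgebraicGeometry TopologicalSpace Opposite

namespace Groth.Agent.Lib.ApproxCons5

set_option maxHeartbeats 1000000 in
set_option backward.isDefEq.respectTransparency false in
theorem exists_proper_stage {X' S : Scheme.{u}} (p' : X' ⟶ S) [IsSeparated p']
    [LocallyOfFiniteType p'] [QuasiCompact p'] [CompactSpace S] [QuasiSeparatedSpace S]
    {I : Type u} [Preorder I] [IsDirected I (fun a b => a ≤ b)] [Nonempty I]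
    (D : Iᵒᵖ ⥤ Over X') (c : Cone D) (hc : IsLimit c)
    (hD : ∀ i, IsClosedImmersion (D.obj i).hom) (hcl : IsClosedImmersion c.pt.hom)
    (hprop : IsProper (c.pt.hom ≫ p')) :
    ∃ i, IsProper ((D.obj i).hom ≫ p') := by
  haveI := hD
  haveI := hcl
  haveI := hprop
  haveI : CompactSpace X' := QuasiCompact.compactSpace_of_compactSpace p'
  haveI : QuasiSeparatedSpace X' := quasiSeparatedSpace_of_quasiSeparated p'
  obtain ⟨n, X'', π, jP, hjP, hw, hπ, hπs⟩ := Groth.Agent.S7409.result p'
  haveI := hjP
  haveI := hπ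
  haveI := hπs
  let P := CohB1.ProjSpaceOver n S
  let q : P ⟶ S := CohB1.ProjSpaceOver.toBase n S
  haveI : IsProper q := Groth.Agent.Lib.ProjSpaceProper.isProper_toBase n S
  haveI : CompactSpace P := QuasiCompact.compactSpace_of_compactSpace q
  haveI : QuasiSeparatedSpace P := quasiSeparatedSpace_of_quasiSeparated q
  haveI : CompactSpace X'' := QuasiCompact.compactSpace_of_compactSpace π
  haveI : QuasiSeparatedSpace X'' := quasiSeparatedSpace_of_quasiSeparated π
  -- pull the diagram back to `X''`
  let D'' : Iᵒᵖ ⥤ Over X'' := D ⋙ Over.pullback π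
  let c'' : Cone D'' := (Over.pullback π).mapCone c
  have hc'' : IsLimit c'' := isLimitOfPreserves (Over.pullback π) hc
  let D₃ : Iᵒᵖ ⥤ Scheme.{u} := D'' ⋙ Over.forget X''
  let c₃ : Cone D₃ := (Over.forget X'').mapCone c''
  have hc₃ : IsLimit c₃ := isLimitOfPreserves (Over.forget X'') hc''
  haveI hcl'' : ∀ i, IsClosedImmersion (D''.obj i).hom := fun i =>
    inferInstanceAs (IsClosedImmersion (pullback.snd (D.obj i).hom π))
  haveI : ∀ i, CompactSpace (D₃.obj i) := fun i =>
    QuasiCompact.compactSpace_of_compactSpace (D''.obj i).hom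
  haveI : ∀ i, QuasiSeparatedSpace (D₃.obj i) := fun i =>
    quasiSeparatedSpace_of_quasiSeparated (D''.obj i).hom
  haveI : ∀ (i j : Iᵒᵖ) (a : i ⟶ j), IsClosedImmersion (D₃.map a) := fun i j a => by
    have h1 : D₃.map a ≫ (D''.obj j).hom = (D''.obj i).hom := Over.w (D''.map a)
    haveI : IsClosedImmersion (D₃.map a ≫ (D''.obj j).hom) := by rw [h1]; infer_instance
    exact IsClosedImmersion.of_comp (D₃.map a) (D''.obj j).hom
  let t : D₃ ⟶ (Functor.const Iᵒᵖ).obj P :=
    { app := fun i => (D''.obj i).hom ≫ jP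
      naturality := fun i j a => by
        have h1 : D₃.map a ≫ (D''.obj j).hom = (D''.obj i).hom := Over.w (D''.map a)
        simp only [Functor.const_obj_obj, Functor.const_obj_map, Category.comp_id]
        rw [← Category.assoc, h1] }
  haveI : ∀ i, LocallyOfFiniteType (t.app i) := fun i =>
    inferInstanceAs (LocallyOfFiniteType ((D''.obj i).hom ≫ jP))
  let i₀ : Iᵒᵖ := op (Classical.arbitrary I)
  -- the limit maps to `P` by a closed immersion
  have hlim : c₃.π.app i₀ ≫ t.app i₀ = c''.pt.hom ≫ jP := by
    change (c''.π.app i₀).left ≫ (D''.obj i₀).hom ≫ jP = _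
    rw [← Category.assoc, Over.w (c''.π.app i₀)]
    rfl
  haveI hcl₂ : IsClosedImmersion c''.pt.hom :=
    inferInstanceAs (IsClosedImmersion (pullback.snd c.pt.hom π))
  haveI : IsClosedImmersion (c₃.π.app i₀ ≫ t.app i₀) := by
    rw [hlim]
    have hproper : IsProper ((c''.pt.hom ≫ jP) ≫ q) := by
      have h1 : (c''.pt.hom ≫ jP) ≫ q = pullback.fst c.pt.hom π ≫ (c.pt.hom ≫ p') := by
        rw [Category.assoc, hw, ← Category.assoc, ← Category.assoc]
        congr 1
        exact (pullback.condition (f := c.pt.hom) (g := π)).symm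
      rw [h1]
      infer_instance
    haveI : IsProper (c''.pt.hom ≫ jP) := IsProper.of_comp _ q
    exact (IsClosedImmersion.iff_isProper_and_mono _).mpr ⟨inferInstance, inferInstance⟩
  obtain ⟨i, hi⟩ := Groth.Agent.S0594.result P D₃ t c₃ hc₃ i₀
  refine ⟨i, ?_⟩
  -- `X''_i → S` is proper and `X''_i → X_i` is surjective
  have hti : t.app i = (D''.obj i).hom ≫ jP := rfl
  haveI : IsClosedImmersion ((D''.obj i).hom ≫ jP) := hti ▸ hi
  have hprop_i : IsProper (((D''.obj i).hom ≫ jP) ≫ q) := inferInstance
  have h2 : ((D''.obj i).hom ≫ jP) ≫ q = pullback.fst (D.obj i).hom π ≫ ((D.obj i).hom ≫ p') := by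
    rw [Category.assoc, hw, ← Category.assoc, ← Category.assoc]
    congr 1
    exact (pullback.condition (f := (D.obj i).hom) (g := π)).symm
  rw [h2] at hprop_i
  haveI : Surjective (pullback.fst (D.obj i).hom π) := inferInstance
  haveI : UniversallyClosed (pullback.fst (D.obj i).hom π ≫ ((D.obj i).hom ≫ p')) :=
    hprop_i.toUniversallyClosed
  haveI : UniversallyClosed ((D.obj i).hom ≫ p') :=
    UniversallyClosed.of_comp_surjective (pullback.fst (D.obj i).hom π) _
  exact ⟨⟩

end Groth.Agent.Lib.ApproxCons5
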