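import Mathlib

/-!
# Closed immersions of finite presentation

A closed immersion of schemes is locally of finite presentation iff its ideal sheaf is of finite type
(on every affine open).
-/

set_option autoImplicit false
universe u
open CategoryTheory CategoryTheory.Limits AlgebraicGeometry

namespace Groth.Agent.Lib.H69ClosedLfp

/-- A surjective finitely presented ring hom has finitely generated kernel. -/
theorem ker_fg_of_finitePresentation_of_surjective {A B : Type u} [CommRing A] [CommRing B] (f : A →+* B)
    (hf : f.FinitePresentation) (hs : Function.Surjective f) : (RingHom.ker f).FG := by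
  letI := f.toAlgebra
  haveI : Algebra.FinitePresentation A B := hf
  exact Algebra.FinitePresentation.ker_fG_of_surjective (Algebra.ofId A B) hs

theorem lfp_iff_ker_fg {W V : Scheme.{u}} (c : W ⟶ V) [IsClosedImmersion c] :
    LocallyOfFinitePresentation c ↔ ∀ V₀ : V.affineOpens, (c.ker.ideal V₀).FG := by
  constructor
  · intro H V₀
    have hW : IsAffineOpen (c ⁻¹ᵁ V₀.1) := V₀.2.preimage c
    have h1 := HasRingHomProperty.appLE @LocallyOfFinitePresentation c H V₀ ⟨_, hW⟩ le_rfl
    rw [Scheme.Hom.ker_apply]
    have h2 : c.appLE V₀.1 (c ⁻¹ᵁ V₀.1) le_rfl = c.app V₀.1 := (Scheme.Hom.app_eq_appLE c).symm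
    rw [h2] at h1
    exact ker_fg_of_finitePresentation_of_surjective _ h1 (c.app_surjective V₀.1 V₀.2)
  · intro H
    rw [HasRingHomProperty.iff_appLE (P := @LocallyOfFinitePresentation)]
    intro U V' e
    have hW : IsAffineOpen (c ⁻¹ᵁ U.1) := U.2.preimage c
    have h1 : (c.app U.1).hom.FinitePresentation := by
      refine RingHom.FinitePresentation.of_surjective _ (c.app_surjective U.1 U.2) ?_
      have := H U
      rwa [Scheme.Hom.ker_apply] at this
    have h2 : ((𝟙 W : W ⟶ W).appLE (c ⁻¹ᵁ U.1) V'.1 e).hom.FinitePresentation :=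
      HasRingHomProperty.appLE @LocallyOfFinitePresentation (𝟙 W) inferInstance ⟨_, hW⟩ V' e
    have h3 : c.appLE U.1 V'.1 e = c.app U.1 ≫ (𝟙 W : W ⟶ W).appLE (c ⁻¹ᵁ U.1) V'.1 e := by
      have := Scheme.Hom.comp_appLE (𝟙 W) c U.1 V'.1 e
      simpa using this
    rw [h3]
    exact h2.comp h1

end Groth.Agent.Lib.H69ClosedLfp
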