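import Mathlib.AlgebraicGeometry.IdealSheaf.Functorial
import Mathlib.AlgebraicGeometry.Morphisms.QuasiSeparated
import Mathlib.RingTheory.Localization.Finiteness
import Mathlib.RingTheory.Ideal.Colon

/-!
# Extension of finite type ideal sheaves on qcqs schemes (helper68)

`IdealSheafData` version of EGA I 9.4.7 / Stacks 01PF.

* `ideal_le_of_forall_exists_basicOpen`: `I(W) ≤ J(W)` can be checked on a cover of `W` by basic
  opens.
* `fg_of_forall_exists_basicOpen`: finite generation of `I(W)` can be checked on such a cover.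
-/

set_option autoImplicit false
universe u
open CategoryTheory CategoryTheory.Limits AlgebraicGeometry TopologicalSpace

namespace Groth.Agent.Lib.IdealExt68

variable {X : Scheme.{u}}

/-- If `res s ∈ map res J` on the basic open `D(f)` of the affine open `W`, some `f ^ n * s ∈ J`. -/
theorem exists_pow_mul_mem (W : X.affineOpens) (f s : Γ(X, W.1)) (J : Ideal Γ(X, W.1))
    (h : (X.presheaf.map (homOfLE (X.basicOpen_le f)).op).hom s ∈
      J.map (X.presheaf.map (homOfLE (X.basicOpen_le f)).op).hom) :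
    ∃ n : ℕ, f ^ n * s ∈ J := by
  have hloc : IsLocalization.Away f Γ(X, X.basicOpen f) := W.2.isLocalization_basicOpen f
  have h' : algebraMap Γ(X, W.1) Γ(X, X.basicOpen f) s ∈
      J.map (algebraMap Γ(X, W.1) Γ(X, X.basicOpen f)) := h
  obtain ⟨⟨⟨a, ha⟩, ⟨m, n, rfl⟩⟩, ham⟩ :=
    (IsLocalization.mem_map_algebraMap_iff (Submonoid.powers f) _).1 h'
  simp only at ham
  rw [← map_mul, IsLocalization.eq_iff_exists (Submonoid.powers f)] at ham
  obtain ⟨⟨c, k, rfl⟩, hc⟩ := ham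
  simp only at hc
  refine ⟨k + n, ?_⟩
  have : f ^ (k + n) * s = f ^ k * a := by rw [pow_add, mul_assoc, mul_comm (f ^ n) s, hc]
  rw [this]
  exact J.mul_mem_left _ ha

/-- `I(W) ≤ J(W)` can be checked locally on basic opens of the affine open `W`. -/
theorem ideal_le_of_forall_exists_basicOpen (I J : X.IdealSheafData) (W : X.affineOpens)
    (h : ∀ x ∈ W.1, ∃ f : Γ(X, W.1), x ∈ X.basicOpen f ∧
      I.ideal (X.affineBasicOpen f) ≤ J.ideal (X.affineBasicOpen f)) :
    I.ideal W ≤ J.ideal W := by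
  intro s hs
  let t : Set Γ(X, W.1) := {f | I.ideal (X.affineBasicOpen f) ≤ J.ideal (X.affineBasicOpen f)}
  have ht : Ideal.span t = ⊤ := by
    rw [← W.2.self_le_iSup_basicOpen_iff]
    intro x hx
    obtain ⟨f, hxf, hf⟩ := h x hx
    exact Opens.mem_iSup.mpr ⟨⟨f, hf⟩, hxf⟩
  let K : Ideal Γ(X, W.1) := (J.ideal W).colon {s}
  have htK : t ⊆ K.radical := by
    intro f hf
    have h1 : (X.presheaf.map (homOfLE (X.basicOpen_le f)).op).hom s ∈
        J.ideal (X.affineBasicOpen f) := by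
      apply hf
      rw [← I.map_ideal_basicOpen W f]
      exact Ideal.mem_map_of_mem _ hs
    rw [← J.map_ideal_basicOpen W f] at h1
    obtain ⟨n, hn⟩ := exists_pow_mul_mem W f s (J.ideal W) h1
    exact ⟨n, Submodule.mem_colon_singleton.2 hn⟩
  have hK : K = ⊤ := by
    rw [← Ideal.radical_eq_top, eq_top_iff, ← ht]
    exact Ideal.span_le.2 htK
  have h1 : (1 : Γ(X, W.1)) ∈ K := hK ▸ Submodule.mem_top
  have h2 := Submodule.mem_colon_singleton.1 h1
  simpa using h2

/-- Finite generation of `I(W)` can be checked locally on basic opens of the affine open `W`. -/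
theorem fg_of_forall_exists_basicOpen (I : X.IdealSheafData) (W : X.affineOpens)
    (h : ∀ x ∈ W.1, ∃ f : Γ(X, W.1), x ∈ X.basicOpen f ∧ (I.ideal (X.affineBasicOpen f)).FG) :
    (I.ideal W).FG := by
  let t : Set Γ(X, W.1) := {f | (I.ideal (X.affineBasicOpen f)).FG}
  have ht : Ideal.span t = ⊤ := by
    rw [← W.2.self_le_iSup_basicOpen_iff]
    intro x hx
    obtain ⟨f, hxf, hf⟩ := h x hx
    exact Opens.mem_iSup.mpr ⟨⟨f, hf⟩, hxf⟩
  apply Ideal.fg_of_localizationSpan t ht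
  rintro ⟨f, hf⟩
  have hloc : IsLocalization.Away f Γ(X, X.basicOpen f) := W.2.isLocalization_basicOpen f
  have hfg : (I.ideal (X.affineBasicOpen f)).FG := hf
  rw [← I.map_ideal_basicOpen W f] at hfg
  let e : Γ(X, X.basicOpen f) ≃ₐ[Γ(X, W.1)] Localization.Away f :=
    IsLocalization.algEquiv (Submonoid.powers f) _ _
  have hcomp : (e : Γ(X, X.basicOpen f) →+* Localization.Away f).comp
      (X.presheaf.map (homOfLE (X.basicOpen_le f)).op).hom =
        algebraMap Γ(X, W.1) (Localization.Away f) := by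
    ext x
    exact e.commutes x
  have key : Ideal.map (algebraMap Γ(X, W.1) (Localization.Away f)) (I.ideal W) =
      Ideal.map (e : Γ(X, X.basicOpen f) →+* Localization.Away f)
        (Ideal.map (X.presheaf.map (homOfLE (X.basicOpen_le f)).op).hom (I.ideal W)) := by
    rw [Ideal.map_map, hcomp]
  change (Ideal.map (algebraMap Γ(X, W.1) (Localization.Away f)) (I.ideal W)).FG
  rw [key]
  exact hfg.map _

/-- If `I.map φ` is finitely generated, it is the image of a finitely generated sub-ideal of `I`. -/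
theorem exists_fg_le_map_eq {R S : Type*} [CommRing R] [CommRing S] (φ : R →+* S) (I : Ideal R)
    (h : (I.map φ).FG) : ∃ J : Ideal R, J ≤ I ∧ J.FG ∧ J.map φ = I.map φ := by
  classical
  have h' : (Submodule.span S (φ '' (I : Set R))).FG := h
  obtain ⟨s', hs', hspan⟩ := (Submodule.fg_span_iff_fg_span_finset_subset _).1 h'
  obtain ⟨s'', hs'', rfl⟩ := Finset.subset_set_image_iff.1 hs'
  refine ⟨Ideal.span (s'' : Set R), Ideal.span_le.2 hs'', ⟨s'', rfl⟩, ?_⟩
  rw [Ideal.map_span]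
  change _ = Submodule.span S (φ '' (I : Set R))
  rw [hspan, Finset.coe_image]

section Closure

variable [QuasiSeparatedSpace X] (W₀ : X.affineOpens) (J : Ideal Γ(X, W₀.1))

/-- The ideal sheaf on `Spec Γ(X, W₀)` attached to `J`. -/
noncomputable def specIdeal : (Spec Γ(X, W₀.1)).IdealSheafData :=
  Scheme.IdealSheafData.ofIdealTop (J.map (Scheme.ΓSpecIso Γ(X, W₀.1)).inv.hom)

/-- The largest ideal sheaf on `X` whose restriction to the affine open `W₀` is (contained in)
`J`: the ideal of the scheme-theoretic closure of `V(J) ⊆ W₀`. -/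
noncomputable def closureIdeal : X.IdealSheafData := (specIdeal W₀ J).map W₀.2.fromSpec

theorem closureIdeal_ideal_self : (closureIdeal W₀ J).ideal W₀ = J := by
  have hW₀ : IsAffineOpen W₀.1 := W₀.2
  have H : IsAffineOpen (hW₀.fromSpec ⁻¹ᵁ W₀.1) := by
    rw [hW₀.fromSpec_preimage_self]; exact isAffineOpen_top _
  rw [closureIdeal, Scheme.IdealSheafData.ideal_map _ _ W₀ H, specIdeal,
    Scheme.IdealSheafData.ofIdealTop_ideal, Ideal.map_map, hW₀.fromSpec_app_self]
  have h1 : (Spec Γ(X, W₀.1)).presheaf.map (eqToHom hW₀.fromSpec_preimage_self).op =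
      (Spec Γ(X, W₀.1)).presheaf.map (homOfLE (le_top :
        hW₀.fromSpec ⁻¹ᵁ W₀.1 ≤ ⊤)).op := rfl
  rw [h1, ← CommRingCat.hom_comp]
  apply Ideal.comap_map_of_bijective
  have : IsIso ((Scheme.ΓSpecIso Γ(X, W₀.1)).inv ≫
      (Spec Γ(X, W₀.1)).presheaf.map (homOfLE (le_top :
        hW₀.fromSpec ⁻¹ᵁ W₀.1 ≤ ⊤)).op) := by
    rw [← h1]
    infer_instance
  exact ConcreteCategory.bijective_of_isIso _

theorem closureIdeal_ideal_of_le (D : X.affineOpens) (hD : D ≤ W₀) :
    (closureIdeal W₀ J).ideal D = J.map (X.presheaf.map (homOfLE hD).op).hom := by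
  rw [← (closureIdeal W₀ J).map_ideal hD, closureIdeal_ideal_self]

/-- A section of `𝔞` over `W` lies in the closure ideal as soon as this holds on the affine opens
contained in `W ⊓ W₀`. -/
theorem ideal_le_closureIdeal (𝔞 : X.IdealSheafData) (W : X.affineOpens)
    (h : ∀ D : X.affineOpens, D.1 ≤ W.1 ⊓ W₀.1 → 𝔞.ideal D ≤ (closureIdeal W₀ J).ideal D) :
    𝔞.ideal W ≤ (closureIdeal W₀ J).ideal W := by
  intro s hs
  have hW₀ : IsAffineOpen W₀.1 := W₀.2
  have hdef : closureIdeal W₀ J = ((specIdeal W₀ J).subschemeι ≫ hW₀.fromSpec).ker := rfl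
  rw [hdef, Scheme.Hom.ker_apply, RingHom.mem_ker]
  generalize hgm : (specIdeal W₀ J).subschemeι ≫ hW₀.fromSpec = gm at hdef ⊢
  have hqc : QuasiCompact gm := by rw [← hgm]; infer_instance
  refine (specIdeal W₀ J).subscheme.IsSheaf.section_ext fun z hz => ?_
  have hzW₀ : gm z ∈ W₀.1 := by
    rw [← hgm, Scheme.Hom.comp_apply]
    have := hW₀.range_fromSpec
    rw [Set.ext_iff] at this
    exact (this _).1 ⟨_, rfl⟩
  obtain ⟨_, ⟨D, hD, rfl⟩, hzD, hDle⟩ := X.isBasis_affineOpens.exists_subset_of_mem_open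
    (show gm z ∈ (W.1 ⊓ W₀.1 : X.Opens) from ⟨hz, hzW₀⟩) (W.1 ⊓ W₀.1).2
  have hDW : D ≤ W.1 := fun y hy => (hDle hy).1
  refine ⟨gm ⁻¹ᵁ D, gm.preimage_mono hDW, hzD, ?_⟩
  rw [map_zero]
  have hnat := gm.naturality (homOfLE hDW).op
  have h4 : (X.presheaf.map (homOfLE hDW).op).hom s ∈ 𝔞.ideal ⟨D, hD⟩ := by
    rw [← 𝔞.map_ideal (U := ⟨D, hD⟩) (V := W) hDW]
    exact Ideal.mem_map_of_mem _ hs
  have h5 := h ⟨D, hD⟩ hDle h4
  rw [hdef, Scheme.Hom.ker_apply, RingHom.mem_ker] at h5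
  have h6 := congrArg (fun φ => φ.hom s) hnat
  simp only [CommRingCat.hom_comp, RingHom.comp_apply] at h6
  rw [h5] at h6
  exact h6.symm

end Closure

/-- **One extension step.** -/
theorem exists_step [QuasiSeparatedSpace X] (𝔞 : X.IdealSheafData) (O : X.Opens)
    (hO : IsCompact (O : Set X)) (hfg : ∀ W : X.affineOpens, W.1 ≤ O → (𝔞.ideal W).FG)
    (W₀ : X.affineOpens) :
    ∃ 𝔟 : X.IdealSheafData, 𝔟 ≤ 𝔞 ∧ (∀ W : X.affineOpens, W.1 ≤ O → 𝔟.ideal W = 𝔞.ideal W) ∧
      ∀ W : X.affineOpens, W.1 ≤ O ⊔ W₀.1 → (𝔟.ideal W).FG := by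
  classical
  have hW₀ : IsAffineOpen W₀.1 := W₀.2
  have hcomp : IsCompact ((O : Set X) ∩ W₀.1) :=
    QuasiSeparatedSpace.inter_isCompact _ _ O.2 hO W₀.1.2 hW₀.isCompact
  choose g hgO hxg using fun x : ↥(O ⊓ W₀.1) =>
    hW₀.exists_basicOpen_le (V := O) ⟨x.1, x.2.1⟩ x.2.2
  obtain ⟨T, hT⟩ := hcomp.elim_finite_subcover
    (fun x : ↥(O ⊓ W₀.1) => (X.basicOpen (g x) : Set X)) (fun x => (X.basicOpen (g x)).2)
    (fun y hy => Set.mem_iUnion.2 ⟨⟨y, hy⟩, hxg _⟩)
  have hloc : ∀ x : ↥(O ⊓ W₀.1), ∃ Jx : Ideal Γ(X, W₀.1), Jx ≤ 𝔞.ideal W₀ ∧ Jx.FG ∧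
      Jx.map (X.presheaf.map (homOfLE (X.basicOpen_le (g x))).op).hom =
        𝔞.ideal (X.affineBasicOpen (g x)) := by
    intro x
    have h1 : (𝔞.ideal (X.affineBasicOpen (g x))).FG := hfg _ (hgO x)
    rw [← 𝔞.map_ideal_basicOpen W₀ (g x)] at h1
    obtain ⟨Jx, h2, h3, h4⟩ := exists_fg_le_map_eq _ _ h1
    exact ⟨Jx, h2, h3, h4.trans (𝔞.map_ideal_basicOpen W₀ (g x))⟩
  choose Jx hJle hJfg hJmap using hloc
  let J : Ideal Γ(X, W₀.1) := T.sup Jx
  have hJ_le : J ≤ 𝔞.ideal W₀ := Finset.sup_le fun x _ => hJle x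
  have hJ_fg : J.FG := Submodule.fg_finset_sup T Jx (fun x _ => hJfg x)
  have hJ_map : ∀ x ∈ T, J.map (X.presheaf.map (homOfLE (X.basicOpen_le (g x))).op).hom =
      𝔞.ideal (X.affineBasicOpen (g x)) := by
    intro x hx
    apply le_antisymm
    · rw [← 𝔞.map_ideal_basicOpen W₀ (g x)]; exact Ideal.map_mono hJ_le
    · rw [← hJmap x]; exact Ideal.map_mono (Finset.le_sup (f := Jx) hx)
  -- (L1)
  have hL1 : ∀ D : X.affineOpens, D.1 ≤ O ⊓ W₀.1 →
      𝔞.ideal D = (closureIdeal W₀ J).ideal D := by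
    intro D hD
    have key : ∀ y ∈ D.1, ∃ f : Γ(X, D.1), y ∈ X.basicOpen f ∧
        𝔞.ideal (X.affineBasicOpen f) = (closureIdeal W₀ J).ideal (X.affineBasicOpen f) := by
      intro y hy
      obtain ⟨x, hxT, hyx⟩ : ∃ x ∈ T, y ∈ X.basicOpen (g x) := by
        have := hT (hD hy)
        simpa using this
      have hDW₀ : D.1 ≤ W₀.1 := fun z hz => (hD hz).2
      refine ⟨(X.presheaf.map (homOfLE hDW₀).op).hom (g x), ?_, ?_⟩
      · rw [Scheme.basicOpen_res]; exact ⟨hy, hyx⟩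
      · have hle : X.affineBasicOpen ((X.presheaf.map (homOfLE hDW₀).op).hom (g x)) ≤
            X.affineBasicOpen (g x) := by
          change X.basicOpen _ ≤ X.basicOpen _
          rw [Scheme.basicOpen_res]; exact inf_le_right
        rw [← 𝔞.map_ideal hle, ← (closureIdeal W₀ J).map_ideal hle]
        congr 1
        rw [← hJ_map x hxT, ← (closureIdeal W₀ J).map_ideal_basicOpen W₀ (g x),
          closureIdeal_ideal_self]
    apply le_antisymm
    · exact ideal_le_of_forall_exists_basicOpen 𝔞 (closureIdeal W₀ J) D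
        (fun y hy => let ⟨f, h1, h2⟩ := key y hy; ⟨f, h1, h2.le⟩)
    · exact ideal_le_of_forall_exists_basicOpen (closureIdeal W₀ J) 𝔞 D
        (fun y hy => let ⟨f, h1, h2⟩ := key y hy; ⟨f, h1, h2.ge⟩)
  have hle : ∀ W : X.affineOpens, W.1 ≤ O → 𝔞.ideal W ≤ (closureIdeal W₀ J).ideal W := by
    intro W hW
    apply ideal_le_closureIdeal W₀ J 𝔞 W
    intro D hD
    exact (hL1 D (fun z hz => ⟨hW (hD hz).1, (hD hz).2⟩)).le
  refine ⟨𝔞 ⊓ closureIdeal W₀ J, inf_le_left, ?_, ?_⟩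
  · intro W hW
    rw [Scheme.IdealSheafData.ideal_inf, Pi.inf_apply]
    exact inf_eq_left.2 (hle W hW)
  · intro W hW
    apply fg_of_forall_exists_basicOpen
    intro x hx
    rcases hW hx with hxO | hxW₀
    · obtain ⟨f, hfO, hxf⟩ := W.2.exists_basicOpen_le (V := O) ⟨x, hxO⟩ hx
      refine ⟨f, hxf, ?_⟩
      have h1 : (𝔞 ⊓ closureIdeal W₀ J).ideal (X.affineBasicOpen f) =
          𝔞.ideal (X.affineBasicOpen f) := by
        rw [Scheme.IdealSheafData.ideal_inf, Pi.inf_apply]; exact inf_eq_left.2 (hle _ hfO)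
      rw [h1]; exact hfg _ hfO
    · obtain ⟨f, hfW₀, hxf⟩ := W.2.exists_basicOpen_le (V := W₀.1) ⟨x, hxW₀⟩ hx
      refine ⟨f, hxf, ?_⟩
      have hle' : X.affineBasicOpen f ≤ W₀ := hfW₀
      rw [← (𝔞 ⊓ closureIdeal W₀ J).map_ideal hle']
      apply Ideal.FG.map
      rw [Scheme.IdealSheafData.ideal_inf, Pi.inf_apply, closureIdeal_ideal_self,
        inf_eq_right.2 hJ_le]
      exact hJ_fg

theorem isCompact_sup_biSup (O : X.Opens) (hO : IsCompact (O : Set X)) (s : Finset X.affineOpens) :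
    IsCompact ((O ⊔ ⨆ V ∈ s, (V : X.affineOpens).1 : X.Opens) : Set X) := by
  have h1 : ((O ⊔ ⨆ V ∈ s, (V : X.affineOpens).1 : X.Opens) : Set X) =
      (O : Set X) ∪ ⋃ V ∈ s, ((V : X.affineOpens).1 : Set X) := by
    ext x
    simp
  rw [h1]
  exact hO.union (s.isCompact_biUnion fun V _ => V.2.isCompact)

/-- **Extension of finite type ideal sheaves** (EGA I 9.4.7, Stacks 01PF for ideals): on a
quasi-compact quasi-separated scheme, a quasi-coherent ideal `𝔞` which is of finite type over the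
quasi-compact open `O` contains an ideal of finite type `𝔟` agreeing with `𝔞` over `O`. -/
theorem exists_finiteType_le [CompactSpace X] [QuasiSeparatedSpace X] (𝔞 : X.IdealSheafData)
    (O : X.Opens) (hO : IsCompact (O : Set X))
    (hfg : ∀ W : X.affineOpens, W.1 ≤ O → (𝔞.ideal W).FG) :
    ∃ 𝔟 : X.IdealSheafData, 𝔟 ≤ 𝔞 ∧ (∀ W : X.affineOpens, W.1 ≤ O → 𝔟.ideal W = 𝔞.ideal W) ∧
      ∀ W : X.affineOpens, (𝔟.ideal W).FG := by
  classical
  have key : ∀ s : Finset X.affineOpens, ∃ 𝔟 : X.IdealSheafData, 𝔟 ≤ 𝔞 ∧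
      (∀ W : X.affineOpens, W.1 ≤ O → 𝔟.ideal W = 𝔞.ideal W) ∧
      ∀ W : X.affineOpens, W.1 ≤ O ⊔ ⨆ V ∈ s, (V : X.affineOpens).1 → (𝔟.ideal W).FG := by
    intro s
    induction s using Finset.induction_on with
    | empty =>
      refine ⟨𝔞, le_rfl, fun _ _ => rfl, fun W hW => hfg W ?_⟩
      simpa using hW
    | insert V s' _ ih =>
      obtain ⟨𝔟', h1, h2, h3⟩ := ih
      obtain ⟨𝔟, h4, h5, h6⟩ := exists_step 𝔟' (O ⊔ ⨆ V ∈ s', (V : X.affineOpens).1)
        (isCompact_sup_biSup O hO s') h3 V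
      refine ⟨𝔟, h4.trans h1, fun W hW => ?_, fun W hW => h6 W ?_⟩
      · rw [h5 W (hW.trans le_sup_left), h2 W hW]
      · rw [Finset.iSup_insert] at hW
        rw [sup_assoc, sup_comm _ V.1]
        exact hW
  obtain ⟨s, hs⟩ := isCompact_univ.elim_finite_subcover
    (fun V : X.affineOpens => (V.1 : Set X)) (fun V => V.1.2) (fun x _ => by
      obtain ⟨_, ⟨V, hV, rfl⟩, hxV, -⟩ :=
        X.isBasis_affineOpens.exists_subset_of_mem_open (Set.mem_univ x) isOpen_univ
      exact Set.mem_iUnion.2 ⟨⟨V, hV⟩, hxV⟩)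
  obtain ⟨𝔟, h1, h2, h3⟩ := key s
  refine ⟨𝔟, h1, h2, fun W => h3 W ?_⟩
  intro x _
  have := hs (Set.mem_univ x)
  simp only [Set.mem_iUnion] at this
  obtain ⟨V, hV, hxV⟩ := this
  exact Or.inr (Opens.mem_iSup.2 ⟨V, Opens.mem_iSup.2 ⟨hV, hxV⟩⟩)

/-- An ideal sheaf whose support misses an affine open is the unit ideal there. -/
theorem ideal_eq_top_of_disjoint_support (I : X.IdealSheafData) (V : X.affineOpens)
    (h : Disjoint (I.support : Set X) (V.1 : Set X)) : I.ideal V = ⊤ := by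
  have h1 : V.2.fromSpec '' PrimeSpectrum.zeroLocus (I.ideal V : Set Γ(X, V.1)) = ∅ := by
    rw [V.2.fromSpec_image_zeroLocus, ← I.coe_support_inter V]
    exact h.inter_eq
  rw [Set.image_eq_empty] at h1
  exact PrimeSpectrum.zeroLocus_empty_iff_eq_top.mp h1

theorem disjoint_support_of_forall_ideal_eq_top (I : X.IdealSheafData) (U : X.Opens)
    (h : ∀ W : X.affineOpens, W.1 ≤ U → I.ideal W = ⊤) : Disjoint (I.support : Set X) U := by
  rw [Set.disjoint_left]
  intro x hxI hxU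
  obtain ⟨_, ⟨W, hW, rfl⟩, hxW, hWU⟩ :=
    X.isBasis_affineOpens.exists_subset_of_mem_open hxU U.2
  have hxI' : x ∈ I.support := hxI
  rw [Scheme.IdealSheafData.mem_support_iff_of_mem (U := ⟨W, hW⟩) hxW, h ⟨W, hW⟩ hWU,
    Scheme.mem_zeroLocus_iff] at hxI'
  apply hxI' 1 Submodule.mem_top
  rw [X.basicOpen_of_isUnit isUnit_one]
  exact hxW

/-- On a qcqs scheme, an ideal sheaf whose support misses the quasi-compact open `U` contains an
ideal sheaf of finite type whose support misses `U`. -/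
theorem exists_finiteType_le_of_disjoint [CompactSpace X] [QuasiSeparatedSpace X]
    (𝔞 : X.IdealSheafData) (U : X.Opens) (hU : IsCompact (U : Set X))
    (h : Disjoint (𝔞.support : Set X) U) :
    ∃ 𝔟 : X.IdealSheafData, 𝔟 ≤ 𝔞 ∧ (∀ W : X.affineOpens, (𝔟.ideal W).FG) ∧
      Disjoint (𝔟.support : Set X) U := by
  have htop : ∀ W : X.affineOpens, W.1 ≤ U → 𝔞.ideal W = ⊤ := fun W hW =>
    ideal_eq_top_of_disjoint_support 𝔞 W (h.mono_right hW)
  obtain ⟨𝔟, h1, h2, h3⟩ := exists_finiteType_le 𝔞 U hU (fun W hW => by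
    rw [htop W hW]; exact ⟨{1}, by simp⟩)
  exact ⟨𝔟, h1, h3, disjoint_support_of_forall_ideal_eq_top 𝔟 U
    (fun W hW => (h2 W hW).trans (htop W hW))⟩

/-- **Stacks 01PH.** On a qcqs scheme, the complement of a quasi-compact open is the support of a
quasi-coherent ideal sheaf of finite type. -/
theorem exists_finiteType_support_eq [CompactSpace X] [QuasiSeparatedSpace X] (U : X.Opens)
    (hU : IsCompact (U : Set X)) :
    ∃ I : X.IdealSheafData, (∀ W : X.affineOpens, (I.ideal W).FG) ∧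
      (I.support : Set X) = (U : Set X)ᶜ := by
  let C : Closeds X := ⟨(U : Set X)ᶜ, U.2.isClosed_compl⟩
  have hsupp : ((Scheme.IdealSheafData.vanishingIdeal C).support : Set X) = (U : Set X)ᶜ :=
    Scheme.IdealSheafData.coe_support_vanishingIdeal C
  obtain ⟨𝔟, h1, h2, h3⟩ := exists_finiteType_le_of_disjoint
    (Scheme.IdealSheafData.vanishingIdeal C) U hU (by
      rw [hsupp]; exact disjoint_compl_left)
  refine ⟨𝔟, h2, Set.Subset.antisymm ?_ ?_⟩
  · intro x hx hxU
    exact Set.disjoint_left.1 h3 hx hxU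
  · rw [← hsupp]
    exact Scheme.IdealSheafData.support_antitone h1

/-- The complement of the support of an ideal sheaf of finite type on a quasi-compact scheme is
quasi-compact. -/
theorem isCompact_compl_support [CompactSpace X] (I : X.IdealSheafData)
    (hI : ∀ W : X.affineOpens, (I.ideal W).FG) : IsCompact ((I.support : Set X)ᶜ) := by
  classical
  obtain ⟨s, hs⟩ := isCompact_univ.elim_finite_subcover
    (fun V : X.affineOpens => (V.1 : Set X)) (fun V => V.1.2) (fun x _ => by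
      obtain ⟨_, ⟨V, hV, rfl⟩, hxV, -⟩ :=
        X.isBasis_affineOpens.exists_subset_of_mem_open (Set.mem_univ x) isOpen_univ
      exact Set.mem_iUnion.2 ⟨⟨V, hV⟩, hxV⟩)
  choose S hS using hI
  have heq : (I.support : Set X)ᶜ = ⋃ V ∈ s, ⋃ f ∈ S V, (X.basicOpen f : Set X) := by
    ext x
    simp only [Set.mem_compl_iff, SetLike.mem_coe, Set.mem_iUnion, exists_prop]
    constructor
    · intro hx
      have := hs (Set.mem_univ x)
      simp only [Set.mem_iUnion] at this
      obtain ⟨V, hV, hxV⟩ := this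
      rw [Scheme.IdealSheafData.mem_support_iff_of_mem (U := V) hxV, ← hS V,
        Scheme.zeroLocus_span, Scheme.mem_zeroLocus_iff] at hx
      push Not at hx
      obtain ⟨f, hf, hxf⟩ := hx
      exact ⟨V, hV, f, hf, hxf⟩
    · rintro ⟨V, -, f, hf, hxf⟩ hx
      have hxV : x ∈ V.1 := X.basicOpen_le f hxf
      rw [Scheme.IdealSheafData.mem_support_iff_of_mem (U := V) hxV, ← hS V,
        Scheme.zeroLocus_span, Scheme.mem_zeroLocus_iff] at hx
      exact hx f hf hxf
  rw [heq]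
  exact s.isCompact_biUnion fun V _ => (S V).isCompact_biUnion fun f _ =>
    (V.2.basicOpen f).isCompact

end Groth.Agent.Lib.IdealExt68
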