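import Mathlib
import Groth.Agent.Lib.IdealExt68
import Groth.Agent.Lib.H69ClosedLfp

/-!
# A closed immersion into a qcqs scheme is a directed limit of closed immersions of finite
presentation (helper62)

* `exists_finiteType_le_mem`: on a qcqs scheme every section of a quasi-coherent ideal `I` lies in a
  finite type ideal sheaf `J ≤ I`.
* `FT I`: the directed set of finite type ideal sheaves contained in `I`; `iSup_FT`.
* `diagram`, `cone`, `isLimitCone`: `V(I) = lim V(J)` in `Over Y`.
-/

set_option autoImplicit false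
universe u
open CategoryTheory CategoryTheory.Limits AlgebraicGeometry TopologicalSpace Opposite

namespace Groth.Agent.Lib.ClosedImmLim62

variable {Y : Scheme.{u}}

/-- Every section of a quasi-coherent ideal on a qcqs scheme lies in a sub-ideal of finite type. -/
theorem exists_finiteType_le_mem [CompactSpace Y] [QuasiSeparatedSpace Y]
    (I : Y.IdealSheafData) (W : Y.affineOpens) (a : Γ(Y, W.1)) (ha : a ∈ I.ideal W) :
    ∃ J : Y.IdealSheafData, J ≤ I ∧ (∀ U : Y.affineOpens, (J.ideal U).FG) ∧ a ∈ J.ideal W := by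
  classical
  let 𝔞 : Y.IdealSheafData := I ⊓ Groth.Agent.Lib.IdealExt68.closureIdeal W (Ideal.span {a})
  have h𝔞W : 𝔞.ideal W = Ideal.span {a} := by
    change (I ⊓ _).ideal W = _
    rw [Scheme.IdealSheafData.ideal_inf, Pi.inf_apply,
      Groth.Agent.Lib.IdealExt68.closureIdeal_ideal_self]
    exact inf_eq_right.2 ((Ideal.span_singleton_le_iff_mem _).2 ha)
  have hfg : ∀ W' : Y.affineOpens, W'.1 ≤ W.1 → (𝔞.ideal W').FG := by
    intro W' hW'
    have hle : W' ≤ W := hW'
    rw [← 𝔞.map_ideal hle, h𝔞W]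
    exact Ideal.FG.map ⟨{a}, by simp⟩ _
  obtain ⟨𝔟, h1, h2, h3⟩ := Groth.Agent.Lib.IdealExt68.exists_finiteType_le 𝔞 W.1
    W.2.isCompact hfg
  refine ⟨𝔟, h1.trans inf_le_left, h3, ?_⟩
  rw [h2 W le_rfl, h𝔞W]
  exact Ideal.mem_span_singleton_self a

/-- The finite type ideal sheaves contained in `I`. -/
structure FT (I : Y.IdealSheafData) : Type u where
  /-- the underlying ideal sheaf -/
  val : Y.IdealSheafData
  le : val ≤ I
  fg : ∀ U : Y.affineOpens, (val.ideal U).FG

instance (I : Y.IdealSheafData) : Preorder (FT I) := Preorder.lift FT.val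

theorem FT.le_iff {I : Y.IdealSheafData} (J K : FT I) : J ≤ K ↔ J.val ≤ K.val := Iff.rfl

instance (I : Y.IdealSheafData) : Nonempty (FT I) :=
  ⟨⟨⊥, bot_le, fun U => by
    rw [Scheme.IdealSheafData.ideal_bot]; exact Submodule.fg_bot⟩⟩

instance (I : Y.IdealSheafData) : IsDirected (FT I) (fun a b => a ≤ b) where
  directed := fun J K => ⟨⟨J.val ⊔ K.val, sup_le J.le K.le, fun U => by
    rw [Scheme.IdealSheafData.ideal_sup]; exact Submodule.FG.sup (J.fg U) (K.fg U)⟩,
    (le_sup_left : J.val ≤ J.val ⊔ K.val), (le_sup_right : K.val ≤ J.val ⊔ K.val)⟩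

theorem le_of_forall_FT_le [CompactSpace Y] [QuasiSeparatedSpace Y] (I K : Y.IdealSheafData)
    (h : ∀ J : FT I, J.val ≤ K) : I ≤ K := by
  rw [Scheme.IdealSheafData.le_def]
  intro U a ha
  obtain ⟨J, hJ1, hJ2, hJ3⟩ := exists_finiteType_le_mem I U a ha
  exact (Scheme.IdealSheafData.le_def.1 (h ⟨J, hJ1, hJ2⟩)) U hJ3

/-- The inverse system of the `V(J)`, `J ≤ I` of finite type. -/
noncomputable def diagram (I : Y.IdealSheafData) : (FT I)ᵒᵖ ⥤ Over Y where
  obj J := Over.mk J.unop.val.subschemeι
  map {J K} f := Over.homMk (Scheme.IdealSheafData.inclusion (show K.unop.val ≤ J.unop.val from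
    f.unop.le)) (by simp)
  map_id J := by ext; simp
  map_comp f g := by ext; simp

theorem diagram_obj (I : Y.IdealSheafData) (J : (FT I)ᵒᵖ) :
    (diagram I).obj J = Over.mk J.unop.val.subschemeι := rfl

theorem isClosedImmersion_diagram_obj (I : Y.IdealSheafData) (J : (FT I)ᵒᵖ) :
    IsClosedImmersion ((diagram I).obj J).hom := by
  rw [diagram_obj]; dsimp only [Over.mk_hom]; infer_instance

theorem lfp_diagram_obj (I : Y.IdealSheafData) (J : (FT I)ᵒᵖ) :
    LocallyOfFinitePresentation ((diagram I).obj J).hom := by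
  rw [diagram_obj]; dsimp only [Over.mk_hom]
  rw [Groth.Agent.Lib.H69ClosedLfp.lfp_iff_ker_fg, Scheme.IdealSheafData.ker_subschemeι]
  exact J.unop.fg

variable {X : Scheme.{u}} (ι : X ⟶ Y) [IsClosedImmersion ι]

omit [IsClosedImmersion ι] in
theorem val_le_ker (J : FT ι.ker) : J.val.subschemeι.ker ≤ ι.ker := by
  rw [Scheme.IdealSheafData.ker_subschemeι]; exact J.le

/-- The canonical morphism `X ⟶ V(J)` for `J ≤ ker ι`. -/
noncomputable def toStage (J : FT ι.ker) : X ⟶ J.val.subscheme :=
  IsClosedImmersion.lift J.val.subschemeι ι (val_le_ker ι J)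

omit [IsClosedImmersion ι] in
@[reassoc (attr := simp)]
theorem toStage_subschemeι (J : FT ι.ker) : toStage ι J ≫ J.val.subschemeι = ι :=
  IsClosedImmersion.lift_fac _ _ _

/-- The components of the cone. -/
noncomputable def coneApp (J : (FT ι.ker)ᵒᵖ) : Over.mk ι ⟶ (diagram ι.ker).obj J :=
  Over.homMk (U := Over.mk ι) (V := Over.mk J.unop.val.subschemeι) (toStage ι J.unop)
    (toStage_subschemeι ι J.unop)

theorem coneApp_left (J : (FT ι.ker)ᵒᵖ) : (coneApp ι J).left = toStage ι J.unop := rfl

theorem diagram_map_left {I : Y.IdealSheafData} {J K : (FT I)ᵒᵖ} (f : J ⟶ K) :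
    ((diagram I).map f).left = Scheme.IdealSheafData.inclusion (show K.unop.val ≤ J.unop.val from
      f.unop.le) := rfl

theorem hom_ext_subscheme {T : Scheme.{u}} {J : Y.IdealSheafData} (a b : T ⟶ J.subscheme)
    (h : a ≫ J.subschemeι = b ≫ J.subschemeι) : a = b := (cancel_mono _).1 h

/-- The cone with vertex `ι` over the system of the `V(J)`, `J ≤ ker ι` of finite type. -/
noncomputable def cone : Cone (diagram ι.ker) where
  pt := Over.mk ι
  π :=
    { app := fun J => coneApp ι J
      naturality := by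
        intro J K f
        ext
        change 𝟙 X ≫ toStage ι K.unop = toStage ι J.unop ≫ Scheme.IdealSheafData.inclusion
          (show K.unop.val ≤ J.unop.val from f.unop.le)
        apply hom_ext_subscheme
        rw [Category.id_comp, Category.assoc, Scheme.IdealSheafData.inclusion_subschemeι,
          toStage_subschemeι, toStage_subschemeι] }

theorem cone_pt : (cone ι).pt = Over.mk ι := rfl

theorem cone_π_app_left (J : (FT ι.ker)ᵒᵖ) : ((cone ι).π.app J).left = toStage ι J.unop := rfl

omit [IsClosedImmersion ι] in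
theorem le_ker_of_cone [CompactSpace Y] [QuasiSeparatedSpace Y] (s : Cone (diagram ι.ker)) :
    ι.ker ≤ s.pt.hom.ker := by
  refine le_of_forall_FT_le _ _ fun J => ?_
  have hw : (show s.pt.left ⟶ J.val.subscheme from (s.π.app (op J)).left) ≫ J.val.subschemeι =
      s.pt.hom := Over.w (s.π.app (op J))
  rw [← hw]
  refine le_trans ?_ (Scheme.Hom.le_ker_comp _ _)
  rw [Scheme.IdealSheafData.ker_subschemeι]

/-- `X = lim V(J)` in `Over Y`. -/
noncomputable def isLimitCone [CompactSpace Y] [QuasiSeparatedSpace Y] : IsLimit (cone ι) := by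
  refine IsLimit.ofExistsUnique fun s => ?_
  have hle : ι.ker ≤ s.pt.hom.ker := le_ker_of_cone ι s
  refine ⟨Over.homMk (U := s.pt) (V := Over.mk ι) (IsClosedImmersion.lift ι s.pt.hom hle)
    (IsClosedImmersion.lift_fac _ _ _), ?_, ?_⟩
  · intro J
    ext
    change IsClosedImmersion.lift ι s.pt.hom hle ≫ toStage ι J.unop =
      (show s.pt.left ⟶ J.unop.val.subscheme from (s.π.app J).left)
    apply hom_ext_subscheme
    rw [Category.assoc, toStage_subschemeι, IsClosedImmersion.lift_fac]
    exact (Over.w (s.π.app J)).symm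
  · intro m _
    ext
    change (show s.pt.left ⟶ X from m.left) = IsClosedImmersion.lift ι s.pt.hom hle
    rw [← cancel_mono ι, IsClosedImmersion.lift_fac]
    exact Over.w m

end Groth.Agent.Lib.ClosedImmLim62
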