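import Groth.Agent.Lib.ApproxCons5B
import Groth.Agent.S7379
import Mathlib.CategoryTheory.Filtered.Connected

/-!
# Consumers of Noetherian approximation, part C (helper5): proper morphisms as limits of
finitely presented proper morphisms (Stacks 09ZR), in hypothesis form over `Hyp7383`.

* `exists_proper_fp_closedImmersion` : `f : X ⟶ S` proper over qcqs `S` factors as a closed
  immersion into some `X₁` proper and finitely presented over `S`.
* `isLimit_mapCone_overMap` : `Over.map` preserves cofiltered limits.
* `exists_limit_closedImmersions` : the statement of S7380.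
* `exists_limit_proper_fp` : the statement of S2079.
-/

set_option autoImplicit false
set_option linter.style.haveILetI false
universe u

open CategoryTheory CategoryTheory.Limits AlgebraicGeometry TopologicalSpace Opposite

namespace Groth.Agent.Lib.ApproxCons5

open Groth.Agent.Lib.AbsApproxHyp62

/-- `Over.map` preserves cofiltered limits. -/
noncomputable def isLimit_mapCone_overMap {X₁ S : Scheme.{u}} (f₁ : X₁ ⟶ S) {J : Type u}
    [SmallCategory J] [IsCofiltered J] (D : J ⥤ Over X₁) (c : Cone D) (hc : IsLimit c) :
    IsLimit ((Over.map f₁).mapCone c) := by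
  haveI : IsConnected J := IsCofiltered.isConnected J
  apply isLimitOfReflects (Over.forget S)
  exact isLimitOfPreserves (Over.forget X₁) hc

variable (H : Hyp7383.{u})

include H in
/-- A proper morphism over a qcqs base factors through a closed immersion into a proper finitely
presented `S`-scheme. -/
theorem exists_proper_fp_closedImmersion {X S : Scheme.{u}} (f : X ⟶ S) [IsProper f]
    [CompactSpace S] [QuasiSeparatedSpace S] :
    ∃ (X₁ : Scheme.{u}) (f₁ : X₁ ⟶ S) (j : X ⟶ X₁), IsProper f₁ ∧
      LocallyOfFinitePresentation f₁ ∧ IsClosedImmersion j ∧ j ≫ f₁ = f := by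
  haveI : CompactSpace X := QuasiCompact.compactSpace_of_compactSpace f
  haveI : QuasiSeparatedSpace X := quasiSeparatedSpace_of_quasiSeparated f
  obtain ⟨X', f', j, h1, h2, h3, h4, h5, h6, h7, h8⟩ := exists_stage H f
  haveI := h1
  haveI := h2
  haveI := h3
  haveI := h4
  haveI := h7
  haveI := h8
  haveI : IsSeparated f' := h6 inferInstance
  obtain ⟨I, _, _, _, D, c, hc, hD, ⟨e⟩⟩ := Groth.Agent.S7379.result j
  have hpt : c.pt.hom = e.hom.left ≫ j := (Over.w e.hom).symm
  haveI : IsIso e.hom.left := inferInstanceAs (IsIso ((Over.forget X').map e.hom))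
  have hcl : IsClosedImmersion c.pt.hom := by rw [hpt]; infer_instance
  have hprop : IsProper (c.pt.hom ≫ f') := by
    rw [hpt, Category.assoc, h5]
    infer_instance
  obtain ⟨i, hi⟩ := exists_proper_stage f' D c hc (fun i => (hD i).1) hcl hprop
  haveI := (hD i).1
  haveI := (hD i).2
  let j₁ : X ⟶ (D.obj i).left := e.inv.left ≫ (c.π.app i).left
  have hj₁ : j₁ ≫ (D.obj i).hom = j := by
    change (e.inv.left ≫ (c.π.app i).left) ≫ (D.obj i).hom = j
    rw [Category.assoc]
    have h9 : (c.π.app i).left ≫ (D.obj i).hom = c.pt.hom := Over.w (c.π.app i)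
    rw [h9]
    exact Over.w e.inv
  haveI : IsClosedImmersion (j₁ ≫ (D.obj i).hom) := by rw [hj₁]; infer_instance
  haveI : IsClosedImmersion j₁ := IsClosedImmersion.of_comp j₁ (D.obj i).hom
  refine ⟨(D.obj i).left, (D.obj i).hom ≫ f', j₁, hi, inferInstance, inferInstance, ?_⟩
  rw [← Category.assoc, hj₁, h5]

end Groth.Agent.Lib.ApproxCons5
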