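import Groth.Agent.Lib.ApproxCons5C

/-!
# Consumers of Noetherian approximation, part D (helper5): statements of S7380 and S2079 in
hypothesis form over `Hyp7383`.
-/

set_option autoImplicit false
set_option linter.style.haveILetI false
universe u

open CategoryTheory CategoryTheory.Limits AlgebraicGeometry TopologicalSpace Opposite

namespace Groth.Agent.Lib.ApproxCons5

open Groth.Agent.Lib.AbsApproxHyp62

/-- Transport of the limit presentation of a closed immersion `j : X → X₁` (S7379) to `Over S`. -/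
theorem exists_limit_of_closedImmersion {X X₁ S : Scheme.{u}} (j : X ⟶ X₁) (f₁ : X₁ ⟶ S)
    (f : X ⟶ S) (hj : j ≫ f₁ = f) [IsClosedImmersion j] [CompactSpace X₁]
    [QuasiSeparatedSpace X₁] :
    ∃ (I : Type u) (_ : Preorder I) (_ : IsDirected I (fun a b => a ≤ b)) (_ : Nonempty I)
      (D : Iᵒᵖ ⥤ Over S) (c : Limits.Cone D) (_ : Limits.IsLimit c) (_ : c.pt ≅ Over.mk f),
      (∀ i, ∃ (ι : (D.obj i).left ⟶ X₁), IsClosedImmersion ι ∧ LocallyOfFinitePresentation ι ∧
        ι ≫ f₁ = (D.obj i).hom) ∧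
      (∀ (i j : Iᵒᵖ) (a : i ⟶ j), IsClosedImmersion (D.map a).left) ∧
      (∀ i, IsClosedImmersion (c.π.app i).left) := by
  obtain ⟨I, hI1, hI2, hI3, D, c, hc, hD, ⟨e⟩⟩ := Groth.Agent.S7379.result j
  have hpt : c.pt.hom = e.hom.left ≫ j := (Over.w e.hom).symm
  haveI : IsIso e.hom.left := inferInstanceAs (IsIso ((Over.forget X₁).map e.hom))
  haveI hcl : IsClosedImmersion c.pt.hom := by rw [hpt]; infer_instance
  haveI : ∀ i, IsClosedImmersion (D.obj i).hom := fun i => (hD i).1
  refine ⟨I, hI1, hI2, hI3, D ⋙ Over.map f₁, (Over.map f₁).mapCone c,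
    isLimit_mapCone_overMap f₁ D c hc,
    (Over.map f₁).mapIso e ≪≫ Over.isoMk (Iso.refl X) (by simp [hj]), fun i => ?_,
    fun i k a => ?_, fun i => ?_⟩
  · exact ⟨(D.obj i).hom, (hD i).1, (hD i).2, rfl⟩
  · have h1 : (D.map a).left ≫ (D.obj k).hom = (D.obj i).hom := Over.w (D.map a)
    haveI : IsClosedImmersion ((D.map a).left ≫ (D.obj k).hom) := by rw [h1]; infer_instance
    exact IsClosedImmersion.of_comp (D.map a).left (D.obj k).hom
  · have h1 : (c.π.app i).left ≫ (D.obj i).hom = c.pt.hom := Over.w (c.π.app i)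
    haveI : IsClosedImmersion ((c.π.app i).left ≫ (D.obj i).hom) := by rw [h1]; infer_instance
    exact IsClosedImmersion.of_comp (c.π.app i).left (D.obj i).hom

variable (H : Hyp7383.{u})

include H in
/-- Statement of S7380 in hypothesis form. -/
theorem exists_limit_closedImmersions {X S : Scheme.{u}} (f : X ⟶ S) [LocallyOfFiniteType f]
    [CompactSpace X] [QuasiSeparatedSpace X] [QuasiSeparatedSpace S] :
    ∃ (I : Type u) (_ : Preorder I) (_ : IsDirected I (fun a b => a ≤ b)) (_ : Nonempty I)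
      (D : Iᵒᵖ ⥤ Over S) (c : Limits.Cone D) (_ : Limits.IsLimit c),
      (∀ i, LocallyOfFinitePresentation (D.obj i).hom ∧ QuasiCompact (D.obj i).hom ∧
        QuasiSeparated (D.obj i).hom ∧ CompactSpace (D.obj i).left ∧
        QuasiSeparatedSpace (D.obj i).left) ∧
      (∀ (i j : Iᵒᵖ) (a : i ⟶ j), IsClosedImmersion (D.map a).left) ∧
      Nonempty (c.pt ≅ Over.mk f) := by
  obtain ⟨X', f', j, h1, h2, h3, h4, h5, -, h7, h8⟩ := exists_stage H f
  haveI := h1
  haveI := h2
  haveI := h3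
  haveI := h4
  haveI := h7
  haveI := h8
  obtain ⟨I, hI1, hI2, hI3, D, c, hc, e, hD, hDm, -⟩ :=
    exists_limit_of_closedImmersion j f' f h5
  refine ⟨I, hI1, hI2, hI3, D, c, hc, fun i => ?_, hDm, ⟨e⟩⟩
  obtain ⟨ι, hι1, hι2, hι3⟩ := hD i
  haveI := hι1
  haveI := hι2
  haveI : CompactSpace (D.obj i).left := QuasiCompact.compactSpace_of_compactSpace ι
  haveI : QuasiSeparatedSpace (D.obj i).left := quasiSeparatedSpace_of_quasiSeparated ι
  rw [← hι3]
  exact ⟨inferInstance, inferInstance, inferInstance, inferInstance, inferInstance⟩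

include H in
/-- Statement of S2079 in hypothesis form. -/
theorem exists_limit_proper_fp {X S : Scheme.{u}} (f : X ⟶ S) [IsProper f] [CompactSpace S]
    [QuasiSeparatedSpace S] :
    ∃ (I : Type u) (_ : SmallCategory I) (_ : IsCofiltered I) (D : I ⥤ Over S)
      (c : Limits.Cone D) (_ : Limits.IsLimit c) (_ : c.pt ≅ Over.mk f),
      (∀ (i j : I) (a : i ⟶ j), IsClosedImmersion (D.map a).left) ∧
      (∀ i, IsClosedImmersion (c.π.app i).left ∧ IsProper (D.obj i).hom ∧
        LocallyOfFinitePresentation (D.obj i).hom) := by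
  obtain ⟨X₁, f₁, j, h1, h2, h3, h4⟩ := exists_proper_fp_closedImmersion H f
  haveI := h1
  haveI := h2
  haveI := h3
  haveI : CompactSpace X₁ := QuasiCompact.compactSpace_of_compactSpace f₁
  haveI : QuasiSeparatedSpace X₁ := quasiSeparatedSpace_of_quasiSeparated f₁
  obtain ⟨I, hI1, hI2, hI3, D, c, hc, e, hD, hDm, hDπ⟩ :=
    exists_limit_of_closedImmersion j f₁ f h4
  refine ⟨Iᵒᵖ, inferInstance, inferInstance, D, c, hc, e, hDm, fun i => ⟨hDπ i, ?_⟩⟩
  obtain ⟨ι, hι1, hι2, hι3⟩ := hD i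
  haveI := hι1
  haveI := hι2
  rw [← hι3]
  exact ⟨inferInstance, inferInstance⟩

end Groth.Agent.Lib.ApproxCons5
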