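import Groth.Agent.Lib.ApproxCons5D
import Groth.Agent.S9200

/-!
# Consumers of Noetherian approximation, part E (helper5)

In hypothesis form over `Hyp7383`:
* `exists_affineHom_comp_fp` (statement of S17880): a morphism of qcqs schemes factors as an affine
  morphism followed by a morphism of finite presentation (separated if `f` is).
* `exists_closedImmersion_finite_fp` (statement of S7396): a finite morphism over a qcqs base is a
  closed subscheme of a finite finitely presented one.
-/

set_option autoImplicit false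
set_option linter.style.haveILetI false
universe u

open CategoryTheory CategoryTheory.Limits AlgebraicGeometry TopologicalSpace Opposite

namespace Groth.Agent.Lib.ApproxCons5

open Groth.Agent.Lib.AbsApproxHyp62

variable (H : Hyp7383.{u})

include H in
/-- Statement of S17880 in hypothesis form. -/
theorem exists_affineHom_comp_fp {X Y : Scheme.{u}} (f : Y ⟶ X)
    [CompactSpace X] [QuasiSeparatedSpace X] [CompactSpace Y] [QuasiSeparatedSpace Y] :
    ∃ (Z : Scheme.{u}) (g : Y ⟶ Z) (h : Z ⟶ X), IsAffineHom g ∧ LocallyOfFinitePresentation h ∧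
      QuasiCompact h ∧ QuasiSeparated h ∧ (IsSeparated f → IsSeparated h) ∧ g ≫ h = f := by
  obtain ⟨I, _, _, _, D, c, hc, hD, hD', ⟨e⟩⟩ := H f
  haveI : ∀ (i j : Iᵒᵖ) (a : i ⟶ j), IsAffineHom (D.map a).left := hD'
  haveI : ∀ i, QuasiCompact (D.obj i).hom := fun i => (hD i).2.1
  haveI : ∀ i, QuasiSeparated (D.obj i).hom := fun i => (hD i).2.2
  haveI : ∀ i, CompactSpace (D.obj i).left := fun i =>
    QuasiCompact.compactSpace_of_compactSpace (D.obj i).hom
  haveI : ∀ i, QuasiSeparatedSpace (D.obj i).left := fun i =>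
    quasiSeparatedSpace_of_quasiSeparated (D.obj i).hom
  let h₀ : Y ⟶ c.pt.left := e.inv.left
  have hh : h₀ ≫ c.pt.hom = f := Over.w e.inv
  haveI : IsIso h₀ := inferInstanceAs (IsIso ((Over.forget X).map e.inv))
  let D' : Iᵒᵖ ⥤ Scheme.{u} := D ⋙ Over.forget X
  let c' : Cone D' := (Over.forget X).mapCone c
  have hc' : IsLimit c' := isLimitOfPreserves (Over.forget X) hc
  let τ : ∀ i, D'.obj i ⟶ X := fun i => (D.obj i).hom
  have hτ : ∀ {i j : Iᵒᵖ} (a : i ⟶ j), D'.map a ≫ τ j = τ i := fun a => Over.w (D.map a)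
  haveI : ∀ {i j : Iᵒᵖ} (a : i ⟶ j), IsAffineHom (D'.map a) := fun a => hD' _ _ a
  haveI : ∀ i, CompactSpace (D'.obj i) := fun i => inferInstanceAs (CompactSpace (D.obj i).left)
  haveI : ∀ i, QuasiSeparatedSpace (D'.obj i) := fun i =>
    inferInstanceAs (QuasiSeparatedSpace (D.obj i).left)
  have haffπ : ∀ i, IsAffineHom (c.π.app i).left := fun i => isAffineHom_π_app D' c' hc' i
  have key : ∀ i, IsAffineHom (h₀ ≫ (c.π.app i).left) ∧
      (h₀ ≫ (c.π.app i).left) ≫ (D.obj i).hom = f := fun i => by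
    haveI := haffπ i
    refine ⟨inferInstance, ?_⟩
    rw [Category.assoc]
    exact (congrArg (h₀ ≫ ·) (Over.w (c.π.app i))).trans hh
  by_cases hsep : IsSeparated f
  · have hs : ∀ i, c'.π.app i ≫ τ i = c.pt.hom := fun i => Over.w (c.π.app i)
    haveI : IsSeparated c.pt.hom := by
      have : c.pt.hom = e.hom.left ≫ f := (Over.w e.hom).symm
      rw [this]
      infer_instance
    let s : c'.pt ⟶ X := c.pt.hom
    haveI : IsSeparated s := ‹IsSeparated c.pt.hom›
    obtain ⟨i₁, hi₁⟩ := Groth.Agent.Lib.LimStructureMap.exists_isSeparated_structureMap_stage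
      D' c' hc' τ hτ s hs
    exact ⟨(D.obj i₁).left, h₀ ≫ (c.π.app i₁).left, (D.obj i₁).hom, (key i₁).1, (hD i₁).1,
      inferInstance, inferInstance, fun _ => hi₁ i₁ (𝟙 _), (key i₁).2⟩
  · let i : Iᵒᵖ := Classical.arbitrary _
    exact ⟨(D.obj i).left, h₀ ≫ (c.π.app i).left, (D.obj i).hom, (key i).1, (hD i).1,
      inferInstance, inferInstance, fun h' => absurd h' hsep, (key i).2⟩

include H in
/-- Statement of S7396 in hypothesis form. -/
theorem exists_closedImmersion_finite_fp {X S : Scheme.{u}} (f : X ⟶ S) [IsFinite f]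
    [CompactSpace S] [QuasiSeparatedSpace S] :
    ∃ (X' : Scheme.{u}) (f' : X' ⟶ S) (j : X ⟶ X'), IsFinite f' ∧ LocallyOfFinitePresentation f' ∧
      IsClosedImmersion j ∧ j ≫ f' = f := by
  obtain ⟨X₁, f₁, j, h1, h2, h3, h4⟩ := exists_proper_fp_closedImmersion H f
  haveI := h1
  haveI := h2
  haveI := h3
  haveI : CompactSpace X₁ := QuasiCompact.compactSpace_of_compactSpace f₁
  haveI : QuasiSeparatedSpace X₁ := quasiSeparatedSpace_of_quasiSeparated f₁
  obtain ⟨I, _, _, _, D, c, hc, e, hD, hDm, hDπ⟩ := exists_limit_of_closedImmersion j f₁ f h4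
  let D' : Iᵒᵖ ⥤ Scheme.{u} := D ⋙ Over.forget S
  let c' : Cone D' := (Over.forget S).mapCone c
  have hc' : IsLimit c' := isLimitOfPreserves (Over.forget S) hc
  let t : D' ⟶ (Functor.const Iᵒᵖ).obj S :=
    { app := fun i => (D.obj i).hom
      naturality := fun i k a => by
        change (D.map a).left ≫ (D.obj k).hom = (D.obj i).hom ≫ 𝟙 S
        rw [Category.comp_id]
        exact Over.w (D.map a) }
  have hprop : ∀ i, IsProper (D.obj i).hom ∧ LocallyOfFinitePresentation (D.obj i).hom := by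
    intro i
    obtain ⟨ι, hι1, hι2, hι3⟩ := hD i
    haveI := hι1
    haveI := hι2
    rw [← hι3]
    exact ⟨inferInstance, inferInstance⟩
  haveI : ∀ i, CompactSpace (D'.obj i) := fun i => by
    obtain ⟨ι, hι1, -, -⟩ := hD i
    exact ι.isClosedEmbedding.compactSpace
  haveI : ∀ i, QuasiSeparatedSpace (D'.obj i) := fun i => by
    obtain ⟨ι, hι1, -, -⟩ := hD i
    haveI := hι1
    have h0 : QuasiSeparatedSpace ↥(D.obj i).left := quasiSeparatedSpace_of_quasiSeparated ι
    exact h0
  let i₀ : Iᵒᵖ := Classical.arbitrary _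
  have hpt : c.pt.hom = e.hom.left ≫ f := (Over.w e.hom).symm
  haveI : IsIso e.hom.left := inferInstanceAs (IsIso ((Over.forget S).map e.hom))
  haveI : IsAffineHom (c'.π.app i₀ ≫ t.app i₀) := by
    have h5 : c'.π.app i₀ ≫ t.app i₀ = e.hom.left ≫ f := (Over.w (c.π.app i₀)).trans hpt
    have h6 : IsAffineHom e.hom.left := inferInstance
    have h7 : IsAffineHom f := inferInstance
    rw [h5]
    exact @instIsAffineHomCompScheme _ _ _ e.hom.left f h6 h7
  haveI : ∀ (i k : Iᵒᵖ) (a : i ⟶ k), IsAffineHom (D'.map a) := fun i k a => by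
    haveI : IsClosedImmersion (D.map a).left := hDm i k a
    exact inferInstanceAs (IsAffineHom (D.map a).left)
  obtain ⟨i₁, hi₁⟩ := Groth.Agent.S9200.result S D' t c' hc' i₀
  have haff : IsAffineHom (D.obj i₁).hom := hi₁ i₁ (𝟙 _)
  haveI : IsIso e.inv.left := inferInstanceAs (IsIso ((Over.forget S).map e.inv))
  haveI : IsClosedImmersion (c.π.app i₁).left := hDπ i₁
  refine ⟨(D.obj i₁).left, (D.obj i₁).hom, e.inv.left ≫ (c.π.app i₁).left,
    IsFinite.iff_isProper_and_isAffineHom.mpr ⟨(hprop i₁).1, haff⟩, (hprop i₁).2, inferInstance, ?_⟩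
  rw [Category.assoc]
  exact (congrArg (e.inv.left ≫ ·) (Over.w (c.π.app i₁))).trans (Over.w e.inv)

/-- A cofiltered limit, in `Over X`, of affine `X`-schemes is affine over `X` (no hypothesis). -/
theorem isAffineHom_of_isLimit_affine {X Y : Scheme.{u}} (f : Y ⟶ X) {J : Type u} [SmallCategory J]
    [IsCofiltered J] (D : J ⥤ Over X) (c : Cone D) (hc : IsLimit c)
    (hD : ∀ i, IsAffineHom (D.obj i).hom) (e : c.pt ≅ Over.mk f) : IsAffineHom f := by
  haveI : IsConnected J := IsCofiltered.isConnected J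
  let D' : J ⥤ Scheme.{u} := D ⋙ Over.forget X
  let c' : Cone D' := (Over.forget X).mapCone c
  have hc' : IsLimit c' := isLimitOfPreserves (Over.forget X) hc
  haveI : ∀ {i j : J} (a : i ⟶ j), IsAffineHom (D'.map a) := fun {i j} a => by
    haveI := hD j
    haveI : IsAffineHom ((D.map a).left ≫ (D.obj j).hom) := by
      rw [Over.w (D.map a)]; exact hD i
    exact MorphismProperty.of_postcomp (W := @IsAffineHom) (W' := @IsSeparated) (D.map a).left
      (D.obj j).hom inferInstance inferInstance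
  let i₀ : J := Classical.arbitrary _
  have h1 : IsAffineHom (c.π.app i₀).left := isAffineHom_π_app D' c' hc' i₀
  have h2 : IsAffineHom (D.obj i₀).hom := hD i₀
  haveI : IsIso e.inv.left := inferInstanceAs (IsIso ((Over.forget X).map e.inv))
  have h3 : IsAffineHom e.inv.left := inferInstance
  have h4 : f = e.inv.left ≫ (c.π.app i₀).left ≫ (D.obj i₀).hom := by
    rw [Over.w (c.π.app i₀)]
    exact (Over.w e.inv).symm
  rw [h4]
  exact @instIsAffineHomCompScheme _ _ _ e.inv.left _ h3
    (@instIsAffineHomCompScheme _ _ _ (c.π.app i₀).left (D.obj i₀).hom h1 h2)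

include H in
/-- Statement of S17885 in hypothesis form. -/
theorem isAffineHom_iff_isLimit {X Y : Scheme.{u}} (f : Y ⟶ X)
    [CompactSpace X] [QuasiSeparatedSpace X] [CompactSpace Y] [QuasiSeparatedSpace Y] :
    IsAffineHom f ↔
      ∃ (I : Type u) (_ : SmallCategory I) (_ : IsFiltered I) (D : Iᵒᵖ ⥤ Over X)
        (c : Limits.Cone D) (_ : Limits.IsLimit c),
        (∀ i, IsAffineHom (D.obj i).hom ∧ LocallyOfFinitePresentation (D.obj i).hom) ∧
        Nonempty (c.pt ≅ Over.mk f) := by
  constructor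
  · intro hf
    obtain ⟨I, hI1, hI2, hI3, D, c, hc, hD, hD', ⟨e⟩⟩ := H f
    haveI : ∀ i, QuasiCompact (D.obj i).hom := fun i => (hD i).2.1
    haveI : ∀ i, QuasiSeparated (D.obj i).hom := fun i => (hD i).2.2
    let D' : Iᵒᵖ ⥤ Scheme.{u} := D ⋙ Over.forget X
    let c' : Cone D' := (Over.forget X).mapCone c
    have hc' : IsLimit c' := isLimitOfPreserves (Over.forget X) hc
    let t : D' ⟶ (Functor.const Iᵒᵖ).obj X :=
      { app := fun i => (D.obj i).hom
        naturality := fun i k a => by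
          change (D.map a).left ≫ (D.obj k).hom = (D.obj i).hom ≫ 𝟙 X
          rw [Category.comp_id]
          exact Over.w (D.map a) }
    haveI : ∀ i, CompactSpace (D'.obj i) := fun i => by
      have h0 : CompactSpace ↥(D.obj i).left :=
        QuasiCompact.compactSpace_of_compactSpace (D.obj i).hom
      exact h0
    haveI : ∀ i, QuasiSeparatedSpace (D'.obj i) := fun i => by
      have h0 : QuasiSeparatedSpace ↥(D.obj i).left :=
        quasiSeparatedSpace_of_quasiSeparated (D.obj i).hom
      exact h0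
    let i₀ : Iᵒᵖ := Classical.arbitrary _
    have hpt : c.pt.hom = e.hom.left ≫ f := (Over.w e.hom).symm
    haveI : IsIso e.hom.left := inferInstanceAs (IsIso ((Over.forget X).map e.hom))
    haveI : IsAffineHom (c'.π.app i₀ ≫ t.app i₀) := by
      have h5 : c'.π.app i₀ ≫ t.app i₀ = e.hom.left ≫ f := (Over.w (c.π.app i₀)).trans hpt
      have h6 : IsAffineHom e.hom.left := inferInstance
      rw [h5]
      exact @instIsAffineHomCompScheme _ _ _ e.hom.left f h6 hf
    haveI : ∀ (i k : Iᵒᵖ) (a : i ⟶ k), IsAffineHom (D'.map a) := fun i k a => hD' i k a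
    obtain ⟨i₁, hi₁⟩ := Groth.Agent.S9200.result X D' t c' hc' i₀
    -- restrict to the indices above `i₁`
    let I' : Type u := {i : I // i₁.unop ≤ i}
    have hmono : Monotone (Subtype.val : I' → I) := fun _ _ h => h
    haveI : Nonempty I' := ⟨⟨i₁.unop, le_rfl⟩⟩
    haveI : IsDirected I' (fun a b => a ≤ b) := ⟨fun a b => by
      obtain ⟨k, hak, hbk⟩ := directed_of (fun a b : I => a ≤ b) a.1 b.1
      exact ⟨⟨k, a.2.trans hak⟩, hak, hbk⟩⟩
    haveI : hmono.functor.Final := by
      rw [Monotone.final_functor_iff]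
      intro i
      obtain ⟨k, hik, h1k⟩ := directed_of (fun a b : I => a ≤ b) i i₁.unop
      exact ⟨⟨k, h1k⟩, hik⟩
    refine ⟨I', inferInstance, inferInstance, hmono.functor.op ⋙ D, c.whisker hmono.functor.op,
      (Functor.Initial.isLimitWhiskerEquiv hmono.functor.op c).symm hc, fun i => ⟨?_, ?_⟩, ⟨e⟩⟩
    · exact hi₁ (op i.unop.1) (homOfLE i.unop.2).op
    · exact (hD (op i.unop.1)).1
  · rintro ⟨I, hI1, hI2, D, c, hc, hD, ⟨e⟩⟩
    exact isAffineHom_of_isLimit_affine f D c hc (fun i => (hD i).1) e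

end Groth.Agent.Lib.ApproxCons5
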