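import Groth.Agent.Lib.DescFPMain
import Groth.Agent.Lib.FGSubalgLimitU

/-!
# Spreading out finitely presented morphisms with a property (helper62)

* `exists_model_with_prop`: EGA IV 8.8.2 + 8.10.5-type descent: if `f : X ⟶ c.pt` is finitely
  presented and satisfies `P` (a property descending along limits), then `f` is the base change of
  a finitely presented `fj : Xj ⟶ D.obj j` satisfying `P`.
* `exists_model_over_fg`: the same over the system of finitely generated `ℤ`-subalgebras of a ring.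
* `descends_smooth`, `descends_etale`, `descends_formallyUnramified`.
-/

set_option autoImplicit false
universe u

open CategoryTheory Limits AlgebraicGeometry

namespace Groth.Agent.Lib.DescFP

open Groth.Agent.Lib.LimPullback Groth.Agent.Lib.LimDescent Groth.Agent.Lib.SpreadPair

theorem descends_smooth : DescendsAlongLimit @Smooth.{u} := by
  intro I _ _ D c hc _ i₀ X₀ Y₀ f₀ g₀ _ _ _ _ _ _ _ h
  exact exists_smooth_stage_of_compactSpace D c f₀ g₀ hc h

theorem descends_etale : DescendsAlongLimit @Etale.{u} := by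
  intro I _ _ D c hc _ i₀ X₀ Y₀ f₀ g₀ _ _ _ _ _ _ _ h
  exact exists_etale_stage_of_compactSpace D c f₀ g₀ hc h

theorem descends_formallyUnramified : DescendsAlongLimit @FormallyUnramified.{u} := by
  intro I _ _ D c hc _ i₀ X₀ Y₀ f₀ g₀ _ _ _ _ _ _ _ h
  exact exists_formallyUnramified_stage_of_compactSpace D c f₀ g₀ hc h

variable {I : Type u} [Category.{u} I] (D : I ⥤ Scheme.{u}) (c : Cone D) [IsCofiltered I]
  (hc : IsLimit c) [∀ {i j} (f : i ⟶ j), IsAffineHom (D.map f)]

include hc in
/-- A finitely presented morphism to the limit with a property `P` descending along limits is the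
base change of a finitely presented morphism to a stage with `P`. -/
theorem exists_model_with_prop [∀ i, CompactSpace (D.obj i)] [∀ i, QuasiSeparatedSpace (D.obj i)]
    (P : MorphismProperty Scheme.{u}) [P.RespectsIso] (hP : DescendsAlongLimit P)
    {X : Scheme.{u}} (f : X ⟶ c.pt) [LocallyOfFinitePresentation f] [QuasiCompact f]
    [QuasiSeparated f] (hf : P f) :
    ∃ (j : I) (Xj : Scheme.{u}) (fj : Xj ⟶ D.obj j) (g : X ⟶ Xj),
      P fj ∧ LocallyOfFinitePresentation fj ∧ CompactSpace Xj ∧ QuasiSeparatedSpace Xj ∧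
        IsPullback g f fj (c.π.app j) := by
  obtain ⟨i, Xi, fi, g, _, _, _, sq⟩ := hasModel_of_fp D c hc f
  have sqZ : IsPullback (c.π.app i) (𝟙 c.pt) (𝟙 (D.obj i)) (c.π.app i) := IsPullback.id_vert _
  obtain ⟨j, φ, hj⟩ := exists_prop_descent D c hc P hP fi (𝟙 (D.obj i)) sq sqZ f
    (Category.comp_id f) fi (Category.comp_id fi) sq.w hf
  have h1 : P (pbHom D φ fi (𝟙 (D.obj i)) fi (Category.comp_id fi) ≫
      pullback.snd (𝟙 (D.obj i)) (D.map φ)) :=
    (P.cancel_right_of_respectsIso _ _).2 hj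
  rw [pbHom_snd] at h1
  exact ⟨j, pullback fi (D.map φ), pullback.snd fi (D.map φ), pbLift D c φ fi g f sq.w, h1,
    inferInstance, inferInstance, inferInstance, isPullback_pbLift D c φ fi sq⟩

end Groth.Agent.Lib.DescFP

namespace Groth.Agent.Lib.DescFP

open Groth.Agent.Lib.SpreadPair Groth.Agent.Lib.FGSubalgLimitU

/-- Spreading out over a finitely generated `ℤ`-subalgebra. -/
theorem exists_model_over_fg (P : MorphismProperty Scheme.{u}) [P.RespectsIso]
    (hP : DescendsAlongLimit P) (A : Type u) [CommRing A] {X : Scheme.{u}}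
    (f : X ⟶ Spec (CommRingCat.of A)) [LocallyOfFinitePresentation f] [QuasiCompact f]
    [QuasiSeparated f] (hf : P f) :
    ∃ A₀ : Subalgebra ℤ A, A₀.FG ∧
      ∃ (X₀ : Scheme.{u}) (f₀ : X₀ ⟶ Spec (CommRingCat.of ↥A₀)) (g : X ⟶ X₀),
        P f₀ ∧ LocallyOfFinitePresentation f₀ ∧ QuasiCompact f₀ ∧ QuasiSeparated f₀ ∧
          IsPullback g f f₀ (Spec.map (CommRingCat.ofHom (algebraMap (↥A₀) A))) := by
  haveI : ∀ {i j : (FGSub ℤ A)ᵒᵖ} (φ : i ⟶ j), IsAffineHom ((D ℤ A).map φ) :=
    fun φ => inferInstance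
  haveI : ∀ i, CompactSpace ((D ℤ A).obj i) := fun i =>
    (inferInstance : CompactSpace (Spec (CommRingCat.of i.unop.1)))
  haveI : ∀ i, QuasiSeparatedSpace ((D ℤ A).obj i) := fun i =>
    (inferInstance : QuasiSeparatedSpace (Spec (CommRingCat.of i.unop.1)))
  haveI i1 : LocallyOfFinitePresentation (Y := (cone ℤ A).pt) f := ‹LocallyOfFinitePresentation f›
  haveI i2 : QuasiCompact (Y := (cone ℤ A).pt) f := ‹QuasiCompact f›
  haveI i3 : QuasiSeparated (Y := (cone ℤ A).pt) f := ‹QuasiSeparated f›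
  obtain ⟨j, Xj, fj, g, h1, h2, h3, h4, sq⟩ :=
    exists_model_with_prop (D ℤ A) (cone ℤ A) (isLimitCone ℤ A) P hP
      (X := X) (f : X ⟶ (cone ℤ A).pt) hf
  refine ⟨j.unop.1, j.unop.2, Xj, fj, g, h1, h2, ?_, ?_, sq⟩
  · exact quasiCompact_of_compactSpace (X := Xj) (Y := (D ℤ A).obj j) fj
  · exact (inferInstance : QuasiSeparated (Y := (D ℤ A).obj j) fj)

end Groth.Agent.Lib.DescFP
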