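import Groth.Agent.Lib.LimDescentRebase

/-!
# General reduction lemmas for descent of morphism properties through cofiltered limits

* change of system: replace `(D, i₀, g₀ : Y₀ ⟶ D.obj i₀)` by the system `j ↦ Y₀ ×_{D i₀} D j`
  whose base stage is (isomorphic to) `Y₀`;
* rebase to a later stage;
* localisation on the target along a finite open cover of `Y₀`.
-/

set_option autoImplicit false
universe u

open CategoryTheory Limits AlgebraicGeometry

namespace Groth.Agent.Lib.LimDescent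

open Groth.Agent.Lib.LimPullback

variable {I : Type u} [Category.{u} I] (D : I ⥤ Scheme.{u}) (c : Cone D)

section ChangeOfSystem

variable {i₀ : I} {X₀ Y₀ : Scheme.{u}} (f₀ : X₀ ⟶ Y₀) (g₀ : Y₀ ⟶ D.obj i₀)

/-- The base index of the system `pbDiagram D i₀ g₀`. -/
abbrev baseIdx (i₀ : I) : Over i₀ := Over.mk (𝟙 i₀)

/-- The structure map `Y₀ ⟶ Y₀ ×_{D i₀} D i₀` of `Y₀` over the base stage of the new system. -/
noncomputable def newBase : Y₀ ⟶ (pbDiagram D i₀ g₀).obj (baseIdx i₀) :=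
  pullback.lift (𝟙 Y₀) g₀ (by
    change 𝟙 Y₀ ≫ g₀ = g₀ ≫ D.map (𝟙 i₀)
    rw [Category.id_comp, D.map_id, Category.comp_id])

theorem newBase_fst : newBase D g₀ ≫ pullback.fst g₀ (D.map (baseIdx i₀).hom) = 𝟙 Y₀ :=
  pullback.lift_fst _ _ _

theorem newBase_snd : newBase D g₀ ≫ pullback.snd g₀ (D.map (baseIdx i₀).hom) = g₀ :=
  pullback.lift_snd _ _ _

instance isIso_newBase : IsIso (newBase D g₀) := by
  have h0 : IsIso (D.map (baseIdx i₀).hom) := by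
    change IsIso (D.map (𝟙 i₀))
    rw [D.map_id]; infer_instance
  have h1 : IsIso (pullback.fst g₀ (D.map (baseIdx i₀).hom)) :=
    (IsPullback.of_hasPullback g₀ (D.map (baseIdx i₀).hom)).isIso_fst_of_isIso h0
  have h2 : IsIso (newBase D g₀ ≫ pullback.fst g₀ (D.map (baseIdx i₀).hom)) := by
    rw [newBase_fst]; infer_instance
  exact @IsIso.of_isIso_comp_right _ _ _ _ _ (newBase D g₀)
    (pullback.fst g₀ (D.map (baseIdx i₀).hom)) h1 h2

variable {f₀ g₀}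

theorem isBC_of_newBase (k : Over (baseIdx i₀)) {X' Y' : Scheme.{u}} {h : X' ⟶ Y'}
    (H : IsBC f₀ (newBase D g₀) ((pbDiagram D i₀ g₀).map k.hom) h) :
    IsBC f₀ g₀ (D.map k.left.hom) h := by
  obtain ⟨pY, gY, pX, hY, hX⟩ := H
  refine ⟨pY, gY ≫ pullback.snd g₀ (D.map k.left.hom), pX, ?_, hX⟩
  have sq := isPullback_pbMap D i₀ g₀ k.hom
  have key := hY.paste_vert sq
  have e2 : k.hom.left = k.left.hom := by
    have := Over.w k.hom
    simpa using this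
  rw [newBase_snd, e2] at key
  exact key

theorem isBC_of_newBase_lim {X' Y' : Scheme.{u}} {h : X' ⟶ Y'}
    (H : IsBC f₀ (newBase D g₀) ((pbCone D c i₀ g₀).π.app (baseIdx i₀)) h) :
    IsBC f₀ g₀ (c.π.app i₀) h := by
  obtain ⟨pY, gY, pX, hY, hX⟩ := H
  refine ⟨pY, gY ≫ pullback.snd g₀ (c.π.app i₀), pX, ?_, hX⟩
  have sq := isPullback_pbProj D c i₀ g₀ (baseIdx i₀)
  have key := hY.paste_vert sq
  rw [newBase_snd] at key
  exact key

variable (f₀ g₀)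

/-- Change of system: to descend `P` for `(D, i₀, f₀, g₀)` it suffices to descend it for the system
`pbDiagram D i₀ g₀` with base stage `Y₀`. -/
theorem exists_stage_of_newBase (P : MorphismProperty Scheme.{u}) [P.RespectsIso]
    (H : P (bcMap f₀ (newBase D g₀) ((pbCone D c i₀ g₀).π.app (baseIdx i₀))) →
      ∃ k : Over (baseIdx i₀), P (bcMap f₀ (newBase D g₀) ((pbDiagram D i₀ g₀).map k.hom)))
    (h : P (bcMap f₀ g₀ (c.π.app i₀))) : ∃ j : Over i₀, P (bcMap f₀ g₀ (D.map j.hom)) := by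
  have h' : P (bcMap f₀ (newBase D g₀) ((pbCone D c i₀ g₀).π.app (baseIdx i₀))) :=
    (IsBC.iff_of_isBC P (isBC_of_newBase_lim D c (isBC_bcMap f₀ (newBase D g₀) _))
      (isBC_bcMap f₀ g₀ (c.π.app i₀))).mpr h
  obtain ⟨k, hk⟩ := H h'
  exact ⟨k.left, (IsBC.iff_of_isBC P (isBC_of_newBase D k (isBC_bcMap f₀ (newBase D g₀) _))
    (isBC_bcMap f₀ g₀ (D.map k.left.hom))).mp hk⟩

end ChangeOfSystem

section Rebase

variable {i₀ : I} {X₀ Y₀ : Scheme.{u}} (f₀ : X₀ ⟶ Y₀) (g₀ : Y₀ ⟶ D.obj i₀)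

/-- Rebase to a later stage `k`. -/
theorem exists_stage_of_rebase (P : MorphismProperty Scheme.{u}) [P.RespectsIso] (k : Over i₀)
    (H : P (bcMap (bcMap f₀ g₀ (D.map k.hom)) (pullback.snd g₀ (D.map k.hom)) (c.π.app k.left)) →
      ∃ m : Over k.left,
        P (bcMap (bcMap f₀ g₀ (D.map k.hom)) (pullback.snd g₀ (D.map k.hom)) (D.map m.hom)))
    (h : P (bcMap f₀ g₀ (c.π.app i₀))) : ∃ j : Over i₀, P (bcMap f₀ g₀ (D.map j.hom)) := by
  have hbc : IsBC f₀ g₀ (c.π.app k.left ≫ D.map k.hom)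
      (bcMap (bcMap f₀ g₀ (D.map k.hom)) (pullback.snd g₀ (D.map k.hom)) (c.π.app k.left)) :=
    isBC_trans (IsPullback.of_hasPullback g₀ (D.map k.hom)) (isPullback_bcMap f₀ g₀ (D.map k.hom))
      (isBC_bcMap _ _ _)
  rw [c.w] at hbc
  obtain ⟨m, hm⟩ := H ((IsBC.iff_of_isBC P hbc (isBC_bcMap f₀ g₀ (c.π.app i₀))).mpr h)
  have hbc' : IsBC f₀ g₀ (D.map m.hom ≫ D.map k.hom)
      (bcMap (bcMap f₀ g₀ (D.map k.hom)) (pullback.snd g₀ (D.map k.hom)) (D.map m.hom)) :=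
    isBC_trans (IsPullback.of_hasPullback g₀ (D.map k.hom)) (isPullback_bcMap f₀ g₀ (D.map k.hom))
      (isBC_bcMap _ _ _)
  rw [← D.map_comp] at hbc'
  exact ⟨Over.mk (m.hom ≫ k.hom),
    (IsBC.iff_of_isBC P hbc' (isBC_bcMap f₀ g₀ (D.map (m.hom ≫ k.hom)))).mp hm⟩

end Rebase

section Restrict

variable {X₀ Y₀ B : Scheme.{u}} (f₀ : X₀ ⟶ Y₀) (g₀ : Y₀ ⟶ B)

/-- Restriction of the target along `u : U ⟶ Y₀`: the base change of `bcMap f₀ g₀ b` along
`U ×_{Y₀} (Y₀ ×_B B') ⟶ Y₀ ×_B B'` is a base change of `f₀ ×_{Y₀} U` along `b`. -/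
theorem isBC_restrict {U B' : Scheme.{u}} (u : U ⟶ Y₀) (b : B' ⟶ B) :
    IsBC (pullback.snd f₀ u) (u ≫ g₀) b
      (pullback.snd (bcMap f₀ g₀ b) (pullback.fst (pullback.fst g₀ b) u)) := by
  set ι := pullback.fst (pullback.fst g₀ b) u with hι
  set pY := pullback.snd (pullback.fst g₀ b) u with hpY
  have sq1 : IsPullback pY ι u (pullback.fst g₀ b) := (IsPullback.of_hasPullback _ _).flip
  have sq2 : IsPullback (pullback.fst g₀ b) (pullback.snd g₀ b) g₀ b :=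
    IsPullback.of_hasPullback _ _
  have hY : IsPullback pY (ι ≫ pullback.snd g₀ b) (u ≫ g₀) b := sq1.paste_vert sq2
  have big : IsPullback (pullback.fst (bcMap f₀ g₀ b) ι ≫ pullback.fst (f₀ ≫ g₀) b)
      (pullback.snd (bcMap f₀ g₀ b) ι) f₀ (ι ≫ pullback.fst g₀ b) :=
    (IsPullback.of_hasPullback (bcMap f₀ g₀ b) ι).paste_horiz (isPullback_bcMap f₀ g₀ b)
  have w : (pullback.fst (bcMap f₀ g₀ b) ι ≫ pullback.fst (f₀ ≫ g₀) b) ≫ f₀ =
      (pullback.snd (bcMap f₀ g₀ b) ι ≫ pY) ≫ u := by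
    rw [big.w, Category.assoc, sq1.w]
  let pX : pullback (bcMap f₀ g₀ b) ι ⟶ pullback f₀ u := pullback.lift _ _ w
  have hpX1 : pX ≫ pullback.fst f₀ u =
      pullback.fst (bcMap f₀ g₀ b) ι ≫ pullback.fst (f₀ ≫ g₀) b := pullback.lift_fst _ _ _
  have hpX2 : pX ≫ pullback.snd f₀ u = pullback.snd (bcMap f₀ g₀ b) ι ≫ pY :=
    pullback.lift_snd _ _ _
  refine ⟨pY, ι ≫ pullback.snd g₀ b, pX, hY, ?_⟩
  refine IsPullback.of_right ?_ hpX2 (IsPullback.of_hasPullback f₀ u)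
  rw [hpX1, sq1.w]
  exact big

end Restrict

section Local

variable [IsCofiltered I] {i₀ : I} {X₀ Y₀ : Scheme.{u}} (f₀ : X₀ ⟶ Y₀) (g₀ : Y₀ ⟶ D.obj i₀)

/-- Localisation on the target along a finite open cover of `Y₀`. -/
theorem exists_stage_of_openCover (P : MorphismProperty Scheme.{u}) [IsZariskiLocalAtTarget P]
    [P.IsStableUnderBaseChange] (𝒰 : Y₀.OpenCover) [Finite 𝒰.I₀]
    (H : ∀ a, P (bcMap (pullback.snd f₀ (𝒰.f a)) (𝒰.f a ≫ g₀) (c.π.app i₀)) →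
      ∃ j : Over i₀, P (bcMap (pullback.snd f₀ (𝒰.f a)) (𝒰.f a ≫ g₀) (D.map j.hom)))
    (h : P (bcMap f₀ g₀ (c.π.app i₀))) : ∃ j : Over i₀, P (bcMap f₀ g₀ (D.map j.hom)) := by
  classical
  haveI : P.RespectsIso := inferInstance
  have key : ∀ a, ∃ j : Over i₀,
      P (bcMap (pullback.snd f₀ (𝒰.f a)) (𝒰.f a ≫ g₀) (D.map j.hom)) := by
    intro a
    refine H a (((isBC_restrict f₀ g₀ (𝒰.f a) (c.π.app i₀)).iff P).mp ?_)
    exact MorphismProperty.pullback_snd _ _ h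
  choose j hj using key
  haveI := Fintype.ofFinite 𝒰.I₀
  obtain ⟨j', hj'⟩ := IsCofiltered.inf_objs_exists (Finset.univ.image j)
  refine ⟨j', ?_⟩
  refine IsZariskiLocalAtTarget.of_openCover
    (𝒰.pullback₁ (pullback.fst g₀ (D.map j'.hom))) (fun (a : 𝒰.I₀) => ?_)
  change P (pullback.snd (bcMap f₀ g₀ (D.map j'.hom))
    (pullback.fst (pullback.fst g₀ (D.map j'.hom)) (𝒰.f a)))
  refine ((isBC_restrict f₀ g₀ (𝒰.f a) (D.map j'.hom)).iff P).mpr ?_
  obtain ⟨m⟩ := hj' (Finset.mem_image_of_mem j (Finset.mem_univ a))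
  exact MorphismProperty.of_isPullback
    (isPullback_pbMap_bcMap D (pullback.snd f₀ (𝒰.f a)) (𝒰.f a ≫ g₀) m) (hj a)

end Local

end Groth.Agent.Lib.LimDescent
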