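import Groth.Agent.Lib.H77FibProper
import Groth.Agent.Lib.ConsPairGeomInst
import Groth.Agent.Lib.DescFPSpread
import Groth.Agent.Lib.FGSubalgLimitU
import Groth.Agent.Lib.LimDescentGen

/-!
# Properness descends along cofiltered limits (EGA IV 8.10.5 (xii)) (helper77)

`descends_isProper : DescendsAlongLimit @IsProper`: for a finitely presented morphism
`f₀ : X₀ ⟶ Y₀` of qcqs schemes over a stage of a cofiltered system with affine transition maps, if
the base change of `f₀` to the limit is proper then so is the base change to some stage.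

Strategy: separatedness descends, so we may assume `f₀` separated; properness is local on the
target so we may assume `Y₀ = Spec A` affine.  Then `f₀` is the base change of a separated morphism
of finite type `f₁ : X₁ ⟶ Y₁ = Spec A₁` with `A₁` a finitely generated ring.  Chow's lemma on the
irreducible components of the Noetherian scheme `X₁` yields a finite family of immersions
`φ_k : W_k ⟶ P_k` into proper `Y₁`-schemes such that a base change of `f₁` is proper iff the
corresponding base changes of all the `φ_k` are closed immersions; and closed immersions descend.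
-/

set_option autoImplicit false
set_option linter.style.haveILetI false
universe u
open CategoryTheory Limits AlgebraicGeometry TopologicalSpace Topology

namespace Groth.Agent.Lib.H77ProperLim

open Groth.Agent.Lib.LimDescent Groth.Agent.Lib.SpreadPair Groth.Agent.Lib.H77FibProper
  Groth.Agent.Lib.LimPullback

/-- Properness of a base change can be tested on the irreducible components of a Noetherian
source. -/
theorem isProper_bcMap_iff_forall_components {X Y S T : Scheme.{u}} [IsNoetherian X] (f : X ⟶ Y)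
    (g : Y ⟶ S) (b : T ⟶ S) [IsSeparated f] [LocallyOfFiniteType f]
    (I : ↥(irreducibleComponents X) → X.IdealSheafData)
    (hrange : ∀ Z, Set.range (I Z).subschemeι = Z.1) :
    IsProper (bcMap f g b) ↔ ∀ Z, IsProper (bcMap ((I Z).subschemeι ≫ f) g b) := by
  classical
  have hfin : (irreducibleComponents X).Finite :=
    TopologicalSpace.NoetherianSpace.finite_irreducibleComponents
  haveI : Finite ↥(irreducibleComponents X) := hfin.to_subtype
  constructor
  · intro h Z
    have H := isBC_comp_bcMap (I Z).subschemeι f g b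
    rw [← H.iff @IsProper]
    haveI : IsClosedImmersion (bcMap (I Z).subschemeι (f ≫ g) b) :=
      MorphismProperty.of_isPullback (isPullback_bcMap (I Z).subschemeι (f ≫ g) b)
        (inferInstance : IsClosedImmersion (I Z).subschemeι)
    infer_instance
  · intro h
    haveI : IsSeparated (bcMap f g b) :=
      MorphismProperty.of_isPullback (isPullback_bcMap f g b) ‹IsSeparated f›
    haveI : LocallyOfFiniteType (bcMap f g b) :=
      MorphismProperty.of_isPullback (isPullback_bcMap f g b) ‹LocallyOfFiniteType f›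
    haveI huc : UniversallyClosed (bcMap f g b) := by
      refine Groth.Agent.Lib.H86Coprod.universallyClosed_of_finite_cover (bcMap f g b)
        (fun Z : ↥(irreducibleComponents X) => pullback ((I Z).subschemeι ≫ f ≫ g) b)
        (fun Z => bcMap (I Z).subschemeι (f ≫ g) b) ?_ ?_
      · intro x'
        let x := pullback.fst (f ≫ g) b x'
        let Z : ↥(irreducibleComponents X) :=
          ⟨irreducibleComponent x, irreducibleComponent_mem_irreducibleComponents x⟩
        refine ⟨Z, ?_⟩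
        rw [range_eq_preimage_of_isPullback (isPullback_bcMap (I Z).subschemeι (f ≫ g) b),
          hrange Z]
        exact mem_irreducibleComponent
      · intro Z
        have H := isBC_comp_bcMap (I Z).subschemeι f g b
        have : IsProper (bcMap (I Z).subschemeι (f ≫ g) b ≫ bcMap f g b) :=
          (H.iff @IsProper).mpr (h Z)
        infer_instance
    exact { }

/-- **Chow families**: for a separated morphism of finite type from a Noetherian scheme to an affine
scheme there is a finite family of immersions `φ_k : W_k ⟶ P_k` into proper `Y`-schemes such that a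
base change of `f` is proper iff the corresponding base changes of the `φ_k` are closed
immersions. -/
theorem exists_chowFam {X Y : Scheme.{u}} [IsAffine Y] [IsNoetherian X] (f : X ⟶ Y)
    [IsSeparated f] [LocallyOfFiniteType f] [QuasiCompact f] :
    ∃ (ι : Type u) (_ : Finite ι) (W P : ι → Scheme.{u}) (φ : ∀ k, W k ⟶ P k)
      (p : ∀ k, P k ⟶ Y),
      (∀ k, IsProper (p k)) ∧ (∀ k, IsImmersion (φ k)) ∧
      (∀ k, LocallyOfFiniteType (φ k ≫ p k) ∧ QuasiCompact (φ k ≫ p k)) ∧
      ∀ {S T : Scheme.{u}} (g : Y ⟶ S) (b : T ⟶ S),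
        IsProper (bcMap f g b) ↔ ∀ k, IsClosedImmersion (bcMap (φ k) (p k ≫ g) b) := by
  classical
  have hfin : (irreducibleComponents X).Finite :=
    TopologicalSpace.NoetherianSpace.finite_irreducibleComponents
  haveI : Finite ↥(irreducibleComponents X) := hfin.to_subtype
  let Zc : ↥(irreducibleComponents X) → Closeds X := fun Z =>
    ⟨Z.1, isClosed_of_mem_irreducibleComponents Z.1 Z.2⟩
  let I : ↥(irreducibleComponents X) → X.IdealSheafData := fun Z =>
    Scheme.IdealSheafData.vanishingIdeal (Zc Z)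
  have hint : ∀ Z, IsIntegral (I Z).subscheme := fun Z =>
    Groth.Agent.Lib.H90DevAtom.isIntegral_subscheme (Zc Z) Z.2.1
  have hrange : ∀ Z, Set.range (I Z).subschemeι = Z.1 := fun Z => by
    rw [Scheme.IdealSheafData.range_subschemeι, Scheme.IdealSheafData.coe_support_vanishingIdeal]
    rfl
  have hchow : ∀ Z, ∃ (X' P : Scheme.{u}) (π : X' ⟶ (I Z).subscheme) (φ : X' ⟶ P) (p : P ⟶ Y),
      IsProper p ∧ IsImmersion φ ∧ φ ≫ p = π ≫ (I Z).subschemeι ≫ f ∧ IsProper π ∧
        Surjective π := fun Z => by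
    haveI := hint Z
    exact exists_chow_pair ((I Z).subschemeι ≫ f)
  choose X' P π φ p hp hφ hcomm hπ hπs using hchow
  refine ⟨↥(irreducibleComponents X), inferInstance, X', P, φ, p, hp, hφ, ?_, ?_⟩
  · intro Z
    haveI := hπ Z
    rw [hcomm Z]
    exact ⟨inferInstance, inferInstance⟩
  · intro S T g b
    rw [isProper_bcMap_iff_forall_components f g b I hrange]
    refine forall_congr' fun Z => ?_
    haveI := hp Z
    haveI := hφ Z
    haveI := hπ Z
    haveI := hπs Z
    exact isProper_bcMap_iff_of_chow ((I Z).subschemeι ≫ f) g b (π Z) (φ Z) (p Z) (hcomm Z)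

/-- If `f₀` is the base change of `f₁` along `q`, then the base changes of `f₀` are base changes
of `f₁`. -/
theorem isBC_of_model {X₀ Y₀ X₁ Y₁ B T : Scheme.{u}} {f₀ : X₀ ⟶ Y₀} {f₁ : X₁ ⟶ Y₁} {gX : X₀ ⟶ X₁}
    {q : Y₀ ⟶ Y₁} (sq : IsPullback gX f₀ f₁ q) (g₀ : Y₀ ⟶ B) (b : T ⟶ B) :
    IsBC f₁ (𝟙 Y₁) (pullback.fst g₀ b ≫ q) (bcMap f₀ g₀ b) :=
  ⟨pullback.fst g₀ b ≫ q, 𝟙 _, pullback.fst (f₀ ≫ g₀) b ≫ gX, IsPullback.id_vert _,
    (isPullback_bcMap f₀ g₀ b).paste_horiz sq⟩

/-- Base change in two steps. -/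
theorem isBC_bcMap_bcMap {W P Y₁ Y₀ B T : Scheme.{u}} (φ : W ⟶ P) (p : P ⟶ Y₁) (q : Y₀ ⟶ Y₁)
    (g₀ : Y₀ ⟶ B) (b : T ⟶ B) :
    IsBC φ p (pullback.fst g₀ b ≫ q) (bcMap (bcMap φ p q) (pullback.snd p q ≫ g₀) b) := by
  have H : IsBC (bcMap φ p q) (pullback.snd p q) (pullback.fst g₀ b)
      (bcMap (bcMap φ p q) (pullback.snd p q ≫ g₀) b) :=
    ⟨pullback.fst (pullback.snd p q ≫ g₀) b, bcMap (pullback.snd p q) g₀ b,
      pullback.fst (bcMap φ p q ≫ pullback.snd p q ≫ g₀) b,
      isPullback_bcMap (pullback.snd p q) g₀ b,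
      isPullback_bcMap (bcMap φ p q) (pullback.snd p q ≫ g₀) b⟩
  exact Groth.Agent.Lib.ConsMorInst.isBC_comp q (pullback.fst g₀ b) H

section Core

variable {I : Type u} [Category.{u} I] [IsCofiltered I] (D : I ⥤ Scheme.{u}) (c : Cone D)
  (hc : IsLimit c) [∀ {i j} (f : i ⟶ j), IsAffineHom (D.map f)]

include hc in
/-- Core case: `f₀` separated and the base change of a separated morphism of finite type
`f₁ : X₁ ⟶ Y₁` with `X₁` Noetherian and `Y₁` affine. -/
theorem exists_isProper_stage_of_model {i₀ : I} {X₀ Y₀ X₁ Y₁ : Scheme.{u}} [IsAffine Y₀]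
    [IsAffine Y₁] [IsNoetherian X₁] (f₀ : X₀ ⟶ Y₀) (g₀ : Y₀ ⟶ D.obj i₀) (f₁ : X₁ ⟶ Y₁)
    [IsSeparated f₁] [LocallyOfFiniteType f₁] [QuasiCompact f₁] (gX : X₀ ⟶ X₁) (q : Y₀ ⟶ Y₁)
    (sq : IsPullback gX f₀ f₁ q) (h : IsProper (bcMap f₀ g₀ (c.π.app i₀))) :
    ∃ j : Over i₀, IsProper (bcMap f₀ g₀ (D.map j.hom)) := by
  classical
  obtain ⟨ι, hι, W, P, φ, p, hp, hφ, hft, hchow⟩ := exists_chowFam f₁
  have star : ∀ {T : Scheme.{u}} (b : T ⟶ D.obj i₀), IsProper (bcMap f₀ g₀ b) ↔
      ∀ k, IsClosedImmersion (bcMap (bcMap (φ k) (p k) q) (pullback.snd (p k) q ≫ g₀) b) := by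
    intro T b
    rw [(isBC_of_model sq g₀ b).iff @IsProper, hchow (𝟙 Y₁) (pullback.fst g₀ b ≫ q)]
    refine forall_congr' fun k => ?_
    have H := isBC_bcMap_bcMap (φ k) (p k) q g₀ b
    have H' : IsBC (φ k) (p k ≫ 𝟙 Y₁) (pullback.fst g₀ b ≫ q)
        (bcMap (bcMap (φ k) (p k) q) (pullback.snd (p k) q ≫ g₀) b) := by
      rw [Category.comp_id]; exact H
    exact (H'.iff @IsClosedImmersion).symm
  have hk : ∀ k, ∃ j : Over i₀, IsClosedImmersion
      (bcMap (bcMap (φ k) (p k) q) (pullback.snd (p k) q ≫ g₀) (D.map j.hom)) := by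
    intro k
    haveI := hp k
    haveI := hφ k
    haveI := (hft k).1
    haveI := (hft k).2
    haveI : LocallyOfFiniteType (φ k) := locallyOfFiniteType_of_comp (φ k) (p k)
    haveI : QuasiCompact (φ k) := QuasiCompact.of_comp (φ k) (p k)
    haveI : QuasiSeparated (φ k) := inferInstance
    haveI : LocallyOfFiniteType (bcMap (φ k) (p k) q) :=
      MorphismProperty.of_isPullback (isPullback_bcMap (φ k) (p k) q) inferInstance
    haveI : QuasiCompact (bcMap (φ k) (p k) q) :=
      MorphismProperty.of_isPullback (isPullback_bcMap (φ k) (p k) q) inferInstance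
    haveI : QuasiSeparated (bcMap (φ k) (p k) q) :=
      MorphismProperty.of_isPullback (isPullback_bcMap (φ k) (p k) q) inferInstance
    haveI : CompactSpace ↥(pullback (p k) q) :=
      QuasiCompact.compactSpace_of_compactSpace (pullback.snd (p k) q)
    exact exists_isClosedImmersion_stage D c hc (bcMap (φ k) (p k) q)
      (pullback.snd (p k) q ≫ g₀) ((star (c.π.app i₀)).mp h k)
  choose j hj using hk
  haveI := Fintype.ofFinite ι
  obtain ⟨j', hj'⟩ := IsCofiltered.inf_objs_exists (Finset.univ.image j)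
  refine ⟨j', (star (D.map j'.hom)).mpr fun k => ?_⟩
  obtain ⟨m⟩ := hj' (Finset.mem_image_of_mem j (Finset.mem_univ k))
  exact MorphismProperty.of_isPullback
    (isPullback_pbMap_bcMap D (bcMap (φ k) (p k) q) (pullback.snd (p k) q ≫ g₀) m) (hj k)

open Groth.Agent.Lib.FGSubalgLimitU Groth.Agent.Lib.DescFP in
include hc in
/-- The case `Y₀ = Spec A`, `f₀` separated. -/
theorem exists_isProper_stage_Spec {i₀ : I} (A : Type u) [CommRing A] {X₀ : Scheme.{u}}
    (f₀ : X₀ ⟶ Spec (CommRingCat.of A)) (g₀ : Spec (CommRingCat.of A) ⟶ D.obj i₀)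
    [IsSeparated f₀] [LocallyOfFinitePresentation f₀] [QuasiCompact f₀]
    (h : IsProper (bcMap f₀ g₀ (c.π.app i₀))) :
    ∃ j : Over i₀, IsProper (bcMap f₀ g₀ (D.map j.hom)) := by
  haveI : ∀ {i j : (FGSub ℤ A)ᵒᵖ} (φ : i ⟶ j), IsAffineHom ((Groth.Agent.Lib.FGSubalgLimitU.D ℤ A).map φ) :=
    fun φ => inferInstance
  haveI : ∀ i, CompactSpace ((Groth.Agent.Lib.FGSubalgLimitU.D ℤ A).obj i) := fun i =>
    (inferInstance : CompactSpace (Spec (CommRingCat.of i.unop.1)))
  haveI : ∀ i, QuasiSeparatedSpace ((Groth.Agent.Lib.FGSubalgLimitU.D ℤ A).obj i) := fun i =>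
    (inferInstance : QuasiSeparatedSpace (Spec (CommRingCat.of i.unop.1)))
  have key : ∀ (f' : X₀ ⟶ (cone ℤ A).pt) [LocallyOfFinitePresentation f'] [QuasiCompact f']
      [QuasiSeparated f'], IsSeparated f' →
      ∃ (i : (FGSub ℤ A)ᵒᵖ) (X₁ : Scheme.{u}) (f₁ : X₁ ⟶ (Groth.Agent.Lib.FGSubalgLimitU.D ℤ A).obj i) (gX : X₀ ⟶ X₁),
        IsSeparated f₁ ∧ LocallyOfFinitePresentation f₁ ∧ CompactSpace X₁ ∧
          QuasiSeparatedSpace X₁ ∧ IsPullback gX f' f₁ ((cone ℤ A).π.app i) :=
    fun f' _ _ _ hf' => exists_model_with_prop (Groth.Agent.Lib.FGSubalgLimitU.D ℤ A) (cone ℤ A) (isLimitCone ℤ A) @IsSeparated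
      Groth.Agent.Lib.ConsPairGeom.descends_isSeparated f' hf'
  haveI : QuasiSeparated f₀ := inferInstance
  obtain ⟨i, X₁, f₁, gX, hsep, hfp, hc1, hq1, sq⟩ := @key f₀ ‹_› ‹_› ‹_› ‹_›
  haveI : IsAffine ((Groth.Agent.Lib.FGSubalgLimitU.D ℤ A).obj i) :=
    (inferInstance : IsAffine (Spec (CommRingCat.of i.unop.1)))
  haveI : IsNoetherian ((Groth.Agent.Lib.FGSubalgLimitU.D ℤ A).obj i) := inferInstance
  haveI : IsLocallyNoetherian X₁ := LocallyOfFiniteType.isLocallyNoetherian f₁
  haveI : IsNoetherian X₁ := {}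
  haveI : QuasiCompact f₁ := inferInstance
  exact exists_isProper_stage_of_model D c hc f₀ g₀ f₁ gX ((cone ℤ A).π.app i) sq h

include hc in
/-- The case `Y₀ = Spec R`, `f₀` separated. -/
theorem exists_isProper_stage_Spec' {i₀ : I} (R : CommRingCat.{u}) {X₀ : Scheme.{u}}
    (f₀ : X₀ ⟶ Spec R) (g₀ : Spec R ⟶ D.obj i₀)
    [IsSeparated f₀] [LocallyOfFinitePresentation f₀] [QuasiCompact f₀]
    (h : IsProper (bcMap f₀ g₀ (c.π.app i₀))) :
    ∃ j : Over i₀, IsProper (bcMap f₀ g₀ (D.map j.hom)) :=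
  exists_isProper_stage_Spec D c hc R f₀ g₀ h

include hc in
/-- `f₀` separated, `Y₀` quasi-compact. -/
theorem exists_isProper_stage_of_isSeparated {i₀ : I} {X₀ Y₀ : Scheme.{u}} (f₀ : X₀ ⟶ Y₀)
    (g₀ : Y₀ ⟶ D.obj i₀) [CompactSpace Y₀] [IsSeparated f₀] [LocallyOfFinitePresentation f₀]
    [QuasiCompact f₀] (h : IsProper (bcMap f₀ g₀ (c.π.app i₀))) :
    ∃ j : Over i₀, IsProper (bcMap f₀ g₀ (D.map j.hom)) := by
  refine exists_stage_of_openCover D c f₀ g₀ @IsProper Y₀.affineCover.finiteSubcover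
    (fun a h' => ?_) h
  have i1 : IsSeparated (pullback.snd f₀ (Y₀.affineCover.finiteSubcover.f a)) := inferInstance
  have i2 : LocallyOfFinitePresentation (pullback.snd f₀ (Y₀.affineCover.finiteSubcover.f a)) :=
    inferInstance
  have i3 : QuasiCompact (pullback.snd f₀ (Y₀.affineCover.finiteSubcover.f a)) := inferInstance
  exact @exists_isProper_stage_Spec' I _ _ D c hc _ i₀ _ _
    (pullback.snd f₀ (Y₀.affineCover.finiteSubcover.f a))
    (Y₀.affineCover.finiteSubcover.f a ≫ g₀) i1 i2 i3 h'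

end Core

/-- **EGA IV 8.10.5 (xii)**: properness descends along cofiltered limits with affine transition
maps. -/
theorem descends_isProper : DescendsAlongLimit @IsProper.{u} := by
  intro I _ _ D c hc _ i₀ X₀ Y₀ f₀ g₀ _ _ _ _ _ _ _ h
  haveI := h
  obtain ⟨k, hk⟩ := exists_isSeparated_stage D c hc f₀ g₀ inferInstance
  refine exists_stage_of_rebase D c f₀ g₀ @IsProper k (fun h' => ?_) h
  haveI : IsSeparated (bcMap f₀ g₀ (D.map k.hom)) := hk
  haveI : LocallyOfFinitePresentation (bcMap f₀ g₀ (D.map k.hom)) :=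
    MorphismProperty.of_isPullback (isPullback_bcMap f₀ g₀ (D.map k.hom)) inferInstance
  haveI : QuasiCompact (bcMap f₀ g₀ (D.map k.hom)) :=
    MorphismProperty.of_isPullback (isPullback_bcMap f₀ g₀ (D.map k.hom)) inferInstance
  haveI : CompactSpace ↥(pullback g₀ (D.map k.hom)) := compactSpace_pb D i₀ g₀ k
  exact exists_isProper_stage_of_isSeparated D c hc _ _ h'


end Groth.Agent.Lib.H77ProperLim
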