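import Groth.Agent.Lib.H72NoethApproxFlat
import Groth.Agent.Lib.H77ProperLim

/-!
# Noetherian approximation of a proper finitely presented morphism with a flat module (helper21)

`exists_model_mod_flat_proper`: `f : X ⟶ Spec A` proper and of finite presentation, `F` a finitely presented `O_X`-module
flat over `A`.  Then `(f, F)` is the base change of `(f₀, F₀)` over a finitely generated `ℤ`-subalgebra `A₀ ⊆ A` with `f₀`
proper, `F₀` finitely presented and flat over `A₀`.  (helper72's `H72NoethApproxFlat.exists_model_mod_flat` with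
properness added through helper77's `H77ProperLim.descends_isProper`.)
-/

set_option autoImplicit false
set_option linter.style.haveILetI false
universe u

open CategoryTheory Limits AlgebraicGeometry

namespace Groth.Agent.Lib.ApproxProperFlat21

open Groth.Agent.Lib.ConsLocusMod Groth.Agent.Lib.FGSubalgLimitU Groth.Agent.Lib.H72NoethApproxFlat
  Groth.Agent.Lib.DescFP

set_option maxHeartbeats 1000000 in
theorem exists_model_mod_flat_proper (A : Type u) [CommRing A] {X : Scheme.{u}}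
    (f : X ⟶ Spec (CommRingCat.of A)) [IsProper f] [LocallyOfFinitePresentation f]
    (F : X.Modules) (hF : CohB1.IsFP F) (hfl : FlatMod.IsFlatOver f F) :
    ∃ (A₀ : Subalgebra ℤ A) (_ : A₀.FG) (X₀ : Scheme.{u})
      (f₀ : X₀ ⟶ Spec (CommRingCat.of ↥A₀)) (g' : X ⟶ X₀) (F₀ : X₀.Modules),
      IsProper f₀ ∧ LocallyOfFinitePresentation f₀ ∧
      IsPullback g' f f₀ (Spec.map (CommRingCat.ofHom A₀.val.toRingHom)) ∧
      CohB1.IsFP F₀ ∧ FlatMod.IsFlatOver f₀ F₀ ∧
      Nonempty ((Scheme.Modules.pullback g').obj F₀ ≅ F) := by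
  haveI : ∀ {i j : (FGSub ℤ A)ᵒᵖ} (φ : i ⟶ j), IsAffineHom ((D ℤ A).map φ) :=
    fun φ => inferInstance
  haveI : ∀ i, CompactSpace ((D ℤ A).obj i) := fun i =>
    (inferInstance : CompactSpace (Spec (CommRingCat.of i.unop.1)))
  haveI : ∀ i, QuasiSeparatedSpace ((D ℤ A).obj i) := fun i =>
    (inferInstance : QuasiSeparatedSpace (Spec (CommRingCat.of i.unop.1)))
  have key : ∀ (f' : X ⟶ (cone ℤ A).pt) [IsProper f'] [LocallyOfFinitePresentation f']
      (_ : FlatMod.IsFlatOver f' F),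
      ∃ (k : (FGSub ℤ A)ᵒᵖ) (X₀ : Scheme.{u}) (f₀ : X₀ ⟶ (D ℤ A).obj k) (g' : X ⟶ X₀)
        (F₀ : X₀.Modules), IsProper f₀ ∧ LocallyOfFinitePresentation f₀ ∧
        IsPullback g' f' f₀ ((cone ℤ A).π.app k) ∧
        CohB1.IsFP F₀ ∧ FlatMod.IsFlatOver f₀ F₀ ∧
        Nonempty ((Scheme.Modules.pullback g').obj F₀ ≅ F) := by
    intro f' _ _ hfl'
    obtain ⟨j₀, Xj₀, fj₀, q₀, hprop₀, hlfp₀, hcs₀, hqs₀, sq₀⟩ :=
      exists_model_with_prop (D ℤ A) (cone ℤ A) (isLimitCone ℤ A) @IsProper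
        Groth.Agent.Lib.H77ProperLim.descends_isProper f' inferInstance
    haveI := hprop₀
    haveI := hlfp₀
    haveI := hcs₀
    haveI := hqs₀
    obtain ⟨j, φ, Fj, hFj, ⟨iso⟩⟩ := Groth.Agent.Lib.ConsLocusMod.exists_mod_descent (D ℤ A)
      (cone ℤ A) (isLimitCone ℤ A) modDescent fj₀ sq₀ F hF
    -- the model at stage `j`
    have sq : IsPullback (pbLift (D ℤ A) (cone ℤ A) φ fj₀ q₀ f' sq₀.w) f'
        (pullback.snd fj₀ ((D ℤ A).map φ)) ((cone ℤ A).π.app j) :=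
      isPullback_pbLift (D ℤ A) (cone ℤ A) φ fj₀ sq₀
    haveI : IsProper (pullback.snd fj₀ ((D ℤ A).map φ)) := inferInstance
    haveI : LocallyOfFinitePresentation (pullback.snd fj₀ ((D ℤ A).map φ)) := inferInstance
    haveI : CompactSpace ↥(pullback fj₀ ((D ℤ A).map φ)) :=
      QuasiCompact.compactSpace_of_compactSpace (pullback.snd fj₀ ((D ℤ A).map φ))
    haveI : SheafOfModules.IsFinitePresentation
        (R := (pullback fj₀ ((D ℤ A).map φ)).ringCatSheaf) Fj := hFj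
    haveI : Fj.IsQuasicoherent := (isCoh_of_isFP Fj hFj).1
    have hflat' : FlatMod.IsFlatOver f'
        ((Scheme.Modules.pullback (pbLift (D ℤ A) (cone ℤ A) φ fj₀ q₀ f' sq₀.w)).obj Fj) :=
      isFlatOver_of_iso f' iso.symm hfl'
    have hY : IsPullback ((cone ℤ A).π.app j) (𝟙 (cone ℤ A).pt) (𝟙 ((D ℤ A).obj j))
        ((cone ℤ A).π.app j) := IsPullback.id_vert _
    obtain ⟨i, ψ, Xi, Yi, fi, gi, pY, pX, hYi, hXi, hfli⟩ :=
      (Groth.Agent.Lib.H72FlatModLim.isFlatOver_iff_exists_stage (D ℤ A) (cone ℤ A)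
        (pullback.snd fj₀ ((D ℤ A).map φ))
        (𝟙 ((D ℤ A).obj j)) (isLimitCone ℤ A) Fj f' (𝟙 (cone ℤ A).pt) ((cone ℤ A).π.app j)
        (pbLift (D ℤ A) (cone ℤ A) φ fj₀ q₀ f' sq₀.w) hY sq).mp hflat'
    haveI : IsIso gi := hYi.isIso_snd_of_isIso
    let vY : (cone ℤ A).pt ⟶ Yi := hYi.lift ((cone ℤ A).π.app j) ((cone ℤ A).π.app i) (by
      rw [Category.comp_id, (cone ℤ A).w])
    have hvY : vY ≫ pY = (cone ℤ A).π.app j := hYi.lift_fst _ _ _
    have hvY' : vY ≫ gi = (cone ℤ A).π.app i := hYi.lift_snd _ _ _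
    let g'' : X ⟶ Xi := hXi.lift (pbLift (D ℤ A) (cone ℤ A) φ fj₀ q₀ f' sq₀.w) (f' ≫ vY)
      (by rw [Category.assoc, hvY, sq.w])
    have e1 : g'' ≫ pX = pbLift (D ℤ A) (cone ℤ A) φ fj₀ q₀ f' sq₀.w := hXi.lift_fst _ _ _
    have e2 : g'' ≫ fi = f' ≫ vY := hXi.lift_snd _ _ _
    have sq1 : IsPullback g'' f' fi vY := by
      refine IsPullback.of_right ?_ e2 hXi
      rw [e1, hvY]
      exact sq
    have sq2 : IsPullback vY (𝟙 (cone ℤ A).pt) gi ((cone ℤ A).π.app i) :=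
      IsPullback.of_vert_isIso ⟨by rw [hvY', Category.id_comp]⟩
    have sq3 : IsPullback g'' f' (fi ≫ gi) ((cone ℤ A).π.app i) := by
      have := sq1.paste_vert sq2
      rwa [Category.comp_id] at this
    haveI : LocallyOfFinitePresentation fi := MorphismProperty.of_isPullback hXi inferInstance
    haveI : IsProper fi := MorphismProperty.of_isPullback hXi inferInstance
    refine ⟨i, Xi, fi ≫ gi, g'', (Scheme.Modules.pullback pX).obj Fj, inferInstance, inferInstance,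
      sq3, isFP_pullback pX Fj hFj, isFlatOver_comp_iso fi gi _ hfli, ⟨?_⟩⟩
    exact (Scheme.Modules.pullbackComp g'' pX).app Fj ≪≫
      (Scheme.Modules.pullbackCongr e1).app Fj ≪≫ iso
  obtain ⟨k, X₀, f₀, g', F₀, h1, h2, sq, hF₀, hfl₀, iso⟩ := @key f ‹_› ‹_› hfl
  exact ⟨k.unop.1, k.unop.2, X₀, f₀, g', F₀, h1, h2, sq, hF₀, hfl₀, iso⟩

end Groth.Agent.Lib.ApproxProperFlat21
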