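import Mathlib
import Groth.Agent.Lib.ApproxCons5A

/-!
# Relative approximation from approximation of morphisms (helper5)

`hyp7383_of_hyp7384 : Hyp7384 → Hyp7383`: if every morphism of qcqs schemes is a directed limit of
morphisms `X_i → S_i` of schemes of finite type over `ℤ` (affine transitions), then every
`f : X → S` with `X` qcqs and `S` quasi-separated is a directed limit, in `Over S`, of the finitely
presented `S`-schemes `X_i ×_{S_i} S' → S' ⊆ S`, `S'` a quasi-compact open containing `f(X)`.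
-/

set_option autoImplicit false
set_option linter.style.haveILetI false
universe u

open CategoryTheory CategoryTheory.Limits AlgebraicGeometry TopologicalSpace Opposite

namespace Groth.Agent.Lib.ApproxRel5

open Groth.Agent.Lib.AbsApproxHyp62

section Construction

variable {X S' S : Scheme.{u}} (f₁ : X ⟶ S') (ι : S' ⟶ S)
  {J : Type u} [SmallCategory J]
  (DX DS : J ⥤ Scheme.{u}) (φ : DX ⟶ DS) (cX : Cone DX) (cS : Cone DS)
  (eX : cX.pt ≅ X) (eS : cS.pt ≅ S')

/-- The structure maps `S' ⟶ S_i`. -/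
noncomputable def σ (i : J) : S' ⟶ DS.obj i := eS.inv ≫ cS.π.app i

@[reassoc (attr := simp)]
theorem σ_map {i j : J} (a : i ⟶ j) : σ DS cS eS i ≫ DS.map a = σ DS cS eS j := by
  simp [σ]

/-- The system `X_i ×_{S_i} S'` over `S`. -/
noncomputable def D : J ⥤ Over S where
  obj i := Over.mk (pullback.snd (φ.app i) (σ DS cS eS i) ≫ ι)
  map {i j} a := Over.homMk
    (pullback.map (φ.app i) (σ DS cS eS i) (φ.app j) (σ DS cS eS j) (DX.map a) (𝟙 S') (DS.map a)
      (φ.naturality a).symm (by simp)) (by simp [pullback.map, pullback.lift_fst, pullback.lift_snd, pullback.lift_fst_assoc, pullback.lift_snd_assoc])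
  map_id i := by
    ext
    apply pullback.hom_ext <;> simp [pullback.map, pullback.lift_fst, pullback.lift_snd, pullback.lift_fst_assoc, pullback.lift_snd_assoc]
  map_comp a b := by
    ext
    apply pullback.hom_ext <;> simp [pullback.map, pullback.lift_fst, pullback.lift_snd, pullback.lift_fst_assoc, pullback.lift_snd_assoc]

@[simp]
theorem D_obj_left (i : J) :
    ((D ι DX DS φ cS eS).obj i).left = pullback (φ.app i) (σ DS cS eS i) := rfl

@[simp]
theorem D_obj_hom (i : J) :
    ((D ι DX DS φ cS eS).obj i).hom = pullback.snd (φ.app i) (σ DS cS eS i) ≫ ι := rfl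

@[simp]
theorem D_map_left {i j : J} (a : i ⟶ j) :
    ((D ι DX DS φ cS eS).map a).left =
      pullback.map (φ.app i) (σ DS cS eS i) (φ.app j) (σ DS cS eS j) (DX.map a) (𝟙 S') (DS.map a)
        (φ.naturality a).symm (by simp) := rfl

variable (hcompat : ∀ i, cX.π.app i ≫ φ.app i = eX.hom ≫ f₁ ≫ eS.inv ≫ cS.π.app i)

include hcompat in
theorem lift_cond (i : J) : (eX.inv ≫ cX.π.app i) ≫ φ.app i = f₁ ≫ σ DS cS eS i := by
  rw [Category.assoc, hcompat]
  simp [σ]

/-- The components of the cone over `D` with point `X`. -/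
noncomputable def coneApp (f : X ⟶ S) (hf : f₁ ≫ ι = f) (i : J) :
    Over.mk f ⟶ (D ι DX DS φ cS eS).obj i :=
  Over.homMk (U := Over.mk f) (V := (D ι DX DS φ cS eS).obj i)
    (pullback.lift (eX.inv ≫ cX.π.app i) f₁ (lift_cond f₁ DX DS φ cX cS eX eS hcompat i))
    (by
      change pullback.lift _ _ _ ≫ pullback.snd _ _ ≫ ι = f
      rw [pullback.lift_snd_assoc, hf])

@[simp]
theorem coneApp_left (f : X ⟶ S) (hf : f₁ ≫ ι = f) (i : J) :
    (coneApp f₁ ι DX DS φ cX cS eX eS hcompat f hf i).left =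
      pullback.lift (eX.inv ≫ cX.π.app i) f₁ (lift_cond f₁ DX DS φ cX cS eX eS hcompat i) := rfl

theorem coneApp_naturality (f : X ⟶ S) (hf : f₁ ≫ ι = f) {i j : J} (a : i ⟶ j) :
    coneApp f₁ ι DX DS φ cX cS eX eS hcompat f hf i ≫ (D ι DX DS φ cS eS).map a =
      coneApp f₁ ι DX DS φ cX cS eX eS hcompat f hf j := by
  apply Over.OverMorphism.ext
  change (pullback.lift (eX.inv ≫ cX.π.app i) f₁ (lift_cond f₁ DX DS φ cX cS eX eS hcompat i) :
      X ⟶ pullback (φ.app i) (σ DS cS eS i)) ≫
    pullback.map (φ.app i) (σ DS cS eS i) (φ.app j) (σ DS cS eS j) (DX.map a) (𝟙 S') (DS.map a)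
      (φ.naturality a).symm (by simp) =
    pullback.lift (eX.inv ≫ cX.π.app j) f₁ (lift_cond f₁ DX DS φ cX cS eX eS hcompat j)
  apply pullback.hom_ext
  · rw [Category.assoc, pullback.map, pullback.lift_fst, pullback.lift_fst_assoc, Category.assoc,
      cX.w, pullback.lift_fst]
  · rw [Category.assoc, pullback.map, pullback.lift_snd, pullback.lift_snd_assoc,
      Category.comp_id, pullback.lift_snd]

/-- The cone over `D` with point `X`. -/
noncomputable def cone (f : X ⟶ S) (hf : f₁ ≫ ι = f) : Cone (D ι DX DS φ cS eS) where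
  pt := Over.mk f
  π :=
    { app := fun i => coneApp f₁ ι DX DS φ cX cS eX eS hcompat f hf i
      naturality := fun i j a =>
        (Category.id_comp _).trans
          (coneApp_naturality f₁ ι DX DS φ cX cS eX eS hcompat f hf a).symm }

section Limit

variable (f : X ⟶ S) (hf : f₁ ≫ ι = f)

/-- The diagram in `Scheme`. -/
noncomputable abbrev D' : J ⥤ Scheme.{u} := D ι DX DS φ cS eS ⋙ Over.forget S

/-- the components of a cone over `D'`, with the expected type -/
noncomputable def p (s : Cone (D' ι DX DS φ cS eS)) (i : J) :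
    s.pt ⟶ pullback (φ.app i) (σ DS cS eS i) := s.π.app i

theorem p_map (s : Cone (D' ι DX DS φ cS eS)) {i j : J} (a : i ⟶ j) :
    p ι DX DS φ cS eS s i ≫
      pullback.map (φ.app i) (σ DS cS eS i) (φ.app j) (σ DS cS eS j) (DX.map a) (𝟙 S') (DS.map a)
        (φ.naturality a).symm (by simp) = p ι DX DS φ cS eS s j := s.w a

/-- first components of a cone over `D'` -/
noncomputable def uX (s : Cone (D' ι DX DS φ cS eS)) (i : J) : s.pt ⟶ DX.obj i :=
  p ι DX DS φ cS eS s i ≫ pullback.fst (φ.app i) (σ DS cS eS i)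

/-- second components of a cone over `D'` -/
noncomputable def vS (s : Cone (D' ι DX DS φ cS eS)) (i : J) : s.pt ⟶ S' :=
  p ι DX DS φ cS eS s i ≫ pullback.snd (φ.app i) (σ DS cS eS i)

theorem uX_map (s : Cone (D' ι DX DS φ cS eS)) {i j : J} (a : i ⟶ j) :
    uX ι DX DS φ cS eS s i ≫ DX.map a = uX ι DX DS φ cS eS s j := by
  rw [uX, uX, ← p_map ι DX DS φ cS eS s a, Category.assoc, Category.assoc, pullback.map,
    pullback.lift_fst]

theorem vS_map (s : Cone (D' ι DX DS φ cS eS)) {i j : J} (a : i ⟶ j) :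
    vS ι DX DS φ cS eS s i = vS ι DX DS φ cS eS s j := by
  rw [vS, vS, ← p_map ι DX DS φ cS eS s a, Category.assoc, pullback.map,
    pullback.lift_snd, Category.comp_id]

theorem vS_eq [IsCofiltered J] (s : Cone (D' ι DX DS φ cS eS)) (i j : J) :
    vS ι DX DS φ cS eS s i = vS ι DX DS φ cS eS s j := by
  rw [← vS_map ι DX DS φ cS eS s (IsCofiltered.minToLeft i j),
    vS_map ι DX DS φ cS eS s (IsCofiltered.minToRight i j)]

theorem uX_φ (s : Cone (D' ι DX DS φ cS eS)) (i : J) :
    uX ι DX DS φ cS eS s i ≫ φ.app i = vS ι DX DS φ cS eS s i ≫ σ DS cS eS i := by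
  rw [uX, vS, Category.assoc, Category.assoc, pullback.condition]

/-- the induced cone over `DX` -/
noncomputable def coneX (s : Cone (D' ι DX DS φ cS eS)) : Cone DX where
  pt := s.pt
  π :=
    { app := fun i => uX ι DX DS φ cS eS s i
      naturality := fun i j a =>
        (Category.id_comp _).trans (uX_map ι DX DS φ cS eS s a).symm }

variable (hcX : IsLimit cX) (hcS : IsLimit cS)

/-- the lift of a cone over `D'` to `cX.pt` -/
noncomputable def liftC (s : Cone (D' ι DX DS φ cS eS)) : s.pt ⟶ cX.pt :=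
  hcX.lift (coneX ι DX DS φ cS eS s)

theorem liftC_π (s : Cone (D' ι DX DS φ cS eS)) (i : J) :
    liftC ι DX DS φ cX cS eS hcX s ≫ cX.π.app i = uX ι DX DS φ cS eS s i :=
  hcX.fac _ i

/-- the lift of a cone over `D'` to `X` -/
noncomputable def liftX (s : Cone (D' ι DX DS φ cS eS)) : s.pt ⟶ X :=
  liftC ι DX DS φ cX cS eS hcX s ≫ eX.hom

theorem liftX_π (s : Cone (D' ι DX DS φ cS eS)) (i : J) :
    liftX ι DX DS φ cX cS eX eS hcX s ≫ eX.inv ≫ cX.π.app i = uX ι DX DS φ cS eS s i := by
  rw [liftX, Category.assoc, Iso.hom_inv_id_assoc, liftC_π]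

include hcompat hcS in
theorem liftX_f₁ [IsCofiltered J] (s : Cone (D' ι DX DS φ cS eS)) (i : J) :
    liftX ι DX DS φ cX cS eX eS hcX s ≫ f₁ = vS ι DX DS φ cS eS s i := by
  have key : ∀ j, (liftX ι DX DS φ cX cS eX eS hcX s ≫ f₁) ≫ σ DS cS eS j =
      vS ι DX DS φ cS eS s i ≫ σ DS cS eS j := by
    intro j
    rw [Category.assoc, ← lift_cond f₁ DX DS φ cX cS eX eS hcompat j, Category.assoc,
      ← Category.assoc (liftX ι DX DS φ cX cS eX eS hcX s), ← Category.assoc, Category.assoc _ eX.inv,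
      liftX_π, uX_φ, vS_eq ι DX DS φ cS eS s j i]
  have h2 : (liftX ι DX DS φ cX cS eX eS hcX s ≫ f₁) ≫ eS.inv =
      vS ι DX DS φ cS eS s i ≫ eS.inv := by
    apply hcS.hom_ext
    intro j
    have := key j
    simpa only [σ, Category.assoc] using this
  exact (cancel_mono eS.inv).1 h2

/-- The cone `X → X_i ×_{S_i} S'` is a limit cone in `Scheme`. -/
noncomputable def isLimitForget [IsCofiltered J] :
    IsLimit ((Over.forget S).mapCone (cone f₁ ι DX DS φ cX cS eX eS hcompat f hf)) where
  lift s := liftX ι DX DS φ cX cS eX eS hcX s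
  fac s i := by
    change liftX ι DX DS φ cX cS eX eS hcX s ≫ pullback.lift (eX.inv ≫ cX.π.app i) f₁
      (lift_cond f₁ DX DS φ cX cS eX eS hcompat i) = p ι DX DS φ cS eS s i
    apply pullback.hom_ext
    · rw [Category.assoc, pullback.lift_fst, liftX_π]; rfl
    · rw [Category.assoc, pullback.lift_snd, liftX_f₁ f₁ ι DX DS φ cX cS eX eS hcompat hcX hcS s i]
      rfl
  uniq s m hm := by
    obtain ⟨m', hm'⟩ : ∃ m' : s.pt ⟶ X, m' = m := ⟨m, rfl⟩
    subst hm'
    rename' m' => m
    have h1 : ∀ i, m ≫ pullback.lift (eX.inv ≫ cX.π.app i) f₁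
        (lift_cond f₁ DX DS φ cX cS eX eS hcompat i) = p ι DX DS φ cS eS s i := hm
    have h2 : m ≫ eX.inv = liftC ι DX DS φ cX cS eS hcX s := by
      refine hcX.uniq (coneX ι DX DS φ cS eS s) (m ≫ eX.inv) (fun i => ?_)
      change (m ≫ eX.inv) ≫ cX.π.app i = uX ι DX DS φ cS eS s i
      rw [uX, ← h1 i, Category.assoc, Category.assoc, pullback.lift_fst]
    change m = liftX ι DX DS φ cX cS eX eS hcX s
    rw [liftX, ← h2, Category.assoc, Iso.inv_hom_id, Category.comp_id]

/-- The cone `X → X_i ×_{S_i} S'` is a limit cone in `Over S`. -/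
noncomputable def isLimitCone [IsCofiltered J] :
    IsLimit (cone f₁ ι DX DS φ cX cS eX eS hcompat f hf) := by
  haveI : IsConnected J := IsCofiltered.isConnected J
  exact isLimitOfReflects (Over.forget S)
    (isLimitForget f₁ ι DX DS φ cX cS eX eS hcompat f hf hcX hcS)

end Limit

section Props

theorem isAffineHom_D_map [IsCofiltered J] (hcS : IsLimit cS)
    [∀ {i j : J} (a : i ⟶ j), IsAffineHom (DX.map a)]
    [∀ {i j : J} (a : i ⟶ j), IsAffineHom (DS.map a)] {i j : J} (a : i ⟶ j) :
    IsAffineHom ((D ι DX DS φ cS eS).map a).left := by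
  haveI : ∀ k, IsAffineHom (cS.π.app k) := fun k => isAffineHom_π_app DS cS hcS k
  haveI : ∀ k, IsAffineHom (σ DS cS eS k) := fun k => by
    rw [σ]; infer_instance
  change IsAffineHom (pullback.map (φ.app i) (σ DS cS eS i) (φ.app j) (σ DS cS eS j) (DX.map a)
    (𝟙 S') (DS.map a) (φ.naturality a).symm (by simp))
  have h1 : pullback.map (φ.app i) (σ DS cS eS i) (φ.app j) (σ DS cS eS j) (DX.map a) (𝟙 S')
      (DS.map a) (φ.naturality a).symm (by simp) ≫ pullback.fst (φ.app j) (σ DS cS eS j) =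
      pullback.fst (φ.app i) (σ DS cS eS i) ≫ DX.map a := by
    rw [pullback.map, pullback.lift_fst]
  apply MorphismProperty.of_postcomp (W := @IsAffineHom) (W' := @IsSeparated) _
    (pullback.fst (φ.app j) (σ DS cS eS j))
  · haveI : IsAffineHom (pullback.fst (φ.app j) (σ DS cS eS j)) :=
      MorphismProperty.of_isPullback (P := @IsAffineHom) (IsPullback.of_hasPullback _ _).flip (this j)
    infer_instance
  · rw [h1]
    haveI : IsAffineHom (pullback.fst (φ.app i) (σ DS cS eS i)) :=
      MorphismProperty.of_isPullback (P := @IsAffineHom) (IsPullback.of_hasPullback _ _).flip (this i)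
    infer_instance

theorem props_D_obj (i : J) [LocallyOfFinitePresentation (φ.app i)] [QuasiCompact (φ.app i)]
    [QuasiSeparated (φ.app i)] [LocallyOfFinitePresentation ι] [QuasiCompact ι]
    [QuasiSeparated ι] :
    LocallyOfFinitePresentation ((D ι DX DS φ cS eS).obj i).hom ∧
      QuasiCompact ((D ι DX DS φ cS eS).obj i).hom ∧
      QuasiSeparated ((D ι DX DS φ cS eS).obj i).hom := by
  change LocallyOfFinitePresentation (pullback.snd (φ.app i) (σ DS cS eS i) ≫ ι) ∧
    QuasiCompact (pullback.snd (φ.app i) (σ DS cS eS i) ≫ ι) ∧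
    QuasiSeparated (pullback.snd (φ.app i) (σ DS cS eS i) ≫ ι)
  haveI : LocallyOfFinitePresentation (pullback.snd (φ.app i) (σ DS cS eS i)) := inferInstance
  haveI : QuasiCompact (pullback.snd (φ.app i) (σ DS cS eS i)) := inferInstance
  haveI : QuasiSeparated (pullback.snd (φ.app i) (σ DS cS eS i)) := inferInstance
  exact ⟨inferInstance, inferInstance, inferInstance⟩

end Props

end Construction

/-- A morphism locally of finite type to a locally Noetherian scheme is locally of finite
presentation. -/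
theorem lfp_of_lft_of_isLocallyNoetherian {X Y : Scheme.{u}} (f : X ⟶ Y) [LocallyOfFiniteType f]
    [IsLocallyNoetherian Y] : LocallyOfFinitePresentation f := by
  rw [HasRingHomProperty.iff_appLE (P := @LocallyOfFinitePresentation)]
  intro U V e
  haveI : IsNoetherianRing Γ(Y, U.1) := IsLocallyNoetherian.component_noetherian U
  exact RingHom.FinitePresentation.of_finiteType.mp (f.finiteType_appLE U.2 V.2 e)

instance : IsNoetherianRing (ULift.{u} ℤ) :=
  isNoetherianRing_of_ringEquiv ℤ ULift.ringEquiv.symm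

/-- **Relative approximation from approximation of morphisms.** -/
theorem hyp7383_of_hyp7384 (H : Hyp7384.{u}) : Hyp7383.{u} := by
  intro X S f _ _ _
  obtain ⟨S', hS'c, hS'⟩ := Groth.Agent.Lib.ApproxCons5.exists_isCompact_opens_range_le f
  haveI : CompactSpace S' := isCompact_iff_compactSpace.mp hS'c
  haveI : QuasiSeparatedSpace S' := quasiSeparatedSpace_of_quasiSeparated S'.ι
  have hr : Set.range f.base ⊆ Set.range S'.ι.base := by
    rw [Scheme.Opens.range_ι]
    exact hS'
  let f₁ : X ⟶ S' := IsOpenImmersion.lift S'.ι f hr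
  have hf₁ : f₁ ≫ S'.ι = f := IsOpenImmersion.lift_fac _ _ _
  obtain ⟨I, hI1, hI2, hI3, DX, DS, φ, cX, cS, hcX, hcS, eX, eS, haff, hft, hcompat⟩ := H f₁
  haveI : ∀ {i j : Iᵒᵖ} (a : i ⟶ j), IsAffineHom (DX.map a) := fun a => (haff _ _ a).1
  haveI : ∀ {i j : Iᵒᵖ} (a : i ⟶ j), IsAffineHom (DS.map a) := fun a => (haff _ _ a).2
  refine ⟨I, hI1, hI2, hI3, D S'.ι DX DS φ cS eS,
    cone f₁ S'.ι DX DS φ cX cS eX eS hcompat f hf₁,
    isLimitCone f₁ S'.ι DX DS φ cX cS eX eS hcompat f hf₁ hcX hcS, fun i => ?_, fun i j a => ?_,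
    ⟨Iso.refl _⟩⟩
  · obtain ⟨hc1, hc2, hl1, hl2⟩ := hft i
    haveI := hc1
    haveI := hl1
    haveI := hl2
    haveI : IsLocallyNoetherian (DS.obj i) :=
      LocallyOfFiniteType.isLocallyNoetherian (Limits.IsTerminal.from specULiftZIsTerminal (DS.obj i))
    haveI : IsLocallyNoetherian (DX.obj i) :=
      LocallyOfFiniteType.isLocallyNoetherian (Limits.IsTerminal.from specULiftZIsTerminal (DX.obj i))
    haveI : IsNoetherian (DX.obj i) := {}
    have hcomp : φ.app i ≫ Limits.IsTerminal.from specULiftZIsTerminal (DS.obj i) =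
        Limits.IsTerminal.from specULiftZIsTerminal (DX.obj i) :=
      specULiftZIsTerminal.hom_ext _ _
    haveI : LocallyOfFiniteType
        (φ.app i ≫ Limits.IsTerminal.from specULiftZIsTerminal (DS.obj i)) := by
      rw [hcomp]; infer_instance
    haveI : LocallyOfFiniteType (φ.app i) :=
      locallyOfFiniteType_of_comp (φ.app i) (Limits.IsTerminal.from specULiftZIsTerminal (DS.obj i))
    haveI : LocallyOfFinitePresentation (φ.app i) := lfp_of_lft_of_isLocallyNoetherian _
    exact props_D_obj S'.ι DX DS φ cS eS i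
  · exact isAffineHom_D_map S'.ι DX DS φ cS eS hcS a

end Groth.Agent.Lib.ApproxRel5
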