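import Mathlib
import Groth.Agent.Lib.ApproxRel5A

/-!
# Approximation of morphisms from absolute approximation (helper5)

`hyp7384_of_hyp0590 : Hyp0590 → Hyp7384`. Given `f : X ⟶ S` with `X = lim X_i`, `S = lim S_j`
(`X_i`, `S_j` of finite type over `ℤ`, affine transitions), the index set is the set of triples
`(i, j, g : X_i ⟶ S_j)` compatible with `f`, ordered by commutative squares (Stacks 01ZM / 09MV).
-/

set_option autoImplicit false
set_option linter.style.haveILetI false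
set_option linter.unusedSectionVars false
universe u

open CategoryTheory CategoryTheory.Limits AlgebraicGeometry TopologicalSpace Opposite

namespace Groth.Agent.Lib.ApproxRel5

open Groth.Agent.Lib.AbsApproxHyp62

section Stage

variable {I : Type u} [Preorder I] (DX : Iᵒᵖ ⥤ Scheme.{u}) (cX : Cone DX)

/-- transition maps -/
noncomputable def tr {i i' : I} (h : i ≤ i') : DX.obj (op i') ⟶ DX.obj (op i) :=
  DX.map (homOfLE h).op

theorem tr_comp {i i' i'' : I} (h : i ≤ i') (h' : i' ≤ i'') :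
    tr DX h' ≫ tr DX h = tr DX (h.trans h') := by
  rw [tr, tr, tr, ← DX.map_comp]
  rfl

@[reassoc]
theorem π_tr {i i' : I} (h : i ≤ i') : cX.π.app (op i') ≫ tr DX h = cX.π.app (op i) :=
  cX.w _

/-- the structure natural transformation to the terminal scheme -/
noncomputable def tZ : DX ⟶ (Functor.const _).obj (Spec (.of (ULift.{u} ℤ))) where
  app i := specULiftZIsTerminal.from _
  naturality _ _ _ := specULiftZIsTerminal.hom_ext _ _

variable [IsDirected I (· ≤ ·)] [Nonempty I] (hcX : IsLimit cX)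
  [∀ {i j : Iᵒᵖ} (a : i ⟶ j), IsAffineHom (DX.map a)] [∀ i, CompactSpace (DX.obj i)]
  [∀ i, QuasiSeparatedSpace (DX.obj i)]

include hcX in
/-- A morphism from the limit to a scheme of finite type over `ℤ` factors through a stage. -/
theorem exists_factor {Y : Scheme.{u}}
    [LocallyOfFiniteType (specULiftZIsTerminal.from Y)] (a : cX.pt ⟶ Y) :
    ∃ (i : I) (g : DX.obj (op i) ⟶ Y), cX.π.app (op i) ≫ g = a := by
  haveI : IsLocallyNoetherian Y :=
    LocallyOfFiniteType.isLocallyNoetherian (specULiftZIsTerminal.from Y)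
  haveI : LocallyOfFinitePresentation (specULiftZIsTerminal.from Y) :=
    lfp_of_lft_of_isLocallyNoetherian _
  obtain ⟨i, g, hg, -⟩ := Scheme.exists_π_app_comp_eq_of_locallyOfFinitePresentation DX (tZ DX)
    (specULiftZIsTerminal.from Y) cX hcX a (by
      ext i
      exact specULiftZIsTerminal.hom_ext _ _)
  exact ⟨i.unop, g, hg⟩

include hcX in
/-- Two morphisms from a stage to a scheme of finite type over `ℤ` which agree on the limit agree
on all sufficiently large stages. -/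
theorem exists_stage_eq {Y : Scheme.{u}}
    [LocallyOfFiniteType (specULiftZIsTerminal.from Y)] {i : I} (a b : DX.obj (op i) ⟶ Y)
    (hab : cX.π.app (op i) ≫ a = cX.π.app (op i) ≫ b) :
    ∃ (i' : I) (_ : i ≤ i'), ∀ (i'' : I) (h'' : i ≤ i''), i' ≤ i'' →
      tr DX h'' ≫ a = tr DX h'' ≫ b := by
  obtain ⟨k, hik, hk⟩ := Scheme.exists_hom_comp_eq_comp_of_locallyOfFiniteType DX (tZ DX)
    (specULiftZIsTerminal.from Y) cX hcX a b (specULiftZIsTerminal.hom_ext _ _)
    (specULiftZIsTerminal.hom_ext _ _) hab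
  have hle : i ≤ k.unop := leOfHom hik.unop
  refine ⟨k.unop, hle, fun i'' h'' h3 => ?_⟩
  have e1 : tr DX h'' = tr DX h3 ≫ tr DX hle := (tr_comp DX hle h3).symm
  have e2 : tr DX hle = DX.map hik := by
    rw [tr]
    congr 1
  rw [e1, Category.assoc, Category.assoc, e2, hk]

end Stage

section Triples

variable {X S : Scheme.{u}} (f : X ⟶ S)
  {I J : Type u} [Preorder I] [Preorder J]
  (DX : Iᵒᵖ ⥤ Scheme.{u}) (DS : Jᵒᵖ ⥤ Scheme.{u}) (cX : Cone DX) (cS : Cone DS)
  (eX : cX.pt ≅ X) (eS : cS.pt ≅ S)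

/-- The composite `lim X_i ≅ X ⟶ S ≅ lim S_j ⟶ S_j`. -/
noncomputable def toS (j : J) : cX.pt ⟶ DS.obj (op j) := eX.hom ≫ f ≫ eS.inv ≫ cS.π.app (op j)

theorem toS_tr {j j' : J} (h : j ≤ j') :
    toS f DX DS cX cS eX eS j' ≫ tr DS h = toS f DX DS cX cS eX eS j := by
  simp only [toS, Category.assoc, π_tr]

/-- Triples `(i, j, g : X_i ⟶ S_j)` compatible with `f`. -/
structure Triple where
  /-- index of the source stage -/
  i : I
  /-- index of the target stage -/
  j : J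
  /-- the morphism between stages -/
  g : DX.obj (op i) ⟶ DS.obj (op j)
  comm : cX.π.app (op i) ≫ g = toS f DX DS cX cS eX eS j

instance : Preorder (Triple f DX DS cX cS eX eS) where
  le k k' := ∃ (hi : k.i ≤ k'.i) (hj : k.j ≤ k'.j), tr DX hi ≫ k.g = k'.g ≫ tr DS hj
  le_refl k := ⟨le_rfl, le_rfl, by simp [tr]⟩
  le_trans k k' k'' := by
    rintro ⟨hi, hj, h⟩ ⟨hi', hj', h'⟩
    refine ⟨hi.trans hi', hj.trans hj', ?_⟩
    rw [← tr_comp DX hi hi', Category.assoc, h, ← Category.assoc, h', Category.assoc, tr_comp]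

theorem Triple.le_def (k k' : Triple f DX DS cX cS eX eS) :
    k ≤ k' ↔ ∃ (hi : k.i ≤ k'.i) (hj : k.j ≤ k'.j), tr DX hi ≫ k.g = k'.g ≫ tr DS hj := Iff.rfl

section Directed

variable [IsDirected I (· ≤ ·)] [Nonempty I] [IsDirected J (· ≤ ·)] [Nonempty J]
  (hcX : IsLimit cX)
  [∀ {i j : Iᵒᵖ} (a : i ⟶ j), IsAffineHom (DX.map a)] [∀ i, CompactSpace (DX.obj i)]
  [∀ i, QuasiSeparatedSpace (DX.obj i)]
  [∀ j, LocallyOfFiniteType (specULiftZIsTerminal.from (DS.obj j))]

include hcX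

theorem exists_triple (i₀ : I) (j₀ : J) :
    ∃ k : Triple f DX DS cX cS eX eS, i₀ ≤ k.i ∧ j₀ ≤ k.j := by
  obtain ⟨i₁, g₁, hg₁⟩ := exists_factor DX cX hcX (toS f DX DS cX cS eX eS j₀)
  obtain ⟨i, hi₀, hi₁⟩ := directed_of (fun a b : I => a ≤ b) i₀ i₁
  exact ⟨⟨i, j₀, tr DX hi₁ ≫ g₁, by rw [π_tr_assoc, hg₁]⟩, hi₀, le_rfl⟩

theorem exists_triple_ge (k₁ k₂ : Triple f DX DS cX cS eX eS) (i₀ : I) (j₀ : J) :
    ∃ k : Triple f DX DS cX cS eX eS, k₁ ≤ k ∧ k₂ ≤ k ∧ i₀ ≤ k.i ∧ j₀ ≤ k.j := by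
  obtain ⟨j', hj1, hj2⟩ := directed_of (fun a b : J => a ≤ b) k₁.j k₂.j
  obtain ⟨j, hj', hj0⟩ := directed_of (fun a b : J => a ≤ b) j' j₀
  have hj1' : k₁.j ≤ j := hj1.trans hj'
  have hj2' : k₂.j ≤ j := hj2.trans hj'
  obtain ⟨i₁, g₁, hg₁⟩ := exists_factor DX cX hcX (toS f DX DS cX cS eX eS j)
  obtain ⟨i', hi1, hi2⟩ := directed_of (fun a b : I => a ≤ b) k₁.i k₂.i
  obtain ⟨i'', hi', hi0⟩ := directed_of (fun a b : I => a ≤ b) i' i₀
  obtain ⟨i₃, hi'', h13⟩ := directed_of (fun a b : I => a ≤ b) i'' i₁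
  have hk1 : k₁.i ≤ i₃ := hi1.trans (hi'.trans hi'')
  have hk2 : k₂.i ≤ i₃ := hi2.trans (hi'.trans hi'')
  have h03 : i₀ ≤ i₃ := hi0.trans hi''
  let G : DX.obj (op i₃) ⟶ DS.obj (op j) := tr DX h13 ≫ g₁
  have hG : cX.π.app (op i₃) ≫ G = toS f DX DS cX cS eX eS j := by
    rw [π_tr_assoc, hg₁]
  have hab₁ : cX.π.app (op i₃) ≫ (tr DX hk1 ≫ k₁.g) = cX.π.app (op i₃) ≫ (G ≫ tr DS hj1') := by
    rw [π_tr_assoc, k₁.comm, ← Category.assoc, hG, toS_tr]
  have hab₂ : cX.π.app (op i₃) ≫ (tr DX hk2 ≫ k₂.g) = cX.π.app (op i₃) ≫ (G ≫ tr DS hj2') := by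
    rw [π_tr_assoc, k₂.comm, ← Category.assoc, hG, toS_tr]
  obtain ⟨i₄, h34, H₁⟩ := exists_stage_eq DX cX hcX _ _ hab₁
  obtain ⟨i₅, h35, H₂⟩ := exists_stage_eq DX cX hcX _ _ hab₂
  obtain ⟨i₆, h46, h56⟩ := directed_of (fun a b : I => a ≤ b) i₄ i₅
  have h36 : i₃ ≤ i₆ := h34.trans h46
  refine ⟨⟨i₆, j, tr DX h36 ≫ G, by rw [π_tr_assoc, hG]⟩, ⟨hk1.trans h36, hj1', ?_⟩,
    ⟨hk2.trans h36, hj2', ?_⟩, h03.trans h36, hj0⟩
  · have := H₁ i₆ h36 h46
    rw [← Category.assoc, tr_comp] at this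
    rw [this]
    simp only [G, Category.assoc]
  · have := H₂ i₆ h36 h56
    rw [← Category.assoc, tr_comp] at this
    rw [this]
    simp only [G, Category.assoc]

theorem isDirected_triple : IsDirected (Triple f DX DS cX cS eX eS) (fun a b => a ≤ b) :=
  ⟨fun k₁ k₂ => by
    obtain ⟨k, h1, h2, -, -⟩ := exists_triple_ge f DX DS cX cS eX eS hcX k₁ k₂ k₁.i k₁.j
    exact ⟨k, h1, h2⟩⟩

theorem nonempty_triple : Nonempty (Triple f DX DS cX cS eX eS) := by
  obtain ⟨k, -, -⟩ := exists_triple f DX DS cX cS eX eS hcX (Classical.arbitrary I)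
    (Classical.arbitrary J)
  exact ⟨k⟩

end Directed

section Functors

theorem monotone_i : Monotone (fun k : Triple f DX DS cX cS eX eS => k.i) := by
  rintro k k' ⟨hi, -, -⟩
  exact hi

theorem monotone_j : Monotone (fun k : Triple f DX DS cX cS eX eS => k.j) := by
  rintro k k' ⟨-, hj, -⟩
  exact hj

/-- the source system indexed by triples -/
noncomputable def DXK : (Triple f DX DS cX cS eX eS)ᵒᵖ ⥤ Scheme.{u} :=
  (monotone_i f DX DS cX cS eX eS).functor.op ⋙ DX

/-- the target system indexed by triples -/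
noncomputable def DSK : (Triple f DX DS cX cS eX eS)ᵒᵖ ⥤ Scheme.{u} :=
  (monotone_j f DX DS cX cS eX eS).functor.op ⋙ DS

theorem DXK_map {k k' : (Triple f DX DS cX cS eX eS)ᵒᵖ} (a : k ⟶ k')
    (hi : k'.unop.i ≤ k.unop.i) : (DXK f DX DS cX cS eX eS).map a = tr DX hi := by
  change DX.map _ = DX.map _
  congr 1

theorem DSK_map {k k' : (Triple f DX DS cX cS eX eS)ᵒᵖ} (a : k ⟶ k')
    (hj : k'.unop.j ≤ k.unop.j) : (DSK f DX DS cX cS eX eS).map a = tr DS hj := by
  change DS.map _ = DS.map _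
  congr 1

/-- the morphism of systems -/
noncomputable def φK : DXK f DX DS cX cS eX eS ⟶ DSK f DX DS cX cS eX eS where
  app k := k.unop.g
  naturality k k' a := by
    obtain ⟨hi, hj, h⟩ := leOfHom a.unop
    rw [DXK_map f DX DS cX cS eX eS a hi, DSK_map f DX DS cX cS eX eS a hj]
    exact h

/-- the cone over the source system -/
noncomputable def cXK : Cone (DXK f DX DS cX cS eX eS) :=
  cX.whisker (monotone_i f DX DS cX cS eX eS).functor.op

/-- the cone over the target system -/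
noncomputable def cSK : Cone (DSK f DX DS cX cS eX eS) :=
  cS.whisker (monotone_j f DX DS cX cS eX eS).functor.op

variable [IsDirected I (· ≤ ·)] [Nonempty I] [IsDirected J (· ≤ ·)] [Nonempty J]
  (hcX : IsLimit cX) (hcS : IsLimit cS)
  [∀ {i j : Iᵒᵖ} (a : i ⟶ j), IsAffineHom (DX.map a)] [∀ i, CompactSpace (DX.obj i)]
  [∀ i, QuasiSeparatedSpace (DX.obj i)]
  [∀ j, LocallyOfFiniteType (specULiftZIsTerminal.from (DS.obj j))]

/-- the source cone is a limit cone -/
noncomputable def isLimitCXK : IsLimit (cXK f DX DS cX cS eX eS) := by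
  haveI := isDirected_triple f DX DS cX cS eX eS hcX
  haveI : (monotone_i f DX DS cX cS eX eS).functor.Final := by
    rw [Monotone.final_functor_iff]
    intro i
    obtain ⟨k, hk, -⟩ := exists_triple f DX DS cX cS eX eS hcX i (Classical.arbitrary J)
    exact ⟨k, hk⟩
  exact (Functor.Initial.isLimitWhiskerEquiv
    (monotone_i f DX DS cX cS eX eS).functor.op cX).symm hcX

/-- the target cone is a limit cone -/
noncomputable def isLimitCSK : IsLimit (cSK f DX DS cX cS eX eS) := by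
  haveI := isDirected_triple f DX DS cX cS eX eS hcX
  haveI : (monotone_j f DX DS cX cS eX eS).functor.Final := by
    rw [Monotone.final_functor_iff]
    intro j
    obtain ⟨k, -, hk⟩ := exists_triple f DX DS cX cS eX eS hcX (Classical.arbitrary I) j
    exact ⟨k, hk⟩
  exact (Functor.Initial.isLimitWhiskerEquiv
    (monotone_j f DX DS cX cS eX eS).functor.op cS).symm hcS

end Functors

end Triples

/-- **Approximation of morphisms from absolute approximation.** -/
theorem hyp7384_of_hyp0590 (H : Hyp0590.{u}) : Hyp7384.{u} := by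
  intro X S f _ _ _ _
  obtain ⟨I, hI1, hI2, hI3, DX, cX, hcX, haffX, hftX, ⟨eX⟩⟩ := H X
  obtain ⟨J, hJ1, hJ2, hJ3, DS, cS, hcS, haffS, hftS, ⟨eS⟩⟩ := H S
  haveI : ∀ {i j : Iᵒᵖ} (a : i ⟶ j), IsAffineHom (DX.map a) := fun a => haffX _ _ a
  haveI : ∀ i, CompactSpace (DX.obj i) := fun i => (hftX i).1
  haveI : ∀ i, LocallyOfFiniteType (specULiftZIsTerminal.from (DX.obj i)) := fun i => (hftX i).2
  haveI : ∀ j, LocallyOfFiniteType (specULiftZIsTerminal.from (DS.obj j)) := fun j => (hftS j).2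
  haveI : ∀ i, QuasiSeparatedSpace (DX.obj i) := fun i => by
    haveI : IsLocallyNoetherian (DX.obj i) :=
      LocallyOfFiniteType.isLocallyNoetherian (specULiftZIsTerminal.from (DX.obj i))
    infer_instance
  refine ⟨Triple f DX DS cX cS eX eS, inferInstance, isDirected_triple f DX DS cX cS eX eS hcX,
    nonempty_triple f DX DS cX cS eX eS hcX, DXK f DX DS cX cS eX eS, DSK f DX DS cX cS eX eS,
    φK f DX DS cX cS eX eS, cXK f DX DS cX cS eX eS, cSK f DX DS cX cS eX eS,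
    isLimitCXK f DX DS cX cS eX eS hcX, isLimitCSK f DX DS cX cS eX eS hcX hcS, eX, eS,
    fun k k' a => ⟨haffX _ _ _, haffS _ _ _⟩,
    fun k => ⟨(hftX _).1, (hftS _).1, (hftX _).2, (hftS _).2⟩, fun k => k.unop.comm⟩

end Groth.Agent.Lib.ApproxRel5
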