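/-
helper7: ArLef smooth-point lemmas: length P/(p^a,f) = a * length P/(p,f); closedness of ideals of B[[t]];
fixed ideal of an endomorphism of B[[t]]; reduction mod the uniformizer of a DVR.
-/
import Mathlib

set_option autoImplicit false
universe u

namespace Groth.Agent.Lib.ArLefSmooth7

section LengthPow

variable {P : Type u} [CommRing P]

/-- multiplication by `p` as a map `P/(p^a, f) → P/(p^(a+1), f)`. -/
noncomputable def mulMap (p f : P) (a : ℕ) :
    (P ⧸ Ideal.span {p ^ a, f}) →ₗ[P] (P ⧸ Ideal.span {p ^ (a + 1), f}) :=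
  Submodule.mapQ (Ideal.span {p ^ a, f}) (Ideal.span {p ^ (a + 1), f}) (LinearMap.lsmul P P p) (by
    intro x hx
    rw [Submodule.mem_comap]
    obtain ⟨c, d, rfl⟩ := Ideal.mem_span_pair.mp hx
    refine Ideal.mem_span_pair.mpr ⟨c, p * d, ?_⟩
    simp only [LinearMap.lsmul_apply, smul_eq_mul]
    ring)

/-- the projection `P/(p^(a+1), f) → P/(p, f)`. -/
noncomputable def projMap (p f : P) (a : ℕ) :
    (P ⧸ Ideal.span {p ^ (a + 1), f}) →ₗ[P] (P ⧸ Ideal.span {p, f}) :=
  Submodule.mapQ (Ideal.span {p ^ (a + 1), f}) (Ideal.span {p, f}) LinearMap.id (by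
    intro x hx
    rw [Submodule.mem_comap]
    obtain ⟨c, d, rfl⟩ := Ideal.mem_span_pair.mp hx
    refine Ideal.mem_span_pair.mpr ⟨c * p ^ a, d, ?_⟩
    simp only [LinearMap.id_coe, id_eq]
    ring)

theorem mulMap_injective [IsDomain P] {p f : P} (hp : Prime p) (hf : ¬ p ∣ f) (a : ℕ) :
    Function.Injective (mulMap p f a) := by
  rw [← LinearMap.ker_eq_bot, LinearMap.ker_eq_bot']
  intro x hx
  obtain ⟨x, rfl⟩ := Submodule.Quotient.mk_surjective _ x
  rw [mulMap, Submodule.mapQ_apply, Submodule.Quotient.mk_eq_zero] at hx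
  rw [Submodule.Quotient.mk_eq_zero]
  obtain ⟨c, d, hcd⟩ := Ideal.mem_span_pair.mp hx
  simp only [LinearMap.lsmul_apply, smul_eq_mul] at hcd
  have h1 : p ∣ d * f := by
    refine ⟨x - c * p ^ a, ?_⟩
    have : d * f = p * x - c * p ^ (a + 1) := by rw [← hcd]; ring
    rw [this]; ring
  have h2 : p ∣ d := (hp.dvd_or_dvd h1).resolve_right hf
  obtain ⟨d', rfl⟩ := h2
  refine Ideal.mem_span_pair.mpr ⟨c, d', ?_⟩
  have : p * (c * p ^ a + d' * f) = p * x := by rw [← hcd]; ring
  exact mul_left_cancel₀ hp.ne_zero this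

theorem projMap_surjective (p f : P) (a : ℕ) : Function.Surjective (projMap p f a) := by
  intro y
  obtain ⟨y, rfl⟩ := Submodule.Quotient.mk_surjective _ y
  exact ⟨Submodule.Quotient.mk y, by rw [projMap, Submodule.mapQ_apply]; rfl⟩

theorem exact_mulMap_projMap (p f : P) (a : ℕ) :
    Function.Exact (mulMap p f a) (projMap p f a) := by
  intro y
  obtain ⟨y, rfl⟩ := Submodule.Quotient.mk_surjective _ y
  rw [projMap, Submodule.mapQ_apply, Submodule.Quotient.mk_eq_zero]
  simp only [LinearMap.id_coe, id_eq]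
  constructor
  · intro hy
    obtain ⟨c, d, rfl⟩ := Ideal.mem_span_pair.mp hy
    refine ⟨Submodule.Quotient.mk c, ?_⟩
    rw [mulMap, Submodule.mapQ_apply, ← sub_eq_zero, ← Submodule.Quotient.mk_sub,
      Submodule.Quotient.mk_eq_zero]
    refine Ideal.mem_span_pair.mpr ⟨0, -d, ?_⟩
    simp only [LinearMap.lsmul_apply, smul_eq_mul]
    ring
  · rintro ⟨x, hx⟩
    obtain ⟨x, rfl⟩ := Submodule.Quotient.mk_surjective _ x
    rw [mulMap, Submodule.mapQ_apply, ← sub_eq_zero, ← Submodule.Quotient.mk_sub,
      Submodule.Quotient.mk_eq_zero] at hx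
    obtain ⟨c, d, hcd⟩ := Ideal.mem_span_pair.mp hx
    simp only [LinearMap.lsmul_apply, smul_eq_mul] at hcd
    refine Ideal.mem_span_pair.mpr ⟨x - c * p ^ a, -d, ?_⟩
    have : y = p * x - (c * p ^ (a + 1) + d * f) := by rw [hcd]; ring
    rw [this]; ring

/-- `length P/(p^a, f) = a * length P/(p, f)` for a prime element `p` not dividing `f`. -/
theorem length_quot_pow_pair [IsDomain P] {p f : P} (hp : Prime p) (hf : ¬ p ∣ f) (a : ℕ) :
    Module.length P (P ⧸ Ideal.span {p ^ a, f}) =
      (a : ℕ∞) * Module.length P (P ⧸ Ideal.span {p, f}) := by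
  induction a with
  | zero =>
    have : Ideal.span {p ^ 0, f} = ⊤ := by
      rw [Ideal.eq_top_iff_one]
      exact Ideal.subset_span (by simp)
    have hs : Subsingleton (P ⧸ Ideal.span {p ^ 0, f}) := by
      rw [this]; exact Ideal.Quotient.subsingleton_iff.mpr rfl
    rw [Module.length_eq_zero_iff.mpr hs]
    simp
  | succ a ih =>
    rw [Module.length_eq_add_of_exact (mulMap p f a) (projMap p f a) (mulMap_injective hp hf a)
      (projMap_surjective p f a) (exact_mulMap_projMap p f a), ih]
    push_cast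
    ring

end LengthPow


section Fix

open PowerSeries

variable {B : Type u} [CommRing B] [IsNoetherianRing B] [IsLocalRing B]

theorem X_mem_maximalIdeal : (X : PowerSeries B) ∈ IsLocalRing.maximalIdeal (PowerSeries B) := by
  rw [IsLocalRing.mem_maximalIdeal, mem_nonunits_iff, PowerSeries.isUnit_iff_constantCoeff]
  simp

/-- Krull: an ideal of `B[[t]]` is closed for the adic topology of the maximal ideal. -/
theorem mem_of_forall_mem_sup_pow (J : Ideal (PowerSeries B)) (x : PowerSeries B)
    (h : ∀ N : ℕ, x ∈ J ⊔ IsLocalRing.maximalIdeal (PowerSeries B) ^ N) : x ∈ J := by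
  have hK := Ideal.iInf_pow_smul_eq_bot_of_isLocalRing (R := PowerSeries B)
    (M := PowerSeries B ⧸ J) (IsLocalRing.maximalIdeal (PowerSeries B))
    (Ideal.IsPrime.ne_top inferInstance)
  rw [← Ideal.Quotient.eq_zero_iff_mem, ← Submodule.mem_bot (R := PowerSeries B), ← hK,
    Submodule.mem_iInf]
  intro N
  obtain ⟨y, hy, z, hz, rfl⟩ := Submodule.mem_sup.mp (h N)
  rw [map_add, Ideal.Quotient.eq_zero_iff_mem.mpr hy, zero_add]
  have : (Ideal.Quotient.mk J z) = z • (Ideal.Quotient.mk J 1) := by
    change _ = Submodule.Quotient.mk (z • (1 : PowerSeries B))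
    rw [smul_eq_mul, mul_one]
    rfl
  rw [this]
  exact Submodule.smul_mem_smul hz Submodule.mem_top

/-- If a ring endomorphism `σ` of `B[[t]]` moves the constants and `t` only inside `J`,
then it moves everything only inside `J`. -/
theorem map_sub_self_mem (σ : PowerSeries B →+* PowerSeries B) (J : Ideal (PowerSeries B))
    (hC : ∀ b : B, σ (C b) - C b ∈ J) (hX : σ X - X ∈ J) (r : PowerSeries B) : σ r - r ∈ J := by
  apply mem_of_forall_mem_sup_pow
  intro N
  induction N generalizing r with
  | zero => rw [pow_zero, Ideal.one_eq_top, sup_top_eq]; trivial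
  | succ N ih =>
    set s : PowerSeries B := mk fun p => coeff (p + 1) r with hs
    have hr : r = X * s + C (constantCoeff r) := eq_X_mul_shift_add_const r
    have e : σ r - r = (σ (C (constantCoeff r)) - C (constantCoeff r)) + (σ X - X) * σ s +
        X * (σ s - s) := by
      conv_lhs => rw [hr]
      rw [map_add, map_mul]
      ring
    rw [e]
    refine Ideal.add_mem _ (Ideal.add_mem _ (Ideal.mem_sup_left (hC _))
      (Ideal.mem_sup_left (Ideal.mul_mem_right _ _ hX))) ?_
    obtain ⟨y, hy, z, hz, hyz⟩ := Submodule.mem_sup.mp (ih s)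
    rw [← hyz, mul_add]
    refine Ideal.add_mem _ (Ideal.mem_sup_left (Ideal.mul_mem_left _ _ hy)) (Ideal.mem_sup_right ?_)
    rw [pow_succ']
    exact Ideal.mul_mem_mul X_mem_maximalIdeal hz

end Fix


section DVR

open PowerSeries

variable {B : Type u} [CommRing B] [IsDomain B] [IsDiscreteValuationRing B] {π : B}

theorem ker_map_residue (hπ : Irreducible π) :
    RingHom.ker (PowerSeries.map (IsLocalRing.residue B)) = Ideal.span {(C π : PowerSeries B)} := by
  ext x
  rw [RingHom.mem_ker, Ideal.mem_span_singleton]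
  constructor
  · intro hx
    have h1 : ∀ n, ∃ g : B, coeff n x = π * g := by
      intro n
      have : IsLocalRing.residue B (coeff n x) = 0 := by
        rw [← coeff_map, hx]; simp
      rw [IsLocalRing.residue_eq_zero_iff, hπ.maximalIdeal_eq, Ideal.mem_span_singleton] at this
      exact this
    choose g hg using h1
    refine ⟨mk g, ?_⟩
    ext n
    rw [coeff_C_mul, coeff_mk, hg n]
  · rintro ⟨y, rfl⟩
    rw [map_mul, map_C]
    have : IsLocalRing.residue B π = 0 := by
      rw [IsLocalRing.residue_eq_zero_iff, hπ.maximalIdeal_eq]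
      exact Ideal.mem_span_singleton_self π
    rw [this, map_zero, zero_mul]

theorem prime_C (hπ : Irreducible π) : Prime (C π : PowerSeries B) := by
  have hne : (C π : PowerSeries B) ≠ 0 := by
    intro h
    apply hπ.ne_zero
    have := congrArg (coeff 0) h
    simpa using this
  rw [← Ideal.span_singleton_prime hne, ← ker_map_residue hπ]
  exact RingHom.ker_isPrime _

theorem length_quot_pair_eq (hπ : Irreducible π) (f : PowerSeries B) :
    Module.length (PowerSeries B) (PowerSeries B ⧸ Ideal.span {(C π : PowerSeries B), f}) =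
      Module.length (PowerSeries (IsLocalRing.ResidueField B))
        (PowerSeries (IsLocalRing.ResidueField B) ⧸
          Ideal.span ({PowerSeries.map (IsLocalRing.residue B) f} :
            Set (PowerSeries (IsLocalRing.ResidueField B)))) := by
  set φ := PowerSeries.map (IsLocalRing.residue B) with hφ
  have hsurj : Function.Surjective φ :=
    PowerSeries.map_surjective _ IsLocalRing.residue_surjective
  letI : Algebra (PowerSeries B) (PowerSeries (IsLocalRing.ResidueField B)) := φ.toAlgebra
  rw [← Module.length_eq_of_surjective (S := PowerSeries B)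
    (R := PowerSeries (IsLocalRing.ResidueField B)) hsurj]
  let ψ : PowerSeries B →ₗ[PowerSeries B]
      (PowerSeries (IsLocalRing.ResidueField B) ⧸ Ideal.span ({φ f} :
            Set (PowerSeries (IsLocalRing.ResidueField B)))) :=
    ((Submodule.mkQ _).restrictScalars (PowerSeries B)).comp
      (Algebra.linearMap (PowerSeries B) (PowerSeries (IsLocalRing.ResidueField B)))
  have hψ : Function.Surjective ψ := by
    intro y
    obtain ⟨y, rfl⟩ := Submodule.Quotient.mk_surjective _ y
    obtain ⟨x, rfl⟩ := hsurj y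
    exact ⟨x, rfl⟩
  have hker : LinearMap.ker ψ = Ideal.span {(C π : PowerSeries B), f} := by
    ext x
    rw [LinearMap.mem_ker]
    change Submodule.Quotient.mk (φ x) = 0 ↔ _
    rw [Submodule.Quotient.mk_eq_zero, Ideal.mem_span_singleton, Ideal.mem_span_pair]
    constructor
    · rintro ⟨c, hc⟩
      obtain ⟨c', rfl⟩ := hsurj c
      have : x - f * c' ∈ RingHom.ker φ := by
        rw [RingHom.mem_ker, map_sub, map_mul, hc, sub_self]
      rw [ker_map_residue hπ, Ideal.mem_span_singleton] at this
      obtain ⟨d, hd⟩ := this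
      refine ⟨d, c', ?_⟩
      rw [mul_comm d, ← hd]; ring
    · rintro ⟨a, b, rfl⟩
      refine ⟨φ b, ?_⟩
      rw [map_add, map_mul, map_mul]
      have : φ (C π) = 0 := by
        rw [← RingHom.mem_ker, ker_map_residue hπ]
        exact Ideal.mem_span_singleton_self _
      rw [this, mul_zero, zero_add, mul_comm]
  exact ((Submodule.quotEquivOfEq _ _ hker.symm).trans
    (LinearMap.quotKerEquivOfSurjective ψ hψ)).length_eq

end DVR

end Groth.Agent.Lib.ArLefSmooth7
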