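import Mathlib
import Groth.Prelude.Def_W4c1arstab1appArSing

/-!
# Structure of the `A_r`-singularity algebra `k[[x,y]]/(y^2 - x^(r+1))` (helper97)

`ArSing.ring k r` is free of rank two over `k[[t]]` (through `ArSing.xMap`, `t ↦ x`) with basis
`1, y`: every element is uniquely `xMap a + xMap b * y`.  Proof: transport along
`MvPowerSeries (Fin 2) k ≃ (k[[t]])[[Y]]` and Weierstrass division by the distinguished
polynomial `Y^2 - t^(r+1)`.
-/

set_option autoImplicit false
universe u

namespace Groth.Agent.Lib.ArSing97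

open PowerSeries

variable (k : Type u) [Field k]

/-- `Fin 2 ≃ Option Unit`, `1 ↦ none` (the outer variable `y`), `0 ↦ some ()` (`x`). -/
def idx : Fin 2 ≃ Option Unit where
  toFun i := if i = 1 then none else some ()
  invFun o := match o with | none => 1 | some _ => 0
  left_inv := by decide
  right_inv := by rintro (_|_) <;> rfl

/-- `k[[x,y]] ≃ (k[[t]])[[Y]]`, `x ↦ t`, `y ↦ Y`. -/
noncomputable def e₁ : MvPowerSeries (Fin 2) k ≃ₐ[k] PowerSeries (PowerSeries k) :=
  (MvPowerSeries.renameEquiv k idx).trans (MvPowerSeries.optionEquivLeft Unit k)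

theorem e₁_apply (p : MvPowerSeries (Fin 2) k) :
    e₁ k p = MvPowerSeries.optionEquivLeft Unit k (MvPowerSeries.rename idx p) := rfl

theorem e₁_X0 : e₁ k (MvPowerSeries.X 0) = PowerSeries.C (PowerSeries.X : PowerSeries k) := by
  rw [e₁_apply, MvPowerSeries.rename_X]
  have : idx 0 = some () := rfl
  rw [this, MvPowerSeries.optionEquivLeft_X_some]
  rfl

theorem e₁_X1 : e₁ k (MvPowerSeries.X 1) = (PowerSeries.X : PowerSeries (PowerSeries k)) := by
  rw [e₁_apply, MvPowerSeries.rename_X]
  have : idx 1 = none := rfl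
  rw [this, MvPowerSeries.optionEquivLeft_X_none]

theorem embDomain_idx (m n : ℕ) :
    Finsupp.embDomain idx.toEmbedding (Finsupp.single (0 : Fin 2) m + Finsupp.single 1 n) =
      (Finsupp.single () m).optionElim n := by
  ext o
  rcases o with _ | u
  · have h : (none : Option Unit) = idx.toEmbedding 1 := rfl
    rw [h, Finsupp.embDomain_apply_self]
    have : idx 1 = none := rfl
    simp [this]
  · have h : (some u : Option Unit) = idx.toEmbedding 0 := rfl
    rw [h, Finsupp.embDomain_apply_self]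
    have : idx 0 = some () := rfl
    simp [this]

theorem coeff_e₁ (f : MvPowerSeries (Fin 2) k) (m n : ℕ) :
    PowerSeries.coeff m (PowerSeries.coeff n (e₁ k f)) =
      MvPowerSeries.coeff (Finsupp.single (0 : Fin 2) m + Finsupp.single 1 n) f := by
  rw [e₁_apply]
  change MvPowerSeries.coeff (Finsupp.single () m) _ = _
  rw [MvPowerSeries.coeff_coeff_optionEquivLeft, ← embDomain_idx]
  exact MvPowerSeries.coeff_embDomain_rename idx.toEmbedding f _

theorem hasSubst_X0 : PowerSeries.HasSubst (MvPowerSeries.X 0 : MvPowerSeries (Fin 2) k) :=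
  PowerSeries.HasSubst.of_constantCoeff_zero (MvPowerSeries.constantCoeff_X (0 : Fin 2))

theorem e₁_subst (a : PowerSeries k) :
    e₁ k (a.subst (MvPowerSeries.X 0 : MvPowerSeries (Fin 2) k)) = PowerSeries.C a := by
  ext n m
  rw [coeff_e₁, PowerSeries.coeff_subst (hasSubst_X0 k), PowerSeries.coeff_C]
  by_cases hn : n = 0
  · subst hn
    rw [if_pos rfl, finsum_eq_single _ m]
    · simp [MvPowerSeries.coeff_X_pow]
    · intro d hd
      rw [MvPowerSeries.coeff_X_pow, if_neg, smul_zero]
      intro h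
      apply hd
      have := DFunLike.congr_fun h 0
      simpa using this.symm
  · rw [if_neg hn, map_zero]
    apply finsum_eq_zero_of_forall_eq_zero
    intro d
    rw [MvPowerSeries.coeff_X_pow, if_neg, smul_zero]
    intro h
    apply hn
    have := DFunLike.congr_fun h 1
    simpa using this


/-- The distinguished polynomial `Y^2 - t^(r+1)` over `k[[t]]`. -/
noncomputable def gpol (r : ℕ) : Polynomial (PowerSeries k) :=
  Polynomial.X ^ 2 - Polynomial.C ((PowerSeries.X : PowerSeries k) ^ (r + 1))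

theorem gpol_monic (r : ℕ) : (gpol k r).Monic := by
  unfold gpol
  apply Polynomial.monic_X_pow_sub_C
  norm_num

theorem gpol_natDegree (r : ℕ) : (gpol k r).natDegree = 2 := by
  unfold gpol
  exact Polynomial.natDegree_X_pow_sub_C

theorem gpol_isDistinguishedAt (r : ℕ) :
    (gpol k r).IsDistinguishedAt (Ideal.span {(PowerSeries.X : PowerSeries k)}) where
  monic := gpol_monic k r
  mem := by
    intro n hn
    rw [gpol_natDegree] at hn
    unfold gpol
    interval_cases n
    · simp only [Polynomial.coeff_sub, Polynomial.coeff_X_pow, Polynomial.coeff_C_zero]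
      norm_num
      rw [pow_succ]
      exact Ideal.mul_mem_left _ _ (Ideal.mem_span_singleton_self _)
    · rw [Polynomial.coeff_sub, Polynomial.coeff_X_pow, Polynomial.coeff_C_of_ne_zero (by norm_num)]
      simp

theorem e₁_eqn (r : ℕ) : e₁ k (ArSing.eqn k r) = ((gpol k r : Polynomial (PowerSeries k)) : PowerSeries (PowerSeries k)) := by
  unfold ArSing.eqn gpol
  rw [map_sub, map_pow, map_pow, e₁_X0, e₁_X1]
  simp


theorem span_X_ne_top : Ideal.span {(PowerSeries.X : PowerSeries k)} ≠ ⊤ := by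
  rw [Ne, Ideal.span_singleton_eq_top]
  intro h
  have := (PowerSeries.isUnit_iff_constantCoeff).mp h
  simp at this

theorem order_toNat_gpol (r : ℕ) :
    (((gpol k r : Polynomial (PowerSeries k)) : PowerSeries (PowerSeries k)).map
      (Ideal.Quotient.mk (Ideal.span {(PowerSeries.X : PowerSeries k)}))).order.toNat = 2 := by
  have h := (gpol_isDistinguishedAt k r).coe_natDegree_eq_order_map
    ((gpol k r : Polynomial (PowerSeries k)) : PowerSeries (PowerSeries k)) 1
    (by rw [constantCoeff_one, ← Ideal.ne_top_iff_one]; exact span_X_ne_top k) (by simp)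
  rw [← h, gpol_natDegree]
  rfl

/-- `ι a = a(x)`: substitution of `x` for `t`. -/
noncomputable def ι (a : PowerSeries k) : MvPowerSeries (Fin 2) k :=
  a.subst (MvPowerSeries.X 0 : MvPowerSeries (Fin 2) k)

theorem exists_div (r : ℕ) (f : MvPowerSeries (Fin 2) k) :
    ∃ (a b : PowerSeries k) (q : MvPowerSeries (Fin 2) k),
      f = ArSing.eqn k r * q + (ι k a + ι k b * MvPowerSeries.X 1) := by
  have H := (gpol_isDistinguishedAt k r).isWeierstrassDivisorAt'
  obtain ⟨hdeg, heq⟩ := H.isWeierstrassDivisionAt_div_mod (e₁ k f)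
  rw [order_toNat_gpol] at hdeg
  set R := H.mod (e₁ k f) with hR
  set Q := H.div (e₁ k f) with hQ
  have hR2 : R = Polynomial.C (R.coeff 0) + Polynomial.C (R.coeff 1) * Polynomial.X := by
    have : R.natDegree < 2 := by
      by_cases h0 : R = 0
      · simp [h0]
      · exact (Polynomial.natDegree_lt_iff_degree_lt h0).mpr (by exact_mod_cast hdeg)
    ext n
    rcases n with _ | _ | n
    · simp
    · simp
    · simp only [Polynomial.coeff_add, Polynomial.coeff_C_mul, Polynomial.coeff_X]
      rw [Polynomial.coeff_eq_zero_of_natDegree_lt (by omega), Polynomial.coeff_C_of_ne_zero (by omega)]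
      simp
  refine ⟨R.coeff 0, R.coeff 1, (e₁ k).symm Q, ?_⟩
  apply (e₁ k).injective
  rw [heq, map_add, map_mul, map_add, map_mul, e₁_eqn, AlgEquiv.apply_symm_apply, e₁_X1]
  unfold ι
  rw [e₁_subst, e₁_subst]
  conv_lhs => rw [hR2]
  simp


theorem unique_div (r : ℕ) (a b : PowerSeries k) (q : MvPowerSeries (Fin 2) k)
    (h : ArSing.eqn k r * q = ι k a + ι k b * MvPowerSeries.X 1) : a = 0 ∧ b = 0 := by
  have H := (gpol_isDistinguishedAt k r).isWeierstrassDivisorAt'
  have h' := congrArg (e₁ k) h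
  rw [map_mul, map_add, map_mul, e₁_eqn, e₁_X1] at h'
  unfold ι at h'
  rw [e₁_subst, e₁_subst] at h'
  have hR : (PowerSeries.C a + PowerSeries.C b * PowerSeries.X : PowerSeries (PowerSeries k)) =
      ((Polynomial.C a + Polynomial.C b * Polynomial.X : Polynomial (PowerSeries k)) :
        PowerSeries (PowerSeries k)) := by simp
  rw [hR] at h'
  have hdeg : (Polynomial.C a + Polynomial.C b * Polynomial.X : Polynomial (PowerSeries k)).degree <
      (((gpol k r : Polynomial (PowerSeries k)) : PowerSeries (PowerSeries k)).map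
      (Ideal.Quotient.mk (Ideal.span {(PowerSeries.X : PowerSeries k)}))).order.toNat := by
    rw [order_toNat_gpol]
    have h1 : (Polynomial.C a + Polynomial.C b * Polynomial.X : Polynomial (PowerSeries k)).degree ≤ 1 := by
      rw [add_comm]
      exact Polynomial.degree_linear_le
    exact lt_of_le_of_lt h1 (by norm_num)
  obtain ⟨-, h0⟩ := H.eq_zero_of_mul_eq hdeg h'
  have c0 := congrArg (fun p => Polynomial.coeff p 0) h0
  have c1 := congrArg (fun p => Polynomial.coeff p 1) h0
  simp at c0 c1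
  exact ⟨c0, c1⟩

theorem length_quotient_aux {A R : Type*} [CommRing A] [IsDomain A] [IsDiscreteValuationRing A]
    [CommRing R] (f : A →+* R) (J : Ideal R) (n : ℕ)
    (hsurj : ∀ z : R, ∃ a : A, z - f a ∈ J)
    (hker : ∀ a : A, f a ∈ J ↔ a ∈ IsLocalRing.maximalIdeal A ^ n) :
    Module.length R (R ⧸ J) = n := by
  let ψ : A →+* (R ⧸ J) := (Ideal.Quotient.mk J).comp f
  have hψ : Function.Surjective ψ := by
    intro m
    obtain ⟨z, rfl⟩ := Ideal.Quotient.mk_surjective m
    obtain ⟨a, ha⟩ := hsurj z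
    refine ⟨a, ?_⟩
    simp only [ψ, RingHom.comp_apply]
    exact (Ideal.Quotient.mk_eq_mk_iff_sub_mem _ _).mpr (by
      have := J.neg_mem ha; simpa using this)
  have hkerψ : RingHom.ker ψ = IsLocalRing.maximalIdeal A ^ n := by
    ext a
    rw [RingHom.mem_ker]
    simp only [ψ, RingHom.comp_apply]
    rw [Ideal.Quotient.eq_zero_iff_mem]
    exact hker a
  have h1 : Module.length R (R ⧸ J) = Module.length (R ⧸ J) (R ⧸ J) :=
    Module.length_eq_of_surjective Ideal.Quotient.mk_surjective
  letI : Algebra A (R ⧸ J) := ψ.toAlgebra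
  have h2 : Module.length A (R ⧸ J) = Module.length (R ⧸ J) (R ⧸ J) :=
    Module.length_eq_of_surjective hψ
  have hlin : Function.Surjective (Algebra.linearMap A (R ⧸ J)) := hψ
  have hkl : LinearMap.ker (Algebra.linearMap A (R ⧸ J)) =
      (IsLocalRing.maximalIdeal A ^ n : Ideal A) := by
    rw [← hkerψ]; rfl
  have e := LinearMap.quotKerEquivOfSurjective _ hlin
  rw [h1, ← h2, ← e.length_eq, hkl]
  exact IsDiscreteValuationRing.length_quotient_pow_maximalIdeal (R := A) n

section Ring
variable (k : Type u) [Field k] (r : ℕ)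

theorem xMap_apply (a : PowerSeries k) :
    ArSing.xMap k r a = Ideal.Quotient.mk (Ideal.span {ArSing.eqn k r}) (ι k a) := by
  unfold ArSing.xMap ι
  rw [AlgHom.comp_apply, PowerSeries.coe_substAlgHom]
  rfl

theorem xMap_X : ArSing.xMap k r PowerSeries.X = ArSing.x k r := by
  rw [xMap_apply]
  unfold ι
  rw [PowerSeries.subst_X (hasSubst_X0 k)]

theorem exists_repr (z : ArSing.ring k r) :
    ∃ a b : PowerSeries k, z = ArSing.xMap k r a + ArSing.xMap k r b * ArSing.y k r := by
  obtain ⟨f, rfl⟩ := Ideal.Quotient.mk_surjective z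
  obtain ⟨a, b, q, hf⟩ := exists_div k r f
  refine ⟨a, b, ?_⟩
  rw [xMap_apply, xMap_apply, hf, map_add, map_mul]
  have : Ideal.Quotient.mk (Ideal.span {ArSing.eqn k r}) (ArSing.eqn k r) = 0 :=
    Ideal.Quotient.eq_zero_iff_mem.mpr (Ideal.mem_span_singleton_self _)
  rw [this, zero_mul, zero_add, map_add, map_mul]

theorem repr_eq_zero {a b : PowerSeries k}
    (h : ArSing.xMap k r a + ArSing.xMap k r b * ArSing.y k r = 0) : a = 0 ∧ b = 0 := by
  rw [xMap_apply, xMap_apply] at h
  have h2 : Ideal.Quotient.mk (Ideal.span {ArSing.eqn k r}) (ι k a + ι k b * MvPowerSeries.X 1) = 0 := by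
    rw [map_add, map_mul]; exact h
  rw [Ideal.Quotient.eq_zero_iff_mem, Ideal.mem_span_singleton'] at h2
  obtain ⟨q, hq⟩ := h2
  exact unique_div k r a b q (by rw [← hq, mul_comm])

theorem repr_unique {a b a' b' : PowerSeries k}
    (h : ArSing.xMap k r a + ArSing.xMap k r b * ArSing.y k r =
      ArSing.xMap k r a' + ArSing.xMap k r b' * ArSing.y k r) : a = a' ∧ b = b' := by
  have : ArSing.xMap k r (a - a') + ArSing.xMap k r (b - b') * ArSing.y k r = 0 := by
    rw [map_sub, map_sub]
    linear_combination h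
  obtain ⟨h1, h2⟩ := repr_eq_zero k r this
  exact ⟨sub_eq_zero.mp h1, sub_eq_zero.mp h2⟩

theorem xMap_injective : Function.Injective (ArSing.xMap k r) := by
  intro a a' h
  have : ArSing.xMap k r a + ArSing.xMap k r 0 * ArSing.y k r =
      ArSing.xMap k r a' + ArSing.xMap k r 0 * ArSing.y k r := by rw [h]
  exact (repr_unique k r this).1

theorem y_sq : ArSing.y k r ^ 2 = ArSing.xMap k r (PowerSeries.X ^ (r + 1)) := by
  rw [map_pow, xMap_X]
  have : Ideal.Quotient.mk (Ideal.span {ArSing.eqn k r}) (ArSing.eqn k r) = 0 :=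
    Ideal.Quotient.eq_zero_iff_mem.mpr (Ideal.mem_span_singleton_self _)
  unfold ArSing.eqn at this
  rw [map_sub, map_pow, map_pow, sub_eq_zero] at this
  exact this

theorem repr_mul (a b c d : PowerSeries k) :
    (ArSing.xMap k r a + ArSing.xMap k r b * ArSing.y k r) *
      (ArSing.xMap k r c + ArSing.xMap k r d * ArSing.y k r) =
    ArSing.xMap k r (a * c + b * d * PowerSeries.X ^ (r + 1)) +
      ArSing.xMap k r (a * d + b * c) * ArSing.y k r := by
  have h := y_sq k r
  simp only [map_add, map_mul]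
  rw [← h]
  ring


theorem x_pow (N : ℕ) : ArSing.x k r ^ N = ArSing.xMap k r (PowerSeries.X ^ N) := by
  rw [map_pow, xMap_X]

theorem eq_zero_of_forall_mem_span_pow (z : ArSing.ring k r)
    (h : ∀ N : ℕ, z ∈ Ideal.span {ArSing.x k r ^ N}) : z = 0 := by
  obtain ⟨a, b, rfl⟩ := exists_repr k r z
  have key : ∀ N : ℕ, (PowerSeries.X : PowerSeries k) ^ N ∣ a ∧ (PowerSeries.X : PowerSeries k) ^ N ∣ b := by
    intro N
    obtain ⟨w, hw⟩ := Ideal.mem_span_singleton'.mp (h N)
    obtain ⟨c, d, rfl⟩ := exists_repr k r w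
    rw [x_pow] at hw
    have h3 : ArSing.xMap k r (c * PowerSeries.X ^ N) + ArSing.xMap k r (d * PowerSeries.X ^ N) * ArSing.y k r =
        ArSing.xMap k r a + ArSing.xMap k r b * ArSing.y k r := by
      rw [← hw]; simp only [map_mul]; ring
    obtain ⟨h4, h5⟩ := repr_unique k r h3
    exact ⟨⟨c, by rw [← h4, mul_comm]⟩, ⟨d, by rw [← h5, mul_comm]⟩⟩
  have ha : a = 0 := by
    ext n
    have := (key (n + 1)).1
    rw [PowerSeries.X_pow_dvd_iff] at this
    simpa using this n (Nat.lt_succ_self n)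
  have hb : b = 0 := by
    ext n
    have := (key (n + 1)).2
    rw [PowerSeries.X_pow_dvd_iff] at this
    simpa using this n (Nat.lt_succ_self n)
  rw [ha, hb]; simp

theorem algHom_ext_powerSeries {B : Type*} [CommRing B] [Algebra k B] (u : B)
    (hB : ∀ z : B, (∀ N : ℕ, z ∈ Ideal.span {u ^ N}) → z = 0)
    (L₁ L₂ : PowerSeries k →ₐ[k] B) (h₁ : L₁ PowerSeries.X = u) (h₂ : L₂ PowerSeries.X = u) :
    L₁ = L₂ := by
  have hpoly : L₁.comp (Polynomial.coeToPowerSeries.algHom k) =
      L₂.comp (Polynomial.coeToPowerSeries.algHom k) := by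
    apply Polynomial.algHom_ext
    simp [h₁, h₂]
  ext a
  apply sub_eq_zero.mp
  apply hB
  intro N
  have ha := PowerSeries.eq_X_pow_mul_shift_add_trunc N a
  have hp := DFunLike.congr_fun hpoly (PowerSeries.trunc N a)
  simp only [AlgHom.comp_apply, Polynomial.coeToPowerSeries.algHom_apply, Algebra.algebraMap_self,
    PowerSeries.map_id, id_eq] at hp
  rw [ha, map_add, map_add, map_mul, map_mul, map_pow, map_pow, h₁, h₂, hp]
  rw [Ideal.mem_span_singleton']
  refine ⟨L₁ (PowerSeries.mk fun i => PowerSeries.coeff (i + N) a) - L₂ (PowerSeries.mk fun i => PowerSeries.coeff (i + N) a), ?_⟩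
  ring

section T3
theorem hausdorff_of_pow_mem (u : ArSing.ring k r) (n : ℕ)
    (hu : u ^ n ∈ Ideal.span {ArSing.x k r}) (z : ArSing.ring k r)
    (hz : ∀ N : ℕ, z ∈ Ideal.span {u ^ N}) : z = 0 := by
  apply eq_zero_of_forall_mem_span_pow k r
  intro N
  have h1 := hz (n * N)
  obtain ⟨w, hw⟩ := Ideal.mem_span_singleton'.mp hu
  rw [pow_mul, ← hw, mul_pow] at h1
  obtain ⟨v, hv⟩ := Ideal.mem_span_singleton'.mp h1
  rw [Ideal.mem_span_singleton']
  exact ⟨v * w ^ N, by rw [← hv]; ring⟩

theorem algHom_ext_ring {s : ℕ} (τ₁ τ₂ : ArSing.ring k r →ₐ[k] ArSing.ring k s)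
    (hx : τ₁ (ArSing.x k r) = τ₂ (ArSing.x k r)) (hy : τ₁ (ArSing.y k r) = τ₂ (ArSing.y k r))
    (n : ℕ) (hu : τ₁ (ArSing.x k r) ^ n ∈ Ideal.span {ArSing.x k s}) : τ₁ = τ₂ := by
  have hcomp : τ₁.comp (ArSing.xMap k r) = τ₂.comp (ArSing.xMap k r) := by
    apply algHom_ext_powerSeries k (τ₁ (ArSing.x k r)) (hausdorff_of_pow_mem k s _ n hu)
    · simp [xMap_X]
    · simp [xMap_X, hx]
  ext z
  obtain ⟨a, b, rfl⟩ := exists_repr k r z
  have ha := DFunLike.congr_fun hcomp a
  have hb := DFunLike.congr_fun hcomp b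
  simp only [AlgHom.comp_apply] at ha hb
  rw [map_add, map_add, map_mul, map_mul, ha, hb, hy]
end T3

/-- A `k`-algebra endomorphism of `A_r` fixing `x` fixes all of `k[[x]]`. -/
theorem algHom_xMap_of_x {s : ℕ} (τ : ArSing.ring k r →ₐ[k] ArSing.ring k s)
    (hx : τ (ArSing.x k r) = ArSing.x k s) (a : PowerSeries k) :
    τ (ArSing.xMap k r a) = ArSing.xMap k s a := by
  have : τ.comp (ArSing.xMap k r) = ArSing.xMap k s := by
    apply algHom_ext_powerSeries k (ArSing.x k s)
      (hausdorff_of_pow_mem k s _ 1 (by simpa using Ideal.mem_span_singleton_self _))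
    · simp [xMap_X, hx]
    · simp [xMap_X]
  exact DFunLike.congr_fun this a

theorem two_smul_eq_zero (h2 : (2 : k) ≠ 0) (b : PowerSeries k) (h : b + b = 0) : b = 0 := by
  have : (2 : PowerSeries k) * b = 0 := by rw [two_mul]; exact h
  rcases mul_eq_zero.mp this with h' | h'
  · exfalso
    have := congrArg (PowerSeries.constantCoeff (R := k)) h'
    simp at this
    exact h2 this
  · exact h'

theorem y_mem_nonZeroDivisors : ArSing.y k r ∈ nonZeroDivisors (ArSing.ring k r) := by
  rw [mem_nonZeroDivisors_iff_right]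
  intro w hw
  obtain ⟨c, d, rfl⟩ := exists_repr k r w
  have h1 : ArSing.xMap k r (d * PowerSeries.X ^ (r + 1)) + ArSing.xMap k r c * ArSing.y k r = 0 := by
    have := y_sq k r
    rw [← hw]
    simp only [map_mul]
    rw [← this]
    ring
  obtain ⟨h3, h4⟩ := repr_eq_zero k r h1
  have hd : d = 0 := by
    rcases mul_eq_zero.mp h3 with h | h
    · exact h
    · exact absurd h (pow_ne_zero _ PowerSeries.X_ne_zero)
  rw [h4, hd]; simp


theorem x_not_isUnit_aux (w : ArSing.ring k r) : w * ArSing.x k r ≠ 1 := by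
  intro h
  obtain ⟨c, d, rfl⟩ := exists_repr k r w
  have h1 : ArSing.xMap k r (c * PowerSeries.X) + ArSing.xMap k r (d * PowerSeries.X) * ArSing.y k r =
      ArSing.xMap k r 1 + ArSing.xMap k r 0 * ArSing.y k r := by
    rw [map_one, map_zero, zero_mul, add_zero, ← h]
    simp only [map_mul, xMap_X]
    ring
  have h2 := (repr_unique k r h1).1
  have := congrArg (PowerSeries.constantCoeff (R := k)) h2
  simp at this

theorem map_maximalIdeal_ne_top :
    Ideal.map (ArSing.xMap k r) (IsLocalRing.maximalIdeal (PowerSeries k)) ≠ ⊤ := by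
  rw [PowerSeries.maximalIdeal_eq_span_X, Ideal.map_span, Set.image_singleton, xMap_X]
  intro h
  rw [Ideal.eq_top_iff_one, Ideal.mem_span_singleton'] at h
  obtain ⟨w, hw⟩ := h
  exact x_not_isUnit_aux k r w hw

theorem flat_xMap : (ArSing.xMap k r).toRingHom.Flat := by
  letI : Algebra (PowerSeries k) (ArSing.ring k r) := (ArSing.xMap k r).toRingHom.toAlgebra
  show Module.Flat (PowerSeries k) (ArSing.ring k r)
  have hsm : ∀ (b : PowerSeries k) (z : ArSing.ring k r), b • z = ArSing.xMap k r b * z := fun b z => rfl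
  let f : (PowerSeries k × PowerSeries k) →ₗ[PowerSeries k] ArSing.ring k r :=
    LinearMap.coprod (Algebra.linearMap (PowerSeries k) (ArSing.ring k r))
      (LinearMap.toSpanSingleton (PowerSeries k) (ArSing.ring k r) (ArSing.y k r))
  have hf : ∀ p : PowerSeries k × PowerSeries k, f p = ArSing.xMap k r p.1 + ArSing.xMap k r p.2 * ArSing.y k r := by
    intro p
    simp only [f, LinearMap.coprod_apply, Algebra.linearMap_apply, LinearMap.toSpanSingleton_apply, hsm]
    rfl
  have hbij : Function.Bijective f := by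
    constructor
    · rw [← LinearMap.ker_eq_bot, LinearMap.ker_eq_bot']
      intro p hp
      rw [hf] at hp
      obtain ⟨h1, h2⟩ := repr_eq_zero k r hp
      exact Prod.ext h1 h2
    · intro z
      obtain ⟨a, b, rfl⟩ := exists_repr k r z
      exact ⟨(a, b), hf _⟩
  exact Module.Flat.of_linearEquiv (LinearEquiv.ofBijective f hbij).symm


theorem length_quotient_of_surjective (J : Ideal (ArSing.ring k r)) (n : ℕ)
    (hsurj : ∀ z : ArSing.ring k r, ∃ a : PowerSeries k, z - ArSing.xMap k r a ∈ J)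
    (hker : ∀ a : PowerSeries k, ArSing.xMap k r a ∈ J ↔ (PowerSeries.X : PowerSeries k) ^ n ∣ a) :
    Module.length (ArSing.ring k r) (ArSing.ring k r ⧸ J) = n := by
  apply length_quotient_aux (ArSing.xMap k r).toRingHom J n hsurj
  intro a
  rw [PowerSeries.maximalIdeal_eq_span_X, Ideal.span_singleton_pow, Ideal.mem_span_singleton]
  exact hker a

end Ring

end Groth.Agent.Lib.ArSing97
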