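import Mathlib
import Groth.Agent.Lib.ArSing97

/-!
# More on `A_r`-singularity algebras (helper97)

Power-series operators `t ↦ -t`, `t ↦ t^2`, even/odd decomposition; the augmentation
`A_r → k`, units, and a general extensionality lemma for algebra maps out of `A_r`.
-/

set_option autoImplicit false
universe u

namespace Groth.Agent.Lib.ArSing97

open PowerSeries

variable (k : Type u) [Field k]

/-- `t ↦ -t` on `k[[t]]`. -/
noncomputable def Nneg : PowerSeries k →ₐ[k] PowerSeries k := PowerSeries.rescaleAlgHom (-1)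

theorem coeff_Nneg (a : PowerSeries k) (n : ℕ) :
    PowerSeries.coeff n (Nneg k a) = (-1) ^ n * PowerSeries.coeff n a := by
  unfold Nneg
  have h : (PowerSeries.rescaleAlgHom (-1 : k)) a = PowerSeries.rescale (-1 : k) a := by
    rw [← PowerSeries.coe_rescaleAlgHom]; rfl
  rw [h, PowerSeries.coeff_rescale]

theorem Nneg_X : Nneg k PowerSeries.X = -PowerSeries.X := by
  ext n
  rw [coeff_Nneg, map_neg, PowerSeries.coeff_X]
  split_ifs with h
  · subst h; simp
  · simp

/-- `t ↦ t^2` on `k[[t]]`. -/
noncomputable def Esq : PowerSeries k →ₐ[k] PowerSeries k :=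
  PowerSeries.substAlgHom (PowerSeries.HasSubst.X_pow (two_ne_zero))

theorem coeff_Esq (a : PowerSeries k) (n : ℕ) :
    PowerSeries.coeff n (Esq k a) = if 2 ∣ n then PowerSeries.coeff (n / 2) a else 0 := by
  unfold Esq
  rw [PowerSeries.coe_substAlgHom, PowerSeries.coeff_subst_X_pow two_ne_zero]
  simp

theorem Esq_X : Esq k PowerSeries.X = PowerSeries.X ^ 2 := by
  unfold Esq
  rw [PowerSeries.coe_substAlgHom, PowerSeries.subst_X (PowerSeries.HasSubst.X_pow two_ne_zero)]

/-- Even part `Σ a_{2n} t^n`. -/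
noncomputable def evenPart (a : PowerSeries k) : PowerSeries k :=
  PowerSeries.mk fun n => PowerSeries.coeff (2 * n) a

/-- Odd part `Σ a_{2n+1} t^n`. -/
noncomputable def oddPart (a : PowerSeries k) : PowerSeries k :=
  PowerSeries.mk fun n => PowerSeries.coeff (2 * n + 1) a

theorem coeff_Esq_add (a₀ a₁ : PowerSeries k) (n : ℕ) :
    PowerSeries.coeff n (Esq k a₀ + PowerSeries.X * Esq k a₁) =
      if 2 ∣ n then PowerSeries.coeff (n / 2) a₀ else PowerSeries.coeff (n / 2) a₁ := by
  rw [map_add, coeff_Esq]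
  rcases n with _ | n
  · simp
  · rw [PowerSeries.coeff_succ_X_mul, coeff_Esq]
    by_cases h : 2 ∣ n + 1
    · have h' : ¬ 2 ∣ n := by omega
      simp [h, h']
    · have h' : 2 ∣ n := by omega
      have : n / 2 = (n + 1) / 2 := by omega
      simp [h, h', this]

theorem even_odd_decomp (a : PowerSeries k) :
    a = Esq k (evenPart k a) + PowerSeries.X * Esq k (oddPart k a) := by
  ext n
  rw [coeff_Esq_add]
  split_ifs with h
  · obtain ⟨m, rfl⟩ := h
    simp [evenPart]
  · have : n = 2 * (n / 2) + 1 := by omega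
    conv_lhs => rw [this]
    simp [oddPart]

theorem Esq_add_eq_zero {a₀ a₁ : PowerSeries k}
    (h : Esq k a₀ + PowerSeries.X * Esq k a₁ = 0) : a₀ = 0 ∧ a₁ = 0 := by
  constructor
  · ext n
    have := congrArg (PowerSeries.coeff (2 * n)) h
    rw [coeff_Esq_add] at this
    simpa using this
  · ext n
    have := congrArg (PowerSeries.coeff (2 * n + 1)) h
    rw [coeff_Esq_add] at this
    have h2 : ¬ 2 ∣ 2 * n + 1 := by omega
    have h3 : (2 * n + 1) / 2 = n := by omega
    simpa [h2, h3] using this

theorem Esq_injective : Function.Injective (Esq k) := by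
  intro a b h
  have : Esq k (a - b) + PowerSeries.X * Esq k 0 = 0 := by
    rw [map_sub, h]; simp
  exact sub_eq_zero.mp (Esq_add_eq_zero k this).1

theorem Nneg_Esq (a : PowerSeries k) : Nneg k (Esq k a) = Esq k a := by
  ext n
  rw [coeff_Nneg, coeff_Esq]
  split_ifs with h
  · obtain ⟨m, rfl⟩ := h
    simp [pow_mul]
  · simp

theorem Nneg_X_mul_Esq (a : PowerSeries k) :
    Nneg k (PowerSeries.X * Esq k a) = -(PowerSeries.X * Esq k a) := by
  rw [map_mul, Nneg_X, Nneg_Esq]; ring

theorem Nneg_eq_self (h2 : (2 : k) ≠ 0) {a : PowerSeries k} (h : Nneg k a = a) :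
    a = Esq k (evenPart k a) := by
  have hd := even_odd_decomp k a
  have h1 : Nneg k a = Esq k (evenPart k a) - PowerSeries.X * Esq k (oddPart k a) := by
    conv_lhs => rw [hd]
    rw [map_add, Nneg_Esq, Nneg_X_mul_Esq]; ring
  generalize Esq k (evenPart k a) = e at hd h1 ⊢
  have h3 : Esq k 0 + PowerSeries.X * Esq k (oddPart k a + oddPart k a) = 0 := by
    rw [map_zero, zero_add, map_add]
    have h6 : e - PowerSeries.X * Esq k (oddPart k a) = e + PowerSeries.X * Esq k (oddPart k a) := by
      rw [← h1, ← hd, h]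
    linear_combination -h6
  have h4 := (Esq_add_eq_zero k h3).2
  have h5 : oddPart k a = 0 := two_smul_eq_zero k h2 _ h4
  rw [h5] at hd
  simpa using hd

theorem X_dvd_Nneg_sub (a : PowerSeries k) : PowerSeries.X ∣ Nneg k a - a := by
  rw [PowerSeries.X_dvd_iff, map_sub]
  have := coeff_Nneg k a 0
  rw [PowerSeries.coeff_zero_eq_constantCoeff] at this
  simp [this]

variable (r : ℕ)

/-- General extensionality for algebra maps out of `A_r`. -/
theorem algHom_ext_ring' {B : Type*} [CommRing B] [Algebra k B]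
    (τ₁ τ₂ : ArSing.ring k r →ₐ[k] B)
    (hx : τ₁ (ArSing.x k r) = τ₂ (ArSing.x k r)) (hy : τ₁ (ArSing.y k r) = τ₂ (ArSing.y k r))
    (hB : ∀ z : B, (∀ N : ℕ, z ∈ Ideal.span {τ₁ (ArSing.x k r) ^ N}) → z = 0) : τ₁ = τ₂ := by
  have hcomp : τ₁.comp (ArSing.xMap k r) = τ₂.comp (ArSing.xMap k r) := by
    apply algHom_ext_powerSeries k (τ₁ (ArSing.x k r)) hB
    · simp [xMap_X]
    · simp [xMap_X, hx]
  ext z
  obtain ⟨a, b, rfl⟩ := exists_repr k r z
  have ha := DFunLike.congr_fun hcomp a
  have hb := DFunLike.congr_fun hcomp b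
  simp only [AlgHom.comp_apply] at ha hb
  rw [map_add, map_add, map_mul, map_mul, ha, hb, hy]

/-- constant coefficient as an algebra map -/
noncomputable def ccₐ : MvPowerSeries (Fin 2) k →ₐ[k] k :=
  { MvPowerSeries.constantCoeff (σ := Fin 2) (R := k) with
    commutes' := fun c => by
      simp [MvPowerSeries.algebraMap_apply] }

/-- The augmentation `A_r → k`. -/
noncomputable def aug : ArSing.ring k r →ₐ[k] k :=
  Ideal.Quotient.liftₐ (Ideal.span {ArSing.eqn k r}) (ccₐ k) (by
    intro f hf
    obtain ⟨q, rfl⟩ := Ideal.mem_span_singleton'.mp hf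
    show MvPowerSeries.constantCoeff (q * ArSing.eqn k r) = 0
    rw [map_mul]
    unfold ArSing.eqn
    simp)

theorem aug_mk (f : MvPowerSeries (Fin 2) k) :
    aug k r (Ideal.Quotient.mk _ f) = MvPowerSeries.constantCoeff f := rfl

theorem aug_x : aug k r (ArSing.x k r) = 0 := by
  show aug k r (Ideal.Quotient.mk _ _) = 0
  rw [aug_mk]; simp

theorem aug_y : aug k r (ArSing.y k r) = 0 := by
  show aug k r (Ideal.Quotient.mk _ _) = 0
  rw [aug_mk]; simp

/-- constant coefficient of `k[[t]]` as an algebra map -/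
noncomputable def cc₁ : PowerSeries k →ₐ[k] k :=
  { PowerSeries.constantCoeff (R := k) with
    commutes' := fun c => by simp }

theorem aug_xMap (a : PowerSeries k) : aug k r (ArSing.xMap k r a) = PowerSeries.constantCoeff a := by
  have : (aug k r).comp (ArSing.xMap k r) = cc₁ k := by
    apply algHom_ext_powerSeries k (0 : k)
    · intro z hz
      have := hz 1
      simpa using this
    · simp [xMap_X, aug_x]
    · show PowerSeries.constantCoeff (PowerSeries.X : PowerSeries k) = 0
      simp
  exact DFunLike.congr_fun this a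

theorem aug_repr (a b : PowerSeries k) :
    aug k r (ArSing.xMap k r a + ArSing.xMap k r b * ArSing.y k r) = PowerSeries.constantCoeff a := by
  rw [map_add, map_mul, aug_y, mul_zero, add_zero, aug_xMap]

theorem isUnit_of_aug_ne_zero {z : ArSing.ring k r} (hz : aug k r z ≠ 0) : IsUnit z := by
  obtain ⟨a, b, rfl⟩ := exists_repr k r z
  rw [aug_repr] at hz
  have hn : IsUnit (a * a - b * b * PowerSeries.X ^ (r + 1)) := by
    rw [PowerSeries.isUnit_iff_constantCoeff]
    simp [hz]
  have h1 : (ArSing.xMap k r a + ArSing.xMap k r b * ArSing.y k r) *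
      (ArSing.xMap k r a + ArSing.xMap k r (-b) * ArSing.y k r) =
      ArSing.xMap k r (a * a - b * b * PowerSeries.X ^ (r + 1)) := by
    rw [repr_mul]
    have e1 : a * a + b * -b * PowerSeries.X ^ (r + 1) = a * a - b * b * PowerSeries.X ^ (r + 1) := by ring
    have e2 : a * -b + b * a = 0 := by ring
    rw [e1, e2]; simp
  have h2 : IsUnit (ArSing.xMap k r (a * a - b * b * PowerSeries.X ^ (r + 1))) := hn.map _
  rw [← h1] at h2
  exact isUnit_of_mul_isUnit_left h2

/-- every maximal ideal is the augmentation ideal -/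
theorem le_ker_aug_of_ne_top {I : Ideal (ArSing.ring k r)} (hI : I ≠ ⊤) :
    I ≤ RingHom.ker (aug k r) := by
  intro z hz
  rw [RingHom.mem_ker]
  by_contra h
  exact hI (Ideal.eq_top_of_isUnit_mem _ hz (isUnit_of_aug_ne_zero k r h))


/-- `t ↦ y`. -/
noncomputable def yMap : PowerSeries k →ₐ[k] ArSing.ring k r :=
  (Ideal.Quotient.mkₐ k (Ideal.span {ArSing.eqn k r})).comp
    (PowerSeries.substAlgHom
      (PowerSeries.HasSubst.of_constantCoeff_zero
        (MvPowerSeries.constantCoeff_X (1 : Fin 2) : MvPowerSeries.constantCoeff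
          (MvPowerSeries.X (1 : Fin 2) : MvPowerSeries (Fin 2) k) = 0)))

theorem yMap_X : yMap k r PowerSeries.X = ArSing.y k r := by
  unfold yMap
  rw [AlgHom.comp_apply, PowerSeries.coe_substAlgHom, PowerSeries.subst_X]
  · rfl
  · exact PowerSeries.HasSubst.of_constantCoeff_zero (MvPowerSeries.constantCoeff_X (1 : Fin 2))

theorem x_mem_nonZeroDivisors : ArSing.x k r ∈ nonZeroDivisors (ArSing.ring k r) := by
  rw [mem_nonZeroDivisors_iff_right]
  intro w hw
  obtain ⟨c, d, rfl⟩ := exists_repr k r w
  have h1 : ArSing.xMap k r (c * PowerSeries.X) + ArSing.xMap k r (d * PowerSeries.X) * ArSing.y k r = 0 := by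
    rw [← hw]
    simp only [map_mul, xMap_X]
    ring
  obtain ⟨h3, h4⟩ := repr_eq_zero k r h1
  have hc : c = 0 := by
    rcases mul_eq_zero.mp h3 with h | h
    · exact h
    · exact absurd h PowerSeries.X_ne_zero
  have hd : d = 0 := by
    rcases mul_eq_zero.mp h4 with h | h
    · exact h
    · exact absurd h PowerSeries.X_ne_zero
  rw [hc, hd]; simp

/-- membership in `(x)` in coordinates -/
theorem mem_span_x_iff (a b : PowerSeries k) :
    ArSing.xMap k r a + ArSing.xMap k r b * ArSing.y k r ∈ Ideal.span {ArSing.x k r} ↔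
      PowerSeries.constantCoeff a = 0 ∧ PowerSeries.constantCoeff b = 0 := by
  rw [Ideal.mem_span_singleton']
  constructor
  · rintro ⟨w, hw⟩
    obtain ⟨c, d, rfl⟩ := exists_repr k r w
    have h1 : ArSing.xMap k r (c * PowerSeries.X) + ArSing.xMap k r (d * PowerSeries.X) * ArSing.y k r =
        ArSing.xMap k r a + ArSing.xMap k r b * ArSing.y k r := by
      rw [← hw]
      simp only [map_mul, xMap_X]
      ring
    obtain ⟨h3, h4⟩ := repr_unique k r h1
    rw [← h3, ← h4]
    simp
  · rintro ⟨ha, hb⟩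
    obtain ⟨a', rfl⟩ := PowerSeries.X_dvd_iff.mpr ha
    obtain ⟨b', rfl⟩ := PowerSeries.X_dvd_iff.mpr hb
    refine ⟨ArSing.xMap k r a' + ArSing.xMap k r b' * ArSing.y k r, ?_⟩
    simp only [map_mul, xMap_X]
    ring

theorem length_quotient_span_x :
    Module.length (ArSing.ring k r) (ArSing.ring k r ⧸ Ideal.span {ArSing.x k r}) = 2 := by
  have key := length_quotient_aux (yMap k r).toRingHom (Ideal.span {ArSing.x k r}) 2 ?_ ?_
  · rw [key]; norm_cast
  · intro z
    obtain ⟨a, b, rfl⟩ := exists_repr k r z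
    refine ⟨PowerSeries.C (PowerSeries.constantCoeff a) + PowerSeries.C (PowerSeries.constantCoeff b) * PowerSeries.X, ?_⟩
    have h1 : (yMap k r).toRingHom (PowerSeries.C (PowerSeries.constantCoeff a) + PowerSeries.C (PowerSeries.constantCoeff b) * PowerSeries.X) =
        ArSing.xMap k r (PowerSeries.C (PowerSeries.constantCoeff a)) +
          ArSing.xMap k r (PowerSeries.C (PowerSeries.constantCoeff b)) * ArSing.y k r := by
      show (yMap k r) _ = _
      rw [map_add, map_mul, yMap_X]
      have hC : ∀ c : k, (PowerSeries.C c : PowerSeries k) = algebraMap k (PowerSeries k) c := fun c => rfl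
      rw [hC, hC, AlgHom.commutes, AlgHom.commutes, AlgHom.commutes, AlgHom.commutes]
    rw [h1]
    have h2 : ArSing.xMap k r a + ArSing.xMap k r b * ArSing.y k r -
        (ArSing.xMap k r (PowerSeries.C (PowerSeries.constantCoeff a)) +
          ArSing.xMap k r (PowerSeries.C (PowerSeries.constantCoeff b)) * ArSing.y k r) =
        ArSing.xMap k r (a - PowerSeries.C (PowerSeries.constantCoeff a)) +
          ArSing.xMap k r (b - PowerSeries.C (PowerSeries.constantCoeff b)) * ArSing.y k r := by
      simp only [map_sub]; ring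
    rw [h2, mem_span_x_iff]
    simp
  · intro a
    have hR : a ∈ IsLocalRing.maximalIdeal (PowerSeries k) ^ 2 ↔
        ∀ m < 2, PowerSeries.coeff m a = 0 := by
      rw [PowerSeries.maximalIdeal_eq_span_X, Ideal.span_singleton_pow, Ideal.mem_span_singleton,
        PowerSeries.X_pow_dvd_iff]
    rw [hR]
    -- decompose a
    have hdec : ∃ a'' : PowerSeries k, a = PowerSeries.C (PowerSeries.coeff 0 a) +
        PowerSeries.C (PowerSeries.coeff 1 a) * PowerSeries.X + PowerSeries.X ^ 2 * a'' := by
      have : (PowerSeries.X : PowerSeries k) ^ 2 ∣ a - (PowerSeries.C (PowerSeries.coeff 0 a) +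
          PowerSeries.C (PowerSeries.coeff 1 a) * PowerSeries.X) := by
        rw [PowerSeries.X_pow_dvd_iff]
        intro m hm
        interval_cases m
        · simp
        · simp [PowerSeries.coeff_C]
      obtain ⟨a'', ha''⟩ := this
      exact ⟨a'', by rw [← ha'']; ring⟩
    obtain ⟨a'', ha''⟩ := hdec
    have hC : ∀ c : k, (PowerSeries.C c : PowerSeries k) = algebraMap k (PowerSeries k) c := fun c => rfl
    have hy : (yMap k r) a = ArSing.xMap k r (PowerSeries.C (PowerSeries.coeff 0 a)) +
        ArSing.xMap k r (PowerSeries.C (PowerSeries.coeff 1 a)) * ArSing.y k r +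
        ArSing.x k r * (ArSing.x k r ^ r * yMap k r a'') := by
      conv_lhs => rw [ha'']
      rw [map_add, map_add, map_mul, map_mul, map_pow, yMap_X, y_sq, ← x_pow]
      rw [hC, hC, AlgHom.commutes, AlgHom.commutes, AlgHom.commutes, AlgHom.commutes]
      ring
    have hlast : ArSing.x k r * (ArSing.x k r ^ r * yMap k r a'') ∈ Ideal.span {ArSing.x k r} :=
      Ideal.mul_mem_right _ _ (Ideal.mem_span_singleton_self _)
    show (yMap k r) a ∈ _ ↔ _
    rw [hy, Ideal.add_mem_iff_left _ hlast, mem_span_x_iff]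
    simp only [PowerSeries.constantCoeff_C]
    constructor
    · rintro ⟨h0, h1⟩ m hm
      interval_cases m
      · exact h0
      · exact h1
    · intro h
      exact ⟨h 0 (by norm_num), h 1 (by norm_num)⟩

end Groth.Agent.Lib.ArSing97
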