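import Mathlib
import Groth.Agent.Lib.ArSing97b

/-!
# The two branches of the node `A_1 = k[[x,y]]/(y^2 - x^2)` (helper97)

Branch maps `br c : A_1 → k[[t]]`, `x ↦ t`, `y ↦ c t` for `c^2 = 1`; joint injectivity,
image, kernels.
-/

set_option autoImplicit false
universe u

namespace Groth.Agent.Lib.ArSing97

open PowerSeries

variable (k : Type u) [Field k]

/-- `k[[t]]` is separated for the `u`-adic topology when `t ∣ u`. -/
theorem hausdorff_ps (u : PowerSeries k) (hu : (PowerSeries.X : PowerSeries k) ∣ u)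
    (z : PowerSeries k) (hz : ∀ N : ℕ, z ∈ Ideal.span {u ^ N}) : z = 0 := by
  ext n
  have h1 := hz (n + 1)
  rw [Ideal.mem_span_singleton] at h1
  have h2 : (PowerSeries.X : PowerSeries k) ^ (n + 1) ∣ z := (pow_dvd_pow_of_dvd hu (n + 1)).trans h1
  rw [PowerSeries.X_pow_dvd_iff] at h2
  simpa using h2 n (Nat.lt_succ_self n)

/-- substitution data of the branch `y = c x` -/
noncomputable def brFun (c : k) : Fin 2 → PowerSeries k :=
  ![PowerSeries.X, PowerSeries.C c * PowerSeries.X]

theorem brFun_hasSubst (c : k) : MvPowerSeries.HasSubst (brFun k c) := by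
  apply MvPowerSeries.hasSubst_of_constantCoeff_zero
  intro s
  fin_cases s
  · show PowerSeries.constantCoeff (PowerSeries.X : PowerSeries k) = 0
    simp
  · show PowerSeries.constantCoeff (PowerSeries.C c * PowerSeries.X : PowerSeries k) = 0
    simp

theorem brFun_eqn (c : k) (hc : c ^ 2 = 1) :
    MvPowerSeries.substAlgHom (brFun_hasSubst k c) (ArSing.eqn k 1) = 0 := by
  unfold ArSing.eqn
  rw [map_sub, map_pow, map_pow, MvPowerSeries.substAlgHom_X, MvPowerSeries.substAlgHom_X]
  show (PowerSeries.C c * PowerSeries.X) ^ 2 - (PowerSeries.X : PowerSeries k) ^ (1 + 1) = 0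
  rw [mul_pow, ← map_pow, hc, map_one, one_mul]
  simp

/-- The branch map `A_1 → k[[t]]`, `x ↦ t`, `y ↦ c t` (`c^2 = 1`). -/
noncomputable def br (c : k) (hc : c ^ 2 = 1) : ArSing.ring k 1 →ₐ[k] PowerSeries k :=
  Ideal.Quotient.liftₐ (Ideal.span {ArSing.eqn k 1})
    (MvPowerSeries.substAlgHom (brFun_hasSubst k c)) (by
      intro f hf
      obtain ⟨q, rfl⟩ := Ideal.mem_span_singleton'.mp hf
      rw [map_mul, brFun_eqn k c hc, mul_zero])

variable {k}

theorem br_mk (c : k) (hc : c ^ 2 = 1) (f : MvPowerSeries (Fin 2) k) :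
    br k c hc (Ideal.Quotient.mk _ f) = MvPowerSeries.substAlgHom (brFun_hasSubst k c) f := rfl

theorem br_x (c : k) (hc : c ^ 2 = 1) : br k c hc (ArSing.x k 1) = PowerSeries.X := by
  show br k c hc (Ideal.Quotient.mk _ _) = _
  rw [br_mk, MvPowerSeries.substAlgHom_X]
  rfl

theorem br_y (c : k) (hc : c ^ 2 = 1) :
    br k c hc (ArSing.y k 1) = PowerSeries.C c * PowerSeries.X := by
  show br k c hc (Ideal.Quotient.mk _ _) = _
  rw [br_mk, MvPowerSeries.substAlgHom_X]
  rfl

theorem br_xMap (c : k) (hc : c ^ 2 = 1) (a : PowerSeries k) :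
    br k c hc (ArSing.xMap k 1 a) = a := by
  have : (br k c hc).comp (ArSing.xMap k 1) = AlgHom.id k (PowerSeries k) := by
    apply algHom_ext_powerSeries k (PowerSeries.X : PowerSeries k)
      (hausdorff_ps k _ dvd_rfl)
    · simp [xMap_X, br_x]
    · simp
  exact DFunLike.congr_fun this a

theorem br_repr (c : k) (hc : c ^ 2 = 1) (a b : PowerSeries k) :
    br k c hc (ArSing.xMap k 1 a + ArSing.xMap k 1 b * ArSing.y k 1) =
      a + b * (PowerSeries.C c * PowerSeries.X) := by
  rw [map_add, map_mul, br_xMap, br_xMap, br_y]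

/-- the branch `y = x` -/
noncomputable def brp (k : Type u) [Field k] : ArSing.ring k 1 →ₐ[k] PowerSeries k :=
  br k 1 (one_pow 2)

/-- the branch `y = -x` -/
noncomputable def brm (k : Type u) [Field k] : ArSing.ring k 1 →ₐ[k] PowerSeries k :=
  br k (-1) (by simp)

theorem brp_x : brp k (ArSing.x k 1) = PowerSeries.X := br_x _ _
theorem brm_x : brm k (ArSing.x k 1) = PowerSeries.X := br_x _ _
theorem brp_y : brp k (ArSing.y k 1) = PowerSeries.X := by
  unfold brp; rw [br_y]; simp
theorem brm_y : brm k (ArSing.y k 1) = -PowerSeries.X := by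
  unfold brm; rw [br_y]; simp
theorem brp_xMap (a : PowerSeries k) : brp k (ArSing.xMap k 1 a) = a := br_xMap _ _ a
theorem brm_xMap (a : PowerSeries k) : brm k (ArSing.xMap k 1 a) = a := br_xMap _ _ a

theorem brp_repr (a b : PowerSeries k) :
    brp k (ArSing.xMap k 1 a + ArSing.xMap k 1 b * ArSing.y k 1) = a + b * PowerSeries.X := by
  rw [map_add, map_mul, brp_xMap, brp_xMap, brp_y]

theorem brm_repr (a b : PowerSeries k) :
    brm k (ArSing.xMap k 1 a + ArSing.xMap k 1 b * ArSing.y k 1) = a - b * PowerSeries.X := by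
  rw [map_add, map_mul, brm_xMap, brm_xMap, brm_y]; ring

/-- the two branches jointly detect zero (char ≠ 2) -/
theorem eq_zero_of_brp_brm (h2 : (2 : k) ≠ 0) {z : ArSing.ring k 1}
    (hp : brp k z = 0) (hm : brm k z = 0) : z = 0 := by
  obtain ⟨a, b, rfl⟩ := exists_repr k 1 z
  rw [brp_repr] at hp
  rw [brm_repr] at hm
  have ha : a = 0 := two_smul_eq_zero k h2 a (by linear_combination hp + hm)
  have hb : b * PowerSeries.X = 0 := by rw [ha] at hp; simpa using hp
  have hb' : b = 0 := by
    rcases mul_eq_zero.mp hb with h | h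
    · exact h
    · exact absurd h PowerSeries.X_ne_zero
  rw [ha, hb']; simp

theorem eq_of_brp_brm (h2 : (2 : k) ≠ 0) {z w : ArSing.ring k 1}
    (hp : brp k z = brp k w) (hm : brm k z = brm k w) : z = w := by
  apply sub_eq_zero.mp
  apply eq_zero_of_brp_brm h2
  · rw [map_sub, hp, sub_self]
  · rw [map_sub, hm, sub_self]

/-- `2` is invertible in `k[[t]]` -/
theorem exists_half (h2 : (2 : k) ≠ 0) (f : PowerSeries k) : ∃ g : PowerSeries k, g + g = f := by
  refine ⟨PowerSeries.C (2⁻¹ : k) * f, ?_⟩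
  have : (PowerSeries.C (2⁻¹ : k) : PowerSeries k) * 2 = 1 := by
    have h : ((2 : PowerSeries k)) = PowerSeries.C (2 : k) := (map_ofNat (PowerSeries.C (R := k)) 2).symm
    rw [h, ← map_mul, inv_mul_cancel₀ h2, map_one]
  linear_combination f * this

/-- image of the pair of branch maps: pairs with equal constant coefficient -/
theorem exists_of_brp_brm (h2 : (2 : k) ≠ 0) (f g : PowerSeries k)
    (h : PowerSeries.constantCoeff f = PowerSeries.constantCoeff g) :
    ∃ w : ArSing.ring k 1, brp k w = f ∧ brm k w = g := by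
  obtain ⟨a, ha⟩ := exists_half h2 (f + g)
  have hX : (PowerSeries.X : PowerSeries k) ∣ f - g := by
    rw [PowerSeries.X_dvd_iff, map_sub, h, sub_self]
  obtain ⟨d, hd⟩ := hX
  obtain ⟨b, hb⟩ := exists_half h2 d
  refine ⟨ArSing.xMap k 1 a + ArSing.xMap k 1 b * ArSing.y k 1, ?_, ?_⟩
  · rw [brp_repr]
    apply sub_eq_zero.mp
    apply two_smul_eq_zero k h2
    have : (b + b) * PowerSeries.X = f - g := by rw [hb, hd]; ring
    linear_combination ha + this
  · rw [brm_repr]
    apply sub_eq_zero.mp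
    apply two_smul_eq_zero k h2
    have : (b + b) * PowerSeries.X = f - g := by rw [hb, hd]; ring
    linear_combination ha - this

theorem ker_brp : RingHom.ker (brp k) = Ideal.span {ArSing.y k 1 - ArSing.x k 1} := by
  apply le_antisymm
  · intro z hz
    rw [RingHom.mem_ker] at hz
    obtain ⟨a, b, rfl⟩ := exists_repr k 1 z
    rw [brp_repr] at hz
    rw [Ideal.mem_span_singleton']
    refine ⟨ArSing.xMap k 1 b, ?_⟩
    have ha : a = -(b * PowerSeries.X) := by linear_combination hz
    rw [ha, map_neg, map_mul, xMap_X]; ring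
  · rw [Ideal.span_singleton_le_iff_mem, RingHom.mem_ker, map_sub, brp_x, brp_y, sub_self]

theorem ker_brm : RingHom.ker (brm k) = Ideal.span {ArSing.y k 1 + ArSing.x k 1} := by
  apply le_antisymm
  · intro z hz
    rw [RingHom.mem_ker] at hz
    obtain ⟨a, b, rfl⟩ := exists_repr k 1 z
    rw [brm_repr] at hz
    rw [Ideal.mem_span_singleton']
    refine ⟨ArSing.xMap k 1 b, ?_⟩
    have ha : a = b * PowerSeries.X := by linear_combination hz
    rw [ha, map_mul, xMap_X]; ring
  · rw [Ideal.span_singleton_le_iff_mem, RingHom.mem_ker, map_add, brm_x, brm_y]; ring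

/-- the product of the two branch equations vanishes -/
theorem node_mul : (ArSing.x k 1 + ArSing.y k 1) * (ArSing.y k 1 - ArSing.x k 1) = 0 := by
  have h := y_sq k 1
  rw [map_pow, xMap_X] at h
  linear_combination h

/-- Equational criterion: a relation `φ X * u + φ Y * v = 0` whose every `A`-syzygy of `(X, Y)` has
first coefficient mapping into an ideal `J` not containing `u` obstructs flatness. -/
theorem not_flat_of_syzygy' {A B : Type*} [CommRing A] [CommRing B] (φ : A →+* B) (X Y : A) (u v : B)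
    (hrel : φ X * u + φ Y * v = 0) (J : Ideal B) (hu : u ∉ J)
    (hJ : ∀ c d : A, X * c + Y * d = 0 → φ c ∈ J) : ¬ φ.Flat := by
  intro hflat
  letI : Algebra A B := φ.toAlgebra
  have hflat' : Module.Flat A B := hflat
  have hsm : ∀ (b : A) (z : B), b • z = φ b * z := fun b z => rfl
  have hrel' : ∑ i : Fin 2, (![X, Y] i) • (![u, v] i) = 0 := by
    rw [Fin.sum_univ_two]
    show X • u + Y • v = 0
    rw [hsm, hsm, hrel]
  obtain ⟨K, a, yv, hxa, hfa⟩ := Module.Flat.iff_forall_isTrivialRelation.mp hflat' (l := 2) (f := ![X, Y]) (x := ![u, v]) hrel'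
  have h0 := hxa 0
  simp only [Matrix.cons_val_zero, hsm] at h0
  apply hu
  rw [h0]
  apply Ideal.sum_mem
  intro j _
  apply Ideal.mul_mem_right
  apply hJ (a 0 j) (a 1 j)
  have := hfa j
  rw [Fin.sum_univ_two] at this
  simpa using this

end Groth.Agent.Lib.ArSing97
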