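import Mathlib
import Groth.Agent.Lib.ArSing97c

/-!
# Endomorphisms of the node `A_1` from the pair model (helper97)

`A_1 ≅ {(f, g) ∈ k[[t]]² : f(0) = g(0)}` via the two branch maps; endomorphisms of the pair
algebra preserving this subalgebra lift to `A_1`.
-/

set_option autoImplicit false
universe u

namespace Groth.Agent.Lib.ArSing97

open PowerSeries

variable {k : Type u} [Field k]

theorem algHom_C (ψ : PowerSeries k →ₐ[k] PowerSeries k) (c : k) :
    ψ (PowerSeries.C c) = PowerSeries.C c := by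
  have hCC : (PowerSeries.C c : PowerSeries k) = algebraMap k (PowerSeries k) c := rfl
  rw [hCC, AlgHom.commutes]

/-- every `k`-algebra endomorphism of `k[[t]]` maps `t` into the maximal ideal -/
theorem constantCoeff_algHom_X (ψ : PowerSeries k →ₐ[k] PowerSeries k) :
    PowerSeries.constantCoeff (ψ PowerSeries.X) = 0 := by
  by_contra hc
  have hu : IsUnit (PowerSeries.X - PowerSeries.C (PowerSeries.constantCoeff (ψ PowerSeries.X)) :
      PowerSeries k) := by
    rw [PowerSeries.isUnit_iff_constantCoeff, map_sub, PowerSeries.constantCoeff_X,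
      PowerSeries.constantCoeff_C, zero_sub, IsUnit.neg_iff, isUnit_iff_ne_zero]
    exact hc
  have hu2 := hu.map ψ
  rw [map_sub, algHom_C, PowerSeries.isUnit_iff_constantCoeff, map_sub,
    PowerSeries.constantCoeff_C, sub_self] at hu2
  exact not_isUnit_zero hu2

theorem constantCoeff_algHom (ψ : PowerSeries k →ₐ[k] PowerSeries k) (f : PowerSeries k) :
    PowerSeries.constantCoeff (ψ f) = PowerSeries.constantCoeff f := by
  obtain ⟨g, hg⟩ : (PowerSeries.X : PowerSeries k) ∣ f - PowerSeries.C (PowerSeries.constantCoeff f) := by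
    rw [PowerSeries.X_dvd_iff, map_sub, PowerSeries.constantCoeff_C, sub_self]
  have hf : f = PowerSeries.C (PowerSeries.constantCoeff f) + PowerSeries.X * g := by
    rw [← hg]; ring
  conv_lhs => rw [hf]
  rw [map_add, map_mul, algHom_C, map_add, PowerSeries.constantCoeff_C, map_mul,
    constantCoeff_algHom_X, zero_mul, add_zero]

theorem constantCoeff_brp (z : ArSing.ring k 1) :
    PowerSeries.constantCoeff (brp k z) = aug k 1 z := by
  obtain ⟨a, b, rfl⟩ := exists_repr k 1 z
  rw [brp_repr, aug_repr]; simp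

theorem constantCoeff_brm (z : ArSing.ring k 1) :
    PowerSeries.constantCoeff (brm k z) = aug k 1 z := by
  obtain ⟨a, b, rfl⟩ := exists_repr k 1 z
  rw [brm_repr, aug_repr]; simp

/-- the pair of branch maps -/
noncomputable def bpair (k : Type u) [Field k] :
    ArSing.ring k 1 →ₐ[k] PowerSeries k × PowerSeries k :=
  AlgHom.prod (brp k) (brm k)

theorem bpair_apply (z : ArSing.ring k 1) : bpair k z = (brp k z, brm k z) := rfl

theorem bpair_injective (h2 : (2 : k) ≠ 0) : Function.Injective (bpair k) := fun _ _ h =>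
  eq_of_brp_brm h2 (congrArg Prod.fst h) (congrArg Prod.snd h)

theorem mem_range_bpair (h2 : (2 : k) ≠ 0) (p : PowerSeries k × PowerSeries k) :
    p ∈ (bpair k).range ↔ PowerSeries.constantCoeff p.1 = PowerSeries.constantCoeff p.2 := by
  rw [AlgHom.mem_range]
  constructor
  · rintro ⟨z, rfl⟩
    rw [bpair_apply, constantCoeff_brp, constantCoeff_brm]
  · intro h
    obtain ⟨w, hw1, hw2⟩ := exists_of_brp_brm h2 p.1 p.2 h
    exact ⟨w, by rw [bpair_apply, hw1, hw2]⟩

/-- lift an endomorphism of the pair algebra preserving the image of `A_1` -/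
noncomputable def liftPair (h2 : (2 : k) ≠ 0)
    (A : PowerSeries k × PowerSeries k →ₐ[k] PowerSeries k × PowerSeries k)
    (hA : ∀ z : ArSing.ring k 1, PowerSeries.constantCoeff (A (bpair k z)).1 =
      PowerSeries.constantCoeff (A (bpair k z)).2) :
    ArSing.ring k 1 →ₐ[k] ArSing.ring k 1 :=
  ((AlgEquiv.ofInjective (bpair k) (bpair_injective h2)).symm :
      (bpair k).range →ₐ[k] ArSing.ring k 1).comp
    ((A.comp (bpair k)).codRestrict (bpair k).range
      (fun z => (mem_range_bpair h2 _).mpr (hA z)))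

theorem bpair_liftPair (h2 : (2 : k) ≠ 0)
    (A : PowerSeries k × PowerSeries k →ₐ[k] PowerSeries k × PowerSeries k)
    (hA : ∀ z : ArSing.ring k 1, PowerSeries.constantCoeff (A (bpair k z)).1 =
      PowerSeries.constantCoeff (A (bpair k z)).2) (z : ArSing.ring k 1) :
    bpair k (liftPair h2 A hA z) = A (bpair k z) := by
  set w : (bpair k).range := (A.comp (bpair k)).codRestrict (bpair k).range
      (fun z => (mem_range_bpair h2 _).mpr (hA z)) z with hw
  have h1 : liftPair h2 A hA z = (AlgEquiv.ofInjective (bpair k) (bpair_injective h2)).symm w := rfl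
  have h3 := congrArg Subtype.val
    ((AlgEquiv.ofInjective (bpair k) (bpair_injective h2)).apply_symm_apply w)
  rw [AlgEquiv.ofInjective_apply] at h3
  rw [h1, h3, hw, AlgHom.coe_codRestrict]
  rfl

theorem brp_liftPair (h2 : (2 : k) ≠ 0)
    (A : PowerSeries k × PowerSeries k →ₐ[k] PowerSeries k × PowerSeries k)
    (hA : ∀ z : ArSing.ring k 1, PowerSeries.constantCoeff (A (bpair k z)).1 =
      PowerSeries.constantCoeff (A (bpair k z)).2) (z : ArSing.ring k 1) :
    brp k (liftPair h2 A hA z) = (A (bpair k z)).1 :=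
  congrArg Prod.fst (bpair_liftPair h2 A hA z)

theorem brm_liftPair (h2 : (2 : k) ≠ 0)
    (A : PowerSeries k × PowerSeries k →ₐ[k] PowerSeries k × PowerSeries k)
    (hA : ∀ z : ArSing.ring k 1, PowerSeries.constantCoeff (A (bpair k z)).1 =
      PowerSeries.constantCoeff (A (bpair k z)).2) (z : ArSing.ring k 1) :
    brm k (liftPair h2 A hA z) = (A (bpair k z)).2 :=
  congrArg Prod.snd (bpair_liftPair h2 A hA z)

/-- the endomorphism `(f, g) ↦ (a f, b g)` of `A_1` -/
noncomputable def pairHom (h2 : (2 : k) ≠ 0) (a b : PowerSeries k →ₐ[k] PowerSeries k) :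
    ArSing.ring k 1 →ₐ[k] ArSing.ring k 1 :=
  liftPair h2 (AlgHom.prodMap a b) (fun z => by
    show PowerSeries.constantCoeff (a (brp k z)) = PowerSeries.constantCoeff (b (brm k z))
    rw [constantCoeff_algHom, constantCoeff_algHom, constantCoeff_brp, constantCoeff_brm])

theorem brp_pairHom (h2 : (2 : k) ≠ 0) (a b : PowerSeries k →ₐ[k] PowerSeries k)
    (z : ArSing.ring k 1) : brp k (pairHom h2 a b z) = a (brp k z) :=
  brp_liftPair h2 _ _ z

theorem brm_pairHom (h2 : (2 : k) ≠ 0) (a b : PowerSeries k →ₐ[k] PowerSeries k)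
    (z : ArSing.ring k 1) : brm k (pairHom h2 a b z) = b (brm k z) :=
  brm_liftPair h2 _ _ z

/-- the endomorphism `(f, g) ↦ (a g, b f)` of `A_1` -/
noncomputable def swapHom (h2 : (2 : k) ≠ 0) (a b : PowerSeries k →ₐ[k] PowerSeries k) :
    ArSing.ring k 1 →ₐ[k] ArSing.ring k 1 :=
  liftPair h2 (AlgHom.prod (a.comp (AlgHom.snd k _ _)) (b.comp (AlgHom.fst k _ _))) (fun z => by
    show PowerSeries.constantCoeff (a (brm k z)) = PowerSeries.constantCoeff (b (brp k z))
    rw [constantCoeff_algHom, constantCoeff_algHom, constantCoeff_brp, constantCoeff_brm])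

theorem brp_swapHom (h2 : (2 : k) ≠ 0) (a b : PowerSeries k →ₐ[k] PowerSeries k)
    (z : ArSing.ring k 1) : brp k (swapHom h2 a b z) = a (brm k z) :=
  brp_liftPair h2 _ _ z

theorem brm_swapHom (h2 : (2 : k) ≠ 0) (a b : PowerSeries k →ₐ[k] PowerSeries k)
    (z : ArSing.ring k 1) : brm k (swapHom h2 a b z) = b (brp k z) :=
  brm_liftPair h2 _ _ z

/-- the automorphism `(f, g) ↦ (a f, b g)` of `A_1` -/
noncomputable def pairEquiv (h2 : (2 : k) ≠ 0) (a b : PowerSeries k ≃ₐ[k] PowerSeries k) :
    ArSing.ring k 1 ≃ₐ[k] ArSing.ring k 1 :=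
  AlgEquiv.ofAlgHom (pairHom h2 (a : PowerSeries k →ₐ[k] PowerSeries k) b)
    (pairHom h2 (a.symm : PowerSeries k →ₐ[k] PowerSeries k) b.symm)
    (by
      ext z
      apply eq_of_brp_brm h2
      · simp only [AlgHom.comp_apply, brp_pairHom, AlgEquiv.coe_algHom, AlgEquiv.apply_symm_apply,
          AlgHom.id_apply]
      · simp only [AlgHom.comp_apply, brm_pairHom, AlgEquiv.coe_algHom, AlgEquiv.apply_symm_apply,
          AlgHom.id_apply])
    (by
      ext z
      apply eq_of_brp_brm h2
      · simp only [AlgHom.comp_apply, brp_pairHom, AlgEquiv.coe_algHom, AlgEquiv.symm_apply_apply,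
          AlgHom.id_apply]
      · simp only [AlgHom.comp_apply, brm_pairHom, AlgEquiv.coe_algHom, AlgEquiv.symm_apply_apply,
          AlgHom.id_apply])

theorem brp_pairEquiv (h2 : (2 : k) ≠ 0) (a b : PowerSeries k ≃ₐ[k] PowerSeries k)
    (z : ArSing.ring k 1) : brp k (pairEquiv h2 a b z) = a (brp k z) :=
  brp_pairHom h2 _ _ z

theorem brm_pairEquiv (h2 : (2 : k) ≠ 0) (a b : PowerSeries k ≃ₐ[k] PowerSeries k)
    (z : ArSing.ring k 1) : brm k (pairEquiv h2 a b z) = b (brm k z) :=
  brm_pairHom h2 _ _ z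

theorem brp_pairEquiv_symm (h2 : (2 : k) ≠ 0) (a b : PowerSeries k ≃ₐ[k] PowerSeries k)
    (z : ArSing.ring k 1) : brp k ((pairEquiv h2 a b).symm z) = a.symm (brp k z) :=
  brp_pairHom h2 _ _ z

theorem brm_pairEquiv_symm (h2 : (2 : k) ≠ 0) (a b : PowerSeries k ≃ₐ[k] PowerSeries k)
    (z : ArSing.ring k 1) : brm k ((pairEquiv h2 a b).symm z) = b.symm (brm k z) :=
  brm_pairHom h2 _ _ z

end Groth.Agent.Lib.ArSing97
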