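import Mathlib
import Groth.Agent.Lib.ArSing97d

/-!
# The two branches of `A_r`, `r = 2n+1` odd (helper97)

`A_{2n+1} = k[[x,y]]/(y^2 - x^(2n+2)) ≅ {(f, g) ∈ k[[t]]² : f ≡ g mod t^(n+1)}` via the branch maps
`x ↦ t`, `y ↦ ± t^(n+1)`. Names live in the sub-namespace `Od`.
-/

set_option autoImplicit false
universe u

namespace Groth.Agent.Lib.ArSing97.Od

open PowerSeries Groth.Agent.Lib.ArSing97

variable (k : Type u) [Field k] (n : ℕ)

/-- substitution data of the branch `y = c x^(n+1)` -/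
noncomputable def brFun (c : k) : Fin 2 → PowerSeries k :=
  ![PowerSeries.X, PowerSeries.C c * PowerSeries.X ^ (n + 1)]

theorem brFun_hasSubst (c : k) : MvPowerSeries.HasSubst (brFun k n c) := by
  apply MvPowerSeries.hasSubst_of_constantCoeff_zero
  intro s
  fin_cases s
  · show PowerSeries.constantCoeff (PowerSeries.X : PowerSeries k) = 0
    simp
  · show PowerSeries.constantCoeff (PowerSeries.C c * PowerSeries.X ^ (n + 1) : PowerSeries k) = 0
    simp

theorem brFun_eqn (c : k) (hc : c ^ 2 = 1) :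
    MvPowerSeries.substAlgHom (brFun_hasSubst k n c) (ArSing.eqn k (2 * n + 1)) = 0 := by
  unfold ArSing.eqn
  rw [map_sub, map_pow, map_pow, MvPowerSeries.substAlgHom_X, MvPowerSeries.substAlgHom_X]
  show (PowerSeries.C c * PowerSeries.X ^ (n + 1)) ^ 2 -
    (PowerSeries.X : PowerSeries k) ^ (2 * n + 1 + 1) = 0
  rw [mul_pow, ← map_pow, hc, map_one, one_mul, ← pow_mul]
  have : (n + 1) * 2 = 2 * n + 1 + 1 := by ring
  rw [this, sub_self]

/-- The branch map `A_{2n+1} → k[[t]]`, `x ↦ t`, `y ↦ c t^(n+1)` (`c^2 = 1`). -/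
noncomputable def br (c : k) (hc : c ^ 2 = 1) : ArSing.ring k (2 * n + 1) →ₐ[k] PowerSeries k :=
  Ideal.Quotient.liftₐ (Ideal.span {ArSing.eqn k (2 * n + 1)})
    (MvPowerSeries.substAlgHom (brFun_hasSubst k n c)) (by
      intro f hf
      obtain ⟨q, rfl⟩ := Ideal.mem_span_singleton'.mp hf
      rw [map_mul, brFun_eqn k n c hc, mul_zero])

variable {k n}

theorem br_mk (c : k) (hc : c ^ 2 = 1) (f : MvPowerSeries (Fin 2) k) :
    br k n c hc (Ideal.Quotient.mk _ f) = MvPowerSeries.substAlgHom (brFun_hasSubst k n c) f := rfl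

theorem br_x (c : k) (hc : c ^ 2 = 1) :
    br k n c hc (ArSing.x k (2 * n + 1)) = PowerSeries.X := by
  show br k n c hc (Ideal.Quotient.mk _ _) = _
  rw [br_mk, MvPowerSeries.substAlgHom_X]
  rfl

theorem br_y (c : k) (hc : c ^ 2 = 1) :
    br k n c hc (ArSing.y k (2 * n + 1)) = PowerSeries.C c * PowerSeries.X ^ (n + 1) := by
  show br k n c hc (Ideal.Quotient.mk _ _) = _
  rw [br_mk, MvPowerSeries.substAlgHom_X]
  rfl

theorem br_xMap (c : k) (hc : c ^ 2 = 1) (a : PowerSeries k) :
    br k n c hc (ArSing.xMap k (2 * n + 1) a) = a := by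
  have : (br k n c hc).comp (ArSing.xMap k (2 * n + 1)) = AlgHom.id k (PowerSeries k) := by
    apply algHom_ext_powerSeries k (PowerSeries.X : PowerSeries k)
      (hausdorff_ps k _ dvd_rfl)
    · simp [xMap_X, br_x]
    · simp
  exact DFunLike.congr_fun this a

variable (k n)

/-- the branch `y = x^(n+1)` -/
noncomputable def brp : ArSing.ring k (2 * n + 1) →ₐ[k] PowerSeries k :=
  br k n 1 (one_pow 2)

/-- the branch `y = -x^(n+1)` -/
noncomputable def brm : ArSing.ring k (2 * n + 1) →ₐ[k] PowerSeries k :=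
  br k n (-1) (by simp)

variable {k n}

theorem brp_x : brp k n (ArSing.x k (2 * n + 1)) = PowerSeries.X := br_x _ _
theorem brm_x : brm k n (ArSing.x k (2 * n + 1)) = PowerSeries.X := br_x _ _
theorem brp_y : brp k n (ArSing.y k (2 * n + 1)) = PowerSeries.X ^ (n + 1) := by
  unfold brp; rw [br_y]; simp
theorem brm_y : brm k n (ArSing.y k (2 * n + 1)) = -PowerSeries.X ^ (n + 1) := by
  unfold brm; rw [br_y]; simp
theorem brp_xMap (a : PowerSeries k) : brp k n (ArSing.xMap k (2 * n + 1) a) = a := br_xMap _ _ a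
theorem brm_xMap (a : PowerSeries k) : brm k n (ArSing.xMap k (2 * n + 1) a) = a := br_xMap _ _ a

theorem brp_repr (a b : PowerSeries k) :
    brp k n (ArSing.xMap k (2 * n + 1) a + ArSing.xMap k (2 * n + 1) b * ArSing.y k (2 * n + 1)) =
      a + b * PowerSeries.X ^ (n + 1) := by
  rw [map_add, map_mul, brp_xMap, brp_xMap, brp_y]

theorem brm_repr (a b : PowerSeries k) :
    brm k n (ArSing.xMap k (2 * n + 1) a + ArSing.xMap k (2 * n + 1) b * ArSing.y k (2 * n + 1)) =
      a - b * PowerSeries.X ^ (n + 1) := by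
  rw [map_add, map_mul, brm_xMap, brm_xMap, brm_y]; ring

theorem eq_zero_of_brp_brm (h2 : (2 : k) ≠ 0) {z : ArSing.ring k (2 * n + 1)}
    (hp : brp k n z = 0) (hm : brm k n z = 0) : z = 0 := by
  obtain ⟨a, b, rfl⟩ := exists_repr k (2 * n + 1) z
  rw [brp_repr] at hp
  rw [brm_repr] at hm
  have ha : a = 0 := two_smul_eq_zero k h2 a (by linear_combination hp + hm)
  have hb : b * PowerSeries.X ^ (n + 1) = 0 := by rw [ha] at hp; simpa using hp
  have hb' : b = 0 := by
    rcases mul_eq_zero.mp hb with h | h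
    · exact h
    · exact absurd h (pow_ne_zero _ PowerSeries.X_ne_zero)
  rw [ha, hb']; simp

theorem eq_of_brp_brm (h2 : (2 : k) ≠ 0) {z w : ArSing.ring k (2 * n + 1)}
    (hp : brp k n z = brp k n w) (hm : brm k n z = brm k n w) : z = w := by
  apply sub_eq_zero.mp
  apply eq_zero_of_brp_brm h2
  · rw [map_sub, hp, sub_self]
  · rw [map_sub, hm, sub_self]

theorem dvd_brp_sub_brm (z : ArSing.ring k (2 * n + 1)) :
    (PowerSeries.X : PowerSeries k) ^ (n + 1) ∣ brp k n z - brm k n z := by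
  obtain ⟨a, b, rfl⟩ := exists_repr k (2 * n + 1) z
  rw [brp_repr, brm_repr]
  exact ⟨b + b, by ring⟩

/-- image of the pair of branch maps: pairs congruent mod `t^(n+1)` -/
theorem exists_of_brp_brm (h2 : (2 : k) ≠ 0) (f g : PowerSeries k)
    (h : (PowerSeries.X : PowerSeries k) ^ (n + 1) ∣ f - g) :
    ∃ w : ArSing.ring k (2 * n + 1), brp k n w = f ∧ brm k n w = g := by
  obtain ⟨a, ha⟩ := exists_half h2 (f + g)
  obtain ⟨d, hd⟩ := h
  obtain ⟨b, hb⟩ := exists_half h2 d
  refine ⟨ArSing.xMap k (2 * n + 1) a + ArSing.xMap k (2 * n + 1) b * ArSing.y k (2 * n + 1), ?_, ?_⟩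
  · rw [brp_repr]
    apply sub_eq_zero.mp
    apply two_smul_eq_zero k h2
    have : (b + b) * PowerSeries.X ^ (n + 1) = f - g := by rw [hb, hd]; ring
    linear_combination ha + this
  · rw [brm_repr]
    apply sub_eq_zero.mp
    apply two_smul_eq_zero k h2
    have : (b + b) * PowerSeries.X ^ (n + 1) = f - g := by rw [hb, hd]; ring
    linear_combination ha - this

theorem ker_brp : RingHom.ker (brp k n) =
    Ideal.span {ArSing.y k (2 * n + 1) - ArSing.x k (2 * n + 1) ^ (n + 1)} := by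
  apply le_antisymm
  · intro z hz
    rw [RingHom.mem_ker] at hz
    obtain ⟨a, b, rfl⟩ := exists_repr k (2 * n + 1) z
    rw [brp_repr] at hz
    rw [Ideal.mem_span_singleton']
    refine ⟨ArSing.xMap k (2 * n + 1) b, ?_⟩
    have ha : a = -(b * PowerSeries.X ^ (n + 1)) := by linear_combination hz
    rw [ha, map_neg, map_mul, map_pow, xMap_X]; ring
  · rw [Ideal.span_singleton_le_iff_mem, RingHom.mem_ker, map_sub, map_pow, brp_x, brp_y, sub_self]

theorem ker_brm : RingHom.ker (brm k n) =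
    Ideal.span {ArSing.y k (2 * n + 1) + ArSing.x k (2 * n + 1) ^ (n + 1)} := by
  apply le_antisymm
  · intro z hz
    rw [RingHom.mem_ker] at hz
    obtain ⟨a, b, rfl⟩ := exists_repr k (2 * n + 1) z
    rw [brm_repr] at hz
    rw [Ideal.mem_span_singleton']
    refine ⟨ArSing.xMap k (2 * n + 1) b, ?_⟩
    have ha : a = b * PowerSeries.X ^ (n + 1) := by linear_combination hz
    rw [ha, map_mul, map_pow, xMap_X]; ring
  · rw [Ideal.span_singleton_le_iff_mem, RingHom.mem_ker, map_add, map_pow, brm_x, brm_y]; ring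

/-- the product of the two branch equations vanishes -/
theorem node_mul : (ArSing.y k (2 * n + 1) + ArSing.x k (2 * n + 1) ^ (n + 1)) *
    (ArSing.y k (2 * n + 1) - ArSing.x k (2 * n + 1) ^ (n + 1)) = 0 := by
  have h := y_sq k (2 * n + 1)
  rw [map_pow, xMap_X] at h
  have e : ArSing.x k (2 * n + 1) ^ (2 * n + 1 + 1) =
      ArSing.x k (2 * n + 1) ^ (n + 1) * ArSing.x k (2 * n + 1) ^ (n + 1) := by
    rw [← pow_add]; congr 1; ring
  rw [e] at h
  linear_combination h

theorem constantCoeff_brp (z : ArSing.ring k (2 * n + 1)) :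
    PowerSeries.constantCoeff (brp k n z) = aug k (2 * n + 1) z := by
  obtain ⟨a, b, rfl⟩ := exists_repr k (2 * n + 1) z
  rw [brp_repr, aug_repr]; simp

/-- algebra endomorphisms of `k[[t]]` preserve the ideals `(t^N)` -/
theorem algHom_dvd (ψ : PowerSeries k →ₐ[k] PowerSeries k) {N : ℕ} {f : PowerSeries k}
    (h : (PowerSeries.X : PowerSeries k) ^ N ∣ f) : (PowerSeries.X : PowerSeries k) ^ N ∣ ψ f := by
  obtain ⟨g, rfl⟩ := h
  have hX : (PowerSeries.X : PowerSeries k) ∣ ψ PowerSeries.X :=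
    PowerSeries.X_dvd_iff.mpr (constantCoeff_algHom_X ψ)
  rw [map_mul, map_pow]
  exact Dvd.dvd.mul_right (pow_dvd_pow_of_dvd hX N) _

/-- two endomorphisms of `k[[t]]` congruent mod `t^N` at `t` are congruent mod `t^N` everywhere -/
theorem algHom_congr (a b : PowerSeries k →ₐ[k] PowerSeries k) (N : ℕ)
    (hX : (PowerSeries.X : PowerSeries k) ^ N ∣ a PowerSeries.X - b PowerSeries.X)
    (h : PowerSeries k) : (PowerSeries.X : PowerSeries k) ^ N ∣ a h - b h := by
  have key : ∀ j : ℕ, j ≤ N → ∀ h : PowerSeries k,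
      (PowerSeries.X : PowerSeries k) ^ j ∣ a h - b h := by
    intro j
    induction j with
    | zero => intro _ h; simp
    | succ j ih =>
      intro hj h
      obtain ⟨g, hg⟩ : (PowerSeries.X : PowerSeries k) ∣ h - PowerSeries.C (PowerSeries.constantCoeff h) := by
        rw [PowerSeries.X_dvd_iff, map_sub, PowerSeries.constantCoeff_C, sub_self]
      have hf : h = PowerSeries.C (PowerSeries.constantCoeff h) + PowerSeries.X * g := by
        rw [← hg]; ring
      have e : a h - b h = (a PowerSeries.X - b PowerSeries.X) * a g +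
          b PowerSeries.X * (a g - b g) := by
        conv_lhs => rw [hf]
        rw [map_add, map_add, map_mul, map_mul, algHom_C, algHom_C]; ring
      rw [e]
      apply dvd_add
      · exact Dvd.dvd.mul_right ((pow_dvd_pow _ hj).trans hX) _
      · rw [pow_succ']
        exact mul_dvd_mul (PowerSeries.X_dvd_iff.mpr (constantCoeff_algHom_X b)) (ih (by omega) g)
  exact key N le_rfl h

variable (k n)

/-- the pair of branch maps -/
noncomputable def bpair : ArSing.ring k (2 * n + 1) →ₐ[k] PowerSeries k × PowerSeries k :=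
  AlgHom.prod (brp k n) (brm k n)

variable {k n}

theorem bpair_apply (z : ArSing.ring k (2 * n + 1)) : bpair k n z = (brp k n z, brm k n z) := rfl

theorem bpair_injective (h2 : (2 : k) ≠ 0) : Function.Injective (bpair k n) := fun _ _ h =>
  eq_of_brp_brm h2 (congrArg Prod.fst h) (congrArg Prod.snd h)

theorem mem_range_bpair (h2 : (2 : k) ≠ 0) (p : PowerSeries k × PowerSeries k) :
    p ∈ (bpair k n).range ↔ (PowerSeries.X : PowerSeries k) ^ (n + 1) ∣ p.1 - p.2 := by
  rw [AlgHom.mem_range]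
  constructor
  · rintro ⟨z, rfl⟩
    rw [bpair_apply]
    exact dvd_brp_sub_brm z
  · intro h
    obtain ⟨w, hw1, hw2⟩ := exists_of_brp_brm h2 p.1 p.2 h
    exact ⟨w, by rw [bpair_apply, hw1, hw2]⟩

/-- lift an endomorphism of the pair algebra preserving the image of `A_{2n+1}` -/
noncomputable def liftPair (h2 : (2 : k) ≠ 0)
    (A : PowerSeries k × PowerSeries k →ₐ[k] PowerSeries k × PowerSeries k)
    (hA : ∀ z : ArSing.ring k (2 * n + 1),
      (PowerSeries.X : PowerSeries k) ^ (n + 1) ∣ (A (bpair k n z)).1 - (A (bpair k n z)).2) :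
    ArSing.ring k (2 * n + 1) →ₐ[k] ArSing.ring k (2 * n + 1) :=
  ((AlgEquiv.ofInjective (bpair k n) (bpair_injective h2)).symm :
      (bpair k n).range →ₐ[k] ArSing.ring k (2 * n + 1)).comp
    ((A.comp (bpair k n)).codRestrict (bpair k n).range
      (fun z => (mem_range_bpair h2 _).mpr (hA z)))

theorem bpair_liftPair (h2 : (2 : k) ≠ 0)
    (A : PowerSeries k × PowerSeries k →ₐ[k] PowerSeries k × PowerSeries k)
    (hA : ∀ z : ArSing.ring k (2 * n + 1),
      (PowerSeries.X : PowerSeries k) ^ (n + 1) ∣ (A (bpair k n z)).1 - (A (bpair k n z)).2)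
    (z : ArSing.ring k (2 * n + 1)) :
    bpair k n (liftPair h2 A hA z) = A (bpair k n z) := by
  set w : (bpair k n).range := (A.comp (bpair k n)).codRestrict (bpair k n).range
      (fun z => (mem_range_bpair h2 _).mpr (hA z)) z with hw
  have h1 : liftPair h2 A hA z =
      (AlgEquiv.ofInjective (bpair k n) (bpair_injective h2)).symm w := rfl
  have h3 := congrArg Subtype.val
    ((AlgEquiv.ofInjective (bpair k n) (bpair_injective h2)).apply_symm_apply w)
  rw [AlgEquiv.ofInjective_apply] at h3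
  rw [h1, h3, hw, AlgHom.coe_codRestrict]
  rfl

/-- the endomorphism `(f, g) ↦ (a f, b g)` of `A_{2n+1}` -/
noncomputable def pairHom (h2 : (2 : k) ≠ 0) (a b : PowerSeries k →ₐ[k] PowerSeries k)
    (hab : (PowerSeries.X : PowerSeries k) ^ (n + 1) ∣ a PowerSeries.X - b PowerSeries.X) :
    ArSing.ring k (2 * n + 1) →ₐ[k] ArSing.ring k (2 * n + 1) :=
  liftPair h2 (AlgHom.prodMap a b) (fun z => by
    show (PowerSeries.X : PowerSeries k) ^ (n + 1) ∣ a (brp k n z) - b (brm k n z)
    have e : a (brp k n z) - b (brm k n z) =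
        (a (brp k n z) - b (brp k n z)) + b (brp k n z - brm k n z) := by
      rw [map_sub]; ring
    rw [e]
    exact dvd_add (algHom_congr a b _ hab _) (algHom_dvd b (dvd_brp_sub_brm z)))

theorem brp_pairHom (h2 : (2 : k) ≠ 0) (a b : PowerSeries k →ₐ[k] PowerSeries k)
    (hab : (PowerSeries.X : PowerSeries k) ^ (n + 1) ∣ a PowerSeries.X - b PowerSeries.X)
    (z : ArSing.ring k (2 * n + 1)) : brp k n (pairHom h2 a b hab z) = a (brp k n z) :=
  congrArg Prod.fst (bpair_liftPair h2 _ _ z)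

theorem brm_pairHom (h2 : (2 : k) ≠ 0) (a b : PowerSeries k →ₐ[k] PowerSeries k)
    (hab : (PowerSeries.X : PowerSeries k) ^ (n + 1) ∣ a PowerSeries.X - b PowerSeries.X)
    (z : ArSing.ring k (2 * n + 1)) : brm k n (pairHom h2 a b hab z) = b (brm k n z) :=
  congrArg Prod.snd (bpair_liftPair h2 _ _ z)

theorem symm_congr (a b : PowerSeries k ≃ₐ[k] PowerSeries k) (N : ℕ)
    (hab : (PowerSeries.X : PowerSeries k) ^ N ∣ a PowerSeries.X - b PowerSeries.X) :
    (PowerSeries.X : PowerSeries k) ^ N ∣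
      (a.symm : PowerSeries k →ₐ[k] PowerSeries k) PowerSeries.X -
        (b.symm : PowerSeries k →ₐ[k] PowerSeries k) PowerSeries.X := by
  have h1 := algHom_congr (a : PowerSeries k →ₐ[k] PowerSeries k) b _ hab (a.symm PowerSeries.X)
  have h3 := algHom_dvd (b.symm : PowerSeries k →ₐ[k] PowerSeries k) h1
  simp only [AlgEquiv.coe_algHom, map_sub, AlgEquiv.apply_symm_apply,
    AlgEquiv.symm_apply_apply] at h3
  rw [← dvd_neg, neg_sub] at h3
  simpa using h3

/-- the automorphism `(f, g) ↦ (a f, b g)` of `A_{2n+1}` -/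
noncomputable def pairEquiv (h2 : (2 : k) ≠ 0) (a b : PowerSeries k ≃ₐ[k] PowerSeries k)
    (hab : (PowerSeries.X : PowerSeries k) ^ (n + 1) ∣ a PowerSeries.X - b PowerSeries.X) :
    ArSing.ring k (2 * n + 1) ≃ₐ[k] ArSing.ring k (2 * n + 1) :=
  AlgEquiv.ofAlgHom (pairHom h2 (a : PowerSeries k →ₐ[k] PowerSeries k) b hab)
    (pairHom h2 (a.symm : PowerSeries k →ₐ[k] PowerSeries k) b.symm (symm_congr a b _ hab))
    (by
      ext z
      apply eq_of_brp_brm h2
      · simp only [AlgHom.comp_apply, brp_pairHom, AlgEquiv.coe_algHom, AlgEquiv.apply_symm_apply,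
          AlgHom.id_apply]
      · simp only [AlgHom.comp_apply, brm_pairHom, AlgEquiv.coe_algHom, AlgEquiv.apply_symm_apply,
          AlgHom.id_apply])
    (by
      ext z
      apply eq_of_brp_brm h2
      · simp only [AlgHom.comp_apply, brp_pairHom, AlgEquiv.coe_algHom, AlgEquiv.symm_apply_apply,
          AlgHom.id_apply]
      · simp only [AlgHom.comp_apply, brm_pairHom, AlgEquiv.coe_algHom, AlgEquiv.symm_apply_apply,
          AlgHom.id_apply])

theorem brp_pairEquiv (h2 : (2 : k) ≠ 0) (a b : PowerSeries k ≃ₐ[k] PowerSeries k)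
    (hab : (PowerSeries.X : PowerSeries k) ^ (n + 1) ∣ a PowerSeries.X - b PowerSeries.X)
    (z : ArSing.ring k (2 * n + 1)) : brp k n (pairEquiv h2 a b hab z) = a (brp k n z) :=
  brp_pairHom h2 _ _ hab z

theorem brm_pairEquiv (h2 : (2 : k) ≠ 0) (a b : PowerSeries k ≃ₐ[k] PowerSeries k)
    (hab : (PowerSeries.X : PowerSeries k) ^ (n + 1) ∣ a PowerSeries.X - b PowerSeries.X)
    (z : ArSing.ring k (2 * n + 1)) : brm k n (pairEquiv h2 a b hab z) = b (brm k n z) :=
  brm_pairHom h2 _ _ hab z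

theorem brp_pairEquiv_symm (h2 : (2 : k) ≠ 0) (a b : PowerSeries k ≃ₐ[k] PowerSeries k)
    (hab : (PowerSeries.X : PowerSeries k) ^ (n + 1) ∣ a PowerSeries.X - b PowerSeries.X)
    (z : ArSing.ring k (2 * n + 1)) :
    brp k n ((pairEquiv h2 a b hab).symm z) = a.symm (brp k n z) :=
  brp_pairHom h2 _ _ (symm_congr a b _ hab) z

theorem brm_pairEquiv_symm (h2 : (2 : k) ≠ 0) (a b : PowerSeries k ≃ₐ[k] PowerSeries k)
    (hab : (PowerSeries.X : PowerSeries k) ^ (n + 1) ∣ a PowerSeries.X - b PowerSeries.X)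
    (z : ArSing.ring k (2 * n + 1)) :
    brm k n ((pairEquiv h2 a b hab).symm z) = b.symm (brm k n z) :=
  brm_pairHom h2 _ _ (symm_congr a b _ hab) z

end Groth.Agent.Lib.ArSing97.Od
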