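import Mathlib
import Groth.Agent.Lib.ArSing97e

/-!
# The normalization of `A_r`, `r = 2n` even (helper97)

`ν : A_{2n} = k[[x,y]]/(y^2 - x^(2n+1)) → k[[t]]`, `x ↦ t^2`, `y ↦ t^(2n+1)`, is injective with image
`{f : t^(2n+1) ∣ f(t) - f(-t)}`. Endomorphisms `ψ` of `k[[t]]` with `ψ(t) ≡ odd mod t^(2n)` preserve
the image and lift to `A_{2n}`. Names live in the sub-namespace `Ev`.
-/

set_option autoImplicit false
universe u

namespace Groth.Agent.Lib.ArSing97.Ev

open PowerSeries Groth.Agent.Lib.ArSing97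

variable (k : Type u) [Field k] (n : ℕ)

/-- substitution data of the normalization -/
noncomputable def nuFun : Fin 2 → PowerSeries k :=
  ![PowerSeries.X ^ 2, PowerSeries.X ^ (2 * n + 1)]

theorem nuFun_hasSubst : MvPowerSeries.HasSubst (nuFun k n) := by
  apply MvPowerSeries.hasSubst_of_constantCoeff_zero
  intro s
  fin_cases s
  · show PowerSeries.constantCoeff ((PowerSeries.X : PowerSeries k) ^ 2) = 0
    simp
  · show PowerSeries.constantCoeff ((PowerSeries.X : PowerSeries k) ^ (2 * n + 1)) = 0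
    simp

theorem nuFun_eqn :
    MvPowerSeries.substAlgHom (nuFun_hasSubst k n) (ArSing.eqn k (2 * n)) = 0 := by
  unfold ArSing.eqn
  rw [map_sub, map_pow, map_pow, MvPowerSeries.substAlgHom_X, MvPowerSeries.substAlgHom_X]
  show ((PowerSeries.X : PowerSeries k) ^ (2 * n + 1)) ^ 2 -
    ((PowerSeries.X : PowerSeries k) ^ 2) ^ (2 * n + 1) = 0
  rw [← pow_mul, ← pow_mul, mul_comm, sub_self]

/-- The normalization map `A_{2n} → k[[t]]`, `x ↦ t^2`, `y ↦ t^(2n+1)`. -/
noncomputable def nu : ArSing.ring k (2 * n) →ₐ[k] PowerSeries k :=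
  Ideal.Quotient.liftₐ (Ideal.span {ArSing.eqn k (2 * n)})
    (MvPowerSeries.substAlgHom (nuFun_hasSubst k n)) (by
      intro f hf
      obtain ⟨q, rfl⟩ := Ideal.mem_span_singleton'.mp hf
      rw [map_mul, nuFun_eqn k n, mul_zero])

variable {k n}

theorem nu_mk (f : MvPowerSeries (Fin 2) k) :
    nu k n (Ideal.Quotient.mk _ f) = MvPowerSeries.substAlgHom (nuFun_hasSubst k n) f := rfl

theorem nu_x : nu k n (ArSing.x k (2 * n)) = PowerSeries.X ^ 2 := by
  show nu k n (Ideal.Quotient.mk _ _) = _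
  rw [nu_mk, MvPowerSeries.substAlgHom_X]
  rfl

theorem nu_y : nu k n (ArSing.y k (2 * n)) = PowerSeries.X ^ (2 * n + 1) := by
  show nu k n (Ideal.Quotient.mk _ _) = _
  rw [nu_mk, MvPowerSeries.substAlgHom_X]
  rfl

theorem nu_xMap (a : PowerSeries k) : nu k n (ArSing.xMap k (2 * n) a) = Esq k a := by
  have : (nu k n).comp (ArSing.xMap k (2 * n)) = Esq k := by
    apply algHom_ext_powerSeries k ((PowerSeries.X : PowerSeries k) ^ 2)
      (hausdorff_ps k _ (dvd_pow_self _ two_ne_zero))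
    · simp [xMap_X, nu_x]
    · exact Esq_X k
  exact DFunLike.congr_fun this a

theorem nu_repr (a b : PowerSeries k) :
    nu k n (ArSing.xMap k (2 * n) a + ArSing.xMap k (2 * n) b * ArSing.y k (2 * n)) =
      Esq k a + Esq k b * PowerSeries.X ^ (2 * n + 1) := by
  rw [map_add, map_mul, nu_xMap, nu_xMap, nu_y]

theorem Nneg_X_pow_odd : Nneg k ((PowerSeries.X : PowerSeries k) ^ (2 * n + 1)) =
    -(PowerSeries.X : PowerSeries k) ^ (2 * n + 1) := by
  rw [map_pow, Nneg_X, Odd.neg_pow ⟨n, rfl⟩]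

theorem Nneg_Nneg (a : PowerSeries k) : Nneg k (Nneg k a) = a := by
  ext j
  rw [coeff_Nneg, coeff_Nneg, ← mul_assoc, ← mul_pow]
  simp

theorem Nneg_C (c : k) : Nneg k (PowerSeries.C c) = PowerSeries.C c := algHom_C _ c

/-- elements of the image are even modulo `t^(2n+1)` -/
theorem nu_sub_Nneg (z : ArSing.ring k (2 * n)) :
    (PowerSeries.X : PowerSeries k) ^ (2 * n + 1) ∣ nu k n z - Nneg k (nu k n z) := by
  obtain ⟨a, b, rfl⟩ := exists_repr k (2 * n) z
  rw [nu_repr, map_add, map_mul, Nneg_Esq, Nneg_Esq, Nneg_X_pow_odd]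
  exact ⟨Esq k b + Esq k b, by ring⟩

theorem nu_injective : Function.Injective (nu k n) := by
  rw [injective_iff_map_eq_zero]
  intro z hz
  obtain ⟨a, b, rfl⟩ := exists_repr k (2 * n) z
  rw [nu_repr] at hz
  have h1 : Esq k a + PowerSeries.X * Esq k (PowerSeries.X ^ n * b) = 0 := by
    rw [map_mul, map_pow, Esq_X, ← hz]; ring
  obtain ⟨ha, hb⟩ := Esq_add_eq_zero k h1
  have hb' : b = 0 := by
    rcases mul_eq_zero.mp hb with h | h
    · exact absurd h (pow_ne_zero _ PowerSeries.X_ne_zero)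
    · exact h
  rw [ha, hb']; simp

theorem coeff_oddPart (f : PowerSeries k) (j : ℕ) :
    PowerSeries.coeff j (oddPart k f) = PowerSeries.coeff (2 * j + 1) f := by
  unfold oddPart
  rw [PowerSeries.coeff_mk]

/-- the image of `ν` -/
theorem exists_of_nu (h2 : (2 : k) ≠ 0) (f : PowerSeries k)
    (hf : (PowerSeries.X : PowerSeries k) ^ (2 * n + 1) ∣ f - Nneg k f) :
    ∃ z : ArSing.ring k (2 * n), nu k n z = f := by
  have hod : (PowerSeries.X : PowerSeries k) ^ n ∣ oddPart k f := by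
    rw [PowerSeries.X_pow_dvd_iff]
    intro j hj
    rw [coeff_oddPart]
    have h1 := PowerSeries.X_pow_dvd_iff.mp hf (2 * j + 1) (by omega)
    rw [map_sub, coeff_Nneg, Odd.neg_pow ⟨j, rfl⟩, one_pow] at h1
    have h3 : PowerSeries.coeff (2 * j + 1) f * 2 = 0 := by linear_combination h1
    rcases mul_eq_zero.mp h3 with h | h
    · exact h
    · exact absurd h h2
  obtain ⟨b, hb⟩ := hod
  refine ⟨ArSing.xMap k (2 * n) (evenPart k f) + ArSing.xMap k (2 * n) b * ArSing.y k (2 * n), ?_⟩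
  rw [nu_repr]
  conv_rhs => rw [even_odd_decomp k f, hb]
  rw [map_mul, map_pow, Esq_X]; ring

theorem mem_range_nu (h2 : (2 : k) ≠ 0) (f : PowerSeries k) :
    f ∈ (nu k n).range ↔ (PowerSeries.X : PowerSeries k) ^ (2 * n + 1) ∣ f - Nneg k f := by
  rw [AlgHom.mem_range]
  constructor
  · rintro ⟨z, rfl⟩
    exact nu_sub_Nneg z
  · exact exists_of_nu h2 f

/-- endomorphisms `ψ` of `k[[t]]` with `ψ(t)` odd modulo `t^(2n)` preserve the image of `ν` -/
theorem preserves (h2 : (2 : k) ≠ 0) (ψ : PowerSeries k →ₐ[k] PowerSeries k)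
    (hψ : (PowerSeries.X : PowerSeries k) ^ (2 * n) ∣ ψ PowerSeries.X + Nneg k (ψ PowerSeries.X))
    (f : PowerSeries k) (hf : (PowerSeries.X : PowerSeries k) ^ (2 * n + 1) ∣ f - Nneg k f) :
    (PowerSeries.X : PowerSeries k) ^ (2 * n + 1) ∣ ψ f - Nneg k (ψ f) := by
  obtain ⟨z, rfl⟩ := exists_of_nu h2 f hf
  obtain ⟨a, b, rfl⟩ := exists_repr k (2 * n) z
  rw [nu_repr]
  have hX : (PowerSeries.X : PowerSeries k) ^ (2 * n + 1) ∣
      (ψ.comp (Esq k)) PowerSeries.X - ((Nneg k).comp (ψ.comp (Esq k))) PowerSeries.X := by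
    simp only [AlgHom.comp_apply, Esq_X, map_pow]
    have e : ψ PowerSeries.X ^ 2 - Nneg k (ψ PowerSeries.X) ^ 2 =
        (ψ PowerSeries.X - Nneg k (ψ PowerSeries.X)) *
          (ψ PowerSeries.X + Nneg k (ψ PowerSeries.X)) := by ring
    rw [e, pow_succ']
    apply mul_dvd_mul _ hψ
    have := X_dvd_Nneg_sub k (ψ PowerSeries.X)
    rw [← dvd_neg, neg_sub] at this
    exact this
  have h1 := Od.algHom_congr (ψ.comp (Esq k)) ((Nneg k).comp (ψ.comp (Esq k))) _ hX a
  simp only [AlgHom.comp_apply] at h1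
  have h3 : (PowerSeries.X : PowerSeries k) ^ (2 * n + 1) ∣
      ψ (Esq k b * PowerSeries.X ^ (2 * n + 1)) := Od.algHom_dvd ψ (Dvd.intro_left _ rfl)
  have h4 := Od.algHom_dvd (Nneg k) h3
  have e : ψ (Esq k a + Esq k b * PowerSeries.X ^ (2 * n + 1)) -
      Nneg k (ψ (Esq k a + Esq k b * PowerSeries.X ^ (2 * n + 1))) =
      (ψ (Esq k a) - Nneg k (ψ (Esq k a))) + (ψ (Esq k b * PowerSeries.X ^ (2 * n + 1)) -
        Nneg k (ψ (Esq k b * PowerSeries.X ^ (2 * n + 1)))) := by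
    simp only [map_add]; ring
  rw [e]
  exact dvd_add h1 (dvd_sub h3 h4)

/-- lift an endomorphism of `k[[t]]` preserving the image of `ν` -/
noncomputable def liftNu (h2 : (2 : k) ≠ 0) (ψ : PowerSeries k →ₐ[k] PowerSeries k)
    (hψ : (PowerSeries.X : PowerSeries k) ^ (2 * n) ∣ ψ PowerSeries.X + Nneg k (ψ PowerSeries.X)) :
    ArSing.ring k (2 * n) →ₐ[k] ArSing.ring k (2 * n) :=
  ((AlgEquiv.ofInjective (nu k n) nu_injective).symm :
      (nu k n).range →ₐ[k] ArSing.ring k (2 * n)).comp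
    ((ψ.comp (nu k n)).codRestrict (nu k n).range
      (fun z => (mem_range_nu h2 _).mpr (preserves h2 ψ hψ _ (nu_sub_Nneg z))))

theorem nu_liftNu (h2 : (2 : k) ≠ 0) (ψ : PowerSeries k →ₐ[k] PowerSeries k)
    (hψ : (PowerSeries.X : PowerSeries k) ^ (2 * n) ∣ ψ PowerSeries.X + Nneg k (ψ PowerSeries.X))
    (z : ArSing.ring k (2 * n)) :
    nu k n (liftNu h2 ψ hψ z) = ψ (nu k n z) := by
  set w : (nu k n).range := (ψ.comp (nu k n)).codRestrict (nu k n).range
      (fun z => (mem_range_nu h2 _).mpr (preserves h2 ψ hψ _ (nu_sub_Nneg z))) z with hw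
  have h1 : liftNu h2 ψ hψ z = (AlgEquiv.ofInjective (nu k n) nu_injective).symm w := rfl
  have h3 := congrArg Subtype.val
    ((AlgEquiv.ofInjective (nu k n) nu_injective).apply_symm_apply w)
  rw [AlgEquiv.ofInjective_apply] at h3
  rw [h1, h3, hw, AlgHom.coe_codRestrict]
  rfl

/-- `t ↦ -t` as an automorphism -/
noncomputable def NnegE (k : Type u) [Field k] : PowerSeries k ≃ₐ[k] PowerSeries k :=
  AlgEquiv.ofAlgHom (Nneg k) (Nneg k) (AlgHom.ext fun f => Nneg_Nneg f)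
    (AlgHom.ext fun f => Nneg_Nneg f)

/-- the oddness criterion passes to the inverse -/
theorem symm_crit (φ : PowerSeries k ≃ₐ[k] PowerSeries k) (N : ℕ)
    (hφ : (PowerSeries.X : PowerSeries k) ^ N ∣ φ PowerSeries.X + Nneg k (φ PowerSeries.X)) :
    (PowerSeries.X : PowerSeries k) ^ N ∣
      (φ.symm : PowerSeries k →ₐ[k] PowerSeries k) PowerSeries.X +
        Nneg k ((φ.symm : PowerSeries k →ₐ[k] PowerSeries k) PowerSeries.X) := by
  have h1 : (PowerSeries.X : PowerSeries k) ^ N ∣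
      φ PowerSeries.X - ((NnegE k).trans (φ.trans (NnegE k))) PowerSeries.X := by
    have e : ((NnegE k).trans (φ.trans (NnegE k))) PowerSeries.X =
        Nneg k (φ (Nneg k PowerSeries.X)) := rfl
    rw [e, Nneg_X, map_neg, map_neg, sub_neg_eq_add]
    exact hφ
  have h3 := Od.symm_congr φ ((NnegE k).trans (φ.trans (NnegE k))) N h1
  have e : (((NnegE k).trans (φ.trans (NnegE k))).symm : PowerSeries k →ₐ[k] PowerSeries k)
      PowerSeries.X = Nneg k (φ.symm (Nneg k PowerSeries.X)) := rfl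
  rw [e, Nneg_X, map_neg, map_neg, sub_neg_eq_add] at h3
  exact h3

/-- the automorphism of `A_{2n}` induced by an automorphism of `k[[t]]` odd modulo `t^(2n)` -/
noncomputable def nuEquiv (h2 : (2 : k) ≠ 0) (φ : PowerSeries k ≃ₐ[k] PowerSeries k)
    (hφ : (PowerSeries.X : PowerSeries k) ^ (2 * n) ∣ φ PowerSeries.X + Nneg k (φ PowerSeries.X)) :
    ArSing.ring k (2 * n) ≃ₐ[k] ArSing.ring k (2 * n) :=
  AlgEquiv.ofAlgHom (liftNu h2 (φ : PowerSeries k →ₐ[k] PowerSeries k) hφ)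
    (liftNu h2 (φ.symm : PowerSeries k →ₐ[k] PowerSeries k) (symm_crit φ _ hφ))
    (by
      ext z
      apply nu_injective
      simp only [AlgHom.comp_apply, nu_liftNu, AlgEquiv.coe_algHom, AlgEquiv.apply_symm_apply,
        AlgHom.id_apply])
    (by
      ext z
      apply nu_injective
      simp only [AlgHom.comp_apply, nu_liftNu, AlgEquiv.coe_algHom, AlgEquiv.symm_apply_apply,
        AlgHom.id_apply])

theorem nu_nuEquiv (h2 : (2 : k) ≠ 0) (φ : PowerSeries k ≃ₐ[k] PowerSeries k)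
    (hφ : (PowerSeries.X : PowerSeries k) ^ (2 * n) ∣ φ PowerSeries.X + Nneg k (φ PowerSeries.X))
    (z : ArSing.ring k (2 * n)) : nu k n (nuEquiv h2 φ hφ z) = φ (nu k n z) :=
  nu_liftNu h2 _ hφ z

theorem nu_nuEquiv_symm (h2 : (2 : k) ≠ 0) (φ : PowerSeries k ≃ₐ[k] PowerSeries k)
    (hφ : (PowerSeries.X : PowerSeries k) ^ (2 * n) ∣ φ PowerSeries.X + Nneg k (φ PowerSeries.X))
    (z : ArSing.ring k (2 * n)) : nu k n ((nuEquiv h2 φ hφ).symm z) = φ.symm (nu k n z) :=
  nu_liftNu h2 _ (symm_crit φ _ hφ) z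

end Groth.Agent.Lib.ArSing97.Ev
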