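import Groth.Prelude.Def_ArtFun5
import Mathlib.RingTheory.Filtration

set_option autoImplicit false
universe u v

namespace Groth.Agent.Lib.ArtFunBasic

open CategoryTheory ArtFun ArtFun.Art

variable {Λ : Type u} {k : Type u} [CommRing Λ] [Field k] [Algebra Λ k]

section

variable {R : Type u} [CommRing R] [Algebra Λ R] {resR : R →ₐ[Λ] k}

theorem homSet_ext {A : Art Λ k} {φ ψ : HomSet R resR A} (h : ∀ r, φ.1 r = ψ.1 r) : φ = ψ :=
  Subtype.ext (AlgHom.ext h)

theorem homSet_map_apply {A B : Art Λ k} (f : A ⟶ B) (φ : HomSet R resR A) (r : R) :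
    (HomSet.map f φ).1 r = f.toAlgHom (φ.1 r) := rfl

theorem homSet_map_comp {A B C : Art Λ k} (f : A ⟶ B) (g : B ⟶ C) (φ : HomSet R resR A) :
    HomSet.map (f ≫ g) φ = HomSet.map g (HomSet.map f φ) :=
  Subtype.ext (AlgHom.ext fun _ => rfl)

theorem homSet_res_apply {A : Art Λ k} (φ : HomSet R resR A) (r : R) : A.res (φ.1 r) = resR r :=
  DFunLike.congr_fun φ.2 r

/-- the unique element of `h_R(k)` -/
def homSetBase (R : Type u) [CommRing R] [Algebra Λ R] (resR : R →ₐ[Λ] k) :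
    HomSet R resR (base Λ k) := ⟨resR, AlgHom.id_comp _⟩

instance homSet_base_subsingleton : Subsingleton (HomSet R resR (base Λ k)) := by
  refine ⟨fun φ ψ => homSet_ext fun r => ?_⟩
  have h1 := homSet_res_apply φ r
  have h2 := homSet_res_apply ψ r
  exact h1.trans h2.symm

/-- universal property of a fibre product square for `h_R` -/
theorem exists_lift_of_isFibreProd {B A A' A'' : Art Λ k} {p' : B ⟶ A'} {p'' : B ⟶ A''}
    {f' : A' ⟶ A} {f'' : A'' ⟶ A} (h : IsFibreProd p' p'' f' f'')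
    (φ' : HomSet R resR A') (φ'' : HomSet R resR A'')
    (hc : HomSet.map f' φ' = HomSet.map f'' φ'') :
    ∃ θ : HomSet R resR B, HomSet.map p' θ = φ' ∧ HomSet.map p'' θ = φ'' := by
  have hc' : ∀ r, f'.toAlgHom (φ'.1 r) = f''.toAlgHom (φ''.1 r) := fun r =>
    congrArg (fun t : HomSet R resR A => t.1 r) hc
  choose θ hθ' hθ'' using fun r => h.surj (φ'.1 r) (φ''.1 r) (hc' r)
  have hθ'a : ∀ r, p'.toAlgHom (θ r) = φ'.1 r := hθ'
  have hθ''a : ∀ r, p''.toAlgHom (θ r) = φ''.1 r := hθ''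
  have inj : ∀ b₁ b₂ : B, p'.toAlgHom b₁ = p'.toAlgHom b₂ → p''.toAlgHom b₁ = p''.toAlgHom b₂ →
      b₁ = b₂ := h.inj
  let Θ : R →ₐ[Λ] B :=
    { toFun := θ
      map_one' := inj _ _ (by rw [hθ'a, map_one, map_one]) (by rw [hθ''a, map_one, map_one])
      map_mul' := fun x y => inj _ _ (by rw [hθ'a, map_mul, map_mul, hθ'a, hθ'a])
        (by rw [hθ''a, map_mul, map_mul, hθ''a, hθ''a])
      map_zero' := inj _ _ (by rw [hθ'a, map_zero, map_zero]) (by rw [hθ''a, map_zero, map_zero])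
      map_add' := fun x y => inj _ _ (by rw [hθ'a, map_add, map_add, hθ'a, hθ'a])
        (by rw [hθ''a, map_add, map_add, hθ''a, hθ''a])
      commutes' := fun c => inj _ _ (by rw [hθ'a, AlgHom.commutes, AlgHom.commutes])
        (by rw [hθ''a, AlgHom.commutes, AlgHom.commutes]) }
  have hΘ : B.res.comp Θ = resR := by
    apply AlgHom.ext
    intro r
    change B.res (θ r) = resR r
    rw [← res_app p' (θ r), hθ'a, homSet_res_apply]
  exact ⟨⟨Θ, hΘ⟩, homSet_ext hθ'a, homSet_ext hθ''a⟩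

theorem eq_of_isFibreProd {B A A' A'' : Art Λ k} {p' : B ⟶ A'} {p'' : B ⟶ A''}
    {f' : A' ⟶ A} {f'' : A'' ⟶ A} (h : IsFibreProd p' p'' f' f'')
    (θ₁ θ₂ : HomSet R resR B) (h' : HomSet.map p' θ₁ = HomSet.map p' θ₂)
    (h'' : HomSet.map p'' θ₁ = HomSet.map p'' θ₂) : θ₁ = θ₂ :=
  homSet_ext fun r => h.inj _ _ (congrArg (fun t : HomSet R resR A' => t.1 r) h')
    (congrArg (fun t : HomSet R resR A'' => t.1 r) h'')

end

theorem surjective_fst_of_isFibreProd {B A A' A'' : Art Λ k} {p' : B ⟶ A'} {p'' : B ⟶ A''}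
    {f' : A' ⟶ A} {f'' : A'' ⟶ A} (h : IsFibreProd p' p'' f' f'')
    (hf : Function.Surjective f'') : Function.Surjective p' := by
  intro a'
  obtain ⟨a'', ha''⟩ := hf (f' a')
  obtain ⟨b, hb, _⟩ := h.surj a' a'' ha''.symm
  exact ⟨b, hb⟩

theorem toBase_surjective (A : Art Λ k) : Function.Surjective (toBase A) := A.res_surjective

section Versal

variable {R : Type u} [CommRing R] [Algebra Λ R] {resR : R →ₐ[Λ] k} {F : Art Λ k ⥤ Type v}

theorem h0_of_surjective (ξ : Family R resR F)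
    (hsurj : Function.Surjective (ξ.app (base Λ k))) : H0 F := by
  refine ⟨⟨ξ.app _ (homSetBase R resR)⟩, ⟨fun x y => ?_⟩⟩
  obtain ⟨φ, rfl⟩ := hsurj x
  obtain ⟨ψ, rfl⟩ := hsurj y
  rw [Subsingleton.elim φ ψ]

/-- strongly surjective versal families satisfy (S1) -/
theorem s1_of_isVersal (ξ : Family R resR F) (hξ : IsVersal ξ)
    (hsurj : ∀ A : Art Λ k, Function.Surjective (ξ.app A)) : S1 F := by
  intro B A A' A'' p' p'' f' f'' h hf x
  obtain ⟨φ', hφ'⟩ := hsurj A' x.1.1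
  have hx : F.map f'' x.1.2 = ξ.app A (HomSet.map f' φ') := by
    rw [ξ.natural, hφ', x.2]
  obtain ⟨ψ, hψ1, hψ2⟩ := hξ f'' hf (HomSet.map f' φ') x.1.2 hx
  obtain ⟨θ, hθ1, hθ2⟩ := exists_lift_of_isFibreProd h φ' ψ hψ1.symm
  refine ⟨ξ.app B θ, ?_⟩
  apply FibProd.ext
  · change F.map p' (ξ.app B θ) = x.1.1
    rw [← ξ.natural, hθ1, hφ']
  · change F.map p'' (ξ.app B θ) = x.1.2
    rw [← ξ.natural, hθ2, hψ2]

/-- strongly surjective miniversal families satisfy (H_ε) -/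
theorem heps_of_isMiniversal (ξ : Family R resR F) (hξ : IsMiniversal ξ)
    (hsurj : ∀ A : Art Λ k, Function.Surjective (ξ.app A)) : Heps F := by
  intro B A' p' p'' h
  refine ⟨?_, s1_of_isVersal ξ hξ.1 hsurj p' p'' _ _ h (toBase_surjective _)⟩
  intro z₁ z₂ hz
  have hz' : F.map p' z₁ = F.map p' z₂ := congrArg (fun t => t.1.1) hz
  have hz'' : F.map p'' z₁ = F.map p'' z₂ := congrArg (fun t => t.1.2) hz
  obtain ⟨θ₁, hθ₁⟩ := hsurj B z₁
  have hp' : Function.Surjective p' := surjective_fst_of_isFibreProd h (toBase_surjective _)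
  have h2 : F.map p' z₂ = ξ.app A' (HomSet.map p' θ₁) := by
    rw [ξ.natural, hθ₁, hz']
  obtain ⟨θ₂, hθ₂1, hθ₂2⟩ := hξ.1 p' hp' (HomSet.map p' θ₁) z₂ h2
  have h3 : HomSet.map p'' θ₁ = HomSet.map p'' θ₂ := by
    apply hξ.2.1
    rw [ξ.natural, ξ.natural, hθ₁, hθ₂2, hz'']
  have : θ₁ = θ₂ := eq_of_isFibreProd h θ₁ θ₂ hθ₂1.symm h3
  rw [← hθ₁, ← hθ₂2, this]

end Versal

section Formal

variable {R : Type u} [CommRing R] [Algebra Λ R] {resR : R →ₐ[Λ] k}

/-- two maps into a complete local Noetherian ring that agree modulo all powers of the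
maximal ideal are equal -/
theorem algHom_eq_of_forall_trunc_eq (S : CRing Λ k) (g₁ g₂ : R →ₐ[Λ] S.carrier)
    (h : ∀ n : ℕ, (S.truncHom n).1.comp g₁ = (S.truncHom n).1.comp g₂) : g₁ = g₂ := by
  apply AlgHom.ext
  intro r
  rw [← sub_eq_zero]
  have hmem : g₁ r - g₂ r ∈ ⨅ i : ℕ, IsLocalRing.maximalIdeal S.carrier ^ i := by
    rw [Ideal.mem_iInf]
    intro i
    have h1 := DFunLike.congr_fun (h i) r
    have h2 : Ideal.Quotient.mk (CRing.mpow S i) (g₁ r) = Ideal.Quotient.mk (CRing.mpow S i) (g₂ r) := h1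
    rw [Ideal.Quotient.eq] at h2
    exact Ideal.pow_le_pow_right (Nat.le_succ i) h2
  rw [Ideal.iInf_pow_eq_bot_of_isLocalRing _ Ideal.IsPrime.ne_top'] at hmem
  exact hmem

/-- the `n`-th component of the formal element of `ξ.along g` -/
theorem toFormalElt_along_elt {F : Art Λ k ⥤ Type v} (R' S : CRing Λ k)
    (ξ : Family R'.carrier R'.res F) (g : R'.carrier →ₐ[Λ] S.carrier) (hg : S.res.comp g = R'.res)
    (n : ℕ) :
    (ξ.along g hg).toFormalElt.elt n =
      ξ.app (S.trunc n) ⟨(S.truncHom n).1.comp g, by rw [← AlgHom.comp_assoc, (S.truncHom n).2, hg]⟩ :=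
  rfl

end Formal

end Groth.Agent.Lib.ArtFunBasic
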