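import Groth.Agent.Lib.ArtFunBasic
import Mathlib.LinearAlgebra.Dual.Lemmas

set_option autoImplicit false
universe u v

namespace Groth.Agent.Lib.ArtFunDual

open CategoryTheory ArtFun ArtFun.Art

variable {k : Type u} [Field k]

/-- For an object `A` (over `Λ = k`) whose maximal ideal has square zero, a `k`-linear functional on `A`
gives a morphism `A ⟶ k[ε]`, `x ↦ res x + l (x - res x) ε`. -/
def toDual (A : Art k k) (hsq : ∀ x y : A, A.res x = 0 → A.res y = 0 → x * y = 0) (l : A →ₗ[k] k) :
    A ⟶ dual k k :=
  ⟨{ toFun := fun x => (A.res x, l (x - algebraMap k A (A.res x)))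
     map_one' := by
      refine TrivSqZeroExt.ext ?_ ?_
      · change A.res 1 = 1
        exact map_one _
      · change l (1 - algebraMap k A (A.res 1)) = 0
        rw [map_one, map_one, sub_self, map_zero]
     map_mul' := fun x y => by
      refine TrivSqZeroExt.ext ?_ ?_
      · change A.res (x * y) = A.res x * A.res y
        exact map_mul _ _ _
      · change l (x * y - algebraMap k A (A.res (x * y))) =
          A.res x • l (y - algebraMap k A (A.res y)) +
            MulOpposite.op (A.res y) • l (x - algebraMap k A (A.res x))
        have hx : A.res (x - algebraMap k A (A.res x)) = 0 := by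
          rw [map_sub, AlgHom.commutes, Algebra.algebraMap_self_apply, sub_self]
        have hy : A.res (y - algebraMap k A (A.res y)) = 0 := by
          rw [map_sub, AlgHom.commutes, Algebra.algebraMap_self_apply, sub_self]
        have h0 := hsq _ _ hx hy
        have key : x * y - algebraMap k A (A.res (x * y)) =
            A.res x • (y - algebraMap k A (A.res y)) + A.res y • (x - algebraMap k A (A.res x)) := by
          rw [Algebra.smul_def, Algebra.smul_def, map_mul, map_mul]
          have : x * y = (x - algebraMap k A (A.res x)) * (y - algebraMap k A (A.res y)) +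
              algebraMap k A (A.res x) * (y - algebraMap k A (A.res y)) +
              algebraMap k A (A.res y) * (x - algebraMap k A (A.res x)) +
              algebraMap k A (A.res x) * algebraMap k A (A.res y) := by ring
          rw [h0, zero_add] at this
          rw [this]
          ring
        rw [key, map_add, map_smul, map_smul, op_smul_eq_smul]
     map_zero' := by
      refine TrivSqZeroExt.ext ?_ ?_
      · change A.res 0 = 0
        exact map_zero _
      · change l (0 - algebraMap k A (A.res 0)) = 0
        rw [map_zero, map_zero, sub_self, map_zero]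
     map_add' := fun x y => by
      refine TrivSqZeroExt.ext ?_ ?_
      · change A.res (x + y) = A.res x + A.res y
        exact map_add _ _ _
      · change l (x + y - algebraMap k A (A.res (x + y))) =
          l (x - algebraMap k A (A.res x)) + l (y - algebraMap k A (A.res y))
        rw [← map_add, map_add A.res, map_add (algebraMap k A)]
        congr 1
        ring
     commutes' := fun c => by
      refine TrivSqZeroExt.ext ?_ ?_
      · change A.res (algebraMap k A c) = (algebraMap k (DualNumber k) c).fst
        rw [AlgHom.commutes, TrivSqZeroExt.algebraMap_eq_inl', TrivSqZeroExt.fst_inl]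
      · change l (algebraMap k A c - algebraMap k A (A.res (algebraMap k A c))) =
          (algebraMap k (DualNumber k) c).snd
        rw [AlgHom.commutes, Algebra.algebraMap_self_apply, sub_self, map_zero,
          TrivSqZeroExt.algebraMap_eq_inl', TrivSqZeroExt.snd_inl] },
    AlgHom.ext fun _ => rfl⟩

theorem toDual_apply_snd (A : Art k k) (hsq : ∀ x y : A, A.res x = 0 → A.res y = 0 → x * y = 0)
    (l : A →ₗ[k] k) (x : A) :
    TrivSqZeroExt.snd ((toDual A hsq l).toAlgHom x) = l (x - algebraMap k A (A.res x)) := rfl

theorem toDual_apply_fst (A : Art k k) (hsq : ∀ x y : A, A.res x = 0 → A.res y = 0 → x * y = 0)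
    (l : A →ₗ[k] k) (x : A) :
    TrivSqZeroExt.fst ((toDual A hsq l).toAlgHom x) = A.res x := rfl

/-- elements of a square-zero object are separated by the maps to `k[ε]` -/
theorem eq_of_forall_toDual_eq (A : Art k k)
    (hsq : ∀ x y : A, A.res x = 0 → A.res y = 0 → x * y = 0) (x y : A)
    (h : ∀ l : A →ₗ[k] k, (toDual A hsq l).toAlgHom x = (toDual A hsq l).toAlgHom y) : x = y := by
  have hres : A.res x = A.res y := by
    have := congrArg TrivSqZeroExt.fst (h 0)
    exact this
  rw [← sub_eq_zero, ← Module.forall_dual_apply_eq_zero_iff k]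
  intro l
  have h1 := congrArg TrivSqZeroExt.snd (h l)
  rw [toDual_apply_snd, toDual_apply_snd, hres] at h1
  have : x - y = (x - algebraMap k A (A.res y)) - (y - algebraMap k A (A.res y)) := by ring
  rw [this, map_sub, h1, sub_self]

/-- the truncation `S/m²` has square-zero maximal ideal -/
theorem trunc_one_sq_zero (S : CRing k k) (x y : S.trunc 1) (hx : (S.trunc 1).res x = 0)
    (hy : (S.trunc 1).res y = 0) : x * y = 0 := by
  have hx' : x ∈ IsLocalRing.maximalIdeal (S.carrier ⧸ CRing.mpow S 1) :=
    ((S.trunc 1).mem_maximalIdeal_iff x).mpr hx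
  have hy' : y ∈ IsLocalRing.maximalIdeal (S.carrier ⧸ CRing.mpow S 1) :=
    ((S.trunc 1).mem_maximalIdeal_iff y).mpr hy
  have h1 := Ideal.mul_mem_mul (CRing.maximalIdeal_quot_le S 1 hx') (CRing.maximalIdeal_quot_le S 1 hy')
  rw [← Ideal.map_mul, ← pow_two] at h1
  have h2 : (IsLocalRing.maximalIdeal S.carrier ^ 2).map (Ideal.Quotient.mk (CRing.mpow S 1)) = ⊥ :=
    Ideal.map_quotient_self _
  rw [h2] at h1
  exact h1

section

variable {R : Type u} [CommRing R] [Algebra k R] {resR : R →ₐ[k] k} {F : Art k k ⥤ Type v}

/-- if a family is injective on `k[ε]` then it is injective on every square-zero object -/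
theorem injective_app_of_sq_zero (ξ : Family R resR F) (hinj : Function.Injective (ξ.app (dual k k)))
    (A : Art k k) (hsq : ∀ x y : A, A.res x = 0 → A.res y = 0 → x * y = 0) :
    Function.Injective (ξ.app A) := by
  intro u₁ u₂ h
  apply Groth.Agent.Lib.ArtFunBasic.homSet_ext
  intro r
  apply eq_of_forall_toDual_eq A hsq
  intro l
  have h1 : ξ.app _ (HomSet.map (toDual A hsq l) u₁) = ξ.app _ (HomSet.map (toDual A hsq l) u₂) := by
    rw [ξ.natural, ξ.natural, h]
  have h2 := hinj h1
  exact congrArg (fun t : HomSet R resR (dual k k) => t.1 r) h2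

end

end Groth.Agent.Lib.ArtFunDual
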