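import Groth.Prelude.Def_ArtFun3
import Mathlib.RingTheory.Artinian.Ring
import Mathlib.RingTheory.HopkinsLevitzki
import Mathlib.RingTheory.Ideal.Quotient.Operations

/-!
# Factoring surjections of Artinian local algebras into small extensions (helper59)

`surjection_induction`: a property of morphisms of `ArtFun.Art Λ k` which holds for bijective maps and small
extensions and is closed under composition holds for all surjective maps.
-/

set_option autoImplicit false
universe u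

open CategoryTheory ArtFun ArtFun.Art IsLocalRing

namespace Groth.Agent.Lib.ArtFunFactor

variable {Λ : Type u} {k : Type u} [CommRing Λ] [Field k] [Algebra Λ k]

theorem ker_le_maximalIdeal {B A : Art Λ k} (μ : B ⟶ A) :
    RingHom.ker μ.toAlgHom ≤ maximalIdeal B := by
  intro x hx
  rw [mem_maximalIdeal_iff, ← res_app μ x, show μ x = 0 from hx, map_zero]

theorem quotMk_eq_zero_iff (B : Art Λ k) (K : Ideal B) (hK : K ≤ maximalIdeal B) (b : B) :
    quotMk B K hK b = 0 ↔ b ∈ K :=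
  Ideal.Quotient.eq_zero_iff_mem

theorem quotMk_eq_iff (B : Art Λ k) (K : Ideal B) (hK : K ≤ maximalIdeal B) (b₁ b₂ : B) :
    quotMk B K hK b₁ = quotMk B K hK b₂ ↔ b₁ - b₂ ∈ K :=
  Ideal.Quotient.eq

/-- the map `B/K → B/K'` for `K ≤ K'`. -/
noncomputable def quotQuot (B : Art Λ k) (K K' : Ideal B) (hK' : K' ≤ maximalIdeal B) (hKK' : K ≤ K') :
    quot B K (hKK'.trans hK') ⟶ quot B K' hK' :=
  quotFactor (hKK'.trans hK') (quotMk B K' hK') (by
    intro x hx
    rw [RingHom.mem_ker]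
    exact (quotMk_eq_zero_iff B K' hK' x).2 (hKK' hx))

theorem quotQuot_quotMk (B : Art Λ k) (K K' : Ideal B) (hK' : K' ≤ maximalIdeal B) (hKK' : K ≤ K')
    (b : B) : quotQuot B K K' hK' hKK' (quotMk B K (hKK'.trans hK') b) = quotMk B K' hK' b := rfl

theorem quotFactor_quotMk {B A : Art Λ k} (μ : B ⟶ A) (K : Ideal B) (hK : K ≤ maximalIdeal B)
    (hKμ : K ≤ RingHom.ker μ.toAlgHom) (b : B) :
    quotFactor hK μ hKμ (quotMk B K hK b) = μ b := rfl

theorem quotQuot_comp {B A : Art Λ k} (μ : B ⟶ A) (K K' : Ideal B) (hKK' : K ≤ K')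
    (hK' : K' ≤ RingHom.ker μ.toAlgHom) :
    quotQuot B K K' (hK'.trans (ker_le_maximalIdeal μ)) hKK' ≫
      quotFactor (hK'.trans (ker_le_maximalIdeal μ)) μ hK' =
      quotFactor ((hKK'.trans hK').trans (ker_le_maximalIdeal μ)) μ (hKK'.trans hK') := by
  apply hom_ext
  apply AlgHom.ext
  intro y
  obtain ⟨b, rfl⟩ := quotMk_surjective B K ((hKK'.trans hK').trans (ker_le_maximalIdeal μ)) y
  rfl

theorem isSmallExt_quotQuot (B : Art Λ k) (K : Ideal B) (x : B) (hx : x ∉ K)
    (hxm : x ∈ maximalIdeal B) (hK : K ≤ maximalIdeal B)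
    (hmx : ∀ m ∈ maximalIdeal B, m * x ∈ K) :
    IsSmallExt (quotQuot B K (K ⊔ Ideal.span {x})
      (sup_le hK ((Ideal.span_singleton_le_iff_mem _).2 hxm)) le_sup_left) := by
  have hK' : K ⊔ Ideal.span {x} ≤ maximalIdeal B :=
    sup_le hK ((Ideal.span_singleton_le_iff_mem _).2 hxm)
  have hker : ∀ y : B, quotMk B K hK y ∈
      RingHom.ker (quotQuot B K (K ⊔ Ideal.span {x}) hK' le_sup_left).toAlgHom ↔
        y ∈ K ⊔ Ideal.span {x} := by
    intro y
    rw [RingHom.mem_ker]
    exact quotMk_eq_zero_iff B _ hK' y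
  have hxmem : quotMk B K hK x ∈
      RingHom.ker (quotQuot B K (K ⊔ Ideal.span {x}) hK' le_sup_left).toAlgHom :=
    (hker x).2 (Ideal.mem_sup_right (Ideal.subset_span rfl))
  refine ⟨?_, ?_, ⟨⟨quotMk B K hK x, ?_⟩⟩, ?_⟩
  · intro y
    obtain ⟨b, rfl⟩ := quotMk_surjective B _ hK' y
    exact ⟨quotMk B K hK b, rfl⟩
  · intro hbot
    have h0 := hxmem
    rw [hbot] at h0
    exact hx ((quotMk_eq_zero_iff B K hK x).1 ((Submodule.mem_bot _).1 h0))
  · apply le_antisymm
    · intro y hy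
      obtain ⟨b, rfl⟩ := quotMk_surjective B K hK y
      rw [hker, Submodule.mem_sup] at hy
      obtain ⟨κ, hκ, z, hz, rfl⟩ := hy
      rw [Ideal.mem_span_singleton'] at hz
      obtain ⟨c, rfl⟩ := hz
      rw [map_add, (quotMk_eq_zero_iff B K hK κ).2 hκ, zero_add, map_mul]
      exact Submodule.smul_mem _ _ (Submodule.mem_span_singleton_self _)
    · rw [Submodule.span_singleton_le_iff_mem]
      exact hxmem
  · rw [eq_bot_iff, Ideal.mul_le]
    intro m hm y hy
    obtain ⟨m', rfl⟩ := quotMk_surjective B K hK m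
    obtain ⟨b, rfl⟩ := quotMk_surjective B K hK y
    have hm' : m' ∈ maximalIdeal B := by
      rw [mem_maximalIdeal_iff, ← res_app (quotMk B K hK) m', ← mem_maximalIdeal_iff]
      exact hm
    rw [hker, Submodule.mem_sup] at hy
    obtain ⟨κ, hκ, z, hz, rfl⟩ := hy
    rw [Ideal.mem_span_singleton'] at hz
    obtain ⟨c, rfl⟩ := hz
    rw [Submodule.mem_bot, ← map_mul, quotMk_eq_zero_iff, mul_add]
    refine K.add_mem (K.mul_mem_left _ hκ) ?_
    have := hmx m' hm'
    have e : m' * (c * x) = c * (m' * x) := by ring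
    rw [e]
    exact K.mul_mem_left _ this

theorem exists_next {B : Art Λ k} (K J : Ideal B) (hKJ : K < J) (_hJ : J ≤ maximalIdeal B) :
    ∃ x ∈ J, x ∉ K ∧ ∀ m ∈ maximalIdeal B, m * x ∈ K := by
  obtain ⟨K', ⟨hK'1, hK'2⟩, hmin⟩ := IsArtinian.set_has_minimal
    {K' : Ideal B | K < K' ∧ K' ≤ J} ⟨J, hKJ, le_rfl⟩
  obtain ⟨x, hxK', hxK⟩ := SetLike.exists_of_lt hK'1
  refine ⟨x, hK'2 hxK', hxK, fun m hm => ?_⟩
  by_contra hmx
  have h1 : K < K ⊔ Ideal.span {m * x} := by
    refine lt_of_le_of_ne le_sup_left fun h => hmx ?_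
    rw [h]
    exact Ideal.mem_sup_right (Ideal.subset_span rfl)
  have h2 : K ⊔ Ideal.span {m * x} ≤ K' :=
    sup_le hK'1.le ((Ideal.span_singleton_le_iff_mem _).2 (Ideal.mul_mem_left K' _ hxK'))
  have h3 : ¬ K ⊔ Ideal.span {m * x} < K' := hmin _ ⟨h1, h2.trans hK'2⟩
  have h4 : K ⊔ Ideal.span {m * x} = K' := by
    by_contra hne
    exact h3 (lt_of_le_of_ne h2 hne)
  have hx' : x ∈ K ⊔ Ideal.span {m * x} := by rw [h4]; exact hxK'
  rw [Submodule.mem_sup] at hx'
  obtain ⟨κ, hκ, z, hz, hsum⟩ := hx'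
  rw [Ideal.mem_span_singleton'] at hz
  obtain ⟨c, rfl⟩ := hz
  have hunit : IsUnit (1 - c * m) := by
    have hcm : c * m ∈ maximalIdeal B := Ideal.mul_mem_left _ _ hm
    by_contra hnu
    have : (1 - c * m) ∈ maximalIdeal B := (mem_maximalIdeal _).2 hnu
    have h1 : (1 : B) ∈ maximalIdeal B := by
      have h2 := Ideal.add_mem _ this hcm
      rwa [sub_add_cancel] at h2
    exact (maximalIdeal.isMaximal B).ne_top ((Ideal.eq_top_iff_one _).2 h1)
  have hκ' : (1 - c * m) * x = κ := by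
    rw [eq_sub_of_add_eq hsum]
    ring
  apply hxK
  have : x = ↑hunit.unit⁻¹ * κ := by
    rw [← hκ', ← mul_assoc, IsUnit.val_inv_mul, one_mul]
  rw [this]
  exact K.mul_mem_left _ hκ

theorem surjection_induction
    (P : ∀ {B A : Art Λ k}, (B ⟶ A) → Prop)
    (hbij : ∀ {B A : Art Λ k} (μ : B ⟶ A), Function.Bijective μ → P μ)
    (hsmall : ∀ {B A : Art Λ k} (μ : B ⟶ A), IsSmallExt μ → P μ)
    (hcomp : ∀ {C B A : Art Λ k} (ν : C ⟶ B) (μ : B ⟶ A), P ν → P μ → P (ν ≫ μ))
    {B A : Art Λ k} (μ : B ⟶ A) (hμ : Function.Surjective μ) : P μ := by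
  have key : ∀ K : Ideal B, ∀ hK : K ≤ RingHom.ker μ.toAlgHom,
      P (quotFactor (hK.trans (ker_le_maximalIdeal μ)) μ hK) := by
    intro K
    induction K using WellFoundedGT.induction with
    | ind K ih =>
      intro hK
      by_cases hKeq : K = RingHom.ker μ.toAlgHom
      · apply hbij
        constructor
        · intro y₁ y₂ h
          obtain ⟨b₁, rfl⟩ := quotMk_surjective B K (hK.trans (ker_le_maximalIdeal μ)) y₁
          obtain ⟨b₂, rfl⟩ := quotMk_surjective B K (hK.trans (ker_le_maximalIdeal μ)) y₂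
          have h' : μ b₁ = μ b₂ := h
          rw [quotMk_eq_iff, hKeq, RingHom.mem_ker, map_sub, sub_eq_zero]
          exact h'
        · intro a
          obtain ⟨b, hb⟩ := hμ a
          exact ⟨quotMk B K (hK.trans (ker_le_maximalIdeal μ)) b, hb⟩
      · have hlt : K < RingHom.ker μ.toAlgHom := lt_of_le_of_ne hK hKeq
        obtain ⟨x, hxJ, hxK, hmx⟩ := exists_next K _ hlt (ker_le_maximalIdeal μ)
        have hxm : x ∈ maximalIdeal B := ker_le_maximalIdeal μ hxJ
        have hK'J : K ⊔ Ideal.span {x} ≤ RingHom.ker μ.toAlgHom :=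
          sup_le hK ((Ideal.span_singleton_le_iff_mem _).2 hxJ)
        have hKK' : K < K ⊔ Ideal.span {x} := by
          refine lt_of_le_of_ne le_sup_left fun h => hxK ?_
          rw [h]
          exact Ideal.mem_sup_right (Ideal.subset_span rfl)
        have h1 := ih (K ⊔ Ideal.span {x}) hKK' hK'J
        have h2 := hsmall _ (isSmallExt_quotQuot B K x hxK hxm
          (hK.trans (ker_le_maximalIdeal μ)) hmx)
        have h3 := hcomp _ _ h2 h1
        rw [quotQuot_comp μ K (K ⊔ Ideal.span {x}) le_sup_left hK'J] at h3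
        exact h3
  have h0 := key ⊥ bot_le
  have hmk : P (quotMk B ⊥ bot_le) := by
    apply hbij
    constructor
    · intro b₁ b₂ h
      rw [quotMk_eq_iff, Ideal.mem_bot, sub_eq_zero] at h
      exact h
    · exact quotMk_surjective B ⊥ bot_le
  have := hcomp _ _ hmk h0
  rw [quotMk_quotFactor] at this
  exact this

/-- a bijective morphism has a two-sided inverse. -/
theorem exists_inv_of_bijective {B A : Art Λ k} (μ : B ⟶ A) (h : Function.Bijective μ) :
    ∃ ν : A ⟶ B, μ ≫ ν = 𝟙 B ∧ ν ≫ μ = 𝟙 A := by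
  let e : B ≃ₐ[Λ] A := AlgEquiv.ofBijective μ.toAlgHom h
  have he : ∀ b, e b = μ b := fun b => rfl
  refine ⟨homMk (e.symm : A →ₐ[Λ] B) ?_, ?_, ?_⟩
  · apply AlgHom.ext
    intro a
    obtain ⟨b, rfl⟩ := h.2 a
    change B.res (e.symm (μ b)) = A.res (μ b)
    rw [← he, e.symm_apply_apply, he, res_app]
  · apply hom_ext
    apply AlgHom.ext
    intro b
    change e.symm (μ b) = b
    rw [← he, e.symm_apply_apply]
  · apply hom_ext
    apply AlgHom.ext
    intro a
    change μ (e.symm a) = a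
    rw [← he, e.apply_symm_apply]

end Groth.Agent.Lib.ArtFunFactor
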