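import Groth.Prelude.Def_ArtFun3
import Mathlib.RingTheory.HopkinsLevitzki
import Mathlib.RingTheory.LocalRing.Pullback
import Mathlib.RingTheory.Noetherian.Nilpotent
import Mathlib.RingTheory.Ideal.Quotient.Operations

/-!
# Fibre products in `ArtFun.Art Λ k` along surjections (helper59)

* `finite_carrier`: objects of `Art Λ k` are finite `Λ`-modules when `k` is.
* `exists_isFibreProd_of_surjective`: if `f₂` is surjective, the set-theoretic fibre product is an object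
  (`Λ` Noetherian, `Λ → k` finite).
-/

set_option autoImplicit false
universe u

open CategoryTheory ArtFun ArtFun.Art IsLocalRing

namespace Groth.Agent.Lib.ArtFunFibre

variable {Λ : Type u} {k : Type u} [CommRing Λ] [Field k] [Algebra Λ k]

theorem ker_res (A : Art Λ k) : RingHom.ker A.res = maximalIdeal A := by
  ext x
  rw [RingHom.mem_ker, mem_maximalIdeal_iff]

theorem jacobson_eq (A : Art Λ k) : Ring.jacobson A = maximalIdeal A := by
  rw [Ring.jacobson_eq_sInf_isMaximal]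
  have : {I : Ideal A | I.IsMaximal} = {maximalIdeal A} := by
    ext I
    simp [IsLocalRing.isMaximal_iff]
  rw [this, sInf_singleton]

theorem finite_carrier [Module.Finite Λ k] (A : Art Λ k) : Module.Finite Λ A := by
  have hfin : Module.Finite Λ (A ⧸ Ring.jacobson A) := by
    have e : (A ⧸ RingHom.ker A.res) ≃ₐ[Λ] k :=
      Ideal.quotientKerAlgEquivOfSurjective A.res_surjective
    have hker : RingHom.ker A.res = Ring.jacobson A := by rw [ker_res, jacobson_eq]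
    rw [← hker]
    exact Module.Finite.equiv e.symm.toLinearEquiv
  exact IsSemiprimaryRing.finite_of_isArtinian Λ A A

theorem exists_pow_eq_zero_of_mem_maximalIdeal (A : Art Λ k) :
    ∃ n : ℕ, ∀ a ∈ maximalIdeal A, a ^ n = 0 := by
  obtain ⟨n, hn⟩ := (isArtinianRing_iff_isNilpotent_maximalIdeal A).mp inferInstance
  refine ⟨n, fun a ha => ?_⟩
  have := Ideal.pow_mem_pow ha n
  rw [hn] at this
  exact this

theorem exists_isFibreProd_of_surjective [IsNoetherianRing Λ] [Module.Finite Λ k]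
    {A A₁ A₂ : Art Λ k} (f₁ : A₁ ⟶ A) (f₂ : A₂ ⟶ A) (hf₂ : Function.Surjective f₂) :
    ∃ (B : Art Λ k) (p₁ : B ⟶ A₁) (p₂ : B ⟶ A₂), IsFibreProd p₁ p₂ f₁ f₂ := by
  have hl₁ : IsLocalHom f₁.toAlgHom := Art.isLocalHom f₁
  have hl₂ : IsLocalHom f₂.toAlgHom := Art.isLocalHom f₂
  have hloc : IsLocalRing (AlgHom.pullback f₁.toAlgHom f₂.toAlgHom) :=
    AlgHom.isLocalRing_pullback f₁.toAlgHom f₂.toAlgHom
  have hfin₁ : Module.Finite Λ A₁ := finite_carrier A₁
  have hfin₂ : Module.Finite Λ A₂ := finite_carrier A₂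
  have hN : IsNoetherian Λ (A₁ × A₂) := inferInstance
  have hN' : IsNoetherian Λ (AlgHom.pullback f₁.toAlgHom f₂.toAlgHom) :=
    isNoetherian_submodule' (Subalgebra.toSubmodule (AlgHom.pullback f₁.toAlgHom f₂.toAlgHom))
  have hNR : IsNoetherianRing (AlgHom.pullback f₁.toAlgHom f₂.toAlgHom) :=
    isNoetherian_of_tower Λ hN'
  have hfst_loc : IsLocalHom (AlgHom.pullbackFst f₁.toAlgHom f₂.toAlgHom) :=
    ⟨fun x hx => (RingHom.isLocalHom_pullbackFst (f₁.toAlgHom : A₁ →+* A)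
      (f₂.toAlgHom : A₂ →+* A)).map_nonunit x hx⟩
  have hsnd_loc : IsLocalHom (AlgHom.pullbackSnd f₁.toAlgHom f₂.toAlgHom) :=
    ⟨fun x hx => (RingHom.isLocalHom_pullbackSnd (f₁.toAlgHom : A₁ →+* A)
      (f₂.toAlgHom : A₂ →+* A)).map_nonunit x hx⟩
  have hArt : IsArtinianRing (AlgHom.pullback f₁.toAlgHom f₂.toAlgHom) := by
    rw [isArtinianRing_iff_isNilpotent_maximalIdeal,
      Ideal.FG.isNilpotent_iff_le_nilradical (IsNoetherian.noetherian _)]
    intro x hx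
    obtain ⟨n₁, hn₁⟩ := exists_pow_eq_zero_of_mem_maximalIdeal A₁
    obtain ⟨n₂, hn₂⟩ := exists_pow_eq_zero_of_mem_maximalIdeal A₂
    have hx1 : AlgHom.pullbackFst f₁.toAlgHom f₂.toAlgHom x ∈ maximalIdeal A₁ := by
      rw [mem_maximalIdeal, mem_nonunits_iff] at hx ⊢
      exact fun h => hx (hfst_loc.map_nonunit x h)
    have hx2 : AlgHom.pullbackSnd f₁.toAlgHom f₂.toAlgHom x ∈ maximalIdeal A₂ := by
      rw [mem_maximalIdeal, mem_nonunits_iff] at hx ⊢
      exact fun h => hx (hsnd_loc.map_nonunit x h)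
    refine ⟨n₁ + n₂, ?_⟩
    apply Subtype.ext
    apply Prod.ext
    · change (AlgHom.pullbackFst f₁.toAlgHom f₂.toAlgHom (x ^ (n₁ + n₂))) = 0
      rw [map_pow, pow_add, hn₁ _ hx1, zero_mul]
    · change (AlgHom.pullbackSnd f₁.toAlgHom f₂.toAlgHom (x ^ (n₁ + n₂))) = 0
      rw [map_pow, pow_add, hn₂ _ hx2, mul_zero]
  have hfst_surj : Function.Surjective (AlgHom.pullbackFst f₁.toAlgHom f₂.toAlgHom) :=
    AlgHom.surjective_pullbackFst_of_surjective f₁.toAlgHom f₂.toAlgHom hf₂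
  let B : Art Λ k := Art.of (AlgHom.pullback f₁.toAlgHom f₂.toAlgHom)
    (A₁.res.comp (AlgHom.pullbackFst f₁.toAlgHom f₂.toAlgHom))
    (A₁.res_surjective.comp hfst_surj)
  let p₁ : B ⟶ A₁ := homMk (AlgHom.pullbackFst f₁.toAlgHom f₂.toAlgHom) rfl
  let p₂ : B ⟶ A₂ := homMk (AlgHom.pullbackSnd f₁.toAlgHom f₂.toAlgHom) (by
    apply AlgHom.ext
    intro x
    change A₂.res (AlgHom.pullbackSnd f₁.toAlgHom f₂.toAlgHom x) =
      A₁.res (AlgHom.pullbackFst f₁.toAlgHom f₂.toAlgHom x)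
    rw [← res_app f₂, ← res_app f₁]
    exact congrArg A.res (DFunLike.congr_fun
      (AlgHom.pullback_comm_sq f₁.toAlgHom f₂.toAlgHom) x).symm)
  refine ⟨B, p₁, p₂, ?_, ?_, ?_⟩
  · apply hom_ext
    exact AlgHom.pullback_comm_sq f₁.toAlgHom f₂.toAlgHom
  · intro b₁ b₂ h1 h2
    apply Subtype.ext
    exact Prod.ext h1 h2
  · intro a₁ a₂ h
    exact ⟨⟨(a₁, a₂), h⟩, rfl, rfl⟩

end Groth.Agent.Lib.ArtFunFibre
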