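import Groth.Agent.Lib.ArtFunBasic
import Mathlib.RingTheory.AdicCompletion.RingHom
import Mathlib.RingTheory.Artinian.Ring
import Mathlib.RingTheory.Jacobson.Ideal

set_option autoImplicit false
universe u v

namespace Groth.Agent.Lib.ArtFunFormal

open CategoryTheory ArtFun ArtFun.Art

variable {Λ : Type u} {k : Type u} [CommRing Λ] [Field k] [Algebra Λ k]

theorem isNilpotent_maximalIdeal (A : Art Λ k) : IsNilpotent (IsLocalRing.maximalIdeal A) := by
  have h := IsArtinianRing.isNilpotent_jacobson_bot (R := A)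
  rwa [IsLocalRing.jacobson_eq_maximalIdeal ⊥ bot_ne_top] at h

/-- an augmentation-compatible map sends the maximal ideal into the maximal ideal -/
theorem map_maximalIdeal_le (R : CRing Λ k) (A : Art Λ k) (u : HomSet R.carrier R.res A) :
    (IsLocalRing.maximalIdeal R.carrier).map u.1 ≤ IsLocalRing.maximalIdeal A := by
  rw [Ideal.map_le_iff_le_comap]
  intro a ha
  rw [Ideal.mem_comap, A.mem_maximalIdeal_iff]
  rw [R.mem_maximalIdeal_iff] at ha
  rw [← ha]
  exact Groth.Agent.Lib.ArtFunBasic.homSet_res_apply u a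

/-- every element of `h_R(A)` factors through a truncation `R/m^(n+1)` -/
theorem exists_factor_trunc (R : CRing Λ k) (A : Art Λ k) (u : HomSet R.carrier R.res A) :
    ∃ (n : ℕ) (ubar : R.trunc n ⟶ A), HomSet.map ubar (R.truncHom n) = u := by
  obtain ⟨N, hN⟩ := isNilpotent_maximalIdeal A
  have hkill : ∀ a ∈ CRing.mpow R N, u.1 a = 0 := by
    intro a ha
    have h1 : u.1 a ∈ (CRing.mpow R N).map u.1 := Ideal.mem_map_of_mem _ ha
    rw [Ideal.map_pow] at h1
    have h2 := Ideal.pow_right_mono (map_maximalIdeal_le R A u) (N + 1) h1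
    have h3 : IsLocalRing.maximalIdeal A ^ (N + 1) = ⊥ := by
      rw [pow_succ, hN, Ideal.zero_eq_bot, Ideal.bot_mul]
    rw [h3] at h2
    exact h2
  refine ⟨N, ⟨Ideal.Quotient.liftₐ (CRing.mpow R N) u.1 hkill, ?_⟩, ?_⟩
  · apply AlgHom.ext
    intro x
    obtain ⟨a, rfl⟩ := Ideal.Quotient.mk_surjective x
    exact Groth.Agent.Lib.ArtFunBasic.homSet_res_apply u a
  · exact Groth.Agent.Lib.ArtFunBasic.homSet_ext fun r => rfl

theorem truncMap_toAlgHom (R : CRing Λ k) (n : ℕ) :
    (R.truncMap n).toAlgHom =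
      Ideal.Quotient.factorₐ Λ (Ideal.pow_le_pow_right (Nat.le_succ (n + 1))) :=
  Ideal.Quotient.algHom_ext _ (by ext; rfl)

section Lift

variable (R : CRing Λ k) {S : Type u} [CommRing S] [Algebra Λ S] {resS : S →ₐ[Λ] k}
  (ψ : ∀ n, HomSet S resS (R.trunc n))
  (hψ : ∀ n, HomSet.map (R.truncMap n) (ψ (n + 1)) = ψ n)

/-- the `n`-th component as a map to the quotient ring -/
def comp (n : ℕ) : S →ₐ[Λ] R.carrier ⧸ IsLocalRing.maximalIdeal R.carrier ^ (n + 1) := (ψ n).1

include hψ in
theorem factor_comp {m n : ℕ} (hle : m ≤ n) :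
    (Ideal.Quotient.factorₐ Λ (Ideal.pow_le_pow_right (Nat.succ_le_succ hle))).comp (comp R ψ n) =
      comp R ψ m := by
  induction n, hle using Nat.le_induction with
  | base =>
    rw [Ideal.Quotient.factorₐ_refl]
    exact AlgHom.id_comp _
  | succ n hmn ih =>
    have h1 : (Ideal.Quotient.factorₐ Λ (Ideal.pow_le_pow_right (Nat.le_succ (n + 1)))).comp
        (comp R ψ (n + 1)) = comp R ψ n := by
      have := congrArg Subtype.val (hψ n)
      rw [← truncMap_toAlgHom]
      exact this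
    rw [← ih, ← h1, ← AlgHom.comp_assoc, Ideal.Quotient.factorₐ_comp]

include hψ in
/-- a compatible system of elements of `h_S(R/m^(n+1))` comes from a unique map `S → R`
(completeness of `R`) -/
theorem exists_algHom_of_compatible :
    ∃ (φ : S →ₐ[Λ] R.carrier) (_ : R.res.comp φ = resS), ∀ n, (R.truncHom n).1.comp φ = (ψ n).1 := by
  have : IsAdicComplete (IsLocalRing.maximalIdeal R.carrier) R.carrier := R.isAdicComplete
  let f : ∀ n : ℕ, S →ₐ[Λ] R.carrier ⧸ IsLocalRing.maximalIdeal R.carrier ^ n := fun n =>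
    (Ideal.Quotient.factorₐ Λ (Ideal.pow_le_pow_right (Nat.le_succ n))).comp (comp R ψ n)
  have hf : ∀ {m n : ℕ} (hle : m ≤ n),
      (Ideal.Quotient.factorₐ Λ (Ideal.pow_le_pow_right hle)).comp (f n) = f m := by
    intro m n hle
    change (Ideal.Quotient.factorₐ Λ _).comp ((Ideal.Quotient.factorₐ Λ _).comp (comp R ψ n)) =
      (Ideal.Quotient.factorₐ Λ _).comp (comp R ψ m)
    rw [← factor_comp R ψ hψ hle, ← AlgHom.comp_assoc, ← AlgHom.comp_assoc,
      Ideal.Quotient.factorₐ_comp, Ideal.Quotient.factorₐ_comp]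
  let φ := IsAdicComplete.liftAlgHom (IsLocalRing.maximalIdeal R.carrier) f hf
  have hφ : ∀ n, (R.truncHom n).1.comp φ = (ψ n).1 := by
    intro n
    have h1 := IsAdicComplete.mkₐ_comp_liftAlgHom (IsLocalRing.maximalIdeal R.carrier) f hf (n + 1)
    change (Ideal.Quotient.mkₐ Λ _).comp φ = comp R ψ n
    rw [h1]
    change (Ideal.Quotient.factorₐ Λ _).comp (comp R ψ (n + 1)) = comp R ψ n
    have := congrArg Subtype.val (hψ n)
    rw [← truncMap_toAlgHom]
    exact this
  refine ⟨φ, ?_, hφ⟩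
  apply AlgHom.ext
  intro s
  have h0 := DFunLike.congr_fun (hφ 0) s
  have h1 := Groth.Agent.Lib.ArtFunBasic.homSet_res_apply (ψ 0) s
  rw [← h0] at h1
  exact h1

end Lift

end Groth.Agent.Lib.ArtFunFormal
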