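import Groth.Agent.Lib.ArtFunBasic
import Groth.Agent.Lib.ArtFunFibre
import Groth.Agent.Lib.ArtFunFactor
import Groth.Agent.S12711

/-!
# Small extensions and the action of the tangent space (functors of Artin rings, `Λ = k`)

* `exists_hom_lift`, `hom_eq_of_isFibreProd`: the universal property of `IsFibreProd` for morphisms of `Art Λ k`.
* `ofBase'`: the structure map `k → A` for `Λ = k`.
* `sigma t … q₁ q₂ : E ⟶ A'`, `x ↦ q₁ x + (q₂ x).snd • t` on `E = A' ×_k k[ε]`.
* `isFibreProd_sigma`: for a small extension `μ : A' ⟶ A` with kernel generated by `t`, `(E, q₁, σ)` is the fibre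
  product `A' ×_A A'`.
-/

set_option autoImplicit false
universe u v

open CategoryTheory ArtFun ArtFun.Art IsLocalRing

namespace Groth.Agent.Lib.ArtFunSmall

section General

variable {Λ : Type u} {k : Type u} [CommRing Λ] [Field k] [Algebra Λ k]

/-- universal property of a fibre product square for morphisms of `Art Λ k`: existence -/
theorem exists_hom_lift {C B A A' A'' : Art Λ k} {p' : B ⟶ A'} {p'' : B ⟶ A''}
    {f' : A' ⟶ A} {f'' : A'' ⟶ A} (h : IsFibreProd p' p'' f' f'')
    (g' : C ⟶ A') (g'' : C ⟶ A'') (hg : g' ≫ f' = g'' ≫ f'') :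
    ∃ g : C ⟶ B, g ≫ p' = g' ∧ g ≫ p'' = g'' := by
  obtain ⟨φ, h1, h2⟩ := Groth.Agent.Lib.ArtFunBasic.exists_lift_of_isFibreProd
    (R := C) (resR := C.res) h ⟨g'.toAlgHom, g'.res_comp⟩ ⟨g''.toAlgHom, g''.res_comp⟩
    (Subtype.ext (congrArg Hom.toAlgHom hg))
  refine ⟨⟨φ.1, φ.2⟩, ?_, ?_⟩
  · apply hom_ext
    exact congrArg Subtype.val h1
  · apply hom_ext
    exact congrArg Subtype.val h2

/-- universal property of a fibre product square for morphisms of `Art Λ k`: uniqueness -/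
theorem hom_eq_of_isFibreProd {C B A A' A'' : Art Λ k} {p' : B ⟶ A'} {p'' : B ⟶ A''}
    {f' : A' ⟶ A} {f'' : A'' ⟶ A} (h : IsFibreProd p' p'' f' f'')
    (g₁ g₂ : C ⟶ B) (h' : g₁ ≫ p' = g₂ ≫ p') (h'' : g₁ ≫ p'' = g₂ ≫ p'') : g₁ = g₂ := by
  apply hom_ext
  apply AlgHom.ext
  intro c
  apply h.inj
  · exact congrArg (fun (t : C ⟶ A') => t c) h'
  · exact congrArg (fun (t : C ⟶ A'') => t c) h''

theorem comp_apply' {A B C : Art Λ k} (f : A ⟶ B) (g : B ⟶ C) (a : A) : (f ≫ g) a = g (f a) := rfl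

theorem hom_congr_apply {A B : Art Λ k} {f g : A ⟶ B} (h : f = g) (a : A) : f a = g a := by
  rw [h]

end General

section Field

variable {k : Type u} [Field k]

/-- Over a field (`Λ = k`): the structure map `k → A` as a morphism from the final object. -/
def ofBase' (A : Art k k) : base k k ⟶ A :=
  ⟨Algebra.ofId k A, AlgHom.ext fun c => A.res.commutes c⟩

theorem ofBase'_comp {A B : Art k k} (g : A ⟶ B) : ofBase' A ≫ g = ofBase' B :=
  hom_ext (AlgHom.ext fun c => g.toAlgHom.commutes c)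

theorem ofBase'_base : ofBase' (base k k) = 𝟙 _ :=
  hom_ext (AlgHom.ext fun _ => rfl)

theorem res_algebraMap (A : Art k k) (c : k) : A.res (algebraMap k A c) = c :=
  A.res.commutes c

/-- `a * t = res a • t` when the maximal ideal kills `t` -/
theorem mul_eq_res_smul (A : Art k k) (t : A) (ht : ∀ m : A, A.res m = 0 → m * t = 0) (a : A) :
    a * t = A.res a • t := by
  have h1 : A.res (a - algebraMap k A (A.res a)) = 0 := by
    rw [map_sub, res_algebraMap, sub_self]
  have h2 := ht _ h1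
  rw [sub_mul, sub_eq_zero] at h2
  rw [h2, Algebra.smul_def]

/-- the `ε`-coefficient of an element of `k[ε]` -/
def epsCoeff (y : dual k k) : k := TrivSqZeroExt.snd (R := k) (M := k) y

theorem epsCoeff_one : epsCoeff (1 : dual k k) = 0 := rfl

theorem epsCoeff_zero : epsCoeff (0 : dual k k) = 0 := rfl

theorem epsCoeff_add (x y : dual k k) : epsCoeff (x + y) = epsCoeff x + epsCoeff y := rfl

theorem snd_mul_dualNumber (x y : DualNumber k) :
    (x * y).snd = x.fst * y.snd + y.fst * x.snd := by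
  rw [TrivSqZeroExt.snd_mul]
  simp only [smul_eq_mul, MulOpposite.smul_eq_mul_unop, MulOpposite.unop_op]
  ring

theorem epsCoeff_mul (x y : dual k k) :
    epsCoeff (x * y) = (dual k k).res x * epsCoeff y + (dual k k).res y * epsCoeff x :=
  snd_mul_dualNumber x y

theorem epsCoeff_algebraMap (c : k) : epsCoeff (algebraMap k (dual k k) c) = 0 := rfl

/-- elements of `k[ε]` are determined by their two coefficients -/
theorem dual_ext {x y : dual k k} (h1 : (dual k k).res x = (dual k k).res y)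
    (h2 : epsCoeff x = epsCoeff y) : x = y :=
  TrivSqZeroExt.ext h1 h2

/-- the element `a + cε` -/
def dualMk (a c : k) : dual k k := (TrivSqZeroExt.inl a + TrivSqZeroExt.inr c : DualNumber k)

theorem fst_inl_add_inr (a c : k) :
    (TrivSqZeroExt.inl a + TrivSqZeroExt.inr c : DualNumber k).fst = a := by simp

theorem snd_inl_add_inr (a c : k) :
    (TrivSqZeroExt.inl a + TrivSqZeroExt.inr c : DualNumber k).snd = c := by simp

theorem res_dualMk (a c : k) : (dual k k).res (dualMk a c) = a := fst_inl_add_inr a c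

theorem epsCoeff_dualMk (a c : k) : epsCoeff (dualMk a c) = c := snd_inl_add_inr a c

variable {A' E : Art k k}

/-- the "sum" map `A' ×_k k[ε] → A'`, `(a, ā + cε) ↦ a + c t`, for `t` in the socle of `A'` -/
def sigma (t : A') (ht : ∀ m : A', A'.res m = 0 → m * t = 0) (ht0 : A'.res t = 0)
    (q₁ : E ⟶ A') (q₂ : E ⟶ dual k k) : E ⟶ A' where
  toAlgHom :=
    { toFun := fun x => q₁ x + epsCoeff (q₂ x) • t
      map_one' := by
        rw [map_one, map_one, epsCoeff_one, zero_smul, add_zero]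
      map_mul' := fun x y => by
        have hx : A'.res (q₁ x) = (dual k k).res (q₂ x) := by
          rw [res_app, res_app]
        have hy : A'.res (q₁ y) = (dual k k).res (q₂ y) := by
          rw [res_app, res_app]
        have htt : t * t = 0 := ht t ht0
        rw [map_mul, map_mul, epsCoeff_mul]
        have e1 : q₁ x * (epsCoeff (q₂ y) • t) =
            ((dual k k).res (q₂ x) * epsCoeff (q₂ y)) • t := by
          rw [mul_smul_comm, mul_eq_res_smul A' t ht, hx, smul_smul, mul_comm]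
        have e2 : (epsCoeff (q₂ x) • t) * q₁ y =
            ((dual k k).res (q₂ y) * epsCoeff (q₂ x)) • t := by
          rw [mul_comm, mul_smul_comm, mul_eq_res_smul A' t ht, hy, smul_smul, mul_comm]
        have e3 : (epsCoeff (q₂ x) • t) * (epsCoeff (q₂ y) • t) = 0 := by
          rw [smul_mul_smul_comm, htt, smul_zero]
        rw [add_mul, mul_add, mul_add, e1, e2, e3, add_zero, add_smul]
        abel
      map_zero' := by
        rw [map_zero, map_zero, epsCoeff_zero, zero_smul, add_zero]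
      map_add' := fun x y => by
        rw [map_add, map_add, epsCoeff_add, add_smul]
        abel
      commutes' := fun c => by
        have h1 : q₁ (algebraMap k E c) = algebraMap k A' c := q₁.toAlgHom.commutes c
        have h2 : q₂ (algebraMap k E c) = algebraMap k (dual k k) c := q₂.toAlgHom.commutes c
        rw [h1, h2, epsCoeff_algebraMap, zero_smul, add_zero] }
  res_comp := by
    apply AlgHom.ext
    intro x
    change A'.res (q₁ x + epsCoeff (q₂ x) • t) = E.res x
    rw [map_add, map_smul, ht0, smul_zero, add_zero, res_app]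

theorem sigma_apply (t : A') (ht : ∀ m : A', A'.res m = 0 → m * t = 0) (ht0 : A'.res t = 0)
    (q₁ : E ⟶ A') (q₂ : E ⟶ dual k k) (x : E) :
    sigma t ht ht0 q₁ q₂ x = q₁ x + epsCoeff (q₂ x) • t := rfl

/-- the socle generator of a small extension -/
theorem exists_generator {A : Art k k} {μ : A' ⟶ A} (h : IsSmallExt μ) :
    ∃ t : A', t ≠ 0 ∧ μ t = 0 ∧ (∀ m : A', A'.res m = 0 → m * t = 0) ∧ A'.res t = 0 ∧
      ∀ x : A', μ x = 0 → ∃ c : k, x = c • t := by
  obtain ⟨_, hne, ⟨t, ht⟩, hkill⟩ := h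
  have ht_mem : t ∈ RingHom.ker μ.toAlgHom := by
    rw [ht]; exact Submodule.mem_span_singleton_self t
  have hkill' : ∀ m : A', A'.res m = 0 → m * t = 0 := by
    intro m hm
    have : m * t ∈ IsLocalRing.maximalIdeal A' * RingHom.ker μ.toAlgHom :=
      Ideal.mul_mem_mul ((mem_maximalIdeal_iff A' m).2 hm) ht_mem
    rw [hkill] at this
    exact this
  refine ⟨t, ?_, ht_mem, hkill', ?_, ?_⟩
  · rintro rfl
    apply hne
    rw [ht]
    simp
  · exact (mem_maximalIdeal_iff A' t).1
      (Groth.Agent.Lib.ArtFunFactor.ker_le_maximalIdeal μ ht_mem)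
  · intro x hx
    have hx' : x ∈ RingHom.ker μ.toAlgHom := hx
    rw [ht] at hx'
    obtain ⟨r, rfl⟩ := Submodule.mem_span_singleton.mp hx'
    exact ⟨A'.res r, by rw [smul_eq_mul, mul_eq_res_smul A' t hkill']⟩

/-- For a small extension `μ : A' ⟶ A` with socle generator `t`, the object `E = A' ×_k k[ε]` with the maps `q₁` and
`σ` is the fibre product `A' ×_A A'`. -/
theorem isFibreProd_sigma {A : Art k k} (μ : A' ⟶ A) (t : A')
    (ht : ∀ m : A', A'.res m = 0 → m * t = 0) (ht0 : A'.res t = 0) (hμt : μ t = 0) (htne : t ≠ 0)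
    (hgen : ∀ x : A', μ x = 0 → ∃ c : k, x = c • t)
    (q₁ : E ⟶ A') (q₂ : E ⟶ dual k k)
    (hE : IsFibreProd q₁ q₂ (toBase A') (toBase (dual k k))) :
    IsFibreProd q₁ (sigma t ht ht0 q₁ q₂) μ μ where
  w := by
    apply hom_ext
    apply AlgHom.ext
    intro x
    change μ (q₁ x) = μ (sigma t ht ht0 q₁ q₂ x)
    rw [sigma_apply]
    have : μ (q₁ x + epsCoeff (q₂ x) • t) = μ (q₁ x) + epsCoeff (q₂ x) • μ t := by
      rw [map_add, map_smul]
    rw [this, hμt, smul_zero, add_zero]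
  inj := by
    intro b₁ b₂ h1 h2
    rw [sigma_apply, sigma_apply, h1] at h2
    have h3 : (epsCoeff (q₂ b₁) - epsCoeff (q₂ b₂)) • t = 0 := by
      rw [sub_smul, sub_eq_zero]
      exact add_left_cancel h2
    have h4 : epsCoeff (q₂ b₁) = epsCoeff (q₂ b₂) := by
      rcases smul_eq_zero.mp h3 with h | h
      · exact sub_eq_zero.mp h
      · exact absurd h htne
    apply hE.inj b₁ b₂ h1
    apply dual_ext _ h4
    rw [res_app, res_app, ← res_app q₁ b₁, ← res_app q₁ b₂, h1]
  surj := by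
    intro a₁ a₂ h
    have h0 : μ (a₂ - a₁) = 0 := by
      rw [map_sub]
      exact sub_eq_zero.mpr h.symm
    obtain ⟨c, hc⟩ := hgen _ h0
    obtain ⟨x, hx1, hx2⟩ := hE.surj a₁ (dualMk (A'.res a₁) c) (by
      change A'.res a₁ = (dual k k).res (dualMk (A'.res a₁) c)
      rw [res_dualMk])
    refine ⟨x, hx1, ?_⟩
    rw [sigma_apply, hx1, hx2, epsCoeff_dualMk, ← hc]
    abel

theorem epsCoeff_baseToDual (c : k) : epsCoeff ((baseToDual : base k k ⟶ dual k k) c) = 0 := rfl

/-- the zero section `A' → A' ×_k k[ε]` -/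
theorem exists_zero_section (q₁ : E ⟶ A') (q₂ : E ⟶ dual k k)
    (hE : IsFibreProd q₁ q₂ (toBase A') (toBase (dual k k))) :
    ∃ s : A' ⟶ E, s ≫ q₁ = 𝟙 A' ∧ s ≫ q₂ = toBase A' ≫ baseToDual := by
  apply exists_hom_lift hE
  rw [eq_toBase (𝟙 A' ≫ toBase A'), eq_toBase ((toBase A' ≫ baseToDual) ≫ toBase (dual k k))]

theorem zero_section_sigma (t : A') (ht : ∀ m : A', A'.res m = 0 → m * t = 0) (ht0 : A'.res t = 0)
    (q₁ : E ⟶ A') (q₂ : E ⟶ dual k k) (s : A' ⟶ E) (hs1 : s ≫ q₁ = 𝟙 A')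
    (hs2 : s ≫ q₂ = toBase A' ≫ baseToDual) : s ≫ sigma t ht ht0 q₁ q₂ = 𝟙 A' := by
  apply hom_ext
  apply AlgHom.ext
  intro a
  change sigma t ht ht0 q₁ q₂ (s a) = a
  rw [sigma_apply]
  have h1 : q₁ (s a) = a := hom_congr_apply hs1 a
  have h2 : q₂ (s a) = baseToDual (toBase A' a) := hom_congr_apply hs2 a
  rw [h1, h2, epsCoeff_baseToDual, zero_smul, add_zero]

/-- existence of `A' ×_k k[ε]` -/
theorem exists_prod_dual (A' : Art k k) :
    ∃ (E : Art k k) (q₁ : E ⟶ A') (q₂ : E ⟶ dual k k),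
      IsFibreProd q₁ q₂ (toBase A') (toBase (dual k k)) :=
  Groth.Agent.Lib.ArtFunFibre.exists_isFibreProd_of_surjective (toBase A') (toBase (dual k k))
    (Groth.Agent.Lib.ArtFunBasic.toBase_surjective _)

section Functor

variable (F : Art k k ⥤ Type v)

/-- Under (H1), (H2) and a trivial tangent space, `F(A') → F(A)` is injective for small extensions. -/
theorem map_injective_of_isSmallExt (h1 : Hbar F) (h2 : Heps F)
    (ht : Subsingleton (F.obj (dual k k))) {A : Art k k} (μ : A' ⟶ A) (hμ : IsSmallExt μ) :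
    Function.Injective (F.map μ) := by
  intro ξ η hξη
  obtain ⟨t, htne, hμt, hkill, ht0, hgen⟩ := exists_generator hμ
  obtain ⟨E, q₁, q₂, hE⟩ := exists_prod_dual A'
  have hE' := isFibreProd_sigma μ t hkill ht0 hμt htne hgen q₁ q₂ hE
  obtain ⟨ω, hω⟩ := h1 q₁ (sigma t hkill ht0 q₁ q₂) μ μ hE' hμ ⟨(ξ, η), hξη⟩
  have hω1 : F.map q₁ ω = ξ := congrArg (fun z => z.1.1) hω
  have hω2 : F.map (sigma t hkill ht0 q₁ q₂) ω = η := congrArg (fun z => z.1.2) hω
  obtain ⟨s, hs1, hs2⟩ := exists_zero_section q₁ q₂ hE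
  have hss := zero_section_sigma t hkill ht0 q₁ q₂ s hs1 hs2
  have hωs : ω = F.map s ξ := by
    apply (h2 q₁ q₂ hE).1
    apply FibProd.ext
    · change F.map q₁ ω = F.map q₁ (F.map s ξ)
      rw [hω1, ← Functor.map_comp_apply, hs1, Functor.map_id_apply]
    · exact Subsingleton.elim _ _
  rw [← hω2, hωs, ← Functor.map_comp_apply, hss, Functor.map_id_apply]

end Functor

end Field

section Factor

variable {Λ : Type u} {k : Type u} [CommRing Λ] [Field k] [Algebra Λ k]

/-- surjections are epimorphisms -/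
theorem hom_eq_of_surjective_comp {B A C : Art Λ k} (f : B ⟶ A) (hf : Function.Surjective f)
    (g₁ g₂ : A ⟶ C) (h : f ≫ g₁ = f ≫ g₂) : g₁ = g₂ := by
  apply hom_ext
  apply AlgHom.ext
  intro a
  obtain ⟨b, rfl⟩ := hf a
  exact hom_congr_apply h b

/-- a surjection `f : B ⟶ A` identifies `A` with `B / ker f`: a morphism out of `B` killing `ker f` factors through `A` -/
theorem exists_factor_of_surjective {B A C : Art Λ k} (f : B ⟶ A) (hf : Function.Surjective f)
    (g : B ⟶ C) (hker : RingHom.ker f.toAlgHom ≤ RingHom.ker g.toAlgHom) :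
    ∃ g' : A ⟶ C, f ≫ g' = g := by
  have hKm := Groth.Agent.Lib.ArtFunFactor.ker_le_maximalIdeal f
  let φ : quot B (RingHom.ker f.toAlgHom) hKm ⟶ A := quotFactor hKm f le_rfl
  have hφ : Function.Bijective φ := by
    constructor
    · intro x y hxy
      obtain ⟨b₁, rfl⟩ := quotMk_surjective B _ hKm x
      obtain ⟨b₂, rfl⟩ := quotMk_surjective B _ hKm y
      rw [Groth.Agent.Lib.ArtFunFactor.quotMk_eq_iff]
      have h' : f b₁ = f b₂ := hxy
      rw [RingHom.mem_ker, map_sub, sub_eq_zero]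
      exact h'
    · intro a
      obtain ⟨b, rfl⟩ := hf a
      exact ⟨quotMk B _ hKm b, rfl⟩
  obtain ⟨ν, hν1, _⟩ := Groth.Agent.Lib.ArtFunFactor.exists_inv_of_bijective φ hφ
  refine ⟨ν ≫ quotFactor hKm g hker, ?_⟩
  have hf' : quotMk B _ hKm ≫ φ = f := quotMk_quotFactor hKm f le_rfl
  have h1 : f ≫ ν = quotMk B _ hKm := by
    calc f ≫ ν = (quotMk B _ hKm ≫ φ) ≫ ν := by rw [hf']
      _ = quotMk B _ hKm := by rw [Category.assoc, hν1, Category.comp_id]
  rw [← Category.assoc, h1, quotMk_quotFactor]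

end Factor

section Induction

variable {Λ : Type u} {k : Type u} [CommRing Λ] [Field k] [Algebra Λ k]

theorem map_injective_of_bijective (F : Art Λ k ⥤ Type v) {B A : Art Λ k} (μ : B ⟶ A)
    (hμ : Function.Bijective μ) : Function.Injective (F.map μ) := by
  obtain ⟨ν, h1, _⟩ := Groth.Agent.Lib.ArtFunFactor.exists_inv_of_bijective μ hμ
  intro x y hxy
  have := congrArg (F.map ν) hxy
  rwa [← Functor.map_comp_apply, ← Functor.map_comp_apply, h1, Functor.map_id_apply,
    Functor.map_id_apply] at this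

/-- Bijectivity of the comparison maps for small extensions implies bijectivity for all surjections. -/
theorem cmp_bijective_of_small [IsNoetherianRing Λ] [Module.Finite Λ k] (F : Art Λ k ⥤ Type v)
    (hsmall : ∀ ⦃B A A' A'' : Art Λ k⦄ (p' : B ⟶ A') (p'' : B ⟶ A'') (f' : A' ⟶ A) (f'' : A'' ⟶ A)
      (h : IsFibreProd p' p'' f' f''), IsSmallExt f'' → Function.Bijective (cmp F h))
    ⦃B A A' A'' : Art Λ k⦄ (p' : B ⟶ A') (p'' : B ⟶ A'') (f' : A' ⟶ A) (f'' : A'' ⟶ A)
    (h : IsFibreProd p' p'' f' f'') (hf : Function.Surjective f'') :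
    Function.Bijective (cmp F h) := by
  suffices H : Function.Surjective f'' ∧ ∀ (A' B : Art Λ k) (f' : A' ⟶ A) (p' : B ⟶ A')
      (p'' : B ⟶ A'') (h : IsFibreProd p' p'' f' f''),
      Function.Bijective (cmp F h) from H.2 A' B f' p' p'' h
  refine Groth.Agent.Lib.ArtFunFactor.surjection_induction
    (P := fun {A'' A} f'' => Function.Surjective f'' ∧
      ∀ (A' B : Art Λ k) (f' : A' ⟶ A) (p' : B ⟶ A')
      (p'' : B ⟶ A'') (h : IsFibreProd p' p'' f' f''),
      Function.Bijective (cmp F h)) ?_ ?_ ?_ f'' hf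
  · -- bijective maps
    intro A'' A f'' hbij
    refine ⟨hbij.2, fun A' B f' p' p'' h => ?_⟩
    have hp'bij : Function.Bijective p' := by
      constructor
      · intro b₁ b₂ hb
        have hb' : p' b₁ = p' b₂ := hb
        apply h.inj _ _ hb'
        apply hbij.1
        have e1 := h.w_apply b₁
        have e2 := h.w_apply b₂
        exact e1.symm.trans ((congrArg f' hb').trans e2)
      · exact Groth.Agent.Lib.ArtFunBasic.surjective_fst_of_isFibreProd h hbij.2
    obtain ⟨ν', -, hν'2⟩ := Groth.Agent.Lib.ArtFunFactor.exists_inv_of_bijective p' hp'bij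
    have hinj : Function.Injective (F.map f'') := map_injective_of_bijective F f'' hbij
    have hinj' : Function.Injective (F.map p') := map_injective_of_bijective F p' hp'bij
    constructor
    · intro z₁ z₂ hz
      exact hinj' (congrArg (fun t => t.1.1) hz)
    · intro x
      refine ⟨F.map ν' x.1.1, ?_⟩
      have h1 : F.map p' (F.map ν' x.1.1) = x.1.1 := by
        rw [← Functor.map_comp_apply, hν'2, Functor.map_id_apply]
      apply FibProd.ext
      · exact h1
      · change F.map p'' (F.map ν' x.1.1) = x.1.2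
        apply hinj
        rw [← Functor.map_comp_apply, ← h.w, Functor.map_comp_apply, h1]
        exact x.2
  · -- small extensions
    intro A'' A f'' hs
    exact ⟨hs.1, fun A' B f' p' p'' h => hsmall p' p'' f' f'' h hs⟩
  · -- composition
    intro A'' A₁ A ν μ hν hμ
    refine ⟨fun a => ?_, fun A' B f' p' p'' h => ?_⟩
    · obtain ⟨a₁, ha₁⟩ := hμ.1 a
      obtain ⟨a'', ha''⟩ := hν.1 a₁
      exact ⟨a'', by change μ (ν a'') = a; rw [ha'', ha₁]⟩
    obtain ⟨B₁, q', q₁, h₁⟩ :=
      Groth.Agent.Lib.ArtFunFibre.exists_isFibreProd_of_surjective f' μ hμ.1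
    obtain ⟨r, hr1, hr2⟩ := exists_hom_lift h₁ p' (p'' ≫ ν) (by rw [h.w, Category.assoc])
    have hr1a : ∀ b, q' (r b) = p' b := fun b => hom_congr_apply hr1 b
    have hr2a : ∀ b, q₁ (r b) = ν (p'' b) := fun b => hom_congr_apply hr2 b
    have h₂ : IsFibreProd r p'' q₁ ν := by
      refine ⟨hr2, ?_, ?_⟩
      · intro b₁ b₂ e1 e2
        apply h.inj _ _ _ e2
        rw [← hr1a, ← hr1a, e1]
      · intro b₁ a'' e
        have e' : f' (q' b₁) = (ν ≫ μ) a'' := by
          rw [h₁.w_apply, e, Art.comp_apply]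
        obtain ⟨b, hb1, hb2⟩ := h.surj (q' b₁) a'' e'
        refine ⟨b, ?_, hb2⟩
        apply h₁.inj
        · rw [hr1a, hb1]
        · rw [hr2a, hb2, e]
    constructor
    · intro z z' hz
      have e1 : F.map p' z = F.map p' z' := congrArg (fun t => t.1.1) hz
      have e2 : F.map p'' z = F.map p'' z' := congrArg (fun t => t.1.2) hz
      apply (hν.2 B₁ B q₁ r p'' h₂).1
      apply FibProd.ext
      · change F.map r z = F.map r z'
        apply (hμ.2 A' B₁ f' q' q₁ h₁).1
        apply FibProd.ext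
        · change F.map q' (F.map r z) = F.map q' (F.map r z')
          rw [← Functor.map_comp_apply, ← Functor.map_comp_apply, hr1, e1]
        · change F.map q₁ (F.map r z) = F.map q₁ (F.map r z')
          rw [← Functor.map_comp_apply, ← Functor.map_comp_apply, hr2, Functor.map_comp_apply,
            Functor.map_comp_apply, e2]
      · exact e2
    · intro x
      have hx₁ : F.map f' x.1.1 = F.map μ (F.map ν x.1.2) := by
        rw [x.2, Functor.map_comp_apply]
      obtain ⟨z₁, hz₁⟩ := (hμ.2 A' B₁ f' q' q₁ h₁).2 ⟨(x.1.1, F.map ν x.1.2), hx₁⟩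
      have hz₁1 : F.map q' z₁ = x.1.1 := congrArg (fun t => t.1.1) hz₁
      have hz₁2 : F.map q₁ z₁ = F.map ν x.1.2 := congrArg (fun t => t.1.2) hz₁
      obtain ⟨z, hz⟩ := (hν.2 B₁ B q₁ r p'' h₂).2 ⟨(z₁, x.1.2), hz₁2⟩
      have hz1 : F.map r z = z₁ := congrArg (fun t => t.1.1) hz
      have hz2 : F.map p'' z = x.1.2 := congrArg (fun t => t.1.2) hz
      refine ⟨z, ?_⟩
      apply FibProd.ext
      · change F.map p' z = x.1.1
        rw [← hr1, Functor.map_comp_apply, hz1, hz₁1]
      · exact hz2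

end Induction

section Homog

variable {k : Type u} [Field k] (F : Art k k ⥤ Type v)

/-- Under (H1), (H2), (H4) the comparison map of `A' ×_A A''` is injective when `A'' → A` is a small extension. -/
theorem cmp_injective_of_isSmallExt (h1 : Hbar F) (h2 : Heps F) (h4 : HSq F)
    {B A A' A'' : Art k k} {p' : B ⟶ A'} {p'' : B ⟶ A''} {f' : A' ⟶ A} {f'' : A'' ⟶ A}
    (h : IsFibreProd p' p'' f' f'') (hf : IsSmallExt f'') : Function.Injective (cmp F h) := by
  obtain ⟨t, htne, hft, hkill, ht0, hgen⟩ := exists_generator hf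
  -- the generator of `ker p'`
  obtain ⟨bt, hbt1, hbt2⟩ := h.surj 0 t (by rw [map_zero]; exact hft.symm)
  have hbt_kill : ∀ m : B, B.res m = 0 → m * bt = 0 := by
    intro m hm
    apply h.inj
    · rw [map_mul, hbt1, mul_zero, map_zero]
    · rw [map_mul, hbt2, map_zero]
      exact hkill _ (by rw [res_app]; exact hm)
  have hbt0 : B.res bt = 0 := by rw [← res_app p'' bt, hbt2, ht0]
  have hbtne : bt ≠ 0 := by
    rintro rfl
    apply htne
    rw [← hbt2, map_zero]
  have hbtgen : ∀ x : B, p' x = 0 → ∃ c : k, x = c • bt := by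
    intro x hx
    have hx' : f'' (p'' x) = 0 := by rw [← h.w_apply, hx, map_zero]
    obtain ⟨c, hc⟩ := hgen _ hx'
    refine ⟨c, h.inj _ _ ?_ ?_⟩
    · rw [hx, map_smul, hbt1, smul_zero]
    · rw [hc, map_smul, hbt2]
  have hp'small : IsSmallExt p' := Groth.Agent.S12711.result h hf
  -- the two objects `B ×_k k[ε]` and `A'' ×_k k[ε]`
  obtain ⟨E, q₁, q₂, hE⟩ := exists_prod_dual B
  obtain ⟨E'', r₁, r₂, hE''⟩ := exists_prod_dual A''
  have hEσ := isFibreProd_sigma p' bt hbt_kill hbt0 hbt1 hbtne hbtgen q₁ q₂ hE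
  have hE''σ := isFibreProd_sigma f'' t hkill ht0 hft htne hgen r₁ r₂ hE''
  obtain ⟨π, hπ1, hπ2⟩ := exists_hom_lift hE'' (q₁ ≫ p'') q₂ (by
    rw [eq_toBase ((q₁ ≫ p'') ≫ toBase A''), eq_toBase (q₂ ≫ toBase (dual k k))])
  have hπσ : π ≫ sigma t hkill ht0 r₁ r₂ = sigma bt hbt_kill hbt0 q₁ q₂ ≫ p'' := by
    apply hom_ext
    apply AlgHom.ext
    intro x
    change sigma t hkill ht0 r₁ r₂ (π x) = p'' (sigma bt hbt_kill hbt0 q₁ q₂ x)
    rw [sigma_apply, sigma_apply, map_add, map_smul, hbt2]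
    have e1 : r₁ (π x) = p'' (q₁ x) := hom_congr_apply hπ1 x
    have e2 : r₂ (π x) = q₂ x := hom_congr_apply hπ2 x
    rw [e1, e2]
  obtain ⟨s, hs1, hs2⟩ := exists_zero_section q₁ q₂ hE
  obtain ⟨s'', hs''1, hs''2⟩ := exists_zero_section r₁ r₂ hE''
  have hsσ := zero_section_sigma bt hbt_kill hbt0 q₁ q₂ s hs1 hs2
  have hs''σ := zero_section_sigma t hkill ht0 r₁ r₂ s'' hs''1 hs''2
  intro ζ₁ ζ₂ hζ
  have e' : F.map p' ζ₁ = F.map p' ζ₂ := congrArg (fun z => z.1.1) hζ
  have e'' : F.map p'' ζ₁ = F.map p'' ζ₂ := congrArg (fun z => z.1.2) hζ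
  obtain ⟨ω, hω⟩ := h1 q₁ (sigma bt hbt_kill hbt0 q₁ q₂) p' p' hEσ hp'small ⟨(ζ₁, ζ₂), e'⟩
  have hω1 : F.map q₁ ω = ζ₁ := congrArg (fun z => z.1.1) hω
  have hω2 : F.map (sigma bt hbt_kill hbt0 q₁ q₂) ω = ζ₂ := congrArg (fun z => z.1.2) hω
  -- the image of `ω` in `F(A'' ×_k k[ε])` is the zero section
  have hω'' : F.map π ω = F.map s'' (F.map p'' ζ₁) := by
    apply (h4 r₁ (sigma t hkill ht0 r₁ r₂) f'' hE''σ hf).1
    apply FibProd.ext
    · change F.map r₁ (F.map π ω) = F.map r₁ (F.map s'' (F.map p'' ζ₁))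
      rw [← Functor.map_comp_apply, hπ1, Functor.map_comp_apply, hω1, ← Functor.map_comp_apply F s'',
        hs''1, Functor.map_id_apply]
    · change F.map (sigma t hkill ht0 r₁ r₂) (F.map π ω) =
        F.map (sigma t hkill ht0 r₁ r₂) (F.map s'' (F.map p'' ζ₁))
      rw [← Functor.map_comp_apply, hπσ, Functor.map_comp_apply, hω2,
        ← Functor.map_comp_apply F s'', hs''σ, Functor.map_id_apply, e'']
  have hq₂ω : F.map q₂ ω = F.map (toBase B ≫ baseToDual) ζ₁ := by
    calc F.map q₂ ω = F.map r₂ (F.map π ω) := by rw [← Functor.map_comp_apply, hπ2]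
      _ = F.map r₂ (F.map s'' (F.map p'' ζ₁)) := by rw [hω'']
      _ = F.map (p'' ≫ s'' ≫ r₂) ζ₁ := by
        rw [Functor.map_comp_apply, Functor.map_comp_apply]
      _ = F.map (toBase B ≫ baseToDual) ζ₁ := by
        rw [hs''2, ← Category.assoc, eq_toBase (p'' ≫ toBase A'')]
  have hωs : ω = F.map s ζ₁ := by
    apply (h2 q₁ q₂ hE).1
    apply FibProd.ext
    · change F.map q₁ ω = F.map q₁ (F.map s ζ₁)
      rw [hω1, ← Functor.map_comp_apply, hs1, Functor.map_id_apply]
    · change F.map q₂ ω = F.map q₂ (F.map s ζ₁)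
      rw [hq₂ω, ← Functor.map_comp_apply, hs2]
  rw [← hω2, hωs, ← Functor.map_comp_apply, hsσ, Functor.map_id_apply]

/-- (H1), (H2), (H4) imply homogeneity: the comparison map is bijective for every square with `A'' → A` surjective. -/
theorem cmp_bijective_of_surjective (h1 : Hbar F) (h2 : Heps F) (h4 : HSq F)
    ⦃B A A' A'' : Art k k⦄ (p' : B ⟶ A') (p'' : B ⟶ A'') (f' : A' ⟶ A) (f'' : A'' ⟶ A)
    (h : IsFibreProd p' p'' f' f'') (hf : Function.Surjective f'') :
    Function.Bijective (cmp F h) :=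
  cmp_bijective_of_small F (fun _ _ _ _ p' p'' f' f'' h hs =>
    ⟨cmp_injective_of_isSmallExt F h1 h2 h4 h hs, h1 p' p'' f' f'' h hs⟩) p' p'' f' f'' h hf

end Homog

end Groth.Agent.Lib.ArtFunSmall
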