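import Groth.Prelude.Def_ArtFun3
import Mathlib.RingTheory.Nakayama
import Mathlib.RingTheory.AdicCompletion.Functoriality
import Mathlib.RingTheory.AdicCompletion.Noetherian
import Mathlib.RingTheory.LocalRing.RingHom.Basic

/-!
# Toolkit for functors of Artin rings (`ArtFun`), part 1 (helper59)

* `surjective_of_map_maximalIdeal_sup_sq`: a local map `A → B` of local rings, `A` complete, `B` Noetherian, inducing
  a surjection on residue fields and with `f(m_A)B + m_B² = m_B`, is surjective.
-/

set_option autoImplicit false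
universe u v

open IsLocalRing

namespace Groth.Agent.Lib.ArtFunSurj

section Surj

variable {A B : Type*} [CommRing A] [CommRing B] [IsLocalRing A] [IsLocalRing B]

theorem map_maximalIdeal_eq_of_sup_sq [IsNoetherianRing B] (f : A →+* B) [IsLocalHom f]
    (h : Ideal.map f (maximalIdeal A) ⊔ maximalIdeal B ^ 2 = maximalIdeal B) :
    Ideal.map f (maximalIdeal A) = maximalIdeal B := by
  apply le_antisymm
  · rw [Ideal.map_le_iff_le_comap]
    intro a ha
    rw [Ideal.mem_comap, mem_maximalIdeal, mem_nonunits_iff] at *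
    exact fun hu => ha (isUnit_of_map_unit f a hu)
  · refine Submodule.le_of_le_smul_of_le_jacobson_bot (I := maximalIdeal B)
      (IsNoetherian.noetherian _) (maximalIdeal_le_jacobson _) ?_
    rw [smul_eq_mul, ← sq, h]

theorem surjective_of_map_maximalIdeal_sup_sq [IsNoetherianRing B]
    [IsPrecomplete (maximalIdeal A) A] (f : A →+* B) [IsLocalHom f]
    (hres : ∀ b : B, ∃ a : A, b - f a ∈ maximalIdeal B)
    (h : Ideal.map f (maximalIdeal A) ⊔ maximalIdeal B ^ 2 = maximalIdeal B) :
    Function.Surjective f := by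
  have hmap := map_maximalIdeal_eq_of_sup_sq f h
  have hH : IsHausdorff ((maximalIdeal A).map f) B := by rw [hmap]; infer_instance
  apply surjective_of_mk_map_comp_surjective (I := maximalIdeal A) f
  intro y
  obtain ⟨b, rfl⟩ := Ideal.Quotient.mk_surjective y
  obtain ⟨a, ha⟩ := hres b
  refine ⟨a, ?_⟩
  rw [RingHom.comp_apply, eq_comm, Ideal.Quotient.eq, hmap]
  exact ha

end Surj

section TFAE

variable {Λ k A B : Type*} [CommRing Λ] [Field k] [Algebra Λ k] [CommRing A] [CommRing B]
  [Algebra Λ A] [Algebra Λ B] [IsLocalRing A] [IsLocalRing B]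

theorem mem_maximalIdeal_iff_res (resA : A →ₐ[Λ] k) (hA : Function.Surjective resA) (a : A) :
    a ∈ maximalIdeal A ↔ resA a = 0 := by
  have hmax : (RingHom.ker (resA : A →+* k)).IsMaximal :=
    RingHom.ker_isMaximal_of_surjective (resA : A →+* k) hA
  rw [← IsLocalRing.eq_maximalIdeal hmax, RingHom.mem_ker]
  rfl

theorem isLocalHom_of_res (resA : A →ₐ[Λ] k) (resB : B →ₐ[Λ] k) (hA : Function.Surjective resA)
    (hB : Function.Surjective resB) (f : A →ₐ[Λ] B) (hf : resB.comp f = resA) :
    IsLocalHom (f : A →+* B) := by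
  refine ⟨fun a ha => ?_⟩
  by_contra h
  have ha' : a ∈ maximalIdeal A := (mem_maximalIdeal a).2 h
  rw [mem_maximalIdeal_iff_res resA hA] at ha'
  have hb : f a ∈ maximalIdeal B := by
    rw [mem_maximalIdeal_iff_res resB hB, ← AlgHom.comp_apply, hf, ha']
  exact (mem_maximalIdeal _).1 hb ha

theorem tfae_surjective [IsNoetherianRing B] [IsPrecomplete (maximalIdeal A) A]
    (resA : A →ₐ[Λ] k) (resB : B →ₐ[Λ] k) (hA : Function.Surjective resA)
    (hB : Function.Surjective resB) (f : A →ₐ[Λ] B) (hf : resB.comp f = resA) :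
    List.TFAE [Function.Surjective f,
      Ideal.map f (maximalIdeal A) ⊔ maximalIdeal B ^ 2 = maximalIdeal B,
      Ideal.map (algebraMap Λ B) (RingHom.ker (algebraMap Λ k)) ⊔ Ideal.map f (maximalIdeal A) ⊔
        maximalIdeal B ^ 2 = maximalIdeal B] := by
  have hloc : IsLocalHom (f : A →+* B) := isLocalHom_of_res resA resB hA hB f hf
  have hfres : ∀ a, resB (f a) = resA a := fun a => by rw [← AlgHom.comp_apply, hf]
  have hle : Ideal.map f (maximalIdeal A) ≤ maximalIdeal B := by
    rw [Ideal.map_le_iff_le_comap]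
    intro a ha
    rw [Ideal.mem_comap, mem_maximalIdeal_iff_res resB hB, hfres, ← mem_maximalIdeal_iff_res resA hA]
    exact ha
  have hJ : Ideal.map (algebraMap Λ B) (RingHom.ker (algebraMap Λ k)) ≤
      Ideal.map f (maximalIdeal A) := by
    rw [Ideal.map_le_iff_le_comap]
    intro l hl
    rw [Ideal.mem_comap, ← f.commutes]
    refine Ideal.mem_map_of_mem _ ?_
    rw [mem_maximalIdeal_iff_res resA hA, resA.commutes]
    exact hl
  tfae_have 1 → 2 := by
    intro hs
    have : Ideal.map f (maximalIdeal A) = maximalIdeal B := by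
      refine le_antisymm hle fun b hb => ?_
      obtain ⟨a, rfl⟩ := hs b
      refine Ideal.mem_map_of_mem _ ?_
      rw [mem_maximalIdeal_iff_res resA hA, ← hfres, ← mem_maximalIdeal_iff_res resB hB]
      exact hb
    rw [this, sup_eq_left]
    exact Ideal.pow_le_self two_ne_zero
  tfae_have 2 → 3 := by
    intro h2
    rw [sup_eq_right.2 hJ]
    exact h2
  tfae_have 3 → 1 := by
    intro h3
    rw [sup_eq_right.2 hJ] at h3
    have hres : ∀ b : B, ∃ a : A, b - (f : A →+* B) a ∈ maximalIdeal B := by
      intro b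
      obtain ⟨a, ha⟩ := hA (resB b)
      refine ⟨a, ?_⟩
      rw [mem_maximalIdeal_iff_res resB hB, map_sub]
      change resB b - resB (f a) = 0
      rw [hfres, ha, sub_self]
    exact surjective_of_map_maximalIdeal_sup_sq (f : A →+* B) hres h3
  tfae_finish

end TFAE

end Groth.Agent.Lib.ArtFunSurj
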