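import Mathlib

/-!
# Artin's monomial basis of the universal splitting algebra (helper57)

For a commutative ring `R` and a monic polynomial `f` of degree `n`, the quotient of
`R[t_0, …, t_{n-1}]` by the ideal `IIp f` generated by the coefficients of
`∏ (X - t_i) - f` is free over `R` with basis the monomials `t^d`, `d i < n - i`.
-/

set_option autoImplicit false
universe u

namespace Groth.Agent.ArtinBasis57

open Polynomial

set_option linter.style.haveILetI false

/-- exponent vectors of Artin monomials -/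
abbrev DD (n : ℕ) : Type := (i : Fin n) → Fin (n - (i : ℕ))

/-- splitting off the first exponent -/
def ddEquiv (n : ℕ) : DD (n + 1) ≃ Fin (n + 1) × DD n where
  toFun d := (Fin.cast (by simp) (d 0), fun i => Fin.cast (by simp) (d i.succ))
  invFun p := Fin.cons (α := fun i : Fin (n + 1) => Fin (n + 1 - (i : ℕ)))
    (Fin.cast (by simp) p.1) (fun i => Fin.cast (by simp) (p.2 i))
  left_inv d := by
    funext i
    refine Fin.cases ?_ (fun i => ?_) i
    · exact Fin.ext rfl
    · exact Fin.ext rfl
  right_inv p := by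
    refine Prod.ext (Fin.ext rfl) ?_
    funext i
    exact Fin.ext rfl

@[simp] theorem ddEquiv_fst_val (n : ℕ) (d : DD (n + 1)) :
    (((ddEquiv n d).1 : Fin (n + 1)) : ℕ) = (d 0 : ℕ) := rfl

@[simp] theorem ddEquiv_snd_val (n : ℕ) (d : DD (n + 1)) (i : Fin n) :
    (((ddEquiv n d).2 i : Fin (n - (i : ℕ))) : ℕ) = (d i.succ : ℕ) := rfl

section
variable {R : Type u} [CommRing R] {n : ℕ}

/-- the Artin monomial in a family `θ` -/
def monOf {Q : Type*} [CommRing Q] (θ : Fin n → Q) (d : DD n) : Q := ∏ i, θ i ^ (d i : ℕ)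

theorem monOf_succ {Q : Type*} [CommRing Q] (θ : Fin (n + 1) → Q) (d : DD (n + 1)) :
    monOf θ d = θ 0 ^ (((ddEquiv n d).1 : Fin (n + 1)) : ℕ) *
      monOf (fun i : Fin n => θ i.succ) (ddEquiv n d).2 := by
  unfold monOf
  rw [Fin.prod_univ_succ]
  rfl

theorem map_monOf {Q Q' : Type*} [CommRing Q] [CommRing Q'] (φ : Q →+* Q') (θ : Fin n → Q)
    (d : DD n) : φ (monOf θ d) = monOf (fun i => φ (θ i)) d := by
  unfold monOf
  rw [map_prod]
  simp only [map_pow]

/-- the difference polynomial `∏ (X - t_i) - f` over `R[t]` -/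
noncomputable def diffPoly (f : R[X]) : (MvPolynomial (Fin n) R)[X] :=
  ∏ i : Fin n, (X - C (MvPolynomial.X i : MvPolynomial (Fin n) R)) - f.map MvPolynomial.C

/-- the ideal generated by the coefficients of `∏ (X - t_i) - f` -/
noncomputable def IIp (f : R[X]) : Ideal (MvPolynomial (Fin n) R) :=
  Ideal.span (Set.range (diffPoly (n := n) f).coeff)

theorem map_diffPoly {Q : Type*} [CommRing Q] (φ : MvPolynomial (Fin n) R →+* Q) (f : R[X]) :
    (diffPoly (n := n) f).map φ =
      ∏ i : Fin n, (X - C (φ (MvPolynomial.X i))) - f.map (φ.comp MvPolynomial.C) := by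
  unfold diffPoly
  rw [Polynomial.map_sub, Polynomial.map_prod, Polynomial.map_map]
  simp only [Polynomial.map_sub, Polynomial.map_X, Polynomial.map_C]

theorem IIp_le_ker_iff {Q : Type*} [CommRing Q] (φ : MvPolynomial (Fin n) R →+* Q) (f : R[X]) :
    IIp (n := n) f ≤ RingHom.ker φ ↔
      f.map (φ.comp MvPolynomial.C) = ∏ i : Fin n, (X - C (φ (MvPolynomial.X i))) := by
  rw [IIp, Ideal.span_le]
  constructor
  · intro h
    have h0 : (diffPoly (n := n) f).map φ = 0 := by
      ext k
      rw [Polynomial.coeff_map, Polynomial.coeff_zero]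
      exact h ⟨k, rfl⟩
    rw [map_diffPoly, sub_eq_zero] at h0
    exact h0.symm
  · intro h
    rintro _ ⟨k, rfl⟩
    rw [SetLike.mem_coe, RingHom.mem_ker, ← Polynomial.coeff_map, map_diffPoly, h, sub_self,
      Polynomial.coeff_zero]

end

/-- powers of the root of a monic polynomial of degree `n + 1` are independent -/
theorem linearIndependent_root_pow {R : Type u} [CommRing R] {n : ℕ} (f : R[X]) (hf : f.Monic)
    (hd : f.natDegree = n + 1) :
    LinearIndependent R (fun j : Fin (n + 1) => (AdjoinRoot.root f) ^ (j : ℕ)) := by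
  have h0 := (AdjoinRoot.powerBasis' hf).basis.linearIndependent
  rw [PowerBasis.coe_basis] at h0
  have hdim : n + 1 = (AdjoinRoot.powerBasis' hf).dim := by
    rw [AdjoinRoot.powerBasis'_dim, hd]
  exact h0.comp (Fin.cast hdim) (Fin.cast_injective _)

/-- Existence of a model of the splitting algebra in which the Artin monomials are independent. -/
theorem exists_model (n : ℕ) : ∀ (R : Type u) [CommRing R] (f : R[X]), f.Monic → f.natDegree = n →
    ∃ (Q : Type u) (_ : CommRing Q) (_ : Algebra R Q) (θ : Fin n → Q),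
      f.map (algebraMap R Q) = ∏ i : Fin n, (X - C (θ i)) ∧
      LinearIndependent R (fun d : DD n => monOf θ d) := by
  induction n with
  | zero =>
    intro R _ f hf hd
    refine ⟨R, inferInstance, inferInstance, Fin.elim0, ?_, ?_⟩
    · have h1 : f = 1 := (Polynomial.Monic.natDegree_eq_zero hf).mp hd
      simp [h1]
    · rw [Fintype.linearIndependent_iff]
      intro g hg d
      have hd' : d = default := Subsingleton.elim _ _
      simpa [monOf, hd'] using hg
  | succ n ih =>
    intro R _ f hf hd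
    have hroot : (X - C (AdjoinRoot.root f)) * ((f.map (AdjoinRoot.of f)) /ₘ (X - C (AdjoinRoot.root f)))
        = f.map (AdjoinRoot.of f) :=
      mul_divByMonic_eq_iff_isRoot.mpr (AdjoinRoot.isRoot_root f)
    have hfm : (f.map (AdjoinRoot.of f)).Monic := hf.map _
    have hf₁ : ((f.map (AdjoinRoot.of f)) /ₘ (X - C (AdjoinRoot.root f))).Monic := by
      refine Monic.of_mul_monic_left (monic_X_sub_C (AdjoinRoot.root f)) ?_
      rw [hroot]; exact hfm
    haveI : Nontrivial R := by
      by_contra h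
      rw [not_nontrivial_iff_subsingleton] at h
      have : f.natDegree = 0 := by rw [Subsingleton.elim f 0]; simp
      omega
    haveI : Nontrivial (AdjoinRoot f) :=
      nontrivial_of_ne _ _ ((linearIndependent_root_pow f hf hd).ne_zero 0)
    have hd₁ : ((f.map (AdjoinRoot.of f)) /ₘ (X - C (AdjoinRoot.root f))).natDegree = n := by
      rw [natDegree_divByMonic _ (monic_X_sub_C _), hf.natDegree_map, natDegree_X_sub_C, hd]
      rfl
    obtain ⟨Q, iQ, iA, θ', hprod, hli⟩ := ih (AdjoinRoot f) _ hf₁ hd₁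
    letI : Algebra R Q := ((algebraMap (AdjoinRoot f) Q).comp (AdjoinRoot.of f)).toAlgebra
    haveI : IsScalarTower R (AdjoinRoot f) Q := IsScalarTower.of_algebraMap_eq (fun _ => rfl)
    refine ⟨Q, iQ, inferInstance,
      Fin.cons (algebraMap (AdjoinRoot f) Q (AdjoinRoot.root f)) θ', ?_, ?_⟩
    · have e1 : f.map (algebraMap R Q) =
          (f.map (AdjoinRoot.of f)).map (algebraMap (AdjoinRoot f) Q) := by
        rw [Polynomial.map_map]; rfl
      rw [e1, ← hroot, Polynomial.map_mul, hprod, Fin.prod_univ_succ]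
      simp only [Fin.cons_zero, Fin.cons_succ, Polynomial.map_sub, Polynomial.map_X,
        Polynomial.map_C]
    · have hb := linearIndependent_root_pow f hf hd
      have h2 := (linearIndependent_smul hb hli).comp (ddEquiv n) (ddEquiv n).injective
      convert h2 using 1
      funext d
      rw [monOf_succ]
      simp only [Fin.cons_zero, Fin.cons_succ, Function.comp_apply, Algebra.smul_def, map_pow]

/-- the Artin monomial in the variables -/
noncomputable abbrev mon {R : Type u} [CommRing R] {n : ℕ} (d : DD n) : MvPolynomial (Fin n) R :=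
  monOf (MvPolynomial.X : Fin n → MvPolynomial (Fin n) R) d

/-- **Independence** of the Artin monomials modulo `IIp f`. -/
theorem indep {R : Type u} [CommRing R] {n : ℕ} (f : R[X]) (hf : f.Monic) (hd : f.natDegree = n)
    (r : DD n → R)
    (h : ∑ d, MvPolynomial.C (r d) * mon (R := R) d ∈ IIp (n := n) f) : r = 0 := by
  obtain ⟨Q, _, _, θ, hprod, hli⟩ := exists_model n R f hf hd
  have hker : IIp (n := n) f ≤
      RingHom.ker (MvPolynomial.aeval θ : MvPolynomial (Fin n) R →ₐ[R] Q).toRingHom := by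
    rw [IIp_le_ker_iff]
    have e1 : ((MvPolynomial.aeval θ : MvPolynomial (Fin n) R →ₐ[R] Q).toRingHom).comp
        MvPolynomial.C = algebraMap R Q := by
      ext x; simp
    rw [e1, hprod]
    simp
  have h0 := hker h
  rw [RingHom.mem_ker, map_sum] at h0
  rw [Fintype.linearIndependent_iff] at hli
  funext d
  refine hli r ?_ d
  rw [← h0]
  refine Finset.sum_congr rfl (fun d _ => ?_)
  rw [map_mul, mon, map_monOf, Algebra.smul_def]
  simp

/-- **Spanning**: every polynomial is congruent modulo `IIp f` to an `R`-combination of Artin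
monomials. -/
theorem span_aux (n : ℕ) : ∀ (R : Type u) [CommRing R] (f : R[X]), f.Monic → f.natDegree = n →
    ∀ x : MvPolynomial (Fin n) R, ∃ r : DD n → R,
      x - ∑ d, MvPolynomial.C (r d) * mon (R := R) d ∈ IIp (n := n) f := by
  induction n with
  | zero =>
    intro R _ f hf hd x
    refine ⟨fun _ => MvPolynomial.coeff 0 x, ?_⟩
    have hx : x = MvPolynomial.C (MvPolynomial.coeff 0 x) := MvPolynomial.eq_C_of_isEmpty x
    have : ∑ d : DD 0, MvPolynomial.C (MvPolynomial.coeff 0 x) * mon (R := R) d = x := by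
      rw [Fintype.sum_unique]
      simp [mon, monOf, ← hx]
    rw [this, sub_self]
    exact zero_mem _
  | succ n ih =>
    intro R _ f hf hd x
    haveI : Nontrivial R := by
      by_contra h
      rw [not_nontrivial_iff_subsingleton] at h
      have : f.natDegree = 0 := by rw [Subsingleton.elim f 0]; simp
      omega
    -- the quotient ring
    set I := IIp (n := n + 1) f with hI
    set q := Ideal.Quotient.mk I with hq
    set θ : Fin (n + 1) → MvPolynomial (Fin (n + 1)) R ⧸ I := fun i => q (MvPolynomial.X i) with hθ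
    have hqf : f.map (q.comp MvPolynomial.C) = ∏ i : Fin (n + 1), (X - C (θ i)) :=
      (IIp_le_ker_iff q f).mp (by rw [hq, Ideal.mk_ker])
    -- division of `f` by `X - T` over `R[T]`
    set g : (R[X])[X] := (f.map (C : R →+* R[X])) /ₘ (X - C (X : R[X])) with hg
    have hdiv : C f + (X - C (X : R[X])) * g = f.map (C : R →+* R[X]) := by
      have h1 := modByMonic_add_div (f.map (C : R →+* R[X])) (X - C (X : R[X]))
      rw [modByMonic_X_sub_C_eq_C_eval, Polynomial.eval_map, Polynomial.eval₂_C_X] at h1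
      exact h1
    have hfm : (f.map (C : R →+* R[X])).Monic := hf.map _
    have hgm : g.Monic := by
      refine Monic.of_mul_monic_left (monic_X_sub_C (X : R[X])) ?_
      have : (X - C (X : R[X])) * g = f.map (C : R →+* R[X]) - C f := by
        rw [← hdiv]; ring
      rw [this]
      refine Monic.sub_of_left hfm ?_
      rw [Polynomial.degree_eq_natDegree hfm.ne_zero, hf.natDegree_map, hd]
      refine lt_of_le_of_lt Polynomial.degree_C_le ?_
      exact_mod_cast Nat.succ_pos n
    have hgd : g.natDegree = n := by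
      rw [hg, natDegree_divByMonic _ (monic_X_sub_C _), hf.natDegree_map, natDegree_X_sub_C, hd]
      rfl
    -- the map `R[T] → Q`
    set ψ₀ : R[X] →+* MvPolynomial (Fin (n + 1)) R ⧸ I :=
      Polynomial.eval₂RingHom (q.comp MvPolynomial.C) (θ 0) with hψ₀
    have hψC : ψ₀.comp C = q.comp MvPolynomial.C := by
      ext a; simp [hψ₀]
    have hψX : ψ₀ X = θ 0 := by simp [hψ₀]
    have hmap : C (ψ₀ f) + (X - C (θ 0)) * g.map ψ₀ =
        (X - C (θ 0)) * ∏ i : Fin n, (X - C (θ i.succ)) := by
      have h1 := congrArg (Polynomial.map ψ₀) hdiv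
      rw [Polynomial.map_add, Polynomial.map_mul, Polynomial.map_map, hψC, hqf,
        Fin.prod_univ_succ] at h1
      simpa [hψX] using h1
    have hf0 : ψ₀ f = 0 := by
      have h1 := congrArg (Polynomial.eval (θ 0)) hmap
      simpa using h1
    have hgmap : g.map ψ₀ = ∏ i : Fin n, (X - C (θ i.succ)) := by
      rw [hf0, map_zero, zero_add] at hmap
      exact (monic_X_sub_C (θ 0)).isRegular.left hmap
    -- the map `R[T][t'] → Q`
    set Ψ : MvPolynomial (Fin n) R[X] →+* MvPolynomial (Fin (n + 1)) R ⧸ I :=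
      MvPolynomial.eval₂Hom ψ₀ (fun i => θ i.succ) with hΨ
    have hΨker : IIp (n := n) g ≤ RingHom.ker Ψ := by
      rw [IIp_le_ker_iff]
      have e1 : Ψ.comp MvPolynomial.C = ψ₀ := by
        ext a <;> simp [hΨ]
      rw [e1, hgmap]
      simp [hΨ]
    -- the lift `P → R[T][t']`
    set Λ : MvPolynomial (Fin (n + 1)) R →+* MvPolynomial (Fin n) R[X] :=
      MvPolynomial.eval₂Hom (MvPolynomial.C.comp C)
        (Fin.cons (MvPolynomial.C (X : R[X])) MvPolynomial.X) with hΛ
    have hΨΛ : Ψ.comp Λ = q := by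
      refine MvPolynomial.ringHom_ext (fun a => ?_) (fun i => ?_)
      · have := RingHom.congr_fun hψC a
        simpa [hΨ, hΛ] using this
      · refine Fin.cases ?_ (fun i => ?_) i
        · simp [hΨ, hΛ, hψX, hθ]
        · simp [hΨ, hΛ, hθ]
    obtain ⟨r', hr'⟩ := ih R[X] g hgm hgd (Λ x)
    have h1 := hΨker hr'
    rw [RingHom.mem_ker, map_sub, map_sum, sub_eq_zero, ← RingHom.comp_apply, hΨΛ] at h1
    have hf1 : f ≠ 1 := by
      intro h; rw [h, natDegree_one] at hd; omega
    have hρ : ∀ d' : DD n, ψ₀ (r' d') =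
        ∑ j : Fin (n + 1), q (MvPolynomial.C ((r' d' %ₘ f).coeff (j : ℕ))) * θ 0 ^ (j : ℕ) := by
      intro d'
      have e1 : ψ₀ (r' d') = ψ₀ (r' d' %ₘ f) := by
        conv_lhs => rw [← modByMonic_add_div (r' d') f]
        rw [map_add, map_mul, hf0, zero_mul, add_zero]
      have hlt : (r' d' %ₘ f).natDegree < n + 1 := by
        have := natDegree_modByMonic_lt (r' d') hf hf1
        omega
      rw [e1]
      conv_lhs => rw [Polynomial.as_sum_range' (r' d' %ₘ f) (n + 1) hlt]
      rw [map_sum, Finset.sum_range]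
      refine Finset.sum_congr rfl (fun j _ => ?_)
      simp [hψ₀]
    refine ⟨fun d => (r' (ddEquiv n d).2 %ₘ f).coeff (((ddEquiv n d).1 : Fin (n + 1)) : ℕ), ?_⟩
    rw [← Ideal.Quotient.eq, ← hq, h1, map_sum]
    let F : Fin (n + 1) × DD n → MvPolynomial (Fin (n + 1)) R ⧸ I := fun p =>
      q (MvPolynomial.C ((r' p.2 %ₘ f).coeff (p.1 : ℕ))) *
        (θ 0 ^ (p.1 : ℕ) * monOf (fun i : Fin n => θ i.succ) p.2)
    have e2 : ∀ d : DD (n + 1),
        q (MvPolynomial.C ((r' (ddEquiv n d).2 %ₘ f).coeff
            (((ddEquiv n d).1 : Fin (n + 1)) : ℕ)) * mon (R := R) d) = F (ddEquiv n d) := by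
      intro d
      rw [map_mul, mon, map_monOf, monOf_succ]
    rw [Finset.sum_congr rfl (fun d _ => e2 d), Equiv.sum_comp (ddEquiv n) F,
      Fintype.sum_prod_type_right]
    refine Finset.sum_congr rfl (fun d' _ => ?_)
    rw [map_mul, mon, map_monOf]
    have e3 : Ψ (MvPolynomial.C (r' d')) = ψ₀ (r' d') := by simp [hΨ]
    have e4 : (fun i : Fin n => Ψ (MvPolynomial.X i)) = fun i : Fin n => θ i.succ := by
      funext i; simp [hΨ]
    rw [e3, e4, hρ d', Finset.sum_mul]
    refine Finset.sum_congr rfl (fun j _ => ?_)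
    ring

section esymm
variable {R : Type u} [CommRing R] {n : ℕ}

/-- the ideal generated by `e_{i+1}(t) - a_i` -/
noncomputable def IIe (a : Fin n → R) : Ideal (MvPolynomial (Fin n) R) :=
  Ideal.span (Set.range fun i : Fin n =>
    MvPolynomial.esymm (Fin n) R ((i : ℕ) + 1) - MvPolynomial.C (a i))

/-- the monic polynomial `X^n - a_0 X^(n-1) + a_1 X^(n-2) - ⋯` -/
noncomputable def fa (a : Fin n → R) : R[X] :=
  X ^ n + ∑ j : Fin n, C ((-1) ^ ((j : ℕ) + 1) * a j) * X ^ (n - 1 - (j : ℕ))

theorem fa_degree_lt (a : Fin n → R) :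
    (∑ j : Fin n, C ((-1) ^ ((j : ℕ) + 1) * a j) * X ^ (n - 1 - (j : ℕ))).degree <
      (n : WithBot ℕ) := by
  refine lt_of_le_of_lt (Polynomial.degree_sum_le _ _) ?_
  rw [Finset.sup_lt_iff (by exact WithBot.bot_lt_coe n)]
  intro j _
  refine lt_of_le_of_lt (Polynomial.degree_C_mul_X_pow_le _ _) ?_
  have := j.isLt
  exact_mod_cast (by omega : n - 1 - (j : ℕ) < n)

theorem fa_monic (a : Fin n → R) : (fa a).Monic :=
  Polynomial.monic_X_pow_add (fa_degree_lt a)

theorem fa_natDegree [Nontrivial R] (a : Fin n → R) : (fa a).natDegree = n := by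
  unfold fa
  rw [Polynomial.natDegree_add_eq_left_of_degree_lt, Polynomial.natDegree_X_pow]
  rw [Polynomial.degree_X_pow]
  exact fa_degree_lt a

theorem coeff_fa_lt (a : Fin n → R) (j : Fin n) :
    (fa a).coeff (n - 1 - (j : ℕ)) = (-1) ^ ((j : ℕ) + 1) * a j := by
  have hj := j.isLt
  unfold fa
  rw [Polynomial.coeff_add, Polynomial.coeff_X_pow, if_neg (by omega), zero_add,
    Polynomial.finsetSum_coeff, Finset.sum_eq_single j]
  · rw [Polynomial.coeff_C_mul_X_pow, if_pos rfl]
  · intro i _ hij
    rw [Polynomial.coeff_C_mul_X_pow, if_neg]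
    intro h
    apply hij
    have hi := i.isLt
    exact Fin.ext (by omega)
  · intro h; exact absurd (Finset.mem_univ j) h

theorem prod_eq_multiset (θ : Fin n → R) :
    ∏ i : Fin n, (X - C (θ i)) = ((Finset.univ.val.map θ).map (fun t => X - C t)).prod := by
  rw [Multiset.map_map]
  rfl

theorem coeff_prod_X_sub_C (θ : Fin n → R) (j : ℕ) (hj : j ≤ n) :
    (∏ i : Fin n, (X - C (θ i))).coeff (n - j) =
      (-1) ^ j * (Finset.univ.val.map θ).esymm j := by
  have hc : Multiset.card (Finset.univ.val.map θ) = n := by simp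
  rw [prod_eq_multiset, Multiset.prod_X_sub_C_coeff _ (by rw [hc]; omega), hc,
    Nat.sub_sub_self hj]

theorem IIp_fa [Nontrivial R] (a : Fin n → R) : IIp (n := n) (fa a) = IIe a := by
  have hdeg : (diffPoly (n := n) (fa a)).natDegree ≤ n := by
    unfold diffPoly
    refine le_trans (Polynomial.natDegree_sub_le _ _) (max_le ?_ ?_)
    · rw [Polynomial.natDegree_prod_of_monic _ _ (fun i _ => monic_X_sub_C _)]
      simp
    · rw [(fa_monic a).natDegree_map, fa_natDegree]
  have hcoeff : ∀ j : Fin n, (diffPoly (n := n) (fa a)).coeff (n - 1 - (j : ℕ)) =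
      (-1) ^ ((j : ℕ) + 1) *
        (MvPolynomial.esymm (Fin n) R ((j : ℕ) + 1) - MvPolynomial.C (a j)) := by
    intro j
    have hj := j.isLt
    unfold diffPoly
    rw [Polynomial.coeff_sub, Polynomial.coeff_map, coeff_fa_lt,
      show n - 1 - (j : ℕ) = n - ((j : ℕ) + 1) by omega,
      coeff_prod_X_sub_C _ _ (by omega), ← MvPolynomial.esymm_eq_multiset_esymm]
    simp only [map_mul, map_pow, map_neg, map_one]
    ring
  have hn : (diffPoly (n := n) (fa a)).coeff n = 0 := by
    unfold diffPoly
    have h1 := coeff_prod_X_sub_C (fun i : Fin n => (MvPolynomial.X i : MvPolynomial (Fin n) R)) 0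
      (Nat.zero_le n)
    rw [Nat.sub_zero] at h1
    rw [Polynomial.coeff_sub, h1, Polynomial.coeff_map]
    have h2 : (fa a).coeff n = 1 := by
      have := (fa_monic a).coeff_natDegree
      rwa [fa_natDegree] at this
    rw [h2]
    simp [Multiset.esymm]
  refine le_antisymm ?_ ?_
  · rw [IIp, Ideal.span_le]
    rintro _ ⟨k, rfl⟩
    rcases lt_trichotomy k n with hk | hk | hk
    · have e : k = n - 1 - ((⟨n - 1 - k, by omega⟩ : Fin n) : ℕ) := by
        simp only; omega
      rw [e, hcoeff]
      exact Ideal.mul_mem_left _ _ (Ideal.subset_span ⟨_, rfl⟩)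
    · rw [hk, hn]; exact zero_mem _
    · rw [Polynomial.coeff_eq_zero_of_natDegree_lt (lt_of_le_of_lt hdeg hk)]
      exact zero_mem _
  · rw [IIe, Ideal.span_le]
    rintro _ ⟨j, rfl⟩
    show MvPolynomial.esymm (Fin n) R ((j : ℕ) + 1) - MvPolynomial.C (a j) ∈ IIp (n := n) (fa a)
    have e : MvPolynomial.esymm (Fin n) R ((j : ℕ) + 1) - MvPolynomial.C (a j) =
        (-1) ^ ((j : ℕ) + 1) * (diffPoly (n := n) (fa a)).coeff (n - 1 - (j : ℕ)) := by
      rw [hcoeff, ← mul_assoc, ← mul_pow]
      simp
    rw [e]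
    exact Ideal.mul_mem_left _ _ (Ideal.subset_span ⟨_, rfl⟩)

end esymm

section main
variable {R : Type u} [CommRing R] {n : ℕ}

/-- Independence of Artin monomials modulo `(e_{i+1}(t) - a_i)`. -/
theorem indepE (a : Fin n → R) (r : DD n → R)
    (h : ∑ d, MvPolynomial.C (r d) * mon (R := R) d ∈ IIe a) : r = 0 := by
  rcases subsingleton_or_nontrivial R with hR | hR
  · funext d; exact Subsingleton.elim _ _
  · rw [← IIp_fa] at h
    exact indep (fa a) (fa_monic a) (fa_natDegree a) r h

/-- Spanning by Artin monomials modulo `(e_{i+1}(t) - a_i)`. -/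
theorem spanE (a : Fin n → R) (x : MvPolynomial (Fin n) R) :
    ∃ r : DD n → R, x - ∑ d, MvPolynomial.C (r d) * mon (R := R) d ∈ IIe a := by
  rcases subsingleton_or_nontrivial R with hR | hR
  · refine ⟨0, ?_⟩
    rw [Subsingleton.elim (x - _) 0]
    exact zero_mem _
  · obtain ⟨r, hr⟩ := span_aux n R (fa a) (fa_monic a) (fa_natDegree a) x
    rw [IIp_fa] at hr
    exact ⟨r, hr⟩

end main

end Groth.Agent.ArtinBasis57
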