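import Mathlib

set_option autoImplicit false
set_option maxHeartbeats 400000
set_option linter.style.haveILetI false
set_option linter.unusedSectionVars false

open TensorProduct Function

universe u

namespace Groth.Agent.Lib.GenFlattenU64

section Nak

variable {R M : Type*} [CommRing R] [AddCommGroup M] [Module R M]

/-- Nakayama for a nilpotent ideal, `sup` form. -/
theorem eq_top_of_sup_smul_eq_top (I : Ideal R) (hI : IsNilpotent I) (P : Submodule R M)
    (h : P ⊔ I • (⊤ : Submodule R M) = ⊤) : P = ⊤ := by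
  obtain ⟨N, hN⟩ := hI
  have key : ∀ j : ℕ, (⊤ : Submodule R M) ≤ P ⊔ I ^ j • (⊤ : Submodule R M) := by
    intro j
    induction j with
    | zero => simp
    | succ j ih =>
      calc (⊤ : Submodule R M) = P ⊔ I • (⊤ : Submodule R M) := h.symm
        _ ≤ P ⊔ I • (P ⊔ I ^ j • (⊤ : Submodule R M)) :=
            sup_le_sup_left (Submodule.smul_mono le_rfl ih) P
        _ = P ⊔ (I • P ⊔ I • (I ^ j • (⊤ : Submodule R M))) := by rw [Submodule.smul_sup]
        _ ≤ P ⊔ I ^ (j + 1) • (⊤ : Submodule R M) := by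
            refine sup_le le_sup_left (sup_le (le_trans Submodule.smul_le_right le_sup_left) ?_)
            rw [← mul_smul, ← pow_succ']
            exact le_sup_right
  have := key N
  rw [hN, Submodule.zero_eq_bot, Submodule.bot_smul, sup_bot_eq] at this
  exact top_le_iff.mp this

/-- A module with `M = I M` for a nilpotent ideal `I` is zero. -/
theorem subsingleton_of_top_le_smul_top (I : Ideal R) (hI : IsNilpotent I)
    (h : (⊤ : Submodule R M) ≤ I • (⊤ : Submodule R M)) : Subsingleton M := by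
  have h1 : (⊥ : Submodule R M) = ⊤ :=
    eq_top_of_sup_smul_eq_top I hI ⊥ (by rw [bot_sup_eq]; exact top_le_iff.mp h)
  exact (Submodule.subsingleton_iff R).mp (subsingleton_iff_bot_eq_top.mp h1)

end Nak

section FlatCoker

variable {R M N Q : Type*} [CommRing R] [AddCommGroup M] [Module R M] [AddCommGroup N] [Module R N]
  [AddCommGroup Q] [Module R Q]

/-- If `0 → M → N → Q → 0` is exact with `Q` flat, then `M/IM → N/IN` is injective. -/
theorem mem_smul_top_of_flat_coker' (u : M →ₗ[R] N) (π : N →ₗ[R] Q) (hex : Function.Exact u π)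
    (hπ : Surjective π) (hu : Injective u) [Module.Flat R Q] (I : Ideal R) (m : M)
    (hm : u m ∈ I • (⊤ : Submodule R N)) : m ∈ I • (⊤ : Submodule R M) := by
  have hinj := LinearMap.lTensor_injective_of_exact_of_flat π hπ u hu hex (R ⧸ I)
  have h0 : (u.lTensor (R ⧸ I)) ((1 : R ⧸ I) ⊗ₜ[R] m) = 0 := by
    rw [LinearMap.lTensor_tmul]
    apply (TensorProduct.quotTensorEquivQuotSMul N I).injective
    rw [map_zero, ← map_one (Ideal.Quotient.mk I), TensorProduct.quotTensorEquivQuotSMul_mk_tmul,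
      one_smul]
    exact (Submodule.Quotient.mk_eq_zero _).mpr hm
  have h1 : ((1 : R ⧸ I) ⊗ₜ[R] m) = 0 := hinj (h0.trans (map_zero _).symm)
  have h2 := congrArg (TensorProduct.quotTensorEquivQuotSMul M I) h1
  rw [map_zero, ← map_one (Ideal.Quotient.mk I), TensorProduct.quotTensorEquivQuotSMul_mk_tmul,
    one_smul] at h2
  exact (Submodule.Quotient.mk_eq_zero _).mp h2

end FlatCoker

section Quot

variable {R : Type*} [CommRing R] (I : Ideal R) {N : Type*} [AddCommGroup N] [Module R N]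

theorem exists_one_tmul_eq (z : (R ⧸ I) ⊗[R] N) : ∃ n : N, (1 : R ⧸ I) ⊗ₜ[R] n = z := by
  induction z with
  | zero => exact ⟨0, by rw [tmul_zero]⟩
  | add x y hx hy =>
    obtain ⟨a, rfl⟩ := hx
    obtain ⟨b, rfl⟩ := hy
    exact ⟨a + b, by rw [tmul_add]⟩
  | tmul l m =>
    obtain ⟨r, rfl⟩ := Ideal.Quotient.mk_surjective l
    refine ⟨r • m, ?_⟩
    have h1 : Ideal.Quotient.mk I r = r • (1 : R ⧸ I) := by
      rw [Algebra.smul_def, mul_one]; rfl
    rw [h1, TensorProduct.smul_tmul]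

theorem one_tmul_eq_zero_iff (n : N) :
    (1 : R ⧸ I) ⊗ₜ[R] n = 0 ↔ n ∈ I • (⊤ : Submodule R N) := by
  rw [← (TensorProduct.quotTensorEquivQuotSMul N I).map_eq_zero_iff,
    ← map_one (Ideal.Quotient.mk I), TensorProduct.quotTensorEquivQuotSMul_mk_tmul, one_smul,
    Submodule.Quotient.mk_eq_zero]

theorem coord_mem_of_mem_smul_top {ι : Type*} (x : ι →₀ R)
    (hx : x ∈ I • (⊤ : Submodule R (ι →₀ R))) (i : ι) : x i ∈ I := by
  refine Submodule.smul_induction_on hx (fun r hr y _ => ?_) (fun y z hy hz => ?_)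
  · rw [Finsupp.smul_apply, smul_eq_mul]
    exact I.mul_mem_right _ hr
  · rw [Finsupp.add_apply]
    exact I.add_mem hy hz

end Quot

section U

variable {R : Type u} [CommRing R] (𝔫 : Ideal R)
  {M : Type u} [AddCommGroup M] [Module R M]

theorem coord_mem_of_mem_smul_top' {F : Type*} [AddCommGroup F] [Module R F] {ι : Type*}
    (bF : Module.Basis ι R F) (x : F) (hx : x ∈ 𝔫 • (⊤ : Submodule R F)) (i : ι) :
    bF.repr x i ∈ 𝔫 := by
  refine Submodule.smul_induction_on hx (fun r hr y _ => ?_) (fun y z hy hz => ?_)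
  · rw [map_smul, Finsupp.smul_apply, smul_eq_mul]
    exact 𝔫.mul_mem_right _ hr
  · rw [map_add, Finsupp.add_apply]
    exact 𝔫.add_mem hy hz

/-- Universal flattening, given a presentation `φ : F → M` by a free module with kernel in `𝔫 F`. -/
theorem flat_baseChange_iff_of_ker_le (hnil : IsNilpotent 𝔫)
    {F : Type u} [AddCommGroup F] [Module R F] {ι : Type u} (bF : Module.Basis ι R F)
    (φ : F →ₗ[R] M) (hsurj : Surjective φ)
    (hK : ∀ x ∈ LinearMap.ker φ, x ∈ 𝔫 • (⊤ : Submodule R F))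
    (R' : Type u) [CommRing R'] [Algebra R R'] :
    Module.Flat R' (R' ⊗[R] M) ↔
      (Ideal.span {r | ∃ x ∈ LinearMap.ker φ, ∃ i, bF.repr x i = r}).map (algebraMap R R') = ⊥ := by
  classical
  let φ' : R' ⊗[R] F →ₗ[R'] R' ⊗[R] M := φ.baseChange R'
  have hφ' : ∀ z, φ' z = (φ.lTensor R') z := fun z => rfl
  have hφ's : Surjective φ' := LinearMap.lTensor_surjective R' hsurj
  have hex : Function.Exact ((LinearMap.ker φ).subtype.lTensor R') (φ.lTensor R') :=
    lTensor_exact R' (LinearMap.exact_subtype_ker_map φ) hsurj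
  have hkerφ' : ∀ y, φ' y = 0 ↔ ∃ z, ((LinearMap.ker φ).subtype.lTensor R') z = y := by
    intro y
    rw [hφ']
    exact hex y
  constructor
  · -- flat ⇒ J R' = 0
    intro hfl
    set 𝔫' : Ideal R' := 𝔫.map (algebraMap R R') with h𝔫'
    have hnil' : IsNilpotent 𝔫' := by
      obtain ⟨N, hN⟩ := hnil
      refine ⟨N, ?_⟩
      rw [h𝔫', ← Ideal.map_pow, hN, Ideal.zero_eq_bot, Ideal.map_bot]
      rfl
    have hmem : ∀ y ∈ LinearMap.ker φ', y ∈ 𝔫' • (⊤ : Submodule R' (R' ⊗[R] F)) := by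
      intro y hy
      obtain ⟨z, rfl⟩ := (hkerφ' y).mp (LinearMap.mem_ker.mp hy)
      induction z with
      | zero => rw [map_zero]; exact Submodule.zero_mem _
      | add z₁ z₂ h₁ h₂ =>
        rw [map_add]
        refine Submodule.add_mem _ (h₁ ?_) (h₂ ?_)
        · rw [LinearMap.mem_ker, hφ']; exact hex.apply_apply_eq_zero _
        · rw [LinearMap.mem_ker, hφ']; exact hex.apply_apply_eq_zero _
      | tmul r' x =>
        rw [LinearMap.lTensor_tmul, Submodule.subtype_apply]
        have hx := hK x.1 x.2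
        refine Submodule.smul_induction_on hx (fun n hn w _ => ?_) (fun w₁ w₂ h₁ h₂ => ?_)
        · have : r' ⊗ₜ[R] (n • w) = algebraMap R R' n • (r' ⊗ₜ[R] w) := by
            rw [TensorProduct.tmul_smul, TensorProduct.smul_tmul', TensorProduct.smul_tmul',
              Algebra.smul_def, smul_eq_mul]
          rw [this]
          exact Submodule.smul_mem_smul (Ideal.mem_map_of_mem _ hn) Submodule.mem_top
        · rw [tmul_add]
          exact Submodule.add_mem _ h₁ h₂
    have hK' : Subsingleton (LinearMap.ker φ') := by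
      apply subsingleton_of_top_le_smul_top 𝔫' hnil'
      intro m _
      exact mem_smul_top_of_flat_coker' (LinearMap.ker φ').subtype φ'
        (LinearMap.exact_subtype_ker_map φ') hφ's (Submodule.injective_subtype _) 𝔫' m
        (hmem m.1 m.2)
    have hzero : ∀ x ∈ LinearMap.ker φ, (1 : R') ⊗ₜ[R] x = 0 := by
      intro x hx
      have hmemK : (1 : R') ⊗ₜ[R] x ∈ LinearMap.ker φ' := by
        rw [LinearMap.mem_ker, LinearMap.baseChange_tmul, LinearMap.mem_ker.mp hx, tmul_zero]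
      have := Subsingleton.elim (⟨_, hmemK⟩ : LinearMap.ker φ') 0
      exact congrArg Subtype.val this
    rw [Ideal.map_span, Ideal.span_eq_bot]
    rintro _ ⟨_, ⟨x, hx, i, rfl⟩, rfl⟩
    have h1 := congrArg (fun z => TensorProduct.rid R R' ((bF.coord i).lTensor R' z))
      (hzero x hx)
    simp only [LinearMap.lTensor_tmul, Module.Basis.coord_apply, TensorProduct.rid_tmul,
      map_zero] at h1
    rw [Algebra.smul_def, mul_one] at h1
    exact h1
  · -- J R' = 0 ⇒ flat
    intro hJ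
    have hzero : ∀ z, ((LinearMap.ker φ).subtype.lTensor R') z = 0 := by
      intro z
      induction z with
      | zero => rw [map_zero]
      | add z₁ z₂ h₁ h₂ => rw [map_add, h₁, h₂, add_zero]
      | tmul r' x =>
        rw [LinearMap.lTensor_tmul, Submodule.subtype_apply]
        have hcoord : ∀ i, algebraMap R R' (bF.repr x.1 i) = 0 := by
          intro i
          have : algebraMap R R' (bF.repr x.1 i) ∈
              (Ideal.span {r | ∃ x ∈ LinearMap.ker φ, ∃ i, bF.repr x i = r}).map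
                (algebraMap R R') :=
            Ideal.mem_map_of_mem _ (Ideal.subset_span ⟨x.1, x.2, i, rfl⟩)
          rw [hJ] at this
          exact this
        rw [← bF.linearCombination_repr x.1, Finsupp.linearCombination_apply, Finsupp.sum, tmul_sum]
        refine Finset.sum_eq_zero (fun i _ => ?_)
        rw [TensorProduct.tmul_smul, TensorProduct.smul_tmul', Algebra.smul_def, hcoord,
          zero_mul, zero_tmul]
    have hinj : Injective φ' := by
      rw [injective_iff_map_eq_zero]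
      intro y hy
      obtain ⟨z, rfl⟩ := (hkerφ' y).mp hy
      exact hzero z
    haveI : Module.Free R F := Module.Free.of_basis bF
    exact Module.Flat.of_linearEquiv (LinearEquiv.ofBijective φ' ⟨hinj, hφ's⟩).symm

/-- **Universal flattening for a nilpotent thickening.** If `M/𝔫M` is free over `R/𝔫` with `𝔫`
nilpotent, there is an ideal `J ≤ 𝔫` such that `R' ⊗ M` is flat over `R'` iff `J R' = 0`. -/
theorem exists_flattening_ideal (hnil : IsNilpotent 𝔫)
    [Module.Free (R ⧸ 𝔫) ((R ⧸ 𝔫) ⊗[R] M)] :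
    ∃ J : Ideal R, J ≤ 𝔫 ∧ ∀ (R' : Type u) [CommRing R'] [Algebra R R'],
      Module.Flat R' (R' ⊗[R] M) ↔ J.map (algebraMap R R') = ⊥ := by
  classical
  let ι := Module.Free.ChooseBasisIndex (R ⧸ 𝔫) ((R ⧸ 𝔫) ⊗[R] M)
  let β : Module.Basis ι (R ⧸ 𝔫) ((R ⧸ 𝔫) ⊗[R] M) :=
    Module.Free.chooseBasis (R ⧸ 𝔫) ((R ⧸ 𝔫) ⊗[R] M)
  choose b hb using fun i => exists_one_tmul_eq 𝔫 (β i)
  let bF : Module.Basis ι R (ι →₀ R) := Finsupp.basisSingleOne
  let φ : (ι →₀ R) →ₗ[R] M := Finsupp.linearCombination R b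
  let βF : Module.Basis ι (R ⧸ 𝔫) ((R ⧸ 𝔫) ⊗[R] (ι →₀ R)) := bF.baseChange (R ⧸ 𝔫)
  have hψ : ∀ i, (φ.baseChange (R ⧸ 𝔫)) (βF i) = β i := by
    intro i
    rw [Module.Basis.baseChange_apply, LinearMap.baseChange_tmul, Finsupp.coe_basisSingleOne,
      Finsupp.linearCombination_single, one_smul, hb]
  let E : (R ⧸ 𝔫) ⊗[R] (ι →₀ R) ≃ₗ[R ⧸ 𝔫] (R ⧸ 𝔫) ⊗[R] M := βF.equiv β (Equiv.refl ι)
  have hE : ∀ z, (φ.baseChange (R ⧸ 𝔫)) z = E z := by
    have : φ.baseChange (R ⧸ 𝔫) = E.toLinearMap := βF.ext (fun i => by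
      rw [hψ, LinearEquiv.coe_coe, Module.Basis.equiv_apply]; rfl)
    intro z
    rw [this]; rfl
  -- surjectivity
  have hsurj : Surjective φ := by
    rw [← LinearMap.range_eq_top]
    apply eq_top_of_sup_smul_eq_top 𝔫 hnil
    rw [eq_top_iff]
    intro m _
    obtain ⟨x, hx⟩ := exists_one_tmul_eq 𝔫 (E.symm ((1 : R ⧸ 𝔫) ⊗ₜ[R] m))
    have h1 : (1 : R ⧸ 𝔫) ⊗ₜ[R] (m - φ x) = 0 := by
      rw [tmul_sub, ← LinearMap.baseChange_tmul, hx, hE, LinearEquiv.apply_symm_apply, sub_self]
    have h2 : m - φ x ∈ 𝔫 • (⊤ : Submodule R M) := (one_tmul_eq_zero_iff 𝔫 _).mp h1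
    have h3 : m = φ x + (m - φ x) := by abel
    rw [h3]
    exact Submodule.add_mem_sup (LinearMap.mem_range_self _ _) h2
  -- the kernel
  have hK : ∀ x ∈ LinearMap.ker φ, x ∈ 𝔫 • (⊤ : Submodule R (ι →₀ R)) := by
    intro x hx
    rw [← one_tmul_eq_zero_iff 𝔫]
    apply E.injective
    rw [← hE, LinearMap.baseChange_tmul, LinearMap.mem_ker.mp hx, tmul_zero, map_zero]
  refine ⟨Ideal.span {r | ∃ x ∈ LinearMap.ker φ, ∃ i, bF.repr x i = r}, ?_, ?_⟩
  · rw [Ideal.span_le]
    rintro _ ⟨x, hx, i, rfl⟩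
    exact coord_mem_of_mem_smul_top' 𝔫 bF x (hK x hx) i
  intro R' _ _
  exact flat_baseChange_iff_of_ker_le 𝔫 hnil bF φ hsurj hK R'

end U

end Groth.Agent.Lib.GenFlattenU64
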