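import Groth.Agent.Lib.FlatCrit
import Groth.Agent.Lib.GenFlattenU64

/-!
# Flatness over a local ring with a socle element, tested at primes (helper64)

`flat_of_socle`: the abstract core of EGA IV 11.4 (flatness over an Artinian local base tested on a
family of local base changes).  `R` is a local ring, `δ` an element of its maximal ideal `𝔫` killed
by `𝔫`; `N` is a module over an `R`-algebra `C` on which a submonoid `S ⊆ C` acts bijectively.
If `N/δN` is flat over `R/δ`, if every `n` with `δ n = 0` lies in `𝔫 N` locally at all primes `Q`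
of `C` containing `I₀` and `𝔫 C` and disjoint from `S`, and if `N/𝔫N` is `I₀`-adically separated,
then `N` is flat over `R`.
-/

set_option autoImplicit false
universe u

open TensorProduct Function IsLocalRing

namespace Groth.Agent.Lib.ArtinFamA64

section Core

variable {R : Type u} [CommRing R] [IsLocalRing R] (δ : R)
  {C : Type u} [CommRing C] [Algebra R C] (S : Submonoid C) (I₀ : Ideal C)
  {N : Type u} [AddCommGroup N] [Module R N] [Module C N] [IsScalarTower R C N]

/-- `𝔫 N` is stable under the action of `C`. -/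
theorem smul_mem_max_smul_top (c : C) {n : N}
    (hn : n ∈ maximalIdeal R • (⊤ : Submodule R N)) :
    c • n ∈ maximalIdeal R • (⊤ : Submodule R N) := by
  refine Submodule.smul_induction_on hn (fun r hr m _ => ?_) (fun x y hx hy => ?_)
  · rw [smul_comm]
    exact Submodule.smul_mem_smul hr trivial
  · rw [smul_add]
    exact Submodule.add_mem _ hx hy

variable (hδ : ∀ r ∈ maximalIdeal R, r * δ = 0)
  (hS : ∀ s ∈ S, Bijective fun n : N => s • n)
  (hloc : ∀ n : N, δ • n = 0 → ∀ Q : Ideal C, Q.IsPrime → I₀ ≤ Q → Disjoint (Q : Set C) S →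
    (maximalIdeal R).map (algebraMap R C) ≤ Q →
      ∃ c ∉ Q, c • n ∈ maximalIdeal R • (⊤ : Submodule R N))

include hS hloc in
/-- One step: an element killed by `δ` is, modulo `𝔫 N`, in `I₀` times such an element. -/
theorem exists_step (n : N) (hn : δ • n = 0) :
    ∃ n₁ : N, δ • n₁ = 0 ∧ ∃ b ∈ I₀, n - b • n₁ ∈ maximalIdeal R • (⊤ : Submodule R N) := by
  -- the ideal of `c` with `c n ∈ 𝔫 N`
  let P₁ : Ideal C :=
    { carrier := {c | c • n ∈ maximalIdeal R • (⊤ : Submodule R N)}
      add_mem' := fun {a b} ha hb => by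
        change (a + b) • n ∈ maximalIdeal R • (⊤ : Submodule R N)
        rw [add_smul]
        exact Submodule.add_mem _ ha hb
      zero_mem' := by
        change (0 : C) • n ∈ maximalIdeal R • (⊤ : Submodule R N)
        rw [zero_smul]
        exact Submodule.zero_mem _
      smul_mem' := fun c a ha => by
        change (c • a) • n ∈ maximalIdeal R • (⊤ : Submodule R N)
        rw [smul_eq_mul, mul_smul]
        exact smul_mem_max_smul_top c ha }
  have hP₁ : ∀ c, c ∈ P₁ ↔ c • n ∈ maximalIdeal R • (⊤ : Submodule R N) := fun c => Iff.rfl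
  have hmax : (maximalIdeal R).map (algebraMap R C) ≤ P₁ := by
    rw [Ideal.map_le_iff_le_comap]
    intro r hr
    rw [Ideal.mem_comap, hP₁, algebraMap_smul]
    exact Submodule.smul_mem_smul hr trivial
  have hex : ∃ s ∈ S, s ∈ P₁ ⊔ I₀ := by
    by_contra hcon
    push Not at hcon
    have hdis : Disjoint ((P₁ ⊔ I₀ : Ideal C) : Set C) S := by
      rw [Set.disjoint_left]
      intro x hx hxS
      exact hcon x hxS hx
    obtain ⟨Q, hQ, hle, hQS⟩ := Ideal.exists_le_prime_disjoint (P₁ ⊔ I₀) S hdis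
    obtain ⟨c, hcQ, hc⟩ := hloc n hn Q hQ (le_trans le_sup_right hle) hQS
      (le_trans hmax (le_trans le_sup_left hle))
    exact hcQ (hle (Ideal.mem_sup_left ((hP₁ c).mpr hc)))
  obtain ⟨s, hsS, hs⟩ := hex
  obtain ⟨a, ha, b, hb, rfl⟩ := Submodule.mem_sup.mp hs
  obtain ⟨n₁, hn₁⟩ := (hS _ hsS).2 n
  have hn₁' : (a + b) • n₁ = n := hn₁
  have hinj := (hS _ hsS).1
  refine ⟨n₁, ?_, b, hb, ?_⟩
  · apply hinj
    change (a + b) • (δ • n₁) = (a + b) • (0 : N)
    rw [smul_zero, smul_comm, hn₁', hn]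
  · -- `n - b n₁ = a n₁`, and `(a+b) (a n₁) = a n ∈ 𝔫 N`
    have h1 : n - b • n₁ = a • n₁ := by
      rw [← hn₁', add_smul]; abel
    rw [h1]
    have h2 : (a + b) • (a • n₁) ∈ maximalIdeal R • (⊤ : Submodule R N) := by
      rw [smul_comm, hn₁']
      exact (hP₁ a).mp ha
    -- divide by `s = a + b`
    have hdiv : ∀ y ∈ maximalIdeal R • (⊤ : Submodule R N),
        ∃ y' ∈ maximalIdeal R • (⊤ : Submodule R N), (a + b) • y' = y := by
      intro y hy
      refine Submodule.smul_induction_on hy (fun r hr m _ => ?_) (fun x y hx hy => ?_)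
      · obtain ⟨m', hm'⟩ := (hS _ hsS).2 m
        refine ⟨r • m', Submodule.smul_mem_smul hr trivial, ?_⟩
        rw [smul_comm]
        exact congrArg (r • ·) hm'
      · obtain ⟨x', hx', ex⟩ := hx
        obtain ⟨y', hy', ey⟩ := hy
        exact ⟨x' + y', Submodule.add_mem _ hx' hy', by rw [smul_add, ex, ey]⟩
    obtain ⟨y', hy', ey⟩ := hdiv _ h2
    have : a • n₁ = y' := hinj ey.symm
    rw [this]
    exact hy'

include hS hloc in
/-- Elements killed by `δ` are in `I₀ ^ j N + 𝔫 N` for all `j`. -/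
theorem exists_pow (j : ℕ) : ∀ n : N, δ • n = 0 →
    ∃ y ∈ (I₀ ^ j) • (⊤ : Submodule C N), n - y ∈ maximalIdeal R • (⊤ : Submodule R N) := by
  induction j with
  | zero =>
    intro n _
    refine ⟨n, ?_, by rw [sub_self]; exact Submodule.zero_mem _⟩
    rw [pow_zero, Ideal.one_eq_top, Submodule.top_smul]
    trivial
  | succ j ih =>
    intro n hn
    obtain ⟨n₁, hn₁, b, hb, hnb⟩ := exists_step δ S I₀ hS hloc n hn
    obtain ⟨y, hy, hny⟩ := ih n₁ hn₁
    refine ⟨b • y, ?_, ?_⟩
    · rw [pow_succ', mul_smul]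
      exact Submodule.smul_mem_smul hb hy
    · have : n - b • y = (n - b • n₁) + b • (n₁ - y) := by
        rw [smul_sub]; abel
      rw [this]
      exact Submodule.add_mem _ hnb (smul_mem_max_smul_top b hny)

variable (hδm : δ ∈ maximalIdeal R)
  (hsep : ∀ n : N, (∀ j : ℕ, ∃ y ∈ (I₀ ^ j) • (⊤ : Submodule C N),
    n - y ∈ maximalIdeal R • (⊤ : Submodule R N)) → n ∈ maximalIdeal R • (⊤ : Submodule R N))

include hδ hδm hS hloc hsep in
/-- **Flatness from a socle element, tested at primes.** -/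
theorem flat_of_socle
    [Module.Flat (R ⧸ Ideal.span {δ}) ((R ⧸ Ideal.span {δ}) ⊗[R] N)] : Module.Flat R N := by
  have key : ∀ n : N, δ • n = 0 → n ∈ maximalIdeal R • (⊤ : Submodule R N) := fun n hn =>
    hsep n (fun j => exists_pow δ S I₀ hS hloc j n hn)
  have hnil : IsNilpotent (Ideal.span {δ} : Ideal R) := by
    refine ⟨2, ?_⟩
    rw [Ideal.span_singleton_pow, pow_two, hδ δ hδm, Ideal.zero_eq_bot, Ideal.span_singleton_eq_bot]
  refine Groth.Agent.Lib.FlatCrit.flat_of_isNilpotent (Ideal.span {δ}) hnil ?_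
  have hδI : δ ∈ (Ideal.span {δ} : Ideal R) := Ideal.mem_span_singleton_self δ
  -- every element of `(δ) ⊗ N` is `δ ⊗ n`
  have hform : ∀ z : (Ideal.span {δ} : Ideal R) ⊗[R] N,
      ∃ n : N, z = (⟨δ, hδI⟩ : (Ideal.span {δ} : Ideal R)) ⊗ₜ[R] n := by
    intro z
    induction z with
    | zero => exact ⟨0, by rw [tmul_zero]⟩
    | add x y hx hy =>
      obtain ⟨a, rfl⟩ := hx
      obtain ⟨b, rfl⟩ := hy
      exact ⟨a + b, by rw [tmul_add]⟩
    | tmul x m =>
      obtain ⟨x, hx⟩ := x
      obtain ⟨r, rfl⟩ := Ideal.mem_span_singleton'.mp hx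
      refine ⟨r • m, ?_⟩
      have : (⟨r * δ, hx⟩ : (Ideal.span {δ} : Ideal R)) = r • ⟨δ, hδI⟩ := by
        apply Subtype.ext
        simp
      rw [this, TensorProduct.smul_tmul]
  rw [injective_iff_map_eq_zero]
  intro z hz
  obtain ⟨n, rfl⟩ := hform z
  rw [LinearMap.rTensor_tmul] at hz
  have h0 : δ • n = 0 := by
    have := congrArg (TensorProduct.lid R N) hz
    simpa using this
  have hn := key n h0
  refine Submodule.smul_induction_on hn (fun r hr m _ => ?_) (fun x y hx hy => ?_)
  · rw [← TensorProduct.smul_tmul]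
    have : r • (⟨δ, hδI⟩ : (Ideal.span {δ} : Ideal R)) = 0 := by
      apply Subtype.ext
      simp [hδ r hr]
    rw [this, zero_tmul]
  · rw [tmul_add, hx, hy, add_zero]

end Core

end Groth.Agent.Lib.ArtinFamA64
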