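import Groth.Agent.Lib.ArtinianFlat
import Mathlib.RingTheory.Regular.RegularSequence
import Mathlib.RingTheory.Nilpotent.Basic

/-!
# Injectivity modulo ideals for maps of flat modules over Artinian local rings (helper88)

`A` local with nilpotent maximal ideal `𝔪`, `u : M → N` a linear map of flat modules, `I` a proper
ideal.  Then `u` is injective iff it is injective modulo `I` iff it is injective modulo `𝔪`, and then
`coker u` is flat.  (Relative socle argument + helper28's `ArtinianFlat`.)
-/

set_option autoImplicit false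
set_option linter.unusedSectionVars false
universe v

namespace Groth.Agent.Lib.ArtinSocle88

open TensorProduct Function IsLocalRing Groth.Agent.Lib.ArtinianFlat

section General

variable {A : Type*} [CommRing A] {M N : Type*} [AddCommGroup M] [Module A M]
  [AddCommGroup N] [Module A N]

/-- `A/I ⊗ u` is injective iff `u` is "injective modulo `I`". -/
theorem lTensor_quotient_injective_iff (I : Ideal A) (u : M →ₗ[A] N) :
    Injective (u.lTensor (A ⧸ I)) ↔
      ∀ x, u x ∈ (I • ⊤ : Submodule A N) → x ∈ (I • ⊤ : Submodule A M) := by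
  constructor
  · intro h x hx
    rw [← LinearMap.ker_tensorProductMk, LinearMap.mem_ker] at hx ⊢
    apply h
    rw [map_zero]
    exact hx
  · intro h
    rw [injective_iff_map_eq_zero]
    intro z hz
    obtain ⟨x, rfl⟩ := TensorProduct.mk_surjective A M (A ⧸ I) Ideal.Quotient.mk_surjective z
    have h1 : u x ∈ (I • ⊤ : Submodule A N) := by
      rw [← LinearMap.ker_tensorProductMk, LinearMap.mem_ker]
      exact hz
    have h2 := h x h1
    rw [← LinearMap.ker_tensorProductMk, LinearMap.mem_ker] at h2
    exact h2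

/-- For a flat module, `(IM : s) = (I : s) M`. -/
theorem mem_colon_smul_top_of_smul_mem [Module.Flat A M] (I : Ideal A) (s : A) (x : M)
    (hx : s • x ∈ (I • ⊤ : Submodule A M)) :
    x ∈ ((LinearMap.ker (I.mkQ ∘ₗ LinearMap.toSpanSingleton A A s)) • ⊤ : Submodule A M) := by
  set g : A →ₗ[A] A ⧸ I := I.mkQ ∘ₗ LinearMap.toSpanSingleton A A s with hg
  set J : Ideal A := LinearMap.ker g with hJ
  let j : A ⧸ J →ₗ[A] A ⧸ I := J.liftQ g le_rfl
  have hj : Injective j := LinearMap.ker_eq_bot.mp (Submodule.ker_liftQ_eq_bot _ _ _ le_rfl)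
  have hjM : Injective (j.rTensor M) := Module.Flat.rTensor_preserves_injective_linearMap j hj
  have h1 : j.rTensor M ((J.mkQ (1 : A)) ⊗ₜ[A] x) = 0 := by
    rw [LinearMap.rTensor_tmul]
    have h2 : j (J.mkQ (1 : A)) = s • (I.mkQ (1 : A)) := by
      show g 1 = _
      rw [hg, LinearMap.comp_apply, LinearMap.toSpanSingleton_apply, ← map_smul, smul_eq_mul,
        smul_eq_mul, mul_comm]
    rw [h2, TensorProduct.smul_tmul]
    have h3 := hx
    rw [← LinearMap.ker_tensorProductMk, LinearMap.mem_ker] at h3
    exact h3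
  have h4 : (J.mkQ (1 : A)) ⊗ₜ[A] x = 0 := hjM (by rw [h1, map_zero])
  rw [← LinearMap.ker_tensorProductMk, LinearMap.mem_ker]
  exact h4

end General

section Local

variable {A : Type*} [CommRing A] [IsLocalRing A] (hnil : IsNilpotent (maximalIdeal A))
variable {M N : Type*} [AddCommGroup M] [Module A M] [AddCommGroup N] [Module A N]

include hnil

/-- Relative socle argument: injectivity modulo a proper ideal `I` implies injectivity modulo the
maximal ideal, for a flat source. -/
theorem injMod_maximalIdeal_of_injMod [Module.Flat A M] (I : Ideal A) (hI : I ≠ ⊤)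
    (u : M →ₗ[A] N)
    (h : ∀ x, u x ∈ (I • ⊤ : Submodule A N) → x ∈ (I • ⊤ : Submodule A M)) :
    ∀ x, u x ∈ (maximalIdeal A • ⊤ : Submodule A N) →
      x ∈ (maximalIdeal A • ⊤ : Submodule A M) := by
  classical
  have hex : ∃ n, maximalIdeal A ^ n ≤ I := by
    obtain ⟨n, hn⟩ := hnil
    exact ⟨n, by rw [hn]; exact bot_le⟩
  have hn0 : Nat.find hex ≠ 0 := by
    intro h0
    have := Nat.find_spec hex
    rw [h0, pow_zero, Ideal.one_eq_top, top_le_iff] at this
    exact hI this
  obtain ⟨k, hk⟩ := Nat.exists_eq_succ_of_ne_zero hn0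
  have hk1 : ¬ maximalIdeal A ^ k ≤ I := Nat.find_min hex (by omega)
  have hk2 : maximalIdeal A ^ (k + 1) ≤ I := by
    have := Nat.find_spec hex
    rwa [hk] at this
  obtain ⟨s, hs, hsI⟩ := SetLike.not_le_iff_exists.mp hk1
  have hms : ∀ a ∈ maximalIdeal A, a * s ∈ I := by
    intro a ha
    apply hk2
    rw [pow_succ']
    exact Ideal.mul_mem_mul ha hs
  intro x hx
  -- `s • u x ∈ I N`
  have h1 : s • u x ∈ (I • ⊤ : Submodule A N) := by
    refine Submodule.smul_induction_on hx ?_ ?_
    · intro a ha n _
      rw [smul_smul, mul_comm]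
      exact Submodule.smul_mem_smul (hms a ha) Submodule.mem_top
    · intro y z hy hz
      rw [smul_add]
      exact Submodule.add_mem _ hy hz
  rw [← map_smul] at h1
  have h2 := mem_colon_smul_top_of_smul_mem I s x (h _ h1)
  refine Submodule.smul_mono ?_ le_rfl h2
  apply IsLocalRing.le_maximalIdeal
  intro htop
  have h3 : (1 : A) ∈ LinearMap.ker (I.mkQ ∘ₗ LinearMap.toSpanSingleton A A s) :=
    htop ▸ Submodule.mem_top
  rw [LinearMap.mem_ker, LinearMap.comp_apply, LinearMap.toSpanSingleton_apply, one_smul,
    Submodule.mkQ_apply, Submodule.Quotient.mk_eq_zero] at h3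
  exact hsI h3

/-- Over a local ring with nilpotent maximal ideal, a map of flat modules which is injective modulo
a proper ideal is injective with flat cokernel, and injective modulo every ideal. -/
theorem injective_and_flat_of_injMod [Module.Flat A M] [Module.Flat A N] (I : Ideal A)
    (hI : I ≠ ⊤) (u : M →ₗ[A] N)
    (h : ∀ x, u x ∈ (I • ⊤ : Submodule A N) → x ∈ (I • ⊤ : Submodule A M)) :
    Injective u ∧ Module.Flat A (N ⧸ LinearMap.range u) ∧
      ∀ J : Ideal A, ∀ x, u x ∈ (J • ⊤ : Submodule A N) → x ∈ (J • ⊤ : Submodule A M) := by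
  have h1 := injMod_maximalIdeal_of_injMod hnil I hI u h
  have h2 : Injective (u.lTensor (ResidueField A)) :=
    (lTensor_quotient_injective_iff (maximalIdeal A) u).mpr h1
  have h3 : Injective u := injective_of_lTensor_injective hnil u h2
  have h4 : Module.Flat A (N ⧸ LinearMap.range u) :=
    flat_quotient_range_of_lTensor_injective hnil u h2
  refine ⟨h3, h4, fun J => ?_⟩
  rw [← lTensor_quotient_injective_iff]
  exact lTensor_injective_of_flat_quotient h3 (LinearMap.exact_map_mkQ_range u)
    (Submodule.mkQ_surjective _) (A ⧸ J)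

/-- Version starting from injectivity. -/
theorem flat_and_injMod_of_injective [Module.Flat A M] [Module.Flat A N] (u : M →ₗ[A] N)
    (hu : Injective u) :
    Module.Flat A (N ⧸ LinearMap.range u) ∧
      ∀ J : Ideal A, ∀ x, u x ∈ (J • ⊤ : Submodule A N) → x ∈ (J • ⊤ : Submodule A M) := by
  have h := injective_and_flat_of_injMod hnil ⊥ bot_ne_top u (by
    intro x hx
    rw [Submodule.bot_smul, Submodule.mem_bot] at hx ⊢
    exact hu (by rw [hx, map_zero]))
  exact h.2

end Local

section Regular

open RingTheory.Sequence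
open scoped Pointwise

variable {A : Type*} [CommRing A] {S : Type*} [CommRing S] [Algebra A S]
variable {M : Type*} [AddCommGroup M] [Module S M] [Module A M] [IsScalarTower A S M]

/-- `(IS) M = I M` as sets. -/
theorem mem_map_smul_top_iff (I : Ideal A) (x : M) :
    x ∈ (I.map (algebraMap A S) • ⊤ : Submodule S M) ↔ x ∈ (I • ⊤ : Submodule A M) := by
  constructor
  · intro hx
    -- the `S`-submodule with carrier `I M`
    let N' : Submodule S M :=
      { carrier := (I • ⊤ : Submodule A M)
        add_mem' := fun ha hb => Submodule.add_mem _ ha hb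
        zero_mem' := Submodule.zero_mem _
        smul_mem' := fun c y hy => by
          refine Submodule.smul_induction_on (p := fun y => c • y ∈ (I • ⊤ : Submodule A M)) hy
            ?_ ?_
          · intro a ha m _
            rw [smul_comm]
            exact Submodule.smul_mem_smul ha Submodule.mem_top
          · intro y z hy hz
            rw [smul_add]
            exact Submodule.add_mem _ hy hz }
    have hle : (I.map (algebraMap A S) • ⊤ : Submodule S M) ≤ N' := by
      rw [Submodule.smul_le]
      intro b hb m _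
      have h1 : I.map (algebraMap A S) ≤ N'.comap (LinearMap.toSpanSingleton S M m) := by
        rw [Ideal.map_le_iff_le_comap]
        intro a ha
        show (algebraMap A S a) • m ∈ (I • ⊤ : Submodule A M)
        rw [algebraMap_smul]
        exact Submodule.smul_mem_smul ha Submodule.mem_top
      exact h1 hb
    exact hle hx
  · intro hx
    refine Submodule.smul_induction_on hx ?_ ?_
    · intro a ha m _
      rw [← algebraMap_smul S a m]
      exact Submodule.smul_mem_smul (Ideal.mem_map_of_mem _ ha) Submodule.mem_top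
    · intro y z hy hz
      exact Submodule.add_mem _ hy hz

variable [IsLocalRing A] (hnil : IsNilpotent (maximalIdeal A))

include hnil

/-- `r` is `M`-regular iff it is `M/IM`-regular, for `M` flat over an Artinian local ring. -/
theorem isSMulRegular_iff_quotient [Module.Flat A M] (I : Ideal A) (hI : I ≠ ⊤) (r : S) :
    IsSMulRegular M r ↔
      IsSMulRegular (M ⧸ (I.map (algebraMap A S) • ⊤ : Submodule S M)) r := by
  let u : M →ₗ[A] M := (LinearMap.lsmul S M r).restrictScalars A
  rw [isSMulRegular_quotient_iff_mem_of_smul_mem]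
  constructor
  · intro h m hm
    have h1 := (flat_and_injMod_of_injective hnil u h).2 I m
      ((mem_map_smul_top_iff I _).mp hm)
    exact (mem_map_smul_top_iff I _).mpr h1
  · intro h
    exact (injective_and_flat_of_injMod hnil I hI u (fun x hx =>
      (mem_map_smul_top_iff I _).mp (h x ((mem_map_smul_top_iff I _).mpr hx)))).1

/-- If `r` is `M`-regular, `M` flat over an Artinian local ring, then `M/rM` is flat. -/
theorem flat_quotSMulTop [Module.Flat A M] (r : S) (h : IsSMulRegular M r) :
    Module.Flat A (QuotSMulTop r M) := by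
  let u : M →ₗ[A] M := (LinearMap.lsmul S M r).restrictScalars A
  have h1 : Module.Flat A (M ⧸ LinearMap.range u) := (flat_and_injMod_of_injective hnil u h).1
  have h2 : LinearMap.range u = (r • (⊤ : Submodule S M)).restrictScalars A := by
    ext x
    rw [Submodule.restrictScalars_mem, Submodule.mem_smul_pointwise_iff_exists]
    constructor
    · rintro ⟨y, rfl⟩
      exact ⟨y, Submodule.mem_top, rfl⟩
    · rintro ⟨y, -, rfl⟩
      exact ⟨y, rfl⟩
  exact Module.Flat.of_linearEquiv ((Submodule.quotEquivOfEq _ _ h2) ≪≫ₗ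
    Submodule.Quotient.restrictScalarsEquiv A (r • (⊤ : Submodule S M))).symm

end Regular

section Ring

open scoped Pointwise

variable {A : Type*} [CommRing A] {S : Type*} [CommRing S] [Algebra A S]
variable [IsLocalRing A] (hnil : IsNilpotent (maximalIdeal A))

include hnil

theorem mem_nonZeroDivisors_iff_isSMulRegular (f : S) :
    f ∈ nonZeroDivisors S ↔ IsSMulRegular S f := by
  rw [mem_nonZeroDivisors_iff_left, isSMulRegular_iff_right_eq_zero_of_smul]
  rfl

/-- `f` is a non-zero-divisor on `S` iff it is one on `S/IS`, for `S` flat over an Artinian local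
ring and `I` a proper ideal. -/
theorem mem_nonZeroDivisors_iff_quotient [Module.Flat A S] (I : Ideal A) (hI : I ≠ ⊤) (f : S) :
    f ∈ nonZeroDivisors S ↔
      Ideal.Quotient.mk (I.map (algebraMap A S)) f ∈
        nonZeroDivisors (S ⧸ I.map (algebraMap A S)) := by
  have hreg : f ∈ nonZeroDivisors S ↔ IsSMulRegular S f := by
    rw [mem_nonZeroDivisors_iff_left, isSMulRegular_iff_right_eq_zero_of_smul]
    rfl
  have htop : (I.map (algebraMap A S) • ⊤ : Submodule S S) = I.map (algebraMap A S) := by
    rw [smul_eq_mul, Ideal.mul_top]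
  have hregI : Ideal.Quotient.mk (I.map (algebraMap A S)) f ∈
        nonZeroDivisors (S ⧸ I.map (algebraMap A S)) ↔
      IsSMulRegular (S ⧸ (I.map (algebraMap A S) • ⊤ : Submodule S S)) f := by
    rw [mem_nonZeroDivisors_iff_left, isSMulRegular_quotient_iff_mem_of_smul_mem, htop]
    constructor
    · intro h m hm
      have := h (Ideal.Quotient.mk _ m) (by
        rw [← map_mul, Ideal.Quotient.eq_zero_iff_mem]
        exact hm)
      exact Ideal.Quotient.eq_zero_iff_mem.mp this
    · intro h y hy
      obtain ⟨y, rfl⟩ := Ideal.Quotient.mk_surjective y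
      rw [← map_mul, Ideal.Quotient.eq_zero_iff_mem] at hy
      exact Ideal.Quotient.eq_zero_iff_mem.mpr (h y hy)
  rw [hreg, hregI]
  exact isSMulRegular_iff_quotient hnil I hI f

/-- `S/(f)` is flat for a non-zero-divisor `f` of a flat algebra over an Artinian local ring. -/
theorem flat_quotient_span_singleton [Module.Flat A S] (f : S) (hf : f ∈ nonZeroDivisors S) :
    Module.Flat A (S ⧸ Ideal.span {f}) := by
  have hreg : IsSMulRegular S f := by
    rw [isSMulRegular_iff_right_eq_zero_of_smul]
    exact (mem_nonZeroDivisors_iff_left.mp hf)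
  have h1 : Module.Flat A (QuotSMulTop f S) := flat_quotSMulTop hnil f hreg
  have h2 : (f • (⊤ : Submodule S S)) = Ideal.span {f} := by
    rw [← Submodule.ideal_span_singleton_smul, smul_eq_mul, Ideal.mul_top]
  exact Module.Flat.of_linearEquiv
    ((Submodule.quotEquivOfEq _ _ h2).restrictScalars A).symm

end Ring

section Seq

open RingTheory.Sequence
open scoped Pointwise

variable {A : Type*} [CommRing A] {S : Type*} [CommRing S] [Algebra A S]

/-- `(M/JM)/r(M/JM) ≃ (M/rM)/J(M/rM)`. -/
noncomputable def quotSMulTopQuotEquiv (r : S) (J : Ideal S) (M : Type*) [AddCommGroup M]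
    [Module S M] :
    QuotSMulTop r (M ⧸ (J • ⊤ : Submodule S M)) ≃ₗ[S]
      (QuotSMulTop r M ⧸ (J • ⊤ : Submodule S (QuotSMulTop r M))) :=
  QuotSMulTop.congr r (TensorProduct.quotTensorEquivQuotSMul M J).symm ≪≫ₗ
    (QuotSMulTop.tensorQuotSMulTopEquivQuotSMulTop r (S ⧸ J) M).symm ≪≫ₗ
    TensorProduct.quotTensorEquivQuotSMul (QuotSMulTop r M) J

variable [IsLocalRing A] (hnil : IsNilpotent (maximalIdeal A))

include hnil

theorem isWeaklyRegular_iff_quotient (I : Ideal A) (hI : I ≠ ⊤) (rs : List S) :
    ∀ (M : Type v) [AddCommGroup M] [Module S M] [Module A M] [IsScalarTower A S M]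
      [Module.Flat A M],
      IsWeaklyRegular M rs ↔
        IsWeaklyRegular (M ⧸ (I.map (algebraMap A S) • ⊤ : Submodule S M)) rs := by
  induction rs with
  | nil =>
    intro M _ _ _ _ _
    simp
  | cons r rs ih =>
    intro M _ _ _ _ _
    rw [isWeaklyRegular_cons_iff, isWeaklyRegular_cons_iff]
    have h1 := isSMulRegular_iff_quotient hnil (M := M) I hI r
    constructor
    · rintro ⟨hr, hrs⟩
      have := flat_quotSMulTop hnil r hr
      refine ⟨h1.mp hr, ?_⟩
      rw [(quotSMulTopQuotEquiv r _ M).isWeaklyRegular_congr]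
      exact (ih (QuotSMulTop r M)).mp hrs
    · rintro ⟨hr, hrs⟩
      have hr' := h1.mpr hr
      have := flat_quotSMulTop hnil r hr'
      refine ⟨hr', ?_⟩
      rw [(quotSMulTopQuotEquiv r _ M).isWeaklyRegular_congr] at hrs
      exact (ih (QuotSMulTop r M)).mpr hrs

theorem isNilpotent_of_mem_map (I : Ideal A) (hI : I ≠ ⊤) (b : S)
    (hb : b ∈ I.map (algebraMap A S)) : IsNilpotent b := by
  obtain ⟨n, hn⟩ := hnil
  refine ⟨n, ?_⟩
  have h1 : b ^ n ∈ (I.map (algebraMap A S)) ^ n := Ideal.pow_mem_pow hb n
  rw [← Ideal.map_pow] at h1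
  have h2 : I ^ n ≤ ⊥ := by
    rw [← Ideal.zero_eq_bot, ← hn]
    exact Ideal.pow_right_mono (IsLocalRing.le_maximalIdeal hI) n
  have h3 := Ideal.map_mono (f := algebraMap A S) h2 h1
  rwa [Ideal.map_bot, Ideal.mem_bot] at h3

theorem eq_top_iff_map_mk_eq_top (I : Ideal A) (hI : I ≠ ⊤) (𝔞 : Ideal S) :
    𝔞 = ⊤ ↔ 𝔞.map (Ideal.Quotient.mk (I.map (algebraMap A S))) = ⊤ := by
  constructor
  · rintro rfl
    exact Ideal.map_top _
  · intro h
    have h1 : (1 : S ⧸ I.map (algebraMap A S)) ∈
        𝔞.map (Ideal.Quotient.mk (I.map (algebraMap A S))) := h ▸ Submodule.mem_top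
    rw [Ideal.mem_map_iff_of_surjective _ Ideal.Quotient.mk_surjective] at h1
    obtain ⟨a, ha, ha1⟩ := h1
    have h2 : a - 1 ∈ I.map (algebraMap A S) := by
      rw [← Ideal.Quotient.eq_zero_iff_mem, map_sub, ha1, map_one, sub_self]
    have h3 : IsNilpotent (a - 1) := isNilpotent_of_mem_map hnil I hI _ h2
    have h4 : IsUnit a := by
      have := h3.isUnit_add_one
      rwa [sub_add_cancel] at this
    exact Ideal.eq_top_of_isUnit_mem _ ha h4

/-- A sequence in a flat algebra `S` over an Artinian local ring is regular iff its reduction modulo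
`IS` is regular, for a proper ideal `I`. -/
theorem isRegular_iff_quotient [Module.Flat A S] (I : Ideal A) (hI : I ≠ ⊤) (rs : List S) :
    IsRegular S rs ↔ IsRegular (S ⧸ I.map (algebraMap A S))
      (rs.map (Ideal.Quotient.mk (I.map (algebraMap A S)))) := by
  rw [isRegular_iff, isRegular_iff]
  refine and_congr ?_ ?_
  · rw [isWeaklyRegular_iff_quotient hnil I hI rs S]
    have htop : (I.map (algebraMap A S) • ⊤ : Submodule S S) = I.map (algebraMap A S) := by
      rw [smul_eq_mul, Ideal.mul_top]
    rw [(Submodule.quotEquivOfEq _ _ htop).isWeaklyRegular_congr]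
    exact (isWeaklyRegular_map_algebraMap_iff (S ⧸ I.map (algebraMap A S))
      (S ⧸ I.map (algebraMap A S)) rs).symm
  · rw [smul_eq_mul, Ideal.mul_top, smul_eq_mul, Ideal.mul_top, ← Ideal.map_ofList]
    rw [ne_comm, ne_comm (a := (⊤ : Ideal (S ⧸ I.map (algebraMap A S))))]
    exact not_congr (eq_top_iff_map_mk_eq_top hnil I hI _)

end Seq

section Lift

open RingTheory.Sequence
open scoped Pointwise

variable {A : Type*} [CommRing A] {S : Type*} [CommRing S] [Algebra A S]
variable [IsLocalRing A] (hnil : IsNilpotent (maximalIdeal A))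

include hnil

/-- Regularity of a sequence can be tested after a surjection with kernel `IS`. -/
theorem isRegular_iff_of_surjective [Module.Flat A S] (I : Ideal A) (hI : I ≠ ⊤)
    {T : Type*} [CommRing T] (φ : S →+* T) (hφ : Surjective φ)
    (hker : RingHom.ker φ = I.map (algebraMap A S)) (rs : List S) :
    IsRegular S rs ↔ IsRegular T (rs.map φ) := by
  let e : S ⧸ I.map (algebraMap A S) ≃+* T :=
    (Ideal.quotEquivOfEq hker.symm).trans (RingHom.quotientKerEquivOfSurjective hφ)
  have i1 := RingHomInvPair.of_ringEquiv e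
  have i2 := RingHomInvPair.symm (↑e : S ⧸ I.map (algebraMap A S) →+* T) (↑e.symm)
  refine (isRegular_iff_quotient hnil I hI rs).trans ?_
  refine (e.toSemilinearEquiv.isRegular_congr' _).trans ?_
  rw [List.map_map]
  have : ((RingHomClass.toRingHom e : S ⧸ I.map (algebraMap A S) →+* T) ∘
      (Ideal.Quotient.mk (I.map (algebraMap A S)))) = φ := by
    ext s
    rfl
  rw [this]

/-- Quotients of a flat module by a weakly regular sequence are flat (Artinian local base). -/
theorem flat_quotient_ofList_smul (rs : List S) :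
    ∀ (M : Type v) [AddCommGroup M] [Module S M] [Module A M] [IsScalarTower A S M]
      [Module.Flat A M], IsWeaklyRegular M rs →
      Module.Flat A (M ⧸ (Ideal.ofList rs • ⊤ : Submodule S M)) := by
  induction rs with
  | nil =>
    intro M _ _ _ _ _ _
    have h0 : (Ideal.ofList ([] : List S) • ⊤ : Submodule S M) = ⊥ := by
      rw [Ideal.ofList_nil, Submodule.bot_smul]
    exact Module.Flat.of_linearEquiv ((Submodule.quotEquivOfEqBot _ h0).restrictScalars A)
  | cons r rs ih =>
    intro M _ _ _ _ _ h
    rw [isWeaklyRegular_cons_iff] at h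
    have := flat_quotSMulTop hnil r h.1
    have := ih (QuotSMulTop r M) h.2
    exact Module.Flat.of_linearEquiv
      ((Submodule.quotOfListConsSMulTopEquivQuotSMulTopInner M r rs).restrictScalars A)

theorem flat_quotient_span_range [Module.Flat A S] {n : ℕ} (f : Fin n → S)
    (h : IsWeaklyRegular S (List.ofFn f)) : Module.Flat A (S ⧸ Ideal.span (Set.range f)) := by
  have h1 := flat_quotient_ofList_smul hnil (List.ofFn f) S h
  have h2 : (Ideal.ofList (List.ofFn f) • ⊤ : Submodule S S) = Ideal.span (Set.range f) := by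
    rw [smul_eq_mul, Ideal.mul_top]
    show Ideal.span {r | r ∈ List.ofFn f} = Ideal.span (Set.range f)
    congr 1
    ext x
    simp [List.mem_ofFn]
  exact Module.Flat.of_linearEquiv ((Submodule.quotEquivOfEq _ _ h2).restrictScalars A).symm

end Lift

end Groth.Agent.Lib.ArtinSocle88
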