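import Mathlib.RingTheory.TensorProduct.Maps
import Mathlib.RingTheory.TensorProduct.DirectLimitFG
import Mathlib.Algebra.Module.LocalizedModule.Basic
import Mathlib.RingTheory.Localization.BaseChange

/-!
# Stage modules `A ⊗[k] M` over stage rings `A ⊗[k] S` (helper88)

For `k`-algebras `A`, `S` and an `S`-module `M`, the tensor product `A ⊗[k] M` is a module over
`A ⊗[k] S` (`stageModule`, a scoped instance: `open scoped Groth.Agent.Lib.FlatLimStage88`).
-/

set_option autoImplicit false
set_option maxHeartbeats 400000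

namespace Groth.Agent.Lib.FlatLimStage88

open TensorProduct Function

section Def

variable (k : Type*) [CommRing k] (A : Type*) [CommRing A] [Algebra k A]
  (S : Type*) [CommRing S] [Algebra k S]
  (M : Type*) [AddCommGroup M] [Module k M] [Module S M] [IsScalarTower k S M]

/-- The action of `A ⊗[k] S` on `A ⊗[k] M`. -/
noncomputable def actHom : A ⊗[k] S →ₐ[A] Module.End A (A ⊗[k] M) :=
  Algebra.TensorProduct.lift (Algebra.ofId A (Module.End A (A ⊗[k] M)))
    ((Module.End.baseChangeHom k A M).comp (Algebra.lsmul k k M))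
    (fun a _ => Algebra.commutes a _)

/-- `A ⊗[k] M` as a module over `A ⊗[k] S`. -/
@[instance_reducible]
noncomputable def stageModule : Module (A ⊗[k] S) (A ⊗[k] M) :=
  Module.compHom (A ⊗[k] M) (actHom k A S M).toRingHom

scoped[Groth.Agent.Lib.FlatLimStage88] attribute [instance] stageModule

variable {k A S M}

theorem smul_def (x : A ⊗[k] S) (y : A ⊗[k] M) : x • y = actHom k A S M x y := rfl

@[simp]
theorem tmul_smul_tmul (a a' : A) (s : S) (m : M) :
    (a ⊗ₜ[k] s) • (a' ⊗ₜ[k] m) = (a * a') ⊗ₜ[k] (s • m) := by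
  rw [smul_def, actHom, Algebra.TensorProduct.lift_tmul, Module.End.mul_apply, AlgHom.comp_apply]
  have h : (Module.End.baseChangeHom k A M) (Algebra.lsmul k k M s) (a' ⊗ₜ[k] m) =
      a' ⊗ₜ[k] (s • m) := rfl
  rw [h, Algebra.ofId_apply, Algebra.algebraMap_eq_smul_one, LinearMap.smul_apply,
    Module.End.one_apply, TensorProduct.smul_tmul', smul_eq_mul]

instance : IsScalarTower A (A ⊗[k] S) (A ⊗[k] M) where
  smul_assoc a x y := by
    rw [smul_def, smul_def, map_smul, LinearMap.smul_apply]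

instance : IsScalarTower k (A ⊗[k] S) (A ⊗[k] M) where
  smul_assoc c x y := by
    rw [← algebraMap_smul A c x, ← algebraMap_smul A c (x • y), smul_assoc]

end Def

section Finite

variable {k : Type*} [CommRing k] {A : Type*} [CommRing A] [Algebra k A]
  {S : Type*} [CommRing S] [Algebra k S]
  {M : Type*} [AddCommGroup M] [Module k M] [Module S M] [IsScalarTower k S M]

theorem one_tmul_smul (s : S) (y : A ⊗[k] M) :
    ((1 : A) ⊗ₜ[k] s) • y = (Algebra.lsmul k k M s).lTensor A y := by
  induction y with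
  | zero => simp
  | add x y hx hy => simp only [smul_add, map_add, hx, hy]
  | tmul a m => simp

theorem tmul_one_smul (a : A) (y : A ⊗[k] M) :
    (a ⊗ₜ[k] (1 : S)) • y = a • y := by
  induction y with
  | zero => simp
  | add x y hx hy => simp only [smul_add, hx, hy]
  | tmul a' m => simp [TensorProduct.smul_tmul']

/-- `A ⊗[k] M` is finite over `A ⊗[k] S` when `M` is finite over `S`. -/
instance finite_stage [Module.Finite S M] : Module.Finite (A ⊗[k] S) (A ⊗[k] M) := by
  classical
  obtain ⟨T, hT⟩ := (Module.Finite.fg_top : (⊤ : Submodule S M).FG)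
  refine ⟨⟨T.image (fun m => (1 : A) ⊗ₜ[k] m), ?_⟩⟩
  rw [eq_top_iff]
  rintro y -
  induction y with
  | zero => exact Submodule.zero_mem _
  | add x y hx hy => exact Submodule.add_mem _ hx hy
  | tmul a m =>
    have hm : m ∈ Submodule.span S (T : Set M) := by rw [hT]; trivial
    refine Submodule.span_induction ?_ ?_ ?_ ?_ hm
    · intro m' hm'
      have : a ⊗ₜ[k] m' = (a ⊗ₜ[k] (1 : S)) • ((1 : A) ⊗ₜ[k] m') := by simp
      rw [this]
      refine Submodule.smul_mem _ _ (Submodule.subset_span ?_)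
      simp only [Finset.coe_image, Set.mem_image, Finset.mem_coe]
      exact ⟨m', hm', rfl⟩
    · simp
    · intro x y _ _ hx hy
      rw [tmul_add]
      exact Submodule.add_mem _ hx hy
    · intro s x _ hx
      have : a ⊗ₜ[k] (s • x) = ((1 : A) ⊗ₜ[k] s) • (a ⊗ₜ[k] x) := by simp
      rw [this]
      exact Submodule.smul_mem _ _ hx

end Finite

section StageMap

variable (k : Type*) [CommRing k] (A : Type*) [CommRing A] [Algebra k A]
  {S : Type*} [CommRing S] [Algebra k S]
  {M : Type*} [AddCommGroup M] [Module k M] [Module S M] [IsScalarTower k S M]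
  {M' : Type*} [AddCommGroup M'] [Module k M'] [Module S M'] [IsScalarTower k S M']

/-- `A ⊗ f` as an `A ⊗[k] S`-linear map. -/
noncomputable def stageMap (f : M →ₗ[S] M') : A ⊗[k] M →ₗ[A ⊗[k] S] A ⊗[k] M' where
  toFun := (f.restrictScalars k).lTensor A
  map_add' := map_add _
  map_smul' x y := by
    simp only [RingHom.id_apply]
    induction x with
    | zero => simp
    | add x₁ x₂ h₁ h₂ => simp only [add_smul, map_add, h₁, h₂]
    | tmul a s =>
      induction y with
      | zero => simp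
      | add y₁ y₂ h₁ h₂ => simp only [smul_add, map_add, h₁, h₂]
      | tmul a' m => simp

@[simp]
theorem stageMap_tmul (f : M →ₗ[S] M') (a : A) (m : M) :
    stageMap k A f (a ⊗ₜ[k] m) = a ⊗ₜ[k] f m := rfl

theorem stageMap_apply (f : M →ₗ[S] M') (y : A ⊗[k] M) :
    stageMap k A f y = (f.restrictScalars k).lTensor A y := rfl

end StageMap

section Loc

variable (k : Type*) [CommRing k] (A : Type*) [CommRing A] [Algebra k A]
  {S : Type*} [CommRing S] [Algebra k S]
  {M : Type*} [AddCommGroup M] [Module k M] [Module S M] [IsScalarTower k S M]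
  {Y : Type*} [AddCommGroup Y] [Module k Y] [Module S Y] [IsScalarTower k S Y]
  (W : Submonoid S) (ι : M →ₗ[S] Y) [IsLocalizedModule W ι]

/-- The image of a submonoid of `S` in `A ⊗[k] S`. -/
def stageSubmonoid : Submonoid (A ⊗[k] S) :=
  W.map (Algebra.TensorProduct.includeRight : S →ₐ[k] A ⊗[k] S)

theorem mem_stageSubmonoid {x : A ⊗[k] S} :
    x ∈ stageSubmonoid k A W ↔ ∃ w ∈ W, (1 : A) ⊗ₜ[k] w = x := by
  simp [stageSubmonoid, Submonoid.mem_map]

theorem comm_one_tmul_smul (s : S) (x : A ⊗[k] M) :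
    TensorProduct.comm k A M (((1 : A) ⊗ₜ[k] s) • x) = s • TensorProduct.comm k A M x := by
  induction x with
  | zero => simp
  | add x y hx hy => simp only [smul_add, map_add, hx, hy]
  | tmul a m => simp [TensorProduct.smul_tmul']

include W in
theorem isLocalizedModule_stageMap :
    IsLocalizedModule (stageSubmonoid k A W) (stageMap k A ι) where
  map_units := by
    rintro ⟨x, hx⟩
    obtain ⟨w, hw, rfl⟩ := (mem_stageSubmonoid k A W).mp hx
    rw [Module.End.isUnit_iff]
    obtain ⟨u, hu⟩ := IsLocalizedModule.map_units ι ⟨w, hw⟩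
    have h1 : ∀ y : Y, (u : Module.End S Y) y = w • y := fun y => by rw [hu]; rfl
    rw [Function.bijective_iff_has_inverse]
    refine ⟨((u⁻¹ : (Module.End S Y)ˣ) : Module.End S Y).restrictScalars k |>.lTensor A, ?_, ?_⟩
    · intro y
      change LinearMap.lTensor A _ (((1 : A) ⊗ₜ[k] w) • y) = y
      induction y with
      | zero => simp
      | add x y hx hy => simp only [smul_add, map_add, hx, hy]
      | tmul a y =>
        simp only [tmul_smul_tmul, one_mul, LinearMap.lTensor_tmul, LinearMap.coe_restrictScalars]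
        rw [← h1, ← Module.End.mul_apply, Units.inv_mul, Module.End.one_apply]
    · intro y
      change ((1 : A) ⊗ₜ[k] w) • LinearMap.lTensor A _ y = y
      induction y with
      | zero => simp
      | add x y hx hy => simp only [smul_add, map_add, hx, hy]
      | tmul a y =>
        simp only [tmul_smul_tmul, one_mul, LinearMap.lTensor_tmul, LinearMap.coe_restrictScalars]
        rw [← h1, ← Module.End.mul_apply, Units.mul_inv, Module.End.one_apply]
  surj y := by
    induction y with
    | zero => exact ⟨⟨0, 1⟩, by simp⟩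
    | add y₁ y₂ h₁ h₂ =>
      obtain ⟨⟨x₁, w₁⟩, e₁⟩ := h₁
      obtain ⟨⟨x₂, w₂⟩, e₂⟩ := h₂
      refine ⟨⟨(w₂ : A ⊗[k] S) • x₁ + (w₁ : A ⊗[k] S) • x₂, w₁ * w₂⟩, ?_⟩
      simp only at e₁ e₂ ⊢
      rw [map_add, map_smul, map_smul, ← e₁, ← e₂, Submonoid.smul_def, Submonoid.smul_def,
        Submonoid.smul_def, Submonoid.coe_mul, smul_add, mul_smul, mul_smul,
        smul_comm (w₁ : A ⊗[k] S) (w₂ : A ⊗[k] S) y₁]
    | tmul a y =>
      obtain ⟨⟨m, w⟩, e⟩ := IsLocalizedModule.surj W ι y
      refine ⟨⟨a ⊗ₜ[k] m, ⟨(1 : A) ⊗ₜ[k] (w : S), (mem_stageSubmonoid k A W).mpr ⟨w, w.2, rfl⟩⟩⟩, ?_⟩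
      simp only at e ⊢
      rw [Submonoid.smul_def]
      simp only [tmul_smul_tmul, one_mul, stageMap_tmul]
      rw [← e, Submonoid.smul_def]
  exists_of_eq {x₁ x₂} h := by
    have h1 : (AlgebraTensorModule.rTensor k A ι) (TensorProduct.comm k A M x₁) =
        (AlgebraTensorModule.rTensor k A ι) (TensorProduct.comm k A M x₂) := by
      change (LinearMap.rTensor A (ι.restrictScalars k)) _ = (LinearMap.rTensor A (ι.restrictScalars k)) _
      rw [LinearMap.rTensor_comm, LinearMap.rTensor_comm]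
      exact congrArg _ h
    obtain ⟨w, hw⟩ := IsLocalizedModule.exists_of_eq (S := W) h1
    refine ⟨⟨(1 : A) ⊗ₜ[k] (w : S), (mem_stageSubmonoid k A W).mpr ⟨w, w.2, rfl⟩⟩, ?_⟩
    rw [Submonoid.smul_def, Submonoid.smul_def]
    apply (TensorProduct.comm k A M).injective
    rw [comm_one_tmul_smul, comm_one_tmul_smul]
    exact hw

end Loc

section Comp

variable {C M M' N : Type*} [CommRing C] [AddCommGroup M] [Module C M] [AddCommGroup M']
  [Module C M'] [AddCommGroup N] [Module C N]

/-- Localization in stages (same statement as helper77's `H77GenFlatAlg.isLocalizedModule_of_comp`,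
restated here to keep this file Mathlib-only). -/
theorem isLocalizedModule_of_comp (T V : Submonoid C) (hTV : T ≤ V) (g₁ : M →ₗ[C] M')
    [IsLocalizedModule T g₁] (g : M →ₗ[C] N) [IsLocalizedModule V g] (g' : M' →ₗ[C] N)
    (hg' : g' ∘ₗ g₁ = g) : IsLocalizedModule V g' where
  map_units s := IsLocalizedModule.map_units g s
  surj y := by
    obtain ⟨⟨m, s⟩, hm⟩ := IsLocalizedModule.surj V g y
    exact ⟨⟨g₁ m, s⟩, by rw [hm, ← hg']; rfl⟩
  exists_of_eq {x₁ x₂} h := by
    obtain ⟨⟨m₁, t₁⟩, h₁⟩ := IsLocalizedModule.surj T g₁ x₁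
    obtain ⟨⟨m₂, t₂⟩, h₂⟩ := IsLocalizedModule.surj T g₁ x₂
    simp only at h₁ h₂
    have e1 : g ((t₂ : C) • m₁) = g ((t₁ : C) • m₂) := by
      rw [← hg']
      simp only [LinearMap.coe_comp, Function.comp_apply, map_smul]
      rw [← h₁, ← h₂]
      simp only [Submonoid.smul_def, map_smul, h]
      rw [smul_comm]
    obtain ⟨s, hs⟩ := IsLocalizedModule.exists_of_eq (S := V) (f := g) e1
    refine ⟨s * ⟨t₁ * t₂, hTV (t₁ * t₂).2⟩, ?_⟩
    simp only [Submonoid.smul_def, Submonoid.coe_mul] at hs ⊢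
    have a1 : ((s : C) * ((t₁ : C) * (t₂ : C))) • x₁ = g₁ ((s : C) • (t₂ : C) • m₁) := by
      rw [map_smul, map_smul, ← h₁, Submonoid.smul_def, smul_smul, smul_smul]
      congr 1; ring
    have a2 : ((s : C) * ((t₁ : C) * (t₂ : C))) • x₂ = g₁ ((s : C) • (t₁ : C) • m₂) := by
      rw [map_smul, map_smul, ← h₂, Submonoid.smul_def, smul_smul, smul_smul]
      congr 1; ring
    rw [a1, a2, hs]

end Comp

section Lam

variable (k : Type*) [CommRing k] (A : Type*) [CommRing A] [Algebra k A]
  {S : Type*} [CommRing S] [Algebra k S]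
  {M : Type*} [AddCommGroup M] [Module k M] [Module S M] [IsScalarTower k S M]
  {Y : Type*} [AddCommGroup Y] [Module k Y] [Module S Y] [IsScalarTower k S Y]
  (W : Submonoid S) (ι : M →ₗ[S] Y) [IsLocalizedModule W ι]
  (V : Submonoid (A ⊗[k] S)) (hWV : stageSubmonoid k A W ≤ V)

/-- The canonical map `A ⊗ W⁻¹M → V⁻¹(A ⊗ M)` when the image of `W` lies in `V`. -/
noncomputable def lamOf : A ⊗[k] Y →ₗ[A ⊗[k] S] LocalizedModule V (A ⊗[k] M) :=
  haveI := isLocalizedModule_stageMap k A W ι
  IsLocalizedModule.lift (stageSubmonoid k A W) (stageMap k A ι)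
    (LocalizedModule.mkLinearMap V (A ⊗[k] M))
    (fun x => IsLocalizedModule.map_units (LocalizedModule.mkLinearMap V (A ⊗[k] M))
      ⟨x, hWV x.2⟩)

theorem lamOf_comp :
    lamOf k A W ι V hWV ∘ₗ stageMap k A ι = LocalizedModule.mkLinearMap V (A ⊗[k] M) := by
  have := isLocalizedModule_stageMap k A W ι
  exact IsLocalizedModule.lift_comp _ _ _ _

theorem lamOf_stageMap (x : A ⊗[k] M) :
    lamOf k A W ι V hWV (stageMap k A ι x) = LocalizedModule.mkLinearMap V (A ⊗[k] M) x :=
  LinearMap.congr_fun (lamOf_comp k A W ι V hWV) x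

instance isLocalizedModule_lamOf : IsLocalizedModule V (lamOf k A W ι V hWV) := by
  have := isLocalizedModule_stageMap k A W ι
  have h2 : IsLocalizedModule V (LocalizedModule.mkLinearMap V (A ⊗[k] M)) := inferInstance
  exact @isLocalizedModule_of_comp (A ⊗[k] S) (A ⊗[k] M) (A ⊗[k] Y)
    (LocalizedModule V (A ⊗[k] M)) _ _ _ _ _ _ _ (stageSubmonoid k A W) V hWV (stageMap k A ι) _
    (LocalizedModule.mkLinearMap V (A ⊗[k] M)) h2 (lamOf k A W ι V hWV)
    (lamOf_comp k A W ι V hWV)

end Lam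

section Change

variable {k : Type*} [CommRing k] {A B : Type*} [CommRing A] [Algebra k A] [CommRing B]
  [Algebra k B] (φ : A →ₐ[k] B)
  (S : Type*) [CommRing S] [Algebra k S]
  (M : Type*) [AddCommGroup M] [Module k M] [Module S M] [IsScalarTower k S M]

/-- The transition map `A ⊗ S → B ⊗ S`. -/
noncomputable def sMap : A ⊗[k] S →ₐ[k] B ⊗[k] S :=
  Algebra.TensorProduct.map φ (AlgHom.id k S)

/-- The transition map `A ⊗ M → B ⊗ M`. -/
noncomputable def mMap : A ⊗[k] M →ₗ[k] B ⊗[k] M :=
  φ.toLinearMap.rTensor M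

variable {S M}

@[simp]
theorem sMap_tmul (a : A) (s : S) : sMap φ S (a ⊗ₜ[k] s) = φ a ⊗ₜ[k] s := rfl

@[simp]
theorem mMap_tmul (a : A) (m : M) : mMap φ M (a ⊗ₜ[k] m) = φ a ⊗ₜ[k] m := rfl

theorem mMap_smul (x : A ⊗[k] S) (y : A ⊗[k] M) :
    mMap φ M (x • y) = sMap φ S x • mMap φ M y := by
  induction x with
  | zero => simp
  | add x₁ x₂ h₁ h₂ => simp only [add_smul, map_add, h₁, h₂]
  | tmul a s =>
    induction y with
    | zero => simp
    | add y₁ y₂ h₁ h₂ => simp only [smul_add, map_add, h₁, h₂]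
    | tmul a' m => simp

theorem mMap_smul' (a : A) (y : A ⊗[k] M) :
    mMap φ M (a • y) = φ a • mMap φ M y := by
  induction y with
  | zero => simp
  | add y₁ y₂ h₁ h₂ => simp only [smul_add, map_add, h₁, h₂]
  | tmul a' m => simp [TensorProduct.smul_tmul']

end Change

end Groth.Agent.Lib.FlatLimStage88
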