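import Groth.Agent.Lib.ArtinFamA64
import Groth.Agent.Lib.ArtinSocle88
import Groth.Agent.Lib.FlatLimStage88

/-!
# Flatness over a local ring with a socle element: the tensor context (helper64)

Context for `ArtinFamA64.flat_of_socle`: `A → R` with `R` local, `B` an `A`-algebra, `p` a prime
of `B`, `M` a `B`-module; `C = R ⊗[A] B`, `N = R ⊗[A] M_p`.
-/

set_option autoImplicit false
set_option maxHeartbeats 400000
set_option linter.style.haveILetI false
set_option linter.unusedSectionVars false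
universe u

open TensorProduct Function IsLocalRing
open Groth.Agent.Lib.FlatLimStage88
open scoped Groth.Agent.Lib.FlatLimStage88

namespace Groth.Agent.Lib.ArtinFamB64

section General

variable {R : Type u} [CommRing R] [IsLocalRing R]

/-- In a flat module over a local ring, an element killed by a nonzero `δ` lies in `𝔫 X`. -/
theorem mem_max_smul_top_of_smul_eq_zero {X : Type u} [AddCommGroup X] [Module R X]
    [Module.Flat R X] (δ : R) (hδ0 : δ ≠ 0) (x : X) (hx : δ • x = 0) :
    x ∈ maximalIdeal R • (⊤ : Submodule R X) := by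
  have h1 : δ • x ∈ ((⊥ : Ideal R) • ⊤ : Submodule R X) := by
    rw [hx]; exact Submodule.zero_mem _
  have h2 := Groth.Agent.Lib.ArtinSocle88.mem_colon_smul_top_of_smul_mem (⊥ : Ideal R) δ x h1
  refine Submodule.smul_mono ?_ le_rfl h2
  intro a ha
  rw [LinearMap.mem_ker, LinearMap.comp_apply, LinearMap.toSpanSingleton_apply] at ha
  have ha' : a * δ = 0 := by
    have := (Submodule.Quotient.mk_eq_zero _).mp ha
    simpa using this
  by_contra hne
  have hu : IsUnit a := by
    by_contra hnu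
    exact hne ((IsLocalRing.mem_maximalIdeal a).mpr hnu)
  exact hδ0 ((hu.mul_right_eq_zero).mp ha')

variable {C : Type u} [CommRing C] [Algebra R C]
  {N₀ X : Type u} [AddCommGroup N₀] [Module R N₀] [Module C N₀] [IsScalarTower R C N₀]
  [AddCommGroup X] [Module R X] [Module C X] [IsScalarTower R C X]

/-- Clearing denominators: if the image of `n₁` in a localization lies in `𝔫 X`, then some
multiple `c n₁`, `c` in the submonoid, lies in `𝔫 N₀`. -/
theorem exists_smul_mem_of_map_mem (Sm : Submonoid C) (f : N₀ →ₗ[C] X) [IsLocalizedModule Sm f]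
    (n₁ : N₀) (h : f n₁ ∈ maximalIdeal R • (⊤ : Submodule R X)) :
    ∃ c ∈ Sm, c • n₁ ∈ maximalIdeal R • (⊤ : Submodule R N₀) := by
  have hfR : ∀ (r : R) (m : N₀), f (r • m) = r • f m := fun r m => by
    rw [← algebraMap_smul C r m, map_smul, algebraMap_smul]
  have key : ∀ x ∈ maximalIdeal R • (⊤ : Submodule R X),
      ∃ m ∈ maximalIdeal R • (⊤ : Submodule R N₀), ∃ c ∈ Sm, c • x = f m := by
    intro x hx
    refine Submodule.smul_induction_on hx (fun r hr x' _ => ?_) (fun x y hx hy => ?_)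
    · obtain ⟨⟨m', c⟩, hm'⟩ := IsLocalizedModule.surj Sm f x'
      refine ⟨r • m', Submodule.smul_mem_smul hr trivial, c.1, c.2, ?_⟩
      rw [hfR, ← hm', smul_comm]
      rfl
    · obtain ⟨m₁, hm₁, c₁, hc₁, e₁⟩ := hx
      obtain ⟨m₂, hm₂, c₂, hc₂, e₂⟩ := hy
      refine ⟨c₂ • m₁ + c₁ • m₂, Submodule.add_mem _
        (Groth.Agent.Lib.ArtinFamA64.smul_mem_max_smul_top c₂ hm₁)
        (Groth.Agent.Lib.ArtinFamA64.smul_mem_max_smul_top c₁ hm₂), c₁ * c₂, Sm.mul_mem hc₁ hc₂, ?_⟩
      rw [map_add, map_smul, map_smul, ← e₁, ← e₂, smul_add, mul_smul, mul_smul,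
        smul_comm c₁ c₂ x]
  obtain ⟨m, hm, c, hc, e⟩ := key _ h
  have e' : f (c • n₁) = f m := by rw [map_smul, e]
  obtain ⟨c', hc'⟩ := IsLocalizedModule.exists_of_eq (S := Sm) e'
  refine ⟨c'.1 * c, Sm.mul_mem c'.2 hc, ?_⟩
  rw [mul_smul]
  have : (c'.1) • c • n₁ = c'.1 • m := hc'
  rw [this]
  exact Groth.Agent.Lib.ArtinFamA64.smul_mem_max_smul_top c'.1 hm

end General

section Context

variable {A : Type u} [CommRing A] {B : Type u} [CommRing B] [Algebra A B]
  {M : Type u} [AddCommGroup M] [Module A M] [Module B M] [IsScalarTower A B M]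
  (p : Ideal B) [p.IsPrime]
  (R : Type u) [CommRing R] [Algebra A R] [IsLocalRing R]

/-- The localization map `R ⊗ M → R ⊗ M_p`. -/
noncomputable abbrev iotaP : R ⊗[A] M →ₗ[R ⊗[A] B] R ⊗[A] LocalizedModule p.primeCompl M :=
  stageMap A R (LocalizedModule.mkLinearMap p.primeCompl M)

instance isLocalizedModule_iotaP :
    IsLocalizedModule (stageSubmonoid A R p.primeCompl) (iotaP (M := M) p R) :=
  isLocalizedModule_stageMap A R p.primeCompl (LocalizedModule.mkLinearMap p.primeCompl M)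

/-- The image of `B ∖ p` acts bijectively on `R ⊗ M_p`. -/
theorem bijective_smul_of_mem_stageSubmonoid (s : R ⊗[A] B)
    (hs : s ∈ stageSubmonoid A R p.primeCompl) :
    Bijective fun n : R ⊗[A] LocalizedModule p.primeCompl M => s • n := by
  have h := IsLocalizedModule.map_units (iotaP (M := M) p R) ⟨s, hs⟩
  rw [Module.End.isUnit_iff] at h
  exact h

/-- The local condition of `flat_of_socle` in the tensor context. -/
theorem hloc_of_flat (δ : R) (hδ0 : δ ≠ 0)
    (H : ∀ (Q : Ideal (R ⊗[A] B)) [Q.IsPrime],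
      Q.comap (Algebra.TensorProduct.includeRight : B →ₐ[A] R ⊗[A] B) = p →
      Q.comap (algebraMap R (R ⊗[A] B)) = maximalIdeal R →
      Module.Flat R (LocalizedModule Q.primeCompl (R ⊗[A] M)))
    (n : R ⊗[A] LocalizedModule p.primeCompl M) (hn : δ • n = 0)
    (Q : Ideal (R ⊗[A] B)) (hQ : Q.IsPrime)
    (hI : p.map (Algebra.TensorProduct.includeRight : B →ₐ[A] R ⊗[A] B) ≤ Q)
    (hdis : Disjoint (Q : Set (R ⊗[A] B)) (stageSubmonoid A R p.primeCompl))
    (hmax : (maximalIdeal R).map (algebraMap R (R ⊗[A] B)) ≤ Q) :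
    ∃ c ∉ Q, c • n ∈ maximalIdeal R • (⊤ : Submodule R (R ⊗[A] LocalizedModule p.primeCompl M)) := by
  haveI := hQ
  -- `Q` lies over `p` and over the maximal ideal
  have hQp : Q.comap (Algebra.TensorProduct.includeRight : B →ₐ[A] R ⊗[A] B) = p := by
    ext b
    rw [Ideal.mem_comap]
    constructor
    · intro hb
      by_contra hbp
      have h1 : (Algebra.TensorProduct.includeRight : B →ₐ[A] R ⊗[A] B) b ∈
          stageSubmonoid A R p.primeCompl :=
        (mem_stageSubmonoid A R _).mpr ⟨b, hbp, rfl⟩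
      exact Set.disjoint_left.mp hdis hb h1
    · intro hb
      exact hI (Ideal.mem_map_of_mem _ hb)
  have hQm : Q.comap (algebraMap R (R ⊗[A] B)) = maximalIdeal R := by
    have hle : maximalIdeal R ≤ Q.comap (algebraMap R (R ⊗[A] B)) :=
      Ideal.map_le_iff_le_comap.mp hmax
    have hne : Q.comap (algebraMap R (R ⊗[A] B)) ≠ ⊤ := (Ideal.comap_isPrime _ Q).ne_top
    exact ((IsLocalRing.maximalIdeal.isMaximal R).eq_of_le hne hle).symm
  haveI hfl : Module.Flat R (LocalizedModule Q.primeCompl (R ⊗[A] M)) := H Q hQp hQm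
  have hsdis : ∀ s ∈ stageSubmonoid A R p.primeCompl, s ∉ Q := fun s hs hsQ =>
    Set.disjoint_left.mp hdis hsQ hs
  -- lift `n` to `R ⊗ M`
  obtain ⟨⟨n₀, s⟩, hn₀⟩ := IsLocalizedModule.surj (stageSubmonoid A R p.primeCompl)
    (iotaP (M := M) p R) n
  have hn₀' : (s : R ⊗[A] B) • n = iotaP p R n₀ := hn₀
  have hιR : ∀ (r : R) (m : R ⊗[A] M), iotaP (M := M) p R (r • m) = r • iotaP p R m :=
    fun r m => by
      rw [← algebraMap_smul (R ⊗[A] B) r m, map_smul, algebraMap_smul]
  have h1 : iotaP (M := M) p R (δ • n₀) = iotaP p R 0 := by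
    rw [hιR, ← hn₀', smul_comm, hn, smul_zero, map_zero]
  obtain ⟨s', hs'⟩ := IsLocalizedModule.exists_of_eq (S := stageSubmonoid A R p.primeCompl) h1
  have hs'' : (s' : R ⊗[A] B) • δ • n₀ = 0 := by
    have := hs'
    rw [smul_zero] at this
    exact this
  -- the element `n₁ = s' n₀` is killed by `δ`
  have hn₁ : δ • ((s' : R ⊗[A] B) • n₀) = 0 := by rw [smul_comm]; exact hs''
  have hx : δ • LocalizedModule.mkLinearMap Q.primeCompl (R ⊗[A] M) ((s' : R ⊗[A] B) • n₀) = 0 := by
    have hmkR : ∀ (r : R) (m : R ⊗[A] M),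
        LocalizedModule.mkLinearMap Q.primeCompl (R ⊗[A] M) (r • m) =
          r • LocalizedModule.mkLinearMap Q.primeCompl (R ⊗[A] M) m := fun r m => by
      rw [← algebraMap_smul (R ⊗[A] B) r m, map_smul, algebraMap_smul]
    rw [← hmkR, hn₁, map_zero]
  have hmem := mem_max_smul_top_of_smul_eq_zero
    (X := LocalizedModule Q.primeCompl (R ⊗[A] M)) δ hδ0 _ hx
  obtain ⟨c₀, hc₀, hc₀mem⟩ := exists_smul_mem_of_map_mem (R := R) (C := R ⊗[A] B)
    (N₀ := R ⊗[A] M) (X := LocalizedModule Q.primeCompl (R ⊗[A] M)) Q.primeCompl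
    (LocalizedModule.mkLinearMap Q.primeCompl (R ⊗[A] M)) ((s' : R ⊗[A] B) • n₀) hmem
  refine ⟨c₀ * (s' : R ⊗[A] B) * (s : R ⊗[A] B), ?_, ?_⟩
  · intro hcon
    rcases hQ.mem_or_mem hcon with h | h
    · rcases hQ.mem_or_mem h with h | h
      · exact hc₀ h
      · exact hsdis _ s'.2 h
    · exact hsdis _ s.2 h
  · have himg : ∀ y ∈ maximalIdeal R • (⊤ : Submodule R (R ⊗[A] M)),
        iotaP (M := M) p R y ∈
          maximalIdeal R • (⊤ : Submodule R (R ⊗[A] LocalizedModule p.primeCompl M)) := by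
      intro y hy
      refine Submodule.smul_induction_on hy (fun r hr m _ => ?_) (fun x y hx hy => ?_)
      · rw [hιR]
        exact Submodule.smul_mem_smul hr trivial
      · rw [map_add]
        exact Submodule.add_mem _ hx hy
    have := himg _ hc₀mem
    rw [map_smul, map_smul, ← hn₀', ← mul_smul, ← mul_smul] at this
    exact this

end Context

end Groth.Agent.Lib.ArtinFamB64
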