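import Groth.Agent.Lib.ArtinFamB64

/-!
# Separatedness of `R ⊗ M_p` modulo the maximal ideal (helper64)

`A → R` a local homomorphism of local rings, `B` a Noetherian `A`-algebra, `p` a prime of `B`, `M`
a finite `B`-module.  Then `(R ⊗[A] M_p)/𝔫` is separated for the `p`-adic topology
(`sep_context`), by Krull's intersection theorem and a basis of the residue field extension.
-/

set_option autoImplicit false
set_option maxHeartbeats 400000
set_option linter.style.haveILetI false
set_option linter.unusedSectionVars false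
universe u

open TensorProduct Function IsLocalRing
open Groth.Agent.Lib.FlatLimStage88 Groth.Agent.Lib.GenFlattenU64
open scoped Groth.Agent.Lib.FlatLimStage88

namespace Groth.Agent.Lib.ArtinFamC64

section Ind

variable {A : Type u} [CommRing A] {B : Type u} [CommRing B] [Algebra A B]
  {X : Type u} [AddCommGroup X] [Module A X] [Module B X] [IsScalarTower A B X]
  (R : Type u) [CommRing R] [Algebra A R]

/-- Induction principle for `(J (R ⊗ B)) • (R ⊗ X)`. -/
theorem stage_smul_induction (J : Ideal B) {P : R ⊗[A] X → Prop} (h0 : P 0)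
    (hadd : ∀ x y, P x → P y → P (x + y))
    (hb : ∀ b ∈ J, ∀ x, P (((1 : R) ⊗ₜ[A] b) • x)) :
    ∀ y ∈ (J.map (Algebra.TensorProduct.includeRight : B →ₐ[A] R ⊗[A] B)) •
      (⊤ : Submodule (R ⊗[A] B) (R ⊗[A] X)), P y := by
  intro y hy
  refine Submodule.smul_induction_on hy (fun c hc x _ => ?_) (fun x y hx hy => hadd x y hx hy)
  have key : ∀ x : R ⊗[A] X, P (c • x) := by
    rw [Ideal.map] at hc
    refine Submodule.span_induction (p := fun c _ => ∀ x : R ⊗[A] X, P (c • x)) ?_ ?_ ?_ ?_ hc
    · rintro _ ⟨b, hb', rfl⟩ x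
      exact hb b hb' x
    · intro x
      rw [zero_smul]; exact h0
    · intro c₁ c₂ _ _ h₁ h₂ x
      rw [add_smul]; exact hadd _ _ (h₁ x) (h₂ x)
    · intro d c' _ h x
      rw [smul_eq_mul, mul_comm, mul_smul]
      exact h (d • x)
  exact key x

end Ind

section Coord

variable {A : Type u} [CommRing A] [IsLocalRing A]
  (R : Type u) [CommRing R] [Algebra A R] [IsLocalRing R] [IsLocalHom (algebraMap A R)]
  (X : Type u) [AddCommGroup X] [Module A X]

/-- The reduction map `R ⊗ X → κ ⊗ X`. -/
noncomputable abbrev piMap : R ⊗[A] X →ₗ[A] ResidueField R ⊗[A] X :=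
  (IsScalarTower.toAlgHom A R (ResidueField R)).toLinearMap.rTensor X

variable {R X}

theorem piMap_eq_zero_imp (n : R ⊗[A] X) (h : piMap R X n = 0) :
    n ∈ maximalIdeal R • (⊤ : Submodule R (R ⊗[A] X)) := by
  rw [← one_tmul_eq_zero_iff (maximalIdeal R) n]
  let ε := AlgebraTensorModule.cancelBaseChange A R (R ⧸ maximalIdeal R) (R ⧸ maximalIdeal R) X
  apply ε.injective
  rw [map_zero]
  have key : ∀ n : R ⊗[A] X, ε ((1 : R ⧸ maximalIdeal R) ⊗ₜ[R] n) = piMap R X n := by
    intro n
    induction n with
    | zero => simp only [tmul_zero, map_zero]; rfl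
    | add x y hx hy => simp only [tmul_add, map_add, hx, hy]; rfl
    | tmul r x =>
      rw [AlgebraTensorModule.cancelBaseChange_tmul, LinearMap.rTensor_tmul]
      congr 1
      rw [Algebra.smul_def, mul_one]
      rfl
  rw [key]
  exact h

theorem piMap_smul_of_mem (r : R) (hr : r ∈ maximalIdeal R) (x : R ⊗[A] X) :
    piMap R X (r • x) = 0 := by
  induction x with
  | zero => rw [smul_zero, map_zero]
  | add x y hx hy => rw [smul_add, map_add, hx, hy, add_zero]
  | tmul r' m =>
    rw [TensorProduct.smul_tmul', LinearMap.rTensor_tmul, smul_eq_mul]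
    have : (IsScalarTower.toAlgHom A R (ResidueField R)).toLinearMap (r * r') = 0 := by
      change residue R (r * r') = 0
      rw [map_mul, (residue_eq_zero_iff r).mpr hr, zero_mul]
    rw [this, zero_tmul]

theorem piMap_of_mem (x : R ⊗[A] X) (hx : x ∈ maximalIdeal R • (⊤ : Submodule R (R ⊗[A] X))) :
    piMap R X x = 0 := by
  refine Submodule.smul_induction_on hx (fun r hr m _ => piMap_smul_of_mem r hr m)
    (fun x y hx hy => by rw [map_add, hx, hy, add_zero])

/-- Coordinates with respect to a basis of the residue field extension detect zero. -/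
theorem eq_zero_of_coord {Λ : Type u} (b : Module.Basis Λ (ResidueField A) (ResidueField R))
    (x : ResidueField R ⊗[A] X)
    (h : ∀ l : Λ, (((b.coord l).restrictScalars A).rTensor X) x = 0) : x = 0 := by
  classical
  let e : ResidueField R ≃ₗ[A] (Λ →₀ ResidueField A) := b.repr.restrictScalars A
  let Φ : ResidueField R ⊗[A] X ≃ₗ[A] Λ →₀ (ResidueField A ⊗[A] X) :=
    (LinearEquiv.rTensor X e) ≪≫ₗ finsuppLeft A A (ResidueField A) X Λ
  apply Φ.injective
  rw [map_zero]
  ext l : 1
  rw [Finsupp.zero_apply]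
  change finsuppLeft A A (ResidueField A) X Λ ((LinearEquiv.rTensor X e) x) l = 0
  rw [finsuppLeft_apply]
  change (LinearMap.rTensor X (Finsupp.lapply l)) ((LinearMap.rTensor X e.toLinearMap) x) = 0
  rw [← LinearMap.rTensor_comp_apply]
  exact h l

end Coord

section Sep

variable {A : Type u} [CommRing A] {B : Type u} [CommRing B] [Algebra A B]
  {X : Type u} [AddCommGroup X] [Module A X] [Module B X] [IsScalarTower A B X]
  {R : Type u} [CommRing R] [Algebra A R]

theorem rTensor_one_tmul_smul {K : Type u} [CommRing K] [Algebra A K] (ψ : R →ₗ[A] K) (b : B)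
    (x : R ⊗[A] X) :
    ψ.rTensor X (((1 : R) ⊗ₜ[A] b) • x) = ((1 : K) ⊗ₜ[A] b) • ψ.rTensor X x := by
  induction x with
  | zero => simp
  | add x y hx hy => simp only [smul_add, map_add, hx, hy]
  | tmul r m => simp

theorem rTensor_mem_map_smul_top {K : Type u} [CommRing K] [Algebra A K] (ψ : R →ₗ[A] K)
    (J : Ideal B) (y : R ⊗[A] X)
    (hy : y ∈ (J.map (Algebra.TensorProduct.includeRight : B →ₐ[A] R ⊗[A] B)) •
      (⊤ : Submodule (R ⊗[A] B) (R ⊗[A] X))) :
    ψ.rTensor X y ∈ (J.map (Algebra.TensorProduct.includeRight : B →ₐ[A] K ⊗[A] B)) •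
      (⊤ : Submodule (K ⊗[A] B) (K ⊗[A] X)) := by
  refine stage_smul_induction R J (P := fun y => ψ.rTensor X y ∈
    (J.map (Algebra.TensorProduct.includeRight : B →ₐ[A] K ⊗[A] B)) •
      (⊤ : Submodule (K ⊗[A] B) (K ⊗[A] X))) ?_ ?_ ?_ y hy
  · rw [map_zero]; exact Submodule.zero_mem _
  · intro x y hx hy
    rw [map_add]; exact Submodule.add_mem _ hx hy
  · intro b hb x
    rw [rTensor_one_tmul_smul]
    exact Submodule.smul_mem_smul (Ideal.mem_map_of_mem _ hb) trivial

end Sep

section Krull

variable {A : Type u} [CommRing A] [IsLocalRing A] {B : Type u} [CommRing B] [Algebra A B]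
  [IsNoetherianRing B]
  {M : Type u} [AddCommGroup M] [Module A M] [Module B M] [IsScalarTower A B M] [Module.Finite B M]
  (p : Ideal B) [p.IsPrime]

/-- Krull's intersection theorem for `k ⊗[A] M_p`. -/
theorem eq_zero_of_forall_mem (z : ResidueField A ⊗[A] LocalizedModule p.primeCompl M)
    (h : ∀ j : ℕ, z ∈ ((p ^ j).map
      (Algebra.TensorProduct.includeRight : B →ₐ[A] ResidueField A ⊗[A] B)) •
        (⊤ : Submodule (ResidueField A ⊗[A] B)
          (ResidueField A ⊗[A] LocalizedModule p.primeCompl M))) : z = 0 := by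
  haveI hfin : Module.Finite (Localization.AtPrime p)
      (LocalizedModule p.primeCompl M ⊗[A] ResidueField A) :=
    Groth.Agent.Lib.FlatCrit.finite_tensorProduct_left
  have hkrull := Ideal.iInf_pow_smul_eq_bot_of_le_jacobson
    (M := LocalizedModule p.primeCompl M ⊗[A] ResidueField A)
    (maximalIdeal (Localization.AtPrime p))
    (by rw [IsLocalRing.jacobson_eq_maximalIdeal ⊥ bot_ne_top])
  suffices hz : TensorProduct.comm A (ResidueField A) (LocalizedModule p.primeCompl M) z = 0 by
    simpa using hz
  rw [← Submodule.mem_bot (Localization.AtPrime p), ← hkrull, Submodule.mem_iInf]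
  intro j
  refine stage_smul_induction (ResidueField A) (p ^ j) (P := fun y =>
    TensorProduct.comm A (ResidueField A) (LocalizedModule p.primeCompl M) y ∈
      maximalIdeal (Localization.AtPrime p) ^ j •
        (⊤ : Submodule (Localization.AtPrime p)
          (LocalizedModule p.primeCompl M ⊗[A] ResidueField A))) ?_ ?_ ?_ z (h j)
  · rw [map_zero]; exact Submodule.zero_mem _
  · intro x y hx hy
    rw [map_add]; exact Submodule.add_mem _ hx hy
  · intro b hb x
    rw [comm_one_tmul_smul, ← algebraMap_smul (Localization.AtPrime p) b]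
    refine Submodule.smul_mem_smul ?_ trivial
    rw [← Localization.AtPrime.map_eq_maximalIdeal, ← Ideal.map_pow]
    exact Ideal.mem_map_of_mem _ hb

end Krull

section Main

variable {A : Type u} [CommRing A] [IsLocalRing A] {B : Type u} [CommRing B] [Algebra A B]
  [IsNoetherianRing B]
  {M : Type u} [AddCommGroup M] [Module A M] [Module B M] [IsScalarTower A B M] [Module.Finite B M]
  (p : Ideal B) [p.IsPrime]
  (R : Type u) [CommRing R] [Algebra A R] [IsLocalRing R] [IsLocalHom (algebraMap A R)]

/-- **Separatedness** of `(R ⊗ M_p)/𝔫` for the `p`-adic topology. -/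
theorem sep_context (n : R ⊗[A] LocalizedModule p.primeCompl M)
    (h : ∀ j : ℕ, ∃ y ∈ ((p.map (Algebra.TensorProduct.includeRight : B →ₐ[A] R ⊗[A] B)) ^ j) •
        (⊤ : Submodule (R ⊗[A] B) (R ⊗[A] LocalizedModule p.primeCompl M)),
      n - y ∈ maximalIdeal R • (⊤ : Submodule R (R ⊗[A] LocalizedModule p.primeCompl M))) :
    n ∈ maximalIdeal R • (⊤ : Submodule R (R ⊗[A] LocalizedModule p.primeCompl M)) := by
  apply piMap_eq_zero_imp
  let b := Module.Free.chooseBasis (ResidueField A) (ResidueField R)
  apply eq_zero_of_coord b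
  intro l
  rw [← LinearMap.rTensor_comp_apply]
  apply eq_zero_of_forall_mem p
  intro j
  obtain ⟨y, hy, hny⟩ := h j
  have h0 : piMap R (LocalizedModule p.primeCompl M) (n - y) = 0 := piMap_of_mem _ hny
  have hsplit : n = y + (n - y) := by abel
  have h1 : (LinearMap.rTensor (LocalizedModule p.primeCompl M)
      (((b.coord l).restrictScalars A) ∘ₗ
        (IsScalarTower.toAlgHom A R (ResidueField R)).toLinearMap)) (n - y) = 0 := by
    rw [LinearMap.rTensor_comp_apply]
    change (LinearMap.rTensor (LocalizedModule p.primeCompl M) ((b.coord l).restrictScalars A))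
      (piMap R (LocalizedModule p.primeCompl M) (n - y)) = 0
    rw [h0, map_zero]
  rw [hsplit, map_add, h1, add_zero]
  rw [← Ideal.map_pow] at hy
  exact rTensor_mem_map_smul_top _ (p ^ j) y hy

end Main

end Groth.Agent.Lib.ArtinFamC64
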