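import Groth.Agent.Lib.FlatLimTower88

/-!
# Global descent of flatness to a finitely generated stage (helper88)

* `flat_baseChange_at`: flatness at a prime is stable under base change (tensor form).
* `cancelBaseChange_smul'`, `cancelBaseChange_one_tmul'`: semilinearity of `cancelBaseChange`.
* `flat_stage_mono`: flatness at a prime passes from a stage `B` to a later stage `A`.
* `exists_fg_flat_global`: if `R ⊗[k] M₀` is flat over `R` then `A ⊗[k] M₀` is flat over `A` for
  some finitely generated `k`-subalgebra `A ⊆ R` (`k` Noetherian, `S₀` of finite type, `M₀` finite).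
-/

set_option autoImplicit false
set_option maxHeartbeats 400000

namespace Groth.Agent.Lib.FlatLimGlobal88

open TensorProduct Function Groth.Agent.Lib.FlatLimStage88 Groth.Agent.Lib.FlatLimOpen88
  Groth.Agent.Lib.FlatLimOpenBC88 Groth.Agent.Lib.FlatLimCore88
open scoped Groth.Agent.Lib.FlatLimStage88

universe u

section BC

variable {k : Type*} [CommRing k]
  {S₀ : Type*} [CommRing S₀] [Algebra k S₀]
  {M₀ : Type*} [AddCommGroup M₀] [Module k M₀] [Module S₀ M₀] [IsScalarTower k S₀ M₀]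
  (R : Type*) [CommRing R] [Algebra k R]

/-- Flatness at a prime is stable under base change (tensor form). -/
theorem flat_baseChange_at (q' : Ideal (R ⊗[k] S₀)) [q'.IsPrime] (Q : Ideal S₀) [Q.IsPrime]
    (hQ : q'.comap (Algebra.TensorProduct.includeRight : S₀ →ₐ[k] R ⊗[k] S₀) = Q)
    (h : Module.Flat k (LocalizedModule Q.primeCompl M₀)) :
    Module.Flat R (LocalizedModule q'.primeCompl (R ⊗[k] M₀)) := by
  subst hQ
  have hWV : stageSubmonoid k R
      (q'.comap (Algebra.TensorProduct.includeRight : S₀ →ₐ[k] R ⊗[k] S₀)).primeCompl ≤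
      q'.primeCompl := by
    intro x hx
    obtain ⟨w, hw, rfl⟩ := (mem_stageSubmonoid k R _).mp hx
    exact hw
  have hfl : Module.Flat R (R ⊗[k] LocalizedModule
      (q'.comap (Algebra.TensorProduct.includeRight : S₀ →ₐ[k] R ⊗[k] S₀)).primeCompl M₀) :=
    inferInstance
  exact Groth.Agent.Lib.H77GenFlatAlg.flat_of_isLocalizedModule R
    (M := R ⊗[k] LocalizedModule
      (q'.comap (Algebra.TensorProduct.includeRight : S₀ →ₐ[k] R ⊗[k] S₀)).primeCompl M₀)
    (N := LocalizedModule q'.primeCompl (R ⊗[k] M₀)) q'.primeCompl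
    (lamOf k R (q'.comap (Algebra.TensorProduct.includeRight : S₀ →ₐ[k] R ⊗[k] S₀)).primeCompl
      (LocalizedModule.mkLinearMap
        (q'.comap (Algebra.TensorProduct.includeRight : S₀ →ₐ[k] R ⊗[k] S₀)).primeCompl M₀)
      q'.primeCompl hWV)

end BC

section Cancel

variable {k B A S₀ M₀ : Type*} [CommRing k] [CommRing B] [Algebra k B] [CommRing A] [Algebra k A]
  [Algebra B A] [IsScalarTower k B A]
  [CommRing S₀] [Algebra k S₀]
  [AddCommGroup M₀] [Module k M₀] [Module S₀ M₀] [IsScalarTower k S₀ M₀]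

set_option synthInstance.maxHeartbeats 400000 in
theorem cancelBaseChange_smul' (c : A ⊗[B] (B ⊗[k] S₀))
    (x : A ⊗[B] (B ⊗[k] M₀)) :
    AlgebraTensorModule.cancelBaseChange k B A A M₀ (c • x) =
      Algebra.TensorProduct.cancelBaseChange k B A A S₀ c •
        AlgebraTensorModule.cancelBaseChange k B A A M₀ x := by
  have hL : ∀ (c : A ⊗[B] (B ⊗[k] S₀)) (x : A ⊗[B] (B ⊗[k] M₀)),
      c • x = actHom B A (B ⊗[k] S₀) (B ⊗[k] M₀) c x := fun _ _ => rfl
  rw [hL]
  induction c with
  | zero => rw [map_zero, LinearMap.zero_apply, map_zero, map_zero, zero_smul]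
  | add c₁ c₂ h₁ h₂ => rw [map_add, LinearMap.add_apply, map_add, h₁, h₂, map_add, add_smul]
  | tmul r c =>
    induction x with
    | zero => rw [map_zero, map_zero, smul_zero]
    | add x₁ x₂ h₁ h₂ => rw [map_add, map_add, h₁, h₂, map_add, smul_add]
    | tmul r' x =>
      rw [← hL, tmul_smul_tmul]
      induction c with
      | zero =>
        have hL' : ∀ (c : B ⊗[k] S₀) (x : B ⊗[k] M₀), c • x = actHom k B S₀ M₀ c x :=
          fun _ _ => rfl
        rw [hL', map_zero, LinearMap.zero_apply, tmul_zero, tmul_zero, map_zero, map_zero,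
          zero_smul]
      | add c₁ c₂ h₁ h₂ =>
        rw [add_smul, tmul_add, tmul_add, map_add, map_add, add_smul, h₁, h₂]
      | tmul b s =>
        induction x with
        | zero => rw [smul_zero, tmul_zero, tmul_zero, map_zero, smul_zero]
        | add x₁ x₂ h₁ h₂ =>
          rw [smul_add, tmul_add, tmul_add, map_add, map_add, smul_add, h₁, h₂]
        | tmul b' m =>
          rw [tmul_smul_tmul, AlgebraTensorModule.cancelBaseChange_tmul,
            AlgebraTensorModule.cancelBaseChange_tmul,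
            Algebra.TensorProduct.cancelBaseChange_tmul, tmul_smul_tmul, smul_mul_smul_comm]

theorem cancelBaseChange_one_tmul' (x : B ⊗[k] S₀) :
    Algebra.TensorProduct.cancelBaseChange k B A A S₀ ((1 : A) ⊗ₜ[B] x) =
      sMap (IsScalarTower.toAlgHom k B A) S₀ x := by
  induction x with
  | zero => simp
  | add x₁ x₂ h₁ h₂ => simp only [tmul_add, map_add, h₁, h₂]
  | tmul b s =>
    simp only [Algebra.TensorProduct.cancelBaseChange_tmul, sMap_tmul,
      IsScalarTower.coe_toAlgHom']
    rw [Algebra.smul_def, mul_one]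

/-- **Stage monotonicity**: flatness at a prime passes from a stage `B` to a later stage `A`. -/
theorem flat_stage_mono {k B A S₀ M₀ : Type u} [CommRing k] [CommRing B] [Algebra k B]
    [CommRing A] [Algebra k A]
    [Algebra B A] [IsScalarTower k B A]
    [CommRing S₀] [Algebra k S₀]
    [AddCommGroup M₀] [Module k M₀] [Module S₀ M₀] [IsScalarTower k S₀ M₀]
    (Q : Ideal (A ⊗[k] S₀)) [Q.IsPrime]
    (h : Module.Flat B (LocalizedModule
      (Q.comap (sMap (IsScalarTower.toAlgHom k B A) S₀)).primeCompl (B ⊗[k] M₀))) :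
    Module.Flat A (LocalizedModule Q.primeCompl (A ⊗[k] M₀)) := by
  let eS := Algebra.TensorProduct.cancelBaseChange k B A A S₀
  let eM := AlgebraTensorModule.cancelBaseChange k B A A M₀
  have hcontr : (Q.comap eS).comap
      (Algebra.TensorProduct.includeRight : B ⊗[k] S₀ →ₐ[B] A ⊗[B] (B ⊗[k] S₀)) =
      Q.comap (sMap (IsScalarTower.toAlgHom k B A) S₀) := by
    ext x
    simp only [Ideal.mem_comap, Algebra.TensorProduct.includeRight_apply]
    rw [cancelBaseChange_one_tmul']
  have h1 := flat_baseChange_at (k := B) (S₀ := B ⊗[k] S₀) (M₀ := B ⊗[k] M₀) A (Q.comap eS)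
    (Q.comap (sMap (IsScalarTower.toAlgHom k B A) S₀)) hcontr h
  exact flat_localizedModule_of_semilinearEquiv eS.toRingEquiv eM
    (fun c x => cancelBaseChange_smul' c x) Q h1

end Cancel

section Bot

variable {A C : Type u} [CommRing A] [CommRing C] [Algebra A C]
  (M : Type u) [AddCommGroup M] [Module C M] [Module A M] [IsScalarTower A C M]

theorem isLocalizedModule_bot_id :
    IsLocalizedModule (⊥ : Submonoid C) (LinearMap.id : M →ₗ[C] M) where
  map_units := by
    rintro ⟨x, hx⟩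
    rw [Submonoid.mem_bot] at hx
    subst hx
    simp
  surj y := ⟨⟨y, 1⟩, by simp⟩
  exists_of_eq h := ⟨1, by simpa using h⟩

/-- A module over `C` is flat over `A` as soon as all its localizations at primes of `C` are. -/
theorem flat_of_forall_prime
    (H : ∀ (Q : Ideal C) [Q.IsPrime], Module.Flat A (LocalizedModule Q.primeCompl M)) :
    Module.Flat A M := by
  have h1 : Module.Flat A (LocalizedModule (⊥ : Submonoid C) M) :=
    Groth.Agent.Lib.FlatLimTower88.flat_localizedModule_of_forall_prime M ⊥ (fun Q _ _ => H Q)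
  haveI := isLocalizedModule_bot_id (C := C) M
  let e : LocalizedModule (⊥ : Submonoid C) M ≃ₗ[C] M :=
    IsLocalizedModule.iso (⊥ : Submonoid C) (LinearMap.id : M →ₗ[C] M)
  exact (Module.Flat.equiv_iff (e.restrictScalars A)).mp h1

end Bot

section Global

variable {k R S₀ M₀ : Type u} [CommRing k] [IsNoetherianRing k] [CommRing R] [Algebra k R]
  [CommRing S₀] [Algebra k S₀] [Algebra.FiniteType k S₀]
  [AddCommGroup M₀] [Module k M₀] [Module S₀ M₀] [IsScalarTower k S₀ M₀] [Module.Finite S₀ M₀]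

/-- Pointwise data: a finitely generated stage together with a basic open neighbourhood of the
contraction of `q` on which the stage module is flat. -/
theorem exists_stage_nhd (q : Ideal (R ⊗[k] S₀)) [q.IsPrime]
    [Module.Flat R (LocalizedModule q.primeCompl (R ⊗[k] M₀))] :
    ∃ (A : Subalgebra k R) (g : A ⊗[k] S₀), A.FG ∧ sMap A.val S₀ g ∉ q ∧
      ∀ (Q : Ideal (A ⊗[k] S₀)) [Q.IsPrime], g ∉ Q →
        Module.Flat A (LocalizedModule Q.primeCompl (A ⊗[k] M₀)) := by
  obtain ⟨A, hA, hflat⟩ := exists_fg_flat_stage (S := S₀) (M := M₀) q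
  have hA' := hflat A le_rfl hA
  have : Algebra.FiniteType k A := (Subalgebra.fg_iff_finiteType A).mp hA
  have : IsNoetherianRing A := Algebra.FiniteType.isNoetherianRing k A
  have hopen := isOpen_flatLocus_of_noetherian (A := A) (C := A ⊗[k] S₀) (X := A ⊗[k] M₀)
  let q₀ : PrimeSpectrum (A ⊗[k] S₀) := ⟨q.comap (sMap A.val S₀), inferInstance⟩
  have hq₀ : q₀ ∈ {Q : PrimeSpectrum (A ⊗[k] S₀) |
      Module.Flat A (LocalizedModule Q.asIdeal.primeCompl (A ⊗[k] M₀))} := hA'
  obtain ⟨_, ⟨g, rfl⟩, hg, hsub⟩ :=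
    PrimeSpectrum.isTopologicalBasis_basic_opens.exists_subset_of_mem_open hq₀ hopen
  refine ⟨A, g, hA, hg, ?_⟩
  intro Q hQ hgQ
  exact hsub (show (⟨Q, hQ⟩ : PrimeSpectrum (A ⊗[k] S₀)) ∈ PrimeSpectrum.basicOpen g from hgQ)

end Global

section Global2

variable {k R S₀ M₀ : Type u} [CommRing k] [CommRing R] [Algebra k R]
  [CommRing S₀] [Algebra k S₀]
  [AddCommGroup M₀] [Module k M₀] [Module S₀ M₀] [IsScalarTower k S₀ M₀]

/-- Stage monotonicity for subalgebras. -/
theorem flat_stage_mono_subalgebra {B A : Subalgebra k R} (h : B ≤ A)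
    (Q : Ideal (A ⊗[k] S₀)) [Q.IsPrime]
    (hfl : Module.Flat B (LocalizedModule
      (Q.comap (sMap (Subalgebra.inclusion h) S₀)).primeCompl (B ⊗[k] M₀))) :
    Module.Flat A (LocalizedModule Q.primeCompl (A ⊗[k] M₀)) := by
  letI : Algebra B A := (Subalgebra.inclusion h).toRingHom.toAlgebra
  haveI : IsScalarTower k B A := IsScalarTower.of_algebraMap_eq (fun x => rfl)
  exact flat_stage_mono (B := B) (A := A) (S₀ := S₀) (M₀ := M₀) Q hfl

theorem sMap_val_inclusion {A B : Subalgebra k R} (h : A ≤ B) (x : A ⊗[k] S₀) :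
    sMap B.val S₀ (sMap (Subalgebra.inclusion h) S₀ x) = sMap A.val S₀ x := by
  rw [sMap_eq_mMap, sMap_eq_mMap, sMap_eq_mMap, mMap_val_inclusion]

theorem sMap_inclusion_inclusion {A B C : Subalgebra k R} (h : A ≤ B) (h' : B ≤ C)
    (x : A ⊗[k] S₀) :
    sMap (Subalgebra.inclusion h') S₀ (sMap (Subalgebra.inclusion h) S₀ x) =
      sMap (Subalgebra.inclusion (h.trans h')) S₀ x := by
  rw [sMap_eq_mMap, sMap_eq_mMap, sMap_eq_mMap, mMap_mMap]
  rfl

end Global2

section Global3

/-- **Global descent of flatness** (EGA IV 11.2.6, Stacks 02JO-type): if `R ⊗[k] M₀` is flat over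
`R`, then `A ⊗[k] M₀` is flat over `A` for some finitely generated `k`-subalgebra `A ⊆ R`; moreover
`A` may be taken to contain any given finitely generated subalgebra. -/
theorem exists_fg_flat_global {k R : Type u} (S₀ : Type u) {M₀ : Type u} [CommRing k]
    [IsNoetherianRing k] [CommRing R] [Algebra k R]
    [CommRing S₀] [Algebra k S₀] [Algebra.FiniteType k S₀]
    [AddCommGroup M₀] [Module k M₀] [Module S₀ M₀] [IsScalarTower k S₀ M₀] [Module.Finite S₀ M₀]
    [Module.Flat R (R ⊗[k] M₀)] (A₀ : Subalgebra k R) (hA₀ : A₀.FG) :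
    ∃ A : Subalgebra k R, A₀ ≤ A ∧ A.FG ∧ Module.Flat A (A ⊗[k] M₀) := by
  classical
  have hpt : ∀ (q : Ideal (R ⊗[k] S₀)) [q.IsPrime],
      Module.Flat R (LocalizedModule q.primeCompl (R ⊗[k] M₀)) := fun q _ =>
    Groth.Agent.Lib.H77GenFlatAlg.flat_of_isLocalizedModule R (M := R ⊗[k] M₀)
      (N := LocalizedModule q.primeCompl (R ⊗[k] M₀)) q.primeCompl
      (LocalizedModule.mkLinearMap q.primeCompl (R ⊗[k] M₀))
  have key : ∀ q : PrimeSpectrum (R ⊗[k] S₀), ∃ (A : Subalgebra k R) (g : A ⊗[k] S₀), A.FG ∧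
      sMap A.val S₀ g ∉ q.asIdeal ∧ ∀ (Q : Ideal (A ⊗[k] S₀)) [Q.IsPrime], g ∉ Q →
        Module.Flat A (LocalizedModule Q.primeCompl (A ⊗[k] M₀)) := fun q => by
    haveI := hpt q.asIdeal
    exact exists_stage_nhd (M₀ := M₀) q.asIdeal
  choose Aq gq hAq hgq hflatq using key
  -- the images generate the unit ideal
  have htop : Ideal.span (Set.range fun q => sMap (Aq q).val S₀ (gq q)) = ⊤ := by
    by_contra hne
    obtain ⟨m, hm, hle⟩ := Ideal.exists_le_maximal _ hne
    exact hgq ⟨m, hm.isPrime⟩ (hle (Ideal.subset_span ⟨_, rfl⟩))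
  have h1 : (1 : R ⊗[k] S₀) ∈ Ideal.span (Set.range fun q => sMap (Aq q).val S₀ (gq q)) := by
    rw [htop]; trivial
  obtain ⟨c, hc⟩ := Finsupp.mem_ideal_span_range_iff_exists_finsupp.mp h1
  -- lift the coefficients
  obtain ⟨A₁, hA₁, hx⟩ := exists_fg_lift (R := R) S₀ (fun l : c.support => c l)
  choose x hx using hx
  let A₂ : Subalgebra k R := A₀ ⊔ (A₁ ⊔ c.support.sup Aq)
  have hA₂ : A₂.FG := hA₀.sup (hA₁.sup (fg_finset_sup _ Aq (fun q => hAq q)))
  have h₁ : A₁ ≤ A₂ := le_sup_left.trans le_sup_right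
  have hq : ∀ l : c.support, Aq l ≤ A₂ := fun l =>
    (Finset.le_sup (f := Aq) l.2).trans (le_sup_right.trans le_sup_right)
  let E : A₂ ⊗[k] S₀ := ∑ l : c.support, sMap (Subalgebra.inclusion h₁) S₀ (x l) *
    sMap (Subalgebra.inclusion (hq l)) S₀ (gq l) - 1
  have hE : mMap A₂.val S₀ E = 0 := by
    rw [← sMap_eq_mMap]
    simp only [E, map_sub, map_sum, map_mul, map_one, sMap_val_inclusion]
    rw [sub_eq_zero, ← hc, Finsupp.sum, ← Finset.sum_coe_sort c.support]
    refine Finset.sum_congr rfl fun l _ => ?_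
    rw [sMap_eq_mMap A₁.val, hx]
  obtain ⟨B, hAB, hB, hBE⟩ := exists_fg_eq_zero (R := R) S₀ hA₂ (fun _ : Unit => E)
    (fun _ => hE)
  have hBE' : sMap (Subalgebra.inclusion hAB) S₀ E = 0 := by
    rw [sMap_eq_mMap]; exact hBE ()
  have hsum : ∑ l : c.support, sMap (Subalgebra.inclusion (h₁.trans hAB)) S₀ (x l) *
      sMap (Subalgebra.inclusion ((hq l).trans hAB)) S₀ (gq l) = 1 := by
    simp only [E, map_sub, map_sum, map_mul, map_one, sMap_inclusion_inclusion] at hBE'
    exact sub_eq_zero.mp hBE'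
  refine ⟨B, le_sup_left.trans hAB, hB, ?_⟩
  apply flat_of_forall_prime (A := B) (C := B ⊗[k] S₀) (B ⊗[k] M₀)
  intro Q hQ
  -- some generator avoids `Q`
  have hex : ∃ l : c.support, sMap (Subalgebra.inclusion ((hq l).trans hAB)) S₀ (gq l) ∉ Q := by
    by_contra hall
    push Not at hall
    have : (1 : B ⊗[k] S₀) ∈ Q := by
      rw [← hsum]
      exact Q.sum_mem fun l _ => Q.mul_mem_left _ (hall l)
    exact hQ.ne_top ((Ideal.eq_top_iff_one Q).mpr this)
  obtain ⟨l, hl⟩ := hex
  apply flat_stage_mono_subalgebra ((hq l).trans hAB) Q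
  exact hflatq l _ hl

end Global3

end Groth.Agent.Lib.FlatLimGlobal88
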