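import Groth.Agent.Lib.ArtinFamC64
import Groth.Agent.Lib.FlatLimGlobal88

/-!
# Flatness over an Artinian local ring tested on a family of local base changes (helper64)

EGA IV 11.4-type statement, ring level (`flat_localized_of_family`): `A` an Artinian local ring,
`B` a Noetherian `A`-algebra, `p` a prime of `B`, `M` a finite `B`-module.  Let `(A' i)` be local
`A`-algebras such that `A → ∏ A' i` is injective.  If for every `i` the module `A' i ⊗[A] M` is
flat over `A' i` at every prime of `A' i ⊗[A] B` lying over `p` and over the maximal ideal of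
`A' i`, then `M_p` is flat over `A`.
-/

set_option autoImplicit false
set_option maxHeartbeats 400000
set_option linter.style.haveILetI false
set_option linter.unusedSectionVars false
universe u

open TensorProduct Function IsLocalRing
open Groth.Agent.Lib.FlatLimStage88 Groth.Agent.Lib.GenFlattenU64 Groth.Agent.Lib.FlatLimGlobal88
open scoped Groth.Agent.Lib.FlatLimStage88

namespace Groth.Agent.Lib.ArtinFamD64

variable {A : Type u} [CommRing A] {B : Type u} [CommRing B] [Algebra A B]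
  {M : Type u} [AddCommGroup M] [Module A M] [Module B M] [IsScalarTower A B M]
  (p : Ideal B) [p.IsPrime]

/-- The pointwise flatness hypothesis for a local `A`-algebra `R`. -/
def HypAt (A : Type u) [CommRing A] {B : Type u} [CommRing B] [Algebra A B]
    (M : Type u) [AddCommGroup M] [Module A M] [Module B M] [IsScalarTower A B M]
    (p : Ideal B) (R : Type u) [CommRing R] [Algebra A R] [IsLocalRing R] : Prop :=
  ∀ (Q : Ideal (R ⊗[A] B)) [Q.IsPrime],
    Q.comap (Algebra.TensorProduct.includeRight : B →ₐ[A] R ⊗[A] B) = p →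
    Q.comap (algebraMap R (R ⊗[A] B)) = maximalIdeal R →
    Module.Flat R (LocalizedModule Q.primeCompl (R ⊗[A] M))

/-- The hypothesis passes to quotients of the local ring. -/
theorem HypAt.quotient {A' : Type u} [CommRing A'] [Algebra A A'] [IsLocalRing A']
    (H : HypAt A M p A') (𝔟 : Ideal A') [IsLocalRing (A' ⧸ 𝔟)] : HypAt A M p (A' ⧸ 𝔟) := by
  intro Q _ hQp hQm
  haveI : Nontrivial (A' ⧸ 𝔟) := inferInstance
  haveI hloc : IsLocalHom (Ideal.Quotient.mk 𝔟) :=
    IsLocalHom.of_surjective _ Ideal.Quotient.mk_surjective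
  apply flat_stage_mono (k := A) (B := A') (A := A' ⧸ 𝔟) (S₀ := B) (M₀ := M) Q
  apply H
  · ext b
    rw [Ideal.mem_comap, Ideal.mem_comap, ← hQp, Ideal.mem_comap]
    simp only [Algebra.TensorProduct.includeRight_apply, sMap_tmul, map_one]
  · ext a'
    rw [Ideal.mem_comap, Ideal.mem_comap]
    have h1 : sMap (IsScalarTower.toAlgHom A A' (A' ⧸ 𝔟)) B (algebraMap A' (A' ⊗[A] B) a') =
        algebraMap (A' ⧸ 𝔟) ((A' ⧸ 𝔟) ⊗[A] B) (Ideal.Quotient.mk 𝔟 a') := by
      rw [Algebra.TensorProduct.algebraMap_apply, Algebra.TensorProduct.algebraMap_apply,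
        sMap_tmul]
      rfl
    rw [h1, ← Ideal.mem_comap, hQm, mem_maximalIdeal, mem_maximalIdeal, mem_nonunits_iff,
      mem_nonunits_iff]
    exact not_congr (isUnit_map_iff (Ideal.Quotient.mk 𝔟) a')

section Step2

variable [IsLocalRing A] [IsArtinianRing A] [IsNoetherianRing B] [Module.Finite B M]

/-- A local `A`-algebra is automatically local over `A` when the maximal ideal of `A` is nil. -/
theorem isLocalHom_algebraMap (R : Type u) [CommRing R] [Algebra A R] [Nontrivial R] :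
    IsLocalHom (algebraMap A R) := by
  constructor
  intro a ha
  by_contra hna
  have hmem : a ∈ maximalIdeal A := (mem_maximalIdeal a).mpr hna
  obtain ⟨N, hN⟩ := Groth.Agent.Lib.ArtinianFlat.isNilpotent_maximalIdeal (A := A)
  have h1 : a ^ N ∈ maximalIdeal A ^ N := Ideal.pow_mem_pow hmem N
  rw [hN] at h1
  have h2 : a ^ N = 0 := h1
  have h3 : (algebraMap A R a) ^ N = 0 := by rw [← map_pow, h2, map_zero]
  have h4 : IsUnit ((algebraMap A R a) ^ N) := ha.pow N
  rw [h3] at h4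
  exact not_isUnit_zero h4

set_option synthInstance.maxHeartbeats 200000 in
/-- **Key step**: the flattening ideal of `M_p` dies in every local `A`-algebra satisfying the
pointwise flatness hypothesis. -/
theorem map_eq_bot_of_hypAt (J : Ideal A) (hJle : J ≤ maximalIdeal A)
    (hJ : ∀ (R' : Type u) [CommRing R'] [Algebra A R'],
      Module.Flat R' (R' ⊗[A] LocalizedModule p.primeCompl M) ↔ J.map (algebraMap A R') = ⊥)
    (A' : Type u) [CommRing A'] [Algebra A A'] [IsLocalRing A'] (H : HypAt A M p A') :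
    J.map (algebraMap A A') = ⊥ := by
  classical
  by_contra hne
  set 𝔞 : Ideal A' := J.map (algebraMap A A') with h𝔞
  have hnilA : IsNilpotent (maximalIdeal A) :=
    Groth.Agent.Lib.ArtinianFlat.isNilpotent_maximalIdeal
  have hJfg : J.FG := (isNoetherianRing_iff_ideal_fg A).mp inferInstance J
  have h𝔞fg : 𝔞.FG := hJfg.map _
  -- elements of `𝔞` are nilpotent
  have h𝔞nil : 𝔞 ≤ nilradical A' := by
    rw [h𝔞, Ideal.map_le_iff_le_comap]
    intro j hj
    rw [Ideal.mem_comap, mem_nilradical]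
    obtain ⟨N, hN⟩ := hnilA
    have h1 : j ^ N ∈ maximalIdeal A ^ N := Ideal.pow_mem_pow (hJle hj) N
    rw [hN] at h1
    have h2 : j ^ N = 0 := h1
    exact IsNilpotent.map (⟨N, h2⟩ : IsNilpotent j) (algebraMap A A')
  -- a coatom below `𝔞`
  haveI := CompleteLattice.Iic_coatomic_of_compact_element ((Submodule.fg_iff_compact 𝔞).mp h𝔞fg)
  obtain hbot | ⟨⟨𝔟, h𝔟le⟩, hco, -⟩ := eq_top_or_exists_le_coatom (⟨⊥, Set.mem_Iic.mpr bot_le⟩ : Set.Iic 𝔞)
  · exact hne (congrArg Subtype.val hbot).symm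
  have h𝔟le' : 𝔟 ≤ 𝔞 := h𝔟le
  have h𝔟ne : 𝔟 ≠ 𝔞 := fun h => hco.1 (Subtype.ext h)
  have hmaxl : ∀ c : Ideal A', c ≤ 𝔞 → 𝔟 < c → c = 𝔞 := fun c hc hlt =>
    congrArg Subtype.val (hco.2 ⟨c, hc⟩ (Subtype.mk_lt_mk.mpr hlt))
  obtain ⟨a, ha𝔞, ha𝔟⟩ := SetLike.exists_of_lt (lt_of_le_of_ne h𝔟le' h𝔟ne)
  have hsup : ∀ x ∈ 𝔞, x ∉ 𝔟 → 𝔟 ⊔ Ideal.span {x} = 𝔞 := by
    intro x hx hxb
    apply hmaxl
    · exact sup_le h𝔟le' ((Ideal.span_singleton_le_iff_mem _).mpr hx)
    · refine lt_of_le_of_ne le_sup_left (fun h => hxb ?_)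
      rw [h]
      exact Ideal.mem_sup_right (Ideal.mem_span_singleton_self x)
  -- the quotient ring
  have h𝔟top : 𝔟 ≠ ⊤ := by
    intro h
    have : (1 : A') ∈ nilradical A' := h𝔞nil (h𝔟le' (h ▸ Submodule.mem_top))
    obtain ⟨n, hn⟩ := mem_nilradical.mp this
    rw [one_pow] at hn
    exact one_ne_zero hn
  haveI : Nontrivial (A' ⧸ 𝔟) := Ideal.Quotient.nontrivial_iff.mpr h𝔟top
  haveI : IsLocalRing (A' ⧸ 𝔟) :=
    IsLocalRing.of_surjective' (Ideal.Quotient.mk 𝔟) Ideal.Quotient.mk_surjective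
  haveI : IsLocalHom (Ideal.Quotient.mk 𝔟) :=
    IsLocalHom.of_surjective _ Ideal.Quotient.mk_surjective
  haveI : IsLocalHom (algebraMap A (A' ⧸ 𝔟)) := isLocalHom_algebraMap (A' ⧸ 𝔟)
  set δ : A' ⧸ 𝔟 := Ideal.Quotient.mk 𝔟 a with hδdef
  have hδ0 : δ ≠ 0 := fun h => ha𝔟 (Ideal.Quotient.eq_zero_iff_mem.mp h)
  have hJmap : J.map (algebraMap A (A' ⧸ 𝔟)) = Ideal.span {δ} := by
    have h1 : algebraMap A (A' ⧸ 𝔟) = (Ideal.Quotient.mk 𝔟).comp (algebraMap A A') := rfl
    rw [h1, ← Ideal.map_map, ← h𝔞, ← hsup a ha𝔞 ha𝔟, Ideal.map_sup, Ideal.map_quotient_self,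
      bot_sup_eq, Ideal.map_span, Set.image_singleton]
  have hδnil : IsNilpotent δ := (mem_nilradical.mp (h𝔞nil ha𝔞)).map _
  have hδm : δ ∈ maximalIdeal (A' ⧸ 𝔟) := by
    rw [mem_maximalIdeal, mem_nonunits_iff]
    intro hu
    obtain ⟨n, hn⟩ := hδnil
    have := hu.pow n
    rw [hn] at this
    exact not_isUnit_zero this
  have hδ : ∀ r ∈ maximalIdeal (A' ⧸ 𝔟), r * δ = 0 := by
    intro r hr
    obtain ⟨r', rfl⟩ := Ideal.Quotient.mk_surjective r
    have hr' : r' ∈ maximalIdeal A' := by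
      rw [mem_maximalIdeal, mem_nonunits_iff] at hr ⊢
      exact fun h => hr (h.map _)
    rw [hδdef, ← map_mul, Ideal.Quotient.eq_zero_iff_mem]
    by_contra hcon
    have h1 := hsup (r' * a) (𝔞.mul_mem_left r' ha𝔞) hcon
    have h2 : a ∈ 𝔟 ⊔ Ideal.span {r' * a} := by rw [h1]; exact ha𝔞
    obtain ⟨b, hb, c, hc, hbc⟩ := Submodule.mem_sup.mp h2
    obtain ⟨s, rfl⟩ := Ideal.mem_span_singleton'.mp hc
    have hunit : IsUnit (1 - s * r') := by
      have hmem : s * r' ∈ maximalIdeal A' := Ideal.mul_mem_left _ s hr'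
      by_contra hnu
      have h3 : (1 - s * r') ∈ maximalIdeal A' := (mem_maximalIdeal _).mpr hnu
      have h4 : (1 : A') ∈ maximalIdeal A' := by
        have := Ideal.add_mem _ h3 hmem
        rwa [sub_add_cancel] at this
      exact (Ideal.ne_top_iff_one _).mp (maximalIdeal.isMaximal A').ne_top h4
    have h5 : (1 - s * r') * a = b := by
      linear_combination (-1 : A') * hbc
    have h6 : a ∈ 𝔟 := by
      obtain ⟨u, hu⟩ := hunit
      have : a = ↑u⁻¹ * b := by rw [← h5, ← hu, ← mul_assoc, Units.inv_mul, one_mul]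
      rw [this]
      exact 𝔟.mul_mem_left _ hb
    exact ha𝔟 h6
  -- the flatness of the reduction modulo `δ`
  haveI hflq : Module.Flat ((A' ⧸ 𝔟) ⧸ Ideal.span {δ})
      (((A' ⧸ 𝔟) ⧸ Ideal.span {δ}) ⊗[A' ⧸ 𝔟]
        ((A' ⧸ 𝔟) ⊗[A] LocalizedModule p.primeCompl M)) := by
    have h1 : Module.Flat ((A' ⧸ 𝔟) ⧸ Ideal.span {δ})
        (((A' ⧸ 𝔟) ⧸ Ideal.span {δ}) ⊗[A] LocalizedModule p.primeCompl M) := by
      rw [hJ]
      have h2 : algebraMap A ((A' ⧸ 𝔟) ⧸ Ideal.span {δ}) =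
          (Ideal.Quotient.mk (Ideal.span {δ})).comp (algebraMap A (A' ⧸ 𝔟)) := rfl
      rw [h2, ← Ideal.map_map, hJmap, Ideal.map_quotient_self]
    exact Module.Flat.of_linearEquiv
      (AlgebraTensorModule.cancelBaseChange A (A' ⧸ 𝔟) ((A' ⧸ 𝔟) ⧸ Ideal.span {δ})
        ((A' ⧸ 𝔟) ⧸ Ideal.span {δ}) (LocalizedModule p.primeCompl M))
  have HR : HypAt A M p (A' ⧸ 𝔟) := H.quotient p 𝔟
  have hflat : Module.Flat (A' ⧸ 𝔟) ((A' ⧸ 𝔟) ⊗[A] LocalizedModule p.primeCompl M) :=
    Groth.Agent.Lib.ArtinFamA64.flat_of_socle δ (stageSubmonoid A (A' ⧸ 𝔟) p.primeCompl)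
      (p.map (Algebra.TensorProduct.includeRight : B →ₐ[A] (A' ⧸ 𝔟) ⊗[A] B)) hδ
      (Groth.Agent.Lib.ArtinFamB64.bijective_smul_of_mem_stageSubmonoid p (A' ⧸ 𝔟))
      (Groth.Agent.Lib.ArtinFamB64.hloc_of_flat p (A' ⧸ 𝔟) δ hδ0 HR) hδm
      (Groth.Agent.Lib.ArtinFamC64.sep_context p (A' ⧸ 𝔟))
  have := (hJ (A' ⧸ 𝔟)).mp hflat
  rw [hJmap, Ideal.span_singleton_eq_bot] at this
  exact hδ0 this

end Step2

section Main

variable [IsLocalRing A] [IsArtinianRing A] [IsNoetherianRing B] [Module.Finite B M]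

/-- **EGA IV 11.4, ring level.** Flatness of `M_p` over an Artinian local ring `A`, tested on a
jointly injective family of local `A`-algebras at the primes over `p` and the closed points. -/
theorem flat_localized_of_family {ι : Type*} (A' : ι → Type u) [∀ i, CommRing (A' i)]
    [∀ i, Algebra A (A' i)] [∀ i, IsLocalRing (A' i)]
    (hinj : ∀ a : A, (∀ i, algebraMap A (A' i) a = 0) → a = 0)
    (H : ∀ i, HypAt A M p (A' i)) :
    Module.Flat A (LocalizedModule p.primeCompl M) := by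
  have hnil := Groth.Agent.Lib.ArtinianFlat.isNilpotent_maximalIdeal (A := A)
  letI : Field (A ⧸ maximalIdeal A) := Ideal.Quotient.field _
  haveI : Module.Free (A ⧸ maximalIdeal A)
      ((A ⧸ maximalIdeal A) ⊗[A] LocalizedModule p.primeCompl M) :=
    Module.Free.of_divisionRing _ _
  obtain ⟨J, hJle, hJ⟩ := exists_flattening_ideal (maximalIdeal A) hnil
    (M := LocalizedModule p.primeCompl M)
  have hJbot : J = ⊥ := by
    rw [eq_bot_iff]
    intro a ha
    rw [Ideal.mem_bot]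
    apply hinj
    intro i
    have h1 := map_eq_bot_of_hypAt p J hJle hJ (A' i) (H i)
    have hmem : algebraMap A (A' i) a ∈ J.map (algebraMap A (A' i)) :=
      Ideal.mem_map_of_mem _ ha
    rw [h1] at hmem
    exact hmem
  haveI : Module.Flat A (A ⊗[A] LocalizedModule p.primeCompl M) :=
    (hJ A).mpr (by rw [hJbot, Ideal.map_bot])
  exact Module.Flat.of_linearEquiv (TensorProduct.lid A (LocalizedModule p.primeCompl M)).symm

end Main

end Groth.Agent.Lib.ArtinFamD64
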