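import Mathlib

/-!
# Purely transcendental extensions and tensor products (helper71)

* `isDomain_tensor_fractionRing_mvPolynomial`: `L ⊗[k] k(T)` is a domain for every field `L/k`.
* `isDomain_adjoin_tensor`: for an algebraically independent family `x` in `K/k`, `k(x) ⊗[k] L` is a domain.
-/
set_option autoImplicit false
universe u
open TensorProduct

namespace Groth.Agent.Lib.H71PureTrans

section Algebra

variable {k : Type u} [Field k]

/-- `L ⊗[k] k(T)` is a domain. -/
theorem isDomain_tensor_fractionRing_mvPolynomial (ι : Type u) (L : Type u) [Field L] [Algebra k L] :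
    IsDomain (L ⊗[k] FractionRing (MvPolynomial ι k)) := by
  let R := MvPolynomial ι k
  let F := FractionRing R
  -- `L ⊗ R` is a domain
  haveI hdom : IsDomain (L ⊗[k] R) :=
    (MvPolynomial.algebraTensorAlgEquiv (σ := ι) k L).toRingEquiv.toMulEquiv.isDomain
  letI : Algebra (L ⊗[k] R) (L ⊗[k] F) :=
    (Algebra.TensorProduct.map (AlgHom.id L L) (IsScalarTower.toAlgHom k R F)).toRingHom.toAlgebra
  haveI : IsScalarTower L (L ⊗[k] R) (L ⊗[k] F) :=
    IsScalarTower.of_algebraMap_eq fun x => by
      show (algebraMap L (L ⊗[k] F)) x =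
        (Algebra.TensorProduct.map (AlgHom.id L L) (IsScalarTower.toAlgHom k R F))
          ((algebraMap L (L ⊗[k] R)) x)
      exact ((Algebra.TensorProduct.map (AlgHom.id L L) (IsScalarTower.toAlgHom k R F)).commutes x).symm
  haveI hloc := IsLocalization.tensorProduct_tensorProduct_right k L (nonZeroDivisors R) F
    (RingHom.ext fun p => by
      simp only [RingHom.comp_apply, RingHom.algebraMap_toAlgebra, AlgHom.toRingHom_eq_coe, RingHom.coe_coe,
        Algebra.TensorProduct.includeRight_apply, Algebra.TensorProduct.map_tmul]
      simp)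
  have hle : (nonZeroDivisors R).map (Algebra.TensorProduct.includeRight (R := k) (A := L)) ≤
      nonZeroDivisors (L ⊗[k] R) := by
    rintro _ ⟨p, hp, rfl⟩
    rw [mem_nonZeroDivisors_iff_ne_zero]
    intro h0
    have hinj : Function.Injective (Algebra.TensorProduct.includeRight (R := k) (A := L) (B := R)) :=
      Algebra.TensorProduct.includeRight_injective (algebraMap k L).injective
    have : p = 0 := hinj (by rw [h0, map_zero])
    exact (mem_nonZeroDivisors_iff_ne_zero.mp hp) this
  exact IsLocalization.isDomain_of_le_nonZeroDivisors (L ⊗[k] F) hle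

/-- For an algebraically independent family `x` in `K`, the purely transcendental subextension `k(x)` has
`k(x) ⊗[k] L` a domain for every field `L`. -/
theorem isDomain_adjoin_tensor {K : Type u} [Field K] [Algebra k K] {ι : Type u} (x : ι → K)
    (hx : AlgebraicIndependent k x) (L : Type u) [Field L] [Algebra k L] :
    IsDomain (↥(IntermediateField.adjoin k (Set.range x)) ⊗[k] L) := by
  haveI := isDomain_tensor_fractionRing_mvPolynomial (k := k) ι L
  let e₁ := Algebra.TensorProduct.comm k ↥(IntermediateField.adjoin k (Set.range x)) L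
  let e₂ : L ⊗[k] ↥(IntermediateField.adjoin k (Set.range x)) ≃ₐ[k]
      L ⊗[k] FractionRing (MvPolynomial ι k) :=
    Algebra.TensorProduct.congr AlgEquiv.refl hx.aevalEquivField.symm
  exact (e₁.trans e₂).toRingEquiv.toMulEquiv.isDomain

end Algebra

end Groth.Agent.Lib.H71PureTrans
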