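import Groth.Agent.S2150
import Groth.Agent.Lib.H71PureTrans

/-!
# Tensor products with a primary field extension have no embedded components (helper64)

`mem_nonZeroDivisors_tensor_of_primary`: if `K/k` is a primary field extension (every element of
`K` separable algebraic over `k` lies in `k`) and `k'/k` is any field extension, then every
non-nilpotent element of `k' ⊗[k] K` is a non-zero-divisor.
-/

set_option autoImplicit false
set_option linter.style.haveILetI false
universe u

open TensorProduct

namespace Groth.Agent.Lib.PrimNZD64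

/-- Abstract form: `D` integral and torsion-free over a domain `D₀`, with prime nilradical.
Then non-nilpotent elements of `D` are non-zero-divisors. -/
theorem eq_zero_of_mul_eq_zero_of_not_isNilpotent {D₀ D : Type*} [CommRing D₀] [IsDomain D₀]
    [CommRing D] [Algebra D₀ D] [Algebra.IsIntegral D₀ D]
    (htf : ∀ (a : D₀) (x : D), a ≠ 0 → algebraMap D₀ D a * x = 0 → x = 0)
    (hprime : (nilradical D).IsPrime) (c : D) (hc : ¬ IsNilpotent c) (x : D) (hx : c * x = 0) :
    x = 0 := by
  haveI := hprime
  haveI : IsDomain (D ⧸ nilradical D) := Ideal.Quotient.isDomain _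
  have hc0 : (Ideal.Quotient.mk (nilradical D) c) ≠ 0 := by
    intro h
    exact hc (mem_nilradical.mp (Ideal.Quotient.eq_zero_iff_mem.mp h))
  have hint : IsIntegral D₀ (Ideal.Quotient.mk (nilradical D) c) :=
    (Algebra.IsIntegral.isIntegral (R := D₀) c).map (Ideal.Quotient.mkₐ D₀ (nilradical D))
  obtain ⟨r, hr0, ebar, he⟩ := hint.isAlgebraic.exists_nonzero_dvd
    (mem_nonZeroDivisors_of_ne_zero hc0)
  obtain ⟨e, rfl⟩ := Ideal.Quotient.mk_surjective ebar
  -- `ν = a - c e` is nilpotent
  have hν : IsNilpotent (algebraMap D₀ D r - c * e) := by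
    rw [← mem_nilradical, ← Ideal.Quotient.eq_zero_iff_mem, map_sub, map_mul, ← he, sub_eq_zero]
    rfl
  obtain ⟨N, hN⟩ := hν
  -- `a^n x = ν^n x`
  have hax : algebraMap D₀ D r * x = (algebraMap D₀ D r - c * e) * x := by
    rw [sub_mul, mul_assoc, mul_comm e x, ← mul_assoc, hx, zero_mul, sub_zero]
  have hpow : ∀ n : ℕ, algebraMap D₀ D r ^ n * x = (algebraMap D₀ D r - c * e) ^ n * x := by
    intro n
    induction n with
    | zero => simp
    | succ n ih =>
      rw [pow_succ, mul_assoc, hax, ← mul_assoc, mul_comm (algebraMap D₀ D r ^ n), mul_assoc, ih,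
        ← mul_assoc, ← pow_succ']
  have h0 : algebraMap D₀ D (r ^ N) * x = 0 := by
    rw [map_pow, hpow, hN, zero_mul]
  exact htf (r ^ N) x (pow_ne_zero N hr0) h0

/-- Auxiliary form with a chosen intermediate field `F` over which `K` is algebraic and with
`F ⊗[k] k'` a domain. -/
theorem eq_zero_of_mul_eq_zero_aux {k K k' : Type u} [Field k] [Field K] [Algebra k K]
    [Field k'] [Algebra k k'] (F : Type u) [Field F] [Algebra k F] [Algebra F K]
    [IsScalarTower k F K] [Algebra.IsAlgebraic F K]
    [IsDomain (F ⊗[k] k')] (hprime : (nilradical (k' ⊗[k] K)).IsPrime)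
    (c : k' ⊗[k] K) (hc : ¬ IsNilpotent c) (y : k' ⊗[k] K) (hy : c * y = 0) : y = 0 := by
  haveI hint : Algebra.IsIntegral F K := Algebra.IsAlgebraic.isIntegral
  -- the ring `D = D₀ ⊗[F] K`
  let e₁ : (F ⊗[k] k') ⊗[F] K ≃ₐ[F] K ⊗[F] (F ⊗[k] k') := Algebra.TensorProduct.comm F _ _
  let e₂ : K ⊗[F] (F ⊗[k] k') ≃ₐ[K] K ⊗[k] k' := Algebra.TensorProduct.cancelBaseChange k F K K k'
  let e₃ : K ⊗[k] k' ≃ₐ[k] k' ⊗[k] K := Algebra.TensorProduct.comm k K k'
  let e : (F ⊗[k] k') ⊗[F] K ≃+* k' ⊗[k] K :=
    (e₁.toRingEquiv.trans e₂.toRingEquiv).trans e₃.toRingEquiv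
  have hprime' : (nilradical ((F ⊗[k] k') ⊗[F] K)).IsPrime := by
    have : nilradical ((F ⊗[k] k') ⊗[F] K) = (nilradical (k' ⊗[k] K)).comap (e : _ →+* _) := by
      ext z
      rw [Ideal.mem_comap, mem_nilradical, mem_nilradical]
      constructor
      · intro h
        exact h.map e
      · intro h
        have := h.map e.symm
        simpa using this
    rw [this]
    exact Ideal.comap_isPrime _ _
  have htf : ∀ (a : F ⊗[k] k') (x : (F ⊗[k] k') ⊗[F] K), a ≠ 0 →
      algebraMap (F ⊗[k] k') ((F ⊗[k] k') ⊗[F] K) a * x = 0 → x = 0 := by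
    intro a x ha h
    rw [← Algebra.smul_def] at h
    exact (smul_eq_zero_iff_right ha).mp h
  have hc' : ¬ IsNilpotent (e.symm c) := by
    intro h
    apply hc
    have := h.map e
    simpa using this
  have hy' : e.symm c * e.symm y = 0 := by rw [← map_mul, hy, map_zero]
  have := eq_zero_of_mul_eq_zero_of_not_isNilpotent htf hprime' (e.symm c) hc' (e.symm y) hy'
  exact (map_eq_zero_iff e.symm e.symm.injective).mp this

/-- **No embedded components**: for a primary extension `K/k` and any field extension `k'/k`,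
non-nilpotent elements of `k' ⊗[k] K` are non-zero-divisors. -/
theorem eq_zero_of_mul_eq_zero_of_primary {k K k' : Type u} [Field k] [Field K] [Algebra k K]
    [Field k'] [Algebra k k']
    (hprim : ∀ α : K, IsSeparable k α → α ∈ Set.range (algebraMap k K))
    (c : k' ⊗[k] K) (hc : ¬ IsNilpotent c) (y : k' ⊗[k] K) (hy : c * y = 0) : y = 0 := by
  haveI hirr : IrreducibleSpace (PrimeSpectrum (k' ⊗[k] K)) :=
    (Groth.Agent.S2150.result (k := k) (K := K)).mpr hprim k'
  have hprime : (nilradical (k' ⊗[k] K)).IsPrime :=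
    PrimeSpectrum.irreducibleSpace_iff_isPrime_nilradical.mp hirr
  obtain ⟨s, hs⟩ := exists_isTranscendenceBasis k K
  have hx : AlgebraicIndependent k ((↑) : s → K) := hs.1
  haveI halg : Algebra.IsAlgebraic (IntermediateField.adjoin k (Set.range ((↑) : s → K))) K :=
    hs.isAlgebraic_field
  haveI hdom : IsDomain ((IntermediateField.adjoin k (Set.range ((↑) : s → K))) ⊗[k] k') :=
    Groth.Agent.Lib.H71PureTrans.isDomain_adjoin_tensor ((↑) : s → K) hx k'
  exact eq_zero_of_mul_eq_zero_aux (IntermediateField.adjoin k (Set.range ((↑) : s → K)))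
    hprime c hc y hy

end Groth.Agent.Lib.PrimNZD64
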