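import Groth.Agent.Lib.FlatLimStage88
import Mathlib

/-!
# Non-zero-divisors on `k' ⊗[k] E` by dévissage (helper64)

`k ⊆ k'` fields, `𝔅` a `k`-algebra with a maximal ideal `𝔫`, `c ∈ k' ⊗[k] 𝔅` acting injectively on
`k' ⊗[k] (𝔅 ⧸ 𝔫)`.  Then `c` acts injectively on `k' ⊗[k] E` for every `𝔅`-module `E` which is
`𝔫`-adically separated (`eq_zero_of_smul_eq_zero`).
-/

set_option autoImplicit false
set_option maxHeartbeats 400000
set_option linter.style.haveILetI false
set_option linter.unusedSectionVars false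
universe u

open TensorProduct Function
open Groth.Agent.Lib.FlatLimStage88
open scoped Groth.Agent.Lib.FlatLimStage88

namespace Groth.Agent.Lib.TensNZD64

section Coord

variable {k : Type u} [Field k] {k' : Type u} [Field k'] [Algebra k k']

/-- Coordinates on the left factor detect zero. -/
theorem eq_zero_of_coord_left {Λ : Type u} (b : Module.Basis Λ k k')
    {X : Type u} [AddCommGroup X] [Module k X] (x : k' ⊗[k] X)
    (h : ∀ l : Λ, (b.coord l).rTensor X x = 0) : x = 0 := by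
  classical
  let Φ : k' ⊗[k] X ≃ₗ[k] Λ →₀ (k ⊗[k] X) :=
    (LinearEquiv.rTensor X b.repr) ≪≫ₗ finsuppLeft k k k X Λ
  apply Φ.injective
  rw [map_zero]
  ext l : 1
  rw [Finsupp.zero_apply]
  change finsuppLeft k k k X Λ ((LinearEquiv.rTensor X b.repr) x) l = 0
  rw [finsuppLeft_apply]
  change (LinearMap.rTensor X (Finsupp.lapply l)) ((LinearMap.rTensor X b.repr.toLinearMap) x) = 0
  rw [← LinearMap.rTensor_comp_apply]
  exact h l

/-- Coordinates on the right factor detect zero. -/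
theorem eq_zero_of_coord_right {I : Type u} {F G : Type u} [AddCommGroup F] [Module k F]
    [AddCommGroup G] [Module k G] (e : G ≃ₗ[k] (I →₀ F)) (x : k' ⊗[k] G)
    (h : ∀ i : I, ((Finsupp.lapply i).comp e.toLinearMap).lTensor k' x = 0) : x = 0 := by
  classical
  let Φ : k' ⊗[k] G ≃ₗ[k] I →₀ (k' ⊗[k] F) :=
    (LinearEquiv.lTensor k' e) ≪≫ₗ finsuppRight k k k' F I
  apply Φ.injective
  rw [map_zero]
  ext i : 1
  rw [Finsupp.zero_apply]
  change finsuppRight k k k' F I ((LinearEquiv.lTensor k' e) x) i = 0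
  rw [finsuppRight_apply]
  change (LinearMap.lTensor k' (Finsupp.lapply i)) ((LinearMap.lTensor k' e.toLinearMap) x) = 0
  rw [← LinearMap.lTensor_comp_apply]
  exact h i

end Coord

section Main

variable {k : Type u} [Field k] {k' : Type u} [Field k'] [Algebra k k']
  {𝔅 : Type u} [CommRing 𝔅] [Algebra k 𝔅] (𝔫 : Ideal 𝔅) [h𝔫 : 𝔫.IsMaximal]
  (c : k' ⊗[k] 𝔅)
  (hc : ∀ w : k' ⊗[k] (𝔅 ⧸ 𝔫), c • w = 0 → w = 0)

include h𝔫 hc in
/-- The case of a module killed by `𝔫`. -/
theorem eq_zero_of_torsion {G : Type u} [AddCommGroup G] [Module k G] [Module 𝔅 G]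
    [IsScalarTower k 𝔅 G] (hG : ∀ a ∈ 𝔫, ∀ g : G, a • g = 0)
    (w : k' ⊗[k] G) (hw : c • w = 0) : w = 0 := by
  classical
  have htors : Module.IsTorsionBySet 𝔅 G (𝔫 : Set 𝔅) := fun g a => hG a.1 a.2 g
  letI : Field (𝔅 ⧸ 𝔫) := Ideal.Quotient.field 𝔫
  letI : Module (𝔅 ⧸ 𝔫) G := htors.module
  haveI t1 : IsScalarTower 𝔅 (𝔅 ⧸ 𝔫) G := htors.isScalarTower
  haveI t2 : IsScalarTower k (𝔅 ⧸ 𝔫) G := htors.isScalarTower
  let b := Module.Free.chooseBasis (𝔅 ⧸ 𝔫) G
  let e : G ≃ₗ[k] (Module.Free.ChooseBasisIndex (𝔅 ⧸ 𝔫) G →₀ (𝔅 ⧸ 𝔫)) :=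
    b.repr.restrictScalars k
  apply eq_zero_of_coord_right e
  intro i
  -- the coordinate as a `𝔅`-linear map
  let ci : G →ₗ[𝔅] (𝔅 ⧸ 𝔫) := (b.coord i).restrictScalars 𝔅
  have h1 : ((Finsupp.lapply i).comp e.toLinearMap).lTensor k' w = stageMap k k' ci w := by
    rw [stageMap_apply]
    rfl
  rw [h1]
  apply hc
  rw [← map_smul, hw, map_zero]

include h𝔫 hc in
/-- Extension step. -/
theorem eq_zero_of_ext {E₂ E₃ : Type u} [AddCommGroup E₂] [Module k E₂] [Module 𝔅 E₂]
    [IsScalarTower k 𝔅 E₂] [AddCommGroup E₃] [Module k E₃] [Module 𝔅 E₃] [IsScalarTower k 𝔅 E₃]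
    (π : E₂ →ₗ[𝔅] E₃) (hπ : Surjective π)
    (hker : ∀ a ∈ 𝔫, ∀ g : E₂, π g = 0 → a • g = 0)
    (h₃ : ∀ w : k' ⊗[k] E₃, c • w = 0 → w = 0)
    (w : k' ⊗[k] E₂) (hw : c • w = 0) : w = 0 := by
  have h1 : stageMap k k' π w = 0 := by
    apply h₃
    rw [← map_smul, hw, map_zero]
  have hex : Function.Exact ((LinearMap.ker π).subtype.restrictScalars k) (π.restrictScalars k) :=
    LinearMap.exact_subtype_ker_map π
  have hex' := lTensor_exact k' hex hπ
  obtain ⟨w', hw'⟩ := (hex' w).mp h1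
  have hinj : Injective (stageMap k k' (LinearMap.ker π).subtype) := by
    have : Injective (((LinearMap.ker π).subtype.restrictScalars k).lTensor k') :=
      Module.Flat.lTensor_preserves_injective_linearMap _ (Submodule.injective_subtype _)
    exact this
  have hw'' : stageMap k k' (LinearMap.ker π).subtype w' = w := hw'
  have h2 : c • w' = 0 := by
    apply hinj
    rw [map_smul, hw'', hw, map_zero]
  have h3 : w' = 0 := by
    refine eq_zero_of_torsion 𝔫 c hc ?_ w' h2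
    intro a ha g
    apply Subtype.ext
    rw [Submodule.coe_smul, Submodule.coe_zero]
    exact hker a ha g.1 g.2
  rw [← hw'', h3, map_zero]

variable {E : Type u} [AddCommGroup E] [Module k E] [Module 𝔅 E] [IsScalarTower k 𝔅 E]

include h𝔫 hc in
/-- `c` acts injectively on `k' ⊗ E/𝔫^j E`. -/
theorem eq_zero_of_quotient (j : ℕ) :
    ∀ w : k' ⊗[k] (E ⧸ (𝔫 ^ j • (⊤ : Submodule 𝔅 E))), c • w = 0 → w = 0 := by
  induction j with
  | zero =>
    haveI : Subsingleton (E ⧸ (𝔫 ^ 0 • (⊤ : Submodule 𝔅 E))) := by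
      rw [pow_zero, Ideal.one_eq_top, Submodule.top_smul]
      exact Submodule.Quotient.subsingleton_iff.mpr rfl
    have hall : ∀ w : k' ⊗[k] (E ⧸ (𝔫 ^ 0 • (⊤ : Submodule 𝔅 E))), w = 0 := by
      intro w
      induction w with
      | zero => rfl
      | add x y hx hy => rw [hx, hy, add_zero]
      | tmul a x => rw [Subsingleton.elim x 0, tmul_zero]
    exact fun w _ => hall w
  | succ j ih =>
    have hle : 𝔫 ^ (j + 1) • (⊤ : Submodule 𝔅 E) ≤ 𝔫 ^ j • (⊤ : Submodule 𝔅 E) :=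
      Submodule.smul_mono_left (Ideal.pow_le_pow_right (Nat.le_succ j))
    refine eq_zero_of_ext 𝔫 c hc (Submodule.factor hle) (Submodule.factor_surjective hle) ?_ ih
    intro a ha g hg
    obtain ⟨x, rfl⟩ := Submodule.mkQ_surjective _ g
    rw [Submodule.factor_mk, Submodule.mkQ_apply, Submodule.Quotient.mk_eq_zero] at hg
    rw [← map_smul, Submodule.mkQ_apply, Submodule.Quotient.mk_eq_zero, pow_succ', mul_smul]
    exact Submodule.smul_mem_smul ha hg

include h𝔫 hc in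
/-- **Dévissage**: `c` acts injectively on `k' ⊗ E` for `𝔫`-adically separated `E`. -/
theorem eq_zero_of_smul_eq_zero
    (hK : ∀ e : E, (∀ j : ℕ, e ∈ 𝔫 ^ j • (⊤ : Submodule 𝔅 E)) → e = 0)
    (w : k' ⊗[k] E) (hw : c • w = 0) : w = 0 := by
  let b := Module.Free.chooseBasis k k'
  apply eq_zero_of_coord_left b
  intro l
  apply (TensorProduct.lid k E).injective
  rw [map_zero]
  apply hK
  intro j
  rw [← Submodule.Quotient.mk_eq_zero, ← Submodule.mkQ_apply]
  -- the image of `w` in `k' ⊗ E/𝔫^j E` vanishes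
  have h1 : stageMap k k' (Submodule.mkQ (𝔫 ^ j • (⊤ : Submodule 𝔅 E))) w = 0 := by
    apply eq_zero_of_quotient 𝔫 c hc j
    rw [← map_smul, hw, map_zero]
  have h2 : ∀ y : k' ⊗[k] E,
      (Submodule.mkQ (𝔫 ^ j • (⊤ : Submodule 𝔅 E)))
        ((TensorProduct.lid k E) ((b.coord l).rTensor E y)) =
      (TensorProduct.lid k _) ((b.coord l).rTensor _
        (stageMap k k' (Submodule.mkQ (𝔫 ^ j • (⊤ : Submodule 𝔅 E))) y)) := by
    intro y
    induction y with
    | zero => simp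
    | add x y hx hy => simp only [map_add, hx, hy]
    | tmul a x =>
      simp only [LinearMap.rTensor_tmul, stageMap_tmul, TensorProduct.lid_tmul]
      exact LinearMap.map_smul_of_tower _ _ _
  rw [h2, h1, map_zero, map_zero]

end Main

end Groth.Agent.Lib.TensNZD64
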