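import Groth.Agent.Lib.ArtinFamC64
import Groth.Agent.Lib.TensNZD64
import Groth.Agent.Lib.PrimNZD64

/-!
# Non-zero-divisors on `k' ⊗[A] X` for a primary residue extension (helper64)

`A → k` a surjection onto a field, `k'/k` a field extension, `B` an `A`-algebra, `p` a prime of `B`
with localization `L = B_p` Noetherian, whose residue field `κ` is a primary extension of `k`, `X`
a finite `L`-module.  An element `c' ∈ k' ⊗[A] B` whose image in `k' ⊗[k] κ` is not nilpotent acts
injectively on `k' ⊗[A] X` (`eq_zero_of_smul_eq_zero`).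
-/

set_option autoImplicit false
set_option maxHeartbeats 400000
set_option linter.style.haveILetI false
set_option linter.unusedSectionVars false
universe u

open TensorProduct Function IsLocalRing
open Groth.Agent.Lib.FlatLimStage88
open scoped Groth.Agent.Lib.FlatLimStage88

namespace Groth.Agent.Lib.ArtinFamExA64

section Defs

variable (A : Type u) [CommRing A] {B : Type u} [CommRing B] [Algebra A B]
  (p : Ideal B) [p.IsPrime]
  (L : Type u) [CommRing L] [Algebra B L] [Algebra A L] [IsScalarTower A B L]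
  [IsLocalization.AtPrime L p]
  (k : Type u) [Field k] [Algebra A k]
  (k' : Type u) [Field k'] [Algebra A k'] [Algebra k k'] [IsScalarTower A k k']
  (κ : Type u) [Field κ] [Algebra B κ] [Algebra A κ] [IsScalarTower A B κ]
  [Algebra k κ] [IsScalarTower A k κ]
  (hu : ∀ y : p.primeCompl, IsUnit (algebraMap B κ y))

/-- The character `B_p → κ`. -/
noncomputable def phiB : L →ₐ[A] κ :=
  IsLocalization.liftAlgHom (M := p.primeCompl) (f := IsScalarTower.toAlgHom A B κ) hu

theorem phiB_algebraMap (b : B) :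
    phiB A p L κ hu (algebraMap B L b) = algebraMap B κ b := by
  rw [phiB, IsLocalization.liftAlgHom_apply, IsLocalization.lift_eq]
  rfl

/-- The character `k ⊗[A] B_p → κ`. -/
noncomputable def phi : k ⊗[A] L →ₐ[k] κ :=
  Algebra.TensorProduct.lift (Algebra.ofId k κ) (phiB A p L κ hu) (fun _ _ => Commute.all _ _)

theorem phi_tmul (l : k) (β : L) :
    phi A p L k κ hu (l ⊗ₜ[A] β) = algebraMap k κ l * phiB A p L κ hu β := by
  rw [phi, Algebra.TensorProduct.lift_tmul]
  rfl

/-- The comparison map `k' ⊗[A] B → k' ⊗[k] (k ⊗[A] B_p)`. -/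
noncomputable def theta : k' ⊗[A] B →ₐ[k'] k' ⊗[k] (k ⊗[A] L) :=
  (Algebra.TensorProduct.cancelBaseChange A k k' k' L).symm.toAlgHom.comp
    (Algebra.TensorProduct.map (AlgHom.id k' k') (IsScalarTower.toAlgHom A B L))

theorem theta_tmul (a : k') (b : B) :
    theta A L k k' (a ⊗ₜ[A] b) = a ⊗ₜ[k] ((1 : k) ⊗ₜ[A] algebraMap B L b) := by
  rw [theta, AlgHom.comp_apply, Algebra.TensorProduct.map_tmul]
  simp

/-- The map `k' ⊗[A] B → k' ⊗[k] κ`. -/
noncomputable def psi : k' ⊗[A] B →ₐ[k'] k' ⊗[k] κ :=
  Algebra.TensorProduct.lift (Algebra.TensorProduct.includeLeft)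
    (((Algebra.TensorProduct.includeRight : κ →ₐ[k] k' ⊗[k] κ).restrictScalars A).comp
      (IsScalarTower.toAlgHom A B κ)) (fun _ _ => Commute.all _ _)

theorem psi_tmul (a : k') (b : B) :
    psi A k k' κ (a ⊗ₜ[A] b) = a ⊗ₜ[k] algebraMap B κ b := by
  rw [psi, Algebra.TensorProduct.lift_tmul]
  simp

end Defs

section Lemmas

variable {A : Type u} [CommRing A] {B : Type u} [CommRing B] [Algebra A B]
  (p : Ideal B) [p.IsPrime]
  (L : Type u) [CommRing L] [Algebra B L] [Algebra A L] [IsScalarTower A B L]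
  [IsLocalization.AtPrime L p]
  {k : Type u} [Field k] [Algebra A k] (hk : Surjective (algebraMap A k))
  {κ : Type u} [Field κ] [Algebra B κ] [Algebra A κ] [IsScalarTower A B κ]
  [Algebra k κ] [IsScalarTower A k κ]
  (hκ : RingHom.ker (algebraMap B κ) = p)

include hκ in
theorem isUnit_of_primeCompl (y : p.primeCompl) : IsUnit (algebraMap B κ y) := by
  rw [isUnit_iff_ne_zero]
  intro h
  have hy : (y : B) ∈ RingHom.ker (algebraMap B κ) := RingHom.mem_ker.mpr h
  exact y.2 (hκ.le hy)

include hk in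
/-- `B_p → k ⊗[A] B_p` is surjective. -/
theorem includeRight_surjective :
    Surjective (Algebra.TensorProduct.includeRight : L →ₐ[A] k ⊗[A] L) := by
  intro y
  induction y with
  | zero => exact ⟨0, map_zero _⟩
  | add x y hx hy =>
    obtain ⟨a, rfl⟩ := hx
    obtain ⟨b, rfl⟩ := hy
    exact ⟨a + b, map_add _ _ _⟩
  | tmul l β =>
    obtain ⟨a, rfl⟩ := hk l
    refine ⟨a • β, ?_⟩
    rw [Algebra.TensorProduct.includeRight_apply, Algebra.algebraMap_eq_smul_one,
      TensorProduct.smul_tmul]

/-- `phiB` kills the non-units. -/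
theorem phiB_eq_zero_of_not_isUnit (β : L) (hβ : ¬ IsUnit β) :
    phiB A p L κ (isUnit_of_primeCompl p hκ) β = 0 := by
  obtain ⟨b, s, rfl⟩ := IsLocalization.exists_mk'_eq p.primeCompl β
  rw [IsLocalization.AtPrime.isUnit_mk'_iff L p] at hβ
  have hbp : b ∈ p := by
    by_contra h
    exact hβ h
  have h1 : IsLocalization.mk' L b s * algebraMap B L s = algebraMap B L b :=
    IsLocalization.mk'_spec _ _ _
  have h2 := congrArg (phiB A p L κ (isUnit_of_primeCompl p hκ)) h1
  rw [map_mul, phiB_algebraMap, phiB_algebraMap] at h2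
  have hb : algebraMap B κ b = 0 := by
    rw [← RingHom.mem_ker, hκ]
    exact hbp
  rw [hb] at h2
  have hs : algebraMap B κ s ≠ 0 := (isUnit_of_primeCompl p hκ s).ne_zero
  exact (mul_eq_zero.mp h2).resolve_right hs

include hk in
/-- Elements outside the kernel of `phi` are units. -/
theorem isUnit_of_phi_ne_zero (y : k ⊗[A] L)
    (hy : phi A p L k κ (isUnit_of_primeCompl p hκ) y ≠ 0) : IsUnit y := by
  obtain ⟨β, rfl⟩ := includeRight_surjective L hk y
  rw [Algebra.TensorProduct.includeRight_apply, phi_tmul, map_one, one_mul] at hy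
  have hβ : IsUnit β := by
    by_contra hnu
    exact hy (phiB_eq_zero_of_not_isUnit p L hκ β hnu)
  exact hβ.map (Algebra.TensorProduct.includeRight : L →ₐ[A] k ⊗[A] L)

include hk in
theorem ker_phi_isMaximal :
    (RingHom.ker (phi A p L k κ (isUnit_of_primeCompl p hκ))).IsMaximal := by
  rw [Ideal.isMaximal_iff]
  refine ⟨?_, ?_⟩
  · rw [RingHom.mem_ker, map_one]
    exact one_ne_zero
  · intro J x _ hx hxJ
    have hu := isUnit_of_phi_ne_zero p L hk hκ x (fun h => hx (RingHom.mem_ker.mpr h))
    obtain ⟨u, rfl⟩ := hu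
    have := J.mul_mem_left (↑u⁻¹ : k ⊗[A] L) hxJ
    rwa [Units.inv_mul] at this

include hk in
theorem ker_phi_le_jacobson :
    RingHom.ker (phi A p L k κ (isUnit_of_primeCompl p hκ)) ≤
      Ideal.jacobson (⊥ : Ideal (k ⊗[A] L)) := by
  intro x hx
  rw [Ideal.mem_jacobson_bot]
  intro y
  apply isUnit_of_phi_ne_zero p L hk hκ
  rw [map_add, map_mul, RingHom.mem_ker.mp hx, zero_mul, zero_add, map_one]
  exact one_ne_zero

variable [IsNoetherianRing L]
  {X : Type u} [AddCommGroup X] [Module A X] [Module L X] [IsScalarTower A L X] [Module.Finite L X]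

include hk in
/-- Krull's intersection theorem for `k ⊗[A] X` over `k ⊗[A] B_p`. -/
theorem krull (e : k ⊗[A] X)
    (h : ∀ j : ℕ, e ∈ RingHom.ker (phi A p L k κ (isUnit_of_primeCompl p hκ)) ^ j •
      (⊤ : Submodule (k ⊗[A] L) (k ⊗[A] X))) :
    e = 0 := by
  haveI : IsNoetherianRing (k ⊗[A] L) :=
    isNoetherianRing_of_surjective L (k ⊗[A] L)
      (Algebra.TensorProduct.includeRight : L →ₐ[A] k ⊗[A] L).toRingHom
      (includeRight_surjective L hk)
  have hkr := Ideal.iInf_pow_smul_eq_bot_of_le_jacobson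
    (M := k ⊗[A] X)
    (RingHom.ker (phi A p L k κ (isUnit_of_primeCompl p hκ))) (ker_phi_le_jacobson p L hk hκ)
  rw [← Submodule.mem_bot (k ⊗[A] L), ← hkr, Submodule.mem_iInf]
  exact h

end Lemmas

section Main

variable {A : Type u} [CommRing A] {B : Type u} [CommRing B] [Algebra A B]
  (p : Ideal B) [p.IsPrime]
  (L : Type u) [CommRing L] [Algebra B L] [Algebra A L] [IsScalarTower A B L]
  [IsLocalization.AtPrime L p]
  {k : Type u} [Field k] [Algebra A k] (hk : Surjective (algebraMap A k))
  {k' : Type u} [Field k'] [Algebra A k'] [Algebra k k'] [IsScalarTower A k k']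
  {κ : Type u} [Field κ] [Algebra B κ] [Algebra A κ] [IsScalarTower A B κ]
  [Algebra k κ] [IsScalarTower A k κ]
  (hκ : RingHom.ker (algebraMap B κ) = p)

/-- Compatibility of the action on `k' ⊗[k] (𝔅 ⧸ 𝔫)` with multiplication in `k' ⊗[k] κ`. -/
theorem lTensor_kerLift_smul (c' : k' ⊗[A] B)
    (w : k' ⊗[k] ((k ⊗[A] L) ⧸ RingHom.ker (phi A p L k κ (isUnit_of_primeCompl p hκ)))) :
    (Ideal.kerLiftAlg (phi A p L k κ (isUnit_of_primeCompl p hκ))).toLinearMap.lTensor k'
        (theta A L k k' c' • w) =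
      psi A k k' κ c' *
        (Ideal.kerLiftAlg (phi A p L k κ (isUnit_of_primeCompl p hκ))).toLinearMap.lTensor k' w := by
  induction c' with
  | zero =>
    have h0 : (0 : k' ⊗[k] (k ⊗[A] L)) • w = 0 :=
      @zero_smul (k' ⊗[k] (k ⊗[A] L))
        (k' ⊗[k] ((k ⊗[A] L) ⧸ RingHom.ker (phi A p L k κ (isUnit_of_primeCompl p hκ)))) _ _
        (Module.toMulActionWithZero).toSMulWithZero w
    rw [map_zero, map_zero, zero_mul, h0, map_zero]
  | add x y hx hy =>
    have h0 : (theta A L k k' x + theta A L k k' y) • w =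
        theta A L k k' x • w + theta A L k k' y • w :=
      @add_smul _ _ _ _ _ (theta A L k k' x) (theta A L k k' y) w
    rw [map_add, map_add, add_mul, h0, map_add, hx, hy]
  | tmul a b =>
    induction w with
    | zero => rw [smul_zero, map_zero, mul_zero]
    | add x y hx hy => rw [smul_add, map_add, map_add, mul_add, hx, hy]
    | tmul a' q =>
      rw [theta_tmul, psi_tmul, tmul_smul_tmul, LinearMap.lTensor_tmul, LinearMap.lTensor_tmul,
        Algebra.TensorProduct.tmul_mul_tmul]
      congr 1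
      obtain ⟨y', rfl⟩ := Ideal.Quotient.mk_surjective q
      have hsm : ((1 : k) ⊗ₜ[A] algebraMap B L b) •
          (Ideal.Quotient.mk (RingHom.ker (phi A p L k κ (isUnit_of_primeCompl p hκ))) y') =
          Ideal.Quotient.mk _ (((1 : k) ⊗ₜ[A] algebraMap B L b) * y') := rfl
      rw [AlgHom.toLinearMap_apply, AlgHom.toLinearMap_apply, hsm, Ideal.kerLiftAlg_mk,
        Ideal.kerLiftAlg_mk, map_mul, phi_tmul, map_one, one_mul, phiB_algebraMap]

variable {X : Type u} [AddCommGroup X] [Module A X] [Module B X] [Module L X]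
  [IsScalarTower A B X] [IsScalarTower A L X] [IsScalarTower B L X]

/-- Compatibility of `cancelBaseChange` with the stage actions. -/
theorem cancelBaseChange_theta_smul (c' : k' ⊗[A] B) (w : k' ⊗[k] (k ⊗[A] X)) :
    AlgebraTensorModule.cancelBaseChange A k k' k' X (theta A L k k' c' • w) =
      c' • AlgebraTensorModule.cancelBaseChange A k k' k' X w := by
  induction c' with
  | zero =>
    have h0 : (0 : k' ⊗[k] (k ⊗[A] L)) • w = 0 :=
      @zero_smul (k' ⊗[k] (k ⊗[A] L)) (k' ⊗[k] (k ⊗[A] X)) _ _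
        (Module.toMulActionWithZero).toSMulWithZero w
    rw [map_zero, h0, map_zero, zero_smul]
  | add x y hx hy =>
    have h0 : (theta A L k k' x + theta A L k k' y) • w =
        theta A L k k' x • w + theta A L k k' y • w :=
      @add_smul _ _ _ _ _ (theta A L k k' x) (theta A L k k' y) w
    rw [map_add, h0, map_add, hx, hy, add_smul]
  | tmul a b =>
    induction w with
    | zero => rw [smul_zero, map_zero, smul_zero]
    | add x y hx hy => rw [smul_add, map_add, map_add, smul_add, hx, hy]
    | tmul a' e =>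
      induction e with
      | zero => rw [tmul_zero, smul_zero, map_zero, smul_zero]
      | add x y hx hy => rw [tmul_add, smul_add, map_add, map_add, smul_add, hx, hy]
      | tmul l x =>
        rw [theta_tmul, tmul_smul_tmul, tmul_smul_tmul,
          AlgebraTensorModule.cancelBaseChange_tmul, AlgebraTensorModule.cancelBaseChange_tmul,
          tmul_smul_tmul, algebraMap_smul, one_mul, mul_smul_comm]

variable [IsNoetherianRing L] [Module.Finite L X]

include hk hκ L in
/-- **Non-zero-divisors on `k' ⊗[A] X`**, for a primary residue field extension `κ/k`. -/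
theorem eq_zero_of_smul_eq_zero
    (hprim : ∀ α : κ, IsSeparable k α → α ∈ Set.range (algebraMap k κ))
    (c' : k' ⊗[A] B) (hc' : ¬ IsNilpotent (psi A k k' κ c'))
    (z : k' ⊗[A] X) (hz : c' • z = 0) : z = 0 := by
  haveI hmax := ker_phi_isMaximal p L hk hκ
  have hJinj : Injective
      ((Ideal.kerLiftAlg (phi A p L k κ (isUnit_of_primeCompl p hκ))).toLinearMap.lTensor k') :=
    Module.Flat.lTensor_preserves_injective_linearMap (M := k')
      (Ideal.kerLiftAlg (phi A p L k κ (isUnit_of_primeCompl p hκ))).toLinearMap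
      (Ideal.kerLiftAlg_injective (phi A p L k κ (isUnit_of_primeCompl p hκ)))
  have hc : ∀ w : k' ⊗[k] ((k ⊗[A] L) ⧸
      RingHom.ker (phi A p L k κ (isUnit_of_primeCompl p hκ))), theta A L k k' c' • w = 0 → w = 0 := by
    intro w hw
    apply hJinj
    rw [map_zero]
    have h1 := lTensor_kerLift_smul p L hκ c' w
    rw [hw, map_zero] at h1
    exact Groth.Agent.Lib.PrimNZD64.eq_zero_of_mul_eq_zero_of_primary hprim _ hc' _ h1.symm
  have h2 := Groth.Agent.Lib.TensNZD64.eq_zero_of_smul_eq_zero
    (RingHom.ker (phi A p L k κ (isUnit_of_primeCompl p hκ))) (theta A L k k' c') hc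
    (E := k ⊗[A] X) (krull p L hk hκ)
    ((AlgebraTensorModule.cancelBaseChange A k k' k' X).symm z)
    (by
      apply (AlgebraTensorModule.cancelBaseChange A k k' k' X).injective
      rw [cancelBaseChange_theta_smul, LinearEquiv.apply_symm_apply, hz, map_zero])
  have h3 := congrArg (AlgebraTensorModule.cancelBaseChange A k k' k' X) h2
  rwa [LinearEquiv.apply_symm_apply, map_zero] at h3

end Main

end Groth.Agent.Lib.ArtinFamExA64
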