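import Groth.Agent.Lib.ArtinFamExA64
import Groth.Agent.Lib.ArtinFamD64

/-!
# Flatness over an Artinian local ring tested at ONE point of each base change, for a primary
residue field extension (helper64)

EGA IV 11.4-type statement, ring level (`flat_localized_of_family_ex`).
-/

set_option autoImplicit false
set_option maxHeartbeats 400000
set_option linter.style.haveILetI false
set_option linter.unusedSectionVars false
universe u

open TensorProduct Function IsLocalRing
open Groth.Agent.Lib.FlatLimStage88 Groth.Agent.Lib.ArtinFamExA64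
open scoped Groth.Agent.Lib.FlatLimStage88

namespace Groth.Agent.Lib.ArtinFamExB64

section Char

variable {A : Type u} [CommRing A] {B : Type u} [CommRing B] [Algebra A B]
  (p : Ideal B) [p.IsPrime]
  {k : Type u} [Field k] [Algebra A k] (hk : Surjective (algebraMap A k))
  {κ : Type u} [Field κ] [Algebra B κ] [Algebra A κ] [IsScalarTower A B κ]
  [Algebra k κ] [IsScalarTower A k κ]
  (hκ : RingHom.ker (algebraMap B κ) = p)
  (hfrac : ∀ z : κ, ∃ b s : B, s ∉ p ∧ z * algebraMap B κ s = algebraMap B κ b)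
  (R : Type u) [CommRing R] [Algebra A R] [IsLocalRing R]
  [Algebra k (ResidueField R)] [IsScalarTower A k (ResidueField R)]
  (Q : Ideal (R ⊗[A] B)) [Q.IsPrime]
  (hQp : Q.comap (Algebra.TensorProduct.includeRight : B →ₐ[A] R ⊗[A] B) = p)
  (hQm : Q.comap (algebraMap R (R ⊗[A] B)) = maximalIdeal R)

include hfrac in
theorem phiB_surjective :
    Surjective (phiB A p (Localization.AtPrime p) κ (isUnit_of_primeCompl p hκ)) := by
  intro z
  obtain ⟨b, s, hs, hzs⟩ := hfrac z
  refine ⟨IsLocalization.mk' (Localization.AtPrime p) b (⟨s, hs⟩ : p.primeCompl), ?_⟩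
  have h1 : IsLocalization.mk' (Localization.AtPrime p) b (⟨s, hs⟩ : p.primeCompl) *
      algebraMap B (Localization.AtPrime p) s = algebraMap B (Localization.AtPrime p) b :=
    IsLocalization.mk'_spec _ _ _
  have h2 := congrArg (phiB A p (Localization.AtPrime p) κ (isUnit_of_primeCompl p hκ)) h1
  rw [map_mul, phiB_algebraMap, phiB_algebraMap, ← hzs] at h2
  have hs0 : algebraMap B κ s ≠ 0 :=
    (isUnit_of_primeCompl p hκ (⟨s, hs⟩ : p.primeCompl)).ne_zero
  exact mul_right_cancel₀ hs0 h2

include hk hκ hfrac hQp hQm in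
/-- An element outside a prime `Q` of `R ⊗[A] B` over `p` and the closed point has non-nilpotent
image in `k' ⊗[k] κ`. -/
theorem not_isNilpotent_psi (c : R ⊗[A] B) (hc : c ∉ Q) :
    ¬ IsNilpotent (psi A k (ResidueField R) κ
      (sMap (IsScalarTower.toAlgHom A R (ResidueField R)) B c)) := by
  classical
  let F := FractionRing ((R ⊗[A] B) ⧸ Q)
  let ω : R ⊗[A] B →+* F := (algebraMap ((R ⊗[A] B) ⧸ Q) F).comp (Ideal.Quotient.mk Q)
  have hω : ∀ x, ω x = 0 ↔ x ∈ Q := by
    intro x
    change algebraMap ((R ⊗[A] B) ⧸ Q) F (Ideal.Quotient.mk Q x) = 0 ↔ _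
    rw [map_eq_zero_iff _ (IsFractionRing.injective ((R ⊗[A] B) ⧸ Q) F),
      Ideal.Quotient.eq_zero_iff_mem]
  -- the residue field of `R`
  let ωR : R →+* F := ω.comp (algebraMap R (R ⊗[A] B))
  haveI hlocR : IsLocalHom ωR := by
    constructor
    intro r hr
    by_contra hnu
    have h1 : r ∈ maximalIdeal R := (mem_maximalIdeal r).mpr hnu
    rw [← hQm, Ideal.mem_comap] at h1
    have h2 : ωR r = 0 := (hω _).mpr h1
    rw [h2] at hr
    exact not_isUnit_zero hr
  let gk' : ResidueField R →+* F := ResidueField.lift ωR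
  -- the residue field at `p`
  let ωB : B →+* F :=
    ω.comp (Algebra.TensorProduct.includeRight : B →ₐ[A] R ⊗[A] B).toRingHom
  have hωB : ∀ b, ωB b = 0 ↔ b ∈ p := by
    intro b
    rw [← hQp, Ideal.mem_comap]
    exact hω _
  have hunits : ∀ y : p.primeCompl, IsUnit (ωB y) := by
    intro y
    rw [isUnit_iff_ne_zero]
    intro h
    exact y.2 ((hωB _).mp h)
  let ωL : Localization.AtPrime p →+* F := IsLocalization.lift (M := p.primeCompl) hunits
  have hker : RingHom.ker
      (phiB A p (Localization.AtPrime p) κ (isUnit_of_primeCompl p hκ) :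
        Localization.AtPrime p →+* κ) ≤ RingHom.ker ωL := by
    intro β hβ
    rw [RingHom.mem_ker] at hβ ⊢
    have hnu : ¬ IsUnit β := by
      intro hu
      have := hu.map (phiB A p (Localization.AtPrime p) κ (isUnit_of_primeCompl p hκ))
      rw [show (phiB A p (Localization.AtPrime p) κ (isUnit_of_primeCompl p hκ)) β = 0 from hβ]
        at this
      exact not_isUnit_zero this
    obtain ⟨b, s, rfl⟩ := IsLocalization.exists_mk'_eq p.primeCompl β
    rw [IsLocalization.AtPrime.isUnit_mk'_iff (Localization.AtPrime p) p] at hnu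
    have hbp : b ∈ p := by
      by_contra h
      exact hnu h
    rw [IsLocalization.lift_mk', (hωB b).mpr hbp, zero_mul]
  let g : κ →+* F := RingHom.liftOfSurjective
    (phiB A p (Localization.AtPrime p) κ (isUnit_of_primeCompl p hκ) :
      Localization.AtPrime p →+* κ) (phiB_surjective p hκ hfrac) ⟨ωL, hker⟩
  have hg : ∀ b : B, g (algebraMap B κ b) = ωB b := by
    intro b
    have h1 := RingHom.liftOfSurjective_comp_apply
      (phiB A p (Localization.AtPrime p) κ (isUnit_of_primeCompl p hκ) :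
        Localization.AtPrime p →+* κ) (phiB_surjective p hκ hfrac) ⟨ωL, hker⟩
      (algebraMap B (Localization.AtPrime p) b)
    have h2 : (phiB A p (Localization.AtPrime p) κ (isUnit_of_primeCompl p hκ) :
        Localization.AtPrime p →+* κ) (algebraMap B (Localization.AtPrime p) b) =
        algebraMap B κ b := phiB_algebraMap A p (Localization.AtPrime p) κ _ b
    rw [h2] at h1
    rw [h1]
    exact IsLocalization.lift_eq _ _
  -- algebra structures on `F`
  letI algk'F : Algebra (ResidueField R) F := gk'.toAlgebra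
  letI algkF : Algebra k F := (gk'.comp (algebraMap k (ResidueField R))).toAlgebra
  haveI tow1 : IsScalarTower k (ResidueField R) F := IsScalarTower.of_algebraMap_eq fun _ => rfl
  letI algκF : Algebra κ F := g.toAlgebra
  haveI tow2 : IsScalarTower k κ F := by
    refine IsScalarTower.of_algebraMap_eq fun l => ?_
    obtain ⟨a, rfl⟩ := hk l
    change gk' (algebraMap k (ResidueField R) (algebraMap A k a)) = g (algebraMap k κ (algebraMap A k a))
    rw [← IsScalarTower.algebraMap_apply A k (ResidueField R),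
      ← IsScalarTower.algebraMap_apply A k κ, IsScalarTower.algebraMap_apply A B κ, hg,
      IsScalarTower.algebraMap_apply A R (ResidueField R)]
    change ResidueField.lift ωR (residue R (algebraMap A R a)) = _
    rw [ResidueField.lift_residue_apply]
    change ω (algebraMap R (R ⊗[A] B) (algebraMap A R a)) = ω ((1 : R) ⊗ₜ[A] algebraMap A B a)
    congr 1
    rw [← IsScalarTower.algebraMap_apply A R (R ⊗[A] B)]
    exact ((Algebra.TensorProduct.includeRight : B →ₐ[A] R ⊗[A] B).commutes a).symm
  let Ξ : ResidueField R ⊗[k] κ →ₐ[ResidueField R] F :=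
    Algebra.TensorProduct.lift (Algebra.ofId (ResidueField R) F) (IsScalarTower.toAlgHom k κ F)
      (fun _ _ => Commute.all _ _)
  have key : ∀ x : R ⊗[A] B, Ξ (psi A k (ResidueField R) κ
      (sMap (IsScalarTower.toAlgHom A R (ResidueField R)) B x)) = ω x := by
    intro x
    induction x with
    | zero => simp
    | add x y hx hy => simp only [map_add, hx, hy]
    | tmul r b =>
      rw [sMap_tmul, psi_tmul, Algebra.TensorProduct.lift_tmul]
      change gk' (residue R r) * g (algebraMap B κ b) = ω (r ⊗ₜ[A] b)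
      rw [hg]
      change ResidueField.lift ωR (residue R r) * ωB b = _
      rw [ResidueField.lift_residue_apply]
      change ω (algebraMap R (R ⊗[A] B) r) * ω ((1 : R) ⊗ₜ[A] b) = _
      rw [← map_mul, Algebra.TensorProduct.algebraMap_apply, Algebra.TensorProduct.tmul_mul_tmul,
        mul_one, one_mul]
      rfl
  intro hnil
  have h1 : IsNilpotent (ω c) := by
    rw [← key]
    exact hnil.map Ξ
  have h2 : ω c = 0 := h1.eq_zero
  exact hc ((hω c).mp h2)

end Char


section Socle

variable {R : Type u} [CommRing R] [IsLocalRing R] (δ : R)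
  {N : Type u} [AddCommGroup N] [Module R N]

/-- Flatness from a socle element, given that elements killed by `δ` lie in `𝔫 N`. -/
theorem flat_of_socle_of_key (hδ : ∀ r ∈ maximalIdeal R, r * δ = 0) (hδm : δ ∈ maximalIdeal R)
    (key : ∀ n : N, δ • n = 0 → n ∈ maximalIdeal R • (⊤ : Submodule R N))
    [Module.Flat (R ⧸ Ideal.span {δ}) ((R ⧸ Ideal.span {δ}) ⊗[R] N)] : Module.Flat R N := by
  have hnil : IsNilpotent (Ideal.span {δ} : Ideal R) := by
    refine ⟨2, ?_⟩
    rw [Ideal.span_singleton_pow, pow_two, hδ δ hδm, Ideal.zero_eq_bot, Ideal.span_singleton_eq_bot]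
  refine Groth.Agent.Lib.FlatCrit.flat_of_isNilpotent (Ideal.span {δ}) hnil ?_
  have hδI : δ ∈ (Ideal.span {δ} : Ideal R) := Ideal.mem_span_singleton_self δ
  have hform : ∀ z : (Ideal.span {δ} : Ideal R) ⊗[R] N,
      ∃ n : N, z = (⟨δ, hδI⟩ : (Ideal.span {δ} : Ideal R)) ⊗ₜ[R] n := by
    intro z
    induction z with
    | zero => exact ⟨0, by rw [tmul_zero]⟩
    | add x y hx hy =>
      obtain ⟨a, rfl⟩ := hx
      obtain ⟨b, rfl⟩ := hy
      exact ⟨a + b, by rw [tmul_add]⟩
    | tmul x m =>
      obtain ⟨x, hx⟩ := x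
      obtain ⟨r, rfl⟩ := Ideal.mem_span_singleton'.mp hx
      refine ⟨r • m, ?_⟩
      have : (⟨r * δ, hx⟩ : (Ideal.span {δ} : Ideal R)) = r • ⟨δ, hδI⟩ := by
        apply Subtype.ext
        simp
      rw [this, TensorProduct.smul_tmul]
  rw [injective_iff_map_eq_zero]
  intro z hz
  obtain ⟨n, rfl⟩ := hform z
  rw [LinearMap.rTensor_tmul] at hz
  have h0 : δ • n = 0 := by
    have := congrArg (TensorProduct.lid R N) hz
    simpa using this
  have hn := key n h0
  refine Submodule.smul_induction_on hn (fun r hr m _ => ?_) (fun x y hx hy => ?_)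
  · rw [← TensorProduct.smul_tmul]
    have : r • (⟨δ, hδI⟩ : (Ideal.span {δ} : Ideal R)) = 0 := by
      apply Subtype.ext
      simp [hδ r hr]
    rw [this, zero_tmul]
  · rw [tmul_add, hx, hy, add_zero]

end Socle

section Key

variable {A : Type u} [CommRing A] [IsLocalRing A] {B : Type u} [CommRing B] [Algebra A B]
  [IsNoetherianRing B]
  {M : Type u} [AddCommGroup M] [Module A M] [Module B M] [IsScalarTower A B M] [Module.Finite B M]
  (p : Ideal B) [p.IsPrime]
  {k : Type u} [Field k] [Algebra A k] (hk : Surjective (algebraMap A k))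
  {κ : Type u} [Field κ] [Algebra B κ] [Algebra A κ] [IsScalarTower A B κ]
  [Algebra k κ] [IsScalarTower A k κ]
  (hκ : RingHom.ker (algebraMap B κ) = p)
  (hfrac : ∀ z : κ, ∃ b s : B, s ∉ p ∧ z * algebraMap B κ s = algebraMap B κ b)
  (hprim : ∀ α : κ, IsSeparable k α → α ∈ Set.range (algebraMap k κ))
  (R : Type u) [CommRing R] [Algebra A R] [IsLocalRing R] [IsLocalHom (algebraMap A R)]
  [Algebra k (ResidueField R)] [IsScalarTower A k (ResidueField R)]
  (Q : Ideal (R ⊗[A] B)) [Q.IsPrime]
  (hQp : Q.comap (Algebra.TensorProduct.includeRight : B →ₐ[A] R ⊗[A] B) = p)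
  (hQm : Q.comap (algebraMap R (R ⊗[A] B)) = maximalIdeal R)

include hk hκ hfrac hprim hQp hQm in
/-- **Key step**: multiplication by an element outside `Q` reflects membership in `𝔫 N`. -/
theorem mem_of_smul_mem (c : R ⊗[A] B) (hc : c ∉ Q)
    (n : R ⊗[A] LocalizedModule p.primeCompl M)
    (h : c • n ∈ maximalIdeal R • (⊤ : Submodule R (R ⊗[A] LocalizedModule p.primeCompl M))) :
    n ∈ maximalIdeal R • (⊤ : Submodule R (R ⊗[A] LocalizedModule p.primeCompl M)) := by
  apply Groth.Agent.Lib.ArtinFamC64.piMap_eq_zero_imp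
  have h0 := Groth.Agent.Lib.ArtinFamC64.piMap_of_mem _ h
  have h1 : Groth.Agent.Lib.ArtinFamC64.piMap R (LocalizedModule p.primeCompl M) (c • n) =
      sMap (IsScalarTower.toAlgHom A R (ResidueField R)) B c •
        Groth.Agent.Lib.ArtinFamC64.piMap R (LocalizedModule p.primeCompl M) n :=
    mMap_smul (IsScalarTower.toAlgHom A R (ResidueField R)) c n
  rw [h1] at h0
  exact eq_zero_of_smul_eq_zero p (Localization.AtPrime p) hk hκ hprim _
    (not_isNilpotent_psi p hk hκ hfrac R Q hQp hQm c hc) _ h0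

include hQp in
/-- The local condition at the single prime `Q`. -/
theorem hloc_at (δ : R) (hδ0 : δ ≠ 0)
    (hfl : Module.Flat R (LocalizedModule Q.primeCompl (R ⊗[A] M)))
    (n : R ⊗[A] LocalizedModule p.primeCompl M) (hn : δ • n = 0) :
    ∃ c ∉ Q, c • n ∈ maximalIdeal R • (⊤ : Submodule R (R ⊗[A] LocalizedModule p.primeCompl M)) := by
  have hsdis : ∀ s ∈ stageSubmonoid A R p.primeCompl, s ∉ Q := by
    intro s hs hsQ
    obtain ⟨b, hb, rfl⟩ := (mem_stageSubmonoid A R _).mp hs
    apply hb
    have hbQ : b ∈ Q.comap (Algebra.TensorProduct.includeRight : B →ₐ[A] R ⊗[A] B) :=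
      Ideal.mem_comap.mpr hsQ
    rw [hQp] at hbQ
    exact hbQ
  obtain ⟨⟨n₀, s⟩, hn₀⟩ := IsLocalizedModule.surj (stageSubmonoid A R p.primeCompl)
    (Groth.Agent.Lib.ArtinFamB64.iotaP (M := M) p R) n
  have hn₀' : (s : R ⊗[A] B) • n = Groth.Agent.Lib.ArtinFamB64.iotaP p R n₀ := hn₀
  have hιR : ∀ (r : R) (m : R ⊗[A] M), Groth.Agent.Lib.ArtinFamB64.iotaP (M := M) p R (r • m) =
      r • Groth.Agent.Lib.ArtinFamB64.iotaP p R m :=
    fun r m => by
      rw [← algebraMap_smul (R ⊗[A] B) r m, map_smul, algebraMap_smul]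
  have h1 : Groth.Agent.Lib.ArtinFamB64.iotaP (M := M) p R (δ • n₀) =
      Groth.Agent.Lib.ArtinFamB64.iotaP p R 0 := by
    rw [hιR, ← hn₀', smul_comm, hn, smul_zero, map_zero]
  obtain ⟨s', hs'⟩ := IsLocalizedModule.exists_of_eq (S := stageSubmonoid A R p.primeCompl) h1
  have hs'' : (s' : R ⊗[A] B) • δ • n₀ = 0 := by
    have := hs'
    rw [smul_zero] at this
    exact this
  have hn₁ : δ • ((s' : R ⊗[A] B) • n₀) = 0 := by rw [smul_comm]; exact hs''
  have hx : δ • LocalizedModule.mkLinearMap Q.primeCompl (R ⊗[A] M) ((s' : R ⊗[A] B) • n₀) = 0 := by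
    have hmkR : ∀ (r : R) (m : R ⊗[A] M),
        LocalizedModule.mkLinearMap Q.primeCompl (R ⊗[A] M) (r • m) =
          r • LocalizedModule.mkLinearMap Q.primeCompl (R ⊗[A] M) m := fun r m => by
      rw [← algebraMap_smul (R ⊗[A] B) r m, map_smul, algebraMap_smul]
    rw [← hmkR, hn₁, map_zero]
  have hmem := Groth.Agent.Lib.ArtinFamB64.mem_max_smul_top_of_smul_eq_zero
    (X := LocalizedModule Q.primeCompl (R ⊗[A] M)) δ hδ0 _ hx
  obtain ⟨c₀, hc₀, hc₀mem⟩ := Groth.Agent.Lib.ArtinFamB64.exists_smul_mem_of_map_mem (R := R)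
    (C := R ⊗[A] B) (N₀ := R ⊗[A] M) (X := LocalizedModule Q.primeCompl (R ⊗[A] M)) Q.primeCompl
    (LocalizedModule.mkLinearMap Q.primeCompl (R ⊗[A] M)) ((s' : R ⊗[A] B) • n₀) hmem
  refine ⟨c₀ * (s' : R ⊗[A] B) * (s : R ⊗[A] B), ?_, ?_⟩
  · intro hcon
    rcases Ideal.IsPrime.mem_or_mem inferInstance hcon with h | h
    · rcases Ideal.IsPrime.mem_or_mem inferInstance h with h | h
      · exact hc₀ h
      · exact hsdis _ s'.2 h
    · exact hsdis _ s.2 h
  · have himg : ∀ y ∈ maximalIdeal R • (⊤ : Submodule R (R ⊗[A] M)),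
        Groth.Agent.Lib.ArtinFamB64.iotaP (M := M) p R y ∈
          maximalIdeal R • (⊤ : Submodule R (R ⊗[A] LocalizedModule p.primeCompl M)) := by
      intro y hy
      refine Submodule.smul_induction_on hy (fun r hr m _ => ?_) (fun x y hx hy => ?_)
      · rw [hιR]
        exact Submodule.smul_mem_smul hr trivial
      · rw [map_add]
        exact Submodule.add_mem _ hx hy
    have := himg _ hc₀mem
    rw [map_smul, map_smul, ← hn₀', ← mul_smul, ← mul_smul] at this
    exact this

end Key

end Groth.Agent.Lib.ArtinFamExB64
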