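import Groth.Agent.Lib.H72FlatBaseChange2
import Groth.Agent.Lib.H72PullbackQCoh

/-!
# Flatness of a pulled back module after a further base change (helper64)

`isFlatOverAt_pullback_comp`: for `f : X ⟶ S`, `g : Y ⟶ S`, `h : Z ⟶ Y` and `h' = h ≫ g`, a point
`x''` of `X ×_S Z` with image `x'` in `X ×_S Y`: if the pullback of `F` to `X ×_S Y` is flat over
`Y` at `x'` then the pullback of `F` to `X ×_S Z` is flat over `Z` at `x''`.
-/

set_option autoImplicit false
set_option linter.style.haveILetI false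
universe u

open CategoryTheory AlgebraicGeometry Limits

namespace Groth.Agent.Lib.FlatBCComp64

variable {X S Y Z : Scheme.{u}}

/-- The canonical map `X ×_S Z ⟶ X ×_S Y` induced by `h : Z ⟶ Y`. -/
noncomputable def pbMap (f : X ⟶ S) (g : Y ⟶ S) (h : Z ⟶ Y) (h' : Z ⟶ S) (e : h' = h ≫ g) :
    pullback f h' ⟶ pullback f g :=
  pullback.lift (pullback.fst f h') (pullback.snd f h' ≫ h)
    (by rw [pullback.condition, e, Category.assoc])

@[reassoc (attr := simp)]
theorem pbMap_fst (f : X ⟶ S) (g : Y ⟶ S) (h : Z ⟶ Y) (h' : Z ⟶ S) (e : h' = h ≫ g) :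
    pbMap f g h h' e ≫ pullback.fst f g = pullback.fst f h' :=
  pullback.lift_fst _ _ _

@[reassoc (attr := simp)]
theorem pbMap_snd (f : X ⟶ S) (g : Y ⟶ S) (h : Z ⟶ Y) (h' : Z ⟶ S) (e : h' = h ≫ g) :
    pbMap f g h h' e ≫ pullback.snd f g = pullback.snd f h' ≫ h :=
  pullback.lift_snd _ _ _

theorem isPullback_pbMap (f : X ⟶ S) (g : Y ⟶ S) (h : Z ⟶ Y) (h' : Z ⟶ S) (e : h' = h ≫ g) :
    IsPullback (pbMap f g h h' e) (pullback.snd f h') (pullback.snd f g) h := by
  subst e
  refine IsPullback.of_right ?_ (pbMap_snd f g h _ rfl) (IsPullback.of_hasPullback f g)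
  rw [pbMap_fst]
  exact IsPullback.of_hasPullback f (h ≫ g)

/-- Flatness of the pulled back module is preserved by a further base change. -/
theorem isFlatOverAt_pullback_comp (f : X ⟶ S) (g : Y ⟶ S) (h : Z ⟶ Y) (h' : Z ⟶ S)
    (e : h' = h ≫ g) (F : X.Modules) [F.IsQuasicoherent] (x'' : ↥(pullback f h'))
    (hfl : FlatMod.IsFlatOverAt (pullback.snd f g)
      ((Scheme.Modules.pullback (pullback.fst f g)).obj F) (pbMap f g h h' e x'')) :
    FlatMod.IsFlatOverAt (pullback.snd f h')
      ((Scheme.Modules.pullback (pullback.fst f h')).obj F) x'' := by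
  haveI : ((Scheme.Modules.pullback (pullback.fst f g)).obj F).IsQuasicoherent :=
    Groth.Agent.Lib.H72PullbackQCoh.isQuasicoherent_pullback _ F
  have h1 := Groth.Agent.Lib.H72FlatBaseChange.isFlatOverAt_pullback_of_isPullback
    (isPullback_pbMap f g h h' e) ((Scheme.Modules.pullback (pullback.fst f g)).obj F) x'' hfl
  let iso : (Scheme.Modules.pullback (pbMap f g h h' e)).obj
      ((Scheme.Modules.pullback (pullback.fst f g)).obj F) ≅
      (Scheme.Modules.pullback (pullback.fst f h')).obj F :=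
    (Scheme.Modules.pullbackComp (pbMap f g h h' e) (pullback.fst f g)).app F ≪≫
      (Scheme.Modules.pullbackCongr (pbMap_fst f g h h' e)).app F
  exact (Groth.Agent.Lib.H72FlatBaseChange.isFlatOverAt_iff_of_iso _ iso x'').mp h1

end Groth.Agent.Lib.FlatBCComp64
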