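import Groth.Agent.Lib.ArtinFamSch64
import Groth.Agent.Lib.FlatBCComp64

/-!
# Flatness over an Artinian local base tested on a family of schemes (helper64)

`isFlatOverAt_of_scheme_family`: EGA IV 11.4-type criterion with a family of `A`-schemes
`g_i : Y_i ⟶ Spec A` that is jointly injective on global sections; reduced to the family of local
rings `O_{Y_i, y}`.
-/

set_option autoImplicit false
set_option linter.style.haveILetI false
universe u

open CategoryTheory AlgebraicGeometry Limits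

namespace Groth.Agent.Lib.ArtinFamSchB64

open Groth.Agent.Lib.FlatBCComp64

/-- A global section all of whose germs vanish is zero. -/
theorem eq_zero_of_germ {Y : Scheme.{u}} (s : Γ(Y, ⊤))
    (h : ∀ y : Y, Y.presheaf.germ ⊤ y trivial s = 0) : s = 0 := by
  apply TopCat.Presheaf.section_ext Y.sheaf ⊤ s 0
  intro y hy
  rw [map_zero]
  exact h y

/-- The morphism `Spec O_{Y,y} ⟶ Y ⟶ Spec R` in terms of ring maps. -/
theorem specMap_germ_comp {Y : Scheme.{u}} (R : CommRingCat.{u}) (g : Y ⟶ Spec R) (y : Y) :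
    Spec.map ((Scheme.ΓSpecIso R).inv ≫ g.appTop ≫ Y.presheaf.germ ⊤ y trivial) =
      Y.fromSpecStalk y ≫ g := by
  rw [Spec.map_comp, Spec.map_comp, ← Scheme.fromSpecStalk_toSpecΓ]
  simp only [Category.assoc]
  rw [← Scheme.toSpecΓ_naturality_assoc, toSpecΓ_SpecMap_ΓSpecIso_inv, Category.comp_id]

/-- **EGA IV 11.4-type criterion with a family of `A`-schemes.** -/
theorem isFlatOverAt_of_scheme_family {A : Type u} [CommRing A]
    [IsArtinianRing A] [IsLocalRing A] {X : Scheme.{u}} (f : X ⟶ Spec (CommRingCat.of A))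
    [LocallyOfFiniteType f] (F : X.Modules) (hF : Coh.IsCoh F) (x : X)
    {ι : Type u} (Y : ι → Scheme.{u}) (g : ∀ i, Y i ⟶ Spec (CommRingCat.of A))
    (hg : ∀ a : A, (∀ i, (g i).appTop ((Scheme.ΓSpecIso (CommRingCat.of A)).inv a) = 0) → a = 0)
    (hflat : ∀ (i : ι) (x' : ↥(pullback f (g i))), pullback.fst f (g i) x' = x →
      FlatMod.IsFlatOverAt (pullback.snd f (g i))
        ((Scheme.Modules.pullback (pullback.fst f (g i))).obj F) x') :
    FlatMod.IsFlatOverAt f F x := by
  classical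
  haveI : F.IsQuasicoherent := hF.1
  let A' : (Σ i, ↥(Y i)) → Type u := fun j => ↑((Y j.1).presheaf.stalk j.2)
  let u : ∀ j : (Σ i, ↥(Y i)), A →+* A' j := fun j =>
    ((Scheme.ΓSpecIso (CommRingCat.of A)).inv ≫ (g j.1).appTop ≫
      (Y j.1).presheaf.germ ⊤ j.2 trivial).hom
  have hSpec : ∀ j : (Σ i, ↥(Y i)),
      Spec.map (CommRingCat.ofHom (u j)) = (Y j.1).fromSpecStalk j.2 ≫ g j.1 :=
    fun j => specMap_germ_comp (CommRingCat.of A) (g j.1) j.2
  refine Groth.Agent.Lib.ArtinFamSch64.isFlatOverAt_of_family f F hF x A' u ?_ ?_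
  · intro a ha
    apply hg
    intro i
    apply eq_zero_of_germ
    intro y
    exact ha ⟨i, y⟩
  · intro j x'' hx1 _
    apply isFlatOverAt_pullback_comp f (g j.1) ((Y j.1).fromSpecStalk j.2) _ (hSpec j) F x''
    apply hflat
    rw [← Scheme.Hom.comp_apply, pbMap_fst]
    exact hx1

end Groth.Agent.Lib.ArtinFamSchB64
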