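import Groth.Prelude.Def_EGA4b
import Groth.Agent.Lib.H47Reflexive
import Groth.Agent.Lib.SkQuot33
import Groth.Agent.Lib.FlatCrit
import Mathlib.RingTheory.Artinian.Ring
import Mathlib.RingTheory.Artinian.Module
import Mathlib.LinearAlgebra.Isomorphisms
import Mathlib.RingTheory.TensorProduct.Quotient
import Mathlib.RingTheory.Flat.Localization

/-!
# Flatness over an Artinian local base from depth conditions (helper33)

Let `A` be an Artinian local ring and `R` a Noetherian local `A`-algebra with `depth R ≥ 1`,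
`depth R_red ≥ 2`, which is flat over `A` with reduced fibre on the punctured spectrum. Then `R` is
flat over `A` and `R / 𝔪_A R` is reduced.
-/

set_option autoImplicit false
set_option linter.unusedSectionVars false
universe u

namespace Groth.Agent.Lib.ArtinFlat33

open IsLocalRing Groth.Agent.Lib.H47Reflexive

section Support

variable {R : Type u} [CommRing R] {M : Type u} [AddCommGroup M] [Module R M]

/-- Elementwise version of `TF.eq_zero_of_support`. -/
theorem eq_zero_of_support {I : Ideal R} (h : TF I M) (hI : I.FG) (m : M)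
    (hsupp : ∀ p : Ideal R, p.IsPrime → ¬ I ≤ p → ∃ s ∉ p, s • m = 0) : m = 0 := by
  set J : Ideal R := (Submodule.span R {m}).annihilator with hJ
  have hrad : I ≤ J.radical := by
    rw [Ideal.radical_eq_sInf]
    refine le_sInf ?_
    rintro p ⟨hJp, hp⟩
    by_contra hIp
    obtain ⟨s, hs, hsm⟩ := hsupp p hp hIp
    exact hs (hJp ((Submodule.mem_annihilator_span_singleton _ _).mpr hsm))
  obtain ⟨n, hn⟩ := Ideal.exists_pow_le_of_le_radical_of_fg hrad hI
  have key : ∀ n : ℕ, ∀ m : M, I ^ n ≤ (Submodule.span R {m}).annihilator → m = 0 := by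
    intro n
    induction n with
    | zero =>
      intro m hm
      have : (1 : R) ∈ (Submodule.span R {m}).annihilator := hm (by simp)
      rw [Submodule.mem_annihilator_span_singleton, one_smul] at this
      exact this
    | succ n ih =>
      intro m hm
      apply ih
      intro b hb
      rw [Submodule.mem_annihilator_span_singleton]
      apply h
      intro a ha
      rw [smul_smul]
      have : a * b ∈ I ^ (n + 1) := by
        rw [pow_succ']
        exact Ideal.mul_mem_mul ha hb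
      exact (Submodule.mem_annihilator_span_singleton _ _).mp (hm this)
  exact key n m hn

/-- `TF I (R ⧸ J)` in elementwise form. -/
theorem tf_quotient_iff (I J : Ideal R) :
    TF I (R ⧸ J) ↔ ∀ y : R, (∀ a ∈ I, a * y ∈ J) → y ∈ J := by
  constructor
  · intro h y hy
    have := h (Ideal.Quotient.mk J y) (fun a ha => by
      rw [Algebra.smul_def, Ideal.Quotient.algebraMap_eq, ← map_mul]
      exact Ideal.Quotient.eq_zero_iff_mem.mpr (hy a ha))
    exact Ideal.Quotient.eq_zero_iff_mem.mp this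
  · intro h m hm
    obtain ⟨y, rfl⟩ := Ideal.Quotient.mk_surjective m
    refine Ideal.Quotient.eq_zero_iff_mem.mpr (h y fun a ha => ?_)
    have := hm a ha
    rw [Algebra.smul_def, Ideal.Quotient.algebraMap_eq, ← map_mul] at this
    exact Ideal.Quotient.eq_zero_iff_mem.mp this

/-- Relative support lemma: if `R ⧸ J` has no `I`-torsion and `y` lies in `J` locally off `V(I)`,
then `y ∈ J`. -/
theorem mem_of_support {I J : Ideal R} (h : ∀ y : R, (∀ a ∈ I, a * y ∈ J) → y ∈ J) (hI : I.FG)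
    (y : R) (hsupp : ∀ p : Ideal R, p.IsPrime → ¬ I ≤ p → ∃ s ∉ p, s * y ∈ J) : y ∈ J := by
  have h' : TF I (R ⧸ J) := (tf_quotient_iff I J).mpr h
  have := eq_zero_of_support h' hI (Ideal.Quotient.mk J y) (fun p hp hIp => by
    obtain ⟨s, hs, hsy⟩ := hsupp p hp hIp
    refine ⟨s, hs, ?_⟩
    rw [Algebra.smul_def, Ideal.Quotient.algebraMap_eq, ← map_mul]
    exact Ideal.Quotient.eq_zero_iff_mem.mpr hsy)
  exact Ideal.Quotient.eq_zero_iff_mem.mp this

end Support

section IdealInduction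

variable {A : Type u} [CommRing A] [IsLocalRing A] [IsArtinianRing A]

/-- Induction along composition series of ideals in an Artinian local ring. -/
theorem ideal_induction (P : Ideal A → Prop) (h0 : P ⊥)
    (hstep : ∀ (𝔟 : Ideal A) (e : A), P 𝔟 → (∀ a ∈ maximalIdeal A, a * e ∈ 𝔟) →
      (∀ a, a * e ∈ 𝔟 → a ∈ maximalIdeal A) → P (𝔟 ⊔ Ideal.span {e})) :
    ∀ 𝔞, P 𝔞 := by
  intro 𝔞
  induction 𝔞 using WellFoundedLT.induction with
  | ind 𝔞 ih =>
    by_cases h𝔞 : 𝔞 = ⊥
    · rw [h𝔞]; exact h0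
    have hne : ({𝔟 : Ideal A | 𝔟 < 𝔞}).Nonempty := ⟨⊥, bot_lt_iff_ne_bot.mpr h𝔞⟩
    obtain ⟨𝔟, h𝔟, hmax⟩ := (set_has_maximal_iff_noetherian (R := A) (M := A)).mpr
      inferInstance _ hne
    have h𝔟' : 𝔟 < 𝔞 := h𝔟
    obtain ⟨e, he𝔞, he𝔟⟩ := SetLike.exists_of_lt h𝔟'
    have hunit : ∀ a : A, a ∉ maximalIdeal A → ∀ z : A, a * z ∈ 𝔟 → z ∈ 𝔟 := by
      intro a ha z hz
      have hu : IsUnit a := by
        by_contra hnu
        exact ha ((IsLocalRing.mem_maximalIdeal a).mpr hnu)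
      obtain ⟨u, rfl⟩ := hu
      have := Ideal.mul_mem_left 𝔟 (↑u⁻¹ : A) hz
      rwa [← mul_assoc, Units.inv_mul, one_mul] at this
    have hsup : 𝔟 ⊔ Ideal.span {e} = 𝔞 := by
      have hle : 𝔟 ⊔ Ideal.span {e} ≤ 𝔞 :=
        sup_le h𝔟'.le ((Ideal.span_singleton_le_iff_mem _).mpr he𝔞)
      by_contra hne'
      have hlt : 𝔟 ⊔ Ideal.span {e} < 𝔞 := lt_of_le_of_ne hle hne'
      refine hmax _ hlt (lt_of_le_of_ne le_sup_left fun heq => he𝔟 ?_)
      rw [heq]
      exact Ideal.mem_sup_right (Ideal.mem_span_singleton_self e)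
    have he2 : ∀ a, a * e ∈ 𝔟 → a ∈ maximalIdeal A := by
      intro a hae
      by_contra ha
      exact he𝔟 (hunit a ha e hae)
    have he1 : ∀ a ∈ maximalIdeal A, a * e ∈ 𝔟 := by
      intro a ha
      by_contra hae
      have hle : 𝔟 ⊔ Ideal.span {a * e} ≤ 𝔞 :=
        sup_le h𝔟'.le ((Ideal.span_singleton_le_iff_mem _).mpr (𝔞.mul_mem_left a he𝔞))
      have hlt' : 𝔟 < 𝔟 ⊔ Ideal.span {a * e} := lt_of_le_of_ne le_sup_left fun heq => hae (by
        rw [heq]
        exact Ideal.mem_sup_right (Ideal.mem_span_singleton_self _))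
      have heq : 𝔟 ⊔ Ideal.span {a * e} = 𝔞 := by
        by_contra hne'
        exact hmax _ (lt_of_le_of_ne hle hne') hlt'
      have hemem : e ∈ 𝔟 ⊔ Ideal.span {a * e} := heq ▸ he𝔞
      obtain ⟨b, hb, c, hc, hbc⟩ := Submodule.mem_sup.mp hemem
      obtain ⟨r, rfl⟩ := Ideal.mem_span_singleton'.mp hc
      -- e = b + r * (a * e), so (1 - r * a) * e = b
      have h1 : (1 - r * a) * e ∈ 𝔟 := by
        have : (1 - r * a) * e = b := by
          linear_combination (-1 : A) * hbc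
        rw [this]; exact hb
      have h2 : (1 - r * a) ∉ maximalIdeal A := by
        intro hmem
        have h3 : r * a ∈ maximalIdeal A := Ideal.mul_mem_left _ r ha
        have : (1 : A) ∈ maximalIdeal A := by
          have := Ideal.add_mem _ hmem h3
          rwa [sub_add_cancel] at this
        exact (maximalIdeal.isMaximal A).ne_top ((Ideal.eq_top_iff_one _).mpr this)
      exact he𝔟 (hunit _ h2 e h1)
    rw [← hsup]
    exact hstep 𝔟 e (ih 𝔟 h𝔟') he1 he2

end IdealInduction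


section Core

variable {A : Type u} [CommRing A] [IsLocalRing A] [IsArtinianRing A]
variable {R : Type u} [CommRing R] [Algebra A R]

/-- Over an Artinian local base, `𝔪_A R` consists of nilpotent elements. -/
theorem map_maximalIdeal_le_nilradical :
    (maximalIdeal A).map (algebraMap A R) ≤ nilradical R := by
  rw [Ideal.map_le_iff_le_comap]
  intro a ha
  have hnil : IsNilpotent (Ideal.jacobson (⊥ : Ideal A)) :=
    IsArtinianRing.isNilpotent_jacobson_bot
  rw [IsLocalRing.jacobson_eq_maximalIdeal _ bot_ne_top] at hnil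
  obtain ⟨n, hn⟩ := hnil
  have h1 : a ^ n ∈ (maximalIdeal A) ^ n := Ideal.pow_mem_pow ha n
  rw [hn] at h1
  have h2 : a ^ n = 0 := h1
  rw [Ideal.mem_comap, mem_nilradical]
  exact ⟨n, by rw [← map_pow, h2, map_zero]⟩

omit [IsLocalRing A] [IsArtinianRing A] in
theorem mul_mem_of_mem_map {𝔪 𝔟 : Ideal A} {e : A} (he1 : ∀ a ∈ 𝔪, a * e ∈ 𝔟) {y : R}
    (hy : y ∈ 𝔪.map (algebraMap A R)) :
    algebraMap A R e * y ∈ 𝔟.map (algebraMap A R) := by
  refine Submodule.span_induction ?_ ?_ ?_ ?_ hy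
  · rintro _ ⟨a, ha, rfl⟩
    rw [← map_mul, mul_comm]
    exact Ideal.mem_map_of_mem _ (he1 a ha)
  · rw [mul_zero]; exact Ideal.zero_mem _
  · intro x y _ _ hx hy
    rw [mul_add]; exact Ideal.add_mem _ hx hy
  · intro r x _ hx
    rw [smul_eq_mul, mul_left_comm]
    exact Ideal.mul_mem_left _ r hx

variable [IsLocalRing R] [IsNoetherianRing R]

/-- `(𝔟R : e) ⊆ nil(R)`. -/
theorem mem_nilradical_of_mul_mem
    (hTFN : TF (maximalIdeal R) (R ⧸ nilradical R))
    (h3b : ∀ q : Ideal R, q.IsPrime → ¬ maximalIdeal R ≤ q → ∀ (𝔟 : Ideal A) (e : A),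
      (∀ a ∈ maximalIdeal A, a * e ∈ 𝔟) → (∀ a, a * e ∈ 𝔟 → a ∈ maximalIdeal A) → ∀ x : R,
      algebraMap A R e * x ∈ 𝔟.map (algebraMap A R) →
      ∃ s ∉ q, s * x ∈ (maximalIdeal A).map (algebraMap A R))
    (𝔟 : Ideal A) (e : A) (he1 : ∀ a ∈ maximalIdeal A, a * e ∈ 𝔟)
    (he2 : ∀ a, a * e ∈ 𝔟 → a ∈ maximalIdeal A) (x : R)
    (hx : algebraMap A R e * x ∈ 𝔟.map (algebraMap A R)) : x ∈ nilradical R := by
  have hrel := (tf_quotient_iff (maximalIdeal R) (nilradical R)).mp hTFN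
  refine mem_of_support hrel (IsNoetherian.noetherian _) x fun p hp hnp => ?_
  obtain ⟨s, hs, hsx⟩ := h3b p hp hnp 𝔟 e he1 he2 x hx
  exact ⟨s, hs, map_maximalIdeal_le_nilradical hsx⟩

/-- `nil(R) ⊆ (𝔟R : e)`. -/
theorem mul_mem_of_mem_nilradical
    (h3a : ∀ q : Ideal R, q.IsPrime → ¬ maximalIdeal R ≤ q → ∀ x ∈ nilradical R,
      ∃ s ∉ q, s * x ∈ (maximalIdeal A).map (algebraMap A R))
    (𝔟 : Ideal A) (e : A) (he1 : ∀ a ∈ maximalIdeal A, a * e ∈ 𝔟)
    (hb : ∀ y : R, (∀ a ∈ maximalIdeal R, a * y ∈ 𝔟.map (algebraMap A R)) →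
      y ∈ 𝔟.map (algebraMap A R))
    (x : R) (hx : x ∈ nilradical R) : algebraMap A R e * x ∈ 𝔟.map (algebraMap A R) := by
  refine mem_of_support hb (IsNoetherian.noetherian _) _ fun p hp hnp => ?_
  obtain ⟨s, hs, hsx⟩ := h3a p hp hnp x hx
  refine ⟨s, hs, ?_⟩
  rw [mul_left_comm]
  exact mul_mem_of_mem_map he1 hsx

/-- The inductive step for `depth (R ⧸ 𝔞R) ≥ 1`. -/
theorem tf_step
    (hTFN : TF (maximalIdeal R) (R ⧸ nilradical R))
    (hE1N : E1 (maximalIdeal R) (R ⧸ nilradical R))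
    (h3a : ∀ q : Ideal R, q.IsPrime → ¬ maximalIdeal R ≤ q → ∀ x ∈ nilradical R,
      ∃ s ∉ q, s * x ∈ (maximalIdeal A).map (algebraMap A R))
    (h3b : ∀ q : Ideal R, q.IsPrime → ¬ maximalIdeal R ≤ q → ∀ (𝔟 : Ideal A) (e : A),
      (∀ a ∈ maximalIdeal A, a * e ∈ 𝔟) → (∀ a, a * e ∈ 𝔟 → a ∈ maximalIdeal A) → ∀ x : R,
      algebraMap A R e * x ∈ 𝔟.map (algebraMap A R) →
      ∃ s ∉ q, s * x ∈ (maximalIdeal A).map (algebraMap A R))
    (𝔟 : Ideal A) (e : A) (he1 : ∀ a ∈ maximalIdeal A, a * e ∈ 𝔟)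
    (he2 : ∀ a, a * e ∈ 𝔟 → a ∈ maximalIdeal A)
    (hb : ∀ y : R, (∀ a ∈ maximalIdeal R, a * y ∈ 𝔟.map (algebraMap A R)) →
      y ∈ 𝔟.map (algebraMap A R)) :
    ∀ y : R, (∀ a ∈ maximalIdeal R, a * y ∈ (𝔟 ⊔ Ideal.span {e}).map (algebraMap A R)) →
      y ∈ (𝔟 ⊔ Ideal.span {e}).map (algebraMap A R) := by
  intro y hy
  have hmap : (𝔟 ⊔ Ideal.span {e}).map (algebraMap A R) =
      𝔟.map (algebraMap A R) ⊔ Ideal.span {algebraMap A R e} := by
    rw [Ideal.map_sup, Ideal.map_span, Set.image_singleton]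
  rw [hmap] at hy ⊢
  set J : Ideal R := 𝔟.map (algebraMap A R) with hJ
  set e' : R := algebraMap A R e with he'
  let ρ : R →ₗ[R] (R ⧸ J) := (Submodule.mkQ J) ∘ₗ (LinearMap.mulLeft R e')
  have hρ : ∀ x, ρ x = Ideal.Quotient.mk J (e' * x) := fun x => rfl
  have hker : LinearMap.ker ρ = nilradical R := by
    ext x
    rw [LinearMap.mem_ker, hρ, Ideal.Quotient.eq_zero_iff_mem]
    exact ⟨mem_nilradical_of_mul_mem hTFN h3b 𝔟 e he1 he2 x,
      mul_mem_of_mem_nilradical h3a 𝔟 e he1 hb x⟩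
  have hrange : ∀ a : maximalIdeal R,
      Ideal.Quotient.mk J ((a : R) * y) ∈ LinearMap.range ρ := by
    intro a
    obtain ⟨b, hb', c, hc, hbc⟩ := Submodule.mem_sup.mp (hy a a.2)
    obtain ⟨r, rfl⟩ := Ideal.mem_span_singleton'.mp hc
    refine ⟨r, ?_⟩
    rw [hρ, ← hbc, map_add, Ideal.Quotient.eq_zero_iff_mem.mpr hb', zero_add, mul_comm]
  let h0 : maximalIdeal R →ₗ[R] (R ⧸ J) :=
    (Submodule.mkQ J) ∘ₗ (LinearMap.mulRight R y) ∘ₗ (maximalIdeal R).subtype
  have hh0 : ∀ a : maximalIdeal R, h0 a = Ideal.Quotient.mk J ((a : R) * y) := fun a => rfl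
  let h : maximalIdeal R →ₗ[R] LinearMap.range ρ :=
    h0.codRestrict (LinearMap.range ρ) (fun a => by rw [hh0]; exact hrange a)
  let g : maximalIdeal R →ₗ[R] (R ⧸ LinearMap.ker ρ) :=
    ρ.quotKerEquivRange.symm.toLinearMap ∘ₗ h
  have hE1 : E1 (maximalIdeal R) (R ⧸ LinearMap.ker ρ) := by rw [hker]; exact hE1N
  obtain ⟨xb, hx₀⟩ := hE1 g
  obtain ⟨x₀, rfl⟩ := Submodule.Quotient.mk_surjective _ xb
  have hkey : ∀ a ∈ maximalIdeal R, a * (y - e' * x₀) ∈ J := by
    intro a ha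
    have h1 := hx₀ ⟨a, ha⟩
    have h2 : ρ.quotKerEquivRange (g ⟨a, ha⟩) = h ⟨a, ha⟩ := by
      simp only [g, LinearMap.coe_comp, LinearEquiv.coe_coe, Function.comp_apply,
        LinearEquiv.apply_symm_apply]
    rw [h1] at h2
    have h3 : (ρ.quotKerEquivRange ((a : R) • Submodule.Quotient.mk x₀) : R ⧸ J) =
        ρ (a • x₀) := by
      rw [← Submodule.Quotient.mk_smul]; rfl
    have h4 : (h ⟨a, ha⟩ : R ⧸ J) = Ideal.Quotient.mk J (a * y) := rfl
    have h5 := congrArg Subtype.val h2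
    rw [h3, h4, hρ] at h5
    have h6 := Ideal.Quotient.eq.mp h5.symm
    have h7 : a * (y - e' * x₀) = a * y - e' * a • x₀ := by
      rw [smul_eq_mul]; ring
    rw [h7]; exact h6
  have hmem := hb (y - e' * x₀) hkey
  rw [← sub_add_cancel y (e' * x₀)]
  exact Submodule.add_mem_sup hmem (Ideal.mem_span_singleton'.mpr ⟨x₀, mul_comm _ _⟩)

/-- First induction: `depth (R ⧸ 𝔞R) ≥ 1` for every ideal `𝔞` of `A`. -/
theorem tf_all
    (hTF : TF (maximalIdeal R) R)
    (hTFN : TF (maximalIdeal R) (R ⧸ nilradical R))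
    (hE1N : E1 (maximalIdeal R) (R ⧸ nilradical R))
    (h3a : ∀ q : Ideal R, q.IsPrime → ¬ maximalIdeal R ≤ q → ∀ x ∈ nilradical R,
      ∃ s ∉ q, s * x ∈ (maximalIdeal A).map (algebraMap A R))
    (h3b : ∀ q : Ideal R, q.IsPrime → ¬ maximalIdeal R ≤ q → ∀ (𝔟 : Ideal A) (e : A),
      (∀ a ∈ maximalIdeal A, a * e ∈ 𝔟) → (∀ a, a * e ∈ 𝔟 → a ∈ maximalIdeal A) → ∀ x : R,
      algebraMap A R e * x ∈ 𝔟.map (algebraMap A R) →
      ∃ s ∉ q, s * x ∈ (maximalIdeal A).map (algebraMap A R))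
    (𝔞 : Ideal A) :
    ∀ y : R, (∀ a ∈ maximalIdeal R, a * y ∈ 𝔞.map (algebraMap A R)) →
      y ∈ 𝔞.map (algebraMap A R) := by
  refine ideal_induction (fun 𝔞 => ∀ y : R,
    (∀ a ∈ maximalIdeal R, a * y ∈ 𝔞.map (algebraMap A R)) → y ∈ 𝔞.map (algebraMap A R))
    ?_ ?_ 𝔞
  · intro y hy
    rw [Ideal.map_bot] at hy ⊢
    exact hTF y fun a ha => by rw [smul_eq_mul]; exact hy a ha
  · intro 𝔟 e hb he1 he2
    exact tf_step hTFN hE1N h3a h3b 𝔟 e he1 he2 hb

/-- The fibre is reduced: `nil(R) = 𝔪_A R`. -/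
theorem nilradical_eq
    (hTF : TF (maximalIdeal R) R)
    (hTFN : TF (maximalIdeal R) (R ⧸ nilradical R))
    (hE1N : E1 (maximalIdeal R) (R ⧸ nilradical R))
    (h3a : ∀ q : Ideal R, q.IsPrime → ¬ maximalIdeal R ≤ q → ∀ x ∈ nilradical R,
      ∃ s ∉ q, s * x ∈ (maximalIdeal A).map (algebraMap A R))
    (h3b : ∀ q : Ideal R, q.IsPrime → ¬ maximalIdeal R ≤ q → ∀ (𝔟 : Ideal A) (e : A),
      (∀ a ∈ maximalIdeal A, a * e ∈ 𝔟) → (∀ a, a * e ∈ 𝔟 → a ∈ maximalIdeal A) → ∀ x : R,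
      algebraMap A R e * x ∈ 𝔟.map (algebraMap A R) →
      ∃ s ∉ q, s * x ∈ (maximalIdeal A).map (algebraMap A R)) :
    nilradical R = (maximalIdeal A).map (algebraMap A R) := by
  refine le_antisymm (fun x hx => ?_) map_maximalIdeal_le_nilradical
  have := mul_mem_of_mem_nilradical h3a (maximalIdeal A) 1
    (fun a ha => by rwa [mul_one])
    (tf_all hTF hTFN hE1N h3a h3b (maximalIdeal A)) x hx
  rwa [map_one, one_mul] at this

/-- The colon formula `(𝔟R : e) = 𝔪_A R` whenever `(𝔟 : e) = 𝔪_A`. -/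
theorem mem_map_maximalIdeal_of_mul_mem
    (hTF : TF (maximalIdeal R) R)
    (hTFN : TF (maximalIdeal R) (R ⧸ nilradical R))
    (hE1N : E1 (maximalIdeal R) (R ⧸ nilradical R))
    (h3a : ∀ q : Ideal R, q.IsPrime → ¬ maximalIdeal R ≤ q → ∀ x ∈ nilradical R,
      ∃ s ∉ q, s * x ∈ (maximalIdeal A).map (algebraMap A R))
    (h3b : ∀ q : Ideal R, q.IsPrime → ¬ maximalIdeal R ≤ q → ∀ (𝔟 : Ideal A) (e : A),
      (∀ a ∈ maximalIdeal A, a * e ∈ 𝔟) → (∀ a, a * e ∈ 𝔟 → a ∈ maximalIdeal A) → ∀ x : R,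
      algebraMap A R e * x ∈ 𝔟.map (algebraMap A R) →
      ∃ s ∉ q, s * x ∈ (maximalIdeal A).map (algebraMap A R))
    (𝔟 : Ideal A) (e : A) (he1 : ∀ a ∈ maximalIdeal A, a * e ∈ 𝔟)
    (he2 : ∀ a, a * e ∈ 𝔟 → a ∈ maximalIdeal A) (x : R)
    (hx : algebraMap A R e * x ∈ 𝔟.map (algebraMap A R)) :
    x ∈ (maximalIdeal A).map (algebraMap A R) := by
  rw [← nilradical_eq hTF hTFN hE1N h3a h3b]
  exact mem_nilradical_of_mul_mem hTFN h3b 𝔟 e he1 he2 x hx

end Core

section Chase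

open TensorProduct

variable {A : Type u} [CommRing A] {R : Type u} [CommRing R] [Algebra A R]

/-- The image of `𝔟 ⊗ R → R` lies in `𝔟R`. -/
theorem lid_rTensor_mem (𝔟 : Ideal A) (z : 𝔟 ⊗[A] R) :
    TensorProduct.lid A R ((𝔟.subtype.rTensor R) z) ∈ 𝔟.map (algebraMap A R) := by
  induction z with
  | zero => simp
  | tmul b r =>
    rw [LinearMap.rTensor_tmul, TensorProduct.lid_tmul, Submodule.subtype_apply,
      Algebra.smul_def]
    exact Ideal.mul_mem_right _ _ (Ideal.mem_map_of_mem _ b.2)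
  | add x y hx hy =>
    rw [map_add, map_add]
    exact Ideal.add_mem _ hx hy

/-- Inductive step for the injectivity of `𝔞 ⊗ R → R`. -/
theorem injective_step (𝔪 𝔟 : Ideal A) (e : A) (he1 : ∀ a ∈ 𝔪, a * e ∈ 𝔟)
    (hcolon : ∀ x : R, algebraMap A R e * x ∈ 𝔟.map (algebraMap A R) →
      x ∈ 𝔪.map (algebraMap A R))
    (hb : Function.Injective (𝔟.subtype.rTensor R)) :
    Function.Injective ((𝔟 ⊔ Ideal.span {e}).subtype.rTensor R) := by
  set 𝔞 : Ideal A := 𝔟 ⊔ Ideal.span {e} with h𝔞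
  let ι : 𝔟 →ₗ[A] 𝔞 := Submodule.inclusion le_sup_left
  let ee : 𝔞 := ⟨e, Ideal.mem_sup_right (Ideal.mem_span_singleton_self e)⟩
  have hcomp : ∀ w : 𝔟 ⊗[A] R,
      (𝔞.subtype.rTensor R) ((ι.rTensor R) w) = (𝔟.subtype.rTensor R) w := by
    intro w
    rw [← LinearMap.comp_apply, ← LinearMap.rTensor_comp]
    rfl
  have claim1 : ∀ z : 𝔞 ⊗[A] R, ∃ (z' : 𝔟 ⊗[A] R) (x : R),
      z = (ι.rTensor R) z' + ee ⊗ₜ[A] x := by
    intro z
    induction z with
    | zero => exact ⟨0, 0, by simp⟩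
    | tmul c r =>
      obtain ⟨b, hb', d, hd, hbd⟩ := Submodule.mem_sup.mp c.2
      obtain ⟨a, rfl⟩ := Ideal.mem_span_singleton'.mp hd
      refine ⟨(⟨b, hb'⟩ : 𝔟) ⊗ₜ[A] r, a • r, ?_⟩
      have hc : c = ι ⟨b, hb'⟩ + a • ee := by
        apply Subtype.ext
        simp only [Submodule.coe_add, Submodule.coe_smul, smul_eq_mul]
        exact hbd.symm
      rw [hc, add_tmul, LinearMap.rTensor_tmul, smul_tmul]
    | add z₁ z₂ h₁ h₂ =>
      obtain ⟨z₁', x₁, rfl⟩ := h₁
      obtain ⟨z₂', x₂, rfl⟩ := h₂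
      refine ⟨z₁' + z₂', x₁ + x₂, ?_⟩
      rw [map_add, tmul_add]
      abel
  have claim3 : ∀ x : R, x ∈ 𝔪.map (algebraMap A R) →
      ee ⊗ₜ[A] x ∈ LinearMap.range (ι.rTensor R) := by
    intro x hx
    have hx' : x ∈ 𝔪 • (⊤ : Submodule A R) := by
      rw [Ideal.smul_top_eq_map]; exact hx
    refine Submodule.smul_induction_on hx' ?_ ?_
    · intro a ha r _
      refine ⟨(⟨a * e, he1 a ha⟩ : 𝔟) ⊗ₜ[A] r, ?_⟩
      rw [LinearMap.rTensor_tmul, ← smul_tmul]
      congr 1
    · intro x y hx hy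
      rw [tmul_add]
      exact Submodule.add_mem _ hx hy
  rw [injective_iff_map_eq_zero]
  intro z hz
  obtain ⟨z', x, rfl⟩ := claim1 z
  have hz0 := hz
  rw [map_add, hcomp, LinearMap.rTensor_tmul] at hz
  have hlid := congrArg (TensorProduct.lid A R) hz
  rw [map_add, map_zero, TensorProduct.lid_tmul] at hlid
  have hex : algebraMap A R e * x ∈ 𝔟.map (algebraMap A R) := by
    have h1 : (𝔞.subtype ee) • x = -(TensorProduct.lid A R ((𝔟.subtype.rTensor R) z')) :=
      eq_neg_of_add_eq_zero_right hlid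
    have h2 : (𝔞.subtype ee) • x = algebraMap A R e * x := by
      rw [Algebra.smul_def]; rfl
    rw [← h2, h1]
    exact Ideal.neg_mem_iff _ |>.mpr (lid_rTensor_mem 𝔟 z')
  obtain ⟨z'', hz''⟩ := claim3 x (hcolon x hex)
  rw [← hz'', ← map_add, hcomp] at hz0
  rw [← hz'', ← map_add, hb (hz0.trans (map_zero _).symm), map_zero]

end Chase

section Flat

open TensorProduct

variable {A : Type u} [CommRing A] [IsLocalRing A] [IsArtinianRing A]
variable {R : Type u} [CommRing R] [Algebra A R] [IsLocalRing R] [IsNoetherianRing R]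

/-- Second induction: `𝔞 ⊗ R → R` is injective for every ideal `𝔞` of `A`. -/
theorem injective_all
    (hTF : TF (maximalIdeal R) R)
    (hTFN : TF (maximalIdeal R) (R ⧸ nilradical R))
    (hE1N : E1 (maximalIdeal R) (R ⧸ nilradical R))
    (h3a : ∀ q : Ideal R, q.IsPrime → ¬ maximalIdeal R ≤ q → ∀ x ∈ nilradical R,
      ∃ s ∉ q, s * x ∈ (maximalIdeal A).map (algebraMap A R))
    (h3b : ∀ q : Ideal R, q.IsPrime → ¬ maximalIdeal R ≤ q → ∀ (𝔟 : Ideal A) (e : A),
      (∀ a ∈ maximalIdeal A, a * e ∈ 𝔟) → (∀ a, a * e ∈ 𝔟 → a ∈ maximalIdeal A) → ∀ x : R,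
      algebraMap A R e * x ∈ 𝔟.map (algebraMap A R) →
      ∃ s ∉ q, s * x ∈ (maximalIdeal A).map (algebraMap A R))
    (𝔞 : Ideal A) : Function.Injective (𝔞.subtype.rTensor R) := by
  refine ideal_induction (fun 𝔞 => Function.Injective (𝔞.subtype.rTensor R)) ?_ ?_ 𝔞
  · intro z₁ z₂ _
    have h0 : ∀ z : (⊥ : Ideal A) ⊗[A] R, z = 0 := by
      intro z
      induction z with
      | zero => rfl
      | tmul b r =>
        have : b = 0 := Subtype.ext ((Submodule.mem_bot A).mp b.2)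
        rw [this, zero_tmul]
      | add x y hx hy => rw [hx, hy, add_zero]
    rw [h0 z₁, h0 z₂]
  · intro 𝔟 e hb he1 he2
    exact injective_step (maximalIdeal A) 𝔟 e he1
      (mem_map_maximalIdeal_of_mul_mem hTF hTFN hE1N h3a h3b 𝔟 e he1 he2) hb

/-- **Core theorem**: flatness over an Artinian local base from depth conditions and
flatness/reducedness on the punctured spectrum. -/
theorem flat_core
    (hTF : TF (maximalIdeal R) R)
    (hTFN : TF (maximalIdeal R) (R ⧸ nilradical R))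
    (hE1N : E1 (maximalIdeal R) (R ⧸ nilradical R))
    (h3a : ∀ q : Ideal R, q.IsPrime → ¬ maximalIdeal R ≤ q → ∀ x ∈ nilradical R,
      ∃ s ∉ q, s * x ∈ (maximalIdeal A).map (algebraMap A R))
    (h3b : ∀ q : Ideal R, q.IsPrime → ¬ maximalIdeal R ≤ q → ∀ (𝔟 : Ideal A) (e : A),
      (∀ a ∈ maximalIdeal A, a * e ∈ 𝔟) → (∀ a, a * e ∈ 𝔟 → a ∈ maximalIdeal A) → ∀ x : R,
      algebraMap A R e * x ∈ 𝔟.map (algebraMap A R) →
      ∃ s ∉ q, s * x ∈ (maximalIdeal A).map (algebraMap A R)) :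
    Module.Flat A R := by
  have hnil : IsNilpotent (maximalIdeal A) := by
    have := IsArtinianRing.isNilpotent_jacobson_bot (R := A)
    rwa [IsLocalRing.jacobson_eq_maximalIdeal _ bot_ne_top] at this
  let _ : Field (A ⧸ maximalIdeal A) := Ideal.Quotient.field _
  have : Module.Flat (A ⧸ maximalIdeal A) ((A ⧸ maximalIdeal A) ⊗[A] R) := inferInstance
  exact FlatCrit.flat_of_isNilpotent (maximalIdeal A) hnil
    (injective_all hTF hTFN hE1N h3a h3b (maximalIdeal A))

end Flat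

section FlatColon

open TensorProduct

variable {A : Type u} [CommRing A] {M : Type u} [AddCommGroup M] [Module A M] [Module.Flat A M]

/-- For a flat module, `(𝔟M : e) = (𝔟 : e) M`. -/
theorem mem_smul_top_of_smul_mem (𝔪 𝔟 : Ideal A) (e : A) (he1 : ∀ a ∈ 𝔪, a * e ∈ 𝔟)
    (he2 : ∀ a, a * e ∈ 𝔟 → a ∈ 𝔪) (y : M) (hy : e • y ∈ 𝔟 • (⊤ : Submodule A M)) :
    y ∈ 𝔪 • (⊤ : Submodule A M) := by
  let μ : (A ⧸ 𝔪) →ₗ[A] (A ⧸ 𝔟) :=
    Submodule.mapQ 𝔪 𝔟 (LinearMap.mulRight A e) (fun a ha => he1 a ha)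
  have hμ : ∀ a : A, μ (Ideal.Quotient.mk 𝔪 a) = Ideal.Quotient.mk 𝔟 (a * e) := fun a => rfl
  have hinj : Function.Injective μ := by
    rw [injective_iff_map_eq_zero]
    intro z hz
    obtain ⟨a, rfl⟩ := Ideal.Quotient.mk_surjective z
    rw [hμ, Ideal.Quotient.eq_zero_iff_mem] at hz
    exact Ideal.Quotient.eq_zero_iff_mem.mpr (he2 a hz)
  have hflat : Function.Injective (μ.rTensor M) :=
    Module.Flat.rTensor_preserves_injective_linearMap μ hinj
  have h1 : (μ.rTensor M) ((Ideal.Quotient.mk 𝔪 1) ⊗ₜ[A] y) =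
      (Ideal.Quotient.mk 𝔟 e) ⊗ₜ[A] y := by
    rw [LinearMap.rTensor_tmul, hμ, one_mul]
  have h3 : (μ.rTensor M) ((Ideal.Quotient.mk 𝔪 1) ⊗ₜ[A] y) = 0 := by
    apply (quotTensorEquivQuotSMul M 𝔟).injective
    rw [h1, quotTensorEquivQuotSMul_mk_tmul, map_zero]
    exact (Submodule.Quotient.mk_eq_zero _).mpr hy
  have h4 : (Ideal.Quotient.mk 𝔪 1) ⊗ₜ[A] y = 0 := hflat (h3.trans (map_zero _).symm)
  have h5 := congrArg (quotTensorEquivQuotSMul M 𝔪) h4
  rw [quotTensorEquivQuotSMul_mk_tmul, one_smul, map_zero] at h5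
  exact (Submodule.Quotient.mk_eq_zero _).mp h5

end FlatColon

section Global

variable (A : Type u) [CommRing A] [IsLocalRing A]
variable {B : Type u} [CommRing B] [Algebra A B]

/-- The local claim at a prime `Q` of `B`: `B_Q` is flat over `A` with reduced fibre. -/
def GoodAt (Q : Ideal B) [Q.IsPrime] : Prop :=
  Module.Flat A (Localization.AtPrime Q) ∧
    nilradical (Localization.AtPrime Q) ≤
      (maximalIdeal A).map (algebraMap A (Localization.AtPrime Q))

variable {A}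

omit [IsLocalRing A] in
theorem map_map_eq (I : Ideal A) (Q : Ideal B) [Q.IsPrime] :
    (I.map (algebraMap A B)).map (algebraMap B (Localization.AtPrime Q)) =
      I.map (algebraMap A (Localization.AtPrime Q)) := by
  rw [Ideal.map_map, ← IsScalarTower.algebraMap_eq]

theorem GoodAt.exists_of_nilpotent {q : Ideal B} [q.IsPrime] (h : GoodAt A q) (b : B) (n : ℕ)
    (u : B) (hu : u ∉ q) (hub : u * b ^ n = 0) :
    ∃ s ∉ q, s * b ∈ (maximalIdeal A).map (algebraMap A B) := by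
  have hunit : IsUnit (algebraMap B (Localization.AtPrime q) u) :=
    IsLocalization.map_units (Localization.AtPrime q) (⟨u, hu⟩ : q.primeCompl)
  have h0 : (algebraMap B (Localization.AtPrime q) b) ^ n = 0 := by
    have := congrArg (algebraMap B (Localization.AtPrime q)) hub
    rw [map_mul, map_pow, map_zero] at this
    exact (hunit.mul_right_eq_zero).mp this
  have h1 : algebraMap B (Localization.AtPrime q) b ∈ nilradical (Localization.AtPrime q) :=
    mem_nilradical.mpr ⟨n, h0⟩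
  have h2 := h.2 h1
  rw [← map_map_eq] at h2
  obtain ⟨s, hs, hsb⟩ := (IsLocalization.algebraMap_mem_map_algebraMap_iff q.primeCompl
    (Localization.AtPrime q) _ b).mp h2
  exact ⟨s, hs, hsb⟩

theorem GoodAt.exists_of_mul_mem {q : Ideal B} [q.IsPrime] (h : GoodAt A q) (𝔟 : Ideal A) (e : A)
    (he1 : ∀ a ∈ maximalIdeal A, a * e ∈ 𝔟) (he2 : ∀ a, a * e ∈ 𝔟 → a ∈ maximalIdeal A)
    (b u : B) (hu : u ∉ q) (hub : u * (algebraMap A B e * b) ∈ 𝔟.map (algebraMap A B)) :
    ∃ s ∉ q, s * b ∈ (maximalIdeal A).map (algebraMap A B) := by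
  haveI := h.1
  have hy : e • (algebraMap B (Localization.AtPrime q) (u * b)) ∈
      𝔟 • (⊤ : Submodule A (Localization.AtPrime q)) := by
    rw [Ideal.smul_top_eq_map]
    have : e • (algebraMap B (Localization.AtPrime q) (u * b)) =
        algebraMap B (Localization.AtPrime q) (u * (algebraMap A B e * b)) := by
      rw [Algebra.smul_def, IsScalarTower.algebraMap_apply A B (Localization.AtPrime q), ← map_mul]
      congr 1; ring
    rw [this]
    change _ ∈ 𝔟.map (algebraMap A (Localization.AtPrime q))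
    rw [← map_map_eq]
    exact Ideal.mem_map_of_mem _ hub
  have hy' := mem_smul_top_of_smul_mem (maximalIdeal A) 𝔟 e he1 he2 _ hy
  rw [Ideal.smul_top_eq_map] at hy'
  have hy'' : algebraMap B (Localization.AtPrime q) (u * b) ∈
      ((maximalIdeal A).map (algebraMap A B)).map (algebraMap B (Localization.AtPrime q)) := by
    rw [map_map_eq]; exact hy'
  obtain ⟨s, hs, hsb⟩ := (IsLocalization.algebraMap_mem_map_algebraMap_iff q.primeCompl
    (Localization.AtPrime q) _ _).mp hy''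
  exact ⟨s * u, q.primeCompl.mul_mem hs hu, by rwa [mul_assoc]⟩

variable (Q : Ideal B) [Q.IsPrime]

omit [Algebra A B] in
/-- Non-maximal primes of `B_Q` contract to primes strictly below `Q`. -/
theorem comap_lt (q' : Ideal (Localization.AtPrime Q)) [q'.IsPrime]
    (hq' : ¬ maximalIdeal (Localization.AtPrime Q) ≤ q') :
    q'.comap (algebraMap B (Localization.AtPrime Q)) < Q := by
  have hle : q'.comap (algebraMap B (Localization.AtPrime Q)) ≤ Q := by
    have h1 := IsLocalization.AtPrime.under_maximalIdeal (Localization.AtPrime Q) Q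
    exact (Ideal.comap_mono (le_maximalIdeal (Ideal.IsPrime.ne_top inferInstance))).trans h1.le
  refine lt_of_le_of_ne hle fun heq => hq' ?_
  exact (IsLocalization.AtPrime.map_eq_maximalIdeal Q (Localization.AtPrime Q)).symm.le.trans
    (Ideal.map_le_iff_le_comap.mpr heq.symm.le)

theorem h3a_of (hsmall : ∀ (q : Ideal B) [q.IsPrime], q < Q → GoodAt A q) :
    ∀ q' : Ideal (Localization.AtPrime Q), q'.IsPrime →
      ¬ maximalIdeal (Localization.AtPrime Q) ≤ q' →
      ∀ x ∈ nilradical (Localization.AtPrime Q), ∃ s ∉ q',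
        s * x ∈ (maximalIdeal A).map (algebraMap A (Localization.AtPrime Q)) := by
  intro q' hq' hne x hx
  haveI := hq'
  have hlt := comap_lt Q q' hne
  have hgood := hsmall (q'.comap (algebraMap B (Localization.AtPrime Q))) hlt
  obtain ⟨b, t, rfl⟩ := IsLocalization.exists_mk'_eq Q.primeCompl x
  obtain ⟨n, hn⟩ := mem_nilradical.mp hx
  have hb : (algebraMap B (Localization.AtPrime Q) b) ^ n = 0 := by
    rw [← IsLocalization.mk'_spec (Localization.AtPrime Q) b t, mul_pow, hn, zero_mul]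
  rw [← map_pow] at hb
  obtain ⟨u, hu⟩ := (IsLocalization.map_eq_zero_iff Q.primeCompl (Localization.AtPrime Q) _).mp hb
  have huq : (u : B) ∉ q'.comap (algebraMap B (Localization.AtPrime Q)) :=
    fun h => u.2 (hlt.le h)
  obtain ⟨s, hs, hsb⟩ := hgood.exists_of_nilpotent b n u huq hu
  refine ⟨algebraMap B (Localization.AtPrime Q) s, fun h => hs h, ?_⟩
  rw [← map_map_eq, IsLocalization.mul_mk'_eq_mk'_of_mul,
    IsLocalization.mk'_mem_map_algebraMap_iff Q.primeCompl]
  exact ⟨1, Q.primeCompl.one_mem, by rwa [one_mul]⟩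

theorem h3b_of (hsmall : ∀ (q : Ideal B) [q.IsPrime], q < Q → GoodAt A q) :
    ∀ q' : Ideal (Localization.AtPrime Q), q'.IsPrime →
      ¬ maximalIdeal (Localization.AtPrime Q) ≤ q' → ∀ (𝔟 : Ideal A) (e : A),
      (∀ a ∈ maximalIdeal A, a * e ∈ 𝔟) → (∀ a, a * e ∈ 𝔟 → a ∈ maximalIdeal A) →
      ∀ x : Localization.AtPrime Q,
      algebraMap A (Localization.AtPrime Q) e * x ∈ 𝔟.map (algebraMap A (Localization.AtPrime Q)) →
      ∃ s ∉ q', s * x ∈ (maximalIdeal A).map (algebraMap A (Localization.AtPrime Q)) := by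
  intro q' hq' hne 𝔟 e he1 he2 x hx
  haveI := hq'
  have hlt := comap_lt Q q' hne
  have hgood := hsmall (q'.comap (algebraMap B (Localization.AtPrime Q))) hlt
  obtain ⟨b, t, rfl⟩ := IsLocalization.exists_mk'_eq Q.primeCompl x
  rw [← map_map_eq, IsScalarTower.algebraMap_apply A B (Localization.AtPrime Q),
    IsLocalization.mul_mk'_eq_mk'_of_mul,
    IsLocalization.mk'_mem_map_algebraMap_iff Q.primeCompl] at hx
  obtain ⟨u, hu, hub⟩ := hx
  have huq : u ∉ q'.comap (algebraMap B (Localization.AtPrime Q)) := fun h => hu (hlt.le h)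
  obtain ⟨s, hs, hsb⟩ := hgood.exists_of_mul_mem 𝔟 e he1 he2 b u huq hub
  refine ⟨algebraMap B (Localization.AtPrime Q) s, fun h => hs h, ?_⟩
  rw [← map_map_eq, IsLocalization.mul_mk'_eq_mk'_of_mul,
    IsLocalization.mk'_mem_map_algebraMap_iff Q.primeCompl]
  exact ⟨1, Q.primeCompl.one_mem, by rwa [one_mul]⟩

end Global

section Depth

/-- Killing the nilradical does not change the Krull dimension. -/
theorem ringKrullDim_quotient_nilradical (R : Type u) [CommRing R] :
    ringKrullDim (R ⧸ nilradical R) = ringKrullDim R := by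
  have hz : PrimeSpectrum.zeroLocus (nilradical R : Set R) = Set.univ := by
    rw [PrimeSpectrum.zeroLocus_eq_univ_iff]
  let e1 := Ideal.primeSpectrumQuotientOrderIsoZeroLocus (nilradical R)
  let e2 : PrimeSpectrum.zeroLocus (nilradical R : Set R) ≃o (Set.univ : Set (PrimeSpectrum R)) :=
    OrderIso.setCongr _ _ hz
  exact Order.krullDim_eq_of_orderIso ((e1.trans e2).trans OrderIso.Set.univ)

variable {B : Type u} [CommRing B] [IsNoetherianRing B]

theorem tf_of_hasSk_one (hS1 : LocCoh.HasSk 1 B B) (Q : Ideal B) [Q.IsPrime]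
    (hQ : ¬ Q.height ≤ 1) :
    TF (maximalIdeal (Localization.AtPrime Q)) (Localization.AtPrime Q) := by
  have h := (H56SerreFlat.hasSk_self_iff (R := B) 1).mp hS1 Q
  rw [IsLocalization.AtPrime.ringKrullDim_eq_height Q] at h
  have h2 : ((1 : ℕ) : WithBot ℕ∞) ≤ (Q.height : WithBot ℕ∞) := by
    have := (not_le.mp hQ).le
    exact_mod_cast this
  rw [min_eq_left h2] at h
  have h3 : 1 ≤ LocCoh.depth (Localization.AtPrime Q) (Localization.AtPrime Q) := by
    exact_mod_cast h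
  exact (one_le_idealDepth_iff _ _).mp h3

theorem tf_e1_of_hasSk_two
    (hS2 : LocCoh.HasSk 2 (B ⧸ nilradical B) (B ⧸ nilradical B)) (Q : Ideal B) [Q.IsPrime]
    (hQ : ¬ Q.height ≤ 1) :
    TF (maximalIdeal (Localization.AtPrime Q))
        (Localization.AtPrime Q ⧸ nilradical (Localization.AtPrime Q)) ∧
      E1 (maximalIdeal (Localization.AtPrime Q))
        (Localization.AtPrime Q ⧸ nilradical (Localization.AtPrime Q)) := by
  have hNQ : nilradical B ≤ Q := nilradical_le_prime Q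
  haveI := SkQuot33.isPrime_map_mk (nilradical B) Q hNQ
  have h := (H56SerreFlat.hasSk_self_iff (R := B ⧸ nilradical B) 2).mp hS2
    (Q.map (Ideal.Quotient.mk (nilradical B)))
  have hNR : (nilradical B).map (algebraMap B (Localization.AtPrime Q)) =
      nilradical (Localization.AtPrime Q) := by
    have := IsLocalization.map_radical Q.primeCompl (S := Localization.AtPrime Q) (⊥ : Ideal B)
    rw [Ideal.map_bot] at this
    exact this
  have hne : nilradical (Localization.AtPrime Q) ≠ ⊤ := by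
    intro htop
    have : (1 : Localization.AtPrime Q) ∈ nilradical (Localization.AtPrime Q) := by
      rw [htop]; trivial
    obtain ⟨n, hn⟩ := mem_nilradical.mp this
    rw [one_pow] at hn
    exact one_ne_zero hn
  haveI : IsLocalRing (Localization.AtPrime Q ⧸ nilradical (Localization.AtPrime Q)) :=
    CMComp33.isLocalRing_quotient _ hne
  let e1 : Localization.AtPrime (Q.map (Ideal.Quotient.mk (nilradical B))) ≃+*
      (Localization.AtPrime Q ⧸ nilradical (Localization.AtPrime Q)) :=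
    (SkQuot33.locQuotEquiv (nilradical B) Q hNQ).trans (Ideal.quotEquivOfEq hNR)
  rw [ringKrullDim_eq_of_ringEquiv e1, CMRingEquiv96.depth_eq e1,
    ringKrullDim_quotient_nilradical, ← CMFlat33.depth_quotient_eq,
    IsLocalization.AtPrime.ringKrullDim_eq_height Q] at h
  have h2 : ((2 : ℕ) : WithBot ℕ∞) ≤ (Q.height : WithBot ℕ∞) := by
    have h3 : (1 : ℕ∞) < Q.height := not_le.mp hQ
    have h4 : (2 : ℕ∞) ≤ Q.height := by
      have := Order.add_one_le_of_lt h3
      rwa [one_add_one_eq_two] at this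
    have h5 : ((2 : ℕ∞) : WithBot ℕ∞) ≤ Q.height := WithBot.coe_le_coe.mpr h4
    exact h5
  rw [min_eq_left h2] at h
  have h3 : 2 ≤ LocCoh.depth (Localization.AtPrime Q)
      (Localization.AtPrime Q ⧸ nilradical (Localization.AtPrime Q)) := by
    have h5 : ((2 : ℕ∞) : WithBot ℕ∞) ≤ LocCoh.depth (Localization.AtPrime Q)
      (Localization.AtPrime Q ⧸ nilradical (Localization.AtPrime Q)) := h
    exact WithBot.coe_le_coe.mp h5
  exact (two_le_idealDepth_iff _ _).mp h3

end Depth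

section Main

variable {A : Type u} [CommRing A] [IsLocalRing A] [IsArtinianRing A]
variable {B : Type u} [CommRing B] [Algebra A B]

theorem comap_eq_maximalIdeal (q : Ideal B) [q.IsPrime] :
    q.comap (algebraMap A B) = maximalIdeal A := by
  haveI : (q.comap (algebraMap A B)).IsPrime := Ideal.comap_isPrime _ _
  haveI := IsArtinianRing.isMaximal_of_isPrime (q.comap (algebraMap A B))
  exact IsLocalRing.eq_maximalIdeal this

theorem goodAt_of_codim (q : Ideal B) [q.IsPrime]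
    (h : Module.Flat A (Localization.AtPrime q) ∧ IsReduced (EGA4.FibLocRing A B q)) :
    GoodAt A q := by
  refine ⟨h.1, fun x hx => ?_⟩
  haveI := h.2
  have h1 : IsNilpotent (Ideal.Quotient.mk ((q.comap (algebraMap A B)).map
      (algebraMap A (Localization.AtPrime q))) x) := (mem_nilradical.mp hx).map _
  have h2 := h1.eq_zero
  rw [Ideal.Quotient.eq_zero_iff_mem, comap_eq_maximalIdeal] at h2
  exact h2

variable [IsNoetherianRing B]

theorem goodAt_of_lt (hS1 : LocCoh.HasSk 1 B B)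
    (hS2 : LocCoh.HasSk 2 (B ⧸ nilradical B) (B ⧸ nilradical B)) (Q : Ideal B) [Q.IsPrime]
    (hQ : ¬ Q.height ≤ 1) (hsmall : ∀ (q : Ideal B) [q.IsPrime], q < Q → GoodAt A q) :
    GoodAt A Q := by
  have hTF := tf_of_hasSk_one hS1 Q hQ
  obtain ⟨hTFN, hE1N⟩ := tf_e1_of_hasSk_two hS2 Q hQ
  exact ⟨flat_core hTF hTFN hE1N (h3a_of Q hsmall) (h3b_of Q hsmall),
    (nilradical_eq hTF hTFN hE1N (h3a_of Q hsmall) (h3b_of Q hsmall)).le⟩

theorem goodAt_all (hS1 : LocCoh.HasSk 1 B B)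
    (hS2 : LocCoh.HasSk 2 (B ⧸ nilradical B) (B ⧸ nilradical B))
    (hcodim : ∀ (q : Ideal B) [q.IsPrime], q.height ≤ 1 →
      Module.Flat A (Localization.AtPrime q) ∧ IsReduced (EGA4.FibLocRing A B q))
    (Q : Ideal B) [hQ : Q.IsPrime] : GoodAt A Q := by
  have key : ∀ n : ℕ, ∀ (Q : Ideal B) [Q.IsPrime], Q.height = n → GoodAt A Q := by
    intro n
    induction n using Nat.strong_induction_on with
    | _ n ih =>
      intro Q hQ hn
      by_cases h1 : Q.height ≤ 1
      · exact goodAt_of_codim Q (hcodim Q h1)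
      · refine goodAt_of_lt hS1 hS2 Q h1 fun q hq hlt => ?_
        have hlt' : q.height < Q.height := Ideal.height_strict_mono_of_isPrime_of_isPrime hlt
        obtain ⟨k, hk⟩ := ENat.ne_top_iff_exists.mp (Ideal.height_ne_top hq.ne_top)
        refine ih k ?_ q hk.symm
        rw [hn, ← hk] at hlt'
        exact_mod_cast hlt'
  obtain ⟨n, hn⟩ := ENat.ne_top_iff_exists.mp (Ideal.height_ne_top hQ.ne_top)
  exact key n Q hn.symm

/-- **S14072**: flatness over an Artinian local base from `(S₁)`, `(S₂)` of the reduction and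
flatness with reduced fibres in codimension `≤ 1`. -/
theorem flat_of_hasSk (hS1 : LocCoh.HasSk 1 B B)
    (hS2 : LocCoh.HasSk 2 (B ⧸ nilradical B) (B ⧸ nilradical B))
    (hcodim : ∀ (q : Ideal B) [q.IsPrime], q.height ≤ 1 →
      Module.Flat A (Localization.AtPrime q) ∧ IsReduced (EGA4.FibLocRing A B q)) :
    Module.Flat A B :=
  Module.flat_of_isLocalized_maximal B B (fun P _ => Localization.AtPrime P)
    (fun P _ => Algebra.linearMap B (Localization.AtPrime P))
    (fun P _ => (goodAt_all hS1 hS2 hcodim P).1)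

/-- **S14071**: the fibre is reduced. -/
theorem isReduced_of_hasSk (hS1 : LocCoh.HasSk 1 B B)
    (hS2 : LocCoh.HasSk 2 (B ⧸ nilradical B) (B ⧸ nilradical B))
    (hcodim : ∀ (q : Ideal B) [q.IsPrime], q.height ≤ 1 →
      Module.Flat A (Localization.AtPrime q) ∧ IsReduced (EGA4.FibLocRing A B q)) :
    IsReduced (B ⧸ (maximalIdeal A).map (algebraMap A B)) := by
  have key : ∀ x ∈ nilradical B, x ∈ (maximalIdeal A).map (algebraMap A B) := by
    intro x hx
    by_contra hxm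
    set J : Ideal B := ((maximalIdeal A).map (algebraMap A B)).colon ({x} : Set B) with hJ
    have hJne : J ≠ ⊤ := by
      intro htop
      have h1 : (1 : B) ∈ J := by rw [htop]; trivial
      rw [hJ, Submodule.mem_colon_singleton, one_smul] at h1
      exact hxm h1
    obtain ⟨P, hP, hJP⟩ := Ideal.exists_le_maximal J hJne
    haveI := hP.isPrime
    obtain ⟨n, hn⟩ := mem_nilradical.mp hx
    obtain ⟨s, hs, hsx⟩ := (goodAt_all (A := A) hS1 hS2 hcodim P).exists_of_nilpotent x n 1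
      (fun h => hP.ne_top ((Ideal.eq_top_iff_one _).mpr h)) (by rw [one_mul, hn])
    refine hs (hJP ?_)
    rw [hJ, Submodule.mem_colon_singleton]
    exact hsx
  refine ⟨fun y hy => ?_⟩
  obtain ⟨x, rfl⟩ := Ideal.Quotient.mk_surjective y
  obtain ⟨n, hn⟩ := hy
  rw [← map_pow, Ideal.Quotient.eq_zero_iff_mem] at hn
  have h1 : x ^ n ∈ nilradical B := map_maximalIdeal_le_nilradical hn
  obtain ⟨k, hk⟩ := mem_nilradical.mp h1
  have h2 : x ∈ nilradical B := mem_nilradical.mpr ⟨n * k, by rw [pow_mul, hk]⟩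
  exact Ideal.Quotient.eq_zero_iff_mem.mpr (key x h2)

end Main

end Groth.Agent.Lib.ArtinFlat33
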