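import Mathlib.CategoryTheory.Adjunction.Basic
import Mathlib.CategoryTheory.Adjunction.FullyFaithful
import Mathlib.CategoryTheory.Comma.Basic
import Mathlib.CategoryTheory.Limits.Shapes.Pullback.IsPullback.Basic
import Mathlib.CategoryTheory.Limits.Preserves.Shapes.Pullbacks
import Mathlib.CategoryTheory.Equivalence

/-!
# Abstract Artin gluing

Let `jp : E ⥤ A` and `L : E ⥤ B` be functors with fully faithful right adjoints `js` and `ι`,
both preserving pullbacks, jointly conservative, and such that `jp` inverts all morphisms in the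
image of `ι`. Then `E` is equivalent to the comma category `(𝟭 B) ↓ (js ⋙ L)`.
-/

set_option autoImplicit false
set_option linter.unusedSectionVars false
open CategoryTheory CategoryTheory.Limits
universe v₁ v₂ v₃ u₁ u₂ u₃

namespace Groth.Agent.Lib.ArtinGluing

variable {E : Type u₁} [Category.{v₁} E] {A : Type u₂} [Category.{v₂} A]
  {B : Type u₃} [Category.{v₃} B]
  {jp : E ⥤ A} {js : A ⥤ E} (a₁ : jp ⊣ js) {L : E ⥤ B} {ι : B ⥤ E} (a₂ : L ⊣ ι)

/-- The comparison functor to the glued category. -/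
@[simps]
def Φ : E ⥤ Comma (𝟭 B) (js ⋙ L) where
  obj Z := { left := L.obj Z, right := jp.obj Z, hom := L.map (a₁.unit.app Z) }
  map {Z Z'} m :=
    { left := L.map m
      right := jp.map m
      w := by
        show L.map m ≫ L.map (a₁.unit.app Z') = L.map (a₁.unit.app Z) ≫ L.map (js.map (jp.map m))
        rw [← L.map_comp, ← L.map_comp]
        congr 1
        exact a₁.unit.naturality m }

section

variable [HasPullbacks E] [PreservesLimitsOfShape WalkingCospan jp]
  [PreservesLimitsOfShape WalkingCospan L]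
  (hε₁ : IsIso a₁.counit) (hε₂ : IsIso a₂.counit)
  (hcons : ∀ {X Y : E} (m : X ⟶ Y), IsIso (jp.map m) → IsIso (L.map m) → IsIso m)
  (h4 : ∀ {Y Y' : B} (f : Y ⟶ Y'), IsIso (jp.map (ι.map f)))

include hε₁ in
lemma isIso_jp_unit (Z : E) : IsIso (jp.map (a₁.unit.app Z)) := by
  have h : jp.map (a₁.unit.app Z) ≫ a₁.counit.app (jp.obj Z) = 𝟙 (jp.obj Z) :=
    a₁.left_triangle_components Z
  have h1 : IsIso (a₁.counit.app (jp.obj Z)) := inferInstance
  have h2 : IsIso (jp.map (a₁.unit.app Z) ≫ a₁.counit.app (jp.obj Z)) := by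
    rw [h]; exact IsIso.id _
  exact IsIso.of_isIso_comp_right _ (a₁.counit.app (jp.obj Z))

include hε₂ in
lemma isIso_L_unit (Z : E) : IsIso (L.map (a₂.unit.app Z)) := by
  have h : L.map (a₂.unit.app Z) ≫ a₂.counit.app (L.obj Z) = 𝟙 (L.obj Z) :=
    a₂.left_triangle_components Z
  have h1 : IsIso (a₂.counit.app (L.obj Z)) := inferInstance
  have h2 : IsIso (L.map (a₂.unit.app Z) ≫ a₂.counit.app (L.obj Z)) := by
    rw [h]; exact IsIso.id _
  exact IsIso.of_isIso_comp_right _ (a₂.counit.app (L.obj Z))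

include hε₁ hε₂ hcons h4 in
/-- Every object is the fibre product of its two localizations over the glueing datum. -/
theorem isPullback_units (Z : E) :
    IsPullback (a₁.unit.app Z) (a₂.unit.app Z) (a₂.unit.app (js.obj (jp.obj Z)))
      (ι.map (L.map (a₁.unit.app Z))) := by
  have w : a₁.unit.app Z ≫ a₂.unit.app (js.obj (jp.obj Z)) =
      a₂.unit.app Z ≫ ι.map (L.map (a₁.unit.app Z)) := a₂.unit.naturality (a₁.unit.app Z)
  let f := a₂.unit.app (js.obj (jp.obj Z))
  let g := ι.map (L.map (a₁.unit.app Z))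
  let c : Z ⟶ pullback f g := pullback.lift (a₁.unit.app Z) (a₂.unit.app Z) w
  have hP := IsPullback.of_hasPullback f g
  have hc : IsIso c := by
    apply hcons
    · have hPj := hP.map jp
      have : IsIso (jp.map g) := h4 _
      have h1 : IsIso (jp.map (pullback.fst f g)) := hPj.isIso_fst_of_isIso
      have h2 : IsIso (jp.map c ≫ jp.map (pullback.fst f g)) := by
        rw [← jp.map_comp, pullback.lift_fst]
        exact isIso_jp_unit a₁ hε₁ Z
      exact IsIso.of_isIso_comp_right (jp.map c) (jp.map (pullback.fst f g))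
    · have hPL := hP.map L
      have : IsIso (L.map f) := isIso_L_unit a₂ hε₂ _
      have h1 : IsIso (L.map (pullback.snd f g)) := hPL.isIso_snd_of_isIso
      have h2 : IsIso (L.map c ≫ L.map (pullback.snd f g)) := by
        rw [← L.map_comp, pullback.lift_snd]
        exact isIso_L_unit a₂ hε₂ Z
      exact IsIso.of_isIso_comp_right (L.map c) (L.map (pullback.snd f g))
  exact IsPullback.of_iso_pullback ⟨w⟩ (asIso c) (pullback.lift_fst _ _ _) (pullback.lift_snd _ _ _)

include hε₁ hε₂ hcons h4 in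
theorem faithful_Φ : (Φ a₁ (L := L)).Faithful where
  map_injective {Z Z'} m m' h := by
    have hL : L.map m = L.map m' := congrArg CommaMorphism.left h
    have hj : jp.map m = jp.map m' := congrArg CommaMorphism.right h
    apply (isPullback_units a₁ a₂ hε₁ hε₂ hcons h4 Z').hom_ext
    · have e1 := a₁.unit.naturality m
      have e2 := a₁.unit.naturality m'
      simp only [Functor.id_obj, Functor.comp_obj, Functor.id_map, Functor.comp_map] at e1 e2
      rw [e1, e2, hj]
    · have e1 := a₂.unit.naturality m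
      have e2 := a₂.unit.naturality m'
      simp only [Functor.id_obj, Functor.comp_obj, Functor.id_map, Functor.comp_map] at e1 e2
      rw [e1, e2, hL]

include hε₁ hε₂ hcons h4 in
theorem full_Φ : (Φ a₁ (L := L)).Full where
  map_surjective {Z Z'} φ := by
    let α : L.obj Z ⟶ L.obj Z' := φ.left
    let β : jp.obj Z ⟶ jp.obj Z' := φ.right
    have hw : α ≫ L.map (a₁.unit.app Z') = L.map (a₁.unit.app Z) ≫ L.map (js.map β) := φ.w
    have hcompat : (a₁.unit.app Z ≫ js.map β) ≫ a₂.unit.app (js.obj (jp.obj Z')) =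
        (a₂.unit.app Z ≫ ι.map α) ≫ ι.map (L.map (a₁.unit.app Z')) := by
      have e1 := a₂.unit.naturality (a₁.unit.app Z ≫ js.map β)
      simp only [Functor.id_obj, Functor.comp_obj, Functor.id_map, Functor.comp_map] at e1
      rw [e1, Category.assoc, ← ι.map_comp, hw, ← L.map_comp]
    let m : Z ⟶ Z' := (isPullback_units a₁ a₂ hε₁ hε₂ hcons h4 Z').lift _ _ hcompat
    have hm1 : m ≫ a₁.unit.app Z' = a₁.unit.app Z ≫ js.map β :=
      (isPullback_units a₁ a₂ hε₁ hε₂ hcons h4 Z').lift_fst _ _ _
    have hm2 : m ≫ a₂.unit.app Z' = a₂.unit.app Z ≫ ι.map α :=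
      (isPullback_units a₁ a₂ hε₁ hε₂ hcons h4 Z').lift_snd _ _ _
    refine ⟨m, ?_⟩
    apply CommaMorphism.ext
    · show L.map m = α
      apply (a₂.homEquiv Z (L.obj Z')).injective
      rw [a₂.homEquiv_unit, a₂.homEquiv_unit, ← hm2]
      exact (a₂.unit.naturality m).symm
    · show jp.map m = β
      apply (a₁.homEquiv Z (jp.obj Z')).injective
      rw [a₁.homEquiv_unit, a₁.homEquiv_unit, ← hm1]
      exact (a₁.unit.naturality m).symm

include hε₁ hε₂ h4 in
theorem essSurj_Φ : (Φ a₁ (L := L)).EssSurj where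
  mem_essImage T := by
    let Y := T.left
    let X := T.right
    let f : Y ⟶ L.obj (js.obj X) := T.hom
    let P := pullback (ι.map f) (a₂.unit.app (js.obj X))
    let p₁ : P ⟶ ι.obj Y := pullback.fst _ _
    let p₂ : P ⟶ js.obj X := pullback.snd _ _
    have hP : IsPullback p₁ p₂ (ι.map f) (a₂.unit.app (js.obj X)) := IsPullback.of_hasPullback _ _
    have hLp₁ : IsIso (L.map p₁) := by
      have := isIso_L_unit a₂ hε₂ (js.obj X)
      exact (hP.map L).isIso_fst_of_isIso
    have hjp₂ : IsIso (jp.map p₂) := by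
      have : IsIso (jp.map (ι.map f)) := h4 f
      exact (hP.map jp).isIso_snd_of_isIso
    have : IsIso (a₂.counit.app Y) := inferInstance
    have : IsIso (a₁.counit.app X) := inferInstance
    let eL : L.obj P ≅ Y := asIso (L.map p₁) ≪≫ asIso (a₂.counit.app Y)
    let eR : jp.obj P ≅ X := asIso (jp.map p₂) ≪≫ asIso (a₁.counit.app X)
    refine ⟨P, ⟨Comma.isoMk eL eR ?_⟩⟩
    show (L.map p₁ ≫ a₂.counit.app Y) ≫ f =
      L.map (a₁.unit.app P) ≫ L.map (js.map (jp.map p₂ ≫ a₁.counit.app X))
    have e1 : a₁.unit.app P ≫ js.map (jp.map p₂ ≫ a₁.counit.app X) = p₂ := by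
      have n := a₁.unit.naturality p₂
      simp only [Functor.id_obj, Functor.comp_obj, Functor.id_map, Functor.comp_map] at n
      rw [js.map_comp, ← Category.assoc, ← n, Category.assoc, a₁.right_triangle_components,
        Category.comp_id]
    have e2 : a₂.counit.app Y ≫ f = L.map (ι.map f) ≫ a₂.counit.app (L.obj (js.obj X)) :=
      (a₂.counit.naturality f).symm
    rw [← L.map_comp, e1, Category.assoc, e2, ← Category.assoc, ← L.map_comp, hP.w, L.map_comp,
      Category.assoc, a₂.left_triangle_components, Category.comp_id]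

include hε₁ hε₂ hcons h4 in
/-- Abstract Artin gluing. -/
theorem nonempty_equivalence : Nonempty (E ≌ Comma (𝟭 B) (js ⋙ L)) := by
  have := faithful_Φ a₁ a₂ hε₁ hε₂ hcons h4
  have := full_Φ a₁ a₂ hε₁ hε₂ hcons h4
  have := essSurj_Φ a₁ a₂ hε₁ hε₂ h4
  have : (Φ a₁ (L := L)).IsEquivalence := { }
  exact ⟨(Φ a₁ (L := L)).asEquivalence⟩

end

end Groth.Agent.Lib.ArtinGluing
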