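import Groth.Agent.Lib.ArtinTransfer45
import Groth.Agent.Lib.GrpIdCompPts45

/-!
# Group schemes over a local artinian ring: transfer of the identity component (helper45)

`A` local artinian with residue field `κ`, `G` a group scheme over `A`, `Gκ` its special fibre and
`π : Gκ ⟶ G` the (homeomorphic) closed immersion.

* `πHomeo`, `image_connectedComponent` : `π` is a homeomorphism, compatible with components.
* `π_unitPt` : `π` maps the unit point to the unit point.
* `range_div_subset`, `range_conj_subset` : the identity component is stable under `g h⁻¹` and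
  `g n g⁻¹` on `T`-points (NO finiteness hypothesis).
* `isOpen_connectedComponent`, `isCompact_connectedComponent` for `G` locally of finite type.
-/

set_option autoImplicit false
set_option linter.unusedSectionVars false
universe u
open CategoryTheory CategoryTheory.Limits MonoidalCategory CartesianMonoidalCategory MonObj GrpObj
  AlgebraicGeometry
open Groth.Agent.Lib.ArtinTransfer45 Groth.Agent.Lib.GrpTopPts45

namespace Groth.Agent.Lib.ArtinGrpTransfer45

section top

variable {X Y : Type*} [TopologicalSpace X] [TopologicalSpace Y]

lemma image_connectedComponent_of_homeomorph (h : X ≃ₜ Y) (x : X) :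
    h '' connectedComponent x = connectedComponent (h x) := by
  apply Set.Subset.antisymm
  · exact h.continuous.image_connectedComponent_subset x
  · intro y hy
    have := h.symm.continuous.image_connectedComponent_subset (h x) ⟨y, hy, rfl⟩
    rw [h.symm_apply_apply] at this
    exact ⟨h.symm y, this, h.apply_symm_apply y⟩

end top

variable {A : Type u} [CommRing A] [IsArtinianRing A] [IsLocalRing A]

open scoped CategoryTheory.Obj

section
variable (G : Over (Spec (CommRingCat.of A)))

lemma isHomeomorph_π : IsHomeomorph (π G) :=
  isHomeomorph_iff_isEmbedding_surjective.mpr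
    ⟨(π G).isClosedEmbedding.isEmbedding, (π G).surjective⟩

/-- `π` as a homeomorphism. -/
noncomputable def πHomeo : ((Over.pullback (j A)).obj G).left ≃ₜ G.left :=
  (isHomeomorph_π G).homeomorph

@[simp] lemma πHomeo_apply (y : ((Over.pullback (j A)).obj G).left) : πHomeo G y = π G y := rfl

lemma image_connectedComponent (y : ((Over.pullback (j A)).obj G).left) :
    π G '' connectedComponent y = connectedComponent (π G y) :=
  image_connectedComponent_of_homeomorph (πHomeo G) y

lemma subsingleton_base : Subsingleton ↥(Spec (CommRingCat.of A)) :=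
  Groth.Agent.Lib.GrpDenseArt45.subsingleton_primeSpectrum (A := A)

end

variable (G : Over (Spec (CommRingCat.of A))) [GrpObj G]

lemma π_unitPt (pt : ↥(𝟙_ (Over (Spec (CommRingCat.of A)))).left) :
    π G (unitPt ((Over.pullback (j A)).obj G)) = η[G].left pt := by
  obtain ⟨t, -⟩ := (π (𝟙_ (Over (Spec (CommRingCat.of A))))).surjective pt
  have h1 : ((Over.pullback (j A)).map (1 : 𝟙_ (Over (Spec (CommRingCat.of A))) ⟶ G)).left t =
      unitPt ((Over.pullback (j A)).obj G) := by
    rw [Functor.map_one, one_left_apply]
  rw [← h1, ← Scheme.Hom.comp_apply, map_π, Scheme.Hom.comp_apply, Hom.one_def,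
    Over.comp_left, Scheme.Hom.comp_apply]
  congr 1
  have := subsingleton_base (A := A)
  exact Subsingleton.elim (α := ↥(Spec (CommRingCat.of A))) _ _

lemma cc_eq_image (pt : ↥(𝟙_ (Over (Spec (CommRingCat.of A)))).left) :
    connectedComponent (η[G].left pt) =
      π G '' connectedComponent (unitPt ((Over.pullback (j A)).obj G)) := by
  rw [image_connectedComponent, π_unitPt]

variable {G}

lemma range_map_subset {T : Over (Spec (CommRingCat.of A))} (g : T ⟶ G)
    (pt : ↥(𝟙_ (Over (Spec (CommRingCat.of A)))).left)
    (hg : Set.range g.left ⊆ connectedComponent (η[G].left pt)) :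
    Set.range ((Over.pullback (j A)).map g).left ⊆
      connectedComponent (unitPt ((Over.pullback (j A)).obj G)) := by
  rintro _ ⟨t, rfl⟩
  have h1 : π G (((Over.pullback (j A)).map g).left t) ∈ connectedComponent (η[G].left pt) := by
    apply hg
    rw [← Scheme.Hom.comp_apply, map_π, Scheme.Hom.comp_apply]
    exact ⟨_, rfl⟩
  rw [cc_eq_image] at h1
  obtain ⟨y, hy, hyeq⟩ := h1
  rwa [(π G).isClosedEmbedding.injective hyeq] at hy

lemma range_subset_of_map {T : Over (Spec (CommRingCat.of A))} (g : T ⟶ G)
    (pt : ↥(𝟙_ (Over (Spec (CommRingCat.of A)))).left)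
    (hg : Set.range ((Over.pullback (j A)).map g).left ⊆
      connectedComponent (unitPt ((Over.pullback (j A)).obj G))) :
    Set.range g.left ⊆ connectedComponent (η[G].left pt) := by
  rw [range_eq_image, cc_eq_image]
  exact Set.image_mono hg

theorem range_div_subset {T : Over (Spec (CommRingCat.of A))} (g h : T ⟶ G)
    (pt : ↥(𝟙_ (Over (Spec (CommRingCat.of A)))).left)
    (hg : Set.range g.left ⊆ connectedComponent (η[G].left pt))
    (hh : Set.range h.left ⊆ connectedComponent (η[G].left pt)) :
    Set.range (g * h⁻¹).left ⊆ connectedComponent (η[G].left pt) := by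
  apply range_subset_of_map
  rw [Functor.map_mul, Functor.map_inv']
  exact Groth.Agent.Lib.GrpIdCompPts45.range_div_subset _ _ (range_map_subset g pt hg)
    (range_map_subset h pt hh)

theorem range_conj_subset {T : Over (Spec (CommRingCat.of A))} (g n : T ⟶ G)
    (pt : ↥(𝟙_ (Over (Spec (CommRingCat.of A)))).left)
    (hn : Set.range n.left ⊆ connectedComponent (η[G].left pt)) :
    Set.range (g * n * g⁻¹).left ⊆ connectedComponent (η[G].left pt) := by
  apply range_subset_of_map
  rw [Functor.map_mul, Functor.map_mul, Functor.map_inv']
  exact Groth.Agent.Lib.GrpIdCompPts45.range_conj_subset _ _ (range_map_subset n pt hn)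

section lft

variable (G) [LocallyOfFiniteType G.hom]

theorem isOpen_connectedComponent (x : G.left) : IsOpen (connectedComponent x) := by
  have : IsLocallyNoetherian G.left := LocallyOfFiniteType.isLocallyNoetherian G.hom
  exact Groth.Agent.Lib.GrpIdCompPts45.isOpen_connectedComponent_of_isLocallyNoetherian _ x

theorem isCompact_connectedComponent (x : G.left) : IsCompact (connectedComponent x) := by
  obtain ⟨y, rfl⟩ := (π G).surjective x
  rw [← image_connectedComponent]
  have hlft : LocallyOfFiniteType ((Over.pullback (j A)).obj G).hom :=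
    inferInstanceAs (LocallyOfFiniteType (pullback.snd G.hom (j A)))
  have : IsLocallyNoetherian ((Over.pullback (j A)).obj G).left :=
    LocallyOfFiniteType.isLocallyNoetherian ((Over.pullback (j A)).obj G).hom
  have ho := Groth.Agent.Lib.GrpIdCompPts45.isOpen_connectedComponent_of_isLocallyNoetherian _
    (unitPt ((Over.pullback (j A)).obj G))
  exact (Groth.Agent.Lib.GrpIdCompPts45.isCompact_connectedComponent y ho).image
    (π G).continuous

end lft

end Groth.Agent.Lib.ArtinGrpTransfer45
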