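import Mathlib
import Groth.Agent.Lib.H56RegSmooth2

/-!
# Infinitesimal lifting against local Artinian algebras forces regularity

For a local `k`-algebra `A` essentially of finite type with residue field `k`: if `k`-algebra maps from `A` lift along
square-zero surjections of finite local `k`-algebras, then `A` is regular. Write `A = R/I` with `R` a localization of a
polynomial ring; lifting `A → R/(I + 𝔪ⁿ)` to `R/(𝔪I + 𝔪ⁿ)` and comparing with the projection gives a derivation killing `𝔪²`,
whence `I ∩ 𝔪² ⊆ 𝔪I + 𝔪ⁿ` for all `n`, so `I ∩ 𝔪² ⊆ 𝔪I` by Krull; then the cotangent criterion.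
-/

set_option autoImplicit false
set_option linter.unusedVariables false
set_option linter.unusedSectionVars false
set_option linter.style.haveILetI false
universe u

open IsLocalRing

namespace Groth.Agent.Lib.ArtinLift

section Finite

variable (k R : Type*) [Field k] [CommRing R] [Algebra k R] [IsLocalRing R] [IsNoetherianRing R]
  (hres : Function.Surjective (algebraMap k (ResidueField R)))

include hres in
theorem exists_finset_span (m : ℕ) :
    ∃ S : Finset R, ∀ r : R, ∃ w ∈ Submodule.span k (S : Set R), r - w ∈ maximalIdeal R ^ m := by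
  classical
  induction m with
  | zero =>
    refine ⟨∅, fun r => ⟨0, Submodule.zero_mem _, ?_⟩⟩
    rw [pow_zero, Ideal.one_eq_top]
    exact Submodule.mem_top
  | succ m ih =>
    obtain ⟨S, hS⟩ := ih
    obtain ⟨T, hT⟩ : (maximalIdeal R ^ m).FG := IsNoetherian.noetherian _
    refine ⟨S ∪ T, fun r => ?_⟩
    obtain ⟨w, hw, hrw⟩ := hS r
    rw [← hT] at hrw
    obtain ⟨a, ha⟩ := (Submodule.mem_span_finset' ).mp hrw
    have hc : ∀ t : T, ∃ c : k, a t - algebraMap k R c ∈ maximalIdeal R := by
      intro t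
      obtain ⟨c, hc⟩ := hres (residue R (a t))
      refine ⟨c, ?_⟩
      rw [← residue_eq_zero_iff, map_sub, ← hc]
      rw [IsScalarTower.algebraMap_apply k R (ResidueField R), ResidueField.algebraMap_eq, sub_self]
    choose c hc using hc
    refine ⟨w + ∑ t : T, c t • (t : R), ?_, ?_⟩
    · refine Submodule.add_mem _ (Submodule.span_mono (by simp) hw) ?_
      refine Submodule.sum_mem _ fun t _ => Submodule.smul_mem _ _ (Submodule.subset_span ?_)
      simp
    · have e : r - (w + ∑ t : T, c t • (t : R)) = ∑ t : T, (a t - algebraMap k R (c t)) * (t : R) := by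
        have h1 : r - w = ∑ t : T, a t • (t : R) := ha.symm
        rw [sub_add_eq_sub_sub, h1, ← Finset.sum_sub_distrib]
        refine Finset.sum_congr rfl fun t _ => ?_
        rw [smul_eq_mul, Algebra.smul_def, sub_mul]
      rw [e, pow_succ']
      refine Ideal.sum_mem _ fun t _ => Ideal.mul_mem_mul (hc t) ?_
      rw [← hT]
      exact Submodule.subset_span t.2

include hres in
theorem finite_quotient_of_pow_le (K : Ideal R) (m : ℕ) (hK : maximalIdeal R ^ m ≤ K) :
    Module.Finite k (R ⧸ K) := by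
  classical
  obtain ⟨S, hS⟩ := exists_finset_span k R hres m
  refine ⟨⟨S.image (Ideal.Quotient.mk K), ?_⟩⟩
  rw [eq_top_iff]
  rintro x -
  obtain ⟨r, rfl⟩ := Ideal.Quotient.mk_surjective x
  obtain ⟨w, hw, hrw⟩ := hS r
  have h1 : Ideal.Quotient.mk K r = Ideal.Quotient.mk K w := by
    rw [Ideal.Quotient.eq]
    exact hK hrw
  rw [h1, Finset.coe_image]
  exact Submodule.apply_mem_span_image_of_mem_span (Ideal.Quotient.mkₐ k K).toLinearMap hw

end Finite

section Lift

variable (k : Type u) [Field k] {R A : Type u} [CommRing R] [CommRing A] [Algebra k R] [Algebra k A]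
  [IsLocalRing R] [IsNoetherianRing R]

theorem mem_sup_pow_of_lifting (φ : R →ₐ[k] A) (hφ : Function.Surjective φ)
    (hres : Function.Surjective (algebraMap k (ResidueField R)))
    (hI : RingHom.ker φ ≤ maximalIdeal R)
    (hlift : ∀ (B' : Type u) [CommRing B'] [IsLocalRing B'] [Algebra k B'] [Module.Finite k B'] (J : Ideal B'),
      J ^ 2 = ⊥ → ∀ f : A →ₐ[k] B' ⧸ J, ∃ g : A →ₐ[k] B', (Ideal.Quotient.mkₐ k J).comp g = f)
    (n : ℕ) {y : R} (hy : y ∈ RingHom.ker φ) (hy2 : y ∈ maximalIdeal R ^ 2) :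
    y ∈ maximalIdeal R * RingHom.ker φ ⊔ maximalIdeal R ^ (n + 1) := by
  set 𝔪 := maximalIdeal R with h𝔪
  set I : Ideal R := RingHom.ker φ with hIdef
  set K : Ideal R := 𝔪 * I ⊔ 𝔪 ^ (n + 1) with hKdef
  have hpow : 𝔪 ^ (n + 1) ≤ 𝔪 := Ideal.pow_le_self (Nat.succ_ne_zero n)
  have hK𝔪 : K ≤ 𝔪 := sup_le Ideal.mul_le_left hpow
  have hKtop : K ≠ ⊤ := fun h => (maximalIdeal.isMaximal R).ne_top (top_le_iff.mp (h ▸ hK𝔪))
  haveI : Nontrivial (R ⧸ K) := Ideal.Quotient.nontrivial_iff.mpr hKtop
  haveI : IsLocalRing (R ⧸ K) := IsLocalRing.of_surjective' (Ideal.Quotient.mk K) Ideal.Quotient.mk_surjective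
  haveI : Module.Finite k (R ⧸ K) := finite_quotient_of_pow_le k R hres K (n + 1) le_sup_right
  set L : Ideal R := I ⊔ 𝔪 ^ (n + 1) with hLdef
  have hL𝔪 : L ≤ 𝔪 := sup_le hI hpow
  have h𝔪L : 𝔪 * L ≤ K := by
    rw [hLdef, Ideal.mul_sup]
    refine sup_le_sup le_rfl ?_
    rw [← pow_succ']
    exact Ideal.pow_le_pow_right (Nat.le_succ _)
  have hL2 : L * L ≤ K := (Ideal.mul_mono_left hL𝔪).trans h𝔪L
  set J : Ideal (R ⧸ K) := L.map (Ideal.Quotient.mk K) with hJdef
  have hJ2 : J ^ 2 = ⊥ := by
    rw [pow_two, hJdef, ← Ideal.map_mul, Ideal.map_eq_bot_iff_le_ker, Ideal.mk_ker]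
    exact hL2
  let ψ : R →ₐ[k] (R ⧸ K) ⧸ J := (Ideal.Quotient.mkₐ k J).comp (Ideal.Quotient.mkₐ k K)
  have hψ : ∀ x ∈ RingHom.ker φ, ψ x = 0 := fun x hx => by
    change Ideal.Quotient.mk J (Ideal.Quotient.mk K x) = 0
    rw [Ideal.Quotient.eq_zero_iff_mem]
    exact Ideal.mem_map_of_mem _ (Ideal.mem_sup_left hx)
  let e : (R ⧸ RingHom.ker φ) ≃ₐ[k] A := Ideal.quotientKerAlgEquivOfSurjective hφ
  let f : A →ₐ[k] (R ⧸ K) ⧸ J := (Ideal.Quotient.liftₐ (RingHom.ker φ) ψ hψ).comp e.symm.toAlgHom
  have hfφ : ∀ r, f (φ r) = ψ r := by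
    intro r
    have h1 : e.symm (φ r) = Ideal.Quotient.mk _ r := by
      rw [AlgEquiv.symm_apply_eq]
      rfl
    change Ideal.Quotient.liftₐ _ ψ hψ (e.symm (φ r)) = ψ r
    rw [h1]
    rfl
  obtain ⟨g, hg⟩ := hlift (R ⧸ K) J hJ2 f
  let h : R →ₐ[k] R ⧸ K := g.comp φ
  let π : R →ₐ[k] R ⧸ K := Ideal.Quotient.mkₐ k K
  have fact1 : ∀ r, h r - π r ∈ J := by
    intro r
    rw [← Ideal.Quotient.eq]
    have h1 := AlgHom.congr_fun hg (φ r)
    exact h1.trans (hfφ r)
  have fact2 : ∀ a ∈ 𝔪, ∀ z ∈ J, π a * z = 0 := by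
    intro a ha z hz
    obtain ⟨w, hw, rfl⟩ := (Ideal.mem_map_iff_of_surjective _ Ideal.Quotient.mk_surjective).mp hz
    change Ideal.Quotient.mk K a * Ideal.Quotient.mk K w = 0
    rw [← map_mul, Ideal.Quotient.eq_zero_iff_mem]
    exact h𝔪L (Ideal.mul_mem_mul ha hw)
  have fact3 : ∀ z ∈ J, ∀ z' ∈ J, z * z' = 0 := by
    intro z hz z' hz'
    have h1 : z * z' ∈ J ^ 2 := by
      rw [pow_two]
      exact Ideal.mul_mem_mul hz hz'
    rw [hJ2] at h1
    exact h1
  have key : ∀ w ∈ 𝔪 ^ 2, h w = π w := by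
    intro w hw
    rw [pow_two] at hw
    refine Submodule.mul_induction_on hw ?_ ?_
    · intro a ha b hb
      have e1 : h (a * b) - π (a * b) =
          π a * (h b - π b) + (h a - π a) * (h b - π b) + π b * (h a - π a) := by
        rw [map_mul, map_mul]
        ring
      rw [← sub_eq_zero, e1, fact2 a ha _ (fact1 b), fact3 _ (fact1 a) _ (fact1 b), fact2 b hb _ (fact1 a)]
      simp
    · intro x y hx hy
      rw [map_add, map_add, hx, hy]
  have h0 : h y = 0 := by
    change g (φ y) = 0
    rw [show φ y = 0 from hy, map_zero]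
  have h1 : π y = 0 := by rw [← key y hy2, h0]
  exact Ideal.Quotient.eq_zero_iff_mem.mp h1

theorem mem_mul_of_lifting (φ : R →ₐ[k] A) (hφ : Function.Surjective φ)
    (hres : Function.Surjective (algebraMap k (ResidueField R)))
    (hI : RingHom.ker φ ≤ maximalIdeal R)
    (hlift : ∀ (B' : Type u) [CommRing B'] [IsLocalRing B'] [Algebra k B'] [Module.Finite k B'] (J : Ideal B'),
      J ^ 2 = ⊥ → ∀ f : A →ₐ[k] B' ⧸ J, ∃ g : A →ₐ[k] B', (Ideal.Quotient.mkₐ k J).comp g = f)
    {y : R} (hy : y ∈ RingHom.ker φ) (hy2 : y ∈ maximalIdeal R ^ 2) :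
    y ∈ maximalIdeal R * RingHom.ker φ := by
  have hall := fun n => mem_sup_pow_of_lifting k φ hφ hres hI hlift n hy hy2
  set 𝔪 := maximalIdeal R with h𝔪
  set N : Ideal R := 𝔪 * RingHom.ker φ with hN
  have hN𝔪 : N ≤ 𝔪 := Ideal.mul_le_left
  have hNtop : N ≠ ⊤ := fun h => (maximalIdeal.isMaximal R).ne_top (top_le_iff.mp (h ▸ hN𝔪))
  haveI : Nontrivial (R ⧸ N) := Ideal.Quotient.nontrivial_iff.mpr hNtop
  haveI : IsLocalRing (R ⧸ N) := IsLocalRing.of_surjective' (Ideal.Quotient.mk N) Ideal.Quotient.mk_surjective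
  have hne : 𝔪.map (Ideal.Quotient.mk N) ≠ ⊤ := by
    intro htop
    have h1 : (1 : R ⧸ N) ∈ 𝔪.map (Ideal.Quotient.mk N) := htop ▸ Submodule.mem_top
    obtain ⟨w, hw, hw1⟩ := (Ideal.mem_map_iff_of_surjective _ Ideal.Quotient.mk_surjective).mp h1
    have h2 : w - 1 ∈ N := by
      rw [← Ideal.Quotient.eq, hw1, map_one]
    have h3 : (1 : R) ∈ 𝔪 := by
      have : (1 : R) = w - (w - 1) := by ring
      rw [this]
      exact Ideal.sub_mem _ hw (hN𝔪 h2)
    exact (Ideal.ne_top_iff_one _).mp (maximalIdeal.isMaximal R).ne_top h3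
  have hkr := Ideal.iInf_pow_eq_bot_of_isLocalRing (𝔪.map (Ideal.Quotient.mk N)) hne
  have hmem : Ideal.Quotient.mk N y ∈ ⨅ i, (𝔪.map (Ideal.Quotient.mk N)) ^ i := by
    rw [Ideal.mem_iInf]
    intro i
    obtain ⟨a, ha, b, hb, hab⟩ := Submodule.mem_sup.mp (hall i)
    rw [← hab, map_add, Ideal.Quotient.eq_zero_iff_mem.mpr ha, zero_add, ← Ideal.map_pow]
    exact Ideal.mem_map_of_mem _ (Ideal.pow_le_pow_right (Nat.le_succ i) hb)
  rw [hkr] at hmem
  exact Ideal.Quotient.eq_zero_iff_mem.mp hmem

end Lift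

section Smooth

open TensorProduct KaehlerDifferential Groth.Agent.Lib.H56RegSmooth

/-- variant of helper56's `formallySmooth_of_isRegularLocalRing_of_surjective`: the regularity of the quotient is replaced by
the condition `I ∩ 𝔪² ⊆ 𝔪 I` which is all the proof uses. -/
theorem formallySmooth_of_mem_mul
    (k : Type u) [Field k] (P S : Type u) [CommRing P] [CommRing S] [Algebra k P] [Algebra k S]
    [Algebra P S] [IsScalarTower k P S] [IsLocalRing P] [IsNoetherianRing P] [IsLocalRing S]
    [Algebra.FormallySmooth k P] [Module.Free P Ω[P⁄k]] [Module.Finite P Ω[P⁄k]]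
    (h₁ : Function.Surjective (algebraMap P S))
    [Algebra.FormallySmooth k (ResidueField S)]
    (hmem : ∀ y ∈ RingHom.ker (algebraMap P S), y ∈ maximalIdeal P ^ 2 →
      y ∈ maximalIdeal P * RingHom.ker (algebraMap P S)) :
    Algebra.FormallySmooth k S := by
  have h₂ : (RingHom.ker (algebraMap P S)).FG := IsNoetherian.noetherian _
  have hPK : Function.Surjective (algebraMap P (ResidueField S)) := by
    rw [IsScalarTower.algebraMap_eq P S (ResidueField S)]
    exact residue_surjective.comp h₁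
  have h₂' : (RingHom.ker (algebraMap P (ResidueField S))).FG := IsNoetherian.noetherian _
  have h₃ : maximalIdeal S ≤ RingHom.ker (algebraMap S (ResidueField S)) := by
    intro x hx
    rw [RingHom.mem_ker]
    exact (residue_eq_zero_iff x).mpr hx
  have h₃' : maximalIdeal (ResidueField S) ≤
      RingHom.ker (algebraMap (ResidueField S) (ResidueField S)) := by
    rw [IsLocalRing.maximalIdeal_eq_bot]
    exact bot_le
  have : IsScalarTower k P (ResidueField S) := .to₁₂₄ k P S (ResidueField S)
  rw [Algebra.FormallySmooth.iff_injective_cotangentComplexBaseChange P (ResidueField S) h₁ h₂ h₃]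
  have hK := (Algebra.FormallySmooth.iff_injective_cotangentComplexBaseChange (R := k)
    (S := ResidueField S) P (ResidueField S) hPK h₂' h₃').mp inferInstance
  have hI : RingHom.ker (algebraMap P S) ≤ RingHom.ker (algebraMap P (ResidueField S)) := by
    intro x hx
    rw [RingHom.mem_ker] at hx ⊢
    rw [IsScalarTower.algebraMap_apply P S (ResidueField S), hx, map_zero]
  have hker : RingHom.ker (algebraMap P (ResidueField S)) = maximalIdeal P := by
    have hmax : (RingHom.ker (algebraMap P (ResidueField S))).IsMaximal :=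
      RingHom.ker_isMaximal_of_surjective _ hPK
    exact IsLocalRing.eq_maximalIdeal hmax
  have hinj := lTensor_inclusion_injective (ResidueField S) hPK _ hI (fun y hy hy2 => by
    rw [hker] at hy2 ⊢
    rw [← pow_two] at hy2
    exact hmem _ hy hy2)
  have hfac : ∀ z, KaehlerDifferential.cotangentComplexBaseChange k S P (ResidueField S) z =
      KaehlerDifferential.cotangentComplexBaseChange k (ResidueField S) P (ResidueField S)
        (LinearMap.lTensor (ResidueField S) (Submodule.inclusion hI) z) := by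
    intro z
    induction z with
    | zero => simp
    | add a b ha hb => rw [map_add, map_add, map_add, ha, hb]
    | tmul a b =>
      rw [LinearMap.lTensor_tmul, KaehlerDifferential.cotangentComplexBaseChange_tmul,
        KaehlerDifferential.cotangentComplexBaseChange_tmul]
      rfl
  intro a b hab
  rw [hfac, hfac] at hab
  exact hinj (hK hab)

end Smooth

section Main

open TensorProduct KaehlerDifferential

/-- **Artinian lifting ⇒ regular.** -/
theorem isRegularLocalRing_of_lifting (k : Type u) [Field k] (A : Type u) [CommRing A] [IsLocalRing A] [Algebra k A]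
    [Algebra.EssFiniteType k A] (hres : Function.Surjective (algebraMap k (ResidueField A)))
    (hlift : ∀ (B' : Type u) [CommRing B'] [IsLocalRing B'] [Algebra k B'] [Module.Finite k B'] (J : Ideal B'),
      J ^ 2 = ⊥ → ∀ f : A →ₐ[k] B' ⧸ J, ∃ g : A →ₐ[k] B', (Ideal.Quotient.mkₐ k J).comp g = f) :
    IsRegularLocalRing A := by
  let A₀ := Algebra.EssFiniteType.subalgebra k A
  let q : Ideal A₀ := (maximalIdeal A).comap (algebraMap A₀ A)
  haveI : q.IsPrime := Ideal.comap_isPrime _ _
  haveI hloc : IsLocalization.AtPrime A q :=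
    Groth.Agent.Lib.H56RegSmooth.isLocalization_atPrime_of_essFiniteType k A
  obtain ⟨n, f, hf⟩ := Algebra.FiniteType.iff_quotient_mvPolynomial''.mp
    (inferInstance : Algebra.FiniteType k A₀)
  let q' : Ideal (MvPolynomial (Fin n) k) := q.comap (f : MvPolynomial (Fin n) k →+* A₀)
  haveI : q'.IsPrime := Ideal.comap_isPrime _ _
  let ψ : MvPolynomial (Fin n) k →ₐ[k] A := (IsScalarTower.toAlgHom k A₀ A).comp f
  have hψ : ∀ y : q'.primeCompl, IsUnit (ψ y) := by
    intro y
    have h1 : algebraMap A₀ A (f y) ∉ maximalIdeal A := y.2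
    by_contra hnu
    exact h1 ((mem_maximalIdeal _).mpr hnu)
  let φ : Localization.AtPrime q' →ₐ[k] A := IsLocalization.liftAlgHom (M := q'.primeCompl) (f := ψ) hψ
  have hφalg : ∀ x, φ (algebraMap _ _ x) = ψ x := fun x => IsLocalization.lift_eq _ x
  have hφ : Function.Surjective φ := by
    intro a
    obtain ⟨a₀, s, rfl⟩ := IsLocalization.exists_mk'_eq q.primeCompl a
    obtain ⟨p, rfl⟩ := hf a₀
    obtain ⟨t, ht⟩ := hf (s : A₀)
    have htq : t ∈ q'.primeCompl := by
      change ¬ (f t ∈ q)
      rw [ht]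
      exact s.2
    refine ⟨IsLocalization.mk' _ p ⟨t, htq⟩, ?_⟩
    have h1 : φ (IsLocalization.mk' (Localization.AtPrime q') p ⟨t, htq⟩) * ψ t = ψ p := by
      rw [← hφalg t, ← map_mul]
      have := IsLocalization.mk'_spec (Localization.AtPrime q') p ⟨t, htq⟩
      rw [this, hφalg]
    have h2 : IsLocalization.mk' A (f p) s * ψ t = ψ p := by
      have h3 : ψ t = algebraMap A₀ A (s : A₀) := by
        change algebraMap A₀ A (f t) = _
        rw [ht]
      rw [h3, IsLocalization.mk'_spec]
      rfl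
    exact (hψ ⟨t, htq⟩).mul_left_injective (h1.trans h2.symm)
  have hkertop : RingHom.ker φ ≠ ⊤ := by
    intro h
    have h1 : (1 : Localization.AtPrime q') ∈ RingHom.ker φ := h ▸ Submodule.mem_top
    rw [RingHom.mem_ker, map_one] at h1
    exact one_ne_zero h1
  have hI : RingHom.ker φ ≤ maximalIdeal (Localization.AtPrime q') := IsLocalRing.le_maximalIdeal hkertop
  have hlocal : ∀ r, φ r ∈ maximalIdeal A → r ∈ maximalIdeal (Localization.AtPrime q') := by
    intro r hr
    by_contra hnot
    have hu : IsUnit r := by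
      by_contra hnu
      exact hnot ((mem_maximalIdeal _).mpr hnu)
    exact (mem_maximalIdeal _).mp hr (hu.map φ)
  have hresR : Function.Surjective (algebraMap k (ResidueField (Localization.AtPrime q'))) := by
    intro x
    obtain ⟨r, rfl⟩ := residue_surjective x
    obtain ⟨c, hc⟩ := hres (residue A (φ r))
    refine ⟨c, ?_⟩
    rw [IsScalarTower.algebraMap_apply k (Localization.AtPrime q') (ResidueField _), ResidueField.algebraMap_eq,
      ← sub_eq_zero, ← map_sub, residue_eq_zero_iff]
    apply hlocal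
    rw [map_sub, AlgHom.commutes, ← residue_eq_zero_iff, map_sub, ← hc,
      IsScalarTower.algebraMap_apply k A (ResidueField A), ResidueField.algebraMap_eq, sub_self]
  have hmem := fun y hy hy2 => mem_mul_of_lifting k φ hφ hresR hI hlift (y := y) hy hy2
  -- smoothness data of `R`
  haveI : Algebra.FormallyEtale (MvPolynomial (Fin n) k) (Localization.AtPrime q') :=
    .of_isLocalization q'.primeCompl
  haveI : Algebra.FormallySmooth k (Localization.AtPrime q') := .comp k (MvPolynomial (Fin n) k) _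
  haveI : Module.Free (Localization.AtPrime q') Ω[Localization.AtPrime q'⁄k] :=
    .of_equiv (KaehlerDifferential.tensorKaehlerEquivOfFormallyEtale k (MvPolynomial (Fin n) k) _)
  haveI : Module.Finite (Localization.AtPrime q') Ω[Localization.AtPrime q'⁄k] :=
    .of_surjective _
      (KaehlerDifferential.tensorKaehlerEquivOfFormallyEtale k (MvPolynomial (Fin n) k) _).surjective
  letI : Algebra (Localization.AtPrime q') A := φ.toRingHom.toAlgebra
  haveI : IsScalarTower k (Localization.AtPrime q') A :=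
    IsScalarTower.of_algebraMap_eq (fun c => (φ.commutes c).symm)
  let eK : k ≃ₐ[k] ResidueField A :=
    AlgEquiv.ofBijective (Algebra.ofId k _) ⟨(algebraMap k (ResidueField A)).injective, hres⟩
  haveI : Algebra.FormallySmooth k (ResidueField A) := .of_equiv eK
  have hFS : Algebra.FormallySmooth k A :=
    formallySmooth_of_mem_mul k (Localization.AtPrime q') A hφ hmem
  -- back to regularity
  let e : Localization.AtPrime q ≃ₐ[A₀] A := IsLocalization.algEquiv q.primeCompl _ _
  let ek : Localization.AtPrime q ≃ₐ[k] A := e.restrictScalars k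
  have hsm : Algebra.IsSmoothAt k q := .of_equiv ek.symm
  haveI : Algebra.FinitePresentation k A₀ := Algebra.FinitePresentation.of_finiteType.mp inferInstance
  have hreg := Groth.Agent.Lib.H56RegSmooth.isRegularLocalRing_of_isSmoothAt (K := k) (B := A₀) q hsm
  exact IsRegularLocalRing.of_ringEquiv ek.toRingEquiv

end Main

end Groth.Agent.Lib.ArtinLift
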