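import Mathlib.RingTheory.Etale.StandardEtale
import Mathlib.RingTheory.Etale.Field
import Mathlib.RingTheory.Etale.Pi
import Mathlib.RingTheory.IsAdjoinRoot
import Mathlib.RingTheory.TensorProduct.Pi
import Mathlib.FieldTheory.PrimitiveElement
import Mathlib.Algebra.Polynomial.Lifts
import Mathlib.RingTheory.Finiteness.FinitePresentationLocal
import Mathlib.RingTheory.Jacobson.Ideal
import Mathlib.RingTheory.Ideal.GoingUp
import Mathlib.RingTheory.Polynomial.Quotient

set_option autoImplicit false
universe u

namespace Groth.Agent.Lib.FiniteEtaleLift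

open IsLocalRing Polynomial TensorProduct

/-- A standard etale pair whose `g` is already a unit modulo `f` has ring `R[X]/(f)`. -/
noncomputable def equivAdjoinRootOfIsUnit {R : Type*} [CommRing R] (P : StandardEtalePair R)
    (h : IsUnit (AdjoinRoot.mk P.f P.g)) : P.Ring ≃ₐ[R] AdjoinRoot P.f :=
  P.equivAwayAdjoinRoot.trans
    ((IsLocalization.atUnits (AdjoinRoot P.f) (Submonoid.powers (AdjoinRoot.mk P.f P.g))
      (S := Localization.Away (AdjoinRoot.mk P.f P.g)) (by
        rintro _ ⟨n, rfl⟩
        exact h.pow n)).symm.restrictScalars R)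

/-- The trivial standard etale presentation of the ring of a standard etale pair. -/
noncomputable def selfPresentation {R : Type*} [CommRing R] (P : StandardEtalePair R) :
    StandardEtalePresentation R P.Ring :=
  ⟨P, P.X, P.hasMap_X, by simpa [StandardEtalePair.lift_X_left] using Function.bijective_id⟩

/-- The standard etale pair `(g, g')`. -/
noncomputable def pairOfMonic {R : Type*} [CommRing R] (g : R[X]) (hg : g.Monic) :
    StandardEtalePair R := ⟨g, hg, derivative g, ⟨1, 0, 1, by simp⟩⟩

lemma isUnit_mk_derivative_of_separable {K : Type*} [Field K] (g : K[X]) (hg : g.Separable) :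
    IsUnit (AdjoinRoot.mk g (derivative g)) := by
  obtain ⟨a, b, hab⟩ := hg
  have h1 := congr(AdjoinRoot.mk g $hab)
  rw [map_add, map_mul, map_mul, AdjoinRoot.mk_self, mul_zero, zero_add, map_one] at h1
  exact IsUnit.of_mul_eq_one _ (by rw [mul_comm]; exact h1)

lemma map_maximalIdeal_le_jacobson (R C : Type*) [CommRing R] [IsLocalRing R] [CommRing C]
    [Algebra R C] [Module.Finite R C] :
    Ideal.map (algebraMap R C) (maximalIdeal R) ≤ Ideal.jacobson ⊥ := by
  have hint : Algebra.IsIntegral R C := Algebra.IsIntegral.of_finite R C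
  rw [Ideal.jacobson]
  apply le_sInf
  rintro n ⟨-, hn⟩
  rw [Ideal.map_le_iff_le_comap]
  have hmax : (Ideal.comap (algebraMap R C) n).IsMaximal :=
    Ideal.isMaximal_comap_of_isIntegral_of_isMaximal n
  exact (IsLocalRing.eq_maximalIdeal hmax).ge

lemma isUnit_mk_derivative_of_separable_map {R : Type*} [CommRing R] [IsLocalRing R] (g : R[X])
    (hg : g.Monic) (hsep : (g.map (residue R)).Separable) :
    IsUnit (AdjoinRoot.mk g (derivative g)) := by
  have hfin : Module.Finite R (AdjoinRoot g) := hg.finite_adjoinRoot
  obtain ⟨a, b, hab⟩ := hsep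
  obtain ⟨a', rfl⟩ := Polynomial.map_surjective _ residue_surjective a
  obtain ⟨b', rfl⟩ := Polynomial.map_surjective _ residue_surjective b
  rw [Polynomial.derivative_map, ← Polynomial.map_mul, ← Polynomial.map_mul, ← Polynomial.map_add]
    at hab
  set h := a' * g + b' * derivative g - 1 with hh
  have hker : h ∈ Ideal.map (C : R →+* R[X]) (maximalIdeal R) := by
    rw [Ideal.mem_map_C_iff]
    intro n
    have h2 : (h.map (residue R)).coeff n = 0 := by
      rw [hh, Polynomial.map_sub, hab, Polynomial.map_one, sub_self, Polynomial.coeff_zero]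
    rw [Polynomial.coeff_map, residue_eq_zero_iff] at h2
    exact h2
  have hjac : AdjoinRoot.mk g h ∈ Ideal.jacobson (⊥ : Ideal (AdjoinRoot g)) := by
    apply map_maximalIdeal_le_jacobson R (AdjoinRoot g)
    have : Ideal.map (algebraMap R (AdjoinRoot g)) (maximalIdeal R) =
        Ideal.map (AdjoinRoot.mk g) (Ideal.map (C : R →+* R[X]) (maximalIdeal R)) := by
      rw [Ideal.map_map]
      rfl
    rw [this]
    exact Ideal.mem_map_of_mem _ hker
  have hu : IsUnit (AdjoinRoot.mk g h * 1 + 1) := Ideal.mem_jacobson_bot.mp hjac 1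
  have h3 : AdjoinRoot.mk g h * 1 + 1 = AdjoinRoot.mk g b' * AdjoinRoot.mk g (derivative g) := by
    rw [hh, mul_one, map_sub, map_add, map_mul, map_mul, AdjoinRoot.mk_self, mul_zero, zero_add,
      map_one, sub_add_cancel]
  rw [h3] at hu
  exact isUnit_of_mul_isUnit_right hu

/-- A finite separable field extension of the residue field of a local ring is the closed fibre of
a finite etale algebra. -/
theorem exists_lift_field {R : Type u} [CommRing R] [IsLocalRing R] (L : Type u) [Field L]
    [Algebra (ResidueField R) L] [FiniteDimensional (ResidueField R) L]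
    [Algebra.IsSeparable (ResidueField R) L] :
    ∃ (E : Type u) (_ : CommRing E) (_ : Algebra R E), Module.Finite R E ∧ Algebra.Etale R E ∧
      Nonempty ((ResidueField R) ⊗[R] E ≃ₐ[ResidueField R] L) := by
  let κ := ResidueField R
  obtain ⟨α, hα⟩ := Field.exists_primitive_element κ L
  have hint : IsIntegral κ α := Algebra.IsIntegral.isIntegral α
  have hadj : Algebra.adjoin κ {α} = ⊤ := by
    rw [← IntermediateField.adjoin_simple_toSubalgebra_of_isAlgebraic (IsAlgebraic.of_finite _ _),
      hα, IntermediateField.top_toSubalgebra]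
  have hsep : (minpoly κ α).Separable := Algebra.IsSeparable.isSeparable κ α
  obtain ⟨g, hgmap, -, hgm⟩ := Polynomial.lifts_and_natDegree_eq_and_monic
    ((Polynomial.mem_lifts _).mpr (Polynomial.map_surjective _ residue_surjective (minpoly κ α)))
    (minpoly.monic hint)
  let P := pairOfMonic g hgm
  have hunitR : IsUnit (AdjoinRoot.mk P.f P.g) :=
    isUnit_mk_derivative_of_separable_map g hgm (hgmap ▸ hsep)
  have hfinAR : Module.Finite R (AdjoinRoot P.f) := hgm.finite_adjoinRoot
  have hfin : Module.Finite R P.Ring :=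
    Module.Finite.equiv (equivAdjoinRootOfIsUnit P hunitR).symm.toLinearEquiv
  refine ⟨P.Ring, inferInstance, inferInstance, hfin, inferInstance, ⟨?_⟩⟩
  let P₀ := P.map (algebraMap R κ)
  have hf₀ : P₀.f = minpoly κ α := hgmap
  have hg₀ : P₀.g = derivative P₀.f := by
    change (derivative g).map _ = derivative (g.map _)
    rw [Polynomial.derivative_map]
  have hunitκ : IsUnit (AdjoinRoot.mk P₀.f P₀.g) := by
    rw [hg₀]
    exact isUnit_mk_derivative_of_separable _ (hf₀ ▸ hsep)
  let e1 : κ ⊗[R] P.Ring ≃ₐ[κ] P₀.Ring := ((selfPresentation P).baseChange (T := κ)).equivRing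
  let e2 : P₀.Ring ≃ₐ[κ] AdjoinRoot P₀.f := equivAdjoinRootOfIsUnit P₀ hunitκ
  have h' : IsAdjoinRoot L P₀.f := by
    rw [hf₀]
    exact IsAdjoinRoot.mkOfAdjoinEqTop hint hadj
  exact (e1.trans e2).trans h'.adjoinRootAlgEquiv

/-- Every finite etale algebra over the residue field of a local ring is the closed fibre of a
finite etale algebra over the ring. -/
theorem exists_finite_etale_lift (R : Type u) [CommRing R] [IsLocalRing R] (A : Type u)
    [CommRing A] [Algebra (ResidueField R) A] [Module.Finite (ResidueField R) A]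
    [Algebra.Etale (ResidueField R) A] :
    ∃ (S : Type u) (_ : CommRing S) (_ : Algebra R S), Module.Finite R S ∧ Algebra.Etale R S ∧
      Nonempty ((ResidueField R) ⊗[R] S ≃ₐ[ResidueField R] A) := by
  classical
  let κ := ResidueField R
  obtain ⟨I, hI, Ai, hF, hAlg, e, hsep⟩ :=
    (Algebra.FormallyEtale.iff_exists_algEquiv_prod κ A).mp inferInstance
  cases nonempty_fintype I
  have hfd : ∀ i, FiniteDimensional κ (Ai i) := by
    intro i
    let p : A →ₐ[κ] Ai i := (Pi.evalAlgHom κ Ai i).comp e.toAlgHom
    have hp : Function.Surjective p := by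
      intro z
      refine ⟨e.symm (Pi.single i z), ?_⟩
      change (e (e.symm (Pi.single i z))) i = z
      rw [AlgEquiv.apply_symm_apply, Pi.single_eq_same]
    exact Module.Finite.of_surjective p.toLinearMap hp
  choose E hCR hAlgE hfin het hiso using fun i => exists_lift_field (R := R) (Ai i)
  refine ⟨∀ i, E i, inferInstance, inferInstance, inferInstance, ?_, ⟨?_⟩⟩
  · exact { formallyEtale := (Algebra.FormallyEtale.pi_iff _).mpr (fun i => inferInstance)
            finitePresentation := inferInstance }
  · exact ((Algebra.TensorProduct.piRight R κ κ E).trans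
      (AlgEquiv.piCongrRight (fun i => (hiso i).some))).trans e.symm

end Groth.Agent.Lib.FiniteEtaleLift
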