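import Groth.Agent.Lib.MTBase55a

/-!
# Base change of groups of multiplicative type (helper55)

`isMultType_baseChange`: `IsMultType R A → IsMultType R' (R' ⊗[R] A)` for every `R`-algebra `R'`.
-/

set_option autoImplicit false
set_option linter.unusedSectionVars false
set_option linter.unusedVariables false

universe u

open TensorProduct

namespace Groth.Agent.Lib.MTBase55

open Groth.Agent.Lib.MultType58 Groth.Agent.Lib.GLLift55

section Abstract

variable {R : Type u} [CommRing R] {A : Type u} [CommRing A] [HopfAlgebra R A]

theorem isMultTypeConst_of_diagOver (R' : Type u) [CommRing R'] [Algebra R R']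
    (S' : Type u) [CommRing S'] [Algebra R' S']
    (T' : Type u) [CommRing T'] [Algebra S' T'] [Algebra R' T'] [Algebra R T']
    [IsScalarTower R' S' T'] [IsScalarTower R R' T'] [Module.FaithfullyFlat S' T']
    (h : SGA3b.IsDiag T' (T' ⊗[R] A)) :
    SGA3b.IsMultTypeConst S' (S' ⊗[R'] (R' ⊗[R] A)) := by
  refine ⟨T', inferInstance, inferInstance, inferInstance, ?_⟩
  rw [isDiag_cancel_iff R' S' T' (R' ⊗[R] A), isDiag_cancel_iff R R' T' A]
  exact h

end Abstract

section BaseChange

variable {R : Type u} [CommRing R] {A : Type u} [CommRing A] [HopfAlgebra R A]

theorem awayMap_comp_algebraMap (R' : Type u) [CommRing R'] [Algebra R R'] (f : R) (r : R) :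
    Localization.awayMap (algebraMap R R') f (algebraMap R (Localization.Away f) r) =
      algebraMap R' (Localization.Away (algebraMap R R' f)) (algebraMap R R' r) := by
  exact IsLocalization.map_eq _ _

theorem isMultType_baseChange (R' : Type u) [CommRing R'] [Algebra R R']
    (h : SGA3b.IsMultType R A) : SGA3b.IsMultType R' (R' ⊗[R] A) := by
  obtain ⟨s, hs, hf⟩ := h
  refine ⟨algebraMap R R' '' s, ?_, ?_⟩
  · rw [← Ideal.map_span, hs, Ideal.map_top]
  · rintro _ ⟨f, hfs, rfl⟩
    obtain ⟨T, _, _, hff, hd⟩ := hf f hfs
    letI algRT : Algebra R T :=
      ((algebraMap (Localization.Away f) T).comp (algebraMap R (Localization.Away f))).toAlgebra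
    haveI : IsScalarTower R (Localization.Away f) T := IsScalarTower.of_algebraMap_eq' rfl
    have hd' : SGA3b.IsDiag T (T ⊗[R] A) :=
      (isDiag_cancel_iff R (Localization.Away f) T A).1 hd
    letI algSS' : Algebra (Localization.Away f) (Localization.Away (algebraMap R R' f)) :=
      (Localization.awayMap (algebraMap R R') f).toAlgebra
    let ι : T →ₐ[R] (Localization.Away (algebraMap R R' f) ⊗[Localization.Away f] T) :=
      { (Algebra.TensorProduct.includeRight :
          T →ₐ[Localization.Away f] Localization.Away (algebraMap R R' f) ⊗[Localization.Away f] T).toRingHom with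
        commutes' := by
          intro r
          show (1 : Localization.Away (algebraMap R R' f)) ⊗ₜ[Localization.Away f]
            (algebraMap (Localization.Away f) T (algebraMap R (Localization.Away f) r)) =
            algebraMap R (Localization.Away (algebraMap R R' f) ⊗[Localization.Away f] T) r
          rw [Algebra.TensorProduct.algebraMap_apply]
          have e1 : algebraMap (Localization.Away f) T (algebraMap R (Localization.Away f) r) =
              (algebraMap R (Localization.Away f) r) • (1 : T) :=
            Algebra.algebraMap_eq_smul_one _
          have e2 : (algebraMap R (Localization.Away f) r) •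
              (1 : Localization.Away (algebraMap R R' f)) =
              algebraMap R (Localization.Away (algebraMap R R' f)) r := by
            rw [Algebra.smul_def, mul_one,
              IsScalarTower.algebraMap_apply R R' (Localization.Away (algebraMap R R' f))]
            exact awayMap_comp_algebraMap R' f r
          rw [e1, ← TensorProduct.smul_tmul, e2] }
    exact isMultTypeConst_of_diagOver R' (Localization.Away (algebraMap R R' f))
      (Localization.Away (algebraMap R R' f) ⊗[Localization.Away f] T) (isDiag_bcMap ι hd')

end BaseChange

end Groth.Agent.Lib.MTBase55
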