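import Groth.Agent.Lib.MultType58d

/-!
# Groups of multiplicative type over a field: closed subgroups
-/

set_option autoImplicit false
set_option linter.unusedSectionVars false
set_option linter.unusedVariables false

universe u

open TensorProduct

namespace Groth.Agent.Lib.MultType58

section GroupLikeSpan

variable (R : Type u) [CommRing R] (B : Type u) [CommRing B] [HopfAlgebra R B]

/-- `B` is spanned by its group-like elements. -/
def GLSpan : Prop := Submodule.span R {a : B | IsGroupLikeElem R a} = ⊤

variable {R B}

theorem GLSpan.of_surjective {B' : Type u} [CommRing B'] [HopfAlgebra R B'] (f : B →ₐc[R] B')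
    (hf : Function.Surjective f) (h : GLSpan R B) : GLSpan R B' := by
  unfold GLSpan at h ⊢
  rw [eq_top_iff]
  rintro y -
  obtain ⟨x, rfl⟩ := hf y
  have hx : x ∈ Submodule.span R {a : B | IsGroupLikeElem R a} := by rw [h]; trivial
  clear h
  induction hx using Submodule.span_induction with
  | mem a ha => exact Submodule.subset_span (IsGroupLikeElem.map f ha)
  | zero => rw [map_zero]; exact Submodule.zero_mem _
  | add a b _ _ ha hb => rw [map_add]; exact Submodule.add_mem _ ha hb
  | smul r a _ ha => rw [map_smul]; exact Submodule.smul_mem _ r ha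

theorem GLSpan.of_isDiag (h : SGA3b.IsDiag R B) : GLSpan R B := by
  obtain ⟨M, _, ⟨e⟩⟩ := h
  refine GLSpan.of_surjective (e.symm : MonoidAlgebra R M →ₐc[R] B) e.symm.surjective ?_
  exact MonoidAlgebra.span_isGroupLikeElem

theorem bijective_liftGroupLike {K : Type u} [Field K] {B : Type u} [CommRing B] [HopfAlgebra K B]
    (h : Submodule.span K {a : B | IsGroupLikeElem K a} = ⊤) : Function.Bijective
      (MonoidAlgebra.liftGroupLikeBialgHom : MonoidAlgebra K (GroupLike K B) →ₐc[K] B) := by
  have hli : LinearIndependent K (GroupLike.val (R := K) (A := B)) := linearIndep_groupLikeVal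
  have happ : ∀ x : MonoidAlgebra K (GroupLike K B),
      (MonoidAlgebra.liftGroupLikeBialgHom : MonoidAlgebra K (GroupLike K B) →ₐc[K] B) x =
        Finsupp.linearCombination K (GroupLike.val (R := K) (A := B)) x.coeff := by
    intro x
    rw [Finsupp.linearCombination_apply]
    show MonoidAlgebra.lift K B (GroupLike K B) _ x = _
    rw [MonoidAlgebra.lift_apply]
    rfl
  constructor
  · rw [injective_iff_map_eq_zero]
    intro x hx
    rw [happ] at hx
    have := (linearIndependent_iff.mp hli) x.coeff hx
    apply MonoidAlgebra.ext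
    rw [this]
    rfl
  · intro y
    have hy : y ∈ Submodule.span K {a : B | IsGroupLikeElem K a} := by rw [h]; trivial
    clear h
    induction hy using Submodule.span_induction with
    | mem a ha =>
      refine ⟨MonoidAlgebra.single ⟨a, ha⟩ 1, ?_⟩
      rw [happ, MonoidAlgebra.coeff_single, Finsupp.linearCombination_single, one_smul]
    | zero => exact ⟨0, map_zero _⟩
    | add a b _ _ ha hb =>
      obtain ⟨x, hx⟩ := ha
      obtain ⟨z, hz⟩ := hb
      exact ⟨x + z, by rw [map_add, hx, hz]⟩
    | smul r a _ ha =>
      obtain ⟨x, hx⟩ := ha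
      exact ⟨r • x, by rw [map_smul, hx]⟩

/-- Over a field, a commutative Hopf algebra spanned by group-likes is diagonalisable. -/
theorem isDiag_of_GLSpan {K : Type u} [Field K] {B : Type u} [CommRing B] [HopfAlgebra K B]
    (h : GLSpan K B) : SGA3b.IsDiag K B := by
  refine ⟨GroupLike K B, inferInstance, ⟨?_⟩⟩
  have hbij : Function.Bijective
      (MonoidAlgebra.liftGroupLikeBialgHom : MonoidAlgebra K (GroupLike K B) →ₐc[K] B) :=
    bijective_liftGroupLike h
  exact (BialgEquiv.ofBijective _ hbij).symm


/-- Base change of a group-like element. -/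
theorem isGroupLikeElem_one_tmul (K : Type u) [CommRing K] [Algebra R K] {g : B}
    (hg : IsGroupLikeElem R g) : IsGroupLikeElem K ((1 : K) ⊗ₜ[R] g) where
  counit_eq_one := by
    rw [counit_tmul', hg.counit_eq_one, map_one, mul_one]
  comul_eq_tmul_self := by
    let ℛ : Coalgebra.Repr R g Unit :=
      { index := {()}
        left := fun _ => g
        right := fun _ => g
        eq := by simp [hg.comul_eq_tmul_self] }
    have h := (reprBC K ℛ).eq
    rw [← h]
    simp [reprBC, ℛ]

theorem GLSpan.baseChange (K : Type u) [CommRing K] [Algebra R K] (h : GLSpan R B) :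
    GLSpan K (K ⊗[R] B) := by
  unfold GLSpan at h ⊢
  have key : ∀ b : B, ∀ c : K, c ⊗ₜ[R] b ∈
      Submodule.span K {a : K ⊗[R] B | IsGroupLikeElem K a} := by
    intro b
    have hb : b ∈ Submodule.span R {a : B | IsGroupLikeElem R a} := by rw [h]; trivial
    clear h
    induction hb using Submodule.span_induction with
    | mem a ha =>
      intro c
      have h3 : c ⊗ₜ[R] a = c • ((1 : K) ⊗ₜ[R] a) := by
        rw [TensorProduct.smul_tmul', smul_eq_mul, mul_one]
      rw [h3]
      exact Submodule.smul_mem _ _ (Submodule.subset_span (isGroupLikeElem_one_tmul K ha))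
    | zero => intro c; rw [TensorProduct.tmul_zero]; exact Submodule.zero_mem _
    | add a b _ _ ha hb => intro c; rw [TensorProduct.tmul_add]; exact Submodule.add_mem _ (ha c) (hb c)
    | smul r a _ ha =>
      intro c
      rw [← TensorProduct.smul_tmul]
      exact ha _
  rw [eq_top_iff]
  rintro x -
  induction x using TensorProduct.induction_on with
  | zero => exact Submodule.zero_mem _
  | add x y hx hy => exact Submodule.add_mem _ hx hy
  | tmul c b => exact key b c

end GroupLikeSpan

section Cancel

variable (R : Type u) [CommRing R] (S : Type u) [CommRing S] [Algebra R S]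
  (K : Type u) [CommRing K] [Algebra R K] [Algebra S K] [IsScalarTower R S K]
  (B : Type u) [CommRing B] [HopfAlgebra R B]

/-- Transitivity of base change, as a bialgebra map. -/
noncomputable def cancelBialgHom : K ⊗[S] (S ⊗[R] B) →ₐc[K] K ⊗[R] B :=
  BialgHom.ofAlgHom (Algebra.TensorProduct.cancelBaseChange R S K K B : K ⊗[S] (S ⊗[R] B) →ₐ[K] K ⊗[R] B)
    (by
      apply AlgHom.ext
      intro z
      induction z using TensorProduct.induction_on with
      | zero => simp
      | add x y hx hy => rw [map_add, map_add, hx, hy]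
      | tmul c x =>
        induction x using TensorProduct.induction_on with
        | zero => simp
        | add x y hx hy => rw [TensorProduct.tmul_add, map_add, map_add, hx, hy]
        | tmul s b =>
          show Coalgebra.counit (R := K)
            (Algebra.TensorProduct.cancelBaseChange R S K K B (c ⊗ₜ[S] (s ⊗ₜ[R] b))) =
            Coalgebra.counit (R := K) (c ⊗ₜ[S] (s ⊗ₜ[R] b))
          rw [Algebra.TensorProduct.cancelBaseChange_tmul, counit_tmul', counit_tmul', counit_tmul',
            map_mul, ← IsScalarTower.algebraMap_apply, Algebra.smul_def]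
          ring)
    (by
      apply AlgHom.ext
      intro z
      induction z using TensorProduct.induction_on with
      | zero => simp
      | add x y hx hy => rw [map_add, map_add, hx, hy]
      | tmul c x =>
        induction x using TensorProduct.induction_on with
        | zero => simp
        | add x y hx hy => rw [TensorProduct.tmul_add, map_add, map_add, hx, hy]
        | tmul s b =>
          have h3 : c ⊗ₜ[S] (s ⊗ₜ[R] b) = (s • c) • ((1 : K) ⊗ₜ[S] ((1 : S) ⊗ₜ[R] b)) := by
            rw [TensorProduct.smul_tmul', smul_eq_mul, mul_one]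
            have : s ⊗ₜ[R] b = s • ((1 : S) ⊗ₜ[R] b) := by
              rw [TensorProduct.smul_tmul', smul_eq_mul, mul_one]
            rw [this, TensorProduct.tmul_smul, TensorProduct.smul_tmul']
          rw [h3, map_smul, map_smul]
          congr 1
          show Algebra.TensorProduct.map _ _
              (Coalgebra.comul (R := K) ((1 : K) ⊗ₜ[S] ((1 : S) ⊗ₜ[R] b))) =
            Coalgebra.comul (R := K) (Algebra.TensorProduct.cancelBaseChange R S K K B
              ((1 : K) ⊗ₜ[S] ((1 : S) ⊗ₜ[R] b)))
          rw [Algebra.TensorProduct.cancelBaseChange_tmul, one_smul,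
            ← (reprBC K (reprBC S (Coalgebra.Repr.arbitrary R b))).eq,
            ← (reprBC K (Coalgebra.Repr.arbitrary R b)).eq, map_sum]
          refine Finset.sum_congr rfl fun i _ => ?_
          simp only [reprBC, Algebra.TensorProduct.map_tmul, AlgEquiv.coe_toAlgHom,
            Algebra.TensorProduct.cancelBaseChange_tmul, one_smul])

end Cancel

section Main5244

theorem ff_of_isField (R : Type u) [CommRing R] (h : IsField R) (M : Type u) [AddCommGroup M]
    [Module R M] [Nontrivial M] : Module.FaithfullyFlat R M := by
  let _ : Field R := h.toField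
  infer_instance

theorem isField_away {k : Type u} [Field k] {f : k} (hf : f ≠ 0) :
    IsField (Localization.Away f) := by
  have e : k ≃ₐ[k] Localization.Away f :=
    IsLocalization.atUnits k (Submonoid.powers f) (by
      rintro x ⟨n, rfl⟩
      exact (isUnit_iff_ne_zero.mpr hf).pow n)
  exact MulEquiv.isField (Field.toIsField k) e.symm.toMulEquiv

/-- Transitivity: group-like span passes from `S ⊗ B` to `K ⊗ B` for an `S`-algebra `K`. -/
theorem GLSpan.trans (R : Type u) [CommRing R] (S : Type u) [CommRing S] [Algebra R S]
    (K : Type u) [CommRing K] [Algebra R K] [Algebra S K] [IsScalarTower R S K]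
    (B : Type u) [CommRing B] [HopfAlgebra R B] (h : GLSpan S (S ⊗[R] B)) :
    GLSpan K (K ⊗[R] B) := by
  refine GLSpan.of_surjective (cancelBialgHom R S K B) ?_ (h.baseChange K)
  exact (Algebra.TensorProduct.cancelBaseChange R S K K B).surjective

theorem surjective_map_map {R : Type u} [CommRing R] (S : Type u) [CommRing S] [Algebra R S]
    (K : Type u) [CommRing K] [Algebra S K]
    {A A' : Type u} [CommRing A] [CommRing A'] [HopfAlgebra R A] [HopfAlgebra R A']
    (π : A →ₐc[R] A') (hπ : Function.Surjective π) :
    Function.Surjective (Bialgebra.TensorProduct.map (BialgHom.id K K)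
      (Bialgebra.TensorProduct.map (BialgHom.id S S) π) :
        K ⊗[S] (S ⊗[R] A) →ₐc[K] K ⊗[S] (S ⊗[R] A')) := by
  intro y
  induction y using TensorProduct.induction_on with
  | zero => exact ⟨0, map_zero _⟩
  | add x y hx hy =>
    obtain ⟨a, rfl⟩ := hx
    obtain ⟨b, rfl⟩ := hy
    exact ⟨a + b, map_add _ _ _⟩
  | tmul c x =>
    induction x using TensorProduct.induction_on with
    | zero => exact ⟨0, by simp⟩
    | add x y hx hy =>
      obtain ⟨a, ha⟩ := hx
      obtain ⟨b, hb⟩ := hy
      exact ⟨a + b, by rw [map_add, ha, hb, TensorProduct.tmul_add]⟩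
    | tmul s a' =>
      obtain ⟨a, rfl⟩ := hπ a'
      exact ⟨c ⊗ₜ[S] (s ⊗ₜ[R] a), rfl⟩

/-- S5244 in library form. -/
theorem quotient_isMultType_of_field (k : Type u) [Field k] (A : Type u) [CommRing A]
    [HopfAlgebra k A] (h : SGA3b.IsMultType k A) (J : Ideal A) [J.IsHopfIdeal k] :
    SGA3b.IsMultType k (A ⧸ J) := by
  obtain ⟨s, hs, hf⟩ := h
  have hex : ∃ f ∈ s, f ≠ 0 := by
    by_contra hcon
    push Not at hcon
    have h1 : Ideal.span s ≤ (⊥ : Ideal k) := by
      rw [Ideal.span_le]
      intro x hx
      rw [hcon x hx]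
      exact Ideal.zero_mem _
    rw [hs] at h1
    exact (bot_lt_top (α := Ideal k)).not_ge h1
  obtain ⟨f, hfs, hf0⟩ := hex
  refine ⟨{f}, ?_, ?_⟩
  · rw [Ideal.span_singleton_eq_top]
    exact isUnit_iff_ne_zero.mpr hf0
  · intro g hg
    rw [Set.mem_singleton_iff] at hg
    subst hg
    obtain ⟨R', _, _, hff, hd⟩ := hf g hfs
    have hF : IsField (Localization.Away g) := isField_away hf0
    have hnt0 : Nontrivial (Localization.Away g) := hF.nontrivial
    have hnt : Nontrivial R' :=
      (FaithfulSMul.algebraMap_injective (Localization.Away g) R').nontrivial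
    obtain ⟨𝔪, h𝔪⟩ := Ideal.exists_maximal R'
    let _ : Field (R' ⧸ 𝔪) := Ideal.Quotient.field 𝔪
    have hffK : Module.FaithfullyFlat (Localization.Away g) (R' ⧸ 𝔪) :=
      ff_of_isField _ hF _
    refine ⟨R' ⧸ 𝔪, inferInstance, inferInstance, hffK, ?_⟩
    apply isDiag_of_GLSpan
    have h1 : GLSpan (R' ⧸ 𝔪) ((R' ⧸ 𝔪) ⊗[Localization.Away g] (Localization.Away g ⊗[k] A)) :=
      GLSpan.trans (Localization.Away g) R' (R' ⧸ 𝔪) (Localization.Away g ⊗[k] A)
        (GLSpan.of_isDiag hd)
    exact GLSpan.of_surjective _
      (surjective_map_map (Localization.Away g) (R' ⧸ 𝔪) (Bialgebra.Quotient.mkBialgHom J)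
        Ideal.Quotient.mk_surjective) h1

end Main5244

end Groth.Agent.Lib.MultType58
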