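import Groth.Agent.Lib.Cartier38b
import Mathlib.RingTheory.Jacobson.Ring
import Mathlib.FieldTheory.IsAlgClosed.Basic
import Mathlib.FieldTheory.IsAlgClosed.AlgebraicClosure
import Mathlib.RingTheory.FiniteType
import Mathlib.RingTheory.HopfAlgebra.TensorProduct
import Mathlib.RingTheory.Flat.Basic
import Mathlib.RingTheory.HopfAlgebra.Quotient

set_option autoImplicit false
set_option linter.unusedSectionVars false
universe u v
open TensorProduct

namespace Groth.Agent.Lib.Cartier38
open Groth.Agent.Lib.Comod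

section Translate
variable {k : Type u} [Field k] {A : Type v} [CommRing A]

section Bi
variable [Bialgebra k A]

theorem contr_mul_of_mul {g : A →ₗ[k] k} (hg : ∀ a b, g (a * b) = g a * g b) (s t : A ⊗[k] A) :
    contr A g (s * t) = contr A g s * contr A g t := by
  induction s using TensorProduct.induction_on with
  | zero => simp
  | add a b ha hb => rw [add_mul, map_add, ha, hb, map_add, add_mul]
  | tmul a a' =>
    induction t using TensorProduct.induction_on with
    | zero => simp
    | add c e hc he => rw [mul_add, map_add, hc, he, map_add, mul_add]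
    | tmul b b' =>
      simp only [Algebra.TensorProduct.tmul_mul_tmul, contr_tmul, hg a' b', mul_smul,
        Algebra.smul_mul_assoc, Algebra.mul_smul_comm]
      rw [smul_comm]

theorem slice_mul_of_mul {g : A →ₗ[k] k} (hg : ∀ a b, g (a * b) = g a * g b) (a b : A) :
    slice g (a * b) = slice g a * slice g b := by
  simp only [slice, LinearMap.comp_apply, Bialgebra.comul_mul, contr_mul_of_mul hg]

/-- right translation by a point, as an algebra endomorphism -/
noncomputable def sliceAlgHom (g : A →ₐ[k] k) : A →ₐ[k] A :=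
  AlgHom.ofLinearMap (slice g.toLinearMap)
    (by
      rw [slice, LinearMap.comp_apply, Bialgebra.comul_one, Algebra.TensorProduct.one_def,
        contr_tmul]
      simp)
    (slice_mul_of_mul (fun a b => map_mul g a b))

theorem sliceAlgHom_apply (g : A →ₐ[k] k) (a : A) : sliceAlgHom g a = slice g.toLinearMap a := rfl

theorem counit_sliceAlgHom (g : A →ₐ[k] k) (a : A) :
    CoalgebraStruct.counit (R := k) (sliceAlgHom g a) = g a :=
  counit_slice g.toLinearMap a

end Bi

variable [HopfAlgebra k A]

theorem sliceAlgHom_comp_of_mul_eq_one (G H : WithConv (A →ₐ[k] k)) (h : G * H = 1) (a : A) :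
    sliceAlgHom G.ofConv (sliceAlgHom H.ofConv a) = a := by
  let φ : DualAlg k A := WithConv.toConv G.ofConv.toLinearMap
  let ψ : DualAlg k A := WithConv.toConv H.ofConv.toLinearMap
  have h1 : φ * ψ = 1 := by
    show WithConv.toConv G.ofConv.toLinearMap * WithConv.toConv H.ofConv.toLinearMap = 1
    rw [← AlgHom.toLinearMap_convMul, h, AlgHom.toLinearMap_convOne]
  have := act_mul (V := A) φ ψ a
  rw [h1, act_one] at this
  exact this.symm

/-- right translation by a point, as an algebra automorphism -/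
noncomputable def translate (g : A →ₐ[k] k) : A ≃ₐ[k] A :=
  AlgEquiv.ofAlgHom (sliceAlgHom g) (sliceAlgHom (WithConv.toConv g)⁻¹.ofConv)
    (by
      ext a
      exact sliceAlgHom_comp_of_mul_eq_one (WithConv.toConv g) (WithConv.toConv g)⁻¹
        (mul_inv_cancel _) a)
    (by
      ext a
      exact sliceAlgHom_comp_of_mul_eq_one (WithConv.toConv g)⁻¹ (WithConv.toConv g)
        (inv_mul_cancel _) a)

theorem counit_translate (g : A →ₐ[k] k) (a : A) :
    CoalgebraStruct.counit (R := k) (translate g a) = g a :=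
  counit_sliceAlgHom g a

end Translate

section Nullstellensatz

/-- Nullstellensatz: a proper ideal is contained in the kernel of a rational point. -/
theorem exists_algHom_ker_ge {k : Type*} [Field k] [IsAlgClosed k] {R : Type*} [CommRing R]
    [Algebra k R] [Algebra.FiniteType k R] (I : Ideal R) (hI : I ≠ ⊤) :
    ∃ z : R →ₐ[k] k, I ≤ RingHom.ker z := by
  obtain ⟨𝔪, h𝔪, hI𝔪⟩ := Ideal.exists_le_maximal I hI
  have := h𝔪
  let _ : Field (R ⧸ 𝔪) := Ideal.Quotient.field 𝔪
  have : Algebra.FiniteType k (R ⧸ 𝔪) :=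
    Algebra.FiniteType.of_surjective (Ideal.Quotient.mkₐ k 𝔪) (Ideal.Quotient.mkₐ_surjective k 𝔪)
  have : Module.Finite k (R ⧸ 𝔪) := finite_of_finite_type_of_isJacobsonRing k (R ⧸ 𝔪)
  have : Algebra.IsIntegral k (R ⧸ 𝔪) := Algebra.IsIntegral.of_finite k _
  have hbij := IsAlgClosed.algebraMap_bijective_of_isIntegral (k := k) (K := R ⧸ 𝔪)
  let e : k ≃ₐ[k] (R ⧸ 𝔪) := AlgEquiv.ofBijective (Algebra.ofId k _) hbij
  refine ⟨(e.symm : (R ⧸ 𝔪) →ₐ[k] k).comp (Ideal.Quotient.mkₐ k 𝔪), ?_⟩
  intro f hf
  rw [RingHom.mem_ker]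
  show e.symm (Ideal.Quotient.mk 𝔪 f) = 0
  rw [Ideal.Quotient.eq_zero_iff_mem.2 (hI𝔪 hf), map_zero]

end Nullstellensatz

section Cartier
variable {k : Type u} [Field k] [CharZero k] {A : Type v} [CommRing A] [HopfAlgebra k A]
  [Algebra.FiniteType k A]

/-- **Cartier's theorem**, algebraically closed case. -/
theorem isReduced_of_isAlgClosed [IsAlgClosed k] : IsReduced A := by
  have : IsNoetherianRing A := Algebra.FiniteType.isNoetherianRing k A
  obtain ⟨r, c, -⟩ := exists_coords (k := k) (A := A)
  refine ⟨fun y hy => ?_⟩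
  by_contra hy0
  let J : Ideal A := (Submodule.span A {y}).annihilator
  have hJ : ∀ s, s ∈ J ↔ s * y = 0 := fun s => by
    rw [Submodule.mem_annihilator_span_singleton, smul_eq_mul]
  have hJtop : J ≠ ⊤ := by
    intro h
    have h1 : (1 : A) ∈ J := h ▸ Submodule.mem_top
    rw [hJ, one_mul] at h1
    exact hy0 h1
  obtain ⟨g, hg⟩ := exists_algHom_ker_ge (k := k) J hJtop
  let τ := translate g
  have hy' : IsNilpotent (τ y) := hy.map τ
  obtain ⟨s, hs, hsy⟩ := c.exists_mul_eq_of_isNilpotent hy'
  have h1 : τ.symm (1 - s) * y = 0 := by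
    have : τ.symm ((1 - s) * τ y) = 0 := by
      rw [sub_mul, one_mul, hsy, sub_self, map_zero]
    rwa [map_mul, AlgEquiv.symm_apply_apply] at this
  have h2 : g (τ.symm (1 - s)) = 0 := hg ((hJ _).2 h1)
  rw [← counit_translate, ← show τ = translate g from rfl, AlgEquiv.apply_symm_apply, map_sub,
    Bialgebra.counit_one, mem_augI.1 hs, sub_zero] at h2
  exact one_ne_zero h2

/-- **Cartier's theorem**: a finitely generated commutative Hopf algebra over a field of
characteristic zero is reduced. -/
theorem isReduced_of_charZero (k : Type u) [Field k] [CharZero k] (A : Type v) [CommRing A]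
    [HopfAlgebra k A] [Algebra.FiniteType k A] : IsReduced A := by
  have : IsReduced ((AlgebraicClosure k) ⊗[k] A) :=
    isReduced_of_isAlgClosed (k := AlgebraicClosure k) (A := (AlgebraicClosure k) ⊗[k] A)
  have hinj : Function.Injective
      (Algebra.TensorProduct.includeRight : A →ₐ[k] (AlgebraicClosure k) ⊗[k] A) :=
    Algebra.TensorProduct.includeRight_injective (algebraMap k (AlgebraicClosure k)).injective
  exact isReduced_of_injective _ hinj

/-- Hopf ideals in characteristic zero are radical. -/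
theorem isRadical_of_isHopfIdeal (k : Type u) [Field k] [CharZero k] {A : Type v} [CommRing A]
    [HopfAlgebra k A] [Algebra.FiniteType k A] (I : Ideal A) [I.IsHopfIdeal k] : I.IsRadical := by
  have : IsReduced (A ⧸ I) := isReduced_of_charZero k (A ⧸ I)
  exact (Ideal.isRadical_iff_quotient_reduced I).2 this

end Cartier

/-- a radical ideal of a finite type algebra contains every ideal vanishing at all of its
geometric points -/
theorem le_of_forall_points {k : Type u} {A : Type v} [Field k] [CommRing A] [Algebra k A]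
    [Algebra.FiniteType k A] (I I' : Ideal A) (hI : I.IsRadical)
    (h : ∀ g : A →ₐ[k] AlgebraicClosure k, I ≤ RingHom.ker g → I' ≤ RingHom.ker g) : I' ≤ I := by
  have hJ : IsJacobsonRing A := isJacobsonRing_of_finiteType (A := k)
  rw [← hJ.out' I hI, Ideal.jacobson]
  refine le_sInf fun 𝔪 h𝔪 => ?_
  obtain ⟨hI𝔪, hmax⟩ := h𝔪
  have := hmax
  let _ : Field (A ⧸ 𝔪) := Ideal.Quotient.field 𝔪
  have : Algebra.FiniteType k (A ⧸ 𝔪) :=
    Algebra.FiniteType.of_surjective (Ideal.Quotient.mkₐ k 𝔪) (Ideal.Quotient.mkₐ_surjective k 𝔪)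
  have : Module.Finite k (A ⧸ 𝔪) := finite_of_finite_type_of_isJacobsonRing k (A ⧸ 𝔪)
  have : Algebra.IsAlgebraic k (A ⧸ 𝔪) := Algebra.IsAlgebraic.of_finite k _
  let f : (A ⧸ 𝔪) →ₐ[k] AlgebraicClosure k := IsAlgClosed.lift
  let g : A →ₐ[k] AlgebraicClosure k := f.comp (Ideal.Quotient.mkₐ k 𝔪)
  have hker : RingHom.ker g = 𝔪 := by
    ext a
    rw [RingHom.mem_ker]
    show f (Ideal.Quotient.mk 𝔪 a) = 0 ↔ _
    rw [map_eq_zero_iff f f.toRingHom.injective, Ideal.Quotient.eq_zero_iff_mem]
  have h1 := h g (by rw [hker]; exact hI𝔪)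
  rwa [hker] at h1

end Groth.Agent.Lib.Cartier38
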