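import Mathlib

/-!
# The shear automorphism attached to a point (helper55)

For a commutative Hopf algebra `A` over a commutative ring `k`, a commutative `k`-algebra `S` and a
point `u : A →ₐ[k] S` of `Spec A` with values in `S`, the `S`-algebra endomorphism
`Theta u : S ⊗ A → S ⊗ A`, `s ⊗ a ↦ Σ (s · u a₁) ⊗ a₂` (translation by `u`).  It is multiplicative in
`u` for the convolution product, hence an automorphism (`thetaEquiv`).  Mathlib only.
-/

set_option autoImplicit false
universe u v w

open TensorProduct WithConv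

namespace Groth.Agent.Lib.FinInv55

variable {k : Type u} [CommRing k] {A : Type v} [CommRing A] [HopfAlgebra k A]
  {S : Type w} [CommRing S] [Algebra k S]

/-- `g⁻¹ · g = 1` for points with values in any commutative algebra. -/
theorem antipode_conv_self (f : A →ₐ[k] S) :
    toConv (f.comp (HopfAlgebra.antipodeAlgHom k A)) * toConv f = 1 := by
  have h := AlgHom.comp_convMul_distrib f (toConv (HopfAlgebra.antipodeAlgHom k A))
    (toConv (AlgHom.id k A))
  rw [AlgHom.antipode_id_cancel] at h
  simp only [ofConv_toConv, AlgHom.comp_id] at h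
  apply WithConv.ofConv_injective
  rw [← h]
  ext x
  simp [AlgHom.convOne_def]

/-- `g · g⁻¹ = 1` for points with values in any commutative algebra. -/
theorem self_conv_antipode (f : A →ₐ[k] S) :
    toConv f * toConv (f.comp (HopfAlgebra.antipodeAlgHom k A)) = 1 := by
  have h := AlgHom.comp_convMul_distrib f (toConv (AlgHom.id k A))
    (toConv (HopfAlgebra.antipodeAlgHom k A))
  have h1 : toConv (AlgHom.id k A) * toConv (HopfAlgebra.antipodeAlgHom k A) = 1 :=
    mul_inv_cancel (toConv (AlgHom.id k A))
  rw [h1] at h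
  simp only [ofConv_toConv, AlgHom.comp_id] at h
  apply WithConv.ofConv_injective
  rw [← h]
  ext x
  simp [AlgHom.convOne_def]

variable (k A S) in
/-- `s ↦ s ⊗ 1` as a `k`-algebra map. -/
noncomputable def incL : S →ₐ[k] S ⊗[k] A :=
  (Algebra.TensorProduct.includeLeft : S →ₐ[S] S ⊗[k] A).restrictScalars k

variable (k A S) in
/-- `a ↦ 1 ⊗ a`. -/
noncomputable def incR : A →ₐ[k] S ⊗[k] A := Algebra.TensorProduct.includeRight

@[simp] theorem incL_apply (s : S) : incL k A S s = s ⊗ₜ[k] (1 : A) := rfl
@[simp] theorem incR_apply (a : A) : incR k A S a = (1 : S) ⊗ₜ[k] a := rfl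

/-- `a ↦ Σ u a₁ ⊗ a₂`. -/
noncomputable def shearHom (u : A →ₐ[k] S) : A →ₐ[k] S ⊗[k] A :=
  ofConv (toConv ((incL k A S).comp u) * toConv (incR k A S))

/-- Translation by the point `u`. -/
noncomputable def Theta (u : A →ₐ[k] S) : S ⊗[k] A →ₐ[S] S ⊗[k] A :=
  Algebra.TensorProduct.lift (Algebra.TensorProduct.includeLeft : S →ₐ[S] S ⊗[k] A) (shearHom u)
    (fun _ _ => Commute.all _ _)

theorem Theta_tmul (u : A →ₐ[k] S) (s : S) (a : A) :
    Theta u (s ⊗ₜ[k] a) = (s ⊗ₜ[k] (1 : A)) * shearHom u a := by
  simp [Theta]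

theorem Theta_comp_incL (u : A →ₐ[k] S) :
    ((Theta u).restrictScalars k).comp (incL k A S) = incL k A S := by
  ext s
  simp [Theta_tmul]

theorem Theta_comp_incR (u : A →ₐ[k] S) :
    ((Theta u).restrictScalars k).comp (incR k A S) = shearHom u := by
  ext a
  simp [Theta_tmul, ← Algebra.TensorProduct.one_def]

theorem Theta_comp (u u' : A →ₐ[k] S) :
    (Theta u).comp (Theta u') = Theta (ofConv (toConv u' * toConv u)) := by
  apply Algebra.TensorProduct.ext
  · ext
  · have h1 : (((Theta u).comp (Theta u')).restrictScalars k).comp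
        Algebra.TensorProduct.includeRight =
        ((Theta u).restrictScalars k).comp (shearHom u') := by
      rw [← Theta_comp_incR u']
      rfl
    have h2 : ((Theta (ofConv (toConv u' * toConv u))).restrictScalars k).comp
        Algebra.TensorProduct.includeRight = shearHom (ofConv (toConv u' * toConv u)) :=
      Theta_comp_incR _
    rw [h1, h2, shearHom, AlgHom.comp_convMul_distrib]
    simp only [ofConv_toConv, ← AlgHom.comp_assoc, Theta_comp_incL, Theta_comp_incR]
    rw [shearHom, shearHom, AlgHom.comp_convMul_distrib]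
    simp only [ofConv_toConv, toConv_ofConv, mul_assoc]

theorem Theta_one : Theta (ofConv (1 : WithConv (A →ₐ[k] S))) = AlgHom.id S (S ⊗[k] A) := by
  apply Algebra.TensorProduct.ext
  · ext
  · have h2 : ((Theta (ofConv (1 : WithConv (A →ₐ[k] S)))).restrictScalars k).comp
        Algebra.TensorProduct.includeRight = shearHom (ofConv (1 : WithConv (A →ₐ[k] S))) :=
      Theta_comp_incR _
    rw [h2]
    have h3 : (incL k A S).comp (ofConv (1 : WithConv (A →ₐ[k] S))) =
        ofConv (1 : WithConv (A →ₐ[k] S ⊗[k] A)) := by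
      ext a
      simp [AlgHom.convOne_def, Algebra.TensorProduct.algebraMap_apply]
    rw [shearHom, h3, toConv_ofConv, one_mul]
    rfl

/-- Translation by a point is an automorphism. -/
noncomputable def thetaEquiv (u : A →ₐ[k] S) : S ⊗[k] A ≃ₐ[S] S ⊗[k] A :=
  AlgEquiv.ofAlgHom (Theta u) (Theta (u.comp (HopfAlgebra.antipodeAlgHom k A)))
    (by rw [Theta_comp, antipode_conv_self, Theta_one])
    (by rw [Theta_comp, self_conv_antipode, Theta_one])

@[simp] theorem thetaEquiv_apply (u : A →ₐ[k] S) (x : S ⊗[k] A) : thetaEquiv u x = Theta u x := rfl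

end Groth.Agent.Lib.FinInv55
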