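import Groth.Agent.Lib.SqZero55c
import Groth.Agent.Lib.MTBase55b
import Groth.Agent.Lib.SepDiag41b
import Groth.Agent.Lib.FiniteEtaleLift
import Mathlib.RingTheory.Smooth.Flat

/-!
# Groups with multiplicative closed fibre over an Artinian local ring (helper55)

* `isMultType_of_isIsotrivial`: isotrivial ⟹ of multiplicative type.
* `isIsotrivial_of_isArtinian_of_fibre`: flat f.t. Hopf algebra over an Artinian local ring whose closed
  fibre is of multiplicative type is isotrivial.
-/

set_option autoImplicit false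
set_option linter.unusedSectionVars false
set_option linter.unusedVariables false

universe u

open TensorProduct

namespace Groth.Agent.Lib.ArtinMT55

open Groth.Agent.Lib.MultType58 Groth.Agent.Lib.GLLift55 Groth.Agent.Lib.MTBase55
open Groth.Agent.Lib.SqZero55

theorem isMultType_of_isIsotrivial {R : Type u} [CommRing R] {A : Type u} [CommRing A]
    [HopfAlgebra R A] (h : SGA3b.IsIsotrivial R A) : SGA3b.IsMultType R A := by
  obtain ⟨E, _, _, het, hfin, hff, hd⟩ := h
  refine ⟨{1}, ?_, ?_⟩
  · rw [Ideal.span_singleton_one]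
  · intro f hf
    rw [Set.mem_singleton_iff] at hf
    subst hf
    let ι : E →ₐ[R] (Localization.Away (1 : R) ⊗[R] E) := Algebra.TensorProduct.includeRight
    have h1 : SGA3b.IsDiag (Localization.Away (1 : R) ⊗[R] E)
        ((Localization.Away (1 : R) ⊗[R] E) ⊗[R] A) := isDiag_bcMap ι hd
    exact ⟨Localization.Away (1 : R) ⊗[R] E, inferInstance, inferInstance, inferInstance,
      (isDiag_cancel_iff R (Localization.Away (1 : R)) (Localization.Away (1 : R) ⊗[R] E) A).2 h1⟩

theorem isIsotrivial_of_isArtinian_of_fibre (A : Type u) [CommRing A] [IsArtinianRing A]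
    [IsLocalRing A] (C : Type u) [CommRing C] [HopfAlgebra A C] [Module.Flat A C]
    (hft : Algebra.FiniteType A C)
    (h0 : SGA3b.IsMultType (IsLocalRing.ResidueField A) (IsLocalRing.ResidueField A ⊗[A] C)) :
    SGA3b.IsIsotrivial A C := by
  haveI := hft
  have hft0 : Algebra.FiniteType (IsLocalRing.ResidueField A) (IsLocalRing.ResidueField A ⊗[A] C) :=
    inferInstance
  obtain ⟨k', _, _, hfin, hsep, M, _, -, ⟨θ⟩⟩ :=
    Groth.Agent.Lib.SepDiag41.isotrivial_of_field (IsLocalRing.ResidueField A)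
      (IsLocalRing.ResidueField A ⊗[A] C) hft0 h0
  have hD : SGA3b.IsDiag k' (k' ⊗[IsLocalRing.ResidueField A] (IsLocalRing.ResidueField A ⊗[A] C)) :=
    ⟨M, inferInstance, ⟨θ⟩⟩
  obtain ⟨E, _, _, hEfin, hEet, ⟨e⟩⟩ := Groth.Agent.Lib.FiniteEtaleLift.exists_lift_field (R := A) k'
  letI algAk' : Algebra A k' :=
    ((algebraMap (IsLocalRing.ResidueField A) k').comp
      (algebraMap A (IsLocalRing.ResidueField A))).toAlgebra
  haveI : IsScalarTower A (IsLocalRing.ResidueField A) k' := IsScalarTower.of_algebraMap_eq' rfl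
  let ιR : E →ₐ[A] IsLocalRing.ResidueField A ⊗[A] E := Algebra.TensorProduct.includeRight
  let ψ : E →ₐ[A] k' := ((e : _ →ₐ[IsLocalRing.ResidueField A] k').restrictScalars A).comp ιR
  have hψ : ∀ x, ψ x = e ((1 : IsLocalRing.ResidueField A) ⊗ₜ[A] x) := fun x => rfl
  letI algEk' : Algebra E k' := (ψ : E →+* k').toAlgebra
  haveI : IsScalarTower A E k' := IsScalarTower.of_algebraMap_eq' ψ.comp_algebraMap.symm
  have hsurj : Function.Surjective (algebraMap E k') := by
    intro z
    obtain ⟨x, hx⟩ := includeRight_surj E (IsLocalRing.maximalIdeal A) (e.symm z)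
    refine ⟨x, ?_⟩
    show ψ x = z
    rw [hψ]
    have hx' : (1 : IsLocalRing.ResidueField A) ⊗ₜ[A] x = e.symm z := hx
    rw [hx', e.apply_symm_apply]
  have hkle : RingHom.ker (algebraMap E k') ≤
      (IsLocalRing.maximalIdeal A).map (algebraMap A E) := by
    intro x hx
    rw [RingHom.mem_ker] at hx
    have hx1 : ψ x = 0 := hx
    rw [hψ] at hx1
    have hx2 : (1 : IsLocalRing.ResidueField A) ⊗ₜ[A] x = 0 :=
      e.injective (hx1.trans (map_zero e).symm)
    have h2 := mem_map_of_one_tmul_eq' (IsLocalRing.maximalIdeal A) (x := x) (y := 0)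
      (by rw [TensorProduct.tmul_zero]; exact hx2)
    rwa [sub_zero] at h2
  obtain ⟨n, hn⟩ : IsNilpotent (IsLocalRing.maximalIdeal A) := by
    have := IsArtinianRing.isNilpotent_jacobson_bot (R := A)
    rwa [IsLocalRing.jacobson_eq_maximalIdeal ⊥ bot_ne_top] at this
  have hkn : (RingHom.ker (algebraMap E k')) ^ n = ⊥ := by
    rw [← le_bot_iff]
    calc (RingHom.ker (algebraMap E k')) ^ n
        ≤ ((IsLocalRing.maximalIdeal A).map (algebraMap A E)) ^ n := Ideal.pow_right_mono hkle n
      _ = ⊥ := by rw [← Ideal.map_pow, hn, Ideal.zero_eq_bot, Ideal.map_bot]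
  have hD1 : SGA3b.IsDiag k' (k' ⊗[A] C) :=
    (isDiag_cancel_iff A (IsLocalRing.ResidueField A) k' C).1 hD
  have hD2 : SGA3b.IsDiag k' (k' ⊗[E] (E ⊗[A] C)) := (isDiag_cancel_iff A E k' C).2 hD1
  have hdiag : SGA3b.IsDiag E (E ⊗[A] C) :=
    isDiag_of_nilpotent_ker n E k' hsurj hkn (E ⊗[A] C) hD2
  haveI : Algebra.Etale A E := hEet
  haveI : Module.Flat A E := inferInstance
  have hff : Module.FaithfullyFlat A E := by
    refine { submodule_ne_top := ?_ }
    intro m hm htop
    have hmeq : m = IsLocalRing.maximalIdeal A := IsLocalRing.eq_maximalIdeal hm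
    subst hmeq
    have h1 : (1 : E) ∈ (IsLocalRing.maximalIdeal A) • (⊤ : Submodule A E) := by
      rw [htop]; exact Submodule.mem_top
    have h2 : (1 : IsLocalRing.ResidueField A) ⊗ₜ[A] (1 : E) = 0 :=
      one_tmul_eq_zero_of_mem_smul_top (IsLocalRing.maximalIdeal A) h1
    have h3 : ψ 1 = 0 := by rw [hψ, h2, map_zero]
    rw [map_one] at h3
    exact one_ne_zero h3
  exact ⟨E, inferInstance, inferInstance, hEet, hEfin, hff, hdiag⟩

end Groth.Agent.Lib.ArtinMT55
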