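import Groth.Agent.Lib.ArtinTransfer45

/-!
# Every scheme over a local artinian ring is universally open over it (helper45)

* `universallyOpen_of_comp_surjective` : if `p` is surjective and `p ≫ f` is universally open then
  `f` is universally open.
* `universallyOpen_of_artinian` : every morphism `X ⟶ Spec A`, `A` local artinian, is universally
  open.
-/

set_option autoImplicit false
set_option linter.unusedSectionVars false
universe u
open CategoryTheory CategoryTheory.Limits AlgebraicGeometry

namespace Groth.Agent.Lib.ArtinOpen45

theorem universallyOpen_of_comp_surjective {X' X Y : Scheme.{u}} (p : X' ⟶ X) (f : X ⟶ Y)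
    [Surjective p] [UniversallyOpen (p ≫ f)] : UniversallyOpen f := by
  refine ⟨fun Z W i₁ i₂ f' h => ?_⟩
  have hsq : IsPullback (pullback.snd i₁ p) (pullback.fst i₁ p ≫ f') (p ≫ f) i₂ :=
    (IsPullback.of_hasPullback i₁ p).flip.paste_vert h.flip
  have hop : UniversallyOpen (pullback.fst i₁ p ≫ f') :=
    MorphismProperty.of_isPullback hsq inferInstance
  have hs : Surjective (pullback.fst i₁ p) := inferInstance
  intro U hU
  have : f' '' U = (pullback.fst i₁ p ≫ f') '' ((pullback.fst i₁ p) ⁻¹' U) := by
    rw [Scheme.Hom.comp_base, TopCat.coe_comp, Set.image_comp,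
      Set.image_preimage_eq _ (pullback.fst i₁ p).surjective]
  rw [this]
  exact (pullback.fst i₁ p ≫ f').isOpenMap _ (hU.preimage (pullback.fst i₁ p).continuous)

open Groth.Agent.Lib.ArtinTransfer45 in
/-- Every morphism to the spectrum of a local artinian ring is universally open. -/
theorem universallyOpen_of_artinian {A : Type u} [CommRing A] [IsArtinianRing A] [IsLocalRing A]
    {X : Scheme.{u}} (f : X ⟶ Spec (CommRingCat.of A)) : UniversallyOpen f := by
  have h1 : UniversallyOpen (j A) :=
    Groth.Agent.Lib.GrpDenseArt45.universallyOpen_of_field_of_artinian _ _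
  have h2 : UniversallyOpen (pullback.snd f (j A)) := inferInstance
  have h3 : UniversallyOpen (pullback.fst f (j A) ≫ f) := by
    rw [pullback.condition]; infer_instance
  have h4 : Surjective (pullback.fst f (j A)) := inferInstance
  exact universallyOpen_of_comp_surjective (pullback.fst f (j A)) f

end Groth.Agent.Lib.ArtinOpen45
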