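import Mathlib.Algebra.Algebra.IsSimpleRing
import Mathlib.Algebra.Central.Defs
import Mathlib.Order.CompletePartialOrder
import Mathlib.RingTheory.Flat.FaithfullyFlat.Basic
import Mathlib.RingTheory.Flat.TorsionFree
import Mathlib.RingTheory.SimpleRing.Principal
import Mathlib.RingTheory.TwoSidedIdeal.Instances
import Mathlib.RingTheory.TwoSidedIdeal.Operations
import Mathlib.LinearAlgebra.TensorProduct.RightExactness
import Mathlib.LinearAlgebra.TensorProduct.Basis
import Mathlib.LinearAlgebra.FreeModule.Basic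

set_option autoImplicit false
universe u v w
open scoped TensorProduct

namespace Groth.Agent.Lib.CSA

section Core

variable {k : Type u} [Field k] {B : Type v} [Ring B] [Algebra k B]
  {K : Type w} [Ring K] [Algebra k K]

/-- coordinates with respect to a basis of the left factor -/
noncomputable def coords {ι : Type*} [DecidableEq ι] (b : Module.Basis ι k B) :
    B ⊗[k] K ≃ₗ[k] (ι →₀ K) :=
  TensorProduct.equivFinsuppOfBasisLeft b

lemma coords_mul_right {ι : Type*} [DecidableEq ι] (b : Module.Basis ι k B) (x : B ⊗[k] K) (c : K) (i : ι) :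
    coords b (x * (1 ⊗ₜ c)) i = coords b x i * c := by
  induction x using TensorProduct.induction_on with
  | zero => simp
  | tmul m n =>
    simp [coords, Algebra.TensorProduct.tmul_mul_tmul]
  | add x y hx hy => simp [add_mul, hx, hy]

lemma coords_mul_left {ι : Type*} [DecidableEq ι] (b : Module.Basis ι k B) (x : B ⊗[k] K) (c : K) (i : ι) :
    coords b ((1 ⊗ₜ c) * x) i = c * coords b x i := by
  induction x using TensorProduct.induction_on with
  | zero => simp
  | tmul m n =>
    simp [coords, Algebra.TensorProduct.tmul_mul_tmul]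
  | add x y hx hy => simp [mul_add, hx, hy]

theorem eq_zero_of_forall_tmul_one [Algebra.IsCentral k K] [IsSimpleRing K]
    (I : AddSubgroup (B ⊗[k] K))
    (hl : ∀ (c : K) (x : B ⊗[k] K), x ∈ I → (1 ⊗ₜ c) * x ∈ I)
    (hr : ∀ (c : K) (x : B ⊗[k] K), x ∈ I → x * (1 ⊗ₜ c) ∈ I)
    (h : ∀ a : B, a ⊗ₜ[k] (1 : K) ∈ I → a = 0) : ∀ x ∈ I, x = 0 := by
  classical
  let b := Module.Free.chooseBasis k B
  have key : ∀ n : ℕ, ∀ x ∈ I, (coords b x).support.card = n → x = 0 := by
    intro n
    induction n using Nat.strong_induction_on with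
    | _ n ih =>
      intro x hx hn
      by_contra hx0
      have hc0 : coords b x ≠ 0 := by simpa using hx0
      obtain ⟨i0, hi0⟩ := Finsupp.support_nonempty_iff.mpr hc0
      set S := (coords b x).support with hS
      let T : TwoSidedIdeal K := TwoSidedIdeal.mk'
        {c | ∃ y ∈ I, (coords b y).support ⊆ S ∧ coords b y i0 = c}
        ⟨0, I.zero_mem, by simp, by simp⟩
        (by
          rintro c d ⟨y, hy, hyS, rfl⟩ ⟨z, hz, hzS, rfl⟩
          refine ⟨y + z, I.add_mem hy hz, ?_, by simp⟩
          rw [map_add]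
          exact Finsupp.support_add.trans (Finset.union_subset hyS hzS))
        (by
          rintro c ⟨y, hy, hyS, rfl⟩
          refine ⟨-y, I.neg_mem hy, ?_, by simp⟩
          rw [map_neg, Finsupp.support_neg]
          exact hyS)
        (by
          rintro c d ⟨y, hy, hyS, rfl⟩
          refine ⟨(1 ⊗ₜ c) * y, hl _ _ hy, ?_, coords_mul_left b y c i0⟩
          intro i hi
          apply hyS
          rw [Finsupp.mem_support_iff] at hi ⊢
          intro h0
          apply hi
          rw [coords_mul_left, h0, mul_zero])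
        (by
          rintro c d ⟨y, hy, hyS, rfl⟩
          refine ⟨y * (1 ⊗ₜ d), hr _ _ hy, ?_, coords_mul_right b y d i0⟩
          intro i hi
          apply hyS
          rw [Finsupp.mem_support_iff] at hi ⊢
          intro h0
          apply hi
          rw [coords_mul_right, h0, zero_mul])
      have hT : T = ⊤ := by
        refine (eq_bot_or_eq_top T).resolve_left ?_
        intro hbot
        have : coords b x i0 ∈ T := by
          rw [TwoSidedIdeal.mem_mk']
          exact ⟨x, hx, le_refl _, rfl⟩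
        rw [hbot, TwoSidedIdeal.mem_bot] at this
        exact (Finsupp.mem_support_iff.mp hi0) this
      have h1T : (1 : K) ∈ T := by rw [hT]; trivial
      rw [TwoSidedIdeal.mem_mk'] at h1T
      obtain ⟨y, hyI, hyS, hy1⟩ := h1T
      have hcomm : ∀ (c : K) (i), c * coords b y i = coords b y i * c := by
        intro c i
        have hz : (1 ⊗ₜ c) * y - y * (1 ⊗ₜ c) ∈ I :=
          I.sub_mem (hl _ _ hyI) (hr _ _ hyI)
        have hzi : ∀ j, coords b ((1 ⊗ₜ c) * y - y * (1 ⊗ₜ c)) j
            = c * coords b y j - coords b y j * c := by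
          intro j
          rw [map_sub, Finsupp.sub_apply, coords_mul_left, coords_mul_right]
        have hsupp : (coords b ((1 ⊗ₜ c) * y - y * (1 ⊗ₜ c))).support ⊆ S.erase i0 := by
          intro j hj
          rw [Finsupp.mem_support_iff, hzi] at hj
          rw [Finset.mem_erase]
          refine ⟨?_, hyS ?_⟩
          · rintro rfl
            apply hj
            rw [hy1]; simp
          · rw [Finsupp.mem_support_iff]
            intro h0
            apply hj
            rw [h0]; simp
        have hlt : (coords b ((1 ⊗ₜ c) * y - y * (1 ⊗ₜ c))).support.card < n := by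
          calc _ ≤ (S.erase i0).card := Finset.card_le_card hsupp
            _ < S.card := Finset.card_erase_lt_of_mem hi0
            _ = n := hn
        have h0 := ih _ hlt _ hz rfl
        have := hzi i
        rw [h0, map_zero, Finsupp.zero_apply] at this
        exact (sub_eq_zero.mp this.symm)
      have hk : ∀ i, ∃ r : k, algebraMap k K r = coords b y i := by
        intro i
        have : coords b y i ∈ Subalgebra.center k K := by
          rw [Subalgebra.mem_center_iff]
          intro c
          exact hcomm c i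
        have := Algebra.IsCentral.out this
        exact Algebra.mem_bot.mp this
      choose r hr using hk
      have hy : y = (∑ i ∈ S, r i • b i) ⊗ₜ 1 := by
        apply (coords b).injective
        ext i
        rw [show coords b ((∑ i ∈ S, r i • b i) ⊗ₜ[k] (1 : K)) i
          = b.repr (∑ i ∈ S, r i • b i) i • (1 : K) from
            TensorProduct.equivFinsuppOfBasisLeft_apply_tmul_apply b _ _ i]
        rw [map_sum, Finsupp.finsetSum_apply]
        simp only [map_smul, Module.Basis.repr_self, Finsupp.smul_apply, Finsupp.single_apply,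
          smul_eq_mul, mul_ite, mul_one, mul_zero, Finset.sum_ite_eq']
        by_cases hiS : i ∈ S
        · rw [if_pos hiS, ← hr i, Algebra.algebraMap_eq_smul_one]
        · rw [if_neg hiS, zero_smul]
          exact Finsupp.notMem_support_iff.mp (fun h => hiS (hyS h))
      have hy0 := h _ (hy ▸ hyI)
      rw [hy0, TensorProduct.zero_tmul] at hy
      rw [hy, map_zero, Finsupp.zero_apply] at hy1
      exact zero_ne_one hy1
  exact fun x hx => key _ x hx rfl

theorem twoSidedIdeal_eq_span [Algebra.IsCentral k K] [IsSimpleRing K]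
    {A : Type v} [Ring A] [Algebra k A]
    (I : TwoSidedIdeal (A ⊗[k] K)) :
    I = TwoSidedIdeal.span ((fun a : A => a ⊗ₜ[k] (1 : K)) '' {a : A | a ⊗ₜ[k] (1 : K) ∈ I}) := by
  set I' := TwoSidedIdeal.span
    ((fun a : A => a ⊗ₜ[k] (1 : K)) '' {a : A | a ⊗ₜ[k] (1 : K) ∈ I}) with hI'
  have hI'I : I' ≤ I := TwoSidedIdeal.span_le.mpr (by rintro _ ⟨a, ha, rfl⟩; exact ha)
  refine le_antisymm ?_ hI'I
  let J : TwoSidedIdeal A := I.comap (Algebra.TensorProduct.includeLeft : A →ₐ[k] A ⊗[k] K)
  have hJ : ∀ a, a ∈ J ↔ a ⊗ₜ[k] (1 : K) ∈ I := fun a => TwoSidedIdeal.mem_comap ..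
  let Q := J.ringCon.Quotient
  let q : A →ₐ[k] Q := J.ringCon.mkₐ k
  have hq : ∀ a, q a = 0 ↔ a ∈ J := by
    intro a
    rw [TwoSidedIdeal.mem_iff]
    exact RingCon.eq J.ringCon
  have hqsurj : Function.Surjective q := J.ringCon.mk'_surjective
  let f : A ⊗[k] K →ₐ[k] Q ⊗[k] K := Algebra.TensorProduct.map q (AlgHom.id k K)
  let Jm : Submodule k A := J.asIdeal.restrictScalars k
  have hrange : ∀ z : Jm ⊗[k] K, LinearMap.rTensor K Jm.subtype z ∈ I' := by
    intro z
    induction z using TensorProduct.induction_on with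
    | zero => simp
    | tmul j c =>
      have : LinearMap.rTensor K Jm.subtype (j ⊗ₜ c) = ((j : A) ⊗ₜ[k] (1 : K)) * (1 ⊗ₜ c) := by
        simp [Algebra.TensorProduct.tmul_mul_tmul]
      rw [this]
      apply I'.mul_mem_right
      apply TwoSidedIdeal.subset_span
      exact ⟨j, (hJ j).mp j.2, rfl⟩
    | add z w hz hw =>
      rw [map_add]
      exact I'.add_mem hz hw
  have hker : ∀ x, f x = 0 → x ∈ I' := by
    intro x hx
    have hex : Function.Exact Jm.subtype q.toLinearMap := by
      intro a
      rw [AlgHom.toLinearMap_apply, hq, Submodule.coe_subtype, Subtype.range_coe_subtype]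
      rfl
    have hex2 := rTensor_exact K hex hqsurj
    have hx' : LinearMap.rTensor K q.toLinearMap x = 0 := hx
    obtain ⟨z, rfl⟩ := (hex2 x).mp hx'
    exact hrange z
  let N : AddSubgroup (Q ⊗[k] K) := (AddSubgroup.ofClass I).map (f : A ⊗[k] K →+ Q ⊗[k] K)
  have hN : ∀ y ∈ N, y = 0 := by
    apply eq_zero_of_forall_tmul_one N
    · rintro c _ ⟨x, hx, rfl⟩
      refine ⟨(1 ⊗ₜ c) * x, I.mul_mem_left _ _ hx, ?_⟩
      simp [f]
    · rintro c _ ⟨x, hx, rfl⟩
      refine ⟨x * (1 ⊗ₜ c), I.mul_mem_right _ _ hx, ?_⟩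
      simp [f]
    · rintro b ⟨y, hy, hyb⟩
      obtain ⟨a, rfl⟩ := hqsurj b
      have h1 : f (y - a ⊗ₜ 1) = 0 := by
        rw [map_sub]
        have : f (a ⊗ₜ[k] (1 : K)) = q a ⊗ₜ 1 := by simp [f]
        rw [this]
        exact sub_eq_zero.mpr hyb
      have h2 := hI'I (hker _ h1)
      have h3 : a ⊗ₜ[k] (1 : K) ∈ I := by
        have := I.sub_mem hy h2
        simpa using this
      exact (hq a).mpr ((hJ a).mpr h3)
  intro x hx
  exact hker x (hN (f x) ⟨x, hx, rfl⟩)

theorem nontrivial_tensor {A : Type v} [Ring A] [Algebra k A] [Nontrivial A] [Nontrivial K] :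
    Nontrivial (A ⊗[k] K) :=
  Algebra.TensorProduct.nontrivial_of_algebraMap_injective_of_flat_left k A K
    (FaithfulSMul.algebraMap_injective k K)

theorem isSimpleRing_tensor [Algebra.IsCentral k K] [IsSimpleRing K]
    {A : Type v} [Ring A] [Algebra k A] [IsSimpleRing A] : IsSimpleRing (A ⊗[k] K) := by
  have : Nontrivial (A ⊗[k] K) := nontrivial_tensor
  refine IsSimpleRing.of_eq_bot_or_eq_top fun I => ?_
  rw [twoSidedIdeal_eq_span I]
  let J : TwoSidedIdeal A := I.comap (Algebra.TensorProduct.includeLeft : A →ₐ[k] A ⊗[k] K)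
  have hJ : ∀ a, a ∈ J ↔ a ⊗ₜ[k] (1 : K) ∈ I := fun a => TwoSidedIdeal.mem_comap ..
  rcases eq_bot_or_eq_top J with hJ' | hJ'
  · left
    rw [eq_bot_iff, TwoSidedIdeal.span_le]
    rintro _ ⟨a, ha, rfl⟩
    have : a ∈ J := (hJ a).mpr ha
    rw [hJ', TwoSidedIdeal.mem_bot] at this
    subst this
    show (0 : A) ⊗ₜ[k] (1 : K) ∈ (⊥ : TwoSidedIdeal (A ⊗[k] K))
    rw [TensorProduct.zero_tmul]
    exact zero_mem _
  · right
    rw [eq_top_iff]
    intro x _
    have h1 : (1 : A) ∈ J := by rw [hJ']; trivial
    have : (1 : A ⊗[k] K) ∈ TwoSidedIdeal.span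
        ((fun a : A => a ⊗ₜ[k] (1 : K)) '' {a : A | a ⊗ₜ[k] (1 : K) ∈ I}) :=
      TwoSidedIdeal.subset_span ⟨1, (hJ 1).mp h1, rfl⟩
    simpa using TwoSidedIdeal.mul_mem_left _ x _ this

end Core

end Groth.Agent.Lib.CSA
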