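import Mathlib.Algebra.Azumaya.Defs
import Mathlib.Algebra.Central.Basic
import Mathlib.LinearAlgebra.Basis.MulOpposite
import Mathlib.RingTheory.SimpleModule.WedderburnArtin
import Mathlib.LinearAlgebra.Dimension.Constructions
import Mathlib.LinearAlgebra.FiniteDimensional.Basic
import Mathlib.RingTheory.Artinian.Module
import Groth.Agent.Lib.CSA

set_option autoImplicit false
universe u v w
open scoped TensorProduct

namespace Groth.Agent.Lib.CSA

section Rep

variable {k : Type u} [Field k] {R : Type v} [Ring R] [Algebra k R]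

/-- The space `V` regarded as a module over `R` through a representation. -/
@[nolint unusedArguments]
def RepModule {V : Type w} [AddCommGroup V] [Module k V] (_ρ : R →ₐ[k] Module.End k V) :
    Type w := V

namespace RepModule

variable {V : Type w} [AddCommGroup V] [Module k V] (ρ : R →ₐ[k] Module.End k V)

instance : AddCommGroup (RepModule ρ) := inferInstanceAs (AddCommGroup V)
instance : Module k (RepModule ρ) := inferInstanceAs (Module k V)
instance : Module R (RepModule ρ) := Module.compHom V ρ.toRingHom

lemma smul_def (r : R) (v : RepModule ρ) : r • v = ρ r (show V from v) := rfl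

instance : IsScalarTower k R (RepModule ρ) where
  smul_assoc c r v := by
    rw [smul_def, smul_def, map_smul]
    rfl

instance [FiniteDimensional k V] : FiniteDimensional k (RepModule ρ) :=
  inferInstanceAs (FiniteDimensional k V)

/-- the identity map from the module of a representation to the underlying space -/
def equiv : RepModule ρ ≃ₗ[k] V := LinearEquiv.refl k V

lemma equiv_smul (r : R) (v : RepModule ρ) : equiv ρ (r • v) = ρ r (equiv ρ v) := rfl

lemma equiv_symm_apply (r : R) (v : V) : (equiv ρ).symm (ρ r v) = r • (equiv ρ).symm v := rfl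

end RepModule

end Rep

section Modules

variable {k : Type u} [Field k] {R : Type v} [Ring R] [Algebra k R] [IsSimpleRing R]
  [FiniteDimensional k R]

theorem isIsotypicOfType_of_simple (S₀ : Ideal R) [IsSimpleModule R S₀] [IsArtinianRing R]
    (M : Type w) [AddCommGroup M] [Module R M] : IsIsotypicOfType R M S₀ := by
  intro m hm
  obtain ⟨I, ⟨e⟩⟩ := IsSemisimpleRing.exists_linearEquiv_ideal_of_isSimpleModule R m
  have : IsSimpleModule R I := IsSimpleModule.congr e.symm
  obtain ⟨e'⟩ := IsSimpleRing.isIsotypic R R S₀ I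
  exact ⟨e.trans e'⟩

theorem nonempty_linearEquiv_of_finrank_eq
    {M : Type w} {N : Type w} [AddCommGroup M] [Module k M] [Module R M] [IsScalarTower k R M]
    [AddCommGroup N] [Module k N] [Module R N] [IsScalarTower k R N]
    [FiniteDimensional k M] [FiniteDimensional k N]
    (h : Module.finrank k M = Module.finrank k N) :
    Nonempty (M ≃ₗ[R] N) := by
  have : IsArtinianRing R := IsArtinianRing.of_finite k R
  obtain ⟨S₀, hS₀⟩ := ((IsSimpleRing.tfae (R := R)).out 1 2).mp this
  have : IsSimpleModule R S₀ := isSimpleModule_iff_isAtom.mpr hS₀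
  have : Module.Finite R M := Module.Finite.of_restrictScalars_finite k R M
  have : Module.Finite R N := Module.Finite.of_restrictScalars_finite k R N
  obtain ⟨n, ⟨e⟩⟩ := (isIsotypicOfType_of_simple S₀ M).linearEquiv_fun
  obtain ⟨n', ⟨e'⟩⟩ := (isIsotypicOfType_of_simple S₀ N).linearEquiv_fun
  have h1 : Module.finrank k M = n * Module.finrank k S₀ := by
    rw [(e.restrictScalars k).finrank_eq, Module.finrank_pi_fintype]
    simp
  have h2 : Module.finrank k N = n' * Module.finrank k S₀ := by
    rw [(e'.restrictScalars k).finrank_eq, Module.finrank_pi_fintype]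
    simp
  have : Nontrivial S₀ := IsSimpleModule.nontrivial R S₀
  have hpos : 0 < Module.finrank k S₀ := Module.finrank_pos
  have hn : n = n' := by
    rw [h1, h2] at h
    exact Nat.eq_of_mul_eq_mul_right hpos h
  subst hn
  exact ⟨e.trans e'.symm⟩

theorem exists_intertwiner {V : Type w} [AddCommGroup V] [Module k V] [FiniteDimensional k V]
    (ρ₁ ρ₂ : R →ₐ[k] Module.End k V) :
    ∃ φ : V ≃ₗ[k] V, ∀ (r : R) (v : V), φ (ρ₁ r v) = ρ₂ r (φ v) := by
  have h : Module.finrank k (RepModule ρ₁) = Module.finrank k (RepModule ρ₂) := rfl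
  obtain ⟨e⟩ := nonempty_linearEquiv_of_finrank_eq (k := k) (R := R)
    (M := RepModule ρ₁) (N := RepModule ρ₂) h
  refine ⟨e.restrictScalars k, fun r v => ?_⟩
  exact e.map_smul r v

end Modules

section BimodRep

variable {k : Type u} [Field k] {A : Type v} [Ring A] [Algebra k A]
  {B : Type w} [Ring B] [Algebra k B]

theorem finiteDimensional_of_algHom [Nontrivial A] [FiniteDimensional k A] [IsSimpleRing B]
    (f : B →ₐ[k] A) : FiniteDimensional k B :=
  FiniteDimensional.of_injective f.toLinearMap (f : B →+* A).injective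

/-- the representation of `B ⊗ Aᵐᵒᵖ` on `A` attached to `f : B → A` -/
noncomputable def bimodRep (f : B →ₐ[k] A) : B ⊗[k] Aᵐᵒᵖ →ₐ[k] Module.End k A :=
  (AlgHom.mulLeftRight k A).comp (Algebra.TensorProduct.map f (AlgHom.id k Aᵐᵒᵖ))

lemma bimodRep_tmul (f : B →ₐ[k] A) (b : B) (a : Aᵐᵒᵖ) (x : A) :
    bimodRep f (b ⊗ₜ a) x = f b * x * a.unop := by
  simp [bimodRep]

end BimodRep

section SkolemNoether

variable {k : Type u} [Field k] {A : Type v} [Ring A] [Algebra k A]
  [Algebra.IsCentral k A] [IsSimpleRing A] [FiniteDimensional k A]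
  {B : Type w} [Ring B] [Algebra k B] [IsSimpleRing B]

theorem skolem_noether (f g : B →ₐ[k] A) :
    ∃ x : Aˣ, ∀ b : B, f b = (x : A) * g b * (x⁻¹ : Aˣ) := by
  have : FiniteDimensional k B := finiteDimensional_of_algHom f
  have : IsSimpleRing (B ⊗[k] Aᵐᵒᵖ) := isSimpleRing_tensor
  obtain ⟨φ, hφ⟩ := exists_intertwiner (bimodRep g) (bimodRep f)
  have h1 : ∀ b x a, φ (g b * x * a) = f b * φ x * a := by
    intro b x a
    have := hφ (b ⊗ₜ MulOpposite.op a) x
    simpa [bimodRep_tmul] using this
  have hφr : ∀ x, φ x = φ 1 * x := by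
    intro x
    have := h1 1 1 x
    simpa using this
  have hφs : ∀ x, φ.symm x = φ.symm 1 * x := by
    intro x
    apply φ.injective
    rw [φ.apply_symm_apply]
    have := h1 1 (φ.symm 1) x
    simp only [map_one, one_mul] at this
    rw [this, φ.apply_symm_apply, one_mul]
  have huv : φ 1 * φ.symm 1 = 1 := by
    rw [← hφr, φ.apply_symm_apply]
  have hvu : φ.symm 1 * φ 1 = 1 := by
    rw [← hφs, φ.symm_apply_apply]
  refine ⟨⟨φ 1, φ.symm 1, huv, hvu⟩, fun b => ?_⟩
  show f b = φ 1 * g b * φ.symm 1
  have h2 : φ (g b) = f b * φ 1 := by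
    have := h1 b 1 1
    simpa using this
  rw [← hφr, h2, mul_assoc, huv, mul_one]

end SkolemNoether

end Groth.Agent.Lib.CSA
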