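import Mathlib.Algebra.GroupWithZero.Submonoid.CancelMulZero
import Mathlib.LinearAlgebra.Matrix.FiniteDimensional
import Mathlib.LinearAlgebra.Matrix.ToLin
import Mathlib.Algebra.Algebra.Subalgebra.Centralizer
import Mathlib.LinearAlgebra.FiniteDimensional.Lemmas
import Mathlib.LinearAlgebra.Dimension.Free
import Mathlib.Algebra.Algebra.Subalgebra.Lattice
import Groth.Agent.Lib.CSAModules

set_option autoImplicit false
universe u v w
open scoped TensorProduct

namespace Groth.Agent.Lib.CSA

section EndSimple

variable {k : Type u} [Field k] {R : Type v} [Ring R] [Algebra k R] [IsSimpleRing R]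
  [FiniteDimensional k R]

theorem exists_simple_ideal (k : Type u) [Field k] (R : Type v) [Ring R] [Algebra k R]
    [IsSimpleRing R] [FiniteDimensional k R] :
    ∃ S₀ : Ideal R, IsSimpleModule R S₀ := by
  have : IsArtinianRing R := IsArtinianRing.of_finite k R
  obtain ⟨S₀, hS₀⟩ := ((IsSimpleRing.tfae (R := R)).out 1 2).mp this
  exact ⟨S₀, isSimpleModule_iff_isAtom.mpr hS₀⟩

theorem exists_linearEquiv_fun (S₀ : Ideal R) [IsSimpleModule R S₀]
    (M : Type w) [AddCommGroup M] [Module k M] [Module R M] [IsScalarTower k R M]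
    [FiniteDimensional k M] : ∃ r : ℕ, Nonempty (M ≃ₗ[R] Fin r → S₀) := by
  have : IsArtinianRing R := IsArtinianRing.of_finite k R
  have : Module.Finite R M := Module.Finite.of_restrictScalars_finite k R M
  exact (isIsotypicOfType_of_simple S₀ M).linearEquiv_fun

variable {M : Type w} [AddCommGroup M] [Module k M] [Module R M] [IsScalarTower k R M]
  [FiniteDimensional k M]

variable (k) in
include k in
theorem isSimpleRing_end [Nontrivial M] : IsSimpleRing (Module.End R M) := by
  classical
  obtain ⟨S₀, hS₀⟩ := exists_simple_ideal k R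
  obtain ⟨r, ⟨e⟩⟩ := exists_linearEquiv_fun (k := k) S₀ M
  have hr : Nonempty (Fin r) := by
    rcases Nat.eq_zero_or_pos r with rfl | h
    · exact (not_subsingleton M (e.toEquiv.subsingleton)).elim
    · exact ⟨⟨0, h⟩⟩
  have e2 : Module.End R M ≃+* Matrix (Fin r) (Fin r) (Module.End R S₀) :=
    e.conjRingEquiv.trans (endVecRingEquivMatrixEnd ..)
  exact IsSimpleRing.of_ringEquiv e2.symm inferInstance

omit [IsSimpleRing R] [FiniteDimensional k R] in
theorem finrank_end_fun (S₀ : Ideal R) (r : ℕ) :
    Module.finrank k (Module.End R (Fin r → S₀)) = r * r * Module.finrank k (Module.End R S₀) := by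
  rw [(endVecAlgEquivMatrixEnd (Fin r) k R S₀).toLinearEquiv.finrank_eq, Module.finrank_matrix]
  simp

theorem finrank_mul_finrank_end :
    Module.finrank k R * Module.finrank k (Module.End R M) = (Module.finrank k M) ^ 2 := by
  obtain ⟨S₀, hS₀⟩ := exists_simple_ideal k R
  obtain ⟨r, ⟨e⟩⟩ := exists_linearEquiv_fun (k := k) S₀ M
  obtain ⟨m, ⟨e'⟩⟩ := exists_linearEquiv_fun (k := k) S₀ R
  have h1 : Module.finrank k M = r * Module.finrank k S₀ := by
    rw [(e.restrictScalars k).finrank_eq, Module.finrank_pi_fintype]
    simp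
  have h2 : Module.finrank k R = m * Module.finrank k S₀ := by
    rw [(e'.restrictScalars k).finrank_eq, Module.finrank_pi_fintype]
    simp
  have h3 : Module.finrank k (Module.End R M) = r * r * Module.finrank k (Module.End R S₀) := by
    rw [(e.conjAlgEquiv k).toLinearEquiv.finrank_eq, finrank_end_fun]
  have h4 : Module.finrank k R = m * m * Module.finrank k (Module.End R S₀) := by
    rw [← finrank_end_fun, ← (e'.conjAlgEquiv k).toLinearEquiv.finrank_eq,
      ← (AlgEquiv.moduleEndSelf k (A := R)).toLinearEquiv.finrank_eq]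
    exact (MulOpposite.opLinearEquiv k : R ≃ₗ[k] Rᵐᵒᵖ).finrank_eq
  have hm : m ≠ 0 := by
    rintro rfl
    exact not_subsingleton R (e'.toEquiv.subsingleton)
  have h5 : Module.finrank k S₀ = m * Module.finrank k (Module.End R S₀) := by
    have := h2.symm.trans h4
    rw [mul_assoc] at this
    exact Nat.eq_of_mul_eq_mul_left (Nat.pos_of_ne_zero hm) this
  rw [h3, h1, h2, h5]
  ring

end EndSimple

section Centralizer

variable {k : Type u} [Field k] {A : Type v} [Ring A] [Algebra k A]
  (B : Subalgebra k A)

/-- the bimodule `A` over `B ⊗ Aᵐᵒᵖ` -/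
abbrev BiMod : Type v := RepModule (bimodRep B.val)

/-- the identity `BiMod B ≃ A` -/
noncomputable abbrev BiMod.toA : BiMod B ≃ₗ[k] A := RepModule.equiv (bimodRep B.val)

lemma biMod_smul_tmul (b : B) (a : Aᵐᵒᵖ) (x : BiMod B) :
    BiMod.toA B ((b ⊗ₜ[k] a : ↥B ⊗[k] Aᵐᵒᵖ) • x) = (b : A) * BiMod.toA B x * a.unop :=
  bimodRep_tmul B.val b a _

lemma bimodRep_comm (c : A) (hc : c ∈ Subalgebra.centralizer k (B : Set A))
    (r : ↥B ⊗[k] Aᵐᵒᵖ) (y : A) :
    c * bimodRep B.val r y = bimodRep B.val r (c * y) := by
  induction r using TensorProduct.induction_on with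
  | zero => simp
  | tmul b a =>
    rw [bimodRep_tmul, bimodRep_tmul]
    have hc' : (b : A) * c = c * (b : A) :=
      (Subalgebra.mem_centralizer_iff k).mp hc b b.2
    simp only [Subalgebra.coe_val]
    rw [← mul_assoc, ← mul_assoc, ← mul_assoc, hc']
  | add r s hr hs =>
    rw [map_add, LinearMap.add_apply, LinearMap.add_apply, mul_add, hr, hs]

/-- left multiplication by an element of the centralizer as a bimodule endomorphism -/
noncomputable def centralizerToEnd :
    Subalgebra.centralizer k (B : Set A) →ₐ[k] Module.End (↥B ⊗[k] Aᵐᵒᵖ) (BiMod B) where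
  toFun c :=
    { toFun := fun x => (BiMod.toA B).symm ((c : A) * BiMod.toA B x)
      map_add' := fun x y => by
        rw [map_add, mul_add, map_add]
      map_smul' := fun r x => by
        apply (BiMod.toA B).injective
        simp only [RingHom.id_apply, LinearEquiv.apply_symm_apply]
        rw [RepModule.equiv_smul, RepModule.equiv_smul, LinearEquiv.apply_symm_apply]
        exact bimodRep_comm B c c.2 r _ }
  map_one' := by
    ext x
    apply (BiMod.toA B).injective
    simp
  map_mul' c d := by
    ext x
    apply (BiMod.toA B).injective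
    simp [mul_assoc]
  map_zero' := by
    ext x
    apply (BiMod.toA B).injective
    simp
  map_add' c d := by
    ext x
    apply (BiMod.toA B).injective
    simp [add_mul]
  commutes' r := by
    ext x
    apply (BiMod.toA B).injective
    simp [Algebra.smul_def]

lemma centralizerToEnd_apply (c : Subalgebra.centralizer k (B : Set A)) (x : BiMod B) :
    BiMod.toA B (centralizerToEnd B c x) = (c : A) * BiMod.toA B x := rfl

lemma toA_smul_tmul (b : B) (a : Aᵐᵒᵖ) (x : BiMod B) :
    BiMod.toA B ((b ⊗ₜ[k] a : ↥B ⊗[k] Aᵐᵒᵖ) • x) = (b : A) * BiMod.toA B x * a.unop := by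
  rw [RepModule.equiv_smul, bimodRep_tmul]
  rfl

theorem centralizerToEnd_bijective : Function.Bijective (centralizerToEnd B) := by
  constructor
  · rw [injective_iff_map_eq_zero]
    intro c hc
    have := centralizerToEnd_apply B c ((BiMod.toA B).symm 1)
    rw [hc] at this
    simp only [LinearMap.zero_apply, map_zero, LinearEquiv.apply_symm_apply, mul_one] at this
    exact Subtype.ext this.symm
  · intro φ
    set c : A := BiMod.toA B (φ ((BiMod.toA B).symm 1)) with hc
    have key : ∀ (b : B) (a : A), BiMod.toA B (φ ((BiMod.toA B).symm ((b : A) * a)))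
        = (b : A) * c * a := by
      intro b a
      have h1 : (BiMod.toA B).symm ((b : A) * a)
          = (b ⊗ₜ[k] MulOpposite.op a : ↥B ⊗[k] Aᵐᵒᵖ) • (BiMod.toA B).symm 1 := by
        apply (BiMod.toA B).injective
        rw [toA_smul_tmul]
        simp
      rw [h1, map_smul, toA_smul_tmul]
      rfl
    have hcmem : c ∈ Subalgebra.centralizer k (B : Set A) := by
      rw [Subalgebra.mem_centralizer_iff]
      intro b hb
      have h1 := key ⟨b, hb⟩ 1
      have h2 := key 1 b
      simp only [mul_one, OneMemClass.coe_one, one_mul] at h1 h2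
      rw [← h1, ← h2]
    refine ⟨⟨c, hcmem⟩, ?_⟩
    ext x
    apply (BiMod.toA B).injective
    rw [centralizerToEnd_apply]
    have := key 1 (BiMod.toA B x)
    simp only [OneMemClass.coe_one, one_mul, LinearEquiv.symm_apply_apply] at this
    exact this.symm

/-- the centralizer of `B` in `A` is the endomorphism algebra of the bimodule `A` -/
noncomputable def centralizerEquivEnd :
    Subalgebra.centralizer k (B : Set A) ≃ₐ[k] Module.End (↥B ⊗[k] Aᵐᵒᵖ) (BiMod B) :=
  AlgEquiv.ofBijective (centralizerToEnd B) (centralizerToEnd_bijective B)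

end Centralizer

section DoubleCentralizer

variable {k : Type u} [Field k] {A : Type v} [Ring A] [Algebra k A]
  [Algebra.IsCentral k A] [IsSimpleRing A] [FiniteDimensional k A]
  (B : Subalgebra k A) [IsSimpleRing B]

theorem isSimpleRing_centralizer : IsSimpleRing (Subalgebra.centralizer k (B : Set A)) := by
  have : IsSimpleRing (↥B ⊗[k] Aᵐᵒᵖ) := isSimpleRing_tensor
  have : Nontrivial (BiMod B) := (BiMod.toA B).toEquiv.nontrivial
  have := isSimpleRing_end k (R := ↥B ⊗[k] Aᵐᵒᵖ) (M := BiMod B)
  exact IsSimpleRing.of_ringEquiv (centralizerEquivEnd B).symm.toRingEquiv this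

theorem finrank_centralizer :
    Module.finrank k A
      = Module.finrank k B * Module.finrank k (Subalgebra.centralizer k (B : Set A)) := by
  have : IsSimpleRing (↥B ⊗[k] Aᵐᵒᵖ) := isSimpleRing_tensor
  have h := finrank_mul_finrank_end (k := k) (R := ↥B ⊗[k] Aᵐᵒᵖ) (M := BiMod B)
  rw [← (centralizerEquivEnd B).toLinearEquiv.finrank_eq, (BiMod.toA B).finrank_eq,
    Module.finrank_tensorProduct,
    ← (MulOpposite.opLinearEquiv k : A ≃ₗ[k] Aᵐᵒᵖ).finrank_eq] at h
  have hA : 0 < Module.finrank k A := Module.finrank_pos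
  have : Module.finrank k A * (Module.finrank k B *
      Module.finrank k (Subalgebra.centralizer k (B : Set A))) =
      Module.finrank k A * Module.finrank k A := by
    rw [← sq, ← h]; ring
  exact (Nat.eq_of_mul_eq_mul_left hA this).symm

theorem centralizer_centralizer :
    Subalgebra.centralizer k (Subalgebra.centralizer k (B : Set A) : Set A) = B := by
  have hC : IsSimpleRing (Subalgebra.centralizer k (B : Set A)) := isSimpleRing_centralizer B
  have h1 := finrank_centralizer B
  have h2 := finrank_centralizer (Subalgebra.centralizer k (B : Set A))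
  have hle : B ≤ Subalgebra.centralizer k (Subalgebra.centralizer k (B : Set A) : Set A) := by
    intro b hb
    rw [Subalgebra.mem_centralizer_iff]
    intro c hc
    exact ((Subalgebra.mem_centralizer_iff k).mp hc b hb).symm
  have hC0 : 0 < Module.finrank k (Subalgebra.centralizer k (B : Set A)) := by
    have : Nontrivial (Subalgebra.centralizer k (B : Set A)) := inferInstance
    exact Module.finrank_pos
  have hdim : Module.finrank k B = Module.finrank k
      (Subalgebra.centralizer k (Subalgebra.centralizer k (B : Set A) : Set A)) := by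
    rw [h1, mul_comm] at h2
    exact Nat.eq_of_mul_eq_mul_left hC0 h2
  symm
  apply Subalgebra.toSubmodule_injective
  exact Submodule.eq_of_le_of_finrank_eq hle hdim

theorem tensor_centralizer_bijective [Algebra.IsCentral k B] :
    Function.Bijective (Algebra.TensorProduct.lift B.val
      (Subalgebra.centralizer k (B : Set A)).val (fun x y => y.2 x.1 x.2)) := by
  have hC : IsSimpleRing (Subalgebra.centralizer k (B : Set A)) := isSimpleRing_centralizer B
  have h1 : IsSimpleRing ((Subalgebra.centralizer k (B : Set A)) ⊗[k] B) := isSimpleRing_tensor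
  have h2 : IsSimpleRing (↥B ⊗[k] (Subalgebra.centralizer k (B : Set A))) :=
    IsSimpleRing.of_ringEquiv (Algebra.TensorProduct.comm k _ _).toRingEquiv h1
  set f := Algebra.TensorProduct.lift B.val
      (Subalgebra.centralizer k (B : Set A)).val (fun x y => y.2 x.1 x.2) with hf
  have hinj : Function.Injective f := fun a b hab => RingHom.injective f.toRingHom hab
  refine ⟨hinj, ?_⟩
  have hdim : Module.finrank k (↥B ⊗[k] (Subalgebra.centralizer k (B : Set A)))
      = Module.finrank k A := by
    rw [Module.finrank_tensorProduct, ← finrank_centralizer B]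
  exact (LinearMap.injective_iff_surjective_of_finrank_eq_finrank (f := f.toLinearMap) hdim).mp hinj

end DoubleCentralizer

section DivisionRing

variable {k : Type u} [Field k] {D : Type v} [DivisionRing D] [Algebra k D]
  [FiniteDimensional k D]

theorem exists_mul_eq_one_of_ne_zero (L : Subalgebra k D) (x : L) (hx : x ≠ 0) :
    ∃ y : L, x * y = 1 := by
  have hinj : Function.Injective (LinearMap.mulLeft k x) := by
    intro a b hab
    exact mul_left_cancel₀ hx hab
  exact LinearMap.surjective_of_injective hinj 1

theorem isSimpleRing_subalgebra (L : Subalgebra k D) : IsSimpleRing L := by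
  refine IsSimpleRing.of_eq_bot_or_eq_top fun I => ?_
  by_cases hI : I = ⊥
  · exact Or.inl hI
  · right
    obtain ⟨x, hxI, hx0⟩ : ∃ x ∈ I, x ≠ 0 := by
      by_contra! h
      exact hI (le_antisymm (fun x hx => by rw [h x hx]; exact zero_mem _) bot_le)
    obtain ⟨y, hy⟩ := exists_mul_eq_one_of_ne_zero L x hx0
    rw [← TwoSidedIdeal.one_mem_iff, ← hy]
    exact I.mul_mem_right _ _ hxI

omit [FiniteDimensional k D] in
theorem centralizer_eq_of_maximal_comm (L : Subalgebra k D)
    (hcomm : ∀ x ∈ L, ∀ y ∈ L, x * y = y * x)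
    (hmax : ∀ L' : Subalgebra k D, (∀ x ∈ L', ∀ y ∈ L', x * y = y * x) → L ≤ L' → L' = L) :
    Subalgebra.centralizer k (L : Set D) = L := by
  apply le_antisymm
  · intro x hx
    rw [Subalgebra.mem_centralizer_iff] at hx
    set s : Set D := (L : Set D) ∪ {x} with hs
    have hs_comm : ∀ a ∈ s, ∀ b ∈ s, a * b = b * a := by
      rintro a (ha | ha) b (hb | hb)
      · exact hcomm a ha b hb
      · rw [Set.mem_singleton_iff] at hb; subst hb; exact hx a ha
      · rw [Set.mem_singleton_iff] at ha; subst ha; exact (hx b hb).symm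
      · rw [Set.mem_singleton_iff] at ha hb; subst ha; subst hb; rfl
    have hle := Algebra.adjoin_le_centralizer_centralizer k s
    have h1 : ∀ a ∈ Algebra.adjoin k s, ∀ b ∈ Algebra.adjoin k s, a * b = b * a :=
      fun a ha b hb => Set.centralizer_centralizer_comm_of_comm hs_comm _ (hle ha) _ (hle hb)
    have h2 : L ≤ Algebra.adjoin k s := fun a ha => Algebra.subset_adjoin (Or.inl ha)
    have h3 := hmax _ h1 h2
    rw [← h3]
    exact Algebra.subset_adjoin (Or.inr rfl)
  · intro x hx
    rw [Subalgebra.mem_centralizer_iff]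
    intro y hy
    exact hcomm y hy x hx

theorem finrank_eq_sq_of_maximal_comm [Algebra.IsCentral k D] (L : Subalgebra k D)
    (hcomm : ∀ x ∈ L, ∀ y ∈ L, x * y = y * x)
    (hmax : ∀ L' : Subalgebra k D, (∀ x ∈ L', ∀ y ∈ L', x * y = y * x) → L ≤ L' → L' = L) :
    Module.finrank k D = Module.finrank k L ^ 2 := by
  have : IsSimpleRing L := isSimpleRing_subalgebra L
  have h := finrank_centralizer L
  rw [centralizer_eq_of_maximal_comm L hcomm hmax] at h
  rw [h, sq]

end DivisionRing

end Groth.Agent.Lib.CSA
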