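import Mathlib
import Groth.Agent.Lib.CSACentralizer

/-!
# Elements of central division algebras with a power in the centre

`pow_mem_range_of_pow_mem_range`: if `K` contains all roots of unity, `A` is a central division
algebra of dimension `n²` and `x ^ m ∈ K` for some `m ≥ 1`, then `x ^ n ∈ K`.
-/

set_option autoImplicit false

namespace Groth.Agent.Lib.KummerDiv

open Polynomial Groth.Agent.Lib.CSA

variable {K : Type*} [Field K] {A : Type*} [DivisionRing A] [Algebra K A]
  [FiniteDimensional K A]

/-- The degree of a commutative subalgebra of a central division algebra of dimension `n²`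
divides `n`. -/
theorem finrank_dvd_of_comm [Algebra.IsCentral K A] (n : ℕ) (hn : Module.finrank K A = n ^ 2)
    (L : Subalgebra K A) (hcomm : ∀ a ∈ L, ∀ b ∈ L, a * b = b * a) :
    Module.finrank K L ∣ n := by
  haveI : IsSimpleRing L := isSimpleRing_subalgebra L
  have h := finrank_centralizer L
  have hLC : L ≤ Subalgebra.centralizer K (L : Set A) := fun a ha => by
    rw [Subalgebra.mem_centralizer_iff]
    intro b hb
    exact hcomm b hb a ha
  letI : DivisionRing L := divisionRingOfFiniteDimensional K L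
  letI : Module L (Subalgebra.centralizer K (L : Set A)) :=
    Module.compHom _ (Subalgebra.inclusion hLC).toRingHom
  haveI : IsScalarTower K L (Subalgebra.centralizer K (L : Set A)) := by
    refine ⟨fun k l c => ?_⟩
    change (Subalgebra.inclusion hLC (k • l)) * c = k • ((Subalgebra.inclusion hLC l) * c)
    rw [map_smul, smul_mul_assoc]
  have htower := Module.finrank_mul_finrank K L (Subalgebra.centralizer K (L : Set A))
  rw [hn, ← htower, ← mul_assoc, ← sq] at h
  have hdvd : Module.finrank K L ^ 2 ∣ n ^ 2 := ⟨_, h⟩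
  exact (Nat.pow_dvd_pow_iff two_ne_zero).mp hdvd

/-- Kummer step: in a finite commutative domain extension `L` of `K` (`K` containing all roots
of unity), if `x ^ m ∈ K` with `m ≥ 1` then `x ^ [L : K] ∈ K`. -/
theorem pow_finrank_mem_range (hK : ∀ n : ℕ, 0 < n → (X ^ n - 1 : K[X]).Splits)
    {L : Type*} [CommRing L] [IsDomain L] [Algebra K L] [FiniteDimensional K L]
    (x : L) (m : ℕ) (hm : 0 < m) (a : K) (hx : x ^ m = algebraMap K L a) :
    ∃ b : K, x ^ Module.finrank K L = algebraMap K L b := by
  by_cases hx0 : x = 0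
  · refine ⟨0, ?_⟩
    rw [hx0, map_zero, zero_pow]
    exact (Module.finrank_pos (R := K) (M := L)).ne'
  set r := Module.finrank K L with hr
  set N : K := Algebra.norm K x with hN
  have ha0 : a ≠ 0 := by
    rintro rfl
    rw [map_zero] at hx
    exact hx0 (pow_eq_zero_iff hm.ne' |>.mp hx)
  have hNm : N ^ m = a ^ r := by
    rw [hN, ← map_pow, hx, Algebra.norm_algebraMap]
  have hN0 : N ≠ 0 := by
    intro h
    rw [h, zero_pow hm.ne'] at hNm
    exact pow_ne_zero r ha0 hNm.symm
  set z : L := x ^ r * algebraMap K L N⁻¹ with hz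
  have hzm : z ^ m = 1 := by
    rw [hz, mul_pow, ← pow_mul, mul_comm r m, pow_mul, hx, ← map_pow, ← map_pow, ← map_mul,
      inv_pow, hNm, mul_inv_cancel₀ (pow_ne_zero r ha0), map_one]
  -- z is a root of X^m - 1, which splits over K
  have hsplit := hK m hm
  have hmonic : (X ^ m - 1 : K[X]).Monic := by
    have : (X ^ m - 1 : K[X]) = X ^ m - C 1 := by rw [map_one]
    rw [this]; exact monic_X_pow_sub_C 1 hm.ne'
  have hprod := hsplit.eq_prod_roots_of_monic hmonic
  have heval : aeval z (X ^ m - 1 : K[X]) = 0 := by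
    simp [hzm]
  rw [hprod, aeval_def, eval₂_multiset_prod, Multiset.prod_eq_zero_iff] at heval
  simp only [Multiset.map_map, Multiset.mem_map, Function.comp_apply, eval₂_sub, eval₂_X,
    eval₂_C] at heval
  obtain ⟨ζ, -, hζ⟩ := heval
  rw [sub_eq_zero] at hζ
  refine ⟨ζ * N, ?_⟩
  rw [map_mul, ← hζ, hz, mul_assoc, ← map_mul, inv_mul_cancel₀ hN0, map_one, mul_one]

/-- If `K` contains all roots of unity, `A` is a central division algebra of dimension `n²` and
`x ^ m ∈ K` for some `m ≥ 1`, then `x ^ n ∈ K`. -/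
theorem pow_mem_range_of_pow_mem_range [Algebra.IsCentral K A]
    (hK : ∀ n : ℕ, 0 < n → (X ^ n - 1 : K[X]).Splits)
    (n : ℕ) (hn : Module.finrank K A = n ^ 2)
    (x : A) (hxm : ∃ m : ℕ, 0 < m ∧ x ^ m ∈ (algebraMap K A).range) :
    x ^ n ∈ (algebraMap K A).range := by
  obtain ⟨m, hm, a, ha⟩ := hxm
  set L : Subalgebra K A := Algebra.adjoin K {x} with hL
  have hcomm : ∀ a ∈ L, ∀ b ∈ L, a * b = b * a := by
    intro a ha b hb
    have h1 : ∀ a ∈ ({x} : Set A), ∀ b ∈ ({x} : Set A), a * b = b * a := by
      intro a ha b hb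
      rw [Set.mem_singleton_iff] at ha hb
      rw [ha, hb]
    letI := Algebra.adjoinCommRingOfComm K h1
    have := mul_comm (⟨a, ha⟩ : Algebra.adjoin K {x}) ⟨b, hb⟩
    exact congrArg Subtype.val this
  have hdvd := finrank_dvd_of_comm n hn L hcomm
  letI : CommRing L :=
    { (inferInstance : Ring L) with
      mul_comm := fun a b => Subtype.ext (hcomm a a.2 b b.2) }
  have hxL : x ∈ L := Algebra.subset_adjoin (Set.mem_singleton x)
  have hx' : (⟨x, hxL⟩ : L) ^ m = algebraMap K L a := by
    apply Subtype.ext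
    simp only [SubmonoidClass.mk_pow]
    rw [← ha]
    rfl
  obtain ⟨b, hb⟩ := pow_finrank_mem_range hK (⟨x, hxL⟩ : L) m hm a hx'
  obtain ⟨c, hc⟩ := hdvd
  refine ⟨b ^ c, ?_⟩
  have hb' : x ^ Module.finrank K L = algebraMap K A b := by
    have := congrArg Subtype.val hb
    simpa using this
  rw [map_pow, ← hb', ← pow_mul, ← hc]

end Groth.Agent.Lib.KummerDiv
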