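import Mathlib
import Groth.Agent.Lib.KummerDiv

/-!
# Artin–Schreier subfields of degree-`p` division algebras in characteristic `p`

If `v, u` in a central division algebra `A` of dimension `p²` over a field `K` of characteristic
`p` satisfy `v * u - u * v = 1`, then `K(u * v)` is a Galois extension of degree `p` of `K`
inside `A` (conjugation by `v` acts on it by `t ↦ t + 1`).
-/

set_option autoImplicit false

namespace Groth.Agent.Lib.ArtinSchreierDiv

open Polynomial Groth.Agent.Lib.KummerDiv

universe u v

variable {K : Type u} [Field K] {A : Type v} [DivisionRing A] [Algebra K A]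

/-- conjugation by a nonzero element as an algebra automorphism -/
noncomputable def conj (v : A) (hv : v ≠ 0) : A ≃ₐ[K] A :=
  AlgEquiv.ofAlgHom
    { toFun := fun y => v * y * v⁻¹
      map_one' := by simp [hv]
      map_mul' := fun x y => by
        have : v⁻¹ * v = 1 := inv_mul_cancel₀ hv
        calc v * (x * y) * v⁻¹ = v * x * (1 * y) * v⁻¹ := by rw [one_mul]; noncomm_ring
          _ = v * x * (v⁻¹ * v * y) * v⁻¹ := by rw [this]
          _ = v * x * v⁻¹ * (v * y * v⁻¹) := by noncomm_ring
      map_zero' := by simp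
      map_add' := fun x y => by noncomm_ring
      commutes' := fun r => by
        rw [← Algebra.commutes, mul_assoc, mul_inv_cancel₀ hv, mul_one] }
    { toFun := fun y => v⁻¹ * y * v
      map_one' := by simp [hv]
      map_mul' := fun x y => by
        have : v * v⁻¹ = 1 := mul_inv_cancel₀ hv
        calc v⁻¹ * (x * y) * v = v⁻¹ * x * (1 * y) * v := by rw [one_mul]; noncomm_ring
          _ = v⁻¹ * x * (v * v⁻¹ * y) * v := by rw [this]
          _ = v⁻¹ * x * v * (v⁻¹ * y * v) := by noncomm_ring
      map_zero' := by simp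
      map_add' := fun x y => by noncomm_ring
      commutes' := fun r => by
        rw [← Algebra.commutes, mul_assoc, inv_mul_cancel₀ hv, mul_one] }
    (by
      ext y
      have h1 : v * v⁻¹ = 1 := mul_inv_cancel₀ hv
      change v * (v⁻¹ * y * v) * v⁻¹ = y
      calc v * (v⁻¹ * y * v) * v⁻¹ = (v * v⁻¹) * y * (v * v⁻¹) := by noncomm_ring
        _ = y := by rw [h1, one_mul, mul_one])
    (by
      ext y
      have h1 : v⁻¹ * v = 1 := inv_mul_cancel₀ hv
      change v⁻¹ * (v * y * v⁻¹) * v = y
      calc v⁻¹ * (v * y * v⁻¹) * v = (v⁻¹ * v) * y * (v⁻¹ * v) := by noncomm_ring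
        _ = y := by rw [h1, one_mul, mul_one])

theorem conj_apply (v : A) (hv : v ≠ 0) (y : A) : conj (K := K) v hv y = v * y * v⁻¹ := rfl


variable [Algebra.IsCentral K A] [FiniteDimensional K A]

/-- **(2) ⇒ (3)**: if `v * u - u * v = 1` in a central division algebra of dimension `p²` in
characteristic `p`, then `K(u * v)` is a Galois extension of degree `p` inside `A`. -/
theorem exists_galois_subfield (p : ℕ) [Fact p.Prime] [CharP K p]
    (hA : Module.finrank K A = p ^ 2) (v u : A) (hvu : v * u - u * v = 1) :
    ∃ (L : Type v) (_ : Field L) (_ : Algebra K L), IsGalois K L ∧ Module.finrank K L = p ∧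
      Nonempty (L →ₐ[K] A) := by
  classical
  have hp : p.Prime := Fact.out
  have hv0 : v ≠ 0 := by
    rintro rfl
    simp at hvu
  set t : A := u * v with ht
  have hvt : v * t * v⁻¹ = t + 1 := by
    have h1 : v * u = u * v + 1 := by rw [← hvu]; abel
    calc v * t * v⁻¹ = (v * u) * (v * v⁻¹) := by rw [ht]; noncomm_ring
      _ = (u * v + 1) * (v * v⁻¹) := by rw [h1]
      _ = t + 1 := by rw [mul_inv_cancel₀ hv0, mul_one]
  set B : Subalgebra K A := Algebra.adjoin K {t} with hB
  have htB : t ∈ B := Algebra.subset_adjoin (Set.mem_singleton t)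
  have hcomm : ∀ a ∈ B, ∀ b ∈ B, a * b = b * a := by
    intro a ha b hb
    have h1 : ∀ a ∈ ({t} : Set A), ∀ b ∈ ({t} : Set A), a * b = b * a := by
      intro a ha b hb
      rw [Set.mem_singleton_iff] at ha hb
      rw [ha, hb]
    letI := Algebra.adjoinCommRingOfComm K h1
    have := mul_comm (⟨a, ha⟩ : Algebra.adjoin K {t}) ⟨b, hb⟩
    exact congrArg Subtype.val this
  have hconjB : ∀ y ∈ B, conj (K := K) v hv0 y ∈ B := by
    intro y hy
    induction hy using Algebra.adjoin_induction with
    | mem x hx =>
      rw [Set.mem_singleton_iff] at hx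
      subst hx
      rw [conj_apply, hvt]
      exact B.add_mem htB B.one_mem
    | algebraMap r => rw [AlgEquiv.commutes]; exact B.algebraMap_mem r
    | add x y _ _ hx hy => rw [map_add]; exact B.add_mem hx hy
    | mul x y _ _ hx hy => rw [map_mul]; exact B.mul_mem hx hy
  have htK : t ∉ (algebraMap K A).range := by
    rintro ⟨c, hc⟩
    have h1 : v * t * v⁻¹ = t := by
      rw [← hc, ← Algebra.commutes, mul_assoc, mul_inv_cancel₀ hv0, mul_one]
    rw [hvt] at h1
    exact one_ne_zero (add_left_cancel (a := t) (by rw [h1, add_zero]))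
  have hdvd := finrank_dvd_of_comm p hA B hcomm
  have hrank : Module.finrank K B = p := by
    rcases (Nat.dvd_prime hp).mp hdvd with h1 | h1
    · exfalso
      have hbot : B = ⊥ := Subalgebra.finrank_eq_one_iff.mp h1
      rw [hbot] at htB
      exact htK (Algebra.mem_bot.mp htB)
    · exact h1
  letI : CommRing B :=
    { (inferInstance : Ring B) with
      mul_comm := fun a b => Subtype.ext (hcomm a a.2 b b.2) }
  letI : Field B := fieldOfFiniteDimensional K B
  let τ₀ : B →ₐ[K] B :=
    AlgHom.codRestrict (((conj (K := K) v hv0 : A ≃ₐ[K] A) : A →ₐ[K] A).comp B.val) B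
      (fun y => hconjB y y.2)
  have hτ₀inj : Function.Injective τ₀ := τ₀.toRingHom.injective
  have hτ₀surj : Function.Surjective τ₀ :=
    LinearMap.surjective_of_injective (f := τ₀.toLinearMap) hτ₀inj
  let τ : B ≃ₐ[K] B := AlgEquiv.ofBijective τ₀ ⟨hτ₀inj, hτ₀surj⟩
  let tB : B := ⟨t, htB⟩
  have hτt : τ tB = tB + 1 := by
    apply Subtype.ext
    change v * t * v⁻¹ = t + 1
    exact hvt
  have hτk : ∀ k : ℕ, (τ ^ k) tB = tB + (k : B) := by
    intro k
    induction k with
    | zero => simp
    | succ k ih =>
      rw [pow_succ', AlgEquiv.mul_apply, ih, map_add, hτt, map_natCast]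
      push_cast
      ring
  have hcard : Nat.card (B ≃ₐ[K] B) = Module.finrank K B := by
    apply le_antisymm
    · rw [Nat.card_eq_fintype_card]
      exact AlgEquiv.card_le
    · rw [hrank]
      have hinj : Function.Injective (fun i : Fin p => τ ^ (i : ℕ)) := by
        intro i j hij
        have h1 := congrArg (fun σ : B ≃ₐ[K] B => σ tB) hij
        simp only [hτk] at h1
        have h2 : ((i : ℕ) : B) = ((j : ℕ) : B) := add_left_cancel h1
        have h3 : ((i : ℕ) : K) = ((j : ℕ) : K) := by
          apply (algebraMap K B).injective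
          rw [map_natCast, map_natCast, h2]
        have h4 := (CharP.natCast_eq_natCast K p).mp h3
        apply Fin.ext
        exact Nat.ModEq.eq_of_lt_of_lt h4 i.2 j.2
      have := Nat.card_le_card_of_injective _ hinj
      simpa using this
  have hgal : IsGalois K B := IsGalois.of_card_aut_eq_finrank K B hcard
  exact ⟨B, inferInstance, inferInstance, hgal, hrank, ⟨B.val⟩⟩

end Groth.Agent.Lib.ArtinSchreierDiv
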