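import Mathlib

/-!
# An Artin–Tate type descent for "essentially of finite type" (helper61)

`A` Noetherian, `D` a local `A`-algebra, `D ⊆ D'` an integral ring extension, `B ⊆ D'` an
`A`-subalgebra which is a finite `A`-module and such that `D'` is a localization of `B`
(every `x : D'` satisfies `t * x ∈ B` for some `t ∈ B` invertible in `D'`).
Then `D` is essentially of finite type over `A`.
-/

set_option autoImplicit false
universe u

namespace Groth.Agent.Lib.ArtinTateEss61

open IsLocalRing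

section span

variable {A R D' : Type u} [CommRing A] [CommRing R] [CommRing D'] [Algebra A D'] [Algebra R D']

/-- The `R`-span of a subalgebra `B` (over another base) is the `R`-algebra generated by `B`. -/
theorem adjoin_toSubmodule_eq_span (B : Subalgebra A D') :
    Subalgebra.toSubmodule (Algebra.adjoin R (B : Set D')) = Submodule.span R (B : Set D') := by
  rw [Algebra.adjoin_eq_span]
  congr 1
  have : Submonoid.closure (B : Set D') = B.toSubsemiring.toSubmonoid :=
    Submonoid.closure_eq B.toSubsemiring.toSubmonoid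
  rw [this]
  rfl

/-- If units of `D'` lying in `B` are units of `R[B]`, and `R[B] → D'` is "a localization of `B`",
then `R[B] = D'`. -/
theorem mem_adjoin_of_forall (B : Subalgebra A D')
    (H : ∀ x : D', ∃ t ∈ B, IsUnit t ∧ t * x ∈ B)
    (hunit : ∀ t (ht : t ∈ B), IsUnit t →
      IsUnit (⟨t, Algebra.subset_adjoin ht⟩ : Algebra.adjoin R (B : Set D')))
    (x : D') : x ∈ Algebra.adjoin R (B : Set D') := by
  obtain ⟨t, ht, htu, htx⟩ := H x
  obtain ⟨u, hu⟩ := hunit t ht htu
  have h1 : ((u⁻¹ : (Algebra.adjoin R (B : Set D'))ˣ) : Algebra.adjoin R (B : Set D')) *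
      (⟨t, Algebra.subset_adjoin ht⟩ : Algebra.adjoin R (B : Set D')) = 1 := by
    rw [← hu]; exact Units.inv_mul u
  have h2 : ((u⁻¹ : (Algebra.adjoin R (B : Set D'))ˣ) : Algebra.adjoin R (B : Set D')).1 * t
      = 1 := congrArg Subtype.val h1
  have h3 : x = ((u⁻¹ : (Algebra.adjoin R (B : Set D'))ˣ) : Algebra.adjoin R (B : Set D')).1 *
      (t * x) := by
    rw [← mul_assoc, h2, one_mul]
  rw [h3]
  exact Subalgebra.mul_mem _ (Subtype.property _) (Algebra.subset_adjoin htx)

end span

section step1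

variable (A D D' : Type u) [CommRing A] [CommRing D] [CommRing D'] [Algebra A D']
  [Algebra D D']

/-- `D'` is spanned by `B` over `D`. -/
theorem span_eq_top [Algebra.IsIntegral D D']
    (B : Subalgebra A D') (H : ∀ x : D', ∃ t ∈ B, IsUnit t ∧ t * x ∈ B) :
    Submodule.span D (B : Set D') = ⊤ := by
  rw [eq_top_iff]
  intro x _
  rw [← adjoin_toSubmodule_eq_span (R := D) B]
  refine mem_adjoin_of_forall (R := D) B H ?_ x
  intro t ht htu
  have hint : Algebra.IsIntegral (Algebra.adjoin D (B : Set D')) D' :=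
    Algebra.IsIntegral.tower_top (R := D) (S := Algebra.adjoin D (B : Set D')) (T := D')
  have hloc : IsLocalHom (algebraMap (Algebra.adjoin D (B : Set D')) D') :=
    (algebraMap_isIntegral_iff.mpr hint).isLocalHom Subtype.val_injective
  exact hloc.map_nonunit _ htu

end step1

section t0

variable (A D D' : Type u) [CommRing A] [CommRing D] [IsLocalRing D] [CommRing D'] [Algebra A D]
  [Algebra A D'] [Algebra D D'] [IsScalarTower A D D']

/-- The prime avoidance element. -/
theorem exists_t0 [Algebra.IsIntegral D D'] (B : Subalgebra A D') [Module.Finite A B] :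
    ∃ t₀ : B, IsUnit (t₀ : D') ∧ ∀ n : Ideal B, n.IsPrime →
      n.comap (algebraMap A B) = (maximalIdeal D).comap (algebraMap A D) →
      (¬ ∃ N : Ideal D', N.IsMaximal ∧ n = N.comap B.val) → t₀ ∈ n := by
  classical
  obtain ⟨pA, hpA⟩ : ∃ pA : Ideal A, pA = (maximalIdeal D).comap (algebraMap A D) := ⟨_, rfl⟩
  have hfin : (pA.primesOver B).Finite := Algebra.QuasiFinite.finite_primesOver pA
  let s := hfin.toFinset
  let P : Ideal B → Prop := fun n => ∃ N : Ideal D', N.IsMaximal ∧ n = N.comap B.val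
  let s₁ := s.filter P
  let s₂ := s.filter (fun n => ¬ P n)
  have hs : ∀ n, n ∈ s ↔ n.IsPrime ∧ n.LiesOver pA := fun n => hfin.mem_toFinset
  -- `N ∩ B ∈ s₁`
  have hN : ∀ N : Ideal D', N.IsMaximal → N.comap B.val ∈ s₁ := by
    intro N hNmax
    have hNp : N.IsPrime := hNmax.isPrime
    rw [Finset.mem_filter, hs]
    refine ⟨⟨Ideal.comap_isPrime _ _, ⟨?_⟩⟩, N, hNmax, rfl⟩
    have h1 : (N.comap (algebraMap D D')).IsMaximal :=
      Ideal.isMaximal_comap_of_isIntegral_of_isMaximal N
    have h2 : N.comap (algebraMap D D') = maximalIdeal D := eq_maximalIdeal h1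
    rw [hpA, ← h2, Ideal.under]
    ext a
    simp only [Ideal.mem_comap]
    have : algebraMap D D' (algebraMap A D a) = B.val (algebraMap A B a) := by
      rw [← IsScalarTower.algebraMap_apply A D D']
      rfl
    rw [this]
  have hne : ¬ ((s₂.inf id : Ideal B) : Set B) ⊆ ⋃ n ∈ (s₁ : Set (Ideal B)), (id n : Ideal B) := by
    intro hsub
    have hp : ∀ i ∈ s₁, i ≠ ⊥ → i ≠ ⊥ → (id i : Ideal B).IsPrime := by
      intro i hi _ _
      exact ((hs i).mp (Finset.mem_filter.mp hi).1).1
    obtain ⟨n₁, hn₁, hle⟩ := (Ideal.subset_union_prime (s := s₁) (f := id) ⊥ ⊥ hp).mp hsub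
    have hn₁' := Finset.mem_filter.mp hn₁
    have hn₁p : n₁.IsPrime := ((hs n₁).mp hn₁'.1).1
    have hn₁o : n₁.LiesOver pA := ((hs n₁).mp hn₁'.1).2
    obtain ⟨n₂, hn₂, hle₂⟩ := (Ideal.IsPrime.inf_le' hn₁p).mp hle
    have hn₂' := Finset.mem_filter.mp hn₂
    have hn₂p : n₂.IsPrime := ((hs n₂).mp hn₂'.1).1
    have hn₂o : n₂.LiesOver pA := ((hs n₂).mp hn₂'.1).2
    have heq : n₂ = n₁ := Algebra.QuasiFinite.eq_of_le_of_under_eq (R := A) n₂ n₁ hle₂
      (by rw [← hn₂o.over, ← hn₁o.over])
    exact hn₂'.2 (heq ▸ hn₁'.2)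
  obtain ⟨t₀, ht₀I, ht₀U⟩ := Set.not_subset.mp hne
  refine ⟨t₀, ?_, ?_⟩
  · by_contra hnu
    obtain ⟨N, hNmax, hNt⟩ := exists_max_ideal_of_mem_nonunits (mem_nonunits_iff.mpr hnu)
    apply ht₀U
    simp only [Set.mem_iUnion]
    exact ⟨N.comap B.val, hN N hNmax, hNt⟩
  · intro n hnp hno hnP
    have hmem : n ∈ s₂ := by
      rw [Finset.mem_filter, hs]
      exact ⟨⟨hnp, ⟨by rw [hpA, ← hno, Ideal.under]⟩⟩, hnP⟩
    have : s₂.inf id ≤ n := Finset.inf_le (f := id) hmem
    exact this ht₀I

end t0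

section core

variable (A D D' L₁ : Type u) [CommRing A] [CommRing D] [IsLocalRing D] [CommRing D']
  [CommRing L₁] [IsLocalRing L₁] [Algebra A D] [Algebra A D']
  [Algebra A L₁] [Algebra L₁ D] [Algebra L₁ D'] [IsScalarTower A L₁ D]
  [IsScalarTower A L₁ D'] [IsLocalHom (algebraMap L₁ D)]

/-- Core step: if `t₀` is invertible in `L₁[B]`, then `D'` is a finite `L₁`-module. -/
theorem finite_of_t0 (B : Subalgebra A D') (hBfg : (Subalgebra.toSubmodule B).FG)
    (H : ∀ x : D', ∃ t ∈ B, IsUnit t ∧ t * x ∈ B)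
    (t₀ : B) (ht₀ : ∀ n : Ideal B, n.IsPrime →
      n.comap (algebraMap A B) = (maximalIdeal D).comap (algebraMap A D) →
      (¬ ∃ N : Ideal D', N.IsMaximal ∧ n = N.comap B.val) → t₀ ∈ n)
    (w : D') (hw : (t₀ : D') * w = 1) (hwmem : w ∈ Algebra.adjoin L₁ (B : Set D')) :
    Module.Finite L₁ D' := by
  let F₂ : Subalgebra L₁ D' := Algebra.adjoin L₁ (B : Set D')
  have hBF : ∀ b ∈ B, b ∈ F₂ := fun b hb => Algebra.subset_adjoin hb
  -- `F₂` is integral over `L₁`
  have hBint : ∀ b ∈ B, IsIntegral L₁ b := by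
    intro b hb
    have hfinB : Module.Finite A B := Module.Finite.iff_fg.mpr hBfg
    have h1 : IsIntegral A (⟨b, hb⟩ : B) := Algebra.IsIntegral.isIntegral _
    have h2 : IsIntegral A b := by
      have := h1.map B.val
      simpa using this
    exact h2.tower_top
  have hF₂int : Algebra.IsIntegral L₁ F₂ :=
    Algebra.IsIntegral.adjoin (fun b hb => hBint b hb)
  -- units
  have hunit : ∀ t (ht : t ∈ B), IsUnit t →
      IsUnit (⟨t, Algebra.subset_adjoin ht⟩ : Algebra.adjoin L₁ (B : Set D')) := by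
    intro t ht htu
    show IsUnit (⟨t, hBF t ht⟩ : F₂)
    by_contra hnu
    obtain ⟨Q, hQmax, hQt⟩ := exists_max_ideal_of_mem_nonunits (mem_nonunits_iff.mpr hnu)
    have hQp : Q.IsPrime := hQmax.isPrime
    -- the inclusion `B → F₂`
    let j : B →ₐ[A] F₂.restrictScalars A :=
      { toFun := fun b => ⟨b, hBF b b.2⟩
        map_one' := rfl
        map_mul' := fun _ _ => rfl
        map_zero' := rfl
        map_add' := fun _ _ => rfl
        commutes' := fun a => by
          apply Subtype.ext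
          show ((algebraMap A B a : B) : D') = _
          rfl }
    let jr : B →+* F₂ := j.toRingHom
    have hjr : ∀ b : B, ((jr b : F₂) : D') = b := fun b => rfl
    have hn : (Q.comap jr).IsPrime := Ideal.comap_isPrime _ _
    have hQL : Q.comap (algebraMap L₁ F₂) = maximalIdeal L₁ :=
      eq_maximalIdeal (Ideal.isMaximal_comap_of_isIntegral_of_isMaximal Q)
    have hover : (Q.comap jr).comap (algebraMap A B) =
        (maximalIdeal D).comap (algebraMap A D) := by
      have hloc : IsLocalHom (algebraMap L₁ D) := inferInstance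
      have hmL' : (maximalIdeal D).comap (algebraMap L₁ D) = maximalIdeal L₁ :=
        ((local_hom_TFAE (algebraMap L₁ D)).out 0 4).mp hloc
      have hmL : maximalIdeal L₁ = (maximalIdeal D).comap (algebraMap L₁ D) := hmL'.symm
      ext a
      simp only [Ideal.mem_comap]
      have h1 : jr (algebraMap A B a) = algebraMap L₁ F₂ (algebraMap A L₁ a) := by
        apply Subtype.ext
        show ((algebraMap A B a : B) : D') = algebraMap L₁ D' (algebraMap A L₁ a)
        rw [← IsScalarTower.algebraMap_apply A L₁ D']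
        rfl
      rw [h1, ← Ideal.mem_comap, hQL, hmL, Ideal.mem_comap,
        ← IsScalarTower.algebraMap_apply A L₁ D]
    -- `t₀` is a unit of `F₂`
    have hwF : w ∈ F₂ := hwmem
    have ht₀Q : jr t₀ ∉ Q := by
      intro hmem
      have h1 : jr t₀ * (⟨w, hwF⟩ : F₂) = 1 := Subtype.ext hw
      have : (1 : F₂) ∈ Q := h1 ▸ Q.mul_mem_right _ hmem
      exact hQp.ne_top ((Ideal.eq_top_iff_one Q).mpr this)
    have hP : ∃ N : Ideal D', N.IsMaximal ∧ Q.comap jr = N.comap B.val := by
      by_contra hP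
      exact ht₀Q (ht₀ (Q.comap jr) hn hover hP)
    obtain ⟨N, hNmax, hNeq⟩ := hP
    have htN : t ∈ N := by
      have : (⟨t, ht⟩ : B) ∈ Q.comap jr := hQt
      rw [hNeq] at this
      exact this
    exact hNmax.ne_top (Ideal.eq_top_of_isUnit_mem N htN htu)
  have htop : Algebra.adjoin L₁ (B : Set D') = ⊤ := by
    rw [eq_top_iff]
    intro x _
    exact mem_adjoin_of_forall (R := L₁) B H hunit x
  have hspan : Submodule.span L₁ (B : Set D') = ⊤ := by
    rw [← adjoin_toSubmodule_eq_span (R := L₁) B, htop]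
    rfl
  obtain ⟨sB, hsB⟩ := hBfg
  have hspan' : Submodule.span L₁ (sB : Set D') = ⊤ := by
    rw [← hspan]
    have : (B : Set D') = ((Submodule.span A (sB : Set D') : Submodule A D') : Set D') := by
      rw [hsB]; rfl
    rw [this, Submodule.span_span_of_tower]
  exact ⟨⟨sB, hspan'⟩⟩

end core

section main

variable (A D D' : Type u) [CommRing A] [IsNoetherianRing A] [CommRing D] [IsLocalRing D]
  [CommRing D'] [Algebra A D] [Algebra A D'] [Algebra D D'] [IsScalarTower A D D']

/-- **Artin–Tate type descent**: see the module docstring. -/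
theorem essFiniteType_of_integral (hinj : Function.Injective (algebraMap D D'))
    [Algebra.IsIntegral D D'] (B : Subalgebra A D') [Module.Finite A B]
    (H : ∀ x : D', ∃ t ∈ B, IsUnit t ∧ t * x ∈ B) : Algebra.EssFiniteType A D := by
  classical
  have hBfg : (Subalgebra.toSubmodule B).FG := Module.Finite.iff_fg.mp inferInstance
  have hspan := span_eq_top A D D' B H
  obtain ⟨sB, hsB⟩ := hBfg
  have hsBB : ∀ b ∈ sB, b ∈ B := by
    intro b hb
    have : b ∈ Submodule.span A (sB : Set D') := Submodule.subset_span hb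
    rw [hsB] at this
    exact this
  have hspan' : Submodule.span D (sB : Set D') = ⊤ := by
    rw [← hspan]
    have : (B : Set D') = ((Submodule.span A (sB : Set D') : Submodule A D') : Set D') := by
      rw [hsB]; rfl
    rw [this, Submodule.span_span_of_tower]
  obtain ⟨t₀, ht₀u, ht₀⟩ := exists_t0 A D D' B
  obtain ⟨w, hw⟩ := ht₀u.exists_right_inv
  have hwspan : w ∈ Submodule.span D (sB : Set D') := hspan' ▸ Submodule.mem_top
  obtain ⟨c, -, hcw⟩ := Submodule.mem_span_finset.mp hwspan
  obtain ⟨σ₀, hσ₀⟩ : ∃ σ₀ : Finset D, σ₀ = sB.image c := ⟨_, rfl⟩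
  obtain ⟨D₀, hD₀def⟩ : ∃ D₀ : Subalgebra A D, D₀ = Algebra.adjoin A (σ₀ : Set D) := ⟨_, rfl⟩
  have hcD₀ : ∀ b ∈ sB, c b ∈ D₀ := fun b hb => by
    rw [hD₀def]
    exact Algebra.subset_adjoin (by rw [hσ₀]; exact Finset.mem_coe.mpr (Finset.mem_image_of_mem c hb))
  have hD₀ft : Algebra.FiniteType A D₀ := by
    rw [hD₀def]
    exact ⟨Subalgebra.fg_top _ |>.mpr ⟨σ₀, rfl⟩⟩
  obtain ⟨p₀, hp₀def⟩ : ∃ p₀ : Ideal D₀, p₀ = (maximalIdeal D).comap (algebraMap D₀ D) :=
    ⟨_, rfl⟩
  have hp₀ : p₀.IsPrime := hp₀def ▸ Ideal.comap_isPrime _ _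
  have hmem_iff : ∀ z : D₀, z ∈ p₀ ↔ D₀.val z ∈ maximalIdeal D := fun z => by
    rw [hp₀def]; rfl
  have hunits : ∀ y : p₀.primeCompl, IsUnit (D₀.val y) := by
    intro y
    have hy : (y : D₀) ∉ p₀ := y.2
    rw [hmem_iff] at hy
    simpa [mem_maximalIdeal, mem_nonunits_iff] using hy
  let ψ : Localization.AtPrime p₀ →ₐ[A] D :=
    IsLocalization.liftAlgHom (M := p₀.primeCompl) (f := D₀.val) hunits
  have hψ : ∀ z : D₀, ψ (algebraMap D₀ (Localization.AtPrime p₀) z) = z :=
    fun z => IsLocalization.lift_eq _ z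
  have hmk : ∀ (a : D₀) (t : p₀.primeCompl),
      ψ (IsLocalization.mk' (Localization.AtPrime p₀) a t) * (D₀.val t) = D₀.val a := by
    intro a t
    have h0 : ψ (IsLocalization.mk' (Localization.AtPrime p₀) a t) *
        ψ (algebraMap D₀ (Localization.AtPrime p₀) t) =
        ψ (algebraMap D₀ (Localization.AtPrime p₀) a) := by
      rw [← map_mul, IsLocalization.mk'_spec]
    rw [hψ, hψ] at h0
    exact h0
  have hψloc : ∀ l : Localization.AtPrime p₀, IsUnit (ψ l) → IsUnit l := by
    intro l hl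
    obtain ⟨a, s, rfl⟩ := IsLocalization.exists_mk'_eq p₀.primeCompl l
    rw [IsLocalization.AtPrime.isUnit_mk'_iff (Localization.AtPrime p₀) p₀]
    have h2 : IsUnit (D₀.val a) := hmk a s ▸ hl.mul (hunits s)
    intro hmem
    have : D₀.val a ∈ maximalIdeal D := (hmem_iff a).mp hmem
    exact this h2
  let _ : Algebra (Localization.AtPrime p₀) D := ψ.toRingHom.toAlgebra
  have hst1 : IsScalarTower A (Localization.AtPrime p₀) D :=
    IsScalarTower.of_algebraMap_eq (fun a => (ψ.commutes a).symm)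
  let _ : Algebra (Localization.AtPrime p₀) D' := ((algebraMap D D').comp ψ.toRingHom).toAlgebra
  have hst2 : IsScalarTower (Localization.AtPrime p₀) D D' :=
    IsScalarTower.of_algebraMap_eq (fun x => rfl)
  have hst3 : IsScalarTower A (Localization.AtPrime p₀) D' :=
    IsScalarTower.of_algebraMap_eq (fun a => by
      rw [IsScalarTower.algebraMap_apply A D D']
      show _ = algebraMap D D' (ψ (algebraMap A (Localization.AtPrime p₀) a))
      rw [ψ.commutes])
  have hloc : IsLocalHom (algebraMap (Localization.AtPrime p₀) D) := ⟨fun l hl => hψloc l hl⟩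
  have hD₀N : IsNoetherianRing D₀ := Algebra.FiniteType.isNoetherianRing A D₀
  have hL₁N : IsNoetherianRing (Localization.AtPrime p₀) :=
    IsLocalization.isNoetherianRing p₀.primeCompl _ inferInstance
  have hL₁ess : Algebra.EssFiniteType A (Localization.AtPrime p₀) := by
    have : Algebra.EssFiniteType D₀ (Localization.AtPrime p₀) :=
      Algebra.EssFiniteType.of_isLocalization _ p₀.primeCompl
    exact Algebra.EssFiniteType.comp A D₀ _
  -- `w ∈ L₁[B]`
  have hwmem : w ∈ Algebra.adjoin (Localization.AtPrime p₀) (B : Set D') := by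
    rw [← hcw]
    refine Subalgebra.sum_mem _ (fun b hb => ?_)
    rw [Algebra.smul_def]
    refine Subalgebra.mul_mem _ ?_ (Algebra.subset_adjoin (hsBB b hb))
    have : algebraMap D D' (c b) = algebraMap (Localization.AtPrime p₀) D'
        (algebraMap D₀ (Localization.AtPrime p₀) ⟨c b, hcD₀ b hb⟩) := by
      show _ = algebraMap D D' (ψ _)
      rw [hψ]
    rw [this]
    exact Subalgebra.algebraMap_mem _ _
  have hfin' : Module.Finite (Localization.AtPrime p₀) D' :=
    finite_of_t0 A D D' (Localization.AtPrime p₀) B ⟨sB, hsB⟩ H t₀ ht₀ w hw hwmem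
  have hNoeth : IsNoetherian (Localization.AtPrime p₀) D' :=
    isNoetherian_of_isNoetherianRing_of_finite _ _
  have hfin : Module.Finite (Localization.AtPrime p₀) D :=
    Module.Finite.of_injective (IsScalarTower.toAlgHom (Localization.AtPrime p₀) D D').toLinearMap
      hinj
  have : Algebra.EssFiniteType (Localization.AtPrime p₀) D := inferInstance
  exact Algebra.EssFiniteType.comp A (Localization.AtPrime p₀) D

end main

end Groth.Agent.Lib.ArtinTateEss61
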