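import Groth.Prelude.Def_MoreMor
import Mathlib.AlgebraicGeometry.Morphisms.FiniteType
import Mathlib.AlgebraicGeometry.Morphisms.ClosedImmersion
import Mathlib.AlgebraicGeometry.Morphisms.UnderlyingMap
import Mathlib.AlgebraicGeometry.Morphisms.RingHomProperties

set_option autoImplicit false
universe u

namespace Groth.Agent.Lib.ThickeningLft

open AlgebraicGeometry CategoryTheory Limits MorphismProperty

variable {X X' Y Y' : Scheme.{u}}

theorem isClosedImmersion_left {iX : X ⟶ X'} {iY : Y ⟶ Y'} {f : X ⟶ Y} {f' : X' ⟶ Y'}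
    (hY : MoreMor.IsThickening iY) (hc : IsPullback iX f f' iY) : IsClosedImmersion iX :=
  MorphismProperty.of_isPullback hc.flip hY.1

theorem surjective_left {iX : X ⟶ X'} {iY : Y ⟶ Y'} {f : X ⟶ Y} {f' : X' ⟶ Y'}
    (hY : MoreMor.IsThickening iY) (hc : IsPullback iX f f' iY) : Surjective iX :=
  MorphismProperty.of_isPullback hc.flip hY.2

theorem isThickening_left {iX : X ⟶ X'} {iY : Y ⟶ Y'} {f : X ⟶ Y} {f' : X' ⟶ Y'}
    (hY : MoreMor.IsThickening iY) (hc : IsPullback iX f f' iY) : MoreMor.IsThickening iX :=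
  ⟨isClosedImmersion_left hY hc, surjective_left hY hc⟩

theorem le_nilradical_of_surjective {A : CommRingCat.{u}} (I : Ideal A)
    (h : Surjective (Spec.map (CommRingCat.ofHom (Ideal.Quotient.mk I)))) : I ≤ nilradical A := by
  rw [nilradical_eq_sInf]
  refine le_sInf fun p hp ↦ ?_
  obtain ⟨q, hq⟩ := h.surj (⟨p, hp⟩ : PrimeSpectrum A)
  have : p = Ideal.comap (Ideal.Quotient.mk I) q.asIdeal := by
    have := congr_arg PrimeSpectrum.asIdeal hq
    exact this.symm
  rw [this]
  intro x hx
  rw [Ideal.mem_comap, Ideal.Quotient.eq_zero_iff_mem.mpr hx]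
  exact zero_mem _

/-- Base change of a thickening square to an affine scheme over the target. -/
theorem pullback_snd_of_affine (P : MorphismProperty Scheme.{u}) [P.IsStableUnderBaseChange]
    (H : ∀ (A : CommRingCat.{u}) (Z : Scheme.{u}) (g : Z ⟶ Spec A) (I : Ideal A),
      I ≤ nilradical A → LocallyOfFiniteType g →
      P (pullback.snd g (Spec.map (CommRingCat.ofHom (Ideal.Quotient.mk I)))) → P g)
    (iX : X ⟶ X') (iY : Y ⟶ Y') (f : X ⟶ Y) (f' : X' ⟶ Y')
    (hY : MoreMor.IsThickening iY) (hc : IsPullback iX f f' iY) [LocallyOfFiniteType f']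
    (hf : P f) (A : CommRingCat.{u}) (g : Spec A ⟶ Y') : P (pullback.snd f' g) := by
  have h1 : IsClosedImmersion (pullback.snd iY g) :=
    MorphismProperty.pullback_snd _ _ hY.1
  have h2 : Surjective (pullback.snd iY g) :=
    MorphismProperty.pullback_snd _ _ hY.2
  obtain ⟨I, e, he⟩ := IsClosedImmersion.Spec_iff.mp h1
  have h3 : Surjective (Spec.map (CommRingCat.ofHom (Ideal.Quotient.mk I))) := by
    have : Spec.map (CommRingCat.ofHom (Ideal.Quotient.mk I)) = e.inv ≫ pullback.snd iY g := by
      rw [he, Iso.inv_hom_id_assoc]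
    rw [this]
    exact MorphismProperty.comp_mem _ _ _ inferInstance h2
  have hI := le_nilradical_of_surjective I h3
  refine H _ _ _ I hI (MorphismProperty.pullback_snd _ _ inferInstance) ?_
  have hw : Spec.map (CommRingCat.ofHom (Ideal.Quotient.mk I)) ≫ g =
      (e.inv ≫ pullback.fst iY g) ≫ iY := by
    rw [Category.assoc, pullback.condition, he, Category.assoc, Iso.inv_hom_id_assoc]
  have hbig : IsPullback
      (pullback.fst (pullback.snd f' g) (Spec.map (CommRingCat.ofHom (Ideal.Quotient.mk I))) ≫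
        pullback.fst f' g)
      (pullback.snd (pullback.snd f' g) (Spec.map (CommRingCat.ofHom (Ideal.Quotient.mk I))))
      f' ((e.inv ≫ pullback.fst iY g) ≫ iY) := by
    rw [← hw]
    exact (IsPullback.of_hasPullback _ _).paste_horiz (IsPullback.of_hasPullback f' g)
  have hw2 : (pullback.fst (pullback.snd f' g)
        (Spec.map (CommRingCat.ofHom (Ideal.Quotient.mk I))) ≫ pullback.fst f' g) ≫ f' =
      (pullback.snd (pullback.snd f' g) (Spec.map (CommRingCat.ofHom (Ideal.Quotient.mk I))) ≫
        (e.inv ≫ pullback.fst iY g)) ≫ iY := by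
    rw [Category.assoc _ _ iY]; exact hbig.w
  have hlift := hc.lift_fst _ _ hw2
  have hsnd := hc.lift_snd _ _ hw2
  have hbig' : IsPullback (hc.lift _ _ hw2 ≫ iX)
      (pullback.snd (pullback.snd f' g) (Spec.map (CommRingCat.ofHom (Ideal.Quotient.mk I))))
      f' ((e.inv ≫ pullback.fst iY g) ≫ iY) := by
    rw [hlift]; exact hbig
  exact MorphismProperty.of_isPullback (IsPullback.of_right hbig' hsnd hc) hf

/-- Reduction to an affine target. -/
theorem of_affine_target (P : MorphismProperty Scheme.{u}) [IsZariskiLocalAtTarget P]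
    [P.IsStableUnderBaseChange]
    (H : ∀ (A : CommRingCat.{u}) (Z : Scheme.{u}) (g : Z ⟶ Spec A) (I : Ideal A),
      I ≤ nilradical A → LocallyOfFiniteType g →
      P (pullback.snd g (Spec.map (CommRingCat.ofHom (Ideal.Quotient.mk I)))) → P g)
    (iX : X ⟶ X') (iY : Y ⟶ Y') (f : X ⟶ Y) (f' : X' ⟶ Y')
    (hY : MoreMor.IsThickening iY) (hc : IsPullback iX f f' iY) [LocallyOfFiniteType f']
    (hf : P f) : P f' := by
  rw [IsZariskiLocalAtTarget.iff_of_openCover (P := P) Y'.affineCover]
  intro i
  exact pullback_snd_of_affine P H iX iY f f' hY hc hf _ (Y'.affineCover.f i)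


open TensorProduct in
theorem affine_source_aux (P : MorphismProperty Scheme.{u}) (Q : ∀ {R S : Type u} [CommRing R] [CommRing S],
      (R →+* S) → Prop) [HasRingHomProperty P Q]
    (H : ∀ (A B : Type u) [CommRing A] [CommRing B] [Algebra A B] (I : Ideal A),
      I ≤ nilradical A → Algebra.FiniteType A B →
      Q ((Algebra.TensorProduct.includeRight (R := A) (A := B) (B := A ⧸ I) :
        (A ⧸ I) →+* B ⊗[A] (A ⧸ I))) →
      Q (algebraMap A B))
    (A : CommRingCat.{u}) (Z : Scheme.{u}) (g : Z ⟶ Spec A) (I : Ideal A) (hI : I ≤ nilradical A)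
    [LocallyOfFiniteType g]
    (hP : P (pullback.snd g (Spec.map (CommRingCat.ofHom (Ideal.Quotient.mk I)))))
    (B : CommRingCat.{u}) (h : Spec B ⟶ Z) [IsOpenImmersion h] : P (h ≫ g) := by
  obtain ⟨φ, hφ⟩ := Spec.map_surjective (h ≫ g)
  have hft : LocallyOfFiniteType (Spec.map φ) := hφ ▸ inferInstance
  have hP2 : P (pullback.snd (Spec.map φ) (Spec.map (CommRingCat.ofHom (Ideal.Quotient.mk I)))) := by
    rw [hφ]
    have : pullback.snd (h ≫ g) (Spec.map (CommRingCat.ofHom (Ideal.Quotient.mk I))) =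
        pullback.map (h ≫ g) (Spec.map (CommRingCat.ofHom (Ideal.Quotient.mk I))) g
          (Spec.map (CommRingCat.ofHom (Ideal.Quotient.mk I))) h (𝟙 _) (𝟙 _) (by simp) (by simp) ≫
        pullback.snd g (Spec.map (CommRingCat.ofHom (Ideal.Quotient.mk I))) := by
      rw [pullback.lift_snd, Category.comp_id]
    rw [this]
    exact IsZariskiLocalAtSource.comp hP _
  rw [← hφ, HasRingHomProperty.Spec_iff (P := P)]
  rw [HasRingHomProperty.Spec_iff (P := @LocallyOfFiniteType)] at hft
  algebraize [φ.hom]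
  have key := H A B I hI ‹_› ?_
  · rwa [RingHom.algebraMap_toAlgebra] at key
  · have e := pullbackSpecIso_inv_snd A B (A ⧸ I)
    have h3 : P (Spec.map (CommRingCat.ofHom
        ((Algebra.TensorProduct.includeRight (R := A) (A := B) (B := A ⧸ I) :
        (A ⧸ I) →+* B ⊗[A] (A ⧸ I))))) := by
      have e' : Spec.map (CommRingCat.ofHom
          ((Algebra.TensorProduct.includeRight (R := A) (A := B) (B := A ⧸ I) :
          (A ⧸ I) →+* B ⊗[A] (A ⧸ I)))) = (pullbackSpecIso (↑A) (↑B) (↑A ⧸ I)).inv ≫
          pullback.snd (Spec.map (CommRingCat.ofHom (algebraMap ↑A ↑B)))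
            (Spec.map (CommRingCat.ofHom (algebraMap (↑A) (↑A ⧸ I)))) := e.symm
      rw [e', P.cancel_left_of_respectsIso]
      exact hP2
    exact (HasRingHomProperty.Spec_iff (P := P)).mp h3

open TensorProduct in
/-- Reduction to the affine case, for properties local at source and target given by a
property of ring homs. -/
theorem of_ringHom (P : MorphismProperty Scheme.{u}) (Q : ∀ {R S : Type u} [CommRing R] [CommRing S],
      (R →+* S) → Prop) [HasRingHomProperty P Q] [P.IsStableUnderBaseChange]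
    (H : ∀ (A B : Type u) [CommRing A] [CommRing B] [Algebra A B] (I : Ideal A),
      I ≤ nilradical A → Algebra.FiniteType A B →
      Q ((Algebra.TensorProduct.includeRight (R := A) (A := B) (B := A ⧸ I) :
        (A ⧸ I) →+* B ⊗[A] (A ⧸ I))) →
      Q (algebraMap A B))
    (iX : X ⟶ X') (iY : Y ⟶ Y') (f : X ⟶ Y) (f' : X' ⟶ Y')
    (hY : MoreMor.IsThickening iY) (hc : IsPullback iX f f' iY) [LocallyOfFiniteType f']
    (hf : P f) : P f' := by
  refine of_affine_target P ?_ iX iY f f' hY hc hf
  intro A Z g I hI hg hP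
  rw [IsZariskiLocalAtSource.iff_of_openCover (P := P) Z.affineCover]
  intro j
  have hj : IsOpenImmersion (Z.affineCover.f j) := Z.affineCover.map_prop j
  exact @affine_source_aux P Q _ H A Z g I hI hg hP _ (Z.affineCover.f j) hj
end Groth.Agent.Lib.ThickeningLft
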