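import Mathlib.RingTheory.SurjectiveOnStalks
import Mathlib.RingTheory.FiniteType
import Mathlib.RingTheory.Nilpotent.Lemmas
import Mathlib.RingTheory.Noetherian.Nilpotent
import Mathlib.RingTheory.Ideal.Quotient.Nilpotent
import Mathlib.RingTheory.TensorProduct.Quotient
import Mathlib.RingTheory.Localization.AtPrime.Basic
import Mathlib.AlgebraicGeometry.Morphisms.SurjectiveOnStalks
import Mathlib.AlgebraicGeometry.Morphisms.Preimmersion
import Groth.Agent.Lib.ThickeningLft

set_option autoImplicit false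

namespace Groth.Agent.Lib.ThickeningSOS

/-- Nakayama for nilpotent ideals, no finiteness needed. -/
theorem eq_top_of_top_le_sup_smul {R M : Type*} [CommRing R] [AddCommGroup M] [Module R M]
    (J : Ideal R) (hJ : IsNilpotent J) (N : Submodule R M)
    (h : (⊤ : Submodule R M) ≤ N ⊔ J • (⊤ : Submodule R M)) : N = ⊤ := by
  obtain ⟨n, hn⟩ := hJ
  have key : ∀ k : ℕ, (⊤ : Submodule R M) ≤ N ⊔ (J ^ k) • (⊤ : Submodule R M) := by
    intro k
    induction k with
    | zero => simp
    | succ k ih =>
      calc (⊤ : Submodule R M) ≤ N ⊔ J • (⊤ : Submodule R M) := h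
        _ ≤ N ⊔ J • (N ⊔ (J ^ k) • (⊤ : Submodule R M)) :=
          sup_le_sup_left (Submodule.smul_mono le_rfl ih) _
        _ = N ⊔ (J • N ⊔ J • (J ^ k) • (⊤ : Submodule R M)) := by rw [Submodule.smul_sup]
        _ ≤ N ⊔ (J ^ (k + 1)) • (⊤ : Submodule R M) := by
          refine sup_le le_sup_left (sup_le (le_sup_of_le_left Submodule.smul_le_right) ?_)
          rw [← Submodule.mul_smul, ← pow_succ']
          exact le_sup_right
  have := key n
  rw [hn, Ideal.zero_eq_bot, Submodule.bot_smul, sup_bot_eq] at this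
  exact top_le_iff.mp this

theorem exists_fg_le_mem_map {A B : Type*} [CommRing A] [CommRing B] (φ : A →+* B)
    (I : Ideal A) {x : B} (hx : x ∈ I.map φ) :
    ∃ N : Ideal A, N.FG ∧ N ≤ I ∧ x ∈ N.map φ := by
  unfold Ideal.map at hx
  induction hx using Submodule.span_induction with
  | mem x hx =>
    obtain ⟨i, hi, rfl⟩ := hx
    exact ⟨Ideal.span {i}, ⟨{i}, by simp⟩, (Ideal.span_singleton_le_iff_mem _).mpr hi,
      Ideal.mem_map_of_mem _ (Ideal.mem_span_singleton_self i)⟩
  | zero => exact ⟨⊥, Submodule.fg_bot, bot_le, zero_mem _⟩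
  | add x y _ _ hx hy =>
    obtain ⟨N₁, h1, h2, h3⟩ := hx
    obtain ⟨N₂, h1', h2', h3'⟩ := hy
    exact ⟨N₁ ⊔ N₂, Submodule.FG.sup h1 h1', sup_le h2 h2',
      add_mem (Ideal.map_mono le_sup_left h3) (Ideal.map_mono le_sup_right h3')⟩
  | smul a x _ hx =>
    obtain ⟨N, h1, h2, h3⟩ := hx
    exact ⟨N, h1, h2, Ideal.mul_mem_left _ a h3⟩


/-- Core lemma: surjectivity of `A_p → B_q` descends along a nil ideal for finite type algebras. -/
theorem surjective_localRingHom_of_mod_nil {A B : Type*} [CommRing A] [CommRing B] [Algebra A B]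
    [Algebra.FiniteType A B] (I : Ideal A) (hI : I ≤ nilradical A) (q : Ideal B) [q.IsPrime]
    (H : ∀ b : B, ∃ x r : A, ∃ c : B, c ∉ q ∧ algebraMap A B r ∉ q ∧
      c * algebraMap A B r * b - c * algebraMap A B x ∈ I.map (algebraMap A B)) :
    Function.Surjective
      (Localization.localRingHom (q.comap (algebraMap A B)) q (algebraMap A B) rfl) := by
  classical
  obtain ⟨s, hs⟩ := Algebra.FiniteType.out (R := A) (A := B)
  choose x r c hc hr hd using H
  have hN : ∀ b, ∃ N : Ideal A, N.FG ∧ N ≤ I ∧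
      (c b * algebraMap A B (r b) * b - c b * algebraMap A B (x b)) ∈ N.map (algebraMap A B) :=
    fun b => exists_fg_le_mem_map _ I (hd b)
  choose N hNfg hNle hNmem using hN
  let N₀ : Ideal A := s.sup N
  have hN₀fg : N₀.FG := Submodule.fg_finset_sup s N (fun b _ => hNfg b)
  have hN₀le : N₀ ≤ I := Finset.sup_le (fun b _ => hNle b)
  have hN₀nil : IsNilpotent N₀ :=
    (Ideal.FG.isNilpotent_iff_le_nilradical hN₀fg).mpr (hN₀le.trans hI)
  set p := q.comap (algebraMap A B) with hp
  let Ap := Localization.AtPrime p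
  let L := Localization.AtPrime q
  let g : Ap →+* L := Localization.localRingHom p q (algebraMap A B) rfl
  have hgl : IsLocalHom g := Localization.isLocalHom_localRingHom p q (algebraMap A B) rfl
  let J : Ideal Ap := N₀.map (algebraMap A Ap)
  have hJnil : IsNilpotent J := by
    obtain ⟨n, hn⟩ := hN₀nil
    refine ⟨n, ?_⟩
    rw [← Ideal.map_pow, hn, Ideal.zero_eq_bot, Ideal.map_bot]
    rfl
  let K : Ideal L := J.map g
  have hKnil : IsNilpotent K := by
    obtain ⟨n, hn⟩ := hJnil
    refine ⟨n, ?_⟩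
    rw [← Ideal.map_pow, hn, Ideal.zero_eq_bot, Ideal.map_bot]
    rfl
  let g' : Ap →+* L ⧸ K := (Ideal.Quotient.mk K).comp g
  have hgA : ∀ a : A, g (algebraMap A Ap a) = algebraMap B L (algebraMap A B a) :=
    fun a => Localization.localRingHom_to_map p q (algebraMap A B) rfl a
  have hNK : ∀ y ∈ N₀.map (algebraMap A B), algebraMap B L y ∈ K := by
    intro y hy
    have : (N₀.map (algebraMap A B)).map (algebraMap B L) =
        (N₀.map (algebraMap A Ap)).map g := by
      rw [Ideal.map_map, Ideal.map_map]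
      congr 1
      ext a
      exact (hgA a).symm
    change algebraMap B L y ∈ (N₀.map (algebraMap A Ap)).map g
    rw [← this]
    exact Ideal.mem_map_of_mem _ hy
  -- step (i)
  have hA : ∀ a : A, Ideal.Quotient.mk K (algebraMap B L (algebraMap A B a)) ∈ g'.range :=
    fun a => ⟨algebraMap A Ap a, by simp only [g', RingHom.comp_apply, hgA]⟩
  have hgen : ∀ b ∈ s, Ideal.Quotient.mk K (algebraMap B L b) ∈ g'.range := by
    intro b hb
    have hK : algebraMap B L (c b * algebraMap A B (r b) * b - c b * algebraMap A B (x b)) ∈ K :=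
      hNK _ (Ideal.map_mono (Finset.le_sup hb) (hNmem b))
    have hcu : IsUnit (algebraMap B L (c b)) :=
      IsLocalization.map_units L (⟨c b, hc b⟩ : q.primeCompl)
    have hru : IsUnit (algebraMap A Ap (r b)) :=
      IsLocalization.map_units Ap (⟨r b, hr b⟩ : p.primeCompl)
    have e1 : Ideal.Quotient.mk K (algebraMap B L (c b)) * (g' (algebraMap A Ap (r b)) *
        Ideal.Quotient.mk K (algebraMap B L b)) =
        Ideal.Quotient.mk K (algebraMap B L (c b)) * g' (algebraMap A Ap (x b)) := by
      simp only [g', RingHom.comp_apply, hgA]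
      rw [← map_mul, ← map_mul, ← map_mul, ← map_mul, ← map_mul, ← map_mul,
        Ideal.Quotient.eq, ← map_sub]
      convert hK using 2
      ring
    have e2 := (hcu.map (Ideal.Quotient.mk K)).mul_left_cancel e1
    have hru' : IsUnit (g' (algebraMap A Ap (r b))) := hru.map g'
    refine ⟨↑(hru.unit⁻¹) * algebraMap A Ap (x b), ?_⟩
    apply hru'.mul_left_cancel
    rw [e2, map_mul, ← mul_assoc, ← map_mul]
    simp
  have h1 : ∀ b : B, Ideal.Quotient.mk K (algebraMap B L b) ∈ g'.range := by
    intro b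
    have hb : b ∈ Algebra.adjoin A (s : Set B) := by rw [hs]; trivial
    induction hb using Algebra.adjoin_induction with
    | mem b hb => exact hgen b hb
    | algebraMap a => exact hA a
    | add b₁ b₂ _ _ h₁ h₂ => rw [map_add, map_add]; exact add_mem h₁ h₂
    | mul b₁ b₂ _ _ h₁ h₂ => rw [map_mul, map_mul]; exact mul_mem h₁ h₂
  -- step (ii)
  have h2 : ∀ t : q.primeCompl, ∃ u ∈ g'.range,
      u * Ideal.Quotient.mk K (algebraMap B L t) = 1 := by
    intro t
    obtain ⟨α, hα⟩ := h1 t
    have htu : IsUnit (algebraMap B L (t : B)) := IsLocalization.map_units L t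
    have hα' : IsUnit (g α) := by
      rw [← IsNilpotent.isUnit_quotient_mk_iff hKnil]
      have : Ideal.Quotient.mk K (g α) = Ideal.Quotient.mk K (algebraMap B L t) := hα
      rw [this]
      exact htu.map _
    have hαu : IsUnit α := isUnit_of_map_unit g α hα'
    refine ⟨g' ↑(hαu.unit⁻¹), ⟨_, rfl⟩, ?_⟩
    rw [← hα, ← map_mul]
    simp
  -- step (iii)
  have h3 : Function.Surjective g' := by
    intro l'
    obtain ⟨l, rfl⟩ := Ideal.Quotient.mk_surjective l'
    obtain ⟨b, t, rfl⟩ := IsLocalization.exists_mk'_eq q.primeCompl l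
    obtain ⟨u, hu, hut⟩ := h2 t
    have e : Ideal.Quotient.mk K (IsLocalization.mk' L b t) =
        Ideal.Quotient.mk K (algebraMap B L b) * u := by
      have := IsLocalization.mk'_spec L b t
      calc Ideal.Quotient.mk K (IsLocalization.mk' L b t)
          = Ideal.Quotient.mk K (IsLocalization.mk' L b t) *
            (u * Ideal.Quotient.mk K (algebraMap B L t)) := by rw [hut, mul_one]
        _ = Ideal.Quotient.mk K (IsLocalization.mk' L b t * algebraMap B L t) * u := by
            rw [map_mul]; ring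
        _ = _ := by rw [this]
    have hmem : Ideal.Quotient.mk K (IsLocalization.mk' L b t) ∈ g'.range := by
      rw [e]; exact mul_mem (h1 b) hu
    exact hmem
  -- step (iv)
  let _ : Algebra Ap L := g.toAlgebra
  have hle : (⊤ : Submodule Ap L) ≤
      LinearMap.range (Algebra.linearMap Ap L) ⊔ J • (⊤ : Submodule Ap L) := by
    intro l _
    obtain ⟨a, ha⟩ := h3 (Ideal.Quotient.mk K l)
    have hmem : l - g a ∈ K := by
      rw [← Ideal.Quotient.eq]; exact ha.symm
    have hmem' : l - g a ∈ J • (⊤ : Submodule Ap L) := by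
      rw [Ideal.smul_top_eq_map]
      exact hmem
    have : l = g a + (l - g a) := by ring
    rw [this]
    exact Submodule.add_mem_sup ⟨a, rfl⟩ hmem'
  have htop := eq_top_of_top_le_sup_smul J hJnil _ hle
  intro l
  have : l ∈ LinearMap.range (Algebra.linearMap Ap L) := by rw [htop]; trivial
  obtain ⟨a, ha⟩ := this
  exact ⟨a, ha⟩


theorem surjectiveOnStalks_of_quotient {A B T : Type*} [CommRing A] [CommRing B] [CommRing T]
    [Algebra A B] [Algebra.FiniteType A B] (I : Ideal A) (hI : I ≤ nilradical A)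
    (π : B →+* T) (hπ : Function.Surjective π)
    (hker : RingHom.ker π = I.map (algebraMap A B))
    (ψ : A ⧸ I →+* T) (hψ : ∀ a, ψ (Ideal.Quotient.mk I a) = π (algebraMap A B a))
    (h : ψ.SurjectiveOnStalks) : (algebraMap A B).SurjectiveOnStalks := by
  intro q hq
  apply surjective_localRingHom_of_mod_nil I hI q
  intro b
  have hkq : RingHom.ker π ≤ q := by
    rw [hker, Ideal.map_le_iff_le_comap]
    intro a ha
    have h1 : IsNilpotent a := mem_nilradical.mp (hI ha)
    have h2 : IsNilpotent (algebraMap A B a) := h1.map _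
    exact nilradical_le_prime q (mem_nilradical.mpr h2)
  have hq' : (q.map π).IsPrime := Ideal.map_isPrime_of_surjective hπ hkq
  have hcomap : (q.map π).comap π = q := by
    rw [Ideal.comap_map_of_surjective π hπ]
    exact sup_eq_left.mpr hkq
  obtain ⟨x', r', c', hc', hr', e⟩ :=
    (RingHom.surjective_localRingHom_iff (f := ψ) (q.map π)).mp (h (q.map π) hq') (π b)
  obtain ⟨x, rfl⟩ := Ideal.Quotient.mk_surjective x'
  obtain ⟨r, rfl⟩ := Ideal.Quotient.mk_surjective r'
  obtain ⟨c, rfl⟩ := hπ c'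
  refine ⟨x, r, c, ?_, ?_, ?_⟩
  · intro hc
    exact hc' (Ideal.mem_map_of_mem π hc)
  · intro hr
    apply hr'
    rw [hψ]
    exact Ideal.mem_map_of_mem π hr
  · rw [← hker, RingHom.mem_ker, map_sub, map_mul, map_mul, map_mul, ← hψ, ← hψ, e, sub_self]


open TensorProduct in
theorem surjectiveOnStalks_of_tensor {A B : Type*} [CommRing A] [CommRing B] [Algebra A B]
    (I : Ideal A) (hI : I ≤ nilradical A) (hft : Algebra.FiniteType A B)
    (h : ((Algebra.TensorProduct.includeRight (R := A) (A := B) (B := A ⧸ I) :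
        (A ⧸ I) →+* B ⊗[A] (A ⧸ I))).SurjectiveOnStalks) :
    (algebraMap A B).SurjectiveOnStalks := by
  let e := Algebra.TensorProduct.quotIdealMapEquivTensorQuot B I
  let π : B →+* B ⊗[A] (A ⧸ I) := Algebra.TensorProduct.includeLeftRingHom
  have hπe : ∀ b : B, π b = e (Ideal.Quotient.mk _ b) := fun b => rfl
  refine surjectiveOnStalks_of_quotient I hI π ?_ ?_ _ ?_ h
  · intro t
    obtain ⟨b', hb'⟩ := e.surjective t
    obtain ⟨b, rfl⟩ := Ideal.Quotient.mk_surjective b'
    exact ⟨b, hb'⟩
  · ext b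
    rw [RingHom.mem_ker, hπe, map_eq_zero_iff e e.injective, Ideal.Quotient.eq_zero_iff_mem]
  · intro a
    change (1 : B) ⊗ₜ[A] (Ideal.Quotient.mk I a) = (algebraMap A B a) ⊗ₜ[A] (1 : A ⧸ I)
    rw [Algebra.algebraMap_eq_smul_one, TensorProduct.smul_tmul, ← Algebra.algebraMap_eq_smul_one]
    rfl


section Scheme

open AlgebraicGeometry CategoryTheory Limits

universe u

variable {X X' Y Y' : Scheme.{u}}

/-- Surjectivity on stalks descends along a thickening, for morphisms locally of finite type. -/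
theorem surjectiveOnStalks_of_thickening (iX : X ⟶ X') (iY : Y ⟶ Y') (f : X ⟶ Y) (f' : X' ⟶ Y')
    (hY : MoreMor.IsThickening iY) (hc : IsPullback iX f f' iY) [LocallyOfFiniteType f']
    (hf : SurjectiveOnStalks f) : SurjectiveOnStalks f' :=
  Groth.Agent.Lib.ThickeningLft.of_ringHom @SurjectiveOnStalks RingHom.SurjectiveOnStalks
    (fun _ _ _ _ _ I hI hft h => surjectiveOnStalks_of_tensor I hI hft h) iX iY f f' hY hc hf

/-- Topological embedding descends along a thickening square. -/
theorem isEmbedding_of_thickening (iX : X ⟶ X') (iY : Y ⟶ Y') (f : X ⟶ Y) (f' : X' ⟶ Y')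
    (hY : MoreMor.IsThickening iY) (hc : IsPullback iX f f' iY)
    (hf : Topology.IsEmbedding f) : Topology.IsEmbedding f' := by
  have hiX := Groth.Agent.Lib.ThickeningLft.isThickening_left hY hc
  have h1 : IsClosedImmersion iX := hiX.1
  have h2 : Surjective iX := hiX.2
  have h3 : IsClosedImmersion iY := hY.1
  have hhomeo : IsHomeomorph iX :=
    (isHomeomorph_iff_isEmbedding_surjective).2 ⟨iX.isClosedEmbedding.isEmbedding, iX.surjective⟩
  let e : X ≃ₜ X' := hhomeo.homeomorph
  have hcomp : (f' : X' → Y') ∘ e = (iY : Y → Y') ∘ f := by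
    ext x
    change (iX ≫ f') x = (f ≫ iY) x
    rw [hc.w]
  have h4 : Topology.IsEmbedding ((f' : X' → Y') ∘ e) := by
    rw [hcomp]
    exact iY.isClosedEmbedding.isEmbedding.comp hf
  have : (f' : X' → Y') = ((f' : X' → Y') ∘ e) ∘ e.symm := by
    ext x; simp
  rw [this]
  exact h4.comp e.symm.isEmbedding

end Scheme

end Groth.Agent.Lib.ThickeningSOS
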