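import Groth.Agent.Lib.ArtinTransfer45
import Groth.Agent.Lib.ThickeningSOS
import Groth.Agent.S1309
import Groth.Agent.S1313

/-!
# Schemes over a local artinian ring and their special fibres: finiteness and immersions (helper45)

`A` local artinian, `κ` its residue field, `j : Spec κ ⟶ Spec A`, `π X : X_κ ⟶ X`.

* `isNilpotent_ker_app_j`, `isNilpotent_ker_app_π` : the kernels of `j`, `π X` on affine opens are
  nilpotent ideals.
* `locallyOfFiniteType_of_isPullback` : `f' : X' ⟶ Y` with `Y` over `A`; if the base change of `f'`
  to `Y_κ` is locally of finite type then so is `f'`.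
* `locallyOfFiniteType_hom`, `compactSpace_of_special`, `isImmersion_of_map`,
  `isClosedImmersion_of_map`.
-/

set_option autoImplicit false
set_option linter.unusedSectionVars false
universe u
open CategoryTheory CategoryTheory.Limits AlgebraicGeometry
open Groth.Agent.Lib.ArtinTransfer45 Groth.Agent.Lib.ThickeningBC

namespace Groth.Agent.Lib.ArtinThick45

variable {A : Type u} [CommRing A] [IsArtinianRing A] [IsLocalRing A]

lemma isNilpotent_ker_app_j {V' : (Spec (CommRingCat.of A)).Opens} (hV' : IsAffineOpen V') :
    IsNilpotent (RingHom.ker ((j A).app V').hom) := by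
  have : IsNoetherianRing Γ(Spec (CommRingCat.of A), V') :=
    IsLocallyNoetherian.component_noetherian ⟨V', hV'⟩
  rw [Ideal.FG.isNilpotent_iff_le_nilradical (IsNoetherian.noetherian _)]
  intro x hx
  exact isNilpotent_of_mem_ker_app hV' hx

lemma isNilpotent_of_le_map {R S : Type*} [CommRing R] [CommRing S] (α : R →+* S) (I : Ideal R)
    (hI : IsNilpotent I) (J : Ideal S) (hJ : J ≤ I.map α) : IsNilpotent J := by
  obtain ⟨n, hn⟩ := hI
  refine ⟨n, ?_⟩
  have h1 : J ^ n ≤ (I.map α) ^ n := Ideal.pow_right_mono hJ n
  rw [← Ideal.map_pow, hn] at h1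
  have h2 : (0 : Ideal R).map α = ⊥ := Ideal.map_bot
  rw [h2] at h1
  exact le_bot_iff.mp h1

lemma isNilpotent_ker_app_π (Y : Over (Spec (CommRingCat.of A))) {V' : Y.left.Opens}
    (hV' : IsAffineOpen V') : IsNilpotent (RingHom.ker ((π Y).app V').hom) := by
  have hc : IsPullback (π Y) (pullback.snd Y.hom (j A)) Y.hom (j A) :=
    IsPullback.of_hasPullback Y.hom (j A)
  have hpo := isPushout_appLE hc (V' := ⊤) (isAffineOpen_top _) hV' le_top
  have h1 := ker_le_map_of_isPushout hpo ((j A).app_surjective _ (isAffineOpen_top _))
  exact isNilpotent_of_le_map _ _ (isNilpotent_ker_app_j (isAffineOpen_top _)) _ h1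

/-- Being locally of finite type descends from the special fibre: base `Y` over `A`. -/
theorem locallyOfFiniteType_of_isPullback {Y : Over (Spec (CommRingCat.of A))} {X X' : Scheme.{u}}
    {iX : X ⟶ X'} {f : X ⟶ ((Over.pullback (j A)).obj Y).left} {f' : X' ⟶ Y.left}
    (hc : IsPullback iX f f' (π Y)) (hf : LocallyOfFiniteType f) : LocallyOfFiniteType f' :=
  of_isPullback_of_forall_isNilpotent (P := @LocallyOfFiniteType)
    (fun h h1 h2 h3 h4 => Groth.Agent.S1309.finiteType_of_isPushout h h1 h2 h3 h4) hc
    (fun _ hV' => isNilpotent_ker_app_π Y hV') hf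

/-- `X ⟶ Spec A` is locally of finite type if its special fibre is. -/
theorem locallyOfFiniteType_hom (X : Over (Spec (CommRingCat.of A)))
    (h : LocallyOfFiniteType (pullback.snd X.hom (j A))) : LocallyOfFiniteType X.hom :=
  of_isPullback_of_forall_isNilpotent (P := @LocallyOfFiniteType)
    (fun h h1 h2 h3 h4 => Groth.Agent.S1309.finiteType_of_isPushout h h1 h2 h3 h4)
    (IsPullback.of_hasPullback X.hom (j A)) (fun _ hV' => isNilpotent_ker_app_j hV') h

/-- `X ⟶ Spec A` is quasi-compact if its special fibre is. -/
theorem quasiCompact_hom (X : Over (Spec (CommRingCat.of A)))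
    (h : QuasiCompact (pullback.snd X.hom (j A))) : QuasiCompact X.hom := by
  have h1 : CompactSpace ↥(pullback X.hom (j A)) := (quasiCompact_iff_compactSpace _).mp h
  have h2 : CompactSpace ↥X.left := by
    rw [← isCompact_univ_iff, ← Set.range_eq_univ.mpr (π X).surjective]
    have h3 : CompactSpace ↥((Over.pullback (j A)).obj X).left := h1
    exact isCompact_range (π X).continuous
  exact (quasiCompact_iff_compactSpace _).mpr h2

variable {X Y : Over (Spec (CommRingCat.of A))} (u : X ⟶ Y)

lemma isThickening_π (Y : Over (Spec (CommRingCat.of A))) : MoreMor.IsThickening (π Y) :=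
  ⟨inferInstance, inferInstance⟩

theorem isImmersion_of_map (h : IsImmersion ((Over.pullback (j A)).map u).left) :
    IsImmersion u.left := by
  have hc := isPullback_map_π u
  have hY := isThickening_π Y
  have hlft : LocallyOfFiniteType u.left := locallyOfFiniteType_of_isPullback hc inferInstance
  have hsos := Groth.Agent.Lib.ThickeningSOS.surjectiveOnStalks_of_thickening (π X) (π Y) _ u.left
    hY hc inferInstance
  have hemb := Groth.Agent.Lib.ThickeningSOS.isEmbedding_of_thickening (π X) (π Y) _ u.left hY hc
    ((Over.pullback (j A)).map u).left.isEmbedding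
  have hlc : IsLocallyClosed (Set.range u.left) := by
    rw [range_eq_image]
    exact (((Over.pullback (j A)).map u).left.isLocallyClosed_range).image
      (π Y).isClosedEmbedding.isInducing (π Y).isClosedEmbedding.isClosed_range.isLocallyClosed
  exact { toSurjectiveOnStalks := hsos, isEmbedding := hemb, isLocallyClosed_range := hlc }

theorem isClosedImmersion_of_map (h : IsClosedImmersion ((Over.pullback (j A)).map u).left) :
    IsClosedImmersion u.left := by
  have hc := isPullback_map_π u
  have hY := isThickening_π Y
  have hlft : LocallyOfFiniteType u.left := locallyOfFiniteType_of_isPullback hc inferInstance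
  exact (Groth.Agent.S1313.result (π X) (π Y) _ u.left hY hc).mp h

end Groth.Agent.Lib.ArtinThick45
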