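import Groth.Agent.Lib.ConstrTop

/-!
# A constructible subset of a Noetherian space contains a nonempty open subset of its closure
(helper45)
-/

set_option autoImplicit false
open Topology TopologicalSpace Set

namespace Groth.Agent.Lib.ConstrOpen45

variable {P : Type*} [TopologicalSpace P]

/-- A nonempty constructible subset `E` of a Noetherian space contains a nonempty relatively open
subset of its closure. -/
theorem exists_open_inter_closure_subset [NoetherianSpace P] {E : Set P}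
    (hE : IsConstructible E) (hne : E.Nonempty) :
    ∃ U : Set P, IsOpen U ∧ (U ∩ closure E).Nonempty ∧ U ∩ closure E ⊆ E := by
  obtain ⟨S, hSf, hSc, hSi, hSU⟩ :=
    NoetherianSpace.exists_finite_set_isClosed_irreducible (isClosed_closure (s := E))
  have hSne : S.Nonempty := by
    by_contra h
    rw [Set.not_nonempty_iff_eq_empty] at h
    rw [h, Set.sUnion_empty] at hSU
    exact (hne.mono subset_closure).ne_empty hSU
  obtain ⟨C₁, hmax⟩ := hSf.exists_maximal hSne
  have hC₁S : C₁ ∈ S := hmax.prop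
  have hmax' : ∀ C ∈ S, C₁ ⊆ C → C = C₁ := fun C hC h =>
    Set.Subset.antisymm (hmax.le_of_ge hC h) h
  -- `C₁ ⊆ closure (E ∩ C₁)`
  have hcl : closure E = ⋃₀ ((fun C => closure (E ∩ C)) '' S) := by
    apply Set.Subset.antisymm
    · have hE' : E ⊆ ⋃₀ ((fun C => closure (E ∩ C)) '' S) := by
        intro e he
        have : e ∈ ⋃₀ S := hSU ▸ subset_closure he
        obtain ⟨C, hC, heC⟩ := this
        exact ⟨closure (E ∩ C), ⟨C, hC, rfl⟩, subset_closure ⟨he, heC⟩⟩
      refine closure_minimal hE' ?_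
      rw [Set.sUnion_eq_biUnion]
      exact (hSf.image _).isClosed_biUnion (by rintro _ ⟨C, _, rfl⟩; exact isClosed_closure)
    · rintro z ⟨_, ⟨C, hC, rfl⟩, hz⟩
      exact closure_mono Set.inter_subset_left hz
  have hd : C₁ ⊆ closure (E ∩ C₁) := by
    have h1 : C₁ ⊆ ⋃₀ ((fun C => closure (E ∩ C)) '' S) := by
      rw [← hcl, hSU]; exact Set.subset_sUnion_of_mem hC₁S
    have hfin : ((fun C => closure (E ∩ C)) '' S).Finite := hSf.image _
    obtain ⟨z, hz, hCz⟩ := isIrreducible_iff_sUnion_isClosed.mp (hSi _ hC₁S) hfin.toFinset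
      (by
        intro z hz
        rw [Set.Finite.mem_toFinset] at hz
        obtain ⟨C, _, rfl⟩ := hz
        exact isClosed_closure)
      (by rwa [Set.Finite.coe_toFinset])
    rw [Set.Finite.mem_toFinset] at hz
    obtain ⟨C, hC, rfl⟩ := hz
    have hCC : closure (E ∩ C) ⊆ C := closure_minimal Set.inter_subset_right (hSc _ hC)
    have : C = C₁ := hmax' C hC (hCz.trans hCC)
    rwa [this] at hCz
  obtain ⟨U, hU, hUne, hUE⟩ := ConstrTop.exists_open_of_subset_closure hE (hSi _ hC₁S) hd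
  -- remove the other components
  let R : Set P := ⋃₀ (S \ {C₁})
  have hRc : IsClosed R := by
    change IsClosed (⋃₀ (S \ {C₁}))
    rw [Set.sUnion_eq_biUnion]
    exact (hSf.subset Set.sdiff_subset).isClosed_biUnion (fun C hC => hSc _ hC.1)
  refine ⟨U ∩ Rᶜ, hU.inter hRc.isOpen_compl, ?_, ?_⟩
  · -- nonempty
    have hRne : (C₁ ∩ Rᶜ).Nonempty := by
      by_contra h
      rw [Set.not_nonempty_iff_eq_empty, ← Set.sdiff_eq, Set.sdiff_eq_empty] at h
      have hfin : (S \ {C₁}).Finite := hSf.subset Set.sdiff_subset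
      obtain ⟨z, hz, hCz⟩ := isIrreducible_iff_sUnion_isClosed.mp (hSi _ hC₁S) hfin.toFinset
        (by
          intro z hz
          rw [Set.Finite.mem_toFinset] at hz
          exact hSc _ hz.1)
        (by rwa [Set.Finite.coe_toFinset])
      rw [Set.Finite.mem_toFinset] at hz
      exact hz.2 (hmax' z hz.1 hCz)
    have hUne' : (C₁ ∩ U).Nonempty := by rwa [Set.inter_comm]
    obtain ⟨z, hz1, hzU, hzR⟩ := (hSi _ hC₁S).2 U Rᶜ hU hRc.isOpen_compl hUne' hRne
    exact ⟨z, ⟨hzU, hzR⟩, hSU ▸ Set.mem_sUnion_of_mem hz1 hC₁S⟩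
  · rintro z ⟨⟨hzU, hzR⟩, hz⟩
    rw [hSU] at hz
    obtain ⟨C, hC, hzC⟩ := hz
    have : C = C₁ := by
      by_contra hne'
      exact hzR ⟨C, ⟨hC, hne'⟩, hzC⟩
    exact hUE ⟨hzU, this ▸ hzC⟩

/-- A constructible subset `E` of a Noetherian space such that every nonempty relatively open
... -/
theorem isLocallyClosed_of_forall_open {E : Set P}
    (h : ∀ e ∈ E, ∃ U : Set P, IsOpen U ∧ e ∈ U ∧ U ∩ closure E ⊆ E) : IsLocallyClosed E := by
  refine ⟨⋃₀ {U | IsOpen U ∧ U ∩ closure E ⊆ E}, closure E,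
    isOpen_sUnion (fun U hU => hU.1), isClosed_closure, ?_⟩
  apply Set.Subset.antisymm
  · intro e he
    obtain ⟨U, hU, heU, hUE⟩ := h e he
    exact ⟨⟨U, ⟨hU, hUE⟩, heU⟩, subset_closure he⟩
  · rintro z ⟨⟨U, ⟨-, hUE⟩, hzU⟩, hz⟩
    exact hUE ⟨hzU, hz⟩

end Groth.Agent.Lib.ConstrOpen45
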