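import Groth.Agent.Lib.GrpDenseMul45
import Mathlib.AlgebraicGeometry.Morphisms.UniversallyOpen
import Mathlib.AlgebraicGeometry.Morphisms.QuasiSeparated
import Mathlib.AlgebraicGeometry.ResidueField
import Mathlib.AlgebraicGeometry.PullbackCarrier

/-!
# Products of subsets of a group scheme over a field (helper45)

* `mul_image_dense_opens`: for dense opens `U`, `V` of an arbitrary group scheme `G` over a field,
  `U · V = G` (no finiteness hypothesis).
* `isCompact_box`: for quasi-compact opens `U ⊆ G`, `V ⊆ H` of schemes over a field, the box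
  `pr₁⁻¹ U ∩ pr₂⁻¹ V ⊆ G ×ₖ H` is quasi-compact.
-/

set_option autoImplicit false
universe u
open CategoryTheory CategoryTheory.Limits MonoidalCategory CartesianMonoidalCategory MonObj GrpObj
  AlgebraicGeometry

namespace Groth.Agent.Lib.GrpTopMul45

variable {k : Type u} [Field k]

/-- Let `G` be a group scheme over a field. If `U` and `V` are dense open subsets of `G`, then
`U · V = G`. -/
theorem mul_image_dense_opens (G : Over (Spec (CommRingCat.of k))) [GrpObj G]
    (U V : G.left.Opens) (hU : Dense (U : Set G.left)) (hV : Dense (V : Set G.left)) :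
    μ[G].left '' ((fst G G).left ⁻¹' (U : Set G.left) ∩ (snd G G).left ⁻¹' (V : Set G.left)) =
      Set.univ := by
  rw [Set.eq_univ_iff_forall]
  intro x
  let T : Over (Spec (CommRingCat.of k)) := Over.mk (G.left.fromSpecResidueField x ≫ G.hom)
  let ψ : T ⟶ G := Over.homMk (G.left.fromSpecResidueField x) rfl
  let Ψ := Groth.Agent.Lib.GrpDenseMul45.invTranslateIso G T ψ
  let φ := Groth.Agent.Lib.GrpDenseMul45.splitHom G T ψ
  have hopen : IsOpenMap (snd T G).left := by
    have h1 : UniversallyOpen T.hom := inferInstance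
    have h2 : UniversallyOpen (pullback.snd T.hom G.hom) := inferInstance
    exact (pullback.snd T.hom G.hom).isOpenMap
  have hcont : Continuous (snd T G).left := (snd T G).left.continuous
  have hA : Dense ((snd T G).left ⁻¹' (U : Set G.left)) := hU.preimage hopen
  have hB0 : Dense ((snd T G).left ⁻¹' (V : Set G.left)) := hV.preimage hopen
  have hΨiso : IsIso Ψ.hom.left :=
    (inferInstance : IsIso ((Over.forget _).map Ψ.hom))
  have hΨopen : IsOpenMap Ψ.hom.left := Ψ.hom.left.isOpenEmbedding.isOpenMap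
  have hB : Dense (Ψ.hom.left ⁻¹' ((snd T G).left ⁻¹' (V : Set G.left))) := hB0.preimage hΨopen
  have hBo : IsOpen (Ψ.hom.left ⁻¹' ((snd T G).left ⁻¹' (V : Set G.left))) :=
    (V.isOpen.preimage hcont).preimage Ψ.hom.left.continuous
  let pt : T.left := (default : Spec (G.left.residueField x))
  let y₀ : (T ⊗ G).left := (lift (𝟙 T) ψ).left pt
  have hne : Nonempty (T ⊗ G).left := ⟨y₀⟩
  obtain ⟨y, hyB, hyA⟩ := hA.inter_open_nonempty _ hBo hB.nonempty
  refine ⟨φ.left y, ⟨?_, ?_⟩, ?_⟩
  · have h1 : (fst G G).left (φ.left y) = (snd T G).left y := by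
      rw [← Scheme.Hom.comp_apply, ← Over.comp_left,
        Groth.Agent.Lib.GrpDenseMul45.splitHom_fst]
    change (fst G G).left (φ.left y) ∈ U
    rw [h1]
    exact hyA
  · have h1 : (snd G G).left (φ.left y) = (snd T G).left (Ψ.hom.left y) := by
      rw [← Scheme.Hom.comp_apply, ← Over.comp_left,
        Groth.Agent.Lib.GrpDenseMul45.splitHom_snd, Over.comp_left, Scheme.Hom.comp_apply]
    change (snd G G).left (φ.left y) ∈ V
    rw [h1]
    exact hyB
  · have h1 : (μ[G]).left (φ.left y) = ψ.left ((fst T G).left y) := by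
      rw [← Scheme.Hom.comp_apply, ← Over.comp_left,
        Groth.Agent.Lib.GrpDenseMul45.splitHom_mul, Over.comp_left, Scheme.Hom.comp_apply]
    rw [h1]
    exact Scheme.fromSpecResidueField_apply x _

/-- The box `pr₁⁻¹ U ∩ pr₂⁻¹ V` on quasi-compact opens is quasi-compact. -/
theorem isCompact_box (G H : Over (Spec (CommRingCat.of k)))
    (U : G.left.Opens) (V : H.left.Opens) (hU : IsCompact (U : Set G.left))
    (hV : IsCompact (V : Set H.left)) :
    IsCompact ((fst G H).left ⁻¹' (U : Set G.left) ∩ (snd G H).left ⁻¹' (V : Set H.left)) := by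
  have hcU : CompactSpace ↥(U.toScheme) := isCompact_iff_compactSpace.mp hU
  have hcV : CompactSpace ↥(V.toScheme) := isCompact_iff_compactSpace.mp hV
  have hq : QuasiCompact (U.ι ≫ G.hom) := (quasiCompact_iff_compactSpace _).mpr hcU
  have hc : CompactSpace ↥(pullback (U.ι ≫ G.hom) (V.ι ≫ H.hom)) := inferInstance
  have hr := Scheme.Pullback.range_map (f := U.ι ≫ G.hom) (g := V.ι ≫ H.hom) G.hom H.hom U.ι V.ι
    (𝟙 _) (by simp) (by simp)
  rw [Scheme.Opens.range_ι, Scheme.Opens.range_ι] at hr
  change IsCompact (pullback.fst G.hom H.hom ⁻¹' (U : Set G.left) ∩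
    pullback.snd G.hom H.hom ⁻¹' (V : Set H.left))
  rw [← hr]
  exact isCompact_range (Scheme.Hom.continuous _)

end Groth.Agent.Lib.GrpTopMul45
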