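import Groth.Agent.S0352
import Groth.Agent.Lib.GrpTopMul45

/-!
# Point calculus for subsets of a group scheme over a field (helper45)

For a group scheme `G` over a field `k` (an object of `Over (Spec k)` with `GrpObj`), and subsets
`A B ⊆ |G|` of the underlying space, `mulSet G A B = μ(pr₁⁻¹ A ∩ pr₂⁻¹ B)` is the product set `A · B`.
We develop the calculus of these sets through `T`-valued points (`T ⟶ G` is a group):

* `mul_mem_mulSet`, `exists_of_mem_mulSet` : membership through `T`-points;
* `exists_common` : two `T`-points with a common image point agree after passing to a fibre product;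
* `mulSet_assoc`, `inv_mulSet`, unit laws;
* `isOpen_mulSet_right/left` : `A · B` is open as soon as ONE of the factors is open;
* `IsSubgrpSet` (subsets stable under product and inverse containing the unit) and
  `IsSubgrpSet.isClosed` : an open subgroup-subset is closed.
-/

set_option autoImplicit false
universe u
open CategoryTheory CategoryTheory.Limits MonoidalCategory CartesianMonoidalCategory MonObj GrpObj
  AlgebraicGeometry

namespace Groth.Agent.Lib.GrpTopPts45

variable {k : Type u} [Field k] (G : Over (Spec (CommRingCat.of k))) [GrpObj G]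

/-- The unit point of a group scheme over a field. -/
noncomputable def unitPt : G.left := η[G].left (IsLocalRing.closedPoint k)

/-- `pr₁⁻¹ A ∩ pr₂⁻¹ B ⊆ G ×ₖ G`. -/
def box (A B : Set G.left) : Set (G ⊗ G).left :=
  (fst G G).left ⁻¹' A ∩ (snd G G).left ⁻¹' B

/-- The product set `A · B = μ(pr₁⁻¹ A ∩ pr₂⁻¹ B)`. -/
def mulSet (A B : Set G.left) : Set G.left := μ[G].left '' box G A B

variable {G}

lemma one_left_apply {T : Over (Spec (CommRingCat.of k))} (t : T.left) :
    (1 : T ⟶ G).left t = unitPt G := by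
  rw [Hom.one_def, Over.comp_left, Scheme.Hom.comp_apply]
  congr 1
  exact Subsingleton.elim (α := PrimeSpectrum k) _ _

lemma inv_left_apply {T : Over (Spec (CommRingCat.of k))} (a : T ⟶ G) (t : T.left) :
    (a⁻¹).left t = ι[G].left (a.left t) := by
  rw [Hom.inv_def, Over.comp_left, Scheme.Hom.comp_apply]

omit [GrpObj G] in
lemma comp_left_apply {T T' : Over (Spec (CommRingCat.of k))} (q : T' ⟶ T) (a : T ⟶ G)
    (t : T'.left) : (q ≫ a).left t = a.left (q.left t) := by
  rw [Over.comp_left, Scheme.Hom.comp_apply]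

lemma mul_mem_mulSet {T : Over (Spec (CommRingCat.of k))} (a b : T ⟶ G) (t : T.left)
    {A B : Set G.left} (ha : a.left t ∈ A) (hb : b.left t ∈ B) :
    (a * b).left t ∈ mulSet G A B := by
  refine ⟨(lift a b).left t, ⟨?_, ?_⟩, ?_⟩
  · change (fst G G).left ((lift a b).left t) ∈ A
    rw [← Scheme.Hom.comp_apply, ← Over.comp_left, lift_fst]
    exact ha
  · change (snd G G).left ((lift a b).left t) ∈ B
    rw [← Scheme.Hom.comp_apply, ← Over.comp_left, lift_snd]
    exact hb
  · rw [← Scheme.Hom.comp_apply, ← Over.comp_left, ← Hom.mul_def]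

lemma mul_fst_snd : (fst G G * snd G G : G ⊗ G ⟶ G) = μ[G] := by
  rw [Hom.mul_def]
  have : lift (fst G G) (snd G G) = 𝟙 (G ⊗ G) := by ext <;> simp
  rw [this, Category.id_comp]

/-- Two `T`-points of `G` with a common image point agree on a common refinement. -/
lemma exists_common {T T' X : Over (Spec (CommRingCat.of k))} (a : T ⟶ X) (c : T' ⟶ X)
    (t : T.left) (t' : T'.left) (h : a.left t = c.left t') :
    ∃ (Q : Over (Spec (CommRingCat.of k))) (q : Q ⟶ T) (q' : Q ⟶ T') (z : Q.left),
      q.left z = t ∧ q'.left z = t' ∧ q ≫ a = q' ≫ c := by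
  obtain ⟨z, hz1, hz2⟩ := Scheme.Pullback.exists_preimage_pullback (f := a.left) (g := c.left)
    t t' h
  let Q : Over (Spec (CommRingCat.of k)) := Over.mk (pullback.fst a.left c.left ≫ T.hom)
  let q : Q ⟶ T := Over.homMk (pullback.fst a.left c.left) rfl
  let q' : Q ⟶ T' := Over.homMk (pullback.snd a.left c.left) (by
    change pullback.snd a.left c.left ≫ T'.hom = pullback.fst a.left c.left ≫ T.hom
    rw [← Over.w a, ← Over.w c, pullback.condition_assoc])
  refine ⟨Q, q, q', z, hz1, hz2, ?_⟩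
  ext
  exact pullback.condition

lemma exists_of_mem_mulSet {T : Over (Spec (CommRingCat.of k))} (c : T ⟶ G) (t : T.left)
    {A B : Set G.left} (h : c.left t ∈ mulSet G A B) :
    ∃ (Q : Over (Spec (CommRingCat.of k))) (q : Q ⟶ T) (z : Q.left) (a b : Q ⟶ G),
      q.left z = t ∧ a.left z ∈ A ∧ b.left z ∈ B ∧ q ≫ c = a * b := by
  obtain ⟨s, ⟨hs1, hs2⟩, hs⟩ := h
  obtain ⟨Q, q, q', z, hz1, hz2, hq⟩ := exists_common c μ[G] t s hs.symm
  refine ⟨Q, q, z, q' ≫ fst G G, q' ≫ snd G G, hz1, ?_, ?_, ?_⟩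
  · rw [comp_left_apply, hz2]; exact hs1
  · rw [comp_left_apply, hz2]; exact hs2
  · rw [hq, ← MonObj.comp_mul, mul_fst_snd]

lemma mem_mulSet_iff {x : G.left} {A B : Set G.left} :
    x ∈ mulSet G A B ↔ ∃ (Q : Over (Spec (CommRingCat.of k))) (z : Q.left) (a b : Q ⟶ G),
      a.left z ∈ A ∧ b.left z ∈ B ∧ (a * b).left z = x := by
  constructor
  · rintro ⟨s, ⟨hs1, hs2⟩, rfl⟩
    refine ⟨G ⊗ G, s, fst G G, snd G G, hs1, hs2, ?_⟩
    rw [mul_fst_snd]
  · rintro ⟨Q, z, a, b, ha, hb, rfl⟩
    exact mul_mem_mulSet a b z ha hb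

lemma mulSet_mono {A A' B B' : Set G.left} (hA : A ⊆ A') (hB : B ⊆ B') :
    mulSet G A B ⊆ mulSet G A' B' :=
  Set.image_mono (Set.inter_subset_inter (Set.preimage_mono hA) (Set.preimage_mono hB))

lemma subset_mulSet_right {A B : Set G.left} (hB : unitPt G ∈ B) : A ⊆ mulSet G A B := by
  intro x hx
  have := mul_mem_mulSet (𝟙 G) (1 : G ⟶ G) x (A := A) (B := B) (by simpa using hx)
    (by rw [one_left_apply]; exact hB)
  simpa using this

lemma subset_mulSet_left {A B : Set G.left} (hA : unitPt G ∈ A) : B ⊆ mulSet G A B := by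
  intro x hx
  have := mul_mem_mulSet (1 : G ⟶ G) (𝟙 G) x (A := A) (B := B)
    (by rw [one_left_apply]; exact hA) (by simpa using hx)
  simpa using this

lemma mulSet_assoc_subset (A B C : Set G.left) :
    mulSet G (mulSet G A B) C ⊆ mulSet G A (mulSet G B C) := by
  intro x hx
  obtain ⟨Q, z, a, c, ha, hc, rfl⟩ := mem_mulSet_iff.mp hx
  obtain ⟨Q', q, z', a₁, a₂, hz, h1, h2, hq⟩ := exists_of_mem_mulSet a z ha
  have : (a * c).left z = (a₁ * (a₂ * (q ≫ c))).left z' := by
    rw [← _root_.mul_assoc, ← hq, ← MonObj.comp_mul, comp_left_apply, hz]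
  rw [this]
  refine mul_mem_mulSet _ _ _ h1 (mul_mem_mulSet _ _ _ h2 ?_)
  rw [comp_left_apply, hz]; exact hc

lemma mulSet_assoc_superset (A B C : Set G.left) :
    mulSet G A (mulSet G B C) ⊆ mulSet G (mulSet G A B) C := by
  intro x hx
  obtain ⟨Q, z, a, c, ha, hc, rfl⟩ := mem_mulSet_iff.mp hx
  obtain ⟨Q', q, z', c₁, c₂, hz, h1, h2, hq⟩ := exists_of_mem_mulSet c z hc
  have : (a * c).left z = (((q ≫ a) * c₁) * c₂).left z' := by
    rw [_root_.mul_assoc, ← hq, ← MonObj.comp_mul, comp_left_apply, hz]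
  rw [this]
  refine mul_mem_mulSet _ _ _ (mul_mem_mulSet _ _ _ ?_ h1) h2
  rw [comp_left_apply, hz]; exact ha

lemma mulSet_assoc (A B C : Set G.left) :
    mulSet G (mulSet G A B) C = mulSet G A (mulSet G B C) :=
  (mulSet_assoc_subset A B C).antisymm (mulSet_assoc_superset A B C)

lemma inv_inv_apply (x : G.left) : ι[G].left (ι[G].left x) = x := by
  have h : ι[G] ≫ ι[G] = 𝟙 G := by
    have : ((𝟙 G : G ⟶ G)⁻¹)⁻¹ = 𝟙 G := inv_inv _
    rwa [Hom.inv_def, Hom.inv_def, Category.id_comp] at this
  have := congr(($h).left x)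
  rw [comp_left_apply] at this
  simpa using this

lemma inv_image_eq_preimage (A : Set G.left) : ι[G].left '' A = ι[G].left ⁻¹' A := by
  ext x
  constructor
  · rintro ⟨y, hy, rfl⟩
    change ι[G].left (ι[G].left y) ∈ A
    rwa [inv_inv_apply]
  · intro hx
    exact ⟨ι[G].left x, hx, inv_inv_apply x⟩

lemma inv_unitPt : ι[G].left (unitPt G) = unitPt G := by
  have h1 : ((1 : G ⟶ G)⁻¹).left (unitPt G) = ι[G].left ((1 : G ⟶ G).left (unitPt G)) :=
    inv_left_apply _ _
  rw [_root_.inv_one, one_left_apply] at h1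
  exact h1.symm

lemma inv_mulSet_subset (A B : Set G.left) :
    ι[G].left '' mulSet G A B ⊆ mulSet G (ι[G].left '' B) (ι[G].left '' A) := by
  rintro _ ⟨x, hx, rfl⟩
  obtain ⟨Q, z, a, b, ha, hb, rfl⟩ := mem_mulSet_iff.mp hx
  rw [← inv_left_apply, _root_.mul_inv_rev]
  refine mul_mem_mulSet _ _ _ ?_ ?_
  · rw [inv_left_apply]; exact ⟨_, hb, rfl⟩
  · rw [inv_left_apply]; exact ⟨_, ha, rfl⟩

lemma inv_mulSet (A B : Set G.left) :
    ι[G].left '' mulSet G A B = mulSet G (ι[G].left '' B) (ι[G].left '' A) := by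
  refine (inv_mulSet_subset A B).antisymm ?_
  have h := inv_mulSet_subset (ι[G].left '' B) (ι[G].left '' A)
  have hAA : ι[G].left '' (ι[G].left '' A) = A := by
    rw [Set.image_image]; simp [inv_inv_apply]
  have hBB : ι[G].left '' (ι[G].left '' B) = B := by
    rw [Set.image_image]; simp [inv_inv_apply]
  rw [hAA, hBB] at h
  intro x hx
  refine ⟨ι[G].left x, ?_, inv_inv_apply x⟩
  exact h ⟨x, hx, rfl⟩

lemma isOpen_inv_image {A : Set G.left} (hA : IsOpen A) : IsOpen (ι[G].left '' A) := by
  rw [inv_image_eq_preimage]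
  exact hA.preimage ι[G].left.continuous

lemma isCompact_inv_image {A : Set G.left} (hA : IsCompact A) : IsCompact (ι[G].left '' A) :=
  hA.image ι[G].left.continuous

section translate

/-- `Spec κ(x)` as an object over `k`. -/
noncomputable def ptObj (x : G.left) : Over (Spec (CommRingCat.of k)) :=
  Over.mk (G.left.fromSpecResidueField x ≫ G.hom)

/-- The canonical `κ(x)`-valued point of `G`. -/
noncomputable def ptHom (x : G.left) : ptObj x ⟶ G :=
  Over.homMk (G.left.fromSpecResidueField x) rfl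

omit [GrpObj G] in
lemma ptHom_left_apply (x : G.left) (p : (ptObj x).left) : (ptHom x).left p = x :=
  Scheme.fromSpecResidueField_apply _ _

/-- The unique point of `Spec κ(x)`. -/
noncomputable def ptPt (x : G.left) : (ptObj x).left :=
  (default : Spec (G.left.residueField x))

/-- Left translation by the point `x`: `Spec κ(x) ×ₖ G ⟶ G`, `(p, g) ↦ x · g`. -/
noncomputable def lact (x : G.left) : ptObj x ⊗ G ⟶ G :=
  (fst (ptObj x) G ≫ ptHom x) * snd (ptObj x) G

omit [GrpObj G] in
lemma isOpenMap_snd (P X : Over (Spec (CommRingCat.of k))) : IsOpenMap (snd P X).left := by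
  have h1 : UniversallyOpen P.hom := inferInstance
  have h2 : UniversallyOpen (pullback.snd P.hom X.hom) := inferInstance
  exact (pullback.snd P.hom X.hom).isOpenMap

omit [GrpObj G] in
lemma isOpenMap_fst (X P : Over (Spec (CommRingCat.of k))) : IsOpenMap (fst X P).left := by
  have h1 : UniversallyOpen P.hom := inferInstance
  have h2 : UniversallyOpen (pullback.fst X.hom P.hom) := inferInstance
  exact (pullback.fst X.hom P.hom).isOpenMap

omit [GrpObj G] in
lemma surjective_hom_of_nonempty (P : Over (Spec (CommRingCat.of k))) [Nonempty P.left] :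
    Surjective P.hom :=
  ⟨fun _ => ⟨Classical.arbitrary _, Subsingleton.elim (α := PrimeSpectrum k) _ _⟩⟩

omit [GrpObj G] in
lemma surjective_snd (P X : Over (Spec (CommRingCat.of k))) [Nonempty P.left] :
    Function.Surjective (snd P X).left := by
  have h1 : Surjective P.hom := surjective_hom_of_nonempty P
  have h2 : Surjective (pullback.snd P.hom X.hom) := inferInstance
  exact (pullback.snd P.hom X.hom).surjective

omit [GrpObj G] in
lemma surjective_fst (X P : Over (Spec (CommRingCat.of k))) [Nonempty P.left] :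
    Function.Surjective (fst X P).left := by
  have h1 : Surjective P.hom := surjective_hom_of_nonempty P
  have h2 : Surjective (pullback.fst X.hom P.hom) := inferInstance
  exact (pullback.fst X.hom P.hom).surjective

omit [GrpObj G] in
instance (x : G.left) : Nonempty (ptObj x).left := ⟨ptPt x⟩

omit [GrpObj G] in
lemma isOpenMap_snd_ptObj (x : G.left) : IsOpenMap (snd (ptObj x) G).left :=
  isOpenMap_snd _ _

omit [GrpObj G] in
lemma surjective_snd_ptObj (x : G.left) : Function.Surjective (snd (ptObj x) G).left :=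
  surjective_snd _ _

lemma isOpenMap_lact (x : G.left) : IsOpenMap (lact x).left := by
  have h : lact x = (Groth.Agent.S0352.transl (ptHom x)).hom ≫ snd (ptObj x) G := by
    simp [lact, Groth.Agent.S0352.transl]
  have : IsIso (Groth.Agent.S0352.transl (ptHom x)).hom.left :=
    inferInstanceAs (IsIso ((Over.forget _).map (Groth.Agent.S0352.transl (ptHom x)).hom))
  have htr : IsOpenMap (Groth.Agent.S0352.transl (ptHom x)).hom.left :=
    (Groth.Agent.S0352.transl (ptHom x)).hom.left.homeomorph.isOpenMap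
  rw [h, Over.comp_left, Scheme.Hom.comp_base, TopCat.coe_comp]
  exact (isOpenMap_snd_ptObj x).comp htr

lemma mulSet_singleton_eq (x : G.left) (B : Set G.left) :
    mulSet G {x} B = (lact x).left '' ((snd (ptObj x) G).left ⁻¹' B) := by
  ext y
  constructor
  · intro hy
    obtain ⟨Q, z, a, b, ha, hb, rfl⟩ := mem_mulSet_iff.mp hy
    obtain ⟨Q', q, q', z', hz1, -, hq⟩ := exists_common a (ptHom x) z (ptPt x)
      (by rw [ptHom_left_apply]; exact ha)
    refine ⟨(lift q' (q ≫ b)).left z', ?_, ?_⟩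
    · change (snd (ptObj x) G).left ((lift q' (q ≫ b)).left z') ∈ B
      rw [← Scheme.Hom.comp_apply, ← Over.comp_left, lift_snd, comp_left_apply, hz1]
      exact hb
    · rw [← Scheme.Hom.comp_apply, ← Over.comp_left, lact, MonObj.comp_mul, lift_fst_assoc,
        lift_snd, ← hq, ← MonObj.comp_mul, comp_left_apply, hz1]
  · rintro ⟨s, hs, rfl⟩
    rw [lact]
    exact mul_mem_mulSet _ _ _ (by rw [comp_left_apply, ptHom_left_apply]; rfl) hs

lemma mulSet_eq_biUnion (A B : Set G.left) : mulSet G A B = ⋃ x ∈ A, mulSet G {x} B := by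
  ext y
  simp only [mulSet, box, Set.mem_image, Set.mem_inter_iff, Set.mem_preimage, Set.mem_iUnion,
    Set.mem_singleton_iff, exists_prop]
  constructor
  · rintro ⟨s, ⟨h1, h2⟩, rfl⟩
    exact ⟨_, h1, s, ⟨rfl, h2⟩, rfl⟩
  · rintro ⟨x, hx, s, ⟨h1, h2⟩, rfl⟩
    exact ⟨s, ⟨h1 ▸ hx, h2⟩, rfl⟩

/-- `A · B` is open as soon as `B` is. -/
theorem isOpen_mulSet_right (A : Set G.left) {B : Set G.left} (hB : IsOpen B) :
    IsOpen (mulSet G A B) := by
  rw [mulSet_eq_biUnion]
  refine isOpen_biUnion fun x _ => ?_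
  rw [mulSet_singleton_eq]
  exact isOpenMap_lact x _ (hB.preimage (snd (ptObj x) G).left.continuous)

/-- `A · B` is open as soon as `A` is. -/
theorem isOpen_mulSet_left {A : Set G.left} (hA : IsOpen A) (B : Set G.left) :
    IsOpen (mulSet G A B) := by
  have h := inv_mulSet (ι[G].left '' B) (ι[G].left '' A)
  have hAA : ι[G].left '' (ι[G].left '' A) = A := by
    rw [Set.image_image]; simp [inv_inv_apply]
  have hBB : ι[G].left '' (ι[G].left '' B) = B := by
    rw [Set.image_image]; simp [inv_inv_apply]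
  rw [hAA, hBB] at h
  rw [← h]
  exact isOpen_inv_image (isOpen_mulSet_right _ (isOpen_inv_image hA))

end translate

theorem isCompact_mulSet {A B : Set G.left} (hA : IsCompact A) (hAo : IsOpen A)
    (hB : IsCompact B) (hBo : IsOpen B) : IsCompact (mulSet G A B) :=
  (GrpTopMul45.isCompact_box G G ⟨A, hAo⟩ ⟨B, hBo⟩ hA hB).image μ[G].left.continuous

variable (G) in
/-- Subsets of a group scheme that contain the unit and are stable under product and inverse. -/
structure IsSubgrpSet (W : Set G.left) : Prop where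
  one_mem : unitPt G ∈ W
  mul_mem : mulSet G W W ⊆ W
  inv_mem : ι[G].left '' W ⊆ W

/-- An open subgroup-subset of a group scheme over a field is closed. -/
theorem IsSubgrpSet.isClosed {W : Set G.left} (hW : IsSubgrpSet G W) (ho : IsOpen W) :
    IsClosed W := by
  rw [← isOpen_compl_iff, isOpen_iff_forall_mem_open]
  intro g hg
  refine ⟨mulSet G {g} W, ?_, isOpen_mulSet_right _ ho, subset_mulSet_right hW.one_mem rfl⟩
  intro y hy hyW
  apply hg
  obtain ⟨Q, z, a, b, ha, hb, rfl⟩ := mem_mulSet_iff.mp hy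
  have h1 : a.left z = ((a * b) * b⁻¹).left z := by rw [mul_inv_cancel_right]
  rw [← ha, h1]
  apply hW.mul_mem
  refine mul_mem_mulSet _ _ _ hyW (hW.inv_mem ?_)
  rw [inv_left_apply]
  exact ⟨_, hb, rfl⟩

/-- A subgroup-subset containing an open neighbourhood of the unit is open. -/
theorem IsSubgrpSet.isOpen {W V : Set G.left} (hW : IsSubgrpSet G W) (hV : IsOpen V)
    (h1 : unitPt G ∈ V) (hVW : V ⊆ W) : IsOpen W := by
  have : W = mulSet G W V :=
    (subset_mulSet_right h1).antisymm ((mulSet_mono subset_rfl hVW).trans hW.mul_mem)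
  rw [this]
  exact isOpen_mulSet_right _ hV

section generated

variable (G) in
/-- The squaring sequence `W₀ = W ∪ W⁻¹`, `W_{n+1} = W_n · W_n`, whose union is the subgroup-subset
generated by `W`. -/
noncomputable def sq (W : Set G.left) : ℕ → Set G.left
  | 0 => W ∪ ι[G].left ⁻¹' W
  | (n + 1) => mulSet G (sq W n) (sq W n)

lemma subset_sq_zero (W : Set G.left) : W ⊆ sq G W 0 := Set.subset_union_left

lemma unitPt_mem_sq {W : Set G.left} (h : unitPt G ∈ W) : ∀ n, unitPt G ∈ sq G W n
  | 0 => subset_sq_zero W h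
  | (n + 1) => subset_mulSet_right (unitPt_mem_sq h n) (unitPt_mem_sq h n)

lemma sq_subset_succ {W : Set G.left} (h : unitPt G ∈ W) (n : ℕ) : sq G W n ⊆ sq G W (n + 1) :=
  subset_mulSet_right (unitPt_mem_sq h n)

lemma sq_mono {W : Set G.left} (h : unitPt G ∈ W) : Monotone (sq G W) :=
  monotone_nat_of_le_succ (sq_subset_succ h)

lemma inv_sq (W : Set G.left) : ∀ n, ι[G].left '' sq G W n ⊆ sq G W n
  | 0 => by
    rintro _ ⟨x, hx | hx, rfl⟩
    · right
      change ι[G].left (ι[G].left x) ∈ W
      rwa [inv_inv_apply]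
    · left
      exact hx
  | (n + 1) => by
    change ι[G].left '' mulSet G (sq G W n) (sq G W n) ⊆ mulSet G (sq G W n) (sq G W n)
    rw [inv_mulSet]
    exact mulSet_mono (inv_sq W n) (inv_sq W n)

lemma isOpen_sq {W : Set G.left} (hW : IsOpen W) : ∀ n, IsOpen (sq G W n)
  | 0 => hW.union (hW.preimage ι[G].left.continuous)
  | (n + 1) => isOpen_mulSet_right _ (isOpen_sq hW n)

lemma isCompact_sq {W : Set G.left} (hW : IsOpen W) (hc : IsCompact W) :
    ∀ n, IsCompact (sq G W n)
  | 0 => by
    change IsCompact (W ∪ ι[G].left ⁻¹' W)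
    rw [← inv_image_eq_preimage]
    exact hc.union (isCompact_inv_image hc)
  | (n + 1) => isCompact_mulSet (isCompact_sq hW hc n) (isOpen_sq hW n) (isCompact_sq hW hc n)
      (isOpen_sq hW n)

theorem isSubgrpSet_iUnion_sq {W : Set G.left} (h : unitPt G ∈ W) :
    IsSubgrpSet G (⋃ n, sq G W n) where
  one_mem := Set.mem_iUnion.mpr ⟨0, unitPt_mem_sq h 0⟩
  mul_mem := by
    intro x hx
    obtain ⟨Q, z, a, b, ha, hb, rfl⟩ := mem_mulSet_iff.mp hx
    obtain ⟨n, hn⟩ := Set.mem_iUnion.mp ha
    obtain ⟨m, hm⟩ := Set.mem_iUnion.mp hb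
    refine Set.mem_iUnion.mpr ⟨max n m + 1, ?_⟩
    exact mul_mem_mulSet _ _ _ (sq_mono h (le_max_left n m) hn) (sq_mono h (le_max_right n m) hm)
  inv_mem := by
    rintro _ ⟨x, hx, rfl⟩
    obtain ⟨n, hn⟩ := Set.mem_iUnion.mp hx
    exact Set.mem_iUnion.mpr ⟨n, inv_sq W n ⟨x, hn, rfl⟩⟩

/-- If a property of subsets holds for `W ∪ W⁻¹` and is stable under products, then it holds
for all members of the squaring sequence. -/
lemma sq_induction {W : Set G.left} (P : Set G.left → Prop) (h0 : P (W ∪ ι[G].left ⁻¹' W))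
    (hmul : ∀ A B, P A → P B → P (mulSet G A B)) : ∀ n, P (sq G W n)
  | 0 => h0
  | (n + 1) => hmul _ _ (sq_induction P h0 hmul n) (sq_induction P h0 hmul n)

end generated

end Groth.Agent.Lib.GrpTopPts45
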