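import Groth.Agent.Lib.EqRelQuot
import Groth.Agent.Lib.SheafEpi
import Mathlib.CategoryTheory.Sites.Sheafification
import Mathlib.CategoryTheory.Sites.Limits
import Mathlib.CategoryTheory.Adjunction.Limits

set_option autoImplicit false
open CategoryTheory CategoryTheory.Limits Opposite
universe w v₁ u₁

namespace Groth.Agent.Lib.EqRelSheaf

open Groth.Agent.Lib.EqRelQuot

variable {C : Type u₁} [Category.{v₁} C] (J : GrothendieckTopology C) [HasSheafify J (Type w)]
variable {R X : Sheaf J (Type w)} {p₁ p₂ : R ⟶ X}

instance [JointlyMono₂ p₁ p₂] :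
    JointlyMono₂ ((sheafToPresheaf J (Type w)).map p₁) ((sheafToPresheaf J (Type w)).map p₂) :=
  jointlyMono₂_map _ p₁ p₂

/-- The underlying equivalence relation on presheaves. -/
noncomputable def presheafEqRel (e : EquivalenceRelation p₁ p₂) :
    EquivalenceRelation p₁.hom p₂.hom :=
  have : JointlyMono₂ p₁ p₂ := e.toJointlyMono₂
  equivalenceRelationMap e (sheafToPresheaf J (Type w))

/-- The quotient sheaf. -/
noncomputable def quotSheaf (p₁ p₂ : R ⟶ X) : Sheaf J (Type w) :=
  (presheafToSheaf J (Type w)).obj (quotPresheaf p₁.hom p₂.hom)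

/-- The quotient map. -/
noncomputable def quotSheafπ (p₁ p₂ : R ⟶ X) : X ⟶ quotSheaf J p₁ p₂ :=
  inv ((sheafificationAdjunction J (Type w)).counit.app X) ≫
    (presheafToSheaf J (Type w)).map (quotπ p₁.hom p₂.hom)

theorem sheaf_isKernelPair (e : EquivalenceRelation p₁ p₂) :
    IsKernelPair (quotSheafπ J p₁ p₂) p₁ p₂ := by
  have h : IsPullback ((presheafToSheaf J (Type w)).map p₁.hom)
      ((presheafToSheaf J (Type w)).map p₂.hom)
      ((presheafToSheaf J (Type w)).map (quotπ p₁.hom p₂.hom))
      ((presheafToSheaf J (Type w)).map (quotπ p₁.hom p₂.hom)) :=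
    (presheaf_isKernelPair (presheafEqRel J e)).map (presheafToSheaf J (Type w))
  refine h.of_iso (asIso ((sheafificationAdjunction J (Type w)).counit.app R))
    (asIso ((sheafificationAdjunction J (Type w)).counit.app X))
    (asIso ((sheafificationAdjunction J (Type w)).counit.app X)) (Iso.refl _) ?_ ?_ ?_ ?_
  · exact (sheafificationAdjunction J (Type w)).counit.naturality p₁
  · exact (sheafificationAdjunction J (Type w)).counit.naturality p₂
  · rw [Iso.refl_hom, asIso_hom, quotSheafπ, IsIso.hom_inv_id_assoc]
    exact Category.comp_id _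
  · rw [Iso.refl_hom, asIso_hom, quotSheafπ, IsIso.hom_inv_id_assoc]
    exact Category.comp_id _

theorem sheaf_isPushout (e : EquivalenceRelation p₁ p₂) :
    IsPushout p₁ p₂ (quotSheafπ J p₁ p₂) (quotSheafπ J p₁ p₂) := by
  have h : IsPushout ((presheafToSheaf J (Type w)).map p₁.hom)
      ((presheafToSheaf J (Type w)).map p₂.hom)
      ((presheafToSheaf J (Type w)).map (quotπ p₁.hom p₂.hom))
      ((presheafToSheaf J (Type w)).map (quotπ p₁.hom p₂.hom)) :=
    (presheaf_isPushout (presheafEqRel J e)).map (presheafToSheaf J (Type w))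
  refine h.of_iso (asIso ((sheafificationAdjunction J (Type w)).counit.app R))
    (asIso ((sheafificationAdjunction J (Type w)).counit.app X))
    (asIso ((sheafificationAdjunction J (Type w)).counit.app X)) (Iso.refl _) ?_ ?_ ?_ ?_
  · exact (sheafificationAdjunction J (Type w)).counit.naturality p₁
  · exact (sheafificationAdjunction J (Type w)).counit.naturality p₂
  · rw [Iso.refl_hom, asIso_hom, quotSheafπ, IsIso.hom_inv_id_assoc]
    exact Category.comp_id _
  · rw [Iso.refl_hom, asIso_hom, quotSheafπ, IsIso.hom_inv_id_assoc]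
    exact Category.comp_id _

/-- The effective equivalence relation structure. -/
noncomputable def sheafEER (e : EquivalenceRelation p₁ p₂) :
    EffectiveEquivalenceRelation p₁ p₂ where
  toEquivalenceRelation := e
  B := quotSheaf J p₁ p₂
  π := quotSheafπ J p₁ p₂
  isKernelPair := sheaf_isKernelPair J e
  isPushout := sheaf_isPushout J e

/-- Equivalence relations on sheaves of sets are universally effective. -/
noncomputable def sheafUEER (e : EquivalenceRelation p₁ p₂) :
    UniversallyEffectiveEquivalenceRelation p₁ p₂ where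
  toEffectiveEquivalenceRelation := sheafEER J e
  universally_effectiveEpi_π := by
    have : IsRegularEpi (sheafEER J e).π := inferInstance
    have : Epi (sheafEER J e).π := inferInstance
    exact Groth.Agent.Lib.SheafEpi.uee_of_epi J _

end Groth.Agent.Lib.EqRelSheaf
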