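/-
helper43: quotient sheaves of groups `G/H` (right translations), abstractly.

* `ToposLike E`: the two properties of epimorphisms in a topos used below (local lifting of
  generalized elements along epis, elementwise descent of maps along epis).
* `IsGrpQuot u π`: `π : G ⟶ Q` is "the quotient of `G` by the subgroup `u : H ⟶ G`" (epi, effective,
  invariant).
* `existsUnique_act`: unique `G`-action on `G/H` making `π` equivariant.
* `existsUnique_grpObj`: for normal `H`, unique group structure on `G/H` making `π` a hom.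
* `toposLike_sheaf`, `isGrpQuot_sheaf`: the instantiation for `Sheaf J (Type w)`.
-/
import Mathlib.CategoryTheory.Sites.CartesianMonoidal
import Mathlib.CategoryTheory.Sites.Sheafification
import Mathlib.CategoryTheory.Sites.Limits
import Mathlib.CategoryTheory.Monoidal.Cartesian.Grp
import Mathlib.CategoryTheory.Monoidal.Grp
import Mathlib.CategoryTheory.Limits.Shapes.Equalizers
import Mathlib.Tactic.Group
import Groth.Agent.Lib.EqRelSheaf
import Groth.Agent.Lib.SheafEpi

set_option autoImplicit false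
open CategoryTheory CategoryTheory.Limits MonoidalCategory
universe w v₁ u₁

namespace Groth.Agent.Lib.H43QuotGrp
open MonObj CartesianMonoidalCategory SemiCartesianMonoidalCategory

section Gen

variable {E : Type*} [Category E] [CartesianMonoidalCategory E]
variable {A B : E} [GrpObj A] [GrpObj B] (j : B ⟶ A)

/-- right multiplication action -/
abbrev ract : A ⊗ B ⟶ A := (A ◁ j) ≫ μ

omit [GrpObj B] in
theorem lift_ract {T : E} (a : T ⟶ A) (b : T ⟶ B) : lift a b ≫ ract j = a * (b ≫ j) := by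
  unfold ract
  rw [Hom.mul_def, ← Category.assoc]
  congr 1
  ext <;> simp

omit [GrpObj B] in
theorem comp_ract {T : E} (u : T ⟶ A ⊗ B) : u ≫ ract j = (u ≫ fst A B) * (u ≫ snd A B ≫ j) := by
  have h : u = lift (u ≫ fst A B) (u ≫ snd A B) := by ext <;> simp
  conv_lhs => rw [h]
  rw [lift_ract, Category.assoc]

omit [GrpObj B] in
theorem ract_eq : ract j = fst A B * (snd A B ≫ j) := by
  have h := comp_ract j (𝟙 (A ⊗ B))
  rwa [Category.id_comp, Category.id_comp, Category.id_comp] at h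

omit [GrpObj A] [GrpObj B] in
theorem lift_comp_of {X Y X' Y' T : E} (t : X ⊗ Y ⟶ X' ⊗ Y') (p : X ⟶ X') (q : Y ⟶ Y')
    (h1 : t ≫ fst X' Y' = fst X Y ≫ p) (h2 : t ≫ snd X' Y' = snd X Y ≫ q) (a : T ⟶ X) (c : T ⟶ Y) :
    lift a c ≫ t = lift (a ≫ p) (c ≫ q) := by
  ext
  · rw [Category.assoc, h1, ← Category.assoc, lift_fst, lift_fst]
  · rw [Category.assoc, h2, ← Category.assoc, lift_snd, lift_snd]

variable [Mono j] [IsMonHom j]

omit [GrpObj B] [IsMonHom j] in
theorem jointlyMono_ract : JointlyMono₂ (fst A B) (ract j) where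
  right_cancellation Y f g h₁ h₂ := by
    rw [comp_ract, comp_ract, h₁] at h₂
    have h3 : f ≫ snd A B ≫ j = g ≫ snd A B ≫ j := mul_left_cancel h₂
    have h4 : f ≫ snd A B = g ≫ snd A B := by
      rw [← cancel_mono j, Category.assoc, Category.assoc, h3]
    ext
    · exact h₁
    · exact h4

/-- The equivalence relation on `A` given by right translation by `B`. -/
noncomputable def eqRel [HasPullbacks E] : EquivalenceRelation (fst A B) (ract j) where
  toJointlyMono₂ := jointlyMono_ract j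
  r := lift (𝟙 A) 1
  reflexivity₁ := by simp
  reflexivity₂ := by
    rw [lift_ract, MonObj.one_comp, _root_.mul_one]
  s := lift (ract j) (snd A B)⁻¹
  symmetry₁ := by simp
  symmetry₂ := by
    rw [lift_ract, ract_eq, GrpObj.inv_comp, _root_.mul_assoc, mul_inv_cancel, _root_.mul_one]
  c := pullback.cone (ract j) (fst A B)
  isLimit := pullback.isLimit (ract j) (fst A B)
  t := lift (pullback.fst (ract j) (fst A B) ≫ fst A B)
    ((pullback.fst (ract j) (fst A B) ≫ snd A B) * (pullback.snd (ract j) (fst A B) ≫ snd A B))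
  transitivity₁ := by
    simp
  transitivity₂ := by
    change _ = pullback.snd (ract j) (fst A B) ≫ ract j
    rw [lift_ract, MonObj.mul_comp, ← _root_.mul_assoc, comp_ract (u := pullback.snd (ract j) (fst A B)),
      ← pullback.condition, comp_ract, Category.assoc, Category.assoc]

end Gen

section Abs

variable {E : Type*} [Category E]

/-- The two topos-like properties of epimorphisms used below: local lifting of generalized
elements along epimorphisms, and elementwise descent of morphisms along epimorphisms. -/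
structure ToposLike (E : Type*) [Category E] : Prop where
  locLift : ∀ {X Y T : E} (p : X ⟶ Y) [Epi p] (x : T ⟶ Y),
    ∃ (T' : E) (e : T' ⟶ T) (_ : Epi e) (a : T' ⟶ X), a ≫ p = e ≫ x
  desc : ∀ {X Y Z : E} (q : X ⟶ Y) [Epi q] (s : X ⟶ Z),
    (∀ {T : E} (x y : T ⟶ X), x ≫ q = y ≫ q → x ≫ s = y ≫ s) → ∃ t : Y ⟶ Z, q ≫ t = s

variable [CartesianMonoidalCategory E]

theorem ToposLike.epi_tensorHom (tl : ToposLike E) {X Y X' Y' : E} (p : X ⟶ Y) (q : X' ⟶ Y')
    [Epi p] [Epi q] : Epi (p ⊗ₘ q) := by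
  obtain ⟨T₁, e₁, _, a, ha⟩ := tl.locLift p (fst Y Y')
  obtain ⟨T₂, e₂, _, c, hc⟩ := tl.locLift q (e₁ ≫ snd Y Y')
  have h : lift (e₂ ≫ a) c ≫ (p ⊗ₘ q) = e₂ ≫ e₁ := by
    ext
    · simp [ha]
    · simp [hc]
  have : Epi (e₂ ≫ e₁) := epi_comp' inferInstance inferInstance
  have : Epi (lift (e₂ ≫ a) c ≫ (p ⊗ₘ q)) := by rw [h]; infer_instance
  exact epi_of_epi (lift (e₂ ≫ a) c) (p ⊗ₘ q)

theorem ToposLike.epi_whiskerLeft (tl : ToposLike E) (A : E) {X Y : E} (p : X ⟶ Y) [Epi p] :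
    Epi (A ◁ p) := by
  rw [← id_tensorHom]
  exact tl.epi_tensorHom _ _

theorem ToposLike.epi_whiskerRight (tl : ToposLike E) (A : E) {X Y : E} (p : X ⟶ Y) [Epi p] :
    Epi (p ▷ A) := by
  rw [← tensorHom_id]
  exact tl.epi_tensorHom _ _

/-- `π : G ⟶ Q` behaves like the quotient of the group object `G` by the subgroup `u : H ⟶ G`
acting by right translations. -/
structure IsGrpQuot {G H Q : E} [GrpObj G] [GrpObj H] (u : H ⟶ G) (π : G ⟶ Q) : Prop where
  epi : Epi π
  eff : ∀ {T : E} (a a' : T ⟶ G), a ≫ π = a' ≫ π → ∃ b : T ⟶ H, a' = a * (b ≫ u)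
  mul_π : ∀ {T : E} (a : T ⟶ G) (b : T ⟶ H), (a * (b ≫ u)) ≫ π = a ≫ π

omit [CartesianMonoidalCategory E] in
theorem hom_ext_points {A B : E} (f g : A ⟶ B) (h : ∀ (T : E) (x : T ⟶ A), x ≫ f = x ≫ g) : f = g := by
  simpa using h A (𝟙 A)

theorem comp_mul_eq {G T : E} [MonObj G] (x : T ⟶ G ⊗ G) : x ≫ μ = (x ≫ fst G G) * (x ≫ snd G G) := by
  rw [MonObj.mul_eq_mul, MonObj.comp_mul]

variable {G H Q : E} [GrpObj G] [GrpObj H] (u : H ⟶ G) (π : G ⟶ Q)

/-- `G/H` carries exactly one `G`-action making `π` equivariant. -/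
theorem existsUnique_act (tl : ToposLike E) (hQ : IsGrpQuot u π) :
    ∃! act : G ⊗ Q ⟶ Q, (η ▷ Q) ≫ act = (λ_ Q).hom ∧
      (μ ▷ Q) ≫ act = (α_ G G Q).hom ≫ (G ◁ act) ≫ act ∧ μ ≫ π = (G ◁ π) ≫ act := by
  have := hQ.epi
  have e1 : Epi (G ◁ π) := tl.epi_whiskerLeft _ _
  have e2 : Epi (𝟙_ E ◁ π) := tl.epi_whiskerLeft _ _
  have e3 : Epi ((G ⊗ G) ◁ π) := tl.epi_whiskerLeft _ _
  obtain ⟨act, hact⟩ := tl.desc (G ◁ π) (μ ≫ π) (by
    intro T x y hxy
    have h1 : x ≫ fst _ _ = y ≫ fst _ _ := by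
      simpa using congrArg (fun m => m ≫ fst _ _) hxy
    have h2 : (x ≫ snd _ _) ≫ π = (y ≫ snd _ _) ≫ π := by
      simpa using congrArg (fun m => m ≫ snd _ _) hxy
    obtain ⟨b, hb⟩ := hQ.eff _ _ h2
    rw [← Category.assoc, ← Category.assoc, comp_mul_eq, comp_mul_eq, ← h1, hb, ← _root_.mul_assoc,
      hQ.mul_π])
  refine ⟨act, ⟨?_, ?_, hact.symm⟩, ?_⟩
  · rw [← cancel_epi (𝟙_ E ◁ π), ← Category.assoc, whisker_exchange, Category.assoc, hact,
      ← Category.assoc, MonObj.one_mul, leftUnitor_naturality]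
  · have h1 : (G ◁ G ◁ π) ≫ (G ◁ act) = (G ◁ μ) ≫ (G ◁ π) := by
      rw [← whiskerLeft_comp, hact, whiskerLeft_comp]
    rw [← cancel_epi ((G ⊗ G) ◁ π), ← Category.assoc, whisker_exchange, Category.assoc, hact,
      ← Category.assoc, MonObj.mul_assoc, ← Category.assoc ((G ⊗ G) ◁ π), associator_naturality_right]
    simp only [Category.assoc]
    rw [← Category.assoc (G ◁ G ◁ π), h1, Category.assoc, hact]
  · rintro act' ⟨-, -, h3⟩
    rw [← cancel_epi (G ◁ π), hact, ← h3]


/-- For a normal subgroup, `G/H` carries exactly one group structure making `π` a homomorphism. -/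
theorem existsUnique_grpObj (tl : ToposLike E) [IsMonHom u] (hQ : IsGrpQuot u π)
    (hn : ∀ (Y : E) (g : Y ⟶ G) (h : Y ⟶ H), ∃ h' : Y ⟶ H, g * (h ≫ u) * g⁻¹ = h' ≫ u) :
    ∃! str : GrpObj Q, @IsMonHom E _ _ G Q _ str.toMonObj π := by
  have := hQ.epi
  have e2 : Epi (π ⊗ₘ π) := tl.epi_tensorHom π π
  have e3 : Epi ((π ⊗ₘ π) ⊗ₘ π) := tl.epi_tensorHom _ π
  have e4 : Epi (𝟙_ E ◁ π) := tl.epi_whiskerLeft _ _
  have e5 : Epi (π ▷ 𝟙_ E) := tl.epi_whiskerRight _ _
  obtain ⟨mulQ, hmul⟩ := tl.desc (π ⊗ₘ π) (μ ≫ π) (by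
    intro T x y hxy
    have h1 : (x ≫ fst _ _) ≫ π = (y ≫ fst _ _) ≫ π := by
      simpa using congrArg (fun m => m ≫ fst _ _) hxy
    have h2 : (x ≫ snd _ _) ≫ π = (y ≫ snd _ _) ≫ π := by
      simpa using congrArg (fun m => m ≫ snd _ _) hxy
    obtain ⟨b₁, hb₁⟩ := hQ.eff _ _ h1
    obtain ⟨b₂, hb₂⟩ := hQ.eff _ _ h2
    obtain ⟨b', hb'⟩ := hn T (x ≫ snd _ _)⁻¹ b₁
    have h3 : (y ≫ fst _ _) * (y ≫ snd _ _) =
        ((x ≫ fst _ _) * (x ≫ snd _ _)) * ((b' * b₂) ≫ u) := by
      rw [MonObj.mul_comp, ← hb', hb₁, hb₂]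
      group
    rw [← Category.assoc, ← Category.assoc, comp_mul_eq, comp_mul_eq, h3, hQ.mul_π])
  obtain ⟨invQ, hinv⟩ := tl.desc π (ι ≫ π) (by
    intro T x y hxy
    obtain ⟨b, hb⟩ := hQ.eff _ _ hxy
    obtain ⟨b', hb'⟩ := hn T x b⁻¹
    have h3 : y⁻¹ = x⁻¹ * (b' ≫ u) := by
      rw [← hb', hb, GrpObj.inv_comp]
      group
    rw [← Category.assoc, ← Category.assoc, ← Hom.inv_def, ← Hom.inv_def, h3, hQ.mul_π])
  have K : ∀ {A B : E} (f : A ⟶ G) (g : B ⟶ G),
      ((f ≫ π) ⊗ₘ (g ≫ π)) ≫ mulQ = (f ⊗ₘ g) ≫ μ ≫ π := by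
    intro A B f g
    rw [← tensorHom_comp_tensorHom, Category.assoc, hmul]
  let str : GrpObj Q :=
    { one := η ≫ π
      mul := mulQ
      one_mul := by
        rw [← cancel_epi (𝟙_ E ◁ π), ← Category.assoc, whisker_exchange, comp_whiskerRight,
          Category.assoc, Category.assoc, ← tensorHom_def_assoc, hmul, ← Category.assoc,
          MonObj.one_mul, leftUnitor_naturality]
      mul_one := by
        rw [← cancel_epi (π ▷ 𝟙_ E), ← Category.assoc, ← whisker_exchange,
          MonoidalCategory.whiskerLeft_comp,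
          Category.assoc, Category.assoc, ← tensorHom_def'_assoc, hmul, ← Category.assoc,
          MonObj.mul_one, rightUnitor_naturality]
      mul_assoc := by
        rw [← cancel_epi ((π ⊗ₘ π) ⊗ₘ π)]
        have hl : ((π ⊗ₘ π) ⊗ₘ π) ≫ (mulQ ▷ Q) = ((μ ≫ π) ⊗ₘ (𝟙 G ≫ π)) := by
          rw [tensorHom_comp_whiskerRight, hmul, Category.id_comp]
        have hr : (π ⊗ₘ (π ⊗ₘ π)) ≫ (Q ◁ mulQ) = ((𝟙 G ≫ π) ⊗ₘ (μ ≫ π)) := by
          rw [tensorHom_comp_whiskerLeft, hmul, Category.id_comp]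
        rw [← Category.assoc, hl, K, associator_naturality_assoc, ← Category.assoc _ (Q ◁ mulQ), hr, K,
          tensorHom_id, id_tensorHom, ← Category.assoc, MonObj.mul_assoc]
        simp only [Category.assoc]
      inv := invQ
      left_inv := by
        rw [← cancel_epi π, ← Category.assoc, comp_lift, hinv, Category.comp_id]
        have : lift (ι ≫ π) π = lift ι (𝟙 G) ≫ (π ⊗ₘ π) := by
          rw [lift_map, Category.id_comp]
        rw [this, Category.assoc, hmul, GrpObj.left_inv_assoc, ← Category.assoc π, comp_toUnit]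
      right_inv := by
        rw [← cancel_epi π, ← Category.assoc, comp_lift, hinv, Category.comp_id]
        have : lift π (ι ≫ π) = lift (𝟙 G) ι ≫ (π ⊗ₘ π) := by
          rw [lift_map, Category.id_comp]
        rw [this, Category.assoc, hmul, GrpObj.right_inv_assoc, ← Category.assoc π, comp_toUnit] }
  refine ⟨str, ⟨rfl, hmul.symm⟩, ?_⟩
  intro str' hstr'
  apply GrpObj.ext
  apply MonObj.ext
  have h1 := @IsMonHom.mul_hom E _ _ G Q _ str'.toMonObj π hstr'
  change str'.mul = mulQ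
  rw [← cancel_epi (π ⊗ₘ π), hmul, ← h1]

end Abs

section Sh

variable {C : Type u₁} [Category.{v₁} C] (J : GrothendieckTopology C) [HasSheafify J (Type w)]
variable {A B : Sheaf J (Type w)} [hA : GrpObj A] [hB : GrpObj B] (j : B ⟶ A) [Mono j]
  (hj : @IsMonHom (Sheaf J (Type w)) _ _ B A hB.toMonObj hA.toMonObj j)

include hj in
/-- For a subgroup sheaf, `A × B ⇉ A` is the kernel pair of `A ⟶ A/B`. -/
theorem isKernelPair_π :
    IsKernelPair (coequalizer.π (fst A B) (ract j)) (fst A B) (ract j) := by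
  have := hj
  let E := Groth.Agent.Lib.EqRelSheaf.sheafEER J (eqRel j)
  let φ : E.B ⟶ coequalizer (fst A B) (ract j) :=
    E.isPushout.desc (coequalizer.π _ _) (coequalizer.π _ _) (coequalizer.condition _ _)
  have hφ : E.π ≫ φ = coequalizer.π _ _ := E.isPushout.inl_desc _ _ _
  let ψ : coequalizer (fst A B) (ract j) ⟶ E.B := coequalizer.desc E.π E.isPushout.w
  have hψ : coequalizer.π _ _ ≫ ψ = E.π := coequalizer.π_desc _ _
  have hφψ : φ ≫ ψ = 𝟙 _ := by
    apply E.isPushout.hom_ext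
    · rw [← Category.assoc, hφ, hψ, Category.comp_id]
    · rw [← Category.assoc, hφ, hψ, Category.comp_id]
  have : IsSplitMono φ := ⟨⟨⟨ψ, hφψ⟩⟩⟩
  have hk : IsKernelPair (E.π ≫ φ) (fst A B) (ract j) := E.isKernelPair.comp_of_mono
  rw [hφ] at hk
  exact hk

include hj in
/-- effectivity in terms of generalized elements -/
theorem exists_of_π_eq {T : Sheaf J (Type w)} (a a' : T ⟶ A)
    (h : a ≫ coequalizer.π (fst A B) (ract j) = a' ≫ coequalizer.π (fst A B) (ract j)) :
    ∃ b : T ⟶ B, a' = a * (b ≫ j) := by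
  have hk := isKernelPair_π J j hj
  refine ⟨hk.lift a a' h ≫ snd A B, ?_⟩
  have h1 : hk.lift a a' h ≫ fst A B = a := hk.lift_fst _ _ _
  have h2 : hk.lift a a' h ≫ ract j = a' := hk.lift_snd _ _ _
  calc a' = hk.lift a a' h ≫ ract j := h2.symm
    _ = a * ((hk.lift a a' h ≫ snd A B) ≫ j) := by rw [comp_ract, h1, Category.assoc]

omit hB [Mono j] in
theorem mul_π {T : Sheaf J (Type w)} (a : T ⟶ A) (b : T ⟶ B) :
    (a * (b ≫ j)) ≫ coequalizer.π (fst A B) (ract j) = a ≫ coequalizer.π (fst A B) (ract j) := by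
  rw [← lift_ract, Category.assoc, ← coequalizer.condition, ← Category.assoc, lift_fst]

/-- local lifting along an epimorphism -/
theorem exists_local_lift {X Y T : Sheaf J (Type w)} (p : X ⟶ Y) [Epi p] (x : T ⟶ Y) :
    ∃ (T' : Sheaf J (Type w)) (e : T' ⟶ T) (_ : Epi e) (a : T' ⟶ X), a ≫ p = e ≫ x := by
  refine ⟨pullback x p, pullback.fst x p, ?_, pullback.snd x p, pullback.condition.symm⟩
  exact Groth.Agent.Lib.SheafEpi.epi_of_isPullback J (IsPullback.of_hasPullback x p)


/-- The category of sheaves of sets is topos-like. -/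
theorem toposLike_sheaf : ToposLike (Sheaf J (Type w)) where
  locLift p _ x := exists_local_lift J p x
  desc {X Y Z} q _ s h := by
    have hreg : RegularEpi q := regularEpiOfEpi q
    exact ⟨Cofork.IsColimit.desc hreg.isColimit s (h hreg.left hreg.right hreg.w),
      Cofork.IsColimit.π_desc' hreg.isColimit _ _⟩

include hj in
theorem isGrpQuot_sheaf : IsGrpQuot j (coequalizer.π (fst A B) (ract j)) where
  epi := coequalizer.π_epi
  eff a a' h := exists_of_π_eq J j hj a a' h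
  mul_π a b := mul_π J j a b

end Sh
end Groth.Agent.Lib.H43QuotGrp

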