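/-
helper43: quotient sheaves of groups, part 2 (continues Lib/H43QuotGrp):
subgroups of `G/H` correspond to subgroups of `G` containing `H` (`subgroup_correspondence`),
abstractly in a cartesian monoidal category with `ToposLike` + `HasImFac`;
`exists_grpObj_of_mono`, `exists_grpObj_of_isPullback`, `ToposLike.exists_grpObj_image`,
`ToposLike.factors_of_locally`, `ToposLike.epi_of_isPullback`, `ToposLike.le_of_pullback_le`,
`hasImFac_sheaf`.
-/
import Groth.Agent.Lib.H43QuotGrp
import Mathlib.CategoryTheory.Subobject.Basic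
import Mathlib.CategoryTheory.Sites.Subsheaf

set_option autoImplicit false
open CategoryTheory CategoryTheory.Limits MonoidalCategory
universe w v₁ u₁

namespace Groth.Agent.Lib.H43QuotGrp
open MonObj CartesianMonoidalCategory SemiCartesianMonoidalCategory

section Abs2

variable {E : Type*} [Category E]

theorem ToposLike.factors_of_locally (tl : ToposLike E) {I Y T T' : E} (m : I ⟶ Y) [Mono m]
    (x : T ⟶ Y) (e : T' ⟶ T) [Epi e] (a : T' ⟶ I) (h : a ≫ m = e ≫ x) :
    ∃ b : T ⟶ I, b ≫ m = x := by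
  obtain ⟨b, hb⟩ := tl.desc e a (by
    intro S p q hpq
    rw [← cancel_mono m, Category.assoc, Category.assoc, h, ← Category.assoc, hpq, Category.assoc])
  refine ⟨b, ?_⟩
  rw [← cancel_epi e, ← Category.assoc, hb, h]

theorem ToposLike.epi_of_isPullback (tl : ToposLike E) {P X Y Z : E} {fst : P ⟶ X} {snd : P ⟶ Y}
    {f : X ⟶ Z} {g : Y ⟶ Z} (sq : IsPullback fst snd f g) [Epi g] : Epi fst := by
  obtain ⟨T', e, _, a, ha⟩ := tl.locLift g f
  have h : sq.lift e a ha.symm ≫ fst = e := sq.lift_fst _ _ _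
  have : Epi (sq.lift e a ha.symm ≫ fst) := by rw [h]; infer_instance
  exact epi_of_epi (sq.lift e a ha.symm) fst

variable [CartesianMonoidalCategory E]

/-- A subobject of a group object closed under unit, multiplication and inverse is a group
object. -/
theorem exists_grpObj_of_mono {K G : E} [GrpObj G] (i : K ⟶ G) [Mono i] (e : 𝟙_ E ⟶ K)
    (he : e ≫ i = η) (m : K ⊗ K ⟶ K) (hm : m ≫ i = (i ⊗ₘ i) ≫ μ) (v : K ⟶ K)
    (hv : v ≫ i = i ≫ ι) :
    ∃ str : GrpObj K, @IsMonHom E _ _ K G str.toMonObj _ i := by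
  let str : GrpObj K :=
    { one := e
      mul := m
      one_mul := by
        rw [← cancel_mono i, Category.assoc, hm, ← Category.assoc, whiskerRight_comp_tensorHom, he,
          ← leftUnitor_naturality, ← MonObj.one_mul G, ← Category.assoc, ← tensorHom_def']
      mul_one := by
        rw [← cancel_mono i, Category.assoc, hm, ← Category.assoc, whiskerLeft_comp_tensorHom, he,
          ← rightUnitor_naturality, ← MonObj.mul_one G, ← Category.assoc, ← tensorHom_def]
      mul_assoc := by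
        rw [← cancel_mono i]
        simp only [Category.assoc]
        rw [hm, ← Category.assoc (m ▷ K), whiskerRight_comp_tensorHom, hm,
          ← Category.assoc (K ◁ m), whiskerLeft_comp_tensorHom, hm,
          ← tensorHom_comp_whiskerRight, ← tensorHom_comp_whiskerLeft, Category.assoc,
          MonObj.mul_assoc, associator_naturality_assoc, Category.assoc]
      inv := v
      left_inv := by
        rw [← cancel_mono i, Category.assoc, hm, ← Category.assoc, lift_map, hv, Category.id_comp,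
          Category.assoc, he, ← comp_toUnit i, Category.assoc, ← GrpObj.left_inv G,
          ← Category.assoc, comp_lift, Category.comp_id]
      right_inv := by
        rw [← cancel_mono i, Category.assoc, hm, ← Category.assoc, lift_map, hv, Category.id_comp,
          Category.assoc, he, ← comp_toUnit i, Category.assoc, ← GrpObj.right_inv G,
          ← Category.assoc, comp_lift, Category.comp_id] }
  exact ⟨str, ⟨he, hm⟩⟩

/-- The preimage of a subgroup under a homomorphism is a subgroup. -/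
theorem exists_grpObj_of_isPullback {P G K' Q : E} [GrpObj G] [GrpObj K'] [GrpObj Q]
    (π : G ⟶ Q) [IsMonHom π] (i' : K' ⟶ Q) [Mono i'] [IsMonHom i'] (p₂ : P ⟶ K') (p₁ : P ⟶ G)
    (sq : IsPullback p₂ p₁ i' π) :
    ∃ (_ : Mono p₁) (str : GrpObj P), @IsMonHom E _ _ P G str.toMonObj _ p₁ := by
  have hm : Mono p₁ := sq.mono_snd_of_mono
  refine ⟨hm, ?_⟩
  refine exists_grpObj_of_mono p₁
    (sq.lift η η (by rw [IsMonHom.one_hom, IsMonHom.one_hom])) (sq.lift_snd _ _ _)
    (sq.lift ((p₂ ⊗ₘ p₂) ≫ μ) ((p₁ ⊗ₘ p₁) ≫ μ) (by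
      rw [Category.assoc, Category.assoc, IsMonHom.mul_hom, IsMonHom.mul_hom,
        tensorHom_comp_tensorHom_assoc, tensorHom_comp_tensorHom_assoc, sq.w]))
    (sq.lift_snd _ _ _)
    (sq.lift (p₂ ≫ ι) (p₁ ≫ ι) (by
      rw [Category.assoc, Category.assoc, GrpObj.inv_hom, GrpObj.inv_hom, ← Category.assoc,
        ← Category.assoc, sq.w]))
    (sq.lift_snd _ _ _)

/-- The image of a homomorphism of group objects is a subgroup. -/
theorem ToposLike.exists_grpObj_image (tl : ToposLike E) {K I Q : E} [GrpObj K] [GrpObj Q]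
    (f : K ⟶ Q) [IsMonHom f] (e : K ⟶ I) [Epi e] (m : I ⟶ Q) [Mono m] (h : e ≫ m = f) :
    ∃ str : GrpObj I, @IsMonHom E _ _ I Q str.toMonObj _ m := by
  have e2 : Epi (e ⊗ₘ e) := tl.epi_tensorHom e e
  have hf2 : (e ⊗ₘ e) ≫ (m ⊗ₘ m) = f ⊗ₘ f := by rw [tensorHom_comp_tensorHom, h]
  obtain ⟨mI, hmI⟩ := tl.desc (e ⊗ₘ e) (μ ≫ e) (by
    intro T x y hxy
    rw [← cancel_mono m]
    simp only [Category.assoc]
    rw [h, IsMonHom.mul_hom, ← hf2, Category.assoc, ← Category.assoc x, hxy, Category.assoc])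
  obtain ⟨vI, hvI⟩ := tl.desc e (ι ≫ e) (by
    intro T x y hxy
    rw [← cancel_mono m]
    simp only [Category.assoc]
    rw [h, GrpObj.inv_hom, ← h, Category.assoc, ← Category.assoc x, hxy, Category.assoc])
  refine exists_grpObj_of_mono m (η ≫ e) (by rw [Category.assoc, h, IsMonHom.one_hom]) mI ?_ vI ?_
  · rw [← cancel_epi (e ⊗ₘ e), ← Category.assoc, hmI, Category.assoc, h, IsMonHom.mul_hom,
      ← Category.assoc, hf2]
  · rw [← cancel_epi e, ← Category.assoc, hvI, Category.assoc, h, GrpObj.inv_hom, ← h,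
      Category.assoc]

/-- Existence of (epi, mono) factorisations. -/
def HasImFac (E : Type*) [Category E] : Prop :=
  ∀ {X Y : E} (f : X ⟶ Y), ∃ (I : E) (e : X ⟶ I) (m : I ⟶ Y), Epi e ∧ Mono m ∧ e ≫ m = f

omit [CartesianMonoidalCategory E] in
/-- Pulling back subobjects along an epimorphism reflects the order. -/
theorem ToposLike.le_of_pullback_le [HasPullbacks E] (tl : ToposLike E) {G Q : E} (π : G ⟶ Q) [Epi π]
    (K₁ K₂ : Subobject Q) (hle : (Subobject.pullback π).obj K₁ ≤ (Subobject.pullback π).obj K₂) :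
    K₁ ≤ K₂ := by
  have sq₁ := Subobject.isPullback π K₁
  have sq₂ := Subobject.isPullback π K₂
  have epi1 : Epi (Subobject.pullbackπ π K₁) := tl.epi_of_isPullback sq₁
  obtain ⟨b, hb⟩ := tl.factors_of_locally K₂.arrow K₁.arrow (Subobject.pullbackπ π K₁)
    (Subobject.ofLE _ _ hle ≫ Subobject.pullbackπ π K₂) (by
      rw [Category.assoc, sq₂.w, ← Category.assoc, Subobject.ofLE_arrow, sq₁.w])
  exact Subobject.le_of_comm b hb

variable {G H Q : E} [GrpObj G] [GrpObj H] (u : H ⟶ G) (π : G ⟶ Q)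

theorem subgroup_correspondence [HasPullbacks E] (tl : ToposLike E) (im : HasImFac E) [Mono u]
    (hQ : IsGrpQuot u π) [hQg : GrpObj Q] (hπ : IsMonHom π) :
    Set.BijOn (Subobject.pullback π).obj
      {K' : Subobject Q | ∃ str : GrpObj (K' : E), @IsMonHom E _ _ _ _ str.toMonObj _ K'.arrow}
      {K : Subobject G | Subobject.mk u ≤ K ∧
        ∃ str : GrpObj (K : E), @IsMonHom E _ _ _ _ str.toMonObj _ K.arrow} ∧
    ∀ (K' : Subobject Q) (str' : GrpObj (K' : E))
      (str : GrpObj ((Subobject.pullback π).obj K' : E)),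
      @IsMonHom E _ _ _ _ str'.toMonObj _ K'.arrow →
      @IsMonHom E _ _ _ _ str.toMonObj _ ((Subobject.pullback π).obj K').arrow →
      ((∀ (Y : E) (g : Y ⟶ Q) (k : Y ⟶ (K' : E)),
          ∃ k' : Y ⟶ (K' : E), g * (k ≫ K'.arrow) * g⁻¹ = k' ≫ K'.arrow) ↔
        (∀ (Y : E) (g : Y ⟶ G) (k : Y ⟶ ((Subobject.pullback π).obj K' : E)),
          ∃ k' : Y ⟶ ((Subobject.pullback π).obj K' : E),
            g * (k ≫ ((Subobject.pullback π).obj K').arrow) * g⁻¹ =
              k' ≫ ((Subobject.pullback π).obj K').arrow)) := by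
  have := hQ.epi
  have F0 : u ≫ π = toUnit H ≫ η := by
    have h1 := hQ.mul_π (1 : H ⟶ G) (𝟙 H)
    rw [Category.id_comp, _root_.one_mul, MonObj.one_comp] at h1
    rw [h1, Hom.one_def]
  refine ⟨⟨?_, ?_, ?_⟩, ?_⟩
  · -- MapsTo
    rintro K' ⟨str', hstr'⟩
    have sq := Subobject.isPullback π K'
    refine ⟨?_, ?_⟩
    · refine Subobject.mk_le_of_comm (sq.lift (toUnit H ≫ η) u ?_) (sq.lift_snd _ _ _)
      rw [Category.assoc, IsMonHom.one_hom, F0]
    · obtain ⟨_, str, hstr⟩ := exists_grpObj_of_isPullback π K'.arrow _ _ sq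
      exact ⟨str, hstr⟩
  · -- InjOn
    rintro K₁ - K₂ - h12
    exact le_antisymm (tl.le_of_pullback_le π K₁ K₂ h12.le) (tl.le_of_pullback_le π K₂ K₁ h12.ge)
  · -- SurjOn
    rintro K ⟨hle, str, hstr⟩
    have hf : IsMonHom (K.arrow ≫ π) := inferInstance
    obtain ⟨I, e, m, he, hm, hfac⟩ := im (K.arrow ≫ π)
    have he' : Epi (e ≫ (Subobject.underlyingIso m).inv) := epi_comp' he inferInstance
    have hfac' : (e ≫ (Subobject.underlyingIso m).inv) ≫ (Subobject.mk m).arrow = K.arrow ≫ π := by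
      rw [Category.assoc, Subobject.underlyingIso_arrow, hfac]
    refine ⟨Subobject.mk m, ?_, ?_⟩
    · exact tl.exists_grpObj_image (K.arrow ≫ π) (e ≫ (Subobject.underlyingIso m).inv)
        (Subobject.mk m).arrow hfac'
    · have sq := Subobject.isPullback π (Subobject.mk m)
      apply le_antisymm
      · obtain ⟨T', ε, _, k, hk⟩ := tl.locLift (e ≫ (Subobject.underlyingIso m).inv)
          (Subobject.pullbackπ π (Subobject.mk m))
        have h1 : (k ≫ K.arrow) ≫ π = (ε ≫ ((Subobject.pullback π).obj (Subobject.mk m)).arrow) ≫ π := by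
          rw [Category.assoc, ← hfac', ← Category.assoc, hk, Category.assoc, Category.assoc, sq.w]
        obtain ⟨b, hb⟩ := hQ.eff _ _ h1
        obtain ⟨b', hb'⟩ := tl.factors_of_locally K.arrow
          ((Subobject.pullback π).obj (Subobject.mk m)).arrow ε
          (k * (b ≫ Subobject.ofMkLE u K hle)) (by
            rw [MonObj.mul_comp, Category.assoc, Subobject.ofMkLE_arrow, hb])
        exact Subobject.le_of_comm b' hb'
      · exact Subobject.le_of_comm (sq.lift (e ≫ (Subobject.underlyingIso m).inv) K.arrow hfac')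
          (sq.lift_snd _ _ _)
  · -- normality
    intro K' str' str hstr' hstr
    have sq := Subobject.isPullback π K'
    constructor
    · intro hN Y g k
      obtain ⟨k'', hk''⟩ := hN Y (g ≫ π) (k ≫ Subobject.pullbackπ π K')
      refine ⟨sq.lift k'' (g * (k ≫ ((Subobject.pullback π).obj K').arrow) * g⁻¹) ?_,
        (sq.lift_snd _ _ _).symm⟩
      rw [← hk'', MonObj.mul_comp, MonObj.mul_comp, GrpObj.inv_comp, Category.assoc, Category.assoc,
        sq.w]
    · intro hN Y g k
      have epi2 : Epi (Subobject.pullbackπ π K') := tl.epi_of_isPullback sq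
      obtain ⟨Y₁, e₁, _, g', hg'⟩ := tl.locLift π g
      obtain ⟨Y₂, e₂, _, κ, hκ⟩ := tl.locLift (Subobject.pullbackπ π K') (e₁ ≫ k)
      obtain ⟨κ', hκ'⟩ := hN Y₂ (e₂ ≫ g') κ
      have : Epi (e₂ ≫ e₁) := epi_comp' inferInstance inferInstance
      obtain ⟨b, hb⟩ := tl.factors_of_locally K'.arrow (g * (k ≫ K'.arrow) * g⁻¹) (e₂ ≫ e₁)
        (κ' ≫ Subobject.pullbackπ π K') (by
          rw [Category.assoc, sq.w, ← Category.assoc, ← hκ', MonObj.mul_comp, MonObj.mul_comp,
            GrpObj.inv_comp, Category.assoc, Category.assoc, hg', ← sq.w, ← Category.assoc κ, hκ,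
            MonObj.comp_mul, MonObj.comp_mul, GrpObj.comp_inv]
          simp only [Category.assoc])
      exact ⟨b, hb.symm⟩

end Abs2

section Sh2

variable {C : Type u₁} [Category.{v₁} C] (J : GrothendieckTopology C)

theorem hasImFac_sheaf : HasImFac (Sheaf J (Type w)) := fun f =>
  ⟨Sheaf.image f, Sheaf.toImage f, Sheaf.imageι f, inferInstance, inferInstance, Sheaf.toImage_ι f⟩

end Sh2
end Groth.Agent.Lib.H43QuotGrp

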