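import Groth.Agent.Lib.SchDomProd45
import Groth.Agent.Lib.H43QuotGrp2
import Groth.Agent.Lib.GrpTopPts45
import Groth.Agent.Lib.ConstrOpen45
import Mathlib.AlgebraicGeometry.Morphisms.FinitePresentation
import Mathlib.AlgebraicGeometry.Noetherian

/-!
# The scheme-theoretic image of a homomorphism of group schemes over a field (helper45)

`f : H ⟶ G` a quasi-compact homomorphism of group schemes over a field `k`, `H --g--> K --i--> G`
with `i` a closed immersion and `g` scheme-theoretically dominant and quasi-compact. Then `K` is a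
closed subgroup scheme (`exists_div`, `exists_grpObj`), and `g` is surjective when `H`, `K` are
locally of finite type (`surjective_of_denseRange`).
-/

set_option autoImplicit false
set_option linter.unusedSectionVars false
universe u
open CategoryTheory CategoryTheory.Limits MonoidalCategory CartesianMonoidalCategory MonObj GrpObj
  AlgebraicGeometry
open Groth.Agent.Lib.GrpTopPts45

namespace Groth.Agent.Lib.SchImageGrp45

variable {k : Type u} [Field k] {H G K : Over (Spec (CommRingCat.of k))}

section closedSubgroup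

variable [GrpObj H] [GrpObj G]
  (f : H ⟶ G) [IsMonHom f] (i : K ⟶ G) [IsClosedImmersion i.left] (g : H ⟶ K) (hgi : g ≫ i = f)
  [QuasiCompact g.left] [IsSchemeTheoreticallyDominant g.left]

include hgi in
theorem exists_div : ∃ d : K ⊗ K ⟶ K, d ≫ i = (fst K K ≫ i)⁻¹ * (snd K K ≫ i) := by
  set m : K ⊗ K ⟶ G := (fst K K ≫ i)⁻¹ * (snd K K ≫ i) with hm
  have hcomm : (g ⊗ₘ g) ≫ m = (((fst H H)⁻¹ * snd H H) ≫ g) ≫ i := by
    rw [Category.assoc, hgi, MonObj.mul_comp, GrpObj.inv_comp, hm, MonObj.comp_mul,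
      GrpObj.comp_inv, ← Category.assoc, tensorHom_fst, ← Category.assoc, tensorHom_snd,
      Category.assoc, Category.assoc, hgi]
  let c : pullback m i ⟶ K ⊗ K := pullback.fst m i
  have sq : IsPullback c.left (pullback.snd m i).left m.left i.left :=
    (IsPullback.of_hasPullback m i).map (Over.forget _)
  have hc : IsClosedImmersion c.left :=
    MorphismProperty.of_isPullback (P := @IsClosedImmersion) sq.flip inferInstance
  let t : H ⊗ H ⟶ pullback m i := pullback.lift (g ⊗ₘ g) (((fst H H)⁻¹ * snd H H) ≫ g) hcomm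
  have ht : t ≫ c = g ⊗ₘ g := pullback.lift_fst _ _ _
  have hdom : IsSchemeTheoreticallyDominant (t.left ≫ c.left) := by
    rw [← Over.comp_left, ht]
    exact Groth.Agent.Lib.SchDomProd45.schDominant_tensorHom g g
  have hiso : IsIso c.left :=
    Groth.Agent.Lib.SchDomProd45.isIso_of_isClosedImmersion_of_factor c.left t.left hdom
  have hiso' : IsIso c := by
    have : IsIso ((Over.forget _).map c) := hiso
    exact isIso_of_reflects_iso c (Over.forget _)
  refine ⟨inv c ≫ pullback.snd m i, ?_⟩
  rw [Category.assoc, ← pullback.condition, IsIso.inv_hom_id_assoc]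

include hgi in
/-- `K(T)` is stable under `(k₁, k₂) ↦ k₁⁻¹ k₂`. -/
theorem exists_inv_mul (T : Over (Spec (CommRingCat.of k))) (k₁ k₂ : T ⟶ K) :
    ∃ k₃ : T ⟶ K, k₃ ≫ i = (k₁ ≫ i)⁻¹ * (k₂ ≫ i) := by
  obtain ⟨d, hd⟩ := exists_div f i g hgi
  refine ⟨lift k₁ k₂ ≫ d, ?_⟩
  rw [Category.assoc, hd, MonObj.comp_mul, GrpObj.comp_inv, ← Category.assoc, lift_fst,
    ← Category.assoc, lift_snd]

include hgi in
theorem exists_unit : ∃ e : 𝟙_ (Over (Spec (CommRingCat.of k))) ⟶ K, e ≫ i = η[G] :=
  ⟨η[H] ≫ g, by rw [Category.assoc, hgi, IsMonHom.one_hom]⟩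

omit [GrpObj H] [GrpObj G] in
lemma mono_of_isClosedImmersion : Mono i := by
  have : Mono ((Over.forget _).map i) := (inferInstance : Mono i.left)
  exact (Over.forget _).mono_of_mono_map this

include hgi in
/-- `K` is a group scheme and `i`, `g` are homomorphisms. -/
theorem exists_grpObj : ∃ (_ : GrpObj K), IsMonHom i ∧ IsMonHom g := by
  have hmono : Mono i := mono_of_isClosedImmersion i
  obtain ⟨e, he⟩ := exists_unit f i g hgi
  obtain ⟨v, hv⟩ := exists_inv_mul f i g hgi K (𝟙 K) (toUnit K ≫ e)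
  have hv' : v ≫ i = i ≫ ι[G] := by
    rw [hv, Category.id_comp, Category.assoc, he, ← Hom.one_def, _root_.mul_one, Hom.inv_def]
  obtain ⟨mm, hmm⟩ := exists_inv_mul f i g hgi (K ⊗ K) (fst K K ≫ v) (snd K K)
  have hmm' : mm ≫ i = (i ⊗ₘ i) ≫ μ[G] := by
    rw [hmm, Category.assoc, hv', ← Category.assoc, ← Hom.inv_def, _root_.inv_inv, Hom.mul_def]
    congr 1
  obtain ⟨str, hstr⟩ := Groth.Agent.Lib.H43QuotGrp.exists_grpObj_of_mono i e he mm hmm' v hv'
  refine ⟨str, hstr, ?_⟩
  constructor
  · rw [← cancel_mono i, Category.assoc, hgi, IsMonHom.one_hom, IsMonHom.one_hom]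
  · rw [← cancel_mono i, Category.assoc, hgi, Category.assoc, IsMonHom.mul_hom,
      IsMonHom.mul_hom, ← Category.assoc, tensorHom_comp_tensorHom, hgi]

end closedSubgroup

section range

variable [GrpObj H] [GrpObj K] (g : H ⟶ K) [IsMonHom g]

/-- The set-theoretic image of a homomorphism is a subgroup-subset. -/
theorem isSubgrpSet_range : IsSubgrpSet K (Set.range g.left) where
  one_mem := by
    let pt : (𝟙_ (Over (Spec (CommRingCat.of k)))).left := IsLocalRing.closedPoint k
    refine ⟨η[H].left pt, ?_⟩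
    change g.left (η[H].left pt) = η[K].left pt
    rw [← Scheme.Hom.comp_apply, ← Over.comp_left, IsMonHom.one_hom]
  inv_mem := by
    rintro _ ⟨_, ⟨h, rfl⟩, rfl⟩
    refine ⟨ι[H].left h, ?_⟩
    rw [← Scheme.Hom.comp_apply, ← Over.comp_left, GrpObj.inv_hom, Over.comp_left,
      Scheme.Hom.comp_apply]
  mul_mem := by
    intro x hx
    obtain ⟨Q, z, a, b, ⟨h₁, ha⟩, ⟨h₂, hb⟩, rfl⟩ := mem_mulSet_iff.mp hx
    obtain ⟨Q₁, q₁, q₁', z₁, hz₁, -, e₁⟩ := exists_common a g z h₁ ha.symm
    have hb' : (q₁ ≫ b).left z₁ = g.left h₂ := by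
      rw [comp_left_apply, hz₁, hb]
    obtain ⟨Q₂, q₂, q₂', z₂, hz₂, -, e₂⟩ := exists_common (q₁ ≫ b) g z₁ h₂ hb'
    refine ⟨((q₂ ≫ q₁') * q₂').left z₂, ?_⟩
    rw [← Scheme.Hom.comp_apply, ← Over.comp_left, MonObj.mul_comp, Category.assoc, ← e₁, ← e₂,
      ← Category.assoc, ← Category.assoc, ← MonObj.comp_mul, comp_left_apply, comp_left_apply,
      hz₂, hz₁]

end range

section openSubset

/-- A dominant quasi-compact morphism locally of finite type to a nonempty locally Noetherian
scheme contains a nonempty open subset in its image. -/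
theorem exists_open_subset_range {X Y : Scheme.{u}} (f : X ⟶ Y) [LocallyOfFiniteType f]
    [QuasiCompact f] [IsLocallyNoetherian Y] [Nonempty Y] (hd : DenseRange f) :
    ∃ V : Set Y, IsOpen V ∧ V.Nonempty ∧ V ⊆ Set.range f := by
  obtain ⟨y⟩ := ‹Nonempty Y›
  let A : Y.Opens := (Y.affineCover.f (Y.affineCover.idx y)).opensRange
  have hA : IsAffineOpen A := isAffineOpen_opensRange _
  have hyA : y ∈ A := Y.affineCover.covers y
  have : IsAffine A.toScheme := hA
  have hN : IsNoetherian A.toScheme := {}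
  have hlfp : LocallyOfFinitePresentation (f ∣_ A) :=
    LocallyOfFinitePresentation.iff_locallyOfFiniteType.mpr inferInstance
  have hE : Topology.IsConstructible (Set.range (f ∣_ A)) := by
    have := (f ∣_ A).isConstructible_image (s := Set.univ) Topology.IsConstructible.univ
    rwa [Set.image_univ] at this
  have hEeq : Set.range (f ∣_ A) = Subtype.val ⁻¹' (Set.range f) := by
    ext a
    constructor
    · rintro ⟨x, rfl⟩
      exact ⟨x.1, (morphismRestrict_base_coe f A x).symm⟩
    · rintro ⟨x, hx⟩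
      have hxA : x ∈ f ⁻¹ᵁ A := by
        change f x ∈ A
        rw [hx]; exact a.2
      let x' : (f ⁻¹ᵁ A).toScheme := ⟨x, hxA⟩
      exact ⟨x', Subtype.ext ((morphismRestrict_base_coe f A x').trans hx)⟩
  have hdense : Dense (Set.range (f ∣_ A)) := by
    rw [hEeq]
    exact hd.preimage A.2.isOpenMap_subtype_val
  have hne : (Set.range (f ∣_ A)).Nonempty := by
    have : Nonempty A.toScheme := ⟨⟨y, hyA⟩⟩
    exact hdense.nonempty
  obtain ⟨U, hU, hUne, hUE⟩ :=
    Groth.Agent.Lib.ConstrOpen45.exists_open_inter_closure_subset hE hne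
  rw [hdense.closure_eq, Set.inter_univ] at hUne hUE
  refine ⟨Subtype.val '' U, A.2.isOpenMap_subtype_val U hU, hUne.image _, ?_⟩
  rintro _ ⟨a, ha, rfl⟩
  have := hUE ha
  rw [hEeq] at this
  exact this

end openSubset

section surj

variable [GrpObj H] [GrpObj K] (g : H ⟶ K) [IsMonHom g]

/-- A dominant quasi-compact homomorphism of locally algebraic groups over a field is
surjective. -/
theorem surjective_of_denseRange [LocallyOfFiniteType H.hom] [LocallyOfFiniteType K.hom]
    [QuasiCompact g.left] (hd : DenseRange g.left) : Function.Surjective g.left := by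
  have hW := isSubgrpSet_range g
  have hlft : LocallyOfFiniteType g.left := by
    have h1 : LocallyOfFiniteType (g.left ≫ K.hom) := by rw [Over.w]; infer_instance
    exact locallyOfFiniteType_of_comp g.left K.hom
  have hLN : IsLocallyNoetherian K.left := LocallyOfFiniteType.isLocallyNoetherian K.hom
  have hne : Nonempty K.left := ⟨unitPt K⟩
  obtain ⟨V₀, hV₀, ⟨v, hv⟩, hV₀W⟩ := exists_open_subset_range g.left hd
  have hιv : ι[K].left v ∈ Set.range g.left := hW.inv_mem ⟨v, hV₀W hv, rfl⟩
  have hV₁W : mulSet K {ι[K].left v} V₀ ⊆ Set.range g.left :=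
    (mulSet_mono (Set.singleton_subset_iff.mpr hιv) hV₀W).trans hW.mul_mem
  have h1 : unitPt K ∈ mulSet K {ι[K].left v} V₀ := by
    have h := mul_mem_mulSet (𝟙 K)⁻¹ (𝟙 K) v (A := {ι[K].left v}) (B := V₀)
      (by rw [inv_left_apply]; simp) (by simpa using hv)
    rwa [inv_mul_cancel, one_left_apply] at h
  have hopen : IsOpen (Set.range g.left) :=
    hW.isOpen (isOpen_mulSet_right _ hV₀) h1 hV₁W
  have hclosed : IsClosed (Set.range g.left) := hW.isClosed hopen
  have huniv : Set.range g.left = Set.univ := by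
    rw [← hclosed.closure_eq]
    exact hd.closure_eq
  exact Set.range_eq_univ.mp huniv

end surj

end Groth.Agent.Lib.SchImageGrp45
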