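import Groth.Agent.Lib.GrpTopPts45
import Groth.Agent.Lib.SchImageGrp45

set_option autoImplicit false
set_option linter.unusedSectionVars false
universe u
open CategoryTheory CategoryTheory.Limits MonoidalCategory CartesianMonoidalCategory MonObj GrpObj
  AlgebraicGeometry
open Groth.Agent.Lib.GrpTopPts45

namespace Groth.Agent.Lib.ImmClosed45

variable {k : Type u} [Field k] {G : Over (Spec (CommRingCat.of k))} [GrpObj G]

lemma mulSet_eq_biUnion_right (A B : Set G.left) : mulSet G A B = ⋃ y ∈ B, mulSet G A {y} := by
  ext z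
  simp only [mulSet, box, Set.mem_image, Set.mem_inter_iff, Set.mem_preimage, Set.mem_iUnion,
    Set.mem_singleton_iff, exists_prop]
  constructor
  · rintro ⟨s, ⟨h1, h2⟩, rfl⟩
    exact ⟨_, h2, s, ⟨h1, rfl⟩, rfl⟩
  · rintro ⟨x, hx, s, ⟨h1, h2⟩, rfl⟩
    exact ⟨s, ⟨h1, h2 ▸ hx⟩, rfl⟩

lemma inv_image_closure (A : Set G.left) : ι[G].left '' closure A = closure (ι[G].left '' A) := by
  apply subset_antisymm
  · exact image_closure_subset_closure_image ι[G].left.continuous
  · have h1 : ι[G].left '' closure (ι[G].left '' A) ⊆ closure (ι[G].left '' (ι[G].left '' A)) :=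
      image_closure_subset_closure_image ι[G].left.continuous
    have hAA : ι[G].left '' (ι[G].left '' A) = A := by
      rw [Set.image_image]; simp [inv_inv_apply]
    rw [hAA] at h1
    intro x hx
    exact ⟨ι[G].left x, h1 ⟨x, hx, rfl⟩, inv_inv_apply x⟩

lemma mulSet_singleton_closure (x : G.left) (B : Set G.left) :
    mulSet G {x} (closure B) ⊆ closure (mulSet G {x} B) := by
  rw [mulSet_singleton_eq, mulSet_singleton_eq,
    (isOpenMap_snd_ptObj x).preimage_closure_eq_closure_preimage
      (snd (ptObj x) G).left.continuous]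
  exact image_closure_subset_closure_image (lact x).left.continuous

lemma mulSet_closure_singleton (A : Set G.left) (y : G.left) :
    mulSet G (closure A) {y} ⊆ closure (mulSet G A {y}) := by
  have h1 : ι[G].left '' mulSet G (closure A) {y} ⊆ closure (ι[G].left '' mulSet G A {y}) := by
    rw [inv_mulSet, inv_mulSet, Set.image_singleton, inv_image_closure]
    exact mulSet_singleton_closure _ _
  rw [← inv_image_closure] at h1
  intro z hz
  obtain ⟨w, hw, hwz⟩ := h1 ⟨z, hz, rfl⟩
  have : w = z := by
    have := congrArg ι[G].left hwz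
    rwa [inv_inv_apply, inv_inv_apply] at this
  rwa [← this]

lemma mulSet_closure_closure (A B : Set G.left) :
    mulSet G (closure A) (closure B) ⊆ closure (mulSet G A B) := by
  rw [mulSet_eq_biUnion]
  refine Set.iUnion₂_subset fun x hx => ?_
  refine (mulSet_singleton_closure x B).trans ?_
  apply closure_minimal _ isClosed_closure
  have h2 : mulSet G {x} B ⊆ mulSet G (closure A) B :=
    mulSet_mono (Set.singleton_subset_iff.mpr hx) subset_rfl
  refine h2.trans ?_
  rw [mulSet_eq_biUnion_right]
  refine Set.iUnion₂_subset fun y hy => ?_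
  refine (mulSet_closure_singleton A y).trans ?_
  exact closure_mono (mulSet_mono subset_rfl (Set.singleton_subset_iff.mpr hy))

/-- The closure of a subgroup-subset is a subgroup-subset. -/
theorem isSubgrpSet_closure {W : Set G.left} (hW : IsSubgrpSet G W) :
    IsSubgrpSet G (closure W) where
  one_mem := subset_closure hW.one_mem
  mul_mem := (mulSet_closure_closure W W).trans (closure_mono hW.mul_mem)
  inv_mem := by
    rw [inv_image_closure]
    exact closure_mono hW.inv_mem

/-- A locally closed subgroup-subset is closed. -/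
theorem isClosed_of_isLocallyClosed {W : Set G.left} (hW : IsSubgrpSet G W)
    (hlc : IsLocallyClosed W) : IsClosed W := by
  obtain ⟨O, Z, hO, hZ, rfl⟩ := hlc
  set W := O ∩ Z with hWdef
  have hC := isSubgrpSet_closure hW
  have hWC : W = O ∩ closure W := by
    apply subset_antisymm
    · exact fun x hx => ⟨hx.1, subset_closure hx⟩
    · rintro x ⟨hxO, hxC⟩
      exact ⟨hxO, (closure_minimal Set.inter_subset_right hZ) hxC⟩
  suffices h : closure W ⊆ W by
    rw [← (subset_closure.antisymm h : W = closure W).symm]
    exact isClosed_closure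
  intro x hx
  -- `x · O` is an open neighbourhood of `x`
  have hxO : x ∈ mulSet G {x} O := subset_mulSet_right (hWC ▸ hW.one_mem : unitPt G ∈ O ∩ _).1 rfl
  have hopen : IsOpen (mulSet G {x} O) := isOpen_mulSet_right _ hO
  obtain ⟨y, hyO, hyW⟩ := mem_closure_iff.mp hx _ hopen hxO
  obtain ⟨Q, z, a, b, ha, hb, rfl⟩ := mem_mulSet_iff.mp hyO
  have ha' : a.left z = x := ha
  -- `b z ∈ O ∩ closure W = W`
  have hbC : b.left z ∈ closure W := by
    have h1 : b.left z = (a⁻¹ * (a * b)).left z := by rw [inv_mul_cancel_left]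
    rw [h1]
    apply hC.mul_mem
    refine mul_mem_mulSet _ _ _ (hC.inv_mem ?_) (subset_closure hyW)
    rw [inv_left_apply, ha']
    exact ⟨x, hx, rfl⟩
  have hbW : b.left z ∈ W := by rw [hWC]; exact ⟨hb, hbC⟩
  have h2 : a.left z = ((a * b) * b⁻¹).left z := by rw [mul_inv_cancel_right]
  rw [← ha', h2]
  apply hW.mul_mem
  refine mul_mem_mulSet _ _ _ hyW (hW.inv_mem ?_)
  rw [inv_left_apply]
  exact ⟨_, hbW, rfl⟩

/-- A homomorphism of group schemes over a field which is an immersion has closed image. -/
theorem isClosed_range_of_isImmersion {H : Over (Spec (CommRingCat.of k))} [GrpObj H]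
    (u : H ⟶ G) [IsMonHom u] [IsImmersion u.left] : IsClosed (Set.range u.left) :=
  isClosed_of_isLocallyClosed (Groth.Agent.Lib.SchImageGrp45.isSubgrpSet_range u)
    (IsImmersion.isLocallyClosed_range (f := u.left))

theorem isClosedImmersion_of_isImmersion {H : Over (Spec (CommRingCat.of k))} [GrpObj H]
    (u : H ⟶ G) [IsMonHom u] [IsImmersion u.left] : IsClosedImmersion u.left :=
  IsClosedImmersion.of_isPreimmersion u.left (isClosed_range_of_isImmersion u)

end Groth.Agent.Lib.ImmClosed45
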