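import Groth.Agent.Lib.GrpDenseArt45
import Groth.Agent.Lib.ImmClosed45

set_option autoImplicit false
set_option linter.unusedSectionVars false
universe u
open CategoryTheory CategoryTheory.Limits MonoidalCategory CartesianMonoidalCategory MonObj GrpObj
  AlgebraicGeometry

namespace Groth.Agent.Lib.ArtinTransfer45

variable (A : Type u) [CommRing A] [IsArtinianRing A] [IsLocalRing A]

/-- `Spec κ ⟶ Spec A`. -/
noncomputable def j : Spec (CommRingCat.of (IsLocalRing.ResidueField A)) ⟶ Spec (CommRingCat.of A) :=
  Spec.map (CommRingCat.ofHom (IsLocalRing.residue A))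

instance : IsClosedImmersion (j A) :=
  IsClosedImmersion.spec_of_surjective _ IsLocalRing.residue_surjective

instance : Surjective (j A) := by
  refine ⟨fun y => ⟨IsLocalRing.closedPoint _, ?_⟩⟩
  have := Groth.Agent.Lib.GrpDenseArt45.subsingleton_primeSpectrum (A := A)
  exact Subsingleton.elim (α := PrimeSpectrum A) _ _

variable {A}

open scoped CategoryTheory.Obj

section
variable (G : Over (Spec (CommRingCat.of A)))

/-- The projection `G ×_A κ ⟶ G`. -/
noncomputable abbrev π : ((Over.pullback (j A)).obj G).left ⟶ G.left := pullback.fst G.hom (j A)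

instance : IsClosedImmersion (π G) := inferInstanceAs (IsClosedImmersion (pullback.fst G.hom (j A)))

instance : Surjective (π G) := inferInstanceAs (Surjective (pullback.fst G.hom (j A)))

lemma isClosedMap_π : IsClosedMap (π G) := (π G).isClosedEmbedding.isClosedMap

variable {G}
variable {H : Over (Spec (CommRingCat.of A))} (u : H ⟶ G)

lemma map_π : ((Over.pullback (j A)).map u).left ≫ π G = π H ≫ u.left := by
  simp only [π, Over.pullback_map_left]
  exact pullback.lift_fst _ _ _

lemma map_snd : ((Over.pullback (j A)).map u).left ≫ pullback.snd G.hom (j A) =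
    pullback.snd H.hom (j A) := by
  simp only [Over.pullback_map_left]
  exact pullback.lift_snd _ _ _

lemma isPullback_map_π :
    IsPullback (π H) ((Over.pullback (j A)).map u).left u.left (π G) := by
  refine IsPullback.of_bot (v₂₁ := pullback.snd G.hom (j A)) (v₂₂ := G.hom) (h₃₁ := j A) ?_
    (map_π u).symm (IsPullback.of_hasPullback G.hom (j A))
  rw [map_snd, Over.w u]
  exact IsPullback.of_hasPullback H.hom (j A)

lemma range_eq_image : Set.range u.left = (π G) '' Set.range ((Over.pullback (j A)).map u).left := by
  have h1 : Set.range u.left = Set.range (π H ≫ u.left) := by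
    rw [Scheme.Hom.comp_base, TopCat.coe_comp, Set.range_comp,
      Set.range_eq_univ.mpr (π H).surjective, Set.image_univ]
  rw [h1, ← map_π, Scheme.Hom.comp_base, TopCat.coe_comp, Set.range_comp]

section grp
variable [GrpObj G] [GrpObj H] [IsMonHom u]

/-- A homomorphism of group schemes over a local artinian ring which is an immersion is a closed
immersion. -/
theorem isClosedImmersion_of_isImmersion [IsImmersion u.left] : IsClosedImmersion u.left := by
  have himm : IsImmersion ((Over.pullback (j A)).map u).left :=
    MorphismProperty.of_isPullback (P := @IsImmersion) (isPullback_map_π u) inferInstance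
  have hcl := Groth.Agent.Lib.ImmClosed45.isClosed_range_of_isImmersion
    ((Over.pullback (j A)).map u)
  apply IsClosedImmersion.of_isPreimmersion
  rw [range_eq_image]
  exact isClosedMap_π G _ hcl

end grp

end

end Groth.Agent.Lib.ArtinTransfer45
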