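import Groth.Agent.Lib.ArtinianFlat
import Mathlib.RingTheory.Flat.Localization
import Mathlib.RingTheory.Flat.Stability
import Mathlib.RingTheory.Spectrum.Prime.Noetherian
import Mathlib.RingTheory.Spectrum.Prime.Topology
import Mathlib.RingTheory.IsTensorProduct
import Mathlib.LinearAlgebra.FreeModule.Basic

/-!
# Universal flattening ideal over an Artinian ring (helper88)

For an Artinian ring `A` and an `A`-module `N` there is an ideal `I` such that for every
`A`-algebra `A'` the base change `A' ⊗ N` is flat over `A'` iff `I A' = 0`.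
-/

set_option autoImplicit false
set_option linter.unusedSectionVars false
universe u v

namespace Groth.Agent.Lib.ArtinianFlatten88

open TensorProduct Function IsLocalRing

section General

variable {R : Type*} [CommRing R] {F Q : Type*} [AddCommGroup F] [Module R F]
  [AddCommGroup Q] [Module R Q]

/-- If `F / K` is flat then `K ∩ 𝔞 F = 𝔞 K`. -/
theorem ker_inf_smul_le [Module.Flat R Q] (g : F →ₗ[R] Q) (hg : Surjective g) (𝔞 : Ideal R) :
    LinearMap.ker g ⊓ 𝔞 • (⊤ : Submodule R F) ≤ 𝔞 • LinearMap.ker g := by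
  intro y hy
  have hinj : Injective ((LinearMap.ker g).subtype.lTensor (R ⧸ 𝔞)) :=
    Groth.Agent.Lib.ArtinianFlat.lTensor_injective_of_flat_quotient
      (Submodule.subtype_injective _) (LinearMap.exact_subtype_ker_map g) hg (R ⧸ 𝔞)
  have h1 : (TensorProduct.mk R (R ⧸ 𝔞) F 1) y = 0 := by
    rw [← LinearMap.mem_ker, LinearMap.ker_tensorProductMk]
    exact hy.2
  have h2 : (TensorProduct.mk R (R ⧸ 𝔞) (LinearMap.ker g) 1) ⟨y, hy.1⟩ = 0 := by
    apply hinj
    rw [map_zero, TensorProduct.mk_apply, LinearMap.lTensor_tmul]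
    exact h1
  rw [← LinearMap.mem_ker, LinearMap.ker_tensorProductMk] at h2
  have h3 : (LinearMap.ker g).subtype ⟨y, hy.1⟩ ∈
      (𝔞 • (⊤ : Submodule R (LinearMap.ker g))).map (LinearMap.ker g).subtype :=
    Submodule.mem_map_of_mem h2
  rwa [Submodule.map_smul'', Submodule.map_subtype_top] at h3

/-- nilpotent Nakayama for a submodule: `K ≤ 𝔞 K` with `𝔞` nilpotent forces `K = 0`. -/
theorem eq_bot_of_le_smul_of_isNilpotent (𝔞 : Ideal R) (h𝔞 : IsNilpotent 𝔞) (K : Submodule R F)
    (hK : K ≤ 𝔞 • K) : K = ⊥ := by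
  obtain ⟨n, hn⟩ := h𝔞
  have key : ∀ i : ℕ, K ≤ 𝔞 ^ i • K := by
    intro i
    induction i with
    | zero => simp
    | succ i ih =>
      calc K ≤ 𝔞 • K := hK
        _ ≤ 𝔞 • (𝔞 ^ i • K) := Submodule.smul_mono le_rfl ih
        _ = 𝔞 ^ (i + 1) • K := by rw [← Submodule.mul_smul, ← pow_succ']
  have := key n
  rw [hn, Ideal.zero_eq_bot, Submodule.bot_smul] at this
  exact eq_bot_iff.mpr this

end General

section Local

variable {A : Type u} [CommRing A] [IsLocalRing A]
  (N : Type u) [AddCommGroup N] [Module A N]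

theorem exists_flattening_ideal_local (hnil : IsNilpotent (maximalIdeal A)) :
    ∃ I : Ideal A, ∀ (A' : Type u) [CommRing A'] [Algebra A A'],
      Module.Flat A' (A' ⊗[A] N) ↔ I.map (algebraMap A A') = ⊥ := by
  classical
  let k := ResidueField A
  let b := Module.Free.chooseBasis k (k ⊗[A] N)
  let J := Module.Free.ChooseBasisIndex k (k ⊗[A] N)
  have hlift : ∀ j : J, ∃ n : N, (1 : k) ⊗ₜ[A] n = b j := fun j =>
    TensorProduct.mk_surjective A N k Ideal.Quotient.mk_surjective (b j)
  choose n hn using hlift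
  let π : (J →₀ A) →ₗ[A] N := Finsupp.linearCombination A n
  let B1 : Module.Basis J k (k ⊗[A] (J →₀ A)) := (Finsupp.basisSingleOne).baseChange k
  have hπk : (π.baseChange k) = (B1.equiv b (Equiv.refl J)).toLinearMap := by
    apply B1.ext
    intro j
    rw [LinearEquiv.coe_coe, Module.Basis.equiv_apply, Equiv.refl_apply]
    show π.baseChange k (B1 j) = b j
    rw [Module.Basis.baseChange_apply, LinearMap.baseChange_tmul, Finsupp.coe_basisSingleOne,
      Finsupp.linearCombination_single, one_smul, hn]
  have hbij : Function.Bijective (π.lTensor k) := by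
    have h0 : (π.lTensor k : k ⊗[A] (J →₀ A) → k ⊗[A] N) = π.baseChange k :=
      (LinearMap.baseChange_eq_ltensor (A := k) π).symm
    rw [h0, hπk]
    exact (B1.equiv b (Equiv.refl J)).bijective
  have hπsurj : Surjective π :=
    Groth.Agent.Lib.ArtinianFlat.surjective_of_lTensor_surjective hnil π hbij.2
  have hK : LinearMap.ker π ≤ maximalIdeal A • (⊤ : Submodule A (J →₀ A)) := by
    intro x hx
    have h0 : (TensorProduct.mk A k (J →₀ A) 1) x = 0 := by
      apply hbij.1
      rw [TensorProduct.mk_apply, LinearMap.lTensor_tmul, LinearMap.mem_ker.mp hx,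
        TensorProduct.tmul_zero, map_zero]
    rw [← LinearMap.ker_tensorProductMk, LinearMap.mem_ker]
    exact h0
  refine ⟨Ideal.span {a | ∃ x ∈ LinearMap.ker π, ∃ j, a = x j}, fun A' _ _ => ?_⟩
  -- the base-changed presentation
  have hφsurj : Surjective (π.baseChange A') := by
    rw [LinearMap.baseChange_eq_ltensor]
    exact LinearMap.lTensor_surjective A' hπsurj
  have hker : ∀ y : A' ⊗[A] (J →₀ A), π.baseChange A' y = 0 →
      y ∈ LinearMap.range ((LinearMap.ker π).subtype.baseChange A') := by
    intro y hy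
    have hex0 : Function.Exact (LinearMap.ker π).subtype π :=
      fun y => ⟨fun hy => ⟨⟨y, hy⟩, rfl⟩, fun ⟨z, hz⟩ => hz ▸ z.2⟩
    have hex := lTensor_exact (M := LinearMap.ker π) (N := J →₀ A)
      (f := (LinearMap.ker π).subtype) (g := π) A' hex0 hπsurj
    have hy' : (π.lTensor A') y = 0 := by
      rw [← LinearMap.baseChange_eq_ltensor]; exact hy
    obtain ⟨z, hz⟩ := (hex y).mp hy'
    exact ⟨z, by rw [← hz, LinearMap.baseChange_eq_ltensor]⟩
  -- coefficient functionals
  let c : J → (A' ⊗[A] (J →₀ A) →ₗ[A'] A') := fun j =>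
    (TensorProduct.AlgebraTensorModule.rid A A' A').toLinearMap ∘ₗ
      (Finsupp.lapply j : (J →₀ A) →ₗ[A] A).baseChange A'
  have hc : ∀ (j : J) (x : J →₀ A), c j ((1 : A') ⊗ₜ[A] x) = algebraMap A A' (x j) := by
    intro j x
    simp [c, Algebra.algebraMap_eq_smul_one]
  constructor
  · intro hflat
    set 𝔞 : Ideal A' := (maximalIdeal A).map (algebraMap A A') with h𝔞
    have h𝔞nil : IsNilpotent 𝔞 := by
      obtain ⟨m, hm⟩ := hnil
      refine ⟨m, ?_⟩
      rw [h𝔞, ← Ideal.map_pow, hm, Ideal.zero_eq_bot, Ideal.map_bot]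
      rfl
    have h1 : LinearMap.ker (π.baseChange A') ≤ 𝔞 • (⊤ : Submodule A' (A' ⊗[A] (J →₀ A))) := by
      intro y hy
      obtain ⟨z, rfl⟩ := hker y (LinearMap.mem_ker.mp hy)
      induction z using TensorProduct.induction_on with
      | zero => simp
      | tmul a x =>
        rw [LinearMap.baseChange_tmul, Submodule.subtype_apply]
        have hx : (1 : A') ⊗ₜ[A] (x : J →₀ A) ∈
            𝔞 • (⊤ : Submodule A' (A' ⊗[A] (J →₀ A))) := by
          refine Submodule.smul_induction_on (hK x.2) ?_ ?_
          · intro r hr f _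
            rw [TensorProduct.tmul_smul, ← algebraMap_smul A' r]
            exact Submodule.smul_mem_smul (Ideal.mem_map_of_mem _ hr) Submodule.mem_top
          · intro f g hf hg
            rw [TensorProduct.tmul_add]
            exact Submodule.add_mem _ hf hg
        have : a ⊗ₜ[A] (x : J →₀ A) = a • ((1 : A') ⊗ₜ[A] (x : J →₀ A)) := by
          rw [TensorProduct.smul_tmul', smul_eq_mul, mul_one]
        rw [this]
        exact Submodule.smul_mem _ _ hx
      | add z1 z2 h1 h2 =>
        rw [map_add]
        have hz : ∀ z : A' ⊗[A] (LinearMap.ker π),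
            (LinearMap.ker π).subtype.baseChange A' z ∈ LinearMap.ker (π.baseChange A') := by
          intro z
          rw [LinearMap.mem_ker, ← LinearMap.comp_apply, ← LinearMap.baseChange_comp]
          have : π ∘ₗ (LinearMap.ker π).subtype = 0 := by
            ext w; exact LinearMap.mem_ker.mp w.2
          rw [this, LinearMap.baseChange_zero, LinearMap.zero_apply]
        exact Submodule.add_mem _ (h1 (hz z1)) (h2 (hz z2))
    have h2 := ker_inf_smul_le (π.baseChange A') hφsurj 𝔞
    have h3 : LinearMap.ker (π.baseChange A') ≤ 𝔞 • LinearMap.ker (π.baseChange A') :=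
      fun y hy => h2 ⟨hy, h1 hy⟩
    have h4 : LinearMap.ker (π.baseChange A') = ⊥ :=
      eq_bot_of_le_smul_of_isNilpotent 𝔞 h𝔞nil _ h3
    rw [Ideal.map_span, Ideal.span_eq_bot]
    rintro _ ⟨a, ⟨x, hx, j, rfl⟩, rfl⟩
    have h5 : (1 : A') ⊗ₜ[A] x ∈ LinearMap.ker (π.baseChange A') := by
      rw [LinearMap.mem_ker, LinearMap.baseChange_tmul, LinearMap.mem_ker.mp hx,
        TensorProduct.tmul_zero]
    rw [h4, Submodule.mem_bot] at h5
    rw [← hc j x, h5, map_zero]
  · intro hI
    have hzero : ∀ x ∈ LinearMap.ker π, (1 : A') ⊗ₜ[A] x = 0 := by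
      intro x hx
      have hx' : x = ∑ j ∈ x.support, Finsupp.single j (x j) := by
        conv_lhs => rw [← Finsupp.sum_single x]
        rfl
      rw [hx', TensorProduct.tmul_sum]
      refine Finset.sum_eq_zero fun j _ => ?_
      have hmem : algebraMap A A' (x j) ∈
          (Ideal.span {a | ∃ x ∈ LinearMap.ker π, ∃ j, a = x j}).map (algebraMap A A') :=
        Ideal.mem_map_of_mem _ (Ideal.subset_span ⟨x, hx, j, rfl⟩)
      rw [hI, Submodule.mem_bot] at hmem
      rw [← Finsupp.smul_single_one, TensorProduct.tmul_smul, TensorProduct.smul_tmul',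
        ← Algebra.algebraMap_eq_smul_one, hmem, TensorProduct.zero_tmul]
    have hinj : Injective (π.baseChange A') := by
      rw [← LinearMap.ker_eq_bot, eq_bot_iff]
      intro y hy
      obtain ⟨z, rfl⟩ := hker y (LinearMap.mem_ker.mp hy)
      rw [Submodule.mem_bot]
      induction z using TensorProduct.induction_on with
      | zero => simp
      | tmul a x =>
        rw [LinearMap.baseChange_tmul, Submodule.subtype_apply]
        have : a ⊗ₜ[A] (x : J →₀ A) = a • ((1 : A') ⊗ₜ[A] (x : J →₀ A)) := by
          rw [TensorProduct.smul_tmul', smul_eq_mul, mul_one]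
        rw [this, hzero x x.2, smul_zero]
      | add z1 z2 h1 h2 =>
        have hz : ∀ z : A' ⊗[A] (LinearMap.ker π),
            (LinearMap.ker π).subtype.baseChange A' z ∈ LinearMap.ker (π.baseChange A') := by
          intro z
          rw [LinearMap.mem_ker, ← LinearMap.comp_apply, ← LinearMap.baseChange_comp]
          have : π ∘ₗ (LinearMap.ker π).subtype = 0 := by
            ext w; exact LinearMap.mem_ker.mp w.2
          rw [this, LinearMap.baseChange_zero, LinearMap.zero_apply]
        rw [map_add, h1 (hz z1), h2 (hz z2), add_zero]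
    exact Module.Flat.of_linearEquiv (LinearEquiv.ofBijective (π.baseChange A') ⟨hinj, hφsurj⟩).symm

end Local

section Artinian

variable {A : Type u} [CommRing A]
  (N : Type u) [AddCommGroup N] [Module A N]

/-- Two ways of computing the localization of a base-changed module. -/
theorem flat_localization_iff (A' : Type u) [CommRing A'] [Algebra A A']
    (𝔭 : Ideal A) [𝔭.IsPrime] (P : Ideal A') [P.IsPrime] [P.LiesOver 𝔭]
    [Algebra (Localization.AtPrime 𝔭) (Localization.AtPrime P)]
    [Localization.AtPrime.IsLiesOverAlgebra 𝔭 P] :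
    Module.Flat (Localization.AtPrime P) (Localization.AtPrime P ⊗[A'] (A' ⊗[A] N)) ↔
      Module.Flat (Localization.AtPrime P)
        (Localization.AtPrime P ⊗[Localization.AtPrime 𝔭] (Localization.AtPrime 𝔭 ⊗[A] N)) := by
  have : IsScalarTower A (Localization.AtPrime 𝔭) (Localization.AtPrime P) := inferInstance
  exact Module.Flat.equiv_iff
    ((TensorProduct.AlgebraTensorModule.cancelBaseChange A A' (Localization.AtPrime P)
        (Localization.AtPrime P) N) ≪≫ₗ
      (TensorProduct.AlgebraTensorModule.cancelBaseChange A (Localization.AtPrime 𝔭)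
        (Localization.AtPrime P) (Localization.AtPrime P) N).symm)

theorem exists_flattening_ideal [IsArtinianRing A] :
    ∃ I : Ideal A, ∀ (A' : Type u) [CommRing A'] [Algebra A A'],
      Module.Flat A' (A' ⊗[A] N) ↔ I.map (algebraMap A A') = ⊥ := by
  classical
  have hloc : ∀ 𝔭 : PrimeSpectrum A, ∃ I : Ideal (Localization.AtPrime 𝔭.asIdeal),
      ∀ (A' : Type u) [CommRing A'] [Algebra (Localization.AtPrime 𝔭.asIdeal) A'],
        Module.Flat A' (A' ⊗[Localization.AtPrime 𝔭.asIdeal]
          (Localization.AtPrime 𝔭.asIdeal ⊗[A] N)) ↔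
          I.map (algebraMap (Localization.AtPrime 𝔭.asIdeal) A') = ⊥ := fun 𝔭 =>
    exists_flattening_ideal_local (A := Localization.AtPrime 𝔭.asIdeal)
      (Localization.AtPrime 𝔭.asIdeal ⊗[A] N)
      Groth.Agent.Lib.ArtinianFlat.isNilpotent_maximalIdeal
  choose Iloc hIloc using hloc
  refine ⟨⨅ 𝔭 : PrimeSpectrum A, (Iloc 𝔭).comap (algebraMap A (Localization.AtPrime 𝔭.asIdeal)),
    fun A' _ _ => ?_⟩
  -- the local statement at a prime `P` of `A'`
  have hlocal : ∀ (P : Ideal A') [P.IsPrime],
      Module.Flat (Localization.AtPrime P) (Localization.AtPrime P ⊗[A'] (A' ⊗[A] N)) ↔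
        ∀ x ∈ Iloc ⟨P.under A, inferInstance⟩,
          Localization.localRingHom (P.under A) P (algebraMap A A') rfl x = 0 := by
    intro P _
    let := Localization.AtPrime.algebraOfLiesOver (P.under A) P
    rw [flat_localization_iff N A' (P.under A) P, hIloc ⟨P.under A, inferInstance⟩,
      eq_bot_iff, Ideal.map_le_iff_le_comap]
    constructor
    · intro h x hx
      have := h hx
      rwa [Ideal.mem_comap, Ideal.mem_bot] at this
    · intro h x hx
      rw [Ideal.mem_comap, Ideal.mem_bot]
      exact h x hx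
  constructor
  · intro hflat
    rw [eq_bot_iff, Ideal.map_le_iff_le_comap]
    intro a ha
    rw [Ideal.mem_comap, Ideal.mem_bot]
    apply eq_zero_of_localization
    intro P hP
    have hfl : Module.Flat (Localization.AtPrime P)
        (Localization.AtPrime P ⊗[A'] (A' ⊗[A] N)) := inferInstance
    have hmem : algebraMap A (Localization.AtPrime (P.under A)) a ∈
        Iloc ⟨P.under A, inferInstance⟩ := by
      have := (Ideal.mem_iInf.mp ha) ⟨P.under A, inferInstance⟩
      exact this
    have := (hlocal P).mp hfl _ hmem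
    rwa [Localization.localRingHom_to_map] at this
  · intro hI
    refine Module.flat_of_isLocalized_maximal A' (A' ⊗[A] N)
      (fun P _ => Localization.AtPrime P ⊗[A'] (A' ⊗[A] N))
      (fun P _ => TensorProduct.mk A' (Localization.AtPrime P) (A' ⊗[A] N) 1) ?_
    intro P hP
    rw [← Module.flat_iff_of_isLocalization (Localization.AtPrime P) P.primeCompl]
    refine (hlocal P).mpr ?_
    intro x hx
    obtain ⟨a, ha⟩ := PrimeSpectrum.toPiLocalization_bijective.2
      (Pi.single (⟨P.under A, inferInstance⟩ : PrimeSpectrum A) x)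
    have ha' : ∀ 𝔮 : PrimeSpectrum A, algebraMap A (Localization.AtPrime 𝔮.asIdeal) a =
        (Pi.single (⟨P.under A, inferInstance⟩ : PrimeSpectrum A) x :
          PrimeSpectrum.PiLocalization A) 𝔮 := fun 𝔮 => congrFun ha 𝔮
    have haI : a ∈ ⨅ 𝔭 : PrimeSpectrum A,
        (Iloc 𝔭).comap (algebraMap A (Localization.AtPrime 𝔭.asIdeal)) := by
      rw [Ideal.mem_iInf]
      intro 𝔮
      rw [Ideal.mem_comap, ha']
      by_cases h : 𝔮 = ⟨P.under A, inferInstance⟩
      · subst h
        rw [Pi.single_eq_same]
        exact hx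
      · rw [Pi.single_eq_of_ne h]
        exact Ideal.zero_mem _
    have h0 : algebraMap A A' a = 0 := by
      have := Ideal.mem_map_of_mem (algebraMap A A') haI
      rwa [hI, Ideal.mem_bot] at this
    have hx' : x = algebraMap A (Localization.AtPrime (P.under A)) a := by
      have := ha' ⟨P.under A, inferInstance⟩
      rw [Pi.single_eq_same] at this
      exact this.symm
    rw [hx', Localization.localRingHom_to_map, h0, map_zero]

end Artinian

end Groth.Agent.Lib.ArtinianFlatten88
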