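import Mathlib
import Groth.Agent.Lib.PSRegular33
import Groth.Agent.Lib.H59PowerSeries

/-!
# Dimension of power series rings and regular quotients (helper89)

* `isRegularLocalRing_quotient_of_span`: a Noetherian local ring `S` of dimension `c + e` whose
  maximal ideal is `J + K` with `J` generated by `c` and `K` by `e` elements has `S / J` regular of
  dimension `e`.
* `ringKrullDim_powerSeries`, `ringKrullDim_mvPowerSeries_fin`: `dim A[[X_1..X_n]] = dim A + n` for
  `A` regular local.
-/

set_option autoImplicit false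
universe u

namespace Groth.Agent.Lib.CohenFactor

open IsLocalRing

theorem isRegularLocalRing_quotient_of_span {S : Type*} [CommRing S] [IsLocalRing S]
    [IsNoetherianRing S] (J K : Ideal S) (hJ : J ≤ maximalIdeal S) (hK : K ≤ maximalIdeal S)
    (hm : maximalIdeal S ≤ J ⊔ K) (c e : ℕ) (hc : J.spanFinrank ≤ c) (he : K.spanFinrank ≤ e)
    (hdim : ringKrullDim S = ((c + e : ℕ) : WithBot ℕ∞)) :
    ∃ (_ : IsRegularLocalRing (S ⧸ J)), ringKrullDim (S ⧸ J) = (e : WithBot ℕ∞) := by
  have hne : J ≠ ⊤ := fun h => (maximalIdeal.isMaximal S).ne_top (top_le_iff.mp (h ▸ hJ))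
  have : Nontrivial (S ⧸ J) := Ideal.Quotient.nontrivial_iff.mpr hne
  have : IsLocalRing (S ⧸ J) :=
    IsLocalRing.of_surjective' (Ideal.Quotient.mk J) Ideal.Quotient.mk_surjective
  have hmap : (maximalIdeal S).map (Ideal.Quotient.mk J) = maximalIdeal (S ⧸ J) :=
    IsLocalRing.map_maximalIdeal_of_surjective _ Ideal.Quotient.mk_surjective
  have hmK : maximalIdeal (S ⧸ J) = K.map (Ideal.Quotient.mk J) := by
    apply le_antisymm
    · rw [← hmap]
      refine (Ideal.map_mono hm).trans ?_
      rw [Ideal.map_sup, sup_le_iff]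
      refine ⟨?_, le_rfl⟩
      rw [Ideal.map_quotient_self]
      exact bot_le
    · rw [← hmap]
      exact Ideal.map_mono hK
  have h1 : (maximalIdeal (S ⧸ J)).spanFinrank ≤ e := by
    rw [hmK]
    exact (Ideal.spanFinrank_map_le_of_fg _ (IsNoetherian.noetherian K)).trans he
  have h2 : ringKrullDim S ≤ ringKrullDim (S ⧸ J) + J.spanFinrank := by
    apply ringKrullDim_le_ringKrullDim_quotient_add_spanFinrank
    rw [IsLocalRing.ringJacobson_eq_maximalIdeal]
    exact hJ
  have h3 : ((e : ℕ) : WithBot ℕ∞) ≤ ringKrullDim (S ⧸ J) := by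
    have h4 : ringKrullDim (S ⧸ J) + (J.spanFinrank : WithBot ℕ∞) ≤
        ringKrullDim (S ⧸ J) + (c : WithBot ℕ∞) := by
      gcongr
    have h5 := h2.trans h4
    rw [hdim, Nat.add_comm, Nat.cast_add] at h5
    exact ENat.WithBot.add_le_add_natCast_right_iff.mp h5
  have h6 : ringKrullDim (S ⧸ J) ≤ (e : WithBot ℕ∞) := by
    refine (ringKrullDim_le_spanFinrank_maximalIdeal (S ⧸ J)).trans ?_
    exact_mod_cast h1
  have hreg : IsRegularLocalRing (S ⧸ J) := by
    apply IsRegularLocalRing.of_spanFinrank_maximalIdeal_le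
    refine le_trans ?_ h3
    exact_mod_cast h1
  exact ⟨hreg, le_antisymm h6 h3⟩

/-- `dim A[[X]] = dim A + 1` for a regular local ring `A`. -/
theorem ringKrullDim_powerSeries (A : Type u) [CommRing A] [IsRegularLocalRing A] :
    ringKrullDim (PowerSeries A) = ringKrullDim A + 1 := by
  have := Groth.Agent.Lib.PSRegular33.isRegularLocalRing_powerSeries A
  have hX : (PowerSeries.X : PowerSeries A) ∈ maximalIdeal (PowerSeries A) := by
    rw [mem_maximalIdeal, mem_nonunits_iff]
    intro hu
    have := (PowerSeries.isUnit_iff_constantCoeff (φ := (PowerSeries.X : PowerSeries A))).mp hu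
    rw [PowerSeries.constantCoeff_X] at this
    exact not_isUnit_zero this
  have hreg : IsSMulRegular (PowerSeries A) (PowerSeries.X : PowerSeries A) := by
    intro a b hab
    have h1 : (PowerSeries.X : PowerSeries A) * a = PowerSeries.X * b := hab
    exact PowerSeries.X_mul_cancel h1
  rw [← ringKrullDim_quotient_span_singleton_succ_eq_ringKrullDim hreg hX,
    ringKrullDim_eq_of_ringEquiv (Groth.Agent.Lib.PSRegular33.quotXEquiv A)]

/-- `dim A[[X_1, …, X_n]] = dim A + n` for a regular local ring `A`. -/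
theorem ringKrullDim_mvPowerSeries_fin (A : Type u) [CommRing A] [IsRegularLocalRing A] (n : ℕ) :
    ringKrullDim (MvPowerSeries (Fin n) A) = ringKrullDim A + n := by
  induction n with
  | zero =>
    rw [ringKrullDim_eq_of_ringEquiv (MvPowerSeries.isEmptyEquiv (Fin 0) A).toRingEquiv]
    simp
  | succ n ih =>
    have := Groth.Agent.Lib.PSRegular33.isRegularLocalRing_mvPowerSeries_fin A n
    rw [ringKrullDim_eq_of_ringEquiv (MvPowerSeries.finSuccEquiv A n).toRingEquiv,
      ringKrullDim_powerSeries, ih, Nat.cast_add, Nat.cast_one, add_assoc]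

end Groth.Agent.Lib.CohenFactor
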