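import Groth.Agent.Lib.H8CM4

/-!
# Cohen–Macaulay local rings (helper8)

Ring-level forms of the module results, for the prelude's `LocCoh.IsCohenMacaulayLocalRing`.
-/

set_option autoImplicit false
set_option linter.unusedSectionVars false
universe u v

namespace Groth.Agent.Lib.H8CM

open RingTheory.Sequence IsLocalRing Pointwise Module Groth.Agent.Lib.DepthBasic
  Groth.Agent.Lib.DepthRees LocCoh

section general

variable {R : Type u} [CommRing R]

/-- `dim_R (R/I·R) = dim (R/I)`. -/
theorem supportDim_quotient_smul_top_self (I : Ideal R) :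
    supportDim R (R ⧸ I • (⊤ : Submodule R R)) = ringKrullDim (R ⧸ I) := by
  have h : I • (⊤ : Submodule R R) = I := by simp
  rw [supportDim_eq_of_equiv (Submodule.quotEquivOfEq _ _ h)]
  exact supportDim_quotient_eq_ringKrullDim I

end general

variable {R : Type u} [CommRing R]

theorem isCM_self_of_isCMLocalRing [h : IsCohenMacaulayLocalRing R] :
    IsCohenMacaulayModule R R := h.supportDim_eq_depth

theorem isCMLocalRing_of_isCM_self [IsNoetherianRing R] [IsLocalRing R]
    (h : IsCohenMacaulayModule R R) : IsCohenMacaulayLocalRing R := ⟨h⟩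

section local_

variable [IsCohenMacaulayLocalRing R]

/-- In a CM local ring, `dim R = dim R/I + depth_I R` for a proper ideal `I`. -/
theorem ringKrullDim_eq_add_idealDepth {I : Ideal R} (hI : I ≠ ⊤) :
    ringKrullDim R = ringKrullDim (R ⧸ I) + ((idealDepth I R : ℕ∞) : WithBot ℕ∞) := by
  have := supportDim_eq_add_idealDepth (isCM_self_of_isCMLocalRing (R := R)) hI
  rwa [supportDim_self_eq_ringKrullDim, supportDim_quotient_smul_top_self] at this

/-- In a CM local ring, a sequence in the maximal ideal is regular iff it drops the dimension by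
its length. -/
theorem isWeaklyRegular_self_iff (rs : List R) (hrs : ∀ r ∈ rs, r ∈ maximalIdeal R) :
    IsWeaklyRegular R rs ↔ ringKrullDim (R ⧸ Ideal.ofList rs) + rs.length = ringKrullDim R := by
  have := (isWeaklyRegular_iff_of_isCM rs (isCM_self_of_isCMLocalRing (R := R)) hrs).1
  rwa [supportDim_self_eq_ringKrullDim, supportDim_quotient_smul_top_self] at this

/-- In a CM local ring, a proper ideal `I` contains a regular sequence `rs` with
`dim R/(rs) = dim R/I`. -/
theorem exists_isWeaklyRegular_le_of_ne_top {I : Ideal R} (hI : I ≠ ⊤) :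
    ∃ rs : List R, IsWeaklyRegular R rs ∧ (∀ r ∈ rs, r ∈ I) ∧
      ringKrullDim (R ⧸ Ideal.ofList rs) = ringKrullDim (R ⧸ I) := by
  have hIm : I ≤ maximalIdeal R := le_maximalIdeal hI
  have hIM := smul_top_ne_top_of_le_maximalIdeal (M := R) hIm
  have hform := ringKrullDim_eq_add_idealDepth hI
  have hnt : Nontrivial (R ⧸ I) := Ideal.Quotient.nontrivial_iff.mpr hI
  obtain ⟨d, hd⟩ := exists_nat_supportDim (R := R) (M := R)
  rw [supportDim_self_eq_ringKrullDim] at hd
  have ha' : ∃ a : ℕ, ringKrullDim (R ⧸ I) = (a : WithBot ℕ∞) := by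
    have := exists_nat_supportDim (R := R) (M := R ⧸ I)
    rwa [supportDim_quotient_eq_ringKrullDim] at this
  obtain ⟨a, ha⟩ := ha'
  rw [hd, ha] at hform
  have hne : idealDepth I R ≠ ⊤ := by
    intro htop
    rw [htop] at hform
    have h1 : ((d : ℕ∞) : WithBot ℕ∞) = (((a : ℕ∞) + ⊤ : ℕ∞) : WithBot ℕ∞) := by
      exact_mod_cast hform
    rw [add_top] at h1
    exact ENat.coe_ne_top d (WithBot.coe_injective h1)
  obtain ⟨e, he⟩ := ENat.ne_top_iff_exists.mp hne
  rw [← he] at hform
  have hdae : d = a + e := by exact_mod_cast hform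
  obtain ⟨rs, hlen, hmem, hreg⟩ := (natCast_le_idealDepth_iff I R hIM e).mp he.le
  refine ⟨rs, hreg, hmem, ?_⟩
  have h1 := (isWeaklyRegular_self_iff rs (fun r hr ↦ hIm (hmem r hr))).mp hreg
  have hntq : Nontrivial (R ⧸ Ideal.ofList rs) := by
    apply Ideal.Quotient.nontrivial_iff.mpr
    intro htop
    have : Ideal.ofList rs ≤ I := by
      rw [Ideal.ofList, Ideal.span_le]; exact fun r hr ↦ hmem r hr
    exact hI (top_le_iff.mp (htop ▸ this))
  have hb' : ∃ b : ℕ, ringKrullDim (R ⧸ Ideal.ofList rs) = (b : WithBot ℕ∞) := by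
    have := exists_nat_supportDim (R := R) (M := R ⧸ Ideal.ofList rs)
    rwa [supportDim_quotient_eq_ringKrullDim] at this
  obtain ⟨b, hb⟩ := hb'
  rw [hb, hd, hlen] at h1
  have : b + e = d := by exact_mod_cast h1
  rw [hb, ha]
  have : b = a := by omega
  rw [this]

end local_

end Groth.Agent.Lib.H8CM
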