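import Groth.Agent.Lib.CohenFactor1
import Groth.Agent.Lib.CohenFactor2
import Groth.Agent.S2082
import Groth.Agent.Lib.H8CM6

/-!
# Flat Cohen factorizations (helper89)

`exists_factor`: given a surjection `ρ : Λ[[X_1..X_n]] → A` from a power series ring over a
coefficient ring, a local homomorphism `A → B` into a complete Noetherian local ring, a coefficient
ring `Λ' → B` of `B` and a family `b_1..b_m` generating the maximal ideal of `B` modulo `𝔪_A B` and
`𝔪_{Λ'} B`, there are a surjection `σ : Λ'[[X_1..X_{n+m}]] → B` and a flat local homomorphism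
`τ : Λ[[X_1..X_n]] → Λ'[[X_1..X_{n+m}]]` with `σ ∘ τ = (A → B) ∘ ρ`, `τ X_i = X_i`, whose closed
fibre is a regular local ring of dimension `m`.
-/

set_option autoImplicit false
universe u

namespace Groth.Agent.Lib.CohenFactor

open IsLocalRing MvPowerSeries

theorem spanFinrank_span_range_le {R M : Type*} [Semiring R] [AddCommMonoid M] [Module R M] {n : ℕ}
    (f : Fin n → M) : (Submodule.span R (Set.range f)).spanFinrank ≤ n := by
  refine (Submodule.spanFinrank_span_le_ncard_of_finite (Set.finite_range f)).trans ?_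
  rw [← Set.image_univ]
  refine (Set.ncard_image_le (Set.finite_univ)).trans ?_
  rw [Set.ncard_univ, Nat.card_fin]

theorem spanFinrank_span_range_sup_le {R M : Type*} [Semiring R] [AddCommMonoid M] [Module R M]
    {n : ℕ} (f : Fin n → M) (x : M) :
    (Submodule.span R (Set.range f) ⊔ Submodule.span R {x}).spanFinrank ≤ n + 1 := by
  rw [← Submodule.span_union]
  refine (Submodule.spanFinrank_span_le_ncard_of_finite
    ((Set.finite_range f).union (Set.finite_singleton x))).trans ?_
  refine (Set.ncard_union_le _ _).trans ?_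
  rw [Set.ncard_singleton]
  have : (Set.range f).ncard ≤ n := by
    rw [← Set.image_univ]
    refine (Set.ncard_image_le (Set.finite_univ)).trans ?_
    rw [Set.ncard_univ, Nat.card_fin]
  omega

section

variable {Λ : Type u} [CommRing Λ] [IsLocalRing Λ] {q : ℕ}

theorem maximalIdeal_mvPowerSeries (h : IsCoeff Λ q) (n : ℕ) :
    maximalIdeal (MvPowerSeries (Fin n) Λ) =
      Ideal.span (Set.range (X : Fin n → MvPowerSeries (Fin n) Λ)) ⊔
        Ideal.span {(q : MvPowerSeries (Fin n) Λ)} := by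
  rw [Groth.Agent.Lib.H59PowerSeries.maximalIdeal_eq_bigIdeal,
    Groth.Agent.Lib.H59PowerSeries.bigIdeal, h.maximalIdeal_eq, Ideal.map_span,
    Set.image_singleton, map_natCast]

theorem isRegularLocalRing_mvPowerSeries (h : IsCoeff Λ q) (n : ℕ) :
    IsRegularLocalRing (MvPowerSeries (Fin n) Λ) :=
  have := h.isRegularLocalRing
  Groth.Agent.Lib.PSRegular33.isRegularLocalRing_mvPowerSeries_fin Λ n

theorem isAdicComplete_mvPowerSeries (h : IsCoeff Λ q) (n : ℕ) :
    IsAdicComplete (maximalIdeal (MvPowerSeries (Fin n) Λ)) (MvPowerSeries (Fin n) Λ) := by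
  have := h.complete
  rw [Groth.Agent.Lib.H59PowerSeries.maximalIdeal_eq_bigIdeal]
  exact Groth.Agent.Lib.H59PowerSeries.isAdicComplete_bigIdeal _

theorem ringKrullDim_mvPowerSeries (h : IsCoeff Λ q) (n : ℕ) :
    ringKrullDim (MvPowerSeries (Fin n) Λ) =
      (((if q = 0 then 0 else 1) + n : ℕ) : WithBot ℕ∞) := by
  have := h.isRegularLocalRing
  rw [ringKrullDim_mvPowerSeries_fin, h.ringKrullDim_eq, Nat.cast_add]

theorem X_mem_maximalIdeal {n : ℕ} (i : Fin n) :
    (X i : MvPowerSeries (Fin n) Λ) ∈ maximalIdeal (MvPowerSeries (Fin n) Λ) := by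
  rw [Groth.Agent.Lib.H59PowerSeries.maximalIdeal_eq_bigIdeal]
  exact Ideal.mem_sup_left (Ideal.subset_span ⟨i, rfl⟩)

end

/-- **Flat Cohen factorization.** -/
theorem exists_factor {Λ Λ' A B : Type u} [CommRing Λ] [IsLocalRing Λ] [CommRing Λ']
    [IsLocalRing Λ'] [CommRing A] [IsLocalRing A] [CommRing B] [IsLocalRing B]
    [IsNoetherianRing B] [IsAdicComplete (maximalIdeal B) B] [Algebra A B]
    [IsLocalHom (algebraMap A B)] {q : ℕ} (hΛ : IsCoeff Λ q) (hΛ' : IsCoeff Λ' q) {n : ℕ}
    (ρ : MvPowerSeries (Fin n) Λ →+* A) (hρ : Function.Surjective ρ)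
    (v : Λ' →+* B) [IsLocalHom v] (hv : Function.Surjective ((residue B).comp v))
    {m : ℕ} (b : Fin m → B) (hbm : ∀ j, b j ∈ maximalIdeal B)
    (hb : maximalIdeal B ≤ Ideal.span (Set.range b) ⊔
      (maximalIdeal A).map (algebraMap A B) ⊔ (maximalIdeal Λ').map v) :
    ∃ (σ : MvPowerSeries (Fin (n + m)) Λ' →+* B)
      (τ : MvPowerSeries (Fin n) Λ →+* MvPowerSeries (Fin (n + m)) Λ'),
      Function.Surjective σ ∧ σ.comp τ = (algebraMap A B).comp ρ ∧
      (∀ j, σ (X (Fin.natAdd n j)) = b j) ∧ (∀ a, σ (C a) = v a) ∧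
      (∀ i, τ (X i) = X (Fin.castAdd m i)) ∧ IsLocalHom τ ∧ τ.Flat ∧
      ∃ (_ : IsRegularLocalRing (MvPowerSeries (Fin (n + m)) Λ' ⧸
          (maximalIdeal (MvPowerSeries (Fin n) Λ)).map τ)),
        ringKrullDim (MvPowerSeries (Fin (n + m)) Λ' ⧸
          (maximalIdeal (MvPowerSeries (Fin n) Λ)).map τ) = (m : WithBot ℕ∞) := by
  classical
  have hRreg := isRegularLocalRing_mvPowerSeries hΛ n
  have hSreg := isRegularLocalRing_mvPowerSeries hΛ' (n + m)
  have hSc := isAdicComplete_mvPowerSeries hΛ' (n + m)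
  have hΛ'c := hΛ'.complete
  -- `ρ` is local
  have hρloc : IsLocalHom ρ := IsLocalHom.of_surjective ρ hρ
  have hmA : (maximalIdeal (MvPowerSeries (Fin n) Λ)).map ρ = maximalIdeal A :=
    map_maximalIdeal_of_surjective ρ hρ
  have hρX : ∀ i, algebraMap A B (ρ (X i)) ∈ maximalIdeal B := by
    intro i
    have h1 : ρ (X i) ∈ maximalIdeal A := by
      rw [← hmA]
      exact Ideal.mem_map_of_mem _ (X_mem_maximalIdeal i)
    exact map_nonunit (algebraMap A B) _ h1
  -- the images of the variables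
  let b' : Fin (n + m) → B := Fin.append (fun i => algebraMap A B (ρ (X i))) b
  have hb'mem : ∀ k, b' k ∈ maximalIdeal B := by
    intro k
    refine Fin.addCases (fun i => ?_) (fun j => ?_) k
    · simp only [b', Fin.append_left]
      exact hρX i
    · simp only [b', Fin.append_right]
      exact hbm j
  have hqB : ((q : ℕ) : B) ∈ (maximalIdeal Λ').map v := by
    rw [hΛ'.maximalIdeal_eq, Ideal.map_span, Set.image_singleton, map_natCast]
    exact Ideal.subset_span rfl
  have hb' : maximalIdeal B ≤ Ideal.span (Set.range b') ⊔ (maximalIdeal Λ').map v := by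
    refine hb.trans ?_
    refine sup_le (sup_le ?_ ?_) le_sup_right
    · refine le_sup_of_le_left ?_
      rw [Ideal.span_le]
      rintro _ ⟨j, rfl⟩
      refine Ideal.subset_span ⟨Fin.natAdd n j, ?_⟩
      simp only [b', Fin.append_right]
    · rw [← hmA, Ideal.map_map, maximalIdeal_mvPowerSeries hΛ n, Ideal.map_sup, sup_le_iff]
      constructor
      · refine le_sup_of_le_left ?_
        rw [Ideal.map_span, Ideal.span_le]
        rintro _ ⟨_, ⟨i, rfl⟩, rfl⟩
        refine Ideal.subset_span ⟨Fin.castAdd m i, ?_⟩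
        simp only [b', Fin.append_left]
        rfl
      · refine le_sup_of_le_right ?_
        rw [Ideal.map_span, Set.image_singleton, map_natCast, Ideal.span_le,
          Set.singleton_subset_iff]
        exact hqB
  have hv' : ∀ a ∈ maximalIdeal Λ', v a ∈ maximalIdeal B := fun a ha => map_nonunit v a ha
  obtain ⟨σ, hσsurj, hσX, hσC⟩ := exists_surjective_of_family Λ' B v hv' hv b' hb'mem hb'
  -- lift the coefficient ring of `A`
  let u : Λ →+* B := ((algebraMap A B).comp ρ).comp (C : Λ →+* MvPowerSeries (Fin n) Λ)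
  have hu : ∀ a, u a = algebraMap A B (ρ (C a)) := fun a => rfl
  have huloc : IsLocalHom u := by
    refine ⟨fun a ha => ?_⟩
    rw [hu] at ha
    have h1 : IsUnit (ρ (C a)) := (isUnit_map_iff (algebraMap A B) _).mp ha
    have h2 : IsUnit (C a : MvPowerSeries (Fin n) Λ) := (isUnit_map_iff ρ _).mp h1
    have h3 := h2.map (constantCoeff (σ := Fin n) (R := Λ))
    rwa [constantCoeff_C] at h3
  obtain ⟨τ₀, hτ₀loc, hτ₀⟩ := hΛ.exists_lift_of_surjective σ hσsurj u
  have hτ₀' : ∀ a, σ (τ₀ a) = algebraMap A B (ρ (C a)) := fun a => RingHom.congr_fun hτ₀ a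
  -- extend to the power series ring
  let _ : Algebra Λ (MvPowerSeries (Fin (n + m)) Λ') := τ₀.toAlgebra
  obtain ⟨ψ, hψX, -⟩ := Groth.Agent.Lib.PowerSeriesLift50.exists_algHom (k := Λ)
    (maximalIdeal (MvPowerSeries (Fin (n + m)) Λ'))
    (fun i : Fin n => (X (Fin.castAdd m i) : MvPowerSeries (Fin (n + m)) Λ'))
    (fun i => X_mem_maximalIdeal _)
  have hψC : ∀ a : Λ, ψ (C a) = τ₀ a := fun a => ψ.commutes a
  have hστX : ∀ i, σ (ψ (X i)) = algebraMap A B (ρ (X i)) := by
    intro i
    rw [hψX, hσX]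
    simp only [b', Fin.append_left]
  have hcomm : σ.comp ψ.toRingHom = (algebraMap A B).comp ρ := by
    apply ringHom_ext
    · intro a
      show σ (ψ (C a)) = algebraMap A B (ρ (C a))
      rw [hψC, hτ₀']
    · intro i
      exact hστX i
    · intro i
      show σ (ψ (X i)) ∈ maximalIdeal B
      rw [hστX]
      exact hρX i
  have hτloc : IsLocalHom ψ.toRingHom := by
    refine ⟨fun x hx => ?_⟩
    have h1 : IsUnit (σ (ψ x)) := hx.map σ
    have h2 : σ (ψ x) = algebraMap A B (ρ x) := RingHom.congr_fun hcomm x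
    rw [h2] at h1
    exact (isUnit_map_iff ρ _).mp ((isUnit_map_iff (algebraMap A B) _).mp h1)
  refine ⟨σ, ψ.toRingHom, hσsurj, hcomm, ?_, hσC, hψX, hτloc, ?_⟩
  · intro j
    rw [hσX]
    simp only [b', Fin.append_right]
  -- the closed fibre
  have hJ : (maximalIdeal (MvPowerSeries (Fin n) Λ)).map ψ.toRingHom =
      Ideal.span (Set.range (fun i : Fin n => (X (Fin.castAdd m i) : MvPowerSeries (Fin (n + m)) Λ'))) ⊔
        Ideal.span {((q : ℕ) : MvPowerSeries (Fin (n + m)) Λ')} := by
    rw [maximalIdeal_mvPowerSeries hΛ n, Ideal.map_sup, Ideal.map_span, Ideal.map_span,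
      Set.image_singleton, map_natCast, ← Set.range_comp]
    congr 3
    funext i
    exact hψX i
  have hqS : ((q : ℕ) : MvPowerSeries (Fin (n + m)) Λ') ∈
      maximalIdeal (MvPowerSeries (Fin (n + m)) Λ') := by
    rw [maximalIdeal_mvPowerSeries hΛ' (n + m)]
    exact Ideal.mem_sup_right (Ideal.subset_span rfl)
  have hJle : (maximalIdeal (MvPowerSeries (Fin n) Λ)).map ψ.toRingHom ≤
      maximalIdeal (MvPowerSeries (Fin (n + m)) Λ') := by
    rw [hJ, sup_le_iff, Ideal.span_le, Ideal.span_le, Set.singleton_subset_iff]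
    refine ⟨?_, hqS⟩
    rintro _ ⟨i, rfl⟩
    exact X_mem_maximalIdeal _
  have hKle : Ideal.span (Set.range (fun j : Fin m =>
      (X (Fin.natAdd n j) : MvPowerSeries (Fin (n + m)) Λ'))) ≤
      maximalIdeal (MvPowerSeries (Fin (n + m)) Λ') := by
    rw [Ideal.span_le]
    rintro _ ⟨j, rfl⟩
    exact X_mem_maximalIdeal _
  have hmle : maximalIdeal (MvPowerSeries (Fin (n + m)) Λ') ≤
      (maximalIdeal (MvPowerSeries (Fin n) Λ)).map ψ.toRingHom ⊔
        Ideal.span (Set.range (fun j : Fin m =>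
          (X (Fin.natAdd n j) : MvPowerSeries (Fin (n + m)) Λ'))) := by
    rw [maximalIdeal_mvPowerSeries hΛ' (n + m), hJ, sup_le_iff, Ideal.span_le, Ideal.span_le,
      Set.singleton_subset_iff]
    refine ⟨?_, Ideal.mem_sup_left (Ideal.mem_sup_right (Ideal.subset_span rfl))⟩
    rintro _ ⟨k, rfl⟩
    refine Fin.addCases (fun i => ?_) (fun j => ?_) k
    · exact Ideal.mem_sup_left (Ideal.mem_sup_left (Ideal.subset_span ⟨i, rfl⟩))
    · exact Ideal.mem_sup_right (Ideal.subset_span ⟨j, rfl⟩)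
  have hc : ((maximalIdeal (MvPowerSeries (Fin n) Λ)).map ψ.toRingHom).spanFinrank ≤
      (if q = 0 then 0 else 1) + n := by
    rw [hJ]
    by_cases hq0 : q = 0
    · rw [if_pos hq0, hq0, Nat.cast_zero, Ideal.span_singleton_eq_bot.mpr rfl, sup_bot_eq,
        Nat.zero_add]
      exact spanFinrank_span_range_le _
    · rw [if_neg hq0]
      exact (spanFinrank_span_range_sup_le _ _).trans (by omega)
  have hdimS : ringKrullDim (MvPowerSeries (Fin (n + m)) Λ') =
      ((((if q = 0 then 0 else 1) + n) + m : ℕ) : WithBot ℕ∞) := by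
    rw [ringKrullDim_mvPowerSeries hΛ' (n + m), Nat.add_assoc]
  obtain ⟨hFreg, hFdim⟩ := isRegularLocalRing_quotient_of_span
    ((maximalIdeal (MvPowerSeries (Fin n) Λ)).map ψ.toRingHom) _ hJle hKle hmle
    ((if q = 0 then 0 else 1) + n) m hc (spanFinrank_span_range_le _) hdimS
  refine ⟨?_, hFreg, hFdim⟩
  let _ : Algebra (MvPowerSeries (Fin n) Λ) (MvPowerSeries (Fin (n + m)) Λ') :=
    ψ.toRingHom.toAlgebra
  have hloc' : IsLocalHom (algebraMap (MvPowerSeries (Fin n) Λ) (MvPowerSeries (Fin (n + m)) Λ')) :=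
    hτloc
  have hCM : LocCoh.IsCohenMacaulayLocalRing (MvPowerSeries (Fin (n + m)) Λ') :=
    Groth.Agent.Lib.H8CM.isCMLocalRing_of_isRegularLocalRing
  have hflat : Module.Flat (MvPowerSeries (Fin n) Λ) (MvPowerSeries (Fin (n + m)) Λ') := by
    apply Groth.Agent.S2082.result
    have h1 : ringKrullDim (MvPowerSeries (Fin (n + m)) Λ' ⧸
        (maximalIdeal (MvPowerSeries (Fin n) Λ)).map
          (algebraMap (MvPowerSeries (Fin n) Λ) (MvPowerSeries (Fin (n + m)) Λ'))) =
        (m : WithBot ℕ∞) := hFdim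
    rw [h1, hdimS, ringKrullDim_mvPowerSeries hΛ n, Nat.cast_add]
  exact hflat

end Groth.Agent.Lib.CohenFactor
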