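/-
helper14: tools for descending regularity of formal fibres along finite algebras.

* `isRegularRing_of_subsingleton` : the zero ring is regular.
* `isRegularRing_of_forall_exists_flat` : a Noetherian ring `T` is regular as soon as every prime of
  `T` is the contraction of a prime of some flat regular `T`-algebra.
* `exists_sub_mem_maximalIdeal_localRingHom'` : residue field surjectivity for `A_{n ∩ A} → C_n`
  from the weak hypothesis `∀ c, ∃ a t, t ∉ n ∩ A ∧ t c - a ∈ n`.
* `isNoetherianRing_tensor_of_essFiniteType`.
-/
import Mathlib
import Groth.Agent.Lib.H14AdicLocal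
import Groth.Agent.Lib.H87Serre2

set_option autoImplicit false
set_option linter.style.haveILetI false
set_option linter.unusedSectionVars false
universe u

namespace Groth.Agent.Lib.H14FinCpl

open IsLocalRing TensorProduct

/-- The zero ring is regular. -/
theorem isRegularRing_of_subsingleton (T : Type u) [CommRing T] [Subsingleton T] :
    IsRegularRing T := by
  haveI : IsNoetherianRing T := inferInstance
  rw [isRegularRing_iff]
  intro P hP
  exact absurd (Subsingleton.elim (1 : T) 0 ▸ P.zero_mem : (1 : T) ∈ P)
    ((Ideal.ne_top_iff_one P).1 hP.ne_top)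

/-- A Noetherian ring all of whose primes are contractions of primes of flat regular algebras is
regular. -/
theorem isRegularRing_of_forall_exists_flat (T : Type u) [CommRing T] [IsNoetherianRing T]
    (h : ∀ (P : Ideal T) [P.IsPrime], ∃ (T' : Type u) (_ : CommRing T') (_ : Algebra T T'),
      Module.Flat T T' ∧ IsRegularRing T' ∧
        ∃ (P' : Ideal T') (_ : P'.IsPrime), P'.comap (algebraMap T T') = P) :
    IsRegularRing T := by
  rw [isRegularRing_iff]
  intro P hP
  obtain ⟨T', _, _, hflat, hreg, P', hP', rfl⟩ := h P
  haveI := hreg
  letI := (Localization.localRingHom (Ideal.comap (algebraMap T T') P') P' (algebraMap T T')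
    rfl).toAlgebra
  haveI := Groth.Agent.Lib.H14AdicLocal.isLocalHom_localRingHom T T' P'
  haveI := Groth.Agent.Lib.H14AdicLocal.flat_localRingHom T T' P'
  haveI : IsRegularLocalRing (Localization.AtPrime P') := inferInstance
  exact Groth.Agent.Lib.H87Serre2.isRegularLocalRing_of_flat
    (Localization.AtPrime (Ideal.comap (algebraMap T T') P')) (Localization.AtPrime P')

section loc
variable (A C : Type u) [CommRing A] [CommRing C] [Algebra A C] (n : Ideal C) [n.IsPrime]

/-- Residue field surjectivity for `A_{n ∩ A} → C_n`, from a weak hypothesis allowing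
denominators. -/
theorem exists_sub_mem_maximalIdeal_localRingHom' [n.IsMaximal]
    (hres : ∀ c : C, ∃ a t : A, t ∉ Ideal.comap (algebraMap A C) n ∧
      algebraMap A C t * c - algebraMap A C a ∈ n) :
    letI := (Localization.localRingHom (Ideal.comap (algebraMap A C) n) n (algebraMap A C)
      rfl).toAlgebra
    ∀ y : Localization.AtPrime n, ∃ x : Localization.AtPrime (Ideal.comap (algebraMap A C) n),
      y - algebraMap _ _ x ∈ maximalIdeal (Localization.AtPrime n) := by
  letI := (Localization.localRingHom (Ideal.comap (algebraMap A C) n) n (algebraMap A C)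
    rfl).toAlgebra
  haveI := Groth.Agent.Lib.H14AdicLocal.isScalarTower_localRingHom A C n
  intro y
  obtain ⟨c, hc⟩ : ∃ c : C, y - algebraMap C _ c ∈ maximalIdeal (Localization.AtPrime n) := by
    obtain ⟨c, hc⟩ := (IsLocalization.AtPrime.equivQuotMaximalIdeal n
      (Localization.AtPrime n)).surjective (Ideal.Quotient.mk _ y)
    obtain ⟨c, rfl⟩ := Ideal.Quotient.mk_surjective c
    refine ⟨c, ?_⟩
    have hq : Ideal.Quotient.mk (maximalIdeal (Localization.AtPrime n)) y =
        Ideal.Quotient.mk (maximalIdeal (Localization.AtPrime n))
          (algebraMap C (Localization.AtPrime n) c) := by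
      rw [← hc]
      rfl
    exact Ideal.Quotient.eq.1 hq
  obtain ⟨a, t, ht, hat⟩ := hres c
  let q := Ideal.comap (algebraMap A C) n
  let x : Localization.AtPrime q := IsLocalization.mk' _ a (⟨t, ht⟩ : q.primeCompl)
  refine ⟨x, ?_⟩
  -- `t` is a unit of `C_n`
  have htu : IsUnit (algebraMap C (Localization.AtPrime n) (algebraMap A C t)) :=
    IsLocalization.map_units (Localization.AtPrime n) (⟨algebraMap A C t, ht⟩ : n.primeCompl)
  have hx : algebraMap C (Localization.AtPrime n) (algebraMap A C t) *
      algebraMap (Localization.AtPrime q) (Localization.AtPrime n) x =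
      algebraMap C (Localization.AtPrime n) (algebraMap A C a) := by
    have h1 : algebraMap A (Localization.AtPrime q) t * x = algebraMap A (Localization.AtPrime q) a := by
      rw [mul_comm]
      exact IsLocalization.mk'_spec _ a (⟨t, ht⟩ : q.primeCompl)
    have h2 := congrArg (algebraMap (Localization.AtPrime q) (Localization.AtPrime n)) h1
    rw [map_mul, ← IsScalarTower.algebraMap_apply, ← IsScalarTower.algebraMap_apply,
      IsScalarTower.algebraMap_apply A C (Localization.AtPrime n),
      IsScalarTower.algebraMap_apply A C (Localization.AtPrime n)] at h2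
    exact h2
  have h3 : y - algebraMap (Localization.AtPrime q) (Localization.AtPrime n) x =
      (y - algebraMap C _ c) +
        (algebraMap C (Localization.AtPrime n) c -
          algebraMap (Localization.AtPrime q) (Localization.AtPrime n) x) := by ring
  rw [h3]
  refine add_mem hc ?_
  rw [← Ideal.unit_mul_mem_iff_mem _ htu, mul_sub, hx, ← map_mul, ← map_sub,
    ← Localization.AtPrime.map_eq_maximalIdeal]
  exact Ideal.mem_map_of_mem _ hat

end loc

/-- `K ⊗_R B` is Noetherian when `K` is essentially of finite type over `R` and `B` is
Noetherian. -/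
theorem isNoetherianRing_tensor_of_essFiniteType (R K B : Type u) [CommRing R] [CommRing K]
    [CommRing B] [Algebra R K] [Algebra R B] [Algebra.EssFiniteType R K] [IsNoetherianRing B] :
    IsNoetherianRing (K ⊗[R] B) := by
  haveI : Algebra.EssFiniteType B (B ⊗[R] K) := inferInstance
  haveI : IsNoetherianRing (B ⊗[R] K) := Algebra.EssFiniteType.isNoetherianRing B _
  exact isNoetherianRing_of_ringEquiv _ (Algebra.TensorProduct.comm R B K).toRingEquiv

end Groth.Agent.Lib.H14FinCpl
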