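/-
helper14: connectedness / idempotents and normal rings (for S19375).

* `connectedSpace_iff_idem` : `Spec R` connected iff `R` nontrivial with only trivial idempotents
  (copied from helper's `Groth.Agent.S15610`).
* `isDomain_of_forall_isDomain_localization` : Noetherian, locally a domain, trivial idempotents
  ⇒ domain.
* `isDomain_and_isIntegrallyClosed_of_isNormalRing` : Noetherian normal ring with trivial idempotents
  is an integrally closed domain.
* `isNormalRing_of_isIntegrallyClosed` : an integrally closed domain is a normal ring.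
-/
import Mathlib
import Groth.Prelude.Def_EGA4b

set_option autoImplicit false
set_option linter.style.haveILetI false
universe u

namespace Groth.Agent.Lib.H14NormalConn

theorem connectedSpace_iff_idem (R : Type*) [CommRing R] :
    ConnectedSpace (PrimeSpectrum R) ↔
      Nontrivial R ∧ ∀ e : R, IsIdempotentElem e → e = 0 ∨ e = 1 := by
  rw [connectedSpace_iff_clopen]
  constructor
  · rintro ⟨hne, hcl⟩
    have hnt : Nontrivial R := (PrimeSpectrum.nonempty_iff_nontrivial).1 hne
    refine ⟨hnt, fun e he => ?_⟩
    have h1 : IsClopen (PrimeSpectrum.basicOpen e : Set (PrimeSpectrum R)) :=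
      PrimeSpectrum.isClopen_iff.2 ⟨e, he, rfl⟩
    rcases hcl _ h1 with h | h
    · left
      have h2 : IsNilpotent e := by
        rw [← PrimeSpectrum.basicOpen_eq_bot_iff]
        exact TopologicalSpace.Opens.ext h
      obtain ⟨n, hn⟩ := h2
      rcases Nat.eq_zero_or_pos n with h0 | hpos
      · subst h0
        rw [pow_zero] at hn
        exact absurd hn one_ne_zero
      · rw [← he.pow_eq (n := n) (by omega)]
        exact hn
    · right
      have h2 : IsUnit e := by
        by_contra hu
        obtain ⟨M, hM, heM⟩ := exists_max_ideal_of_mem_nonunits (mem_nonunits_iff.2 hu)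
        have hmem : (⟨M, hM.isPrime⟩ : PrimeSpectrum R) ∈
            (PrimeSpectrum.basicOpen e : Set (PrimeSpectrum R)) := by
          rw [h]
          trivial
        exact hmem heM
      obtain ⟨u, rfl⟩ := h2
      have h3 : (u : R) * u = u := he
      have := congrArg (fun t => (↑u⁻¹ : R) * t) h3
      simpa using this
  · rintro ⟨hnt, hidem⟩
    refine ⟨(PrimeSpectrum.nonempty_iff_nontrivial).2 hnt, fun s hs => ?_⟩
    obtain ⟨e, he, rfl⟩ := PrimeSpectrum.isClopen_iff.1 hs
    rcases hidem e he with h | h
    · left
      rw [h]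
      simp
    · right
      rw [h]
      simp

/-- A Noetherian ring whose localizations at maximal ideals are domains and whose only idempotents
are `0, 1` is a domain. -/
theorem isDomain_of_forall_isDomain_localization (R : Type u) [CommRing R] [IsNoetherianRing R]
    [Nontrivial R]
    (hloc : ∀ (m : Ideal R) [m.IsMaximal], IsDomain (Localization.AtPrime m))
    (hidem : ∀ e : R, IsIdempotentElem e → e = 0 ∨ e = 1) : IsDomain R := by
  classical
  haveI : IsReduced R := isReduced_ofLocalizationMaximal R (fun J hJ => by
    haveI := hJ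
    haveI := hloc J
    infer_instance)
  have hfin : (minimalPrimes R).Finite := minimalPrimes.finite_of_isNoetherianRing R
  have hsInf : sInf (minimalPrimes R) = ⊥ := by
    have := Ideal.sInf_minimalPrimes (I := (⊥ : Ideal R))
    rw [minimalPrimes, this]
    exact nilradical_eq_zero R
  have hmemall : ∀ x : R, (∀ q ∈ minimalPrimes R, x ∈ q) → x = 0 := by
    intro x hx
    have : x ∈ sInf (minimalPrimes R) := by
      rw [Ideal.mem_sInf]; exact fun {q} hq => hx q hq
    rwa [hsInf, Ideal.mem_bot] at this
  -- minimal primes inside a maximal ideal are the kernel of the localization map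
  have hker : ∀ (m : Ideal R) [m.IsMaximal], ∀ q ∈ minimalPrimes R, q ≤ m →
      q = RingHom.ker (algebraMap R (Localization.AtPrime m)) := by
    intro m _ q hq hqm
    haveI := hloc m
    have hKprime : (RingHom.ker (algebraMap R (Localization.AtPrime m))).IsPrime :=
      RingHom.ker_isPrime _
    have hKq : RingHom.ker (algebraMap R (Localization.AtPrime m)) ≤ q := by
      intro x hx
      rw [RingHom.mem_ker, IsLocalization.map_eq_zero_iff m.primeCompl] at hx
      obtain ⟨s, hs⟩ := hx
      have h1 : (s : R) * x ∈ q := by rw [hs]; exact q.zero_mem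
      exact (hq.1.1.mem_or_mem h1).resolve_left (fun hsq => s.2 (hqm hsq))
    exact le_antisymm (hq.2 ⟨hKprime, bot_le⟩ hKq) hKq
  obtain ⟨p₁, hp₁⟩ : (minimalPrimes R).Nonempty := by
    obtain ⟨m, hm⟩ := Ideal.exists_maximal R
    obtain ⟨p, hp, -⟩ := Ideal.exists_minimalPrimes_le (I := (⊥ : Ideal R)) (J := m) bot_le
    exact ⟨p, hp⟩
  have hp₁prime : p₁.IsPrime := hp₁.1.1
  by_cases h1 : ∀ q ∈ minimalPrimes R, q = p₁
  · have : p₁ = ⊥ := by
      rw [eq_bot_iff]
      intro x hx
      rw [Ideal.mem_bot]
      exact hmemall x (fun q hq => by rw [h1 q hq]; exact hx)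
    rw [this] at hp₁prime
    exact IsDomain.of_bot_isPrime R
  · push Not at h1
    obtain ⟨p₂, hp₂, hne⟩ := h1
    exfalso
    set S := hfin.toFinset with hS
    set T := S.erase p₁ with hT
    set J : Ideal R := T.inf id with hJ
    have hJle : ∀ q ∈ T, J ≤ q := fun q hq => Finset.inf_le (f := id) hq
    have hinf : ∀ x, x ∈ p₁ → x ∈ J → x = 0 := by
      intro x hx1 hxJ
      apply hmemall
      intro q hq
      by_cases hq1 : q = p₁
      · rw [hq1]; exact hx1
      · exact hJle q (Finset.mem_erase.mpr ⟨hq1, hfin.mem_toFinset.mpr hq⟩) hxJ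
    have htop : p₁ ⊔ J = ⊤ := by
      by_contra hnt
      obtain ⟨m, hm, hle⟩ := Ideal.exists_le_maximal _ hnt
      haveI := hm
      have hJm : J ≤ m := le_sup_right.trans hle
      rw [hJ, Ideal.IsPrime.inf_le' hm.isPrime] at hJm
      obtain ⟨i, hiT, hi⟩ := hJm
      have hi' := Finset.mem_erase.mp hiT
      have himin : i ∈ minimalPrimes R := hfin.mem_toFinset.mp hi'.2
      have e1 := hker m p₁ hp₁ (le_sup_left.trans hle)
      have e2 := hker m i himin hi
      exact hi'.1 (e2.trans e1.symm)
    have h1mem : (1 : R) ∈ p₁ ⊔ J := by rw [htop]; trivial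
    obtain ⟨a, ha, b, hb, hab⟩ := Submodule.mem_sup.mp h1mem
    have hab0 : a * b = 0 := hinf _ (p₁.mul_mem_right _ ha) (J.mul_mem_left _ hb)
    have haidem : IsIdempotentElem a := by
      show a * a = a
      have : a * a = a * (a + b) := by rw [mul_add, hab0, add_zero]
      rw [this, hab, mul_one]
    have hp₂T : p₂ ∈ T := Finset.mem_erase.mpr ⟨hne, hfin.mem_toFinset.mpr hp₂⟩
    rcases hidem a haidem with rfl | rfl
    · rw [zero_add] at hab
      rw [hab] at hb
      exact hp₂.1.1.ne_top ((Ideal.eq_top_iff_one _).mpr (hJle p₂ hp₂T hb))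
    · exact hp₁prime.ne_top ((Ideal.eq_top_iff_one _).mpr ha)

/-- A Noetherian normal ring with only trivial idempotents is an integrally closed domain. -/
theorem isDomain_and_isIntegrallyClosed_of_isNormalRing (R : Type u) [CommRing R]
    [IsNoetherianRing R] [Nontrivial R] (hN : EGA4.IsNormalRing R)
    (hidem : ∀ e : R, IsIdempotentElem e → e = 0 ∨ e = 1) :
    IsDomain R ∧ IsIntegrallyClosed R := by
  have hd : IsDomain R :=
    isDomain_of_forall_isDomain_localization R (fun m hm => (hN m).1) hidem
  exact ⟨hd, IsIntegrallyClosed.of_localization_maximal (fun p _ hp => (hN p).2)⟩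

/-- An integrally closed domain is a normal ring. -/
theorem isNormalRing_of_isIntegrallyClosed (R : Type u) [CommRing R] [IsDomain R]
    [IsIntegrallyClosed R] : EGA4.IsNormalRing R := by
  intro p _
  exact ⟨inferInstance,
    isIntegrallyClosed_of_isLocalization _ p.primeCompl p.primeCompl_le_nonZeroDivisors⟩

end Groth.Agent.Lib.H14NormalConn
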