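import Groth.Agent.Lib.H87Nagata2
import Groth.Agent.Lib.SmoothRegular
import Mathlib

/-!
# J-0 rings: basic lemmas (helper87)

`J0 R`: the regular locus of `Spec R` contains a nonempty open subset.

* `mem_regLocus_comap_of_isLocalization` : regular locus and localization.
* `J0_iff_exists_ne_zero` : for a domain, `J0` iff `D(f) ⊆ Reg` for some `f ≠ 0`.
* `isRegularRing_away` : `D(f) ⊆ Reg R` implies `R_f` is a regular ring.
* `J0_of_formallySmooth` : generic smoothness: finite type domain over a regular ring with formally
  smooth fraction field is J-0.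
* `J0_of_finite_injective` : J-0 descends along finite injective maps of Noetherian domains.
-/

set_option autoImplicit false
universe u
open PrimeSpectrum

namespace Groth.Agent.Lib.H87J0

open Groth.Agent.Lib.H87Nagata

/-- The regular locus contains a nonempty open subset. -/
def J0 (R : Type u) [CommRing R] : Prop :=
  ∃ U : Set (PrimeSpectrum R), IsOpen U ∧ U.Nonempty ∧ U ⊆ EGA4.regLocus R

/-- Regular locus and localization. -/
theorem mem_regLocus_comap_of_isLocalization {R S : Type u} [CommRing R] [CommRing S] [Algebra R S]
    (M : Submonoid R) [IsLocalization M S] (q : PrimeSpectrum S) :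
    comap (algebraMap R S) q ∈ EGA4.regLocus R ↔ q ∈ EGA4.regLocus S := by
  have : IsLocalization.AtPrime (Localization.AtPrime q.asIdeal)
      (q.asIdeal.comap (algebraMap R S)) :=
    IsLocalization.isLocalization_isLocalization_atPrime_isLocalization M _ q.asIdeal
  have e := IsLocalization.algEquiv (q.asIdeal.comap (algebraMap R S)).primeCompl
    (Localization.AtPrime (q.asIdeal.comap (algebraMap R S))) (Localization.AtPrime q.asIdeal)
  constructor
  · intro h
    have : IsRegularLocalRing (Localization.AtPrime (q.asIdeal.comap (algebraMap R S))) := h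
    exact IsRegularLocalRing.of_ringEquiv e.toRingEquiv
  · intro h
    have : IsRegularLocalRing (Localization.AtPrime q.asIdeal) := h
    exact IsRegularLocalRing.of_ringEquiv e.symm.toRingEquiv

theorem J0_iff_exists_ne_zero (R : Type u) [CommRing R] [IsDomain R] :
    J0 R ↔ ∃ f : R, f ≠ 0 ∧ ∀ p : PrimeSpectrum R, f ∉ p.asIdeal → p ∈ EGA4.regLocus R := by
  constructor
  · rintro ⟨U, hUo, ⟨x, hx⟩, hUr⟩
    obtain ⟨_, ⟨f, rfl⟩, hxf, hfU⟩ :=
      (isTopologicalBasis_basic_opens (R := R)).exists_subset_of_mem_open hx hUo
    refine ⟨f, ?_, fun p hp => hUr (hfU hp)⟩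
    rintro rfl
    exact hxf (Ideal.zero_mem _)
  · rintro ⟨f, hf, h⟩
    refine ⟨basicOpen f, (basicOpen f).2, ⟨⟨⊥, Ideal.isPrime_bot⟩, ?_⟩, fun p hp => h p hp⟩
    show f ∉ (⊥ : Ideal R)
    simpa using hf

/-- If `D(f) ⊆ Reg R` then `R_f` is a regular ring. -/
theorem isRegularRing_of_isLocalization_away {R : Type u} [CommRing R] [IsNoetherianRing R] (f : R)
    (h : ∀ p : PrimeSpectrum R, f ∉ p.asIdeal → p ∈ EGA4.regLocus R)
    (S : Type u) [CommRing S] [Algebra R S] [IsLocalization.Away f S] : IsRegularRing S := by
  have : IsNoetherianRing S := IsLocalization.isNoetherianRing (Submonoid.powers f) S inferInstance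
  rw [isRegularRing_iff]
  intro P hP
  have h1 := (mem_regLocus_comap_of_isLocalization (Submonoid.powers f) (⟨P, hP⟩ : PrimeSpectrum S)).mp
    (h _ ?_)
  · exact h1
  · intro hf
    have : algebraMap R S f ∈ P := hf
    exact hP.ne_top (Ideal.eq_top_of_isUnit_mem _ this (IsLocalization.Away.algebraMap_isUnit f))

open TensorProduct in
attribute [local instance] Algebra.TensorProduct.rightAlgebra in
/-- **Generic smoothness**: a finite type domain `S` over a Noetherian J-0 domain `R` whose fraction
field is formally smooth over `R` is J-0. -/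
theorem J0_of_formallySmooth (R S : Type u) [CommRing R] [CommRing S] [IsDomain R] [IsDomain S]
    [IsNoetherianRing R] [Algebra R S] [FaithfulSMul R S] [Algebra.FiniteType R S]
    (KS : Type*) [Field KS] [Algebra S KS] [IsFractionRing S KS] [Algebra R KS]
    [IsScalarTower R S KS] [Algebra.FormallySmooth R KS] (hR : J0 R) : J0 S := by
  have hfp : Algebra.FinitePresentation R S :=
    Algebra.FinitePresentation.of_finiteType.mp inferInstance
  have hloc : IsLocalization (⊥ : Ideal S).primeCompl KS := by
    rw [Ideal.primeCompl_bot]; infer_instance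
  let e : Localization.AtPrime (⊥ : Ideal S) ≃ₐ[S] KS :=
    IsLocalization.algEquiv (⊥ : Ideal S).primeCompl _ _
  have hsm : Algebra.IsSmoothAt R (⊥ : Ideal S) :=
    Algebra.FormallySmooth.of_equiv (e.restrictScalars R).symm
  obtain ⟨g, hg, hgs⟩ := Algebra.IsSmoothAt.exists_notMem_smooth (R := R) (⊥ : Ideal S)
  obtain ⟨a, ha, hreg⟩ := (J0_iff_exists_ne_zero R).mp hR
  have hRa : IsRegularRing (Localization.Away a) :=
    isRegularRing_of_isLocalization_away a hreg _
  have hT' : IsRegularRing (Localization.Away a ⊗[R] Localization.Away g) :=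
    Groth.Agent.Lib.SmoothRegular.isRegularRing_of_smooth (Localization.Away a) _
  let _ : Algebra S (Localization.Away a ⊗[R] Localization.Away g) :=
    ((algebraMap (Localization.Away g) (Localization.Away a ⊗[R] Localization.Away g)).comp
      (algebraMap S (Localization.Away g))).toAlgebra
  have : IsScalarTower S (Localization.Away g) (Localization.Away a ⊗[R] Localization.Away g) :=
    .of_algebraMap_eq' rfl
  have h1 : IsLocalization.Away (algebraMap R (Localization.Away g) a)
      (Localization.Away a ⊗[R] Localization.Away g) := inferInstance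
  have h2 : IsLocalization.Away (g * algebraMap R S a)
      (Localization.Away a ⊗[R] Localization.Away g) := by
    have : IsLocalization.Away (algebraMap S (Localization.Away g) (algebraMap R S a))
        (Localization.Away a ⊗[R] Localization.Away g) := by
      rw [← IsScalarTower.algebraMap_apply]; exact h1
    exact IsLocalization.Away.mul' (Localization.Away g) _ g (algebraMap R S a)
  rw [J0_iff_exists_ne_zero]
  have hg0 : g ≠ 0 := by simpa using hg
  have ha0 : algebraMap R S a ≠ 0 := by
    simpa using ha
  refine ⟨g * algebraMap R S a, mul_ne_zero hg0 ha0, fun p hp => ?_⟩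
  obtain ⟨q, rfl⟩ : p ∈ Set.range
      (comap (algebraMap S (Localization.Away a ⊗[R] Localization.Away g))) := by
    rw [localization_away_comap_range _ (g * algebraMap R S a)]
    exact hp
  exact (mem_regLocus_comap_of_isLocalization (Submonoid.powers (g * algebraMap R S a)) q).mpr
    (hT'.isRegularLocalRing_localization q.asIdeal)

/-- The generic point of a domain is in the free locus of any module. -/
theorem bot_mem_freeLocus (R : Type u) [CommRing R] [IsDomain R] (M : Type*) [AddCommGroup M]
    [Module R M] : (⟨⊥, Ideal.isPrime_bot⟩ : PrimeSpectrum R) ∈ Module.freeLocus R M := by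
  show Module.Free (Localization.AtPrime (⊥ : Ideal R))
    (LocalizedModule (⊥ : Ideal R).primeCompl M)
  have hmax : IsLocalRing.maximalIdeal (Localization.AtPrime (⊥ : Ideal R)) = ⊥ := by
    rw [← Localization.AtPrime.map_eq_maximalIdeal, Ideal.map_bot]
  have : IsField (Localization.AtPrime (⊥ : Ideal R)) :=
    IsLocalRing.isField_iff_maximalIdeal_eq.mpr hmax
  letI := this.toField
  exact Module.Free.of_divisionRing _ _

/-- **J-0 descends along finite injective maps of Noetherian domains.** -/
theorem J0_of_finite_injective (R S : Type u) [CommRing R] [CommRing S] [IsDomain R] [IsDomain S]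
    [IsNoetherianRing R] [Algebra R S] [FaithfulSMul R S] [Module.Finite R S] (hS : J0 S) :
    J0 R := by
  have hinj : Function.Injective (algebraMap R S) := FaithfulSMul.algebraMap_injective R S
  have hSN : IsNoetherianRing S := Algebra.FiniteType.isNoetherianRing R S
  obtain ⟨g, hg, hreg⟩ := (J0_iff_exists_ne_zero S).mp hS
  have hc : (Ideal.span {g}).comap (algebraMap R S) ≠ ⊥ :=
    Ideal.comap_ne_bot_of_integral_mem hg (Ideal.mem_span_singleton_self g)
      (Algebra.IsIntegral.isIntegral g)
  obtain ⟨c, hcmem, hc0⟩ := Submodule.exists_mem_ne_zero_of_ne_bot hc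
  have hfp : Module.FinitePresentation R S := Module.finitePresentation_of_finite R S
  have hopen : IsOpen (Module.freeLocus R S) := Module.isOpen_freeLocus
  refine ⟨Module.freeLocus R S ∩ basicOpen c, hopen.inter (basicOpen c).2,
    ⟨_, bot_mem_freeLocus R S, ?_⟩, ?_⟩
  · show c ∉ (⊥ : Ideal R)
    simpa using hc0
  rintro p ⟨hpfree, hpc⟩
  have hpc' : c ∈ p.asIdeal.primeCompl := hpc
  have hfree : Module.Free (Localization.AtPrime p.asIdeal)
      (Localization (Algebra.algebraMapSubmonoid S p.asIdeal.primeCompl)) :=
    (Module.mem_freeLocus_of_isLocalization p (Localization.AtPrime p.asIdeal)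
      (Localization (Algebra.algebraMapSubmonoid S p.asIdeal.primeCompl))
      (IsScalarTower.toAlgHom R S
        (Localization (Algebra.algebraMapSubmonoid S p.asIdeal.primeCompl))).toLinearMap).mp hpfree
  have hle : Algebra.algebraMapSubmonoid S p.asIdeal.primeCompl ≤ nonZeroDivisors S := by
    rintro _ ⟨r, hr, rfl⟩
    apply mem_nonZeroDivisors_of_ne_zero
    rw [Ne, map_eq_zero_iff _ hinj]
    rintro rfl
    exact hr (Ideal.zero_mem _)
  have hdom : IsDomain (Localization (Algebra.algebraMapSubmonoid S p.asIdeal.primeCompl)) :=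
    IsLocalization.isDomain_of_le_nonZeroDivisors _ hle
  have hff : Module.FaithfullyFlat (Localization.AtPrime p.asIdeal)
      (Localization (Algebra.algebraMapSubmonoid S p.asIdeal.primeCompl)) := inferInstance
  have hSpreg : IsRegularRing
      (Localization (Algebra.algebraMapSubmonoid S p.asIdeal.primeCompl)) := by
    rw [isRegularRing_iff]
    intro Q hQ
    refine (mem_regLocus_comap_of_isLocalization
      (Algebra.algebraMapSubmonoid S p.asIdeal.primeCompl) (⟨Q, hQ⟩ : PrimeSpectrum _)).mp
      (hreg _ ?_)
    intro hgQ
    have h1 : algebraMap R S c ∈ Q.comap (algebraMap S _) := by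
      have h2 : Ideal.span {g} ≤ Q.comap (algebraMap S _) := by
        rw [Ideal.span_le, Set.singleton_subset_iff]; exact hgQ
      exact h2 hcmem
    have h3 : IsUnit (algebraMap S (Localization (Algebra.algebraMapSubmonoid S
        p.asIdeal.primeCompl)) (algebraMap R S c)) :=
      IsLocalization.map_units _ (⟨algebraMap R S c, ⟨c, hpc', rfl⟩⟩ :
        Algebra.algebraMapSubmonoid S p.asIdeal.primeCompl)
    exact hQ.ne_top (Ideal.eq_top_of_isUnit_mem _ h1 h3)
  have hRpreg : IsRegularRing (Localization.AtPrime p.asIdeal) :=
    Groth.Agent.Lib.H87Serre2.isRegularRing_of_faithfullyFlat (Localization.AtPrime p.asIdeal)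
      (Localization (Algebra.algebraMapSubmonoid S p.asIdeal.primeCompl))
  exact IsRegularLocalRing.of_isRegularRing_of_isLocalRing (Localization.AtPrime p.asIdeal)

end Groth.Agent.Lib.H87J0
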