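import Groth.Agent.Lib.ComplMap
import Mathlib.RingTheory.Henselian

set_option autoImplicit false
universe u

namespace Groth.Agent.Lib.StalkSubring

open Groth.Agent.Lib.ComplMap

section Congr

variable {S T : Type u} [CommRing S] [CommRing T] (I : Ideal S) (K : Ideal T)

lemma complMap_congr {g g' : S →+* T} (hg : g = g') (h : I.map g ≤ K) (h' : I.map g' ≤ K)
    (x : AdicCompletion I S) : FSch.complMap I K g h x = FSch.complMap I K g' h' x := by
  subst hg
  rfl

end Congr

variable (A : Type u) [CommRing A] (J : Ideal A) (𝔭 : Ideal A) [𝔭.IsPrime]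

/-- The transition map `A_f → A_h` when `f` becomes invertible in `A_h`. -/
noncomputable def awayTrans (f h : A) (hu : IsUnit (algebraMap A (Localization.Away h) f)) :
    Localization.Away f →+* Localization.Away h :=
  IsLocalization.Away.lift f hu

lemma awayTrans_algebraMap (f h : A) (hu : IsUnit (algebraMap A (Localization.Away h) f)) (a : A) :
    awayTrans A f h hu (algebraMap A (Localization.Away f) a) =
      algebraMap A (Localization.Away h) a :=
  IsLocalization.Away.lift_eq _ _ _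

lemma awayTrans_comp_algebraMap (f h : A) (hu : IsUnit (algebraMap A (Localization.Away h) f)) :
    (awayTrans A f h hu).comp (algebraMap A (Localization.Away f)) =
      algebraMap A (Localization.Away h) :=
  RingHom.ext (awayTrans_algebraMap A f h hu)

lemma map_awayTrans_le (f h : A) (hu : IsUnit (algebraMap A (Localization.Away h) f)) :
    (J.map (algebraMap A (Localization.Away f))).map (awayTrans A f h hu) ≤
      J.map (algebraMap A (Localization.Away h)) := by
  rw [Ideal.map_map, awayTrans_comp_algebraMap]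

/-- The transition map `A_{f} → A_{h}` of completed localizations. -/
noncomputable def cAwayTrans (f h : A) (hu : IsUnit (algebraMap A (Localization.Away h) f)) :
    FSch.cAway A J f →+* FSch.cAway A J h :=
  FSch.complMap _ _ (awayTrans A f h hu) (map_awayTrans_le A J f h hu)

lemma awayToAtPrime_algebraMap (f : A) (hf : f ∉ 𝔭) (a : A) :
    FSch.awayToAtPrime A 𝔭 f hf (algebraMap A (Localization.Away f) a) =
      algebraMap A (Localization.AtPrime 𝔭) a :=
  IsLocalization.Away.lift_eq _ _ _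

lemma awayToAtPrime_comp_awayTrans (f h : A) (hu : IsUnit (algebraMap A (Localization.Away h) f))
    (hf : f ∉ 𝔭) (hh : h ∉ 𝔭) :
    (FSch.awayToAtPrime A 𝔭 h hh).comp (awayTrans A f h hu) = FSch.awayToAtPrime A 𝔭 f hf := by
  apply IsLocalization.ringHom_ext (Submonoid.powers f)
  ext a
  simp only [RingHom.coe_comp, Function.comp_apply, awayTrans_algebraMap,
    awayToAtPrime_algebraMap]

lemma cAwayToAtPrime_cAwayTrans (f h : A) (hu : IsUnit (algebraMap A (Localization.Away h) f))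
    (hf : f ∉ 𝔭) (hh : h ∉ 𝔭) (y : FSch.cAway A J f) :
    FSch.cAwayToAtPrime A J 𝔭 h hh (cAwayTrans A J f h hu y) =
      FSch.cAwayToAtPrime A J 𝔭 f hf y := by
  unfold FSch.cAwayToAtPrime cAwayTrans
  have h'' : (J.map (algebraMap A (Localization.Away f))).map
      ((FSch.awayToAtPrime A 𝔭 h hh).comp (awayTrans A f h hu)) ≤
      J.map (algebraMap A (Localization.AtPrime 𝔭)) := by
    rw [awayToAtPrime_comp_awayTrans A 𝔭 f h hu hf hh]
    exact FSch.map_awayToAtPrime_le A J 𝔭 f hf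
  rw [complMap_comp _ _ _ _ _ _ _ h'']
  exact complMap_congr _ _ (awayToAtPrime_comp_awayTrans A 𝔭 f h hu hf hh) _ _ y

/-- Elements of the stalk subring come from some completed localization. -/
lemma mem_stalkSubring_iff (x : FSch.cAtPrime A J 𝔭) :
    x ∈ FSch.stalkSubring A J 𝔭 ↔
      ∃ (f : A) (hf : f ∉ 𝔭) (y : FSch.cAway A J f), FSch.cAwayToAtPrime A J 𝔭 f hf y = x := by
  have hne : Nonempty {f : A // f ∉ 𝔭} :=
    ⟨⟨1, (Ideal.ne_top_iff_one 𝔭).mp (Ideal.IsPrime.ne_top inferInstance)⟩⟩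
  have hdir : Directed (· ≤ ·) (fun f : {f : A // f ∉ 𝔭} =>
      (FSch.cAwayToAtPrime A J 𝔭 f.1 f.2).range) := by
    rintro ⟨f, hf⟩ ⟨g, hg⟩
    have hfg : f * g ∉ 𝔭 := fun hmem =>
      (Ideal.IsPrime.mem_or_mem inferInstance hmem).elim hf hg
    refine ⟨⟨f * g, hfg⟩, ?_, ?_⟩
    · rintro _ ⟨y, rfl⟩
      exact ⟨cAwayTrans A J f (f * g)
        (IsLocalization.Away.isUnit_of_dvd (f * g) (dvd_mul_right f g)) y,
        cAwayToAtPrime_cAwayTrans A J 𝔭 f (f * g) _ hf hfg y⟩
    · rintro _ ⟨y, rfl⟩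
      exact ⟨cAwayTrans A J g (f * g)
        (IsLocalization.Away.isUnit_of_dvd (f * g) (dvd_mul_left g f)) y,
        cAwayToAtPrime_cAwayTrans A J 𝔭 g (f * g) _ hg hfg y⟩
  unfold FSch.stalkSubring
  rw [Subring.mem_iSup_of_directed hdir]
  constructor
  · rintro ⟨⟨f, hf⟩, y, hy⟩
    exact ⟨f, hf, y, hy⟩
  · rintro ⟨f, hf, y, hy⟩
    exact ⟨⟨f, hf⟩, y, hy⟩

lemma map_atPrime_ne_top (hJ : J ≤ 𝔭) :
    J.map (algebraMap A (Localization.AtPrime 𝔭)) ≠ ⊤ := by
  have hle : J.map (algebraMap A (Localization.AtPrime 𝔭)) ≤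
      IsLocalRing.maximalIdeal (Localization.AtPrime 𝔭) := by
    rw [← Localization.AtPrime.map_eq_maximalIdeal]
    exact Ideal.map_mono hJ
  intro h
  rw [h] at hle
  exact (IsLocalRing.maximalIdeal.isMaximal _).ne_top (top_le_iff.mp hle)

/-- The completion of `A_𝔭` along the extension of `J ≤ 𝔭` is a local ring. -/
lemma isLocalRing_cAtPrime (hJ : J ≤ 𝔭) : IsLocalRing (FSch.cAtPrime A J 𝔭) :=
  isLocalRing_adicCompletion _ (map_atPrime_ne_top A J 𝔭 hJ)

/-- An element of `A_𝔭` which is invertible modulo the extension of `J ≤ 𝔭` is invertible. -/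
lemma isUnit_of_isUnit_mk (hJ : J ≤ 𝔭) (c : Localization.AtPrime 𝔭)
    (hc : IsUnit (Ideal.Quotient.mk ((J.map (algebraMap A (Localization.AtPrime 𝔭))) ^ 1) c)) :
    IsUnit c := by
  have hle : (J.map (algebraMap A (Localization.AtPrime 𝔭))) ^ 1 ≤ Ideal.jacobson ⊥ := by
    rw [pow_one, IsLocalRing.jacobson_eq_maximalIdeal ⊥ bot_ne_top,
      ← Localization.AtPrime.map_eq_maximalIdeal]
    exact Ideal.map_mono hJ
  have := isLocalHom_of_le_jacobson_bot _ hle
  exact isUnit_of_map_unit (Ideal.Quotient.mk _) c hc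

/-- An element of some `A_{f}` whose image in the completion of `A_𝔭` is invertible becomes
invertible in some `A_{h}`. -/
lemma exists_isUnit_cAwayTrans (hJ : J ≤ 𝔭) (f : A) (hf : f ∉ 𝔭) (y : FSch.cAway A J f)
    (hy : IsUnit (FSch.cAwayToAtPrime A J 𝔭 f hf y)) :
    ∃ (h : A) (hh : h ∉ 𝔭) (hu : IsUnit (algebraMap A (Localization.Away h) f)),
      IsUnit (cAwayTrans A J f h hu y) := by
  obtain ⟨y₁, hy₁⟩ := Ideal.Quotient.mk_surjective
    (AdicCompletion.evalₐ (J.map (algebraMap A (Localization.Away f))) 1 y)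
  obtain ⟨a, s, rfl⟩ := IsLocalization.exists_mk'_eq (Submonoid.powers f) y₁
  have hs : (s : A) ∈ 𝔭.primeCompl := by
    have : Submonoid.powers f ≤ 𝔭.primeCompl := Submonoid.powers_le.mpr hf
    exact this s.2
  -- `a ∉ 𝔭`
  have ha : a ∉ 𝔭 := by
    have h1 := hy.map (AdicCompletion.evalₐ (J.map (algebraMap A (Localization.AtPrime 𝔭))) 1)
    unfold FSch.cAwayToAtPrime at h1
    rw [evalₐ_complMap, ← hy₁, Ideal.quotientMap_mk] at h1
    have h2 := isUnit_of_isUnit_mk A J 𝔭 hJ _ h1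
    have h3 : FSch.awayToAtPrime A 𝔭 f hf (IsLocalization.mk' (Localization.Away f) a s) *
        algebraMap A (Localization.AtPrime 𝔭) s = algebraMap A (Localization.AtPrime 𝔭) a := by
      rw [← awayToAtPrime_algebraMap A 𝔭 f hf, ← map_mul, IsLocalization.mk'_spec,
        awayToAtPrime_algebraMap]
    have h4 : IsUnit (algebraMap A (Localization.AtPrime 𝔭) (s : A)) :=
      IsLocalization.map_units (Localization.AtPrime 𝔭) (⟨s, hs⟩ : 𝔭.primeCompl)
    have h5 : IsUnit (algebraMap A (Localization.AtPrime 𝔭) a) := h3 ▸ h2.mul h4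
    exact (IsLocalization.AtPrime.isUnit_to_map_iff (Localization.AtPrime 𝔭) 𝔭 a).mp h5
  have hh : f * a ∉ 𝔭 := fun hmem => (Ideal.IsPrime.mem_or_mem inferInstance hmem).elim hf ha
  have hu : IsUnit (algebraMap A (Localization.Away (f * a)) f) :=
    IsLocalization.Away.isUnit_of_dvd (f * a) (dvd_mul_right f a)
  refine ⟨f * a, hh, hu, ?_⟩
  apply isUnit_of_isUnit_evalₐ_one
  unfold cAwayTrans
  rw [evalₐ_complMap, ← hy₁, Ideal.quotientMap_mk]
  apply IsUnit.map
  have h3 : awayTrans A f (f * a) hu (IsLocalization.mk' (Localization.Away f) a s) *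
      algebraMap A (Localization.Away (f * a)) s = algebraMap A (Localization.Away (f * a)) a := by
    rw [← awayTrans_algebraMap A f (f * a) hu, ← map_mul, IsLocalization.mk'_spec,
      awayTrans_algebraMap]
  have h5 : IsUnit (algebraMap A (Localization.Away (f * a)) a) :=
    IsLocalization.Away.isUnit_of_dvd (f * a) (dvd_mul_left a f)
  rw [← h3] at h5
  exact isUnit_of_mul_isUnit_left h5

/-- The inclusion of the stalk subring reflects units. -/
lemma isUnit_of_isUnit_coe (hJ : J ≤ 𝔭) (x : FSch.stalkSubring A J 𝔭)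
    (hx : IsUnit (x : FSch.cAtPrime A J 𝔭)) : IsUnit x := by
  obtain ⟨f, hf, y, hy⟩ := (mem_stalkSubring_iff A J 𝔭 x.1).mp x.2
  rw [← hy] at hx
  obtain ⟨h, hh, hu, hτ⟩ := exists_isUnit_cAwayTrans A J 𝔭 hJ f hf y hx
  obtain ⟨u, hu'⟩ := hτ
  have hmem : FSch.cAwayToAtPrime A J 𝔭 h hh (↑u⁻¹ : FSch.cAway A J h) ∈
      FSch.stalkSubring A J 𝔭 :=
    (mem_stalkSubring_iff A J 𝔭 _).mpr ⟨h, hh, _, rfl⟩
  have hxy : (x : FSch.cAtPrime A J 𝔭) = FSch.cAwayToAtPrime A J 𝔭 h hh (u : FSch.cAway A J h) := by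
    rw [hu', cAwayToAtPrime_cAwayTrans A J 𝔭 f h hu hf hh y, hy]
  refine IsUnit.of_mul_eq_one ⟨_, hmem⟩ ?_
  apply Subtype.ext
  change (x : FSch.cAtPrime A J 𝔭) * FSch.cAwayToAtPrime A J 𝔭 h hh (↑u⁻¹ : FSch.cAway A J h) = 1
  rw [hxy, ← map_mul, Units.mul_inv, map_one]

/-- The stalk subring is local and its inclusion into the completion of `A_𝔭` is a local
homomorphism. -/
theorem isLocalRing_stalkSubring (hJ : J ≤ 𝔭) :
    IsLocalRing (FSch.stalkSubring A J 𝔭) ∧ IsLocalHom (FSch.stalkSubring A J 𝔭).subtype := by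
  have hloc : IsLocalHom (FSch.stalkSubring A J 𝔭).subtype :=
    ⟨fun x hx => isUnit_of_isUnit_coe A J 𝔭 hJ x hx⟩
  have := isLocalRing_cAtPrime A J 𝔭 hJ
  exact ⟨RingHom.domain_isLocalRing (FSch.stalkSubring A J 𝔭).subtype, hloc⟩

end Groth.Agent.Lib.StalkSubring
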