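/-
helper14: adic completions of regular rings and of excellent normal domains (S17803).

* `isRegularRing_adicCompletion` : the `I`-adic completion of a regular ring is regular.
* `complMap_surjective` : the completion of a surjective ring map (Noetherian source) is surjective.
* `normal_and_quotient_regular` : S17803.
-/
import Mathlib
import Groth.Agent.Lib.H14AdicLocal
import Groth.Agent.Lib.H56FlatLocal
import Groth.Agent.Lib.H87Serre2
import Groth.Agent.Lib.H14FinCpl1
import Groth.Agent.Lib.ComplQuotient96
import Groth.Agent.Lib.ComplMap
import Groth.Agent.S0600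
import Groth.Agent.S2650
import Groth.Agent.Lib.H14NormalConn
import Groth.Agent.Lib.H14NormalHom
import Groth.Agent.Lib.H14ComplFlat2
import Groth.Agent.Lib.H14GeomP2

set_option autoImplicit false
set_option linter.style.haveILetI false
universe u
open TensorProduct IsLocalRing

namespace Groth.Agent.Lib.H14ComplRegular

open Groth.Agent.Lib Groth.Agent.Lib.H14AdicLocal

/-- The `I`-adic completion of a regular ring is regular. -/
theorem isRegularRing_adicCompletion (S : Type u) [CommRing S] [IsRegularRing S] (I : Ideal S) :
    IsRegularRing (AdicCompletion I S) := by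
  haveI : IsNoetherianRing (AdicCompletion I S) := AdicNoeth.isNoetherianRing_adicCompletion I
  haveI : Module.Flat S (AdicCompletion I S) := AdicCompletion.flat_of_isNoetherian I
  have hI : I.FG := (isNoetherianRing_iff_ideal_fg S).1 inferInstance I
  apply H14FinCpl.isRegularRing_of_forall_exists_flat
  intro P hP
  obtain ⟨n, hn, hPn⟩ := Ideal.exists_le_maximal P hP.ne_top
  haveI : n.IsPrime := hn.isPrime
  have hdisj : Disjoint (n.primeCompl : Set (AdicCompletion I S)) (P : Set (AdicCompletion I S)) := by
    rw [Set.disjoint_left]
    intro x hx hxP
    exact hx (hPn hxP)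
  refine ⟨Localization.AtPrime n, inferInstance, inferInstance, inferInstance, ?_,
    P.map (algebraMap _ (Localization.AtPrime n)),
    IsLocalization.isPrime_of_isPrime_disjoint n.primeCompl _ P hP hdisj,
    IsLocalization.under_map_of_isPrime_disjoint n.primeCompl _ hP hdisj⟩
  letI := (Localization.localRingHom (Ideal.comap (algebraMap S (AdicCompletion I S)) n) n
    (algebraMap S (AdicCompletion I S)) rfl).toAlgebra
  haveI := isLocalHom_localRingHom S (AdicCompletion I S) n
  haveI := flat_localRingHom S (AdicCompletion I S) n
  have hm := map_maximalIdeal_localRingHom S (AdicCompletion I S) n (map_comap_of_isMaximal S I hI n)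
  haveI : IsRegularLocalRing (Localization.AtPrime n) :=
    H56FlatLocal.isRegularLocalRing_of_flat_of_map_maximalIdeal hm
  exact H87Serre2.isRegularRing_of_isRegularLocalRing

/-- The completion of a surjective ring map (Noetherian source) is surjective. -/
theorem complMap_surjective {S T : Type u} [CommRing S] [CommRing T] [IsNoetherianRing S]
    (g : S →+* T) (hg : Function.Surjective g) (K : Ideal S) (J : Ideal T) (hJ : J = K.map g) :
    Function.Surjective (FSch.complMap K J g hJ.ge) := by
  letI : Algebra S T := g.toAlgebra
  have hs : Function.Surjective (algebraMap S T) := hg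
  haveI : Module.Finite S T := Module.Finite.of_surjective (Algebra.linearMap S T) hs
  have hJ' : J = K.map (algebraMap S T) := hJ
  letI alg : Algebra (AdicCompletion K S) (AdicCompletion J T) :=
    (FSch.complMap K J (algebraMap S T) hJ'.ge).toAlgebra
  haveI tower : IsScalarTower S (AdicCompletion K S) (AdicCompletion J T) := by
    apply IsScalarTower.of_algebraMap_eq
    intro a
    change _ = FSch.complMap K J (algebraMap S T) hJ'.ge (algebraMap S (AdicCompletion K S) a)
    rw [ComplMap.complMap_algebraMap, ← IsScalarTower.algebraMap_apply S T (AdicCompletion J T)]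
  have hpo : Algebra.IsPushout S T (AdicCompletion K S) (AdicCompletion J T) :=
    ComplQuotient96.isPushout K T J hJ' rfl
  have hpo' : Algebra.IsPushout S (AdicCompletion K S) T (AdicCompletion J T) := hpo.symm
  let e := Algebra.IsPushout.equiv S (AdicCompletion K S) T (AdicCompletion J T)
  intro y
  obtain ⟨x, hx⟩ := TensorProduct.flip_mk_surjective (R := S) (T := T) (AdicCompletion K S) hs
    (e.symm y)
  refine ⟨x, ?_⟩
  have h1 : e (algebraMap (AdicCompletion K S) (AdicCompletion K S ⊗[S] T) x) = y := by
    have : algebraMap (AdicCompletion K S) (AdicCompletion K S ⊗[S] T) x = e.symm y := hx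
    rw [this, AlgEquiv.apply_symm_apply]
  rw [← h1]
  exact (e.commutes x).symm

/-- S17803. -/
theorem normal_and_quotient_regular (A : Type u) [CommRing A] [IsDomain A] [IsIntegrallyClosed A]
    (hexc : EGA4.IsExcellent A)
    (hreg : ∃ (R : Type u) (_ : CommRing R) (_ : IsRegularRing R) (φ : R →+* A),
      Function.Surjective φ) (I : Ideal A) (f : A) :
    EGA4.IsNormalRing (AdicCompletion (I.map (algebraMap A (Localization.Away f)))
      (Localization.Away f)) ∧
    ∃ (R' : Type u) (_ : CommRing R') (_ : IsRegularRing R')
      (ψ : R' →+* AdicCompletion (I.map (algebraMap A (Localization.Away f)))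
        (Localization.Away f)), Function.Surjective ψ := by
  obtain ⟨hN, -, hG, -⟩ := hexc
  have hGf : CAlg.IsGRing (Localization.Away f) :=
    Groth.Agent.S2650.isGRing_localization hG (Submonoid.powers f)
  haveI : IsNoetherianRing (Localization.Away f) := hGf.1
  haveI : IsNoetherianRing (AdicCompletion (I.map (algebraMap A (Localization.Away f)))
      (Localization.Away f)) := AdicNoeth.isNoetherianRing_adicCompletion _
  constructor
  · have hreg' := Groth.Agent.S0600.result (Localization.Away f) hGf
      (I.map (algebraMap A (Localization.Away f)))
    have hnor := H14ComplFlat.isNormalHom_of_isRegularHom _ _ hreg'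
    by_cases hf : f = 0
    · -- the zero ring
      haveI : Subsingleton (Localization.Away f) := by
        rw [hf]; exact IsLocalization.subsingleton (M := Submonoid.powers (0 : A)) ⟨1, by simp⟩
      have h10 : (1 : AdicCompletion (I.map (algebraMap A (Localization.Away f)))
          (Localization.Away f)) = 0 := by
        rw [← map_one (algebraMap (Localization.Away f) _),
          Subsingleton.elim (1 : Localization.Away f) 0, map_zero]
      intro p hp
      exact absurd (h10 ▸ p.zero_mem) ((Ideal.ne_top_iff_one p).1 hp.ne_top)
    · haveI : IsDomain (Localization.Away f) :=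
        IsLocalization.isDomain_localization (powers_le_nonZeroDivisors_of_noZeroDivisors hf)
      haveI : IsIntegrallyClosed (Localization.Away f) :=
        isIntegrallyClosed_of_isLocalization _ (Submonoid.powers f)
          (powers_le_nonZeroDivisors_of_noZeroDivisors hf)
      have hAf : EGA4.IsNormalRing (Localization.Away f) :=
        H14NormalConn.isNormalRing_of_isIntegrallyClosed _
      exact H14NormalHom.isNormalRing_of_isNormalHom _ _ hnor hAf
  · obtain ⟨R, _, _, φ, hφ⟩ := hreg
    obtain ⟨g, hg⟩ := hφ f
    subst hg
    haveI : IsRegularRing (Localization.Away g) := H14GeomP.isRegularRing_localization _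
    let φg : Localization.Away g →+* Localization.Away (φ g) := Localization.awayMap φ g
    have hφg : Function.Surjective φg := by
      rw [Localization.awayMap_surjective_iff]
      intro a
      obtain ⟨r, rfl⟩ := hφ a
      exact ⟨r, 0, by simp⟩
    set J : Ideal (Localization.Away (φ g)) := I.map (algebraMap A (Localization.Away (φ g)))
    set K : Ideal (Localization.Away g) := J.comap φg
    have hJ : J = K.map φg := (Ideal.map_comap_of_surjective φg hφg J).symm
    exact ⟨AdicCompletion K (Localization.Away g), inferInstance,
      isRegularRing_adicCompletion _ K, FSch.complMap K J φg hJ.ge,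
      complMap_surjective φg hφg K J hJ⟩

end Groth.Agent.Lib.H14ComplRegular
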