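import Groth.Agent.Lib.H87Vasc2
import Mathlib.RingTheory.Localization.Algebra
import Mathlib.RingTheory.Localization.Ideal
import Mathlib.RingTheory.Ideal.Over
import Mathlib.Algebra.Module.LocalizedModule.Submodule

/-!
# Vasconcelos' theorem, global form (helper87)

* `cotangentLoc`, `projective_cotangent_map` : the conormal module `I/I²` localizes; projectivity over
  `R/I` passes to `R'/IR'` for a localization `R'` of `R`.
* `span_eq_of_span_toCotangent_eq_top` : Nakayama for generators of an ideal modulo its square.
* `exists_weaklyRegular_span_eq_localization` : if `pd I < ∞` and `I/I²` is projective, then `I R_p` is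
  generated by a regular sequence for every prime `p ⊇ I`.
* `isWeaklyRegular_ofFn_succ_iff`, `isSMulRegular_quotient_iff` : elementwise / snoc criteria for weakly
  regular sequences in a ring; `isWeaklyRegular_ofFn_unit_mul` (unit multiples).
* `exists_isWeaklyRegular_away` : **spreading out** weakly regular sequences from `R_p` to `R_g`.
* `exists_map_away_eq` : spreading out equalities of (finitely generated) ideals.
* `vasconcelos` : an ideal of finite projective dimension with projective conormal module in a
  Noetherian ring is locally generated by a regular sequence.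
-/

set_option autoImplicit false
universe u
open CategoryTheory Abelian IsLocalRing Pointwise RingTheory.Sequence

namespace Groth.Agent.Lib.H87Vasc

section CotangentLoc

variable {R : Type u} [CommRing R] (M : Submonoid R) (R' : Type u) [CommRing R'] [Algebra R R']
  [IsLocalization M R'] (I : Ideal R)

theorem localized'_smul_top :
    (I • ⊤ : Submodule R I).localized' R' M (Algebra.idealMap R' I) =
      (I.map (algebraMap R R') • ⊤ : Submodule R' (I.map (algebraMap R R'))) := by
  rw [Submodule.localized'_smul, Ideal.localized'_eq_map, Submodule.localized'_top]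

/-- The localization map on conormal modules `I/I² → I'/I'²`. -/
noncomputable def cotangentLoc : I.Cotangent →ₗ[R] (I.map (algebraMap R R')).Cotangent :=
  ((Submodule.quotEquivOfEq _ _ (localized'_smul_top M R' I)).restrictScalars R).toLinearMap ∘ₗ
    Submodule.toLocalizedQuotient' R' M (Algebra.idealMap R' I) (I • ⊤ : Submodule R I)

instance : IsLocalizedModule M (cotangentLoc M R' I) := by
  have h := IsLocalizedModule.toLocalizedQuotient' R' M (Algebra.idealMap R' I)
    (I • ⊤ : Submodule R I)
  exact IsLocalizedModule.of_linearEquiv M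
    (Submodule.toLocalizedQuotient' R' M (Algebra.idealMap R' I) (I • ⊤ : Submodule R I))
    ((Submodule.quotEquivOfEq _ _ (localized'_smul_top M R' I)).restrictScalars R)

end CotangentLoc

end Groth.Agent.Lib.H87Vasc

namespace Groth.Agent.Lib.H87Vasc

section CotangentLoc

/-- Projectivity of the conormal module is preserved under localization. -/
theorem projective_cotangent_map {R : Type u} [CommRing R] (M : Submonoid R) (R' : Type u)
    [CommRing R'] [Algebra R R'] [IsLocalization M R'] (I : Ideal R)
    [Module.Projective (R ⧸ I) I.Cotangent] :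
    Module.Projective (R' ⧸ I.map (algebraMap R R')) (I.map (algebraMap R R')).Cotangent := by
  let _ : Module (R ⧸ I) (I.map (algebraMap R R')).Cotangent :=
    Module.compHom _ (algebraMap (R ⧸ I) (R' ⧸ I.map (algebraMap R R')))
  have hsm : ∀ (b : R ⧸ I) (y : (I.map (algebraMap R R')).Cotangent),
      b • y = algebraMap (R ⧸ I) (R' ⧸ I.map (algebraMap R R')) b • y := fun _ _ => rfl
  have : IsScalarTower (R ⧸ I) (R' ⧸ I.map (algebraMap R R'))
      (I.map (algebraMap R R')).Cotangent :=
    ⟨fun b a y => by
      rw [Algebra.smul_def, mul_smul]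
      rfl⟩
  have : IsScalarTower R (R ⧸ I) (I.map (algebraMap R R')).Cotangent := by
    apply IsScalarTower.of_algebraMap_smul
    intro r y
    obtain ⟨y, rfl⟩ := Ideal.toCotangent_surjective _ y
    have h1 : algebraMap (R ⧸ I) (R' ⧸ I.map (algebraMap R R')) (algebraMap R (R ⧸ I) r) =
        Ideal.Quotient.mk _ (algebraMap R R' r) := rfl
    rw [hsm, h1]
    have h2 : (Ideal.Quotient.mk (I.map (algebraMap R R')) (algebraMap R R' r)) •
        (I.map (algebraMap R R')).toCotangent y =
        (I.map (algebraMap R R')).toCotangent (algebraMap R R' r • y) := rfl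
    rw [h2, algebraMap_smul, LinearMap.map_smul_of_tower]
  let hB : I.Cotangent →ₗ[R ⧸ I] (I.map (algebraMap R R')).Cotangent :=
    (cotangentLoc M R' I).extendScalarsOfSurjective Ideal.Quotient.mk_surjective
  have : IsLocalizedModule M (hB.restrictScalars R) :=
    inferInstanceAs (IsLocalizedModule M (cotangentLoc M R' I))
  have := IsLocalizedModule.of_restrictScalars M hB
  exact Module.projective_of_isLocalizedModule (Algebra.algebraMapSubmonoid (R ⧸ I) M) hB

end CotangentLoc

end Groth.Agent.Lib.H87Vasc

namespace Groth.Agent.Lib.H87Vasc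

/-- Nakayama: elements of an ideal `J` (contained in the maximal ideal of a Noetherian local
ring) whose classes span `J/J²` generate `J`. -/
theorem span_eq_of_span_toCotangent_eq_top {T : Type u} [CommRing T] [IsLocalRing T]
    [IsNoetherianRing T] (J : Ideal T) (hJ : J ≠ ⊤) {r : ℕ} (x : Fin r → T) (hx : ∀ i, x i ∈ J)
    (hspan : Submodule.span (T ⧸ J) (Set.range fun i => J.toCotangent ⟨x i, hx i⟩) = ⊤) :
    Ideal.span (Set.range x) = J := by
  have hJm : J ≤ maximalIdeal T := le_maximalIdeal hJ
  apply le_antisymm
  · rw [Ideal.span_le]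
    rintro _ ⟨i, rfl⟩
    exact hx i
  · apply Submodule.le_of_le_smul_of_le_jacobson_bot (Ideal.fg_of_isNoetherianRing J)
      (hJm.trans (IsLocalRing.maximalIdeal_le_jacobson _))
    intro y hy
    let x' : Fin r → J := fun i => ⟨x i, hx i⟩
    have h1 : Submodule.span T (Set.range fun i => J.toCotangent (x' i)) = ⊤ := by
      have := Submodule.restrictScalars_span T (T ⧸ J) Ideal.Quotient.mk_surjective
        (Set.range fun i => J.toCotangent (x' i))
      rw [← this, hspan]
      rfl
    have h2 : (Submodule.span T (Set.range x')).map J.toCotangent = ⊤ := by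
      rw [Submodule.map_span, ← Set.range_comp]
      exact h1
    have h3 : J.toCotangent ⟨y, hy⟩ ∈ (Submodule.span T (Set.range x')).map J.toCotangent := by
      rw [h2]
      trivial
    obtain ⟨t, ht, hty⟩ := h3
    rw [Ideal.toCotangent_eq] at hty
    have h4 : (t : T) ∈ Ideal.span (Set.range x) := by
      have : (Submodule.span T (Set.range x')).map J.subtype = Ideal.span (Set.range x) := by
        rw [Submodule.map_span, ← Set.range_comp]
        rfl
      rw [← this]
      exact ⟨t, ht, rfl⟩
    have h5 : y = (t : T) - ((t : T) - y) := by ring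
    rw [h5]
    refine Submodule.sub_mem _ (Submodule.mem_sup_left h4) (Submodule.mem_sup_right ?_)
    rw [smul_eq_mul, ← pow_two]
    exact hty

end Groth.Agent.Lib.H87Vasc

namespace Groth.Agent.Lib.H87Vasc

/-- Vasconcelos at a prime: if `I` has finite projective dimension and projective conormal module,
then `I R_p` is generated by a regular sequence for every prime `p ⊇ I`. -/
theorem exists_weaklyRegular_span_eq_localization {R : Type u} [CommRing R] [IsNoetherianRing R]
    (I : Ideal R) (n : ℕ) (hpd : HasProjectiveDimensionLT (ModuleCat.of R I) n)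
    [Module.Projective (R ⧸ I) I.Cotangent] (p : Ideal R) [p.IsPrime] (hIp : I ≤ p) :
    ∃ (r : ℕ) (x : Fin r → Localization.AtPrime p),
      IsWeaklyRegular (Localization.AtPrime p) (List.ofFn x) ∧
      Ideal.span (Set.range x) = I.map (algebraMap R (Localization.AtPrime p)) := by
  have hI'm : I.map (algebraMap R (Localization.AtPrime p)) ≤
      maximalIdeal (Localization.AtPrime p) := by
    rw [← Localization.AtPrime.map_eq_maximalIdeal]
    exact Ideal.map_mono hIp
  have hI' : I.map (algebraMap R (Localization.AtPrime p)) ≠ ⊤ := by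
    intro h
    rw [h] at hI'm
    exact (IsLocalRing.maximalIdeal.isMaximal _).ne_top (top_le_iff.mp hI'm)
  -- projective dimension
  have hpd' : HasProjectiveDimensionLT (ModuleCat.of (Localization.AtPrime p)
      (I.map (algebraMap R (Localization.AtPrime p)))) n := by
    have h1 := hasProjectiveDimensionLT_localizedModule p.primeCompl I n hpd
    let e : LocalizedModule p.primeCompl I ≃ₗ[Localization.AtPrime p]
        I.map (algebraMap R (Localization.AtPrime p)) :=
      LinearEquiv.extendScalarsOfIsLocalization p.primeCompl (Localization.AtPrime p)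
        (IsLocalizedModule.linearEquiv p.primeCompl (LocalizedModule.mkLinearMap p.primeCompl I)
          (Algebra.idealMap (Localization.AtPrime p) I))
    exact hasProjectiveDimensionLT_of_iso e.toModuleIso n
  -- the conormal module is free
  have hproj := projective_cotangent_map p.primeCompl (Localization.AtPrime p) I
  have hnt : Nontrivial (Localization.AtPrime p ⧸ I.map (algebraMap R (Localization.AtPrime p))) :=
    Ideal.Quotient.nontrivial_iff.mpr hI'
  have hloc : IsLocalRing (Localization.AtPrime p ⧸ I.map (algebraMap R (Localization.AtPrime p))) :=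
    IsLocalRing.of_surjective' (Ideal.Quotient.mk _) Ideal.Quotient.mk_surjective
  have hfin : Module.Finite (Localization.AtPrime p ⧸ I.map (algebraMap R (Localization.AtPrime p)))
      (I.map (algebraMap R (Localization.AtPrime p))).Cotangent := by
    have h0 : Module.Finite (Localization.AtPrime p)
        (I.map (algebraMap R (Localization.AtPrime p))) := Module.IsNoetherian.finite _ _
    have h1 : Module.Finite (Localization.AtPrime p)
        (I.map (algebraMap R (Localization.AtPrime p))).Cotangent :=
      Module.Finite.of_surjective _ (Ideal.toCotangent_surjective _)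
    exact Module.Finite.of_restrictScalars_finite (Localization.AtPrime p) _ _
  have hfree : Module.Free (Localization.AtPrime p ⧸ I.map (algebraMap R (Localization.AtPrime p)))
      (I.map (algebraMap R (Localization.AtPrime p))).Cotangent :=
    Module.free_of_flat_of_isLocalRing
  let b := Module.finBasis (Localization.AtPrime p ⧸ I.map (algebraMap R (Localization.AtPrime p)))
    (I.map (algebraMap R (Localization.AtPrime p))).Cotangent
  obtain ⟨x, hx, hreg, hspan⟩ := exists_isRegular_span_eq
    (I.map (algebraMap R (Localization.AtPrime p))) hI' n hpd' ⊤ ⊥ isCompl_top_bot _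
    (Submodule.topEquiv.trans b.equivFun)
  exact ⟨_, x, hreg.toIsWeaklyRegular, span_eq_of_span_toCotangent_eq_top _ hI' x hx hspan⟩

end Groth.Agent.Lib.H87Vasc

namespace Groth.Agent.Lib.H87Vasc

section Snoc

variable {T : Type*} [CommRing T]

theorem ofList_ofFn {r : ℕ} (y : Fin r → T) : Ideal.ofList (List.ofFn y) = Ideal.span (Set.range y) := by
  unfold Ideal.ofList
  congr 1
  ext z
  simp [List.mem_ofFn]

/-- Elementwise criterion for regularity modulo an ideal. -/
theorem isSMulRegular_quotient_iff (J : Ideal T) (y : T) :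
    IsSMulRegular (T ⧸ (J • ⊤ : Submodule T T)) y ↔ ∀ z : T, y * z ∈ J → z ∈ J := by
  have hJ : (J • ⊤ : Submodule T T) = J := by rw [smul_eq_mul, Ideal.mul_top]
  rw [isSMulRegular_iff_right_eq_zero_of_smul]
  constructor
  · intro h z hz
    have := h (Submodule.Quotient.mk z) (by
      rw [← Submodule.Quotient.mk_smul, Submodule.Quotient.mk_eq_zero, hJ]
      exact hz)
    rw [Submodule.Quotient.mk_eq_zero, hJ] at this
    exact this
  · intro h m hm
    obtain ⟨z, rfl⟩ := Submodule.Quotient.mk_surjective _ m
    rw [← Submodule.Quotient.mk_smul, Submodule.Quotient.mk_eq_zero, hJ] at hm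
    rw [Submodule.Quotient.mk_eq_zero, hJ]
    exact h z hm

/-- Recursive (snoc) characterization of weakly regular sequences given by a function. -/
theorem isWeaklyRegular_ofFn_succ_iff {r : ℕ} (y : Fin (r + 1) → T) :
    IsWeaklyRegular T (List.ofFn y) ↔
      IsWeaklyRegular T (List.ofFn fun i => y (Fin.castSucc i)) ∧
        ∀ z : T, y (Fin.last r) * z ∈ Ideal.span (Set.range fun i => y (Fin.castSucc i)) →
          z ∈ Ideal.span (Set.range fun i => y (Fin.castSucc i)) := by
  rw [List.ofFn_succ', List.concat_eq_append, isWeaklyRegular_append_iff,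
    isWeaklyRegular_singleton_iff, isSMulRegular_quotient_iff, ofList_ofFn]

end Snoc

end Groth.Agent.Lib.H87Vasc

namespace Groth.Agent.Lib.H87Vasc

section Unit

variable {T : Type*} [CommRing T]

theorem span_range_unit_mul {ι : Type*} (x u : ι → T) (hu : ∀ i, IsUnit (u i)) :
    Ideal.span (Set.range fun i => u i * x i) = Ideal.span (Set.range x) := by
  apply le_antisymm
  · rw [Ideal.span_le]
    rintro _ ⟨i, rfl⟩
    exact Ideal.mul_mem_left _ _ (Ideal.subset_span ⟨i, rfl⟩)
  · rw [Ideal.span_le]
    rintro _ ⟨i, rfl⟩
    obtain ⟨w, hw⟩ := (hu i).exists_left_inv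
    have : x i = w * (u i * x i) := by rw [← mul_assoc, hw, one_mul]
    rw [this]
    exact Ideal.mul_mem_left _ _ (Ideal.subset_span ⟨i, rfl⟩)

/-- Multiplying the terms of a weakly regular sequence by units gives a weakly regular
sequence. -/
theorem isWeaklyRegular_ofFn_unit_mul {r : ℕ} : ∀ (x u : Fin r → T), (∀ i, IsUnit (u i)) →
    IsWeaklyRegular T (List.ofFn x) → IsWeaklyRegular T (List.ofFn fun i => u i * x i) := by
  induction r with
  | zero =>
    intro x u _ _
    simp
  | succ r ih =>
    intro x u hu h
    rw [isWeaklyRegular_ofFn_succ_iff] at h ⊢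
    refine ⟨ih _ _ (fun i => hu _) h.1, ?_⟩
    rw [span_range_unit_mul (fun i => x (Fin.castSucc i)) (fun i => u (Fin.castSucc i))
      (fun i => hu _)]
    intro z hz
    have h1 : x (Fin.last r) * (u (Fin.last r) * z) ∈
        Ideal.span (Set.range fun i => x (Fin.castSucc i)) := by
      have : x (Fin.last r) * (u (Fin.last r) * z) = u (Fin.last r) * x (Fin.last r) * z := by
        ring
      rw [this]
      exact hz
    have h2 := h.2 _ h1
    obtain ⟨w, hw⟩ := (hu (Fin.last r)).exists_left_inv
    have : z = w * (u (Fin.last r) * z) := by rw [← mul_assoc, hw, one_mul]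
    rw [this]
    exact Ideal.mul_mem_left _ _ h2

end Unit

end Groth.Agent.Lib.H87Vasc

namespace Groth.Agent.Lib.H87Vasc

section Spread

variable {R : Type u} [CommRing R] [IsNoetherianRing R] (p : Ideal R) [p.IsPrime]

omit [IsNoetherianRing R] in
theorem span_range_algebraMap {S : Type*} [CommRing S] [Algebra R S] {ι : Type*} (a : ι → R) :
    Ideal.span (Set.range fun i => algebraMap R S (a i)) =
      (Ideal.span (Set.range a)).map (algebraMap R S) := by
  rw [Ideal.map_span, ← Set.range_comp]
  rfl

/-- A finitely generated ideal `C` with `C R_p ⊆ J R_p` satisfies `s C ⊆ J` for some `s ∉ p`. -/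
theorem exists_mul_le_of_forall (C J : Ideal R)
    (h : ∀ w ∈ C, ∃ s ∈ p.primeCompl, s * w ∈ J) :
    ∃ s ∈ p.primeCompl, ∀ w ∈ C, s * w ∈ J := by
  classical
  obtain ⟨t, ht⟩ := (isNoetherianRing_iff_ideal_fg R).mp ‹_› C
  have key : ∀ t' : Finset R, (∀ w ∈ t', w ∈ C) → ∃ s ∈ p.primeCompl, ∀ w ∈ t', s * w ∈ J := by
    intro t'
    induction t' using Finset.induction_on with
    | empty => exact fun _ => ⟨1, Submonoid.one_mem _, by simp⟩
    | insert w t' _ ih =>
      intro hw
      obtain ⟨s1, hs1, h1⟩ := ih (fun w' hw' => hw w' (Finset.mem_insert_of_mem hw'))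
      obtain ⟨s2, hs2, h2⟩ := h w (hw w (Finset.mem_insert_self _ _))
      refine ⟨s1 * s2, Submonoid.mul_mem _ hs1 hs2, ?_⟩
      intro w' hw'
      rcases Finset.mem_insert.mp hw' with rfl | hw'
      · rw [mul_assoc]
        exact J.mul_mem_left _ h2
      · rw [mul_comm s1 s2, mul_assoc]
        exact J.mul_mem_left _ (h1 w' hw')
  obtain ⟨s, hs, hst⟩ := key t (fun w hw => by rw [← ht]; exact Ideal.subset_span hw)
  refine ⟨s, hs, ?_⟩
  have hle : C ≤ Submodule.comap (LinearMap.mulLeft R s) J := by
    rw [← ht, Ideal.span_le]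
    intro w hw
    exact hst w hw
  intro w hw
  exact hle hw

/-- **Spreading out weakly regular sequences** from `R_p` to a basic open neighbourhood. -/
theorem exists_isWeaklyRegular_away {r : ℕ} : ∀ (a : Fin r → R),
    IsWeaklyRegular (Localization.AtPrime p)
      (List.ofFn fun i => algebraMap R (Localization.AtPrime p) (a i)) →
    ∃ g ∈ p.primeCompl, ∀ h : R, g ∣ h →
      IsWeaklyRegular (Localization.Away h)
        (List.ofFn fun i => algebraMap R (Localization.Away h) (a i)) := by
  induction r with
  | zero =>
    intro a _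
    exact ⟨1, Submonoid.one_mem _, fun h _ => by simp⟩
  | succ r ih =>
    intro a ha
    rw [isWeaklyRegular_ofFn_succ_iff] at ha
    obtain ⟨ha1, ha2⟩ := ha
    obtain ⟨g1, hg1, hg1'⟩ := ih (fun i => a (Fin.castSucc i)) ha1
    set J : Ideal R := Ideal.span (Set.range fun i => a (Fin.castSucc i)) with hJ
    rw [span_range_algebraMap (fun i => a (Fin.castSucc i))] at ha2
    let C : Ideal R := Submodule.comap (LinearMap.mulLeft R (a (Fin.last r))) J
    have hCmem : ∀ w, w ∈ C ↔ a (Fin.last r) * w ∈ J := fun w => Iff.rfl
    have hC : ∀ w ∈ C, ∃ s ∈ p.primeCompl, s * w ∈ J := by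
      intro w hw
      have h1 : algebraMap R (Localization.AtPrime p) (a (Fin.last r)) *
          algebraMap R (Localization.AtPrime p) w ∈
          J.map (algebraMap R (Localization.AtPrime p)) := by
        rw [← map_mul]
        exact Ideal.mem_map_of_mem _ ((hCmem w).mp hw)
      have h2 := ha2 _ h1
      exact (IsLocalization.algebraMap_mem_map_algebraMap_iff p.primeCompl _ J w).mp h2
    obtain ⟨g2, hg2, hg2'⟩ := exists_mul_le_of_forall p C J hC
    refine ⟨g1 * g2, Submonoid.mul_mem _ hg1 hg2, ?_⟩
    intro h hgh
    rw [isWeaklyRegular_ofFn_succ_iff]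
    refine ⟨hg1' h (Dvd.dvd.trans (Dvd.intro _ rfl) hgh), ?_⟩
    rw [span_range_algebraMap (fun i => a (Fin.castSucc i))]
    intro z hz
    obtain ⟨w, s, rfl⟩ := IsLocalization.exists_mk'_eq (Submonoid.powers h) z
    rw [IsLocalization.mul_mk'_eq_mk'_of_mul,
      IsLocalization.mk'_mem_map_algebraMap_iff (Submonoid.powers h)] at hz
    obtain ⟨m, hm, hmw⟩ := hz
    rw [IsLocalization.mk'_mem_map_algebraMap_iff (Submonoid.powers h)]
    have hmwC : m * w ∈ C := by
      rw [hCmem]
      have : a (Fin.last r) * (m * w) = m * (a (Fin.last r) * w) := by ring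
      rw [this]
      exact hmw
    have h3 := hg2' _ hmwC
    obtain ⟨c, rfl⟩ := hgh
    refine ⟨g1 * g2 * c * m, Submonoid.mul_mem _ (Submonoid.mem_powers _) hm, ?_⟩
    have : g1 * g2 * c * m * w = (g1 * c) * (g2 * (m * w)) := by ring
    rw [this]
    exact J.mul_mem_left _ h3

end Spread

end Groth.Agent.Lib.H87Vasc

namespace Groth.Agent.Lib.H87Vasc

section Spread

variable {R : Type u} [CommRing R] [IsNoetherianRing R] (p : Ideal R) [p.IsPrime]

/-- Two ideals that agree in `R_p` agree in `R_h` for all multiples `h` of some `g ∉ p`. -/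
theorem exists_map_away_eq (K I : Ideal R)
    (h : K.map (algebraMap R (Localization.AtPrime p)) =
      I.map (algebraMap R (Localization.AtPrime p))) :
    ∃ g ∈ p.primeCompl, ∀ h : R, g ∣ h →
      K.map (algebraMap R (Localization.Away h)) = I.map (algebraMap R (Localization.Away h)) := by
  have key : ∀ K I : Ideal R, K.map (algebraMap R (Localization.AtPrime p)) ≤
      I.map (algebraMap R (Localization.AtPrime p)) →
      ∃ g ∈ p.primeCompl, ∀ h : R, g ∣ h →
        K.map (algebraMap R (Localization.Away h)) ≤
          I.map (algebraMap R (Localization.Away h)) := by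
    intro K I hle
    have h1 : ∀ w ∈ K, ∃ s ∈ p.primeCompl, s * w ∈ I := by
      intro w hw
      exact (IsLocalization.algebraMap_mem_map_algebraMap_iff p.primeCompl _ I w).mp
        (hle (Ideal.mem_map_of_mem _ hw))
    obtain ⟨g, hg, hg'⟩ := exists_mul_le_of_forall p K I h1
    refine ⟨g, hg, ?_⟩
    rintro h ⟨c, rfl⟩
    rw [Ideal.map_le_iff_le_comap]
    intro w hw
    rw [Ideal.mem_comap,
      IsLocalization.algebraMap_mem_map_algebraMap_iff (Submonoid.powers (g * c))]
    refine ⟨g * c, Submonoid.mem_powers _, ?_⟩
    have : g * c * w = c * (g * w) := by ring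
    rw [this]
    exact I.mul_mem_left _ (hg' w hw)
  obtain ⟨g1, hg1, hg1'⟩ := key K I h.le
  obtain ⟨g2, hg2, hg2'⟩ := key I K h.ge
  refine ⟨g1 * g2, Submonoid.mul_mem _ hg1 hg2, ?_⟩
  intro h hgh
  exact le_antisymm (hg1' h (Dvd.dvd.trans (Dvd.intro _ rfl) hgh))
    (hg2' h (Dvd.dvd.trans (Dvd.intro_left _ rfl) hgh))

end Spread

/-- **Vasconcelos' theorem**: an ideal of finite projective dimension in a Noetherian ring whose
conormal module is projective is locally generated by a regular sequence. -/
theorem vasconcelos {R : Type u} [CommRing R] [IsNoetherianRing R] (I : Ideal R) (n : ℕ)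
    (hpd : HasProjectiveDimensionLT (ModuleCat.of R I) n)
    [Module.Projective (R ⧸ I) I.Cotangent] (p : Ideal R) [p.IsPrime] (hIp : I ≤ p) :
    ∃ g : R, g ∉ p ∧ ∃ rs : List (Localization.Away g),
      IsRegular (Localization.Away g) rs ∧
        Ideal.ofList rs = I.map (algebraMap R (Localization.Away g)) := by
  obtain ⟨r, x, hxreg, hxspan⟩ := exists_weaklyRegular_span_eq_localization I n hpd p hIp
  choose a s ha using fun i => IsLocalization.exists_mk'_eq p.primeCompl (x i)
  let u : Fin r → Localization.AtPrime p := fun i => algebraMap R _ (s i : R)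
  have hu : ∀ i, IsUnit (u i) := fun i => IsLocalization.map_units _ (s i)
  have hau : ∀ i, algebraMap R (Localization.AtPrime p) (a i) = u i * x i := by
    intro i
    rw [← ha i]
    exact (IsLocalization.mk'_spec' _ _ _).symm
  have hreg' : IsWeaklyRegular (Localization.AtPrime p)
      (List.ofFn fun i => algebraMap R (Localization.AtPrime p) (a i)) := by
    have := isWeaklyRegular_ofFn_unit_mul x u hu hxreg
    have hfun : (fun i => algebraMap R (Localization.AtPrime p) (a i)) = fun i => u i * x i :=
      funext hau
    rw [hfun]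
    exact this
  have hspan' : (Ideal.span (Set.range a)).map (algebraMap R (Localization.AtPrime p)) =
      I.map (algebraMap R (Localization.AtPrime p)) := by
    rw [← span_range_algebraMap, ← hxspan, ← span_range_unit_mul x u hu]
    congr 2
    exact funext hau
  obtain ⟨g1, hg1, hg1'⟩ := exists_isWeaklyRegular_away p a hreg'
  obtain ⟨g0, hg0, hg0'⟩ := exists_map_away_eq p _ I hspan'
  have hg : g0 * g1 ∈ p.primeCompl := Submonoid.mul_mem _ hg0 hg1
  refine ⟨g0 * g1, hg, List.ofFn fun i => algebraMap R (Localization.Away (g0 * g1)) (a i), ?_, ?_⟩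
  · refine ⟨hg1' _ (Dvd.intro_left _ rfl), ?_⟩
    rw [ofList_ofFn, span_range_algebraMap, hg0' _ (Dvd.intro _ rfl), smul_eq_mul, Ideal.mul_top]
    apply Ne.symm
    rw [IsLocalization.map_algebraMap_ne_top_iff_disjoint (Submonoid.powers (g0 * g1))]
    rw [Set.disjoint_left]
    rintro _ ⟨k, rfl⟩ hI
    exact hg (Ideal.IsPrime.mem_of_pow_mem inferInstance k (hIp hI))
  · rw [ofList_ofFn, span_range_algebraMap, hg0' _ (Dvd.intro _ rfl)]

end Groth.Agent.Lib.H87Vasc
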