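
import Groth.Agent.Lib.H87Vasc3
import Groth.Agent.Lib.H8CM6

set_option autoImplicit false
universe u
open IsLocalRing RingTheory.Sequence

namespace Groth.Agent.Lib.H87RegIdeal2

/-- The classes of a generating family of `I` span `I/I²` over `R/I`. -/
theorem span_toCotangent_eq_top {R : Type u} [CommRing R] (I : Ideal R) (rs : List R)
    (h : Ideal.ofList rs = I) :
    Submodule.span (R ⧸ I) (I.toCotangent '' {x : I | (x : R) ∈ rs}) = ⊤ := by
  have key : ∀ (x : R) (hx : x ∈ I), I.toCotangent ⟨x, hx⟩ ∈
      Submodule.span (R ⧸ I) (I.toCotangent '' {x : I | (x : R) ∈ rs}) := by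
    intro x hx
    have hx' : x ∈ Ideal.span {r | r ∈ rs} := by rw [← Ideal.ofList, h]; exact hx
    induction hx' using Submodule.span_induction with
    | mem x hxs =>
      exact Submodule.subset_span ⟨⟨x, hx⟩, hxs, rfl⟩
    | zero =>
      have : (⟨0, hx⟩ : I) = 0 := rfl
      rw [this, map_zero]; exact Submodule.zero_mem _
    | add a b ha hb iha ihb =>
      have ha' : a ∈ I := by rw [← h]; exact ha
      have hb' : b ∈ I := by rw [← h]; exact hb
      have : (⟨a + b, hx⟩ : I) = ⟨a, ha'⟩ + ⟨b, hb'⟩ := rfl
      rw [this, map_add]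
      exact Submodule.add_mem _ (iha ha') (ihb hb')
    | smul c a ha iha =>
      have ha' : a ∈ I := by rw [← h]; exact ha
      have : (⟨c • a, hx⟩ : I) = c • ⟨a, ha'⟩ := rfl
      rw [this, map_smul]
      have h2 : c • I.toCotangent ⟨a, ha'⟩ = (Ideal.Quotient.mk I c) • I.toCotangent ⟨a, ha'⟩ := rfl
      rw [h2]
      exact Submodule.smul_mem _ _ (iha ha')
  rw [eq_top_iff]
  intro y _
  obtain ⟨⟨x, hx⟩, rfl⟩ := I.toCotangent_surjective y
  exact key x hx

/-- The number of generators of `I/I²` is at most the length of any generating list of `I`. -/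
theorem spanFinrank_cotangent_le_length {R : Type u} [CommRing R] (I : Ideal R) (rs : List R)
    (h : Ideal.ofList rs = I) :
    (⊤ : Submodule (R ⧸ I) I.Cotangent).spanFinrank ≤ rs.length := by
  classical
  rw [← span_toCotangent_eq_top I rs h]
  have hrs : ∀ r ∈ rs, r ∈ I := fun r hr => by
    rw [← h]; exact Submodule.subset_span hr
  have hfin : (I.toCotangent '' {x : I | (x : R) ∈ rs}).Finite := by
    apply Set.Finite.image
    apply Set.Finite.of_injOn (f := fun x : I => (x : R)) (t := {r | r ∈ rs})
    · intro x hx; exact hx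
    · intro x _ y _ hxy; exact Subtype.ext hxy
    · exact rs.finite_toSet
  refine (Submodule.spanFinrank_span_le_ncard_of_finite hfin).trans ?_
  have hfin2 : ({x : I | (x : R) ∈ rs}).Finite := by
    apply Set.Finite.of_injOn (f := fun x : I => (x : R)) (t := {r | r ∈ rs})
    · intro x hx; exact hx
    · intro x _ y _ hxy; exact Subtype.ext hxy
    · exact rs.finite_toSet
  refine (Set.ncard_image_le hfin2).trans ?_
  have h3 : ({x : I | (x : R) ∈ rs}).ncard ≤ ({r | r ∈ rs} : Set R).ncard := by
    apply Set.ncard_le_ncard_of_injOn (fun x : I => (x : R)) (ht := rs.finite_toSet)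
    · intro x hx; exact hx
    · intro x _ y _ hxy; exact Subtype.ext hxy
  refine h3.trans ?_
  have h4 : ({r | r ∈ rs} : Set R) = (rs.toFinset : Set R) := by ext; simp
  rw [h4, Set.ncard_coe_finset]
  exact rs.toFinset_card_le


theorem regular_iff_spanFinrank_cotangent {R : Type u} [CommRing R] [IsRegularLocalRing R]
    (I : Ideal R) (hI : I ≠ ⊤) :
    (∃ rs : List R, Ideal.ofList rs = I ∧ RingTheory.Sequence.IsRegular R rs) ↔
      (((⊤ : Submodule (R ⧸ I) I.Cotangent).spanFinrank : WithBot ℕ∞) + ringKrullDim (R ⧸ I)
        ≤ ringKrullDim R) := by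
  have hCM : LocCoh.IsCohenMacaulayLocalRing R := Groth.Agent.Lib.H8CM.isCMLocalRing_of_isRegularLocalRing
  have hIm : I ≤ maximalIdeal R := le_maximalIdeal hI
  constructor
  · rintro ⟨rs, hrs, hreg⟩
    have hmem : ∀ r ∈ rs, r ∈ maximalIdeal R := fun r hr =>
      hIm (by rw [← hrs]; exact Submodule.subset_span hr)
    have hdim := (Groth.Agent.Lib.H8CM.isWeaklyRegular_self_iff rs hmem).mp hreg.toIsWeaklyRegular
    rw [hrs] at hdim
    rw [← hdim, add_comm]
    gcongr
    exact_mod_cast spanFinrank_cotangent_le_length I rs hrs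
  · intro hle
    have hfg : (⊤ : Submodule (R ⧸ I) I.Cotangent).FG := by
      have : Module.Finite (R ⧸ I) I.Cotangent := by
        have : Module.Finite R I.Cotangent :=
          Module.Finite.of_surjective I.toCotangent I.toCotangent_surjective
        exact Module.Finite.of_restrictScalars_finite R (R ⧸ I) I.Cotangent
      exact Module.finite_def.mp this
    obtain ⟨s, hcard, hspan⟩ := Submodule.FG.exists_span_finset_card_eq_spanFinrank hfg
    set n := (⊤ : Submodule (R ⧸ I) I.Cotangent).spanFinrank with hn
    let e := s.equivFinOfCardEq hcard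
    have hlift : ∀ i : Fin n, ∃ x : I, I.toCotangent x = (e.symm i : I.Cotangent) :=
      fun i => I.toCotangent_surjective _
    choose x hx using hlift
    have hspan' : Submodule.span (R ⧸ I)
        (Set.range fun i => I.toCotangent ⟨(x i : R), (x i).2⟩) = ⊤ := by
      have : (Set.range fun i => I.toCotangent ⟨(x i : R), (x i).2⟩) = (s : Set I.Cotangent) := by
        ext y
        constructor
        · rintro ⟨i, rfl⟩
          show I.toCotangent (x i) ∈ _
          rw [hx]; exact (e.symm i).2
        · intro hy
          refine ⟨e ⟨y, hy⟩, ?_⟩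
          show I.toCotangent (x _) = y
          rw [hx]; simp
      rw [this, hspan]
    have hgen := Groth.Agent.Lib.H87Vasc.span_eq_of_span_toCotangent_eq_top I hI
      (fun i => (x i : R)) (fun i => (x i).2) hspan'
    refine ⟨List.ofFn fun i => (x i : R), ?_, ?_⟩
    · rw [Groth.Agent.Lib.H87Vasc.ofList_ofFn]; exact hgen
    · have hmem : ∀ r ∈ List.ofFn (fun i => (x i : R)), r ∈ maximalIdeal R := by
        intro r hr
        obtain ⟨i, rfl⟩ := (List.mem_ofFn' _ _).mp hr
        exact hIm (x i).2
      apply IsRegular.of_isWeaklyRegular_of_mem_maximalIdeal _ hmem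
      rw [Groth.Agent.Lib.H8CM.isWeaklyRegular_self_iff _ hmem]
      rw [Groth.Agent.Lib.H87Vasc.ofList_ofFn, hgen, List.length_ofFn]
      apply le_antisymm
      · rw [add_comm]; exact hle
      · have h1 := ringKrullDim_le_ringKrullDim_quotient_add_spanFinrank I
          (hIm.trans (IsLocalRing.ringJacobson_eq_maximalIdeal (R := R)).ge)
        refine h1.trans ?_
        gcongr
        have : I.spanFinrank ≤ n := by
          rw [← hgen]
          refine (Submodule.spanFinrank_span_le_ncard_of_finite (Set.finite_range _)).trans ?_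
          have := Set.ncard_image_le (f := fun i : Fin n => (x i : R)) (s := Set.univ) Set.finite_univ
          rw [Set.image_univ] at this
          refine this.trans ?_
          simp
        exact_mod_cast this

end Groth.Agent.Lib.H87RegIdeal2
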