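import Groth.Agent.Lib.H87RegIdeal
import Groth.Agent.Lib.H87RegIdeal2
import Groth.Agent.S2836
import Mathlib.Algebra.Module.SpanRankOperations
import Mathlib.LinearAlgebra.Dimension.OrzechProperty

set_option autoImplicit false
universe u
open IsLocalRing RingTheory.Sequence

/-!
# Regular ideals in quotients of regular local rings (helper87)

* `mem_maximalIdeal_of_sum_mem_sq` : a minimal system of generators of `m` is linearly independent mod `m²`.
* `exists_complement_generators` : exchange lemma for generators of an ideal in a local ring.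
* `exists_generators_regular` : for `A`, `A/J` regular local, `J` is generated by part of a regular system
  of parameters (with the regularity of that part recorded).
* `isRegularIdeal_map_quotient` : `A`, `A/J` regular local, `J ≤ K ≤ m`, `K` generated by a regular sequence
  implies `K/J` generated by a regular sequence.
* `isRegularIdeal_iff_map_quotient` : the equivalence (S2838).
-/

namespace Groth.Agent.Lib.H87RegIdeal3


/-- A minimal system of generators of the maximal ideal is linearly independent modulo `m²`. -/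
theorem mem_maximalIdeal_of_sum_mem_sq {A : Type u} [CommRing A] [IsLocalRing A]
    [IsNoetherianRing A] {d : ℕ} (x : Fin d → A) (hx : Ideal.span (Set.range x) = maximalIdeal A)
    (hd : (maximalIdeal A).spanFinrank = d) {ι : Type*} [Fintype ι] (f : ι → Fin d)
    (hf : Function.Injective f) (a : ι → A) (ha : ∑ i, a i * x (f i) ∈ maximalIdeal A ^ 2) :
    ∀ i, a i ∈ maximalIdeal A := by
  have hxm : ∀ j, x j ∈ maximalIdeal A := fun j => by
    rw [← hx]; exact Ideal.subset_span ⟨j, rfl⟩
  let w : Fin d → CotangentSpace A := fun j => (maximalIdeal A).toCotangent ⟨x j, hxm j⟩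
  have hspan : ⊤ ≤ Submodule.span (ResidueField A) (Set.range w) := by
    intro y _
    obtain ⟨⟨z, hz⟩, rfl⟩ := (maximalIdeal A).toCotangent_surjective y
    have hz' : z ∈ Ideal.span (Set.range x) := by rw [hx]; exact hz
    obtain ⟨c, hc⟩ := (Submodule.mem_span_range_iff_exists_fun A).mp hz'
    have : (⟨z, hz⟩ : maximalIdeal A) = ∑ j, c j • (⟨x j, hxm j⟩ : maximalIdeal A) := by
      apply Subtype.ext
      simp only [Submodule.coe_sum, Submodule.coe_smul]
      exact hc.symm
    rw [this, map_sum]
    refine Submodule.sum_mem _ fun j _ => ?_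
    rw [map_smul, ← algebraMap_smul (ResidueField A) (c j)]
    exact Submodule.smul_mem _ _ (Submodule.subset_span ⟨j, rfl⟩)
  have hli : LinearIndependent (ResidueField A) w := by
    apply linearIndependent_of_top_le_span_of_card_eq_finrank hspan
    rw [Fintype.card_fin, ← hd]
    exact IsLocalRing.spanFinrank_maximalIdeal_eq_finrank_cotangentSpace A
  have hli' : LinearIndependent (ResidueField A) (w ∘ f) := hli.comp f hf
  have hsum : ∑ i, (residue A (a i)) • (w ∘ f) i = 0 := by
    have h1 : ∀ i, (residue A (a i)) • (w ∘ f) i =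
        (maximalIdeal A).toCotangent (a i • ⟨x (f i), hxm (f i)⟩) := by
      intro i
      rw [map_smul]
      exact algebraMap_smul (ResidueField A) (a i) _
    simp_rw [h1]
    rw [← map_sum]
    have h2 : (∑ i, a i • (⟨x (f i), hxm (f i)⟩ : maximalIdeal A)) =
        ⟨∑ i, a i * x (f i), Ideal.pow_le_self two_ne_zero ha⟩ := by
      apply Subtype.ext
      simp only [Submodule.coe_sum, Submodule.coe_smul, smul_eq_mul]
    rw [h2, Ideal.toCotangent_eq_zero]
    exact ha
  intro i
  have := Fintype.linearIndependent_iff.mp hli' _ hsum i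
  exact (residue_eq_zero_iff _).mp this



theorem spanFinrank_ofList_le_length {A : Type u} [CommRing A] (rs : List A) :
    (Ideal.ofList rs).spanFinrank ≤ rs.length := by
  classical
  unfold Ideal.ofList
  refine (Submodule.spanFinrank_span_le_ncard_of_finite rs.finite_toSet).trans ?_
  have h4 : ({r | r ∈ rs} : Set A) = (rs.toFinset : Set A) := by ext; simp
  rw [h4, Set.ncard_coe_finset]
  exact rs.toFinset_card_le

/-- Exchange: if the `x i ∈ K` are linearly independent modulo `m K` and `K` is generated by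
`rs`, then `K` is generated by the `x i` together with at most `rs.length - c` further elements. -/
theorem exists_complement_generators {A : Type u} [CommRing A] [IsLocalRing A]
    [IsNoetherianRing A] (K : Ideal A) {c : ℕ} (x : Fin c → A) (hxK : ∀ i, x i ∈ K)
    (H : ∀ a : Fin c → A, ∑ i, a i * x i ∈ maximalIdeal A * K → ∀ i, a i ∈ maximalIdeal A)
    (rs : List A) (hrs : Ideal.ofList rs = K) :
    ∃ ys : List A, ys.length + c ≤ rs.length ∧
      Ideal.span (Set.range x) ⊔ Ideal.ofList ys = K := by
  classical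
  letI : Field (A ⧸ maximalIdeal A) := Ideal.Quotient.field _
  have hsurj : Function.Surjective (algebraMap A (A ⧸ maximalIdeal A)) :=
    Ideal.Quotient.mk_surjective
  let π : K →ₗ[A] (K ⧸ (maximalIdeal A • ⊤ : Submodule A K)) := Submodule.mkQ _
  let x' : Fin c → K := fun i => ⟨x i, hxK i⟩
  let v : Fin c → (K ⧸ (maximalIdeal A • ⊤ : Submodule A K)) := fun i => π (x' i)
  have hker : ∀ u : K, π u = 0 → (u : A) ∈ maximalIdeal A * K := by
    intro u hu
    have hu' : u ∈ (maximalIdeal A • ⊤ : Submodule A K) := (Submodule.Quotient.mk_eq_zero _).mp hu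
    have h1 : (u : A) ∈ (maximalIdeal A • ⊤ : Submodule A K).map K.subtype :=
      ⟨u, hu', rfl⟩
    rw [Submodule.map_smul'', Submodule.map_subtype_top] at h1
    exact h1
  have hv : LinearIndependent (A ⧸ maximalIdeal A) v := by
    rw [Fintype.linearIndependent_iff]
    intro g hg
    have hlift : ∀ i, ∃ a : A, Ideal.Quotient.mk (maximalIdeal A) a = g i :=
      fun i => Ideal.Quotient.mk_surjective _
    choose a ha using hlift
    have h1 : ∑ i, g i • v i = π (∑ i, a i • x' i) := by
      rw [map_sum]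
      refine Finset.sum_congr rfl fun i _ => ?_
      rw [← ha i]
      rfl
    rw [h1] at hg
    have h2 := hker _ hg
    have h3 : ((∑ i, a i • x' i : K) : A) = ∑ i, a i * x i := by
      simp only [Submodule.coe_sum, Submodule.coe_smul, smul_eq_mul, x']
    rw [h3] at h2
    intro i
    rw [← ha i]
    exact Ideal.Quotient.eq_zero_iff_mem.mpr (H a h2 i)
  have hfin : Module.Finite (A ⧸ maximalIdeal A) (K ⧸ (maximalIdeal A • ⊤ : Submodule A K)) :=
    Module.Finite.of_restrictScalars_finite A _ _
  have hrank : Module.finrank (A ⧸ maximalIdeal A) (K ⧸ (maximalIdeal A • ⊤ : Submodule A K)) ≤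
      rs.length := by
    rw [← IsLocalRing.spanFinrank_eq_finrank_quotient K (Ideal.fg_of_isNoetherianRing K), ← hrs]
    exact spanFinrank_ofList_le_length rs
  set W := Submodule.span (A ⧸ maximalIdeal A) (Set.range v) with hW
  have hWrank : Module.finrank (A ⧸ maximalIdeal A) W = c := by
    rw [hW, finrank_span_eq_card hv, Fintype.card_fin]
  have hQ := W.finrank_quotient_add_finrank
  rw [hWrank] at hQ
  set n := Module.finrank (A ⧸ maximalIdeal A)
    ((K ⧸ (maximalIdeal A • ⊤ : Submodule A K)) ⧸ W) with hn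
  let b := Module.finBasis (A ⧸ maximalIdeal A) ((K ⧸ (maximalIdeal A • ⊤ : Submodule A K)) ⧸ W)
  have hlift : ∀ j : Fin n, ∃ y : K, W.mkQ (π y) = b j := by
    intro j
    obtain ⟨z, hz⟩ := W.mkQ_surjective (b j)
    obtain ⟨y, hy⟩ := Submodule.mkQ_surjective _ z
    exact ⟨y, by rw [← hz]; congr 1⟩
  choose y hy using hlift
  refine ⟨List.ofFn fun j => (y j : A), ?_, ?_⟩
  · rw [List.length_ofFn]; omega
  · -- generation via Nakayama
    let N : Submodule A K := Submodule.span A (Set.range x' ∪ Set.range y)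
    have hNtop : N = ⊤ := by
      rw [← IsLocalRing.map_mkQ_eq_top]
      show N.map π = ⊤
      rw [Submodule.map_span, Set.image_union, ← Set.range_comp, ← Set.range_comp]
      have h1 : Submodule.span (A ⧸ maximalIdeal A) (Set.range (π ∘ x') ∪ Set.range (π ∘ y)) = ⊤ := by
        rw [Submodule.span_union]
        show W ⊔ _ = ⊤
        rw [← Submodule.map_mkQ_eq_top, Submodule.map_span, ← Set.range_comp]
        have : (W.mkQ ∘ π ∘ y) = b := funext hy
        rw [this]
        exact b.span_eq
      rw [← Submodule.restrictScalars_span A (A ⧸ maximalIdeal A) hsurj, h1]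
      rfl
    have h2 : N.map K.subtype = K := by
      rw [hNtop, Submodule.map_subtype_top]
    rw [Submodule.map_span, Set.image_union, ← Set.range_comp, ← Set.range_comp,
      Submodule.span_union] at h2
    rw [Groth.Agent.Lib.H87RegIdeal.ofList_ofFn]
    exact h2



theorem exists_generators_regular (A : Type u) [CommRing A] [IsRegularLocalRing A] (J : Ideal A)
    [IsRegularLocalRing (A ⧸ J)] :
    ∃ (d : ℕ) (x : Fin d → A) (c : ℕ) (hc : c ≤ d), (maximalIdeal A).spanFinrank = d ∧
      ringKrullDim A = d ∧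
      Ideal.span (Set.range x) = maximalIdeal A ∧
      J = Ideal.span (Set.range (fun i : Fin c => x (Fin.castLE hc i))) ∧
      IsWeaklyRegular A (List.ofFn (fun i : Fin c => x (Fin.castLE hc i))) := by
  have hd : ringKrullDim A = ((maximalIdeal A).spanFinrank : ℕ) :=
    IsRegularLocalRing.spanFinrank_maximalIdeal.symm
  obtain ⟨x, c, hc, hx, hJ⟩ := Groth.Agent.Lib.RegularLocal.exists_generators A _ hd J
  have hreg := Groth.Agent.Lib.RegularLocal.isRegular_ofFn A _ hd x hx
  refine ⟨_, x, c, hc, rfl, hd, hx, hJ, ?_⟩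
  have := Groth.Agent.Lib.H29Depth.isWeaklyRegular_take A hreg.toIsWeaklyRegular c
  rw [← Fin.ofFn_take_eq_take_ofFn hc] at this
  exact this

theorem isRegularIdeal_map_quotient (A : Type u) [CommRing A] [IsRegularLocalRing A]
    (J K : Ideal A) (hJK : J ≤ K) (hK : K ≤ maximalIdeal A) (hAJ : IsRegularLocalRing (A ⧸ J))
    (hKreg : CInt.IsRegularIdeal K) : CInt.IsRegularIdeal (K.map (Ideal.Quotient.mk J)) := by
  obtain ⟨rs, hrs, hrsK⟩ := hKreg
  obtain ⟨d, x, c, hc, hd, hdim, hx, hJ, hxreg⟩ := exists_generators_regular A J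
  have hCM : LocCoh.IsCohenMacaulayLocalRing A :=
    Groth.Agent.Lib.H8CM.isCMLocalRing_of_isRegularLocalRing
  set xc : Fin c → A := fun i => x (Fin.castLE hc i) with hxc
  have hxm : ∀ j, x j ∈ maximalIdeal A := fun j => by
    rw [← hx]; exact Ideal.subset_span ⟨j, rfl⟩
  have hxcJ : ∀ i, xc i ∈ J := fun i => by
    rw [hJ]; exact Ideal.subset_span ⟨i, rfl⟩
  -- linear independence modulo m K
  have H : ∀ a : Fin c → A, ∑ i, a i * xc i ∈ maximalIdeal A * K → ∀ i, a i ∈ maximalIdeal A := by
    intro a ha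
    apply mem_maximalIdeal_of_sum_mem_sq x hx hd (Fin.castLE hc) (Fin.castLE_injective hc) a
    rw [pow_two]
    exact Ideal.mul_mono_right hK ha
  obtain ⟨ys, hlen, hgen⟩ := exists_complement_generators K xc (fun i => hJK (hxcJ i)) H rs hrsK
  rw [← hJ] at hgen
  -- the ideal K/J
  have hK' : K.map (Ideal.Quotient.mk J) = Ideal.ofList (ys.map (Ideal.Quotient.mk J)) := by
    rw [← Ideal.map_ofList, ← hgen, Ideal.map_sup]
    have : J.map (Ideal.Quotient.mk J) = ⊥ := by
      rw [Ideal.map_eq_bot_iff_le_ker, Ideal.mk_ker]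
    rw [this, bot_sup_eq]
  have hK'top : K.map (Ideal.Quotient.mk J) ≠ ⊤ := by
    intro htop
    have h1 : (1 : A ⧸ J) ∈ K.map (Ideal.Quotient.mk J) := by rw [htop]; trivial
    rw [Ideal.mem_map_iff_of_surjective _ Ideal.Quotient.mk_surjective] at h1
    obtain ⟨z, hz, hz1⟩ := h1
    have h2 : z - 1 ∈ J := by
      rw [← Ideal.Quotient.eq_zero_iff_mem, map_sub, hz1, map_one, sub_self]
    have h3 : (1 : A) ∈ K := by
      have := K.sub_mem hz (hJK h2)
      simpa using this
    exact (Ideal.ne_top_iff_one _).mp (ne_top_of_le_ne_top (maximalIdeal.isMaximal A).ne_top hK) h3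
  -- dimensions
  have hrsm : ∀ r ∈ rs, r ∈ maximalIdeal A := fun r hr =>
    hK (by rw [← hrsK]; exact Submodule.subset_span hr)
  have hdimK := (Groth.Agent.Lib.H8CM.isWeaklyRegular_self_iff rs hrsm).mp hrs.toIsWeaklyRegular
  rw [hrsK] at hdimK
  have hxcm : ∀ r ∈ List.ofFn xc, r ∈ maximalIdeal A := by
    intro r hr
    obtain ⟨i, rfl⟩ := (List.mem_ofFn' _ _).mp hr
    exact hxm _
  have hdimJ := (Groth.Agent.Lib.H8CM.isWeaklyRegular_self_iff _ hxcm).mp hxreg
  rw [Groth.Agent.Lib.H87RegIdeal.ofList_ofFn, ← hJ, List.length_ofFn] at hdimJ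
  have hdimKJ : ringKrullDim ((A ⧸ J) ⧸ K.map (Ideal.Quotient.mk J)) = ringKrullDim (A ⧸ K) :=
    ringKrullDim_eq_of_ringEquiv (DoubleQuot.quotQuotEquivQuotOfLE hJK)
  -- apply the criterion in `A ⧸ J`
  have hcrit := (Groth.Agent.Lib.H87RegIdeal2.regular_iff_spanFinrank_cotangent
    (K.map (Ideal.Quotient.mk J)) hK'top).mpr ?_
  · obtain ⟨rs', h1, h2⟩ := hcrit
    exact ⟨rs', h2, h1⟩
  · have hcot := Groth.Agent.Lib.H87RegIdeal2.spanFinrank_cotangent_le_length
      (K.map (Ideal.Quotient.mk J)) (ys.map (Ideal.Quotient.mk J)) hK'.symm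
    rw [List.length_map] at hcot
    rw [hdimKJ]
    rw [hdim] at hdimK hdimJ
    obtain ⟨a, ha⟩ : ∃ a : ℕ, ringKrullDim (A ⧸ K) = a := by
      have hnt : Nontrivial (A ⧸ K) := Ideal.Quotient.nontrivial_iff.mpr
        (ne_top_of_le_ne_top (maximalIdeal.isMaximal A).ne_top hK)
      have := Groth.Agent.Lib.H8CM.exists_nat_supportDim (R := A) (M := A ⧸ K)
      rwa [Module.supportDim_quotient_eq_ringKrullDim] at this
    obtain ⟨b, hb⟩ : ∃ b : ℕ, ringKrullDim (A ⧸ J) = b := by
      have := Groth.Agent.Lib.H8CM.exists_nat_supportDim (R := A) (M := A ⧸ J)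
      rwa [Module.supportDim_quotient_eq_ringKrullDim] at this
    rw [ha] at hdimK ⊢
    rw [hb] at hdimJ ⊢
    have e1 : a + rs.length = d := by exact_mod_cast hdimK
    have e2 : b + c = d := by exact_mod_cast hdimJ
    have : (⊤ : Submodule ((A ⧸ J) ⧸ K.map (Ideal.Quotient.mk J))
      (K.map (Ideal.Quotient.mk J)).Cotangent).spanFinrank + a ≤ b := by omega
    exact_mod_cast this


theorem isRegularIdeal_iff_map_quotient (A : Type u) [CommRing A] [IsRegularLocalRing A]
    (J K : Ideal A) (hJK : J ≤ K) (hK : K ≤ IsLocalRing.maximalIdeal A)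
    (hAJ : IsRegularLocalRing (A ⧸ J)) :
    CInt.IsRegularIdeal K ↔ CInt.IsRegularIdeal (K.map (Ideal.Quotient.mk J)) := by
  constructor
  · exact isRegularIdeal_map_quotient A J K hJK hK hAJ
  · intro h
    exact Groth.Agent.S2836.result A J K hJK hK
      (Groth.Agent.Lib.H87RegIdeal.isRegularIdeal_of_isRegularLocalRing_quotient A J) h

end Groth.Agent.Lib.H87RegIdeal3
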