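/-
helper14: invariance of the complete-intersection defect (EGA IV 19.3.2).

* `exists_list_spanFinrank` : a f.g. ideal is `Ideal.ofList` of a list of length `spanFinrank`.
* `regular_iff_spanFinrank`, `regular_iff_spanFinrank_eq` : in a regular local ring a proper ideal `I`
  is generated by a regular sequence iff `μ(I) + dim R/I ≤ dim R` (iff equality).
* `spanFinrank_eq_map_add` : `A`, `A/J` regular local, `J ≤ K ≤ m`: `μ(K) = μ(K/J) + (dim A - dim A/J)`.
* `exists_common_cover` : two surjections from complete Noetherian local rings onto the same ring are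
  dominated by a power series ring over a coefficient ring (Cohen).
* `spanFinrank_ker_comp`, `defect_eq_of_complete` : invariance of `dim R - μ(ker)` (complete case).
* `ker_complMap` : kernel of the completion of a surjection is the extended kernel.
* `tensorIdealEquiv`, `spanFinrank_map_eq_of_flat` : `μ(I B') = μ(I)` for flat local `B → B'`.
* `defect_eq` : S2941, invariance of `dim B - μ(ker (B → A))` over regular local presentations.
-/
import Mathlib
import Groth.Agent.Lib.H87RegIdeal3
import Groth.Agent.Lib.H94RegCount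
import Groth.Agent.Lib.CohenFactor3
import Groth.Agent.Lib.H14ComplRegular
import Groth.Agent.Lib.AdicDim

set_option autoImplicit false
set_option linter.style.haveILetI false
set_option linter.unusedSectionVars false
universe u
open IsLocalRing RingTheory.Sequence TensorProduct

namespace Groth.Agent.Lib.H14CIDefect

open Groth.Agent.Lib

/-- A finitely generated ideal is the `Ideal.ofList` of a list of length its `spanFinrank`. -/
theorem exists_list_spanFinrank {R : Type*} [CommRing R] (I : Ideal R) (hI : I.FG) :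
    ∃ rs : List R, Ideal.ofList rs = I ∧ rs.length = I.spanFinrank := by
  classical
  obtain ⟨s, hcard, hspan⟩ := Submodule.FG.exists_span_finset_card_eq_spanFinrank hI
  refine ⟨s.toList, ?_, ?_⟩
  · unfold Ideal.ofList
    have : ({r | r ∈ s.toList} : Set R) = (s : Set R) := by ext; simp
    rw [this]
    exact hspan
  · rw [Finset.length_toList, hcard]

/-- In a regular local ring a proper ideal `I` is generated by a regular sequence iff
`μ(I) + dim R/I ≤ dim R`. -/
theorem regular_iff_spanFinrank {R : Type u} [CommRing R] [IsRegularLocalRing R]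
    (I : Ideal R) (hI : I ≠ ⊤) :
    (∃ rs : List R, Ideal.ofList rs = I ∧ RingTheory.Sequence.IsRegular R rs) ↔
      ((I.spanFinrank : WithBot ℕ∞) + ringKrullDim (R ⧸ I) ≤ ringKrullDim R) := by
  have hCM : LocCoh.IsCohenMacaulayLocalRing R :=
    Groth.Agent.Lib.H8CM.isCMLocalRing_of_isRegularLocalRing
  have hIm : I ≤ maximalIdeal R := le_maximalIdeal hI
  constructor
  · rintro ⟨rs, hrs, hreg⟩
    have hmem : ∀ r ∈ rs, r ∈ maximalIdeal R := fun r hr =>
      hIm (by rw [← hrs]; exact Submodule.subset_span hr)
    have hdim := (Groth.Agent.Lib.H8CM.isWeaklyRegular_self_iff rs hmem).mp hreg.toIsWeaklyRegular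
    rw [hrs] at hdim
    rw [← hdim, add_comm]
    gcongr
    have := Groth.Agent.Lib.H87RegIdeal3.spanFinrank_ofList_le_length rs
    rw [hrs] at this
    exact_mod_cast this
  · intro hle
    rw [Groth.Agent.Lib.H87RegIdeal2.regular_iff_spanFinrank_cotangent I hI]
    refine le_trans ?_ hle
    gcongr
    obtain ⟨rs, hrs, hlen⟩ := exists_list_spanFinrank I (IsNoetherian.noetherian I)
    have := Groth.Agent.Lib.H87RegIdeal2.spanFinrank_cotangent_le_length I rs hrs
    rw [hlen] at this
    exact_mod_cast this

/-- Equality form. -/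
theorem regular_iff_spanFinrank_eq {R : Type u} [CommRing R] [IsRegularLocalRing R]
    (I : Ideal R) (hI : I ≠ ⊤) :
    (∃ rs : List R, Ideal.ofList rs = I ∧ RingTheory.Sequence.IsRegular R rs) ↔
      (ringKrullDim (R ⧸ I) + (I.spanFinrank : WithBot ℕ∞) = ringKrullDim R) := by
  rw [regular_iff_spanFinrank I hI]
  have hIm : I ≤ maximalIdeal R := le_maximalIdeal hI
  constructor
  · intro h
    refine le_antisymm ?_ ?_
    · rwa [add_comm]
    · apply ringKrullDim_le_ringKrullDim_quotient_add_spanFinrank
      rw [IsLocalRing.ringJacobson_eq_maximalIdeal]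
      exact hIm
  · intro h
    rw [add_comm, h]

/-- **Lemma A.** For `A` regular local, `J ≤ K ≤ m` with `A/J` regular local:
`dim A = dim A/J + c` and `μ(K) = μ(K/J) + c`. -/
theorem spanFinrank_eq_map_add (A : Type u) [CommRing A] [IsRegularLocalRing A]
    (J K : Ideal A) (hJK : J ≤ K) (hK : K ≤ maximalIdeal A) [hAJ : IsRegularLocalRing (A ⧸ J)] :
    ∃ c : ℕ, ringKrullDim (A ⧸ J) + (c : WithBot ℕ∞) = ringKrullDim A ∧
      K.spanFinrank = (K.map (Ideal.Quotient.mk J)).spanFinrank + c := by
  obtain ⟨d, x, c, hc, hd, hdim, hx, hJ, hxreg⟩ :=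
    Groth.Agent.Lib.H87RegIdeal3.exists_generators_regular A J
  have hCM : LocCoh.IsCohenMacaulayLocalRing A :=
    Groth.Agent.Lib.H8CM.isCMLocalRing_of_isRegularLocalRing
  set xc : Fin c → A := fun i => x (Fin.castLE hc i) with hxc
  have hxm : ∀ j, x j ∈ maximalIdeal A := fun j => by
    rw [← hx]; exact Ideal.subset_span ⟨j, rfl⟩
  have hxcJ : ∀ i, xc i ∈ J := fun i => by
    rw [hJ]; exact Ideal.subset_span ⟨i, rfl⟩
  have hxcm : ∀ r ∈ List.ofFn xc, r ∈ maximalIdeal A := by
    intro r hr
    obtain ⟨i, rfl⟩ := (List.mem_ofFn' _ _).mp hr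
    exact hxm _
  have hdimJ := (Groth.Agent.Lib.H8CM.isWeaklyRegular_self_iff _ hxcm).mp hxreg
  rw [Groth.Agent.Lib.H87RegIdeal.ofList_ofFn, ← hJ, List.length_ofFn] at hdimJ
  refine ⟨c, hdimJ, le_antisymm ?_ ?_⟩
  · -- `μ(K) ≤ μ(K/J) + c`
    have h1 := Groth.Agent.Lib.H94RegCount.spanFinrank_le_map_mk_add K J hJK
      (IsNoetherian.noetherian _) (IsNoetherian.noetherian _)
    have h2 : J.spanFinrank ≤ c := by
      rw [hJ]
      exact Groth.Agent.Lib.H94RegCount.spanFinrank_span_range_le _
    omega
  · -- `μ(K/J) + c ≤ μ(K)`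
    have H : ∀ a : Fin c → A, ∑ i, a i * xc i ∈ maximalIdeal A * K →
        ∀ i, a i ∈ maximalIdeal A := by
      intro a ha
      apply Groth.Agent.Lib.H87RegIdeal3.mem_maximalIdeal_of_sum_mem_sq x hx hd (Fin.castLE hc)
        (Fin.castLE_injective hc) a
      rw [pow_two]
      exact Ideal.mul_mono_right hK ha
    obtain ⟨rs, hrs, hlen⟩ := exists_list_spanFinrank K (IsNoetherian.noetherian K)
    obtain ⟨ys, hylen, hgen⟩ := Groth.Agent.Lib.H87RegIdeal3.exists_complement_generators K xc
      (fun i => hJK (hxcJ i)) H rs hrs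
    rw [← hJ] at hgen
    have hK' : K.map (Ideal.Quotient.mk J) = Ideal.ofList (ys.map (Ideal.Quotient.mk J)) := by
      rw [← Ideal.map_ofList, ← hgen, Ideal.map_sup]
      have : J.map (Ideal.Quotient.mk J) = ⊥ := by
        rw [Ideal.map_eq_bot_iff_le_ker, Ideal.mk_ker]
      rw [this, bot_sup_eq]
    have h3 := Groth.Agent.Lib.H87RegIdeal3.spanFinrank_ofList_le_length
      (ys.map (Ideal.Quotient.mk J))
    rw [← hK', List.length_map] at h3
    omega


/-- Two surjections from complete Noetherian local rings onto the same ring are dominated by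
a common power series ring over a coefficient ring. -/
theorem exists_common_cover {R R' C : Type u} [CommRing R] [CommRing R'] [CommRing C]
    [IsLocalRing R] [IsNoetherianRing R] [IsLocalRing R'] [IsNoetherianRing R'] [Nontrivial C]
    [IsAdicComplete (maximalIdeal R) R] [IsAdicComplete (maximalIdeal R') R']
    (π : R →+* C) (hπ : Function.Surjective π) (π' : R' →+* C) (hπ' : Function.Surjective π') :
    ∃ (A : Type u) (_ : CommRing A) (_ : IsRegularLocalRing A) (φ : A →+* R) (φ' : A →+* R'),
      Function.Surjective φ ∧ Function.Surjective φ' ∧ π.comp φ = π'.comp φ' := by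
  haveI : IsLocalRing C := IsLocalRing.of_surjective' π hπ
  haveI hπloc : IsLocalHom π := IsLocalHom.of_surjective π hπ
  haveI hπ'loc : IsLocalHom π' := IsLocalHom.of_surjective π' hπ'
  haveI : IsNoetherianRing C := isNoetherianRing_of_surjective R C π hπ
  obtain ⟨Λ, _, _, q, v, hΛ, -, hvloc, hvsurj⟩ := Groth.Agent.Lib.CohenFactor.exists_isCoeff R
  haveI := hΛ.complete
  let u : Λ →+* C := π.comp v
  haveI : IsLocalHom u := RingHom.isLocalHom_comp π v
  obtain ⟨v', hv'loc, hv'⟩ := hΛ.exists_lift_of_surjective π' hπ' u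
  -- membership transfer
  have mem_of_map_mem : ∀ x : R', π' x ∈ maximalIdeal C → x ∈ maximalIdeal R' := by
    intro x hx
    rw [mem_maximalIdeal, mem_nonunits_iff] at hx ⊢
    exact fun h => hx (h.map π')
  have mem_of_map_mem' : ∀ x : R, π x ∈ maximalIdeal C → x ∈ maximalIdeal R := by
    intro x hx
    rw [mem_maximalIdeal, mem_nonunits_iff] at hx ⊢
    exact fun h => hx (h.map π)
  have map_mem : ∀ x : R, x ∈ maximalIdeal R → π x ∈ maximalIdeal C := fun x hx =>
    map_nonunit π x hx
  have map_mem' : ∀ x : R', x ∈ maximalIdeal R' → π' x ∈ maximalIdeal C := fun x hx =>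
    map_nonunit π' x hx
  have hv'surj : Function.Surjective ((residue R').comp v') := by
    intro y
    obtain ⟨x, rfl⟩ := residue_surjective y
    obtain ⟨z, hz⟩ := hπ (π' x)
    obtain ⟨l, hl⟩ := hvsurj (residue R z)
    refine ⟨l, ?_⟩
    have hl' : residue R (v l) = residue R z := hl
    show residue R' (v' l) = residue R' x
    rw [← sub_eq_zero, ← map_sub, residue_eq_zero_iff] at hl' ⊢
    apply mem_of_map_mem
    have h1 : π' (v' l) = π (v l) := RingHom.congr_fun hv' l
    rw [map_sub, h1, ← hz, ← map_sub]
    exact map_mem _ hl'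
  obtain ⟨n, a, ha⟩ := Submodule.fg_iff_exists_fin_generating_family.1
    (maximalIdeal R).fg_of_isNoetherianRing
  obtain ⟨m, b, hb⟩ := Submodule.fg_iff_exists_fin_generating_family.1
    (maximalIdeal R').fg_of_isNoetherianRing
  have ham : ∀ i, a i ∈ maximalIdeal R := fun i => by
    rw [← ha]; exact Submodule.subset_span ⟨i, rfl⟩
  have hbm : ∀ j, b j ∈ maximalIdeal R' := fun j => by
    rw [← hb]; exact Submodule.subset_span ⟨j, rfl⟩
  choose a' ha' using fun i => hπ' (π (a i))
  choose b' hb' using fun j => hπ (π' (b j))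
  have ha'm : ∀ i, a' i ∈ maximalIdeal R' := fun i =>
    mem_of_map_mem _ (by rw [ha']; exact map_mem _ (ham i))
  have hb'm : ∀ j, b' j ∈ maximalIdeal R := fun j =>
    mem_of_map_mem' _ (by rw [hb']; exact map_mem' _ (hbm j))
  let c : Fin (n + m) → R := Fin.append a b'
  let c' : Fin (n + m) → R' := Fin.append a' b
  have hcm : ∀ k, c k ∈ maximalIdeal R := by
    intro k
    refine Fin.addCases (fun i => ?_) (fun j => ?_) k
    · simp only [c, Fin.append_left]; exact ham i
    · simp only [c, Fin.append_right]; exact hb'm j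
  have hc'm : ∀ k, c' k ∈ maximalIdeal R' := by
    intro k
    refine Fin.addCases (fun i => ?_) (fun j => ?_) k
    · simp only [c', Fin.append_left]; exact ha'm i
    · simp only [c', Fin.append_right]; exact hbm j
  have hc : maximalIdeal R ≤ Ideal.span (Set.range c) ⊔ (maximalIdeal Λ).map v := by
    refine le_sup_of_le_left ?_
    have : maximalIdeal R = Ideal.span (Set.range a) := ha.symm
    rw [this, Ideal.span_le]
    rintro _ ⟨i, rfl⟩
    refine Ideal.subset_span ⟨Fin.castAdd m i, ?_⟩
    simp only [c, Fin.append_left]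
  have hc' : maximalIdeal R' ≤ Ideal.span (Set.range c') ⊔ (maximalIdeal Λ).map v' := by
    refine le_sup_of_le_left ?_
    have : maximalIdeal R' = Ideal.span (Set.range b) := hb.symm
    rw [this, Ideal.span_le]
    rintro _ ⟨j, rfl⟩
    refine Ideal.subset_span ⟨Fin.natAdd n j, ?_⟩
    simp only [c', Fin.append_right]
  have hv : ∀ x ∈ maximalIdeal Λ, v x ∈ maximalIdeal R := fun x hx => map_nonunit v x hx
  have hv'm : ∀ x ∈ maximalIdeal Λ, v' x ∈ maximalIdeal R' := fun x hx => map_nonunit v' x hx
  obtain ⟨φ, hφs, hφX, hφC⟩ := Groth.Agent.Lib.CohenFactor.exists_surjective_of_family Λ R v hv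
    hvsurj c hcm hc
  obtain ⟨φ', hφ's, hφ'X, hφ'C⟩ := Groth.Agent.Lib.CohenFactor.exists_surjective_of_family Λ R' v'
    hv'm hv'surj c' hc'm hc'
  refine ⟨MvPowerSeries (Fin (n + m)) Λ, inferInstance,
    Groth.Agent.Lib.CohenFactor.isRegularLocalRing_mvPowerSeries hΛ (n + m), φ, φ', hφs, hφ's, ?_⟩
  apply Groth.Agent.Lib.CohenFactor.ringHom_ext
  · intro x
    rw [RingHom.comp_apply, RingHom.comp_apply, hφC, hφ'C]
    exact (RingHom.congr_fun hv' x).symm
  · intro k
    rw [RingHom.comp_apply, RingHom.comp_apply, hφX, hφ'X]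
    refine Fin.addCases (fun i => ?_) (fun j => ?_) k
    · simp only [c, c', Fin.append_left]; exact (ha' i).symm
    · simp only [c, c', Fin.append_right]; exact hb' j
  · intro k
    rw [RingHom.comp_apply, hφX]
    exact map_mem _ (hcm k)


/-- **Lemma N1.** -/
theorem spanFinrank_ker_comp {A R C : Type u} [CommRing A] [CommRing R] [CommRing C] [Nontrivial C]
    [IsRegularLocalRing A] [IsRegularLocalRing R] (φ : A →+* R) (hφ : Function.Surjective φ)
    (π : R →+* C) :
    ∃ c : ℕ, ringKrullDim R + (c : WithBot ℕ∞) = ringKrullDim A ∧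
      (RingHom.ker (π.comp φ)).spanFinrank = (RingHom.ker π).spanFinrank + c := by
  set J := RingHom.ker φ with hJ
  set K := RingHom.ker (π.comp φ) with hKdef
  let e : A ⧸ J ≃+* R := RingHom.quotientKerEquivOfSurjective hφ
  haveI : IsRegularLocalRing (A ⧸ J) := IsRegularLocalRing.of_ringEquiv e.symm
  have hJK : J ≤ K := fun a ha => by
    rw [hJ, RingHom.mem_ker] at ha
    rw [hKdef, RingHom.mem_ker, RingHom.comp_apply, ha, map_zero]
  have hKtop : K ≠ ⊤ := RingHom.ker_ne_top _
  have hK : K ≤ maximalIdeal A := le_maximalIdeal hKtop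
  obtain ⟨c, hc, hμ⟩ := spanFinrank_eq_map_add A J K hJK hK
  refine ⟨c, ?_, ?_⟩
  · rw [← hc, ringKrullDim_eq_of_ringEquiv e]
  · rw [hμ]
    congr 1
    have h1 : (K.map (Ideal.Quotient.mk J)).map (e : A ⧸ J →+* R) = RingHom.ker π := by
      rw [Ideal.map_map]
      have : (e : A ⧸ J →+* R).comp (Ideal.Quotient.mk J) = φ := by ext a; rfl
      rw [this, hKdef, ← RingHom.comap_ker, Ideal.map_comap_of_surjective φ hφ]
    rw [← h1]
    exact (Ideal.spanFinrank_map_eq_of_ringEquiv e _).symm

/-- **Theorem N.** Invariance of `dim R - μ(ker)` for complete regular local presentations. -/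
theorem defect_eq_of_complete {R R' C : Type u} [CommRing R] [CommRing R'] [CommRing C]
    [IsRegularLocalRing R] [IsRegularLocalRing R'] [Nontrivial C]
    [IsAdicComplete (maximalIdeal R) R] [IsAdicComplete (maximalIdeal R') R']
    (π : R →+* C) (hπ : Function.Surjective π) (π' : R' →+* C) (hπ' : Function.Surjective π')
    (d d' : ℕ) (hd : ringKrullDim R = d) (hd' : ringKrullDim R' = d') :
    (d : ℤ) - ((RingHom.ker π).spanFinrank : ℤ) = (d' : ℤ) - ((RingHom.ker π').spanFinrank : ℤ) := by
  obtain ⟨A, _, _, φ, φ', hφ, hφ', hcomm⟩ := exists_common_cover π hπ π' hπ'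
  obtain ⟨c, hc, hμ⟩ := spanFinrank_ker_comp φ hφ π
  obtain ⟨c', hc', hμ'⟩ := spanFinrank_ker_comp φ' hφ' π'
  rw [hcomm] at hμ
  rw [hd] at hc
  rw [hd', ← hc] at hc'
  have h1 : d' + c' = d + c := by exact_mod_cast hc'
  have h2 : (RingHom.ker π).spanFinrank + c = (RingHom.ker π').spanFinrank + c' := by
    rw [← hμ, ← hμ']
  omega



/-- The kernel of the completion of a surjective ring map (Noetherian source) is the extension
of the kernel. -/
theorem ker_complMap {S T : Type u} [CommRing S] [CommRing T] [IsNoetherianRing S]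
    (g : S →+* T) (hg : Function.Surjective g) (K : Ideal S) (J : Ideal T) (hJ : J = K.map g) :
    RingHom.ker (FSch.complMap K J g hJ.ge) =
      (RingHom.ker g).map (algebraMap S (AdicCompletion K S)) := by
  letI : Algebra S T := g.toAlgebra
  have hs : Function.Surjective (algebraMap S T) := hg
  haveI : Module.Finite S T := Module.Finite.of_surjective (Algebra.linearMap S T) hs
  have hJ' : J = K.map (algebraMap S T) := hJ
  letI alg : Algebra (AdicCompletion K S) (AdicCompletion J T) :=
    (FSch.complMap K J (algebraMap S T) hJ'.ge).toAlgebra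
  haveI tower : IsScalarTower S (AdicCompletion K S) (AdicCompletion J T) := by
    apply IsScalarTower.of_algebraMap_eq
    intro a
    change _ = FSch.complMap K J (algebraMap S T) hJ'.ge (algebraMap S (AdicCompletion K S) a)
    rw [ComplMap.complMap_algebraMap, ← IsScalarTower.algebraMap_apply S T (AdicCompletion J T)]
  have hpo : Algebra.IsPushout S T (AdicCompletion K S) (AdicCompletion J T) :=
    ComplQuotient96.isPushout K T J hJ' rfl
  have hpo' : Algebra.IsPushout S (AdicCompletion K S) T (AdicCompletion J T) := hpo.symm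
  let e := Algebra.IsPushout.equiv S (AdicCompletion K S) T (AdicCompletion J T)
  have he : ∀ x : AdicCompletion K S,
      FSch.complMap K J g hJ.ge x = e (x ⊗ₜ[S] (1 : T)) := by
    intro x
    have := e.commutes x
    rw [Algebra.TensorProduct.algebraMap_apply] at this
    exact this.symm
  let gA : S →ₐ[S] T := Algebra.ofId S T
  have hgA : Function.Surjective gA := hg
  have hker := Algebra.TensorProduct.lTensor_ker (R := S) (A := AdicCompletion K S) (g := gA) hgA
  let ρ := Algebra.TensorProduct.rid S (AdicCompletion K S) (AdicCompletion K S)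
  ext x
  rw [RingHom.mem_ker, he, map_eq_zero_iff e e.injective]
  constructor
  · intro hx
    have h1 : (x ⊗ₜ[S] (1 : S) : AdicCompletion K S ⊗[S] S) ∈
        RingHom.ker (Algebra.TensorProduct.map (AlgHom.id S (AdicCompletion K S)) gA) := by
      rw [RingHom.mem_ker, Algebra.TensorProduct.map_tmul, AlgHom.id_apply, map_one]
      exact hx
    rw [hker] at h1
    have h2 := Ideal.mem_map_of_mem (ρ : AdicCompletion K S ⊗[S] S →+* AdicCompletion K S) h1
    change _ ∈ Ideal.map (ρ : AdicCompletion K S ⊗[S] S →+* AdicCompletion K S)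
      (Ideal.map ((Algebra.TensorProduct.includeRight :
        S →ₐ[S] AdicCompletion K S ⊗[S] S) : S →+* AdicCompletion K S ⊗[S] S)
        (RingHom.ker gA)) at h2
    rw [Ideal.map_map] at h2
    have h3 : (ρ : AdicCompletion K S ⊗[S] S →+* AdicCompletion K S) (x ⊗ₜ[S] (1 : S)) = x := by
      show ρ (x ⊗ₜ[S] (1 : S)) = x
      rw [Algebra.TensorProduct.rid_tmul, one_smul]
    rw [h3] at h2
    have h4 : ((ρ : AdicCompletion K S ⊗[S] S →+* AdicCompletion K S).comp
        (Algebra.TensorProduct.includeRight : S →ₐ[S] AdicCompletion K S ⊗[S] S)) =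
        algebraMap S (AdicCompletion K S) := by
      refine RingHom.ext fun s => ?_
      show ρ ((1 : AdicCompletion K S) ⊗ₜ[S] s) = _
      rw [Algebra.TensorProduct.rid_tmul, Algebra.smul_def, mul_one]
    have h5 : RingHom.ker gA = RingHom.ker g := rfl
    rw [h4, h5] at h2
    exact h2
  · intro hx
    have hle : (RingHom.ker g).map (algebraMap S (AdicCompletion K S)) ≤
        RingHom.ker (Algebra.TensorProduct.includeLeft :
          AdicCompletion K S →ₐ[S] AdicCompletion K S ⊗[S] T) := by
      rw [Ideal.map_le_iff_le_comap]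
      intro s hs
      rw [Ideal.mem_comap, RingHom.mem_ker]
      show (algebraMap S (AdicCompletion K S) s) ⊗ₜ[S] (1 : T) = 0
      rw [Algebra.algebraMap_eq_smul_one, TensorProduct.smul_tmul, Algebra.smul_def, mul_one]
      have : algebraMap S T s = 0 := hs
      rw [this, TensorProduct.tmul_zero]
    exact hle hx


section flat

variable {B B' : Type u} [CommRing B] [CommRing B'] [Algebra B B']

/-- For a flat algebra, `B' ⊗ I ≃ I B'`. -/
noncomputable def tensorIdealEquiv [Module.Flat B B'] (I : Ideal B) :
    B' ⊗[B] I ≃ₗ[B'] (I.map (algebraMap B B')) := by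
  let ψ : B' ⊗[B] I →ₗ[B'] B' :=
    (AlgebraTensorModule.rid B B' B').toLinearMap ∘ₗ
      AlgebraTensorModule.lTensor B' B' (I.subtype)
  have hψ : ∀ (b : B') (i : I), ψ (b ⊗ₜ i) = b * algebraMap B B' i := by
    intro b i
    simp only [ψ, LinearMap.comp_apply, AlgebraTensorModule.lTensor_tmul, LinearEquiv.coe_coe,
      AlgebraTensorModule.rid_tmul, Submodule.subtype_apply, Algebra.smul_def, mul_comm]
  have hinj : Function.Injective ψ := by
    have h1 : Function.Injective (LinearMap.lTensor B' (I.subtype)) :=
      Module.Flat.lTensor_preserves_injective_linearMap (M := B') I.subtype Subtype.val_injective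
    exact (AlgebraTensorModule.rid B B' B').injective.comp h1
  have hrange : LinearMap.range ψ = I.map (algebraMap B B') := by
    apply le_antisymm
    · rintro _ ⟨t, rfl⟩
      induction t using TensorProduct.induction_on with
      | zero => simp
      | tmul b i =>
        rw [hψ]
        exact Ideal.mul_mem_left _ _ (Ideal.mem_map_of_mem _ i.2)
      | add x y hx hy => rw [map_add]; exact Ideal.add_mem _ hx hy
    · rw [Ideal.map, Ideal.span_le]
      rintro _ ⟨i, hi, rfl⟩
      exact ⟨1 ⊗ₜ ⟨i, hi⟩, by rw [hψ, one_mul]⟩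
  exact (LinearEquiv.ofInjective ψ hinj).trans (LinearEquiv.ofEq _ _ hrange)

variable [IsLocalRing B] [IsLocalRing B'] [IsLocalHom (algebraMap B B')]

/-- The minimal number of generators of an ideal is invariant under flat local extension. -/
theorem spanFinrank_map_eq_of_flat [Module.Flat B B'] (I : Ideal B) (hI : I.FG) :
    (I.map (algebraMap B B')).spanFinrank = I.spanFinrank := by
  have hI' : (I.map (algebraMap B B')).FG := hI.map _
  rw [← TensorProduct.spanFinrank_top_eq_of_residueField I hI,
    ← TensorProduct.spanFinrank_top_eq_of_residueField _ hI',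
    ← Module.finrank_eq_spanFinrank_of_free, ← Module.finrank_eq_spanFinrank_of_free]
  let e1 := tensorIdealEquiv (B' := B') I
  let e2 : ResidueField B' ⊗[B'] (B' ⊗[B] I) ≃ₗ[ResidueField B']
      ResidueField B' ⊗[B'] (I.map (algebraMap B B')) :=
    LinearEquiv.baseChange B' (ResidueField B') _ _ e1
  let e3 : ResidueField B' ⊗[B'] (B' ⊗[B] I) ≃ₗ[ResidueField B'] ResidueField B' ⊗[B] I :=
    AlgebraTensorModule.cancelBaseChange B B' (ResidueField B') (ResidueField B') I
  let e4 : ResidueField B' ⊗[ResidueField B] (ResidueField B ⊗[B] I) ≃ₗ[ResidueField B']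
      ResidueField B' ⊗[B] I :=
    AlgebraTensorModule.cancelBaseChange B (ResidueField B) (ResidueField B') (ResidueField B') I
  rw [← e2.finrank_eq, e3.finrank_eq, ← e4.finrank_eq, Module.finrank_baseChange]

end flat


/-- **Invariance of the complete-intersection defect** (EGA IV 19.3.2, S2941): for two surjections
`B → A`, `B' → A` from regular local rings onto a Noetherian local ring,
`dim B - μ(ker) = dim B' - μ(ker')`. -/
theorem defect_eq (A : Type u) [CommRing A] [IsLocalRing A] [IsNoetherianRing A] (B B' : Type u)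
    [CommRing B] [CommRing B'] [IsRegularLocalRing B] [IsRegularLocalRing B'] (f : B →+* A)
    (hf : Function.Surjective f) (f' : B' →+* A) (hf' : Function.Surjective f') (d d' : ℕ)
    (hd : ringKrullDim B = d) (hd' : ringKrullDim B' = d') :
    (d : ℤ) - ((RingHom.ker f).spanFinrank : ℤ) = (d' : ℤ) - ((RingHom.ker f').spanFinrank : ℤ) := by
  haveI : IsRegularLocalRing (AdicCompletion (maximalIdeal B) B) :=
    (AdicDim.isRegularLocalRing_adicCompletion_iff B).mp inferInstance
  haveI : IsRegularLocalRing (AdicCompletion (maximalIdeal B') B') :=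
    (AdicDim.isRegularLocalRing_adicCompletion_iff B').mp inferInstance
  have hJ : maximalIdeal A = (maximalIdeal B).map f := (map_maximalIdeal_of_surjective f hf).symm
  have hJ' : maximalIdeal A = (maximalIdeal B').map f' :=
    (map_maximalIdeal_of_surjective f' hf').symm
  have hs := H14ComplRegular.complMap_surjective f hf (maximalIdeal B) (maximalIdeal A) hJ
  have hs' := H14ComplRegular.complMap_surjective f' hf' (maximalIdeal B') (maximalIdeal A) hJ'
  have hk := ker_complMap f hf (maximalIdeal B) (maximalIdeal A) hJ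
  have hk' := ker_complMap f' hf' (maximalIdeal B') (maximalIdeal A) hJ'
  have hdc : ringKrullDim (AdicCompletion (maximalIdeal B) B) = d := by
    rw [AdicDim.ringKrullDim_adicCompletion, hd]
  have hdc' : ringKrullDim (AdicCompletion (maximalIdeal B') B') = d' := by
    rw [AdicDim.ringKrullDim_adicCompletion, hd']
  have key := defect_eq_of_complete _ hs _ hs' d d' hdc hdc'
  rw [hk, hk', spanFinrank_map_eq_of_flat _ (IsNoetherian.noetherian _),
    spanFinrank_map_eq_of_flat _ (IsNoetherian.noetherian _)] at key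
  exact key

end Groth.Agent.Lib.H14CIDefect
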