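/-
helper14: EGA 0_IV 17.3.3 — TFAE for regular local homomorphisms (S2470).

* `map_mk_maximalIdeal`, `ringKrullDim_le_add` (dim B ≤ dim A + dim B/𝔪_A B for local homs),
  `exists_nat_dim`, `tfae_regular`.
-/
import Mathlib
import Groth.Agent.Lib.H14FlatAscent
import Groth.Agent.Lib.SkFlat33
import Groth.Agent.Lib.H87Serre2
import Groth.Agent.Lib.H8CM6
import Groth.Agent.S2082

set_option autoImplicit false
set_option linter.style.haveILetI false
set_option linter.unusedSectionVars false
universe u
open IsLocalRing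

namespace Groth.Agent.Lib.H14RegLocalHom

variable {A B : Type u} [CommRing A] [IsLocalRing A] [IsNoetherianRing A] [CommRing B]
  [IsLocalRing B] [IsNoetherianRing B] [Algebra A B] [IsLocalHom (algebraMap A B)]
  [IsLocalRing (B ⧸ (maximalIdeal A).map (algebraMap A B))]

/-- `𝔪_B (B/𝔪_A B)` is the maximal ideal of the closed fibre. -/
theorem map_mk_maximalIdeal :
    (maximalIdeal B).map (Ideal.Quotient.mk ((maximalIdeal A).map (algebraMap A B))) =
      maximalIdeal (B ⧸ (maximalIdeal A).map (algebraMap A B)) := by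
  have := Ideal.map_eq_top_or_isMaximal_of_surjective
    (Ideal.Quotient.mk ((maximalIdeal A).map (algebraMap A B))) Ideal.Quotient.mk_surjective
    (maximalIdeal.isMaximal B)
  rcases this with h1 | h1
  · exfalso
    have h2 := congrArg (Ideal.comap (Ideal.Quotient.mk ((maximalIdeal A).map (algebraMap A B)))) h1
    rw [Ideal.comap_map_of_surjective _ Ideal.Quotient.mk_surjective, Ideal.comap_top,
      ← RingHom.ker_eq_comap_bot, Ideal.mk_ker,
      sup_eq_left.mpr (map_maximalIdeal_le (algebraMap A B))] at h2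
    exact (maximalIdeal.isMaximal B).ne_top h2
  · exact IsLocalRing.eq_maximalIdeal h1

/-- Dimension inequality for a local homomorphism: `dim B ≤ dim A + dim B/𝔪_A B`. -/
theorem ringKrullDim_le_add :
    ringKrullDim B ≤ ringKrullDim A +
      ringKrullDim (B ⧸ (maximalIdeal A).map (algebraMap A B)) := by
  haveI : (maximalIdeal B).LiesOver (maximalIdeal A) :=
    ⟨(maximalIdeal_comap (algebraMap A B)).symm⟩
  have h := Ideal.height_le_height_add_of_liesOver (maximalIdeal A) (maximalIdeal B)
  rw [map_mk_maximalIdeal] at h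
  rw [← IsLocalRing.maximalIdeal_height_eq_ringKrullDim,
    ← IsLocalRing.maximalIdeal_height_eq_ringKrullDim,
    ← IsLocalRing.maximalIdeal_height_eq_ringKrullDim]
  exact_mod_cast h

omit [IsLocalRing A] [IsNoetherianRing A] [Algebra A B] [IsLocalHom (algebraMap A B)]
  [IsLocalRing (B ⧸ (maximalIdeal A).map (algebraMap A B))] [CommRing A] in
/-- The dimension of a Noetherian local ring is a natural number bounded by the embedding
dimension. -/
theorem exists_nat_dim : ∃ n : ℕ, ringKrullDim B = n ∧ n ≤ (maximalIdeal B).spanFinrank := by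
  have h1 := ringKrullDim_le_spanFinrank_maximalIdeal B
  have h0 : (0 : WithBot ℕ∞) ≤ ringKrullDim B := ringKrullDim_nonneg_of_nontrivial
  have hne : ringKrullDim B ≠ ⊥ := fun h => by rw [h] at h0; exact absurd h0 (by simp)
  obtain ⟨y, hy⟩ := WithBot.ne_bot_iff_exists.mp hne
  rw [← hy] at h1
  have h2 : y ≤ ((maximalIdeal B).spanFinrank : ℕ∞) := by exact_mod_cast h1
  have hy' : y ≠ ⊤ := fun h => by rw [h] at h2; exact absurd h2 (by simp)
  obtain ⟨n, hn⟩ := ENat.ne_top_iff_exists.mp hy'
  refine ⟨n, ?_, ?_⟩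
  · rw [← hy, ← hn]; rfl
  · rw [← hn] at h2; exact_mod_cast h2

/-- **EGA 0_IV 17.3.3** (TFAE for regular local homomorphisms). -/
theorem tfae_regular :
    [IsRegularLocalRing B ∧
       Module.finrank (ResidueField B) (CotangentSpace B) =
         Module.finrank (ResidueField A) (CotangentSpace A) +
           Module.finrank (ResidueField (B ⧸ (maximalIdeal A).map (algebraMap A B)))
             (CotangentSpace (B ⧸ (maximalIdeal A).map (algebraMap A B))),
     IsRegularLocalRing B ∧ IsRegularLocalRing (B ⧸ (maximalIdeal A).map (algebraMap A B)) ∧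
       Module.Flat A B,
     IsRegularLocalRing A ∧ IsRegularLocalRing (B ⧸ (maximalIdeal A).map (algebraMap A B)) ∧
       Module.Flat A B,
     IsRegularLocalRing A ∧ IsRegularLocalRing (B ⧸ (maximalIdeal A).map (algebraMap A B)) ∧
       ringKrullDim B = ringKrullDim A +
         ringKrullDim (B ⧸ (maximalIdeal A).map (algebraMap A B))].TFAE := by
  haveI : IsNoetherianRing (B ⧸ (maximalIdeal A).map (algebraMap A B)) := inferInstance
  obtain ⟨a, ha, hae⟩ := exists_nat_dim (B := A)
  obtain ⟨b, hb, hbe⟩ := exists_nat_dim (B := B)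
  obtain ⟨c, hc, hce⟩ := exists_nat_dim (B := B ⧸ (maximalIdeal A).map (algebraMap A B))
  have hsub := Groth.Agent.Lib.H14FlatAscent.spanFinrank_maximalIdeal_le_add (A := A) (B := B)
  have hdim := ringKrullDim_le_add (A := A) (B := B)
  rw [ha, hb, hc] at hdim
  have hdim' : b ≤ a + c := by exact_mod_cast hdim
  have regA : IsRegularLocalRing A ↔ (maximalIdeal A).spanFinrank = a := by
    rw [isRegularLocalRing_iff, ha]; exact_mod_cast Iff.rfl
  have regB : IsRegularLocalRing B ↔ (maximalIdeal B).spanFinrank = b := by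
    rw [isRegularLocalRing_iff, hb]; exact_mod_cast Iff.rfl
  have regF : IsRegularLocalRing (B ⧸ (maximalIdeal A).map (algebraMap A B)) ↔
      (maximalIdeal (B ⧸ (maximalIdeal A).map (algebraMap A B))).spanFinrank = c := by
    rw [isRegularLocalRing_iff, hc]; exact_mod_cast Iff.rfl
  rw [← spanFinrank_maximalIdeal_eq_finrank_cotangentSpace,
    ← spanFinrank_maximalIdeal_eq_finrank_cotangentSpace,
    ← spanFinrank_maximalIdeal_eq_finrank_cotangentSpace]
  tfae_have 1 → 4 := by
    rintro ⟨h1, h2⟩
    rw [regB] at h1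
    refine ⟨regA.mpr (by omega), regF.mpr (by omega), ?_⟩
    rw [ha, hb, hc]
    have : b = a + c := by omega
    exact_mod_cast this
  tfae_have 4 → 3 := by
    rintro ⟨h1, h2, h3⟩
    refine ⟨h1, h2, ?_⟩
    have h1' := regA.mp h1
    have h2' := regF.mp h2
    rw [ha, hb, hc] at h3
    have h3' : b = a + c := by exact_mod_cast h3
    haveI : IsRegularLocalRing B := regB.mpr (by omega)
    haveI : LocCoh.IsCohenMacaulayLocalRing B :=
      Groth.Agent.Lib.H8CM.isCMLocalRing_of_isRegularLocalRing
    haveI := h1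
    apply Groth.Agent.S2082.result (R := A) (S := B)
    rw [ha, hb, hc]
    exact_mod_cast h3'
  tfae_have 3 → 2 := by
    rintro ⟨h1, h2, h3⟩
    haveI := h3
    exact ⟨Groth.Agent.Lib.H14FlatAscent.isRegularLocalRing_of_flat_of_fibre _ rfl h1 h2, h2, h3⟩
  tfae_have 2 → 1 := by
    rintro ⟨h1, h2, h3⟩
    haveI := h3
    haveI := h1
    have hA : IsRegularLocalRing A := Groth.Agent.Lib.H87Serre2.isRegularLocalRing_of_flat A B
    refine ⟨h1, ?_⟩
    have hd := Groth.Agent.Lib.SkFlat33.ringKrullDim_eq_add (A := A) (B := B)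
    rw [ha, hb, hc] at hd
    have hd' : b = a + c := by exact_mod_cast hd
    have h1' := regB.mp h1
    have h2' := regF.mp h2
    have hA' := regA.mp hA
    omega
  tfae_finish

end Groth.Agent.Lib.H14RegLocalHom
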