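/-
helper14: characterisation of complete intersections via presentations (EGA IV 19.3.2; S2166, S2169).

* `ker_regular_of_isCompleteIntersection` : if the Noetherian local ring `A` is a complete
  intersection (`Pi1.IsCompleteIntersection`), then the kernel of every surjection `R → A` from a
  regular local ring is generated by a regular sequence.
* `isCompleteIntersection_quotient` : `R/(regular sequence)` is a complete intersection, `R` regular local.
-/
import Groth.Agent.Lib.H14CIDefect
import Groth.Agent.Lib.H14RegLocalHom
import Groth.Prelude.Def_Pi1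

set_option autoImplicit false
set_option linter.style.haveILetI false
set_option linter.unusedSectionVars false
universe u
open IsLocalRing RingTheory.Sequence TensorProduct

namespace Groth.Agent.Lib.H14CIChar

open Groth.Agent.Lib Groth.Agent.Lib.H14CIDefect

/-- **Lemma P.** If the Noetherian local ring `A` is a complete intersection, then for every
surjection `R → A` from a regular local ring the kernel is generated by a regular sequence. -/
theorem ker_regular_of_isCompleteIntersection {A R : Type u} [CommRing A] [CommRing R]
    [IsNoetherianRing A] [IsLocalRing A] [IsRegularLocalRing R] (f : R →+* A)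
    (hf : Function.Surjective f) (hA : Pi1.IsCompleteIntersection A) :
    ∃ rs : List R, Ideal.ofList rs = RingHom.ker f ∧ RingTheory.Sequence.IsRegular R rs := by
  obtain ⟨B, _, _, rs, hrsm, hreg, ⟨e⟩⟩ := hA
  haveI : IsNoetherianRing (AdicCompletion (maximalIdeal A) A) :=
    AdicNoeth.isNoetherianRing_adicCompletion _
  haveI : IsRegularLocalRing (AdicCompletion (maximalIdeal R) R) :=
    (AdicDim.isRegularLocalRing_adicCompletion_iff R).mp inferInstance
  -- the presentation `B → Â`
  let g : B →+* AdicCompletion (maximalIdeal A) A :=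
    (e.symm : B ⧸ Ideal.ofList rs →+* AdicCompletion (maximalIdeal A) A).comp
      (Ideal.Quotient.mk (Ideal.ofList rs))
  have hg : Function.Surjective g := e.symm.surjective.comp Ideal.Quotient.mk_surjective
  have hkg : RingHom.ker g = Ideal.ofList rs := by
    ext x
    rw [RingHom.mem_ker]
    show e.symm (Ideal.Quotient.mk (Ideal.ofList rs) x) = 0 ↔ _
    rw [map_eq_zero_iff _ e.symm.injective, Ideal.Quotient.eq_zero_iff_mem]
  -- the presentation `R̂ → Â`
  have hJ : maximalIdeal A = (maximalIdeal R).map f := (map_maximalIdeal_of_surjective f hf).symm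
  have hs := H14ComplRegular.complMap_surjective f hf (maximalIdeal R) (maximalIdeal A) hJ
  have hk := ker_complMap f hf (maximalIdeal R) (maximalIdeal A) hJ
  -- dimensions
  have hdR : ringKrullDim R = ((maximalIdeal R).spanFinrank : ℕ) :=
    IsRegularLocalRing.spanFinrank_maximalIdeal.symm
  have hdB : ringKrullDim B = ((maximalIdeal B).spanFinrank : ℕ) :=
    IsRegularLocalRing.spanFinrank_maximalIdeal.symm
  have hdRc : ringKrullDim (AdicCompletion (maximalIdeal R) R) =
      ((maximalIdeal R).spanFinrank : ℕ) := by
    rw [AdicDim.ringKrullDim_adicCompletion, hdR]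
  have key := defect_eq (AdicCompletion (maximalIdeal A) A) _ B _ hs g hg _ _ hdRc hdB
  rw [hk, spanFinrank_map_eq_of_flat _ (IsNoetherian.noetherian _), hkg] at key
  -- the criterion for `B`
  have hIB : Ideal.ofList rs ≠ ⊤ := by
    intro h
    have h1 : Ideal.ofList rs ≤ maximalIdeal B := Ideal.span_le.mpr hrsm
    rw [h] at h1
    exact (maximalIdeal.isMaximal B).ne_top (top_le_iff.mp h1)
  have hcB := (regular_iff_spanFinrank_eq (Ideal.ofList rs) hIB).mp ⟨rs, rfl, hreg⟩
  -- dimension of `A`
  obtain ⟨a, ha, -⟩ := H14RegLocalHom.exists_nat_dim (B := A)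
  have hdimq : ringKrullDim (B ⧸ Ideal.ofList rs) = a := by
    rw [ringKrullDim_eq_of_ringEquiv e.symm, AdicDim.ringKrullDim_adicCompletion, ha]
  have hdimq' : ringKrullDim (R ⧸ RingHom.ker f) = a := by
    rw [ringKrullDim_eq_of_ringEquiv (RingHom.quotientKerEquivOfSurjective hf), ha]
  rw [hdimq, hdB] at hcB
  have h1 : a + (Ideal.ofList rs).spanFinrank = (maximalIdeal B).spanFinrank := by
    exact_mod_cast hcB
  rw [regular_iff_spanFinrank_eq _ (RingHom.ker_ne_top f), hdimq', hdR]
  have h2 : a + (RingHom.ker f).spanFinrank = (maximalIdeal R).spanFinrank := by omega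
  exact_mod_cast h2

/-- **Lemma Q.** The quotient of a regular local ring by a regular sequence is a complete
intersection. -/
theorem isCompleteIntersection_quotient {R : Type u} [CommRing R] [IsRegularLocalRing R]
    (I : Ideal R) (hI : I ≠ ⊤) [IsLocalRing (R ⧸ I)] (rs : List R) (hrs : Ideal.ofList rs = I)
    (hreg : RingTheory.Sequence.IsRegular R rs) : Pi1.IsCompleteIntersection (R ⧸ I) := by
  haveI : IsRegularLocalRing (AdicCompletion (maximalIdeal R) R) :=
    (AdicDim.isRegularLocalRing_adicCompletion_iff R).mp inferInstance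
  haveI : Module.FaithfullyFlat R (AdicCompletion (maximalIdeal R) R) :=
    Module.FaithfullyFlat.of_flat_of_isLocalHom
  have hIm : I ≤ maximalIdeal R := le_maximalIdeal hI
  have hJ : maximalIdeal (R ⧸ I) = (maximalIdeal R).map (Ideal.Quotient.mk I) :=
    (map_maximalIdeal_of_surjective _ Ideal.Quotient.mk_surjective).symm
  have hs := H14ComplRegular.complMap_surjective (Ideal.Quotient.mk I)
    Ideal.Quotient.mk_surjective (maximalIdeal R) (maximalIdeal (R ⧸ I)) hJ
  have hk := ker_complMap (Ideal.Quotient.mk I) Ideal.Quotient.mk_surjective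
    (maximalIdeal R) (maximalIdeal (R ⧸ I)) hJ
  rw [Ideal.mk_ker] at hk
  have hk2 : Ideal.map (algebraMap R (AdicCompletion (maximalIdeal R) R)) I =
      Ideal.ofList (rs.map (algebraMap R (AdicCompletion (maximalIdeal R) R))) := by
    rw [← hrs, Ideal.map_ofList]
  rw [hk2] at hk
  refine ⟨AdicCompletion (maximalIdeal R) R, inferInstance, inferInstance,
    rs.map (algebraMap R (AdicCompletion (maximalIdeal R) R)), ?_, hreg.of_faithfullyFlat, ⟨?_⟩⟩
  · intro r hr
    obtain ⟨r0, hr0, rfl⟩ := List.mem_map.mp hr
    have : r0 ∈ maximalIdeal R := hIm (by rw [← hrs]; exact Ideal.subset_span hr0)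
    exact map_nonunit _ _ this
  · exact (RingHom.quotientKerEquivOfSurjective hs).symm.trans (Ideal.quotEquivOfEq hk)

end Groth.Agent.Lib.H14CIChar
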