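/-
helper14: more on complete intersections via presentations.

* `ker_regular_of_ker_regular` : two regular local presentations `B → C ← R` of a Noetherian local ring;
  if `ker (B → C)` is generated by a regular sequence, so is `ker (R → C)`.
* `geomDepth_le_and_eq_iff` : S5178, `e - q ≤ d` with equality iff complete intersection.
-/
import Groth.Agent.Lib.H14CIChar

set_option autoImplicit false
set_option linter.style.haveILetI false
set_option linter.unusedSectionVars false
universe u
open IsLocalRing RingTheory.Sequence TensorProduct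

namespace Groth.Agent.Lib.H14CIChar2

open Groth.Agent.Lib Groth.Agent.Lib.H14CIDefect

/-- **Lemma P'.** Two regular local presentations of a Noetherian local ring: if one kernel is
generated by a regular sequence then so is the other. -/
theorem ker_regular_of_ker_regular {C B R : Type u} [CommRing C] [CommRing B] [CommRing R]
    [IsNoetherianRing C] [IsLocalRing C] [IsRegularLocalRing B] [IsRegularLocalRing R]
    (g : B →+* C) (hg : Function.Surjective g) (f : R →+* C) (hf : Function.Surjective f)
    (h : ∃ rs : List B, Ideal.ofList rs = RingHom.ker g ∧ RingTheory.Sequence.IsRegular B rs) :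
    ∃ rs : List R, Ideal.ofList rs = RingHom.ker f ∧ RingTheory.Sequence.IsRegular R rs := by
  have hdR : ringKrullDim R = ((maximalIdeal R).spanFinrank : ℕ) :=
    IsRegularLocalRing.spanFinrank_maximalIdeal.symm
  have hdB : ringKrullDim B = ((maximalIdeal B).spanFinrank : ℕ) :=
    IsRegularLocalRing.spanFinrank_maximalIdeal.symm
  have key := defect_eq C R B f hf g hg _ _ hdR hdB
  have hcB := (regular_iff_spanFinrank_eq _ (RingHom.ker_ne_top g)).mp h
  obtain ⟨a, ha, -⟩ := H14RegLocalHom.exists_nat_dim (B := C)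
  have hq : ringKrullDim (B ⧸ RingHom.ker g) = a := by
    rw [ringKrullDim_eq_of_ringEquiv (RingHom.quotientKerEquivOfSurjective hg), ha]
  have hq' : ringKrullDim (R ⧸ RingHom.ker f) = a := by
    rw [ringKrullDim_eq_of_ringEquiv (RingHom.quotientKerEquivOfSurjective hf), ha]
  rw [hq, hdB] at hcB
  have h1 : a + (RingHom.ker g).spanFinrank = (maximalIdeal B).spanFinrank := by
    exact_mod_cast hcB
  rw [regular_iff_spanFinrank_eq _ (RingHom.ker_ne_top f), hq', hdR]
  have h2 : a + (RingHom.ker f).spanFinrank = (maximalIdeal R).spanFinrank := by omega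
  exact_mod_cast h2

/-- S5178. -/
theorem geomDepth_le_and_eq_iff (A : Type u) [CommRing A] [IsLocalRing A] [IsNoetherianRing A]
    (B : Type u) [CommRing B] [IsRegularLocalRing B] (I : Ideal B)
    (hpres : Nonempty (AdicCompletion (IsLocalRing.maximalIdeal A) A ≃+* B ⧸ I)) (d e : ℕ)
    (hd : ringKrullDim A = (d : WithBot ℕ∞)) (he : ringKrullDim B = (e : WithBot ℕ∞)) :
    (e : ℤ) - (I.spanFinrank : ℤ) ≤ (d : ℤ) ∧
      ((e : ℤ) - (I.spanFinrank : ℤ) = (d : ℤ) ↔ Pi1.IsCompleteIntersection A) := by
  obtain ⟨ε⟩ := hpres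
  haveI : IsNoetherianRing (AdicCompletion (maximalIdeal A) A) :=
    AdicNoeth.isNoetherianRing_adicCompletion _
  have hI : I ≠ ⊤ := by
    intro h
    have h1 : Subsingleton (B ⧸ I) := Ideal.Quotient.subsingleton_iff.mpr h
    have h2 : Subsingleton (AdicCompletion (maximalIdeal A) A) := ε.injective.subsingleton
    exact not_subsingleton _ h2
  have hIm : I ≤ maximalIdeal B := le_maximalIdeal hI
  have hdq : ringKrullDim (B ⧸ I) = d := by
    rw [← ringKrullDim_eq_of_ringEquiv ε, AdicDim.ringKrullDim_adicCompletion, hd]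
  have hkrull : ringKrullDim B ≤ ringKrullDim (B ⧸ I) + I.spanFinrank := by
    apply ringKrullDim_le_ringKrullDim_quotient_add_spanFinrank
    rw [IsLocalRing.ringJacobson_eq_maximalIdeal]
    exact hIm
  rw [hdq, he] at hkrull
  have h1 : e ≤ d + I.spanFinrank := by exact_mod_cast hkrull
  refine ⟨by omega, ?_⟩
  have hcrit := regular_iff_spanFinrank_eq I hI
  rw [hdq, he] at hcrit
  have h2 : ((d : WithBot ℕ∞) + (I.spanFinrank : WithBot ℕ∞) = e) ↔
      ((e : ℤ) - (I.spanFinrank : ℤ) = (d : ℤ)) := by
    constructor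
    · intro h
      have : d + I.spanFinrank = e := by exact_mod_cast h
      omega
    · intro h
      have : d + I.spanFinrank = e := by omega
      exact_mod_cast this
  rw [← h2, ← hcrit]
  -- the presentation `B → Â`
  let g : B →+* AdicCompletion (maximalIdeal A) A :=
    (ε.symm : B ⧸ I →+* AdicCompletion (maximalIdeal A) A).comp (Ideal.Quotient.mk I)
  have hg : Function.Surjective g := ε.symm.surjective.comp Ideal.Quotient.mk_surjective
  have hkg : RingHom.ker g = I := by
    ext x
    rw [RingHom.mem_ker]
    show ε.symm (Ideal.Quotient.mk I x) = 0 ↔ _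
    rw [map_eq_zero_iff _ ε.symm.injective, Ideal.Quotient.eq_zero_iff_mem]
  constructor
  · rintro ⟨rs, hrs, hreg⟩
    refine ⟨B, inferInstance, inferInstance, rs, ?_, hreg, ⟨ε.trans (Ideal.quotEquivOfEq hrs.symm)⟩⟩
    intro r hr
    exact hIm (by rw [← hrs]; exact Ideal.subset_span hr)
  · rintro ⟨B', _, _, rs, hrsm, hreg, ⟨e'⟩⟩
    let g' : B' →+* AdicCompletion (maximalIdeal A) A :=
      (e'.symm : B' ⧸ Ideal.ofList rs →+* AdicCompletion (maximalIdeal A) A).comp
        (Ideal.Quotient.mk (Ideal.ofList rs))
    have hg' : Function.Surjective g' := e'.symm.surjective.comp Ideal.Quotient.mk_surjective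
    have hkg' : RingHom.ker g' = Ideal.ofList rs := by
      ext x
      rw [RingHom.mem_ker]
      show e'.symm (Ideal.Quotient.mk (Ideal.ofList rs) x) = 0 ↔ _
      rw [map_eq_zero_iff _ e'.symm.injective, Ideal.Quotient.eq_zero_iff_mem]
    have := ker_regular_of_ker_regular g' hg' g hg ⟨rs, hkg'.symm, hreg⟩
    rwa [hkg] at this

end Groth.Agent.Lib.H14CIChar2
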