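import Groth.Agent.Lib.H87RegIdeal3

set_option autoImplicit false
universe u
open IsLocalRing RingTheory.Sequence Pointwise

/-!
# Regular ideals: `K` regular and `K/J` regular imply `J` regular (helper87)

* `isRegular_cons_iff_quot` : `r :: rs` is regular on `A` iff `r` is regular and the image of `rs` is regular
  on the ring `A ⧸ (r)`.
* `ofList_perm`, `isWeaklyRegular_append_singleton_iff`, `isWeaklyRegular_append_singleton_of_sub_mem`.
* `exists_perm_cons_of_not_mem_mul` : exchange lemma for lists of generators in a local ring.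
* `exists_isRegular_cons` : in a Noetherian local ring, any `y ∈ K ∖ mK` of a regular ideal `K` is the first
  term of a regular sequence generating `K`.
* `isRegularIdeal_ker_aux`, `isRegularIdeal_of_isRegularIdeal_map` : (S2837).
-/

namespace Groth.Agent.Lib.H87RegIdeal4


variable {A : Type u} [CommRing A]

theorem isRegular_cons_iff_quot (r : A) (rs : List A) :
    IsRegular A (r :: rs) ↔ IsSMulRegular A r ∧
      IsRegular (A ⧸ Ideal.span {r}) (rs.map (Ideal.Quotient.mk (Ideal.span {r}))) := by
  rw [isRegular_cons_iff']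
  have h : Ideal.span {r} = r • (⊤ : Ideal A) := by
    simp [← Submodule.ideal_span_singleton_smul]
  let e : (A ⧸ Ideal.span ({r} : Set A)) ≃ₗ[A ⧸ Ideal.span ({r} : Set A)] QuotSMulTop r A :=
    (Submodule.quotEquivOfEq _ _ h).extendScalarsOfSurjective Ideal.Quotient.mk_surjective
  rw [e.isRegular_congr]

theorem ofList_perm {l l' : List A} (h : l.Perm l') : Ideal.ofList l = Ideal.ofList l' := by
  unfold Ideal.ofList
  congr 1
  ext x
  exact h.mem_iff

theorem isWeaklyRegular_append_singleton_iff (l : List A) (a : A) :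
    IsWeaklyRegular A (l ++ [a]) ↔
      IsWeaklyRegular A l ∧ ∀ z, a * z ∈ Ideal.ofList l → z ∈ Ideal.ofList l := by
  rw [isWeaklyRegular_append_iff, isWeaklyRegular_singleton_iff,
    Groth.Agent.Lib.H87Vasc.isSMulRegular_quotient_iff]

theorem isWeaklyRegular_append_singleton_of_sub_mem {l : List A} {a b u : A} (hu : IsUnit u)
    (hab : b - u * a ∈ Ideal.ofList l) (h : IsWeaklyRegular A (l ++ [a])) :
    IsWeaklyRegular A (l ++ [b]) := by
  rw [isWeaklyRegular_append_singleton_iff] at h ⊢
  refine ⟨h.1, fun z hz => ?_⟩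
  have h1 : a * (u * z) ∈ Ideal.ofList l := by
    have : a * (u * z) = b * z - (b - u * a) * z := by ring
    rw [this]
    exact Ideal.sub_mem _ hz (Ideal.mul_mem_right _ _ hab)
  have h2 := h.2 _ h1
  obtain ⟨v, hv⟩ := hu.exists_left_inv
  have : z = v * (u * z) := by rw [← mul_assoc, hv, one_mul]
  rw [this]
  exact Ideal.mul_mem_left _ _ h2

theorem exists_perm_cons_of_not_mem_mul [IsLocalRing A] : ∀ (ws : List A) (y : A),
    y ∈ Ideal.ofList ws → y ∉ maximalIdeal A * Ideal.ofList ws →
    ∃ (w : A) (l : List A) (u : A), (w :: l).Perm ws ∧ IsUnit u ∧ y - u * w ∈ Ideal.ofList l := by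
  intro ws
  induction ws with
  | nil =>
    intro y hy hy'
    exfalso
    rw [Ideal.ofList_nil] at hy hy'
    rw [Ideal.mem_bot] at hy
    subst hy
    exact hy' (Ideal.zero_mem _)
  | cons w₀ ws' ih =>
    intro y hy hy'
    rw [Ideal.ofList_cons] at hy
    obtain ⟨p, hp, q, hq, rfl⟩ := Submodule.mem_sup.mp hy
    obtain ⟨a, rfl⟩ := Ideal.mem_span_singleton'.mp hp
    by_cases ha : IsUnit a
    · refine ⟨w₀, ws', a, List.Perm.refl _, ha, ?_⟩
      have : a * w₀ + q - a * w₀ = q := by ring
      rw [this]
      exact hq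
    · have ham : a ∈ maximalIdeal A := (mem_maximalIdeal a).mpr ha
      have hq' : q ∉ maximalIdeal A * Ideal.ofList ws' := by
        intro hq'
        apply hy'
        apply Ideal.add_mem
        · exact Ideal.mul_mem_mul ham (Ideal.subset_span (by simp))
        · refine Ideal.mul_mono_right ?_ hq'
          rw [Ideal.ofList_cons]
          exact le_sup_right
      obtain ⟨w, l', u, hperm, hu, hsub⟩ := ih q hq hq'
      refine ⟨w, w₀ :: l', u, ?_, hu, ?_⟩
      · exact (List.Perm.swap w₀ w l').trans (List.Perm.cons w₀ hperm)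
      · rw [Ideal.ofList_cons]
        have : a * w₀ + q - u * w = a * w₀ + (q - u * w) := by ring
        rw [this]
        exact Ideal.add_mem _ (Ideal.mem_sup_left (Ideal.mul_mem_left _ _ (Ideal.subset_span rfl)))
          (Ideal.mem_sup_right hsub)

/-- In a Noetherian local ring, any element of a regular ideal `K` outside `m K` is the first term
of a regular sequence generating `K`. -/
theorem exists_isRegular_cons [IsLocalRing A] [IsNoetherianRing A] (ys : List A)
    (hys : IsRegular A ys) (y : A) (hy : y ∈ Ideal.ofList ys)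
    (hy' : y ∉ maximalIdeal A * Ideal.ofList ys) :
    ∃ l : List A, IsRegular A (y :: l) ∧ Ideal.ofList (y :: l) = Ideal.ofList ys := by
  obtain ⟨a, l, u, hperm, hu, hsub⟩ := exists_perm_cons_of_not_mem_mul ys y hy hy'
  have hreg1 : IsRegular A (a :: l) := IsLocalRing.isRegular_of_perm hys hperm.symm
  have hreg2 : IsRegular A (l ++ [a]) :=
    IsLocalRing.isRegular_of_perm hreg1 (List.perm_append_singleton a l).symm
  have hw3 : IsWeaklyRegular A (l ++ [y]) :=
    isWeaklyRegular_append_singleton_of_sub_mem hu hsub hreg2.toIsWeaklyRegular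
  have hKm : Ideal.ofList ys ≤ maximalIdeal A := by
    apply le_maximalIdeal
    intro h
    apply hys.top_ne_smul
    rw [h]
    simp
  have hideal : Ideal.ofList (y :: l) = Ideal.ofList ys := by
    rw [← ofList_perm hperm, Ideal.ofList_cons, Ideal.ofList_cons]
    apply le_antisymm
    · apply sup_le
      · rw [Ideal.span_singleton_le_iff_mem]
        have : y = (y - u * a) + u * a := by ring
        rw [this]
        exact Ideal.add_mem _ (Ideal.mem_sup_right hsub)
          (Ideal.mem_sup_left (Ideal.mul_mem_left _ _ (Ideal.subset_span rfl)))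
      · exact le_sup_right
    · apply sup_le
      · rw [Ideal.span_singleton_le_iff_mem]
        obtain ⟨v, hv⟩ := hu.exists_left_inv
        have : a = v * y - v * (y - u * a) := by
          have : v * y - v * (y - u * a) = (v * u) * a := by ring
          rw [this, hv, one_mul]
        rw [this]
        exact Ideal.sub_mem _
          (Ideal.mem_sup_left (Ideal.mul_mem_left _ _ (Ideal.subset_span rfl)))
          (Ideal.mem_sup_right (Ideal.mul_mem_left _ _ hsub))
      · exact le_sup_right
  have hmem : ∀ r ∈ l ++ [y], r ∈ maximalIdeal A := by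
    intro r hr
    apply hKm
    rw [← hideal]
    exact Ideal.subset_span (by simpa [or_comm] using hr)
  have hreg3 : IsRegular A (l ++ [y]) :=
    IsRegular.of_isWeaklyRegular_of_mem_maximalIdeal A hmem hw3
  exact ⟨l, IsLocalRing.isRegular_of_perm hreg3 (List.perm_append_singleton y l), hideal⟩



theorem exists_list_lift {A B : Type*} [CommRing A] [CommRing B] (f : A →+* B)
    (hf : Function.Surjective f) (J : Ideal A) :
    ∀ zs : List B, (∀ z ∈ zs, z ∈ J.map f) →
      ∃ xs : List A, (∀ x ∈ xs, x ∈ J) ∧ xs.map f = zs := by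
  intro zs
  induction zs with
  | nil => intro _; exact ⟨[], by simp, rfl⟩
  | cons z zs ih =>
    intro h
    obtain ⟨xs, hxs, hmap⟩ := ih (fun z' hz' => h z' (List.mem_cons_of_mem _ hz'))
    obtain ⟨x, hx, hxz⟩ := (Ideal.mem_map_iff_of_surjective f hf).mp (h z List.mem_cons_self)
    refine ⟨x :: xs, ?_, by simp [hxz, hmap]⟩
    intro x' hx'
    rcases List.mem_cons.mp hx' with rfl | hx'
    · exact hx
    · exact hxs _ hx'

theorem map_ofList_cons_quot {B : Type*} [CommRing B] (b : B) (l : List B) :
    (Ideal.ofList (b :: l)).map (Ideal.Quotient.mk (Ideal.span {b})) =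
      Ideal.ofList (l.map (Ideal.Quotient.mk (Ideal.span {b}))) := by
  rw [Ideal.ofList_cons, Ideal.map_sup, Ideal.map_ofList]
  have : (Ideal.span {b}).map (Ideal.Quotient.mk (Ideal.span {b})) = ⊥ := by
    rw [Ideal.map_eq_bot_iff_le_ker, Ideal.mk_ker]
  rw [this, bot_sup_eq]

theorem isRegularIdeal_ker_aux (r : ℕ) : ∀ (A B : Type u) [CommRing A] [CommRing B]
    [IsNoetherianRing A] [IsLocalRing A] (f : A →+* B), Function.Surjective f →
    ∀ ws : List A, ws.length = r → IsRegular A ws → RingHom.ker f ≤ Ideal.ofList ws →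
    CInt.IsRegularIdeal ((Ideal.ofList ws).map f) → CInt.IsRegularIdeal (RingHom.ker f) := by
  induction r with
  | zero =>
    intro A B _ _ _ _ f hf ws hlen hreg hle _
    have hnil : ws = [] := List.length_eq_zero_iff.mp hlen
    subst hnil
    refine ⟨[], hreg, ?_⟩
    rw [Ideal.ofList_nil] at hle ⊢
    exact (le_bot_iff.mp hle).symm
  | succ r ih =>
    intro A B _ _ _ _ f hf ws hlen hreg hle hK'
    classical
    obtain ⟨ys, hys, hysK⟩ := hK'
    haveI : Nontrivial B := hys.nontrivial
    haveI : IsLocalRing B := IsLocalRing.of_surjective' f hf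
    haveI : IsNoetherianRing B := isNoetherianRing_of_surjective A B f hf
    have hKm : Ideal.ofList ws ≤ maximalIdeal A := by
      apply le_maximalIdeal
      intro h
      apply hreg.top_ne_smul
      rw [h]
      simp
    by_cases hbot : (Ideal.ofList ws).map f = ⊥
    · rw [Ideal.map_eq_bot_iff_le_ker] at hbot
      exact ⟨ws, hreg, le_antisymm hbot hle⟩
    · -- pick `w ∈ ws` whose image is not in `m K'`
      have hex : ∃ w ∈ ws, f w ∉ maximalIdeal B * (Ideal.ofList ws).map f := by
        by_contra hcon
        push Not at hcon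
        apply hbot
        apply Submodule.eq_bot_of_le_smul_of_le_jacobson_bot (maximalIdeal B) _
          (Ideal.fg_of_isNoetherianRing _) _ (IsLocalRing.maximalIdeal_le_jacobson _)
        rw [smul_eq_mul]
        conv_lhs => rw [Ideal.map_ofList]
        unfold Ideal.ofList
        rw [Ideal.span_le]
        intro z hz
        obtain ⟨w, hw, rfl⟩ := List.mem_map.mp hz
        exact hcon w hw
      obtain ⟨w, hw, hfw⟩ := hex
      have hperm : ws.Perm (w :: ws.erase w) := List.perm_cons_erase hw
      set l := ws.erase w with hl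
      have hregA : IsRegular A (w :: l) := IsLocalRing.isRegular_of_perm hreg hperm
      have hKA : Ideal.ofList (w :: l) = Ideal.ofList ws := ofList_perm hperm.symm
      have hlenl : l.length = r := by
        have := hperm.length_eq
        simp only [List.length_cons] at this
        omega
      have hfwK : f w ∈ Ideal.ofList ys := by
        rw [hysK]; exact Ideal.mem_map_of_mem f (Ideal.subset_span hw)
      rw [← hysK] at hfw
      obtain ⟨l', hregB, hKB⟩ := exists_isRegular_cons ys hys (f w) hfwK hfw
      rw [isRegular_cons_iff_quot] at hregA hregB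
      obtain ⟨hwA, hlA⟩ := hregA
      obtain ⟨hwB, hlB⟩ := hregB
      have hwm : w ∈ maximalIdeal A := hKm (Ideal.subset_span hw)
      -- the quotient rings
      have hH : Ideal.span {w} ≤ (Ideal.span {f w}).comap f := by
        rw [Ideal.span_singleton_le_iff_mem, Ideal.mem_comap]
        exact Ideal.subset_span rfl
      let f₁ : (A ⧸ Ideal.span {w}) →+* (B ⧸ Ideal.span {f w}) :=
        Ideal.quotientMap (Ideal.span {f w}) f hH
      have hf₁ : Function.Surjective f₁ := Ideal.quotientMap_surjective hf
      haveI : Nontrivial (A ⧸ Ideal.span {w}) := hlA.nontrivial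
      haveI : IsLocalRing (A ⧸ Ideal.span {w}) :=
        IsLocalRing.of_surjective' (Ideal.Quotient.mk (Ideal.span {w})) Ideal.Quotient.mk_surjective
      -- kernel of `f₁`
      have hker_eq : RingHom.ker f₁ = (RingHom.ker f).map (Ideal.Quotient.mk (Ideal.span {w})) := by
        apply le_antisymm
        · intro z hz
          obtain ⟨x, rfl⟩ := Ideal.Quotient.mk_surjective z
          rw [RingHom.mem_ker] at hz
          have hz' : Ideal.Quotient.mk (Ideal.span {f w}) (f x) = 0 := by
            rw [← hz]; exact Ideal.quotientMap_mk.symm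
          rw [Ideal.Quotient.eq_zero_iff_mem, Ideal.mem_span_singleton'] at hz'
          obtain ⟨b, hb⟩ := hz'
          obtain ⟨a, rfl⟩ := hf b
          have h1 : x - a * w ∈ RingHom.ker f := by
            rw [RingHom.mem_ker, map_sub, map_mul, hb, sub_self]
          have h2 : Ideal.Quotient.mk (Ideal.span {w}) x =
              Ideal.Quotient.mk (Ideal.span {w}) (x - a * w) := by
            rw [Ideal.Quotient.eq]
            have : x - (x - a * w) = a * w := by ring
            rw [this]
            exact Ideal.mul_mem_left _ _ (Ideal.subset_span rfl)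
          rw [h2]
          exact Ideal.mem_map_of_mem _ h1
        · rw [Ideal.map_le_iff_le_comap]
          intro x hx
          rw [Ideal.mem_comap, RingHom.mem_ker]
          show f₁ (Ideal.Quotient.mk _ x) = 0
          rw [Ideal.quotientMap_mk, RingHom.mem_ker.mp hx, map_zero]
      have hker_le : RingHom.ker f₁ ≤
          Ideal.ofList (l.map (Ideal.Quotient.mk (Ideal.span {w}))) := by
        rw [hker_eq, ← map_ofList_cons_quot, hKA]
        exact Ideal.map_mono hle
      have hreg' : CInt.IsRegularIdeal
          ((Ideal.ofList (l.map (Ideal.Quotient.mk (Ideal.span {w})))).map f₁) := by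
        refine ⟨_, hlB, ?_⟩
        rw [← map_ofList_cons_quot, hKB, hysK, ← map_ofList_cons_quot, hKA, Ideal.map_map,
          Ideal.map_map]
        congr 1
      obtain ⟨zs₁, hzs₁, hzsker⟩ := ih (A ⧸ Ideal.span {w}) (B ⧸ Ideal.span {f w}) f₁ hf₁
        (l.map (Ideal.Quotient.mk (Ideal.span {w}))) (by simpa using hlenl) hlA hker_le hreg'
      -- lift the regular sequence
      obtain ⟨zs, hzsJ, hzsmap⟩ := exists_list_lift (Ideal.Quotient.mk (Ideal.span {w}))
        Ideal.Quotient.mk_surjective (RingHom.ker f) zs₁ (fun z hz => by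
          rw [← hker_eq, ← hzsker]; exact Ideal.subset_span hz)
      have hregA' : IsRegular A (w :: zs) :=
        (isRegular_cons_iff_quot _ _).mpr ⟨hwA, by rw [hzsmap]; exact hzs₁⟩
      have hregA'' : IsRegular A (zs ++ [w]) :=
        IsLocalRing.isRegular_of_perm hregA' (List.perm_append_singleton w zs).symm
      have hzsw : IsWeaklyRegular A zs :=
        ((isWeaklyRegular_append_iff A zs [w]).mp hregA''.toIsWeaklyRegular).1
      have hzsm : ∀ x ∈ zs, x ∈ maximalIdeal A := fun x hx => hKm (hle (hzsJ x hx))
      have hzsreg : IsRegular A zs := IsRegular.of_isWeaklyRegular_of_mem_maximalIdeal A hzsm hzsw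
      have hJ₀ : Ideal.ofList zs ≤ RingHom.ker f := Ideal.span_le.mpr hzsJ
      refine ⟨zs, hzsreg, le_antisymm hJ₀ ?_⟩
      apply Submodule.le_of_le_smul_of_le_jacobson_bot (I := maximalIdeal A)
        (Ideal.fg_of_isNoetherianRing _) (IsLocalRing.maximalIdeal_le_jacobson _)
      intro u hu
      have h1 : Ideal.Quotient.mk (Ideal.span {w}) u ∈
          (Ideal.ofList zs).map (Ideal.Quotient.mk (Ideal.span {w})) := by
        rw [Ideal.map_ofList, hzsmap, hzsker, hker_eq]
        exact Ideal.mem_map_of_mem _ hu
      obtain ⟨j₀, hj₀, hj₀u⟩ :=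
        (Ideal.mem_map_iff_of_surjective _ Ideal.Quotient.mk_surjective).mp h1
      have h2 : u - j₀ ∈ Ideal.span {w} := by
        rw [← Ideal.Quotient.eq_zero_iff_mem, map_sub, hj₀u, sub_self]
      obtain ⟨a, ha⟩ := Ideal.mem_span_singleton'.mp h2
      have h3 : f w * f a = 0 := by
        rw [← map_mul, mul_comm, ha, map_sub, RingHom.mem_ker.mp hu,
          RingHom.mem_ker.mp (hJ₀ hj₀), sub_self]
      have h4 : f a = 0 := by
        apply hwB
        simp only [smul_eq_mul, mul_zero]
        exact h3
      have h5 : u = j₀ + w * a := by rw [mul_comm, ha]; ring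
      rw [h5]
      apply Submodule.add_mem
      · exact Submodule.mem_sup_left hj₀
      · apply Submodule.mem_sup_right
        rw [smul_eq_mul]
        exact Ideal.mul_mem_mul hwm (RingHom.mem_ker.mpr h4)

/-- Let `A` be a Noetherian local ring and `J ≤ K` ideals. If `K` is generated by a regular sequence
of `A` and `K/J` is generated by a regular sequence of `A/J`, then `J` is generated by a regular
sequence. -/
theorem isRegularIdeal_of_isRegularIdeal_map (A : Type u) [CommRing A] [IsNoetherianRing A]
    [IsLocalRing A] (J K : Ideal A) (hJK : J ≤ K)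
    (hKreg : CInt.IsRegularIdeal K) (hKJ : CInt.IsRegularIdeal (K.map (Ideal.Quotient.mk J))) :
    CInt.IsRegularIdeal J := by
  obtain ⟨ws, hws, rfl⟩ := hKreg
  have := isRegularIdeal_ker_aux ws.length A (A ⧸ J) (Ideal.Quotient.mk J)
    Ideal.Quotient.mk_surjective ws rfl hws (by rw [Ideal.mk_ker]; exact hJK) hKJ
  rwa [Ideal.mk_ker] at this


end Groth.Agent.Lib.H87RegIdeal4
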