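import Groth.Agent.Lib.H87Vasc3
import Groth.Agent.Lib.H87RegIdeal4
import Groth.Agent.Lib.IdealComap
import Groth.Prelude.Def_Mor2
import Mathlib.RingTheory.Regular.Flat

set_option autoImplicit false
universe u
open CategoryTheory AlgebraicGeometry RingTheory.Sequence

/-!
# Regular closed immersions near a point vs. regular ideals in local rings (helper87)

For a closed immersion `j : Y ⟶ X` into a locally Noetherian scheme and `y : Y`:
* `ker_stalkMap` : `ker (O_{X,j y} → O_{Y,y})` is generated by `j.ker.ideal U` for any affine open `U ∋ j y`.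
* `RegAff j U` : the kernel ideal on the affine open `U` is generated by a regular sequence.
* `isRegularIdeal_ker_stalkMap_of_regAff` (localization), `exists_regAff_of_isRegularIdeal_ker` (spreading out).
* `exists_away_isRegularIdeal` : spreading out a regular ideal from `R_p` to `R_g` (abstract localizations).
* `ker_morphismRestrict_ideal` : kernel ideal of `j ∣_ V`.
* `regNear_iff_exists_regAff`, `regNear_iff_isRegularIdeal_ker` : `∃ V ∋ j y, IsRegularClosedImmersion (j ∣_ V)` iff
  `ker (stalkMap j y)` is a regular ideal.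
* `isRegular_map_ringEquiv`, `isRegularIdeal_map_ringEquiv` : transport along ring isomorphisms.
* `isRegularLocalRing_iff_isRegularIdeal_ker`, `S2889_aux`.
-/

namespace Groth.Agent.Lib.H87RegImm


/-- Transport of regular sequences along a ring isomorphism. -/
theorem isRegular_map_ringEquiv {R S : Type*} [CommRing R] [CommRing S] (e : R ≃+* S)
    (rs : List R) : IsRegular R rs ↔ IsRegular S (rs.map e) := by
  apply AddEquiv.isRegular_congr (e := e.toAddEquiv)
  rw [List.forall₂_map_right_iff, List.forall₂_same]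
  intro r _ x
  simp

theorem isRegularIdeal_map_ringEquiv {R S : Type u} [CommRing R] [CommRing S] (e : R ≃+* S)
    (I : Ideal R) (h : CInt.IsRegularIdeal I) : CInt.IsRegularIdeal (I.map (e : R →+* S)) := by
  obtain ⟨rs, hrs, rfl⟩ := h
  refine ⟨rs.map e, (isRegular_map_ringEquiv e rs).mp hrs, ?_⟩
  rw [Ideal.map_ofList]
  rfl

/-- Kernel of a map between localizations induced by a surjection. -/
theorem ker_eq_map_of_local {A B S T : Type*} [CommRing A] [CommRing B] [CommRing S] [CommRing T]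
    (φ : A →+* B) (hφ : Function.Surjective φ) (gA : A →+* S) (gB : B →+* T) (ψ : S →+* T)
    (hcomm : ψ.comp gA = gB.comp φ)
    (h1 : ∀ s : S, ∃ a t : A, IsUnit (gA t) ∧ s * gA t = gA a)
    (h2 : ∀ b : B, gB b = 0 → ∃ u : B, IsUnit (gB u) ∧ u * b = 0)
    (h3 : ∀ s : S, IsUnit (ψ s) → IsUnit s) :
    RingHom.ker ψ = (RingHom.ker φ).map gA := by
  have hc : ∀ a, ψ (gA a) = gB (φ a) := fun a => congr($hcomm a)
  apply le_antisymm
  · intro s hs
    rw [RingHom.mem_ker] at hs
    obtain ⟨a, t, ht, hst⟩ := h1 s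
    have h4 : gB (φ a) = 0 := by
      rw [← hc, ← hst, map_mul, hs, zero_mul]
    obtain ⟨u, hu, hub⟩ := h2 _ h4
    obtain ⟨u', rfl⟩ := hφ u
    have hu' : IsUnit (gA u') := h3 _ (by rw [hc]; exact hu)
    have h5 : u' * a ∈ RingHom.ker φ := by
      rw [RingHom.mem_ker, map_mul]; exact hub
    have h6 : gA u' * gA a ∈ (RingHom.ker φ).map gA := by
      rw [← map_mul]; exact Ideal.mem_map_of_mem _ h5
    obtain ⟨v, hv⟩ := hu'.exists_left_inv
    obtain ⟨w, hw⟩ := ht.exists_right_inv
    have h7 : s = (w * v) * (gA u' * gA a) := by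
      calc s = s * (gA t * w) := by rw [hw, mul_one]
        _ = (s * gA t) * w := by ring
        _ = gA a * w := by rw [hst]
        _ = (v * gA u') * gA a * w := by rw [hv, one_mul]
        _ = (w * v) * (gA u' * gA a) := by ring
    rw [h7]
    exact Ideal.mul_mem_left _ _ h6
  · rw [Ideal.map_le_iff_le_comap]
    intro a ha
    rw [Ideal.mem_comap, RingHom.mem_ker, hc, RingHom.mem_ker.mp ha, map_zero]



/-- The kernel of the stalk map of a closed immersion is generated by the kernel ideal on any affine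
open neighbourhood. -/
theorem ker_stalkMap {X Y : Scheme.{u}} (j : Y ⟶ X) [IsClosedImmersion j] (y : Y) (U : X.Opens)
    (hU : IsAffineOpen U) (hy : j y ∈ U) :
    RingHom.ker (j.stalkMap y).hom =
      (j.ker.ideal ⟨U, hU⟩).map (X.presheaf.germ U (j y) hy).hom := by
  rw [Scheme.Hom.ker_apply]
  have hU' : IsAffineOpen (j ⁻¹ᵁ U) := hU.preimage j
  have hy' : y ∈ j ⁻¹ᵁ U := hy
  apply ker_eq_map_of_local (j.app U).hom (j.app_surjective U hU)
    (X.presheaf.germ U (j y) hy).hom (Y.presheaf.germ (j ⁻¹ᵁ U) y hy').hom (j.stalkMap y).hom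
  · rw [← CommRingCat.hom_comp, ← CommRingCat.hom_comp, Scheme.Hom.germ_stalkMap]
  · intro s
    letI : Algebra Γ(X, U) (X.presheaf.stalk (j y)) :=
      TopCat.Presheaf.algebra_section_stalk X.presheaf ⟨j y, hy⟩
    haveI := hU.isLocalization_stalk ⟨j y, hy⟩
    obtain ⟨a, t, rfl⟩ := IsLocalization.exists_mk'_eq (hU.primeIdealOf ⟨j y, hy⟩).asIdeal.primeCompl s
    exact ⟨a, t, IsLocalization.map_units _ t, IsLocalization.mk'_spec _ a t⟩
  · intro b hb
    letI : Algebra Γ(Y, j ⁻¹ᵁ U) (Y.presheaf.stalk y) :=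
      TopCat.Presheaf.algebra_section_stalk Y.presheaf ⟨y, hy'⟩
    haveI := hU'.isLocalization_stalk ⟨y, hy'⟩
    obtain ⟨m, hm⟩ := (IsLocalization.map_eq_zero_iff
      (hU'.primeIdealOf ⟨y, hy'⟩).asIdeal.primeCompl (Y.presheaf.stalk y) b).mp hb
    exact ⟨m, IsLocalization.map_units _ m, hm⟩
  · intro s hs
    exact isUnit_of_map_unit (j.stalkMap y).hom s hs



/-- The kernel ideal of `j` on the affine open `U` is generated by a regular sequence. -/
def RegAff {X Y : Scheme.{u}} (j : Y ⟶ X) (U : X.Opens) : Prop :=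
  ∃ (hU : IsAffineOpen U) (rs : List Γ(X, U)),
    IsRegular Γ(X, U) rs ∧ j.ker.ideal ⟨U, hU⟩ = Ideal.ofList rs

theorem isRegularIdeal_ker_stalkMap_of_regAff {X Y : Scheme.{u}} (j : Y ⟶ X) [IsClosedImmersion j]
    (y : Y) (U : X.Opens) (hy : j y ∈ U) (h : RegAff j U) :
    CInt.IsRegularIdeal (RingHom.ker (j.stalkMap y).hom) := by
  obtain ⟨hU, rs, hrs, hker⟩ := h
  have hk := ker_stalkMap j y U hU hy
  rw [hker, Ideal.map_ofList] at hk
  refine ⟨rs.map (X.presheaf.germ U (j y) hy).hom, ?_, hk.symm⟩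
  letI : Algebra Γ(X, U) (X.presheaf.stalk (j y)) :=
    TopCat.Presheaf.algebra_section_stalk X.presheaf ⟨j y, hy⟩
  haveI := hU.isLocalization_stalk ⟨j y, hy⟩
  haveI : Module.Flat Γ(X, U) (X.presheaf.stalk (j y)) :=
    IsLocalization.flat _ (hU.primeIdealOf ⟨j y, hy⟩).asIdeal.primeCompl
  refine ⟨hrs.toIsWeaklyRegular.of_flat, ?_⟩
  have h1 : Ideal.ofList (rs.map (algebraMap Γ(X, U) (X.presheaf.stalk (j y)))) ≠ ⊤ := by
    have : Ideal.ofList (rs.map (algebraMap Γ(X, U) (X.presheaf.stalk (j y)))) =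
        RingHom.ker (j.stalkMap y).hom := hk.symm
    rw [this]
    exact RingHom.ker_ne_top _
  intro h2
  apply h1
  rw [smul_eq_mul, Ideal.mul_top] at h2
  exact h2.symm



open Groth.Agent.Lib.H87Vasc in
/-- Spreading out: concrete localizations. -/
theorem exists_away_isRegularIdeal_aux {R : Type u} [CommRing R] [IsNoetherianRing R] (p : Ideal R)
    [p.IsPrime] (I : Ideal R) (hIp : I ≤ p)
    (h : CInt.IsRegularIdeal (I.map (algebraMap R (Localization.AtPrime p)))) :
    ∃ g ∈ p.primeCompl,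
      CInt.IsRegularIdeal (I.map (algebraMap R (Localization.Away g))) := by
  obtain ⟨rs, hrs, hrsI⟩ := h
  set r := rs.length with hr
  let x : Fin r → Localization.AtPrime p := fun i => rs.get i
  have hx : List.ofFn x = rs := List.ofFn_get rs
  have hxreg : IsWeaklyRegular (Localization.AtPrime p) (List.ofFn x) := by
    rw [hx]; exact hrs.toIsWeaklyRegular
  have hxspan : Ideal.span (Set.range x) = I.map (algebraMap R (Localization.AtPrime p)) := by
    rw [← ofList_ofFn, hx, hrsI]
  choose a s ha using fun i => IsLocalization.exists_mk'_eq p.primeCompl (x i)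
  let u : Fin r → Localization.AtPrime p := fun i => algebraMap R _ (s i : R)
  have hu : ∀ i, IsUnit (u i) := fun i => IsLocalization.map_units _ (s i)
  have hau : ∀ i, algebraMap R (Localization.AtPrime p) (a i) = u i * x i := by
    intro i
    rw [← ha i]
    exact (IsLocalization.mk'_spec' _ _ _).symm
  have hreg' : IsWeaklyRegular (Localization.AtPrime p)
      (List.ofFn fun i => algebraMap R (Localization.AtPrime p) (a i)) := by
    have := isWeaklyRegular_ofFn_unit_mul x u hu hxreg
    have hfun : (fun i => algebraMap R (Localization.AtPrime p) (a i)) = fun i => u i * x i :=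
      funext hau
    rw [hfun]
    exact this
  have hspan' : (Ideal.span (Set.range a)).map (algebraMap R (Localization.AtPrime p)) =
      I.map (algebraMap R (Localization.AtPrime p)) := by
    rw [← span_range_algebraMap, ← hxspan, ← span_range_unit_mul x u hu]
    congr 2
    exact funext hau
  obtain ⟨g1, hg1, hg1'⟩ := exists_isWeaklyRegular_away p a hreg'
  obtain ⟨g0, hg0, hg0'⟩ := exists_map_away_eq p _ I hspan'
  have hg : g0 * g1 ∈ p.primeCompl := Submonoid.mul_mem _ hg0 hg1
  refine ⟨g0 * g1, hg, List.ofFn fun i => algebraMap R (Localization.Away (g0 * g1)) (a i), ?_, ?_⟩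
  · refine ⟨hg1' _ (Dvd.intro_left _ rfl), ?_⟩
    rw [ofList_ofFn, span_range_algebraMap, hg0' _ (Dvd.intro _ rfl), smul_eq_mul, Ideal.mul_top]
    apply Ne.symm
    rw [IsLocalization.map_algebraMap_ne_top_iff_disjoint (Submonoid.powers (g0 * g1))]
    rw [Set.disjoint_left]
    rintro _ ⟨k, rfl⟩ hI
    exact hg (Ideal.IsPrime.mem_of_pow_mem inferInstance k (hIp hI))
  · rw [ofList_ofFn, span_range_algebraMap, hg0' _ (Dvd.intro _ rfl)]

/-- Spreading out a regular ideal from the localization at a prime to a basic open neighbourhood;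
abstract localizations. -/
theorem exists_away_isRegularIdeal {R : Type u} [CommRing R] [IsNoetherianRing R] (p : Ideal R)
    [p.IsPrime] (I : Ideal R) (hIp : I ≤ p) (S : Type u) [CommRing S] [Algebra R S]
    [IsLocalization.AtPrime S p] (h : CInt.IsRegularIdeal (I.map (algebraMap R S))) :
    ∃ g ∈ p.primeCompl, ∀ (T : Type u) [CommRing T] [Algebra R T] [IsLocalization.Away g T],
      CInt.IsRegularIdeal (I.map (algebraMap R T)) := by
  let e : S ≃ₐ[R] Localization.AtPrime p := IsLocalization.algEquiv p.primeCompl S _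
  have h1 := isRegularIdeal_map_ringEquiv e.toRingEquiv _ h
  have h2 : (I.map (algebraMap R S)).map ((e.toRingEquiv : S ≃+* Localization.AtPrime p) :
      S →+* Localization.AtPrime p) = I.map (algebraMap R (Localization.AtPrime p)) := by
    rw [Ideal.map_map]
    congr 1
    ext r
    simp [e]
  rw [h2] at h1
  obtain ⟨g, hg, hreg⟩ := exists_away_isRegularIdeal_aux p I hIp h1
  refine ⟨g, hg, ?_⟩
  intro T _ _ _
  let e' : Localization.Away g ≃ₐ[R] T := IsLocalization.algEquiv (Submonoid.powers g) _ T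
  have h3 := isRegularIdeal_map_ringEquiv e'.toRingEquiv _ hreg
  have h4 : (I.map (algebraMap R (Localization.Away g))).map
      ((e'.toRingEquiv : Localization.Away g ≃+* T) : Localization.Away g →+* T) =
      I.map (algebraMap R T) := by
    rw [Ideal.map_map]
    congr 1
    ext r
    simp [e']
  rw [h4] at h3
  exact h3



theorem exists_regAff_of_isRegularIdeal_ker {X Y : Scheme.{u}} [IsLocallyNoetherian X] (j : Y ⟶ X)
    [IsClosedImmersion j] (y : Y)
    (h : CInt.IsRegularIdeal (RingHom.ker (j.stalkMap y).hom)) :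
    ∃ U : X.Opens, j y ∈ U ∧ RegAff j U := by
  obtain ⟨_, ⟨U₀, hU₀, rfl⟩, hy, -⟩ :=
    X.isBasis_affineOpens.exists_subset_of_mem_open (Set.mem_univ (j y)) isOpen_univ
  have hU₀ : IsAffineOpen U₀ := hU₀
  have hy : j y ∈ U₀ := hy
  haveI : IsNoetherianRing Γ(X, U₀) := IsLocallyNoetherian.component_noetherian ⟨U₀, hU₀⟩
  letI : Algebra Γ(X, U₀) (X.presheaf.stalk (j y)) :=
    TopCat.Presheaf.algebra_section_stalk X.presheaf ⟨j y, hy⟩
  haveI := hU₀.isLocalization_stalk ⟨j y, hy⟩
  set p := (hU₀.primeIdealOf ⟨j y, hy⟩).asIdeal with hp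
  set I := j.ker.ideal ⟨U₀, hU₀⟩ with hI
  have hk : RingHom.ker (j.stalkMap y).hom = I.map (algebraMap Γ(X, U₀) (X.presheaf.stalk (j y))) :=
    ker_stalkMap j y U₀ hU₀ hy
  have hIp : I ≤ p := by
    intro a ha
    by_contra hap
    have hu : IsUnit (algebraMap Γ(X, U₀) (X.presheaf.stalk (j y)) a) :=
      IsLocalization.map_units _ (⟨a, hap⟩ : p.primeCompl)
    have hmem : algebraMap Γ(X, U₀) (X.presheaf.stalk (j y)) a ∈ RingHom.ker (j.stalkMap y).hom := by
      rw [hk]; exact Ideal.mem_map_of_mem _ ha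
    exact RingHom.ker_ne_top (j.stalkMap y).hom (Ideal.eq_top_of_isUnit_mem _ hmem hu)
  rw [hk] at h
  obtain ⟨g, hg, hT⟩ := exists_away_isRegularIdeal p I hIp (X.presheaf.stalk (j y)) h
  refine ⟨X.basicOpen g, ?_, ?_⟩
  · rw [X.mem_basicOpen g (j y) hy]
    exact IsLocalization.map_units (X.presheaf.stalk (j y)) (⟨g, hg⟩ : p.primeCompl)
  · haveI := hU₀.isLocalization_basicOpen g
    obtain ⟨rs, hrs, hrsI⟩ := hT Γ(X, X.basicOpen g)
    refine ⟨hU₀.basicOpen g, rs, hrs, ?_⟩
    rw [hrsI]
    exact (j.ker.map_ideal_basicOpen ⟨U₀, hU₀⟩ g).symm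



/-- The kernel ideal of a restricted morphism. -/
theorem ker_morphismRestrict_ideal {X Y : Scheme.{u}} (j : Y ⟶ X) [QuasiCompact j] (V : X.Opens)
    (U' : V.toScheme.Opens) (hU' : IsAffineOpen U') :
    (j ∣_ V).ker.ideal ⟨U', hU'⟩ =
      j.ker.ideal ⟨V.ι ''ᵁ U', hU'.image_of_isOpenImmersion V.ι⟩ := by
  rw [Scheme.Hom.ker_apply, Scheme.Hom.ker_apply]
  ext a
  show ((j ∣_ V).app U').hom a = 0 ↔ (j.app (V.ι ''ᵁ U')).hom a = 0
  have h1 : ((j ∣_ V).app U').hom a =
      (Y.presheaf.map (eqToHom (image_morphismRestrict_preimage j V U')).op).hom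
        ((j.app (V.ι ''ᵁ U')).hom a) := by
    have := morphismRestrict_app j V U'
    exact congr($(this).hom a)
  have hinj : Function.Injective
      (Y.presheaf.map (eqToHom (image_morphismRestrict_preimage j V U')).op).hom := by
    have : IsIso (Y.presheaf.map (eqToHom (image_morphismRestrict_preimage j V U')).op) :=
      inferInstance
    exact (ConcreteCategory.bijective_of_isIso _).1
  constructor
  · intro h
    apply hinj
    rw [map_zero]
    exact h1.symm.trans h
  · intro h
    refine h1.trans ?_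
    have h2 : (j.app (V.ι ''ᵁ U')).hom a = 0 := h
    rw [h2, map_zero]
    rfl



theorem regNear_iff_exists_regAff {X Y : Scheme.{u}} (j : Y ⟶ X) [IsClosedImmersion j] (y : Y) :
    (∃ V : X.Opens, j y ∈ V ∧ Mor2.IsRegularClosedImmersion (j ∣_ V)) ↔
      ∃ U : X.Opens, j y ∈ U ∧ RegAff j U := by
  constructor
  · rintro ⟨V, hyV, hcl, hreg⟩
    let y' : ↥(j ⁻¹ᵁ V) := ⟨y, hyV⟩
    obtain ⟨U', hU', hy'U', rs, hrs, hker⟩ := hreg y'
    refine ⟨V.ι ''ᵁ U', ?_, hU'.image_of_isOpenImmersion V.ι, rs, hrs, ?_⟩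
    · refine ⟨(j ∣_ V) y', hy'U', ?_⟩
      exact morphismRestrict_base_coe j V y'
    · rw [← ker_morphismRestrict_ideal j V U' hU']
      exact hker
  · rintro ⟨U, hyU, hU, rs, hrs, hker⟩
    refine ⟨U, hyU, inferInstance, fun z => ?_⟩
    haveI : IsAffine ↑U := hU
    have key : ∀ W : X.Opens, W = U → RegAff j W := by
      intro W hW
      subst hW
      exact ⟨hU, rs, hrs, hker⟩
    obtain ⟨hW, rs', hrs', hker'⟩ := key (U.ι ''ᵁ ⊤) U.ι_image_top
    refine ⟨⊤, isAffineOpen_top _, trivial, rs', hrs', ?_⟩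
    rw [ker_morphismRestrict_ideal j U ⊤ (isAffineOpen_top _)]
    exact hker'



/-- A closed immersion into a locally Noetherian scheme is a regular immersion near `y` iff the kernel
of the stalk map at `y` is generated by a regular sequence. -/
theorem regNear_iff_isRegularIdeal_ker {X Y : Scheme.{u}} [IsLocallyNoetherian X] (j : Y ⟶ X)
    [IsClosedImmersion j] (y : Y) :
    (∃ V : X.Opens, j y ∈ V ∧ Mor2.IsRegularClosedImmersion (j ∣_ V)) ↔
      CInt.IsRegularIdeal (RingHom.ker (j.stalkMap y).hom) := by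
  rw [regNear_iff_exists_regAff]
  constructor
  · rintro ⟨U, hyU, h⟩
    exact isRegularIdeal_ker_stalkMap_of_regAff j y U hyU h
  · exact exists_regAff_of_isRegularIdeal_ker j y

theorem isRegularLocalRing_iff_isRegularIdeal_ker {A B : Type u} [CommRing A] [CommRing B]
    [IsNoetherianRing A] [IsLocalRing A] (f : A →+* B) (hf : Function.Surjective f)
    [IsRegularLocalRing B] : IsRegularLocalRing A ↔ CInt.IsRegularIdeal (RingHom.ker f) := by
  haveI : IsRegularLocalRing (A ⧸ RingHom.ker f) :=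
    IsRegularLocalRing.of_ringEquiv (RingHom.quotientKerEquivOfSurjective hf).symm
  exact Groth.Agent.Lib.H87RegIdeal.isRegularLocalRing_iff_isRegularIdeal A (RingHom.ker f)

theorem S2889_aux {X Y : Scheme.{u}} [IsLocallyNoetherian X] (j : Y ⟶ X) [IsClosedImmersion j]
    (y : ↥Y) [IsRegularLocalRing (Y.presheaf.stalk y)] :
    (∃ V : X.Opens, j y ∈ V ∧ Mor2.IsRegularClosedImmersion (j ∣_ V)) ↔
      IsRegularLocalRing (X.presheaf.stalk (j y)) := by
  rw [regNear_iff_isRegularIdeal_ker]
  exact (isRegularLocalRing_iff_isRegularIdeal_ker (j.stalkMap y).hom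
    (j.stalkMap_surjective y)).symm


end Groth.Agent.Lib.H87RegImm
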