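import Groth.Agent.Lib.H87Nagata
import Groth.Agent.Lib.H87RegImm
import Groth.Agent.Lib.H14CMQuot

set_option autoImplicit false
universe u
open PrimeSpectrum IsLocalRing RingTheory.Sequence

/-!
# Nagata's criterion for openness of the regular locus (helper87)

* `isRegularIdeal_maximalIdeal` : the maximal ideal of a regular local ring is a regular ideal.
* `isRegularIdeal_map_localization`, `isRegularIdeal_map_atPrime_of_away` : regular ideals under localization.
* `isRegularLocalRing_atPrime_of_quotient` : `p A_q` regular ideal and `(A/p)_{q/p}` regular imply `A_q` regular.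
* `isOpen_regLocus_of_quotients` : Nagata's criterion (Matsumura 24.4; S4700).
* `mem_regLocus_comap_ringEquiv`, `bot_mem_regLocus`, `forall_isOpen_regLocus_quotient_iff` (S4701).
-/

namespace Groth.Agent.Lib.H87Nagata


/-- The maximal ideal of a regular local ring is generated by a regular sequence. -/
theorem isRegularIdeal_maximalIdeal (R : Type u) [CommRing R] [IsRegularLocalRing R] :
    CInt.IsRegularIdeal (maximalIdeal R) := by
  have hd' : ringKrullDim R = ((maximalIdeal R).spanFinrank : ℕ) :=
    IsRegularLocalRing.spanFinrank_maximalIdeal.symm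
  set d := (maximalIdeal R).spanFinrank with hd
  obtain ⟨s, hcard, hspan⟩ := Submodule.FG.exists_span_finset_card_eq_spanFinrank
    ((isNoetherianRing_iff_ideal_fg R).mp inferInstance (maximalIdeal R))
  let e := s.equivFinOfCardEq hcard
  let x : Fin d → R := fun i ↦ (e.symm i : R)
  have hrange : Set.range x = (s : Set R) := by
    ext y
    constructor
    · rintro ⟨i, rfl⟩; exact (e.symm i).2
    · intro hy; exact ⟨e ⟨y, hy⟩, by simp [x]⟩
  have hx : Ideal.span (Set.range x) = maximalIdeal R := by rw [hrange]; exact hspan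
  have hreg := Groth.Agent.Lib.RegularLocal.isRegular_ofFn R d hd' x hx
  exact ⟨List.ofFn x, hreg, by rw [Groth.Agent.Lib.H87RegIdeal.ofList_ofFn, hx]⟩

/-- A regular ideal stays regular in the localization at a prime containing it. -/
theorem isRegularIdeal_map_localization {T : Type u} [CommRing T] (K : Ideal T)
    (hK : CInt.IsRegularIdeal K) (Q : Ideal T) [Q.IsPrime] (hKQ : K ≤ Q) :
    CInt.IsRegularIdeal (K.map (algebraMap T (Localization.AtPrime Q))) := by
  obtain ⟨rs, hrs, rfl⟩ := hK
  refine ⟨rs.map (algebraMap T (Localization.AtPrime Q)), ?_, (Ideal.map_ofList _ _).symm⟩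
  apply IsRegular.of_isWeaklyRegular_of_mem_maximalIdeal
  · intro r hr
    obtain ⟨a, ha, rfl⟩ := List.mem_map.mp hr
    rw [IsLocalization.AtPrime.to_map_mem_maximal_iff (Localization.AtPrime Q) Q]
    exact hKQ (Ideal.subset_span ha)
  · exact hrs.toIsWeaklyRegular.of_flat



/-- From `A_g` to `A_q` for a prime `q` not containing `g`. -/
theorem isRegularIdeal_map_atPrime_of_away {A : Type u} [CommRing A] (g : A) (K : Ideal A)
    (hK : CInt.IsRegularIdeal (K.map (algebraMap A (Localization.Away g)))) (q : Ideal A)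
    [hq : q.IsPrime] (hgq : g ∉ q) (hKq : K ≤ q) :
    CInt.IsRegularIdeal (K.map (algebraMap A (Localization.AtPrime q))) := by
  have hdisj : Disjoint (Submonoid.powers g : Set A) (q : Set A) := by
    rw [Set.disjoint_left]
    rintro _ ⟨n, rfl⟩ hx
    exact hgq (hq.mem_of_pow_mem n hx)
  let Q : Ideal (Localization.Away g) := q.map (algebraMap A (Localization.Away g))
  have hQprime : Q.IsPrime :=
    IsLocalization.isPrime_of_isPrime_disjoint (Submonoid.powers g) (Localization.Away g) q hq hdisj
  have hQcomap : Q.comap (algebraMap A (Localization.Away g)) = q :=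
    IsLocalization.under_map_of_isPrime_disjoint (Submonoid.powers g) (Localization.Away g) hq hdisj
  have h1 := isRegularIdeal_map_localization _ hK Q (Ideal.map_mono hKq)
  rw [Ideal.map_map, ← IsScalarTower.algebraMap_eq] at h1
  have e := IsLocalization.localizationLocalizationAtPrimeIsoLocalization (Submonoid.powers g) Q
  have h2 := Groth.Agent.Lib.H87RegImm.isRegularIdeal_map_ringEquiv e.symm.toRingEquiv _ h1
  have h3 : (K.map (algebraMap A (Localization.AtPrime Q))).map
      ((e.symm.toRingEquiv : Localization.AtPrime Q ≃+* _) : Localization.AtPrime Q →+* _) =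
      K.map (algebraMap A (Localization.AtPrime (Q.comap (algebraMap A (Localization.Away g))))) := by
    rw [Ideal.map_map]
    congr 1
    ext r
    simp
  rw [h3] at h2
  have key : ∀ (q' : Ideal A) [q'.IsPrime], q' = q →
      CInt.IsRegularIdeal (K.map (algebraMap A (Localization.AtPrime q'))) →
      CInt.IsRegularIdeal (K.map (algebraMap A (Localization.AtPrime q))) := by
    intro q' _ hq' hr
    subst hq'
    exact hr
  exact key _ hQcomap h2



/-- If `p A_q` is a regular ideal and `(A/p)_{q/p}` is regular, then `A_q` is regular. -/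
theorem isRegularLocalRing_atPrime_of_quotient {A : Type u} [CommRing A] [IsNoetherianRing A]
    (p q : Ideal A) [p.IsPrime] [hq : q.IsPrime] (hpq : p ≤ q)
    (hreg : CInt.IsRegularIdeal (p.map (algebraMap A (Localization.AtPrime q))))
    (hQ : (q.map (Ideal.Quotient.mk p)).IsPrime)
    (hquot : IsRegularLocalRing (Localization.AtPrime (q.map (Ideal.Quotient.mk p)))) :
    IsRegularLocalRing (Localization.AtPrime q) := by
  have hcomap : (q.map (Ideal.Quotient.mk p)).comap (Ideal.Quotient.mk p) = q := by
    rw [Ideal.comap_map_of_surjective _ Ideal.Quotient.mk_surjective, ← RingHom.ker_eq_comap_bot,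
      Ideal.mk_ker]
    exact sup_eq_left.mpr hpq
  have e := Groth.Agent.Lib.H14CMQuot.localizationQuotientEquiv p (q.map (Ideal.Quotient.mk p))
  have h1 : IsRegularLocalRing
      (Localization.AtPrime ((q.map (Ideal.Quotient.mk p)).comap (Ideal.Quotient.mk p)) ⧸
        p.map (algebraMap A (Localization.AtPrime
          ((q.map (Ideal.Quotient.mk p)).comap (Ideal.Quotient.mk p))))) :=
    IsRegularLocalRing.of_ringEquiv e
  have key : ∀ (q' : Ideal A) [q'.IsPrime], q' = q →
      IsRegularLocalRing (Localization.AtPrime q' ⧸ p.map (algebraMap A (Localization.AtPrime q'))) →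
      IsRegularLocalRing (Localization.AtPrime q ⧸ p.map (algebraMap A (Localization.AtPrime q))) := by
    intro q' _ hq' hr
    subst hq'
    exact hr
  have h2 := key _ hcomap h1
  exact (Groth.Agent.Lib.H87RegIdeal.isRegularLocalRing_iff_isRegularIdeal
    (Localization.AtPrime q) _).mpr hreg

/-- **Nagata's criterion** for the openness of the regular locus (Matsumura 24.4; S4700). -/
theorem isOpen_regLocus_of_quotients (A : Type u) [CommRing A] [IsNoetherianRing A]
    (h : ∀ p : PrimeSpectrum A, p ∈ EGA4.regLocus A →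
      ∃ U : Set (PrimeSpectrum (A ⧸ p.asIdeal)), IsOpen U ∧ U.Nonempty ∧
        U ⊆ EGA4.regLocus (A ⧸ p.asIdeal)) :
    IsOpen (EGA4.regLocus A) := by
  apply isOpen_of_nagata _ (fun p q hpq hq => regLocus_generization p q hpq hq)
  intro p hp
  have hregp : IsRegularLocalRing (Localization.AtPrime p.asIdeal) := hp
  have h1 : CInt.IsRegularIdeal (p.asIdeal.map (algebraMap A (Localization.AtPrime p.asIdeal))) := by
    rw [Localization.AtPrime.map_eq_maximalIdeal]
    exact isRegularIdeal_maximalIdeal _
  obtain ⟨g, hg, hT⟩ := Groth.Agent.Lib.H87RegImm.exists_away_isRegularIdeal p.asIdeal p.asIdeal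
    le_rfl (Localization.AtPrime p.asIdeal) h1
  have hTg := hT (Localization.Away g)
  obtain ⟨U₀, hU₀open, hU₀ne, hU₀reg⟩ := h p hp
  have hemb := PrimeSpectrum.isClosedEmbedding_comap_of_surjective (A ⧸ p.asIdeal)
    (Ideal.Quotient.mk p.asIdeal) Ideal.Quotient.mk_surjective
  obtain ⟨W, hWopen, hWU₀⟩ := hemb.isInducing.isOpen_iff.mp hU₀open
  refine ⟨(basicOpen g : Set (PrimeSpectrum A)) ∩ W, (basicOpen g).isOpen.inter hWopen, ?_, ?_⟩
  · refine ⟨p, ⟨hg, ?_⟩, fun a ha => ha⟩
    have hbot : (⟨⊥, Ideal.isPrime_bot⟩ : PrimeSpectrum (A ⧸ p.asIdeal)) ∈ U₀ := by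
      obtain ⟨t, ht⟩ := hU₀ne
      refine hU₀open.stableUnderGeneralization ?_ ht
      rw [← PrimeSpectrum.le_iff_specializes]
      exact bot_le
    rw [← hWU₀] at hbot
    have hcomap : comap (Ideal.Quotient.mk p.asIdeal) ⟨⊥, Ideal.isPrime_bot⟩ = p := by
      ext1
      rw [comap_asIdeal]
      show Ideal.comap (Ideal.Quotient.mk p.asIdeal) ⊥ = p.asIdeal
      rw [← RingHom.ker_eq_comap_bot, Ideal.mk_ker]
    rw [Set.mem_preimage, hcomap] at hbot
    exact hbot
  · rintro q ⟨⟨hqg, hqW⟩, hqp⟩
    have hpq : p.asIdeal ≤ q.asIdeal := fun a ha => hqp ha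
    have hgq : g ∉ q.asIdeal := hqg
    have hQ : (q.asIdeal.map (Ideal.Quotient.mk p.asIdeal)).IsPrime :=
      Ideal.map_isPrime_of_surjective Ideal.Quotient.mk_surjective
        (by rw [Ideal.mk_ker]; exact hpq)
    have hcomap : (q.asIdeal.map (Ideal.Quotient.mk p.asIdeal)).comap
        (Ideal.Quotient.mk p.asIdeal) = q.asIdeal := by
      rw [Ideal.comap_map_of_surjective _ Ideal.Quotient.mk_surjective,
        ← RingHom.ker_eq_comap_bot, Ideal.mk_ker]
      exact sup_eq_left.mpr hpq
    have hqU₀ : (⟨q.asIdeal.map (Ideal.Quotient.mk p.asIdeal), hQ⟩ :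
        PrimeSpectrum (A ⧸ p.asIdeal)) ∈ U₀ := by
      rw [← hWU₀, Set.mem_preimage]
      have : comap (Ideal.Quotient.mk p.asIdeal)
          ⟨q.asIdeal.map (Ideal.Quotient.mk p.asIdeal), hQ⟩ = q := by
        ext1
        rw [comap_asIdeal]
        exact hcomap
      rw [this]
      exact hqW
    have hquot : IsRegularLocalRing
        (Localization.AtPrime (q.asIdeal.map (Ideal.Quotient.mk p.asIdeal))) := hU₀reg hqU₀
    have hreg := isRegularIdeal_map_atPrime_of_away g p.asIdeal hTg q.asIdeal hgq hpq
    exact isRegularLocalRing_atPrime_of_quotient p.asIdeal q.asIdeal hpq hreg hQ hquot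



/-- The regular locus is invariant under ring isomorphisms. -/
theorem mem_regLocus_comap_ringEquiv {R S : Type u} [CommRing R] [CommRing S] (e : R ≃+* S)
    (q : PrimeSpectrum S) :
    comap (e : R →+* S) q ∈ EGA4.regLocus R ↔ q ∈ EGA4.regLocus S := by
  have e' : Localization.AtPrime (comap (e : R →+* S) q).asIdeal ≃+* Localization.AtPrime q.asIdeal :=
    Localization.localRingEquiv _ q.asIdeal e rfl
  constructor
  · intro h
    have : IsRegularLocalRing (Localization.AtPrime (comap (e : R →+* S) q).asIdeal) := h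
    exact IsRegularLocalRing.of_ringEquiv e'
  · intro h
    have : IsRegularLocalRing (Localization.AtPrime q.asIdeal) := h
    exact IsRegularLocalRing.of_ringEquiv e'.symm

/-- The generic point of a domain lies in the regular locus. -/
theorem bot_mem_regLocus (D : Type u) [CommRing D] [IsDomain D] :
    (⟨⊥, Ideal.isPrime_bot⟩ : PrimeSpectrum D) ∈ EGA4.regLocus D := by
  show IsRegularLocalRing (Localization.AtPrime (⊥ : Ideal D))
  have hN : IsNoetherianRing (Localization.AtPrime (⊥ : Ideal D)) := by
    have hmax : maximalIdeal (Localization.AtPrime (⊥ : Ideal D)) = ⊥ := by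
      rw [← Localization.AtPrime.map_eq_maximalIdeal, Ideal.map_bot]
    have : IsField (Localization.AtPrime (⊥ : Ideal D)) :=
      IsLocalRing.isField_iff_maximalIdeal_eq.mpr hmax
    letI := this.toField
    infer_instance
  apply IsRegularLocalRing.of_spanFinrank_maximalIdeal_le
  have hmax : maximalIdeal (Localization.AtPrime (⊥ : Ideal D)) = ⊥ := by
    rw [← Localization.AtPrime.map_eq_maximalIdeal, Ideal.map_bot]
  rw [hmax, Submodule.spanFinrank_bot]
  exact ringKrullDim_nonneg_of_nontrivial

/-- S4701. -/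
theorem forall_isOpen_regLocus_quotient_iff (A : Type u) [CommRing A] [IsNoetherianRing A] :
    (∀ I : Ideal A, IsOpen (EGA4.regLocus (A ⧸ I))) ↔
      ∀ (p : Ideal A) [p.IsPrime],
        ∃ U : Set (PrimeSpectrum (A ⧸ p)), IsOpen U ∧ U.Nonempty ∧ U ⊆ EGA4.regLocus (A ⧸ p) := by
  constructor
  · intro h p _
    exact ⟨_, h p, ⟨_, bot_mem_regLocus (A ⧸ p)⟩, subset_rfl⟩
  · intro h I
    apply isOpen_regLocus_of_quotients
    intro P _
    set p := P.asIdeal.comap (Ideal.Quotient.mk I) with hp
    have hIp : I ≤ p := by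
      intro a ha
      rw [hp, Ideal.mem_comap, Ideal.Quotient.eq_zero_iff_mem.mpr ha]
      exact Ideal.zero_mem _
    have hmap : p.map (Ideal.Quotient.mk I) = P.asIdeal :=
      Ideal.map_comap_of_surjective _ Ideal.Quotient.mk_surjective _
    let e : (A ⧸ I) ⧸ P.asIdeal ≃+* A ⧸ p :=
      (Ideal.quotEquivOfEq hmap.symm).trans (DoubleQuot.quotQuotEquivQuotOfLE hIp)
    obtain ⟨U, hUopen, hUne, hUreg⟩ := h p
    refine ⟨comap (e.symm : A ⧸ p →+* (A ⧸ I) ⧸ P.asIdeal) ⁻¹' U,
      hUopen.preimage (continuous_comap _), ?_, ?_⟩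
    · obtain ⟨t, ht⟩ := hUne
      refine ⟨comap (e : (A ⧸ I) ⧸ P.asIdeal →+* A ⧸ p) t, ?_⟩
      rw [Set.mem_preimage, ← comap_comp_apply]
      have : (e : (A ⧸ I) ⧸ P.asIdeal →+* A ⧸ p).comp (e.symm : A ⧸ p →+* (A ⧸ I) ⧸ P.asIdeal) =
          RingHom.id _ := by
        ext x; simp
      rw [this, comap_id]
      exact ht
    · intro q hq
      have := hUreg hq
      exact (mem_regLocus_comap_ringEquiv e.symm q).mp this


end Groth.Agent.Lib.H87Nagata
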