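/-
helper14: openness of the complete-intersection locus in `Spec (B/I)`, `B` regular (S2842).

* `isCompleteIntersection_of_ker_regular` : a local ring presented as RLR modulo a regular sequence is CI.
* `isCompleteIntersection_iff_ker` : for `f : R ↠ A`, `R` regular local:
  `Pi1.IsCompleteIntersection A ↔ CInt.IsRegularIdeal (ker f)`.
* `exists_presentation_atPrime` : `(B/I)_Q` is presented by `B_P`, `P = Q ∩ B`, with kernel `I B_P`.
* `stalk_ci_iff` : stalk of `Spec (B/I)` at `x` is CI iff `I B_P` is a regular ideal.
* `isOpen_ciLocus` : S2842.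
-/
import Groth.Agent.Lib.H14CIChar2
import Groth.Agent.Lib.H87RegImm
import Groth.Agent.Lib.H87Nagata2

set_option autoImplicit false
set_option linter.style.haveILetI false
set_option linter.unusedSectionVars false
universe u
open IsLocalRing RingTheory.Sequence TensorProduct AlgebraicGeometry

namespace Groth.Agent.Lib.H14CIOpen

open Groth.Agent.Lib Groth.Agent.Lib.H14CIDefect Groth.Agent.Lib.H14CIChar

/-- **Lemma Q'.** A local ring presented as a regular local ring modulo a regular sequence is a
complete intersection. -/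
theorem isCompleteIntersection_of_ker_regular {R A : Type u} [CommRing R] [CommRing A]
    [IsRegularLocalRing R] [IsLocalRing A] (f : R →+* A) (hf : Function.Surjective f)
    (rs : List R) (hrs : Ideal.ofList rs = RingHom.ker f)
    (hreg : RingTheory.Sequence.IsRegular R rs) : Pi1.IsCompleteIntersection A := by
  haveI : IsRegularLocalRing (AdicCompletion (maximalIdeal R) R) :=
    (AdicDim.isRegularLocalRing_adicCompletion_iff R).mp inferInstance
  haveI : Module.FaithfullyFlat R (AdicCompletion (maximalIdeal R) R) :=
    Module.FaithfullyFlat.of_flat_of_isLocalHom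
  have hIm : RingHom.ker f ≤ maximalIdeal R := le_maximalIdeal (RingHom.ker_ne_top f)
  have hJ : maximalIdeal A = (maximalIdeal R).map f := (map_maximalIdeal_of_surjective f hf).symm
  have hs := H14ComplRegular.complMap_surjective f hf (maximalIdeal R) (maximalIdeal A) hJ
  have hk := ker_complMap f hf (maximalIdeal R) (maximalIdeal A) hJ
  have hk2 : Ideal.map (algebraMap R (AdicCompletion (maximalIdeal R) R)) (RingHom.ker f) =
      Ideal.ofList (rs.map (algebraMap R (AdicCompletion (maximalIdeal R) R))) := by
    rw [← hrs, Ideal.map_ofList]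
  rw [hk2] at hk
  refine ⟨AdicCompletion (maximalIdeal R) R, inferInstance, inferInstance,
    rs.map (algebraMap R (AdicCompletion (maximalIdeal R) R)), ?_, hreg.of_faithfullyFlat, ⟨?_⟩⟩
  · intro r hr
    obtain ⟨r0, hr0, rfl⟩ := List.mem_map.mp hr
    have : r0 ∈ maximalIdeal R := hIm (by rw [← hrs]; exact Ideal.subset_span hr0)
    exact map_nonunit _ _ this
  · exact (RingHom.quotientKerEquivOfSurjective hs).symm.trans (Ideal.quotEquivOfEq hk)

/-- A local ring presented by a regular local ring is a complete intersection iff the kernel of the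
presentation is generated by a regular sequence. -/
theorem isCompleteIntersection_iff_ker {R A : Type u} [CommRing R] [CommRing A]
    [IsRegularLocalRing R] [IsLocalRing A] (f : R →+* A) (hf : Function.Surjective f) :
    Pi1.IsCompleteIntersection A ↔ CInt.IsRegularIdeal (RingHom.ker f) := by
  haveI : IsNoetherianRing A := isNoetherianRing_of_surjective R A f hf
  constructor
  · intro h
    obtain ⟨rs, hrs, hreg⟩ := ker_regular_of_isCompleteIntersection f hf h
    exact ⟨rs, hreg, hrs⟩
  · rintro ⟨rs, hreg, hrs⟩
    exact isCompleteIntersection_of_ker_regular f hf rs hrs hreg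

section Spec

variable (B : Type u) [CommRing B] (I : Ideal B)

theorem algebraMapSubmonoid_primeCompl_comap (Q : Ideal (B ⧸ I)) [Q.IsPrime] :
    Algebra.algebraMapSubmonoid (B ⧸ I) (Q.comap (Ideal.Quotient.mk I)).primeCompl =
      Q.primeCompl := by
  ext y
  constructor
  · rintro ⟨u, hu, rfl⟩
    exact hu
  · intro hy
    obtain ⟨u, rfl⟩ := Ideal.Quotient.mk_surjective y
    exact ⟨u, hy, rfl⟩

/-- The localization of `B ⧸ I` at a prime `Q` is presented by the localization of `B` at the
preimage, with kernel the extension of `I`. -/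
theorem exists_presentation_atPrime (Q : Ideal (B ⧸ I)) [Q.IsPrime] :
    ∃ f : Localization.AtPrime (Q.comap (Ideal.Quotient.mk I)) →+* Localization.AtPrime Q,
      Function.Surjective f ∧ RingHom.ker f =
        I.map (algebraMap B (Localization.AtPrime (Q.comap (Ideal.Quotient.mk I)))) := by
  set P := Q.comap (Ideal.Quotient.mk I) with hP
  have h : IsLocalization (Algebra.algebraMapSubmonoid (B ⧸ I) P.primeCompl)
      (Localization.AtPrime P ⧸ I.map (algebraMap B (Localization.AtPrime P))) := inferInstance
  rw [algebraMapSubmonoid_primeCompl_comap B I Q] at h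
  let e : (Localization.AtPrime P ⧸ I.map (algebraMap B (Localization.AtPrime P))) ≃ₐ[B ⧸ I]
      Localization.AtPrime Q := IsLocalization.algEquiv Q.primeCompl _ _
  let f : Localization.AtPrime P →+* Localization.AtPrime Q :=
    (e.toRingEquiv : _ →+* Localization.AtPrime Q).comp
      (Ideal.Quotient.mk (I.map (algebraMap B (Localization.AtPrime P))))
  have hfe : ∀ x, f x = e (Ideal.Quotient.mk _ x) := fun x => rfl
  refine ⟨f, ?_, ?_⟩
  · intro y
    obtain ⟨z, rfl⟩ := e.surjective y
    obtain ⟨x, rfl⟩ := Ideal.Quotient.mk_surjective z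
    exact ⟨x, hfe x⟩
  · ext x
    rw [RingHom.mem_ker, hfe, map_eq_zero_iff _ e.injective, Ideal.Quotient.eq_zero_iff_mem]

set_option backward.isDefEq.respectTransparency.types false in
/-- The local ring of `Spec (B/I)` at `x` is a complete intersection iff `I` becomes a regular
ideal in the localization of the regular ring `B` at the prime corresponding to `x`. -/
theorem stalk_ci_iff [IsRegularRing B] (x : ↥(Spec (CommRingCat.of (B ⧸ I))))
    [hx : (PrimeSpectrum.asIdeal x).IsPrime] :
    Pi1.IsCompleteIntersection ((Spec (CommRingCat.of (B ⧸ I))).presheaf.stalk x) ↔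
      CInt.IsRegularIdeal (I.map (algebraMap B
        (Localization.AtPrime ((PrimeSpectrum.asIdeal x).comap (Ideal.Quotient.mk I))))) := by
  let e3 := (Spec.stalkIso (CommRingCat.of (B ⧸ I)) x).commRingCatIsoToRingEquiv
  obtain ⟨f, hf, hk⟩ := exists_presentation_atPrime B I (PrimeSpectrum.asIdeal x)
  let f' : Localization.AtPrime ((PrimeSpectrum.asIdeal x).comap (Ideal.Quotient.mk I)) →+*
      ((Spec (CommRingCat.of (B ⧸ I))).presheaf.stalk x) :=
    (e3.symm : _ →+* ((Spec (CommRingCat.of (B ⧸ I))).presheaf.stalk x)).comp f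
  have hf'e : ∀ z, f' z = e3.symm (f z) := fun z => rfl
  have hf' : Function.Surjective f' := by
    intro y
    obtain ⟨z, hz⟩ := hf (e3 y)
    exact ⟨z, by rw [hf'e, hz, RingEquiv.symm_apply_apply]⟩
  have hk' : RingHom.ker f' = RingHom.ker f := by
    ext z
    rw [RingHom.mem_ker, RingHom.mem_ker, hf'e, map_eq_zero_iff _ e3.symm.injective]
  rw [isCompleteIntersection_iff_ker f' hf', hk', hk]

set_option backward.isDefEq.respectTransparency.types false in
/-- S2842. -/
theorem isOpen_ciLocus [IsRegularRing B] :
    IsOpen {x : ↥(Spec (CommRingCat.of (B ⧸ I))) |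
        Pi1.IsCompleteIntersection ((Spec (CommRingCat.of (B ⧸ I))).presheaf.stalk x)} ∧
      ∀ x : ↥(Spec (CommRingCat.of (B ⧸ I))),
        IsRegularLocalRing ((Spec (CommRingCat.of (B ⧸ I))).presheaf.stalk x) →
        Pi1.IsCompleteIntersection ((Spec (CommRingCat.of (B ⧸ I))).presheaf.stalk x) := by
  constructor
  · rw [isOpen_iff_forall_mem_open]
    intro x hx
    haveI hxp : (PrimeSpectrum.asIdeal x).IsPrime := PrimeSpectrum.isPrime x
    rw [Set.mem_ofPred_eq, stalk_ci_iff B I x] at hx
    set P := (PrimeSpectrum.asIdeal x).comap (Ideal.Quotient.mk I) with hP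
    have hIP : I ≤ P := by
      intro i hi
      rw [hP, Ideal.mem_comap, Ideal.Quotient.eq_zero_iff_mem.mpr hi]
      exact Ideal.zero_mem _
    obtain ⟨g, hg, hreg⟩ := Groth.Agent.Lib.H87RegImm.exists_away_isRegularIdeal_aux P I hIP hx
    refine ⟨{y | Ideal.Quotient.mk I g ∉ PrimeSpectrum.asIdeal y}, ?_, ?_, ?_⟩
    · intro y hy
      haveI hyp : (PrimeSpectrum.asIdeal y).IsPrime := PrimeSpectrum.isPrime y
      rw [Set.mem_ofPred_eq, stalk_ci_iff B I y]
      have hIq : I ≤ (PrimeSpectrum.asIdeal y).comap (Ideal.Quotient.mk I) := by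
        intro i hi
        rw [Ideal.mem_comap, Ideal.Quotient.eq_zero_iff_mem.mpr hi]
        exact Ideal.zero_mem _
      exact Groth.Agent.Lib.H87Nagata.isRegularIdeal_map_atPrime_of_away g I hreg _ hy hIq
    · exact (PrimeSpectrum.basicOpen (Ideal.Quotient.mk I g)).isOpen
    · exact hg
  · intro x hreg
    refine isCompleteIntersection_of_ker_regular
      (RingHom.id ((Spec (CommRingCat.of (B ⧸ I))).presheaf.stalk x))
      Function.surjective_id [] ?_ (RingTheory.Sequence.IsRegular.nil _ _)
    rw [Ideal.ofList_nil]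
    exact (RingHom.ker_eq_bot_iff_eq_zero _).mpr (fun z hz => hz) |>.symm

end Spec

end Groth.Agent.Lib.H14CIOpen
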