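import Groth.Agent.Lib.H14GorHom
import Groth.Agent.Lib.H14CIOpen
import Groth.Agent.Lib.KoszulIdeal
import Groth.Agent.Lib.KoszulAcyclic
import Groth.Agent.Lib.KoszulTor
import Mathlib

/-!
# Local complete intersections over Gorenstein rings are Gorenstein (helper14)

* `isWeaklyRegular_of_isKoszulRegularSeq`: Noetherian local, Koszul-regular in `𝔪` ⇒ regular
  (repackaging helper19's `KoszulAcyclic`);
* `isGorensteinRing_quotient_of_isKoszulRegularIdeal`: `P` Gorenstein, `I` Koszul-regular ideal ⇒
  `P/I` Gorenstein;
* `isGorensteinRing_mvPolynomial_fin`, `isGorensteinRing_of_isLCI` (= S1827).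
-/

set_option autoImplicit false
set_option linter.style.haveILetI false
set_option linter.unusedSectionVars false
universe u
open CategoryTheory IsLocalRing TensorProduct

namespace Groth.Agent.Lib.H14GorLCI

open Groth.Agent.Lib Groth.Agent.Lib.H14GorHom

/-- In a Noetherian local ring a Koszul-regular sequence contained in the maximal ideal is a
(weakly) regular sequence. -/
theorem isWeaklyRegular_of_isKoszulRegularSeq {T : Type u} [CommRing T] [IsLocalRing T]
    [IsNoetherianRing T] (l : List T) (hl : LCI.IsKoszulRegularSeq T l)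
    (hmem : ∀ x ∈ l, x ∈ maximalIdeal T) : RingTheory.Sequence.IsWeaklyRegular T l := by
  refine KoszulAcyclic.isWeaklyRegular_of_isZero_homology T l hmem ?_
  intro j hj
  have h1 := (KoszulQuot.isKoszulRegularSeq_iff l).mp hl j hj
  exact ((HomologicalComplex.homologyFunctor _ _ j).mapIso
    (eqToIso (KoszulTor.kcx_eq' (ModuleCat.of T T) l))).isZero_iff.mp h1

/-- The quotient of a Gorenstein ring by a Koszul-regular ideal is Gorenstein. -/
theorem isGorensteinRing_quotient_of_isKoszulRegularIdeal {P : Type u} [CommRing P]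
    (hP : LocCoh.IsGorensteinRing P) (I : Ideal P) (hI : LCI.IsKoszulRegularIdeal I) :
    LocCoh.IsGorensteinRing (P ⧸ I) := by
  have hN : IsNoetherianRing P := inferInstance
  refine ⟨fun Qb hQb => ?_⟩
  set Q := Qb.comap (Ideal.Quotient.mk I) with hQ
  have hIQ : I ≤ Q := by
    intro x hx
    rw [hQ, Ideal.mem_comap, Ideal.Quotient.eq_zero_iff_mem.mpr hx]
    exact Qb.zero_mem
  obtain ⟨g, hg, l, hl, hIl⟩ := hI ⟨Q, inferInstance⟩ hIQ
  let T := Localization.AtPrime Q
  have hunit : IsUnit (algebraMap P T g) :=
    IsLocalization.map_units T (⟨g, hg⟩ : Q.primeCompl)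
  letI : Algebra (Localization.Away g) T := (IsLocalization.Away.lift g hunit).toAlgebra
  haveI : IsScalarTower P (Localization.Away g) T :=
    IsScalarTower.of_algebraMap_eq (fun x => (IsLocalization.Away.lift_eq g hunit x).symm)
  have hle : Submonoid.powers g ≤ Q.primeCompl := by
    rw [Submonoid.powers_le]; exact hg
  haveI : IsLocalization (Q.primeCompl.map (algebraMap P (Localization.Away g))) T :=
    IsLocalization.isLocalization_of_submonoid_le (Localization.Away g) T
      (Submonoid.powers g) Q.primeCompl hle
  haveI : Module.Flat (Localization.Away g) T :=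
    IsLocalization.flat T (Q.primeCompl.map (algebraMap P (Localization.Away g)))
  have hl' := KoszulQuot.isKoszulRegularSeq_map_of_flat (R' := T) l hl
  have hIl' : I.map (algebraMap P T) =
      Ideal.ofList (l.map (algebraMap (Localization.Away g) T)) := by
    rw [IsScalarTower.algebraMap_eq P (Localization.Away g) T, ← Ideal.map_map, hIl,
      ← Ideal.map_ofList]
  have hmem : ∀ x ∈ l.map (algebraMap (Localization.Away g) T), x ∈ maximalIdeal T := by
    intro x hx
    have h1 : x ∈ Ideal.ofList (l.map (algebraMap (Localization.Away g) T)) :=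
      Ideal.subset_span hx
    rw [← hIl'] at h1
    have h2 : I.map (algebraMap P T) ≤ maximalIdeal T := by
      rw [← Localization.AtPrime.map_eq_maximalIdeal]
      exact Ideal.map_mono hIQ
    exact h2 h1
  have hreg := isWeaklyRegular_of_isKoszulRegularSeq _ hl' hmem
  have hG : LocCoh.IsGorensteinLocalRing (T ⧸ Ideal.ofList
      (l.map (algebraMap (Localization.Away g) T))) :=
    isGorensteinLocalRing_quotient_ofList _ T _ rfl
      (hP.isGorensteinLocalRing_localization Q) hreg hmem
  obtain ⟨f, hf, hk⟩ := H14CIOpen.exists_presentation_atPrime P I Qb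
  have hk' : Ideal.ofList (l.map (algebraMap (Localization.Away g) T)) = RingHom.ker f := by
    rw [hk, ← hIl']
  exact isGorensteinLocalRing_of_ringEquiv
    ((Ideal.quotEquivOfEq hk').trans (RingHom.quotientKerEquivOfSurjective hf)) hG

/-- `A[x_1, …, x_n]` is Gorenstein if `A` is. -/
theorem isGorensteinRing_mvPolynomial_fin (A : Type u) [CommRing A]
    (hA : LocCoh.IsGorensteinRing A) (n : ℕ) :
    LocCoh.IsGorensteinRing (MvPolynomial (Fin n) A) := by
  have h := isGorensteinRing_mvPolynomial A hA (ULift.{u} (Fin n))
  exact isGorensteinRing_of_ringEquiv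
    (MvPolynomial.renameEquiv A (Equiv.ulift : ULift.{u} (Fin n) ≃ Fin n)).toRingEquiv h

/-- **A local complete intersection algebra over a Gorenstein ring is Gorenstein** (S1827). -/
theorem isGorensteinRing_of_isLCI (A B : Type u) [CommRing A] [CommRing B] [Algebra A B]
    (hA : LocCoh.IsGorensteinRing A) (h : LCI.IsLCI A B) : LocCoh.IsGorensteinRing B := by
  obtain ⟨-, n, f, hf, hK⟩ := h
  have hP := isGorensteinRing_mvPolynomial_fin A hA n
  have hq := isGorensteinRing_quotient_of_isKoszulRegularIdeal hP _ hK
  exact isGorensteinRing_of_ringEquiv (RingHom.quotientKerEquivOfSurjective hf) hq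

end Groth.Agent.Lib.H14GorLCI
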