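import Mathlib.RingTheory.IsTensorProduct
import Mathlib.Algebra.MvPolynomial.Basic
import Mathlib.RingTheory.Ideal.Quotient.Operations
import Mathlib.Algebra.MvPolynomial.Eval
import Mathlib.RingTheory.Polynomial.Basic

/-!
# Base change of polynomial presentations (helper19)

Namespace `Groth.Agent.Lib.PresBC`.

`B' = B ⊗_A A'` and `α : A[x_1..x_n] → B` a surjection with kernel `I`.  The induced `α' : A'[x_1..x_n] → B'` is surjective
with kernel the extension of `I`.
-/

set_option autoImplicit false
universe u
open MvPolynomial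

namespace Groth.Agent.Lib.PresBC

variable {A B A' B' : Type u} [CommRing A] [CommRing B] [CommRing A'] [CommRing B']
  [Algebra A B] [Algebra A A'] [Algebra A' B'] [Algebra B B'] [Algebra A B']
  [IsScalarTower A B B'] [IsScalarTower A A' B']
  {n : ℕ} (α : MvPolynomial (Fin n) A →ₐ[A] B)

variable (A') in
/-- the coefficient map `A[x] → A'[x]` -/
noncomputable def mapP : MvPolynomial (Fin n) A →ₐ[A] MvPolynomial (Fin n) A' :=
  MvPolynomial.mapAlgHom (Algebra.ofId A A')

theorem mapP_apply (p : MvPolynomial (Fin n) A) :
    mapP A' p = MvPolynomial.map (algebraMap A A') p := rfl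

variable (A' B') in
/-- the base change of a presentation -/
noncomputable def presBC : MvPolynomial (Fin n) A' →ₐ[A'] B' :=
  MvPolynomial.aeval (fun i => algebraMap B B' (α (X i)))

theorem presBC_mapP (p : MvPolynomial (Fin n) A) :
    presBC A' B' α (mapP A' p) = algebraMap B B' (α p) := by
  induction p using MvPolynomial.induction_on with
  | C a =>
    rw [mapP_apply, MvPolynomial.map_C, presBC, MvPolynomial.aeval_C,
      ← IsScalarTower.algebraMap_apply A A' B', IsScalarTower.algebraMap_apply A B B']
    congr 1
    exact (α.commutes a).symm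
  | add p q hp hq => rw [map_add, map_add, hp, hq, map_add, map_add]
  | mul_X p i hp =>
    rw [map_mul, map_mul, hp, map_mul, map_mul, mapP_apply, MvPolynomial.map_X, presBC,
      MvPolynomial.aeval_X]

variable [Algebra.IsPushout A B A' B']

include α in
theorem presBC_surjective (hα : Function.Surjective α) : Function.Surjective (presBC A' B' α) := by
  have h : Algebra.IsPushout A A' B B' := Algebra.IsPushout.symm inferInstance
  intro x
  refine h.out.inductionOn x (fun x => ∃ p, presBC A' B' α p = x) ⟨0, map_zero _⟩ ?_ ?_ ?_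
  · intro b
    obtain ⟨p, rfl⟩ := hα b
    exact ⟨mapP A' p, presBC_mapP α p⟩
  · rintro a' _ ⟨p, rfl⟩
    refine ⟨C a' * p, ?_⟩
    rw [map_mul, Algebra.smul_def]
    congr 1
    simp [presBC]
  · rintro _ _ ⟨p, rfl⟩ ⟨q, rfl⟩
    exact ⟨p + q, map_add _ _ _⟩

theorem ker_presBC (hα : Function.Surjective α) :
    RingHom.ker (presBC A' B' α).toRingHom =
      (RingHom.ker α.toRingHom).map (mapP A' : MvPolynomial (Fin n) A →ₐ[A] MvPolynomial (Fin n) A').toRingHom := by
  set I := RingHom.ker α.toRingHom with hIdef
  set J := I.map (mapP A' : MvPolynomial (Fin n) A →ₐ[A] MvPolynomial (Fin n) A').toRingHom with hJ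
  apply le_antisymm
  · -- the retraction `B' → P'/J`
    let e : (MvPolynomial (Fin n) A ⧸ RingHom.ker α) ≃ₐ[A] B := Ideal.quotientKerAlgEquivOfSurjective hα
    have hle : RingHom.ker α ≤ J.comap (mapP A' : MvPolynomial (Fin n) A →ₐ[A] MvPolynomial (Fin n) A') :=
      fun p hp => Ideal.mem_map_of_mem _ hp
    let f : B →ₐ[A] (MvPolynomial (Fin n) A' ⧸ J) :=
      (Ideal.quotientMapₐ J (mapP A') hle).comp e.symm.toAlgHom
    let g : A' →ₐ[A] (MvPolynomial (Fin n) A' ⧸ J) :=
      (Ideal.Quotient.mkₐ A J).comp (IsScalarTower.toAlgHom A A' (MvPolynomial (Fin n) A'))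
    let D : B' →ₐ[A] (MvPolynomial (Fin n) A' ⧸ J) :=
      Algebra.pushoutDesc B' f g (fun _ _ => mul_comm _ _)
    have hf : ∀ p, f (α p) = Ideal.Quotient.mk J (mapP A' p) := by
      intro p
      have : e.symm (α p) = Ideal.Quotient.mk _ p := by
        rw [AlgEquiv.symm_apply_eq]
        rfl
      show Ideal.quotientMapₐ J (mapP A') hle (e.symm (α p)) = _
      rw [this]
      rfl
    have hD : ∀ p' : MvPolynomial (Fin n) A', D (presBC A' B' α p') = Ideal.Quotient.mk J p' := by
      intro p'
      induction p' using MvPolynomial.induction_on with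
      | C a' =>
        have : presBC A' B' α (C a') = algebraMap A' B' a' := by simp [presBC]
        rw [this, Algebra.pushoutDesc_right]
        rfl
      | add p q hp hq => rw [map_add, map_add, hp, hq, map_add]
      | mul_X p i hp =>
        have : presBC A' B' α (X i) = algebraMap B B' (α (X i)) := by simp [presBC]
        rw [map_mul, map_mul, hp, this, Algebra.pushoutDesc_left, hf, map_mul, mapP_apply,
          MvPolynomial.map_X]
    intro p' hp'
    have h0 : presBC A' B' α p' = 0 := hp'
    have := hD p'
    rw [h0, map_zero] at this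
    exact Ideal.Quotient.eq_zero_iff_mem.mp this.symm
  · rw [hJ, Ideal.map_le_iff_le_comap]
    intro p hp
    rw [Ideal.mem_comap, RingHom.mem_ker]
    show presBC A' B' α (mapP A' p) = 0
    rw [presBC_mapP]
    have : α p = 0 := hp
    rw [this, map_zero]

end Groth.Agent.Lib.PresBC
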