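import Groth.Agent.Lib.KRegImm
import Mathlib.RingTheory.Flat.EquationalCriterion
import Mathlib.RingTheory.Regular.Flat

/-!
# Flat base change of regular immersions of all four kinds (helper19)

Namespace `Groth.Agent.Lib.RegImmFlatBC`.

* `isH1Regular_map_of_flat`, `isQuasiRegular_map_of_flat` : `H_1`-regular / quasi-regular families stay so
  under a flat ring map (equational criterion of flatness).
* `seq_map_of_flat` : the same for `RegImm.Kind.Seq k` (for `k = regular` one needs the image ideal proper).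
* `chart_baseChange` : closed-immersion charts pull back along flat maps, with kernel the extended ideal.
* `isRegularImmersion_baseChange` : flat base change of regular immersions of kind `k`.
-/

set_option autoImplicit false
universe u
open CategoryTheory CategoryTheory.Limits AlgebraicGeometry TopologicalSpace

namespace Groth.Agent.Lib.RegImmFlatBC

section Ring

variable {A B : Type u} [CommRing A] [CommRing B] [Algebra A B]

/-- transfer a property of finite families to `List.get` -/
theorem of_get_eq {R : Type u} (P : ∀ c : ℕ, (Fin c → R) → Prop) (l : List R) (c : ℕ)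
    (f : Fin c → R) (hc : l.length = c) (hget : ∀ i : Fin l.length, l.get i = f (Fin.cast hc i))
    (h : P c f) : P l.length l.get := by
  subst hc
  have : l.get = f := funext fun i => by simpa using hget i
  rw [this]
  exact h

theorem isH1Regular_map_of_flat [Module.Flat A B] {c : ℕ} (f : Fin c → A)
    (hf : CAlgX.IsH1Regular f) : CAlgX.IsH1Regular (algebraMap A B ∘ f) := by
  intro a ha
  have hrel : ∑ i, f i • a i = 0 := by
    rw [← ha]
    refine Finset.sum_congr rfl fun i _ => ?_
    rw [Algebra.smul_def, mul_comm]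
    rfl
  obtain ⟨k, m, y, hy, hm⟩ := Module.Flat.isTrivialRelation_of_sum_smul_eq_zero (R := A) (M := B) (f := f) (x := a) hrel
  set T : Submodule B (Fin c → B) := Submodule.span B {v : Fin c → B | ∃ i j : Fin c,
    v = Pi.single i ((algebraMap A B ∘ f) j) - Pi.single j ((algebraMap A B ∘ f) i)} with hT
  let Φ : (Fin c → A) →ₗ[A] (Fin c → B) := (Algebra.linearMap A B).compLeft (Fin c)
  have hΦ : ∀ v : Fin c → A, v ∈ Submodule.span A {v : Fin c → A | ∃ i j : Fin c,
      v = Pi.single i (f j) - Pi.single j (f i)} → Φ v ∈ T := by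
    intro v hv
    have : Submodule.span A {v : Fin c → A | ∃ i j : Fin c,
        v = Pi.single i (f j) - Pi.single j (f i)} ≤ (T.restrictScalars A).comap Φ := by
      rw [Submodule.span_le]
      rintro _ ⟨i, j, rfl⟩
      show Φ _ ∈ T
      apply Submodule.subset_span
      refine ⟨i, j, ?_⟩
      funext l
      simp only [Φ, LinearMap.compLeft_apply, Function.comp_apply, Pi.sub_apply,
        Algebra.linearMap_apply, map_sub]
      congr 1
      · by_cases h : l = i
        · subst h; simp
        · simp [Pi.single_eq_of_ne h]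
      · by_cases h : l = j
        · subst h; simp
        · simp [Pi.single_eq_of_ne h]
    exact this hv
  have hcol : ∀ j : Fin k, Φ (fun i => m i j) ∈ T := by
    intro j
    apply hΦ
    apply hf
    rw [← hm j]
    exact Finset.sum_congr rfl fun i _ => mul_comm _ _
  have : a = ∑ j, y j • Φ (fun i => m i j) := by
    funext i
    rw [hy i, Finset.sum_apply]
    refine Finset.sum_congr rfl fun j _ => ?_
    simp only [Φ, Pi.smul_apply, LinearMap.compLeft_apply, Function.comp_apply,
      Algebra.linearMap_apply, smul_eq_mul, Algebra.smul_def, mul_comm]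
  rw [this]
  exact Submodule.sum_mem _ fun j _ => Submodule.smul_mem _ _ (hcol j)

/-- value of a monomial at `f` -/
noncomputable def val {c : ℕ} (f : Fin c → A) (d : Fin c →₀ ℕ) : A :=
  MvPolynomial.eval f (MvPolynomial.monomial d (1 : A))

theorem eval_monomial_eq {c : ℕ} (f : Fin c → A) (d : Fin c →₀ ℕ) (a : A) :
    MvPolynomial.eval f (MvPolynomial.monomial d a) = a * val f d := by
  unfold val
  rw [← mul_one a, ← MvPolynomial.C_mul_monomial, map_mul, MvPolynomial.eval_C, mul_one]

theorem val_map {c : ℕ} (f : Fin c → A) (d : Fin c →₀ ℕ) :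
    val (algebraMap A B ∘ f) d = algebraMap A B (val f d) := by
  unfold val
  simp [MvPolynomial.eval_monomial, Finsupp.prod, map_prod, map_pow]

theorem eval_eq_sum {c : ℕ} (f : Fin c → A) (P : MvPolynomial (Fin c) A) :
    MvPolynomial.eval f P = ∑ d : ↥P.support, P.coeff d.1 * val f d.1 := by
  conv_lhs => rw [← MvPolynomial.support_sum_monomial_coeff P]
  rw [map_sum, ← Finset.sum_coe_sort]
  exact Finset.sum_congr rfl fun d _ => eval_monomial_eq f d.1 _

theorem isQuasiRegular_map_of_flat [Module.Flat A B] {c : ℕ} (f : Fin c → A)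
    (hf : CAlgX.IsQuasiRegular f) : CAlgX.IsQuasiRegular (algebraMap A B ∘ f) := by
  intro n P hP hev d
  have hJ' : Ideal.span (Set.range (algebraMap A B ∘ f)) =
      (Ideal.span (Set.range f)).map (algebraMap A B) := by
    rw [Ideal.map_span, Set.range_comp]
  rw [hJ'] at hev ⊢
  rw [← Ideal.map_pow] at hev
  by_cases hd : d ∈ P.support
  swap
  · rw [MvPolynomial.notMem_support_iff.mp hd]
    exact Ideal.zero_mem _
  obtain ⟨N, b, g, hsum⟩ := Submodule.mem_span_set'.mp hev
  choose u hu hgu using fun t => (g t).2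
  -- the relation
  let F : ↥P.support ⊕ Fin N → A := Sum.elim (fun d => val f d.1) (fun t => - u t)
  let x : ↥P.support ⊕ Fin N → B := Sum.elim (fun d => P.coeff d.1) (fun t => b t)
  have hrel : ∑ i, F i • x i = 0 := by
    rw [Fintype.sum_sum_type]
    simp only [F, x, Sum.elim_inl, Sum.elim_inr]
    have h1 : ∑ d : ↥P.support, val f d.1 • P.coeff d.1 = MvPolynomial.eval (algebraMap A B ∘ f) P := by
      rw [eval_eq_sum]
      refine Finset.sum_congr rfl fun d _ => ?_
      rw [val_map, Algebra.smul_def, mul_comm]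
    have h2 : ∑ t, (- u t) • b t = - MvPolynomial.eval (algebraMap A B ∘ f) P := by
      rw [← hsum, ← Finset.sum_neg_distrib]
      refine Finset.sum_congr rfl fun t _ => ?_
      rw [← hgu t, neg_smul, Algebra.smul_def, smul_eq_mul, mul_comm]
    rw [h1, h2, add_neg_cancel]
  obtain ⟨k, m, y, hy, hm⟩ := Module.Flat.isTrivialRelation_of_sum_smul_eq_zero (R := A) (M := B)
    (f := F) (x := x) hrel
  -- the polynomials `P_j`
  have key : ∀ (j : Fin k) (d : ↥P.support), m (Sum.inl d) j ∈ Ideal.span (Set.range f) := by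
    intro j d0
    let Pj : MvPolynomial (Fin c) A := ∑ d : ↥P.support, MvPolynomial.monomial d.1 (m (Sum.inl d) j)
    have hPj : Pj.IsHomogeneous n := by
      apply MvPolynomial.IsHomogeneous.sum
      intro d _
      apply MvPolynomial.isHomogeneous_monomial
      by_contra hne
      exact (MvPolynomial.mem_support_iff.mp d.2) (hP.coeff_eq_zero hne)
    have hev' : MvPolynomial.eval f Pj ∈ Ideal.span (Set.range f) ^ (n + 1) := by
      have h0 := hm j
      rw [Fintype.sum_sum_type] at h0
      simp only [F, Sum.elim_inl, Sum.elim_inr] at h0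
      have : MvPolynomial.eval f Pj = ∑ t, u t * m (Sum.inr t) j := by
        simp only [Pj, map_sum, eval_monomial_eq]
        have h3 : ∑ d : ↥P.support, m (Sum.inl d) j * val f d.1 =
            ∑ d : ↥P.support, val f d.1 * m (Sum.inl d) j :=
          Finset.sum_congr rfl fun d _ => mul_comm _ _
        rw [h3]
        have h4 : ∑ t, (- u t) * m (Sum.inr t) j = - ∑ t, u t * m (Sum.inr t) j := by
          rw [← Finset.sum_neg_distrib]
          exact Finset.sum_congr rfl fun t _ => neg_mul _ _
        rw [h4] at h0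
        exact add_neg_eq_zero.mp h0
      rw [this]
      exact Ideal.sum_mem _ fun t _ => Ideal.mul_mem_right _ _ (hu t)
    have hc := hf n Pj hPj hev' d0.1
    have hcoeff : Pj.coeff d0.1 = m (Sum.inl d0) j := by
      simp only [Pj, MvPolynomial.coeff_sum, MvPolynomial.coeff_monomial]
      rw [Finset.sum_eq_single d0]
      · simp
      · intro d' _ hne
        rw [if_neg]
        exact fun h => hne (Subtype.ext h)
      · intro h; exact absurd (Finset.mem_univ _) h
    rwa [hcoeff] at hc
  have hx : P.coeff d = ∑ j, m (Sum.inl ⟨d, hd⟩) j • y j := hy (Sum.inl ⟨d, hd⟩)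
  rw [hx]
  refine Ideal.sum_mem _ fun j _ => ?_
  rw [Algebra.smul_def]
  exact Ideal.mul_mem_right _ _ (Ideal.mem_map_of_mem _ (key j ⟨d, hd⟩))

end Ring

section Seq

variable {A B : Type u} [CommRing A] [CommRing B] [Algebra A B]

open Groth.Agent.Lib.KoszulQuot in
/-- sequences of kind `k` map to sequences of kind `k` under flat ring maps (for the kind `regular`, provided the
extended ideal is proper) -/
theorem seq_map_of_flat [Module.Flat A B] (k : RegImm.Kind) (rs : List A) (h : k.Seq A rs)
    (hne : Ideal.ofList (rs.map (algebraMap A B)) ≠ ⊤) : k.Seq B (rs.map (algebraMap A B)) := by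
  cases k with
  | regular =>
    have h' : RingTheory.Sequence.IsRegular A rs := h
    refine ⟨RingTheory.Sequence.IsWeaklyRegular.of_flat h'.1, ?_⟩
    intro htop
    apply hne
    have h2 : Ideal.ofList (rs.map (algebraMap A B)) • (⊤ : Submodule B B) = ⊤ := htop.symm
    rwa [smul_eq_mul, Ideal.mul_top] at h2
  | koszul => exact isKoszulRegularSeq_map_of_flat rs h
  | h1 =>
    have h' : CAlgX.IsH1Regular rs.get := h
    exact of_get_eq (fun c f => CAlgX.IsH1Regular f) (rs.map (algebraMap A B)) rs.length
      (algebraMap A B ∘ rs.get) (List.length_map _) (fun i => by simp)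
      (isH1Regular_map_of_flat rs.get h')
  | quasi =>
    have h' : CAlgX.IsQuasiRegular rs.get := h
    exact of_get_eq (fun c f => CAlgX.IsQuasiRegular f) (rs.map (algebraMap A B)) rs.length
      (algebraMap A B ∘ rs.get) (List.length_map _) (fun i => by simp)
      (isQuasiRegular_map_of_flat rs.get h')

end Seq

section Scheme

open Groth.Agent.Lib.KRegImm Groth.Agent.Lib.KoszulImmPerfect

/-- flat base change of closed-immersion charts: the kernel over `U'` is the extension of the kernel over `U` -/
theorem chart_baseChange {X Y X' Y' : Scheme.{u}} {i : Y ⟶ X} {g : X' ⟶ X} [Flat g]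
    {i' : Y' ⟶ X'} {g' : Y' ⟶ Y} (hsq : IsPullback g' i' i g) {U : X.Opens} (hU : IsAffineOpen U)
    (hcl : IsClosedImmersion (i ∣_ U)) {U' : X'.Opens} (hU' : IsAffineOpen U') (hle : U' ≤ g ⁻¹ᵁ U) :
    IsClosedImmersion (i' ∣_ U') ∧ (g.appLE U U' hle).hom.Flat ∧
      RingHom.ker (i'.app U').hom = Ideal.map (g.appLE U U' hle).hom (RingHom.ker (i.app U).hom) := by
  have hV : IsAffineOpen (i ⁻¹ᵁ U) := isAffineOpen_preimage_of_isClosedImmersion_restrict i U hU
  have hUY : i' ⁻¹ᵁ U' = g' ⁻¹ᵁ (i ⁻¹ᵁ U) ⊓ i' ⁻¹ᵁ U' := by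
    refine le_antisymm (le_inf ?_ le_rfl) inf_le_right
    intro z hz
    show i (g' z) ∈ U
    rw [← Scheme.Hom.comp_apply, hsq.w, Scheme.Hom.comp_apply]
    exact hle hz
  refine ⟨?_, g.flat_appLE hU hU' hle, ?_⟩
  · have hpb := Scheme.Hom.isPullback_resLE hsq hle (le_refl (i ⁻¹ᵁ U)) hUY
    have h1 : IsClosedImmersion (i.resLE U (i ⁻¹ᵁ U) le_rfl) := by
      rw [Scheme.Hom.resLE_eq_morphismRestrict]
      exact hcl
    have h2 := MorphismProperty.of_isPullback (P := @IsClosedImmersion) hpb h1
    rwa [Scheme.Hom.resLE_eq_morphismRestrict] at h2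
  · have hiso := isIso_pushoutSection_of_isAffineOpen hsq hle (le_refl (i ⁻¹ᵁ U)) hUY hU hU' hV
    have hpo := (isIso_pushoutSection_iff hsq hle (le_refl (i ⁻¹ᵁ U)) hUY).mp hiso
    have hsurj : Function.Surjective (i.appLE U (i ⁻¹ᵁ U) le_rfl).hom := by
      rw [Scheme.Hom.appLE_eq_app]
      exact app_surjective_of_isClosedImmersion_restrict i U hU
    have hk := Groth.Agent.Lib.IdealComap.ker_of_isPushout hpo hsurj
    rw [Scheme.Hom.appLE_eq_app, Scheme.Hom.appLE_eq_app] at hk
    exact hk

/-- **flat base change** of regular immersions of any of the four kinds -/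
theorem isRegularImmersion_baseChange {X Y X' Y' : Scheme.{u}} (i : Y ⟶ X) (g : X' ⟶ X)
    [Flat g] (i' : Y' ⟶ X') (g' : Y' ⟶ Y) (hsq : IsPullback g' i' i g) (k : RegImm.Kind)
    (hi : RegImm.IsRegularImmersion k i) : RegImm.IsRegularImmersion k i' := by
  have := hi.1
  refine ⟨MorphismProperty.of_isPullback (P := @IsImmersion) hsq hi.1, fun y' => ?_⟩
  obtain ⟨U, hyU, hcl, rs, hrs, hker⟩ := hi.2 (g' y')
  have hmem : i' y' ∈ g ⁻¹ᵁ U.1 := by
    show g (i' y') ∈ U.1
    rw [← Scheme.Hom.comp_apply, ← hsq.w, Scheme.Hom.comp_apply]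
    exact hyU
  obtain ⟨U', hU', hyU', hle⟩ :=
    TopologicalSpace.Opens.isBasis_iff_nbhd.mp X'.isBasis_affineOpens hmem
  obtain ⟨hcl', hfl, hker'⟩ := chart_baseChange hsq U.2 hcl hU' hle
  let _ : Algebra Γ(X, U.1) Γ(X', U') := (g.appLE U.1 U' hle).hom.toAlgebra
  have : Module.Flat Γ(X, U.1) Γ(X', U') := hfl
  have hker'' : RingHom.ker (i'.app U').hom =
      Ideal.ofList (rs.map (algebraMap Γ(X, U.1) Γ(X', U'))) := by
    rw [hker', hker, Ideal.map_ofList]
    rfl
  refine ⟨⟨U', hU'⟩, hyU', hcl', rs.map (algebraMap Γ(X, U.1) Γ(X', U')), ?_, hker''⟩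
  apply seq_map_of_flat k rs hrs
  rw [← hker'']
  intro htop
  have : Nonempty ↥(i' ⁻¹ᵁ U') := ⟨⟨y', hyU'⟩⟩
  have hnt : Nontrivial Γ(Y', i' ⁻¹ᵁ U') := inferInstance
  have h1 : (1 : Γ(X', U')) ∈ RingHom.ker (i'.app U').hom := by rw [htop]; trivial
  rw [RingHom.mem_ker, map_one] at h1
  exact one_ne_zero h1

end Scheme

end Groth.Agent.Lib.RegImmFlatBC
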