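import Groth.Agent.S9272
import Groth.Agent.Lib.RegImmFlatBC
import Groth.Agent.Lib.FlatCrit
import Mathlib.LinearAlgebra.TensorProduct.Pi
import Mathlib.RingTheory.IsTensorProduct
import Mathlib.Algebra.Category.Ring.Constructions

/-!
# Base change of relative `H_1`-regular / quasi-regular immersions (helper19)

Namespace `Groth.Agent.Lib.RelRegImmBC`.

* `isH1Regular_tensor` : `H_1`-regular families with `A`-flat quotient stay `H_1`-regular in `A' ⊗[A] B`.
* `seq_map_of_isPushout` : the same for `RegImm.Kind.Seq k`, `k = h1, quasi`, with `Algebra.IsPushout`.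
-/

set_option autoImplicit false
set_option linter.style.haveILetI false
universe u
open CategoryTheory CategoryTheory.Limits AlgebraicGeometry TopologicalSpace

namespace Groth.Agent.Lib.RelRegImmBC

section Ring

open TensorProduct Groth.Agent.Lib.FlatCrit

variable {A B A' : Type u} [CommRing A] [CommRing B] [CommRing A'] [Algebra A B] [Algebra A A']

/-- the submodule of trivial relations -/
def triv {R : Type u} [CommRing R] {c : ℕ} (f : Fin c → R) : Submodule R (Fin c → R) :=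
  Submodule.span R {v : Fin c → R | ∃ i j : Fin c, v = Pi.single i (f j) - Pi.single j (f i)}

variable (A') in
theorem piRight_mem_triv {c : ℕ} (f : Fin c → B) (a : A') (t : Fin c → B) (ht : t ∈ triv f) :
    TensorProduct.piRight A A A' (fun _ : Fin c => B) (a ⊗ₜ[A] t) ∈
      triv (fun i => ((1 : A') ⊗ₜ[A] f i : A' ⊗[A] B)) := by
  unfold triv at ht
  induction ht using Submodule.span_induction with
  | mem v hv =>
    obtain ⟨i, j, rfl⟩ := hv
    have : TensorProduct.piRight A A A' (fun _ : Fin c => B)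
        (a ⊗ₜ[A] (Pi.single i (f j) - Pi.single j (f i))) =
        (a ⊗ₜ[A] (1 : B) : A' ⊗[A] B) •
          (Pi.single i ((1 : A') ⊗ₜ[A] f j) - Pi.single j ((1 : A') ⊗ₜ[A] f i) :
            Fin c → A' ⊗[A] B) := by
      funext l
      have hs : ∀ (i' : Fin c) (b : B), (a ⊗ₜ[A] (Pi.single i' b : Fin c → B) l : A' ⊗[A] B) =
          (a ⊗ₜ[A] (1 : B)) * (Pi.single i' ((1 : A') ⊗ₜ[A] b) : Fin c → A' ⊗[A] B) l := by
        intro i' b
        by_cases h : l = i'
        · subst h; simp [Algebra.TensorProduct.tmul_mul_tmul]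
        · simp [Pi.single_eq_of_ne h]
      simp only [TensorProduct.piRight_apply, TensorProduct.piRightHom_tmul, Pi.sub_apply,
        Pi.smul_apply, smul_eq_mul, tmul_sub, map_sub, mul_sub, hs]
    rw [this]
    exact Submodule.smul_mem _ _ (Submodule.subset_span ⟨i, j, rfl⟩)
  | zero => simp
  | add x y _ _ hx hy =>
    rw [tmul_add, map_add]
    exact Submodule.add_mem _ hx hy
  | smul b x _ hx =>
    have : TensorProduct.piRight A A A' (fun _ : Fin c => B) (a ⊗ₜ[A] (b • x)) =
        ((1 : A') ⊗ₜ[A] b : A' ⊗[A] B) •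
          TensorProduct.piRight A A A' (fun _ : Fin c => B) (a ⊗ₜ[A] x) := by
      funext l
      simp [Algebra.TensorProduct.tmul_mul_tmul]
    rw [this]
    exact Submodule.smul_mem _ _ hx

/-- `H_1`-regular families with flat quotient stay `H_1`-regular after arbitrary base change -/
theorem isH1Regular_tensor {c : ℕ} (f : Fin c → B)
    (hflat : Module.Flat A (B ⧸ Ideal.span (Set.range f))) (h : CAlgX.IsH1Regular f) :
    CAlgX.IsH1Regular (fun i => ((1 : A') ⊗ₜ[A] f i : A' ⊗[A] B)) := by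
  classical
  set J : Ideal B := Ideal.span (Set.range f) with hJ
  -- the linear combination map onto `J`
  let ψ : (Fin c → B) →ₗ[A] B := (Fintype.linearCombination B f).restrictScalars A
  have hψ : ∀ v, ψ v = ∑ i, v i * f i := fun v => by
    simp [ψ, Fintype.linearCombination_apply]
  have hψmem : ∀ v, ψ v ∈ J.restrictScalars A := fun v => by
    rw [hψ]
    exact Ideal.sum_mem _ fun i _ => Ideal.mul_mem_left _ _ (Ideal.subset_span ⟨i, rfl⟩)
  let ψJ : (Fin c → B) →ₗ[A] (J.restrictScalars A) := ψ.codRestrict (J.restrictScalars A) hψmem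
  let ι : (J.restrictScalars A) →ₗ[A] B := (J.restrictScalars A).subtype
  let Tsub : ((triv f).restrictScalars A) →ₗ[A] (Fin c → B) := ((triv f).restrictScalars A).subtype
  have hex : Function.Exact Tsub ψJ := by
    intro v
    constructor
    · intro hv
      have h0 : ∑ i, v i * f i = 0 := by
        rw [← hψ]
        exact congrArg Subtype.val hv
      exact ⟨⟨v, h v h0⟩, rfl⟩
    · rintro ⟨⟨t, ht⟩, rfl⟩
      apply Subtype.ext
      show ψ t = 0
      have hle : triv f ≤ LinearMap.ker (Fintype.linearCombination B f) := by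
        unfold triv
        rw [Submodule.span_le]
        rintro _ ⟨i, j, rfl⟩
        show Fintype.linearCombination B f _ = 0
        simp only [Fintype.linearCombination_apply, Pi.sub_apply, Pi.single_apply,
          smul_eq_mul, sub_mul, ite_mul, zero_mul, Finset.sum_sub_distrib, Finset.sum_ite_eq',
          Finset.mem_univ, if_true]
        ring
      exact hle ht
  have hsurj : Function.Surjective ψJ := by
    rintro ⟨x, hx⟩
    obtain ⟨v, hv⟩ := (Ideal.mem_span_range_iff_exists_fun).mp hx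
    exact ⟨v, Subtype.ext ((hψ v).trans hv)⟩
  have hexT := lTensor_exact A' hex hsurj
  -- injectivity of `A' ⊗ J → A' ⊗ B`
  have hinj : Function.Injective (ι.lTensor A') := by
    rw [LinearMap.lTensor_inj_iff_rTensor_inj]
    have hex2 : Function.Exact ι (Ideal.Quotient.mkₐ A J).toLinearMap := by
      intro b
      constructor
      · intro hb
        exact ⟨⟨b, Ideal.Quotient.eq_zero_iff_mem.mp hb⟩, rfl⟩
      · rintro ⟨⟨x, hx⟩, rfl⟩
        exact Ideal.Quotient.eq_zero_iff_mem.mpr hx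
    exact rTensor_injective_of_tor1Zero (Submodule.injective_subtype _) hex2
      (Ideal.Quotient.mkₐ_surjective A J) tor1Zero_of_flat_left
  -- the key formula
  have hkey : ∀ x : A' ⊗[A] (Fin c → B), (ι ∘ₗ ψJ).lTensor A' x =
      ∑ i, TensorProduct.piRight A A A' (fun _ : Fin c => B) x i * ((1 : A') ⊗ₜ[A] f i) := by
    intro x
    induction x using TensorProduct.induction_on with
    | zero => simp
    | tmul a v =>
      rw [LinearMap.lTensor_tmul]
      have : (ι ∘ₗ ψJ) v = ∑ i, v i * f i := hψ v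
      rw [this, tmul_sum]
      refine Finset.sum_congr rfl fun i _ => ?_
      simp [Algebra.TensorProduct.tmul_mul_tmul]
    | add x y hx hy =>
      simp only [map_add, hx, hy, Pi.add_apply, add_mul, Finset.sum_add_distrib]
  intro a' ha'
  set x : A' ⊗[A] (Fin c → B) := (TensorProduct.piRight A A A' (fun _ : Fin c => B)).symm a' with hx
  have hxa : TensorProduct.piRight A A A' (fun _ : Fin c => B) x = a' := by
    rw [hx, LinearEquiv.apply_symm_apply]
  have h1 : (ι ∘ₗ ψJ).lTensor A' x = 0 := by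
    rw [hkey, hxa]
    exact ha'
  have h2 : ψJ.lTensor A' x = 0 := by
    apply hinj
    rw [map_zero, ← LinearMap.comp_apply, ← LinearMap.lTensor_comp]
    exact h1
  obtain ⟨y, hy⟩ := (hexT x).mp h2
  rw [← hxa, ← hy]
  show _ ∈ triv _
  clear hy
  induction y using TensorProduct.induction_on with
  | zero => simp
  | tmul a t =>
    rw [LinearMap.lTensor_tmul]
    exact piRight_mem_triv A' f a _ t.2
  | add y z hy hz =>
    rw [map_add, map_add]
    exact Submodule.add_mem _ hy hz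

end Ring

section Seq

open TensorProduct Groth.Agent.Lib.RegImmFlatBC

variable {R P R' P' : Type u} [CommRing R] [CommRing P] [CommRing R'] [CommRing P']
  [Algebra R P] [Algebra R R'] [Algebra P P'] [Algebra R' P'] [Algebra R P']
  [IsScalarTower R P P'] [IsScalarTower R R' P']

theorem span_range_get (rs : List P) : Ideal.span (Set.range rs.get) = Ideal.ofList rs := by
  rw [Set.range_list_get]

/-- transfer of the families along the pushout iso -/
theorem fam_map_of_isPushout [Algebra.IsPushout R R' P P'] (Q : ∀ (S : Type u) [CommRing S] (c : ℕ), (Fin c → S) → Prop)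
    (hQ : ∀ (S T : Type u) [CommRing S] [CommRing T] [Algebra S T] [Module.Flat S T] (c : ℕ) (f : Fin c → S),
      Q S c f → Q T c (algebraMap S T ∘ f))
    {c : ℕ} (f : Fin c → P) (h : Q (R' ⊗[R] P) c (fun i => (1 : R') ⊗ₜ[R] f i)) :
    Q P' c (algebraMap P P' ∘ f) := by
  let e : R' ⊗[R] P ≃ₐ[R'] P' := Algebra.IsPushout.equiv R R' P P'
  letI : Algebra (R' ⊗[R] P) P' := (e : R' ⊗[R] P →+* P').toAlgebra
  haveI : Module.Flat (R' ⊗[R] P) P' := RingHom.Flat.of_bijective (f := (e : R' ⊗[R] P →+* P')) e.bijective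
  have := hQ (R' ⊗[R] P) P' c _ h
  have heq : (algebraMap (R' ⊗[R] P) P' ∘ fun i => (1 : R') ⊗ₜ[R] f i) = algebraMap P P' ∘ f := by
    funext i
    show e ((1 : R') ⊗ₜ[R] f i) = algebraMap P P' (f i)
    rw [Algebra.IsPushout.equiv_tmul, map_one, one_mul]
  rwa [heq] at this

/-- **relative base change** of `H_1`-regular and quasi-regular sequences: arbitrary base change `R → R'`, provided the
quotient by the sequence is flat over `R`. -/
theorem seq_map_of_isPushout [Algebra.IsPushout R R' P P'] (k : RegImm.Kind)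
    (hk : k = RegImm.Kind.h1 ∨ k = RegImm.Kind.quasi) (rs : List P)
    (hfl : Module.Flat R (P ⧸ Ideal.ofList rs)) (h : k.Seq P rs) :
    k.Seq P' (rs.map (algebraMap P P')) := by
  rw [← span_range_get] at hfl
  rcases hk with rfl | rfl
  · have h' : CAlgX.IsH1Regular rs.get := h
    have h1 := isH1Regular_tensor (A' := R') rs.get hfl h'
    exact of_get_eq (fun c f => CAlgX.IsH1Regular f) (rs.map (algebraMap P P')) rs.length
      (algebraMap P P' ∘ rs.get) (List.length_map _) (fun i => by simp)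
      (fam_map_of_isPushout (R := R) (R' := R') (fun S _ c f => CAlgX.IsH1Regular f)
        (fun S T _ _ _ _ c f hf => isH1Regular_map_of_flat f hf) rs.get h1)
  · have h' : CAlgX.IsQuasiRegular rs.get := h
    have h1 := Groth.Agent.S9272.result R P R' rs.length rs.get hfl h'
    exact of_get_eq (fun c f => CAlgX.IsQuasiRegular f) (rs.map (algebraMap P P')) rs.length
      (algebraMap P P' ∘ rs.get) (List.length_map _) (fun i => by simp)
      (fam_map_of_isPushout (R := R) (R' := R') (fun S _ c f => CAlgX.IsQuasiRegular f)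
        (fun S T _ _ _ _ c f hf => isQuasiRegular_map_of_flat f hf) rs.get h1)

end Seq

section Scheme

open Groth.Agent.Lib.KRegImm Groth.Agent.Lib.KoszulImmPerfect Groth.Agent.Lib.RegImmFlatBC

/-- base change of closed-immersion charts (no flatness needed): the kernel over `U'` is the extension of the kernel
over `U` -/
theorem chart_baseChange' {X Y X' Y' : Scheme.{u}} {i : Y ⟶ X} {g : X' ⟶ X}
    {i' : Y' ⟶ X'} {g' : Y' ⟶ Y} (hsq : IsPullback g' i' i g) {U : X.Opens} (hU : IsAffineOpen U)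
    (hcl : IsClosedImmersion (i ∣_ U)) {U' : X'.Opens} (hU' : IsAffineOpen U') (hle : U' ≤ g ⁻¹ᵁ U) :
    IsClosedImmersion (i' ∣_ U') ∧
      RingHom.ker (i'.app U').hom = Ideal.map (g.appLE U U' hle).hom (RingHom.ker (i.app U).hom) := by
  have hV : IsAffineOpen (i ⁻¹ᵁ U) := isAffineOpen_preimage_of_isClosedImmersion_restrict i U hU
  have hUY : i' ⁻¹ᵁ U' = g' ⁻¹ᵁ (i ⁻¹ᵁ U) ⊓ i' ⁻¹ᵁ U' := by
    refine le_antisymm (le_inf ?_ le_rfl) inf_le_right
    intro z hz
    show i (g' z) ∈ U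
    rw [← Scheme.Hom.comp_apply, hsq.w, Scheme.Hom.comp_apply]
    exact hle hz
  refine ⟨?_, ?_⟩
  · have hpb := Scheme.Hom.isPullback_resLE hsq hle (le_refl (i ⁻¹ᵁ U)) hUY
    have h1 : IsClosedImmersion (i.resLE U (i ⁻¹ᵁ U) le_rfl) := by
      rw [Scheme.Hom.resLE_eq_morphismRestrict]
      exact hcl
    have h2 := MorphismProperty.of_isPullback (P := @IsClosedImmersion) hpb h1
    rwa [Scheme.Hom.resLE_eq_morphismRestrict] at h2
  · have hiso := isIso_pushoutSection_of_isAffineOpen hsq hle (le_refl (i ⁻¹ᵁ U)) hUY hU hU' hV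
    have hpo := (isIso_pushoutSection_iff hsq hle (le_refl (i ⁻¹ᵁ U)) hUY).mp hiso
    have hsurj : Function.Surjective (i.appLE U (i ⁻¹ᵁ U) le_rfl).hom := by
      rw [Scheme.Hom.appLE_eq_app]
      exact app_surjective_of_isClosedImmersion_restrict i U hU
    have hk := Groth.Agent.Lib.IdealComap.ker_of_isPushout hpo hsurj
    rw [Scheme.Hom.appLE_eq_app, Scheme.Hom.appLE_eq_app] at hk
    exact hk

/-- flatness of a quotient read off from a flat composite -/
theorem flat_quotient_of_surjective {R P Q : Type u} [CommRing R] [CommRing P] [CommRing Q] [Algebra R P]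
    (φ : P →+* Q) (hφ : Function.Surjective φ) (hfl : (φ.comp (algebraMap R P)).Flat) (I : Ideal P)
    (hI : RingHom.ker φ = I) : Module.Flat R (P ⧸ I) := by
  subst hI
  letI : Algebra R Q := (φ.comp (algebraMap R P)).toAlgebra
  haveI : Module.Flat R Q := hfl
  let φa : P →ₐ[R] Q := { φ with commutes' := fun r => rfl }
  exact Module.Flat.of_linearEquiv (Ideal.quotientKerAlgEquivOfSurjective (f := φa) hφ).toLinearEquiv

/-- shrinking a chart of a regular immersion of kind `k` to a smaller affine open -/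
theorem chart_shrink {X Z : Scheme.{u}} (i : Z ⟶ X) (k : RegImm.Kind) {U : X.Opens} (hU : IsAffineOpen U)
    (hcl : IsClosedImmersion (i ∣_ U)) (rs : List Γ(X, U)) (hrs : k.Seq Γ(X, U) rs)
    (hker : RingHom.ker (i.app U).hom = Ideal.ofList rs) {U₁ : X.Opens} (hU₁ : IsAffineOpen U₁) (hle : U₁ ≤ U)
    (z : Z) (hz : i z ∈ U₁) :
    IsClosedImmersion (i ∣_ U₁) ∧ ∃ rs₁ : List Γ(X, U₁), k.Seq Γ(X, U₁) rs₁ ∧
      RingHom.ker (i.app U₁).hom = Ideal.ofList rs₁ := by
  have hsq : IsPullback (𝟙 Z) i i (𝟙 X) := IsPullback.id_horiz i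
  have hle' : U₁ ≤ (𝟙 X) ⁻¹ᵁ U := hle
  obtain ⟨hcl', hfl, hker'⟩ := chart_baseChange hsq hU hcl hU₁ hle'
  let _ : Algebra Γ(X, U) Γ(X, U₁) := ((𝟙 X : X ⟶ X).appLE U U₁ hle').hom.toAlgebra
  have : Module.Flat Γ(X, U) Γ(X, U₁) := hfl
  have hker'' : RingHom.ker (i.app U₁).hom =
      Ideal.ofList (rs.map (algebraMap Γ(X, U) Γ(X, U₁))) := by
    rw [hker', hker, Ideal.map_ofList]
    rfl
  refine ⟨hcl', rs.map (algebraMap Γ(X, U) Γ(X, U₁)), ?_, hker''⟩
  apply seq_map_of_flat k rs hrs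
  rw [← hker'']
  intro htop
  have : Nonempty ↥(i ⁻¹ᵁ U₁) := ⟨⟨z, hz⟩⟩
  have hnt : Nontrivial Γ(Z, i ⁻¹ᵁ U₁) := inferInstance
  have h1 : (1 : Γ(X, U₁)) ∈ RingHom.ker (i.app U₁).hom := by rw [htop]; trivial
  rw [RingHom.mem_ker, map_one] at h1
  exact one_ne_zero h1

/-- **base change of relative `H_1`-regular / quasi-regular immersions** along an arbitrary morphism of the base -/
theorem isRelRegularImmersion_of_isPullback {Z X S S' X' Z' : Scheme.{u}} (f : X ⟶ S) (i : Z ⟶ X)
    (k : RegImm.Kind) (hk : k = RegImm.Kind.h1 ∨ k = RegImm.Kind.quasi)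
    (hi : RegImm.IsRelRegularImmersion k f i) (g : S' ⟶ S) (gX : X' ⟶ X) (f' : X' ⟶ S')
    (hsq2 : IsPullback gX f' f g) (g' : Z' ⟶ Z) (i' : Z' ⟶ X') (hsq1 : IsPullback g' i' i gX) :
    RegImm.IsRelRegularImmersion k f' i' := by
  obtain ⟨⟨himm, hloc⟩, hflat⟩ := hi
  have hsq3 := hsq1.paste_vert hsq2
  refine ⟨⟨MorphismProperty.of_isPullback (P := @IsImmersion) hsq1 himm, fun z' => ?_⟩,
    MorphismProperty.of_isPullback (P := @Flat) hsq3 hflat⟩
  obtain ⟨U, hzU, hcl, rs, hrs, hker⟩ := hloc (g' z')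
  -- affine opens of the bases
  obtain ⟨W, hW, hsW, -⟩ := TopologicalSpace.Opens.isBasis_iff_nbhd.mp S.isBasis_affineOpens
    (show f (i (g' z')) ∈ (⊤ : S.Opens) from trivial)
  have hgs : g (f' (i' z')) = f (i (g' z')) := by
    rw [← Scheme.Hom.comp_apply, ← Scheme.Hom.comp_apply, ← Scheme.Hom.comp_apply,
      ← Scheme.Hom.comp_apply, ← hsq2.w, ← Category.assoc, ← hsq1.w, Category.assoc]
  obtain ⟨W', hW', hsW', hW'le⟩ := TopologicalSpace.Opens.isBasis_iff_nbhd.mp S'.isBasis_affineOpens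
    (show f' (i' z') ∈ g ⁻¹ᵁ W from by show g (f' (i' z')) ∈ W; rw [hgs]; exact hsW)
  -- shrink the chart
  obtain ⟨U₁, hU₁, hzU₁, hU₁le⟩ := TopologicalSpace.Opens.isBasis_iff_nbhd.mp X.isBasis_affineOpens
    (show i (g' z') ∈ U.1 ⊓ f ⁻¹ᵁ W from ⟨hzU, hsW⟩)
  obtain ⟨hcl₁, rs₁, hrs₁, hker₁⟩ := chart_shrink i k U.2 hcl rs hrs hker hU₁ (hU₁le.trans inf_le_left)
    (g' z') hzU₁
  have hUSX : U₁ ≤ f ⁻¹ᵁ W := hU₁le.trans inf_le_right
  -- the chart upstairs
  set U' : X'.Opens := gX ⁻¹ᵁ U₁ ⊓ f' ⁻¹ᵁ W' with hU'def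
  have hiz : gX (i' z') = i (g' z') := by
    rw [← Scheme.Hom.comp_apply, ← Scheme.Hom.comp_apply, hsq1.w]
  have hz'U' : i' z' ∈ U' := ⟨by show gX (i' z') ∈ U₁; rw [hiz]; exact hzU₁, hsW'⟩
  have hiso := isIso_pushoutSection_of_isAffineOpen hsq2 hW'le hUSX hU'def hW hW' hU₁
  have hpo := (isIso_pushoutSection_iff hsq2 hW'le hUSX hU'def).mp hiso
  have hU' : IsAffineOpen U' := by
    have : IsAffine (W : Scheme) := hW
    have : IsAffine (W' : Scheme) := hW'
    have : IsAffine (U₁ : Scheme) := hU₁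
    exact IsAffine.of_isIso (Scheme.Hom.isPullback_resLE hsq2 hW'le hUSX hU'def).isoPullback.hom
  have hle' : U' ≤ gX ⁻¹ᵁ U₁ := inf_le_left
  obtain ⟨hcl', hker'⟩ := chart_baseChange' hsq1 hU₁ hcl₁ hU' hle'
  -- ring level
  letI : Algebra Γ(S, W) Γ(X, U₁) := (f.appLE W U₁ hUSX).hom.toAlgebra
  letI : Algebra Γ(S, W) Γ(S', W') := (g.appLE W W' hW'le).hom.toAlgebra
  letI : Algebra Γ(X, U₁) Γ(X', U') := (gX.appLE U₁ U' hle').hom.toAlgebra
  letI : Algebra Γ(S', W') Γ(X', U') := (f'.appLE W' U' inf_le_right).hom.toAlgebra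
  letI : Algebra Γ(S, W) Γ(X', U') :=
    ((algebraMap Γ(X, U₁) Γ(X', U')).comp (algebraMap Γ(S, W) Γ(X, U₁))).toAlgebra
  haveI : IsScalarTower Γ(S, W) Γ(X, U₁) Γ(X', U') := .of_algebraMap_eq fun _ => rfl
  haveI : IsScalarTower Γ(S, W) Γ(S', W') Γ(X', U') := .of_algebraMap_eq fun r => by
    have := congrArg (fun φ => φ.hom r) hpo.w
    exact this
  haveI : Algebra.IsPushout Γ(S, W) Γ(S', W') Γ(X, U₁) Γ(X', U') :=
    CommRingCat.isPushout_iff_isPushout.mp hpo.flip
  -- flatness of the quotient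
  have hV : IsAffineOpen (i ⁻¹ᵁ U₁) := isAffineOpen_preimage_of_isClosedImmersion_restrict i U₁ hU₁
  have hVle : i ⁻¹ᵁ U₁ ≤ (i ≫ f) ⁻¹ᵁ W := fun z hz => hUSX hz
  have hfl : Module.Flat Γ(S, W) (Γ(X, U₁) ⧸ Ideal.ofList rs₁) := by
    refine flat_quotient_of_surjective (i.app U₁).hom
      (app_surjective_of_isClosedImmersion_restrict i U₁ hU₁) ?_ _ hker₁
    have h1 := (i ≫ f).flat_appLE hW hV hVle
    have h2 : (i ≫ f).appLE W (i ⁻¹ᵁ U₁) hVle = f.appLE W U₁ hUSX ≫ i.app U₁ := by
      rw [Scheme.Hom.app_eq_appLE, Scheme.Hom.appLE_comp_appLE]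
    rw [h2] at h1
    exact h1
  refine ⟨⟨U', hU'⟩, hz'U', hcl', rs₁.map (algebraMap Γ(X, U₁) Γ(X', U')),
    seq_map_of_isPushout (R := Γ(S, W)) (R' := Γ(S', W')) k hk rs₁ hfl hrs₁, ?_⟩
  rw [hker', hker₁, Ideal.map_ofList]
  rfl

theorem isRelRegularImmersion_baseChange {Z X S S' : Scheme.{u}} (f : X ⟶ S) (i : Z ⟶ X) (k : RegImm.Kind)
    (hk : k = RegImm.Kind.h1 ∨ k = RegImm.Kind.quasi) (hi : RegImm.IsRelRegularImmersion k f i) (g : S' ⟶ S) :
    RegImm.IsRelRegularImmersion k (pullback.snd f g) (pullback.snd i (pullback.fst f g)) :=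
  isRelRegularImmersion_of_isPullback f i k hk hi g _ _ (IsPullback.of_hasPullback _ _) _ _
    (IsPullback.of_hasPullback _ _)

end Scheme

end Groth.Agent.Lib.RelRegImmBC
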