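import Groth.Agent.Lib.FibreKR6
import Groth.Agent.Lib.PresBC
import Groth.Agent.Lib.KoszulAtLCI
import Groth.Agent.Lib.RelRegImmBC
import Groth.Agent.S9253
import Mathlib.RingTheory.TensorProduct.MvPolynomial

/-!
# Local complete intersection ring maps and base change (helper19)

Namespace `Groth.Agent.Lib.LCIBaseChange`.

Setup: `R → A → B` with `A`, `B` flat over `R`; `R → R'` arbitrary; `A' = A ⊗_R R'`, `B' = B ⊗_R R'`.

* `isLCI_baseChange` : `A → B` lci ⇒ `A' → B'` lci.
* `exists_isLCI_away_of_baseChange` : (`A`, `B` of finite presentation over `R`) if `A' → B'_{b'}` is lci with `b' ∉ q'`, then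
  `A → B_b` is lci for some `b ∉ q' ∩ B`.
-/

set_option autoImplicit false
set_option linter.style.haveILetI false
universe u
open CategoryTheory CategoryTheory.Limits TensorProduct Function MvPolynomial

namespace Groth.Agent.Lib.LCIBaseChange

open Groth.Agent.Lib.KoszulIdeal Groth.Agent.Lib.FibreKR6 Groth.Agent.Lib.PresBC
  Groth.Agent.Lib.LCIMaps Groth.Agent.Lib.KoszulAtLCI Groth.Agent.Lib.KRegImmSmooth

attribute [local instance] MvPolynomial.algebraMvPolynomial

/-- tower for polynomial rings over a tower -/
theorem isScalarTower_poly {R A A' : Type u} [CommRing R] [CommRing A] [CommRing A'] [Algebra R A]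
    [Algebra A A'] [Algebra R A'] [IsScalarTower R A A'] (n : ℕ) :
    IsScalarTower R (MvPolynomial (Fin n) A) (MvPolynomial (Fin n) A') := by
  refine IsScalarTower.of_algebraMap_eq fun r => ?_
  rw [IsScalarTower.algebraMap_apply R A' (MvPolynomial (Fin n) A'),
    IsScalarTower.algebraMap_apply R A (MvPolynomial (Fin n) A), MvPolynomial.algebraMap_def,
    MvPolynomial.algebraMap_eq, MvPolynomial.algebraMap_eq, MvPolynomial.map_C,
    ← IsScalarTower.algebraMap_apply R A A']

attribute [local instance] isScalarTower_poly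

variable {R A B R' A' B' : Type u} [CommRing R] [CommRing A] [CommRing B] [CommRing R']
  [CommRing A'] [CommRing B']
  [Algebra R A] [Algebra R B] [Algebra A B] [IsScalarTower R A B] [Algebra R R']
  [Algebra A A'] [Algebra R' A'] [Algebra R A'] [IsScalarTower R A A'] [IsScalarTower R R' A']
  [Algebra.IsPushout R A R' A']
  [Algebra B B'] [Algebra R' B'] [Algebra R B'] [IsScalarTower R B B'] [IsScalarTower R R' B']
  [Algebra.IsPushout R B R' B']
  [Algebra A' B'] [Algebra A B'] [IsScalarTower A B B'] [IsScalarTower A A' B']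
  [IsScalarTower R' A' B']

section setup

include R' in
theorem isScalarTower_R_A'_B' : IsScalarTower R A' B' := by
  refine IsScalarTower.of_algebraMap_eq fun r => ?_
  rw [IsScalarTower.algebraMap_apply R R' B', IsScalarTower.algebraMap_apply R' A' B',
    ← IsScalarTower.algebraMap_apply R R' A']

include R R' in
theorem isPushout_A_B : Algebra.IsPushout A B A' B' := by
  haveI := isScalarTower_R_A'_B' (R := R) (R' := R') (A' := A') (B' := B')
  exact (Algebra.IsPushout.comp_iff R A R' A' (T := B) (T' := B')).mp inferInstance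

include R' in
theorem isPushout_poly (n : ℕ) :
    Algebra.IsPushout R (MvPolynomial (Fin n) A) R' (MvPolynomial (Fin n) A') :=
  (Algebra.IsPushout.comp_iff R A R' A' (T := MvPolynomial (Fin n) A)
    (T' := MvPolynomial (Fin n) A')).mpr inferInstance

end setup

section down

/-- flatness of `A[x]/ker α ≅ B` over `R` -/
theorem flat_quotient_ker [Module.Flat R B] {n : ℕ} (α : MvPolynomial (Fin n) A →ₐ[A] B)
    (hα : Function.Surjective α) :
    Module.Flat R (MvPolynomial (Fin n) A ⧸ RingHom.ker α.toRingHom) := by
  refine Groth.Agent.Lib.RelRegImmBC.flat_quotient_of_surjective α.toRingHom hα ?_ _ rfl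
  have : α.toRingHom.comp (algebraMap R (MvPolynomial (Fin n) A)) = algebraMap R B := by
    ext r
    show α (algebraMap R (MvPolynomial (Fin n) A) r) = algebraMap R B r
    rw [IsScalarTower.algebraMap_apply R A (MvPolynomial (Fin n) A), α.commutes,
      ← IsScalarTower.algebraMap_apply R A B]
  rw [this, RingHom.flat_algebraMap_iff]
  infer_instance

include R R' in
/-- **base change of local complete intersection ring maps** between flat `R`-algebras -/
theorem isLCI_baseChange [Module.Flat R A] [Module.Flat R B] (h : LCI.IsLCI A B) : LCI.IsLCI A' B' := by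
  obtain ⟨-, n, α, hα, hK⟩ := h
  haveI := isPushout_A_B (R := R) (R' := R') (A := A) (B := B) (A' := A') (B' := B')
  have hα' := presBC_surjective (A' := A') (B' := B') α hα
  refine ⟨Algebra.FiniteType.of_surjective (presBC A' B' α) hα', n, presBC A' B' α,
    hα', ?_⟩
  rw [ker_presBC α hα, isKoszulRegularIdeal_iff]
  intro 𝔭' h𝔭'
  let 𝔭 : PrimeSpectrum (MvPolynomial (Fin n) A) :=
    ⟨𝔭'.asIdeal.comap (mapP A' : MvPolynomial (Fin n) A →ₐ[A] MvPolynomial (Fin n) A').toRingHom,
      inferInstance⟩
  have h𝔭 : RingHom.ker α.toRingHom ≤ 𝔭.asIdeal := Ideal.map_le_iff_le_comap.mp h𝔭'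
  obtain ⟨G, hG, hGen⟩ := (isKoszulRegularIdeal_iff _).mp hK 𝔭 h𝔭
  haveI := isPushout_poly (R := R) (R' := R') (A := A) (A' := A') n
  haveI : Module.Flat R (MvPolynomial (Fin n) A) := Module.Flat.trans R A _
  haveI := flat_quotient_ker (R := R) α hα
  exact ⟨algebraMap _ _ G, hG, genAt_baseChange (R := R) (R' := R') _ G hGen⟩

end down

section up

/-- from a Koszul-regularly generated kernel near `G` to an lci localization -/
theorem isLCI_away_of_genAt {n : ℕ} (α : MvPolynomial (Fin n) A →ₐ[A] B) (hα : Function.Surjective α)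
    (G : MvPolynomial (Fin n) A) (hGen : GenAt (RingHom.ker α.toRingHom) G) :
    LCI.IsLCI A (Localization.Away (α G)) := by
  let P := MvPolynomial (Fin n) A
  let T := Localization.Away G
  have hT : Submonoid.map α.toRingHom (Submonoid.powers G) = Submonoid.powers (α G) :=
    Submonoid.map_powers _ _
  let χ : T →+* Localization.Away (α G) :=
    IsLocalization.map (Localization.Away (α G)) α.toRingHom
      (hT.symm ▸ (Submonoid.powers G).le_comap_map)
  have hχker : RingHom.ker χ = (RingHom.ker α.toRingHom).map (algebraMap P T) :=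
    IsLocalization.ker_map (Localization.Away (α G)) α.toRingHom hT
  have hχalg : ∀ p, χ (algebraMap P T p) = algebraMap B (Localization.Away (α G)) (α p) :=
    fun p => IsLocalization.map_eq _ p
  have hχsurj : Function.Surjective χ := by
    intro y
    obtain ⟨s, ⟨_, k, rfl⟩, rfl⟩ := IsLocalization.exists_mk'_eq (Submonoid.powers (α G)) y
    obtain ⟨p, rfl⟩ := hα s
    refine ⟨IsLocalization.mk' _ p (⟨G ^ k, k, rfl⟩ : Submonoid.powers G), ?_⟩
    rw [IsLocalization.map_mk']
    congr 1
    exact Subtype.ext (map_pow α G k)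
  obtain ⟨l, hl, hIl⟩ := hGen.exists_list T
  have hK : LCI.IsKoszulRegularIdeal (RingHom.ker χ) := by
    rw [hχker, hIl]
    exact isKoszulRegularIdeal_ofList l hl
  have h1 : LCIHom χ := lciHom_of_surjective χ hχsurj hK
  have h2 : LCIHom (algebraMap A T) := by
    apply lciHom_of_smooth
    rw [RingHom.smooth_algebraMap]
    haveI : Algebra.Smooth P T := Algebra.Smooth.of_isLocalization_Away G
    haveI : Algebra.Smooth A P := ⟨inferInstance, inferInstance⟩
    exact Algebra.Smooth.comp A P T
  have h3 := h2.comp h1
  have h4 : χ.comp (algebraMap A T) = algebraMap A (Localization.Away (α G)) := by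
    ext a
    rw [RingHom.comp_apply, IsScalarTower.algebraMap_apply A P T, hχalg, α.commutes,
      ← IsScalarTower.algebraMap_apply]
  rw [h4, lciHom_algebraMap] at h3
  exact h3

end up

section up2

include R R' in
/-- **the Koszul locus descends along base change**: `A`, `B` flat of finite presentation over `R`; if `A' → B'_{b'}` is a
local complete intersection with `b' ∉ q'`, then `A → B_b` is one for some `b ∉ q' ∩ B`. -/
theorem exists_isLCI_away_of_baseChange [Algebra.FinitePresentation R A] [Module.Flat R A]
    [Algebra.FinitePresentation R B] [Module.Flat R B] (q' : Ideal B') [q'.IsPrime] (b' : B')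
    (hb' : b' ∉ q') (h : LCI.IsLCI A' (Localization.Away b')) :
    ∃ b : B, b ∉ q'.comap (algebraMap B B') ∧ LCI.IsLCI A (Localization.Away b) := by
  haveI := isPushout_A_B (R := R) (R' := R') (A := A) (B := B) (A' := A') (B' := B')
  haveI hft : Algebra.FiniteType A B := Algebra.FiniteType.of_restrictScalars_finiteType R A B
  haveI hfp : Algebra.FinitePresentation A B :=
    Algebra.FinitePresentation.of_restrict_scalars_finitePresentation R A B
  obtain ⟨n, α, hα⟩ := Algebra.FiniteType.iff_quotient_mvPolynomial''.mp hft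
  have hα' := presBC_surjective (A' := A') (B' := B') α hα
  obtain ⟨gt, rfl⟩ := hα' b'
  let 𝔭' : PrimeSpectrum (MvPolynomial (Fin n) A') :=
    ⟨q'.comap (presBC A' B' α).toRingHom, inferInstance⟩
  have h𝔭' : RingHom.ker (presBC A' B' α).toRingHom ≤ 𝔭'.asIdeal := by
    intro x hx
    show (presBC A' B' α) x ∈ q'
    have : presBC A' B' α x = 0 := hx
    rw [this]
    exact q'.zero_mem
  obtain ⟨G', hG', hGen'⟩ := Groth.Agent.S9253.genAt_of_isLCI_away n (presBC A' B' α) hα' gt h 𝔭'
    h𝔭' hb'
  rw [ker_presBC α hα] at hGen'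
  have hI : (RingHom.ker α.toRingHom).FG := Algebra.FinitePresentation.ker_fG_of_surjective α hα
  haveI := isPushout_poly (R := R) (R' := R') (A := A) (A' := A') n
  haveI : Module.Flat R (MvPolynomial (Fin n) A) := Module.Flat.trans R A _
  haveI : Algebra.FinitePresentation R (MvPolynomial (Fin n) A) :=
    Algebra.FinitePresentation.trans R A _
  haveI := flat_quotient_ker (R := R) α hα
  obtain ⟨G, hG, hGen⟩ := exists_genAt_of_baseChange (R := R) (R' := R')
    (P' := MvPolynomial (Fin n) A') (RingHom.ker α.toRingHom) hI 𝔭'.asIdeal G' hG' hGen'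
  refine ⟨α G, ?_, isLCI_away_of_genAt α hα G hGen⟩
  intro hmem
  apply hG
  show presBC A' B' α (mapP A' G) ∈ q'
  rw [presBC_mapP]
  exact hmem

end up2

end Groth.Agent.Lib.LCIBaseChange
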