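import Mathlib
import Groth.Prelude.Def_FlatCA

set_option autoImplicit false
universe u

namespace Groth.Agent.Lib.PurityBC7

open scoped TensorProduct

section AssFlat

variable {R S : Type u} [CommRing R] [CommRing S] [Algebra R S]

/-- Associated primes under faithfully flat base change: every associated prime of `M₁` over `R` is
the contraction of an associated prime of the base change `M₂` over `S`. -/
theorem exists_mem_associatedPrimes_comap_eq [IsNoetherianRing R] [IsNoetherianRing S]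
    [Module.FaithfullyFlat R S]
    {M₁ M₂ : Type u} [AddCommGroup M₁] [Module R M₁] [AddCommGroup M₂] [Module S M₂] [Module R M₂]
    [IsScalarTower R S M₂] (h : M₁ →ₗ[R] M₂) (hbc : IsBaseChange S h)
    (𝔭 : Ideal R) (h𝔭 : 𝔭 ∈ associatedPrimes R M₁) :
    ∃ 𝔮 ∈ associatedPrimes S M₂, 𝔮.comap (algebraMap R S) = 𝔭 := by
  obtain ⟨hprime, j, hj⟩ := (isAssociatedPrime_iff_exists_injective_linearMap 𝔭 M₁).mp h𝔭
  haveI := hprime
  -- T = S ⊗ R/𝔭
  haveI : Nontrivial (R ⧸ 𝔭) := Ideal.Quotient.nontrivial_iff.mpr hprime.ne_top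
  haveI : Nontrivial (S ⊗[R] (R ⧸ 𝔭)) := inferInstance
  obtain ⟨𝔮, h𝔮⟩ := associatedPrimes.nonempty S (S ⊗[R] (R ⧸ 𝔭))
  -- injective S-linear map T → M₂
  let Φ : S ⊗[R] (R ⧸ 𝔭) →ₗ[S] M₂ :=
    hbc.equiv.toLinearMap ∘ₗ (TensorProduct.AlgebraTensorModule.lTensor S S j)
  have hΦ : Function.Injective Φ := by
    refine hbc.equiv.injective.comp ?_
    exact Module.Flat.lTensor_preserves_injective_linearMap j hj
  refine ⟨𝔮, h𝔮.map_of_injective Φ hΦ, ?_⟩
  obtain ⟨h𝔮prime, y, hy⟩ := (isAssociatedPrime_iff).mp h𝔮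
  have hy0 : y ≠ 0 := by
    rintro rfl
    apply h𝔮prime.ne_top
    rw [hy, eq_top_iff]
    intro z _
    rw [Submodule.mem_colon_singleton, smul_zero]
    exact Submodule.zero_mem _
  ext r
  rw [Ideal.mem_comap, hy, Submodule.mem_colon_singleton, Submodule.mem_bot]
  have hact : ∀ z : S ⊗[R] (R ⧸ 𝔭), (algebraMap R S r) • z =
      ((LinearMap.lsmul R (R ⧸ 𝔭) r).lTensor S) z := by
    intro z
    have : LinearMap.lsmul R (R ⧸ 𝔭) r = r • LinearMap.id := by
      ext x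
      simp
    rw [this, LinearMap.lTensor_smul, LinearMap.lTensor_id, LinearMap.smul_apply,
      LinearMap.id_apply, algebraMap_smul]
  constructor
  · intro hr
    by_contra hr𝔭
    -- multiplication by r is injective on R/𝔭 hence on T
    have hμ : Function.Injective (LinearMap.lsmul R (R ⧸ 𝔭) r) := by
      rw [injective_iff_map_eq_zero]
      intro x hx
      obtain ⟨x, rfl⟩ := Ideal.Quotient.mk_surjective x
      have hx' : Ideal.Quotient.mk 𝔭 (r * x) = 0 := by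
        rw [map_mul]
        exact hx
      rw [Ideal.Quotient.eq_zero_iff_mem] at hx' ⊢
      exact (hprime.mem_or_mem hx').resolve_left hr𝔭
    have h2 := Module.Flat.lTensor_preserves_injective_linearMap (M := S) _ hμ
    apply hy0
    apply h2
    rw [← hact, hr, map_zero]
  · intro hr
    rw [hact]
    have : LinearMap.lsmul R (R ⧸ 𝔭) r = 0 := by
      refine LinearMap.ext fun x => ?_
      obtain ⟨x, rfl⟩ := Ideal.Quotient.mk_surjective x
      change r • (Ideal.Quotient.mk 𝔭 x) = 0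
      have : r • (Ideal.Quotient.mk 𝔭 x) = Ideal.Quotient.mk 𝔭 (r * x) := by
        rw [map_mul]; rfl
      rw [this, Ideal.Quotient.eq_zero_iff_mem]
      exact Ideal.mul_mem_right _ _ hr
    rw [this, LinearMap.lTensor_zero, LinearMap.zero_apply]

end AssFlat

section Generic

variable {A₁ A₂ B₁ B₂ K₁ K₂ F₁ F₂ : Type u}
  [CommRing A₁] [CommRing A₂] [CommRing B₁] [CommRing B₂] [Field K₁] [Field K₂]
  [CommRing F₁] [CommRing F₂]
  [Algebra A₁ A₂] [Algebra A₁ B₁] [Algebra A₂ B₂] [Algebra B₁ B₂] [Algebra A₁ B₂]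
  [aA₁K₁ : Algebra A₁ K₁] [aA₂K₂ : Algebra A₂ K₂] [aA₁K₂ : Algebra A₁ K₂] [aK₁K₂ : Algebra K₁ K₂]
  [aK₁F₁ : Algebra K₁ F₁] [aB₁F₁ : Algebra B₁ F₁] [aA₁F₁ : Algebra A₁ F₁]
  [aK₂F₂ : Algebra K₂ F₂] [aB₂F₂ : Algebra B₂ F₂] [aA₂F₂ : Algebra A₂ F₂]
  [aA₁F₂ : Algebra A₁ F₂] [aB₁F₂ : Algebra B₁ F₂] [aK₁F₂ : Algebra K₁ F₂] [aF₁F₂ : Algebra F₁ F₂]
  [IsScalarTower A₁ B₁ B₂] [IsScalarTower A₁ A₂ B₂] [t1 : IsScalarTower A₁ A₂ K₂]
  [t2 : IsScalarTower A₁ K₁ K₂] [t3 : IsScalarTower A₁ K₁ F₁] [t4 : IsScalarTower A₁ B₁ F₁]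
  [t5 : IsScalarTower A₂ K₂ F₂] [t6 : IsScalarTower A₂ B₂ F₂] [t7 : IsScalarTower A₁ A₂ F₂]
  [t8 : IsScalarTower A₁ K₂ F₂] [t9 : IsScalarTower A₁ B₂ F₂] [t10 : IsScalarTower A₁ B₁ F₂]
  [t11 : IsScalarTower B₁ B₂ F₂] [t12 : IsScalarTower A₁ K₁ F₂] [t13 : IsScalarTower K₁ K₂ F₂]
  [t14 : IsScalarTower K₁ F₁ F₂] [t15 : IsScalarTower B₁ F₁ F₂] [t16 : IsScalarTower A₁ F₁ F₂]

include A₁ A₂ B₁ B₂ in
/-- The fibre ring of the base change is the base change of the fibre ring along the residue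
field extension. -/
theorem isPushout_fiber (h₀ : Algebra.IsPushout A₁ B₁ A₂ B₂) (h₁ : Algebra.IsPushout A₁ K₁ B₁ F₁)
    (h₂ : Algebra.IsPushout A₂ K₂ B₂ F₂) : Algebra.IsPushout K₁ K₂ F₁ F₂ := by
  have h₀' : Algebra.IsPushout A₁ A₂ B₁ B₂ := h₀.symm
  have h3 : Algebra.IsPushout A₁ K₂ B₁ F₂ :=
    (Algebra.IsPushout.comp_iff A₁ A₂ B₁ (S' := B₂) (T := K₂) (T' := F₂)).mpr h₂
  exact (Algebra.IsPushout.comp_iff A₁ K₁ B₁ (S' := F₁) (T := K₂) (T' := F₂)).mp h3

include A₁ A₂ B₁ B₂ K₁ K₂ in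
theorem faithfullyFlat_fiber (h₀ : Algebra.IsPushout A₁ B₁ A₂ B₂) (h₁ : Algebra.IsPushout A₁ K₁ B₁ F₁)
    (h₂ : Algebra.IsPushout A₂ K₂ B₂ F₂) : Module.FaithfullyFlat F₁ F₂ := by
  have hP : Algebra.IsPushout K₁ F₁ K₂ F₂ := (isPushout_fiber h₀ h₁ h₂).symm
  exact Module.FaithfullyFlat.of_linearEquiv F₁ (F₁ ⊗[K₁] K₂)
    (Algebra.IsPushout.equiv K₁ F₁ K₂ F₂).symm.toLinearEquiv

variable {N₁ N₂ M₁ M₂ : Type u} [AddCommGroup N₁] [Module B₁ N₁]
  [AddCommGroup N₂] [Module B₂ N₂] [Module B₁ N₂] [IsScalarTower B₁ B₂ N₂]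
  [AddCommGroup M₁] [mF₁M₁ : Module F₁ M₁] [mB₁M₁ : Module B₁ M₁] [t17 : IsScalarTower B₁ F₁ M₁]
  [AddCommGroup M₂] [mF₂M₂ : Module F₂ M₂] [mB₂M₂ : Module B₂ M₂] [t18 : IsScalarTower B₂ F₂ M₂]

include A₁ A₂ B₁ B₂ K₁ K₂ in
/-- Generic transfer of associated primes of fibre modules along a base change of the base. -/
theorem exists_ass_fiber_generic [IsNoetherianRing F₁] [IsNoetherianRing F₂]
    (h₀ : Algebra.IsPushout A₁ B₁ A₂ B₂) (h₁ : Algebra.IsPushout A₁ K₁ B₁ F₁)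
    (h₂ : Algebra.IsPushout A₂ K₂ B₂ F₂)
    (g : N₁ →ₗ[B₁] N₂) (hg : IsBaseChange B₂ g)
    (m₁ : N₁ →ₗ[B₁] M₁) (hm₁ : IsBaseChange F₁ m₁)
    (m₂ : N₂ →ₗ[B₂] M₂) (hm₂ : IsBaseChange F₂ m₂)
    (𝔭 : Ideal F₁) (h𝔭 : 𝔭 ∈ associatedPrimes F₁ M₁) :
    ∃ 𝔮 ∈ associatedPrimes F₂ M₂, 𝔮.comap (algebraMap F₁ F₂) = 𝔭 := by
  haveI : Module.FaithfullyFlat F₁ F₂ := faithfullyFlat_fiber (K₁ := K₁) (K₂ := K₂) h₀ h₁ h₂
  letI : Module B₁ M₂ := Module.compHom M₂ (algebraMap B₁ B₂)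
  haveI : IsScalarTower B₁ B₂ M₂ := ⟨fun b b' m => by
    change (b • b') • m = algebraMap B₁ B₂ b • (b' • m)
    rw [Algebra.smul_def, mul_smul]⟩
  letI : Module F₁ M₂ := Module.compHom M₂ (algebraMap F₁ F₂)
  haveI : IsScalarTower F₁ F₂ M₂ := ⟨fun b b' m => by
    change (b • b') • m = algebraMap F₁ F₂ b • (b' • m)
    rw [Algebra.smul_def, mul_smul]⟩
  have hB₁ : ∀ (b : B₁) (m : M₂), b • m = algebraMap B₁ F₂ b • m := by
    intro b m
    rw [IsScalarTower.algebraMap_apply B₁ B₂ F₂, algebraMap_smul F₂ (algebraMap B₁ B₂ b) m]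
    rfl
  haveI : IsScalarTower B₁ F₂ M₂ := ⟨fun b f m => by
    rw [hB₁, Algebra.smul_def, mul_smul]⟩
  haveI : IsScalarTower B₁ F₁ M₂ := ⟨fun b f m => by
    change algebraMap F₁ F₂ (b • f) • m = b • (algebraMap F₁ F₂ f • m)
    rw [hB₁, Algebra.smul_def, map_mul, mul_smul, ← IsScalarTower.algebraMap_apply B₁ F₁ F₂]⟩
  let c : N₁ →ₗ[B₁] M₂ := (m₂.restrictScalars B₁).comp g
  have hc : IsBaseChange F₂ c := IsBaseChange.comp hg hm₂
  let h : M₁ →ₗ[F₁] M₂ := hm₁.lift c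
  have hh : (h.restrictScalars B₁) ∘ₗ m₁ = c := hm₁.lift_comp c
  have hbc : IsBaseChange F₂ h := by
    apply IsBaseChange.of_comp hm₁
    rw [hh]
    exact hc
  exact exists_mem_associatedPrimes_comap_eq h hbc 𝔭 h𝔭

end Generic

section FiberIdeal

attribute [local instance] Algebra.TensorProduct.rightAlgebra

variable {A B : Type u} [CommRing A] [CommRing B] [Algebra A B] (t : Ideal A) [t.IsPrime]

/-- The inclusion of `B` in the fibre ring. -/
noncomputable abbrev fiberIncl : B →+* t.Fiber B :=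
  (Algebra.TensorProduct.includeRight (R := A) (A := t.ResidueField) (B := B)).toRingHom

theorem fiberIdeal_def (P : Ideal B) : FlatCA.fiberIdeal t P = P.map (fiberIncl (B := B) t) := rfl

theorem isUnit_algebraMap_fiber {r : A} (hr : r ∉ t) : IsUnit (algebraMap A (t.Fiber B) r) := by
  rw [IsScalarTower.algebraMap_apply A t.ResidueField (t.Fiber B)]
  apply IsUnit.map
  rw [isUnit_iff_ne_zero, ne_eq, Ideal.algebraMap_residueField_eq_zero]
  exact hr

/-- For a prime `𝔮` of the fibre ring, the extension of its contraction is `𝔮`. -/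
theorem fiberIdeal_comap (𝔮 : Ideal (t.Fiber B)) [𝔮.IsPrime] :
    FlatCA.fiberIdeal t (𝔮.comap (fiberIncl (B := B) t)) = 𝔮 := by
  apply le_antisymm
  · exact Ideal.map_comap_le
  · intro x hx
    obtain ⟨r, hr, s, e⟩ := Ideal.Fiber.exists_smul_eq_one_tmul t x
    have hs : s ∈ 𝔮.comap (fiberIncl (B := B) t) := by
      rw [Ideal.mem_comap]
      change (1 : t.ResidueField) ⊗ₜ[A] s ∈ 𝔮
      rw [← e, Algebra.smul_def]
      exact Ideal.mul_mem_left _ _ hx
    have h1 : algebraMap A (t.Fiber B) r * x ∈ FlatCA.fiberIdeal t (𝔮.comap (fiberIncl (B := B) t)) := by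
      rw [← Algebra.smul_def, e]
      exact Ideal.mem_map_of_mem _ hs
    obtain ⟨u, hu⟩ := isUnit_algebraMap_fiber (B := B) t hr
    have : x = (↑u⁻¹ : t.Fiber B) * (algebraMap A (t.Fiber B) r * x) := by
      rw [← hu, ← mul_assoc, Units.inv_mul, one_mul]
    rw [this]
    exact Ideal.mul_mem_left _ _ h1

/-- For a prime `P` of `B` over `t`, `fiberIdeal t P` is a prime whose contraction is `P`. -/
theorem fiberIdeal_isPrime_comap (P : Ideal B) [hP : P.IsPrime] [hPt : P.LiesOver t] :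
    (FlatCA.fiberIdeal t P).IsPrime ∧ (FlatCA.fiberIdeal t P).comap (fiberIncl (B := B) t) = P := by
  set 𝔮 := (PrimeSpectrum.primesOverOrderIsoFiber A B t ⟨P, hP, hPt⟩) with h𝔮
  have h1 : 𝔮.asIdeal.comap (fiberIncl (B := B) t) = P := by
    have := (PrimeSpectrum.primesOverOrderIsoFiber A B t).symm_apply_apply ⟨P, hP, hPt⟩
    have h2 := congrArg Subtype.val this
    rw [PrimeSpectrum.coe_primesOverOrderIsoFiber_symm_apply] at h2
    exact h2
  have h3 : FlatCA.fiberIdeal t P = 𝔮.asIdeal := by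
    rw [← h1]
    exact fiberIdeal_comap t 𝔮.asIdeal
  rw [h3]
  exact ⟨𝔮.2, h1⟩

end FiberIdeal

section Transfer

attribute [local instance] Algebra.TensorProduct.rightAlgebra

theorem transfer {A₁ A₂ B₁ B₂ : Type u} [CommRing A₁] [CommRing A₂] [CommRing B₁] [CommRing B₂]
    [Algebra A₁ A₂] [Algebra A₁ B₁] [Algebra A₂ B₂] [Algebra B₁ B₂] [Algebra A₁ B₂]
    [IsScalarTower A₁ B₁ B₂] [IsScalarTower A₁ A₂ B₂]
    [Algebra.FiniteType A₁ B₁] [Algebra.FiniteType A₂ B₂]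
    (hpush : Algebra.IsPushout A₁ B₁ A₂ B₂)
    {N₁ N₂ : Type u} [AddCommGroup N₁] [Module B₁ N₁] [AddCommGroup N₂] [Module B₂ N₂]
    [Module B₁ N₂] [IsScalarTower B₁ B₂ N₂] (g : N₁ →ₗ[B₁] N₂) (hg : IsBaseChange B₂ g)
    (t₁ : Ideal A₁) [t₁.IsPrime] (t₂ : Ideal A₂) [t₂.IsPrime] [ht : t₂.LiesOver t₁]
    (P₁ : Ideal B₁) [P₁.IsPrime] [P₁.LiesOver t₁]
    (hass : FlatCA.fiberIdeal t₁ P₁ ∈
      associatedPrimes (t₁.Fiber B₁) (FlatCA.fiberMod t₁ B₁ N₁)) :
    ∃ (P₂ : Ideal B₂) (_ : P₂.IsPrime), P₂.LiesOver t₂ ∧ P₂.comap (algebraMap B₁ B₂) = P₁ ∧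
      FlatCA.fiberIdeal t₂ P₂ ∈
        associatedPrimes (t₂.Fiber B₂) (FlatCA.fiberMod t₂ B₂ N₂) := by
  letI aA₁K₂ : Algebra A₁ t₂.ResidueField :=
    ((algebraMap A₂ t₂.ResidueField).comp (algebraMap A₁ A₂)).toAlgebra
  have t1 : IsScalarTower A₁ A₂ t₂.ResidueField := .of_algebraMap_eq fun _ => rfl
  letI aK₁K₂ : Algebra t₁.ResidueField t₂.ResidueField :=
    (Ideal.ResidueField.map t₁ t₂ (algebraMap A₁ A₂) ht.over).toAlgebra
  have t2 : IsScalarTower A₁ t₁.ResidueField t₂.ResidueField := .of_algebraMap_eq fun r =>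
    (Ideal.ResidueField.map_algebraMap t₁ t₂ (algebraMap A₁ A₂) ht.over r).symm
  have t3 : IsScalarTower A₁ t₁.ResidueField (t₁.Fiber B₁) := inferInstance
  have t4 : IsScalarTower A₁ B₁ (t₁.Fiber B₁) := inferInstance
  have t5 : IsScalarTower A₂ t₂.ResidueField (t₂.Fiber B₂) := inferInstance
  have t6 : IsScalarTower A₂ B₂ (t₂.Fiber B₂) := inferInstance
  letI aA₁F₂ : Algebra A₁ (t₂.Fiber B₂) := Algebra.TensorProduct.leftAlgebra
  have t7 := @IsScalarTower.of_algebraMap_eq A₁ A₂ (t₂.Fiber B₂) _ _ _ _ _ aA₁F₂ (fun _ => rfl)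
  have t8 := @IsScalarTower.of_algebraMap_eq A₁ t₂.ResidueField (t₂.Fiber B₂) _ _ _ aA₁K₂ _ aA₁F₂
    (fun x => by
      change algebraMap A₂ (t₂.Fiber B₂) (algebraMap A₁ A₂ x) =
        algebraMap t₂.ResidueField (t₂.Fiber B₂) (algebraMap A₂ t₂.ResidueField (algebraMap A₁ A₂ x))
      rw [← IsScalarTower.algebraMap_apply A₂ t₂.ResidueField (t₂.Fiber B₂)])
  have t9 := @IsScalarTower.of_algebraMap_eq A₁ B₂ (t₂.Fiber B₂) _ _ _ _ _ aA₁F₂
    (fun x => by
      change algebraMap A₂ (t₂.Fiber B₂) (algebraMap A₁ A₂ x) =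
        algebraMap B₂ (t₂.Fiber B₂) (algebraMap A₁ B₂ x)
      rw [IsScalarTower.algebraMap_apply A₁ A₂ B₂,
        ← IsScalarTower.algebraMap_apply A₂ B₂ (t₂.Fiber B₂)])
  letI aB₁F₂ : Algebra B₁ (t₂.Fiber B₂) :=
    ((algebraMap B₂ (t₂.Fiber B₂)).comp (algebraMap B₁ B₂)).toAlgebra
  have t11 := @IsScalarTower.of_algebraMap_eq B₁ B₂ (t₂.Fiber B₂) _ _ _ _ _ aB₁F₂ (fun _ => rfl)
  have t10 := @IsScalarTower.of_algebraMap_eq A₁ B₁ (t₂.Fiber B₂) _ _ _ _ aB₁F₂ aA₁F₂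
    (fun x => by
      change algebraMap A₂ (t₂.Fiber B₂) (algebraMap A₁ A₂ x) =
        algebraMap B₂ (t₂.Fiber B₂) (algebraMap B₁ B₂ (algebraMap A₁ B₁ x))
      rw [← IsScalarTower.algebraMap_apply A₁ B₁ B₂, IsScalarTower.algebraMap_apply A₁ A₂ B₂,
        ← IsScalarTower.algebraMap_apply A₂ B₂ (t₂.Fiber B₂)])
  letI aK₁F₂ : Algebra t₁.ResidueField (t₂.Fiber B₂) :=
    ((algebraMap t₂.ResidueField (t₂.Fiber B₂)).comp (algebraMap t₁.ResidueField t₂.ResidueField)).toAlgebra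
  have t13 := @IsScalarTower.of_algebraMap_eq t₁.ResidueField t₂.ResidueField (t₂.Fiber B₂) _ _ _
    aK₁K₂ _ aK₁F₂ (fun _ => rfl)
  have t12 := @IsScalarTower.of_algebraMap_eq A₁ t₁.ResidueField (t₂.Fiber B₂) _ _ _ _ aK₁F₂ aA₁F₂
    (fun x => by
      change algebraMap A₂ (t₂.Fiber B₂) (algebraMap A₁ A₂ x) =
        algebraMap t₂.ResidueField (t₂.Fiber B₂)
          (algebraMap t₁.ResidueField t₂.ResidueField (algebraMap A₁ t₁.ResidueField x))
      rw [← @IsScalarTower.algebraMap_apply A₁ t₁.ResidueField t₂.ResidueField _ _ _ _ aK₁K₂ aA₁K₂ t2]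
      change _ = algebraMap t₂.ResidueField (t₂.Fiber B₂)
          (algebraMap A₂ t₂.ResidueField (algebraMap A₁ A₂ x))
      rw [← IsScalarTower.algebraMap_apply A₂ t₂.ResidueField (t₂.Fiber B₂)])
  let φK : t₁.ResidueField →ₐ[A₁] t₂.Fiber B₂ :=
    { toRingHom := algebraMap t₁.ResidueField (t₂.Fiber B₂)
      commutes' := fun x =>
        (@IsScalarTower.algebraMap_apply A₁ t₁.ResidueField (t₂.Fiber B₂) _ _ _ _ aK₁F₂ aA₁F₂ t12 x).symm }
  let φB : B₁ →ₐ[A₁] t₂.Fiber B₂ :=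
    { toRingHom := algebraMap B₁ (t₂.Fiber B₂)
      commutes' := fun x =>
        (@IsScalarTower.algebraMap_apply A₁ B₁ (t₂.Fiber B₂) _ _ _ _ aB₁F₂ aA₁F₂ t10 x).symm }
  let ψ : t₁.Fiber B₁ →ₐ[A₁] t₂.Fiber B₂ :=
    Algebra.TensorProduct.lift φK φB (fun _ _ => Commute.all _ _)
  letI aF₁F₂ : Algebra (t₁.Fiber B₁) (t₂.Fiber B₂) := ψ.toRingHom.toAlgebra
  have t14 := @IsScalarTower.of_algebraMap_eq t₁.ResidueField (t₁.Fiber B₁) (t₂.Fiber B₂) _ _ _
    _ aF₁F₂ aK₁F₂ (fun k => by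
      change _ = ψ (algebraMap t₁.ResidueField (t₁.Fiber B₁) k)
      rw [Algebra.TensorProduct.algebraMap_apply, Algebra.TensorProduct.lift_tmul, map_one, mul_one]
      rfl)
  have t15 := @IsScalarTower.of_algebraMap_eq B₁ (t₁.Fiber B₁) (t₂.Fiber B₂) _ _ _
    _ aF₁F₂ aB₁F₂ (fun b => by
      change _ = ψ ((1 : t₁.ResidueField) ⊗ₜ[A₁] b)
      rw [Algebra.TensorProduct.lift_tmul, map_one, one_mul]
      rfl)
  have t16 := @IsScalarTower.of_algebraMap_eq A₁ (t₁.Fiber B₁) (t₂.Fiber B₂) _ _ _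
    _ aF₁F₂ aA₁F₂ (fun x => (ψ.commutes x).symm)
  haveI : IsNoetherianRing (t₁.Fiber B₁) :=
    Algebra.FiniteType.isNoetherianRing t₁.ResidueField (t₁.Fiber B₁)
  haveI : IsNoetherianRing (t₂.Fiber B₂) :=
    Algebra.FiniteType.isNoetherianRing t₂.ResidueField (t₂.Fiber B₂)
  have h₁ : Algebra.IsPushout A₁ t₁.ResidueField B₁ (t₁.Fiber B₁) := inferInstance
  have h₂ : Algebra.IsPushout A₂ t₂.ResidueField B₂ (t₂.Fiber B₂) := inferInstance
  have hm₁ : IsBaseChange (t₁.Fiber B₁) (TensorProduct.mk B₁ (t₁.Fiber B₁) N₁ 1) :=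
    TensorProduct.isBaseChange B₁ N₁ (t₁.Fiber B₁)
  have hm₂ : IsBaseChange (t₂.Fiber B₂) (TensorProduct.mk B₂ (t₂.Fiber B₂) N₂ 1) :=
    TensorProduct.isBaseChange B₂ N₂ (t₂.Fiber B₂)
  obtain ⟨𝔮, h𝔮, h𝔮comap⟩ := exists_ass_fiber_generic (K₁ := t₁.ResidueField) (K₂ := t₂.ResidueField)
    (F₁ := t₁.Fiber B₁) (F₂ := t₂.Fiber B₂) (M₁ := (t₁.Fiber B₁) ⊗[B₁] N₁)
    (M₂ := (t₂.Fiber B₂) ⊗[B₂] N₂) hpush h₁ h₂ g hg _ hm₁ _ hm₂ _ hass
  haveI h𝔮prime : 𝔮.IsPrime := h𝔮.isPrime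
  obtain ⟨hP₁prime, hP₁comap⟩ := fiberIdeal_isPrime_comap t₁ P₁
  set P₂ : t₂.primesOver B₂ := (PrimeSpectrum.primesOverOrderIsoFiber A₂ B₂ t₂).symm ⟨𝔮, h𝔮prime⟩
    with hP₂
  have hP₂coe : (P₂ : Ideal B₂) = 𝔮.comap (fiberIncl (B := B₂) t₂) :=
    PrimeSpectrum.coe_primesOverOrderIsoFiber_symm_apply t₂ ⟨𝔮, h𝔮prime⟩
  refine ⟨P₂.1, P₂.2.1, P₂.2.2, ?_, ?_⟩
  · rw [hP₂coe]
    ext x
    rw [Ideal.mem_comap, Ideal.mem_comap, ← hP₁comap, Ideal.mem_comap, ← h𝔮comap, Ideal.mem_comap]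
    have : fiberIncl (B := B₂) t₂ (algebraMap B₁ B₂ x) =
        algebraMap (t₁.Fiber B₁) (t₂.Fiber B₂) (fiberIncl (B := B₁) t₁ x) := by
      change _ = ψ ((1 : t₁.ResidueField) ⊗ₜ[A₁] x)
      rw [Algebra.TensorProduct.lift_tmul, map_one, one_mul]
      rfl
    rw [this]
  · rw [hP₂coe, fiberIdeal_comap]
    exact h𝔮

end Transfer

section PushoutDesc

variable {A B A' B' A₂ B₂ : Type u} [CommRing A] [CommRing B] [CommRing A'] [CommRing B']
  [CommRing A₂] [CommRing B₂]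
  [Algebra A A'] [Algebra A B] [Algebra A' B'] [Algebra B B'] [Algebra A B']
  [IsScalarTower A B B'] [IsScalarTower A A' B']
  [Algebra A' A₂] [Algebra A A₂] [IsScalarTower A A' A₂]
  [Algebra A₂ B₂] [Algebra B B₂] [Algebra A B₂] [IsScalarTower A B B₂] [IsScalarTower A A₂ B₂]
  [Algebra A' B₂] [IsScalarTower A' A₂ B₂]

/-- If `B' = B ⊗_A A'` and `B₂ = B ⊗_A A₂` with `A₂` an `A'`-algebra, then `B₂` is canonically a
`B'`-algebra and `B₂ = B' ⊗_{A'} A₂`. -/
theorem exists_algebra_isPushout (hpush : Algebra.IsPushout A B A' B')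
    (hpush₂ : Algebra.IsPushout A B A₂ B₂) :
    ∃ (_ : Algebra B' B₂) (_ : IsScalarTower A' B' B₂) (_ : IsScalarTower B B' B₂),
      Algebra.IsPushout A' B' A₂ B₂ := by
  haveI : IsScalarTower A A' B₂ := .of_algebraMap_eq fun x => by
    rw [IsScalarTower.algebraMap_apply A A₂ B₂, IsScalarTower.algebraMap_apply A A' A₂,
      ← IsScalarTower.algebraMap_apply A' A₂ B₂]
  let φ : B' →ₐ[A] B₂ := Algebra.pushoutDesc B' (IsScalarTower.toAlgHom A B B₂)
    (IsScalarTower.toAlgHom A A' B₂) (fun _ _ => Commute.all _ _)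
  letI : Algebra B' B₂ := φ.toRingHom.toAlgebra
  have t1 : IsScalarTower A' B' B₂ := .of_algebraMap_eq fun x => by
    change _ = φ (algebraMap A' B' x)
    rw [Algebra.pushoutDesc_right]
    rfl
  have t2 : IsScalarTower B B' B₂ := .of_algebraMap_eq fun x => by
    change _ = φ (algebraMap B B' x)
    rw [Algebra.pushoutDesc_left]
    rfl
  haveI := t1
  haveI := t2
  haveI : IsScalarTower A B' B₂ := .of_algebraMap_eq fun x => (φ.commutes x).symm
  refine ⟨inferInstance, t1, t2, ?_⟩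
  haveI : Algebra.IsPushout A A' B B' := hpush.symm
  have h1 : Algebra.IsPushout A A₂ B B₂ := hpush₂.symm
  have h2 : Algebra.IsPushout A' A₂ B' B₂ :=
    (Algebra.IsPushout.comp_iff A A' B (S' := B') (T := A₂) (T' := B₂)).mp h1
  exact h2.symm

end PushoutDesc

section ModuleDesc

variable {B B' B₂ : Type u} [CommRing B] [CommRing B'] [CommRing B₂]
  [Algebra B B'] [Algebra B B₂] [Algebra B' B₂] [IsScalarTower B B' B₂]
  {N N' N₂ : Type u} [AddCommGroup N] [Module B N]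
  [AddCommGroup N'] [Module B' N'] [Module B N'] [IsScalarTower B B' N']
  [AddCommGroup N₂] [Module B₂ N₂] [Module B N₂] [IsScalarTower B B₂ N₂]
  [Module B' N₂] [IsScalarTower B' B₂ N₂] [IsScalarTower B B' N₂]

/-- If `N'` and `N₂` are base changes of `N` to `B'` and `B₂`, then `N₂` is a base change of `N'`. -/
theorem exists_isBaseChange (f : N →ₗ[B] N') (hf : IsBaseChange B' f)
    (k : N →ₗ[B] N₂) (hk : IsBaseChange B₂ k) :
    ∃ f₂ : N' →ₗ[B'] N₂, IsBaseChange B₂ f₂ ∧ ∀ n, f₂ (f n) = k n := by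
  refine ⟨hf.lift k, ?_, fun n => hf.lift_eq k n⟩
  apply IsBaseChange.of_comp hf
  rw [hf.lift_comp]
  exact hk

end ModuleDesc

section ExistsPrimes

attribute [local instance] Algebra.TensorProduct.rightAlgebra

variable {A A' A₁ : Type u} [CommRing A] [CommRing A'] [CommRing A₁] [Algebra A A'] [Algebra A A₁]
  {L : Type u} [Field L] (u : A' →+* L) (v : A₁ →+* L)

/-- The ring map `A' ⊗ A₁ → L` induced by compatible maps to a common field. -/
noncomputable def thetaHom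
    (hcompat : ∀ a : A, u (algebraMap A A' a) = v (algebraMap A A₁ a)) : A' ⊗[A] A₁ →+* L :=
  letI : Algebra A L := (u.comp (algebraMap A A')).toAlgebra
  (Algebra.TensorProduct.lift
    ({ toRingHom := u
       commutes' := fun _ => rfl } : A' →ₐ[A] L)
    ({ toRingHom := v
       commutes' := fun a => (hcompat a).symm } : A₁ →ₐ[A] L)
    (fun _ _ => Commute.all _ _)).toRingHom

theorem thetaHom_tmul
    (hcompat : ∀ a : A, u (algebraMap A A' a) = v (algebraMap A A₁ a)) (x : A') (y : A₁) :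
    thetaHom u v hcompat (x ⊗ₜ[A] y) = u x * v y := by
  letI : Algebra A L := (u.comp (algebraMap A A')).toAlgebra
  exact Algebra.TensorProduct.lift_tmul _ _ _ x y

theorem comap_left_ker_thetaHom
    (hcompat : ∀ a : A, u (algebraMap A A' a) = v (algebraMap A A₁ a)) :
    (RingHom.ker (thetaHom u v hcompat)).comap (algebraMap A' (A' ⊗[A] A₁)) = RingHom.ker u := by
  ext x
  rw [Ideal.mem_comap, RingHom.mem_ker, RingHom.mem_ker, Algebra.TensorProduct.algebraMap_apply,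
    thetaHom_tmul, map_one, mul_one]
  rfl

theorem comap_right_ker_thetaHom
    (hcompat : ∀ a : A, u (algebraMap A A' a) = v (algebraMap A A₁ a)) :
    (RingHom.ker (thetaHom u v hcompat)).comap (algebraMap A₁ (A' ⊗[A] A₁)) = RingHom.ker v := by
  ext x
  rw [Ideal.mem_comap, RingHom.mem_ker, RingHom.mem_ker]
  change thetaHom u v hcompat ((1 : A') ⊗ₜ[A] x) = 0 ↔ _
  rw [thetaHom_tmul, map_one, one_mul]

/-- Primes `t₂' ≤ t₂` of `A' ⊗ A₁` over `t₁' ≤ t₁` with `t₂` over `p'`, when `A'_{p'}` is flat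
over `A` (going-down after localizing the first factor). -/
theorem exists_primes_tensor (p' : Ideal A') [p'.IsPrime] [Module.Flat A (Localization.AtPrime p')]
    (t₁ t₁' : Ideal A₁) [t₁.IsPrime] [t₁'.IsPrime] (hle : t₁' ≤ t₁)
    (hcompat : ∀ a : A, u (algebraMap A A' a) = v (algebraMap A A₁ a))
    (hu : RingHom.ker u = p') (hv : RingHom.ker v = t₁) :
    ∃ (t₂' t₂ : Ideal (A' ⊗[A] A₁)) (_ : t₂'.IsPrime) (_ : t₂.IsPrime), t₂' ≤ t₂ ∧
      t₂ = RingHom.ker (thetaHom u v hcompat) ∧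
      t₂.comap (algebraMap A' (A' ⊗[A] A₁)) = p' ∧ t₂.comap (algebraMap A₁ (A' ⊗[A] A₁)) = t₁ ∧
      t₂'.comap (algebraMap A₁ (A' ⊗[A] A₁)) = t₁' := by
  -- extend u to the localization
  have hunits : ∀ s : p'.primeCompl, IsUnit (u s) := by
    intro s
    rw [isUnit_iff_ne_zero, ne_eq, ← RingHom.mem_ker, hu]
    exact s.2
  let u' : Localization.AtPrime p' →+* L := IsLocalization.lift (M := p'.primeCompl) hunits
  have hu' : ∀ x : A', u' (algebraMap A' (Localization.AtPrime p') x) = u x :=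
    fun x => IsLocalization.lift_eq hunits x
  have hcompat' : ∀ a : A, u' (algebraMap A (Localization.AtPrime p') a) = v (algebraMap A A₁ a) := by
    intro a
    rw [IsScalarTower.algebraMap_apply A A' (Localization.AtPrime p'), hu', hcompat]
  set Ahat := (Localization.AtPrime p') ⊗[A] A₁ with hAhat
  let θh : Ahat →+* L := thetaHom u' v hcompat'
  haveI : Module.Flat A₁ Ahat :=
    Module.Flat.isBaseChange (R := A) (S := A₁) (M := Localization.AtPrime p') (N := Ahat)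
      (inferInstance : Algebra.IsPushout A (Localization.AtPrime p') A₁ Ahat).symm.out
  haveI hprime : (RingHom.ker θh).IsPrime := RingHom.ker_isPrime θh
  haveI : (RingHom.ker θh).LiesOver t₁ := ⟨by
    rw [Ideal.under_def, comap_right_ker_thetaHom, hv]⟩
  obtain ⟨th', hle', hprime', hover'⟩ :=
    Ideal.exists_ideal_le_liesOver_of_le (p := t₁') (q := t₁) (RingHom.ker θh) hle
  let ρ : A' ⊗[A] A₁ →ₐ[A] Ahat :=
    Algebra.TensorProduct.map (IsScalarTower.toAlgHom A A' (Localization.AtPrime p')) (AlgHom.id A A₁)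
  have hρ : θh.comp ρ.toRingHom = thetaHom u v hcompat := by
    refine RingHom.ext fun z => ?_
    induction z using TensorProduct.induction_on with
    | zero => simp
    | tmul x y =>
      change θh (ρ (x ⊗ₜ[A] y)) = _
      rw [Algebra.TensorProduct.map_tmul, thetaHom_tmul, thetaHom_tmul]
      change u' (algebraMap A' (Localization.AtPrime p') x) * v y = _
      rw [hu']
    | add x y hx hy => rw [map_add, map_add, hx, hy]
  have hρr : ∀ y : A₁, ρ (algebraMap A₁ (A' ⊗[A] A₁) y) = algebraMap A₁ Ahat y := by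
    intro y
    change ρ ((1 : A') ⊗ₜ[A] y) = (1 : Localization.AtPrime p') ⊗ₜ[A] y
    rw [Algebra.TensorProduct.map_tmul, map_one]
    rfl
  refine ⟨th'.comap ρ.toRingHom, (RingHom.ker θh).comap ρ.toRingHom, Ideal.comap_isPrime _ _,
    Ideal.comap_isPrime _ _, Ideal.comap_mono hle', ?_, ?_, ?_, ?_⟩
  · rw [← hρ, RingHom.comap_ker]
  · rw [RingHom.comap_ker, hρ, comap_left_ker_thetaHom, hu]
  · rw [RingHom.comap_ker, hρ, comap_right_ker_thetaHom, hv]
  · ext y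
    rw [Ideal.mem_comap, Ideal.mem_comap]
    change ρ (algebraMap A₁ (A' ⊗[A] A₁) y) ∈ th' ↔ _
    rw [hρr, hover'.over, Ideal.under_def, Ideal.mem_comap]

/-- A common field extension of the residue fields of two primes over the same prime. -/
theorem exists_common_field (p : Ideal A) [p.IsPrime] (p' : Ideal A') [p'.IsPrime]
    [hp' : p'.LiesOver p] (t₁ : Ideal A₁) [t₁.IsPrime] [ht₁ : t₁.LiesOver p] :
    ∃ (L : Type u) (_ : Field L) (u : A' →+* L) (v : A₁ →+* L),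
      (∀ a : A, u (algebraMap A A' a) = v (algebraMap A A₁ a)) ∧
      RingHom.ker u = p' ∧ RingHom.ker v = t₁ := by
  letI : Algebra p.ResidueField p'.ResidueField :=
    (Ideal.ResidueField.map p p' (algebraMap A A') hp'.over).toAlgebra
  letI : Algebra p.ResidueField t₁.ResidueField :=
    (Ideal.ResidueField.map p t₁ (algebraMap A A₁) ht₁.over).toAlgebra
  haveI : Nontrivial (p'.ResidueField ⊗[p.ResidueField] t₁.ResidueField) :=
    Algebra.TensorProduct.nontrivial_of_algebraMap_injective_of_flat_left _ _ _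
      (algebraMap p.ResidueField t₁.ResidueField).injective
  obtain ⟨𝔪, h𝔪⟩ := Ideal.exists_maximal (p'.ResidueField ⊗[p.ResidueField] t₁.ResidueField)
  letI : Field ((p'.ResidueField ⊗[p.ResidueField] t₁.ResidueField) ⧸ 𝔪) := Ideal.Quotient.field 𝔪
  let φ' : p'.ResidueField →+* (p'.ResidueField ⊗[p.ResidueField] t₁.ResidueField) ⧸ 𝔪 :=
    (Ideal.Quotient.mk 𝔪).comp Algebra.TensorProduct.includeLeftRingHom
  let φ₁ : t₁.ResidueField →+* (p'.ResidueField ⊗[p.ResidueField] t₁.ResidueField) ⧸ 𝔪 :=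
    (Ideal.Quotient.mk 𝔪).comp
      (Algebra.TensorProduct.includeRight (R := p.ResidueField) (A := p'.ResidueField)
        (B := t₁.ResidueField)).toRingHom
  refine ⟨_, inferInstance, φ'.comp (algebraMap A' p'.ResidueField),
    φ₁.comp (algebraMap A₁ t₁.ResidueField), ?_, ?_, ?_⟩
  · intro a
    have h1 : algebraMap A' p'.ResidueField (algebraMap A A' a) =
        algebraMap p.ResidueField p'.ResidueField (algebraMap A p.ResidueField a) :=
      (Ideal.ResidueField.map_algebraMap p p' (algebraMap A A') hp'.over a).symm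
    have h2 : algebraMap A₁ t₁.ResidueField (algebraMap A A₁ a) =
        algebraMap p.ResidueField t₁.ResidueField (algebraMap A p.ResidueField a) :=
      (Ideal.ResidueField.map_algebraMap p t₁ (algebraMap A A₁) ht₁.over a).symm
    change Ideal.Quotient.mk 𝔪 ((algebraMap A' p'.ResidueField (algebraMap A A' a)) ⊗ₜ 1) =
      Ideal.Quotient.mk 𝔪 (1 ⊗ₜ (algebraMap A₁ t₁.ResidueField (algebraMap A A₁ a)))
    rw [h1, h2]
    generalize algebraMap A p.ResidueField a = k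
    rw [Algebra.algebraMap_eq_smul_one (A := p'.ResidueField) k, TensorProduct.smul_tmul,
      ← Algebra.algebraMap_eq_smul_one]
  · ext x
    rw [RingHom.mem_ker, RingHom.comp_apply, map_eq_zero_iff φ' φ'.injective,
      Ideal.algebraMap_residueField_eq_zero]
  · ext x
    rw [RingHom.mem_ker, RingHom.comp_apply, map_eq_zero_iff φ₁ φ₁.injective,
      Ideal.algebraMap_residueField_eq_zero]

/-- In the elementary étale case the residue field of `p'` itself is a common field. -/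
theorem exists_etale_field (p : Ideal A) [p.IsPrime] (p' : Ideal A') [p'.IsPrime]
    [hp' : p'.LiesOver p] (t₁ : Ideal A₁) [t₁.IsPrime] (ht₁ : t₁.LiesOver p)
    (hbij : Function.Bijective (Ideal.ResidueField.mapₐ p t₁ (Algebra.ofId A A₁) ht₁.over)) :
    ∃ (v : A₁ →+* p'.ResidueField),
      (∀ a : A, algebraMap A' p'.ResidueField (algebraMap A A' a) = v (algebraMap A A₁ a)) ∧
      RingHom.ker v = t₁ := by
  let e : p.ResidueField ≃+* t₁.ResidueField :=
    RingEquiv.ofBijective (Ideal.ResidueField.map p t₁ (algebraMap A A₁) ht₁.over) hbij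
  let w : t₁.ResidueField →+* p'.ResidueField :=
    (Ideal.ResidueField.map p p' (algebraMap A A') hp'.over).comp e.symm.toRingHom
  refine ⟨w.comp (algebraMap A₁ t₁.ResidueField), ?_, ?_⟩
  · intro a
    have h2 : algebraMap A₁ t₁.ResidueField (algebraMap A A₁ a) =
        e (algebraMap A p.ResidueField a) :=
      (Ideal.ResidueField.map_algebraMap p t₁ (algebraMap A A₁) ht₁.over a).symm
    change _ = (Ideal.ResidueField.map p p' (algebraMap A A') hp'.over)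
      (e.symm (algebraMap A₁ t₁.ResidueField (algebraMap A A₁ a)))
    rw [h2, RingEquiv.symm_apply_apply, Ideal.ResidueField.map_algebraMap]
  · ext x
    rw [RingHom.mem_ker, RingHom.comp_apply, map_eq_zero_iff w w.injective,
      Ideal.algebraMap_residueField_eq_zero]

/-- In the elementary étale case, the prime `ker θ` has the same residue field as `p'`. -/
theorem bijective_residueField_map (p' : Ideal A') [p'.IsPrime] (v : A₁ →+* p'.ResidueField)
    (hcompat : ∀ a : A, algebraMap A' p'.ResidueField (algebraMap A A' a) = v (algebraMap A A₁ a))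
    (t₂ : Ideal (A' ⊗[A] A₁)) [t₂.IsPrime]
    (ht₂ : t₂ = RingHom.ker (thetaHom (algebraMap A' p'.ResidueField) v hcompat))
    (hover : p' = t₂.comap (algebraMap A' (A' ⊗[A] A₁))) :
    Function.Bijective (Ideal.ResidueField.map p' t₂ (algebraMap A' (A' ⊗[A] A₁)) hover) := by
  set θ := thetaHom (algebraMap A' p'.ResidueField) v hcompat with hθ
  have h1 : t₂ ≤ RingHom.ker θ := ht₂.le
  have h2 : t₂.primeCompl ≤ (IsUnit.submonoid p'.ResidueField).comap θ := by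
    intro x hx
    change IsUnit (θ x)
    rw [isUnit_iff_ne_zero, ne_eq, ← RingHom.mem_ker, ← ht₂]
    exact hx
  let θb : t₂.ResidueField →+* p'.ResidueField := Ideal.ResidueField.lift t₂ θ h1 h2
  set ι := Ideal.ResidueField.map p' t₂ (algebraMap A' (A' ⊗[A] A₁)) hover with hι
  have hcomp : θb.comp ι = RingHom.id _ := by
    apply Ideal.ResidueField.ringHom_ext
    ext x
    change θb (ι (algebraMap A' p'.ResidueField x)) = algebraMap A' p'.ResidueField x
    rw [hι, Ideal.ResidueField.map_algebraMap, Ideal.ResidueField.lift_algebraMap, hθ,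
      Algebra.TensorProduct.algebraMap_apply, thetaHom_tmul, map_one, mul_one]
    rfl
  refine ⟨ι.injective, fun z => ⟨θb z, ?_⟩⟩
  apply θb.injective
  have := congrArg (fun f => f (θb z)) hcomp
  simpa using this

end ExistsPrimes

end Groth.Agent.Lib.PurityBC7
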