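import Groth.Agent.Lib.QCohStalk
import Groth.Agent.Lib.LocFreeFP
import Groth.Agent.Lib.H90OXModAffine
import Mathlib.RingTheory.LocalProperties.Projective
import Mathlib.RingTheory.Localization.Finiteness

/-!
# helper81: quasi-coherent modules with finite projective sections are finite locally free

* `free_stalk_of_projective_sections`: for a quasi-coherent module whose sections over an affine
  open `U` are finite projective, the stalks at points of `U` are free.
* `isFinLocFree_of_affine_cover_projective`: a quasi-coherent module whose sections over the members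
  of an affine open cover are finite projective is finite locally free.
-/

set_option autoImplicit false
set_option linter.style.haveILetI false
universe u
open CategoryTheory CategoryTheory.Limits AlgebraicGeometry TopologicalSpace Opposite

namespace Groth.Agent.Lib.QCohLocFree81

open Groth.Agent.Lib.QCohStalk

variable {X : Scheme.{u}}

theorem free_stalk_of_projective_sections (M : X.Modules) [M.IsQuasicoherent] {U : X.Opens}
    (hU : IsAffineOpen U) [Module.Finite Γ(X, U) Γ(M, U)] [Module.Projective Γ(X, U) Γ(M, U)]
    (x : U) : Module.Free (X.presheaf.stalk (x : X)) (M.presheaf.stalk (x : X)) := by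
  letI := moduleSectionStalk M x
  haveI := isScalarTower_sectionStalk M x
  haveI := hU.isLocalization_stalk x
  haveI := isLocalizedModule_germ M hU x
  haveI : Module.Projective (X.presheaf.stalk (x : X)) (M.presheaf.stalk (x : X)) :=
    Module.projective_of_isLocalizedModule (hU.primeIdealOf x).asIdeal.primeCompl (germLinear M x)
  haveI : Module.Finite (X.presheaf.stalk (x : X)) (M.presheaf.stalk (x : X)) :=
    Module.Finite.of_isLocalizedModule (hU.primeIdealOf x).asIdeal.primeCompl (germLinear M x)
  exact Module.free_of_flat_of_isLocalRing

theorem isFinLocFree_of_affine_cover_projective (M : X.Modules) [M.IsQuasicoherent] {ι : Type u}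
    (U : ι → X.Opens) (hU : ⨆ i, U i = ⊤) (hA : ∀ i, IsAffineOpen (U i))
    (hf : ∀ i, Module.Finite Γ(X, U i) Γ(M, U i))
    (hp : ∀ i, Module.Projective Γ(X, U i) Γ(M, U i)) : FlatMod.IsFinLocFree M := by
  have hFP : CohB1.IsFP M :=
    Groth.Agent.Lib.H90OXModAffine.isFinitePresentation_of_affine_cover M U hU hA fun i =>
      haveI := hf i
      haveI := hp i
      Module.finitePresentation_of_projective _ _
  refine Groth.Agent.Lib.LocFreeFP.isFinLocFree_of_isFP_of_free M hFP fun x => ?_
  obtain ⟨i, hxi⟩ := Opens.mem_iSup.mp (hU.ge (Set.mem_univ x))
  haveI := hf i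
  haveI := hp i
  exact free_stalk_of_projective_sections M (hA i) ⟨x, hxi⟩

end Groth.Agent.Lib.QCohLocFree81
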