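import Groth.Agent.Lib.H87ConormalMono
import Groth.Agent.Lib.QCohLocFree81

/-!
# helper87: the conormal sheaf of an `H_1`-regular quasi-compact immersion is finite locally free

* `free_of_isH1Regular`: ring level, `I/I²` (in base change form) is finite free over `B/I` when `I` is
  generated by an `H_1`-regular sequence.
* `isFinLocFree_conormal_of_h1`.
-/

set_option autoImplicit false
set_option linter.style.haveILetI false
set_option linter.unusedSectionVars false
universe u

open CategoryTheory AlgebraicGeometry TopologicalSpace Opposite TensorProduct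

namespace Groth.Agent.Lib.H87ConormalFree

open Groth.Agent.Lib.H87ConormalMono

section ring

theorem exists_of_mem_mul_span {B : Type*} [CommRing B] (K : Ideal B) {n : ℕ} (f : Fin n → B) (w : B)
    (hw : w ∈ K * Ideal.span (Set.range f)) :
    ∃ b : Fin n → B, (∀ i, b i ∈ K) ∧ w = ∑ i, b i * f i := by
  induction hw using Submodule.mul_induction_on' with
  | mem_mul_mem r hr s hs =>
    rw [Ideal.mem_span_range_iff_exists_fun] at hs
    obtain ⟨c, rfl⟩ := hs
    refine ⟨fun i => r * c i, fun i => Ideal.mul_mem_right _ _ hr, ?_⟩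
    rw [Finset.mul_sum]
    exact Finset.sum_congr rfl fun i _ => (mul_assoc _ _ _).symm
  | add x _ y _ hx hy =>
    obtain ⟨b, hb, rfl⟩ := hx
    obtain ⟨c, hc, rfl⟩ := hy
    refine ⟨b + c, fun i => Ideal.add_mem _ (hb i) (hc i), ?_⟩
    simp only [Pi.add_apply, add_mul, Finset.sum_add_distrib]

theorem coord_mem_of_mem_span_trivRel {B : Type*} [CommRing B] {n : ℕ} (f : Fin n → B)
    (v : Fin n → B) (hv : v ∈ Submodule.span B (trivRelSet f)) (k : Fin n) :
    v k ∈ Ideal.span (Set.range f) := by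
  induction hv using Submodule.span_induction with
  | mem x hx =>
    obtain ⟨i, j, rfl⟩ := hx
    simp only [Pi.sub_apply, Pi.single_apply]
    refine Ideal.sub_mem _ ?_ ?_
    · split_ifs
      · exact Ideal.subset_span ⟨j, rfl⟩
      · exact Ideal.zero_mem _
    · split_ifs
      · exact Ideal.subset_span ⟨i, rfl⟩
      · exact Ideal.zero_mem _
  | zero => exact Ideal.zero_mem _
  | add x y _ _ hx hy => exact Ideal.add_mem _ hx hy
  | smul a x _ hx => exact Ideal.mul_mem_left _ _ hx

variable {B A : Type u} [CommRing B] [CommRing A] [Algebra B A]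
  {M : Type u} [AddCommGroup M] [Module A M] [Module B M] [IsScalarTower B A M]

/-- `I/I²` is finite free when `I` is generated by an `H_1`-regular sequence (base change form). -/
theorem free_of_isH1Regular (hsurj : Function.Surjective (algebraMap B A)) {n : ℕ} (g : Fin n → B)
    (hg : CAlgX.IsH1Regular g)
    (hker : RingHom.ker (algebraMap B A) = Ideal.span (Set.range g))
    (uI : RingHom.ker (algebraMap B A) →ₗ[B] M) (huI : IsBaseChange A uI) :
    Module.Free A M ∧ Module.Finite A M := by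
  classical
  have hgJ : ∀ i, g i ∈ RingHom.ker (algebraMap B A) := fun i => by
    rw [hker]; exact Ideal.subset_span ⟨i, rfl⟩
  let v : Fin n → M := fun i => uI ⟨g i, hgJ i⟩
  let Ψ : (Fin n → A) →ₗ[A] M := Fintype.linearCombination A v
  have hΨ : ∀ c : Fin n → A, Ψ c = ∑ i, c i • v i := fun c =>
    Fintype.linearCombination_apply A v c
  have hΨB : ∀ a : Fin n → B, Ψ (fun i => algebraMap B A (a i)) =
      uI ⟨∑ i, a i * g i, Ideal.sum_mem _ fun i _ => Ideal.mul_mem_left _ _ (hgJ i)⟩ := by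
    intro a
    rw [hΨ]
    have : (⟨∑ i, a i * g i, Ideal.sum_mem _ fun i _ => Ideal.mul_mem_left _ _ (hgJ i)⟩ :
        RingHom.ker (algebraMap B A)) = ∑ i, a i • (⟨g i, hgJ i⟩ : RingHom.ker (algebraMap B A)) := by
      apply Subtype.ext
      simp
    rw [this, map_sum]
    refine Finset.sum_congr rfl fun i _ => ?_
    rw [map_smul, algebraMap_smul]
  have hbij : Function.Bijective Ψ := by
    constructor
    · rw [injective_iff_map_eq_zero]
      intro c hc
      choose a ha using fun i => hsurj (c i)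
      have hc' : c = fun i => algebraMap B A (a i) := funext fun i => (ha i).symm
      rw [hc', hΨB] at hc
      have h1 := mem_smul_top_of_isBaseChange hsurj uI huI _ hc
      have h2 : ∑ i, a i * g i ∈ RingHom.ker (algebraMap B A) * Ideal.span (Set.range g) := by
        have h3 : ∑ i, a i * g i ∈
            RingHom.ker (algebraMap B A) * RingHom.ker (algebraMap B A) := by
          rw [← map_subtype_smul_top]
          exact ⟨_, h1, rfl⟩
        rwa [← hker]
      obtain ⟨b, hb, hb'⟩ := exists_of_mem_mul_span _ g _ h2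
      have hrel : ∑ i, (a i - b i) * g i = 0 := by
        simp only [sub_mul, Finset.sum_sub_distrib, hb', sub_self]
      have h4 := hg (fun i => a i - b i) hrel
      have hset : {v : Fin n → B | ∃ i j : Fin n, v = Pi.single i (g j) - Pi.single j (g i)} =
          trivRelSet g := rfl
      rw [hset] at h4
      rw [hc']
      funext i
      have h5 := coord_mem_of_mem_span_trivRel g _ h4 i
      rw [← hker] at h5
      have h6 : a i ∈ RingHom.ker (algebraMap B A) := by
        have : a i = (a i - b i) + b i := by ring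
        rw [this]
        exact Ideal.add_mem _ h5 (hb i)
      exact RingHom.mem_ker.mp h6
    · intro m
      refine huI.inductionOn m (fun m => ∃ c, Ψ c = m) ⟨0, map_zero _⟩ ?_ ?_ ?_
      · intro x
        have hx : (x : B) ∈ Ideal.span (Set.range g) := by rw [← hker]; exact x.2
        rw [Ideal.mem_span_range_iff_exists_fun] at hx
        obtain ⟨a, ha⟩ := hx
        refine ⟨fun i => algebraMap B A (a i), ?_⟩
        rw [hΨB]
        congr 1
        exact Subtype.ext ha
      · rintro a _ ⟨c, rfl⟩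
        exact ⟨a • c, map_smul _ _ _⟩
      · rintro _ _ ⟨c, rfl⟩ ⟨d, rfl⟩
        exact ⟨c + d, map_add _ _ _⟩
  let e : (Fin n → A) ≃ₗ[A] M := LinearEquiv.ofBijective Ψ hbij
  exact ⟨Module.Free.of_equiv e, Module.Finite.equiv e⟩

end ring

section geo

open Groth.Agent.Lib.OmegaDer81 Groth.Agent.Lib.QCohStalk Groth.Agent.Lib.IdealMod
  Groth.Agent.Lib.UnitBaseChange Groth.Agent.Lib.Conormal81

variable {Z Y : Scheme.{u}} (i : Z ⟶ Y) [IsImmersion i] [QuasiCompact i]

theorem exists_chart_free (z : Z) (h1 : H1At i z) :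
    ∃ V : Y.Opens, IsGoodChart i V ∧ z ∈ i ⁻¹ᵁ V ∧ ∃ (n : ℕ) (g : Fin n → Γ(Y, V)),
      CAlgX.IsH1Regular g ∧ RingHom.ker (i.app V).hom = Ideal.span (Set.range g) := by
  obtain ⟨UY, hUY, hzUY, n, g, hg, hker⟩ := h1
  obtain ⟨U₀, hU₀, hzU₀, -⟩ := exists_goodChart i z ⊤ trivial
  obtain ⟨a, r, har, hza⟩ := exists_basicOpen_le_affine_inter hU₀.1 hUY (i z) ⟨hzU₀, hzUY⟩
  have hle : Y.basicOpen a ≤ UY := by rw [har]; exact Y.basicOpen_le r
  refine ⟨Y.basicOpen a, hU₀.basicOpen a, hza, n, fun k => resO Y hle (g k), ?_⟩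
  exact restrict_h1 i hUY r _ har hle g hg hker

set_option backward.isDefEq.respectTransparency false in
theorem free_sections_chart {V : Y.Opens} (hV : IsGoodChart i V) {n : ℕ} (g : Fin n → Γ(Y, V))
    (hg : CAlgX.IsH1Regular g) (hker : RingHom.ker (i.app V).hom = Ideal.span (Set.range g)) :
    Module.Free Γ(Z, i ⁻¹ᵁ V) Γ(Omega.conormal i, i ⁻¹ᵁ V) ∧
      Module.Finite Γ(Z, i ⁻¹ᵁ V) Γ(Omega.conormal i, i ⁻¹ᵁ V) := by
  have hWa : IsAffineOpen (i ⁻¹ᵁ V) := hV.isAffineOpen_preimage
  have hW : i ⁻¹ᵁ V = i ⁻¹ᵁ V := rfl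
  letI : Algebra Γ(Y, V) Γ(Z, i ⁻¹ᵁ V) := (i.appLE V (i ⁻¹ᵁ V) hW.ge).hom.toAlgebra
  letI : Module Γ(Y, V) Γ((Scheme.Modules.pullback i).obj (ClSub.idealMod i.ker), i ⁻¹ᵁ V) :=
    Module.compHom _ (i.appLE V (i ⁻¹ᵁ V) hW.ge).hom
  haveI : IsScalarTower Γ(Y, V) Γ(Z, i ⁻¹ᵁ V)
      Γ((Scheme.Modules.pullback i).obj (ClSub.idealMod i.ker), i ⁻¹ᵁ V) :=
    .of_algebraMap_smul fun _ _ => rfl
  obtain ⟨uI, hI, -⟩ := exists_uI i hV.1 hWa hW
  have hBA : Function.Surjective (algebraMap Γ(Y, V) Γ(Z, i ⁻¹ᵁ V)) :=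
    appLE_surjective_of_eq i hV.app_surjective hW
  have hker' : RingHom.ker (algebraMap Γ(Y, V) Γ(Z, i ⁻¹ᵁ V)) = Ideal.span (Set.range g) := by
    rw [← hker]
    change RingHom.ker (i.appLE V (i ⁻¹ᵁ V) le_rfl).hom = _
    rw [← Scheme.Hom.app_eq_appLE]
  have key : Module.Free Γ(Z, i ⁻¹ᵁ V)
      Γ((Scheme.Modules.pullback i).obj (ClSub.idealMod i.ker), i ⁻¹ᵁ V) ∧
      Module.Finite Γ(Z, i ⁻¹ᵁ V)
        Γ((Scheme.Modules.pullback i).obj (ClSub.idealMod i.ker), i ⁻¹ᵁ V) :=
    free_of_isH1Regular hBA g hg hker' uI hI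
  exact key

theorem isFinLocFree_conormal_of_h1 (h1 : ∀ z : Z, H1At i z) :
    FlatMod.IsFinLocFree (Omega.conormal i) := by
  let ι : Type u := {V : Y.Opens // IsGoodChart i V ∧ ∃ (n : ℕ) (g : Fin n → Γ(Y, V)),
    CAlgX.IsH1Regular g ∧ RingHom.ker (i.app V).hom = Ideal.span (Set.range g)}
  haveI : (Omega.conormal i).IsQuasicoherent := by
    unfold Omega.conormal
    infer_instance
  refine Groth.Agent.Lib.QCohLocFree81.isFinLocFree_of_affine_cover_projective (Omega.conormal i)
    (fun V : ι => i ⁻¹ᵁ V.1) ?_ (fun V => V.2.1.isAffineOpen_preimage) ?_ ?_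
  · rw [eq_top_iff]
    intro z _
    obtain ⟨V, hV, hzV, h⟩ := exists_chart_free i z (h1 z)
    exact Opens.mem_iSup.mpr ⟨⟨V, hV, h⟩, hzV⟩
  · rintro ⟨V, hV, n, g, hg, hker⟩
    exact (free_sections_chart i hV g hg hker).2
  · rintro ⟨V, hV, n, g, hg, hker⟩
    haveI := (free_sections_chart i hV g hg hker).1
    infer_instance

end geo

end Groth.Agent.Lib.H87ConormalFree
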