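import Mathlib

/-!
# Number of local generators under flat base change (helper32)

Pure commutative algebra (Mathlib only):

* `exists_not_mem_one_sub_mul`: for `r < m`, an `m × r` matrix `C` and an `r × m` matrix `D` over a
  ring with a proper ideal `𝔪`, some entry of `1 - C * D` is not in `𝔪`;
* `exists_nearGen`: `A → B` flat, `I` a finitely generated ideal of `A`, `𝔮` a prime of `B`; if
  `I B_𝔮` is generated by `r` elements then there are `n ≤ r`, `v : Fin n → I` and `a` with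
  `a ∉ 𝔮` such that `a I ⊆ (v)` (so `I` is generated by the `v i` on `D(a)`).
-/

set_option autoImplicit false
universe u

namespace Groth.Agent.Lib.KRDescB

section matrix

variable {R : Type u} [CommRing R]

theorem exists_not_mem_one_sub_mul (𝔪 : Ideal R) (h𝔪 : 𝔪 ≠ ⊤) {m r : ℕ} (hrm : r < m)
    (C : Matrix (Fin m) (Fin r) R) (D : Matrix (Fin r) (Fin m) R) :
    ∃ i k, ((1 : Matrix (Fin m) (Fin m) R) - C * D) i k ∉ 𝔪 := by
  by_contra hcon
  push_neg at hcon
  have : Nontrivial (R ⧸ 𝔪) := Ideal.Quotient.nontrivial_iff.mpr h𝔪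
  let π := Ideal.Quotient.mk 𝔪
  have h1 : (C.map π) * (D.map π) = 1 := by
    rw [← Matrix.map_mul]
    ext i k
    have h2 := hcon i k
    rw [Matrix.sub_apply, ← Ideal.Quotient.eq] at h2
    rw [Matrix.map_apply, ← h2]
    by_cases hik : i = k
    · subst hik
      simp
    · simp [Matrix.one_apply_ne hik]
  have hsurj : Function.Surjective (Matrix.toLin' (C.map π)) := by
    intro y
    refine ⟨Matrix.toLin' (D.map π) y, ?_⟩
    rw [← LinearMap.comp_apply, ← Matrix.toLin'_mul, h1, Matrix.toLin'_one]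
    rfl
  have := le_of_fin_surjective (R ⧸ 𝔪) (Matrix.toLin' (C.map π)) hsurj
  omega

end matrix

section nearGen

variable {A B : Type u} [CommRing A] [CommRing B] [Algebra A B]

/-- `v` lies in `I` and generates `I` on `D(a)` -/
def NearGen (I : Ideal A) (a : A) {n : ℕ} (v : Fin n → A) : Prop :=
  (∀ i, v i ∈ I) ∧ ∀ x ∈ I, a * x ∈ Ideal.span (Set.range v)

theorem NearGen.map_eq {I : Ideal A} {a : A} {n : ℕ} {v : Fin n → A} (h : NearGen I a v)
    {T : Type*} [CommRing T] (φ : A →+* T) (ha : IsUnit (φ a)) :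
    I.map φ = Ideal.span (Set.range (φ ∘ v)) := by
  apply le_antisymm
  · rw [Ideal.map_le_iff_le_comap]
    intro x hx
    rw [Ideal.mem_comap]
    have h1 := Ideal.mem_map_of_mem φ (h.2 x hx)
    rw [Ideal.map_span, ← Set.range_comp, map_mul] at h1
    exact (Ideal.unit_mul_mem_iff_mem _ ha).mp h1
  · rw [Ideal.span_le]
    rintro _ ⟨i, rfl⟩
    exact Ideal.mem_map_of_mem φ (h.1 i)

theorem NearGen.mul {I : Ideal A} {a : A} {n : ℕ} {v : Fin n → A} (h : NearGen I a v) (b : A) :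
    NearGen I (a * b) v :=
  ⟨h.1, fun x hx => by
    rw [mul_comm a b, mul_assoc]
    exact Ideal.mul_mem_left _ _ (h.2 x hx)⟩

/-- spreading out: if `I A_𝔭 ⊆ (w) A_𝔭` for a finitely generated `I` then `a I ⊆ (w)` for some
`a ∉ 𝔭` -/
theorem exists_mul_mem_of_map_le (I : Ideal A) (hI : I.FG) (𝔭 : Ideal A) [𝔭.IsPrime]
    (K : Ideal A)
    (hle : I.map (algebraMap A (Localization.AtPrime 𝔭)) ≤
      K.map (algebraMap A (Localization.AtPrime 𝔭))) :
    ∃ a : A, a ∉ 𝔭 ∧ ∀ x ∈ I, a * x ∈ K := by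
  classical
  obtain ⟨N, s, hs⟩ := Submodule.fg_iff_exists_fin_generating_family.mp hI
  have h1 : ∀ t : Fin N, ∃ b : A, b ∉ 𝔭 ∧ b * s t ∈ K := by
    intro t
    have hst : s t ∈ I := by
      rw [← hs]
      exact Submodule.subset_span ⟨t, rfl⟩
    have h2 := hle (Ideal.mem_map_of_mem _ hst)
    rw [IsLocalization.mem_map_algebraMap_iff 𝔭.primeCompl] at h2
    obtain ⟨⟨x, m⟩, hxm⟩ := h2
    rw [← map_mul, IsLocalization.eq_iff_exists 𝔭.primeCompl] at hxm
    obtain ⟨c, hc⟩ := hxm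
    refine ⟨c * m, 𝔭.primeCompl.mul_mem c.2 m.2, ?_⟩
    have : (c : A) * (m : A) * s t = c * x := by
      rw [← hc]
      ring
    rw [this]
    exact Ideal.mul_mem_left _ _ x.2
  choose b hb1 hb2 using h1
  refine ⟨∏ t, b t, ?_, ?_⟩
  · intro hmem
    rw [Ideal.IsPrime.prod_mem_iff] at hmem
    obtain ⟨t, _, ht⟩ := hmem
    exact hb1 t ht
  · intro x hx
    rw [← hs] at hx
    refine Submodule.span_induction ?_ ?_ ?_ ?_ hx
    · rintro _ ⟨t, rfl⟩
      obtain ⟨q, hq⟩ := Finset.dvd_prod_of_mem b (Finset.mem_univ t)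
      rw [hq, mul_comm (b t) q, mul_assoc]
      exact Ideal.mul_mem_left _ _ (hb2 t)
    · rw [mul_zero]
      exact Ideal.zero_mem _
    · intro x y _ _ hx hy
      rw [mul_add]
      exact Ideal.add_mem _ hx hy
    · intro c x _ hx
      rw [smul_eq_mul, mul_left_comm]
      exact Ideal.mul_mem_left _ _ hx

/-- dropping a redundant generator over a local ring -/
theorem span_succAbove_eq {T : Type*} [CommRing T] [IsLocalRing T] {k r : ℕ} (hrk : r < k + 1)
    (w : Fin (k + 1) → T) (h : Fin r → T)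
    (hwh : Ideal.span (Set.range w) = Ideal.span (Set.range h)) :
    ∃ k₀ : Fin (k + 1), Ideal.span (Set.range (w ∘ k₀.succAbove)) = Ideal.span (Set.range w) := by
  classical
  have h1 : ∀ i, ∃ c : Fin r → T, ∑ j, c j * h j = w i := fun i => by
    rw [← Ideal.mem_span_range_iff_exists_fun, ← hwh]
    exact Ideal.subset_span ⟨i, rfl⟩
  have h2 : ∀ j, ∃ d : Fin (k + 1) → T, ∑ i, d i * w i = h j := fun j => by
    rw [← Ideal.mem_span_range_iff_exists_fun, hwh]
    exact Ideal.subset_span ⟨j, rfl⟩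
  choose c hc using h1
  choose d hd using h2
  let C : Matrix (Fin (k + 1)) (Fin r) T := Matrix.of c
  let D : Matrix (Fin r) (Fin (k + 1)) T := Matrix.of d
  have hDw : D.mulVec w = h := by
    funext j
    exact hd j
  have hCh : C.mulVec h = w := by
    funext i
    exact hc i
  have hrel : ((1 : Matrix (Fin (k + 1)) (Fin (k + 1)) T) - C * D).mulVec w = 0 := by
    rw [Matrix.sub_mulVec, Matrix.one_mulVec, ← Matrix.mulVec_mulVec, hDw, hCh, sub_self]
  obtain ⟨i, k₀, hik⟩ := exists_not_mem_one_sub_mul (IsLocalRing.maximalIdeal T)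
    (Ideal.IsPrime.ne_top inferInstance) hrk C D
  have hu : IsUnit (((1 : Matrix (Fin (k + 1)) (Fin (k + 1)) T) - C * D) i k₀) := by
    rwa [IsLocalRing.mem_maximalIdeal, mem_nonunits_iff, not_not] at hik
  refine ⟨k₀, le_antisymm (Ideal.span_mono (Set.range_comp_subset_range _ _)) ?_⟩
  have hk₀ : w k₀ ∈ Ideal.span (Set.range (w ∘ k₀.succAbove)) := by
    have h3 := congrFun hrel i
    rw [Matrix.mulVec, dotProduct, Fin.sum_univ_succAbove _ k₀, Pi.zero_apply] at h3
    have h4 : ((1 : Matrix (Fin (k + 1)) (Fin (k + 1)) T) - C * D) i k₀ * w k₀ =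
        -∑ j, ((1 : Matrix (Fin (k + 1)) (Fin (k + 1)) T) - C * D) i (k₀.succAbove j) *
          w (k₀.succAbove j) := eq_neg_of_add_eq_zero_left h3
    rw [← Ideal.unit_mul_mem_iff_mem _ hu, h4]
    refine Ideal.neg_mem_iff _ |>.mpr (Ideal.sum_mem _ fun j _ => ?_)
    exact Ideal.mul_mem_left _ _ (Ideal.subset_span ⟨j, rfl⟩)
  rw [Ideal.span_le]
  rintro _ ⟨k', rfl⟩
  rcases Fin.eq_self_or_eq_succAbove k₀ k' with rfl | ⟨j, rfl⟩
  · exact hk₀
  · exact Ideal.subset_span ⟨j, rfl⟩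

/-- **number of local generators descends along flat maps** -/
theorem exists_nearGen [Module.Flat A B] (I : Ideal A) (hI : I.FG) (𝔮 : Ideal B) [𝔮.IsPrime]
    (r : ℕ) (h : Fin r → Localization.AtPrime 𝔮)
    (hh : Ideal.span (Set.range h) = I.map (algebraMap A (Localization.AtPrime 𝔮))) :
    ∃ n ≤ r, ∃ (v : Fin n → A) (a : A), algebraMap A B a ∉ 𝔮 ∧ NearGen I a v := by
  classical
  let P : ℕ → Prop := fun n => ∃ (v : Fin n → A) (a : A), algebraMap A B a ∉ 𝔮 ∧ NearGen I a v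
  have hP : ∃ n, P n := by
    obtain ⟨n, s, hs⟩ := Submodule.fg_iff_exists_fin_generating_family.mp hI
    refine ⟨n, s, 1, ?_, ?_, ?_⟩
    · rw [map_one]
      exact fun h1 => (Ideal.IsPrime.ne_top inferInstance) ((Ideal.eq_top_iff_one _).mpr h1)
    · intro i
      rw [← hs]
      exact Submodule.subset_span ⟨i, rfl⟩
    · intro x hx
      rw [one_mul]
      rw [← hs] at hx
      exact hx
  obtain ⟨n₀, hn₀, hmin⟩ : ∃ n₀, P n₀ ∧ ∀ m < n₀, ¬ P m :=
    ⟨Nat.find hP, Nat.find_spec hP, fun m hm => Nat.find_min hP hm⟩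
  refine ⟨n₀, ?_, hn₀⟩
  by_contra hlt
  rw [not_le] at hlt
  obtain ⟨v, a, ha, hv⟩ := hn₀
  rcases n₀ with _ | k
  · omega
  let B' := Localization.AtPrime 𝔮
  let ψ : A →+* B' := algebraMap A B'
  have hunit : IsUnit (ψ a) := by
    show IsUnit (algebraMap A B' a)
    rw [IsScalarTower.algebraMap_apply A B B']
    exact (IsLocalization.AtPrime.isUnit_to_map_iff B' 𝔮 _).mpr ha
  have hJ : I.map ψ = Ideal.span (Set.range (ψ ∘ v)) := hv.map_eq ψ hunit
  obtain ⟨k₀, hk₀⟩ := span_succAbove_eq hlt (ψ ∘ v) h (by rw [← hJ, hh])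
  -- contraction to `A_𝔭`
  let 𝔭 : Ideal A := 𝔮.under A
  let _ := Localization.AtPrime.algebraOfLiesOver 𝔭 𝔮
  have : IsLocalHom (algebraMap (Localization.AtPrime 𝔭) (Localization.AtPrime 𝔮)) := by
    rw [RingHom.algebraMap_toAlgebra]
    exact Localization.isLocalHom_localRingHom 𝔭 𝔮 (algebraMap A B) Ideal.LiesOver.over
  have : Module.FaithfullyFlat (Localization.AtPrime 𝔭) (Localization.AtPrime 𝔮) :=
    Module.FaithfullyFlat.of_flat_of_isLocalHom
  have heq : I.map (algebraMap A (Localization.AtPrime 𝔭)) =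
      (Ideal.span (Set.range (v ∘ k₀.succAbove))).map (algebraMap A (Localization.AtPrime 𝔭)) := by
    apply Ideal.map_injective_of_faithfullyFlat (A := Localization.AtPrime 𝔭)
      (B := Localization.AtPrime 𝔮)
    rw [Ideal.map_map, Ideal.map_map,
      ← IsScalarTower.algebraMap_eq A (Localization.AtPrime 𝔭) (Localization.AtPrime 𝔮)]
    show I.map ψ = (Ideal.span (Set.range (v ∘ k₀.succAbove))).map ψ
    rw [hJ, Ideal.map_span, ← Set.range_comp, ← hk₀]
    rfl
  obtain ⟨a', ha', hx'⟩ := exists_mul_mem_of_map_le I hI 𝔭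
    (Ideal.span (Set.range (v ∘ k₀.succAbove))) heq.le
  refine hmin k (Nat.lt_succ_self k) ⟨v ∘ k₀.succAbove, a', ?_, fun j => hv.1 _, hx'⟩
  exact fun hmem => ha' hmem

end nearGen

end Groth.Agent.Lib.KRDescB
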