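import Groth.Agent.Lib.KoszulIdeal
import Groth.Agent.Lib.KoszulRel2

/-!
# Exchange lemma for local generators of an ideal (helper19)

* `lc l a`: the linear combination `∑ l_i a_i`; `mem_ofList_iff`;
* `mem_ofList_cons_of_mul_mem`: if `y :: l` is Koszul-regular and `c y ∈ (l)` then `c ∈ (y, l)`;
* `LocGen 𝔮 K l`: the elements of `l` lie in `K` and generate `K` on a basic open neighbourhood
  of `𝔮`;
* `LocGen.exchange`: Steinitz exchange: elements `zs` of `K`, "independent modulo `𝔮 K`", can
  replace as many elements of a local generating list.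
-/

set_option autoImplicit false
universe u

namespace Groth.Agent.Lib.KoszulExchange

open Groth.Agent.Lib.KoszulQuot Groth.Agent.Lib.KoszulIdeal

variable {A : Type u} [CommRing A]

/-- linear combination of a list -/
def lc (l : List A) (a : ℕ → A) : A := ∑ i ∈ Finset.range l.length, l.getD i 0 * a i

theorem lc_nil (a : ℕ → A) : lc [] a = 0 := by simp [lc]

theorem lc_cons (x : A) (l : List A) (a : ℕ → A) :
    lc (x :: l) a = x * a 0 + lc l (fun i => a (i + 1)) := by
  unfold lc
  rw [List.length_cons, Finset.sum_range_succ', add_comm]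
  simp

theorem mem_ofList_iff (l : List A) : ∀ x : A, x ∈ Ideal.ofList l ↔ ∃ a : ℕ → A, x = lc l a := by
  induction l with
  | nil =>
    intro x
    rw [Ideal.ofList_nil, Ideal.mem_bot]
    constructor
    · intro h
      exact ⟨fun _ => 0, by rw [h, lc_nil]⟩
    · rintro ⟨a, ha⟩
      rw [ha, lc_nil]
  | cons y l ih =>
    intro x
    rw [Ideal.ofList_cons, Ideal.mem_span_singleton_sup]
    constructor
    · rintro ⟨c, w, hw, rfl⟩
      obtain ⟨a, rfl⟩ := (ih w).mp hw
      refine ⟨fun i => Nat.casesOn i c a, ?_⟩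
      rw [lc_cons, mul_comm]
      rfl
    · rintro ⟨a, rfl⟩
      refine ⟨a 0, lc l (fun i => a (i + 1)), (ih _).mpr ⟨_, rfl⟩, ?_⟩
      rw [lc_cons, mul_comm]

/-- relations of a Koszul-regular sequence are trivial: first element -/
theorem mem_ofList_cons_of_mul_mem (y : A) (l : List A) (h : LCI.IsKoszulRegularSeq A (y :: l))
    (c : A) (hc : c * y ∈ Ideal.ofList l) : c ∈ Ideal.ofList (y :: l) := by
  obtain ⟨b, hb⟩ := (mem_ofList_iff l _).mp hc
  have hH : CategoryTheory.Limits.IsZero
      ((CohIII.koszulCx (ModuleCat.of A A) (y :: l)).homology (-1)) := by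
    rw [← Groth.Agent.Lib.KoszulRel.koszul_eq]
    exact h (-1) (by norm_num)
  let a : ℕ → (ModuleCat.of A A) := fun i => Nat.casesOn i c (fun j => -b j)
  have ha : ∑ i ∈ Finset.range (y :: l).length, (y :: l).getD i 0 • a i = 0 := by
    have h1 : ∑ i ∈ Finset.range (y :: l).length, (y :: l).getD i 0 • a i = lc (y :: l) a := rfl
    rw [h1, lc_cons]
    show y * c + lc l (fun i => -b i) = 0
    have h2 : lc l (fun i => -b i) = -lc l b := by
      unfold lc
      rw [← Finset.sum_neg_distrib]
      exact Finset.sum_congr rfl (fun i _ => mul_neg _ _)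
    rw [h2, ← hb]
    ring
  have h3 := Groth.Agent.Lib.KoszulRel.mem_of_sum_eq_zero (ModuleCat.of A A) (y :: l) hH a ha 0
    (by simp)
  exact (Groth.Agent.Lib.KoszulReduce.mem_smul_top_self_iff _ _).mp h3

/-- relations of a Koszul-regular sequence are trivial: any element -/
theorem mem_ofList_of_mul_mem (pre post : List A) (y : A)
    (h : LCI.IsKoszulRegularSeq A (pre ++ y :: post)) (c : A)
    (hc : c * y ∈ Ideal.ofList pre ⊔ Ideal.ofList post) : c ∈ Ideal.ofList (pre ++ y :: post) := by
  have hp : (pre ++ y :: post).Perm (y :: (pre ++ post)) := List.perm_middle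
  have h1 := mem_ofList_cons_of_mul_mem y (pre ++ post) (isKoszulRegularSeq_perm hp h) c
    (by rw [Ideal.ofList_append]; exact hc)
  rw [Ideal.ofList_cons, Ideal.ofList_append] at h1
  rw [Ideal.ofList_append, Ideal.ofList_cons]
  have : Ideal.span {y} ⊔ (Ideal.ofList pre ⊔ Ideal.ofList post) =
      Ideal.ofList pre ⊔ (Ideal.span {y} ⊔ Ideal.ofList post) := by
    rw [← sup_assoc, ← sup_assoc, sup_comm (Ideal.span {y})]
  rwa [this] at h1


section exchange

variable (𝔮 K : Ideal A)

/-- `l` consists of elements of `K` generating `K` on a basic open neighbourhood of `𝔮` -/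
def LocGen (l : List A) : Prop :=
  (∀ x ∈ l, x ∈ K) ∧ ∃ G : A, G ∉ 𝔮 ∧ ∀ x ∈ K, ∃ e : ℕ, G ^ e * x ∈ Ideal.ofList l

variable {𝔮 K}

theorem ofList_le_of_forall_mem {l : List A} (h : ∀ x ∈ l, x ∈ K) : Ideal.ofList l ≤ K :=
  Ideal.span_le.mpr h

/-- picking a generator with a coefficient outside `𝔮` -/
theorem exists_pick [𝔮.IsPrime] (pre : List A) : ∀ (k : List A), (∀ x ∈ k, x ∈ K) → ∀ y' : A,
    y' ∈ Ideal.ofList pre ⊔ Ideal.ofList k → y' ∉ Ideal.ofList pre ⊔ 𝔮 * K →
    ∃ (k₁ : List A) (x : A) (k₂ : List A) (a : A), k = k₁ ++ x :: k₂ ∧ a ∉ 𝔮 ∧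
      a * x ∈ Ideal.span {y'} ⊔ (Ideal.ofList pre ⊔ Ideal.ofList (k₁ ++ k₂))
  | [], _, y', h1, h2 => by
    exfalso
    apply h2
    rw [Ideal.ofList_nil, sup_bot_eq] at h1
    exact Ideal.mem_sup_left h1
  | x :: k, hk, y', h1, h2 => by
    rw [Ideal.ofList_cons, ← sup_assoc, sup_comm (Ideal.ofList pre), sup_assoc,
      Ideal.mem_span_singleton_sup] at h1
    obtain ⟨a, w, hw, hy'⟩ := h1
    by_cases ha : a ∈ 𝔮
    · have hxK : x ∈ K := hk x List.mem_cons_self
      have hax : a * x ∈ 𝔮 * K := Ideal.mul_mem_mul ha hxK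
      have hw2 : w ∉ Ideal.ofList pre ⊔ 𝔮 * K := by
        intro hw'
        apply h2
        rw [← hy']
        exact Ideal.add_mem _ (Ideal.mem_sup_right hax) hw'
      obtain ⟨k₁, x', k₂, a', rfl, ha', hmem⟩ :=
        exists_pick pre k (fun t ht => hk t (List.mem_cons_of_mem _ ht)) w hw hw2
      refine ⟨x :: k₁, x', k₂, a', rfl, ha', ?_⟩
      have hle : Ideal.span {w} ⊔ (Ideal.ofList pre ⊔ Ideal.ofList (k₁ ++ k₂)) ≤
          Ideal.span {y'} ⊔ (Ideal.ofList pre ⊔ Ideal.ofList (x :: k₁ ++ k₂)) := by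
        refine sup_le ?_ (sup_le ?_ ?_)
        · rw [Ideal.span_singleton_le_iff_mem]
          have hw3 : w = y' - a * x := by rw [← hy']; ring
          rw [hw3]
          refine Ideal.sub_mem _ (Ideal.mem_sup_left (Ideal.mem_span_singleton_self _)) ?_
          refine Ideal.mem_sup_right (Ideal.mem_sup_right ?_)
          exact Ideal.mul_mem_left _ _ (Ideal.subset_span (List.mem_cons_self))
        · exact le_sup_of_le_right le_sup_left
        · refine le_sup_of_le_right (le_sup_of_le_right ?_)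
          exact Ideal.span_mono (fun t ht => List.mem_cons_of_mem _ ht)
      exact hle hmem
    · refine ⟨[], x, k, a, rfl, ha, ?_⟩
      have h3 : a * x = y' - w := by rw [← hy']; ring
      rw [h3, List.nil_append]
      exact Ideal.sub_mem _ (Ideal.mem_sup_left (Ideal.mem_span_singleton_self _))
        (Ideal.mem_sup_right hw)

/-- single exchange -/
theorem LocGen.exchange_one [𝔮.IsPrime] (pre k : List A) (y : A) (h : LocGen 𝔮 K (pre ++ k))
    (hy : y ∈ K) (hind : ∀ s : A, s ∉ 𝔮 → s * y ∉ Ideal.ofList pre ⊔ 𝔮 * K) :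
    ∃ k' : List A, k'.length + 1 = k.length ∧ LocGen 𝔮 K ((pre ++ [y]) ++ k') := by
  obtain ⟨hmem, G, hG, hgen⟩ := h
  obtain ⟨e, he⟩ := hgen y hy
  rw [Ideal.ofList_append] at he
  have hGe : G ^ e ∉ 𝔮 := fun h' => hG (Ideal.IsPrime.mem_of_pow_mem inferInstance e h')
  obtain ⟨k₁, x, k₂, a, rfl, ha, hax⟩ := exists_pick pre k
    (fun t ht => hmem t (List.mem_append_right _ ht)) (G ^ e * y) he (hind _ hGe)
  refine ⟨k₁ ++ k₂, by simp; omega, ?_, G * a, ?_, ?_⟩
  · intro t ht
    rcases List.mem_append.mp ht with ht | ht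
    · rcases List.mem_append.mp ht with ht | ht
      · exact hmem t (List.mem_append_left _ ht)
      · rw [List.mem_singleton] at ht
        rw [ht]; exact hy
    · apply hmem t
      rcases List.mem_append.mp ht with ht | ht
      · exact List.mem_append_right _ (List.mem_append_left _ ht)
      · exact List.mem_append_right _ (List.mem_append_right _ (List.mem_cons_of_mem _ ht))
  · intro h'
    rcases Ideal.IsPrime.mem_or_mem inferInstance h' with h' | h'
    · exact hG h'
    · exact ha h'
  · -- the new list generates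
    set N := Ideal.ofList ((pre ++ [y]) ++ (k₁ ++ k₂)) with hN
    have hpre : Ideal.ofList pre ≤ N :=
      Ideal.span_mono (fun t ht => List.mem_append_left _ (List.mem_append_left _ ht))
    have hk12 : Ideal.ofList (k₁ ++ k₂) ≤ N :=
      Ideal.span_mono (fun t ht => List.mem_append_right _ ht)
    have hyN : y ∈ N := Ideal.subset_span
      (List.mem_append_left _ (List.mem_append_right _ (List.mem_singleton_self _)))
    have haxN : a * x ∈ N := by
      have hle : Ideal.span {G ^ e * y} ⊔ (Ideal.ofList pre ⊔ Ideal.ofList (k₁ ++ k₂)) ≤ N := by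
        refine sup_le ?_ (sup_le hpre hk12)
        rw [Ideal.span_singleton_le_iff_mem]
        exact Ideal.mul_mem_left _ _ hyN
      exact hle hax
    intro t ht
    obtain ⟨e₀, he₀⟩ := hgen t ht
    have hmul : ∀ u ∈ Ideal.ofList (pre ++ (k₁ ++ x :: k₂)), a * u ∈ N := by
      intro u hu
      refine Submodule.span_induction (p := fun u _ => a * u ∈ N) ?_ ?_ ?_ ?_ hu
      · intro u hu
        have hu' : u ∈ pre ++ (k₁ ++ x :: k₂) := hu
        rcases List.mem_append.mp hu' with h1 | h1
        · exact Ideal.mul_mem_left _ _ (hpre (Ideal.subset_span h1))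
        · rcases List.mem_append.mp h1 with h1 | h1
          · exact Ideal.mul_mem_left _ _ (hk12 (Ideal.subset_span (List.mem_append_left _ h1)))
          · rcases List.mem_cons.mp h1 with h1 | h1
            · rw [h1]; exact haxN
            · exact Ideal.mul_mem_left _ _ (hk12 (Ideal.subset_span (List.mem_append_right _ h1)))
      · rw [mul_zero]; exact N.zero_mem
      · intro u v _ _ hu hv
        rw [mul_add]; exact N.add_mem hu hv
      · intro r u _ hu
        rw [smul_eq_mul, mul_left_comm]; exact N.mul_mem_left r hu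
    refine ⟨e₀ + 1, ?_⟩
    have h2 : (G * a) ^ (e₀ + 1) * t = (G * a ^ e₀) * (a * (G ^ e₀ * t)) := by ring
    rw [h2]
    exact N.mul_mem_left _ (hmul _ he₀)

/-- Steinitz exchange for local generators -/
theorem LocGen.exchange [𝔮.IsPrime] : ∀ (zs pre k : List A), LocGen 𝔮 K (pre ++ k) →
    (∀ y ∈ zs, y ∈ K) →
    (∀ (p₁ : List A) (y : A) (p₂ : List A), zs = p₁ ++ y :: p₂ → ∀ s : A, s ∉ 𝔮 →
      s * y ∉ Ideal.ofList (pre ++ p₁) ⊔ 𝔮 * K) →
    ∃ k' : List A, k'.length + zs.length = k.length ∧ LocGen 𝔮 K ((pre ++ zs) ++ k')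
  | [], pre, k, h, _, _ => ⟨k, by simp, by simpa using h⟩
  | y :: zs, pre, k, h, hzK, hind => by
    obtain ⟨k₁, hk₁, h₁⟩ := h.exchange_one pre k y (hzK y List.mem_cons_self) (by
      have := hind [] y zs rfl
      simpa using this)
    obtain ⟨k', hk', h'⟩ := LocGen.exchange zs (pre ++ [y]) k₁ h₁
      (fun t ht => hzK t (List.mem_cons_of_mem _ ht)) (fun p₁ t p₂ hz s hs => by
        have := hind (y :: p₁) t p₂ (by rw [hz]; rfl) s hs
        simpa [List.append_assoc] using this)
    refine ⟨k', by simp; omega, ?_⟩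
    simpa [List.append_assoc] using h'

end exchange


section localization

variable {𝔮 K : Ideal A}

/-- generators in a localization can be taken to be images of elements of `K` -/
theorem exists_numerators (M : Submonoid A) (T : Type*) [CommRing T] [Algebra A T]
    [IsLocalization M T] (K : Ideal A) : ∀ L : List T, (∀ x ∈ L, x ∈ K.map (algebraMap A T)) →
    ∃ k : List A, k.length = L.length ∧ (∀ y ∈ k, y ∈ K) ∧
      Ideal.ofList (k.map (algebraMap A T)) = Ideal.ofList L
  | [], _ => ⟨[], rfl, fun _ h => absurd h List.not_mem_nil, rfl⟩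
  | x :: L, h => by
    obtain ⟨k, hk1, hk2, hk3⟩ := exists_numerators M T K L
      (fun t ht => h t (List.mem_cons_of_mem _ ht))
    obtain ⟨⟨⟨k₀, hk₀⟩, s⟩, hs⟩ := (IsLocalization.mem_map_algebraMap_iff M T).mp
      (h x List.mem_cons_self)
    refine ⟨k₀ :: k, by simp [hk1], ?_, ?_⟩
    · intro y hy
      rcases List.mem_cons.mp hy with rfl | hy
      · exact hk₀
      · exact hk2 y hy
    · rw [List.map_cons, Ideal.ofList_cons, Ideal.ofList_cons, hk3]
      congr 1
      have hs' : algebraMap A T k₀ = x * algebraMap A T s := hs.symm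
      rw [hs']
      exact Ideal.span_singleton_mul_right_unit (IsLocalization.map_units T s) x

/-- generators in the localization at `G` are local generators -/
theorem locGen_of_map_eq (G : A) (hG : G ∉ 𝔮) (T : Type*) [CommRing T] [Algebra A T]
    [IsLocalization.Away G T] (k : List A) (hk : ∀ y ∈ k, y ∈ K)
    (h : K.map (algebraMap A T) = Ideal.ofList (k.map (algebraMap A T))) :
    LocGen 𝔮 K ([] ++ k) := by
  refine ⟨by simpa using hk, G, hG, ?_⟩
  intro x hx
  have h1 : algebraMap A T x ∈ (Ideal.ofList k).map (algebraMap A T) := by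
    rw [Ideal.map_ofList, ← h]
    exact Ideal.mem_map_of_mem _ hx
  obtain ⟨⟨⟨n, hn⟩, ⟨_, a, rfl⟩⟩, hs⟩ :=
    (IsLocalization.mem_map_algebraMap_iff (Submonoid.powers G) T).mp h1
  have hs' : algebraMap A T (x * G ^ a) = algebraMap A T n := by
    rw [map_mul]; exact hs
  obtain ⟨⟨_, b, rfl⟩, hc⟩ := (IsLocalization.eq_iff_exists (Submonoid.powers G) T).mp hs'
  refine ⟨b + a, ?_⟩
  have h2 : G ^ (b + a) * x = G ^ b * n := by
    have : G ^ (b + a) * x = G ^ b * (x * G ^ a) := by ring
    rw [this]; exact hc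
  rw [List.nil_append, h2]
  exact Ideal.mul_mem_left _ _ hn

/-- local generators generate in any localization inverting the relevant element -/
theorem LocGen.exists_map_eq {l : List A} (h : LocGen 𝔮 K l) :
    ∃ G' : A, G' ∉ 𝔮 ∧ ∀ (T' : Type u) [CommRing T'] [Algebra A T'],
      IsUnit (algebraMap A T' G') → K.map (algebraMap A T') = Ideal.ofList (l.map (algebraMap A T')) := by
  obtain ⟨hmem, G', hG', hgen⟩ := h
  refine ⟨G', hG', ?_⟩
  intro T' _ _ hu
  apply le_antisymm
  · rw [Ideal.map_le_iff_le_comap]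
    intro x hx
    obtain ⟨e, he⟩ := hgen x hx
    have h1 : algebraMap A T' (G' ^ e * x) ∈ (Ideal.ofList l).map (algebraMap A T') :=
      Ideal.mem_map_of_mem _ he
    rw [map_mul, map_pow, Ideal.unit_mul_mem_iff_mem _ (hu.pow e), Ideal.map_ofList] at h1
    exact h1
  · rw [← Ideal.map_ofList]
    exact Ideal.map_mono (ofList_le_of_forall_mem hmem)

end localization

end Groth.Agent.Lib.KoszulExchange
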