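import Groth.Agent.Lib.KoszulIdeal
import Groth.Agent.Lib.KoszulExchange
import Mathlib.RingTheory.Localization.Algebra

/-!
# Koszul-regular ideals and retractions with Koszul-regular kernel (helper19)

`Retr P Q`: a retraction `ev : Q → P` of a ring map `ι : P → Q` whose kernel is generated by a
Koszul-regular sequence `z` (the model: `Q = P[y₁,…,yₘ]`, `ev (y_j) = f_j`, `z_j = y_j - f_j`).

* `Retr.isKoszulRegularIdeal_comap`: if `I ⊆ P` is a Koszul-regular ideal then so is `ev⁻¹ I`.
-/

set_option autoImplicit false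
universe u

namespace Groth.Agent.Lib.KoszulRetract

open Groth.Agent.Lib.KoszulQuot Groth.Agent.Lib.KoszulIdeal Groth.Agent.Lib.KoszulExchange

/-- a retraction with Koszul-regular kernel -/
structure Retr (P Q : Type u) [CommRing P] [CommRing Q] where
  ι : P →+* Q
  ev : Q →+* P
  ev_ι : ∀ x, ev (ι x) = x
  z : List Q
  hz : LCI.IsKoszulRegularSeq Q z
  hker : RingHom.ker ev = Ideal.ofList z

namespace Retr

variable {P Q : Type u} [CommRing P] [CommRing Q] (D : Retr P Q)

theorem sub_mem_ker (x : Q) : x - D.ι (D.ev x) ∈ RingHom.ker D.ev := by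
  rw [RingHom.mem_ker, map_sub, D.ev_ι, sub_self]

theorem map_le_comap (I : Ideal P) : I.map D.ι ≤ I.comap D.ev := by
  rw [Ideal.map_le_iff_le_comap]
  intro x hx
  show D.ev (D.ι x) ∈ I
  rwa [D.ev_ι]

theorem comap_eq (I : Ideal P) : I.comap D.ev = I.map D.ι ⊔ Ideal.ofList D.z := by
  apply le_antisymm
  · intro x hx
    have h1 : x = D.ι (D.ev x) + (x - D.ι (D.ev x)) := by ring
    rw [h1]
    refine Ideal.add_mem _ (Ideal.mem_sup_left (Ideal.mem_map_of_mem _ hx)) (Ideal.mem_sup_right ?_)
    rw [← D.hker]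
    exact D.sub_mem_ker x
  · refine sup_le (D.map_le_comap I) ?_
    rw [← D.hker]
    exact Ideal.comap_mono bot_le


/-- `w ≡ ι (ev w)` modulo `(ι I)(z)` for `w ∈ (ι I)` -/
theorem sub_mem_mul (I : Ideal P) (w : Q) (hw : w ∈ I.map D.ι) :
    w - D.ι (D.ev w) ∈ I.map D.ι * Ideal.ofList D.z := by
  refine Submodule.span_induction (p := fun w _ => w - D.ι (D.ev w) ∈ I.map D.ι * Ideal.ofList D.z)
    ?_ ?_ ?_ ?_ hw
  · rintro _ ⟨x, _, rfl⟩
    rw [D.ev_ι, sub_self]
    exact Ideal.zero_mem _
  · rw [map_zero, map_zero, sub_self]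
    exact Ideal.zero_mem _
  · intro u v _ _ hu hv
    have : u + v - D.ι (D.ev (u + v)) = (u - D.ι (D.ev u)) + (v - D.ι (D.ev v)) := by
      rw [map_add, map_add]; ring
    rw [this]
    exact Ideal.add_mem _ hu hv
  · intro r u hu' hu
    have h1 : r • u - D.ι (D.ev (r • u)) =
        r * (u - D.ι (D.ev u)) + D.ι (D.ev u) * (r - D.ι (D.ev r)) := by
      rw [smul_eq_mul, map_mul, map_mul]; ring
    rw [h1]
    refine Ideal.add_mem _ (Ideal.mul_mem_left _ _ hu) (Ideal.mul_mem_mul ?_ ?_)
    · exact Ideal.mem_map_of_mem _ (D.map_le_comap I hu')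
    · rw [← D.hker]
      exact D.sub_mem_ker r

/-- the elements of `z` are independent modulo `𝔮 K` -/
theorem not_mem_of_split (I : Ideal P) (𝔮 : Ideal Q) [𝔮.IsPrime] (h𝔮 : I.comap D.ev ≤ 𝔮)
    (pre : List Q) (y : Q) (post : List Q) (hz : D.z = pre ++ y :: post) (s : Q) (hs : s ∉ 𝔮) :
    s * y ∉ Ideal.ofList pre ⊔ 𝔮 * I.comap D.ev := by
  intro hmem
  have hzK : Ideal.ofList D.z ≤ I.comap D.ev := by rw [D.comap_eq]; exact le_sup_right
  have hιK : I.map D.ι ≤ I.comap D.ev := D.map_le_comap I
  have hsplit : Ideal.ofList D.z = Ideal.ofList pre ⊔ (Ideal.span {y} ⊔ Ideal.ofList post) := by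
    rw [hz, Ideal.ofList_append, Ideal.ofList_cons]
  have hpre_le : Ideal.ofList pre ≤ Ideal.ofList D.z := by rw [hsplit]; exact le_sup_left
  have hpost_le : Ideal.ofList post ≤ Ideal.ofList D.z := by
    rw [hsplit]; exact le_sup_of_le_right le_sup_right
  have hy_mem : y ∈ Ideal.ofList D.z := by
    rw [hsplit]
    exact Ideal.mem_sup_right (Ideal.mem_sup_left (Ideal.mem_span_singleton_self y))
  have hev0 : ∀ t ∈ Ideal.ofList D.z, D.ev t = 0 := fun t ht => by
    rw [← D.hker] at ht; exact ht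
  rw [D.comap_eq, Ideal.mul_sup, hsplit, Ideal.mul_sup, Ideal.mul_sup] at hmem
  obtain ⟨p, hp, w, hw, hsum⟩ := Submodule.mem_sup.mp hmem
  obtain ⟨w₁, hw₁, w₂, hw₂, hsum2⟩ := Submodule.mem_sup.mp hw
  obtain ⟨wpre, hwpre, w₃, hw₃, hsum3⟩ := Submodule.mem_sup.mp hw₂
  obtain ⟨wy, hwy, wpost, hwpost, hsum4⟩ := Submodule.mem_sup.mp hw₃
  obtain ⟨r, hr, rfl⟩ := Ideal.mem_mul_span_singleton.mp hwy
  have hwpre' : wpre ∈ Ideal.ofList pre := Ideal.mul_le_right hwpre
  have hwpost' : wpost ∈ Ideal.ofList post := Ideal.mul_le_right hwpost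
  have hw₁' : w₁ ∈ I.map D.ι := Ideal.mul_le_right hw₁
  -- `ev w₁ = 0`
  have hw₁eq : w₁ = s * y - p - wpre - r * y - wpost := by
    rw [← hsum, ← hsum2, ← hsum3, ← hsum4]; ring
  have hevw₁ : D.ev w₁ = 0 := by
    rw [hw₁eq]
    simp only [map_sub, map_mul]
    rw [hev0 y hy_mem, hev0 p (hpre_le hp), hev0 wpre (hpre_le hwpre'),
      hev0 wpost (hpost_le hwpost')]
    ring
  have h5 := D.sub_mem_mul I w₁ hw₁'
  rw [hevw₁, map_zero, sub_zero, hsplit, Ideal.mul_sup, Ideal.mul_sup] at h5
  obtain ⟨vpre, hvpre, v₂, hv₂, hsum5⟩ := Submodule.mem_sup.mp h5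
  obtain ⟨vy, hvy, vpost, hvpost, hsum6⟩ := Submodule.mem_sup.mp hv₂
  obtain ⟨u, hu, rfl⟩ := Ideal.mem_mul_span_singleton.mp hvy
  have hvpre' : vpre ∈ Ideal.ofList pre := Ideal.mul_le_right hvpre
  have hvpost' : vpost ∈ Ideal.ofList post := Ideal.mul_le_right hvpost
  have hrel : (s - r - u) * y = (p + wpre + vpre) + (wpost + vpost) := by
    have : s * y = p + (w₁ + (wpre + (r * y + wpost))) := by
      rw [hsum4, hsum3, hsum2, hsum]
    have h6 : w₁ = vpre + (u * y + vpost) := by rw [hsum6, hsum5]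
    rw [h6] at this
    linear_combination this
  have hmem2 : (s - r - u) * y ∈ Ideal.ofList pre ⊔ Ideal.ofList post := by
    rw [hrel]
    exact Ideal.add_mem _
      (Ideal.mem_sup_left (Ideal.add_mem _ (Ideal.add_mem _ hp hwpre') hvpre'))
      (Ideal.mem_sup_right (Ideal.add_mem _ hwpost' hvpost'))
  have h7 := mem_ofList_of_mul_mem pre post y (hz ▸ D.hz) (s - r - u) hmem2
  rw [← hz] at h7
  have h8 : s - r - u ∈ 𝔮 := h𝔮 (hzK h7)
  have h9 : u ∈ 𝔮 := h𝔮 (hιK hu)
  apply hs
  have : s = (s - r - u) + r + u := by ring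
  rw [this]
  exact Ideal.add_mem _ (Ideal.add_mem _ h8 hr) h9

/-- the retraction localized at `g ∈ P` -/
theorem exists_localized (g : P) (S T : Type u) [CommRing S] [CommRing T] [Algebra P S]
    [Algebra Q T] [IsLocalization.Away g S] [IsLocalization.Away (D.ι g) T] :
    ∃ (ι' : S →+* T) (ev' : T →+* S), (∀ x, ev' (ι' x) = x) ∧
      ι'.comp (algebraMap P S) = (algebraMap Q T).comp D.ι ∧
      RingHom.ker ev' = Ideal.ofList (D.z.map (algebraMap Q T)) := by
  have hT : Submonoid.map D.ev (Submonoid.powers (D.ι g)) = Submonoid.powers g := by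
    rw [Submonoid.map_powers, D.ev_ι]
  have hS : Submonoid.powers g ≤ (Submonoid.powers (D.ι g)).comap D.ι := by
    rw [← Submonoid.map_le_iff_le_comap, Submonoid.map_powers]
  let ι' : S →+* T := IsLocalization.map T D.ι hS
  let ev' : T →+* S := IsLocalization.map S D.ev (hT.symm ▸ (Submonoid.powers (D.ι g)).le_comap_map)
  have hcomp : ev'.comp ι' = RingHom.id S := by
    apply IsLocalization.ringHom_ext (Submonoid.powers g)
    ext x
    show ev' (ι' (algebraMap P S x)) = algebraMap P S x
    rw [IsLocalization.map_eq, IsLocalization.map_eq, D.ev_ι]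
  refine ⟨ι', ev', fun x => RingHom.congr_fun hcomp x, IsLocalization.map_comp _, ?_⟩
  rw [IsLocalization.ker_map S D.ev hT, D.hker, Ideal.map_ofList]

/-- **Koszul-regular ideals pull back along the retraction.** -/
theorem isKoszulRegularIdeal_comap (I : Ideal P) (hI : LCI.IsKoszulRegularIdeal I) :
    LCI.IsKoszulRegularIdeal (I.comap D.ev) := by
  rw [isKoszulRegularIdeal_iff] at hI ⊢
  intro 𝔮 h𝔮
  have hI𝔭 : I ≤ (𝔮.comap D.ι).asIdeal := by
    intro x hx
    exact h𝔮 (D.map_le_comap I (Ideal.mem_map_of_mem _ hx))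
  obtain ⟨g, hg, hgen⟩ := hI (𝔮.comap D.ι) hI𝔭
  refine ⟨D.ι g, hg, ?_⟩
  obtain ⟨l, hl, hIl⟩ := hgen.exists_list (Localization.Away g)
  obtain ⟨ι', ev', hev, hι, hker⟩ := D.exists_localized g (Localization.Away g)
    (Localization.Away (D.ι g))
  have hflat : Module.Flat Q (Localization.Away (D.ι g)) :=
    IsLocalization.flat _ (Submonoid.powers (D.ι g))
  have hz' := isKoszulRegularSeq_map_of_flat (R' := Localization.Away (D.ι g)) D.z D.hz
  have hsurj : Function.Surjective ev' := fun x => ⟨ι' x, hev x⟩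
  refine GenAt.mk (Localization.Away (D.ι g))
    (l.map ι' ++ D.z.map (algebraMap Q (Localization.Away (D.ι g)))) ?_ ?_
  · rw [isKoszulRegularSeq_append_iff ev' hsurj _ hker hz', List.map_map]
    have : (⇑ev' ∘ ⇑ι') = id := funext hev
    rw [this, List.map_id]
    exact hl
  · rw [D.comap_eq, Ideal.map_sup, Ideal.map_map, ← hι, ← Ideal.map_map, hIl, Ideal.map_ofList,
      Ideal.map_ofList, Ideal.ofList_append]


/-- generating sequences of at most the same length as a Koszul-regular one are Koszul-regular -/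
theorem isKoszulRegularSeq_of_length_le {R : Type u} [CommRing R] (f g : List R)
    (hfg : Ideal.ofList f = Ideal.ofList g) (hlen : f.length ≤ g.length)
    (hg : LCI.IsKoszulRegularSeq R g) : LCI.IsKoszulRegularSeq R f := by
  rw [isKoszulRegularSeq_iff] at hg ⊢
  intro i hi
  have := Groth.Agent.Lib.KoszulMinLen.subsingleton_homology_of_length_le f g hfg hlen
    (fun m hm => ModuleCat.subsingleton_of_isZero (hg m hm)) i hi
  exact ModuleCat.isZero_of_subsingleton _

/-- **Koszul-regular ideals descend along the retraction.** -/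
theorem isKoszulRegularIdeal_of_comap (I : Ideal P)
    (hK : LCI.IsKoszulRegularIdeal (I.comap D.ev)) : LCI.IsKoszulRegularIdeal I := by
  rw [isKoszulRegularIdeal_iff] at hK ⊢
  intro 𝔭 h𝔭
  have h𝔮 : I.comap D.ev ≤ (𝔭.comap D.ev).asIdeal := Ideal.comap_mono h𝔭
  obtain ⟨G₀, hG₀, hgen⟩ := hK (𝔭.comap D.ev) h𝔮
  obtain ⟨L₀, hL₀, hKL₀⟩ := hgen.exists_list (Localization.Away G₀)
  -- numerators
  obtain ⟨k, hk1, hk2, hk3⟩ := exists_numerators (Submonoid.powers G₀) (Localization.Away G₀)
    (I.comap D.ev) L₀ (fun x hx => by rw [hKL₀]; exact Ideal.subset_span hx)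
  have hLG : LocGen (𝔭.comap D.ev).asIdeal (I.comap D.ev) ([] ++ k) :=
    locGen_of_map_eq G₀ hG₀ (Localization.Away G₀) k hk2 (by rw [hKL₀, hk3])
  -- exchange
  have hzK : ∀ y ∈ D.z, y ∈ I.comap D.ev := by
    intro y hy
    rw [D.comap_eq]
    exact Ideal.mem_sup_right (Ideal.subset_span hy)
  have : (𝔭.comap D.ev).asIdeal.IsPrime := (𝔭.comap D.ev).isPrime
  obtain ⟨k', hk', hLG'⟩ := hLG.exchange D.z [] k hzK (fun p₁ y p₂ hz s hs => by
    simpa using D.not_mem_of_split I (𝔭.comap D.ev).asIdeal h𝔮 p₁ y p₂ hz s hs)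
  obtain ⟨G', hG', hmap⟩ := hLG'.exists_map_eq
  -- the ring `T' = Q_{G₀ G'}`
  have hunit : IsUnit (algebraMap Q (Localization.Away (algebraMap Q (Localization.Away G₀) G')) G') := by
    have h0 : algebraMap Q (Localization.Away (algebraMap Q (Localization.Away G₀) G')) G' =
        algebraMap (Localization.Away G₀) (Localization.Away (algebraMap Q (Localization.Away G₀) G'))
          (algebraMap Q (Localization.Away G₀) G') := IsScalarTower.algebraMap_apply _ _ _ _
    rw [h0]
    exact IsLocalization.Away.algebraMap_isUnit _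
  have hmap' := hmap (Localization.Away (algebraMap Q (Localization.Away G₀) G')) hunit
  have hflat : Module.Flat (Localization.Away G₀)
      (Localization.Away (algebraMap Q (Localization.Away G₀) G')) :=
    IsLocalization.flat _ (Submonoid.powers (algebraMap Q (Localization.Away G₀) G'))
  have hflat2 : Module.Flat Q (Localization.Away (algebraMap Q (Localization.Away G₀) G')) :=
    IsLocalization.flat _ (Submonoid.powers (G₀ * G'))
  have hL₀' := isKoszulRegularSeq_map_of_flat
    (R' := Localization.Away (algebraMap Q (Localization.Away G₀) G')) L₀ hL₀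
  have hideal : Ideal.ofList (L₀.map (algebraMap (Localization.Away G₀)
      (Localization.Away (algebraMap Q (Localization.Away G₀) G')))) =
      (I.comap D.ev).map (algebraMap Q (Localization.Away (algebraMap Q (Localization.Away G₀) G'))) := by
    rw [← Ideal.map_ofList, ← hKL₀, Ideal.map_map, ← IsScalarTower.algebraMap_eq]
  have hnew : LCI.IsKoszulRegularSeq (Localization.Away (algebraMap Q (Localization.Away G₀) G'))
      ((([] ++ D.z) ++ k').map
        (algebraMap Q (Localization.Away (algebraMap Q (Localization.Away G₀) G')))) := by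
    refine isKoszulRegularSeq_of_length_le _ _ (by rw [hideal, hmap']) ?_ hL₀'
    simp only [List.length_map, List.length_append, List.length_nil, zero_add]
    omega
  -- reorder
  have hperm : LCI.IsKoszulRegularSeq (Localization.Away (algebraMap Q (Localization.Away G₀) G'))
      (k'.map (algebraMap Q (Localization.Away (algebraMap Q (Localization.Away G₀) G'))) ++
        D.z.map (algebraMap Q (Localization.Away (algebraMap Q (Localization.Away G₀) G')))) := by
    refine isKoszulRegularSeq_perm ?_ hnew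
    rw [List.nil_append, List.map_append]
    exact List.perm_append_comm
  -- the quotient map to `P_{ev (G₀ G')}`
  have hT : Submonoid.map D.ev (Submonoid.powers (G₀ * G')) = Submonoid.powers (D.ev (G₀ * G')) :=
    Submonoid.map_powers _ _
  let π : Localization.Away (algebraMap Q (Localization.Away G₀) G') →+*
      Localization.Away (D.ev (G₀ * G')) :=
    IsLocalization.map (Localization.Away (D.ev (G₀ * G'))) D.ev
      (hT.symm ▸ (Submonoid.powers (G₀ * G')).le_comap_map)
  have hπker : RingHom.ker π = Ideal.ofList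
      (D.z.map (algebraMap Q (Localization.Away (algebraMap Q (Localization.Away G₀) G')))) := by
    rw [IsLocalization.ker_map (Localization.Away (D.ev (G₀ * G'))) D.ev hT, D.hker,
      Ideal.map_ofList]
  have hπsurj : Function.Surjective π := by
    intro y
    obtain ⟨p, ⟨_, n, rfl⟩, rfl⟩ := IsLocalization.exists_mk'_eq
      (Submonoid.powers (D.ev (G₀ * G'))) y
    refine ⟨IsLocalization.mk' _ (D.ι p) (⟨(G₀ * G') ^ n, n, rfl⟩ : Submonoid.powers (G₀ * G')), ?_⟩
    rw [IsLocalization.map_mk']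
    congr 1
    · exact D.ev_ι p
    · exact Subtype.ext (map_pow D.ev _ n)
  have hπcomp : π.comp (algebraMap Q (Localization.Away (algebraMap Q (Localization.Away G₀) G'))) =
      (algebraMap P (Localization.Away (D.ev (G₀ * G')))).comp D.ev := IsLocalization.map_comp _
  have hz' := isKoszulRegularSeq_map_of_flat
    (R' := Localization.Away (algebraMap Q (Localization.Away G₀) G')) D.z D.hz
  refine ⟨D.ev (G₀ * G'), ?_, GenAt.mk (Localization.Away (D.ev (G₀ * G')))
    ((k'.map (algebraMap Q (Localization.Away (algebraMap Q (Localization.Away G₀) G')))).map π)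
    ((isKoszulRegularSeq_append_iff π hπsurj _ hπker hz' _).mp hperm) ?_⟩
  · intro hmem
    have h1 : G₀ * G' ∈ (𝔭.comap D.ev).asIdeal := hmem
    rcases Ideal.IsPrime.mem_or_mem inferInstance h1 with h1 | h1
    · exact hG₀ h1
    · exact hG' h1
  · -- the ideal
    have hIK : (I.comap D.ev).map D.ev = I :=
      Ideal.map_comap_of_surjective D.ev (fun x => ⟨D.ι x, D.ev_ι x⟩) I
    have h1 : ((I.comap D.ev).map (algebraMap Q
        (Localization.Away (algebraMap Q (Localization.Away G₀) G')))).map π =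
        I.map (algebraMap P (Localization.Away (D.ev (G₀ * G')))) := by
      rw [Ideal.map_map, hπcomp, ← Ideal.map_map, hIK]
    rw [← h1, hmap', Ideal.map_ofList, List.nil_append, List.map_append, List.map_append,
      Ideal.ofList_append]
    have h2 : Ideal.ofList ((D.z.map (algebraMap Q
        (Localization.Away (algebraMap Q (Localization.Away G₀) G')))).map π) = ⊥ := by
      rw [← Ideal.map_ofList, ← hπker]
      exact (Ideal.map_eq_bot_iff_le_ker π).mpr le_rfl
    rw [h2, bot_sup_eq]

end Retr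

end Groth.Agent.Lib.KoszulRetract
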