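import Groth.Agent.Lib.KRDescA
import Groth.Agent.Lib.KRDescB
import Groth.Agent.Lib.KoszulRetract

/-!
# Faithfully flat descent of Koszul-regular ideals (helper32)

`isKoszulRegularIdeal_of_faithfullyFlat`: for `A → B` faithfully flat and `I` an ideal of `A`, if
`I B` is a Koszul-regular ideal then so is `I`.
-/

set_option autoImplicit false
universe u
open CategoryTheory

attribute [local instance] HasDerivedCategory.standard

namespace Groth.Agent.Lib.KRDescC

open Groth.Agent.Lib.KoszulIdeal Groth.Agent.Lib.KoszulQuot Groth.Agent.Lib.KoszulMinLen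
  Groth.Agent.Lib.KoszulRetract Groth.Agent.Lib.KRDescA Groth.Agent.Lib.KRDescB

section genLen

variable {B : Type u} [CommRing B]

/-- on some model of `B_g`, the extension of `J` is generated by a Koszul-regular sequence of
length `s` -/
def GenLen (J : Ideal B) (g : B) (s : ℕ) : Prop :=
  ∃ (S : Type u) (_ : CommRing S) (_ : Algebra B S) (_ : IsLocalization.Away g S) (l : List S),
    l.length = s ∧ LCI.IsKoszulRegularSeq S l ∧ J.map (algebraMap B S) = Ideal.ofList l

theorem GenLen.genAt {J : Ideal B} {g : B} {s : ℕ} (h : GenLen J g s) : GenAt J g := by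
  obtain ⟨S, _, _, _, l, _, hl, hJ⟩ := h
  exact GenAt.mk S l hl hJ

theorem _root_.Groth.Agent.Lib.KoszulIdeal.GenAt.exists_genLen {J : Ideal B} {g : B}
    (h : GenAt J g) : ∃ s, GenLen J g s := by
  obtain ⟨S, _, _, _, l, hl, hJ⟩ := h
  exact ⟨l.length, S, _, _, ‹_›, l, rfl, hl, hJ⟩

/-- transfer to any flat `B`-algebra in which `g` is invertible -/
theorem GenLen.transfer {J : Ideal B} {g : B} {s : ℕ} (h : GenLen J g s)
    (T : Type u) [CommRing T] [Algebra B T] [Module.Flat B T]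
    (hg : IsUnit (algebraMap B T g)) :
    ∃ l : List T, l.length = s ∧ LCI.IsKoszulRegularSeq T l ∧
      J.map (algebraMap B T) = Ideal.ofList l := by
  obtain ⟨S, _, _, _, l, hlen, hl, hJ⟩ := h
  let φ : S →+* T := IsLocalization.Away.lift g hg
  let _ : Algebra S T := φ.toAlgebra
  have : IsScalarTower B S T := IsScalarTower.of_algebraMap_eq
    (fun x => (IsLocalization.Away.lift_eq g hg x).symm)
  have : Module.Flat S T := (Module.flat_iff_of_isLocalization S (Submonoid.powers g) T).mpr ‹_›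
  refine ⟨l.map (algebraMap S T), by rw [List.length_map, hlen],
    isKoszulRegularSeq_map_of_flat l hl, ?_⟩
  rw [IsScalarTower.algebraMap_eq B S T, ← Ideal.map_map, hJ, Ideal.map_ofList]

end genLen

section compare

variable {A B : Type u} [CommRing A] [CommRing B] [Algebra A B]

theorem ofList_ofFn {T : Type*} [CommRing T] {n : ℕ} (w : Fin n → T) :
    Ideal.ofList (List.ofFn w) = Ideal.span (Set.range w) := by
  unfold Ideal.ofList
  congr 1
  ext x
  simp [List.mem_ofFn]

theorem map_ne_top_of_le {T : Type*} [CommRing T] [Algebra B T] (x : B) [IsLocalization.Away x T]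
    (J 𝔮 : Ideal B) [𝔮.IsPrime] (hJ : J ≤ 𝔮) (hx : x ∉ 𝔮) : J.map (algebraMap B T) ≠ ⊤ := by
  have hdisj : Disjoint (Submonoid.powers x : Set B) (𝔮 : Set B) :=
    (Ideal.disjoint_powers_iff_notMem x (Ideal.IsPrime.isRadical inferInstance)).mpr hx
  have hp := IsLocalization.isPrime_of_isPrime_disjoint (Submonoid.powers x) T 𝔮 inferInstance hdisj
  intro htop
  exact hp.ne_top (top_le_iff.mp (htop ▸ Ideal.map_mono hJ))

/-- generators coming from `A` are at least as many as a Koszul-regular generating sequence -/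
theorem GenLen.le_of_nearGen {I : Ideal A} {g : B} {s : ℕ}
    (h : GenLen (I.map (algebraMap A B)) g s) (𝔮 : Ideal B) [𝔮.IsPrime]
    (hJ : I.map (algebraMap A B) ≤ 𝔮) (hg : g ∉ 𝔮) {a : A} {n : ℕ} {v : Fin n → A}
    (hv : NearGen I a v) (ha : algebraMap A B a ∉ 𝔮) : s ≤ n := by
  let T := Localization.Away (g * algebraMap A B a)
  have hu : IsUnit (algebraMap B T (g * algebraMap A B a)) :=
    IsLocalization.Away.algebraMap_isUnit _
  rw [map_mul] at hu
  have hug : IsUnit (algebraMap B T g) := isUnit_of_mul_isUnit_left hu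
  have hua : IsUnit (algebraMap A T a) := by
    rw [IsScalarTower.algebraMap_apply A B T]
    exact isUnit_of_mul_isUnit_right hu
  have : Module.Flat B T := IsLocalization.flat T (Submonoid.powers (g * algebraMap A B a))
  obtain ⟨l, hlen, hl, hJl⟩ := h.transfer T hug
  have hJw : (I.map (algebraMap A B)).map (algebraMap B T) =
      Ideal.ofList (List.ofFn (algebraMap A T ∘ v)) := by
    rw [ofList_ofFn, Ideal.map_map, ← IsScalarTower.algebraMap_eq A B T]
    exact hv.map_eq (algebraMap A T) hua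
  have hne : Ideal.ofList l ≠ ⊤ := by
    rw [← hJl]
    exact map_ne_top_of_le (g * algebraMap A B a) _ 𝔮 hJ
      (fun hmem => (Ideal.IsPrime.mem_or_mem inferInstance hmem).elim hg ha)
  have h1 := length_le_of_acyclic l (List.ofFn (algebraMap A T ∘ v)) hne (by rw [← hJl, hJw])
    (fun m hm => ModuleCat.subsingleton_of_isZero ((isKoszulRegularSeq_iff l).mp hl m hm))
  rw [List.length_ofFn, hlen] at h1
  exact h1

/-- the length of a Koszul-regular generating sequence near `𝔮` bounds the number of generators of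
`I` near `𝔮 ∩ A` -/
theorem GenLen.exists_nearGen [Module.Flat A B] {I : Ideal A} (hI : I.FG) {g : B} {s : ℕ}
    (h : GenLen (I.map (algebraMap A B)) g s) (𝔮 : Ideal B) [𝔮.IsPrime] (hg : g ∉ 𝔮) :
    ∃ n ≤ s, ∃ (v : Fin n → A) (a : A), algebraMap A B a ∉ 𝔮 ∧ NearGen I a v := by
  let T := Localization.AtPrime 𝔮
  have : Module.Flat B T := IsLocalization.flat T 𝔮.primeCompl
  have hug : IsUnit (algebraMap B T g) := (IsLocalization.AtPrime.isUnit_to_map_iff T 𝔮 g).mpr hg
  obtain ⟨l, rfl, hl, hJl⟩ := h.transfer T hug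
  refine Groth.Agent.Lib.KRDescB.exists_nearGen I hI 𝔮 l.length l.get ?_
  rw [Set.range_list_get]
  change Ideal.ofList l = _
  rw [← hJl, Ideal.map_map, ← IsScalarTower.algebraMap_eq A B T]

/-- the length of Koszul-regular generating sequences is constant along the fibres of
`Spec B → Spec A` -/
theorem GenLen.le_of_same_fibre [Module.Flat A B] {I : Ideal A} (hI : I.FG) (𝔮 𝔮' : Ideal B)
    [𝔮.IsPrime] [𝔮'.IsPrime] (hqq : 𝔮.comap (algebraMap A B) = 𝔮'.comap (algebraMap A B))
    (hJ' : I.map (algebraMap A B) ≤ 𝔮') {g : B} {s : ℕ}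
    (h : GenLen (I.map (algebraMap A B)) g s) (hg : g ∉ 𝔮) {g' : B} {s' : ℕ}
    (h' : GenLen (I.map (algebraMap A B)) g' s') (hg' : g' ∉ 𝔮') : s' ≤ s := by
  obtain ⟨n, hn, v, a, ha, hv⟩ := h.exists_nearGen hI 𝔮 hg
  have ha' : algebraMap A B a ∉ 𝔮' := fun hmem => ha (by
    have h1 : a ∈ 𝔮'.comap (algebraMap A B) := hmem
    rw [← hqq] at h1
    exact h1)
  exact (h'.le_of_nearGen 𝔮' hJ' hg' hv ha').trans hn

end compare

section topology

variable {A B : Type u} [CommRing A] [CommRing B] [Algebra A B]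

/-- near a prime `𝔭 ⊇ I` the length of Koszul-regular generating sequences of `I B` is constant -/
theorem exists_basicOpen_const_len [Module.FaithfullyFlat A B] {I : Ideal A} (hI : I.FG)
    (hJ : ∀ 𝔮 : PrimeSpectrum B, I.map (algebraMap A B) ≤ 𝔮.asIdeal →
      ∃ g : B, g ∉ 𝔮.asIdeal ∧ ∃ s, GenLen (I.map (algebraMap A B)) g s)
    (𝔭 : PrimeSpectrum A) (h𝔭 : I ≤ 𝔭.asIdeal) :
    ∃ (r : ℕ) (a₁ : A), a₁ ∉ 𝔭.asIdeal ∧
      (∀ 𝔮 : PrimeSpectrum B, algebraMap A B a₁ ∉ 𝔮.asIdeal →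
        I.map (algebraMap A B) ≤ 𝔮.asIdeal →
        ∃ g : B, g ∉ 𝔮.asIdeal ∧ GenLen (I.map (algebraMap A B)) g r) ∧
      ∃ n ≤ r, ∃ (v : Fin n → A) (a₂ : A), a₂ ∉ 𝔭.asIdeal ∧ NearGen I a₂ v := by
  let π := PrimeSpectrum.comap (algebraMap A B)
  have hπ : ∀ 𝔮 : PrimeSpectrum B, (π 𝔮).asIdeal = 𝔮.asIdeal.comap (algebraMap A B) := fun _ => rfl
  obtain ⟨𝔮₀, h𝔮₀⟩ : ∃ 𝔮₀, π 𝔮₀ = 𝔭 :=
    PrimeSpectrum.comap_surjective_of_faithfullyFlat (A := A) (B := B) 𝔭
  have hJ₀ : I.map (algebraMap A B) ≤ 𝔮₀.asIdeal := by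
    rw [Ideal.map_le_iff_le_comap, ← hπ, h𝔮₀]
    exact h𝔭
  obtain ⟨g₀, hg₀, r, hr⟩ := hJ 𝔮₀ hJ₀
  -- constancy along fibres
  have hfib : ∀ (𝔮 𝔮' : PrimeSpectrum B), π 𝔮 = π 𝔮' → I.map (algebraMap A B) ≤ 𝔮'.asIdeal →
      (∃ g, g ∉ 𝔮.asIdeal ∧ GenLen (I.map (algebraMap A B)) g r) →
      ∃ g, g ∉ 𝔮'.asIdeal ∧ GenLen (I.map (algebraMap A B)) g r := by
    rintro 𝔮 𝔮' hqq hJ' ⟨g, hg, hgen⟩
    obtain ⟨g', hg', s', hs'⟩ := hJ 𝔮' hJ'
    have hcomap : 𝔮.asIdeal.comap (algebraMap A B) = 𝔮'.asIdeal.comap (algebraMap A B) := by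
      rw [← hπ, ← hπ, hqq]
    have hJq : I.map (algebraMap A B) ≤ 𝔮.asIdeal := by
      rw [Ideal.map_le_iff_le_comap, hcomap, ← Ideal.map_le_iff_le_comap]
      exact hJ'
    have h1 : s' ≤ r :=
      GenLen.le_of_same_fibre hI 𝔮.asIdeal 𝔮'.asIdeal hcomap hJ' hgen hg hs' hg'
    have h2 : r ≤ s' :=
      GenLen.le_of_same_fibre hI 𝔮'.asIdeal 𝔮.asIdeal hcomap.symm hJq hs' hg' hgen hg
    have h3 : s' = r := le_antisymm h1 h2
    exact ⟨g', hg', h3 ▸ hs'⟩
  let E : Set (PrimeSpectrum B) :=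
    {𝔮 | I.map (algebraMap A B) ≤ 𝔮.asIdeal →
      ∃ g, g ∉ 𝔮.asIdeal ∧ GenLen (I.map (algebraMap A B)) g r}
  let T : Set (PrimeSpectrum A) := {𝔭' | ∀ 𝔮, π 𝔮 = 𝔭' → 𝔮 ∈ E}
  have hE : IsOpen E := by
    rw [isOpen_iff_forall_mem_open]
    intro 𝔮 h𝔮
    by_cases hJq : I.map (algebraMap A B) ≤ 𝔮.asIdeal
    · obtain ⟨g, hg, hgen⟩ := h𝔮 hJq
      refine ⟨PrimeSpectrum.basicOpen g, ?_, (PrimeSpectrum.basicOpen g).2, hg⟩
      intro 𝔮' h𝔮' _
      exact ⟨g, h𝔮', hgen⟩
    · obtain ⟨j, hjJ, hj𝔮⟩ := SetLike.not_le_iff_exists.mp hJq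
      refine ⟨PrimeSpectrum.basicOpen j, ?_, (PrimeSpectrum.basicOpen j).2, hj𝔮⟩
      intro 𝔮' h𝔮' hJ'
      exact absurd (hJ' hjJ) h𝔮'
  have hpre : π ⁻¹' T = E := by
    ext 𝔮
    constructor
    · intro h
      exact h 𝔮 rfl
    · intro h 𝔮' hq' hJ'
      have hcomap : 𝔮'.asIdeal.comap (algebraMap A B) = 𝔮.asIdeal.comap (algebraMap A B) := by
        rw [← hπ, ← hπ, hq']
      have hJq : I.map (algebraMap A B) ≤ 𝔮.asIdeal := by
        rw [Ideal.map_le_iff_le_comap, ← hcomap, ← Ideal.map_le_iff_le_comap]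
        exact hJ'
      exact hfib 𝔮 𝔮' hq'.symm hJ' (h hJq)
  have hquot : Topology.IsQuotientMap π :=
    PrimeSpectrum.isQuotientMap_of_generalizingMap
      PrimeSpectrum.comap_surjective_of_faithfullyFlat
      (RingHom.Flat.generalizingMap_comap (RingHom.flat_algebraMap_iff.mpr inferInstance))
  have hT : IsOpen T := hquot.isCoinducing.isOpen_preimage.mp (hpre ▸ hE)
  have h𝔭T : 𝔭 ∈ T := by
    intro 𝔮 hq hJq
    exact hfib 𝔮₀ 𝔮 (h𝔮₀.trans hq.symm) hJq ⟨g₀, hg₀, hr⟩
  obtain ⟨U, ⟨a₁, rfl⟩, h𝔭U, hUT⟩ :=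
    PrimeSpectrum.isTopologicalBasis_basic_opens.exists_subset_of_mem_open h𝔭T hT
  refine ⟨r, a₁, h𝔭U, ?_, ?_⟩
  · intro 𝔮 ha₁ hJq
    have h1 : π 𝔮 ∈ T := hUT (by
      show a₁ ∉ (π 𝔮).asIdeal
      rw [hπ]
      exact ha₁)
    exact h1 𝔮 rfl hJq
  · obtain ⟨n, hn, v, a, ha, hv⟩ := hr.exists_nearGen hI 𝔮₀.asIdeal hg₀
    refine ⟨n, hn, v, a, ?_, hv⟩
    rw [← h𝔮₀, hπ]
    exact ha

end topology

section assembly

variable {A B : Type u} [CommRing A] [CommRing B] [Algebra A B]

/-- Koszul-regularity of the images of `v` in a flat `B`-algebra where `a` and `g` are invertible -/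
theorem kr_of_genLen {I : Ideal A} {a : A} {n r : ℕ} {v : Fin n → A} (hv : NearGen I a v)
    (hn : n ≤ r) {g : B} (hgen : GenLen (I.map (algebraMap A B)) g r)
    (T : Type u) [CommRing T] [Algebra A T] [Algebra B T] [IsScalarTower A B T] [Module.Flat B T]
    (ha : IsUnit (algebraMap A T a)) (hg : IsUnit (algebraMap B T g)) :
    LCI.IsKoszulRegularSeq T (List.ofFn (algebraMap A T ∘ v)) := by
  obtain ⟨l, hlen, hl, hJl⟩ := hgen.transfer T hg
  refine Retr.isKoszulRegularSeq_of_length_le _ l ?_ (by rw [List.length_ofFn, hlen]; exact hn) hl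
  rw [← hJl, ofList_ofFn, Ideal.map_map, ← IsScalarTower.algebraMap_eq A B T]
  exact (hv.map_eq (algebraMap A T) ha).symm

theorem kr_of_unit {I : Ideal A} {a : A} {n : ℕ} {v : Fin n → A} (hv : NearGen I a v)
    (T : Type u) [CommRing T] [Algebra A T] [Algebra B T] [IsScalarTower A B T]
    (ha : IsUnit (algebraMap A T a)) {j : B} (hj : j ∈ I.map (algebraMap A B))
    (hju : IsUnit (algebraMap B T j)) :
    LCI.IsKoszulRegularSeq T (List.ofFn (algebraMap A T ∘ v)) := by
  apply isKoszulRegularSeq_of_ofList_eq_top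
  rw [ofList_ofFn, ← hv.map_eq (algebraMap A T) ha, IsScalarTower.algebraMap_eq A B T,
    ← Ideal.map_map]
  exact Ideal.eq_top_of_isUnit_mem _ (Ideal.mem_map_of_mem _ hj) hju

/-- `A_a → B_a` is faithfully flat -/
theorem faithfullyFlat_away [Module.FaithfullyFlat A B] (a : A)
    (SA : Type u) [CommRing SA] [Algebra A SA] [IsLocalization.Away a SA]
    (T : Type u) [CommRing T] [Algebra A T] [Algebra B T] [IsScalarTower A B T]
    [IsLocalization.Away (algebraMap A B a) T] [Algebra SA T] [IsScalarTower A SA T] :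
    Module.FaithfullyFlat SA T := by
  have hflatBT : Module.Flat B T := IsLocalization.flat T (Submonoid.powers (algebraMap A B a))
  have hflatAT : Module.Flat A T := Module.Flat.trans A B T
  have : Module.Flat SA T :=
    (Module.flat_iff_of_isLocalization SA (Submonoid.powers a) T).mpr hflatAT
  apply Module.FaithfullyFlat.of_comap_surjective
  intro P
  obtain ⟨𝔮, h𝔮⟩ := PrimeSpectrum.comap_surjective_of_faithfullyFlat (A := A) (B := B)
    (PrimeSpectrum.comap (algebraMap A SA) P)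
  have ha𝔮 : algebraMap A B a ∉ 𝔮.asIdeal := by
    intro hmem
    have h1 : a ∈ (PrimeSpectrum.comap (algebraMap A SA) P).asIdeal := by
      rw [← h𝔮]
      exact hmem
    exact P.isPrime.ne_top
      (Ideal.eq_top_of_isUnit_mem _ h1 (IsLocalization.Away.algebraMap_isUnit a))
  have hdisj : Disjoint (Submonoid.powers (algebraMap A B a) : Set B) (𝔮.asIdeal : Set B) :=
    (Ideal.disjoint_powers_iff_notMem _ 𝔮.isPrime.isRadical).mpr ha𝔮
  let Q : PrimeSpectrum T := ⟨𝔮.asIdeal.map (algebraMap B T),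
    IsLocalization.isPrime_of_isPrime_disjoint _ T _ 𝔮.isPrime hdisj⟩
  have hQ : PrimeSpectrum.comap (algebraMap B T) Q = 𝔮 :=
    PrimeSpectrum.ext (IsLocalization.under_map_of_isPrime_disjoint _ T 𝔮.isPrime hdisj)
  refine ⟨Q, ?_⟩
  apply PrimeSpectrum.localization_comap_injective SA (Submonoid.powers a)
  rw [← PrimeSpectrum.comap_comp_apply, ← IsScalarTower.algebraMap_eq A SA T,
    IsScalarTower.algebraMap_eq A B T, PrimeSpectrum.comap_comp_apply, hQ, h𝔮]

/-- **assembly**: constant length near `D(a)` gives a Koszul-regular generating sequence of `I_a` -/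
theorem genAt_of_const_len [Module.FaithfullyFlat A B] {I : Ideal A} {a : A} {n r : ℕ}
    {v : Fin n → A} (hv : NearGen I a v) (hn : n ≤ r)
    (H : ∀ 𝔮 : PrimeSpectrum B, algebraMap A B a ∉ 𝔮.asIdeal →
      I.map (algebraMap A B) ≤ 𝔮.asIdeal →
        ∃ g : B, g ∉ 𝔮.asIdeal ∧ GenLen (I.map (algebraMap A B)) g r) :
    GenAt I a := by
  let SA := Localization.Away a
  let T := Localization.Away (algebraMap A B a)
  have huT : IsUnit (algebraMap A T a) := by
    rw [IsScalarTower.algebraMap_apply A B T]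
    exact IsLocalization.Away.algebraMap_isUnit _
  let φ : SA →+* T := IsLocalization.Away.lift a (g := algebraMap A T) huT
  let _ : Algebra SA T := φ.toAlgebra
  have : IsScalarTower A SA T := IsScalarTower.of_algebraMap_eq
    (fun x => (IsLocalization.Away.lift_eq a huT x).symm)
  have hflatBT : Module.Flat B T := IsLocalization.flat T (Submonoid.powers (algebraMap A B a))
  have : Module.FaithfullyFlat SA T := faithfullyFlat_away (B := B) a SA T
  refine GenAt.mk SA (List.ofFn (algebraMap A SA ∘ v)) ?_ ?_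
  · apply isKoszulRegularSeq_of_faithfullyFlat (R' := T)
    rw [List.map_ofFn]
    have hcomp : (algebraMap SA T) ∘ (algebraMap A SA ∘ v) = algebraMap A T ∘ v := by
      funext i
      simp only [Function.comp_apply]
      rw [← IsScalarTower.algebraMap_apply A SA T]
    rw [hcomp]
    apply isKoszulRegularSeq_of_locally
    intro 𝔮'
    have ha𝔮 : algebraMap A B a ∉ (PrimeSpectrum.comap (algebraMap B T) 𝔮').asIdeal :=
      fun hmem => 𝔮'.isPrime.ne_top
        (Ideal.eq_top_of_isUnit_mem _ hmem (IsLocalization.Away.algebraMap_isUnit _))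
    have key : ∀ (x : B), algebraMap B T x ∉ 𝔮'.asIdeal →
        (∀ (T' : Type u) [CommRing T'] [Algebra A T'] [Algebra B T'] [IsScalarTower A B T']
          [Module.Flat B T'], IsUnit (algebraMap A T' a) → IsUnit (algebraMap B T' x) →
          LCI.IsKoszulRegularSeq T' (List.ofFn (algebraMap A T' ∘ v))) →
        ∃ g : T, g ∉ 𝔮'.asIdeal ∧ Nonempty (LocModel (List.ofFn (algebraMap A T ∘ v)) g) := by
      intro x hx hkr
      refine ⟨algebraMap B T x, hx, ⟨?_⟩⟩
      let T' := Localization.Away (algebraMap B T x)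
      have : Module.Flat T T' := IsLocalization.flat T' (Submonoid.powers (algebraMap B T x))
      have : Module.Flat B T' := Module.Flat.trans B T T'
      have : IsScalarTower A B T' := by
        refine IsScalarTower.of_algebraMap_eq (R := A) (S := B) (A := T') (fun y => ?_)
        rw [IsScalarTower.algebraMap_apply A T T' y, IsScalarTower.algebraMap_apply A B T y,
          IsScalarTower.algebraMap_apply B T T' (algebraMap A B y)]
      refine { R' := T', kr := ?_ }
      rw [List.map_ofFn]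
      have hcomp' : (algebraMap T T') ∘ (algebraMap A T ∘ v) = algebraMap A T' ∘ v := by
        funext i
        simp only [Function.comp_apply]
        rw [← IsScalarTower.algebraMap_apply A T T']
      rw [hcomp']
      refine hkr T' ?_ ?_
      · rw [IsScalarTower.algebraMap_apply A T T']
        exact huT.map _
      · rw [IsScalarTower.algebraMap_apply B T T']
        exact IsLocalization.Away.algebraMap_isUnit _
    by_cases hJq : I.map (algebraMap A B) ≤ (PrimeSpectrum.comap (algebraMap B T) 𝔮').asIdeal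
    · obtain ⟨g, hg, hgen⟩ := H _ ha𝔮 hJq
      exact key g hg (fun T' _ _ _ _ _ ha' hg' => kr_of_genLen hv hn hgen T' ha' hg')
    · obtain ⟨j, hjJ, hj𝔮⟩ := SetLike.not_le_iff_exists.mp hJq
      exact key j hj𝔮 (fun T' _ _ _ _ _ ha' hj' => kr_of_unit hv T' ha' hjJ hj')
  · rw [ofList_ofFn]
    exact hv.map_eq (algebraMap A SA) (IsLocalization.Away.algebraMap_isUnit a)

end assembly

section main

variable {A B : Type u} [CommRing A] [CommRing B] [Algebra A B]

/-- a Koszul-regular ideal is finitely generated -/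
theorem fg_of_isKoszulRegularIdeal {J : Ideal B} (h : LCI.IsKoszulRegularIdeal J) : J.FG := by
  classical
  let t : Set B := {g | (J.map (algebraMap B (Localization.Away g))).FG}
  refine Ideal.fg_of_localizationSpan t ?_ (fun g => g.2)
  by_contra hne
  obtain ⟨𝔪, hmax, hle⟩ := Ideal.exists_le_maximal _ hne
  by_cases hJ : J ≤ 𝔪
  · obtain ⟨g, hg, l, _, hl⟩ := h ⟨𝔪, hmax.isPrime⟩ hJ
    apply hg
    apply hle
    apply Ideal.subset_span
    show (J.map (algebraMap B (Localization.Away g))).FG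
    rw [hl]
    refine ⟨l.toFinset, ?_⟩
    congr 1
    ext x
    simp
  · obtain ⟨j, hjJ, hj𝔪⟩ := SetLike.not_le_iff_exists.mp hJ
    apply hj𝔪
    apply hle
    apply Ideal.subset_span
    show (J.map (algebraMap B (Localization.Away j))).FG
    have : J.map (algebraMap B (Localization.Away j)) = ⊤ :=
      Ideal.eq_top_of_isUnit_mem _ (Ideal.mem_map_of_mem _ hjJ)
        (IsLocalization.Away.algebraMap_isUnit j)
    rw [this]
    exact ⟨{1}, by simp⟩

/-- **faithfully flat descent of Koszul-regular ideals** -/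
theorem isKoszulRegularIdeal_of_faithfullyFlat [Module.FaithfullyFlat A B] (I : Ideal A)
    (h : LCI.IsKoszulRegularIdeal (I.map (algebraMap A B))) : LCI.IsKoszulRegularIdeal I := by
  have hI : I.FG := Ideal.FG.of_FG_map_of_faithfullyFlat (S := B) (fg_of_isKoszulRegularIdeal h)
  rw [isKoszulRegularIdeal_iff] at h ⊢
  intro 𝔭 h𝔭
  have hJ : ∀ 𝔮 : PrimeSpectrum B, I.map (algebraMap A B) ≤ 𝔮.asIdeal →
      ∃ g : B, g ∉ 𝔮.asIdeal ∧ ∃ s, GenLen (I.map (algebraMap A B)) g s := by
    intro 𝔮 h𝔮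
    obtain ⟨g, hg, hgen⟩ := h 𝔮 h𝔮
    exact ⟨g, hg, hgen.exists_genLen⟩
  obtain ⟨r, a₁, ha₁, H, n, hn, v, a₂, ha₂, hv⟩ := exists_basicOpen_const_len hI hJ 𝔭 h𝔭
  refine ⟨a₂ * a₁, fun hmem => (𝔭.isPrime.mem_or_mem hmem).elim ha₂ ha₁, ?_⟩
  refine genAt_of_const_len (B := B) (r := r) (hv.mul a₁) hn ?_
  intro 𝔮 ha hJq
  refine H 𝔮 (fun hmem => ha ?_) hJq
  rw [map_mul]
  exact Ideal.mul_mem_left _ _ hmem

end main

end Groth.Agent.Lib.KRDescC
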