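import Groth.Prelude.Def_LCI2
import Groth.Agent.Lib.H87ConormalFree
import Groth.Agent.Lib.KoszulRel2
import Groth.Agent.Lib.KRDescC

/-!
# The conormal module of a Koszul-regular ideal is finite projective (helper32)

* `away_map_surjective`, `ker_away_map` : the map `Q_g → S_{π g}` induced by a surjection `π : Q → S`
  is surjective with kernel `(ker π) Q_g`.
* `locExt P g Q' S'`, `locHom P g Q' S'` : the extension `Q' = P.Ring_g → S' = S_g` obtained by localizing an
  extension `P` at an element `g : P.Ring`, with the morphism of extensions `P → locExt`.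
* `isLocalizedModule_cotangent_map` : `P.Cotangent → (locExt ..).Cotangent` is the localization at `g`.
* `free_cotangent_of_isKoszulRegularSeq` : if `P.ker` is generated by a Koszul-regular sequence, then
  `P.Cotangent` is finite free over `S`.
* `finite_projective_cotangent` : if `P.ker` is a Koszul-regular ideal then `P.Cotangent` is a finite
  projective `S`-module.
-/

set_option autoImplicit false
universe u

open Algebra

namespace Groth.Agent.Lib.ConormalKoszul32

section awayMap

variable {Q S : Type*} [CommRing Q] [CommRing S] (π : Q →+* S) (g : Q)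
  (Q' : Type*) [CommRing Q'] [Algebra Q Q'] [IsLocalization.Away g Q']
  (S' : Type*) [CommRing S'] [Algebra S S'] [IsLocalization.Away (π g) S']

theorem away_map_algebraMap (a : Q) :
    IsLocalization.Away.map Q' S' π g (algebraMap Q Q' a) = algebraMap S S' (π a) := by
  unfold IsLocalization.Away.map
  exact IsLocalization.map_eq _ _

theorem away_map_surjective (hπ : Function.Surjective π) :
    Function.Surjective (IsLocalization.Away.map Q' S' π g) := by
  rw [IsLocalization.Away.map_surjective_iff]
  intro a
  obtain ⟨b, rfl⟩ := hπ a
  exact ⟨b, 0, by simp⟩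

theorem ker_away_map :
    RingHom.ker (IsLocalization.Away.map Q' S' π g) = (RingHom.ker π).map (algebraMap Q Q') := by
  apply le_antisymm
  · intro y hy
    obtain ⟨a, s, rfl⟩ := IsLocalization.exists_mk'_eq (Submonoid.powers g) y
    rw [RingHom.mem_ker] at hy
    unfold IsLocalization.Away.map at hy
    rw [IsLocalization.map_mk', IsLocalization.mk'_eq_zero_iff] at hy
    obtain ⟨⟨m, k, hk⟩, hm⟩ := hy
    rw [IsLocalization.mk'_mem_map_algebraMap_iff]
    refine ⟨g ^ k, ⟨k, rfl⟩, ?_⟩
    rw [RingHom.mem_ker, map_mul, map_pow]
    simpa [← hk] using hm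
  · rw [Ideal.map_le_iff_le_comap]
    intro a ha
    rw [Ideal.mem_comap, RingHom.mem_ker, away_map_algebraMap, RingHom.mem_ker.mp ha, map_zero]

end awayMap

section locExt

variable {A S : Type u} [CommRing A] [CommRing S] [Algebra A S] (P : Extension.{u} A S) (g : P.Ring)
  (Q' : Type u) [CommRing Q'] [Algebra P.Ring Q'] [IsLocalization.Away g Q']
  [Algebra A Q'] [IsScalarTower A P.Ring Q']
  (S' : Type u) [CommRing S'] [Algebra S S'] [IsLocalization.Away (algebraMap P.Ring S g) S']
  [Algebra A S'] [IsScalarTower A S S']
  [Algebra Q' S'] [Algebra P.Ring S'] [IsScalarTower P.Ring Q' S'] [IsScalarTower P.Ring S S']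

theorem algebraMap_algebraMap (q : P.Ring) :
    algebraMap Q' S' (algebraMap P.Ring Q' q) = algebraMap S S' (algebraMap P.Ring S q) := by
  rw [← IsScalarTower.algebraMap_apply, ← IsScalarTower.algebraMap_apply]

include g in
theorem algebraMap_eq_away_map :
    algebraMap Q' S' = IsLocalization.Away.map Q' S' (algebraMap P.Ring S) g := by
  apply IsLocalization.ringHom_ext (Submonoid.powers g)
  ext q
  simp only [RingHom.coe_comp, Function.comp_apply]
  rw [away_map_algebraMap, algebraMap_algebraMap P]

include P g in
theorem algebraMap_surjective' : Function.Surjective (algebraMap Q' S') := by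
  rw [algebraMap_eq_away_map P g Q' S']
  exact away_map_surjective _ g Q' S' P.algebraMap_surjective

include g in
theorem ker_algebraMap' :
    RingHom.ker (algebraMap Q' S') = P.ker.map (algebraMap P.Ring Q') := by
  rw [algebraMap_eq_away_map P g Q' S']
  exact ker_away_map _ g Q' S'

include P g in
theorem isScalarTower' : IsScalarTower A Q' S' := by
  apply IsScalarTower.of_algebraMap_eq
  intro a
  rw [IsScalarTower.algebraMap_apply A P.Ring Q', algebraMap_algebraMap P,
    ← IsScalarTower.algebraMap_apply A P.Ring S, ← IsScalarTower.algebraMap_apply A S S']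

/-- the localization of an extension at an element of its ring -/
@[reducible] noncomputable def locExt : Extension.{u} A S' where
  Ring := Q'
  isScalarTower := isScalarTower' P g Q' S'
  σ := fun x => (algebraMap_surjective' P g Q' S' x).choose
  algebraMap_σ := fun x => (algebraMap_surjective' P g Q' S' x).choose_spec

/-- the morphism of extensions from an extension to its localization -/
noncomputable def locHom : P.Hom (locExt P g Q' S') where
  toRingHom := algebraMap P.Ring Q'
  toRingHom_algebraMap := fun x => by
    rw [← IsScalarTower.algebraMap_apply]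
    rfl
  algebraMap_toRingHom := fun x => algebraMap_algebraMap P Q' S' x

theorem ker_locExt :
    (locExt P g Q' S').ker = P.ker.map (algebraMap P.Ring Q') :=
  ker_algebraMap' P g Q' S'

/-- the `S`-action on the conormal module of the localized extension, in terms of the ring action -/
theorem smul_locExt_cotangent (q : P.Ring) (z : (locExt P g Q' S').Cotangent) :
    (algebraMap P.Ring S q) • z = (algebraMap P.Ring Q' q : (locExt P g Q' S').Ring) • z := by
  have h := algebraMap_algebraMap P Q' S' q
  change (algebraMap S S' (algebraMap P.Ring S q)) • z = (algebraMap Q' S' (algebraMap P.Ring Q' q)) • z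
  rw [h]

theorem cotangent_map_locHom_mk (x : P.ker) :
    Extension.Cotangent.map (locHom P g Q' S') (Extension.Cotangent.mk x) =
      Extension.Cotangent.mk (P := locExt P g Q' S') ⟨algebraMap P.Ring Q' x.1, by
        rw [ker_locExt]; exact Ideal.mem_map_of_mem _ x.2⟩ :=
  Extension.Cotangent.map_mk _ _

/-- The conormal module of the localized extension is the localization of the conormal module. -/
theorem isLocalizedModule_cotangent_map :
    IsLocalizedModule (Submonoid.powers (algebraMap P.Ring S g))
      (Extension.Cotangent.map (locHom P g Q' S')) where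
  map_units := by
    rintro ⟨x, hx⟩
    have hu : IsUnit (algebraMap S S' x) :=
      IsLocalization.map_units S' (⟨x, hx⟩ : Submonoid.powers (algebraMap P.Ring S g))
    rw [Module.End.isUnit_iff]
    constructor
    · intro a b hab
      simp only [Module.algebraMap_end_apply] at hab
      rw [← algebraMap_smul S' x a, ← algebraMap_smul S' x b] at hab
      exact hu.smul_left_cancel.mp hab
    · intro b
      refine ⟨(hu.unit⁻¹ : S'ˣ) • b, ?_⟩
      simp only [Module.algebraMap_end_apply]
      rw [← algebraMap_smul S' x, Units.smul_def, ← mul_smul, IsUnit.mul_val_inv, one_smul]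
  surj := by
    intro y
    obtain ⟨⟨q', hq'⟩, rfl⟩ := Extension.Cotangent.mk_surjective y
    obtain ⟨q, ⟨_, n, rfl⟩, rfl⟩ := IsLocalization.exists_mk'_eq (Submonoid.powers g) q'
    have hq'' := hq'
    rw [ker_locExt, IsLocalization.mk'_mem_map_algebraMap_iff] at hq''
    obtain ⟨_, ⟨m, rfl⟩, hm⟩ := hq''
    refine ⟨(Extension.Cotangent.mk ⟨g ^ m * q, hm⟩,
      ⟨(algebraMap P.Ring S g) ^ (n + m), ⟨n + m, rfl⟩⟩), ?_⟩
    rw [cotangent_map_locHom_mk, Submonoid.smul_def]
    simp only
    rw [← map_pow, smul_locExt_cotangent, ← LinearMap.map_smul]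
    congr 1
    apply Subtype.ext
    change algebraMap P.Ring Q' (g ^ (n + m)) * IsLocalization.mk' Q' q ⟨g ^ n, _⟩ =
      algebraMap P.Ring Q' (g ^ m * q)
    rw [pow_add, map_mul, map_mul, mul_comm (algebraMap P.Ring Q' (g ^ n)), mul_assoc,
      IsLocalization.mk'_spec'_mk]
  exists_of_eq := by
    intro x₁ x₂ h
    obtain ⟨⟨q, hq⟩, hd⟩ := Extension.Cotangent.mk_surjective (x₁ - x₂)
    have h0 : Extension.Cotangent.map (locHom P g Q' S') (Extension.Cotangent.mk ⟨q, hq⟩) = 0 := by
      rw [hd, map_sub, h, sub_self]
    rw [cotangent_map_locHom_mk, Extension.Cotangent.mk_eq_zero_iff] at h0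
    replace h0 : algebraMap P.Ring Q' q ∈ (locExt P g Q' S').ker ^ 2 := h0
    rw [ker_locExt, ← Ideal.map_pow,
      IsLocalization.algebraMap_mem_map_algebraMap_iff (Submonoid.powers g)] at h0
    obtain ⟨_, ⟨k, rfl⟩, hk⟩ := h0
    refine ⟨⟨(algebraMap P.Ring S g) ^ k, ⟨k, rfl⟩⟩, ?_⟩
    rw [← sub_eq_zero, ← smul_sub, ← hd, Submonoid.smul_def]
    simp only
    rw [← map_pow, algebraMap_smul, ← LinearMap.map_smul, Extension.Cotangent.mk_eq_zero_iff]
    exact hk

end locExt

section free

variable {A S : Type u} [CommRing A] [CommRing S] [Algebra A S]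

/-- If the kernel of an extension is generated by a Koszul-regular sequence, its conormal module is
finite free. -/
theorem free_cotangent_of_isKoszulRegularSeq (P : Extension.{u} A S) (l : List P.Ring)
    (hl : LCI.IsKoszulRegularSeq P.Ring l) (hker : P.ker = Ideal.span {x | x ∈ l}) :
    Module.Free S P.Cotangent ∧ Module.Finite S P.Cotangent := by
  have h1 := Groth.Agent.Lib.KoszulRel.isH1Regular_get_of_isKoszulRegularSeq l hl
  have hker' : RingHom.ker (algebraMap P.Ring S) = Ideal.span (Set.range l.get) := by
    rw [Set.range_list_get]
    exact hker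
  exact Groth.Agent.Lib.H87ConormalFree.free_of_isH1Regular P.algebraMap_surjective l.get h1 hker'
    (Extension.Cotangent.mk (P := P))
    (IsBaseChange.of_equiv P.cotangentEquiv (fun x => by
      rw [Extension.contangentEquiv_tmul, one_smul]))

/-- The localization of the conormal module at an element over which the kernel is generated by a
Koszul-regular sequence is finite free. -/
theorem free_localizedModule_cotangent (P : Extension.{u} A S) (g : P.Ring)
    (l : List (Localization.Away g)) (hl : LCI.IsKoszulRegularSeq (Localization.Away g) l)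
    (hker : P.ker.map (algebraMap P.Ring (Localization.Away g)) = Ideal.span {x | x ∈ l}) :
    Module.Free (Localization.Away (algebraMap P.Ring S g))
        (LocalizedModule.Away (algebraMap P.Ring S g) P.Cotangent) ∧
      Module.Finite (Localization.Away (algebraMap P.Ring S g))
        (LocalizedModule.Away (algebraMap P.Ring S g) P.Cotangent) := by
  let _ : Algebra (Localization.Away g) (Localization.Away (algebraMap P.Ring S g)) :=
    (IsLocalization.Away.map (Localization.Away g) (Localization.Away (algebraMap P.Ring S g))
      (algebraMap P.Ring S) g).toAlgebra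
  have : IsScalarTower P.Ring (Localization.Away g) (Localization.Away (algebraMap P.Ring S g)) :=
    .of_algebraMap_eq (fun x => by
      rw [RingHom.algebraMap_toAlgebra, away_map_algebraMap, ← IsScalarTower.algebraMap_apply])
  obtain ⟨hfree, hfin⟩ := free_cotangent_of_isKoszulRegularSeq
    (locExt P g (Localization.Away g) (Localization.Away (algebraMap P.Ring S g))) l hl
    ((ker_locExt P g (Localization.Away g) (Localization.Away (algebraMap P.Ring S g))).trans hker)
  have hloc := isLocalizedModule_cotangent_map P g (Localization.Away g)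
    (Localization.Away (algebraMap P.Ring S g))
  let e₀ := IsLocalizedModule.linearEquiv (Submonoid.powers (algebraMap P.Ring S g))
    (LocalizedModule.mkLinearMap (Submonoid.powers (algebraMap P.Ring S g)) P.Cotangent)
    (Extension.Cotangent.map
      (locHom P g (Localization.Away g) (Localization.Away (algebraMap P.Ring S g))))
  let e := LinearEquiv.extendScalarsOfIsLocalization (Submonoid.powers (algebraMap P.Ring S g))
    (Localization.Away (algebraMap P.Ring S g)) e₀
  exact ⟨Module.Free.of_equiv e.symm, Module.Finite.equiv e.symm⟩

/-- The conormal module of an extension with Koszul-regular kernel is finite projective. -/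
theorem finite_projective_cotangent (P : Extension.{u} A S)
    (hK : LCI.IsKoszulRegularIdeal P.ker) :
    Module.Finite S P.Cotangent ∧ Module.Projective S P.Cotangent := by
  classical
  have hfg : P.ker.FG := Groth.Agent.Lib.KRDescC.fg_of_isKoszulRegularIdeal hK
  have hfin : Module.Finite S P.Cotangent := Extension.Cotangent.finite hfg
  refine ⟨hfin, ?_⟩
  let T : Set S := {t | ∃ g : P.Ring, algebraMap P.Ring S g = t ∧
    ∃ l : List (Localization.Away g), LCI.IsKoszulRegularSeq (Localization.Away g) l ∧
      P.ker.map (algebraMap P.Ring (Localization.Away g)) = Ideal.span {x | x ∈ l}}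
  have hT : Ideal.span T = ⊤ := by
    by_contra hne
    obtain ⟨𝔪, hmax, hle⟩ := Ideal.exists_le_maximal _ hne
    have hp : (𝔪.comap (algebraMap P.Ring S)).IsPrime := Ideal.comap_isPrime _ _
    have hI : P.ker ≤ 𝔪.comap (algebraMap P.Ring S) := by
      intro x hx
      rw [Ideal.mem_comap, RingHom.mem_ker.mp hx]
      exact zero_mem _
    obtain ⟨g, hg, l, hl, hspan⟩ := hK ⟨_, hp⟩ hI
    apply hg
    change algebraMap P.Ring S g ∈ 𝔪
    exact hle (Ideal.subset_span ⟨g, rfl, l, hl, hspan⟩)
  have hloc : ∀ t : T, Module.Free (Localization.Away t.1) (LocalizedModule.Away t.1 P.Cotangent) ∧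
      Module.Finite (Localization.Away t.1) (LocalizedModule.Away t.1 P.Cotangent) := by
    rintro ⟨t, g, rfl, l, hl, hspan⟩
    exact free_localizedModule_cotangent P g l hl hspan
  have hfp : Module.FinitePresentation S P.Cotangent :=
    Module.FinitePresentation.of_localizationSpan T hT (fun t => by
      obtain ⟨h1, h2⟩ := hloc t
      exact Module.finitePresentation_of_projective _ _)
  have hflat : Module.Flat S P.Cotangent :=
    Module.flat_of_localized_span S _ T hT (fun t => by
      obtain ⟨h1, h2⟩ := hloc t
      exact Module.Flat.trans S (Localization.Away t.1) _)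
  exact Module.Flat.projective_of_finitePresentation

end free

end Groth.Agent.Lib.ConormalKoszul32
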