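import Groth.Agent.Lib.NzdFiberD88
import Groth.Agent.Lib.PurityBC7
import Groth.Agent.Lib.LCIBaseChange
import Groth.Agent.Lib.H14GorLCI
import Groth.Agent.S16713

/-!
# Associated primes of a flat lci algebra are minimal in their fibres — helper32

* `eq_of_le_of_mem_associatedPrimes`: `A → P` flat lci with `P` Noetherian, `q ∈ Ass_P(P)`: every prime `𝔔 ≤ q` with
  the same contraction to `A` equals `q`.
-/

set_option autoImplicit false
universe u

namespace Groth.Agent.Lib.AssFibreMin32

open TensorProduct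

attribute [local instance] Algebra.TensorProduct.rightAlgebra

variable {A P : Type u} [CommRing A] [CommRing P] [Algebra A P] [IsNoetherianRing P]
  [Module.Flat A P]

/-- the image of an associated prime of `P` in the fibre ring over its contraction is an associated prime of the
fibre ring -/
theorem fiberIdeal_mem_associatedPrimes (q : Ideal P) [q.IsPrime]
    (hq : q ∈ associatedPrimes P P) :
    FlatCA.fiberIdeal (q.under A) q ∈
      associatedPrimes ((q.under A).Fiber P) ((q.under A).Fiber P) := by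
  have e1 : (P ⊗[A] A) ≃ₗ[P] P := TensorProduct.AlgebraTensorModule.rid A P P
  have hq1 : q ∈ associatedPrimes P (P ⊗[A] A) := by
    rw [LinearEquiv.AssociatedPrimes.eq e1]
    exact hq
  have h2 := Groth.Agent.Lib.NzdFiberD88.fiberIdeal_mem_of_mem_associatedPrimes P A q hq1
  have e2 : FlatCA.fiberMod (q.under A) P P ≃ₗ[(q.under A).Fiber P] (q.under A).Fiber P :=
    TensorProduct.AlgebraTensorModule.rid P ((q.under A).Fiber P) ((q.under A).Fiber P)
  rw [LinearEquiv.AssociatedPrimes.eq e2] at h2
  exact h2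

/-- **associated primes of a flat lci algebra are minimal in their fibres** -/
theorem eq_of_le_of_mem_associatedPrimes (hlci : LCI.IsLCI A P) (q : Ideal P) [q.IsPrime]
    (hq : q ∈ associatedPrimes P P) (𝔔 : Ideal P) [𝔔.IsPrime] (hle : 𝔔 ≤ q)
    (hunder : 𝔔.under A = q.under A) : 𝔔 = q := by
  set p := q.under A with hp
  have hF : LCI.IsLCI p.ResidueField (p.Fiber P) :=
    Groth.Agent.Lib.LCIBaseChange.isLCI_baseChange (R := A) (R' := p.ResidueField) (A := A)
      (A' := p.ResidueField) (B := P) (B' := p.Fiber P) hlci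
  have hG : LocCoh.IsGorensteinRing (p.Fiber P) :=
    Groth.Agent.Lib.H14GorLCI.isGorensteinRing_of_isLCI p.ResidueField (p.Fiber P)
      (Groth.Agent.Lib.H14GorHom.isGorensteinRing_of_field p.ResidueField) hF
  have hass := fiberIdeal_mem_associatedPrimes (A := A) q hq
  have hmin : FlatCA.fiberIdeal p q ∈ minimalPrimes (p.Fiber P) :=
    Groth.Agent.S16713.mem_minimalPrimes_of_isAssociatedPrime hG hass
  have : q.LiesOver p := ⟨rfl⟩
  have : 𝔔.LiesOver p := ⟨hunder.symm⟩
  obtain ⟨hQprime, hQcomap⟩ := Groth.Agent.Lib.PurityBC7.fiberIdeal_isPrime_comap p 𝔔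
  obtain ⟨-, hqcomap⟩ := Groth.Agent.Lib.PurityBC7.fiberIdeal_isPrime_comap p q
  have hle' : FlatCA.fiberIdeal p 𝔔 ≤ FlatCA.fiberIdeal p q := Ideal.map_mono hle
  have hge : FlatCA.fiberIdeal p q ≤ FlatCA.fiberIdeal p 𝔔 := hmin.2 ⟨hQprime, bot_le⟩ hle'
  refine le_antisymm hle ?_
  rw [← hqcomap, ← hQcomap]
  exact Ideal.comap_mono hge

end Groth.Agent.Lib.AssFibreMin32
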