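import Groth.Prelude.Def_FlatCA
import Mathlib.Algebra.Module.LocalizedModule.Basic
import Mathlib.RingTheory.Localization.Ideal
import Mathlib.RingTheory.Ideal.MinimalPrime.Localization
import Mathlib.RingTheory.Flat.TorsionFree

/-!
# Associated and weakly associated primes and localization at a multiplicative set acting injectively (helper65)

`S` a commutative ring, `T` a submonoid of `S`, `N` an `S`-module on which every element of `T` acts
injectively (`TInj T N`).  Then annihilators of elements do not change when passing from `N` to
`T⁻¹N` (over `S`), and over `T⁻¹S` they are the extended ideals.  Consequences for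
`FlatCA.ass` and `FlatCA.weakAss`.
-/

set_option autoImplicit false

namespace Groth.Agent.Lib.AssLocalization

variable {S : Type*} [CommRing S] (T : Submonoid S) (N : Type*) [AddCommGroup N] [Module S N]

/-- Every element of `T` acts injectively on `N`. -/
def TInj : Prop := ∀ t ∈ T, ∀ n : N, t • n = 0 → n = 0

variable {T N}

theorem mk_eq_zero_iff (hT : TInj T N) (m : N) (t : T) :
    (LocalizedModule.mk m t : LocalizedModule T N) = 0 ↔ m = 0 := by
  constructor
  · intro h
    rw [← LocalizedModule.zero_mk (1 : T), LocalizedModule.mk_eq] at h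
    obtain ⟨u, hu⟩ := h
    rw [smul_zero, smul_zero, one_smul] at hu
    exact hT u u.2 m hu
  · rintro rfl
    exact LocalizedModule.zero_mk t

theorem ann_mk (hT : TInj T N) (m : N) (t : T) :
    (Submodule.span S {(LocalizedModule.mk m t : LocalizedModule T N)}).annihilator =
      (Submodule.span S {m}).annihilator := by
  ext s
  rw [Submodule.mem_annihilator_span_singleton, Submodule.mem_annihilator_span_singleton,
    LocalizedModule.smul'_mk, mk_eq_zero_iff hT]

theorem ann_loc_mk (hT : TInj T N) (m : N) (t : T) :
    (Submodule.span (Localization T) {(LocalizedModule.mk m t : LocalizedModule T N)}).annihilator =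
      ((Submodule.span S {m}).annihilator).map (algebraMap S (Localization T)) := by
  ext σ
  obtain ⟨s, u, rfl⟩ := IsLocalization.exists_mk'_eq T σ
  rw [Submodule.mem_annihilator_span_singleton, ← Localization.mk_eq_mk', LocalizedModule.mk_smul_mk,
    mk_eq_zero_iff hT, Localization.mk_eq_mk', IsLocalization.mk'_mem_map_algebraMap_iff T]
  constructor
  · intro h
    exact ⟨1, T.one_mem, by rw [one_mul]; exact Submodule.mem_annihilator_span_singleton _ _ |>.mpr h⟩
  · rintro ⟨v, hv, h⟩
    rw [Submodule.mem_annihilator_span_singleton, mul_smul] at h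
    exact hT v hv _ h

theorem ass_localizedModule (hT : TInj T N) :
    FlatCA.ass S (LocalizedModule T N) = FlatCA.ass S N := by
  ext p
  constructor
  · rintro ⟨hp, x, hx⟩
    induction x using LocalizedModule.induction_on with
    | h m t => exact ⟨hp, m, hx.trans (ann_mk hT m t)⟩
  · rintro ⟨hp, m, hm⟩
    exact ⟨hp, LocalizedModule.mk m 1, hm.trans (ann_mk hT m 1).symm⟩

theorem comap_map_ann (hT : TInj T N) (m : N) :
    (((Submodule.span S {m}).annihilator).map (algebraMap S (Localization T))).comap
      (algebraMap S (Localization T)) = (Submodule.span S {m}).annihilator := by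
  ext s
  rw [Ideal.mem_comap, IsLocalization.algebraMap_mem_map_algebraMap_iff T]
  constructor
  · rintro ⟨v, hv, h⟩
    rw [Submodule.mem_annihilator_span_singleton, mul_smul] at h
    exact (Submodule.mem_annihilator_span_singleton _ _).mpr (hT v hv _ h)
  · intro h
    exact ⟨1, T.one_mem, by rwa [one_mul]⟩

theorem disjoint_of_isPrime_ann (hT : TInj T N) {p : Ideal S} (hp : p.IsPrime) (m : N)
    (h : p = (Submodule.span S {m}).annihilator) : Disjoint (T : Set S) (p : Set S) := by
  rw [Set.disjoint_left]
  intro t ht htp
  apply hp.ne_top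
  rw [SetLike.mem_coe, h, Submodule.mem_annihilator_span_singleton] at htp
  have hm : m = 0 := hT t ht m htp
  rw [h, hm, Ideal.eq_top_iff_one, Submodule.mem_annihilator_span_singleton, smul_zero]

theorem disjoint_of_mem_minimalPrimes_ann (hT : TInj T N) {p : Ideal S} (m : N)
    (h : p ∈ ((Submodule.span S {m}).annihilator).minimalPrimes) : Disjoint (T : Set S) (p : Set S) := by
  rw [Set.disjoint_left]
  intro t ht htp
  obtain ⟨y, hy, hty⟩ := Ideal.exists_mul_mem_of_mem_minimalPrimes h htp
  apply hy
  rw [Submodule.mem_annihilator_span_singleton, mul_smul] at hty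
  exact (Submodule.mem_annihilator_span_singleton _ _).mpr (hT t ht _ hty)

theorem ass_eq_comap_image (hT : TInj T N) :
    FlatCA.ass S N = Ideal.comap (algebraMap S (Localization T)) ''
      FlatCA.ass (Localization T) (LocalizedModule T N) := by
  ext p
  constructor
  · rintro ⟨hp, m, hm⟩
    have hd := disjoint_of_isPrime_ann hT hp m hm
    refine ⟨p.map (algebraMap S (Localization T)),
      ⟨IsLocalization.isPrime_of_isPrime_disjoint T _ p hp hd, LocalizedModule.mk m 1, ?_⟩,
      IsLocalization.under_map_of_isPrime_disjoint T _ hp hd⟩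
    rw [ann_loc_mk hT, hm]
  · rintro ⟨q, ⟨hq, x, hx⟩, rfl⟩
    induction x using LocalizedModule.induction_on with
    | h m t =>
      refine ⟨Ideal.IsPrime.comap _, m, ?_⟩
      rw [hx, ann_loc_mk hT, comap_map_ann hT]

theorem weakAss_eq_comap_image (hT : TInj T N) :
    FlatCA.weakAss S N = Ideal.comap (algebraMap S (Localization T)) ''
      FlatCA.weakAss (Localization T) (LocalizedModule T N) := by
  ext p
  constructor
  · rintro ⟨m, hm⟩
    have hd := disjoint_of_mem_minimalPrimes_ann hT m hm
    have hp : p.IsPrime := hm.1.1
    have hu : (p.map (algebraMap S (Localization T))).under S = p :=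
      IsLocalization.under_map_of_isPrime_disjoint T _ hp hd
    refine ⟨p.map (algebraMap S (Localization T)), ⟨LocalizedModule.mk m 1, ?_⟩, hu⟩
    rw [ann_loc_mk hT, IsLocalization.minimalPrimes_map T (Localization T), Set.mem_preimage, hu]
    exact hm
  · rintro ⟨q, ⟨x, hx⟩, rfl⟩
    induction x using LocalizedModule.induction_on with
    | h m t =>
      refine ⟨m, ?_⟩
      rw [ann_loc_mk hT, IsLocalization.minimalPrimes_map T (Localization T)] at hx
      exact hx

/-- For a flat module over a domain `R`, the image in `S` of the nonzero elements of `R` acts injectively. -/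
theorem tinj_of_flat {R : Type*} [CommRing R] [IsDomain R] [Algebra R S] [Module R N] [IsScalarTower R S N]
    [Module.Flat R N] : TInj (Algebra.algebraMapSubmonoid S (nonZeroDivisors R)) N := by
  rintro _ ⟨r, hr, rfl⟩ n hn
  rw [algebraMap_smul] at hn
  have hreg : IsSMulRegular N r :=
    Module.Flat.isSMulRegular_of_isRegular (isRegular_iff_ne_zero.mpr (nonZeroDivisors.ne_zero hr))
  exact hreg (show r • n = r • (0 : N) by rw [hn, smul_zero])

end Groth.Agent.Lib.AssLocalization
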