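import Groth.Agent.Lib.CohGrowthHH
import Groth.Prelude.Def_W4c5asymptcohfnACF

/-!
# Asymptotic cohomological functions: basic estimates (helper10)

* `limsup_eq_of_tendsto_sub` : two bounded real sequences whose difference tends to `0` have the same
  upper limit.
* `tendsto_sub_of_bound` : if `|a m - b m| ≤ D * g n m` (with `g` the comparison function of
  `Lib/CohGrowth`: `g 0 m = 0`, `g (n + 1) m = (m + 1) ^ n`) then
  `b m * n! / m ^ n - a m * n! / m ^ n → 0`.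
* `isBoundedUnder_le_of_bound`, `isBoundedUnder_ge_of_nonneg` : boundedness of the normalised sequences.
* `cohSeq_bounded` : for `X` proper over a field of dimension `≤ n`, `F` coherent, `L` invertible, the
  sequence `W4c5asymptcohfn.cohSeq k X n i F L` is bounded above (and it is `≥ 0`).
* `hhatF_eq_of_bound` : the conclusion `hhatF F = hhatF F'` from a termwise estimate.
-/

set_option autoImplicit false
universe u
open CategoryTheory CategoryTheory.Limits AlgebraicGeometry CohB1 Filter Topology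

namespace Groth.Agent.Lib.AsympCohBasic

open Groth.Agent.Lib.CohGrowth (g)

section Real

theorem limsup_le_of_tendsto_sub {u v : ℕ → ℝ}
    (hu : IsBoundedUnder (· ≤ ·) atTop u) (hu' : IsBoundedUnder (· ≥ ·) atTop u)
    (h : Tendsto (fun m => v m - u m) atTop (𝓝 0)) :
    limsup v atTop ≤ limsup u atTop := by
  have e : v = u + fun m => v m - u m := by
    funext m
    simp
  have h1 := limsup_add_le (f := atTop) (u := u) (v := fun m => v m - u m) hu' hu
    h.isCoboundedUnder_le h.isBoundedUnder_le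
  rw [h.limsup_eq, add_zero, ← e] at h1
  exact h1

theorem limsup_eq_of_tendsto_sub {u v : ℕ → ℝ}
    (hu : IsBoundedUnder (· ≤ ·) atTop u) (hu' : IsBoundedUnder (· ≥ ·) atTop u)
    (hv : IsBoundedUnder (· ≤ ·) atTop v) (hv' : IsBoundedUnder (· ≥ ·) atTop v)
    (h : Tendsto (fun m => v m - u m) atTop (𝓝 0)) :
    limsup u atTop = limsup v atTop := by
  refine le_antisymm ?_ (limsup_le_of_tendsto_sub hu hu' h)
  refine limsup_le_of_tendsto_sub hv hv' ?_
  have := h.neg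
  simp only [neg_sub, neg_zero] at this
  exact this

theorem g_div_le (n m : ℕ) (hm : 1 ≤ m) : (g n m : ℝ) / (m : ℝ) ^ n ≤ 2 ^ n / (m : ℝ) := by
  have hm0 : (0 : ℝ) < (m : ℝ) := by exact_mod_cast hm
  have hm1 : (1 : ℝ) ≤ (m : ℝ) := by exact_mod_cast hm
  cases n with
  | zero =>
    simp only [g, Nat.cast_zero, pow_zero, div_one]
    positivity
  | succ n =>
    simp only [g]
    rw [div_le_div_iff₀ (by positivity) hm0]
    push_cast
    have h1 : ((m : ℝ) + 1) ^ n ≤ (2 * (m : ℝ)) ^ n :=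
      pow_le_pow_left₀ (by positivity) (by linarith) n
    calc ((m : ℝ) + 1) ^ n * (m : ℝ) ≤ (2 * (m : ℝ)) ^ n * (m : ℝ) :=
          mul_le_mul_of_nonneg_right h1 hm0.le
      _ = 2 ^ n * (m : ℝ) ^ (n + 1) := by rw [mul_pow]; ring
      _ ≤ 2 ^ (n + 1) * (m : ℝ) ^ (n + 1) := by
          apply mul_le_mul_of_nonneg_right _ (by positivity)
          exact pow_le_pow_right₀ (by norm_num) (Nat.le_succ n)

/-- `|a m - b m| ≤ D * g n m` forces the normalised difference to tend to `0` -/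
theorem tendsto_sub_of_bound (n D : ℕ) (a b : ℕ → ℕ)
    (h1 : ∀ m, a m ≤ b m + D * g n m) (h2 : ∀ m, b m ≤ a m + D * g n m) :
    Tendsto (fun m : ℕ => (b m : ℝ) * (n.factorial : ℝ) / (m : ℝ) ^ n -
      (a m : ℝ) * (n.factorial : ℝ) / (m : ℝ) ^ n) atTop (𝓝 0) := by
  have hlim : Tendsto (fun m : ℕ => ((D : ℝ) * (n.factorial : ℝ) * 2 ^ n) / (m : ℝ)) atTop (𝓝 0) :=
    tendsto_const_div_atTop_nhds_zero_nat _
  refine squeeze_zero_norm' ?_ hlim
  rw [eventually_atTop]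
  refine ⟨1, fun m hm => ?_⟩
  have hm0 : (0 : ℝ) < (m : ℝ) := by exact_mod_cast hm
  have hpow : (0 : ℝ) < (m : ℝ) ^ n := by positivity
  have e1 : (b m : ℝ) * (n.factorial : ℝ) / (m : ℝ) ^ n -
      (a m : ℝ) * (n.factorial : ℝ) / (m : ℝ) ^ n =
      ((b m : ℝ) - (a m : ℝ)) * ((n.factorial : ℝ) / (m : ℝ) ^ n) := by ring
  rw [e1, norm_mul, Real.norm_of_nonneg (by positivity : (0 : ℝ) ≤ (n.factorial : ℝ) / (m : ℝ) ^ n)]
  have h3 : ‖(b m : ℝ) - (a m : ℝ)‖ ≤ (D : ℝ) * (g n m : ℝ) := by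
    rw [Real.norm_eq_abs, abs_le]
    have h1' : (a m : ℝ) ≤ (b m : ℝ) + (D : ℝ) * (g n m : ℝ) := by exact_mod_cast h1 m
    have h2' : (b m : ℝ) ≤ (a m : ℝ) + (D : ℝ) * (g n m : ℝ) := by exact_mod_cast h2 m
    constructor <;> linarith
  have h4 := g_div_le n m hm
  calc ‖(b m : ℝ) - (a m : ℝ)‖ * ((n.factorial : ℝ) / (m : ℝ) ^ n)
      ≤ ((D : ℝ) * (g n m : ℝ)) * ((n.factorial : ℝ) / (m : ℝ) ^ n) :=
        mul_le_mul_of_nonneg_right h3 (by positivity)
    _ = (D : ℝ) * (n.factorial : ℝ) * ((g n m : ℝ) / (m : ℝ) ^ n) := by ring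
    _ ≤ (D : ℝ) * (n.factorial : ℝ) * (2 ^ n / (m : ℝ)) :=
        mul_le_mul_of_nonneg_left h4 (by positivity)
    _ = (D : ℝ) * (n.factorial : ℝ) * 2 ^ n / (m : ℝ) := by ring

/-- a normalised sequence with `a m ≤ C * (m + 1) ^ n` is bounded above -/
theorem isBoundedUnder_le_of_bound (n C : ℕ) (a : ℕ → ℕ) (h : ∀ m, a m ≤ C * (m + 1) ^ n) :
    IsBoundedUnder (· ≤ ·) atTop
      (fun m : ℕ => (a m : ℝ) * (n.factorial : ℝ) / (m : ℝ) ^ n) := by
  refine isBoundedUnder_of_eventually_le (a := (C : ℝ) * 2 ^ n * (n.factorial : ℝ)) ?_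
  rw [eventually_atTop]
  refine ⟨1, fun m hm => ?_⟩
  have hm0 : (0 : ℝ) < (m : ℝ) := by exact_mod_cast hm
  have hm1 : (1 : ℝ) ≤ (m : ℝ) := by exact_mod_cast hm
  have hpow : (0 : ℝ) < (m : ℝ) ^ n := by positivity
  rw [div_le_iff₀ hpow]
  have h1 : (a m : ℝ) ≤ (C : ℝ) * ((m : ℝ) + 1) ^ n := by exact_mod_cast h m
  have h2 : ((m : ℝ) + 1) ^ n ≤ (2 * (m : ℝ)) ^ n :=
    pow_le_pow_left₀ (by positivity) (by linarith) n
  calc (a m : ℝ) * (n.factorial : ℝ) ≤ ((C : ℝ) * ((m : ℝ) + 1) ^ n) * (n.factorial : ℝ) :=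
        mul_le_mul_of_nonneg_right h1 (by positivity)
    _ ≤ ((C : ℝ) * (2 * (m : ℝ)) ^ n) * (n.factorial : ℝ) := by
        apply mul_le_mul_of_nonneg_right _ (by positivity)
        exact mul_le_mul_of_nonneg_left h2 (by positivity)
    _ = (C : ℝ) * 2 ^ n * (n.factorial : ℝ) * (m : ℝ) ^ n := by rw [mul_pow]; ring

theorem isBoundedUnder_ge_of_nonneg (n : ℕ) (a : ℕ → ℕ) :
    IsBoundedUnder (· ≥ ·) atTop
      (fun m : ℕ => (a m : ℝ) * (n.factorial : ℝ) / (m : ℝ) ^ n) :=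
  isBoundedUnder_of_eventually_ge (a := 0) (Eventually.of_forall fun m => by positivity)

/-- the limsup comparison used for the asymptotic cohomological functions -/
theorem limsup_eq_of_bounds (n C D : ℕ) (a b : ℕ → ℕ)
    (ha : ∀ m, a m ≤ C * (m + 1) ^ n) (hb : ∀ m, b m ≤ C * (m + 1) ^ n)
    (h1 : ∀ m, a m ≤ b m + D * g n m) (h2 : ∀ m, b m ≤ a m + D * g n m) :
    limsup (fun m : ℕ => (a m : ℝ) * (n.factorial : ℝ) / (m : ℝ) ^ n) atTop =
      limsup (fun m : ℕ => (b m : ℝ) * (n.factorial : ℝ) / (m : ℝ) ^ n) atTop :=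
  limsup_eq_of_tendsto_sub (isBoundedUnder_le_of_bound n C a ha) (isBoundedUnder_ge_of_nonneg n a)
    (isBoundedUnder_le_of_bound n C b hb) (isBoundedUnder_ge_of_nonneg n b)
    (tendsto_sub_of_bound n D a b h1 h2)

end Real

end Groth.Agent.Lib.AsympCohBasic
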