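import Groth.Agent.Lib.CohTwistLattice
import Groth.Agent.Lib.AsympCohBasic

/-!
# Asymptotic cohomological functions on the lattice spanned by `L_1, …, L_r` (helper10)

`X` integral, proper over a field `k`, `dim X ≤ n`; `L_j` invertible with inverses `M_j`; `ĥ^i` is
`W4c5asymptcohfn.hhat k X n i`.  With `l1 a = Σ |a_j|`:
* `exists_hhat_le` : `ĥ^i(L^a) ≤ C * (l1 a) ^ n`;
* `exists_hhat_lipschitz` : `|ĥ^i(L^a) - ĥ^i(L^b)| ≤ C * l1 (a - b) * gR n (l1 a + l1 (a - b))`,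
  where `gR 0 s = 0`, `gR (n + 1) s = s ^ n`.
-/

set_option autoImplicit false
universe u
open CategoryTheory CategoryTheory.Limits AlgebraicGeometry CohB1 Filter Topology
open Groth.Agent.Lib.IsoCls13 Groth.Agent.Lib.CohGrowthHH
open Groth.Agent.Lib.CohGrowthMultiHH Groth.Agent.Lib.CohTwistCompare Groth.Agent.Lib.CohTwistLattice
open Groth.Agent.Lib.AsympCohBasic
open Groth.Agent.Lib.CohGrowth (g)

namespace Groth.Agent.Lib.AsympCohLattice

section Real

theorem limsup_le_add_of_le {u v w : ℕ → ℝ} {B : ℝ}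
    (hu' : IsBoundedUnder (· ≥ ·) atTop u)
    (hv : IsBoundedUnder (· ≤ ·) atTop v) (hv' : IsBoundedUnder (· ≥ ·) atTop v)
    (hw : Tendsto w atTop (𝓝 B)) (h : ∀ᶠ m in atTop, u m ≤ v m + w m) :
    limsup u atTop ≤ limsup v atTop + B := by
  have h1 : limsup u atTop ≤ limsup (v + w) atTop :=
    limsup_le_limsup h hu'.isCoboundedUnder_le (isBoundedUnder_le_add hv hw.isBoundedUnder_le)
  have h2 : limsup (v + w) atTop ≤ limsup v atTop + limsup w atTop :=
    limsup_add_le hv' hv hw.isCoboundedUnder_le hw.isBoundedUnder_le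
  rw [hw.limsup_eq] at h2
  exact h1.trans h2

theorem abs_limsup_sub_limsup_le {u v w : ℕ → ℝ} {B : ℝ}
    (hu : IsBoundedUnder (· ≤ ·) atTop u) (hu' : IsBoundedUnder (· ≥ ·) atTop u)
    (hv : IsBoundedUnder (· ≤ ·) atTop v) (hv' : IsBoundedUnder (· ≥ ·) atTop v)
    (hw : Tendsto w atTop (𝓝 B)) (h : ∀ᶠ m in atTop, |u m - v m| ≤ w m) :
    |limsup u atTop - limsup v atTop| ≤ B := by
  have h1 := limsup_le_add_of_le hu' hv hv' hw (h.mono fun m hm => by
    have := (abs_le.1 hm).2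
    linarith)
  have h2 := limsup_le_add_of_le hv' hu hu' hw (h.mono fun m hm => by
    have := (abs_le.1 hm).1
    linarith)
  rw [abs_le]
  constructor <;> linarith

/-- `gR 0 s = 0`, `gR (n + 1) s = s ^ n` -/
noncomputable def gR : ℕ → ℝ → ℝ
  | 0, _ => 0
  | n + 1, s => s ^ n

theorem gR_nonneg (n : ℕ) {s : ℝ} (hs : 0 ≤ s) : 0 ≤ gR n s := by
  cases n with
  | zero => exact le_rfl
  | succ n => exact pow_nonneg hs n

theorem gR_mono (n : ℕ) {s t : ℝ} (hs : 0 ≤ s) (hst : s ≤ t) : gR n s ≤ gR n t := by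
  cases n with
  | zero => exact le_rfl
  | succ n => exact pow_le_pow_left₀ hs hst n

theorem tendsto_add_inv_pow (s : ℝ) (n : ℕ) :
    Tendsto (fun m : ℕ => (s + 1 / (m : ℝ)) ^ n) atTop (𝓝 (s ^ n)) := by
  have h1 : Tendsto (fun m : ℕ => s + 1 / (m : ℝ)) atTop (𝓝 (s + 0)) :=
    tendsto_const_nhds.add tendsto_one_div_atTop_nhds_zero_nat
  rw [add_zero] at h1
  exact h1.pow n

end Real

section Geom

variable (k : Type u) [Field k] {X : Scheme.{u}}
  [X.Over (Spec (CommRingCat.of k))] [IsProper (X ↘ Spec (CommRingCat.of k))]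
  {r : ℕ} (L M : Fin r → X.Modules)

/-- the normalised sequence `m ↦ dim H^i(X, (L^a)^m) n! / m^n` -/
noncomputable def sq (n i : ℕ) (a : Fin r → ℤ) (m : ℕ) : ℝ :=
  (hZ L M k i (m • a) : ℝ) * (n.factorial : ℝ) / (m : ℝ) ^ n

variable (hL : ∀ j, PicF.IsInvertible (L j)) (hM : ∀ j, ClSub.IsInverseOf (L j) (M j))

include hM in
theorem hhat_ztwist (n i : ℕ) (a : Fin r → ℤ) :
    W4c5asymptcohfn.hhat k X n i (W4c5asymptcohfn.ztwist X L M a) =
      limsup (sq k L M n i a) atTop := by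
  unfold W4c5asymptcohfn.hhat sq
  congr 1
  funext m
  rw [hZ_nsmul L M k hM]

theorem sq_nonneg (n i : ℕ) (a : Fin r → ℤ) (m : ℕ) : 0 ≤ sq k L M n i a m := by
  unfold sq
  positivity

theorem sq_bdd_ge (n i : ℕ) (a : Fin r → ℤ) : IsBoundedUnder (· ≥ ·) atTop (sq k L M n i a) :=
  isBoundedUnder_ge_of_nonneg n _

variable (n : ℕ) (hn : topologicalKrullDim X ≤ (n : WithBot ℕ∞))

theorem mul_add_one_le (m s : ℕ) : m * s + 1 ≤ (s + 1) * (m + 1) := by nlinarith

include hL hM hn in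
theorem sq_bdd_le (i : ℕ) (a : Fin r → ℤ) : IsBoundedUnder (· ≤ ·) atTop (sq k L M n i a) := by
  obtain ⟨C, hC⟩ := exists_growth L M k hL hM n hn
  refine isBoundedUnder_le_of_bound n (C * (l1 a + 1) ^ n) (fun m => hZ L M k i (m • a)) fun m => ?_
  have h1 := hC i (m • a)
  rw [l1_nsmul] at h1
  have h2 : (m * l1 a + 1) ^ n ≤ ((l1 a + 1) * (m + 1)) ^ n :=
    Nat.pow_le_pow_left (mul_add_one_le m (l1 a)) n
  calc hZ L M k i (m • a) ≤ C * (m * l1 a + 1) ^ n := h1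
    _ ≤ C * ((l1 a + 1) * (m + 1)) ^ n := Nat.mul_le_mul_left C h2
    _ = C * (l1 a + 1) ^ n * (m + 1) ^ n := by rw [mul_pow]; ring

include hL hM hn in
/-- **Growth of `ĥ^i` on the lattice.** -/
theorem exists_hhat_le : ∃ C : ℝ, 0 ≤ C ∧ ∀ (i : ℕ) (a : Fin r → ℤ),
    W4c5asymptcohfn.hhat k X n i (W4c5asymptcohfn.ztwist X L M a) ≤ C * (l1 a : ℝ) ^ n := by
  obtain ⟨C, hC⟩ := exists_growth L M k hL hM n hn
  refine ⟨(C : ℝ) * (n.factorial : ℝ), by positivity, fun i a => ?_⟩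
  rw [hhat_ztwist k L M hM]
  have hw : Tendsto (fun m : ℕ => (C : ℝ) * (n.factorial : ℝ) * ((l1 a : ℝ) + 1 / (m : ℝ)) ^ n)
      atTop (𝓝 ((C : ℝ) * (n.factorial : ℝ) * (l1 a : ℝ) ^ n)) :=
    (tendsto_add_inv_pow _ n).const_mul _
  have h0 : IsBoundedUnder (· ≤ ·) atTop (fun _ : ℕ => (0 : ℝ)) := isBoundedUnder_const
  have h0' : IsBoundedUnder (· ≥ ·) atTop (fun _ : ℕ => (0 : ℝ)) := isBoundedUnder_const
  have key := limsup_le_add_of_le (u := sq k L M n i a) (v := fun _ => 0) (sq_bdd_ge k L M n i a)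
    h0 h0' hw ?_
  · rw [limsup_const, zero_add] at key
    exact key
  · rw [eventually_atTop]
    refine ⟨1, fun m hm => ?_⟩
    have hm0 : (0 : ℝ) < (m : ℝ) := by exact_mod_cast hm
    have hpow : (0 : ℝ) < (m : ℝ) ^ n := by positivity
    have h1 := hC i (m • a)
    rw [l1_nsmul] at h1
    have h1' : (hZ L M k i (m • a) : ℝ) ≤ (C : ℝ) * ((m : ℝ) * (l1 a : ℝ) + 1) ^ n := by
      exact_mod_cast h1
    have e : ((l1 a : ℝ) + 1 / (m : ℝ)) ^ n = ((m : ℝ) * (l1 a : ℝ) + 1) ^ n / (m : ℝ) ^ n := by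
      rw [← div_pow]
      congr 1
      field_simp
    rw [zero_add, e]
    unfold sq
    rw [div_le_iff₀ hpow]
    calc (hZ L M k i (m • a) : ℝ) * (n.factorial : ℝ)
        ≤ ((C : ℝ) * ((m : ℝ) * (l1 a : ℝ) + 1) ^ n) * (n.factorial : ℝ) :=
          mul_le_mul_of_nonneg_right h1' (by positivity)
      _ = (C : ℝ) * (n.factorial : ℝ) * (((m : ℝ) * (l1 a : ℝ) + 1) ^ n / (m : ℝ) ^ n) *
            (m : ℝ) ^ n := by
          field_simp

variable [IsIntegral X]

include hL hM hn in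
/-- **Lipschitz estimate for `ĥ^i` on the lattice.** -/
theorem exists_hhat_lipschitz : ∃ C : ℝ, 0 ≤ C ∧ ∀ (i : ℕ) (a b : Fin r → ℤ),
    |W4c5asymptcohfn.hhat k X n i (W4c5asymptcohfn.ztwist X L M a) -
        W4c5asymptcohfn.hhat k X n i (W4c5asymptcohfn.ztwist X L M b)| ≤
      C * (l1 (a - b) : ℝ) * gR n ((l1 a : ℝ) + (l1 (a - b) : ℝ)) := by
  obtain ⟨D, hD⟩ := exists_lipschitz L M k hL hM n hn
  refine ⟨(D : ℝ) * (n.factorial : ℝ), by positivity, fun i a b => ?_⟩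
  rw [hhat_ztwist k L M hM, hhat_ztwist k L M hM]
  -- the termwise estimate
  have hterm : ∀ m : ℕ, |(hZ L M k i (m • a) : ℝ) - (hZ L M k i (m • b) : ℝ)| ≤
      ((m * l1 (a - b) : ℕ) : ℝ) * ((D * g n (m * l1 a + m * l1 (a - b)) : ℕ) : ℝ) := by
    intro m
    have := hD i (m • a) (m • b)
    rw [← smul_sub, l1_nsmul, l1_nsmul] at this
    exact_mod_cast this
  cases n with
  | zero =>
    have heq : sq k L M 0 i a = sq k L M 0 i b := by
      funext m
      have := hterm m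
      simp only [g, mul_zero, Nat.cast_zero] at this
      have h0 : (hZ L M k i (m • a) : ℝ) = (hZ L M k i (m • b) : ℝ) := by
        have := abs_nonpos_iff.1 this
        linarith
      unfold sq
      rw [h0]
    rw [heq]
    simp [gR]
  | succ n' =>
    set s : ℝ := (l1 a : ℝ) + (l1 (a - b) : ℝ) with hs
    have hw : Tendsto (fun m : ℕ => (D : ℝ) * ((n' + 1).factorial : ℝ) * (l1 (a - b) : ℝ) *
        (s + 1 / (m : ℝ)) ^ n') atTop
        (𝓝 ((D : ℝ) * ((n' + 1).factorial : ℝ) * (l1 (a - b) : ℝ) * s ^ n')) :=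
      (tendsto_add_inv_pow _ n').const_mul _
    have key := abs_limsup_sub_limsup_le (sq_bdd_le k L M hL hM (n' + 1) hn i a)
      (sq_bdd_ge k L M (n' + 1) i a) (sq_bdd_le k L M hL hM (n' + 1) hn i b)
      (sq_bdd_ge k L M (n' + 1) i b) hw ?_
    · simp only [gR]
      exact key
    · rw [eventually_atTop]
      refine ⟨1, fun m hm => ?_⟩
      have hm0 : (0 : ℝ) < (m : ℝ) := by exact_mod_cast hm
      have hpow : (0 : ℝ) < (m : ℝ) ^ (n' + 1) := by positivity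
      have h1 := hterm m
      simp only [g] at h1
      push_cast at h1
      have e : (s + 1 / (m : ℝ)) ^ n' = ((m : ℝ) * s + 1) ^ n' / (m : ℝ) ^ n' := by
        rw [← div_pow]
        congr 1
        field_simp
      have e2 : sq k L M (n' + 1) i a m - sq k L M (n' + 1) i b m =
          ((hZ L M k i (m • a) : ℝ) - (hZ L M k i (m • b) : ℝ)) *
            (((n' + 1).factorial : ℝ) / (m : ℝ) ^ (n' + 1)) := by
        unfold sq
        ring
      rw [e2, abs_mul, abs_of_nonneg (by positivity : (0 : ℝ) ≤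
        ((n' + 1).factorial : ℝ) / (m : ℝ) ^ (n' + 1)), e]
      have h2 : (m : ℝ) * (l1 a : ℝ) + (m : ℝ) * (l1 (a - b) : ℝ) + 1 = (m : ℝ) * s + 1 := by
        rw [hs]; ring
      rw [h2] at h1
      calc |(hZ L M k i (m • a) : ℝ) - (hZ L M k i (m • b) : ℝ)| *
            (((n' + 1).factorial : ℝ) / (m : ℝ) ^ (n' + 1))
          ≤ ((m : ℝ) * (l1 (a - b) : ℝ) * ((D : ℝ) * ((m : ℝ) * s + 1) ^ n')) *
            (((n' + 1).factorial : ℝ) / (m : ℝ) ^ (n' + 1)) :=
            mul_le_mul_of_nonneg_right h1 (by positivity)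
        _ = (D : ℝ) * ((n' + 1).factorial : ℝ) * (l1 (a - b) : ℝ) *
            (((m : ℝ) * s + 1) ^ n' / (m : ℝ) ^ n') := by
            rw [pow_succ]
            field_simp

end Geom

end Groth.Agent.Lib.AsympCohLattice
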