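import Groth.Agent.Lib.AsympCohLattice

/-!
# Homogeneity of the asymptotic cohomological functions (helper10)

`X` integral, proper over a field `k`, `dim X ≤ n`, `L` invertible, `a ≥ 1`:
* `hhat_tensorPow` : `ĥ^i(X, L^{⊗ a}) = a^n * ĥ^i(X, L)`;
* `limsup_ennreal_tensorPow` : the same for `limsup_m dim H^i(X, L^m) / m^n` in `ℝ≥0∞`.

The sequence input is `limsup_subseq_scaling`: a sequence `x : ℕ → ℕ` with `x j ≤ C (j + 1)^n` and
`x j ≤ x j' + E * g n (j + a)` for `j' ≤ j ≤ j' + a` satisfies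
`limsup_m x (a m) κ / m^n = a^n limsup_j x j κ / j^n`.
-/

set_option autoImplicit false
universe u
open CategoryTheory CategoryTheory.Limits AlgebraicGeometry CohB1 Filter Topology
open Groth.Agent.Lib.IsoCls13 Groth.Agent.Lib.CohGrowthHH
open Groth.Agent.Lib.CohGrowthMultiHH Groth.Agent.Lib.CohTwistCompare Groth.Agent.Lib.CohTwistLattice
open Groth.Agent.Lib.AsympCohBasic Groth.Agent.Lib.AsympCohLattice
open Groth.Agent.Lib.CohGrowth (g g_mono g_le)
open scoped ENNReal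

namespace Groth.Agent.Lib.AsympCohScale

section Real

theorem isBoundedUnder_le_const_mul {K : ℝ} (hK : 0 ≤ K) {u : ℕ → ℝ}
    (hu : IsBoundedUnder (· ≤ ·) atTop u) : IsBoundedUnder (· ≤ ·) atTop (fun m => K * u m) := by
  obtain ⟨b, hb⟩ := hu
  rw [eventually_map] at hb
  exact isBoundedUnder_of_eventually_le (a := K * b)
    (hb.mono fun m hm => mul_le_mul_of_nonneg_left hm hK)

theorem isBoundedUnder_ge_const_mul {K : ℝ} (hK : 0 ≤ K) {u : ℕ → ℝ}
    (hu : IsBoundedUnder (· ≥ ·) atTop u) : IsBoundedUnder (· ≥ ·) atTop (fun m => K * u m) := by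
  obtain ⟨b, hb⟩ := hu
  rw [eventually_map] at hb
  exact isBoundedUnder_of_eventually_ge (a := K * b)
    (hb.mono fun m hm => mul_le_mul_of_nonneg_left hm hK)

theorem limsup_const_mul {K : ℝ} (hK : 0 < K) {u : ℕ → ℝ}
    (hu : IsBoundedUnder (· ≤ ·) atTop u) (hu' : IsBoundedUnder (· ≥ ·) atTop u) :
    limsup (fun m => K * u m) atTop = K * limsup u atTop := by
  have := (OrderIso.mulLeft₀ K hK).limsup_apply (f := atTop) (u := u) hu hu'.isCoboundedUnder_le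
    (isBoundedUnder_le_const_mul hK.le hu) (isBoundedUnder_ge_const_mul hK.le hu').isCoboundedUnder_le
  exact this.symm

theorem isBoundedUnder_le_comp {u : ℕ → ℝ} (hu : IsBoundedUnder (· ≤ ·) atTop u) {v : ℕ → ℕ}
    (hv : Tendsto v atTop atTop) : IsBoundedUnder (· ≤ ·) atTop (u ∘ v) := by
  obtain ⟨b, hb⟩ := hu
  rw [eventually_map] at hb
  exact isBoundedUnder_of_eventually_le (a := b) (hv.eventually hb)

theorem isBoundedUnder_ge_comp {u : ℕ → ℝ} (hu : IsBoundedUnder (· ≥ ·) atTop u) {v : ℕ → ℕ}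
    (hv : Tendsto v atTop atTop) : IsBoundedUnder (· ≥ ·) atTop (u ∘ v) := by
  obtain ⟨b, hb⟩ := hu
  rw [eventually_map] at hb
  exact isBoundedUnder_of_eventually_ge (a := b) (hv.eventually hb)

theorem limsup_comp_le {u : ℕ → ℝ} (hu : IsBoundedUnder (· ≤ ·) atTop u)
    (hu' : IsBoundedUnder (· ≥ ·) atTop u) {v : ℕ → ℕ} (hv : Tendsto v atTop atTop) :
    limsup (u ∘ v) atTop ≤ limsup u atTop := by
  refine hv.limsup_comp_le_limsup ?_ hu
  have h1 : IsBoundedUnder (· ≥ ·) (map v atTop) u := by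
    have := isBoundedUnder_ge_comp hu' hv
    exact this
  exact h1.isCoboundedUnder_le

theorem tendsto_mul_left_atTop {a : ℕ} (ha : 1 ≤ a) : Tendsto (fun m : ℕ => a * m) atTop atTop :=
  tendsto_atTop_mono (fun m => Nat.le_mul_of_pos_left m ha) tendsto_id

/-- a subsequence `m ↦ a m` carries the full upper limit if `c j ≤ c (a ⌊j / a⌋) + ε j`, `ε → 0` -/
theorem limsup_subseq_eq (c : ℕ → ℝ) (a : ℕ) (ha : 1 ≤ a)
    (hc : IsBoundedUnder (· ≤ ·) atTop c) (hc' : IsBoundedUnder (· ≥ ·) atTop c)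
    (ε : ℕ → ℝ) (hε : Tendsto ε atTop (𝓝 0))
    (h : ∀ᶠ j in atTop, c j ≤ c (a * (j / a)) + ε j) :
    limsup (fun m => c (a * m)) atTop = limsup c atTop := by
  have hv := tendsto_mul_left_atTop ha
  have hd : Tendsto (fun j : ℕ => j / a) atTop atTop := Nat.tendsto_div_const_atTop (by omega)
  refine le_antisymm (limsup_comp_le hc hc' hv) ?_
  have hb := isBoundedUnder_le_comp hc hv
  have hb' := isBoundedUnder_ge_comp hc' hv
  have h1 := limsup_le_add_of_le (u := c) (v := (c ∘ fun m => a * m) ∘ fun j => j / a) (w := ε) hc'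
    (isBoundedUnder_le_comp hb hd) (isBoundedUnder_ge_comp hb' hd) hε h
  rw [add_zero] at h1
  exact h1.trans (limsup_comp_le hb hb' hd)

theorem g_shift_div_le (n a j : ℕ) (hj : 1 ≤ j) (haj : a ≤ j) :
    (g n (j + a) : ℝ) / (j : ℝ) ^ n ≤ 4 ^ n / (j : ℝ) := by
  have hj0 : (0 : ℝ) < (j : ℝ) := by exact_mod_cast hj
  have haj' : (a : ℝ) ≤ (j : ℝ) := by exact_mod_cast haj
  have h1 := g_div_le n (j + a) (by omega)
  have hpos : (0 : ℝ) < ((j + a : ℕ) : ℝ) := by positivity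
  have hpow : (0 : ℝ) < ((j + a : ℕ) : ℝ) ^ n := by positivity
  rw [div_le_iff₀ hpow] at h1
  rw [div_le_div_iff₀ (by positivity) hj0]
  have h2 : ((j + a : ℕ) : ℝ) ≤ 2 * (j : ℝ) := by push_cast; linarith
  have h3 : ((j + a : ℕ) : ℝ) ^ n ≤ (2 * (j : ℝ)) ^ n := pow_le_pow_left₀ hpos.le h2 n
  have h4 : (j : ℝ) ≤ ((j + a : ℕ) : ℝ) := by push_cast; linarith
  calc (g n (j + a) : ℝ) * (j : ℝ) ≤ (2 ^ n / ((j + a : ℕ) : ℝ) * ((j + a : ℕ) : ℝ) ^ n) * (j : ℝ) :=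
        mul_le_mul_of_nonneg_right h1 hj0.le
    _ ≤ (2 ^ n / ((j + a : ℕ) : ℝ) * (2 * (j : ℝ)) ^ n) * (j : ℝ) := by
        apply mul_le_mul_of_nonneg_right _ hj0.le
        exact mul_le_mul_of_nonneg_left h3 (by positivity)
    _ = 4 ^ n * (j : ℝ) ^ n * ((j : ℝ) / ((j + a : ℕ) : ℝ)) := by
        rw [mul_pow, show (4 : ℝ) = 2 * 2 by norm_num, mul_pow]
        field_simp
    _ ≤ 4 ^ n * (j : ℝ) ^ n * 1 := by
        apply mul_le_mul_of_nonneg_left _ (by positivity)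
        rw [div_le_one hpos]
        exact h4
    _ = 4 ^ n * (j : ℝ) ^ n := by ring

/-- **Scaling.** -/
theorem limsup_subseq_scaling (x : ℕ → ℕ) (n C E a : ℕ) (κ : ℝ) (hκ : 0 ≤ κ) (ha : 1 ≤ a)
    (hgrow : ∀ j, x j ≤ C * (j + 1) ^ n)
    (hlip : ∀ j j', j' ≤ j → j ≤ j' + a → x j ≤ x j' + E * g n (j + a)) :
    limsup (fun m : ℕ => (x (a * m) : ℝ) * κ / (m : ℝ) ^ n) atTop =
      (a : ℝ) ^ n * limsup (fun j : ℕ => (x j : ℝ) * κ / (j : ℝ) ^ n) atTop := by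
  set c : ℕ → ℝ := fun j => (x j : ℝ) * κ / (j : ℝ) ^ n with hc
  have ha0 : (0 : ℝ) < (a : ℝ) := by exact_mod_cast ha
  have hapow : (0 : ℝ) < (a : ℝ) ^ n := by positivity
  -- boundedness of `c`
  have hbd : IsBoundedUnder (· ≤ ·) atTop c := by
    refine isBoundedUnder_of_eventually_le (a := (C : ℝ) * 2 ^ n * κ) ?_
    rw [eventually_atTop]
    refine ⟨1, fun m hm => ?_⟩
    have hm0 : (0 : ℝ) < (m : ℝ) := by exact_mod_cast hm
    have hm1 : (1 : ℝ) ≤ (m : ℝ) := by exact_mod_cast hm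
    have hpow : (0 : ℝ) < (m : ℝ) ^ n := by positivity
    rw [hc]
    simp only
    rw [div_le_iff₀ hpow]
    have h1 : (x m : ℝ) ≤ (C : ℝ) * ((m : ℝ) + 1) ^ n := by exact_mod_cast hgrow m
    have h2 : ((m : ℝ) + 1) ^ n ≤ (2 * (m : ℝ)) ^ n :=
      pow_le_pow_left₀ (by positivity) (by linarith) n
    calc (x m : ℝ) * κ ≤ ((C : ℝ) * ((m : ℝ) + 1) ^ n) * κ := mul_le_mul_of_nonneg_right h1 hκ
      _ ≤ ((C : ℝ) * (2 * (m : ℝ)) ^ n) * κ := by
          apply mul_le_mul_of_nonneg_right _ hκ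
          exact mul_le_mul_of_nonneg_left h2 (by positivity)
      _ = (C : ℝ) * 2 ^ n * κ * (m : ℝ) ^ n := by rw [mul_pow]; ring
  have hbd' : IsBoundedUnder (· ≥ ·) atTop c :=
    isBoundedUnder_of_eventually_ge (a := 0) (Eventually.of_forall fun m => by
      rw [hc]; positivity)
  -- the subsequence
  have e1 : (fun m : ℕ => (x (a * m) : ℝ) * κ / (m : ℝ) ^ n) = fun m => (a : ℝ) ^ n * c (a * m) := by
    funext m
    rw [hc]
    simp only
    push_cast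
    rw [mul_pow]
    field_simp
  have hb1 : IsBoundedUnder (· ≤ ·) atTop (fun m => c (a * m)) :=
    isBoundedUnder_le_comp hbd (tendsto_mul_left_atTop ha)
  have hb2 : IsBoundedUnder (· ≥ ·) atTop (fun m => c (a * m)) :=
    isBoundedUnder_ge_comp hbd' (tendsto_mul_left_atTop ha)
  rw [e1, limsup_const_mul hapow hb1 hb2]
  congr 1
  -- the error term
  have hlim : Tendsto (fun j : ℕ => ((E : ℝ) * κ * 4 ^ n) / (j : ℝ)) atTop (𝓝 0) :=
    tendsto_const_div_atTop_nhds_zero_nat _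
  refine limsup_subseq_eq c a ha hbd hbd' _ hlim ?_
  rw [eventually_atTop]
  refine ⟨a, fun j hj => ?_⟩
  have hj1 : 1 ≤ j := ha.trans hj
  have hj0 : (0 : ℝ) < (j : ℝ) := by exact_mod_cast hj1
  set j' := a * (j / a) with hj'
  have h1 : j' ≤ j := Nat.mul_div_le j a
  have h2 : j ≤ j' + a := by
    have := Nat.div_add_mod j a
    have := Nat.mod_lt j (show 0 < a by omega)
    omega
  have h3 : 1 ≤ j' := by
    have : 1 ≤ j / a := (Nat.one_le_div_iff (by omega)).2 hj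
    calc 1 ≤ a * 1 := by omega
      _ ≤ a * (j / a) := Nat.mul_le_mul_left a this
  have hj'0 : (0 : ℝ) < (j' : ℝ) := by exact_mod_cast h3
  have h4 : (x j : ℝ) ≤ (x j' : ℝ) + (E : ℝ) * (g n (j + a) : ℝ) := by
    exact_mod_cast hlip j j' h1 h2
  have h5 : (j' : ℝ) ^ n ≤ (j : ℝ) ^ n :=
    pow_le_pow_left₀ hj'0.le (by exact_mod_cast h1) n
  have h6 := g_shift_div_le n a j hj1 hj
  rw [hc]
  simp only
  calc (x j : ℝ) * κ / (j : ℝ) ^ n
      ≤ ((x j' : ℝ) + (E : ℝ) * (g n (j + a) : ℝ)) * κ / (j : ℝ) ^ n := by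
        apply div_le_div_of_nonneg_right _ (by positivity)
        exact mul_le_mul_of_nonneg_right h4 hκ
    _ = (x j' : ℝ) * κ / (j : ℝ) ^ n + (E : ℝ) * κ * ((g n (j + a) : ℝ) / (j : ℝ) ^ n) := by ring
    _ ≤ (x j' : ℝ) * κ / (j' : ℝ) ^ n + (E : ℝ) * κ * (4 ^ n / (j : ℝ)) := by
        apply add_le_add
        · exact div_le_div_of_nonneg_left (by positivity) (by positivity) h5
        · exact mul_le_mul_of_nonneg_left h6 (by positivity)
    _ = (x j' : ℝ) * κ / (j' : ℝ) ^ n + (E : ℝ) * κ * 4 ^ n / (j : ℝ) := by ring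

end Real

section Geom

variable (k : Type u) [Field k] {X : Scheme.{u}}
  [X.Over (Spec (CommRingCat.of k))] [IsProper (X ↘ Spec (CommRingCat.of k))]

/-- `x j = dim_k H^i(X, L^{⊗ j})` -/
noncomputable def xs (L : X.Modules) (i j : ℕ) : ℕ := Module.finrank k (Coh.HH X (tensorPow L j) i)

theorem xs_eq_hc (L : X.Modules) (i j : ℕ) :
    xs k L i j = hc k (Coh.structureModule X) i (cls L ^ j) := by
  unfold xs
  rw [← cls_tensorPow, hc_structure_cls]

theorem xs_tensorPow (L : X.Modules) (a i m : ℕ) :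
    xs k (tensorPow L a) i m = xs k L i (a * m) := by
  rw [xs_eq_hc, xs_eq_hc, cls_tensorPow, pow_mul]

theorem hZ_one (L M : X.Modules) (i j : ℕ) :
    hZ (fun _ : Fin 1 => L) (fun _ : Fin 1 => M) k i (fun _ => (j : ℤ)) = xs k L i j := by
  rw [xs_eq_hc]
  unfold hZ zc
  have h0 : (-(j : ℤ)).toNat = 0 := by
    rw [Int.toNat_eq_zero]; omega
  simp only [Finset.univ_unique, Finset.prod_singleton, Int.toNat_natCast, h0, pow_zero, mul_one]

variable [IsIntegral X] {L : X.Modules} (hL : PicF.IsInvertible L) (n : ℕ)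
  (hn : topologicalKrullDim X ≤ (n : WithBot ℕ∞))

include hL hn in
theorem exists_xs_bounds (i : ℕ) : ∃ C D : ℕ, (∀ j, xs k L i j ≤ C * (j + 1) ^ n) ∧
    ∀ (a j j' : ℕ), j' ≤ j → j ≤ j' + a → xs k L i j ≤ xs k L i j' + (a * D) * g n (j + a) := by
  obtain ⟨M, -, ⟨e⟩⟩ := Groth.Agent.Lib.H78Dual.exists_tensor_inverse hL
  have hM : ∀ _ : Fin 1, ClSub.IsInverseOf L M :=
    fun _ => ⟨Groth.Agent.Lib.OXModTensor.braiding _ _ ≪≫ e⟩
  obtain ⟨C, hC⟩ := exists_growth (fun _ : Fin 1 => L) (fun _ : Fin 1 => M) k (fun _ => hL) hM n hn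
  obtain ⟨D, hD⟩ := exists_lipschitz (fun _ : Fin 1 => L) (fun _ : Fin 1 => M) k (fun _ => hL) hM n hn
  have hl1 : ∀ z : ℤ, l1 (fun _ : Fin 1 => z) = z.natAbs := by
    intro z
    unfold l1
    simp
  refine ⟨C, D, fun j => ?_, fun a j j' h1 h2 => ?_⟩
  · have := hC i (fun _ => (j : ℤ))
    rw [hZ_one, hl1, Int.natAbs_natCast] at this
    exact this
  · have := hD i (fun _ => (j : ℤ)) (fun _ => (j' : ℤ))
    rw [hZ_one, hZ_one] at this
    have e1 : ((fun _ : Fin 1 => (j : ℤ)) - fun _ : Fin 1 => (j' : ℤ)) =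
        fun _ : Fin 1 => ((j - j' : ℕ) : ℤ) := by
      funext t
      simp only [Pi.sub_apply]
      omega
    rw [e1, hl1, hl1, Int.natAbs_natCast, Int.natAbs_natCast] at this
    have h3 := (abs_le.1 this).2
    have h4 : g n (j + (j - j')) ≤ g n (j + a) := g_mono n (by omega)
    have h5 : (j - j') * (D * g n (j + (j - j'))) ≤ a * (D * g n (j + a)) :=
      Nat.mul_le_mul (by omega) (Nat.mul_le_mul_left D h4)
    have h6 : (xs k L i j : ℤ) ≤ xs k L i j' + ((j - j' : ℕ) : ℤ) * ((D * g n (j + (j - j')) : ℕ) : ℤ) := by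
      linarith
    have h7 : xs k L i j ≤ xs k L i j' + (j - j') * (D * g n (j + (j - j'))) := by
      exact_mod_cast h6
    calc xs k L i j ≤ xs k L i j' + (j - j') * (D * g n (j + (j - j'))) := h7
      _ ≤ xs k L i j' + a * (D * g n (j + a)) := Nat.add_le_add_left h5 _
      _ = xs k L i j' + (a * D) * g n (j + a) := by ring

include hL hn in
/-- **Homogeneity of `ĥ^i`.** -/
theorem hhat_tensorPow (a : ℕ) (ha : 1 ≤ a) (i : ℕ) :
    W4c5asymptcohfn.hhat k X n i (tensorPow L a) = (a : ℝ) ^ n * W4c5asymptcohfn.hhat k X n i L := by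
  obtain ⟨C, D, h1, h2⟩ := exists_xs_bounds k hL n hn i
  have := limsup_subseq_scaling (xs k L i) n C (a * D) a (n.factorial : ℝ) (by positivity) ha h1
    (h2 a)
  change limsup (fun m : ℕ => (xs k (tensorPow L a) i m : ℝ) * (n.factorial : ℝ) / (m : ℝ) ^ n) atTop =
    (a : ℝ) ^ n * limsup (fun m : ℕ => (xs k L i m : ℝ) * (n.factorial : ℝ) / (m : ℝ) ^ n) atTop
  rw [← this]
  congr 1
  funext m
  rw [xs_tensorPow]

include hL hn in
/-- real version without the factorial -/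
theorem limsup_real_tensorPow (a : ℕ) (ha : 1 ≤ a) (i : ℕ) :
    limsup (fun m : ℕ => (xs k (tensorPow L a) i m : ℝ) / (m : ℝ) ^ n) atTop =
      (a : ℝ) ^ n * limsup (fun m : ℕ => (xs k L i m : ℝ) / (m : ℝ) ^ n) atTop := by
  obtain ⟨C, D, h1, h2⟩ := exists_xs_bounds k hL n hn i
  have := limsup_subseq_scaling (xs k L i) n C (a * D) a 1 zero_le_one ha h1 (h2 a)
  simp only [mul_one] at this
  rw [← this]
  congr 1
  funext m
  rw [xs_tensorPow]

include hL hn in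
theorem eventually_ennreal_le (i : ℕ) : ∃ b : ℝ≥0∞, b ≠ ⊤ ∧
    ∀ᶠ m : ℕ in atTop, (xs k L i m : ℝ≥0∞) / (m : ℝ≥0∞) ^ n ≤ b := by
  obtain ⟨C, D, h1, -⟩ := exists_xs_bounds k hL n hn i
  refine ⟨((C * 2 ^ n : ℕ) : ℝ≥0∞), ENNReal.natCast_ne_top _, ?_⟩
  rw [eventually_atTop]
  refine ⟨1, fun m hm => ?_⟩
  have hm0 : (m : ℝ≥0∞) ^ n ≠ 0 := by
    apply pow_ne_zero
    exact_mod_cast (by omega : m ≠ 0)
  have hmt : (m : ℝ≥0∞) ^ n ≠ ⊤ := ENNReal.pow_ne_top (ENNReal.natCast_ne_top m)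
  rw [ENNReal.div_le_iff hm0 hmt]
  have h2 : xs k L i m ≤ C * 2 ^ n * m ^ n := by
    calc xs k L i m ≤ C * (m + 1) ^ n := h1 m
      _ ≤ C * (2 * m) ^ n := Nat.mul_le_mul_left C (Nat.pow_le_pow_left (by omega) n)
      _ = C * 2 ^ n * m ^ n := by rw [Nat.mul_pow]; ring
  exact_mod_cast h2

include hL hn in
/-- **Homogeneity in `ℝ≥0∞`.** -/
theorem limsup_ennreal_tensorPow (a : ℕ) (ha : 1 ≤ a) (i : ℕ) :
    limsup (fun m : ℕ => (Module.finrank k (Coh.HH X (tensorPow (tensorPow L a) m) i) : ℝ≥0∞) /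
        (m : ℝ≥0∞) ^ n) atTop =
      (a : ℝ≥0∞) ^ n * limsup (fun m : ℕ => (Module.finrank k (Coh.HH X (tensorPow L m) i) : ℝ≥0∞) /
        (m : ℝ≥0∞) ^ n) atTop := by
  have hLa : PicF.IsInvertible (tensorPow L a) :=
    Groth.Agent.Lib.OXModRestrict.isInvertible_tensorPow hL a
  obtain ⟨b1, hb1, hle1⟩ := eventually_ennreal_le k hLa n hn i
  obtain ⟨b2, hb2, hle2⟩ := eventually_ennreal_le k hL n hn i
  have r1 := ENNReal.limsup_toReal_eq hb1 hle1
  have r2 := ENNReal.limsup_toReal_eq hb2 hle2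
  have hreal := limsup_real_tensorPow k hL n hn a ha i
  have t1 : (fun m : ℕ => ((xs k (tensorPow L a) i m : ℝ≥0∞) / (m : ℝ≥0∞) ^ n).toReal) =
      fun m : ℕ => (xs k (tensorPow L a) i m : ℝ) / (m : ℝ) ^ n := by
    funext m
    rw [ENNReal.toReal_div, ENNReal.toReal_pow, ENNReal.toReal_natCast, ENNReal.toReal_natCast]
  have t2 : (fun m : ℕ => ((xs k L i m : ℝ≥0∞) / (m : ℝ≥0∞) ^ n).toReal) =
      fun m : ℕ => (xs k L i m : ℝ) / (m : ℝ) ^ n := by
    funext m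
    rw [ENNReal.toReal_div, ENNReal.toReal_pow, ENNReal.toReal_natCast, ENNReal.toReal_natCast]
  rw [t1] at r1
  rw [t2] at r2
  have hne1 : limsup (fun m : ℕ => (xs k (tensorPow L a) i m : ℝ≥0∞) / (m : ℝ≥0∞) ^ n) atTop ≠ ⊤ :=
    ne_top_of_le_ne_top hb1 (limsup_le_of_le ⟨0, by simp⟩ hle1)
  have hne2 : limsup (fun m : ℕ => (xs k L i m : ℝ≥0∞) / (m : ℝ≥0∞) ^ n) atTop ≠ ⊤ :=
    ne_top_of_le_ne_top hb2 (limsup_le_of_le ⟨0, by simp⟩ hle2)
  change limsup (fun m : ℕ => (xs k (tensorPow L a) i m : ℝ≥0∞) / (m : ℝ≥0∞) ^ n) atTop =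
    (a : ℝ≥0∞) ^ n * limsup (fun m : ℕ => (xs k L i m : ℝ≥0∞) / (m : ℝ≥0∞) ^ n) atTop
  have hne3 : (a : ℝ≥0∞) ^ n *
      limsup (fun m : ℕ => (xs k L i m : ℝ≥0∞) / (m : ℝ≥0∞) ^ n) atTop ≠ ⊤ :=
    ENNReal.mul_ne_top (ENNReal.pow_ne_top (ENNReal.natCast_ne_top a)) hne2
  rw [← ENNReal.toReal_eq_toReal_iff' hne1 hne3, ENNReal.toReal_mul, ENNReal.toReal_pow,
    ENNReal.toReal_natCast, ← r1, ← r2]
  exact hreal

end Geom

end Groth.Agent.Lib.AsympCohScale
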