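import Groth.Agent.Lib.AsympCohLattice
import Groth.Agent.Lib.AsympCohScale

/-!
# `ℓ¹` versus sup norm on `ℤ^r` (helper10)
-/

set_option autoImplicit false
open Groth.Agent.Lib.CohTwistLattice

namespace Groth.Agent.Lib.AsympCohNorm

variable {r : ℕ}

theorem l1_le_norm (a : Fin r → ℤ) :
    (l1 a : ℝ) ≤ (r : ℝ) * ‖(fun j => ((a j : ℤ) : ℝ))‖ := by
  unfold l1
  push_cast
  have h1 : ∀ j ∈ (Finset.univ : Finset (Fin r)), |((a j : ℤ) : ℝ)| ≤ ‖(fun j => ((a j : ℤ) : ℝ))‖ := by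
    intro j _
    have := norm_le_pi_norm (fun j => ((a j : ℤ) : ℝ)) j
    rwa [Real.norm_eq_abs] at this
  have h2 := Finset.sum_le_card_nsmul _ _ _ h1
  rw [Finset.card_univ, Fintype.card_fin, nsmul_eq_mul] at h2
  refine le_trans (le_of_eq ?_) h2
  refine Finset.sum_congr rfl fun j _ => ?_
  rw [Nat.cast_natAbs, Int.cast_abs]

theorem norm_sub_le' (a b : Fin r → ℤ) :
    ‖(fun j => ((a j - b j : ℤ) : ℝ))‖ ≤
      ‖(fun j => ((a j : ℤ) : ℝ))‖ + ‖(fun j => ((b j : ℤ) : ℝ))‖ := by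
  have e : (fun j => ((a j - b j : ℤ) : ℝ)) =
      (fun j => ((a j : ℤ) : ℝ)) - (fun j => ((b j : ℤ) : ℝ)) := by
    funext j
    simp
  rw [e]
  exact norm_sub_le _ _

theorem l1_sub_le_norm (a b : Fin r → ℤ) :
    (l1 (a - b) : ℝ) ≤ (r : ℝ) * ‖(fun j => ((a j - b j : ℤ) : ℝ))‖ :=
  l1_le_norm (a - b)

section Cls

universe u
open CategoryTheory AlgebraicGeometry CohB1 Groth.Agent.Lib.IsoCls13

variable (k : Type u) [Field k] {X : Scheme.{u}}
  [X.Over (Spec (CommRingCat.of k))] [IsProper (X ↘ Spec (CommRingCat.of k))]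

/-- `ĥ^i` only depends on the isomorphism class -/
theorem hhat_congr_cls (n i : ℕ) {P Q : X.Modules} (h : cls P = cls Q) :
    W4c5asymptcohfn.hhat k X n i P = W4c5asymptcohfn.hhat k X n i Q := by
  unfold W4c5asymptcohfn.hhat
  congr 1
  funext m
  have h1 := Groth.Agent.Lib.AsympCohScale.xs_eq_hc k P i m
  have h2 := Groth.Agent.Lib.AsympCohScale.xs_eq_hc k Q i m
  unfold Groth.Agent.Lib.AsympCohScale.xs at h1 h2
  rw [h1, h2, h]

end Cls

end Groth.Agent.Lib.AsympCohNorm
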