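import Groth.Agent.S1487

/-!
# `Spec` of a square-zero surjection is a nilpotent closed immersion (helper37)
-/

set_option autoImplicit false
universe u
open CategoryTheory AlgebraicGeometry

namespace Groth.Agent.Lib.SqZeroSpec

lemma isNilpotent_ker_SpecMap {B' B : Type u} [CommRing B'] [CommRing B] (φ : B' →+* B)
    (hs : Function.Surjective φ) (hk : RingHom.ker φ ^ 2 = ⊥) :
    IsNilpotent (Spec.map (CommRingCat.ofHom φ)).ker := by
  let e : (B' ⧸ RingHom.ker φ) ≃+* B := RingHom.quotientKerEquivOfSurjective hs
  have hi : Spec.map (CommRingCat.ofHom φ) = Spec.map (CommRingCat.ofHom e.toRingHom) ≫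
      Groth.Agent.S1489.thick (RingHom.ker φ) := by
    rw [← Spec.map_comp, ← CommRingCat.ofHom_comp]
    congr 2
  have : IsIso (Spec.map (CommRingCat.ofHom e.toRingHom)) := by
    have : IsIso (CommRingCat.ofHom e.toRingHom) := (e.toCommRingCatIso).isIso_hom
    infer_instance
  rw [hi, Scheme.Hom.ker_comp_of_isIso]
  exact Groth.Agent.S1487.isNilpotent_ker_thick (RingHom.ker φ) hk

instance isClosedImmersion_SpecMap_of_surjective {B' B : Type u} [CommRing B'] [CommRing B]
    (φ : B' →+* B) [h : Fact (Function.Surjective φ)] :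
    IsClosedImmersion (Spec.map (CommRingCat.ofHom φ)) :=
  IsClosedImmersion.spec_of_surjective _ h.out

end Groth.Agent.Lib.SqZeroSpec
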