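import Mathlib
import Groth.Prelude.Def_Magnet3
import Groth.Agent.Lib.IdealSheafComap
import Groth.Agent.Lib.SqZeroSpec

/-!
# helper27: equivariant maps out of `B ⊗ T` into a formally unramified target are determined by
their restriction to a nilpotent thickening and their image (Magnet attractors)
-/

set_option autoImplicit false
universe u
open CategoryTheory CategoryTheory.Limits MonoidalCategory CartesianMonoidalCategory MonObj
  AlgebraicGeometry Opposite

namespace Groth.Agent.Lib.AttrUnram27

/-- The base change of a nilpotent closed immersion has nilpotent kernel. -/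
theorem isNilpotent_ker_of_isPullback {W' W Z' Z : Scheme.{u}} (i' : W' ⟶ W) (p' : W' ⟶ Z')
    (p : W ⟶ Z) (i : Z' ⟶ Z) [IsClosedImmersion i] (sq : IsPullback i' p' p i)
    (h : IsNilpotent i.ker) : IsNilpotent i'.ker := by
  obtain ⟨n, hn⟩ := h
  refine ⟨n, ?_⟩
  have e : i' = sq.isoPullback.hom ≫ pullback.fst p i := by simp
  rw [e, Scheme.Hom.ker_comp_of_isIso, Scheme.IdealSheafData.ker_fst_of_isClosedImmersion,
    ← Groth.Agent.Lib.IdealSheafComap.comap_pow, hn]
  exact Scheme.IdealSheafData.comap_bot p

/-- `B ◁ t` is a base change of `t`. -/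
theorem isPullback_whiskerLeft {S : Scheme.{u}} (B : Over S) {T T' : Over S} (t : T ⟶ T') :
    IsPullback (B ◁ t).left (pullback.snd B.hom T.hom) (pullback.snd B.hom T'.hom) t.left := by
  refine IsPullback.of_right ?_ (Over.whiskerLeft_left_snd _) (IsPullback.of_hasPullback B.hom T'.hom)
  rw [Over.whiskerLeft_left_fst, Over.w t]
  exact IsPullback.of_hasPullback B.hom T.hom

/-- Equivariant maps `B ⊗ T' ⟶ X` with the same restriction along a nilpotent thickening
`T ⟶ T'` and the same image under a formally unramified `f : X ⟶ Y` are equal. -/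
theorem eqvHom_ext_of_thickening {S : Scheme.{u}} {A B X Y : Over S} [MonObj A]
    (ρ : Magnet.MonAct A B) (aX : Magnet.MonAct A X) (aY : Magnet.MonAct A Y) (f : X ⟶ Y)
    (hf : Magnet.MonAct.IsEquivariant aX aY f) [FormallyUnramified f.left]
    {T T' : Over S} (t : T ⟶ T') [IsClosedImmersion t.left] (ht : IsNilpotent t.left.ker)
    (l₁ l₂ : (Magnet.MonAct.eqvHom ρ aX).obj (op T'))
    (htop : (Magnet.MonAct.eqvHom ρ aX).map t.op l₁ = (Magnet.MonAct.eqvHom ρ aX).map t.op l₂)
    (hbot : (Magnet.MonAct.eqvHom.postcomp ρ f hf).app _ l₁ =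
      (Magnet.MonAct.eqvHom.postcomp ρ f hf).app _ l₂) :
    l₁ = l₂ := by
  apply Subtype.ext
  ext : 1
  have sq := isPullback_whiskerLeft B t
  have hci : IsClosedImmersion (B ◁ t).left :=
    MorphismProperty.of_isPullback (P := @IsClosedImmersion) sq.flip inferInstance
  refine FormallyUnramified.hom_ext (B ◁ t).left
    (isNilpotent_ker_of_isPullback _ _ _ _ sq ht) f.left ?_ ?_
  · have h := congrArg (fun l => l.1.left) htop
    simpa using h
  · have h := congrArg (fun l => l.1.left) hbot
    simpa using h

end Groth.Agent.Lib.AttrUnram27
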