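import Mathlib.AlgebraicTopology.ExtraDegeneracy
import Mathlib.Algebra.Homology.QuasiIso
import Mathlib.Algebra.Homology.ShortComplex.PreservesHomology
import Mathlib.Algebra.Homology.HomotopyCategory.HomologicalFunctor

/-!
# Quasi-isomorphism of the augmentation of the alternating face map complex (helper95)

* `quasiIso_ε_of_extraDegeneracy`
* `quasiIso_ε_of_iso`
* `epsMapArrowIso` : `G (ε X) ≅ ε (G X)` as arrows, for an additive functor `G`
* `quasiIso_of_forall_map` : a jointly conservative family of homology-preserving functors detects
  quasi-isomorphisms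
-/

open CategoryTheory Limits Opposite Simplicial

set_option backward.defeqAttrib.useBackward true
set_option backward.isDefEq.respectTransparency false
set_option linter.unusedSectionVars false

namespace Groth.Agent.Lib.AugQuasiIso

open AlgebraicTopology

section

variable {A : Type*} [Category* A] [Preadditive A] [HasZeroObject A] [CategoryWithHomology A]

lemma quasiIso_ε_of_extraDegeneracy {X : SimplicialObject.Augmented A}
    (ed : SimplicialObject.Augmented.ExtraDegeneracy X) :
    QuasiIso (AlternatingFaceMapComplex.ε.app X) := by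
  have : AlternatingFaceMapComplex.ε.app X = ed.homotopyEquiv.hom := rfl
  rw [this]
  infer_instance

lemma quasiIso_ε_of_iso {X Y : SimplicialObject.Augmented A} (e : X ≅ Y)
    (h : QuasiIso (AlternatingFaceMapComplex.ε.app X)) :
    QuasiIso (AlternatingFaceMapComplex.ε.app Y) := by
  refine (quasiIso_iff_of_arrow_mk_iso _ _ (Arrow.isoMk
    ((SimplicialObject.Augmented.drop ⋙ alternatingFaceMapComplex A).mapIso e)
    ((SimplicialObject.Augmented.point ⋙ ChainComplex.single₀ A).mapIso e) ?_)).1 h
  exact AlternatingFaceMapComplex.ε.naturality e.hom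

end

section

variable {A B : Type*} [Category* A] [Category* B] [Preadditive A] [Preadditive B]
  [HasZeroObject A] [HasZeroObject B] (G : A ⥤ B) [G.Additive]

/-- `G` applied to the alternating face map complex. -/
noncomputable def mapAltIso (X : SimplicialObject A) :
    (G.mapHomologicalComplex _).obj ((alternatingFaceMapComplex A).obj X) ≅
      (alternatingFaceMapComplex B).obj (((SimplicialObject.whiskering A B).obj G).obj X) :=
  eqToIso (Functor.congr_obj (map_alternatingFaceMapComplex G) X)

lemma mapAltIso_hom_f (X : SimplicialObject A) (n : ℕ) :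
    (mapAltIso G X).hom.f n = 𝟙 _ := by
  simp [mapAltIso, HomologicalComplex.eqToHom_f]

/-- `G (ε X) ≅ ε (G X)` as arrows of chain complexes. -/
noncomputable def epsMapArrowIso (X : SimplicialObject.Augmented A) :
    Arrow.mk ((G.mapHomologicalComplex _).map (AlternatingFaceMapComplex.ε.app X)) ≅
      Arrow.mk (AlternatingFaceMapComplex.ε.app
        (((SimplicialObject.Augmented.whiskering A B).obj G).obj X)) :=
  Arrow.isoMk (mapAltIso G X.left)
    ((HomologicalComplex.singleMapHomologicalComplex G (ComplexShape.down ℕ) 0).app X.right) (by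
      apply HomologicalComplex.to_single_hom_ext
      dsimp
      rw [mapAltIso_hom_f]
      simp [HomologicalComplex.singleMapHomologicalComplex])

end

section

variable {C₁ C₂ : Type*} [Category* C₁] [Category* C₂] [Preadditive C₁] [Preadditive C₂]
  [CategoryWithHomology C₁] [CategoryWithHomology C₂]
  {κ : Type*} (F : κ → C₁ ⥤ C₂) [∀ k, (F k).Additive] [∀ k, (F k).PreservesHomology]
  (hF : ∀ {X Y : C₁} (f : X ⟶ Y), (∀ k, IsIso ((F k).map f)) → IsIso f)

include hF

lemma shortComplex_quasiIso_of_forall_map {S₁ S₂ : ShortComplex C₁} (φ : S₁ ⟶ S₂)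
    (h : ∀ k, ShortComplex.QuasiIso ((F k).mapShortComplex.map φ)) : ShortComplex.QuasiIso φ := by
  have γ : ShortComplex.LeftHomologyMapData φ S₁.leftHomologyData S₂.leftHomologyData := default
  rw [γ.quasiIso_iff]
  apply hF
  intro k
  have := h k
  rw [(γ.map (F k)).quasiIso_iff, ShortComplex.LeftHomologyMapData.map_φH] at this
  exact this

/-- A jointly conservative family of additive homology-preserving functors detects quasi-isos. -/
lemma quasiIso_of_forall_map {ι : Type*} {c : ComplexShape ι} {K L : HomologicalComplex C₁ c}
    (φ : K ⟶ L) (h : ∀ k, QuasiIso (((F k).mapHomologicalComplex c).map φ)) : QuasiIso φ := by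
  rw [quasiIso_iff]
  intro i
  rw [quasiIsoAt_iff]
  apply shortComplex_quasiIso_of_forall_map F hF
  intro k
  have := (h k).quasiIsoAt i
  rw [quasiIsoAt_iff] at this
  exact this

end

end Groth.Agent.Lib.AugQuasiIso
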