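import Mathlib
import Groth.Agent.Lib.FpqcCovDesc18

/-!
# More on local fpqc coverings (helper18)

* `isFpqcCov_of_fpqc` : a flat surjective quasi-compact morphism is an `IsFpqcCov`.
* `epi_tensorHom_over` : `p ⊗ₘ p` is an epimorphism in `Over S` when `p.left` is `IsFpqcCov`.
-/

set_option autoImplicit false
set_option maxHeartbeats 400000
universe u
open CategoryTheory CategoryTheory.Limits AlgebraicGeometry MonoidalCategory
  CartesianMonoidalCategory

namespace Groth.Agent.Lib.FpqcCov18

lemma isFpqcCov_of_fpqc {Z Y : Scheme.{u}} (q : Z ⟶ Y) [Flat q] [Surjective q] [QuasiCompact q] :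
    IsFpqcCov q := by
  intro y
  refine ⟨⊤, Z, q ≫ (Scheme.topIso Y).inv, 𝟙 Z, trivial, ?_, ?_, ?_, ?_⟩
  · infer_instance
  · infer_instance
  · infer_instance
  · rw [Category.id_comp, Category.assoc, ← Scheme.topIso_hom, Iso.inv_hom_id, Category.comp_id]

lemma epi_tensorHom_over {S : Scheme.{u}} {X Y : Over S} (p : X ⟶ Y) (hp : IsFpqcCov p.left) :
    Epi (p ⊗ₘ p) := by
  have e4 : Epi (p ▷ X) := epi_over _ (isFpqcCov_whiskerRight X p hp)
  have e5 : Epi (Y ◁ p) := epi_over _ (isFpqcCov_whiskerLeft Y p hp)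
  rw [MonoidalCategory.tensorHom_def]
  infer_instance

end Groth.Agent.Lib.FpqcCov18
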