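import Groth.Prelude.Def_AlgGrp

/-!
# Actions of group objects of `Over S` on points (for `AlgGrp.Action`)
-/

universe u

open CategoryTheory MonoidalCategory CartesianMonoidalCategory MonObj AlgebraicGeometry

namespace Groth.Agent.Lib.GrpAction

variable {S : Scheme.{u}} {G X : Over S} [GrpObj G] (a : AlgGrp.Action G X)

/-- The unit acts trivially on points. -/
lemma one_act {T : Over S} (x : T ⟶ X) : lift (1 : T ⟶ G) x ≫ a.act = x := by
  have h : lift (1 : T ⟶ G) x = lift (toUnit T) x ≫ (η[G] ▷ X) := by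
    rw [lift_whiskerRight]; rfl
  rw [h, Category.assoc, a.one_act, lift_leftUnitor_hom]

/-- Compatibility of the action on points with multiplication. -/
lemma mul_act {T : Over S} (g g' : T ⟶ G) (x : T ⟶ X) :
    lift (g * g') x ≫ a.act = lift g (lift g' x ≫ a.act) ≫ a.act := by
  have h : lift (g * g') x = lift (lift g g') x ≫ (μ[G] ▷ X) := by
    rw [lift_whiskerRight]; rfl
  rw [h, Category.assoc, a.mul_act, lift_lift_associator_hom_assoc, lift_whiskerLeft_assoc]

/-- The orbit map on points. -/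
lemma comp_orbitMap (o : 𝟙_ (Over S) ⟶ X) {T : Over S} (g : T ⟶ G) :
    g ≫ a.orbitMap o = lift g (toUnit T ≫ o) ≫ a.act := by
  unfold AlgGrp.Action.orbitMap
  rw [← Category.assoc, comp_lift, Category.comp_id, ← Category.assoc,
    toUnit_unique (g ≫ toUnit G) (toUnit T)]

/-- Precomposition. -/
lemma comp_lift_act {T T' : Over S} (t : T' ⟶ T) (g : T ⟶ G) (x : T ⟶ X) :
    t ≫ lift g x ≫ a.act = lift (t ≫ g) (t ≫ x) ≫ a.act := by
  rw [← Category.assoc, comp_lift]

/-- Cancelling the action of an element. -/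
lemma act_cancel {T : Over S} (g : T ⟶ G) (x y : T ⟶ X)
    (h : lift g x ≫ a.act = lift g y ≫ a.act) : x = y := by
  have hx := mul_act a g⁻¹ g x
  have hy := mul_act a g⁻¹ g y
  rw [inv_mul_cancel, one_act] at hx hy
  rw [hx, hy, h]

end Groth.Agent.Lib.GrpAction
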