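import Groth.Agent.Lib.H71GeomConnMap
import Mathlib.AlgebraicGeometry.IdealSheaf.Functorial
import Mathlib.AlgebraicGeometry.Morphisms.ClosedImmersion

/-!
# Geometric connectedness of connected components (helper71)

* `geometricallyConnected_of_surjective_closedImmersion`: a surjective closed immersion into a geometrically connected
  `k`-scheme has geometrically connected source.
* `isConnected_preimage_connectedComponent`: if `Y ⟶ X` is a `k`-morphism from a geometrically connected `k`-scheme then
  the inverse image in `X_K` of the connected component of the image is connected (Stacks 04KV).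
-/

set_option autoImplicit false
universe u
open CategoryTheory AlgebraicGeometry CategoryTheory.Limits

namespace Groth.Agent.Lib.H71GeomConnComp

variable {k : Type u} [Field k]

/-- A surjective closed immersion is a homeomorphism. -/
theorem isHomeomorph_of_surjective_closedImmersion {Y' Y : Scheme.{u}} (p : Y' ⟶ Y)
    [IsClosedImmersion p] [Surjective p] : IsHomeomorph p :=
  isHomeomorph_iff_isEmbedding_surjective.mpr ⟨p.isClosedEmbedding.isEmbedding, p.surjective⟩

theorem geometricallyConnected_of_surjective_closedImmersion {Y' Y : Scheme.{u}} (p : Y' ⟶ Y)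
    [IsClosedImmersion p] [Surjective p] (g : Y ⟶ Spec (CommRingCat.of k))
    [hg : GeometricallyConnected g] : GeometricallyConnected (p ≫ g) := by
  refine ⟨(geometrically_iff_of_commRing_of_isClosedUnderIsomorphisms ..).mpr fun K _ _ => ?_⟩
  set q := Spec.map (CommRingCat.ofHom (algebraMap k K))
  have hYK : ConnectedSpace ↥(pullback g q) :=
    (geometrically_iff_of_commRing_of_isClosedUnderIsomorphisms ..).mp
      hg.geometrically_connectedSpace K
  have h1 : IsHomeomorph (pullback.snd p (pullback.fst g q)) :=
    isHomeomorph_of_surjective_closedImmersion _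
  have h2 : ConnectedSpace ↥(pullback p (pullback.fst g q)) :=
    h1.homeomorph.symm.surjective.connectedSpace h1.homeomorph.symm.continuous
  exact (pullbackRightPullbackFstIso g q p).hom.surjective.connectedSpace
    (pullbackRightPullbackFstIso g q p).hom.continuous

theorem isConnected_preimage_connectedComponent (K : Type u) [Field K] [Algebra k K]
    {X Y : Scheme.{u}} (f : X ⟶ Spec (CommRingCat.of k)) (g : Y ⟶ Spec (CommRingCat.of k))
    (h : Y ⟶ X) (w : h ≫ f = g) [hg : GeometricallyConnected g] (y : Y) :
    _root_.IsConnected ((pullback.fst f (Spec.map (CommRingCat.ofHom (algebraMap k K)))) ⁻¹'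
      connectedComponent (h y)) := by
  set q := Spec.map (CommRingCat.ofHom (algebraMap k K))
  -- `Y` is connected
  have hY1 : ConnectedSpace ↥(pullback g (Spec.map (CommRingCat.ofHom (algebraMap k k)))) :=
    (geometrically_iff_of_commRing_of_isClosedUnderIsomorphisms ..).mp
      hg.geometrically_connectedSpace k
  have hYc : ConnectedSpace Y :=
    (pullback.fst g (Spec.map (CommRingCat.ofHom (algebraMap k k)))).surjective.connectedSpace
      (pullback.fst g _).continuous
  -- the reduced closed subscheme on the connected component
  let Z : TopologicalSpace.Closeds X := ⟨connectedComponent (h y), isClosed_connectedComponent⟩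
  let I := Scheme.IdealSheafData.vanishingIdeal Z
  let ι : I.subscheme ⟶ X := I.subschemeι
  have hrange : Set.range ι = connectedComponent (h y) := by
    rw [Scheme.IdealSheafData.range_subschemeι, Scheme.IdealSheafData.coe_support_vanishingIdeal]
    rfl
  -- `Z` is connected as a scheme
  have hZc : ConnectedSpace ↥I.subscheme := by
    have hemb : Topology.IsEmbedding ι := ι.isClosedEmbedding.isEmbedding
    have hne : Nonempty ↥I.subscheme := by
      have : h y ∈ Set.range ι := hrange ▸ mem_connectedComponent
      obtain ⟨z, -⟩ := this
      exact ⟨z⟩
    have hpre : _root_.IsPreconnected (ι '' Set.univ) := by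
      rw [Set.image_univ, hrange]
      exact isPreconnected_connectedComponent
    have := (hemb.isInducing.isPreconnected_image).mp hpre
    exact { toPreconnectedSpace := ⟨this⟩, toNonempty := hne }
  -- `Y' = Y ×_X Z ⟶ Y` is a surjective closed immersion
  let p : pullback h ι ⟶ Y := pullback.fst h ι
  have hsub : Set.range h ⊆ connectedComponent (h y) := by
    have : _root_.IsPreconnected (Set.range h) := by
      rw [← Set.image_univ]
      exact (isPreconnected_univ).image _ h.continuous.continuousOn
    exact this.subset_connectedComponent ⟨y, rfl⟩
  haveI hp : Surjective p := by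
    constructor
    rw [← Set.range_eq_univ, Scheme.Pullback.range_fst, hrange]
    ext a
    simp only [Set.mem_preimage, Set.mem_univ, iff_true]
    exact hsub ⟨a, rfl⟩
  haveI : GeometricallyConnected (p ≫ g) :=
    geometricallyConnected_of_surjective_closedImmersion p g
  haveI : Nonempty ↥(pullback h ι) := by
    obtain ⟨t, -⟩ := p.surjective y
    exact ⟨t⟩
  have hpf : pullback.snd h ι ≫ (ι ≫ f) = p ≫ g := by
    rw [← w, ← Category.assoc, ← pullback.condition, Category.assoc]
  haveI : GeometricallyConnected (pullback.snd h ι ≫ (ι ≫ f)) := by
    rw [hpf]; infer_instance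
  have hZgeo : GeometricallyConnected (ι ≫ f) :=
    Groth.Agent.Lib.H71GeomConnMap.geometricallyConnected_of_map (pullback.snd h ι) (ι ≫ f)
  have hZK : ConnectedSpace ↥(pullback (ι ≫ f) q) :=
    (geometrically_iff_of_commRing_of_isClosedUnderIsomorphisms ..).mp
      hZgeo.geometrically_connectedSpace K
  have hZK' : ConnectedSpace ↥(pullback ι (pullback.fst f q)) :=
    (pullbackRightPullbackFstIso f q ι).inv.surjective.connectedSpace
      (pullbackRightPullbackFstIso f q ι).inv.continuous
  have himg : Set.range (pullback.snd ι (pullback.fst f q)) =
      (pullback.fst f q) ⁻¹' connectedComponent (h y) := by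
    rw [Scheme.Pullback.range_snd, hrange]
  rw [← himg]
  exact isConnected_range (pullback.snd ι (pullback.fst f q)).continuous

end Groth.Agent.Lib.H71GeomConnComp
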