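import Groth.Agent.Lib.H71ConnCompImage
import Groth.Agent.Lib.H71GeomConnComp

/-!
# A criterion for geometric connectedness (helper71)

* `geometricallyConnected_of_preconnected_preimage`: a connected `k`-scheme `Z` with a nonempty subset `W` whose
  preimage in every `Z_L` is preconnected is geometrically connected.
* `isConnected_preimage_connectedComponent_of_preconnected_preimage`: if `Y ⊆ X` is preconnected with preconnected
  preimage in every `X_L` (e.g. `Y` geometrically irreducible), then the preimage in `X_K` of the connected component
  of `X` containing `Y` is connected (Stacks 04KV-type).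
-/
set_option autoImplicit false
universe u
open CategoryTheory CategoryTheory.Limits AlgebraicGeometry TensorProduct

namespace Groth.Agent.Lib.H71GeomConnCrit

open Groth.Agent.Lib.H71ConnCompImage Groth.Agent.Lib.FieldBC13

variable {k : Type u} [Field k]

/-- A connected `k`-scheme containing a nonempty subset whose preimage in every base change to a field is
preconnected is geometrically connected. -/
theorem geometricallyConnected_of_preconnected_preimage {Z : Scheme.{u}} [ConnectedSpace Z]
    (g : Z ⟶ Spec (CommRingCat.of k)) (W : Set Z) (hW : W.Nonempty)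
    (h : ∀ (L : Type u) [Field L] [Algebra k L],
      _root_.IsPreconnected ((pullback.fst g (Spec.map (CommRingCat.ofHom (algebraMap k L)))) ⁻¹' W)) :
    GeometricallyConnected g := by
  apply Groth.Agent.Lib.H71FinSepConn.geometricallyConnected_of_forall_finite_separable
  intro K _ _ _ _
  obtain ⟨w, hw⟩ := hW
  obtain ⟨w', hw'⟩ := surjective_fst K g w
  have key : ∀ z' : ↥(pullback g (Spec.map (CommRingCat.ofHom (algebraMap k K)))),
      z' ∈ connectedComponent w' := by
    intro z'
    obtain ⟨y, hy, hyw⟩ := exists_mem_connectedComponent_of_connectedSpace K g z' w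
    have hsub := (h K).subset_connectedComponent (x := y) (by simp [hyw, hw])
    have hw'y : w' ∈ connectedComponent y := hsub (by simp [hw', hw])
    have e1 : connectedComponent z' = connectedComponent y := connectedComponent_eq hy
    have e2 : connectedComponent y = connectedComponent w' := connectedComponent_eq hw'y
    rw [← e2, ← e1]
    exact mem_connectedComponent
  rw [connectedSpace_iff_connectedComponent]
  exact ⟨w', Set.eq_univ_of_forall key⟩

/-- If `Y ⊆ X` is a preconnected subset whose preimage in every `X_L` is preconnected, then the connected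
component of `X` containing `Y` is geometrically connected (in terms of preimages). -/
theorem isConnected_preimage_connectedComponent_of_preconnected_preimage
    (K : Type u) [Field K] [Algebra k K] {X : Scheme.{u}}
    (f : X ⟶ Spec (CommRingCat.of k)) (Y : Set X) (hY : _root_.IsPreconnected Y)
    (hgi : ∀ (L : Type u) [Field L] [Algebra k L],
      _root_.IsPreconnected ((pullback.fst f (Spec.map (CommRingCat.ofHom (algebraMap k L)))) ⁻¹' Y))
    (y : X) (hy : y ∈ Y) :
    _root_.IsConnected ((pullback.fst f (Spec.map (CommRingCat.ofHom (algebraMap k K)))) ⁻¹'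
      connectedComponent y) := by
  let Z : TopologicalSpace.Closeds X := ⟨connectedComponent y, isClosed_connectedComponent⟩
  let I := Scheme.IdealSheafData.vanishingIdeal Z
  let ι : I.subscheme ⟶ X := I.subschemeι
  have hrange : Set.range ι = connectedComponent y := by
    rw [Scheme.IdealSheafData.range_subschemeι, Scheme.IdealSheafData.coe_support_vanishingIdeal]
    rfl
  have hYsub : Y ⊆ Set.range ι := hrange ▸ hY.subset_connectedComponent hy
  obtain ⟨z, hz⟩ := hYsub hy
  haveI hZc : ConnectedSpace ↥I.subscheme := by
    have hemb : Topology.IsEmbedding ι := ι.isClosedEmbedding.isEmbedding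
    have hpre : _root_.IsPreconnected (ι '' Set.univ) := by
      rw [Set.image_univ, hrange]
      exact isPreconnected_connectedComponent
    have := (hemb.isInducing.isPreconnected_image).mp hpre
    exact { toPreconnectedSpace := ⟨this⟩, toNonempty := ⟨z⟩ }
  haveI : GeometricallyConnected (ι ≫ f) := by
    apply geometricallyConnected_of_preconnected_preimage (ι ≫ f) (ι ⁻¹' Y) ⟨z, by simp [hz, hy]⟩
    intro L _ _
    have hpb := isPullback_mapK L f (ι ≫ f) ι rfl
    haveI : IsClosedImmersion (mapK L f (ι ≫ f) ι rfl) :=
      MorphismProperty.of_isPullback hpb.flip (inferInstanceAs (IsClosedImmersion ι))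
    have hemb : Topology.IsEmbedding (mapK L f (ι ≫ f) ι rfl) :=
      (mapK L f (ι ≫ f) ι rfl).isClosedEmbedding.isEmbedding
    rw [← hemb.isInducing.isPreconnected_image]
    have himg : (mapK L f (ι ≫ f) ι rfl) ''
        ((pullback.fst (ι ≫ f) (Spec.map (CommRingCat.ofHom (algebraMap k L)))) ⁻¹' (ι ⁻¹' Y)) =
        (pullback.fst f (Spec.map (CommRingCat.ofHom (algebraMap k L)))) ⁻¹' Y := by
      ext x'
      constructor
      · rintro ⟨t, ht, rfl⟩
        simp only [Set.mem_preimage] at ht ⊢
        rw [← Scheme.Hom.comp_apply, Groth.Agent.Lib.GalAct13.mapK_fst, Scheme.Hom.comp_apply]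
        exact ht
      · intro hx'
        simp only [Set.mem_preimage] at hx'
        obtain ⟨z₁, hz₁⟩ := hYsub hx'
        obtain ⟨t, ht1, ht2⟩ := Scheme.exists_preimage_of_isPullback hpb x' z₁ (by rw [hz₁])
        refine ⟨t, ?_, ht1⟩
        simp only [Set.mem_preimage]
        rw [ht2, hz₁]
        exact hx'
    rw [himg]
    exact hgi L
  have := Groth.Agent.Lib.H71GeomConnComp.isConnected_preimage_connectedComponent K f (ι ≫ f) ι rfl z
  rwa [hz] at this

end Groth.Agent.Lib.H71GeomConnCrit
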