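import Groth.Agent.Lib.H71IrrFibre
import Groth.Agent.Lib.H71GeomConnCrit

/-!
# H71RatPtConn: Stacks 04KV (helper71)

* geometricallyConnected_of_rational_point: a connected k-scheme with a k-rational point is geometrically connected;
* connectedSpace_pullback_of_rational_point: then X ×_k Y is connected for every connected Y.
-/

set_option autoImplicit false
universe u
open CategoryTheory CategoryTheory.Limits AlgebraicGeometry TensorProduct

namespace Groth.Agent.Lib.H71RatPtConn

open Groth.Agent.Lib.FieldBC13 Groth.Agent.Lib.H71IrrFibre

variable {k : Type u} [Field k] {X : Scheme.{u}} (f : X ⟶ Spec (CommRingCat.of k))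

/-- **Stacks 04KV**: a connected `k`-scheme with a `k`-rational point is geometrically connected. -/
theorem geometricallyConnected_of_rational_point [ConnectedSpace X]
    (x : Spec (CommRingCat.of k) ⟶ X) (hx : x ≫ f = 𝟙 _) : GeometricallyConnected f := by
  apply Groth.Agent.Lib.H71GeomConnCrit.geometricallyConnected_of_preconnected_preimage f
    {x (IsLocalRing.closedPoint k)} ⟨_, rfl⟩
  intro L _ _
  rw [preimage_singleton_eq_range f L k x]
  haveI : IsIso (pullback.snd (x ≫ f) (Spec.map (CommRingCat.ofHom (algebraMap k L)))) := by
    rw [hx]; infer_instance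
  haveI : Subsingleton ↥(pullback (x ≫ f) (Spec.map (CommRingCat.ofHom (algebraMap k L)))) :=
    (asIso (pullback.snd (x ≫ f) (Spec.map (CommRingCat.ofHom (algebraMap k L))))).hom.homeomorph.injective.subsingleton
  exact (Set.subsingleton_range _).isPreconnected

/-- `X`, `Y` connected `k`-schemes, `X` with a rational point: `X ×_k Y` is connected. -/
theorem connectedSpace_pullback_of_rational_point {Y : Scheme.{u}} (g : Y ⟶ Spec (CommRingCat.of k))
    [ConnectedSpace X] [ConnectedSpace Y]
    (x : Spec (CommRingCat.of k) ⟶ X) (hx : x ≫ f = 𝟙 _) : ConnectedSpace ↥(pullback f g) := by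
  haveI := geometricallyConnected_of_rational_point f x hx
  infer_instance

end Groth.Agent.Lib.H71RatPtConn
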