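import Groth.Agent.Lib.H30NormalSmoothSch
import Groth.Agent.Lib.H71RatPtConn
import Groth.Agent.Lib.GrpAction

universe u
open CategoryTheory MonoidalCategory CartesianMonoidalCategory MonObj AlgebraicGeometry CategoryTheory.Limits

namespace Groth.Agent.Lib.TrivAct45

/-- Smooth over reduced is reduced. -/
theorem isReduced_of_smooth {X Y : Scheme.{u}} (f : X ⟶ Y) [Smooth f] [IsReduced Y] :
    IsReduced X := by
  have : ∀ x : X, _root_.IsReduced (X.presheaf.stalk x) := fun x =>
    (Groth.Agent.Lib.H30NormalSmoothSch.stalk_iff_of_smooth f x).2.mpr inferInstance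
  exact isReduced_of_isReduced_stalk X

/-- Products of quasi-finite `k`-schemes are discrete. -/
theorem discreteTopology_pullback {k : Type u} [Field k] {X Y : Scheme.{u}}
    (f : X ⟶ Spec (CommRingCat.of k)) (g : Y ⟶ Spec (CommRingCat.of k))
    [LocallyQuasiFinite f] [LocallyQuasiFinite g] : DiscreteTopology ↥(pullback f g) := by
  have : IsLocallyArtinian (Spec (CommRingCat.of k)) := by
    rw [Scheme.isLocallyArtinianScheme_Spec]; infer_instance
  have : IsLocallyArtinian (pullback f g) :=
    IsLocallyArtinian.of_locallyQuasiFinite (pullback.fst f g ≫ f)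
  infer_instance

/-- A smooth connected group over a field acts trivially on a reduced zero-dimensional
scheme of finite type. -/
theorem act_eq_snd {k : Type u} [Field k] {G Z : Over (Spec (CommRingCat.of k))} [GrpObj G]
    [Smooth G.hom] [ConnectedSpace ↥G.left] [LocallyOfFiniteType Z.hom] [QuasiCompact Z.hom]
    [IsReduced Z.left] (hdim : topologicalKrullDim ↥Z.left ≤ 0) (a : AlgGrp.Action G Z) :
    a.act = snd G Z := by
  have hS : IsLocallyArtinian (Spec (CommRingCat.of k)) := by
    rw [Scheme.isLocallyArtinianScheme_Spec]; infer_instance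
  have hN : IsLocallyNoetherian Z.left := LocallyOfFiniteType.isLocallyNoetherian Z.hom
  have hA : IsLocallyArtinian Z.left := .of_topologicalKrullDim_le_zero hdim
  have hC : CompactSpace ↥Z.left := QuasiCompact.compactSpace_of_compactSpace Z.hom
  have hAS : IsArtinianScheme Z.left := {}
  have hfin : Finite ↥Z.left := inferInstance
  have hqf : LocallyQuasiFinite Z.hom :=
    .of_finite_preimage_singleton _ (fun _ => Set.toFinite _)
  have hdisc : DiscreteTopology ↥(Z ⊗ Z).left := discreteTopology_pullback Z.hom Z.hom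
  have hZfin : IsFinite Z.hom := IsFinite.of_locallyQuasiFinite Z.hom
  have hgc : GeometricallyConnected G.hom :=
    Groth.Agent.Lib.H71RatPtConn.geometricallyConnected_of_rational_point G.hom η[G].left
      (Over.w η[G])
  have hgc' : GeometricallyConnected (snd G Z).left :=
    inferInstanceAs (GeometricallyConnected (pullback.snd G.hom Z.hom))
  have hsm : Smooth (snd G Z).left := inferInstanceAs (Smooth (pullback.snd G.hom Z.hom))
  have hred : IsReduced (G ⊗ Z).left := isReduced_of_smooth (snd G Z).left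
  -- the unit section
  let s : Z ⟶ G ⊗ Z := lift (1 : Z ⟶ G) (𝟙 Z)
  have hs1 : s ≫ a.act = 𝟙 Z := Groth.Agent.Lib.GrpAction.one_act a (𝟙 Z)
  have hs2 : s ≫ snd G Z = 𝟙 Z := lift_snd _ _
  let g : G ⊗ Z ⟶ Z ⊗ Z := lift a.act (snd G Z)
  let Δ : Z ⟶ Z ⊗ Z := lift (𝟙 Z) (𝟙 Z)
  have hsg : s ≫ g = Δ := by
    apply CartesianMonoidalCategory.hom_ext
    · simp only [g, Δ, Category.assoc, lift_fst, hs1]
    · simp only [g, Δ, Category.assoc, lift_snd, hs2]
  have hclaim : ∀ p : ↥(G ⊗ Z).left, g.left p ∈ Set.range Δ.left := by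
    intro p
    let z := (snd G Z).left p
    have hF : _root_.IsConnected ((snd G Z).left ⁻¹' {z}) :=
      Scheme.Hom.isConnected_preimage_singleton _ z
    have hsub : (g.left '' ((snd G Z).left ⁻¹' {z})).Subsingleton :=
      (hF.isPreconnected.image _ g.left.continuous.continuousOn).subsingleton
    have hq : s.left z ∈ (snd G Z).left ⁻¹' {z} := by
      show (snd G Z).left (s.left z) = z
      rw [← Scheme.Hom.comp_apply, ← Over.comp_left, hs2]; rfl
    have hp : p ∈ (snd G Z).left ⁻¹' {z} := rfl
    have := hsub ⟨p, hp, rfl⟩ ⟨_, hq, rfl⟩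
    rw [this, ← Scheme.Hom.comp_apply, ← Over.comp_left, hsg]
    exact ⟨z, rfl⟩
  -- the diagonal is a closed immersion
  have hΔ1 : Δ ≫ fst Z Z = 𝟙 Z := lift_fst _ _
  have hΔ2 : Δ ≫ snd Z Z = 𝟙 Z := lift_snd _ _
  have hsep : IsSeparated (fst Z Z).left :=
    inferInstanceAs (IsSeparated (pullback.fst Z.hom Z.hom))
  have hΔcl : IsClosedImmersion Δ.left := by
    have h1 : Δ.left ≫ (fst Z Z).left = 𝟙 _ := by
      rw [← Over.comp_left, hΔ1]; rfl
    have : IsClosedImmersion (Δ.left ≫ (fst Z Z).left) := by rw [h1]; infer_instance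
    exact IsClosedImmersion.of_comp Δ.left (fst Z Z).left
  -- the equaliser is everything
  have hsurj : Surjective (pullback.fst g.left Δ.left) := by
    refine ⟨fun p => ?_⟩
    obtain ⟨z, hz⟩ := hclaim p
    obtain ⟨e, he, -⟩ := Scheme.Pullback.exists_preimage_pullback p z hz.symm
    exact ⟨e, he⟩
  have hiso : IsIso (pullback.fst g.left Δ.left) :=
    isIso_of_isClosedImmersion_of_surjective _
  have hg : g.left = inv (pullback.fst g.left Δ.left) ≫ pullback.snd g.left Δ.left ≫ Δ.left := by
    rw [← pullback.condition, IsIso.inv_hom_id_assoc]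
  have e1 : a.act.left = g.left ≫ (fst Z Z).left := by
    rw [← Over.comp_left]; simp only [g, lift_fst]
  have e2 : (snd G Z).left = g.left ≫ (snd Z Z).left := by
    rw [← Over.comp_left]; simp only [g, lift_snd]
  have d1 : Δ.left ≫ (fst Z Z).left = 𝟙 _ := by rw [← Over.comp_left, hΔ1]; rfl
  have d2 : Δ.left ≫ (snd Z Z).left = 𝟙 _ := by rw [← Over.comp_left, hΔ2]; rfl
  apply Over.OverMorphism.ext
  rw [e1, e2, hg]
  simp only [Category.assoc, d1, d2]

end Groth.Agent.Lib.TrivAct45
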