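import Groth.Agent.Lib.H0Const13
import Groth.Agent.Lib.FpqcCovMore18
import Groth.Agent.Lib.FpqcCovDesc18
import Groth.Agent.Lib.TrivAct45
import Groth.Agent.Lib.FlatSurj18
import Groth.Prelude.Def_AlgGrp

set_option autoImplicit false
universe u
open CategoryTheory CategoryTheory.Limits MonoidalCategory CartesianMonoidalCategory MonObj GrpObj
  AlgebraicGeometry

namespace Groth.Agent.Lib.AutFixKer45

variable {k : Type u} [Field k]

/-- A morphism from a scheme `Q` with `Γ(Q) = k` and a rational point to an affine scheme is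
constant. -/
theorem eq_const_of_isAffine {Q H : Over (Spec (CommRingCat.of k))} [IsAffine H.left]
    (hQ : Function.Bijective ((Scheme.ΓSpecIso (CommRingCat.of k)).inv ≫ Q.hom.appTop).hom)
    (e : 𝟙_ (Over (Spec (CommRingCat.of k))) ⟶ Q) (ψ : Q ⟶ H) : ψ = toUnit Q ≫ e ≫ ψ := by
  apply Over.OverMorphism.ext
  apply ext_of_isAffine
  have he : e.left ≫ Q.hom = 𝟙 _ := Over.w e
  have hinj : Function.Injective e.left.appTop.hom := by
    have h1 : Q.hom.appTop ≫ e.left.appTop = 𝟙 _ := by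
      rw [← Scheme.Hom.comp_appTop, he]; rfl
    have hb : Function.Bijective Q.hom.appTop.hom := by
      have : Q.hom.appTop = (Scheme.ΓSpecIso (CommRingCat.of k)).hom ≫
          ((Scheme.ΓSpecIso (CommRingCat.of k)).inv ≫ Q.hom.appTop) := by simp
      rw [this, CommRingCat.hom_comp]
      exact hQ.comp (ConcreteCategory.bijective_of_isIso _)
    intro a b hab
    obtain ⟨a', rfl⟩ := hb.2 a
    obtain ⟨b', rfl⟩ := hb.2 b
    have h2 : ∀ c, e.left.appTop.hom (Q.hom.appTop.hom c) = c := by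
      intro c
      have := congrArg (fun f => f.hom c) h1
      simpa using this
    rw [h2, h2] at hab
    rw [hab]
  apply CommRingCat.hom_ext
  apply RingHom.ext
  intro r
  apply hinj
  have h3 : e ≫ toUnit Q ≫ e ≫ ψ = e ≫ ψ := by
    rw [← Category.assoc, toUnit_unique (e ≫ toUnit Q) (𝟙 _), Category.id_comp]
  have h4 : (e ≫ toUnit Q ≫ e ≫ ψ).left.appTop.hom r = (e ≫ ψ).left.appTop.hom r := by rw [h3]
  rw [Over.comp_left, Scheme.Hom.comp_appTop, CommRingCat.hom_comp, RingHom.comp_apply] at h4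
  conv_rhs at h4 => rw [Over.comp_left, Scheme.Hom.comp_appTop, CommRingCat.hom_comp,
    RingHom.comp_apply]
  exact h4.symm

set_option maxHeartbeats 400000 in
/-- An endomorphism of a smooth connected algebraic group `G` over an algebraically closed field
which fixes an affine normal subgroup `H` pointwise and induces the identity on the proper
quotient `G/H` is the identity. -/
theorem hom_eq_id [IsAlgClosed k] {G H Q : Over (Spec (CommRingCat.of k))} [GrpObj G] [GrpObj H]
    [GrpObj Q] [Smooth G.hom] [QuasiCompact G.hom] [ConnectedSpace ↥G.left] [IsAffine H.left]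
    [IsProper Q.hom] (j : H ⟶ G) [IsMonHom j] (q : G ⟶ Q) [IsMonHom q] [Flat q.left]
    [Surjective q.left] (hker : AlgGrp.IsKernel j q) (u : G ⟶ G) [IsMonHom u] (hH : j ≫ u = j)
    (hQ : u ≫ q = q) : u = 𝟙 G := by
  let φ : G ⟶ G := u * (𝟙 G)⁻¹
  have hφ : ∀ {T : Over (Spec (CommRingCat.of k))} (t : T ⟶ G), t ≫ φ = (t ≫ u) * t⁻¹ := by
    intro T t
    rw [MonObj.comp_mul, GrpObj.comp_inv, Category.comp_id]
  have hφq : φ ≫ q = toUnit G ≫ η[Q] := by
    rw [MonObj.mul_comp, GrpObj.inv_comp, hQ, Category.id_comp, mul_inv_cancel, Hom.one_def]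
  have hmono : Mono j := by
    have : Mono η[Q] := by
      refine ⟨fun a b _ => ?_⟩
      exact toUnit_unique a b
    exact hker.mono_fst_of_mono
  let ψ : G ⟶ H := hker.lift φ (toUnit G) hφq
  have hψ : ψ ≫ j = φ := hker.lift_fst _ _ _
  have hinv : ∀ (T : Over (Spec (CommRingCat.of k))) (t₁ t₂ : T ⟶ G), t₁ ≫ q = t₂ ≫ q →
      t₁ ≫ ψ = t₂ ≫ ψ := by
    intro T t₁ t₂ h12
    have hd : (t₁⁻¹ * t₂) ≫ q = toUnit T ≫ η[Q] := by
      rw [MonObj.mul_comp, GrpObj.inv_comp, h12, inv_mul_cancel, Hom.one_def]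
    let n : T ⟶ H := hker.lift (t₁⁻¹ * t₂) (toUnit T) hd
    have hn : n ≫ j = t₁⁻¹ * t₂ := hker.lift_fst _ _ _
    have ht₂ : t₂ = t₁ * (n ≫ j) := by rw [hn, mul_inv_cancel_left]
    rw [← cancel_mono j, Category.assoc, Category.assoc, hψ, hφ, hφ]
    have h3 : t₂ ≫ u = (t₁ ≫ u) * (n ≫ j) := by
      rw [ht₂, MonObj.mul_comp, Category.assoc, hH]
    rw [h3, ht₂, _root_.mul_inv_rev, _root_.mul_assoc, mul_inv_cancel_left]
  have hsep : IsSeparated Q.hom := inferInstance
  have hqc : QuasiCompact q.left := by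
    have h1 : QuasiCompact (q.left ≫ Q.hom) := by rw [Over.w q]; infer_instance
    exact QuasiCompact.of_comp q.left Q.hom
  have hcov : Groth.Agent.Lib.FpqcCov18.IsFpqcCov q.left :=
    Groth.Agent.Lib.FpqcCov18.isFpqcCov_of_fpqc q.left
  obtain ⟨ψb, hψb⟩ := Groth.Agent.Lib.FpqcCov18.exists_desc_over q hcov ψ hinv
  have hGred : IsReduced G.left := Groth.Agent.Lib.TrivAct45.isReduced_of_smooth G.hom
  have hQred : IsReduced Q.left :=
    Groth.Agent.Lib.FlatSurj18.isReduced_of_flat_surjective_factor q.left q.left (𝟙 G.left)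
      (Category.id_comp _)
  have hQconn : ConnectedSpace ↥Q.left := by
    have hs : Function.Surjective q.left := q.left.surjective
    exact { toPreconnectedSpace := ⟨by
              rw [← Set.range_eq_univ.mpr hs]
              exact isPreconnected_range q.left.continuous⟩
            toNonempty := ⟨q.left (Classical.arbitrary _)⟩ }
  have hΓ := Groth.Agent.Lib.H0Const13.bijective_algebraMap_of_isAlgClosed k Q.hom
  have hconst := eq_const_of_isAffine hΓ η[Q] ψb
  let c : 𝟙_ (Over (Spec (CommRingCat.of k))) ⟶ G := η[Q] ≫ ψb ≫ j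
  have hφc : φ = toUnit G ≫ c := by
    calc φ = (q ≫ ψb) ≫ j := by rw [hψb, hψ]
      _ = (q ≫ toUnit Q ≫ η[Q] ≫ ψb) ≫ j := by rw [← hconst]
      _ = (q ≫ toUnit Q) ≫ c := by simp only [Category.assoc, c]
      _ = toUnit G ≫ c := by rw [toUnit_unique (q ≫ toUnit Q) (toUnit G)]
  have hφ2 : η[G] ≫ φ = η[G] := by
    rw [hφ, IsMonHom.one_hom, mul_inv_cancel, Hom.one_def,
      toUnit_unique (toUnit (𝟙_ (Over (Spec (CommRingCat.of k))))) (𝟙 _), Category.id_comp]
  have hc : c = η[G] := by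
    rw [← hφ2, hφc, ← Category.assoc, toUnit_unique (η[G] ≫ toUnit G) (𝟙 _), Category.id_comp]
  have hφ1 : φ = 1 := by rw [hφc, hc, Hom.one_def]
  have h5 : u * (𝟙 G)⁻¹ = 1 := hφ1
  exact mul_inv_eq_one.mp h5

end Groth.Agent.Lib.AutFixKer45
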