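import Mathlib.RingTheory.GradedAlgebra.HomogeneousLocalization
import Mathlib.RingTheory.Localization.Away.Basic
import Groth.Agent.Lib.ProjMapImm

/-!
# Homogeneous localizations of a degree-zero localization

Let `ψ : 𝒜 →+*ᵍ ℬ` be a graded ring homomorphism exhibiting `B` as the localization of `A` at an
element `c` of degree zero.  Then for every homogeneous `s`, the ring `B_(ψ s)` is the localization
of `A_(s)` at `c/1` (`isLocalization_away_map`).
-/

set_option autoImplicit false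

universe u

open HomogeneousLocalization Graded

namespace Groth.Agent.Lib.AwayLocalization

variable {A B σ τ : Type u} [CommRing A] [SetLike σ A] [AddSubgroupClass σ A]
  [CommRing B] [SetLike τ B] [AddSubgroupClass τ B]
  {𝒜 : ℕ → σ} {ℬ : ℕ → τ} [GradedRing 𝒜] [GradedRing ℬ]

/-- The inverse of a unit of degree zero has degree zero. -/
lemma inv_mem_zero {u d : B} (hu : u ∈ ℬ 0) (hud : u * d = 1) : d ∈ ℬ 0 := by
  have h1 : GradedRing.projZeroRingHom ℬ (u * d) = 1 := by rw [hud, map_one]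
  rw [map_mul] at h1
  have h2 : GradedRing.projZeroRingHom ℬ u = u := by
    rw [GradedRing.projZeroRingHom_apply, DirectSum.decompose_of_mem_same ℬ hu]
  rw [h2] at h1
  have h3 : d = GradedRing.projZeroRingHom ℬ d := by
    calc d = d * (u * GradedRing.projZeroRingHom ℬ d) := by rw [h1, mul_one]
      _ = (u * d) * GradedRing.projZeroRingHom ℬ d := by ring
      _ = GradedRing.projZeroRingHom ℬ d := by rw [hud, one_mul]
  rw [h3, GradedRing.projZeroRingHom_apply]
  exact SetLike.coe_mem _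


variable (ψ : 𝒜 →+*ᵍ ℬ) {c : A} (hc : c ∈ 𝒜 0)

/-- If `B = A[1/c]` with `c` of degree zero (through the graded homomorphism `ψ`), then
`B_(ψ s) = A_(s)[1/(c/1)]` through `Away.map ψ s`. -/
theorem isLocalization_away_map
    (hloc : letI := ψ.toRingHom.toAlgebra; IsLocalization.Away c B)
    {i : ℕ} {s : A} (hs : s ∈ 𝒜 i) :
    letI := (Away.map ψ s).toAlgebra
    IsLocalization.Away (fromZeroRingHom 𝒜 (.powers s) ⟨c, hc⟩) (Away ℬ (ψ s)) := by
  let algAB : Algebra A B := ψ.toRingHom.toAlgebra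
  have : IsLocalization.Away c B := hloc
  let algAway := (Away.map ψ s).toAlgebra
  have hcu : IsUnit (ψ c) := IsLocalization.Away.algebraMap_isUnit (S := B) c
  obtain ⟨d, hd⟩ := isUnit_iff_exists_inv.mp hcu
  have hd0 : d ∈ ℬ 0 := inv_mem_zero (map_mem ψ hc) hd
  have hmapc : Away.map ψ s (fromZeroRingHom 𝒜 (.powers s) ⟨c, hc⟩) =
      fromZeroRingHom ℬ (.powers (ψ s)) ⟨ψ c, map_mem ψ hc⟩ :=
    Groth.Agent.Lib.ProjMapImm.away_map_fromZero ψ s ⟨c, hc⟩ ⟨ψ c, map_mem ψ hc⟩ rfl
  refine (isLocalization_iff (Submonoid.powers _) _).mpr ⟨?_, ?_, ?_⟩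
  · rintro ⟨_, n, rfl⟩
    rw [map_pow, RingHom.algebraMap_toAlgebra, hmapc]
    refine (isUnit_iff_exists_inv.mpr ⟨fromZeroRingHom ℬ (.powers (ψ s)) ⟨d, hd0⟩, ?_⟩).pow n
    rw [← map_mul]
    have : (⟨ψ c, map_mem ψ hc⟩ : ℬ 0) * ⟨d, hd0⟩ = 1 := Subtype.ext hd
    rw [this, map_one]
  · intro z
    obtain ⟨n, b, hb, rfl⟩ := Away.mk_surjective ℬ (map_mem ψ hs) z
    obtain ⟨⟨a, ⟨_, k, rfl⟩⟩, hak⟩ := IsLocalization.surj (Submonoid.powers c) b
    change b * ψ (c ^ k) = ψ a at hak
    have hbk : b * ψ (c ^ k) ∈ ℬ (n • i) := by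
      have h0 : ψ (c ^ k) ∈ ℬ 0 := by
        rw [map_pow]; exact SetLike.pow_mem_graded _ (map_mem ψ hc)
      simpa only [add_zero] using SetLike.mul_mem_graded (A := ℬ) hb h0
    have ha' : ψ (DirectSum.decompose 𝒜 a (n • i) : A) = b * ψ (c ^ k) := by
      rw [GradedRingHom.map_directSumDecompose, ← hak, DirectSum.decompose_of_mem_same _ hbk]
    refine ⟨⟨Away.mk 𝒜 hs n (DirectSum.decompose 𝒜 a (n • i) : A) (SetLike.coe_mem _),
      ⟨_, k, rfl⟩⟩, ?_⟩
    rw [RingHom.algebraMap_toAlgebra, map_pow, hmapc, Away.map_mk]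
    apply HomogeneousLocalization.val_injective
    simp only [HomogeneousLocalization.val_mul, HomogeneousLocalization.val_pow, Away.val_mk]
    rw [ha']
    change Localization.mk b _ * (Localization.mk (ψ c) 1) ^ k = _
    rw [Localization.mk_pow, Localization.mk_mul, map_pow]
    simp
  · intro x y hxy
    obtain ⟨n, a, ha, rfl⟩ := Away.mk_surjective 𝒜 hs x
    obtain ⟨m, b, hb, rfl⟩ := Away.mk_surjective 𝒜 hs y
    rw [RingHom.algebraMap_toAlgebra, Away.map_mk, Away.map_mk] at hxy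
    replace hxy := congrArg HomogeneousLocalization.val hxy
    simp only [Away.val_mk, Localization.mk_eq_mk_iff, Localization.r_iff_exists] at hxy
    obtain ⟨⟨_, l, rfl⟩, hl⟩ := hxy
    simp only at hl
    have hl' : ψ (s ^ l * (s ^ m * a)) = ψ (s ^ l * (s ^ n * b)) := by
      simpa [map_mul, map_pow] using hl
    obtain ⟨⟨_, k, rfl⟩, hk⟩ := (IsLocalization.eq_iff_exists (Submonoid.powers c) B).mp hl'
    simp only at hk
    refine ⟨⟨_, k, rfl⟩, ?_⟩
    apply HomogeneousLocalization.val_injective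
    simp only [HomogeneousLocalization.val_mul, HomogeneousLocalization.val_pow, Away.val_mk]
    change (Localization.mk c 1) ^ k * _ = (Localization.mk c 1) ^ k * _
    rw [Localization.mk_pow, Localization.mk_mul, Localization.mk_mul, Localization.mk_eq_mk_iff,
      Localization.r_iff_exists]
    refine ⟨⟨s ^ l, l, rfl⟩, ?_⟩
    simp only [one_pow, one_mul]
    linear_combination hk

end Groth.Agent.Lib.AwayLocalization
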