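import Groth.Agent.Lib.Azumaya16Constr
import Groth.Agent.Lib.CSAModules
import Mathlib.RingTheory.OrzechProperty
import Mathlib.RingTheory.LocalRing.ResidueField.Basic

/-!
# Skolem–Noether for Azumaya algebras over local rings (helper16)
-/

namespace Groth.Agent.Lib.Azumaya16
open TensorProduct

section SN
universe u v
variable (R : Type u) [CommRing R] (A : Type v) [Ring A] [Algebra R A]

/-- `R` is a direct summand of an Azumaya algebra: there is a retraction `ρ : A → R` with `ρ 1 = 1`. -/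
theorem exists_retraction [IsAzumaya R A] : ∃ ρ : A →ₗ[R] R, ρ 1 = 1 := by
  obtain ⟨hproj, hfaith, hfin, hbij⟩ := (isAzumaya_iff R A).1 inferInstance
  let J : Ideal R := LinearMap.range ((LinearMap.applyₗ (1 : A)) : (A →ₗ[R] R) →ₗ[R] R)
  by_contra hcon
  have hJ : J ≠ ⊤ := by
    intro h
    have h1 : (1 : R) ∈ J := h ▸ Submodule.mem_top
    obtain ⟨f, hf⟩ := h1
    exact hcon ⟨f, hf⟩
  obtain ⟨m, hm, hle⟩ := Ideal.exists_le_maximal J hJ
  obtain ⟨n, f, g, -, -, hfg⟩ := Module.Finite.exists_comp_eq_id_of_projective R A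
  have h1 : (1 : A) = ∑ i, (g 1 i) • f (Pi.single i 1) := by
    conv_lhs => rw [← LinearMap.id_apply (R := R) (1 : A), ← hfg, LinearMap.comp_apply]
    rw [LinearMap.pi_apply_eq_sum_univ f (g 1)]
    refine Finset.sum_congr rfl fun i _ => ?_
    congr 2
    funext j
    simp [Pi.single_apply, eq_comm]
  have hz : (1 : R ⧸ m) ⊗ₜ[R] (1 : A) = 0 := by
    rw [h1, TensorProduct.tmul_sum]
    refine Finset.sum_eq_zero fun i _ => ?_
    have hmem : g 1 i ∈ m := hle ⟨(LinearMap.proj i).comp g, rfl⟩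
    rw [← TensorProduct.smul_tmul, Algebra.smul_def]
    have : algebraMap R (R ⧸ m) (g 1 i) = 0 := Ideal.Quotient.eq_zero_iff_mem.2 hmem
    rw [this, zero_mul, TensorProduct.zero_tmul]
  let _ : Field (R ⧸ m) := Ideal.Quotient.field m
  have hAz : IsAzumaya (R ⧸ m) ((R ⧸ m) ⊗[R] A) := isAzumaya_baseChange R (R ⧸ m) A
  have hnt : Nontrivial ((R ⧸ m) ⊗[R] A) := nontrivial_of_isAzumaya_field (R ⧸ m) _
  exact one_ne_zero (α := (R ⧸ m) ⊗[R] A) (by rw [Algebra.TensorProduct.one_def]; exact hz)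

variable {R A}

/-- `x ⊗ y ↦ (z ↦ u x * z * y)` -/
noncomputable def twist (u : A →ₐ[R] A) : A ⊗[R] A →ₗ[R] Module.End R A :=
  lr R A ∘ₗ TensorProduct.map u.toLinearMap LinearMap.id

theorem twist_tmul (u : A →ₐ[R] A) (x y z : A) : twist u (x ⊗ₜ[R] y) z = u x * z * y := by
  simp [twist]

theorem lr_map_mulLeft (x : A) (s : A ⊗[R] A) (z : A) :
    lr R A (TensorProduct.map (LinearMap.mulLeft R x) LinearMap.id s) z = x * lr R A s z := by
  induction s using TensorProduct.induction_on with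
  | zero => simp
  | add s t hs ht => simp only [map_add, LinearMap.add_apply, mul_add, hs, ht]
  | tmul p q => simp [mul_assoc]

theorem lr_map_mulRight (x : A) (s : A ⊗[R] A) (z : A) :
    lr R A (TensorProduct.map LinearMap.id (LinearMap.mulRight R x) s) z = lr R A s z * x := by
  induction s using TensorProduct.induction_on with
  | zero => simp
  | add s t hs ht => simp only [map_add, LinearMap.add_apply, add_mul, hs, ht]
  | tmul p q => simp [mul_assoc]

theorem twist_map_mulLeft (u : A →ₐ[R] A) (x : A) (s : A ⊗[R] A) (z : A) :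
    twist u (TensorProduct.map (LinearMap.mulLeft R x) LinearMap.id s) z = u x * twist u s z := by
  induction s using TensorProduct.induction_on with
  | zero => simp
  | add s t hs ht => simp only [map_add, LinearMap.add_apply, mul_add, hs, ht]
  | tmul p q => simp [twist_tmul, mul_assoc]

theorem twist_map_mulRight (u : A →ₐ[R] A) (x : A) (s : A ⊗[R] A) (z : A) :
    twist u (TensorProduct.map LinearMap.id (LinearMap.mulRight R x) s) z = twist u s z * x := by
  induction s using TensorProduct.induction_on with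
  | zero => simp
  | add s t hs ht => simp only [map_add, LinearMap.add_apply, add_mul, hs, ht]
  | tmul p q => simp [twist_tmul, mul_assoc]

/-- If `lr t = ρ(·) • 1` then every value of `twist u t` intertwines `u` with the identity. -/
theorem twist_intertwine [IsAzumaya R A] (u : A →ₐ[R] A) (ρ : A →ₗ[R] R) (t : A ⊗[R] A)
    (ht : ∀ z, lr R A t z = ρ z • (1 : A)) (a₁ x : A) :
    u x * twist u t a₁ = twist u t a₁ * x := by
  obtain ⟨hproj, hfaith, hfin, hbij⟩ := (isAzumaya_iff R A).1 inferInstance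
  rw [← twist_map_mulLeft, ← twist_map_mulRight]
  have : TensorProduct.map (LinearMap.mulLeft R x) LinearMap.id t =
      TensorProduct.map LinearMap.id (LinearMap.mulRight R x) t := by
    apply hbij.1
    ext z
    rw [lr_map_mulLeft, lr_map_mulRight, ht, mul_smul_comm, smul_mul_assoc, mul_one, one_mul]
  rw [this]

/-- An element of a finite algebra which is a unit in every fibre at a maximal ideal is a unit. -/
theorem isUnit_of_isUnit_fibres [Module.Finite R A] (a : A)
    (h : ∀ m : Ideal R, m.IsMaximal →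
      IsUnit ((1 : R ⧸ m) ⊗ₜ[R] a : (R ⧸ m) ⊗[R] A)) : IsUnit a := by
  have hsurj : Function.Surjective (LinearMap.mulLeft R a) := by
    apply surjective_of_fibres (LinearMap.mulLeft R a)
    intro m hm
    let _ : Field (R ⧸ m) := Ideal.Quotient.field m
    refine ⟨R ⧸ m, inferInstance, inferInstance, Ideal.mk_ker, ?_⟩
    have hfun : ∀ b : (R ⧸ m) ⊗[R] A,
        (LinearMap.mulLeft R a).baseChange (R ⧸ m) b = ((1 : R ⧸ m) ⊗ₜ[R] a) * b := by
      intro b
      induction b using TensorProduct.induction_on with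
      | zero => simp
      | add x y hx hy => rw [map_add, mul_add, hx, hy]
      | tmul s z => simp [Algebra.TensorProduct.tmul_mul_tmul]
    intro b
    obtain ⟨c, hc⟩ := (h m hm)
    refine ⟨(↑c⁻¹ : (R ⧸ m) ⊗[R] A) * b, ?_⟩
    rw [hfun, ← hc, ← mul_assoc, Units.mul_inv, one_mul]
  have hinj : Function.Injective (LinearMap.mulLeft R a) :=
    OrzechProperty.injective_of_surjective_endomorphism _ hsurj
  obtain ⟨b, hb⟩ := hsurj 1
  have hab : a * b = 1 := hb
  have hba : b * a = 1 := by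
    apply hinj
    change a * (b * a) = a * 1
    rw [← mul_assoc, hab, one_mul, mul_one]
  exact ⟨⟨a, b, hab, hba⟩, rfl⟩

end SN
end Groth.Agent.Lib.Azumaya16

namespace Groth.Agent.Lib.Azumaya16
open TensorProduct

section SN2
universe u v
variable {R : Type u} [CommRing R] {A : Type v} [Ring A] [Algebra R A]

theorem tmul_one_surjective (m : Ideal R) (b : (R ⧸ m) ⊗[R] A) : ∃ a : A, (1 : R ⧸ m) ⊗ₜ[R] a = b := by
  induction b using TensorProduct.induction_on with
  | zero => exact ⟨0, by simp⟩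
  | add x y hx hy =>
    obtain ⟨a, rfl⟩ := hx
    obtain ⟨b, rfl⟩ := hy
    exact ⟨a + b, by rw [TensorProduct.tmul_add]⟩
  | tmul s z =>
    obtain ⟨r, rfl⟩ := Ideal.Quotient.mk_surjective s
    refine ⟨r • z, ?_⟩
    rw [← TensorProduct.smul_tmul, Algebra.smul_def, mul_one]
    rfl

/-- Skolem–Noether over a local ring: every automorphism of an Azumaya algebra is inner. -/
theorem skolem_noether_of_isLocalRing [IsLocalRing R] [IsAzumaya R A] (u : A ≃ₐ[R] A) :
    ∃ a : Aˣ, ∀ x : A, u x = (a : A) * x * (a⁻¹ : Aˣ) := by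
  obtain ⟨hproj, hfaith, hfin, hbij⟩ := (isAzumaya_iff R A).1 inferInstance
  obtain ⟨ρ, hρ⟩ := exists_retraction R A
  obtain ⟨t, ht⟩ := hbij.2 (ρ.smulRight (1 : A))
  have ht' : ∀ z, lr R A t z = ρ z • (1 : A) := fun z => by rw [ht]; rfl
  set m := IsLocalRing.maximalIdeal R with hm
  let _ : Field (R ⧸ m) := Ideal.Quotient.field m
  have hAz : IsAzumaya (R ⧸ m) ((R ⧸ m) ⊗[R] A) := isAzumaya_baseChange R (R ⧸ m) A
  have hsimple : IsSimpleRing ((R ⧸ m) ⊗[R] A) := isSimpleRing_of_isAzumaya_field (R ⧸ m) _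
  have hcentral : Algebra.IsCentral (R ⧸ m) ((R ⧸ m) ⊗[R] A) := inferInstance
  let ū : (R ⧸ m) ⊗[R] A →ₐ[R ⧸ m] (R ⧸ m) ⊗[R] A :=
    Algebra.TensorProduct.map (AlgHom.id (R ⧸ m) (R ⧸ m)) (u : A →ₐ[R] A)
  obtain ⟨a₀, ha₀⟩ := CSA.skolem_noether ū (AlgHom.id (R ⧸ m) ((R ⧸ m) ⊗[R] A))
  obtain ⟨a₁, ha₁⟩ := tmul_one_surjective m (a₀ : (R ⧸ m) ⊗[R] A)
  let a : A := twist (u : A →ₐ[R] A) t a₁
  have hint : ∀ x, u x * a = a * x := fun x => twist_intertwine (u : A →ₐ[R] A) ρ t ht' a₁ x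
  -- fibre computation
  have hP : ∀ s : A ⊗[R] A, (1 : R ⧸ m) ⊗ₜ[R] (twist (u : A →ₐ[R] A) s a₁) =
      (a₀ : (R ⧸ m) ⊗[R] A) * ((1 : R ⧸ m) ⊗ₜ[R] (lr R A s 1)) := by
    intro s
    induction s using TensorProduct.induction_on with
    | zero => simp
    | add s t hs ht => simp only [map_add, LinearMap.add_apply, TensorProduct.tmul_add, mul_add, hs, ht]
    | tmul x y =>
      rw [twist_tmul, lr_tmul, mul_one]
      have h1 : (1 : R ⧸ m) ⊗ₜ[R] ((u : A →ₐ[R] A) x * a₁ * y) =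
          ū ((1 : R ⧸ m) ⊗ₜ[R] x) * ((1 : R ⧸ m) ⊗ₜ[R] a₁) * ((1 : R ⧸ m) ⊗ₜ[R] y) := by
        simp [ū, Algebra.TensorProduct.tmul_mul_tmul]
      rw [h1, ha₀, ha₁]
      have h2 : (1 : R ⧸ m) ⊗ₜ[R] (x * y) = ((1 : R ⧸ m) ⊗ₜ[R] x) * ((1 : R ⧸ m) ⊗ₜ[R] y) := by
        simp [Algebra.TensorProduct.tmul_mul_tmul]
      rw [h2]
      simp only [AlgHom.id_apply, mul_assoc]
      rw [← mul_assoc (↑a₀⁻¹ : (R ⧸ m) ⊗[R] A), Units.inv_mul, one_mul]
  have hfib : (1 : R ⧸ m) ⊗ₜ[R] a = (a₀ : (R ⧸ m) ⊗[R] A) := by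
    rw [hP t, ht', hρ, one_smul, ← Algebra.TensorProduct.one_def, mul_one]
  have hunit : IsUnit a := by
    apply isUnit_of_isUnit_fibres (R := R) a
    intro m' hm'
    have : m' = m := IsLocalRing.eq_maximalIdeal hm'
    subst this
    rw [hfib]
    exact a₀.isUnit
  obtain ⟨au, hau⟩ := hunit
  refine ⟨au, fun x => ?_⟩
  have := hint x
  rw [← hau] at this
  rw [← this, mul_assoc, Units.mul_inv, mul_one]

end SN2
end Groth.Agent.Lib.Azumaya16

namespace Groth.Agent.Lib.Azumaya16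
open TensorProduct

section SN3
universe u v
variable {R : Type u} [CommRing R] {A : Type v} [Ring A] [Algebra R A]

theorem lr_apply_of_central (z : A) (hz : ∀ x, z * x = x * z) (s : A ⊗[R] A) :
    lr R A s z = z * lr R A s 1 := by
  induction s using TensorProduct.induction_on with
  | zero => simp
  | add s t hs ht => simp only [map_add, LinearMap.add_apply, mul_add, hs, ht]
  | tmul x y => rw [lr_tmul, lr_tmul, mul_one, ← hz x, mul_assoc]

/-- The centre of an Azumaya algebra is `R`. -/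
theorem mem_range_algebraMap_of_central [IsAzumaya R A] (z : A) (hz : ∀ x, z * x = x * z) :
    ∃ r : R, algebraMap R A r = z := by
  obtain ⟨hproj, hfaith, hfin, hbij⟩ := (isAzumaya_iff R A).1 inferInstance
  obtain ⟨ρ, hρ⟩ := exists_retraction R A
  obtain ⟨t, ht⟩ := hbij.2 (ρ.smulRight (1 : A))
  have ht' : ∀ z, lr R A t z = ρ z • (1 : A) := fun z => by rw [ht]; rfl
  refine ⟨ρ z, ?_⟩
  have h1 := lr_apply_of_central z hz t
  rw [ht', ht', hρ, one_smul, mul_one] at h1
  rw [Algebra.algebraMap_eq_smul_one, h1]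

theorem inner_unique [IsAzumaya R A] (a a' : Aˣ)
    (h : ∀ x : A, (a : A) * x * (a⁻¹ : Aˣ) = (a' : A) * x * (a'⁻¹ : Aˣ)) :
    ∃ c : Rˣ, (a' : A) = algebraMap R A (c : R) * (a : A) := by
  obtain ⟨hproj, hfaith, hfin, hbij⟩ := (isAzumaya_iff R A).1 inferInstance
  -- z = a⁻¹ a' is central
  have hz : ∀ x : A, ((a⁻¹ * a' : Aˣ) : A) * x = x * ((a⁻¹ * a' : Aˣ) : A) := by
    intro x
    have h1 := h x
    have h2 : (a⁻¹ : Aˣ) * ((a : A) * x * (a⁻¹ : Aˣ)) * (a' : A) =
        (a⁻¹ : Aˣ) * ((a' : A) * x * (a'⁻¹ : Aˣ)) * (a' : A) := by rw [h1]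
    simp only [mul_assoc, Units.inv_mul_cancel_left, Units.inv_mul, mul_one] at h2
    simp only [Units.val_mul, mul_assoc]
    exact h2.symm
  have hz' : ∀ x : A, ((a'⁻¹ * a : Aˣ) : A) * x = x * ((a'⁻¹ * a : Aˣ) : A) := by
    intro x
    have h1 := h x
    have h2 : (a'⁻¹ : Aˣ) * ((a : A) * x * (a⁻¹ : Aˣ)) * (a : A) =
        (a'⁻¹ : Aˣ) * ((a' : A) * x * (a'⁻¹ : Aˣ)) * (a : A) := by rw [h1]
    simp only [mul_assoc, Units.inv_mul_cancel_left, Units.inv_mul, mul_one] at h2
    simp only [Units.val_mul, mul_assoc]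
    exact h2
  obtain ⟨r, hr⟩ := mem_range_algebraMap_of_central (R := R) _ hz
  obtain ⟨r', hr'⟩ := mem_range_algebraMap_of_central (R := R) _ hz'
  have hrr' : r * r' = 1 := by
    apply FaithfulSMul.algebraMap_injective R A
    rw [map_mul, hr, hr', map_one, ← Units.val_mul]
    simp
  refine ⟨⟨r, r', hrr', by rw [mul_comm]; exact hrr'⟩, ?_⟩
  change (a' : A) = algebraMap R A r * (a : A)
  rw [hr, hz, Units.val_mul, ← mul_assoc, Units.mul_inv, one_mul]

end SN3
end Groth.Agent.Lib.Azumaya16
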