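import Mathlib
import Groth.Agent.Lib.Azumaya16SN

/-!
# Skolem–Noether for Azumaya algebras over semilocal rings (helper16)

`skolem_noether_of_finite_maximalSpectrum`: if `R` has finitely many maximal ideals, every
`R`-algebra automorphism of an Azumaya `R`-algebra is inner.
-/

set_option autoImplicit false
set_option linter.style.haveILetI false

namespace Groth.Agent.Lib.AzumayaSemilocalSN16
open TensorProduct Groth.Agent.Lib.Azumaya16

universe u v
variable {R : Type u} [CommRing R] {A : Type v} [Ring A] [Algebra R A]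

/-- CRT for elements of a module-finite algebra: prescribe the images in the fibres at finitely many
maximal ideals. -/
theorem exists_tmul_eq_of_finite [Finite (MaximalSpectrum R)]
    (b : ∀ m : MaximalSpectrum R, (R ⧸ m.asIdeal) ⊗[R] A) :
    ∃ a : A, ∀ m : MaximalSpectrum R, (1 : R ⧸ m.asIdeal) ⊗ₜ[R] a = b m := by
  classical
  haveI : Fintype (MaximalSpectrum R) := Fintype.ofFinite _
  have hb : ∀ m : MaximalSpectrum R, ∃ a : A, (1 : R ⧸ m.asIdeal) ⊗ₜ[R] a = b m :=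
    fun m => tmul_one_surjective m.asIdeal (b m)
  choose a₀ ha₀ using hb
  have hcop : Pairwise (Function.onFun IsCoprime fun m : MaximalSpectrum R => m.asIdeal) := by
    intro m m' hmm
    change IsCoprime m.asIdeal m'.asIdeal
    rw [Ideal.isCoprime_iff_sup_eq]
    apply m.isMaximal.coprime_of_ne m'.isMaximal
    intro h
    exact hmm (MaximalSpectrum.ext h)
  have he : ∀ m : MaximalSpectrum R, ∃ e : R, ∀ m' : MaximalSpectrum R,
      e - (if m' = m then 1 else 0) ∈ m'.asIdeal :=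
    fun m => Ideal.exists_forall_sub_mem_ideal hcop (fun m' => if m' = m then 1 else 0)
  choose e he using he
  refine ⟨∑ m, e m • a₀ m, fun m => ?_⟩
  rw [TensorProduct.tmul_sum, ← ha₀ m]
  have hterm : ∀ m' : MaximalSpectrum R, ((1 : R ⧸ m.asIdeal) ⊗ₜ[R] (e m' • a₀ m') : (R ⧸ m.asIdeal) ⊗[R] A) =
      if m' = m then (1 : R ⧸ m.asIdeal) ⊗ₜ[R] a₀ m else 0 := by
    intro m'
    have h1 := he m' m
    rw [← TensorProduct.smul_tmul, Algebra.smul_def, mul_one]
    have h2 : algebraMap R (R ⧸ m.asIdeal) (e m') = if m = m' then 1 else 0 := by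
      have : algebraMap R (R ⧸ m.asIdeal) (e m' - (if m = m' then 1 else 0)) = 0 :=
        Ideal.Quotient.eq_zero_iff_mem.2 h1
      rw [map_sub, sub_eq_zero] at this
      rw [this]
      split_ifs <;> simp
    rw [h2]
    by_cases hmm : m' = m
    · subst hmm
      simp
    · have : ¬ m = m' := fun h => hmm h.symm
      simp [hmm, this]
  simp only [hterm]
  rw [Finset.sum_ite_eq' Finset.univ m]
  simp

/-- **Skolem–Noether over a semilocal ring**: every automorphism of an Azumaya algebra is inner. -/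
theorem skolem_noether_of_finite_maximalSpectrum [Finite (MaximalSpectrum R)] [IsAzumaya R A]
    (u : A ≃ₐ[R] A) : ∃ a : Aˣ, ∀ x : A, u x = (a : A) * x * (a⁻¹ : Aˣ) := by
  obtain ⟨hproj, hfaith, hfin, hbij⟩ := (isAzumaya_iff R A).1 inferInstance
  obtain ⟨ρ, hρ⟩ := exists_retraction R A
  obtain ⟨t, ht⟩ := hbij.2 (ρ.smulRight (1 : A))
  have ht' : ∀ z, lr R A t z = ρ z • (1 : A) := fun z => by rw [ht]; rfl
  -- fibrewise Skolem–Noether
  have hfib : ∀ m : MaximalSpectrum R, ∃ a₀ : ((R ⧸ m.asIdeal) ⊗[R] A)ˣ,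
      ∀ y : (R ⧸ m.asIdeal) ⊗[R] A,
        Algebra.TensorProduct.map (AlgHom.id (R ⧸ m.asIdeal) (R ⧸ m.asIdeal)) (u : A →ₐ[R] A) y =
          (a₀ : (R ⧸ m.asIdeal) ⊗[R] A) * y * (a₀⁻¹ : ((R ⧸ m.asIdeal) ⊗[R] A)ˣ) := by
    intro m
    haveI := m.isMaximal
    let _ : Field (R ⧸ m.asIdeal) := Ideal.Quotient.field m.asIdeal
    have hAz : IsAzumaya (R ⧸ m.asIdeal) ((R ⧸ m.asIdeal) ⊗[R] A) :=
      isAzumaya_baseChange R (R ⧸ m.asIdeal) A
    have hsimple : IsSimpleRing ((R ⧸ m.asIdeal) ⊗[R] A) :=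
      isSimpleRing_of_isAzumaya_field (R ⧸ m.asIdeal) _
    have hcentral : Algebra.IsCentral (R ⧸ m.asIdeal) ((R ⧸ m.asIdeal) ⊗[R] A) := inferInstance
    obtain ⟨a₀, ha₀⟩ := CSA.skolem_noether
      (Algebra.TensorProduct.map (AlgHom.id (R ⧸ m.asIdeal) (R ⧸ m.asIdeal)) (u : A →ₐ[R] A))
      (AlgHom.id (R ⧸ m.asIdeal) ((R ⧸ m.asIdeal) ⊗[R] A))
    exact ⟨a₀, fun y => by rw [ha₀]; rfl⟩
  choose a₀ ha₀ using hfib
  obtain ⟨a₁, ha₁⟩ := exists_tmul_eq_of_finite (A := A) (fun m => (a₀ m : (R ⧸ m.asIdeal) ⊗[R] A))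
  let a : A := twist (u : A →ₐ[R] A) t a₁
  have hint : ∀ x, u x * a = a * x := fun x => twist_intertwine (u : A →ₐ[R] A) ρ t ht' a₁ x
  have hunit : IsUnit a := by
    apply isUnit_of_isUnit_fibres (R := R) a
    intro m' hm'
    let m : MaximalSpectrum R := ⟨m', hm'⟩
    have hP : ∀ s : A ⊗[R] A, ((1 : R ⧸ m') ⊗ₜ[R] (twist (u : A →ₐ[R] A) s a₁) : (R ⧸ m') ⊗[R] A) =
        (a₀ m : (R ⧸ m') ⊗[R] A) * ((1 : R ⧸ m') ⊗ₜ[R] (lr R A s 1)) := by
      intro s
      induction s using TensorProduct.induction_on with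
      | zero => simp
      | add s t hs ht => simp only [map_add, LinearMap.add_apply, TensorProduct.tmul_add, mul_add, hs, ht]
      | tmul x y =>
        rw [twist_tmul, lr_tmul, mul_one]
        have h1 : ((1 : R ⧸ m') ⊗ₜ[R] ((u : A →ₐ[R] A) x * a₁ * y) : (R ⧸ m') ⊗[R] A) =
            Algebra.TensorProduct.map (AlgHom.id (R ⧸ m') (R ⧸ m')) (u : A →ₐ[R] A) ((1 : R ⧸ m') ⊗ₜ[R] x) *
              ((1 : R ⧸ m') ⊗ₜ[R] a₁) * ((1 : R ⧸ m') ⊗ₜ[R] y) := by
          simp [Algebra.TensorProduct.tmul_mul_tmul]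
        rw [h1, ha₀ m, ha₁ m]
        have h2 : ((1 : R ⧸ m') ⊗ₜ[R] (x * y) : (R ⧸ m') ⊗[R] A) =
            ((1 : R ⧸ m') ⊗ₜ[R] x) * ((1 : R ⧸ m') ⊗ₜ[R] y) := by
          simp [Algebra.TensorProduct.tmul_mul_tmul]
        rw [h2]
        simp only [mul_assoc]
        rw [← mul_assoc (↑(a₀ m)⁻¹ : (R ⧸ m') ⊗[R] A), Units.inv_mul, one_mul]
    have hfib : ((1 : R ⧸ m') ⊗ₜ[R] a : (R ⧸ m') ⊗[R] A) = (a₀ m : (R ⧸ m') ⊗[R] A) := by
      rw [hP t, ht', hρ, one_smul, ← Algebra.TensorProduct.one_def, mul_one]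
    rw [hfib]
    exact (a₀ m).isUnit
  obtain ⟨au, hau⟩ := hunit
  refine ⟨au, fun x => ?_⟩
  have := hint x
  rw [← hau] at this
  rw [← this, mul_assoc, Units.mul_inv, mul_one]

end Groth.Agent.Lib.AzumayaSemilocalSN16
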