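import Groth.Agent.Lib.RInv88
import Mathlib.RingTheory.Localization.BaseChange
import Mathlib.RingTheory.Flat.Localization
import Mathlib.RingTheory.TensorProduct.Maps

/-!
# Rings with involution: localization of the fixed ring (helper88)

If `S` is the fixed ring of the involution `lam` of `R` and `T` is a localization of `S`, then
`T` is the fixed ring of the involution `id ⊗ lam` of `T ⊗[S] R`.
-/

set_option autoImplicit false
universe u v w

namespace Groth.Agent.Lib.RInvLoc88

open RInv Groth.Agent.Lib.RInv88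
open scoped TensorProduct

variable {S : Type u} {R : Type v} [CommRing S] [CommRing R] [Algebra S R]
  (lam : R ≃+* R) (hlam : Function.Involutive lam) (hS : RInv.IsFixedRing S R lam)
  (T : Type w) [CommRing T] [Algebra S T]

/-- `lam` as an `S`-algebra automorphism of `R`. -/
def lamAlgEquiv (hS : RInv.IsFixedRing S R lam) : R ≃ₐ[S] R :=
  AlgEquiv.ofRingEquiv (f := lam) (lam_algebraMap lam hS)

theorem lamAlgEquiv_apply (x : R) : lamAlgEquiv lam hS x = lam x := rfl

/-- The base change `id ⊗ lam` of `lam` to `T ⊗[S] R`. -/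
def lamBC (hS : RInv.IsFixedRing S R lam) : (T ⊗[S] R) ≃+* (T ⊗[S] R) :=
  (Algebra.TensorProduct.congr (AlgEquiv.refl (R := S) (A₁ := T)) (lamAlgEquiv lam hS)).toRingEquiv

theorem lamBC_tmul (t : T) (r : R) : lamBC lam T hS (t ⊗ₜ[S] r) = t ⊗ₜ[S] lam r := rfl

theorem lamBC_smul (s : S) (z : T ⊗[S] R) : lamBC lam T hS (s • z) = s • lamBC lam T hS z :=
  map_smul (Algebra.TensorProduct.congr (AlgEquiv.refl (R := S) (A₁ := T)) (lamAlgEquiv lam hS)) s z

include hlam in
theorem lamBC_involutive : Function.Involutive (lamBC lam T hS) := by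
  intro z
  induction z using TensorProduct.induction_on with
  | zero => simp
  | tmul t r => rw [lamBC_tmul, lamBC_tmul, hlam r]
  | add z w hz hw => rw [map_add, map_add, hz, hw]

theorem algebraMap_tensor_apply (t : T) : algebraMap T (T ⊗[S] R) t = t ⊗ₜ[S] 1 := by
  rw [Algebra.TensorProduct.algebraMap_apply]
  rfl

theorem one_tmul_algebraMap (s : S) :
    (1 : T) ⊗ₜ[S] (algebraMap S R s) = algebraMap T (T ⊗[S] R) (algebraMap S T s) := by
  rw [algebraMap_tensor_apply, Algebra.algebraMap_eq_smul_one, Algebra.algebraMap_eq_smul_one,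
    TensorProduct.smul_tmul]

variable (M : Submonoid S) [IsLocalization M T]

include hS M in
theorem injective_algebraMap_tensor : Function.Injective (algebraMap T (T ⊗[S] R)) := by
  have hflat : Module.Flat S T := IsLocalization.flat T M
  have h1 : Function.Injective ((Algebra.linearMap S R).lTensor T) :=
    Module.Flat.lTensor_preserves_injective_linearMap _ hS.1
  have h2 : ∀ t : T, algebraMap T (T ⊗[S] R) t
      = (Algebra.linearMap S R).lTensor T ((TensorProduct.rid S T).symm t) := by
    intro t
    rw [algebraMap_tensor_apply, TensorProduct.rid_symm_apply, LinearMap.lTensor_tmul,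
      Algebra.linearMap_apply, map_one]
  intro t t' htt'
  rw [h2, h2] at htt'
  exact (TensorProduct.rid S T).symm.injective (h1 htt')

include M in
/-- `T` is the fixed ring of `id ⊗ lam` on `T ⊗[S] R`. -/
theorem isFixedRing_lamBC : RInv.IsFixedRing T (T ⊗[S] R) (lamBC lam T hS) := by
  refine ⟨injective_algebraMap_tensor lam hS T M, ?_⟩
  intro z
  constructor
  · intro hz
    obtain ⟨⟨r, m⟩, hrm⟩ := IsLocalizedModule.surj M (TensorProduct.mk S T R 1) z
    have hrm' : m • z = (1 : T) ⊗ₜ[S] r := hrm
    have h1 : (1 : T) ⊗ₜ[S] lam r = (1 : T) ⊗ₜ[S] r := by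
      rw [← lamBC_tmul lam hS T, ← hrm', Submonoid.smul_def, lamBC_smul, hz]
    obtain ⟨c, hc⟩ := IsLocalizedModule.exists_of_eq (S := M) (f := TensorProduct.mk S T R 1) h1
    have hc' : (c : S) • lam r = (c : S) • r := hc
    have hfix : lam ((c : S) • r) = (c : S) • r := by
      rw [Algebra.smul_def, map_mul, lam_algebraMap lam hS, ← Algebra.smul_def, hc',
        Algebra.smul_def]
    obtain ⟨s₀, hs₀⟩ := (hS.2 _).mp hfix
    refine ⟨IsLocalization.mk' T s₀ (c * m), ?_⟩
    -- compare after multiplying by the unit `c * m`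
    have hunit : IsUnit (algebraMap T (T ⊗[S] R) (algebraMap S T ((c * m : M) : S))) :=
      (IsLocalization.map_units T (c * m)).map _
    apply hunit.mul_left_cancel
    rw [← map_mul, IsLocalization.mk'_spec', ← one_tmul_algebraMap, hs₀]
    have : algebraMap T (T ⊗[S] R) (algebraMap S T ((c * m : M) : S)) * z
        = (c : S) • ((m : S) • z) := by
      rw [Submonoid.coe_mul, map_mul, map_mul, mul_assoc, ← Algebra.smul_def (algebraMap S T (m : S)),
        ← Algebra.smul_def, algebraMap_smul, algebraMap_smul]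
    rw [this]
    have hmz : (m : S) • z = (1 : T) ⊗ₜ[S] r := hrm'
    rw [hmz, TensorProduct.smul_tmul', TensorProduct.smul_tmul]
  · rintro ⟨t, rfl⟩
    rw [algebraMap_tensor_apply, lamBC_tmul, map_one]

end Groth.Agent.Lib.RInvLoc88
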