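import Mathlib
import Groth.Agent.Lib.AzumayaSemilocalSN16
import Groth.Agent.Lib.RInvLoc88

/-!
# Automorphisms of Azumaya algebras are inner Zariski-locally on the FIXED ring (helper16)

`R` a commutative ring with an involution `lam` with fixed ring `S`; `A` an Azumaya `R`-algebra and `ψ`
an `R`-automorphism.  For every prime `𝔭` of `S` there is `b ∉ 𝔭` such that `id ⊗ ψ` is inner on
`Localization.Away b ⊗[S] A`.
-/

set_option autoImplicit false
set_option linter.style.haveILetI false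

namespace Groth.Agent.Lib.AzInvInner16
open TensorProduct Groth.Agent.Lib.Azumaya16

attribute [local instance] Algebra.TensorProduct.rightAlgebra

section semilocal
universe u v
variable {S : Type u} {R : Type v} [CommRing S] [CommRing R] [Algebra S R]
  (lam : R ≃+* R) (hlam : Function.Involutive lam) (hS : RInv.IsFixedRing S R lam)

include hlam hS in
/-- If the fixed ring is local, the ring has at most two maximal ideals. -/
theorem finite_maximalSpectrum [IsLocalRing S] : Finite (MaximalSpectrum R) := by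
  classical
  by_cases h : Nonempty (MaximalSpectrum R)
  · obtain ⟨M₀⟩ := h
    haveI := M₀.isMaximal
    have hmem : ∀ M' : MaximalSpectrum R,
        M'.asIdeal ∈ ({M₀.asIdeal, M₀.asIdeal.comap lam} : Set (Ideal R)) := by
      intro M'
      haveI := M'.isMaximal
      rcases Groth.Agent.Lib.RInv88.eq_or_eq_comap_of_isMaximal lam hlam hS M₀.asIdeal M'.asIdeal with h | h
      · left; exact h
      · right; exact h
    have hfin : Finite ({M₀.asIdeal, M₀.asIdeal.comap lam} : Set (Ideal R)) :=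
      Set.Finite.to_subtype (Set.toFinite _)
    exact Finite.of_injective
      (fun M' : MaximalSpectrum R =>
        (⟨M'.asIdeal, hmem M'⟩ : ({M₀.asIdeal, M₀.asIdeal.comap lam} : Set (Ideal R))))
      (fun M M' hMM => MaximalSpectrum.ext (congrArg Subtype.val hMM))
  · rw [not_nonempty_iff] at h
    infer_instance

end semilocal

section local_inner
universe u v w
variable {S : Type u} {R : Type v} [CommRing S] [CommRing R] [Algebra S R]
  (lam : R ≃ₐ[S] R) (hlam : ∀ r, lam (lam r) = r) (hfix : RInv.IsFixedRing S R lam.toRingEquiv)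
  {A : Type w} [Ring A] [Algebra S A] [Algebra R A] [IsScalarTower S R A] [IsAzumaya R A]
  (ψ : A ≃ₐ[R] A)

/-- `ψ` is inner after base change to the `S`-algebra `T`. -/
def InnerOver (T : Type*) [CommRing T] [Algebra S T] : Prop :=
  ∃ u : (T ⊗[S] A)ˣ, ∀ x : T ⊗[S] A,
    Algebra.TensorProduct.congr (AlgEquiv.refl : T ≃ₐ[T] T) (ψ.restrictScalars S) x =
      ↑u * x * ↑u⁻¹

include hlam hfix in
/-- semilocal step: over `K = S_𝔭 ⊗[S] R` the automorphism is inner. -/
theorem exists_inner_atPrime (𝔭 : Ideal S) [𝔭.IsPrime] :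
    ∃ a : ((Localization.AtPrime 𝔭 ⊗[S] R) ⊗[R] A)ˣ, ∀ y : (Localization.AtPrime 𝔭 ⊗[S] R) ⊗[R] A,
      Algebra.TensorProduct.map (AlgHom.id (Localization.AtPrime 𝔭 ⊗[S] R) (Localization.AtPrime 𝔭 ⊗[S] R))
        (ψ : A →ₐ[R] A) y = ↑a * y * ↑a⁻¹ := by
  haveI : Finite (MaximalSpectrum (Localization.AtPrime 𝔭 ⊗[S] R)) :=
    finite_maximalSpectrum (Groth.Agent.Lib.RInvLoc88.lamBC lam.toRingEquiv (Localization.AtPrime 𝔭) hfix)
      (Groth.Agent.Lib.RInvLoc88.lamBC_involutive lam.toRingEquiv hlam hfix (Localization.AtPrime 𝔭))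
      (Groth.Agent.Lib.RInvLoc88.isFixedRing_lamBC lam.toRingEquiv hfix (Localization.AtPrime 𝔭) 𝔭.primeCompl)
  haveI : IsAzumaya (Localization.AtPrime 𝔭 ⊗[S] R) ((Localization.AtPrime 𝔭 ⊗[S] R) ⊗[R] A) :=
    isAzumaya_baseChange R (Localization.AtPrime 𝔭 ⊗[S] R) A
  let Ψ : ((Localization.AtPrime 𝔭 ⊗[S] R) ⊗[R] A) ≃ₐ[Localization.AtPrime 𝔭 ⊗[S] R]
      ((Localization.AtPrime 𝔭 ⊗[S] R) ⊗[R] A) :=
    Algebra.TensorProduct.congr (AlgEquiv.refl : (Localization.AtPrime 𝔭 ⊗[S] R) ≃ₐ[_] _) ψ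
  obtain ⟨a, ha⟩ := Groth.Agent.Lib.AzumayaSemilocalSN16.skolem_noether_of_finite_maximalSpectrum
    (R := Localization.AtPrime 𝔭 ⊗[S] R) (A := (Localization.AtPrime 𝔭 ⊗[S] R) ⊗[R] A) Ψ
  refine ⟨a, fun y => ?_⟩
  rw [← ha y]
  rfl

end local_inner

section spread
universe u w
variable {S : Type u} [CommRing S] {A : Type w} [Ring A] [Algebra S A]

/-- cancel a divisor of `b` in `Localization.Away b ⊗[S] A`. -/
theorem one_tmul_eq_of_smul_eq (b s : S) (hsb : s ∣ b) (w w' : A) (h : s • w = s • w') :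
    ((1 : Localization.Away b) ⊗ₜ[S] w : Localization.Away b ⊗[S] A) = 1 ⊗ₜ[S] w' := by
  have hu : IsUnit (algebraMap S (Localization.Away b) s) := by
    obtain ⟨c, rfl⟩ := hsb
    have := IsLocalization.Away.algebraMap_isUnit (S := Localization.Away (s * c)) (s * c)
    rw [map_mul] at this
    exact isUnit_of_mul_isUnit_left this
  have key : ∀ z : A, (algebraMap S (Localization.Away b) s) • ((1 : Localization.Away b) ⊗ₜ[S] z :
      Localization.Away b ⊗[S] A) = 1 ⊗ₜ[S] (s • z) := by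
    intro z
    rw [TensorProduct.smul_tmul', smul_eq_mul, mul_one, ← TensorProduct.smul_tmul, Algebra.smul_def, mul_one]
  apply hu.smul_left_cancel.1
  rw [key, key, h]

end spread

section local_inner2
universe u v w
variable {S : Type u} {R : Type v} [CommRing S] [CommRing R] [Algebra S R]
  (lam : R ≃ₐ[S] R) (hlam : ∀ r, lam (lam r) = r) (hfix : RInv.IsFixedRing S R lam.toRingEquiv)
  {A : Type w} [Ring A] [Algebra S A] [Algebra R A] [IsScalarTower S R A] [IsAzumaya R A]
  (ψ : A ≃ₐ[R] A)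

include hlam hfix in
/-- `ψ` is inner Zariski-locally on `Spec S`. -/
theorem exists_away_innerOver (𝔭 : Ideal S) [𝔭.IsPrime] :
    ∃ b : S, b ∉ 𝔭 ∧ InnerOver (S := S) ψ (Localization.Away b) := by
  classical
  obtain ⟨hproj, hfaith, hfinA, hbij⟩ := (isAzumaya_iff R A).1 inferInstance
  obtain ⟨a, ha⟩ := exists_inner_atPrime lam hlam hfix ψ 𝔭
  -- abbreviations
  let M' : Submonoid R := Algebra.algebraMapSubmonoid R 𝔭.primeCompl
  have hconj : ∀ y : (Localization.AtPrime 𝔭 ⊗[S] R) ⊗[R] A,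
      Algebra.TensorProduct.map (AlgHom.id (Localization.AtPrime 𝔭 ⊗[S] R) (Localization.AtPrime 𝔭 ⊗[S] R))
        (ψ : A →ₐ[R] A) y * ↑a = ↑a * y := by
    intro y
    rw [ha y, mul_assoc, Units.inv_mul, mul_one]
  -- numerators
  obtain ⟨⟨x, m⟩, hx⟩ := IsLocalizedModule.surj M'
    (TensorProduct.mk R (Localization.AtPrime 𝔭 ⊗[S] R) A 1) (a : (Localization.AtPrime 𝔭 ⊗[S] R) ⊗[R] A)
  obtain ⟨⟨x', m'⟩, hx'⟩ := IsLocalizedModule.surj M'
    (TensorProduct.mk R (Localization.AtPrime 𝔭 ⊗[S] R) A 1)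
    ((a⁻¹ : ((Localization.AtPrime 𝔭 ⊗[S] R) ⊗[R] A)ˣ) : (Localization.AtPrime 𝔭 ⊗[S] R) ⊗[R] A)
  simp only [TensorProduct.mk_apply] at hx hx'
  have hx1 : (m : R) • (a : (Localization.AtPrime 𝔭 ⊗[S] R) ⊗[R] A) = 1 ⊗ₜ[R] x := hx
  have hx1' : (m' : R) • ((a⁻¹ : ((Localization.AtPrime 𝔭 ⊗[S] R) ⊗[R] A)ˣ) :
      (Localization.AtPrime 𝔭 ⊗[S] R) ⊗[R] A) = 1 ⊗ₜ[R] x' := hx'
  obtain ⟨s, hs, hsm⟩ := m.2
  obtain ⟨s', hs', hsm'⟩ := m'.2
  -- relation x x' = s s'
  have e1 : TensorProduct.mk R (Localization.AtPrime 𝔭 ⊗[S] R) A 1 (x * x') =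
      TensorProduct.mk R (Localization.AtPrime 𝔭 ⊗[S] R) A 1 (((m : R) * (m' : R)) • (1 : A)) := by
    simp only [TensorProduct.mk_apply]
    have : ((1 : Localization.AtPrime 𝔭 ⊗[S] R) ⊗ₜ[R] (x * x') : (Localization.AtPrime 𝔭 ⊗[S] R) ⊗[R] A) =
        (1 ⊗ₜ[R] x) * (1 ⊗ₜ[R] x') := by simp [Algebra.TensorProduct.tmul_mul_tmul]
    rw [this, ← hx1, ← hx1', smul_mul_smul_comm, Units.mul_inv, TensorProduct.tmul_smul,
      ← Algebra.TensorProduct.one_def]
  have e2 : TensorProduct.mk R (Localization.AtPrime 𝔭 ⊗[S] R) A 1 (x' * x) =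
      TensorProduct.mk R (Localization.AtPrime 𝔭 ⊗[S] R) A 1 (((m : R) * (m' : R)) • (1 : A)) := by
    simp only [TensorProduct.mk_apply]
    have : ((1 : Localization.AtPrime 𝔭 ⊗[S] R) ⊗ₜ[R] (x' * x) : (Localization.AtPrime 𝔭 ⊗[S] R) ⊗[R] A) =
        (1 ⊗ₜ[R] x') * (1 ⊗ₜ[R] x) := by simp [Algebra.TensorProduct.tmul_mul_tmul]
    rw [this, ← hx1, ← hx1', smul_mul_smul_comm, Units.inv_mul, TensorProduct.tmul_smul,
      ← Algebra.TensorProduct.one_def, mul_comm]
  obtain ⟨c₁, hc₁⟩ := IsLocalizedModule.exists_of_eq (S := M') e1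
  obtain ⟨c₂, hc₂⟩ := IsLocalizedModule.exists_of_eq (S := M') e2
  obtain ⟨s₁, hs₁, hsc₁⟩ := c₁.2
  obtain ⟨s₂, hs₂, hsc₂⟩ := c₂.2
  -- generators
  obtain ⟨gens, hgens⟩ := (Module.Finite.fg_top : (⊤ : Submodule R A).FG)
  have hg : ∀ g : A, ∃ sg : S, sg ∈ 𝔭.primeCompl ∧ sg • (ψ g * x) = sg • (x * g) := by
    intro g
    have e3 : TensorProduct.mk R (Localization.AtPrime 𝔭 ⊗[S] R) A 1 (ψ g * x) =
        TensorProduct.mk R (Localization.AtPrime 𝔭 ⊗[S] R) A 1 (x * g) := by
      simp only [TensorProduct.mk_apply]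
      have h1 : ((1 : Localization.AtPrime 𝔭 ⊗[S] R) ⊗ₜ[R] (ψ g * x) : (Localization.AtPrime 𝔭 ⊗[S] R) ⊗[R] A) =
          (1 ⊗ₜ[R] ψ g) * (1 ⊗ₜ[R] x) := by simp [Algebra.TensorProduct.tmul_mul_tmul]
      have h2 : ((1 : Localization.AtPrime 𝔭 ⊗[S] R) ⊗ₜ[R] (x * g) : (Localization.AtPrime 𝔭 ⊗[S] R) ⊗[R] A) =
          (1 ⊗ₜ[R] x) * (1 ⊗ₜ[R] g) := by simp [Algebra.TensorProduct.tmul_mul_tmul]
      rw [h1, h2, ← hx1, mul_smul_comm, smul_mul_assoc]
      congr 1
      have := hconj (1 ⊗ₜ[R] g)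
      simpa using this
    obtain ⟨c, hc⟩ := IsLocalizedModule.exists_of_eq (S := M') e3
    obtain ⟨sg, hsg, hsgc⟩ := c.2
    refine ⟨sg, hsg, ?_⟩
    have hc' : (c : R) • (ψ g * x) = (c : R) • (x * g) := hc
    rw [← hsgc, algebraMap_smul, algebraMap_smul] at hc'
    exact hc'
  choose sg hsgmem hsg using hg
  -- the element b
  let b : S := s * s' * s₁ * s₂ * ∏ g ∈ gens, sg g
  have hb : b ∈ 𝔭.primeCompl :=
    mul_mem (mul_mem (mul_mem (mul_mem hs hs') hs₁) hs₂) (Submonoid.prod_mem _ fun g _ => hsgmem g)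
  have hdvd_s : s ∣ b := ⟨s' * s₁ * s₂ * ∏ g ∈ gens, sg g, by simp only [b]; ring⟩
  have hdvd_s' : s' ∣ b := ⟨s * s₁ * s₂ * ∏ g ∈ gens, sg g, by simp only [b]; ring⟩
  have hdvd_s₁ : s₁ ∣ b := ⟨s * s' * s₂ * ∏ g ∈ gens, sg g, by simp only [b]; ring⟩
  have hdvd_s₂ : s₂ ∣ b := ⟨s * s' * s₁ * ∏ g ∈ gens, sg g, by simp only [b]; ring⟩
  have hdvd_g : ∀ g ∈ gens, sg g ∣ b := fun g hgm =>
    Dvd.dvd.mul_left (Finset.dvd_prod_of_mem _ hgm) _
  refine ⟨b, hb, ?_⟩
  -- units in `S_b`
  have hunit : ∀ r : S, r ∣ b → IsUnit (algebraMap S (Localization.Away b) r) := by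
    rintro r ⟨c, hc⟩
    have := IsLocalization.Away.algebraMap_isUnit (S := Localization.Away b) b
    have h2 : algebraMap S (Localization.Away b) b =
        algebraMap S (Localization.Away b) r * algebraMap S (Localization.Away b) c := by
      rw [← map_mul, ← hc]
    rw [h2] at this
    exact isUnit_of_mul_isUnit_left this
  obtain ⟨is, his⟩ := (hunit s hdvd_s).exists_right_inv
  obtain ⟨is', his'⟩ := (hunit s' hdvd_s').exists_right_inv
  -- relations in `S_b ⊗ A`
  have hc₁' : s₁ • (x * x') = s₁ • ((s * s') • (1 : A)) := by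
    have h := hc₁
    change (c₁ : R) • (x * x') = (c₁ : R) • (((m : R) * (m' : R)) • (1 : A)) at h
    rw [← hsc₁, ← hsm, ← hsm', algebraMap_smul, algebraMap_smul, ← map_mul, algebraMap_smul] at h
    exact h
  have hc₂' : s₂ • (x' * x) = s₂ • ((s * s') • (1 : A)) := by
    have h := hc₂
    change (c₂ : R) • (x' * x) = (c₂ : R) • (((m : R) * (m' : R)) • (1 : A)) at h
    rw [← hsc₂, ← hsm, ← hsm', algebraMap_smul, algebraMap_smul, ← map_mul, algebraMap_smul] at h
    exact h
  have r1 := one_tmul_eq_of_smul_eq b s₁ hdvd_s₁ _ _ hc₁'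
  have r2 := one_tmul_eq_of_smul_eq b s₂ hdvd_s₂ _ _ hc₂'
  have hss : ∀ w : Localization.Away b ⊗[S] A,
      ((1 : Localization.Away b) ⊗ₜ[S] ((s * s') • (1 : A)) : Localization.Away b ⊗[S] A) * w =
        (algebraMap S (Localization.Away b) s * algebraMap S (Localization.Away b) s') • w := by
    intro w
    have h0 : ((1 : Localization.Away b) ⊗ₜ[S] ((s * s') • (1 : A)) : Localization.Away b ⊗[S] A) =
        (algebraMap S (Localization.Away b) s * algebraMap S (Localization.Away b) s') •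
          (1 : Localization.Away b ⊗[S] A) := by
      rw [← TensorProduct.smul_tmul, Algebra.smul_def, mul_one, map_mul, Algebra.TensorProduct.one_def,
        TensorProduct.smul_tmul', smul_eq_mul, mul_one]
    rw [h0, smul_mul_assoc, one_mul]
  let ub : Localization.Away b ⊗[S] A := is ⊗ₜ[S] x
  let vb : Localization.Away b ⊗[S] A := is' ⊗ₜ[S] x'
  have hmulform : ∀ (c d : Localization.Away b) (w w' : A),
      ((c ⊗ₜ[S] w : Localization.Away b ⊗[S] A) * (d ⊗ₜ[S] w')) =
        (c * d) • ((1 : Localization.Away b) ⊗ₜ[S] (w * w')) := by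
    intro c d w w'
    rw [Algebra.TensorProduct.tmul_mul_tmul, TensorProduct.smul_tmul', smul_eq_mul, mul_one]
  have huv : ub * vb = 1 := by
    simp only [ub, vb]
    rw [hmulform, r1]
    have := hss 1
    rw [mul_one] at this
    rw [this, smul_smul]
    have : is * is' * (algebraMap S (Localization.Away b) s * algebraMap S (Localization.Away b) s') = 1 := by
      calc is * is' * (algebraMap S (Localization.Away b) s * algebraMap S (Localization.Away b) s')
          = (algebraMap S (Localization.Away b) s * is) * (algebraMap S (Localization.Away b) s' * is') := by ring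
        _ = 1 := by rw [his, his', one_mul]
    rw [this, one_smul]
  have hvu : vb * ub = 1 := by
    simp only [ub, vb]
    rw [hmulform, r2]
    have := hss 1
    rw [mul_one] at this
    rw [this, smul_smul]
    have : is' * is * (algebraMap S (Localization.Away b) s * algebraMap S (Localization.Away b) s') = 1 := by
      calc is' * is * (algebraMap S (Localization.Away b) s * algebraMap S (Localization.Away b) s')
          = (algebraMap S (Localization.Away b) s * is) * (algebraMap S (Localization.Away b) s' * is') := by ring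
        _ = 1 := by rw [his, his', one_mul]
    rw [this, one_smul]
  -- the commutation relation
  have hP : ∀ z : A, ((1 : Localization.Away b) ⊗ₜ[S] (ψ z * x) : Localization.Away b ⊗[S] A) =
      1 ⊗ₜ[S] (x * z) := by
    intro z
    have hz : z ∈ Submodule.span R (gens : Set A) := by rw [hgens]; trivial
    induction hz using Submodule.span_induction with
    | mem g hgm => exact one_tmul_eq_of_smul_eq b (sg g) (hdvd_g g hgm) _ _ (hsg g)
    | zero => simp
    | add z z' _ _ hz hz' => rw [map_add, add_mul, mul_add, TensorProduct.tmul_add, TensorProduct.tmul_add, hz, hz']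
    | smul r z _ hz =>
      let L : A →ₗ[S] A := LinearMap.restrictScalars S (r • (LinearMap.id : A →ₗ[R] A))
      have hL : ∀ w : A, L w = r • w := fun w => rfl
      have := congrArg (L.lTensor (Localization.Away b)) hz
      rw [LinearMap.lTensor_tmul, LinearMap.lTensor_tmul, hL, hL] at this
      rw [map_smul, smul_mul_assoc, mul_smul_comm]
      exact this
  refine ⟨⟨ub, vb, huv, hvu⟩, fun y => ?_⟩
  have hcomm : Algebra.TensorProduct.congr (AlgEquiv.refl : Localization.Away b ≃ₐ[Localization.Away b] _)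
      (ψ.restrictScalars S) y * ub = ub * y := by
    induction y using TensorProduct.induction_on with
    | zero => simp
    | add y y' hy hy' => rw [map_add, add_mul, mul_add, hy, hy']
    | tmul t z =>
      simp only [ub]
      rw [Algebra.TensorProduct.congr_apply, Algebra.TensorProduct.map_tmul]
      change (t ⊗ₜ[S] ψ z : Localization.Away b ⊗[S] A) * (is ⊗ₜ[S] x) = (is ⊗ₜ[S] x) * (t ⊗ₜ[S] z)
      rw [hmulform, hmulform, hP, mul_comm]
  change _ = ub * y * vb
  rw [← hcomm, mul_assoc, huv, mul_one]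

end local_inner2

end Groth.Agent.Lib.AzInvInner16
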