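import Mathlib
import Groth.Agent.Lib.AzInvInner16

/-!
# Gluing inner automorphisms over a Zariski cover of the fixed ring (helper16)

* `zariskiCover_etale`, `zariskiCover_faithfullyFlat`: for a finite family generating the unit ideal,
  `Π t, Localization.Away t` is étale and faithfully flat.
* `innerOver_pi`: inner over each factor ⇒ inner over a finite product.
* `exists_etale_cover_inner` (= S17357).
-/

set_option autoImplicit false
set_option linter.style.haveILetI false

namespace Groth.Agent.Lib.AzInvInner16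
open TensorProduct

section cover
universe u
variable {S : Type u} [CommRing S]

theorem zariskiCover_faithfullyFlat (T : Finset S) (h1 : (1 : S) ∈ Ideal.span (T : Set S)) :
    Module.FaithfullyFlat S (∀ t : T, Localization.Away (t : S)) := by
  classical
  haveI : Module.Flat S (∀ t : T, Localization.Away (t : S)) :=
    Module.Flat.of_linearEquiv
      (DirectSum.linearEquivFunOnFintype S T (fun t : T => Localization.Away (t : S))).symm
  apply Module.FaithfullyFlat.of_comap_surjective
  intro q
  have hex : ∃ t : T, (t : S) ∉ q.asIdeal := by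
    by_contra hall
    push Not at hall
    have hle : Ideal.span (T : Set S) ≤ q.asIdeal := Ideal.span_le.2 fun t ht => hall ⟨t, ht⟩
    exact q.isPrime.ne_top ((Ideal.eq_top_iff_one _).2 (hle h1))
  obtain ⟨t, ht⟩ := hex
  -- a prime of `S_t` over `q`
  have hdisj : Disjoint (Submonoid.powers (t : S) : Set S) (q.asIdeal : Set S) := by
    rw [Set.disjoint_left]
    rintro x ⟨n, rfl⟩ hx
    exact ht (q.isPrime.mem_of_pow_mem n hx)
  let q' : PrimeSpectrum (Localization.Away (t : S)) :=
    ⟨Ideal.map (algebraMap S (Localization.Away (t : S))) q.asIdeal,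
      IsLocalization.isPrime_of_isPrime_disjoint (Submonoid.powers (t : S)) _ _ q.isPrime hdisj⟩
  have hq' : PrimeSpectrum.comap (algebraMap S (Localization.Away (t : S))) q' = q := by
    apply PrimeSpectrum.ext
    exact IsLocalization.comap_map_of_isPrime_disjoint (Submonoid.powers (t : S)) _ q.isPrime hdisj
  refine ⟨PrimeSpectrum.comap (Pi.evalRingHom (fun t : T => Localization.Away (t : S)) t) q', ?_⟩
  rw [← hq']
  rfl

end cover

section glue
universe u v w
variable {S : Type u} {R : Type v} [CommRing S] [CommRing R] [Algebra S R]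
  {A : Type w} [Ring A] [Algebra S A] [Algebra R A] [IsScalarTower S R A]
  (ψ : A ≃ₐ[R] A)

variable {ι : Type*} [Fintype ι] [DecidableEq ι] (T : ι → Type*) [∀ i, CommRing (T i)]
  [∀ i, Algebra S (T i)]

/-- `(Π T_i) ⊗ A ≃ Π (T_i ⊗ A)`. -/
noncomputable def piLeft : (∀ i, T i) ⊗[S] A ≃ₐ[S] ∀ i, T i ⊗[S] A :=
  (Algebra.TensorProduct.comm S (∀ i, T i) A).trans
    ((Algebra.TensorProduct.piRight S S A T).trans
      (AlgEquiv.piCongrRight fun i => Algebra.TensorProduct.comm S A (T i)))

theorem piLeft_apply (x : (∀ i, T i) ⊗[S] A) (i : ι) :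
    piLeft (S := S) (A := A) T x i =
      Algebra.TensorProduct.map (Pi.evalAlgHom S T i) (AlgHom.id S A) x := by
  induction x using TensorProduct.induction_on with
  | zero => simp
  | add x y hx hy => rw [map_add, map_add, Pi.add_apply, hx, hy]
  | tmul t a => simp [piLeft]

theorem congr_pi_apply (x : (∀ i, T i) ⊗[S] A) (i : ι) :
    Algebra.TensorProduct.map (Pi.evalAlgHom S T i) (AlgHom.id S A)
      (Algebra.TensorProduct.congr (AlgEquiv.refl : (∀ i, T i) ≃ₐ[∀ i, T i] _) (ψ.restrictScalars S) x) =
    Algebra.TensorProduct.congr (AlgEquiv.refl : T i ≃ₐ[T i] _) (ψ.restrictScalars S)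
      (Algebra.TensorProduct.map (Pi.evalAlgHom S T i) (AlgHom.id S A) x) := by
  induction x using TensorProduct.induction_on with
  | zero => simp
  | add x y hx hy => simp only [map_add, hx, hy]
  | tmul t a => simp

theorem innerOver_pi (h : ∀ i, InnerOver (S := S) ψ (T i)) : InnerOver (S := S) ψ (∀ i, T i) := by
  choose U hU using h
  let u' : (∀ i, T i ⊗[S] A)ˣ := MulEquiv.piUnits.symm U
  let e := piLeft (S := S) (A := A) T
  let u : ((∀ i, T i) ⊗[S] A)ˣ := Units.map (e.symm : (∀ i, T i ⊗[S] A) →* (∀ i, T i) ⊗[S] A) u'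
  have hu : e (u : (∀ i, T i) ⊗[S] A) = (u' : ∀ i, T i ⊗[S] A) := by
    simp [u]
  have hui : e ((u⁻¹ : ((∀ i, T i) ⊗[S] A)ˣ) : (∀ i, T i) ⊗[S] A) =
      ((u'⁻¹ : (∀ i, T i ⊗[S] A)ˣ) : ∀ i, T i ⊗[S] A) := by
    simp [u]
  refine ⟨u, fun x => ?_⟩
  apply e.injective
  funext i
  rw [map_mul, map_mul, hu, hui]
  simp only [e, Pi.mul_apply]
  rw [piLeft_apply, piLeft_apply, congr_pi_apply, hU i]
  rfl

end glue

section final
universe u v w
variable {S : Type u} {R : Type v} [CommRing S] [CommRing R] [Algebra S R]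
  (lam : R ≃ₐ[S] R) (hlam : ∀ r, lam (lam r) = r) (hfix : RInv.IsFixedRing S R lam.toRingEquiv)
  {A : Type w} [Ring A] [Algebra S A] [Algebra R A] [IsScalarTower S R A] [IsAzumaya R A]
  (ψ : A ≃ₐ[R] A)

include hlam hfix in
/-- Every automorphism of an Azumaya algebra over a ring with involution becomes inner over an étale
(indeed Zariski) cover of the FIXED ring. -/
theorem exists_etale_cover_inner :
    ∃ (S' : Type u) (_ : CommRing S') (_ : Algebra S S') (_ : Algebra.Etale S S')
      (_ : Module.FaithfullyFlat S S') (u : (S' ⊗[S] A)ˣ),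
      ∀ x : S' ⊗[S] A,
        Algebra.TensorProduct.congr (AlgEquiv.refl : S' ≃ₐ[S'] S') (ψ.restrictScalars S) x =
          ↑u * x * ↑u⁻¹ := by
  classical
  have hI : Ideal.span {b : S | InnerOver (S := S) ψ (Localization.Away b)} = ⊤ := by
    by_contra hne
    obtain ⟨m, hm, hle⟩ := Ideal.exists_le_maximal _ hne
    haveI := hm.isPrime
    obtain ⟨b, hb, hg⟩ := exists_away_innerOver lam hlam hfix ψ m
    exact hb (hle (Ideal.subset_span hg))
  have h1 : (1 : S) ∈ Ideal.span {b : S | InnerOver (S := S) ψ (Localization.Away b)} := by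
    rw [hI]; trivial
  obtain ⟨T, hT, h1T⟩ := Submodule.mem_span_finite_of_mem_span h1
  have hin : InnerOver (S := S) ψ (∀ t : T, Localization.Away (t : S)) :=
    innerOver_pi ψ (fun t : T => Localization.Away (t : S)) (fun t => hT t.2)
  obtain ⟨u, hu⟩ := hin
  exact ⟨∀ t : T, Localization.Away (t : S), inferInstance, inferInstance, inferInstance,
    zariskiCover_faithfullyFlat T h1T, u, hu⟩

end final

end Groth.Agent.Lib.AzInvInner16
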