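import Mathlib
import Groth.Prelude.Def_AzInv
import Groth.Agent.Lib.AzInvInner16b

/-!
# Unitary form of "automorphisms are locally inner" (helper16)

Base change of `lam`-involutions (`bc_mul`, `bc_bc`), central fixed elements of
`Localization.Away b ⊗[S] A` (`exists_eq_tmul_one_of_central_fixed`), and the local statement with the
norm `t(u) u ∈ S_bˣ`.
-/

set_option autoImplicit false
set_option linter.style.haveILetI false

namespace Groth.Agent.Lib.AzInvUnitary16
open TensorProduct AzInv Groth.Agent.Lib.Azumaya16 Groth.Agent.Lib.AzInvInner16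

section bc
universe u v w
variable {S : Type u} {R : Type v} [CommRing S] [CommRing R] [Algebra S R]
  {lam : R ≃ₐ[S] R} {A : Type w} [Ring A] [Algebra S A] [Algebra R A] [IsScalarTower S R A]
  (t : AzInv.LamInv R A lam) (T : Type*) [CommRing T] [Algebra S T]

theorem bc_mul (x y : T ⊗[S] A) : t.bc S lam T (x * y) = t.bc S lam T y * t.bc S lam T x := by
  induction x using TensorProduct.induction_on with
  | zero => simp
  | add x x' hx hx' => rw [add_mul, map_add, map_add, mul_add, hx, hx']
  | tmul c a =>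
    induction y using TensorProduct.induction_on with
    | zero => simp
    | add y y' hy hy' => rw [mul_add, map_add, map_add, add_mul, hy, hy']
    | tmul d a' =>
      rw [Algebra.TensorProduct.tmul_mul_tmul, LamInv.bc_tmul, LamInv.bc_tmul, LamInv.bc_tmul,
        Algebra.TensorProduct.tmul_mul_tmul, t.map_mul, mul_comm]

theorem bc_bc (x : T ⊗[S] A) : t.bc S lam T (t.bc S lam T x) = x := by
  induction x using TensorProduct.induction_on with
  | zero => simp
  | add x x' hx hx' => rw [map_add, map_add, hx, hx']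
  | tmul c a => rw [LamInv.bc_tmul, LamInv.bc_tmul, t.invol]

theorem bc_one : t.bc S lam T (1 : T ⊗[S] A) = 1 := by
  rw [Algebra.TensorProduct.one_def, LamInv.bc_tmul, t.map_one]

theorem bc_units_inv (u : (T ⊗[S] A)ˣ) :
    t.bc S lam T (↑u⁻¹ : T ⊗[S] A) * t.bc S lam T (↑u : T ⊗[S] A) = 1 := by
  rw [← bc_mul, Units.mul_inv, bc_one]

theorem bc_units_inv' (u : (T ⊗[S] A)ˣ) :
    t.bc S lam T (↑u : T ⊗[S] A) * t.bc S lam T (↑u⁻¹ : T ⊗[S] A) = 1 := by
  rw [← bc_mul, Units.inv_mul, bc_one]

end bc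

section central
universe u v w
variable {S : Type u} {R : Type v} [CommRing S] [CommRing R] [Algebra S R]
  {lam : R ≃ₐ[S] R} (hfix : RInv.IsFixedRing S R lam.toRingEquiv)
  {A : Type w} [Ring A] [Algebra S A] [Algebra R A] [IsScalarTower S R A] [IsAzumaya R A]
  (t : AzInv.LamInv R A lam)

include hfix in
/-- A central element of `S_b ⊗[S] A` fixed by the involution comes from `S_b`. -/
theorem exists_eq_tmul_one_of_central_fixed (b : S) (z : Localization.Away b ⊗[S] A)
    (hz : ∀ g : A, z * ((1 : Localization.Away b) ⊗ₜ[S] g) = ((1 : Localization.Away b) ⊗ₜ[S] g) * z)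
    (ht : t.bc S lam (Localization.Away b) z = z) :
    ∃ c₀ : Localization.Away b, z = c₀ ⊗ₜ[S] (1 : A) := by
  classical
  obtain ⟨hproj, hfaith, hfinA, hbij⟩ := (isAzumaya_iff R A).1 inferInstance
  let Mb : Submonoid S := Submonoid.powers b
  have htS : ∀ (s : S) (a : A), t (s • a) = s • t a := fun s a => (t.linS S lam).map_smul s a
  obtain ⟨⟨x, m⟩, hx⟩ := IsLocalizedModule.surj Mb (TensorProduct.mk S (Localization.Away b) A 1) z
  have hx1 : (m : S) • z = (1 : Localization.Away b) ⊗ₜ[S] x := hx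
  -- commutation with every `g`
  have hg : ∀ g : A, ∃ mg : Mb, (mg : S) • (x * g) = (mg : S) • (g * x) := by
    intro g
    have e : TensorProduct.mk S (Localization.Away b) A 1 (x * g) =
        TensorProduct.mk S (Localization.Away b) A 1 (g * x) := by
      simp only [TensorProduct.mk_apply]
      have h1 : ((1 : Localization.Away b) ⊗ₜ[S] (x * g) : Localization.Away b ⊗[S] A) =
          (1 ⊗ₜ[S] x) * (1 ⊗ₜ[S] g) := by simp [Algebra.TensorProduct.tmul_mul_tmul]
      have h2 : ((1 : Localization.Away b) ⊗ₜ[S] (g * x) : Localization.Away b ⊗[S] A) =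
          (1 ⊗ₜ[S] g) * (1 ⊗ₜ[S] x) := by simp [Algebra.TensorProduct.tmul_mul_tmul]
      rw [h1, h2, ← hx1, smul_mul_assoc, mul_smul_comm, hz g]
    obtain ⟨c, hc⟩ := IsLocalizedModule.exists_of_eq (S := Mb) e
    exact ⟨c, hc⟩
  choose mg hmg using hg
  obtain ⟨gens, hgens⟩ := (Module.Finite.fg_top : (⊤ : Submodule R A).FG)
  let m₀ : Mb := ∏ g ∈ gens, mg g
  obtain ⟨x₀, hx₀def⟩ : ∃ x₀ : A, x₀ = (m₀ : S) • x := ⟨_, rfl⟩
  have hx₀g : ∀ g ∈ gens, x₀ * g = g * x₀ := by
    intro g hgm
    obtain ⟨c, hc⟩ : ∃ c : Mb, m₀ = c * mg g := by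
      refine ⟨∏ g' ∈ gens.erase g, mg g', ?_⟩
      simp only [m₀]
      rw [mul_comm, Finset.mul_prod_erase gens _ hgm]
    rw [hx₀def, smul_mul_assoc, mul_smul_comm, hc, Submonoid.coe_mul, mul_smul, mul_smul, hmg g]
  have hx₀ : ∀ y : A, x₀ * y = y * x₀ := by
    intro y
    have hy : y ∈ Submodule.span R (gens : Set A) := by rw [hgens]; trivial
    induction hy using Submodule.span_induction with
    | mem g hgm => exact hx₀g g hgm
    | zero => simp
    | add y y' _ _ hy hy' => rw [mul_add, add_mul, hy, hy']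
    | smul r y _ hy => rw [mul_smul_comm, smul_mul_assoc, hy]
  obtain ⟨r, hr⟩ := mem_range_algebraMap_of_central (R := R) x₀ hx₀
  -- fixedness
  have e2 : TensorProduct.mk S (Localization.Away b) A 1 (t x) =
      TensorProduct.mk S (Localization.Away b) A 1 x := by
    simp only [TensorProduct.mk_apply]
    rw [← LamInv.bc_tmul, ← hx1, ← algebraMap_smul (Localization.Away b) (m : S) z, map_smul, ht]
  obtain ⟨m₁, hm₁⟩ := IsLocalizedModule.exists_of_eq (S := Mb) e2
  have hm₁' : (m₁ : S) • t x = (m₁ : S) • x := hm₁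
  let r₁ : R := (m₁ : S) • r
  have hx₁ : algebraMap R A r₁ = (m₁ : S) • x₀ := by
    simp only [r₁]
    rw [Algebra.smul_def, map_mul, hr, ← IsScalarTower.algebraMap_apply, ← Algebra.smul_def]
  have hfixed : t ((m₁ : S) • x₀) = (m₁ : S) • x₀ := by
    rw [hx₀def, htS, htS, smul_comm, hm₁', smul_comm]
  have hlamr : lam r₁ = r₁ := by
    apply FaithfulSMul.algebraMap_injective R A
    rw [← t.map_algebraMap, hx₁, hfixed]
  obtain ⟨s₀, hs₀⟩ := (hfix.2 r₁).1 hlamr
  have hx₁' : (m₁ : S) • x₀ = s₀ • (1 : A) := by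
    rw [← hx₁, ← hs₀, ← IsScalarTower.algebraMap_apply, Algebra.algebraMap_eq_smul_one]
  -- assemble
  let Mtot : Mb := m₁ * m₀ * m
  have htot : (Mtot : S) • z = (algebraMap S (Localization.Away b) s₀) ⊗ₜ[S] (1 : A) := by
    simp only [Mtot]
    rw [Submonoid.coe_mul, Submonoid.coe_mul, mul_smul, mul_smul, hx1, ← TensorProduct.tmul_smul,
      ← TensorProduct.tmul_smul]
    rw [← hx₀def, hx₁', TensorProduct.tmul_smul, TensorProduct.smul_tmul', Algebra.smul_def, mul_one]
  have hunit : IsUnit (algebraMap S (Localization.Away b) (Mtot : S)) :=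
    IsLocalization.map_units (Localization.Away b) Mtot
  refine ⟨IsLocalization.mk' (Localization.Away b) s₀ Mtot, ?_⟩
  apply hunit.smul_left_cancel.1
  rw [algebraMap_smul, htot, TensorProduct.smul_tmul', smul_eq_mul, IsLocalization.mk'_spec']

end central

end Groth.Agent.Lib.AzInvUnitary16
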