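import Mathlib.Algebra.Azumaya.Defs
import Mathlib.LinearAlgebra.Contraction
import Mathlib.Algebra.Module.FinitePresentation
import Mathlib.RingTheory.Flat.Basic
import Mathlib.RingTheory.Finiteness.Nakayama
import Mathlib.RingTheory.TensorProduct.Maps
import Mathlib.RingTheory.Finiteness.Projective

/-!
# Azumaya algebras: basics (helper16)

`lr R A : A ⊗[R] A →ₗ[R] End_R A`, `a ⊗ b ↦ (x ↦ a x b)` — the op-free form of `AlgHom.mulLeftRight`.
Base change square for `lr`, bijectivity of `S ⊗ Hom_R(M,N) → Hom_S(S ⊗ M, S ⊗ N)` for finite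
projective `M`, trace-one characterisation of faithfulness, base change of Azumaya algebras.
-/

namespace Groth.Agent.Lib.Azumaya16

open TensorProduct

universe u v w

section lr

variable (R : Type u) [CommRing R] (A : Type v) [Ring A] [Algebra R A]

/-- `a ⊗ b ↦ (x ↦ a * x * b)`: the op-free form of `AlgHom.mulLeftRight`. -/
noncomputable def lr : A ⊗[R] A →ₗ[R] Module.End R A :=
  (AlgHom.mulLeftRight R A).toLinearMap ∘ₗ
    (TensorProduct.congr (LinearEquiv.refl R A) (MulOpposite.opLinearEquiv R)).toLinearMap

@[simp] theorem lr_tmul (a b x : A) : lr R A (a ⊗ₜ[R] b) x = a * x * b := by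
  simp [lr, AlgHom.mulLeftRight_apply]

theorem bijective_mulLeftRight_iff :
    Function.Bijective (AlgHom.mulLeftRight R A) ↔ Function.Bijective (lr R A) := by
  have h : ⇑(lr R A) = ⇑(AlgHom.mulLeftRight R A) ∘
      ⇑(TensorProduct.congr (LinearEquiv.refl R A) (MulOpposite.opLinearEquiv R)) := rfl
  rw [h]
  exact (Function.Bijective.of_comp_iff _ (LinearEquiv.bijective _)).symm

theorem isAzumaya_iff :
    IsAzumaya R A ↔ Module.Projective R A ∧ FaithfulSMul R A ∧ Module.Finite R A ∧
      Function.Bijective (lr R A) := by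
  rw [← bijective_mulLeftRight_iff]
  constructor
  · intro h
    exact ⟨h.toProjective, h.toFaithfulSMul, h.toFinite, h.bij⟩
  · rintro ⟨h1, h2, h3, h4⟩
    exact { bij := h4 }

end lr

end Groth.Agent.Lib.Azumaya16

namespace Groth.Agent.Lib.Azumaya16

open TensorProduct

universe u v w

section theta

variable (R : Type*) [CommRing R] (S : Type*) [CommRing S] [Algebra R S]
  (M : Type*) [AddCommGroup M] [Module R M] (N : Type*) [AddCommGroup N] [Module R N]

theorem tensorProduct_tmul_apply (s : S) (f : M →ₗ[R] N) (t : S) (m : M) :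
    LinearMap.tensorProduct R S M N (s ⊗ₜ[R] f) (t ⊗ₜ[R] m) = (s * t) ⊗ₜ[R] f m := by
  simp [LinearMap.tensorProduct, TensorProduct.smul_tmul']

theorem tensorProduct_eq_comp (x : S ⊗[R] (M →ₗ[R] N)) [Module.Finite R M] [Module.Projective R M] :
    LinearMap.tensorProduct R S M N x =
      LinearMap.liftBaseChangeEquiv S (lTensorHomEquivHomLTensor R M S N x) := by
  induction x using TensorProduct.induction_on with
  | zero => simp
  | add x y hx hy => simp only [map_add, hx, hy]
  | tmul s f =>
    apply TensorProduct.AlgebraTensorModule.ext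
    intro t m
    rw [tensorProduct_tmul_apply]
    have : (lTensorHomEquivHomLTensor R M S N) (s ⊗ₜ[R] f) = lTensorHomToHomLTensor (.id R) M S N (s ⊗ₜ[R] f) := by
      rw [← lTensorHomEquivHomLTensor_toLinearMap]; rfl
    rw [this]
    change _ = t • (lTensorHomToHomLTensor (.id R) M S N (s ⊗ₜ[R] f) m)
    rw [lTensorHomToHomLTensor_apply, TensorProduct.smul_tmul', smul_eq_mul, mul_comm]

theorem tensorProduct_bijective_of_finite_projective [Module.Finite R M] [Module.Projective R M] :
    Function.Bijective (LinearMap.tensorProduct R S M N) := by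
  have h : ⇑(LinearMap.tensorProduct R S M N) =
      ⇑(LinearMap.liftBaseChangeEquiv S (M := M) (N := S ⊗[R] N)) ∘ ⇑(lTensorHomEquivHomLTensor R M S N) := by
    funext x
    exact tensorProduct_eq_comp R S M N x
  rw [h]
  exact (LinearEquiv.bijective _).comp (LinearEquiv.bijective _)

end theta

end Groth.Agent.Lib.Azumaya16

namespace Groth.Agent.Lib.Azumaya16
open TensorProduct
section theta2
variable (R : Type*) [CommRing R] (S : Type*) [CommRing S] [Algebra R S]
  (M : Type*) [AddCommGroup M] [Module R M] (N : Type*) [AddCommGroup N] [Module R N]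

theorem tensorProduct_bijective_of_flat_of_finitePresentation [Module.Flat R S]
    [Module.FinitePresentation R M] :
    Function.Bijective (LinearMap.tensorProduct R S M N) := by
  have hb := Module.FinitePresentation.isBaseChange_map R M N S
  have h : ⇑(LinearMap.tensorProduct R S M N) = ⇑hb.equiv := by
    funext x
    induction x using TensorProduct.induction_on with
    | zero => simp
    | add x y hx hy => simp only [map_add, hx, hy]
    | tmul s f =>
      rw [IsBaseChange.equiv_tmul]
      rfl
  rw [h]
  exact hb.equiv.bijective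

end theta2
end Groth.Agent.Lib.Azumaya16

namespace Groth.Agent.Lib.Azumaya16
open TensorProduct
section square
variable (R : Type*) [CommRing R] (S : Type*) [CommRing S] [Algebra R S]
  (A : Type*) [Ring A] [Algebra R A]

theorem lr_baseChange_square (x : S ⊗[R] (A ⊗[R] A)) :
    LinearMap.tensorProduct R S A A ((lr R A).baseChange S x) =
      lr S (S ⊗[R] A) (AlgebraTensorModule.distribBaseChange R S A A x) := by
  induction x using TensorProduct.induction_on with
  | zero => simp
  | add x y hx hy => simp only [map_add, hx, hy]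
  | tmul s y =>
    induction y using TensorProduct.induction_on with
    | zero => simp
    | add x y hx hy => simp only [TensorProduct.tmul_add, map_add, hx, hy]
    | tmul a b =>
      apply TensorProduct.AlgebraTensorModule.ext
      intro t x
      rw [LinearMap.baseChange_tmul, tensorProduct_tmul_apply, AlgebraTensorModule.distribBaseChange_tmul,
        lr_tmul, lr_tmul, Algebra.TensorProduct.tmul_mul_tmul, Algebra.TensorProduct.tmul_mul_tmul, mul_one]

theorem bijective_lr_baseChange_iff
    (h : Function.Bijective (LinearMap.tensorProduct R S A A)) :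
    Function.Bijective (lr S (S ⊗[R] A)) ↔ Function.Bijective ((lr R A).baseChange S) := by
  have h1 : ⇑(LinearMap.tensorProduct R S A A) ∘ ⇑((lr R A).baseChange S) =
      ⇑(lr S (S ⊗[R] A)) ∘ ⇑(AlgebraTensorModule.distribBaseChange R S A A) := by
    funext x
    exact lr_baseChange_square R S A x
  rw [← Function.Bijective.of_comp_iff _ (AlgebraTensorModule.distribBaseChange R S A A).bijective,
    ← h1, Function.Bijective.of_comp_iff' h]

end square
end Groth.Agent.Lib.Azumaya16

namespace Groth.Agent.Lib.Azumaya16
open TensorProduct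
section trace
variable (R : Type*) [CommRing R] (M : Type*) [AddCommGroup M] [Module R M]

/-- The trace ideal of a module: the ideal generated by all values `f a` of functionals. -/
def traceIdeal : Ideal R := Ideal.span {r | ∃ (f : Module.Dual R M) (a : M), f a = r}

variable {R M}

theorem apply_mem_traceIdeal (f : Module.Dual R M) (a : M) : f a ∈ traceIdeal R M :=
  Ideal.subset_span ⟨f, a, rfl⟩

theorem smul_eq_zero_of_mem_traceIdeal {r : R} (hr : ∀ a : M, r • a = 0) {t : R}
    (ht : t ∈ traceIdeal R M) : r * t = 0 := by
  induction ht using Submodule.span_induction with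
  | mem x hx =>
    obtain ⟨f, a, rfl⟩ := hx
    rw [← smul_eq_mul, ← map_smul, hr, map_zero]
  | zero => simp
  | add x y _ _ hx hy => rw [mul_add, hx, hy, add_zero]
  | smul c x _ hx => rw [smul_eq_mul, mul_left_comm, hx, mul_zero]

variable (R M)

theorem faithfulSMul_of_traceIdeal_eq_top (h : traceIdeal R M = ⊤) : FaithfulSMul R M := by
  refine ⟨fun {r s} hrs => ?_⟩
  have h1 : (1 : R) ∈ traceIdeal R M := h ▸ Submodule.mem_top
  have h0 : ∀ a : M, (r - s) • a = 0 := fun a => by rw [sub_smul, hrs a, sub_self]
  have := smul_eq_zero_of_mem_traceIdeal h0 h1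
  rw [mul_one] at this
  exact sub_eq_zero.1 this

theorem traceIdeal_eq_top_of_faithful [Module.Finite R M] [Module.Projective R M] [FaithfulSMul R M] :
    traceIdeal R M = ⊤ := by
  obtain ⟨n, f, g, -, -, hfg⟩ := Module.Finite.exists_comp_eq_id_of_projective R M
  have hle : (⊤ : Submodule R M) ≤ traceIdeal R M • (⊤ : Submodule R M) := by
    intro a _
    have ha : a = ∑ i, (g a i) • f (Pi.single i 1) := by
      conv_lhs => rw [← LinearMap.id_apply (R := R) a, ← hfg, LinearMap.comp_apply]
      rw [LinearMap.pi_apply_eq_sum_univ f (g a)]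
      refine Finset.sum_congr rfl fun i _ => ?_
      congr 2
      funext j
      simp [Pi.single_apply, eq_comm]
    rw [ha]
    refine Submodule.sum_mem _ fun i _ => Submodule.smul_mem_smul ?_ Submodule.mem_top
    exact apply_mem_traceIdeal ((LinearMap.proj i).comp g) a
  obtain ⟨r, hr1, hr0⟩ := Submodule.exists_sub_one_mem_and_smul_eq_zero_of_fg_of_le_smul
    (traceIdeal R M) ⊤ (Module.Finite.fg_top) hle
  have hr : r = 0 := by
    have : ∀ a : M, r • a = (0 : R) • a := fun a => by rw [hr0 a Submodule.mem_top, zero_smul]
    exact FaithfulSMul.eq_of_smul_eq_smul this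
  rw [hr, zero_sub] at hr1
  rw [Ideal.eq_top_iff_one]
  simpa using (traceIdeal R M).neg_mem hr1

end trace
end Groth.Agent.Lib.Azumaya16

namespace Groth.Agent.Lib.Azumaya16
open TensorProduct
section trace2
variable (R : Type*) [CommRing R] (S : Type*) [CommRing S] [Algebra R S]
  (M : Type*) [AddCommGroup M] [Module R M]

theorem map_traceIdeal_le : Ideal.map (algebraMap R S) (traceIdeal R M) ≤ traceIdeal S (S ⊗[R] M) := by
  rw [Ideal.map_le_iff_le_comap, traceIdeal, Ideal.span_le]
  rintro _ ⟨f, a, rfl⟩
  change algebraMap R S (f a) ∈ traceIdeal S (S ⊗[R] M)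
  have : algebraMap R S (f a) =
      (LinearMap.liftBaseChange S ((Algebra.linearMap R S) ∘ₗ f)) ((1 : S) ⊗ₜ[R] a) := by
    simp
  rw [this]
  exact apply_mem_traceIdeal _ _

theorem traceIdeal_baseChange_eq_top (h : traceIdeal R M = ⊤) : traceIdeal S (S ⊗[R] M) = ⊤ := by
  rw [eq_top_iff, ← Ideal.map_top (algebraMap R S), ← h]
  exact map_traceIdeal_le R S M

theorem faithfulSMul_baseChange [Module.Finite R M] [Module.Projective R M] [FaithfulSMul R M] :
    FaithfulSMul S (S ⊗[R] M) :=
  faithfulSMul_of_traceIdeal_eq_top _ _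
    (traceIdeal_baseChange_eq_top R S M (traceIdeal_eq_top_of_faithful R M))

end trace2

section baseChange
variable (R : Type*) [CommRing R] (S : Type*) [CommRing S] [Algebra R S]
  (A : Type*) [Ring A] [Algebra R A]

/-- Base change of an Azumaya algebra is Azumaya. -/
theorem isAzumaya_baseChange [IsAzumaya R A] : IsAzumaya S (S ⊗[R] A) := by
  have hA := (isAzumaya_iff R A).1 inferInstance
  obtain ⟨h1, h2, h3, h4⟩ := hA
  rw [isAzumaya_iff]
  refine ⟨inferInstance, faithfulSMul_baseChange R S A, inferInstance, ?_⟩
  rw [bijective_lr_baseChange_iff R S A (tensorProduct_bijective_of_finite_projective R S A A)]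
  have : ⇑((lr R A).baseChange S) = ⇑((LinearEquiv.ofBijective (lr R A) h4).baseChange R S _ _) := by
    funext x
    induction x using TensorProduct.induction_on with
    | zero => simp
    | add x y hx hy => simp only [map_add, hx, hy]
    | tmul s y => simp
  rw [this]
  exact LinearEquiv.bijective _

end baseChange
end Groth.Agent.Lib.Azumaya16
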