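import Mathlib.RingTheory.LocalRing.Module
import Mathlib.RingTheory.LocalRing.ResidueField.Ideal
import Mathlib.RingTheory.Flat.FaithfullyFlat.Basic
import Mathlib.RingTheory.Support
import Groth.Agent.Lib.Azumaya16
import Groth.Agent.Lib.CSA
import Mathlib.LinearAlgebra.Dual.Lemmas
import Mathlib.LinearAlgebra.FreeModule.Finite.Matrix
import Mathlib.Algebra.Azumaya.Basic

namespace Groth.Agent.Lib.Azumaya16
open TensorProduct

section fibres

universe u v w

variable {R : Type u} [CommRing R]

/-- If `K` is a field over `R` with kernel the prime `p` and `K ⊗ M = 0`, then `κ(p) ⊗ M = 0`. -/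
theorem subsingleton_residueField_tensor_of_field (M : Type*) [AddCommGroup M] [Module R M]
    (p : Ideal R) [p.IsPrime] (K : Type*) [Field K] [Algebra R K]
    (hK : RingHom.ker (algebraMap R K) = p) [Subsingleton (K ⊗[R] M)] :
    Subsingleton (p.ResidueField ⊗[R] M) := by
  have hf₁ : p ≤ RingHom.ker (algebraMap R K) := hK.ge
  have hf₂ : p.primeCompl ≤ (IsUnit.submonoid K).comap (algebraMap R K) := by
    intro x hx
    change IsUnit (algebraMap R K x)
    rw [isUnit_iff_ne_zero]
    intro h0
    exact hx (hK ▸ (RingHom.mem_ker.2 h0))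
  let φ : p.ResidueField →+* K := Ideal.ResidueField.lift p (algebraMap R K) hf₁ hf₂
  let _ : Algebra p.ResidueField K := φ.toAlgebra
  have : IsScalarTower R p.ResidueField K := IsScalarTower.of_algebraMap_eq fun r => by
    change algebraMap R K r = φ (algebraMap R p.ResidueField r)
    rw [Ideal.ResidueField.lift_algebraMap]
  let e := AlgebraTensorModule.cancelBaseChange R p.ResidueField K K M
  have : Subsingleton (K ⊗[p.ResidueField] (p.ResidueField ⊗[R] M)) := e.toEquiv.subsingleton
  exact (Module.FaithfullyFlat.subsingleton_tensorProduct_iff_right p.ResidueField K).1 inferInstance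

theorem notMem_support_of_field (M : Type*) [AddCommGroup M] [Module R M] [Module.Finite R M]
    (p : PrimeSpectrum R) (K : Type*) [Field K] [Algebra R K]
    (hK : RingHom.ker (algebraMap R K) = p.asIdeal) [Subsingleton (K ⊗[R] M)] :
    p ∉ Module.support R M := by
  rw [Module.mem_support_iff_nontrivial_residueField_tensorProduct]
  have := subsingleton_residueField_tensor_of_field M p.asIdeal K hK
  exact not_nontrivial _

/-- A finite module all of whose fibres at maximal ideals vanish is zero. -/
theorem subsingleton_of_fibres (M : Type v) [AddCommGroup M] [Module R M] [Module.Finite R M]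
    (h : ∀ m : Ideal R, m.IsMaximal → ∃ (K : Type w) (_ : Field K) (_ : Algebra R K),
      RingHom.ker (algebraMap R K) = m ∧ Subsingleton (K ⊗[R] M)) : Subsingleton M := by
  rw [← Module.support_eq_empty_iff (R := R), Set.eq_empty_iff_forall_notMem]
  intro p hp
  obtain ⟨m, hm, hpm⟩ := Ideal.exists_le_maximal p.asIdeal p.2.ne_top
  have hm' : (⟨m, hm.isPrime⟩ : PrimeSpectrum R) ∈ Module.support R M :=
    Module.mem_support_mono (p := p) (q := ⟨m, hm.isPrime⟩) hpm hp
  obtain ⟨K, _, _, hK, hsub⟩ := h m hm
  exact notMem_support_of_field M ⟨m, hm.isPrime⟩ K hK hm'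

end fibres
end Groth.Agent.Lib.Azumaya16

namespace Groth.Agent.Lib.Azumaya16
open TensorProduct

section keylemma

universe u v₁ v₂ w

variable {R : Type u} [CommRing R]

theorem surjective_of_fibres {P : Type v₁} {Q : Type v₂} [AddCommGroup P] [Module R P] [AddCommGroup Q] [Module R Q]
    [Module.Finite R Q] (F : P →ₗ[R] Q)
    (h : ∀ m : Ideal R, m.IsMaximal → ∃ (K : Type w) (_ : Field K) (_ : Algebra R K),
      RingHom.ker (algebraMap R K) = m ∧ Function.Surjective (F.baseChange K)) :
    Function.Surjective F := by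
  have hC : Subsingleton (Q ⧸ LinearMap.range F) := by
    apply subsingleton_of_fibres (R := R)
    intro m hm
    obtain ⟨K, _, _, hK, hsurj⟩ := h m hm
    refine ⟨K, inferInstance, inferInstance, hK, ?_⟩
    have h0 : (LinearMap.range F).mkQ ∘ₗ F = 0 := by
      ext x
      simp
    have hq : Function.Surjective ((LinearMap.range F).mkQ.baseChange K) :=
      LinearMap.lTensor_surjective K (Submodule.mkQ_surjective _)
    refine ⟨fun a b => ?_⟩
    have hz : ∀ y : K ⊗[R] (Q ⧸ LinearMap.range F), y = 0 := by
      intro y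
      obtain ⟨x, rfl⟩ := hq y
      obtain ⟨z, rfl⟩ := hsurj x
      rw [← LinearMap.comp_apply, ← LinearMap.baseChange_comp, h0, LinearMap.baseChange_zero,
        LinearMap.zero_apply]
    rw [hz a, hz b]
  rw [← LinearMap.range_eq_top, ← Submodule.Quotient.subsingleton_iff]
  exact hC

theorem bijective_of_fibres {P : Type v₁} {Q : Type v₂} [AddCommGroup P] [Module R P] [AddCommGroup Q] [Module R Q]
    [Module.Finite R P] [Module.Finite R Q] [Module.Projective R Q] (F : P →ₗ[R] Q)
    (h : ∀ m : Ideal R, m.IsMaximal → ∃ (K : Type w) (_ : Field K) (_ : Algebra R K),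
      RingHom.ker (algebraMap R K) = m ∧ Function.Bijective (F.baseChange K)) :
    Function.Bijective F := by
  have hsurj : Function.Surjective F := by
    apply surjective_of_fibres F
    intro m hm
    obtain ⟨K, i1, i2, hK, hb⟩ := h m hm
    exact ⟨K, i1, i2, hK, hb.2⟩
  refine ⟨?_, hsurj⟩
  obtain ⟨g, hg⟩ := Module.projective_lifting_property F LinearMap.id hsurj
  -- projector onto the kernel
  let e : P →ₗ[R] P := LinearMap.id - g ∘ₗ F
  have he : ∀ x, F (e x) = 0 := by
    intro x
    have := LinearMap.congr_fun hg (F x)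
    simp only [LinearMap.comp_apply, LinearMap.id_apply] at this
    simp [e, this]
  let r : P →ₗ[R] LinearMap.ker F := e.codRestrict _ (fun x => LinearMap.mem_ker.2 (he x))
  have hri : r ∘ₗ (LinearMap.ker F).subtype = LinearMap.id := by
    ext ⟨x, hx⟩
    have hx' : F x = 0 := LinearMap.mem_ker.1 hx
    simp [r, e, hx']
  have : Module.Finite R (LinearMap.ker F) := by
    refine Module.Finite.of_surjective r ?_
    intro y
    exact ⟨y.1, LinearMap.congr_fun hri y⟩
  have hK : Subsingleton (LinearMap.ker F) := by
    apply subsingleton_of_fibres (R := R)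
    intro m hm
    obtain ⟨K, _, _, hK, hb⟩ := h m hm
    refine ⟨K, inferInstance, inferInstance, hK, ?_⟩
    have hz : ∀ z : K ⊗[R] (LinearMap.ker F), z = 0 := by
      intro z
      have h1 : (r.baseChange K) (((LinearMap.ker F).subtype.baseChange K) z) = z := by
        rw [← LinearMap.comp_apply, ← LinearMap.baseChange_comp, hri, LinearMap.baseChange_id,
          LinearMap.id_apply]
      have h2 : (F.baseChange K) (((LinearMap.ker F).subtype.baseChange K) z) = 0 := by
        rw [← LinearMap.comp_apply, ← LinearMap.baseChange_comp]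
        have : F ∘ₗ (LinearMap.ker F).subtype = 0 := by
          ext ⟨x, hx⟩
          exact LinearMap.mem_ker.1 hx
        rw [this, LinearMap.baseChange_zero, LinearMap.zero_apply]
      have h3 : ((LinearMap.ker F).subtype.baseChange K) z = 0 :=
        hb.1 (by rw [h2, map_zero])
      rw [← h1, h3, map_zero]
    exact ⟨fun a b => by rw [hz a, hz b]⟩
  rw [← LinearMap.ker_eq_bot, ← Submodule.subsingleton_iff_eq_bot]
  exact hK

end keylemma
end Groth.Agent.Lib.Azumaya16

namespace Groth.Agent.Lib.Azumaya16
open TensorProduct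

section homfinite
variable (R : Type*) [CommRing R] (M N : Type*) [AddCommGroup M] [Module R M] [AddCommGroup N] [Module R N]
  [Module.Finite R M] [Module.Projective R M]

theorem finite_linearMap [Module.Finite R N] : Module.Finite R (M →ₗ[R] N) :=
  Module.Finite.equiv (dualTensorHomEquiv R M N)

theorem projective_linearMap [Module.Projective R N] : Module.Projective R (M →ₗ[R] N) :=
  Module.Projective.of_equiv (dualTensorHomEquiv R M N)

end homfinite

section traceFibres
universe u v w
variable {R : Type u} [CommRing R]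

theorem traceIdeal_eq_top_of_fibres (M : Type v) [AddCommGroup M] [Module R M]
    [Module.Finite R M] [Module.Projective R M]
    (h : ∀ m : Ideal R, m.IsMaximal → ∃ (K : Type w) (_ : Field K) (_ : Algebra R K),
      RingHom.ker (algebraMap R K) = m ∧ Nontrivial (K ⊗[R] M)) : traceIdeal R M = ⊤ := by
  by_contra hne
  obtain ⟨m, hm, hle⟩ := Ideal.exists_le_maximal _ hne
  obtain ⟨K, _, _, hK, hnt⟩ := h m hm
  obtain ⟨n, f, g, -, -, hfg⟩ := Module.Finite.exists_comp_eq_id_of_projective R M
  have hg : g.baseChange K = 0 := by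
    apply TensorProduct.AlgebraTensorModule.ext
    intro k a
    rw [LinearMap.baseChange_tmul, LinearMap.zero_apply]
    have hga : g a = ∑ i, (g a i) • (Pi.single i (1 : R) : Fin n → R) := by
      funext j
      simp [Finset.sum_apply, Pi.single_apply]
    rw [hga, TensorProduct.tmul_sum]
    refine Finset.sum_eq_zero fun i _ => ?_
    have hmem : g a i ∈ RingHom.ker (algebraMap R K) := by
      rw [hK]
      exact hle (apply_mem_traceIdeal ((LinearMap.proj i).comp g) a)
    rw [← TensorProduct.smul_tmul, Algebra.smul_def, RingHom.mem_ker.1 hmem, zero_mul,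
      TensorProduct.zero_tmul]
  have hz : ∀ z : K ⊗[R] M, z = 0 := by
    intro z
    have : (f.baseChange K) ((g.baseChange K) z) = z := by
      rw [← LinearMap.comp_apply, ← LinearMap.baseChange_comp, hfg, LinearMap.baseChange_id,
        LinearMap.id_apply]
    rw [← this, hg, LinearMap.zero_apply, map_zero]
  obtain ⟨a, b, hab⟩ := hnt
  exact hab (by rw [hz a, hz b])

/-- Fibre criterion: a finite projective algebra whose fibres at all maximal ideals
are nonzero with bijective `lr` is Azumaya. -/
theorem isAzumaya_of_fibres_lr (A : Type v) [Ring A] [Algebra R A]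
    [Module.Finite R A] [Module.Projective R A]
    (h : ∀ m : Ideal R, m.IsMaximal → ∃ (K : Type w) (_ : Field K) (_ : Algebra R K),
      RingHom.ker (algebraMap R K) = m ∧ Nontrivial (K ⊗[R] A) ∧
        Function.Bijective ((lr R A).baseChange K)) : IsAzumaya R A := by
  rw [isAzumaya_iff]
  refine ⟨inferInstance, ?_, inferInstance, ?_⟩
  · refine faithfulSMul_of_traceIdeal_eq_top R A ?_
    apply traceIdeal_eq_top_of_fibres
    intro m hm
    obtain ⟨K, i1, i2, hK, hnt, -⟩ := h m hm
    exact ⟨K, i1, i2, hK, hnt⟩
  · have := finite_linearMap R A A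
    have := projective_linearMap R A A
    apply bijective_of_fibres (lr R A)
    intro m hm
    obtain ⟨K, i1, i2, hK, -, hb⟩ := h m hm
    exact ⟨K, i1, i2, hK, hb⟩

theorem nontrivial_of_isAzumaya_field (K : Type*) [Field K] (B : Type*) [Ring B] [Algebra K B]
    [IsAzumaya K B] : Nontrivial B := by
  by_contra hnt
  rw [not_nontrivial_iff_subsingleton] at hnt
  have : (1 : K) = 0 := FaithfulSMul.eq_of_smul_eq_smul (α := B) fun b => Subsingleton.elim _ _
  exact one_ne_zero this

theorem isAzumaya_of_fibres (A : Type v) [Ring A] [Algebra R A]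
    [Module.Finite R A] [Module.Projective R A]
    (h : ∀ m : Ideal R, m.IsMaximal → ∃ (K : Type w) (_ : Field K) (_ : Algebra R K),
      RingHom.ker (algebraMap R K) = m ∧ IsAzumaya K (K ⊗[R] A)) : IsAzumaya R A := by
  apply isAzumaya_of_fibres_lr
  intro m hm
  obtain ⟨K, i1, i2, hK, hAz⟩ := h m hm
  refine ⟨K, i1, i2, hK, nontrivial_of_isAzumaya_field K _, ?_⟩
  rw [← bijective_lr_baseChange_iff R K A (tensorProduct_bijective_of_finite_projective R K A A)]
  exact ((isAzumaya_iff K (K ⊗[R] A)).1 hAz).2.2.2

end traceFibres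
end Groth.Agent.Lib.Azumaya16

namespace Groth.Agent.Lib.Azumaya16
open TensorProduct

section field
universe u v
variable (K : Type u) [Field K] (A : Type v) [Ring A] [Algebra K A]

theorem lr_apply_mem {R : Type*} [CommRing R] {A : Type*} [Ring A] [Algebra R A]
    (I : TwoSidedIdeal A) (t : A ⊗[R] A) {x : A} (hx : x ∈ I) : lr R A t x ∈ I := by
  induction t using TensorProduct.induction_on with
  | zero => simp [I.zero_mem]
  | add s t hs ht => rw [map_add, LinearMap.add_apply]; exact I.add_mem hs ht
  | tmul a b => rw [lr_tmul]; exact I.mul_mem_right _ _ (I.mul_mem_left _ _ hx)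

/-- An Azumaya algebra over a field is simple. -/
theorem isSimpleRing_of_isAzumaya_field [IsAzumaya K A] : IsSimpleRing A := by
  have hnt : Nontrivial A := nontrivial_of_isAzumaya_field K A
  have hbij := ((isAzumaya_iff K A).1 inferInstance).2.2.2
  refine IsSimpleRing.of_eq_bot_or_eq_top fun I => ?_
  by_cases hI : I = ⊥
  · exact Or.inl hI
  · right
    obtain ⟨x, hxI, hx0⟩ : ∃ x ∈ I, x ≠ 0 := by
      by_contra hcon
      push Not at hcon
      apply hI
      rw [eq_bot_iff]
      intro x hx
      rw [TwoSidedIdeal.mem_bot]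
      exact hcon x hx
    obtain ⟨φ, hφ⟩ : ∃ φ : Module.Dual K A, φ x ≠ 0 := by
      by_contra hcon
      push Not at hcon
      exact hx0 ((Module.forall_dual_apply_eq_zero_iff K x).1 hcon)
    rw [eq_top_iff]
    intro y _
    let ψ : A →ₗ[K] A := (φ x)⁻¹ • φ.smulRight y
    have hψ : ψ x = y := by
      simp [ψ, smul_smul, inv_mul_cancel₀ hφ]
    obtain ⟨t, ht⟩ := hbij.2 ψ
    rw [← hψ, ← ht]
    exact lr_apply_mem I t hxI

/-- A central simple algebra over a field is Azumaya. -/
theorem isAzumaya_of_csa [FiniteDimensional K A] [Algebra.IsCentral K A] [IsSimpleRing A] :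
    IsAzumaya K A := by
  have hnt : Nontrivial A := inferInstance
  have hfaith : FaithfulSMul K A :=
    (faithfulSMul_iff_algebraMap_injective K A).2 (algebraMap K A).injective
  have hsimple : IsSimpleRing (A ⊗[K] Aᵐᵒᵖ) := CSA.isSimpleRing_tensor
  have hinj : Function.Injective (AlgHom.mulLeftRight K A) :=
    fun a b hab => RingHom.injective (AlgHom.mulLeftRight K A).toRingHom hab
  refine { bij := ⟨hinj, ?_⟩ }
  have hfin : Module.finrank K (A ⊗[K] Aᵐᵒᵖ) = Module.finrank K (Module.End K A) := by
    rw [Module.finrank_tensorProduct, Module.finrank_linearMap,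
      (MulOpposite.opLinearEquiv K : A ≃ₗ[K] Aᵐᵒᵖ).finrank_eq]
  exact (LinearMap.injective_iff_surjective_of_finrank_eq_finrank hfin
    (f := (AlgHom.mulLeftRight K A).toLinearMap)).1 hinj

end field
end Groth.Agent.Lib.Azumaya16
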