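import Mathlib.LinearAlgebra.Matrix.Module
import Mathlib.Algebra.Algebra.Opposite
import Mathlib.RingTheory.SimpleRing.Matrix
import Groth.Agent.Lib.CSACentralizer

set_option autoImplicit false
universe u v w
open scoped TensorProduct

namespace Groth.Agent.Lib.CSA

open Matrix.Module

section VecModule

variable {k : Type u} [Field k] {D : Type v} [DivisionRing D] [Algebra k D] {n : ℕ}

/-- the standard module of column vectors over a matrix ring is simple -/
theorem isSimpleModule_vec (hn : n ≠ 0) :
    IsSimpleModule (Matrix (Fin n) (Fin n) D) (Fin n → D) := by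
  have : NeZero n := ⟨hn⟩
  rw [isSimpleModule_iff_toSpanSingleton_surjective]
  refine ⟨inferInstance, fun v hv w => ?_⟩
  obtain ⟨i, hi⟩ : ∃ i, v i ≠ 0 := by
    by_contra! h
    exact hv (funext h)
  refine ⟨Matrix.of fun j l => if l = i then w j * (v i)⁻¹ else 0, ?_⟩
  ext j
  simp only [LinearMap.toSpanSingleton_apply, Matrix.Module.smul_apply, Matrix.of_apply,
    smul_eq_mul, ite_mul, zero_mul, Finset.sum_ite_eq', Finset.mem_univ, if_true]
  rw [mul_assoc, inv_mul_cancel₀ hi, mul_one]

/-- right multiplication by scalars on column vectors -/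
noncomputable def vecEndHom (k : Type u) [Field k] (D : Type v) [DivisionRing D] [Algebra k D]
    (n : ℕ) : Dᵐᵒᵖ →ₐ[k] Module.End (Matrix (Fin n) (Fin n) D) (Fin n → D) where
  toFun d :=
    { toFun := fun v i => v i * d.unop
      map_add' := fun v w => by ext i; simp [add_mul]
      map_smul' := fun X v => by
        ext i
        simp [Finset.sum_mul, mul_assoc] }
  map_one' := by ext v i; simp
  map_mul' d d' := by ext v i; simp [mul_assoc]
  map_zero' := by ext v i; simp
  map_add' d d' := by ext v i; simp [mul_add]
  commutes' r := by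
    ext v i
    simp [Algebra.algebraMap_eq_smul_one]

theorem finrank_vecEnd [FiniteDimensional k D] (hn : n ≠ 0) :
    Module.finrank k (Module.End (Matrix (Fin n) (Fin n) D) (Fin n → D)) = Module.finrank k D := by
  have : NeZero n := ⟨hn⟩
  have h := finrank_mul_finrank_end (k := k) (R := Matrix (Fin n) (Fin n) D) (M := Fin n → D)
  rw [Module.finrank_matrix, Module.finrank_pi_fintype] at h
  simp only [Fintype.card_fin, Finset.sum_const, Finset.card_univ, smul_eq_mul] at h
  have hd : 0 < Module.finrank k D := Module.finrank_pos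
  have hn' : 0 < n := Nat.pos_of_ne_zero hn
  have : (n * n * Module.finrank k D) *
      Module.finrank k (Module.End (Matrix (Fin n) (Fin n) D) (Fin n → D)) =
      (n * n * Module.finrank k D) * Module.finrank k D := by
    rw [h]; ring
  exact Nat.eq_of_mul_eq_mul_left (by positivity) this

theorem vecEndHom_bijective [FiniteDimensional k D] (hn : n ≠ 0) :
    Function.Bijective (vecEndHom k D n) := by
  have : NeZero n := ⟨hn⟩
  have hinj : Function.Injective (vecEndHom k D n) :=
    fun a b hab => RingHom.injective (vecEndHom k D n).toRingHom hab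
  refine ⟨hinj, ?_⟩
  have hdim : Module.finrank k Dᵐᵒᵖ =
      Module.finrank k (Module.End (Matrix (Fin n) (Fin n) D) (Fin n → D)) := by
    rw [finrank_vecEnd hn]
    exact (MulOpposite.opLinearEquiv k : D ≃ₗ[k] Dᵐᵒᵖ).finrank_eq.symm
  exact (LinearMap.injective_iff_surjective_of_finrank_eq_finrank
    (f := (vecEndHom k D n).toLinearMap) hdim).mp hinj

/-- the endomorphism algebra of the standard module is the opposite of the division ring -/
noncomputable def vecEndEquiv (k : Type u) [Field k] (D : Type v) [DivisionRing D] [Algebra k D]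
    [FiniteDimensional k D] (n : ℕ) (hn : n ≠ 0) :
    Dᵐᵒᵖ ≃ₐ[k] Module.End (Matrix (Fin n) (Fin n) D) (Fin n → D) :=
  AlgEquiv.ofBijective (vecEndHom k D n) (vecEndHom_bijective hn)

end VecModule

section Pullback

variable {k : Type u} [Field k] {R : Type v} [Ring R] [Algebra k R]
  {R' : Type w} [Ring R'] [Algebra k R'] (e : R ≃ₐ[k] R')
  (V : Type*) [AddCommGroup V] [Module k V] [Module R' V] [IsScalarTower k R' V]

/-- the representation of `R` on an `R'`-module obtained through `e : R ≃ R'` -/
noncomputable def pullbackRep : R →ₐ[k] Module.End k V :=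
  (Algebra.lsmul k k V).comp e.toAlgHom

lemma pullbackRep_apply (r : R) (v : V) : pullbackRep e V r v = e r • v := rfl

/-- `V` as a module over `R` through `e`. -/
abbrev Pullback : Type _ := RepModule (pullbackRep e V)

/-- the identity from the pullback module to `V` -/
noncomputable abbrev Pullback.toV : Pullback e V ≃ₗ[k] V := RepModule.equiv (pullbackRep e V)

lemma Pullback.toV_smul (r : R) (x : Pullback e V) :
    Pullback.toV e V (r • x) = e r • Pullback.toV e V x := rfl

theorem isSimpleModule_pullback [IsSimpleModule R' V] : IsSimpleModule R (Pullback e V) := by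
  have h := (isSimpleModule_iff_toSpanSingleton_surjective (R := R') (M := V)).mp inferInstance
  rw [isSimpleModule_iff_toSpanSingleton_surjective]
  have : Nontrivial V := h.1
  refine ⟨(Pullback.toV e V).toEquiv.nontrivial, fun x hx y => ?_⟩
  have hx' : Pullback.toV e V x ≠ 0 := by
    intro h0
    exact hx ((Pullback.toV e V).injective (by rw [h0, map_zero]))
  obtain ⟨r', hr'⟩ := h.2 _ hx' (Pullback.toV e V y)
  refine ⟨e.symm r', ?_⟩
  apply (Pullback.toV e V).injective
  rw [LinearMap.toSpanSingleton_apply, Pullback.toV_smul, AlgEquiv.apply_symm_apply]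
  exact hr'

/-- endomorphisms of the pullback module are the endomorphisms of the original module -/
noncomputable def pullbackEndEquiv :
    Module.End R (Pullback e V) ≃ₐ[k] Module.End R' V where
  toFun f :=
    { toFun := fun v => Pullback.toV e V (f ((Pullback.toV e V).symm v))
      map_add' := fun v w => by simp
      map_smul' := fun r' v => by
        have h1 : (Pullback.toV e V).symm (r' • v)
            = e.symm r' • (Pullback.toV e V).symm v := by
          apply (Pullback.toV e V).injective
          rw [Pullback.toV_smul]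
          simp
        rw [h1, map_smul, Pullback.toV_smul]
        simp }
  invFun g :=
    { toFun := fun x => (Pullback.toV e V).symm (g (Pullback.toV e V x))
      map_add' := fun v w => by simp
      map_smul' := fun r x => by
        apply (Pullback.toV e V).injective
        rw [Pullback.toV_smul]
        simp [Pullback.toV_smul] }
  left_inv f := by ext x; simp
  right_inv g := by ext v; simp
  map_mul' f g := by ext v; simp
  map_add' f g := by ext v; simp
  commutes' c := by
    ext v
    simp [Module.algebraMap_end_apply]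

end Pullback

section Uniqueness

variable {k : Type u} [Field k]

theorem nonempty_linearEquiv_of_isSimpleModule {R : Type v} [Ring R] [Algebra k R]
    [IsSimpleRing R] [FiniteDimensional k R]
    (M : Type*) (N : Type*) [AddCommGroup M] [Module R M] [AddCommGroup N] [Module R N]
    [IsSimpleModule R M] [IsSimpleModule R N] : Nonempty (M ≃ₗ[R] N) := by
  have : IsArtinianRing R := IsArtinianRing.of_finite k R
  obtain ⟨S₀, hS₀⟩ := exists_simple_ideal k R
  have hM : IsSimpleModule R (⊤ : Submodule R M) := IsSimpleModule.congr Submodule.topEquiv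
  have hN : IsSimpleModule R (⊤ : Submodule R N) := IsSimpleModule.congr Submodule.topEquiv
  obtain ⟨e1⟩ := isIsotypicOfType_of_simple S₀ M ⊤
  obtain ⟨e2⟩ := isIsotypicOfType_of_simple S₀ N ⊤
  exact ⟨Submodule.topEquiv.symm.trans (e1.trans (e2.symm.trans Submodule.topEquiv))⟩

/-- If `R ≃ Mₙ(D)`, the endomorphism algebra of any simple `R`-module is `Dᵐᵒᵖ`. -/
theorem end_simple_algEquiv {R : Type v} [Ring R] [Algebra k R]
    {D : Type w} [DivisionRing D] [Algebra k D] [FiniteDimensional k D] {n : ℕ} (hn : n ≠ 0)
    (e : R ≃ₐ[k] Matrix (Fin n) (Fin n) D)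
    (S : Type*) [AddCommGroup S] [Module k S] [Module R S] [IsScalarTower k R S]
    [IsSimpleModule R S] :
    Nonempty (Module.End R S ≃ₐ[k] Dᵐᵒᵖ) := by
  have : NeZero n := ⟨hn⟩
  have : IsSimpleRing R := IsSimpleRing.of_ringEquiv e.symm.toRingEquiv inferInstance
  have : FiniteDimensional k R := Module.Finite.equiv e.symm.toLinearEquiv
  have := isSimpleModule_vec (D := D) hn
  have := isSimpleModule_pullback e (Fin n → D)
  obtain ⟨φ⟩ := nonempty_linearEquiv_of_isSimpleModule (k := k) (R := R) S
    (Pullback e (Fin n → D))
  exact ⟨(φ.conjAlgEquiv k).trans ((pullbackEndEquiv e _).trans (vecEndEquiv k D n hn).symm)⟩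

theorem divisionRing_algEquiv_of_matrix_algEquiv
    {D : Type v} [DivisionRing D] [Algebra k D] [FiniteDimensional k D]
    {D' : Type w} [DivisionRing D'] [Algebra k D'] [FiniteDimensional k D']
    {n m : ℕ} (hn : n ≠ 0) (hm : m ≠ 0)
    (e : Matrix (Fin n) (Fin n) D ≃ₐ[k] Matrix (Fin m) (Fin m) D') :
    Nonempty (D ≃ₐ[k] D') := by
  have := isSimpleModule_vec (D := D) hn
  obtain ⟨e1⟩ := end_simple_algEquiv (k := k) hn
    (AlgEquiv.refl : Matrix (Fin n) (Fin n) D ≃ₐ[k] Matrix (Fin n) (Fin n) D) (Fin n → D)
  obtain ⟨e2⟩ := end_simple_algEquiv (k := k) hm e (Fin n → D)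
  exact ⟨AlgEquiv.unop (e1.symm.trans e2)⟩

end Uniqueness

end Groth.Agent.Lib.CSA
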