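import Mathlib.Algebra.Central.Matrix
import Mathlib.FieldTheory.JacobsonNoether
import Mathlib.LinearAlgebra.Matrix.FiniteDimensional
import Mathlib.RingTheory.SimpleModule.WedderburnArtin
import Mathlib.FieldTheory.IsSepClosed
import Mathlib.FieldTheory.IntermediateField.Adjoin.Basic
import Mathlib.FieldTheory.Normal.Closure
import Mathlib.RingTheory.TensorProduct.Finite
import Groth.Agent.Lib.CSAWedderburn

set_option autoImplicit false
universe u v w
open scoped TensorProduct

namespace Groth.Agent.Lib.CSA

section BaseChangeCentral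

variable {k : Type u} [Field k] {K : Type v} [Field K] [Algebra k K]
  {A : Type w} [Ring A] [Algebra k A]

/-- the base change of a central algebra to a field extension is central -/
theorem isCentral_baseChange [Algebra.IsCentral k A] : Algebra.IsCentral K (K ⊗[k] A) where
  out := by
    classical
    intro x hx
    rw [Subalgebra.mem_center_iff] at hx
    let b := Module.Free.chooseBasis k K
    have hcomm : ∀ (a : A) (i), a * coords b x i = coords b x i * a := by
      intro a i
      rw [← coords_mul_left, ← coords_mul_right, hx]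
    have hk : ∀ i, ∃ r : k, algebraMap k A r = coords b x i := by
      intro i
      have : coords b x i ∈ Subalgebra.center k A := by
        rw [Subalgebra.mem_center_iff]
        intro a
        exact hcomm a i
      exact Algebra.mem_bot.mp (Algebra.IsCentral.out this)
    choose r hr using hk
    set S := (coords b x).support with hS
    have hx' : x = (∑ i ∈ S, r i • b i) ⊗ₜ 1 := by
      apply (coords b).injective
      ext i
      rw [show coords b ((∑ i ∈ S, r i • b i) ⊗ₜ[k] (1 : A)) i
        = b.repr (∑ i ∈ S, r i • b i) i • (1 : A) from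
          TensorProduct.equivFinsuppOfBasisLeft_apply_tmul_apply b _ _ i]
      rw [map_sum, Finsupp.finsetSum_apply]
      simp only [map_smul, Module.Basis.repr_self, Finsupp.smul_apply, Finsupp.single_apply,
        smul_eq_mul, mul_ite, mul_one, mul_zero, Finset.sum_ite_eq']
      by_cases hiS : i ∈ S
      · rw [if_pos hiS, ← hr i, Algebra.algebraMap_eq_smul_one]
      · rw [if_neg hiS, zero_smul]
        exact Finsupp.notMem_support_iff.mp hiS
    rw [hx']
    exact Algebra.mem_bot.mpr ⟨∑ i ∈ S, r i • b i, by
      rw [Algebra.TensorProduct.algebraMap_apply]; simp⟩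

end BaseChangeCentral

section Transfer

/-- universe polymorphic transfer of centrality along an algebra isomorphism -/
theorem isCentral_of_algEquiv' {K : Type u} [CommSemiring K] {D : Type v} {D' : Type w}
    [Semiring D] [Semiring D'] [Algebra K D] [Algebra K D'] (e : D ≃ₐ[K] D')
    [Algebra.IsCentral K D] : Algebra.IsCentral K D' where
  out := by
    intro z hz
    rw [Subalgebra.mem_center_iff] at hz
    have h1 : e.symm z ∈ Subalgebra.center K D := by
      rw [Subalgebra.mem_center_iff]
      intro d
      apply e.injective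
      rw [map_mul, map_mul, e.apply_symm_apply]
      exact hz (e d)
    obtain ⟨r, hr⟩ := Algebra.mem_bot.mp (Algebra.IsCentral.out h1)
    refine Algebra.mem_bot.mpr ⟨r, ?_⟩
    rw [← e.commutes r, hr, e.apply_symm_apply]

end Transfer

section SepClosed

variable {K : Type u} [Field K] [IsSepClosed K]

theorem bot_eq_top_of_isSepClosed (D : Type v) [DivisionRing D] [Algebra K D]
    [Algebra.IsCentral K D] [FiniteDimensional K D] : (⊥ : Subalgebra K D) = ⊤ := by
  by_contra hne
  obtain ⟨x, hx, hsep⟩ := JacobsonNoether.exists_separable_and_not_isCentral' (L := K) (D := D) hne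
  apply hx
  have hint : IsIntegral K x := hsep.isIntegral
  have hdeg := IsSepClosed.degree_eq_one_of_irreducible K (minpoly.irreducible hint) hsep
  have := minpoly.mem_range_of_degree_eq_one K x hdeg
  obtain ⟨c, hc⟩ := this
  exact Algebra.mem_bot.mpr ⟨c, hc⟩

/-- central simple algebras over a separably closed field are matrix algebras -/
theorem exists_algEquiv_matrix_of_isSepClosed (A : Type v) [Ring A] [Algebra K A]
    [Algebra.IsCentral K A] [IsSimpleRing A] [FiniteDimensional K A] :
    ∃ n : ℕ, n ≠ 0 ∧ Nonempty (A ≃ₐ[K] Matrix (Fin n) (Fin n) K) := by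
  have : IsArtinianRing A := IsArtinianRing.of_finite K A
  obtain ⟨n, hn, D, _, _, _, ⟨e⟩⟩ := IsSimpleRing.exists_algEquiv_matrix_divisionRing_finite K A
  have hcM : Algebra.IsCentral K (Matrix (Fin n) (Fin n) D) := isCentral_of_algEquiv' e
  have hcD : Algebra.IsCentral K D := by
    constructor
    intro z hz
    have h1 : Matrix.scalarAlgHom (Fin n) K z ∈ Subalgebra.center K (Matrix (Fin n) (Fin n) D) := by
      rw [Matrix.subalgebraCenter_eq_scalarAlgHom_map]
      exact ⟨z, hz, rfl⟩
    obtain ⟨c, hc⟩ := Algebra.mem_bot.mp (hcM.out h1)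
    refine Algebra.mem_bot.mpr ⟨c, ?_⟩
    have h2 := congr_fun (congr_fun hc 0) 0
    simpa [Matrix.algebraMap_matrix_apply] using h2
  have htop := bot_eq_top_of_isSepClosed (K := K) D
  have hbij : Function.Bijective (Algebra.ofId K D) := by
    refine ⟨(algebraMap K D).injective, fun d => ?_⟩
    have : d ∈ (⊥ : Subalgebra K D) := htop ▸ Algebra.mem_top
    exact Algebra.mem_bot.mp this
  refine ⟨n, hn.out, ⟨e.trans (AlgEquiv.mapMatrix (AlgEquiv.ofBijective _ hbij).symm)⟩⟩

end SepClosed

section Descent

variable {k : Type u} [Field k] {K : Type v} [Field K] [Algebra k K]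
  {A : Type w} [Ring A] [Algebra k A]

theorem tmul_one_injective : Function.Injective (fun a : A => (1 : K) ⊗ₜ[k] a) :=
  Algebra.TensorProduct.includeRight_injective (FaithfulSMul.algebraMap_injective k K)

theorem finiteDimensional_of_baseChange [Module.Finite K (K ⊗[k] A)] : FiniteDimensional k A := by
  have h1 : Module.rank K (K ⊗[k] A) < Cardinal.aleph0 := Module.rank_lt_aleph0_iff.mpr inferInstance
  rw [Module.rank_baseChange] at h1
  exact Module.rank_lt_aleph0_iff.mp (Cardinal.lift_lt_aleph0.mp h1)

theorem isCentral_of_baseChange [Algebra.IsCentral K (K ⊗[k] A)] : Algebra.IsCentral k A where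
  out := by
    classical
    intro z hz
    rw [Subalgebra.mem_center_iff] at hz
    have h1 : (1 : K) ⊗ₜ[k] z ∈ Subalgebra.center K (K ⊗[k] A) := by
      rw [Subalgebra.mem_center_iff]
      intro y
      induction y using TensorProduct.induction_on with
      | zero => simp
      | tmul c a => simp [Algebra.TensorProduct.tmul_mul_tmul, hz a]
      | add y w hy hw => rw [add_mul, mul_add, hy, hw]
    obtain ⟨c, hc⟩ := Algebra.mem_bot.mp (Algebra.IsCentral.out h1)
    rw [Algebra.TensorProduct.algebraMap_apply] at hc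
    let b := Module.Free.chooseBasis k K
    have h2 : ∀ i, b.repr c i • (1 : A) = b.repr 1 i • z := by
      intro i
      have := congr_arg (fun t => coords b t i) hc
      simp only [coords, TensorProduct.equivFinsuppOfBasisLeft_apply_tmul_apply] at this
      simpa using this
    obtain ⟨i, hi⟩ : ∃ i, b.repr 1 i ≠ 0 := by
      by_contra! h
      have : b.repr (1 : K) = 0 := Finsupp.ext h
      exact one_ne_zero (b.repr.map_eq_zero_iff.mp this)
    refine Algebra.mem_bot.mpr ⟨(b.repr 1 i)⁻¹ * b.repr c i, ?_⟩
    rw [Algebra.algebraMap_eq_smul_one, mul_smul, h2 i, smul_smul, inv_mul_cancel₀ hi, one_smul]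

theorem isSimpleRing_of_baseChange [IsSimpleRing (K ⊗[k] A)] : IsSimpleRing A := by
  have hnt : Nontrivial A := by
    by_contra h
    rw [not_nontrivial_iff_subsingleton] at h
    have : Subsingleton (K ⊗[k] A) := by
      refine ⟨fun x y => ?_⟩
      have h0 : ∀ t : K ⊗[k] A, t = 0 := by
        intro t
        induction t using TensorProduct.induction_on with
        | zero => rfl
        | tmul c a => rw [Subsingleton.elim a 0, TensorProduct.tmul_zero]
        | add y w hy hw => rw [hy, hw, add_zero]
      rw [h0 x, h0 y]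
    exact not_subsingleton (K ⊗[k] A) this
  refine IsSimpleRing.of_eq_bot_or_eq_top fun I => ?_
  let Q := I.ringCon.Quotient
  let q : A →ₐ[k] Q := I.ringCon.mkₐ k
  have hq : ∀ a, q a = 0 ↔ a ∈ I := by
    intro a
    rw [TwoSidedIdeal.mem_iff]
    exact RingCon.eq I.ringCon
  let f : K ⊗[k] A →ₐ[K] K ⊗[k] Q := Algebra.TensorProduct.map (AlgHom.id K K) q
  rcases IsSimpleRing.injective_ringHom_or_subsingleton_codomain f.toRingHom with hf | hf
  · left
    refine le_antisymm (fun a ha => ?_) bot_le
    have h1 : f ((1 : K) ⊗ₜ[k] a) = 0 := by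
      simp [f, (hq a).mpr ha]
    have h2 : (1 : K) ⊗ₜ[k] a = 0 := hf (by rw [map_zero]; exact h1)
    have h3 : a = 0 := tmul_one_injective (k := k) (K := K) (by
      show (1 : K) ⊗ₜ[k] a = (1 : K) ⊗ₜ[k] (0 : A)
      rw [h2, TensorProduct.tmul_zero])
    rw [h3]
    exact zero_mem _
  · right
    have h1 : (1 : K) ⊗ₜ[k] (q 1) = (1 : K) ⊗ₜ[k] (q 0) := Subsingleton.elim _ _
    have h2 : q 1 = q 0 := tmul_one_injective (k := k) (K := K) h1
    rw [map_zero, hq] at h2
    exact (TwoSidedIdeal.one_mem_iff I).mp h2

theorem csa_of_baseChange [Algebra.IsCentral K (K ⊗[k] A)] [IsSimpleRing (K ⊗[k] A)]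
    [Module.Finite K (K ⊗[k] A)] :
    Algebra.IsCentral k A ∧ IsSimpleRing A ∧ FiniteDimensional k A :=
  ⟨isCentral_of_baseChange (k := k) (K := K), isSimpleRing_of_baseChange (k := k) (K := K),
    finiteDimensional_of_baseChange (k := k) (K := K)⟩

end Descent

section DescendSplitting

variable {k : Type u} [Field k] {K : Type v} [Field K] [Algebra k K]
  {A : Type w} [Ring A] [Algebra k A] [Algebra.IsCentral k A] [IsSimpleRing A]
  [FiniteDimensional k A]

omit [Algebra.IsCentral k A] [IsSimpleRing A] [FiniteDimensional k A] in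
theorem finrank_eq_of_split {n : ℕ} (e : K ⊗[k] A ≃ₐ[K] Matrix (Fin n) (Fin n) K) :
    Module.finrank k A = n * n := by
  rw [← Module.finrank_baseChange (R := K), e.toLinearEquiv.finrank_eq, Module.finrank_matrix]
  simp

/-- a splitting over `K` whose matrix entries on `A` lie in a subfield `L` descends to `L` -/
theorem splits_of_entries_mem {n : ℕ} (hn : n ≠ 0)
    (e : K ⊗[k] A ≃ₐ[K] Matrix (Fin n) (Fin n) K)
    (L : IntermediateField k K) (hL : ∀ (a : A) (i j : Fin n), e (1 ⊗ₜ a) i j ∈ L) :
    Nonempty (L ⊗[k] A ≃ₐ[L] Matrix (Fin n) (Fin n) L) := by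
  have : NeZero n := ⟨hn⟩
  let g : A →ₐ[k] Matrix (Fin n) (Fin n) K :=
    (e.toAlgHom.restrictScalars k).comp Algebra.TensorProduct.includeRight
  have hg : ∀ a, g a = e (1 ⊗ₜ a) := fun a => rfl
  let ι : Matrix (Fin n) (Fin n) L →ₐ[k] Matrix (Fin n) (Fin n) K :=
    (IsScalarTower.toAlgHom k L K).mapMatrix
  have hι : Function.Injective ι := by
    intro M N hMN
    ext i j
    exact congr_fun (congr_fun hMN i) j
  have hrange : ∀ a, g a ∈ ι.range := by
    intro a
    refine ⟨Matrix.of fun i j => ⟨g a i j, hL a i j⟩, ?_⟩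
    ext i j
    rfl
  let g' : A →ₐ[k] Matrix (Fin n) (Fin n) L :=
    (AlgEquiv.ofInjective ι hι).symm.toAlgHom.comp (g.codRestrict ι.range hrange)
  let φ : L ⊗[k] A →ₐ[L] Matrix (Fin n) (Fin n) L :=
    Algebra.TensorProduct.lift (Algebra.ofId L _) g' (fun l a => Algebra.commutes l (g' a))
  have : IsSimpleRing (L ⊗[k] A) := isSimpleRing_tensor
  have hinj : Function.Injective φ := fun x y hxy => RingHom.injective φ.toRingHom hxy
  have hdim : Module.finrank L (L ⊗[k] A) = Module.finrank L (Matrix (Fin n) (Fin n) L) := by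
    rw [Module.finrank_baseChange, finrank_eq_of_split e, Module.finrank_matrix]
    simp
  have hsurj := (LinearMap.injective_iff_surjective_of_finrank_eq_finrank
    (f := φ.toLinearMap) hdim).mp hinj
  exact ⟨AlgEquiv.ofBijective φ ⟨hinj, hsurj⟩⟩

omit [Algebra.IsCentral k A] [IsSimpleRing A] in
theorem exists_finite_intermediateField_entries [Algebra.IsAlgebraic k K] {n : ℕ}
    (e : K ⊗[k] A ≃ₐ[K] Matrix (Fin n) (Fin n) K) :
    ∃ L : IntermediateField k K, FiniteDimensional k L ∧
      ∀ (a : A) (i j : Fin n), e (1 ⊗ₜ a) i j ∈ L := by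
  let b := Module.finBasis k A
  let g : A →ₐ[k] Matrix (Fin n) (Fin n) K :=
    (e.toAlgHom.restrictScalars k).comp Algebra.TensorProduct.includeRight
  have hg : ∀ a, g a = e (1 ⊗ₜ a) := fun a => rfl
  let T : Set K := Set.range
    (fun p : Fin (Module.finrank k A) × Fin n × Fin n => g (b p.1) p.2.1 p.2.2)
  have hT : Finite T := Set.finite_range _
  refine ⟨IntermediateField.adjoin k T,
    IntermediateField.finiteDimensional_adjoin
      (fun x _ => (Algebra.IsAlgebraic.isAlgebraic x).isIntegral), fun a i j => ?_⟩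
  rw [← hg]
  have ha : a = ∑ l, b.repr a l • b l := (b.sum_repr a).symm
  rw [ha, map_sum, Matrix.sum_apply]
  refine sum_mem fun l _ => ?_
  rw [map_smul, Matrix.smul_apply]
  refine IntermediateField.smul_mem _ ?_
  exact IntermediateField.subset_adjoin k T ⟨(l, i, j), rfl⟩

end DescendSplitting

end Groth.Agent.Lib.CSA
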