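import Mathlib.RingTheory.TensorProduct.Free
import Mathlib.LinearAlgebra.Matrix.Action
import Mathlib.LinearAlgebra.FreeModule.Finite.Matrix
import Mathlib.Data.Matrix.Composition
import Mathlib.LinearAlgebra.Matrix.Reindex
import Mathlib.LinearAlgebra.Matrix.ToLin
import Groth.Agent.Lib.CSASplit

set_option autoImplicit false
universe u v w
open scoped TensorProduct

namespace Groth.Agent.Lib.CSA

section BaseChangeMatrix

variable (k : Type u) [Field k] (K : Type v) [Field K] [Algebra k K]
  (A : Type w) [Ring A] [Algebra k A] [Algebra.IsCentral k A] [IsSimpleRing A]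
  [FiniteDimensional k A]

/-- the canonical map `K ⊗ Mₐ(A) → Mₐ(K ⊗ A)` -/
noncomputable def baseChangeMatrixHom (a : ℕ) :
    K ⊗[k] Matrix (Fin a) (Fin a) A →ₐ[K] Matrix (Fin a) (Fin a) (K ⊗[k] A) :=
  Algebra.TensorProduct.lift (Algebra.ofId K _)
    ((Algebra.TensorProduct.includeRight : A →ₐ[k] K ⊗[k] A).mapMatrix)
    (fun c _ => Algebra.commutes c _)

theorem baseChangeMatrixHom_bijective (a : ℕ) (ha : a ≠ 0) :
    Function.Bijective (baseChangeMatrixHom k K A a) := by
  have : NeZero a := ⟨ha⟩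
  have : IsSimpleRing (K ⊗[k] Matrix (Fin a) (Fin a) A) := isSimpleRing_tensor
  have hinj : Function.Injective (baseChangeMatrixHom k K A a) :=
    fun x y hxy => RingHom.injective (baseChangeMatrixHom k K A a).toRingHom hxy
  refine ⟨hinj, ?_⟩
  have hdim : Module.finrank K (K ⊗[k] Matrix (Fin a) (Fin a) A)
      = Module.finrank K (Matrix (Fin a) (Fin a) (K ⊗[k] A)) := by
    rw [Module.finrank_baseChange, Module.finrank_matrix, Module.finrank_matrix,
      Module.finrank_baseChange]
  exact (LinearMap.injective_iff_surjective_of_finrank_eq_finrank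
    (f := (baseChangeMatrixHom k K A a).toLinearMap) hdim).mp hinj

/-- `K ⊗ Mₐ(A) ≃ Mₐ(K ⊗ A)` for a central simple algebra `A` -/
noncomputable def baseChangeMatrixEquiv (a : ℕ) (ha : a ≠ 0) :
    K ⊗[k] Matrix (Fin a) (Fin a) A ≃ₐ[K] Matrix (Fin a) (Fin a) (K ⊗[k] A) :=
  AlgEquiv.ofBijective _ (baseChangeMatrixHom_bijective k K A a ha)

end BaseChangeMatrix

section MatrixMatrix

variable (K : Type u) [CommSemiring K] (R : Type v) [Semiring R] [Algebra K R]

/-- `Mₐ(M_s(R)) ≃ M_{a s}(R)` -/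
def matrixMatrixEquiv (a s : ℕ) :
    Matrix (Fin a) (Fin a) (Matrix (Fin s) (Fin s) R) ≃ₐ[K] Matrix (Fin (a * s)) (Fin (a * s)) R :=
  (Matrix.compAlgEquiv (Fin a) (Fin s) R K).trans (Matrix.reindexAlgEquiv K R finProdFinEquiv)

end MatrixMatrix

section Split2

variable {k : Type u} [Field k] {K : Type v} [Field K] [Algebra k K]
  {A : Type w} [Ring A] [Algebra k A] [Algebra.IsCentral k A] [IsSimpleRing A]
  [FiniteDimensional k A]
  {B : Type w} [Ring B] [Algebra k B] [Algebra.IsCentral k B] [IsSimpleRing B]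
  [FiniteDimensional k B]

/-- splitting fields only depend on the Brauer class -/
theorem splits_of_matrix_algEquiv {a b : ℕ} (ha : a ≠ 0) (hb : b ≠ 0)
    (e0 : Matrix (Fin a) (Fin a) A ≃ₐ[k] Matrix (Fin b) (Fin b) B)
    {t : ℕ} (ht : t ≠ 0) (eB : K ⊗[k] B ≃ₐ[K] Matrix (Fin t) (Fin t) K) :
    ∃ s : ℕ, s ≠ 0 ∧ Nonempty (K ⊗[k] A ≃ₐ[K] Matrix (Fin s) (Fin s) K) := by
  have : IsSimpleRing (K ⊗[k] A) := isSimpleRing_tensor
  have : IsArtinianRing (K ⊗[k] A) := IsArtinianRing.of_finite K _
  obtain ⟨s, hs, D, _, _, _, ⟨eA⟩⟩ :=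
    IsSimpleRing.exists_algEquiv_matrix_divisionRing_finite K (K ⊗[k] A)
  have hs0 : s ≠ 0 := hs.out
  -- the chain of isomorphisms
  let e1 : Matrix (Fin (a * s)) (Fin (a * s)) D ≃ₐ[K] K ⊗[k] Matrix (Fin a) (Fin a) A :=
    ((baseChangeMatrixEquiv k K A a ha).trans
      ((AlgEquiv.mapMatrix eA).trans (matrixMatrixEquiv K D a s))).symm
  let e2 : K ⊗[k] Matrix (Fin a) (Fin a) A ≃ₐ[K] K ⊗[k] Matrix (Fin b) (Fin b) B :=
    Algebra.TensorProduct.congr AlgEquiv.refl e0
  let e3 : K ⊗[k] Matrix (Fin b) (Fin b) B ≃ₐ[K] Matrix (Fin (b * t)) (Fin (b * t)) K :=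
    (baseChangeMatrixEquiv k K B b hb).trans
      ((AlgEquiv.mapMatrix eB).trans (matrixMatrixEquiv K K b t))
  obtain ⟨eD⟩ := divisionRing_algEquiv_of_matrix_algEquiv (k := K)
    (Nat.mul_ne_zero ha hs0) (Nat.mul_ne_zero hb ht) (e1.trans (e2.trans e3))
  exact ⟨s, hs0, ⟨eA.trans (AlgEquiv.mapMatrix eD)⟩⟩

end Split2

section Split1

variable {k : Type u} [Field k] {K : Type v} [Field K] [Algebra k K]
  {B : Type w} [Ring B] [Algebra k B]

/-- `B` as a `K`-vector space through right multiplication by a commutative subfield -/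
@[nolint unusedArguments]
def RightMod (_ι : K →ₐ[k] B) : Type w := B

namespace RightMod

variable (ι : K →ₐ[k] B)

instance : AddCommGroup (RightMod ι) := inferInstanceAs (AddCommGroup B)
instance : Module k (RightMod ι) := inferInstanceAs (Module k B)

/-- the identity to `B` -/
def toB : RightMod ι ≃ₗ[k] B := LinearEquiv.refl k B

lemma commute_map (x y : K) : Commute (ι x) (ι y) := by
  rw [commute_iff_eq, ← map_mul, ← map_mul, mul_comm]

instance : Module K (RightMod ι) :=
  Module.compHom B (ι.toOpposite (commute_map ι)).toRingHom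

lemma toB_smul (c : K) (x : RightMod ι) : toB ι (c • x) = toB ι x * ι c := rfl

instance : IsScalarTower k K (RightMod ι) where
  smul_assoc r c x := by
    apply (toB ι).injective
    rw [toB_smul, map_smul, (toB ι).map_smul, toB_smul, Algebra.mul_smul_comm]

instance [FiniteDimensional k B] : FiniteDimensional k (RightMod ι) :=
  inferInstanceAs (FiniteDimensional k B)

/-- left multiplication as a `K`-linear endomorphism -/
noncomputable def leftMul : B →ₐ[k] Module.End K (RightMod ι) where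
  toFun b :=
    { toFun := fun x => (toB ι).symm (b * toB ι x)
      map_add' := fun x y => by rw [map_add, mul_add, map_add]
      map_smul' := fun c x => by
        apply (toB ι).injective
        simp only [RingHom.id_apply, LinearEquiv.apply_symm_apply, toB_smul, mul_assoc] }
  map_one' := by ext x; apply (toB ι).injective; simp
  map_mul' b b' := by ext x; apply (toB ι).injective; simp [mul_assoc]
  map_zero' := by ext x; apply (toB ι).injective; simp
  map_add' b b' := by ext x; apply (toB ι).injective; simp [add_mul]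
  commutes' r := by
    ext x
    apply (toB ι).injective
    simp [Algebra.smul_def]

end RightMod

theorem splits_of_subfield [Algebra.IsCentral k B] [IsSimpleRing B] [FiniteDimensional k B]
    [FiniteDimensional k K] (ι : K →ₐ[k] B)
    (h : Module.finrank k B = Module.finrank k K ^ 2) :
    Nonempty (K ⊗[k] B ≃ₐ[K] Matrix (Fin (Module.finrank k K)) (Fin (Module.finrank k K)) K) := by
  set d := Module.finrank k K with hd
  have hdpos : 0 < d := Module.finrank_pos
  have : Module.Finite K (RightMod ι) := Module.Finite.of_restrictScalars_finite k K _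
  have hW : Module.finrank K (RightMod ι) = d := by
    have h1 := Module.finrank_mul_finrank k K (RightMod ι)
    have h2 : Module.finrank k (RightMod ι) = d ^ 2 := h
    rw [h2, ← hd, sq] at h1
    exact Nat.eq_of_mul_eq_mul_left hdpos h1
  let φ : K ⊗[k] B →ₐ[K] Module.End K (RightMod ι) :=
    Algebra.TensorProduct.lift (Algebra.ofId K _) (RightMod.leftMul ι)
      (fun c _ => Algebra.commutes c _)
  have : IsSimpleRing (K ⊗[k] B) := isSimpleRing_tensor
  have : Nontrivial (RightMod ι) := Module.nontrivial_of_finrank_pos (R := K) (by rw [hW]; exact hdpos)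
  have hinj : Function.Injective φ := fun x y hxy => RingHom.injective φ.toRingHom hxy
  have hdim : Module.finrank K (K ⊗[k] B) = Module.finrank K (Module.End K (RightMod ι)) := by
    rw [Module.finrank_baseChange, h, Module.finrank_linearMap, hW, sq]
  have hsurj := (LinearMap.injective_iff_surjective_of_finrank_eq_finrank
    (f := φ.toLinearMap) hdim).mp hinj
  exact ⟨(AlgEquiv.ofBijective φ ⟨hinj, hsurj⟩).trans
    (algEquivMatrix (Module.finBasisOfFinrankEq K (RightMod ι) hW))⟩

end Split1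

section EndStructure

variable {k : Type u} [Field k] {R : Type v} [Ring R] [Algebra k R]
  {D : Type w} [DivisionRing D] [Algebra k D] [FiniteDimensional k D]

/-- If `R ≃ M_s(D)`, then for a nonzero f.d. `R`-module `M`, `(End_R M)ᵐᵒᵖ ≃ M_r(D)` -/
theorem exists_end_mop_algEquiv_matrix {s : ℕ} (hs : s ≠ 0)
    (e : R ≃ₐ[k] Matrix (Fin s) (Fin s) D)
    (M : Type*) [AddCommGroup M] [Module k M] [Module R M] [IsScalarTower k R M]
    [FiniteDimensional k M] [Nontrivial M] :
    ∃ r : ℕ, r ≠ 0 ∧ Nonempty ((Module.End R M)ᵐᵒᵖ ≃ₐ[k] Matrix (Fin r) (Fin r) D) := by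
  have : NeZero s := ⟨hs⟩
  have : IsSimpleRing R := IsSimpleRing.of_ringEquiv e.symm.toRingEquiv inferInstance
  have : FiniteDimensional k R := Module.Finite.equiv e.symm.toLinearEquiv
  obtain ⟨S₀, hS₀⟩ := exists_simple_ideal k R
  obtain ⟨r, ⟨φ⟩⟩ := exists_linearEquiv_fun (k := k) S₀ M
  have hr : r ≠ 0 := by
    rintro rfl
    exact not_subsingleton M (φ.toEquiv.subsingleton)
  obtain ⟨eS⟩ := end_simple_algEquiv (k := k) hs e S₀
  let e1 : Module.End R M ≃ₐ[k] (Matrix (Fin r) (Fin r) D)ᵐᵒᵖ :=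
    (φ.conjAlgEquiv k).trans ((endVecAlgEquivMatrixEnd (Fin r) k R S₀).trans
      ((AlgEquiv.mapMatrix eS).trans AlgEquiv.mopMatrix))
  exact ⟨r, hr, ⟨(AlgEquiv.op e1).trans (AlgEquiv.opOp k _).symm⟩⟩

end EndStructure

section SplitsToBrauer

variable {k : Type u} [Field k] {K : Type v} [Field K] [Algebra k K]
  {A : Type w} [Ring A] [Algebra k A] {n : ℕ}

/-- the representation of `A` on `Kⁿ` given by a splitting -/
noncomputable def splitRep (e : K ⊗[k] A ≃ₐ[K] Matrix (Fin n) (Fin n) K) :
    A →ₐ[k] Module.End k (Fin n → K) :=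
  (pullbackRep (e.restrictScalars k) (Fin n → K)).comp Algebra.TensorProduct.includeRight

lemma splitRep_apply (e : K ⊗[k] A ≃ₐ[K] Matrix (Fin n) (Fin n) K) (a : A) (v : Fin n → K) :
    splitRep e a v = (e (1 ⊗ₜ a)).mulVec v := rfl

/-- `Kⁿ` as an `A`-module -/
abbrev SplitMod (e : K ⊗[k] A ≃ₐ[K] Matrix (Fin n) (Fin n) K) : Type v := RepModule (splitRep e)

/-- the identity `SplitMod e ≃ Kⁿ` -/
noncomputable abbrev SplitMod.toV (e : K ⊗[k] A ≃ₐ[K] Matrix (Fin n) (Fin n) K) :
    SplitMod e ≃ₗ[k] (Fin n → K) := RepModule.equiv (splitRep e)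

lemma SplitMod.toV_smul (e : K ⊗[k] A ≃ₐ[K] Matrix (Fin n) (Fin n) K) (a : A) (x : SplitMod e) :
    SplitMod.toV e (a • x) = (e (1 ⊗ₜ a)).mulVec (SplitMod.toV e x) := rfl

/-- scalar multiplication by `K` as `A`-linear endomorphisms of `Kⁿ` -/
noncomputable def scalarEnd (e : K ⊗[k] A ≃ₐ[K] Matrix (Fin n) (Fin n) K) :
    K →ₐ[k] Module.End A (SplitMod e) where
  toFun c :=
    { toFun := fun x => (SplitMod.toV e).symm (c • SplitMod.toV e x)
      map_add' := fun x y => by rw [map_add, smul_add, map_add]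
      map_smul' := fun a x => by
        apply (SplitMod.toV e).injective
        simp only [RingHom.id_apply, LinearEquiv.apply_symm_apply, SplitMod.toV_smul,
          Matrix.mulVec_smul] }
  map_one' := by ext x; apply (SplitMod.toV e).injective; simp
  map_mul' c c' := by ext x; apply (SplitMod.toV e).injective; simp [mul_smul]
  map_zero' := by ext x; apply (SplitMod.toV e).injective; simp
  map_add' c c' := by ext x; apply (SplitMod.toV e).injective; simp [add_smul]
  commutes' r := by
    ext x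
    apply (SplitMod.toV e).injective
    simp [Module.algebraMap_end_apply]

lemma scalarEnd_commute (e : K ⊗[k] A ≃ₐ[K] Matrix (Fin n) (Fin n) K) (c c' : K) :
    Commute (scalarEnd e c) (scalarEnd e c') := by
  rw [commute_iff_eq, ← map_mul, ← map_mul, mul_comm]

variable [FiniteDimensional k K] [Algebra.IsCentral k A] [IsSimpleRing A] [FiniteDimensional k A]

theorem exists_brauer_of_splits (hn : n ≠ 0) (e : K ⊗[k] A ≃ₐ[K] Matrix (Fin n) (Fin n) K) :
    ∃ (B : Type v) (_ : Ring B) (_ : Algebra k B) (_ : Algebra.IsCentral k B)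
      (_ : IsSimpleRing B) (_ : FiniteDimensional k B) (_ : K →ₐ[k] B) (a b : ℕ),
      a ≠ 0 ∧ b ≠ 0 ∧ Nonempty (Matrix (Fin a) (Fin a) A ≃ₐ[k] Matrix (Fin b) (Fin b) B) ∧
      Module.finrank k B = Module.finrank k K ^ 2 := by
  have : NeZero n := ⟨hn⟩
  have : IsArtinianRing A := IsArtinianRing.of_finite k A
  obtain ⟨s, hs, D, _, _, _, ⟨eA⟩⟩ := IsSimpleRing.exists_algEquiv_matrix_divisionRing_finite k A
  have hs0 : s ≠ 0 := hs.out
  have : Nontrivial (SplitMod e) := (SplitMod.toV e).toEquiv.nontrivial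
  obtain ⟨r, hr, ⟨eB⟩⟩ := exists_end_mop_algEquiv_matrix (k := k) hs0 eA (SplitMod e)
  have : NeZero r := ⟨hr⟩
  -- D is central
  have hcM : Algebra.IsCentral k (Matrix (Fin s) (Fin s) D) := isCentral_of_algEquiv' eA
  have hcD : Algebra.IsCentral k D := by
    constructor
    intro z hz
    have h1 : Matrix.scalarAlgHom (Fin s) k z ∈ Subalgebra.center k (Matrix (Fin s) (Fin s) D) := by
      rw [Matrix.subalgebraCenter_eq_scalarAlgHom_map]
      exact ⟨z, hz, rfl⟩
    obtain ⟨c, hc⟩ := Algebra.mem_bot.mp (hcM.out h1)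
    refine Algebra.mem_bot.mpr ⟨c, ?_⟩
    have h2 := congr_fun (congr_fun hc 0) 0
    simpa [Matrix.algebraMap_matrix_apply] using h2
  have hB1 : Algebra.IsCentral k (Module.End A (SplitMod e))ᵐᵒᵖ := isCentral_of_algEquiv' eB.symm
  have hB2 : IsSimpleRing (Module.End A (SplitMod e))ᵐᵒᵖ :=
    IsSimpleRing.of_ringEquiv eB.symm.toRingEquiv inferInstance
  have hB3 : FiniteDimensional k (Module.End A (SplitMod e))ᵐᵒᵖ :=
    Module.Finite.equiv eB.symm.toLinearEquiv
  refine ⟨(Module.End A (SplitMod e))ᵐᵒᵖ, inferInstance, inferInstance, hB1, hB2, hB3,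
    (scalarEnd e).toOpposite (scalarEnd_commute e), r, s, hr, hs0, ?_, ?_⟩
  · -- M_r(A) ≃ M_r(M_s(D)) ≃ M_{rs}(D) ≃ M_{sr}(D) ≃ M_s(M_r(D)) ≃ M_s(B)
    refine ⟨(AlgEquiv.mapMatrix eA).trans ((matrixMatrixEquiv k D r s).trans
      ((Matrix.reindexAlgEquiv k D (finCongr (mul_comm r s))).trans
        ((matrixMatrixEquiv k D s r).symm.trans (AlgEquiv.mapMatrix eB.symm))))⟩
  · have h1 := finrank_mul_finrank_end (k := k) (R := A) (M := SplitMod e)
    have h2 : Module.finrank k (SplitMod e) = n * Module.finrank k K := by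
      rw [(SplitMod.toV e).finrank_eq, Module.finrank_pi_fintype]
      simp
    have h3 : Module.finrank k A = n * n := finrank_eq_of_split e
    have h4 : Module.finrank k (Module.End A (SplitMod e))ᵐᵒᵖ
        = Module.finrank k (Module.End A (SplitMod e)) :=
      (MulOpposite.opLinearEquiv k).symm.finrank_eq
    rw [h4]
    rw [h2, h3] at h1
    have hn' : 0 < n * n := Nat.mul_pos (Nat.pos_of_ne_zero hn) (Nat.pos_of_ne_zero hn)
    have : n * n * Module.finrank k (Module.End A (SplitMod e))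
        = n * n * Module.finrank k K ^ 2 := by rw [h1]; ring
    exact Nat.eq_of_mul_eq_mul_left hn' this

end SplitsToBrauer

end Groth.Agent.Lib.CSA
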