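import Mathlib
import Groth.Agent.Lib.CSA
import Groth.Agent.Lib.CSASplit

/-!
# Tensor powers `⨂[k] _ : Fin e, A` of algebras: algebra isomorphisms

helper16.  `tpowZeroEquiv : tpow 0 ≃ₐ k`, `tpowSuccEquiv : tpow (e+1) ≃ₐ tpow e ⊗ A`,
`tpowCongr`, and central simplicity of tensor powers.
-/

universe u v w

open scoped TensorProduct

namespace Groth.Agent.Lib.CSATpow

section Mul

variable {k : Type u} [CommSemiring k] {ι : Type*} [Fintype ι] {A : Type v} [Semiring A] [Algebra k A]
  {S : Type w} [Semiring S] [Algebra k S]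

/-- a linear map out of a tensor power which is multiplicative on pure tensors is multiplicative -/
theorem map_mul_of_tprod (l : (⨂[k] _ : ι, A) →ₗ[k] S)
    (h : ∀ f g : ι → A, l (PiTensorProduct.tprod k (f * g))
      = l (PiTensorProduct.tprod k f) * l (PiTensorProduct.tprod k g))
    (x y : ⨂[k] _ : ι, A) : l (x * y) = l x * l y := by
  induction x using PiTensorProduct.induction_on with
  | smul_tprod r f =>
    induction y using PiTensorProduct.induction_on with
    | smul_tprod s g =>
      rw [PiTensorProduct.smul_tprod_mul_smul_tprod, map_smul, map_smul, map_smul, h,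
        smul_mul_smul_comm]
    | add y z hy hz => rw [mul_add, map_add, map_add, mul_add, hy, hz]
  | add x z hx hz => rw [add_mul, map_add, map_add, add_mul, hx, hz]

end Mul

section Equivs

variable (k : Type u) [CommRing k] (A : Type v) [Ring A] [Algebra k A]

/-- the zeroth tensor power is the base ring -/
noncomputable def tpowZeroEquiv : (⨂[k] _ : Fin 0, A) ≃ₐ[k] k :=
  AlgEquiv.ofLinearEquiv (PiTensorProduct.isEmptyEquiv (Fin 0))
    (by rw [PiTensorProduct.one_def, PiTensorProduct.isEmptyEquiv_apply_tprod])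
    (map_mul_of_tprod (PiTensorProduct.isEmptyEquiv (Fin 0) : (⨂[k] _ : Fin 0, A) ≃ₗ[k] k).toLinearMap
      (fun f g => by simp))

/-- the linear equivalence underlying `tpowSuccEquiv` -/
noncomputable def tpowSuccLinearEquiv (e : ℕ) :
    (⨂[k] _ : Fin (e + 1), A) ≃ₗ[k] (⨂[k] _ : Fin e, A) ⊗[k] A :=
  (PiTensorProduct.reindex k (fun _ : Fin (e + 1) => A) finSumFinEquiv.symm).trans
    ((PiTensorProduct.tmulEquiv k A).symm.trans
      (TensorProduct.congr (LinearEquiv.refl k _) (PiTensorProduct.subsingletonEquiv (0 : Fin 1))))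

theorem tpowSuccLinearEquiv_tprod (e : ℕ) (f : Fin (e + 1) → A) :
    tpowSuccLinearEquiv k A e (PiTensorProduct.tprod k f)
      = PiTensorProduct.tprod k (fun i : Fin e => f i.castSucc) ⊗ₜ[k] f (Fin.last e) := by
  simp only [tpowSuccLinearEquiv, LinearEquiv.trans_apply, PiTensorProduct.reindex_tprod,
    PiTensorProduct.tmulEquiv_symm_apply, TensorProduct.congr_tmul, LinearEquiv.refl_apply,
    PiTensorProduct.subsingletonEquiv_apply_tprod]
  congr 1

/-- `tpow (e+1) ≃ₐ tpow e ⊗ A` -/
noncomputable def tpowSuccEquiv (e : ℕ) :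
    (⨂[k] _ : Fin (e + 1), A) ≃ₐ[k] (⨂[k] _ : Fin e, A) ⊗[k] A :=
  AlgEquiv.ofLinearEquiv (tpowSuccLinearEquiv k A e)
    (by
      rw [PiTensorProduct.one_def, tpowSuccLinearEquiv_tprod]
      rfl)
    (map_mul_of_tprod (tpowSuccLinearEquiv k A e).toLinearMap (fun f g => by
      simp only [LinearEquiv.coe_coe, tpowSuccLinearEquiv_tprod,
        Algebra.TensorProduct.tmul_mul_tmul, PiTensorProduct.tprod_mul_tprod]
      rfl))

variable {A} in
/-- functoriality of tensor powers in algebra isomorphisms -/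
noncomputable def tpowCongr {B : Type w} [Ring B] [Algebra k B] (φ : A ≃ₐ[k] B) (e : ℕ) :
    (⨂[k] _ : Fin e, A) ≃ₐ[k] (⨂[k] _ : Fin e, B) :=
  AlgEquiv.ofLinearEquiv (PiTensorProduct.congr (fun _ => φ.toLinearEquiv))
    (by
      rw [PiTensorProduct.one_def, PiTensorProduct.congr_tprod]
      simp [PiTensorProduct.one_def, Pi.one_def])
    (map_mul_of_tprod (PiTensorProduct.congr (fun _ : Fin e => φ.toLinearEquiv)).toLinearMap
      (fun f g => by
        simp only [LinearEquiv.coe_coe, PiTensorProduct.congr_tprod,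
          PiTensorProduct.tprod_mul_tprod]
        congr 1
        funext i
        simp))

end Equivs

section Central

variable {k : Type u} [Field k] {B : Type v} {C : Type w} [Ring B] [Ring C] [Algebra k B]
  [Algebra k C]

/-- the tensor product of central algebras over a field is central -/
theorem isCentral_tensor [Nontrivial B] [Algebra.IsCentral k B] [Algebra.IsCentral k C] :
    Algebra.IsCentral k (B ⊗[k] C) := by
  constructor
  intro z hz
  have hz' := (Subalgebra.mem_center_iff (R := k)).mp hz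
  -- `z` centralizes `B ⊗ 1`, hence `z = 1 ⊗ c`
  have h1 : z ∈ Subalgebra.centralizer k
      ((Algebra.TensorProduct.includeLeft : B →ₐ[k] B ⊗[k] C).range : Set (B ⊗[k] C)) := by
    rw [Subalgebra.mem_centralizer_iff]
    intro g _
    exact hz' g
  rw [Subalgebra.centralizer_coe_range_includeLeft_eq_center_tensorProduct] at h1
  obtain ⟨w, hw⟩ := h1
  have hform : ∀ w : (Subalgebra.center k B) ⊗[k] C, ∃ c : C,
      Algebra.TensorProduct.map (Subalgebra.center k B).val (AlgHom.id k C) w = 1 ⊗ₜ[k] c := by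
    intro w
    induction w using TensorProduct.induction_on with
    | zero => exact ⟨0, by simp⟩
    | tmul b c =>
      obtain ⟨r, hr⟩ := Algebra.mem_bot.mp (Algebra.IsCentral.out b.2)
      refine ⟨r • c, ?_⟩
      rw [Algebra.TensorProduct.map_tmul, Subalgebra.coe_val, ← hr, Algebra.algebraMap_eq_smul_one,
        TensorProduct.smul_tmul, AlgHom.coe_id, id]
    | add x y hx hy =>
      obtain ⟨c, hc⟩ := hx
      obtain ⟨c', hc'⟩ := hy
      exact ⟨c + c', by rw [map_add, hc, hc', TensorProduct.tmul_add]⟩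
  obtain ⟨c, hc⟩ := hform w
  have hzc : z = 1 ⊗ₜ[k] c := by rw [← hw]; exact hc
  have hinj : Function.Injective (Algebra.TensorProduct.includeRight : C →ₐ[k] B ⊗[k] C) :=
    Algebra.TensorProduct.includeRight_injective (FaithfulSMul.algebraMap_injective k B)
  have hcc : c ∈ Subalgebra.center k C := by
    rw [Subalgebra.mem_center_iff]
    intro c'
    apply hinj
    have := hz' (1 ⊗ₜ[k] c')
    rw [hzc, Algebra.TensorProduct.tmul_mul_tmul, Algebra.TensorProduct.tmul_mul_tmul] at this
    simpa using this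
  obtain ⟨r, hr⟩ := Algebra.mem_bot.mp (Algebra.IsCentral.out hcc)
  rw [Algebra.mem_bot]
  refine ⟨r, ?_⟩
  rw [hzc, ← hr, Algebra.TensorProduct.algebraMap_apply, Algebra.algebraMap_eq_smul_one,
    Algebra.algebraMap_eq_smul_one, TensorProduct.smul_tmul]

end Central

section CSA

variable (k : Type u) [Field k] (A : Type v) [Ring A] [Algebra k A]

/-- tensor powers of a central simple algebra are central simple -/
theorem tpow_csa [Algebra.IsCentral k A] [IsSimpleRing A] [FiniteDimensional k A] (e : ℕ) :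
    FiniteDimensional k (⨂[k] _ : Fin e, A) ∧ Algebra.IsCentral k (⨂[k] _ : Fin e, A) ∧
      IsSimpleRing (⨂[k] _ : Fin e, A) ∧
      Module.finrank k (⨂[k] _ : Fin e, A) = Module.finrank k A ^ e := by
  induction e with
  | zero =>
    refine ⟨Module.Finite.equiv (tpowZeroEquiv k A).symm.toLinearEquiv,
      Groth.Agent.Lib.CSA.isCentral_of_algEquiv' (tpowZeroEquiv k A).symm,
      IsSimpleRing.of_ringEquiv (tpowZeroEquiv k A).symm.toRingEquiv inferInstance, ?_⟩
    rw [(tpowZeroEquiv k A).toLinearEquiv.finrank_eq, Module.finrank_self, pow_zero]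
  | succ e ih =>
    obtain ⟨h1, h2, h3, h4⟩ := ih
    have hs : IsSimpleRing ((⨂[k] _ : Fin e, A) ⊗[k] A) := Groth.Agent.Lib.CSA.isSimpleRing_tensor
    have hc : Algebra.IsCentral k ((⨂[k] _ : Fin e, A) ⊗[k] A) := isCentral_tensor
    refine ⟨Module.Finite.equiv (tpowSuccEquiv k A e).symm.toLinearEquiv,
      Groth.Agent.Lib.CSA.isCentral_of_algEquiv' (tpowSuccEquiv k A e).symm,
      IsSimpleRing.of_ringEquiv (tpowSuccEquiv k A e).symm.toRingEquiv hs, ?_⟩
    rw [(tpowSuccEquiv k A e).toLinearEquiv.finrank_eq, Module.finrank_tensorProduct, h4, pow_succ]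

end CSA

end Groth.Agent.Lib.CSATpow
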