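import Mathlib
import Groth.Prelude.Def_GSzCSA
import Groth.Agent.Lib.CSATpow
import Groth.Agent.Lib.CSABrauer
import Groth.Agent.Lib.CSAWedderburn

/-!
# Brauer equivalence of plain algebras and arithmetic of tensor powers

helper16.  `BrEq k A B` (matrix algebras over `A`, `B` isomorphic), compatibility with tensor
products, `Curves.Splits k B k ↔ BrEq k B k` for central simple `B`, and the structure of
`{e | tpow k A e splits}`.
-/

universe u v w x

open scoped TensorProduct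

namespace Groth.Agent.Lib.CSABrArith

open Groth.Agent.Lib.CSA Groth.Agent.Lib.CSATpow

section BrEq

variable (k : Type u) [Field k]

/-- Brauer equivalence of (plain) algebras -/
def BrEq (A : Type v) (B : Type w) [Ring A] [Ring B] [Algebra k A] [Algebra k B] : Prop :=
  ∃ n m : ℕ, n ≠ 0 ∧ m ≠ 0 ∧
    Nonempty (Matrix (Fin n) (Fin n) A ≃ₐ[k] Matrix (Fin m) (Fin m) B)

variable {k} {A : Type v} {B : Type w} {C : Type x} [Ring A] [Ring B] [Ring C]
  [Algebra k A] [Algebra k B] [Algebra k C]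

theorem BrEq.of_algEquiv (e : A ≃ₐ[k] B) : BrEq k A B :=
  ⟨1, 1, one_ne_zero, one_ne_zero, ⟨AlgEquiv.mapMatrix e⟩⟩

theorem BrEq.refl (A : Type v) [Ring A] [Algebra k A] : BrEq k A A :=
  BrEq.of_algEquiv AlgEquiv.refl

theorem BrEq.symm (h : BrEq k A B) : BrEq k B A := by
  obtain ⟨n, m, hn, hm, ⟨e⟩⟩ := h
  exact ⟨m, n, hm, hn, ⟨e.symm⟩⟩

theorem BrEq.trans (h1 : BrEq k A B) (h2 : BrEq k B C) : BrEq k A C := by
  obtain ⟨n, m, hn, hm, ⟨e1⟩⟩ := h1
  obtain ⟨p, q, hp, hq, ⟨e2⟩⟩ := h2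
  refine ⟨p * n, m * q, Nat.mul_ne_zero hp hn, Nat.mul_ne_zero hm hq, ⟨?_⟩⟩
  exact (matrixMatrixEquiv k A p n).symm.trans <|
    (AlgEquiv.mapMatrix e1).trans <|
    (matrixMatrixEquiv k B p m).trans <|
    (Matrix.reindexAlgEquiv k B (finCongr (mul_comm p m))).trans <|
    (matrixMatrixEquiv k B m p).symm.trans <|
    (AlgEquiv.mapMatrix e2).trans <|
    (matrixMatrixEquiv k C m q)

/-- matrices commute with tensor products -/
noncomputable def matrixTensorEquiv (n : ℕ) :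
    Matrix (Fin n) (Fin n) (A ⊗[k] C) ≃ₐ[k] Matrix (Fin n) (Fin n) A ⊗[k] C :=
  (matrixEquivTensor (Fin n) k (A ⊗[k] C)).trans <|
    (Algebra.TensorProduct.assoc k k k A C (Matrix (Fin n) (Fin n) k)).trans <|
    (Algebra.TensorProduct.congr AlgEquiv.refl
      (Algebra.TensorProduct.comm k C (Matrix (Fin n) (Fin n) k))).trans <|
    (Algebra.TensorProduct.assoc k k k A (Matrix (Fin n) (Fin n) k) C).symm.trans <|
    Algebra.TensorProduct.congr (matrixEquivTensor (Fin n) k A).symm AlgEquiv.refl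

theorem BrEq.tensor_right (h : BrEq k A B) (C : Type x) [Ring C] [Algebra k C] :
    BrEq k (A ⊗[k] C) (B ⊗[k] C) := by
  obtain ⟨n, m, hn, hm, ⟨e⟩⟩ := h
  exact ⟨n, m, hn, hm, ⟨(matrixTensorEquiv n).trans <|
    (Algebra.TensorProduct.congr e AlgEquiv.refl).trans (matrixTensorEquiv m).symm⟩⟩

theorem BrEq.tensor_left (h : BrEq k A B) (C : Type x) [Ring C] [Algebra k C] :
    BrEq k (C ⊗[k] A) (C ⊗[k] B) :=
  (BrEq.of_algEquiv (Algebra.TensorProduct.comm k C A)).trans <|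
    (h.tensor_right C).trans (BrEq.of_algEquiv (Algebra.TensorProduct.comm k B C))

theorem BrEq.tensor {A' : Type*} {B' : Type*} [Ring A'] [Ring B'] [Algebra k A'] [Algebra k B']
    (h : BrEq k A B) (h' : BrEq k A' B') : BrEq k (A ⊗[k] A') (B ⊗[k] B') :=
  (h.tensor_right A').trans (h'.tensor_left B)

theorem brEq_tensor_self_left : BrEq k (k ⊗[k] A) A :=
  BrEq.of_algEquiv (Algebra.TensorProduct.lid k A)

theorem brEq_tensor_self_right : BrEq k (A ⊗[k] k) A :=
  BrEq.of_algEquiv (Algebra.TensorProduct.rid k k A)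

theorem brEq_matrix (n : ℕ) (hn : n ≠ 0) : BrEq k (Matrix (Fin n) (Fin n) A) A :=
  ⟨1, 1 * n, one_ne_zero, Nat.mul_ne_zero one_ne_zero hn, ⟨matrixMatrixEquiv k A 1 n⟩⟩

end BrEq

section Splits

variable {k : Type u} [Field k] {B : Type v} [Ring B] [Algebra k B]

theorem brEq_of_splits (h : Curves.Splits k B k) : BrEq k B k := by
  obtain ⟨n, hn, ⟨e⟩⟩ := h
  exact (BrEq.of_algEquiv ((Algebra.TensorProduct.lid k B).symm.trans e)).trans (brEq_matrix n hn)

theorem splits_of_brEq [IsSimpleRing B] [FiniteDimensional k B] (h : BrEq k B k) :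
    Curves.Splits k B k := by
  obtain ⟨a, b, ha, hb, ⟨e⟩⟩ := h
  have : IsArtinianRing B := IsArtinianRing.of_finite k B
  obtain ⟨s, hs, D, _, _, _, ⟨eB⟩⟩ := IsSimpleRing.exists_algEquiv_matrix_divisionRing_finite k B
  have hs0 : s ≠ 0 := hs.out
  let e1 : Matrix (Fin (a * s)) (Fin (a * s)) D ≃ₐ[k] Matrix (Fin b) (Fin b) k :=
    (matrixMatrixEquiv k D a s).symm.trans ((AlgEquiv.mapMatrix eB).symm.trans e)
  obtain ⟨eD⟩ := divisionRing_algEquiv_of_matrix_algEquiv (k := k)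
    (Nat.mul_ne_zero ha hs0) hb e1
  exact ⟨s, hs0, ⟨(Algebra.TensorProduct.lid k B).trans (eB.trans (AlgEquiv.mapMatrix eD))⟩⟩

theorem splits_iff_brEq [IsSimpleRing B] [FiniteDimensional k B] :
    Curves.Splits k B k ↔ BrEq k B k :=
  ⟨brEq_of_splits, splits_of_brEq⟩

end Splits

section Tpow

variable (k : Type u) [Field k] (A : Type v) [Ring A] [Algebra k A]

theorem brEq_tpow_add (a b : ℕ) :
    BrEq k (⨂[k] _ : Fin (a + b), A) ((⨂[k] _ : Fin a, A) ⊗[k] (⨂[k] _ : Fin b, A)) := by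
  induction b with
  | zero =>
    exact brEq_tensor_self_right.symm.trans
      ((BrEq.of_algEquiv (tpowZeroEquiv k A)).symm.tensor_left _)
  | succ b ih =>
    have h1 : BrEq k (⨂[k] _ : Fin (a + (b + 1)), A) ((⨂[k] _ : Fin (a + b), A) ⊗[k] A) :=
      BrEq.of_algEquiv (tpowSuccEquiv k A (a + b))
    have h2 := ih.tensor_right A
    have h3 : BrEq k (((⨂[k] _ : Fin a, A) ⊗[k] (⨂[k] _ : Fin b, A)) ⊗[k] A)
        ((⨂[k] _ : Fin a, A) ⊗[k] ((⨂[k] _ : Fin b, A) ⊗[k] A)) :=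
      BrEq.of_algEquiv (Algebra.TensorProduct.assoc k k k _ _ _)
    have h4 : BrEq k ((⨂[k] _ : Fin b, A) ⊗[k] A) (⨂[k] _ : Fin (b + 1), A) :=
      (BrEq.of_algEquiv (tpowSuccEquiv k A b)).symm
    exact h1.trans (h2.trans (h3.trans (h4.tensor_left _)))

theorem brEq_tpow_one : BrEq k (⨂[k] _ : Fin 1, A) A :=
  (BrEq.of_algEquiv (tpowSuccEquiv k A 0)).trans
    (((BrEq.of_algEquiv (tpowZeroEquiv k A)).tensor_right A).trans brEq_tensor_self_left)

/-- tensor powers only depend on the Brauer class -/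
theorem brEq_tpow_congr {B : Type w} [Ring B] [Algebra k B] (h : BrEq k A B) (e : ℕ) :
    BrEq k (⨂[k] _ : Fin e, A) (⨂[k] _ : Fin e, B) := by
  induction e with
  | zero => exact (BrEq.of_algEquiv (tpowZeroEquiv k A)).trans (BrEq.of_algEquiv (tpowZeroEquiv k B)).symm
  | succ e ih =>
    exact (BrEq.of_algEquiv (tpowSuccEquiv k A e)).trans
      ((ih.tensor h).trans (BrEq.of_algEquiv (tpowSuccEquiv k B e)).symm)

/-- iterated tensor powers -/
theorem brEq_tpow_tpow (r m : ℕ) :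
    BrEq k (⨂[k] _ : Fin m, (⨂[k] _ : Fin r, A)) (⨂[k] _ : Fin (r * m), A) := by
  induction m with
  | zero =>
    exact (BrEq.of_algEquiv (tpowZeroEquiv k _)).trans (BrEq.of_algEquiv (tpowZeroEquiv k A)).symm
  | succ m ih =>
    have h1 := BrEq.of_algEquiv (tpowSuccEquiv k (⨂[k] _ : Fin r, A) m)
    have h2 := ih.tensor_right (⨂[k] _ : Fin r, A)
    have h3 := (brEq_tpow_add k A (r * m) r).symm
    exact h1.trans (h2.trans h3)

end Tpow

section Period

variable (k : Type u) [Field k] (A : Type v) [Ring A] [Algebra k A]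
  [Algebra.IsCentral k A] [IsSimpleRing A] [FiniteDimensional k A]

theorem splits_tpow_iff_brEq (e : ℕ) :
    Curves.Splits k (⨂[k] _ : Fin e, A) k ↔ BrEq k (⨂[k] _ : Fin e, A) k := by
  obtain ⟨h1, -, h3, -⟩ := tpow_csa k A e
  exact splits_iff_brEq

theorem splits_tpow_zero : Curves.Splits k (⨂[k] _ : Fin 0, A) k :=
  (splits_tpow_iff_brEq k A 0).mpr (BrEq.of_algEquiv (tpowZeroEquiv k A))

theorem splits_tpow_add {a b : ℕ} (ha : Curves.Splits k (⨂[k] _ : Fin a, A) k)
    (hb : Curves.Splits k (⨂[k] _ : Fin b, A) k) :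
    Curves.Splits k (⨂[k] _ : Fin (a + b), A) k := by
  rw [splits_tpow_iff_brEq] at ha hb ⊢
  exact (brEq_tpow_add k A a b).trans ((ha.tensor hb).trans brEq_tensor_self_left)

theorem splits_tpow_of_add {a b : ℕ} (hab : Curves.Splits k (⨂[k] _ : Fin (a + b), A) k)
    (ha : Curves.Splits k (⨂[k] _ : Fin a, A) k) :
    Curves.Splits k (⨂[k] _ : Fin b, A) k := by
  rw [splits_tpow_iff_brEq] at ha hab ⊢
  have h1 : BrEq k ((⨂[k] _ : Fin a, A) ⊗[k] (⨂[k] _ : Fin b, A)) (⨂[k] _ : Fin b, A) :=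
    (ha.tensor_right _).trans brEq_tensor_self_left
  exact h1.symm.trans ((brEq_tpow_add k A a b).symm.trans hab)

theorem splits_tpow_mul {a : ℕ} (ha : Curves.Splits k (⨂[k] _ : Fin a, A) k) (q : ℕ) :
    Curves.Splits k (⨂[k] _ : Fin (a * q), A) k := by
  induction q with
  | zero => exact splits_tpow_zero k A
  | succ q ih => exact splits_tpow_add k A ih ha

/-- the exponents of split tensor powers are the multiples of the period -/
theorem splits_tpow_iff_dvd {p : ℕ} (hp : CSAGal.IsPeriod k A p) (e : ℕ) :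
    Curves.Splits k (⨂[k] _ : Fin e, A) k ↔ p ∣ e := by
  obtain ⟨hp0, hps, hpmin⟩ := hp
  constructor
  · intro he
    have hdecomp : e = p * (e / p) + e % p := (Nat.div_add_mod e p).symm
    have h1 : Curves.Splits k (⨂[k] _ : Fin (p * (e / p)), A) k := splits_tpow_mul k A hps _
    have h2 : Curves.Splits k (⨂[k] _ : Fin (e % p), A) k := by
      apply splits_tpow_of_add k A (a := p * (e / p)) _ h1
      rw [← hdecomp]; exact he
    by_contra hnd
    have hpos : 0 < e % p := Nat.pos_of_ne_zero (fun h => hnd (Nat.dvd_of_mod_eq_zero h))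
    exact hpmin (e % p) hpos (Nat.mod_lt e hp0) h2
  · rintro ⟨q, rfl⟩
    exact splits_tpow_mul k A hps q

end Period

end Groth.Agent.Lib.CSABrArith
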