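import Mathlib
import Groth.Agent.Lib.CSACentralizer

/-!
# Separable maximal subfields of central division algebras

helper16.  Köthe's theorem: a finite-dimensional central division algebra contains a maximal
commutative subalgebra which is separable over the centre.
-/

universe u v w

open Polynomial

namespace Groth.Agent.Lib.CSASepSub

section Tower

variable {k : Type u} [Field k] {F : Type v} [Field F] [Algebra k F]
  {E : Type w} [Ring E] [IsDomain E] [Algebra k E] [Algebra F E] [IsScalarTower k F E]

/-- separability is transitive, for elements of a noncommutative domain -/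
theorem isSeparable_of_tower [Algebra.IsSeparable k F] (x : E) (hx : IsSeparable F x) :
    IsSeparable k x := by
  have hxF : IsIntegral F x := hx.isIntegral
  have hirr : Irreducible (minpoly F x) := minpoly.irreducible hxF
  haveI : Fact (Irreducible (minpoly F x)) := ⟨hirr⟩
  -- the abstract field `F[X]/(minpoly)`
  let r : AdjoinRoot (minpoly F x) := AdjoinRoot.root (minpoly F x)
  have hminr : minpoly F r = minpoly F x := by
    have := AdjoinRoot.minpoly_root (K := F) (f := minpoly F x) hirr.ne_zero
    rw [this, (minpoly.monic hxF).leadingCoeff, inv_one, map_one, mul_one]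
  have hrsepF : IsSeparable F r := by
    show (minpoly F r).Separable
    rw [hminr]; exact hx
  have hrsep : IsSeparable k r := IsSeparable.of_algebra_isSeparable_of_isSeparable k hrsepF
  have hrint : IsIntegral k r := hrsep.isIntegral
  have hxint : IsIntegral k x := by
    have : Algebra.IsIntegral k F := inferInstance
    exact isIntegral_trans (A := F) x hxF
  -- the two minimal polynomials over `k` agree
  have key : ∀ p : k[X], aeval x p = 0 ↔ aeval r p = 0 := by
    intro p
    rw [← Polynomial.aeval_map_algebraMap F x p, ← Polynomial.aeval_map_algebraMap F r p,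
      minpoly.dvd_iff.symm, minpoly.dvd_iff.symm, hminr]
  have hmin : minpoly k x = minpoly k r := by
    apply Polynomial.eq_of_monic_of_associated (minpoly.monic hxint) (minpoly.monic hrint)
    apply associated_of_dvd_dvd
    · exact minpoly.dvd k x ((key _).mpr (minpoly.aeval k r))
    · exact minpoly.dvd k r ((key _).mp (minpoly.aeval k x))
  show (minpoly k x).Separable
  rw [hmin]; exact hrsep

end Tower

section JN

open Groth.Agent.Lib.CSA

variable {k : Type u} [Field k] {D : Type v} [DivisionRing D] [Algebra k D]
  [Algebra.IsCentral k D] [FiniteDimensional k D]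
  {F : Type w} [Field F] [Algebra k F] [Algebra.IsSeparable k F] (j : F →ₐ[k] D)

/-- Jacobson–Noether inside the centralizer of a separable subfield -/
theorem exists_separable_of_centralizer_ne
    (hne : ∃ c ∈ Subalgebra.centralizer k (j.range : Set D), c ∉ j.range) :
    ∃ x ∈ Subalgebra.centralizer k (j.range : Set D), x ∉ j.range ∧ IsSeparable k x := by
  set C := Subalgebra.centralizer k (j.range : Set D) with hC
  letI : DivisionRing C := divisionRingOfFiniteDimensional k C
  have hjC : ∀ f : F, j f ∈ C := by
    intro f
    rw [hC, Subalgebra.mem_centralizer_iff]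
    rintro _ ⟨g, rfl⟩
    show j g * j f = j f * j g
    rw [← map_mul, ← map_mul, mul_comm]
  let jC : F →ₐ[k] C := j.codRestrict C hjC
  letI : Algebra F C := RingHom.toAlgebra' jC.toRingHom (fun f c => by
    apply Subtype.ext
    have := (Subalgebra.mem_centralizer_iff k).mp c.2 (j f) ⟨f, rfl⟩
    exact this)
  have halg : ∀ f : F, ((algebraMap F C f : C) : D) = j f := fun f => rfl
  haveI : IsScalarTower k F C := IsScalarTower.of_algebraMap_eq (fun r => by
    apply Subtype.ext
    rw [halg, AlgHom.commutes]
    rfl)
  haveI : FiniteDimensional F C := Module.Finite.of_restrictScalars_finite k F C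
  haveI : IsSimpleRing j.range := isSimpleRing_subalgebra j.range
  haveI : Algebra.IsCentral F C := by
    constructor
    intro z hz
    rw [Subalgebra.mem_center_iff] at hz
    have h1 : (z : D) ∈ Subalgebra.centralizer k
        (Subalgebra.centralizer k (j.range : Set D) : Set D) := by
      rw [Subalgebra.mem_centralizer_iff]
      intro c hc
      have := hz ⟨c, hc⟩
      exact congrArg Subtype.val this
    rw [centralizer_centralizer] at h1
    obtain ⟨f, hf⟩ := h1
    rw [Algebra.mem_bot]
    exact ⟨f, Subtype.ext (by rw [halg]; exact hf)⟩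
  have hneq : (⊥ : Subalgebra F C) ≠ ⊤ := by
    intro h
    obtain ⟨c, hc, hcj⟩ := hne
    have : (⟨c, hc⟩ : C) ∈ (⊥ : Subalgebra F C) := by rw [h]; exact Algebra.mem_top
    obtain ⟨f, hf⟩ := Algebra.mem_bot.mp this
    apply hcj
    refine ⟨f, ?_⟩
    have := congrArg Subtype.val hf
    rw [halg] at this
    exact this
  obtain ⟨x, hx, hsep⟩ := JacobsonNoether.exists_separable_and_not_isCentral' (L := F) (D := C) hneq
  refine ⟨x, x.2, ?_, ?_⟩
  · rintro ⟨f, hf⟩
    apply hx
    rw [Algebra.mem_bot]
    exact ⟨f, Subtype.ext (by rw [halg]; exact hf)⟩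
  · have h1 : IsSeparable k x := isSeparable_of_tower (F := F) x hsep
    show (minpoly k (x : D)).Separable
    have h2 := minpoly.algHom_eq (A := k) C.val Subtype.val_injective x
    rw [Subalgebra.coe_val] at h2
    rw [h2]; exact h1

end JN

section Comm

open Groth.Agent.Lib.CSA

variable {k : Type u} [Field k] {D : Type v} [DivisionRing D] [Algebra k D]
  [FiniteDimensional k D]

/-- a commutative subalgebra of `D`, as a type synonym carrying a field structure -/
@[nolint unusedArguments]
def CommSub (L : Subalgebra k D) (_hcomm : ∀ x ∈ L, ∀ y ∈ L, x * y = y * x) : Type v := L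

namespace CommSub

variable (L : Subalgebra k D) (hcomm : ∀ x ∈ L, ∀ y ∈ L, x * y = y * x)

noncomputable instance instRing : Ring (CommSub L hcomm) := inferInstanceAs (Ring L)

noncomputable instance : CommRing (CommSub L hcomm) :=
  { instRing L hcomm with
    mul_comm := fun a b => Subtype.ext (hcomm a.1 a.2 b.1 b.2) }

instance : IsDomain (CommSub L hcomm) := inferInstanceAs (IsDomain L)

noncomputable instance : Algebra k (CommSub L hcomm) := inferInstanceAs (Algebra k L)

instance : FiniteDimensional k (CommSub L hcomm) := inferInstanceAs (FiniteDimensional k L)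

noncomputable instance : Field (CommSub L hcomm) := fieldOfFiniteDimensional k _

/-- the inclusion into `D` -/
def val : CommSub L hcomm →ₐ[k] D := L.val

/-- elements of `L` as elements of the synonym -/
def mk (a : D) (ha : a ∈ L) : CommSub L hcomm := (⟨a, ha⟩ : L)

@[simp] lemma val_mk (a : D) (ha : a ∈ L) : val L hcomm (mk L hcomm a ha) = a := rfl

lemma val_injective : Function.Injective (val L hcomm) := Subtype.val_injective

lemma range_val : (val L hcomm).range = L := Subalgebra.range_val L

lemma val_mem (z : CommSub L hcomm) : val L hcomm z ∈ L := z.2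

theorem isSeparable_val_iff (z : CommSub L hcomm) :
    IsSeparable k (val L hcomm z) ↔ IsSeparable k z := by
  unfold IsSeparable
  rw [minpoly.algHom_eq (A := k) (val L hcomm) (val_injective L hcomm) z]

end CommSub

theorem isSeparable_coe_iff (L : Subalgebra k D) (z : L) :
    IsSeparable k (z : D) ↔ IsSeparable k z := by
  unfold IsSeparable
  have h2 := minpoly.algHom_eq (A := k) L.val Subtype.val_injective z
  rw [Subalgebra.coe_val] at h2
  rw [h2]

theorem isSeparable_add_mul_of_comm (L : Subalgebra k D)
    (hcomm : ∀ x ∈ L, ∀ y ∈ L, x * y = y * x) {a b : D} (ha : a ∈ L) (hb : b ∈ L)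
    (hsa : IsSeparable k a) (hsb : IsSeparable k b) :
    IsSeparable k (a + b) ∧ IsSeparable k (a * b) := by
  have ha' : IsSeparable k (CommSub.mk L hcomm a ha) :=
    (CommSub.isSeparable_val_iff L hcomm _).mp hsa
  have hb' : IsSeparable k (CommSub.mk L hcomm b hb) :=
    (CommSub.isSeparable_val_iff L hcomm _).mp hsb
  have h1 := (CommSub.isSeparable_val_iff L hcomm _).mpr (Field.isSeparable_add ha' hb')
  have h2 := (CommSub.isSeparable_val_iff L hcomm _).mpr (Field.isSeparable_mul ha' hb')
  rw [map_add] at h1
  rw [map_mul] at h2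
  exact ⟨h1, h2⟩

/-- adjoining a commuting separable element to a separable commutative subalgebra -/
theorem adjoin_comm_separable (L : Subalgebra k D)
    (hcomm : ∀ x ∈ L, ∀ y ∈ L, x * y = y * x) (hsep : Algebra.IsSeparable k L)
    (x : D) (hxc : x ∈ Subalgebra.centralizer k (L : Set D)) (hx : IsSeparable k x) :
    (∀ a ∈ Algebra.adjoin k ((L : Set D) ∪ {x}), ∀ b ∈ Algebra.adjoin k ((L : Set D) ∪ {x}),
      a * b = b * a) ∧ Algebra.IsSeparable k (Algebra.adjoin k ((L : Set D) ∪ {x})) := by
  rw [Subalgebra.mem_centralizer_iff] at hxc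
  set s : Set D := (L : Set D) ∪ {x} with hs
  have hs_comm : ∀ a ∈ s, ∀ b ∈ s, a * b = b * a := by
    rintro a (ha | ha) b (hb | hb)
    · exact hcomm a ha b hb
    · rw [Set.mem_singleton_iff] at hb; subst hb; exact hxc a ha
    · rw [Set.mem_singleton_iff] at ha; subst ha; exact (hxc b hb).symm
    · rw [Set.mem_singleton_iff] at ha hb; subst ha; subst hb; rfl
  have hle := Algebra.adjoin_le_centralizer_centralizer k s
  have h1 : ∀ a ∈ Algebra.adjoin k s, ∀ b ∈ Algebra.adjoin k s, a * b = b * a :=
    fun a ha b hb => Set.centralizer_centralizer_comm_of_comm hs_comm _ (hle ha) _ (hle hb)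
  refine ⟨h1, ?_⟩
  have key : ∀ z ∈ Algebra.adjoin k s, IsSeparable k z := by
    intro z hz
    induction hz using Algebra.adjoin_induction with
    | mem z hz =>
      rcases hz with hz | hz
      · exact (isSeparable_coe_iff L ⟨z, hz⟩).mpr (Algebra.IsSeparable.isSeparable k _)
      · rw [Set.mem_singleton_iff.mp hz]; exact hx
    | algebraMap r => exact isSeparable_algebraMap (F := k) r
    | add a b ha hb hsa hsb => exact (isSeparable_add_mul_of_comm _ h1 ha hb hsa hsb).1
    | mul a b ha hb hsa hsb => exact (isSeparable_add_mul_of_comm _ h1 ha hb hsa hsb).2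
  exact ⟨fun z => (isSeparable_coe_iff _ z).mp (key z z.2)⟩

end Comm

section Main

open Groth.Agent.Lib.CSA

variable (k : Type u) [Field k] (D : Type v) [DivisionRing D] [Algebra k D]
  [Algebra.IsCentral k D] [FiniteDimensional k D]

/-- Köthe: a separable maximal commutative subalgebra exists -/
theorem exists_separable_maximal_comm :
    ∃ L : Subalgebra k D, (∀ x ∈ L, ∀ y ∈ L, x * y = y * x) ∧
      (∀ L' : Subalgebra k D, (∀ x ∈ L', ∀ y ∈ L', x * y = y * x) → L ≤ L' → L' = L) ∧
      Algebra.IsSeparable k L := by
  classical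
  let P : ℕ → Prop := fun n => ∃ L : Subalgebra k D, (∀ x ∈ L, ∀ y ∈ L, x * y = y * x) ∧
    Algebra.IsSeparable k L ∧ Module.finrank k L = n
  have hP1 : P 1 := by
    refine ⟨⊥, ?_, ?_, Subalgebra.finrank_bot⟩
    · intro x hx y hy
      obtain ⟨a, rfl⟩ := Algebra.mem_bot.mp hx
      exact Algebra.commutes a y
    · refine ⟨fun z => ?_⟩
      obtain ⟨a, ha⟩ := Algebra.mem_bot.mp z.2
      have : z = algebraMap k _ a := Subtype.ext ha.symm
      rw [this]
      exact isSeparable_algebraMap (F := k) a
  have hD1 : 1 ≤ Module.finrank k D := Module.finrank_pos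
  set N := Nat.findGreatest P (Module.finrank k D) with hN
  obtain ⟨L, hcomm, hsep, hdim⟩ : P N := Nat.findGreatest_spec hD1 hP1
  have hcent : Subalgebra.centralizer k (L : Set D) ≤ L := by
    by_contra hcon
    obtain ⟨c, hc, hcL⟩ := SetLike.not_le_iff_exists.mp hcon
    have hrange := CommSub.range_val L hcomm
    haveI : Algebra.IsSeparable k (CommSub L hcomm) := ⟨fun z =>
      (CommSub.isSeparable_val_iff L hcomm z).mp
        ((isSeparable_coe_iff L ⟨CommSub.val L hcomm z, CommSub.val_mem L hcomm z⟩).mpr
          (Algebra.IsSeparable.isSeparable k _))⟩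
    obtain ⟨x, hxc, hxL, hxsep⟩ := exists_separable_of_centralizer_ne (k := k) (D := D)
      (F := CommSub L hcomm) (CommSub.val L hcomm) (by rw [hrange]; exact ⟨c, hc, hcL⟩)
    rw [hrange] at hxc hxL
    obtain ⟨hcomm', hsep'⟩ := adjoin_comm_separable L hcomm hsep x hxc hxsep
    set L' := Algebra.adjoin k ((L : Set D) ∪ {x}) with hL'
    have hLL' : L ≤ L' := fun a ha => Algebra.subset_adjoin (Or.inl ha)
    have hlt : L < L' := by
      refine lt_of_le_of_ne hLL' ?_
      intro h
      apply hxL
      rw [h]
      exact Algebra.subset_adjoin (Or.inr rfl)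
    have hdimlt : Module.finrank k L < Module.finrank k L' := by
      have h1 : Subalgebra.toSubmodule L < Subalgebra.toSubmodule L' := by
        refine lt_of_le_of_ne (fun a ha => hLL' ha) ?_
        intro h
        exact hlt.ne (Subalgebra.toSubmodule_injective h)
      exact Submodule.finrank_lt_finrank_of_lt h1
    have hle : Module.finrank k L' ≤ Module.finrank k D :=
      Submodule.finrank_le (Subalgebra.toSubmodule L')
    have := Nat.findGreatest_is_greatest (P := P) (n := Module.finrank k D)
      (k := Module.finrank k L') (by rw [← hN, ← hdim]; exact hdimlt) hle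
    exact this ⟨L', hcomm', hsep', rfl⟩
  refine ⟨L, hcomm, ?_, hsep⟩
  intro L' hcomm' hLL'
  apply le_antisymm _ hLL'
  intro a ha
  apply hcent
  rw [Subalgebra.mem_centralizer_iff]
  intro g hg
  exact hcomm' g (hLL' hg) a ha

end Main

end Groth.Agent.Lib.CSASepSub
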