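import Mathlib
import Groth.Prelude.Def_GSzCSA
import Groth.Agent.Lib.CSABrArith
import Groth.Agent.Lib.CSASepSub
import Groth.Agent.Lib.CSACentralizer

/-!
# Index of central simple algebras: existence, uniqueness, splitting fields, tensor powers

helper16.
-/

universe u v w x

open scoped TensorProduct

namespace Groth.Agent.Lib.CSAIndexArith

open Groth.Agent.Lib.CSA Groth.Agent.Lib.CSATpow Groth.Agent.Lib.CSABrArith

section SplitsBrEq

variable {k : Type u} [Field k] {K : Type v} [Field K] [Algebra k K]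
  {A : Type w} [Ring A] [Algebra k A] [Algebra.IsCentral k A] [IsSimpleRing A]
  [FiniteDimensional k A]
  {B : Type x} [Ring B] [Algebra k B] [Algebra.IsCentral k B] [IsSimpleRing B]
  [FiniteDimensional k B]

/-- splitting fields only depend on the Brauer class (universe polymorphic) -/
theorem splits_of_brEq (h : BrEq k A B) (hB : Curves.Splits k B K) : Curves.Splits k A K := by
  obtain ⟨a, b, ha, hb, ⟨e0⟩⟩ := h
  obtain ⟨t, ht, ⟨eB⟩⟩ := hB
  have : IsSimpleRing (K ⊗[k] A) := isSimpleRing_tensor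
  have : IsArtinianRing (K ⊗[k] A) := IsArtinianRing.of_finite K _
  obtain ⟨s, hs, D, _, _, _, ⟨eA⟩⟩ :=
    IsSimpleRing.exists_algEquiv_matrix_divisionRing_finite K (K ⊗[k] A)
  have hs0 : s ≠ 0 := hs.out
  let e1 : Matrix (Fin (a * s)) (Fin (a * s)) D ≃ₐ[K] K ⊗[k] Matrix (Fin a) (Fin a) A :=
    ((baseChangeMatrixEquiv k K A a ha).trans
      ((AlgEquiv.mapMatrix eA).trans (matrixMatrixEquiv K D a s))).symm
  let e2 : K ⊗[k] Matrix (Fin a) (Fin a) A ≃ₐ[K] K ⊗[k] Matrix (Fin b) (Fin b) B :=
    Algebra.TensorProduct.congr AlgEquiv.refl e0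
  let e3 : K ⊗[k] Matrix (Fin b) (Fin b) B ≃ₐ[K] Matrix (Fin (b * t)) (Fin (b * t)) K :=
    (baseChangeMatrixEquiv k K B b hb).trans
      ((AlgEquiv.mapMatrix eB).trans (matrixMatrixEquiv K K b t))
  obtain ⟨eD⟩ := divisionRing_algEquiv_of_matrix_algEquiv (k := K)
    (Nat.mul_ne_zero ha hs0) (Nat.mul_ne_zero hb ht) (e1.trans (e2.trans e3))
  exact ⟨s, hs0, ⟨eA.trans (AlgEquiv.mapMatrix eD)⟩⟩

end SplitsBrEq

section SplitsTensor

variable (k : Type u) [Field k] (K : Type v) [Field K] [Algebra k K]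
  (A : Type w) [Ring A] [Algebra k A] (B : Type x) [Ring B] [Algebra k B]

/-- Base change distributes over tensor products of algebras (universe polymorphic). -/
noncomputable def distribAlg :
    K ⊗[k] (A ⊗[k] B) ≃ₐ[K] (K ⊗[k] A) ⊗[K] (K ⊗[k] B) :=
  AlgEquiv.ofLinearEquiv (TensorProduct.AlgebraTensorModule.distribBaseChange k K A B)
    (by simp [Algebra.TensorProduct.one_def])
    ((LinearMap.map_mul_iff _).mpr <| by ext; simp)

variable {k K A B}

theorem splits_tensor (hA : Curves.Splits k A K) (hB : Curves.Splits k B K) :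
    Curves.Splits k (A ⊗[k] B) K := by
  obtain ⟨n, hn, ⟨eA⟩⟩ := hA
  obtain ⟨m, hm, ⟨eB⟩⟩ := hB
  refine ⟨n * m, Nat.mul_ne_zero hn hm, ⟨?_⟩⟩
  exact (distribAlg k K A B).trans <|
    (Algebra.TensorProduct.congr eA eB).trans <|
    (Matrix.kroneckerAlgEquiv (Fin n) (Fin m) K).trans <|
    Matrix.reindexAlgEquiv K K finProdFinEquiv

theorem splits_of_algEquiv (e : A ≃ₐ[k] B) (hB : Curves.Splits k B K) : Curves.Splits k A K := by
  obtain ⟨m, hm, ⟨eB⟩⟩ := hB
  exact ⟨m, hm, ⟨(Algebra.TensorProduct.congr AlgEquiv.refl e).trans eB⟩⟩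

theorem ofId_matrix_one_bijective :
    Function.Bijective (Algebra.ofId K (Matrix (Fin 1) (Fin 1) K)) := by
  have hinj : Function.Injective (Algebra.ofId K (Matrix (Fin 1) (Fin 1) K)) :=
    (algebraMap K (Matrix (Fin 1) (Fin 1) K)).injective
  refine ⟨hinj, ?_⟩
  have hdim : Module.finrank K K = Module.finrank K (Matrix (Fin 1) (Fin 1) K) := by
    rw [Module.finrank_matrix]; simp
  exact (LinearMap.injective_iff_surjective_of_finrank_eq_finrank
    (f := (Algebra.ofId K (Matrix (Fin 1) (Fin 1) K)).toLinearMap) hdim).mp hinj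

theorem splits_self : Curves.Splits k k K :=
  ⟨1, one_ne_zero, ⟨(Algebra.TensorProduct.rid k K K).trans
    (AlgEquiv.ofBijective _ ofId_matrix_one_bijective)⟩⟩

end SplitsTensor

section SplitsTpow

variable {k : Type u} [Field k] {K : Type v} [Field K] [Algebra k K]
  {A : Type w} [Ring A] [Algebra k A]

theorem splits_tpow_of_splits (hA : Curves.Splits k A K) (e : ℕ) :
    Curves.Splits k (⨂[k] _ : Fin e, A) K := by
  induction e with
  | zero => exact splits_of_algEquiv (tpowZeroEquiv k A) splits_self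
  | succ e ih => exact splits_of_algEquiv (tpowSuccEquiv k A e) (splits_tensor ih hA)

end SplitsTpow

section Index

variable {k : Type u} [Field k]

/-- the division algebra of a central simple algebra is central -/
theorem isCentral_of_matrix_algEquiv {A : Type v} [Ring A] [Algebra k A] [Algebra.IsCentral k A]
    {D : Type w} [DivisionRing D] [Algebra k D] {m : ℕ} (hm : m ≠ 0)
    (e : A ≃ₐ[k] Matrix (Fin m) (Fin m) D) : Algebra.IsCentral k D := by
  have : NeZero m := ⟨hm⟩
  have hcM : Algebra.IsCentral k (Matrix (Fin m) (Fin m) D) := isCentral_of_algEquiv' e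
  constructor
  intro z hz
  have h1 : Matrix.scalarAlgHom (Fin m) k z ∈ Subalgebra.center k (Matrix (Fin m) (Fin m) D) := by
    rw [Matrix.subalgebraCenter_eq_scalarAlgHom_map]
    exact ⟨z, hz, rfl⟩
  obtain ⟨c, hc⟩ := Algebra.mem_bot.mp (hcM.out h1)
  refine Algebra.mem_bot.mpr ⟨c, ?_⟩
  have h2 := congr_fun (congr_fun hc 0) 0
  simpa [Matrix.algebraMap_matrix_apply] using h2

/-- a central division algebra of dimension `d²` has a splitting field of degree `d` -/
theorem exists_splitting_field_of_division (D : Type v) [DivisionRing D] [Algebra k D]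
    [Algebra.IsCentral k D] [FiniteDimensional k D] :
    ∃ (K : Type v) (_ : Field K) (_ : Algebra k K) (_ : FiniteDimensional k K),
      Module.finrank k D = Module.finrank k K ^ 2 ∧ Curves.Splits k D K := by
  obtain ⟨L, hcomm, hmax, -⟩ := Groth.Agent.Lib.CSASepSub.exists_separable_maximal_comm k D
  have hdim := finrank_eq_sq_of_maximal_comm L hcomm hmax
  refine ⟨Groth.Agent.Lib.CSASepSub.CommSub L hcomm, inferInstance, inferInstance, inferInstance,
    hdim, ?_⟩
  obtain ⟨e⟩ := splits_of_subfield (Groth.Agent.Lib.CSASepSub.CommSub.val L hcomm) hdim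
  exact ⟨_, (Module.finrank_pos).ne', ⟨e⟩⟩

variable (A : Type v) [Ring A] [Algebra k A] [Algebra.IsCentral k A] [IsSimpleRing A]
  [FiniteDimensional k A]

/-- every central simple algebra has an index -/
theorem exists_isIndex : ∃ d : ℕ, CSAGal.IsIndex k A d := by
  have : IsArtinianRing A := IsArtinianRing.of_finite k A
  obtain ⟨s, hs, D, _, _, _, ⟨eA⟩⟩ := IsSimpleRing.exists_algEquiv_matrix_divisionRing_finite k A
  have hs0 : s ≠ 0 := hs.out
  have : Algebra.IsCentral k D := isCentral_of_matrix_algEquiv hs0 eA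
  obtain ⟨K, _, _, _, hdim, -⟩ := exists_splitting_field_of_division (k := k) D
  exact ⟨Module.finrank k K, Module.finrank_pos, s, D, inferInstance, inferInstance,
    Nat.pos_of_ne_zero hs0, hdim, ⟨eA⟩⟩

variable {A}

/-- a splitting field of degree the index -/
theorem exists_splitting_field_of_isIndex {d : ℕ} (hd : CSAGal.IsIndex k A d) :
    ∃ (K : Type v) (_ : Field K) (_ : Algebra k K) (_ : FiniteDimensional k K),
      Module.finrank k K = d ∧ Curves.Splits k A K := by
  obtain ⟨hd0, m, D, _, _, hm, hdim, ⟨e⟩⟩ := hd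
  have : Algebra.IsCentral k D := isCentral_of_matrix_algEquiv hm.ne' e
  have : FiniteDimensional k D := Module.finite_of_finrank_pos (by rw [hdim]; positivity)
  obtain ⟨K, hK1, hK2, hK3, hdimK, hsplit⟩ := exists_splitting_field_of_division (k := k) D
  refine ⟨K, hK1, hK2, hK3, ?_, ?_⟩
  · rw [hdim] at hdimK
    exact (Nat.pow_left_injective (by norm_num) hdimK).symm
  · exact splits_of_brEq ((BrEq.of_algEquiv e).trans (brEq_matrix m hm.ne')) hsplit

/-- the index divides the degree of every finite splitting field -/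
theorem isIndex_dvd_of_splits {d : ℕ} (hd : CSAGal.IsIndex k A d)
    (K : Type w) [Field K] [Algebra k K] [FiniteDimensional k K] (hs : Curves.Splits k A K) :
    d ∣ Module.finrank k K := by
  obtain ⟨hd0, m, D, _, _, hm, hdim, ⟨eA⟩⟩ := hd
  have : FiniteDimensional k D := Module.finite_of_finrank_pos (by rw [hdim]; positivity)
  obtain ⟨n, hn, ⟨e⟩⟩ := hs
  obtain ⟨B, hR, hAlg, hC, hS, hF, ι, a, b, ha, hb, ⟨e0⟩, hdimB⟩ := exists_brauer_of_splits hn e
  have : IsArtinianRing B := IsArtinianRing.of_finite k B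
  obtain ⟨t, ht, D'', _, _, _, ⟨eB⟩⟩ :=
    IsSimpleRing.exists_algEquiv_matrix_divisionRing_finite k B
  have ht0 : t ≠ 0 := ht.out
  obtain ⟨eD⟩ := divisionRing_algEquiv_of_matrix_algEquiv (k := k)
    (Nat.mul_ne_zero ha hm.ne') (Nat.mul_ne_zero hb ht0)
    ((matrixMatrixEquiv k D a m).symm.trans ((AlgEquiv.mapMatrix eA).symm.trans
      (e0.trans ((AlgEquiv.mapMatrix eB).trans (matrixMatrixEquiv k D'' b t)))))
  have h1 : Module.finrank k B = t * t * Module.finrank k D'' := by
    rw [eB.toLinearEquiv.finrank_eq, Module.finrank_matrix]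
    simp
  have h2 : Module.finrank k D'' = d ^ 2 := by
    rw [← eD.toLinearEquiv.finrank_eq, hdim]
  have h3 : (t * d) ^ 2 = Module.finrank k K ^ 2 := by
    rw [← hdimB, h1, h2]; ring
  have h4 : t * d = Module.finrank k K := Nat.pow_left_injective (by norm_num) h3
  exact ⟨t, by rw [← h4, mul_comm]⟩

/-- the index is unique -/
theorem isIndex_unique {d d' : ℕ} (hd : CSAGal.IsIndex k A d) (hd' : CSAGal.IsIndex k A d') :
    d = d' := by
  obtain ⟨K, _, _, _, hK, hs⟩ := exists_splitting_field_of_isIndex hd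
  obtain ⟨K', _, _, _, hK', hs'⟩ := exists_splitting_field_of_isIndex hd'
  have h1 := isIndex_dvd_of_splits hd' K hs
  have h2 := isIndex_dvd_of_splits hd K' hs'
  rw [hK] at h1
  rw [hK'] at h2
  exact Nat.dvd_antisymm h2 h1

/-- the index of a Brauer-equivalent algebra to a tensor power divides the index -/
theorem isIndex_dvd_of_brEq_tpow {B : Type w} [Ring B] [Algebra k B] [Algebra.IsCentral k B]
    [IsSimpleRing B] [FiniteDimensional k B] {i : ℕ} (h : BrEq k (⨂[k] _ : Fin i, A) B)
    {d d' : ℕ} (hd : CSAGal.IsIndex k A d) (hd' : CSAGal.IsIndex k B d') : d' ∣ d := by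
  obtain ⟨K, _, _, _, hK, hs⟩ := exists_splitting_field_of_isIndex hd
  obtain ⟨h1, h2, h3, -⟩ := tpow_csa k A i
  have hsB : Curves.Splits k B K := splits_of_brEq h.symm (splits_tpow_of_splits hs i)
  have := isIndex_dvd_of_splits hd' K hsB
  rwa [hK] at this

end Index

end Groth.Agent.Lib.CSAIndexArith
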