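import Mathlib

/-!
# Kronecker product of a finite family of square matrices

helper16.  `kron Ms : Matrix (ι → m) (ι → m) R` with entries `∏ i, Ms i (f i) (g i)`:
multiplicative, unital, compatible with ring homomorphisms, multilinear.
-/

universe u v w

namespace Groth.Agent.Lib.KronPow

variable {R : Type u} [CommRing R] {ι : Type v} [Fintype ι] {m : Type w}

/-- Kronecker product of a family of square matrices -/
def kron (Ms : ι → Matrix m m R) : Matrix (ι → m) (ι → m) R :=
  Matrix.of fun f g => ∏ i, Ms i (f i) (g i)

@[simp] lemma kron_apply (Ms : ι → Matrix m m R) (f g : ι → m) :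
    kron Ms f g = ∏ i, Ms i (f i) (g i) := rfl

variable [Fintype m] [DecidableEq m] [DecidableEq ι]

theorem kron_mul (Ms Ns : ι → Matrix m m R) :
    kron (fun i => Ms i * Ns i) = kron Ms * kron Ns := by
  ext f g
  simp only [kron_apply, Matrix.mul_apply]
  rw [Fintype.prod_sum]
  refine Finset.sum_congr rfl fun h _ => ?_
  rw [Finset.prod_mul_distrib]

theorem kron_one : kron (fun _ : ι => (1 : Matrix m m R)) = 1 := by
  ext f g
  simp only [kron_apply, Matrix.one_apply]
  rw [Fintype.prod_ite_zero]
  simp only [Finset.prod_const_one]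
  congr 1
  exact propext (funext_iff.symm)

theorem kron_smul_const (c : R) (M : Matrix m m R) :
    kron (fun _ : ι => c • M) = c ^ Fintype.card ι • kron (fun _ : ι => M) := by
  ext f g
  simp only [kron_apply, Matrix.smul_apply, smul_eq_mul]
  rw [Finset.prod_mul_distrib, Finset.prod_const, Finset.card_univ]

theorem kron_map {S : Type*} [CommRing S] (σ : R →+* S) (Ms : ι → Matrix m m R) :
    (kron Ms).map σ = kron (fun i => (Ms i).map σ) := by
  ext f g
  simp only [Matrix.map_apply, kron_apply, map_prod]

variable (R ι m) in
/-- `kron` as a multilinear map -/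
def kronMultilinear : MultilinearMap R (fun _ : ι => Matrix m m R) (Matrix (ι → m) (ι → m) R) :=
  MultilinearMap.pi fun f => MultilinearMap.pi fun g =>
    (MultilinearMap.mkPiAlgebra R ι R).compLinearMap
      (fun i => Matrix.entryLinearMap R R (f i) (g i))

@[simp] lemma kronMultilinear_apply (Ms : ι → Matrix m m R) :
    kronMultilinear R ι m Ms = kron Ms := by
  ext f g
  rfl

end Groth.Agent.Lib.KronPow
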