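import Mathlib
import Groth.Prelude.Def_Curves
import Groth.Agent.Lib.KronPow
import Groth.Agent.Lib.Hilbert90GL
import Groth.Agent.Lib.CSAModules
import Groth.Agent.Lib.CSATpow

/-!
# The period divides the index

helper16.  If a central simple `k`-algebra `A` is split by a finite Galois extension `K` with
`K ⊗ A ≃ M_n(K)`, then the `n`-fold tensor power of `A` is split over `k`.

Proof: the Galois twists of the representation `ψ : A → M_n(K)` are conjugate to `ψ`
(Skolem–Noether), `ψ = Z_σ σ(ψ) Z_σ⁻¹`; the `Z_σ` form a 1-cocycle up to scalars, and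
`det(Z_σ)⁻¹ • Z_σ^{⊗ n}` is a genuine 1-cocycle in `GL_{n^n}(K)`; Hilbert 90 makes it a coboundary
and the conjugated representation `A^{⊗ n} → M_{n^n}(K)` is Galois-invariant, so has values in
`M_{n^n}(k)`; it is bijective by simplicity and a dimension count.
-/

universe u v w

open scoped TensorProduct
open Matrix

namespace Groth.Agent.Lib.CSAPeriodIndex

open Groth.Agent.Lib.KronPow

section Rep

variable {k : Type u} [Field k] {K : Type v} [Field K] [Algebra k K]
  {A : Type w} [Ring A] [Algebra k A] {n : ℕ}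

/-- the representation `A → M_n(K)` attached to a splitting -/
noncomputable def rep (φ : K ⊗[k] A ≃ₐ[K] Matrix (Fin n) (Fin n) K) :
    A →ₐ[k] Matrix (Fin n) (Fin n) K :=
  (φ.toAlgHom.restrictScalars k).comp Algebra.TensorProduct.includeRight

lemma rep_apply (φ : K ⊗[k] A ≃ₐ[K] Matrix (Fin n) (Fin n) K) (a : A) :
    rep φ a = φ (1 ⊗ₜ a) := rfl

lemma map_tmul (φ : K ⊗[k] A ≃ₐ[K] Matrix (Fin n) (Fin n) K) (c : K) (a : A) :
    φ (c ⊗ₜ a) = c • rep φ a := by
  rw [rep_apply, ← map_smul, TensorProduct.smul_tmul', smul_eq_mul, mul_one]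

/-- the centralizer of the image of `A` in `M_n(K)` consists of scalars -/
theorem scalar_of_commute (φ : K ⊗[k] A ≃ₐ[K] Matrix (Fin n) (Fin n) K)
    (U : Matrix (Fin n) (Fin n) K) (hU : ∀ a, U * rep φ a = rep φ a * U) :
    ∃ c : K, U = c • (1 : Matrix (Fin n) (Fin n) K) := by
  have h1 : ∀ x : K ⊗[k] A, U * φ x = φ x * U := by
    intro x
    induction x using TensorProduct.induction_on with
    | zero => simp
    | tmul c a => rw [map_tmul, Matrix.mul_smul, Matrix.smul_mul, hU]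
    | add x y hx hy => rw [map_add, mul_add, add_mul, hx, hy]
  have h2 : U ∈ Subalgebra.center K (Matrix (Fin n) (Fin n) K) := by
    rw [Subalgebra.mem_center_iff]
    intro M
    obtain ⟨x, rfl⟩ := φ.surjective M
    exact (h1 x).symm
  rw [Algebra.IsCentral.center_eq_bot, Algebra.mem_bot] at h2
  obtain ⟨c, hc⟩ := h2
  exact ⟨c, by rw [← hc, Algebra.algebraMap_eq_smul_one]⟩

/-- Skolem–Noether: the Galois twist of `rep φ` is conjugate to `rep φ` -/
theorem exists_conj [NeZero n] (φ : K ⊗[k] A ≃ₐ[K] Matrix (Fin n) (Fin n) K) (σ : K ≃ₐ[k] K) :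
    ∃ Z : (Matrix (Fin n) (Fin n) K)ˣ, ∀ a : A,
      rep φ a = (Z : Matrix (Fin n) (Fin n) K) * (rep φ a).map σ *
        ((Z⁻¹ : (Matrix (Fin n) (Fin n) K)ˣ) : Matrix (Fin n) (Fin n) K) := by
  have : IsSimpleRing (K ⊗[k] A) := IsSimpleRing.of_ringEquiv φ.symm.toRingEquiv inferInstance
  let g : A →ₐ[k] Matrix (Fin n) (Fin n) K :=
    ((AlgEquiv.mapMatrix σ : Matrix (Fin n) (Fin n) K ≃ₐ[k] Matrix (Fin n) (Fin n) K) : 
      Matrix (Fin n) (Fin n) K →ₐ[k] Matrix (Fin n) (Fin n) K).comp (rep φ)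
  let ψ' : K ⊗[k] A →ₐ[K] Matrix (Fin n) (Fin n) K :=
    Algebra.TensorProduct.lift (Algebra.ofId K _) g (fun c _ => Algebra.commutes c _)
  obtain ⟨Z, hZ⟩ := Groth.Agent.Lib.CSA.skolem_noether (φ : K ⊗[k] A →ₐ[K] Matrix (Fin n) (Fin n) K) ψ'
  refine ⟨Z, fun a => ?_⟩
  have := hZ (1 ⊗ₜ a)
  simpa [ψ', g, rep_apply] using this

end Rep

section Kr

variable {R : Type u} [CommRing R] {n : ℕ}

/-- size of the Kronecker power: `n ^ n` -/
abbrev NN (n : ℕ) : ℕ := Fintype.card (Fin n → Fin n)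

lemma NN_eq (n : ℕ) : NN n = n ^ n := by simp [NN]

lemma NN_ne_zero (n : ℕ) : NN n ≠ 0 :=
  haveI : Nonempty (Fin n → Fin n) := ⟨id⟩
  Fintype.card_ne_zero

/-- Kronecker product of `n` matrices of size `n`, reindexed by `Fin (n ^ n)` -/
noncomputable def kr (Ms : Fin n → Matrix (Fin n) (Fin n) R) : Matrix (Fin (NN n)) (Fin (NN n)) R :=
  (kron Ms).submatrix (Fintype.equivFin (Fin n → Fin n)).symm (Fintype.equivFin (Fin n → Fin n)).symm

theorem kr_mul (Ms Ns : Fin n → Matrix (Fin n) (Fin n) R) :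
    kr (fun i => Ms i * Ns i) = kr Ms * kr Ns := by
  unfold kr
  rw [kron_mul, Matrix.submatrix_mul_equiv]

theorem kr_one : kr (fun _ : Fin n => (1 : Matrix (Fin n) (Fin n) R)) = 1 := by
  unfold kr
  rw [kron_one, Matrix.submatrix_one_equiv]

theorem kr_smul_const (c : R) (M : Matrix (Fin n) (Fin n) R) :
    kr (fun _ : Fin n => c • M) = c ^ n • kr (fun _ : Fin n => M) := by
  unfold kr
  rw [kron_smul_const, Matrix.submatrix_smul, Fintype.card_fin]
  rfl

theorem kr_map {S : Type*} [CommRing S] (σ : R →+* S) (Ms : Fin n → Matrix (Fin n) (Fin n) R) :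
    (kr Ms).map σ = kr (fun i => (Ms i).map σ) := by
  unfold kr
  rw [← Matrix.submatrix_map, kron_map]

variable (R n) in
/-- `kr` as a multilinear map -/
noncomputable def krMultilinear :
    MultilinearMap R (fun _ : Fin n => Matrix (Fin n) (Fin n) R) (Matrix (Fin (NN n)) (Fin (NN n)) R) :=
  (Matrix.reindexLinearEquiv R R (Fintype.equivFin (Fin n → Fin n))
    (Fintype.equivFin (Fin n → Fin n))).toLinearMap.compMultilinearMap
      (kronMultilinear R (Fin n) (Fin n))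

@[simp] lemma krMultilinear_apply (Ms : Fin n → Matrix (Fin n) (Fin n) R) :
    krMultilinear R n Ms = kr Ms := by
  simp [krMultilinear, kr]

end Kr

section Cocycle

variable {k : Type u} [Field k] {K : Type v} [Field K] [Algebra k K]
  {A : Type w} [Ring A] [Algebra k A] {n : ℕ}

lemma map_mul' (σ : K ≃ₐ[k] K) {m : Type*} [Fintype m] (L M : Matrix m m K) :
    (L * M).map σ = L.map σ * M.map σ := by
  ext i j
  simp [Matrix.mul_apply, map_sum]

lemma map_map' (σ τ : K ≃ₐ[k] K) {m : Type*} (M : Matrix m m K) :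
    (M.map τ).map σ = M.map (σ * τ : K ≃ₐ[k] K) := by
  ext i j
  simp [AlgEquiv.mul_apply]

lemma det_map' (σ : K ≃ₐ[k] K) {m : Type*} [Fintype m] [DecidableEq m] (M : Matrix m m K) :
    (M.map σ).det = σ M.det := by
  have := RingHom.map_det (σ : K →+* K) M
  simpa using this.symm

/-- the conjugating matrices form a cocycle up to scalars -/
theorem exists_scalar_cocycle (φ : K ⊗[k] A ≃ₐ[K] Matrix (Fin n) (Fin n) K)
    (Z : (K ≃ₐ[k] K) → (Matrix (Fin n) (Fin n) K)ˣ)
    (hZ : ∀ σ a, rep φ a * (Z σ : Matrix (Fin n) (Fin n) K)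
      = (Z σ : Matrix (Fin n) (Fin n) K) * (rep φ a).map σ) (σ τ : K ≃ₐ[k] K) :
    ∃ c : K, (Z σ : Matrix (Fin n) (Fin n) K) * (Z τ : Matrix (Fin n) (Fin n) K).map σ
      = c • (Z (σ * τ) : Matrix (Fin n) (Fin n) K) := by
  set P : Matrix (Fin n) (Fin n) K :=
    (Z σ : Matrix (Fin n) (Fin n) K) * (Z τ : Matrix (Fin n) (Fin n) K).map σ with hP
  have h1 : ∀ a, P * (rep φ a).map (σ * τ : K ≃ₐ[k] K) = rep φ a * P := by
    intro a
    rw [hP, ← map_map', Matrix.mul_assoc, ← map_mul', ← hZ τ a, map_mul', ← Matrix.mul_assoc,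
      ← hZ σ a, Matrix.mul_assoc]
  set Q := Z (σ * τ) with hQ
  have h2 : ∀ a, (P * ((Q⁻¹ : (Matrix (Fin n) (Fin n) K)ˣ) : Matrix (Fin n) (Fin n) K)) * rep φ a
      = rep φ a * (P * ((Q⁻¹ : (Matrix (Fin n) (Fin n) K)ˣ) : Matrix (Fin n) (Fin n) K)) := by
    intro a
    have h3 : ((Q⁻¹ : (Matrix (Fin n) (Fin n) K)ˣ) : Matrix (Fin n) (Fin n) K) * rep φ a
        = (rep φ a).map (σ * τ : K ≃ₐ[k] K) * ((Q⁻¹ : (Matrix (Fin n) (Fin n) K)ˣ) : Matrix (Fin n) (Fin n) K) := by
      have h4 := hZ (σ * τ) a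
      rw [← hQ] at h4
      calc ((Q⁻¹ : (Matrix (Fin n) (Fin n) K)ˣ) : Matrix (Fin n) (Fin n) K) * rep φ a
          = ((Q⁻¹ : (Matrix (Fin n) (Fin n) K)ˣ) : Matrix (Fin n) (Fin n) K) * (rep φ a * (Q : Matrix (Fin n) (Fin n) K))
            * ((Q⁻¹ : (Matrix (Fin n) (Fin n) K)ˣ) : Matrix (Fin n) (Fin n) K) := by
            rw [Matrix.mul_assoc, Matrix.mul_assoc, Units.mul_inv, Matrix.mul_one]
        _ = _ := by
            rw [h4, ← Matrix.mul_assoc, Units.inv_mul, Matrix.one_mul]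
    rw [Matrix.mul_assoc, h3, ← Matrix.mul_assoc, h1, Matrix.mul_assoc]
  obtain ⟨c, hc⟩ := scalar_of_commute φ _ h2
  refine ⟨c, ?_⟩
  calc P = (P * ((Q⁻¹ : (Matrix (Fin n) (Fin n) K)ˣ) : Matrix (Fin n) (Fin n) K)) * (Q : Matrix (Fin n) (Fin n) K) := by
        rw [Matrix.mul_assoc, Units.inv_mul, Matrix.mul_one]
    _ = c • (Q : Matrix (Fin n) (Fin n) K) := by rw [hc, Matrix.smul_mul, Matrix.one_mul]

end Cocycle

section BGL

variable {k : Type u} [Field k] {K : Type v} [Field K] [Algebra k K] {n : ℕ}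

lemma det_ne_zero_of_unit {m : Type*} [Fintype m] [DecidableEq m] (Z : (Matrix m m K)ˣ) :
    (Z : Matrix m m K).det ≠ 0 :=
  ((Matrix.isUnit_iff_isUnit_det _).mp Z.isUnit).ne_zero

lemma kr_map' (σ : K ≃ₐ[k] K) (Ms : Fin n → Matrix (Fin n) (Fin n) K) :
    (kr Ms).map σ = kr (fun i => (Ms i).map σ) :=
  kr_map (σ : K →+* K) Ms

/-- the normalized Kronecker power `det(Z)⁻¹ • Z^{⊗ n}` of an invertible matrix -/
noncomputable def bGL (Z : (Matrix (Fin n) (Fin n) K)ˣ) : GL (Fin (NN n)) K where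
  val := ((Z : Matrix (Fin n) (Fin n) K).det)⁻¹ • kr (fun _ => (Z : Matrix (Fin n) (Fin n) K))
  inv := (Z : Matrix (Fin n) (Fin n) K).det •
    kr (fun _ => ((Z⁻¹ : (Matrix (Fin n) (Fin n) K)ˣ) : Matrix (Fin n) (Fin n) K))
  val_inv := by
    rw [Matrix.smul_mul, Matrix.mul_smul, smul_smul, ← kr_mul]
    simp only [Units.mul_inv]
    rw [kr_one, inv_mul_cancel₀ (det_ne_zero_of_unit Z), one_smul]
  inv_val := by
    rw [Matrix.smul_mul, Matrix.mul_smul, smul_smul, ← kr_mul]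
    simp only [Units.inv_mul]
    rw [kr_one, mul_inv_cancel₀ (det_ne_zero_of_unit Z), one_smul]

lemma bGL_val (Z : (Matrix (Fin n) (Fin n) K)ˣ) :
    ((bGL Z : GL (Fin (NN n)) K) : Matrix (Fin (NN n)) (Fin (NN n)) K) =
      ((Z : Matrix (Fin n) (Fin n) K).det)⁻¹ • kr (fun _ => (Z : Matrix (Fin n) (Fin n) K)) := rfl

lemma bGL_inv_val (Z : (Matrix (Fin n) (Fin n) K)ˣ) :
    (((bGL Z)⁻¹ : GL (Fin (NN n)) K) : Matrix (Fin (NN n)) (Fin (NN n)) K) =
      (Z : Matrix (Fin n) (Fin n) K).det •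
        kr (fun _ => ((Z⁻¹ : (Matrix (Fin n) (Fin n) K)ˣ) : Matrix (Fin n) (Fin n) K)) := rfl

/-- conjugation by `bGL Z` is the Kronecker power of conjugation by `Z` -/
lemma bGL_conj (Z : (Matrix (Fin n) (Fin n) K)ˣ) (X Y : Fin n → Matrix (Fin n) (Fin n) K)
    (h : ∀ i, Y i = (Z : Matrix (Fin n) (Fin n) K) * X i *
      ((Z⁻¹ : (Matrix (Fin n) (Fin n) K)ˣ) : Matrix (Fin n) (Fin n) K)) :
    ((bGL Z : GL (Fin (NN n)) K) : Matrix (Fin (NN n)) (Fin (NN n)) K) * kr X *
      (((bGL Z)⁻¹ : GL (Fin (NN n)) K) : Matrix (Fin (NN n)) (Fin (NN n)) K) = kr Y := by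
  rw [bGL_val, bGL_inv_val, Matrix.smul_mul, Matrix.smul_mul, Matrix.mul_smul, smul_smul,
    inv_mul_cancel₀ (det_ne_zero_of_unit Z), one_smul, ← kr_mul, ← kr_mul]
  congr 1
  funext i
  exact (h i).symm

/-- a cocycle up to scalars in `GL_n` gives a genuine cocycle in `GL_{n^n}` -/
theorem bGL_cocycle (Z : (K ≃ₐ[k] K) → (Matrix (Fin n) (Fin n) K)ˣ)
    (hc : ∀ σ τ : K ≃ₐ[k] K, ∃ c : K,
      (Z σ : Matrix (Fin n) (Fin n) K) * (Z τ : Matrix (Fin n) (Fin n) K).map σ
        = c • (Z (σ * τ) : Matrix (Fin n) (Fin n) K)) (σ τ : K ≃ₐ[k] K) :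
    ((bGL (Z σ) : GL (Fin (NN n)) K) : Matrix (Fin (NN n)) (Fin (NN n)) K) *
      ((bGL (Z τ) : GL (Fin (NN n)) K) : Matrix (Fin (NN n)) (Fin (NN n)) K).map σ
      = ((bGL (Z (σ * τ)) : GL (Fin (NN n)) K) : Matrix (Fin (NN n)) (Fin (NN n)) K) := by
  obtain ⟨c, hc⟩ := hc σ τ
  have hdet : (Z σ : Matrix (Fin n) (Fin n) K).det * σ ((Z τ : Matrix (Fin n) (Fin n) K).det)
      = c ^ n * (Z (σ * τ) : Matrix (Fin n) (Fin n) K).det := by
    have := congrArg Matrix.det hc
    rwa [Matrix.det_mul, det_map', Matrix.det_smul, Fintype.card_fin] at this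
  have h1 := det_ne_zero_of_unit (Z σ)
  have h2 : σ ((Z τ : Matrix (Fin n) (Fin n) K).det) ≠ 0 := by
    rw [Ne, map_eq_zero_iff σ σ.injective]
    exact det_ne_zero_of_unit (Z τ)
  have h3 := det_ne_zero_of_unit (Z (σ * τ))
  have hcn : c ^ n ≠ 0 := by
    intro h0
    rw [h0, zero_mul] at hdet
    exact mul_ne_zero h1 h2 hdet
  rw [bGL_val, bGL_val, bGL_val, Matrix.map_smul' _ _ _ (map_mul σ), kr_map', map_inv₀,
    Matrix.smul_mul, Matrix.mul_smul, smul_smul, ← kr_mul]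
  simp only [hc]
  rw [kr_smul_const, smul_smul]
  congr 1
  rw [← mul_inv, hdet, mul_inv, mul_comm, ← mul_assoc, mul_inv_cancel₀ hcn, one_mul]

end BGL

section Main

variable {k : Type u} [Field k] {K : Type v} [Field K] [Algebra k K]
  {A : Type w} [Ring A] [Algebra k A] {n : ℕ}

/-- **The period divides the index**: if the finite Galois extension `K/k` splits `A` with
`K ⊗ A ≃ M_n(K)`, then `A^{⊗ n}` is split over `k`. -/
theorem splits_tpow_of_galois [FiniteDimensional k K] [IsGalois k K] [Algebra.IsCentral k A]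
    [IsSimpleRing A] [FiniteDimensional k A] (hn : n ≠ 0)
    (φ : K ⊗[k] A ≃ₐ[K] Matrix (Fin n) (Fin n) K) :
    Curves.Splits k (⨂[k] _ : Fin n, A) k := by
  classical
  haveI : NeZero n := ⟨hn⟩
  haveI : NeZero (NN n) := ⟨NN_ne_zero n⟩
  choose Z hZ using exists_conj φ
  have hZ' : ∀ σ a, rep φ a * (Z σ : Matrix (Fin n) (Fin n) K)
      = (Z σ : Matrix (Fin n) (Fin n) K) * (rep φ a).map σ := by
    intro σ a
    conv_lhs => rw [hZ σ a]
    rw [Matrix.mul_assoc, Units.inv_mul, Matrix.mul_one]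
  have hcoc := bGL_cocycle Z (exists_scalar_cocycle φ Z hZ')
  obtain ⟨Q, hQ⟩ := Groth.Agent.Lib.Hilbert90GL.hilbert90_GL (K := k) (L := K)
    (B := fun σ => bGL (Z σ)) hcoc
  -- abbreviations
  set Qm : Matrix (Fin (NN n)) (Fin (NN n)) K := (Q : Matrix (Fin (NN n)) (Fin (NN n)) K) with hQm
  set Qi : Matrix (Fin (NN n)) (Fin (NN n)) K :=
    ((Q⁻¹ : GL (Fin (NN n)) K) : Matrix (Fin (NN n)) (Fin (NN n)) K) with hQi
  have hQQi : Qm * Qi = 1 := Units.mul_inv Q
  have hQiQ : Qi * Qm = 1 := Units.inv_mul Q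
  -- Galois action on Q
  have hQσ : ∀ σ : K ≃ₐ[k] K, Qm.map σ =
      Qm * ((bGL (Z σ) : GL (Fin (NN n)) K) : Matrix (Fin (NN n)) (Fin (NN n)) K) := by
    intro σ
    have := hQ σ
    rw [this, ← Matrix.mul_assoc, hQQi, Matrix.one_mul]
  have hQiσ : ∀ σ : K ≃ₐ[k] K, Qi.map σ =
      (((bGL (Z σ))⁻¹ : GL (Fin (NN n)) K) : Matrix (Fin (NN n)) (Fin (NN n)) K) * Qi := by
    intro σ
    have h1 : Qi.map σ * Qm.map σ = 1 := by
      rw [← map_mul', hQiQ]
      ext i j
      by_cases hij : i = j <;> simp [Matrix.one_apply, hij]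
    calc Qi.map σ = Qi.map σ * (Qm.map σ *
          ((((bGL (Z σ))⁻¹ : GL (Fin (NN n)) K) : Matrix (Fin (NN n)) (Fin (NN n)) K) * Qi)) := by
            rw [hQσ σ, Matrix.mul_assoc, ← Matrix.mul_assoc (bGL (Z σ)).val, Units.mul_inv,
              Matrix.one_mul, hQQi, Matrix.mul_one]
      _ = _ := by rw [← Matrix.mul_assoc, h1, Matrix.one_mul]
  -- the multilinear map
  let F : MultilinearMap k (fun _ : Fin n => A) (Matrix (Fin (NN n)) (Fin (NN n)) K) :=
    ((LinearMap.mulLeft k Qm).comp (LinearMap.mulRight k Qi)).compMultilinearMap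
      (((krMultilinear K n).restrictScalars k).compLinearMap (fun _ => (rep φ).toLinearMap))
  have hF : ∀ a, F a = Qm * kr (fun i => rep φ (a i)) * Qi := by
    intro a
    simp [F, Matrix.mul_assoc]
  have hFmul : ∀ a b : Fin n → A, F (a * b) = F a * F b := by
    intro a b
    rw [hF, hF, hF]
    have : (fun i => rep φ ((a * b) i)) = fun i => rep φ (a i) * rep φ (b i) := by
      funext i
      rw [Pi.mul_apply, map_mul]
    rw [this, kr_mul]
    calc Qm * (kr (fun i => rep φ (a i)) * kr (fun i => rep φ (b i))) * Qi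
        = Qm * kr (fun i => rep φ (a i)) * 1 * kr (fun i => rep φ (b i)) * Qi := by
          simp only [Matrix.mul_one, Matrix.mul_assoc]
      _ = _ := by
          rw [← hQiQ]
          simp only [Matrix.mul_assoc]
  have hFone : F 1 = 1 := by
    rw [hF]
    have : (fun i : Fin n => rep φ ((1 : Fin n → A) i)) = fun _ => 1 := by
      funext i
      rw [Pi.one_apply, map_one]
    rw [this, kr_one, Matrix.mul_one, hQQi]
  -- Galois invariance
  have hinv : ∀ (σ : K ≃ₐ[k] K) a, (F a).map σ = F a := by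
    intro σ a
    rw [hF, map_mul', map_mul', hQσ, hQiσ, kr_map']
    have := bGL_conj (Z σ) (fun i => (rep φ (a i)).map σ) (fun i => rep φ (a i))
      (fun i => hZ σ (a i))
    calc Qm * (bGL (Z σ)).val * kr (fun i => (rep φ (a i)).map σ) * ((bGL (Z σ))⁻¹.val * Qi)
        = Qm * ((bGL (Z σ)).val * kr (fun i => (rep φ (a i)).map σ) * (bGL (Z σ))⁻¹.val) * Qi := by
          simp only [Matrix.mul_assoc]
      _ = _ := by rw [this]
  have hrat : ∀ a i j, F a i j ∈ Set.range (algebraMap k K) := by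
    intro a i j
    rw [IsGalois.mem_range_algebraMap_iff_fixed]
    intro σ
    have := congrFun (congrFun (hinv σ a) i) j
    simpa using this
  -- descend to `k`
  obtain ⟨r, hr⟩ := LinearMap.exists_leftInverse_of_injective (Algebra.linearMap k K)
    (LinearMap.ker_eq_bot.mpr (algebraMap k K).injective)
  have hr' : ∀ y : k, r (algebraMap k K y) = y := fun y => LinearMap.congr_fun hr y
  let L : (⨂[k] _ : Fin n, A) →ₗ[k] Matrix (Fin (NN n)) (Fin (NN n)) K := PiTensorProduct.lift F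
  let Φ₀ : (⨂[k] _ : Fin n, A) →ₗ[k] Matrix (Fin (NN n)) (Fin (NN n)) k :=
    (LinearMap.mapMatrix r).comp L
  have hL : ∀ x, (Φ₀ x).map (algebraMap k K) = L x := by
    intro x
    induction x using PiTensorProduct.induction_on with
    | smul_tprod c a =>
      have h1 : L (c • PiTensorProduct.tprod k a) = c • F a := by
        rw [map_smul]
        simp only [L, PiTensorProduct.lift.tprod]
      have h2 : Φ₀ (c • PiTensorProduct.tprod k a) = c • (F a).map r := by
        simp only [Φ₀, LinearMap.comp_apply]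
        rw [h1, map_smul]
        rfl
      rw [h1, h2]
      ext i j
      obtain ⟨y, hy⟩ := hrat a i j
      rw [Matrix.map_apply, Matrix.smul_apply, Matrix.smul_apply, Matrix.map_apply, ← hy, hr',
        smul_eq_mul, map_mul, Algebra.smul_def]
    | add x y hx hy =>
      rw [map_add, map_add, ← hx, ← hy]
      ext i j
      simp
  have hinjmap : Function.Injective
      (fun M : Matrix (Fin (NN n)) (Fin (NN n)) k => M.map (algebraMap k K)) :=
    Matrix.map_injective (algebraMap k K).injective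
  have hΦmul : ∀ x y, Φ₀ (x * y) = Φ₀ x * Φ₀ y := by
    apply Groth.Agent.Lib.CSATpow.map_mul_of_tprod
    intro f g
    apply hinjmap
    simp only
    rw [Matrix.map_mul, hL, hL, hL]
    simp only [L, PiTensorProduct.lift.tprod]
    exact hFmul f g
  have hΦone : Φ₀ 1 = 1 := by
    apply hinjmap
    simp only
    rw [hL, PiTensorProduct.one_def]
    simp only [L, PiTensorProduct.lift.tprod]
    rw [hFone]
    ext i j
    by_cases hij : i = j <;> simp [Matrix.one_apply, hij]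
  let Φ : (⨂[k] _ : Fin n, A) →ₐ[k] Matrix (Fin (NN n)) (Fin (NN n)) k :=
    AlgHom.ofLinearMap Φ₀ hΦone hΦmul
  obtain ⟨hfd, -, hsimple, hrank⟩ := Groth.Agent.Lib.CSATpow.tpow_csa k A n
  have hinj : Function.Injective Φ := fun x y hxy => RingHom.injective Φ.toRingHom hxy
  have hrankA : Module.finrank k A = n ^ 2 := by
    have h1 : Module.finrank K (K ⊗[k] A) = Module.finrank k A := Module.finrank_baseChange
    rw [← h1, φ.toLinearEquiv.finrank_eq, Module.finrank_matrix]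
    simp [sq]
  have hdim : Module.finrank k (⨂[k] _ : Fin n, A)
      = Module.finrank k (Matrix (Fin (NN n)) (Fin (NN n)) k) := by
    rw [hrank, hrankA, Module.finrank_matrix, Module.finrank_self, Fintype.card_fin, mul_one,
      NN_eq, ← pow_mul, ← sq, ← pow_mul, mul_comm]
  have hsurj := (LinearMap.injective_iff_surjective_of_finrank_eq_finrank
    (f := Φ.toLinearMap) hdim).mp hinj
  exact ⟨NN n, NN_ne_zero n,
    ⟨(Algebra.TensorProduct.lid k _).trans (AlgEquiv.ofBijective Φ ⟨hinj, hsurj⟩)⟩⟩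

end Main

end Groth.Agent.Lib.CSAPeriodIndex
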