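import Mathlib
import Groth.Prelude.Def_Curves
import Groth.Agent.Lib.CSAPeriodIndex

/-!
# The reduced norm as a form over the base field

helper16.  For a splitting `φ : K ⊗[k] A ≃ M_n(K)` over a finite Galois extension and a family
`b : ι → A`, the polynomial `normForm φ b = det (∑ X_i φ(1 ⊗ b_i)) ∈ K[X_i]` is homogeneous of degree
`n`, Galois invariant (Skolem–Noether), hence descends to `k`: `exists_form`.
-/

universe u v w

open scoped TensorProduct
open Matrix MvPolynomial

namespace Groth.Agent.Lib.CSARedNormForm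

open Groth.Agent.Lib.CSAPeriodIndex

section Form

variable {k : Type u} [Field k] {K : Type v} [Field K] [Algebra k K]
  {A : Type w} [Ring A] [Algebra k A] {n : ℕ} {ι : Type*} [Fintype ι]

/-- the generic matrix `∑ X_i φ(1 ⊗ b_i)` -/
noncomputable def genMat (φ : K ⊗[k] A ≃ₐ[K] Matrix (Fin n) (Fin n) K) (b : ι → A) :
    Matrix (Fin n) (Fin n) (MvPolynomial ι K) :=
  ∑ i, (X i : MvPolynomial ι K) • (C : K →+* MvPolynomial ι K).mapMatrix (rep φ (b i))

/-- the reduced norm form over the splitting field -/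
noncomputable def normForm (φ : K ⊗[k] A ≃ₐ[K] Matrix (Fin n) (Fin n) K) (b : ι → A) :
    MvPolynomial ι K := (genMat φ b).det

lemma genMat_apply (φ : K ⊗[k] A ≃ₐ[K] Matrix (Fin n) (Fin n) K) (b : ι → A) (p q : Fin n) :
    genMat φ b p q = ∑ i, C (rep φ (b i) p q) * X i := by
  simp [genMat, Matrix.sum_apply, mul_comm]

lemma genMat_map_eval (φ : K ⊗[k] A ≃ₐ[K] Matrix (Fin n) (Fin n) K) (b : ι → A) (y : ι → K) :
    (eval y).mapMatrix (genMat φ b) = ∑ i, y i • rep φ (b i) := by
  ext p q
  simp [genMat_apply, Matrix.sum_apply, mul_comm]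

lemma eval_normForm (φ : K ⊗[k] A ≃ₐ[K] Matrix (Fin n) (Fin n) K) (b : ι → A) (y : ι → K) :
    eval y (normForm φ b) = (∑ i, y i • rep φ (b i)).det := by
  rw [normForm, RingHom.map_det, genMat_map_eval]

lemma eval_normForm_algebraMap (φ : K ⊗[k] A ≃ₐ[K] Matrix (Fin n) (Fin n) K) (b : ι → A)
    (x : ι → k) :
    eval (fun i => algebraMap k K (x i)) (normForm φ b) = (rep φ (∑ i, x i • b i)).det := by
  rw [eval_normForm, map_sum]
  congr 1
  refine Finset.sum_congr rfl fun i _ => ?_
  rw [map_smul, algebraMap_smul]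

lemma isHomogeneous_normForm (φ : K ⊗[k] A ≃ₐ[K] Matrix (Fin n) (Fin n) K) (b : ι → A) :
    (normForm φ b).IsHomogeneous n := by
  rw [normForm, Matrix.det_apply']
  apply IsHomogeneous.sum
  intro σ _
  have h1 : (∏ p, genMat φ b (σ p) p).IsHomogeneous (∑ _p : Fin n, 1) := by
    apply IsHomogeneous.prod
    intro p _
    rw [genMat_apply]
    apply IsHomogeneous.sum
    intro i _
    exact isHomogeneous_C_mul_X _ _
  simp only [Finset.sum_const, Finset.card_univ, Fintype.card_fin, smul_eq_mul, mul_one] at h1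
  have h2 : ((Equiv.Perm.sign σ : ℤ) : MvPolynomial ι K) = C ((Equiv.Perm.sign σ : ℤ) : K) := by
    simp
  rw [h2]
  have := (isHomogeneous_C ι ((Equiv.Perm.sign σ : ℤ) : K)).mul h1
  simpa using this

/-- Galois invariance of the reduced norm form -/
theorem map_normForm [NeZero n] (φ : K ⊗[k] A ≃ₐ[K] Matrix (Fin n) (Fin n) K) (b : ι → A)
    (σ : K ≃ₐ[k] K) : MvPolynomial.map (σ : K →+* K) (normForm φ b) = normForm φ b := by
  obtain ⟨Z, hZ⟩ := exists_conj φ σ
  have hZ' : ∀ a, (rep φ a).map σ = ((Z⁻¹ : (Matrix (Fin n) (Fin n) K)ˣ) : Matrix (Fin n) (Fin n) K)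
      * rep φ a * (Z : Matrix (Fin n) (Fin n) K) := by
    intro a
    conv_rhs => rw [hZ a]
    simp only [Matrix.mul_assoc, Units.inv_mul, Matrix.mul_one]
    rw [← Matrix.mul_assoc, Units.inv_mul, Matrix.one_mul]
  set cm := (C : K →+* MvPolynomial ι K).mapMatrix (m := Fin n) with hcm
  have h1 : (MvPolynomial.map (σ : K →+* K)).mapMatrix (genMat φ b)
      = cm ((Z⁻¹ : (Matrix (Fin n) (Fin n) K)ˣ) : Matrix (Fin n) (Fin n) K) * genMat φ b
        * cm (Z : Matrix (Fin n) (Fin n) K) := by
    have h2 : (MvPolynomial.map (σ : K →+* K)).mapMatrix (genMat φ b)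
        = ∑ i, (X i : MvPolynomial ι K) • cm ((rep φ (b i)).map σ) := by
      ext p q
      simp [genMat_apply, Matrix.sum_apply, cm, mul_comm]
    rw [h2, genMat, Finset.mul_sum, Finset.sum_mul]
    refine Finset.sum_congr rfl fun i _ => ?_
    rw [hZ', map_mul, map_mul, Matrix.mul_smul, Matrix.smul_mul]
  rw [normForm, RingHom.map_det, h1, Matrix.det_mul, Matrix.det_mul, mul_right_comm,
    ← Matrix.det_mul, ← map_mul, Units.inv_mul, map_one, Matrix.det_one, one_mul]

/-- the reduced norm form descends to the base field -/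
theorem exists_form [FiniteDimensional k K] [IsGalois k K] [NeZero n]
    (φ : K ⊗[k] A ≃ₐ[K] Matrix (Fin n) (Fin n) K) (b : ι → A) :
    ∃ F : MvPolynomial ι k, F.IsHomogeneous n ∧
      ∀ x : ι → k, algebraMap k K (eval x F) = (rep φ (∑ i, x i • b i)).det := by
  classical
  obtain ⟨r, hr⟩ := LinearMap.exists_leftInverse_of_injective (Algebra.linearMap k K)
    (LinearMap.ker_eq_bot.mpr (algebraMap k K).injective)
  have hr' : ∀ y : k, r (algebraMap k K y) = y := fun y => LinearMap.congr_fun hr y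
  set FL := normForm φ b with hFL
  have hcoeff : ∀ μ, algebraMap k K (r (FL.coeff μ)) = FL.coeff μ := by
    intro μ
    have hfix : FL.coeff μ ∈ Set.range (algebraMap k K) := by
      rw [IsGalois.mem_range_algebraMap_iff_fixed]
      intro σ
      have := congrArg (MvPolynomial.coeff μ) (map_normForm φ b σ)
      rw [MvPolynomial.coeff_map] at this
      exact this
    obtain ⟨y, hy⟩ := hfix
    rw [← hy, hr']
  let F : MvPolynomial ι k := ∑ μ ∈ FL.support, MvPolynomial.monomial μ (r (FL.coeff μ))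
  have hFc : ∀ ν, F.coeff ν = r (FL.coeff ν) := by
    intro ν
    simp only [F, MvPolynomial.coeff_sum, MvPolynomial.coeff_monomial]
    rw [Finset.sum_ite_eq']
    split_ifs with h
    · rfl
    · rw [MvPolynomial.notMem_support_iff.mp h, map_zero]
  have hmap : MvPolynomial.map (algebraMap k K) F = FL := by
    ext ν
    rw [MvPolynomial.coeff_map, hFc, hcoeff]
  refine ⟨F, ?_, ?_⟩
  · intro ν hν
    apply isHomogeneous_normForm φ b
    rw [← hFL]
    intro h0
    apply hν
    rw [hFc, h0, map_zero]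
  · intro x
    rw [← eval_normForm_algebraMap, ← hFL, ← hmap, MvPolynomial.eval_map]
    have := MvPolynomial.eval₂_comp_left (algebraMap k K) (RingHom.id k) x F
    rw [RingHom.comp_id] at this
    exact this

end Form

end Groth.Agent.Lib.CSARedNormForm
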