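import Mathlib

/-!
# Regular diagonalisable matrices and the Hankel discriminant

helper16.  A square matrix over a field is *regular diagonalisable* (`IsRegDiag`) if it is
conjugate to a diagonal matrix with pairwise distinct diagonal entries.  For such a matrix `M`:
the commutant of `M` consists of the matrices `P * diagonal c * P⁻¹` (`IsRegDiag.exists_of_commute`),
all of which have separable minimal polynomial (`minpoly_diagConj_separable`), and the powers
`1, M, …, M^(n-1)` are linearly independent.  Over an algebraically closed field, `M` is regular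
diagonalisable iff its characteristic polynomial is separable iff its *Hankel discriminant*
`det (tr M^(i+j))` does not vanish (`isRegDiag_iff_hankel`).
-/

universe u v

open Matrix Polynomial

namespace Groth.Agent.Lib.RegDiag16

section Hankel

variable {R : Type u} [CommRing R] {S : Type v} [CommRing S] {n : ℕ}

/-- the Hankel matrix of traces of powers -/
def hankel (M : Matrix (Fin n) (Fin n) R) : Matrix (Fin n) (Fin n) R :=
  Matrix.of fun i j => trace (M ^ ((i : ℕ) + (j : ℕ)))

lemma hankel_apply (M : Matrix (Fin n) (Fin n) R) (i j : Fin n) :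
    hankel M i j = trace (M ^ ((i : ℕ) + (j : ℕ))) := rfl

lemma map_hankel (f : R →+* S) (M : Matrix (Fin n) (Fin n) R) :
    f.mapMatrix (hankel M) = hankel (f.mapMatrix M) := by
  ext i j
  simp only [RingHom.mapMatrix_apply, Matrix.map_apply, hankel_apply]
  rw [← RingHom.mapMatrix_apply, ← map_pow, RingHom.mapMatrix_apply]
  exact AddMonoidHom.map_trace f.toAddMonoidHom _

lemma map_det_hankel (f : R →+* S) (M : Matrix (Fin n) (Fin n) R) :
    f (hankel M).det = (hankel (f.mapMatrix M)).det := by
  rw [RingHom.map_det, map_hankel]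

end Hankel

variable {L : Type u} [Field L] {n : ℕ}

/-- conjugation by a unit, as an algebra endomorphism of the matrix algebra -/
noncomputable def conj (P : (Matrix (Fin n) (Fin n) L)ˣ) :
    Matrix (Fin n) (Fin n) L →ₐ[L] Matrix (Fin n) (Fin n) L where
  toFun X := (P : Matrix (Fin n) (Fin n) L) * X *
    ((P⁻¹ : (Matrix (Fin n) (Fin n) L)ˣ) : Matrix (Fin n) (Fin n) L)
  map_one' := by simp
  map_mul' X Y := by
    simp only [Matrix.mul_assoc]
    rw [← Matrix.mul_assoc (((P⁻¹ : (Matrix (Fin n) (Fin n) L)ˣ) : Matrix (Fin n) (Fin n) L))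
      (P : Matrix (Fin n) (Fin n) L), Units.inv_mul, Matrix.one_mul]
  map_zero' := by simp
  map_add' X Y := by simp [Matrix.mul_add, Matrix.add_mul]
  commutes' c := by
    rw [Algebra.algebraMap_eq_smul_one]
    simp

lemma conj_apply (P : (Matrix (Fin n) (Fin n) L)ˣ) (X : Matrix (Fin n) (Fin n) L) :
    conj P X = (P : Matrix (Fin n) (Fin n) L) * X *
      ((P⁻¹ : (Matrix (Fin n) (Fin n) L)ˣ) : Matrix (Fin n) (Fin n) L) := rfl

lemma conj_injective (P : (Matrix (Fin n) (Fin n) L)ˣ) : Function.Injective (conj P) := by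
  intro X Y h
  have h2 := congrArg (fun Z => ((P⁻¹ : (Matrix (Fin n) (Fin n) L)ˣ) : Matrix (Fin n) (Fin n) L)
    * Z * (P : Matrix (Fin n) (Fin n) L)) h
  simp only [conj_apply] at h2
  simpa [Matrix.mul_assoc] using h2

/-- `c ↦ P * diagonal c * P⁻¹` as an algebra homomorphism -/
noncomputable def diagConj (P : (Matrix (Fin n) (Fin n) L)ˣ) :
    (Fin n → L) →ₐ[L] Matrix (Fin n) (Fin n) L :=
  (conj P).comp (Matrix.diagonalAlgHom L)

lemma diagConj_apply (P : (Matrix (Fin n) (Fin n) L)ˣ) (c : Fin n → L) :
    diagConj P c = (P : Matrix (Fin n) (Fin n) L) * diagonal c *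
      ((P⁻¹ : (Matrix (Fin n) (Fin n) L)ˣ) : Matrix (Fin n) (Fin n) L) := rfl

lemma diagConj_injective (P : (Matrix (Fin n) (Fin n) L)ˣ) : Function.Injective (diagConj P) := by
  intro c c' h
  have := conj_injective P h
  exact Matrix.diagonal_injective this

/-- conjugate to a diagonal matrix with pairwise distinct diagonal entries -/
def IsRegDiag (M : Matrix (Fin n) (Fin n) L) : Prop :=
  ∃ (P : (Matrix (Fin n) (Fin n) L)ˣ) (d : Fin n → L), Function.Injective d ∧ M = diagConj P d

lemma eq_diagonal_of_commute {d : Fin n → L} (hd : Function.Injective d)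
    {Y : Matrix (Fin n) (Fin n) L} (h : Y * diagonal d = diagonal d * Y) :
    Y = diagonal (fun i => Y i i) := by
  ext i j
  by_cases hij : i = j
  · subst hij; simp
  · have h1 := congrFun (congrFun h i) j
    rw [Matrix.mul_diagonal, Matrix.diagonal_mul] at h1
    have h2 : Y i j * (d j - d i) = 0 := by rw [mul_sub, h1]; ring
    rcases mul_eq_zero.mp h2 with h3 | h3
    · rw [h3, Matrix.diagonal_apply_ne _ hij]
    · exact absurd (hd (sub_eq_zero.mp h3)).symm hij

/-- the commutant of a regular diagonalisable matrix -/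
theorem exists_of_commute (P : (Matrix (Fin n) (Fin n) L)ˣ) {d : Fin n → L}
    (hd : Function.Injective d) {Y : Matrix (Fin n) (Fin n) L}
    (h : Y * diagConj P d = diagConj P d * Y) : ∃ c : Fin n → L, Y = diagConj P c := by
  set Pi : Matrix (Fin n) (Fin n) L := ((P⁻¹ : (Matrix (Fin n) (Fin n) L)ˣ) :
    Matrix (Fin n) (Fin n) L) with hPi
  set Pm : Matrix (Fin n) (Fin n) L := (P : Matrix (Fin n) (Fin n) L) with hPm
  have h1 : Pi * Pm = 1 := Units.inv_mul P
  have h2 : Pm * Pi = 1 := Units.mul_inv P
  set Y' := Pi * Y * Pm with hY'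
  have hc : Y' * diagonal d = diagonal d * Y' := by
    have h3 := congrArg (fun Z => Pi * Z * Pm) h
    simp only [diagConj_apply] at h3
    calc Y' * diagonal d = Pi * (Y * (Pm * diagonal d * Pi)) * Pm := by
          rw [hY']; simp only [Matrix.mul_assoc]; rw [h1, Matrix.mul_one]
      _ = Pi * (Pm * diagonal d * Pi * Y) * Pm := h3
      _ = diagonal d * Y' := by
          rw [hY']; simp only [Matrix.mul_assoc]
          rw [← Matrix.mul_assoc Pi Pm, h1, Matrix.one_mul]
  have h3 := eq_diagonal_of_commute hd hc
  refine ⟨fun i => Y' i i, ?_⟩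
  rw [diagConj_apply, ← h3, hY']
  simp only [Matrix.mul_assoc]
  rw [h2, Matrix.mul_one, ← Matrix.mul_assoc, h2, Matrix.one_mul]

lemma aeval_diagConj (P : (Matrix (Fin n) (Fin n) L)ˣ) (c : Fin n → L) (q : L[X]) :
    aeval (diagConj P c) q = diagConj P (fun i => q.eval (c i)) := by
  rw [Polynomial.aeval_algHom_apply]
  congr 1
  ext i
  have := Polynomial.aeval_algHom_apply (Pi.evalAlgHom L (fun _ : Fin n => L) i) c q
  simp only [Pi.evalAlgHom_apply] at this
  rw [← this, Polynomial.coe_aeval_eq_eval]

/-- every matrix `P * diagonal c * P⁻¹` has separable minimal polynomial -/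
theorem minpoly_diagConj_separable (P : (Matrix (Fin n) (Fin n) L)ˣ) (c : Fin n → L) :
    (minpoly L (diagConj P c)).Separable := by
  classical
  set g : L[X] := ∏ a ∈ Finset.image c Finset.univ, (X - C a) with hg
  have hsep : g.Separable := by
    rw [hg]
    exact (Polynomial.separable_prod_X_sub_C_iff' (f := fun a : L => a)).mpr
      (fun x _ y _ h => h)
  have hzero : aeval (diagConj P c) g = 0 := by
    rw [aeval_diagConj]
    have : (fun i => g.eval (c i)) = (0 : Fin n → L) := by
      ext i
      rw [hg, Polynomial.eval_prod]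
      apply Finset.prod_eq_zero (Finset.mem_image_of_mem c (Finset.mem_univ i))
      simp
    rw [this, map_zero]
  exact hsep.of_dvd (minpoly.dvd L _ hzero)

/-- the powers `M^j`, `j < n`, of a regular diagonalisable matrix are linearly independent -/
theorem IsRegDiag.linearIndependent_pow {M : Matrix (Fin n) (Fin n) L} (h : IsRegDiag M) :
    LinearIndependent L (fun j : Fin n => M ^ (j : ℕ)) := by
  obtain ⟨P, d, hd, rfl⟩ := h
  rw [Fintype.linearIndependent_iff]
  intro a ha
  have h1 : ∑ j : Fin n, a j • diagConj P d ^ (j : ℕ)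
      = diagConj P (fun i => ∑ j : Fin n, a j * d i ^ (j : ℕ)) := by
    have : (fun i => ∑ j : Fin n, a j * d i ^ (j : ℕ)) = ∑ j : Fin n, a j • d ^ (j : ℕ) := by
      ext i
      simp [Finset.sum_apply]
    rw [this, map_sum]
    refine Finset.sum_congr rfl fun j _ => ?_
    rw [map_smul, map_pow]
  rw [h1] at ha
  have h2 : (fun i => ∑ j : Fin n, a j * d i ^ (j : ℕ)) = 0 :=
    diagConj_injective P (by rw [ha, map_zero])
  have h3 := Matrix.eq_zero_of_forall_index_sum_mul_pow_eq_zero hd (v := a)
    (fun i => congrFun h2 i)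
  intro j
  rw [h3]; rfl

lemma trace_diagConj (P : (Matrix (Fin n) (Fin n) L)ˣ) (c : Fin n → L) :
    trace (diagConj P c) = ∑ i, c i := by
  rw [diagConj_apply, Matrix.trace_mul_comm, ← Matrix.mul_assoc, Units.inv_mul, Matrix.one_mul,
    Matrix.trace_diagonal]

lemma hankel_diagConj (P : (Matrix (Fin n) (Fin n) L)ˣ) (d : Fin n → L) :
    hankel (diagConj P d) = (vandermonde d)ᵀ * vandermonde d := by
  ext i j
  rw [hankel_apply, ← map_pow, trace_diagConj, Matrix.mul_apply]
  refine Finset.sum_congr rfl fun l _ => ?_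
  simp [vandermonde_apply, pow_add]

theorem IsRegDiag.hankel_det_ne_zero {M : Matrix (Fin n) (Fin n) L} (h : IsRegDiag M) :
    (hankel M).det ≠ 0 := by
  obtain ⟨P, d, hd, rfl⟩ := h
  rw [hankel_diagConj, Matrix.det_mul, Matrix.det_transpose]
  have := Matrix.det_vandermonde_ne_zero_iff.mpr hd
  exact mul_ne_zero this this

/-- key consequence of the non-vanishing of the Hankel discriminant -/
theorem eq_zero_of_isNilpotent_aeval {M : Matrix (Fin n) (Fin n) L} (hM : (hankel M).det ≠ 0)
    {g : L[X]} (hg : g.natDegree < n) (hnil : IsNilpotent (aeval M g)) : g = 0 := by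
  set c : Fin n → L := fun j => g.coeff j with hc
  have hN : aeval M g = ∑ j : Fin n, c j • M ^ (j : ℕ) := by
    rw [Polynomial.aeval_eq_sum_range' hg, ← Fin.sum_univ_eq_sum_range (fun j => g.coeff j • M ^ j)]
  have h1 : hankel M *ᵥ c = 0 := by
    ext i
    have hcomm : Commute (M ^ (i : ℕ)) (aeval M g) := by
      have : Commute M (aeval M g) := by
        have := (Polynomial.aeval M).toRingHom.map_mul X g
        have h2 : (X * g : L[X]) = g * X := mul_comm _ _
        unfold Commute SemiconjBy
        have e1 : M * aeval M g = aeval M (X * g) := by rw [map_mul, aeval_X]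
        have e2 : aeval M g * M = aeval M (g * X) := by rw [map_mul, aeval_X]
        rw [e1, e2, h2]
      exact this.pow_left _
    have h2 : IsNilpotent (M ^ (i : ℕ) * aeval M g) := hcomm.isNilpotent_mul_left hnil
    have h3 : trace (M ^ (i : ℕ) * aeval M g) = 0 :=
      (Matrix.isNilpotent_trace_of_isNilpotent h2).eq_zero
    rw [hN, Finset.mul_sum, Matrix.trace_sum] at h3
    simp only [Matrix.mulVec, dotProduct, hankel_apply, Pi.zero_apply]
    rw [← h3]
    refine Finset.sum_congr rfl fun j _ => ?_
    rw [Matrix.mul_smul, Matrix.trace_smul, ← pow_add, smul_eq_mul, mul_comm]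
  have h2 : c = 0 := Matrix.eq_zero_of_mulVec_eq_zero hM h1
  ext m
  rw [Polynomial.coeff_zero]
  by_cases hm : m < n
  · exact congrFun h2 ⟨m, hm⟩
  · exact Polynomial.coeff_eq_zero_of_natDegree_lt (by omega)

/-- non-vanishing Hankel discriminant forces the characteristic polynomial to be squarefree and
equal to the minimal polynomial -/
theorem charpoly_squarefree_of_hankel {M : Matrix (Fin n) (Fin n) L} (hM : (hankel M).det ≠ 0) :
    Squarefree M.charpoly := by
  have hint : IsIntegral L M := Algebra.IsIntegral.isIntegral M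
  set μ := minpoly L M with hμ
  have hμ0 : μ ≠ 0 := minpoly.ne_zero hint
  have hdvd : μ ∣ M.charpoly := Matrix.minpoly_dvd_charpoly M
  have hχn : M.charpoly.natDegree = n := by
    rw [Matrix.charpoly_natDegree_eq_dim, Fintype.card_fin]
  have hle : μ.natDegree ≤ n := by
    rw [← hχn]
    exact Polynomial.natDegree_le_of_dvd hdvd (Matrix.charpoly_monic M).ne_zero
  have hge : n ≤ μ.natDegree := by
    by_contra hlt
    push Not at hlt
    exact hμ0 (eq_zero_of_isNilpotent_aeval hM hlt (by rw [hμ, minpoly.aeval]; exact IsNilpotent.zero))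
  have heq : μ = M.charpoly := by
    refine (Polynomial.eq_of_monic_of_dvd_of_natDegree_le (minpoly.monic hint)
      (Matrix.charpoly_monic M) hdvd ?_).symm
    rw [hχn]; exact hge
  rw [← heq]
  intro q hq
  by_contra hqu
  obtain ⟨s, hs⟩ := hq
  have hq0 : q ≠ 0 := by
    rintro rfl
    apply hμ0
    rw [hs]; simp
  have hs0 : s ≠ 0 := by
    rintro rfl
    apply hμ0
    rw [hs]; simp
  have hqd : 0 < q.natDegree := by
    rw [Nat.pos_iff_ne_zero]
    intro h0
    apply hqu
    rw [Polynomial.isUnit_iff_degree_eq_zero, Polynomial.degree_eq_natDegree hq0, h0]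
    rfl
  have hdeg : μ.natDegree = q.natDegree + q.natDegree + s.natDegree := by
    rw [hs, Polynomial.natDegree_mul (mul_ne_zero hq0 hq0) hs0, Polynomial.natDegree_mul hq0 hq0]
  have hg : (q * s).natDegree < n := by
    rw [Polynomial.natDegree_mul hq0 hs0]
    omega
  have hnil : IsNilpotent (aeval M (q * s)) := by
    refine ⟨2, ?_⟩
    rw [← map_pow]
    have : (q * s) ^ 2 = μ * s := by rw [hs]; ring
    rw [this, map_mul, hμ, minpoly.aeval, zero_mul]
  have := eq_zero_of_isNilpotent_aeval hM hg hnil
  exact (mul_ne_zero hq0 hs0) this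

section AlgClosed

variable [IsAlgClosed L]

/-- over an algebraically closed field, a matrix with separable characteristic polynomial is
regular diagonalisable -/
theorem isRegDiag_of_charpoly_separable {M : Matrix (Fin n) (Fin n) L}
    (hsep : M.charpoly.Separable) : IsRegDiag M := by
  classical
  have hχn : M.charpoly.natDegree = n := by
    rw [Matrix.charpoly_natDegree_eq_dim, Fintype.card_fin]
  have hsplit : M.charpoly.Splits := IsAlgClosed.splits _
  have hcard : M.charpoly.roots.toFinset.card = n := by
    rw [Multiset.toFinset_card_of_nodup (Polynomial.nodup_roots hsep),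
      ← hsplit.natDegree_eq_card_roots]
    exact hχn
  let e := (Finset.equivFinOfCardEq hcard).symm
  let d : Fin n → L := fun i => (e i : L)
  have hd : Function.Injective d := fun i j h => e.injective (Subtype.ext h)
  have hroot : ∀ i, M.charpoly.eval (d i) = 0 := by
    intro i
    have : d i ∈ M.charpoly.roots.toFinset := (e i).2
    rw [Multiset.mem_toFinset, Polynomial.mem_roots (Matrix.charpoly_monic M).ne_zero] at this
    exact this
  have hev : ∀ i, ∃ v : Fin n → L, v ≠ 0 ∧ M *ᵥ v = d i • v := by
    intro i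
    have h1 := hroot i
    rw [Matrix.eval_charpoly] at h1
    obtain ⟨v, hv0, hv⟩ := Matrix.exists_mulVec_eq_zero_iff.mpr h1
    refine ⟨v, hv0, ?_⟩
    rw [Matrix.sub_mulVec, sub_eq_zero] at hv
    rw [← hv]
    ext a
    simp [Matrix.mulVec, dotProduct, Matrix.scalar_apply, Matrix.diagonal_apply]
  choose v hv0 hv using hev
  have hli : LinearIndependent L v := by
    apply Module.End.eigenvectors_linearIndependent' (Matrix.toLin' M) d hd v
    intro i
    refine ⟨?_, hv0 i⟩
    rw [Module.End.mem_eigenspace_iff, Matrix.toLin'_apply]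
    exact hv i
  set P : Matrix (Fin n) (Fin n) L := Matrix.of (fun a i => v i a) with hP
  have hPu : IsUnit P := by
    have hcol : P.col = v := by
      ext i a; rfl
    rw [← Matrix.linearIndependent_cols_iff_isUnit, hcol]
    exact hli
  obtain ⟨Pu, hPu'⟩ := hPu
  have hMP : M * P = P * diagonal d := by
    ext a i
    rw [Matrix.mul_diagonal]
    have := congrFun (hv i) a
    simp only [Matrix.mulVec, dotProduct, Pi.smul_apply, smul_eq_mul] at this
    rw [Matrix.mul_apply]
    simp only [hP, Matrix.of_apply]
    rw [this, mul_comm]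
  refine ⟨Pu, d, hd, ?_⟩
  rw [diagConj_apply, hPu', ← hMP, Matrix.mul_assoc, ← hPu', Units.mul_inv, Matrix.mul_one]

/-- over an algebraically closed field, regular diagonalisability is detected by the Hankel
discriminant -/
theorem isRegDiag_iff_hankel {M : Matrix (Fin n) (Fin n) L} :
    IsRegDiag M ↔ (hankel M).det ≠ 0 :=
  ⟨fun h => h.hankel_det_ne_zero, fun h =>
    isRegDiag_of_charpoly_separable
      (PerfectField.separable_iff_squarefree.mpr (charpoly_squarefree_of_hankel h))⟩

/-- a matrix killed by a separable polynomial whose first `n` powers are linearly independent is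
regular diagonalisable -/
theorem isRegDiag_of_separable {M : Matrix (Fin n) (Fin n) L} {p : L[X]} (hp : p.Separable)
    (hpM : aeval M p = 0) (hli : LinearIndependent L (fun j : Fin n => M ^ (j : ℕ))) :
    IsRegDiag M := by
  have hint : IsIntegral L M := Algebra.IsIntegral.isIntegral M
  set μ := minpoly L M with hμ
  have hdvd : μ ∣ M.charpoly := Matrix.minpoly_dvd_charpoly M
  have hχn : M.charpoly.natDegree = n := by
    rw [Matrix.charpoly_natDegree_eq_dim, Fintype.card_fin]
  have hge : n ≤ μ.natDegree := by
    by_contra hlt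
    push Not at hlt
    have h1 : aeval M μ = 0 := minpoly.aeval L M
    rw [Polynomial.aeval_eq_sum_range' hlt,
      ← Fin.sum_univ_eq_sum_range (fun j => μ.coeff j • M ^ j)] at h1
    have h2 := Fintype.linearIndependent_iff.mp hli (fun j => μ.coeff j) h1
    have h3 : μ.coeff μ.natDegree = 0 := h2 ⟨μ.natDegree, hlt⟩
    have h4 : μ.leadingCoeff = 1 := minpoly.monic hint
    rw [Polynomial.leadingCoeff, h3] at h4
    exact zero_ne_one h4
  have heq : μ = M.charpoly := by
    refine (Polynomial.eq_of_monic_of_dvd_of_natDegree_le (minpoly.monic hint)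
      (Matrix.charpoly_monic M) hdvd ?_).symm
    rw [hχn]; exact hge
  apply isRegDiag_of_charpoly_separable
  rw [← heq]
  exact hp.of_dvd (minpoly.dvd L M hpM)

end AlgClosed

end Groth.Agent.Lib.RegDiag16
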