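import Mathlib
import Groth.Agent.Lib.RegDiag16
import Groth.Agent.Lib.CSAPeriodIndex
import Groth.Agent.Lib.CSASplit

/-!
# Regular elements of a split algebra

helper16.  Let `φ : L ⊗[k] A ≃ₐ[L] M_n(L)` be a splitting of a `k`-algebra `A`.  An element `x : A` is
*regular (separable)* if `rep φ x = φ (1 ⊗ x)` is regular diagonalisable (`RegDiag16.IsRegDiag`).

* `minpoly_rep`: `minpoly L (rep φ y) = (minpoly k y).map (algebraMap k L)`.
* `finrank_adjoin_singleton`: `finrank k (adjoin k {x}) = (minpoly k x).natDegree`.
* consequences of regularity (`IsRegDiag (rep φ x)`): the powers `x^j`, `j < n`, are linearly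
  independent; everything commuting with `x` is separable over `k` and lies in the span of the
  powers `x^j`, `j < n`; `adjoin k {x}` has dimension `n` and is separable.
* converse over an algebraically closed `L`: `isRegDiag_rep_of_separable`.
-/

universe u v w

open scoped TensorProduct
open Matrix Polynomial

namespace Groth.Agent.Lib.CSARegular16

open Groth.Agent.Lib.RegDiag16 Groth.Agent.Lib.CSAPeriodIndex

section General

variable {k : Type u} [Field k] {A : Type w} [Ring A] [Algebra k A] [Nontrivial A]

/-- the dimension of `k[x]` is the degree of the minimal polynomial -/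
theorem finrank_adjoin_singleton (x : A) (hx : IsIntegral k x) :
    Module.finrank k (Algebra.adjoin k ({x} : Set A)) = (minpoly k x).natDegree := by
  set m := (minpoly k x).natDegree with hm
  have hli : LinearIndependent k (fun j : Fin m => x ^ (j : ℕ)) := linearIndependent_pow x
  set S : Submodule k A := Submodule.span k (Set.range (fun j : Fin m => x ^ (j : ℕ))) with hS
  have hSeq : Subalgebra.toSubmodule (Algebra.adjoin k ({x} : Set A)) = S := by
    apply le_antisymm
    · intro y hy
      rw [Subalgebra.mem_toSubmodule, Algebra.adjoin_singleton_eq_range_aeval] at hy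
      obtain ⟨p, rfl⟩ := hy
      have h1 : aeval x p = aeval x (p %ₘ minpoly k x) := by
        conv_lhs => rw [← Polynomial.modByMonic_add_div p (minpoly k x)]
        rw [map_add, map_mul, minpoly.aeval, zero_mul, add_zero]
      have h2 : (p %ₘ minpoly k x).natDegree < m := by
        have hmon := minpoly.monic hx
        by_cases h0 : p %ₘ minpoly k x = 0
        · rw [h0, Polynomial.natDegree_zero]
          exact minpoly.natDegree_pos hx
        · exact Polynomial.natDegree_lt_natDegree h0 (Polynomial.degree_modByMonic_lt p hmon)
      change (aeval x) p ∈ S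
      rw [h1, Polynomial.aeval_eq_sum_range' h2]
      refine Submodule.sum_mem _ fun j hj => Submodule.smul_mem _ _ ?_
      exact Submodule.subset_span ⟨⟨j, Finset.mem_range.mp hj⟩, rfl⟩
    · rw [hS, Submodule.span_le]
      rintro _ ⟨j, rfl⟩
      exact (Algebra.adjoin k ({x} : Set A)).pow_mem
        (Algebra.subset_adjoin (Set.mem_singleton x)) _
  have h3 : Module.finrank k (Algebra.adjoin k ({x} : Set A))
      = Module.finrank k (Subalgebra.toSubmodule (Algebra.adjoin k ({x} : Set A))) := rfl
  rw [h3, hSeq, hS, finrank_span_eq_card hli, Fintype.card_fin]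

end General

section Rep

variable {k : Type u} [Field k] {L : Type v} [Field L] [Algebra k L]
  {A : Type w} [Ring A] [Algebra k A] {n : ℕ}
  (φ : L ⊗[k] A ≃ₐ[L] Matrix (Fin n) (Fin n) L)

lemma rep_injective : Function.Injective (rep φ) := by
  intro a b h
  rw [rep_apply, rep_apply] at h
  exact Groth.Agent.Lib.CSA.tmul_one_injective (k := k) (K := L) (A := A) (φ.injective h)

/-- `k`-linearly independent families stay linearly independent over `L` in the splitting -/
theorem linearIndependent_rep {ι : Type*} {v : ι → A} (hv : LinearIndependent k v) :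
    LinearIndependent L (fun i => rep φ (v i)) := by
  have h1 : LinearIndependent L (fun i => (1 : L) ⊗ₜ[k] v i) :=
    Module.Flat.linearIndependent_one_tmul hv
  have h2 := h1.map' φ.toLinearMap (LinearMap.ker_eq_bot.mpr φ.injective)
  exact h2

/-- families whose image in the splitting is `L`-linearly independent are `k`-linearly
independent -/
theorem linearIndependent_of_rep {ι : Type*} [Fintype ι] {v : ι → A}
    (hv : LinearIndependent L (fun i => rep φ (v i))) : LinearIndependent k v := by
  rw [Fintype.linearIndependent_iff] at hv ⊢
  intro a ha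
  have h1 : ∑ i, algebraMap k L (a i) • rep φ (v i) = 0 := by
    have := congrArg (rep φ) ha
    rw [map_sum, map_zero] at this
    rw [← this]
    refine Finset.sum_congr rfl fun i _ => ?_
    rw [map_smul, algebraMap_smul]
  intro i
  have := hv (fun i => algebraMap k L (a i)) h1 i
  exact (map_eq_zero_iff _ (algebraMap k L).injective).mp this

/-- minimal polynomials are compatible with the base change of a splitting -/
theorem minpoly_rep (y : A) (hy : IsIntegral k y) :
    minpoly L (rep φ y) = (minpoly k y).map (algebraMap k L) := by
  symm
  apply minpoly.unique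
  · exact (minpoly.monic hy).map _
  · rw [Polynomial.aeval_map_algebraMap, Polynomial.aeval_algHom_apply, minpoly.aeval, map_zero]
  · intro q hq hq0
    by_contra hlt
    push Not at hlt
    rw [Polynomial.degree_map] at hlt
    have hlt' : q.natDegree < (minpoly k y).natDegree :=
      Polynomial.natDegree_lt_natDegree hq.ne_zero hlt
    have hli : LinearIndependent L
        (fun j : Fin (minpoly k y).natDegree => rep φ (y ^ (j : ℕ))) :=
      linearIndependent_rep φ (linearIndependent_pow y)
    rw [Polynomial.aeval_eq_sum_range' hlt',
      ← Fin.sum_univ_eq_sum_range (fun j => q.coeff j • rep φ y ^ j)] at hq0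
    have h1 : ∑ j : Fin (minpoly k y).natDegree, q.coeff (j : ℕ) • rep φ (y ^ (j : ℕ)) = 0 := by
      rw [← hq0]
      refine Finset.sum_congr rfl fun j _ => ?_
      rw [map_pow]
    have h2 := Fintype.linearIndependent_iff.mp hli (fun j => q.coeff j) h1
    have h3 : q.coeff q.natDegree = 0 := h2 ⟨q.natDegree, hlt'⟩
    have h4 : q.leadingCoeff = 1 := hq
    rw [Polynomial.leadingCoeff, h3] at h4
    exact zero_ne_one h4

end Rep

section Regular

variable {k : Type u} [Field k] {L : Type v} [Field L] [Algebra k L]
  {A : Type w} [Ring A] [Algebra k A] {n : ℕ}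
  (φ : L ⊗[k] A ≃ₐ[L] Matrix (Fin n) (Fin n) L)

/-- the powers of a regular element are linearly independent -/
theorem linearIndependent_pow_of_isRegDiag {x : A} (hx : IsRegDiag (rep φ x)) :
    LinearIndependent k (fun j : Fin n => x ^ (j : ℕ)) := by
  apply linearIndependent_of_rep φ
  have := hx.linearIndependent_pow
  convert this using 2
  rw [map_pow]

/-- everything commuting with a regular element is separable -/
theorem separable_of_commute {x : A} (hx : IsRegDiag (rep φ x)) {y : A} (hy : IsIntegral k y)
    (hxy : y * x = x * y) : (minpoly k y).Separable := by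
  obtain ⟨P, d, hd, hP⟩ := hx
  have h1 : rep φ y * diagConj P d = diagConj P d * rep φ y := by
    rw [← hP, ← map_mul, ← map_mul, hxy]
  obtain ⟨c, hc⟩ := exists_of_commute P hd h1
  have h2 := minpoly_diagConj_separable P c
  rw [← hc, minpoly_rep φ y hy, Polynomial.separable_map] at h2
  exact h2

/-- a linearly independent family commuting with a regular element has at most `n` members -/
theorem card_le_of_commute {x : A} (hx : IsRegDiag (rep φ x)) {ι : Type*} [Fintype ι]
    {v : ι → A} (hv : LinearIndependent k v) (hc : ∀ i, v i * x = x * v i) :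
    Fintype.card ι ≤ n := by
  obtain ⟨P, d, hd, hP⟩ := hx
  have h1 : ∀ i, ∃ c : Fin n → L, rep φ (v i) = diagConj P c := by
    intro i
    apply exists_of_commute P hd
    rw [← hP, ← map_mul, ← map_mul, hc]
  choose c hc' using h1
  have h2 : LinearIndependent L (fun i => rep φ (v i)) := linearIndependent_rep φ hv
  have h3 : LinearIndependent L c := by
    apply LinearIndependent.of_comp (diagConj P).toLinearMap
    have h4 : (diagConj P).toLinearMap ∘ c = fun i => rep φ (v i) := by
      ext1 i
      exact (hc' i).symm
    rw [h4]
    exact h2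
  have := h3.fintype_card_le_finrank
  simpa using this

/-- everything commuting with a regular element is a polynomial of degree `< n` in it -/
theorem mem_span_pow_of_commute {x : A} (hx : IsRegDiag (rep φ x)) {y : A}
    (hxy : y * x = x * y) :
    y ∈ Submodule.span k (Set.range (fun j : Fin n => x ^ (j : ℕ))) := by
  by_contra hy
  have hli : LinearIndependent k (Fin.snoc (fun j : Fin n => x ^ (j : ℕ)) y : Fin (n + 1) → A) :=
    linearIndependent_fin_snoc.mpr ⟨linearIndependent_pow_of_isRegDiag φ hx, hy⟩
  have hcomm : ∀ i : Fin (n + 1),
      (Fin.snoc (fun j : Fin n => x ^ (j : ℕ)) y : Fin (n + 1) → A) i * x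
        = x * (Fin.snoc (fun j : Fin n => x ^ (j : ℕ)) y : Fin (n + 1) → A) i := by
    intro i
    refine Fin.lastCases ?_ (fun j => ?_) i
    · simpa using hxy
    · simp only [Fin.snoc_castSucc]
      rw [← pow_succ, ← pow_succ']
  have := card_le_of_commute φ hx hli hcomm
  simp at this

lemma commute_of_mem_adjoin {x y : A} (hy : y ∈ Algebra.adjoin k ({x} : Set A)) :
    y * x = x * y := by
  have h1 : Algebra.adjoin k ({x} : Set A) ≤ Subalgebra.centralizer k ({x} : Set A) := by
    apply Algebra.adjoin_le
    intro z hz
    rw [Set.mem_singleton_iff] at hz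
    subst hz
    rw [SetLike.mem_coe, Subalgebra.mem_centralizer_iff]
    intro g hg
    rw [Set.mem_singleton_iff] at hg
    rw [hg]
  have h2 := h1 hy
  rw [Subalgebra.mem_centralizer_iff] at h2
  exact (h2 x (Set.mem_singleton x)).symm

/-- `k[x]` for a regular element `x`, as a submodule -/
theorem adjoin_toSubmodule_eq {x : A} (hx : IsRegDiag (rep φ x)) :
    Subalgebra.toSubmodule (Algebra.adjoin k ({x} : Set A))
      = Submodule.span k (Set.range (fun j : Fin n => x ^ (j : ℕ))) := by
  apply le_antisymm
  · intro y hy
    exact mem_span_pow_of_commute φ hx (commute_of_mem_adjoin hy)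
  · rw [Submodule.span_le]
    rintro _ ⟨j, rfl⟩
    exact (Algebra.adjoin k ({x} : Set A)).pow_mem
      (Algebra.subset_adjoin (Set.mem_singleton x)) _

/-- `k[x]` has dimension `n` for a regular element `x` -/
theorem finrank_adjoin_of_isRegDiag {x : A} (hx : IsRegDiag (rep φ x)) :
    Module.finrank k (Algebra.adjoin k ({x} : Set A)) = n := by
  have h3 : Module.finrank k (Algebra.adjoin k ({x} : Set A))
      = Module.finrank k (Subalgebra.toSubmodule (Algebra.adjoin k ({x} : Set A))) := rfl
  rw [h3, adjoin_toSubmodule_eq φ hx,
    finrank_span_eq_card (linearIndependent_pow_of_isRegDiag φ hx), Fintype.card_fin]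

/-- `k[x]` is separable over `k` for a regular element `x` -/
theorem isSeparable_adjoin_of_isRegDiag [Algebra.IsIntegral k A] {x : A}
    (hx : IsRegDiag (rep φ x)) :
    Algebra.IsSeparable k (Algebra.adjoin k ({x} : Set A)) := by
  constructor
  intro y
  have h1 : minpoly k ((Algebra.adjoin k ({x} : Set A)).val y) = minpoly k y :=
    minpoly.algHom_eq _ Subtype.val_injective y
  unfold IsSeparable
  rw [← h1]
  exact separable_of_commute φ hx (Algebra.IsIntegral.isIntegral _) (commute_of_mem_adjoin y.2)

section AlgClosed

variable [IsAlgClosed L]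

/-- an element with separable minimal polynomial whose first `n` powers are linearly independent
is regular -/
theorem isRegDiag_rep_of_separable {x : A} (hsep : (minpoly k x).Separable)
    (hli : LinearIndependent k (fun j : Fin n => x ^ (j : ℕ))) : IsRegDiag (rep φ x) := by
  apply isRegDiag_of_separable (p := (minpoly k x).map (algebraMap k L)) hsep.map
  · rw [Polynomial.aeval_map_algebraMap, Polynomial.aeval_algHom_apply, minpoly.aeval, map_zero]
  · have := linearIndependent_rep φ hli
    convert this using 2
    rw [map_pow]

/-- an element `x` such that `k[x]` is separable of dimension `n` is regular -/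
theorem isRegDiag_rep_of_adjoin [Nontrivial A] [Algebra.IsIntegral k A] {x : A}
    (hsep : Algebra.IsSeparable k (Algebra.adjoin k ({x} : Set A)))
    (hrk : Module.finrank k (Algebra.adjoin k ({x} : Set A)) = n) : IsRegDiag (rep φ x) := by
  have hx : IsIntegral k x := Algebra.IsIntegral.isIntegral x
  have hdeg : (minpoly k x).natDegree = n := by
    rw [← finrank_adjoin_singleton x hx, hrk]
  have h1 : (minpoly k x).Separable := by
    have h2 := hsep.isSeparable' ⟨x, Algebra.subset_adjoin (Set.mem_singleton x)⟩
    unfold IsSeparable at h2
    have h3 : minpoly k ((Algebra.adjoin k ({x} : Set A)).val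
        ⟨x, Algebra.subset_adjoin (Set.mem_singleton x)⟩)
        = minpoly k (⟨x, Algebra.subset_adjoin (Set.mem_singleton x)⟩ :
          Algebra.adjoin k ({x} : Set A)) :=
      minpoly.algHom_eq _ Subtype.val_injective _
    rw [← h3] at h2
    exact h2
  apply isRegDiag_rep_of_separable φ h1
  have := linearIndependent_pow (K := k) x
  rw [hdeg] at this
  exact this

end AlgClosed

end Regular

end Groth.Agent.Lib.CSARegular16
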