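import Mathlib
import Groth.Agent.Lib.CSARegular16
import Groth.Agent.Lib.CSARedNormForm
import Groth.Agent.Lib.CSAIndexArith

/-!
# Existence of regular elements in a central simple algebra

helper16.
* `exists_forall_eval_ne_zero`: finitely many nonzero polynomials over an extension `L` of an
  infinite field `k` have a common non-zero at a `k`-rational point.
* `hankelPoly φ b`: the Hankel discriminant of the generic element, `hankelPoly_ne_zero`.
* `exists_isRegDiag_of_infinite`: over an infinite field, for finitely many linear automorphisms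
  `T s` of `A` there is `x` with all `T s x` regular.
* `exists_algEquiv_matrix_of_finite`: central simple algebras over finite fields are matrix algebras.
* `exists_isRegDiag`: every central simple algebra has a regular element.
-/

universe u v w

open scoped TensorProduct
open Matrix MvPolynomial

namespace Groth.Agent.Lib.CSARegular16

open Groth.Agent.Lib.RegDiag16 Groth.Agent.Lib.CSAPeriodIndex Groth.Agent.Lib.CSARedNormForm

section Generic

variable {k : Type u} [Field k] {L : Type v} [Field L] [Algebra k L]

/-- finitely many nonzero polynomials over `L ⊇ k`, `k` infinite, have a common non-zero with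
coordinates in `k` -/
theorem exists_forall_eval_ne_zero [Infinite k] {ι σ : Type*} [Fintype σ]
    (F : σ → MvPolynomial ι L) (hF : ∀ s, F s ≠ 0) :
    ∃ x : ι → k, ∀ s, eval (fun i => algebraMap k L (x i)) (F s) ≠ 0 := by
  classical
  by_contra hcon
  push Not at hcon
  have hH : (∏ s, F s) ≠ 0 := Finset.prod_ne_zero_iff.mpr fun s _ => hF s
  apply hH
  apply MvPolynomial.funext_set (fun _ : ι => Set.range (algebraMap k L))
    (fun _ => Set.infinite_range_of_injective (algebraMap k L).injective)
  intro y hy
  have hy' : ∀ i, ∃ c : k, algebraMap k L c = y i := fun i => hy i (Set.mem_univ i)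
  choose x hx using hy'
  obtain ⟨s, hs⟩ := hcon x
  have hyx : y = fun i => algebraMap k L (x i) := by
    ext i; exact (hx i).symm
  rw [map_zero, map_prod, hyx]
  exact Finset.prod_eq_zero (Finset.mem_univ s) hs

end Generic

section HankelPoly

variable {k : Type u} [Field k] {L : Type v} [Field L] [Algebra k L]
  {A : Type w} [Ring A] [Algebra k A] {n : ℕ} {ι : Type*} [Fintype ι]
  (φ : L ⊗[k] A ≃ₐ[L] Matrix (Fin n) (Fin n) L)

/-- the Hankel discriminant of the generic element `∑ X_i b_i` -/
noncomputable def hankelPoly (b : ι → A) : MvPolynomial ι L := (hankel (genMat φ b)).det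

lemma eval_hankelPoly (b : ι → A) (y : ι → L) :
    eval y (hankelPoly φ b) = (hankel (∑ i, y i • rep φ (b i))).det := by
  rw [hankelPoly, map_det_hankel, genMat_map_eval]

lemma eval_hankelPoly_algebraMap (b : ι → A) (x : ι → k) :
    eval (fun i => algebraMap k L (x i)) (hankelPoly φ b)
      = (hankel (rep φ (∑ i, x i • b i))).det := by
  rw [eval_hankelPoly, map_sum]
  congr 2
  refine Finset.sum_congr rfl fun i _ => ?_
  rw [map_smul, algebraMap_smul]

/-- the Hankel discriminant polynomial of a basis does not vanish identically -/
theorem hankelPoly_ne_zero [Infinite L] (b : Module.Basis ι k A) (T : A ≃ₗ[k] A) :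
    hankelPoly φ (fun i => T (b i)) ≠ 0 := by
  classical
  let B' : Module.Basis ι L (Matrix (Fin n) (Fin n) L) :=
    ((b.map T).baseChange L).map φ.toLinearEquiv
  have hB' : ∀ i, B' i = rep φ (T (b i)) := by
    intro i
    simp [B', rep_apply]
  let d₀ : Fin n → L := fun i => Infinite.natEmbedding L (i : ℕ)
  have hd₀ : Function.Injective d₀ := fun i j h =>
    Fin.ext ((Infinite.natEmbedding L).injective h)
  let y : ι → L := fun i => B'.repr (diagonal d₀) i
  have hy : ∑ i, y i • rep φ (T (b i)) = diagonal d₀ := by
    have := B'.sum_repr (diagonal d₀)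
    simp only [hB'] at this
    exact this
  intro h0
  have h1 : eval y (hankelPoly φ (fun i => T (b i))) = 0 := by rw [h0, map_zero]
  rw [eval_hankelPoly, hy] at h1
  have h2 : IsRegDiag (diagonal d₀) := by
    refine ⟨1, d₀, hd₀, ?_⟩
    rw [diagConj_apply]
    simp
  exact h2.hankel_det_ne_zero h1

end HankelPoly

section Infinite

variable {k : Type u} [Field k] {L : Type v} [Field L] [Algebra k L]
  {A : Type w} [Ring A] [Algebra k A] [FiniteDimensional k A] {n : ℕ}
  (φ : L ⊗[k] A ≃ₐ[L] Matrix (Fin n) (Fin n) L)

/-- over an infinite field, finitely many linear automorphisms of `A` simultaneously move some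
element to regular elements -/
theorem exists_isRegDiag_of_infinite [Infinite k] [IsAlgClosed L] {σ : Type*} [Fintype σ]
    (T : σ → A ≃ₗ[k] A) : ∃ x : A, ∀ s, IsRegDiag (rep φ (T s x)) := by
  have : Infinite L := Infinite.of_injective _ (algebraMap k L).injective
  let b := Module.finBasis k A
  obtain ⟨x, hx⟩ := exists_forall_eval_ne_zero (k := k)
    (fun s => hankelPoly φ (fun i => T s (b i))) (fun s => hankelPoly_ne_zero φ b (T s))
  refine ⟨∑ i, x i • b i, fun s => ?_⟩
  rw [isRegDiag_iff_hankel]
  have := hx s
  rw [eval_hankelPoly_algebraMap] at this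
  convert this using 4
  rw [map_sum]
  refine Finset.sum_congr rfl fun i _ => ?_
  rw [map_smul]

end Infinite

section Finite

variable {k : Type u} [Field k] [Finite k]

/-- central simple algebras over finite fields are matrix algebras -/
theorem exists_algEquiv_matrix_of_finite (A : Type w) [Ring A] [Algebra k A]
    [Algebra.IsCentral k A] [IsSimpleRing A] [FiniteDimensional k A] :
    ∃ n : ℕ, n ≠ 0 ∧ Nonempty (A ≃ₐ[k] Matrix (Fin n) (Fin n) k) := by
  have : IsArtinianRing A := IsArtinianRing.of_finite k A
  obtain ⟨n, hn, D, _, _, _, ⟨e⟩⟩ := IsSimpleRing.exists_algEquiv_matrix_divisionRing_finite k A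
  have hcD : Algebra.IsCentral k D :=
    Groth.Agent.Lib.CSAIndexArith.isCentral_of_matrix_algEquiv hn.out e
  have : Finite D := Module.finite_of_finite k
  have hcomm : ∀ a b : D, a * b = b * a := (Finite.isDomain_to_isField D).mul_comm
  have hbij : Function.Bijective (Algebra.ofId k D) := by
    refine ⟨(algebraMap k D).injective, fun d => ?_⟩
    have h1 : d ∈ Subalgebra.center k D := by
      rw [Subalgebra.mem_center_iff]
      intro b
      exact hcomm b d
    rw [Algebra.IsCentral.center_eq_bot] at h1
    exact Algebra.mem_bot.mp h1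
  exact ⟨n, hn.out, ⟨e.trans (AlgEquiv.mapMatrix (AlgEquiv.ofBijective _ hbij).symm)⟩⟩

/-- over a finite field, matrix algebras contain elements with separable minimal polynomial of
full degree -/
theorem exists_separable_matrix_of_finite {n : ℕ} (hn : n ≠ 0) :
    ∃ x : Matrix (Fin n) (Fin n) k, (minpoly k x).Separable ∧
      LinearIndependent k (fun j : Fin n => x ^ (j : ℕ)) := by
  have : NeZero n := ⟨hn⟩
  obtain ⟨p, hp⟩ := CharP.exists k
  have hpp : p.Prime := CharP.char_is_prime k p
  have : Fact p.Prime := ⟨hpp⟩
  let K := FiniteField.Extension k p n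
  have hK : Module.finrank k K = n := FiniteField.finrank_extension k p n
  obtain ⟨α, hα⟩ := Field.exists_primitive_element k K
  have hint : IsIntegral k α := Algebra.IsIntegral.isIntegral α
  have hdeg : (minpoly k α).natDegree = n := by
    rw [← IntermediateField.adjoin.finrank hint, hα, IntermediateField.finrank_top', hK]
  let c : Module.Basis (Fin n) k K := Module.finBasisOfFinrankEq k K hK
  have hmin : minpoly k (Algebra.leftMulMatrix c α) = minpoly k α :=
    minpoly.algHom_eq _ (Algebra.leftMulMatrix_injective c) α
  refine ⟨Algebra.leftMulMatrix c α, ?_, ?_⟩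
  · rw [hmin]
    exact Algebra.IsSeparable.isSeparable k α
  · have := linearIndependent_pow (K := k) (Algebra.leftMulMatrix c α)
    rw [hmin, hdeg] at this
    exact this

end Finite

section Exists

variable {k : Type u} [Field k] {L : Type v} [Field L] [Algebra k L] [IsAlgClosed L]
  {A : Type w} [Ring A] [Algebra k A] [Algebra.IsCentral k A] [IsSimpleRing A]
  [FiniteDimensional k A] {n : ℕ}
  (φ : L ⊗[k] A ≃ₐ[L] Matrix (Fin n) (Fin n) L)

/-- every central simple algebra contains a regular element -/
theorem exists_isRegDiag : ∃ x : A, IsRegDiag (rep φ x) := by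
  rcases finite_or_infinite k with hfin | hinf
  · obtain ⟨m, hm, ⟨e⟩⟩ := exists_algEquiv_matrix_of_finite (k := k) A
    have hmn : m = n := by
      have h1 := Groth.Agent.Lib.CSA.finrank_eq_of_split φ
      have h2 : Module.finrank k A = m * m := by
        rw [e.toLinearEquiv.finrank_eq, Module.finrank_matrix]
        simp
      rw [h1] at h2
      exact (Nat.mul_self_inj.mp h2).symm
    subst hmn
    obtain ⟨x, hsep, hli⟩ := exists_separable_matrix_of_finite (k := k) hm
    refine ⟨e.symm x, ?_⟩
    apply isRegDiag_rep_of_separable φ
    · rw [minpoly.algEquiv_eq e.symm x]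
      exact hsep
    · have h5 := hli.map' e.symm.toLinearMap (LinearMap.ker_eq_bot.mpr e.symm.injective)
      have h6 : (e.symm.toLinearMap ∘ fun j : Fin m => x ^ (j : ℕ))
          = fun j : Fin m => (e.symm x) ^ (j : ℕ) := by
        ext1 j
        simp
      rw [h6] at h5
      exact h5
  · obtain ⟨x, hx⟩ := exists_isRegDiag_of_infinite φ (fun _ : Unit => LinearEquiv.refl k A)
    exact ⟨x, hx ()⟩

end Exists

end Groth.Agent.Lib.CSARegular16
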