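import Mathlib
import Groth.Agent.Lib.CSARegular16b
import Groth.Agent.Lib.CSA

/-!
# Regular elements of central simple algebras: splitting-free statements

helper16.  For a central simple `k`-algebra `A` of dimension `r²`:
* `exists_regular`: there is `x : A` with `k[x]` separable of dimension `r` (and the powers
  `x^j`, `j < r`, linearly independent, spanning the centraliser of `x`).
* `of_adjoin`: if `k[x]` is separable of dimension `r`, then the powers `x^j`, `j < r`, are
  linearly independent and span the centraliser of `x`; every element of the centraliser is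
  separable.
-/

universe u v w

open scoped TensorProduct
open Matrix

namespace Groth.Agent.Lib.CSARegular16

open Groth.Agent.Lib.RegDiag16 Groth.Agent.Lib.CSAPeriodIndex

variable {k : Type u} [Field k] {A : Type w} [Ring A] [Algebra k A] [Algebra.IsCentral k A]
  [IsSimpleRing A] [FiniteDimensional k A]

/-- a central simple algebra of dimension `r²` is split by the algebraic closure -/
theorem nonempty_splitting_algebraicClosure {r : ℕ} (hA : Module.finrank k A = r ^ 2) :
    Nonempty (AlgebraicClosure k ⊗[k] A ≃ₐ[AlgebraicClosure k]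
      Matrix (Fin r) (Fin r) (AlgebraicClosure k)) := by
  have : Algebra.IsCentral (AlgebraicClosure k) (AlgebraicClosure k ⊗[k] A) :=
    Groth.Agent.Lib.CSA.isCentral_baseChange
  have : IsSimpleRing (AlgebraicClosure k ⊗[k] A) := Groth.Agent.Lib.CSA.isSimpleRing_tensor
  obtain ⟨n, hn, ⟨φ⟩⟩ := Groth.Agent.Lib.CSA.exists_algEquiv_matrix_of_isSepClosed
    (K := AlgebraicClosure k) (AlgebraicClosure k ⊗[k] A)
  have hnr : n = r := by
    have h1 := Groth.Agent.Lib.CSA.finrank_eq_of_split φ
    rw [hA, sq] at h1
    exact (Nat.mul_self_inj.mp h1).symm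
  subst hnr
  exact ⟨φ⟩

/-- a central simple algebra of dimension `r²` contains an element `x` with `k[x]` separable of
dimension `r` -/
theorem exists_regular {r : ℕ} (hA : Module.finrank k A = r ^ 2) :
    ∃ x : A, Algebra.IsSeparable k (Algebra.adjoin k ({x} : Set A)) ∧
      Module.finrank k (Algebra.adjoin k ({x} : Set A)) = r := by
  obtain ⟨φ⟩ := nonempty_splitting_algebraicClosure hA
  obtain ⟨x, hx⟩ := exists_isRegDiag φ
  exact ⟨x, isSeparable_adjoin_of_isRegDiag φ hx, finrank_adjoin_of_isRegDiag φ hx⟩

/-- if `k[x]` is separable of dimension `r`, the powers `x^j`, `j < r`, are linearly independent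
and span the centraliser of `x` -/
theorem of_adjoin {r : ℕ} (hA : Module.finrank k A = r ^ 2) {x : A}
    (hsep : Algebra.IsSeparable k (Algebra.adjoin k ({x} : Set A)))
    (hrk : Module.finrank k (Algebra.adjoin k ({x} : Set A)) = r) :
    LinearIndependent k (fun j : Fin r => x ^ (j : ℕ)) ∧
      ∀ y : A, y * x = x * y →
        y ∈ Submodule.span k (Set.range (fun j : Fin r => x ^ (j : ℕ))) := by
  obtain ⟨φ⟩ := nonempty_splitting_algebraicClosure hA
  have hx := isRegDiag_rep_of_adjoin φ hsep hrk
  exact ⟨linearIndependent_pow_of_isRegDiag φ hx, fun y hy => mem_span_pow_of_commute φ hx hy⟩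

end Groth.Agent.Lib.CSARegular16
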