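import Mathlib
import Groth.Agent.Lib.CSARegular16c
import Groth.Agent.Lib.Azumaya16Fibre

/-!
# Regular sections of Azumaya algebras over local rings

helper16.  Let `R` be a local ring with residue field `κ`, `A` an Azumaya `R`-algebra of rank `r²`
and `ξ : A` an element whose image in `κ ⊗ A` is regular (generates a separable subalgebra of
dimension `r`).  Then `1, ξ, …, ξ^(r-1)` are `R`-linearly independent and their span is the
centraliser of `ξ` (`centralizer_le_span`); in particular it contains `ξ^r`.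
-/

universe u v

open scoped TensorProduct

namespace Groth.Agent.Lib.AzumayaRegular16

open IsLocalRing

variable {R : Type u} [CommRing R] [IsLocalRing R] {A : Type v} [Ring A] [Algebra R A]
  [IsAzumaya R A]

local notation "κ" => ResidueField R

instance : Module.Free R A := Module.free_of_flat_of_isLocalRing

theorem isSimpleRing_fibre : IsSimpleRing (κ ⊗[R] A) := by
  have : IsAzumaya κ (κ ⊗[R] A) := Groth.Agent.Lib.Azumaya16.isAzumaya_baseChange R κ A
  exact Groth.Agent.Lib.Azumaya16.isSimpleRing_of_isAzumaya_field κ _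

theorem isCentral_fibre : Algebra.IsCentral κ (κ ⊗[R] A) := by
  have : IsAzumaya κ (κ ⊗[R] A) := Groth.Agent.Lib.Azumaya16.isAzumaya_baseChange R κ A
  infer_instance

theorem finrank_fibre : Module.finrank κ (κ ⊗[R] A) = Module.finrank R A :=
  Module.finrank_baseChange

/-- the commutator with `ξ` -/
noncomputable def ad (ξ : A) : A →ₗ[R] A := LinearMap.mulLeft R ξ - LinearMap.mulRight R ξ

lemma ad_apply (ξ a : A) : ad (R := R) ξ a = ξ * a - a * ξ := rfl

lemma lTensor_ad (ξ : A) (z : κ ⊗[R] A) :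
    (ad (R := R) ξ).lTensor κ z = (1 ⊗ₜ[R] ξ) * z - z * (1 ⊗ₜ[R] ξ) := by
  induction z using TensorProduct.induction_on with
  | zero => simp
  | tmul c a =>
    rw [LinearMap.lTensor_tmul, ad_apply, TensorProduct.tmul_sub,
      Algebra.TensorProduct.tmul_mul_tmul, Algebra.TensorProduct.tmul_mul_tmul, one_mul, mul_one]
  | add x y hx hy => rw [map_add, hx, hy, mul_add, add_mul]; abel

/-- the powers of a regular section are linearly independent -/
theorem linearIndependent_pow {r : ℕ} (hA : Module.finrank R A = r ^ 2) (ξ : A)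
    (hsep : Algebra.IsSeparable κ (Algebra.adjoin κ ({(1 : κ) ⊗ₜ[R] ξ} : Set (κ ⊗[R] A))))
    (hrk : Module.finrank κ (Algebra.adjoin κ ({(1 : κ) ⊗ₜ[R] ξ} : Set (κ ⊗[R] A))) = r) :
    LinearIndependent R (fun i : Fin r => ξ ^ (i : ℕ)) := by
  have := isSimpleRing_fibre (R := R) (A := A)
  have := isCentral_fibre (R := R) (A := A)
  have hA' : Module.finrank κ (κ ⊗[R] A) = r ^ 2 := by rw [finrank_fibre, hA]
  obtain ⟨h1, -⟩ := Groth.Agent.Lib.CSARegular16.of_adjoin hA' hsep hrk
  apply Module.IsLocalRing.linearIndependent_of_flat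
  have h2 : (⇑(TensorProduct.mk R κ A 1) ∘ fun i : Fin r => ξ ^ (i : ℕ))
      = fun j : Fin r => ((1 : κ) ⊗ₜ[R] ξ) ^ (j : ℕ) := by
    ext1 i
    simp [Algebra.TensorProduct.tmul_pow]
  rw [h2]
  exact h1

/-- the centraliser of a regular section is spanned by its first `r` powers -/
theorem mem_span_of_commute {r : ℕ} (hA : Module.finrank R A = r ^ 2) (ξ : A)
    (hsep : Algebra.IsSeparable κ (Algebra.adjoin κ ({(1 : κ) ⊗ₜ[R] ξ} : Set (κ ⊗[R] A))))
    (hrk : Module.finrank κ (Algebra.adjoin κ ({(1 : κ) ⊗ₜ[R] ξ} : Set (κ ⊗[R] A))) = r)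
    (a : A) (ha : a * ξ = ξ * a) :
    a ∈ Submodule.span R (Set.range (fun i : Fin r => ξ ^ (i : ℕ))) := by
  have := isSimpleRing_fibre (R := R) (A := A)
  have := isCentral_fibre (R := R) (A := A)
  have hA' : Module.finrank κ (κ ⊗[R] A) = r ^ 2 := by rw [finrank_fibre, hA]
  obtain ⟨-, h2⟩ := Groth.Agent.Lib.CSARegular16.of_adjoin hA' hsep hrk
  set S := Submodule.span R (Set.range (fun i : Fin r => ξ ^ (i : ℕ))) with hS
  have hSker : S ≤ LinearMap.ker (ad (R := R) ξ) := by
    rw [hS, Submodule.span_le]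
    rintro _ ⟨j, rfl⟩
    rw [SetLike.mem_coe, LinearMap.mem_ker, ad_apply, ← pow_succ', ← pow_succ, sub_self]
  let l : (A ⧸ S) →ₗ[R] A := S.liftQ (ad ξ) hSker
  have hl : l ∘ₗ S.mkQ = ad ξ := Submodule.liftQ_mkQ S (ad ξ) hSker
  have hinj : Function.Injective (l.lTensor κ) := by
    rw [injective_iff_map_eq_zero]
    intro z hz
    obtain ⟨z', rfl⟩ := LinearMap.lTensor_surjective κ (Submodule.mkQ_surjective S) z
    rw [← LinearMap.comp_apply, ← LinearMap.lTensor_comp, hl, lTensor_ad, sub_eq_zero] at hz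
    have h3 := h2 z' hz.symm
    obtain ⟨c, hc⟩ := (Submodule.mem_span_range_iff_exists_fun κ).mp h3
    rw [← hc, map_sum]
    refine Finset.sum_eq_zero fun j _ => ?_
    have h4 : c j • ((1 : κ) ⊗ₜ[R] ξ) ^ (j : ℕ) = (c j) ⊗ₜ[R] (ξ ^ (j : ℕ)) := by
      rw [Algebra.TensorProduct.tmul_pow, one_pow, TensorProduct.smul_tmul', smul_eq_mul, mul_one]
    rw [h4, LinearMap.lTensor_tmul]
    have h5 : S.mkQ (ξ ^ (j : ℕ)) = 0 := by
      rw [Submodule.mkQ_apply, Submodule.Quotient.mk_eq_zero]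
      exact Submodule.subset_span ⟨j, rfl⟩
    rw [h5, TensorProduct.tmul_zero]
  obtain ⟨l', hl'⟩ :=
    (IsLocalRing.split_injective_iff_lTensor_residueField_injective l).mpr hinj
  have hlinj : Function.Injective l := by
    intro p q hpq
    have := congrArg l' hpq
    rwa [← LinearMap.comp_apply, ← LinearMap.comp_apply, hl', LinearMap.id_apply,
      LinearMap.id_apply] at this
  have h6 : l (S.mkQ a) = 0 := by
    rw [← LinearMap.comp_apply, hl, ad_apply, ha, sub_self]
  have h7 : S.mkQ a = 0 := hlinj (by rw [h6, map_zero])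
  rwa [Submodule.mkQ_apply, Submodule.Quotient.mk_eq_zero] at h7

theorem pow_mem_span {r : ℕ} (hA : Module.finrank R A = r ^ 2) (ξ : A)
    (hsep : Algebra.IsSeparable κ (Algebra.adjoin κ ({(1 : κ) ⊗ₜ[R] ξ} : Set (κ ⊗[R] A))))
    (hrk : Module.finrank κ (Algebra.adjoin κ ({(1 : κ) ⊗ₜ[R] ξ} : Set (κ ⊗[R] A))) = r) :
    ξ ^ r ∈ Submodule.span R (Set.range (fun i : Fin r => ξ ^ (i : ℕ))) :=
  mem_span_of_commute hA ξ hsep hrk (ξ ^ r) (by rw [← pow_succ, ← pow_succ'])

end Groth.Agent.Lib.AzumayaRegular16
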