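import Mathlib
import Groth.Agent.Lib.AzumayaRegular16
import Groth.Agent.Lib.FiniteEtaleLift

/-!
# Maximal étale subalgebras of Azumaya algebras over local rings

helper16.  `exists_maximal_etale`: an Azumaya algebra `A` of rank `r²` over a local ring `R` receives
an `R`-algebra map `u : E → A` from a finite étale algebra `E = R[X]/(g)`, free of rank `r`, which
is injective on the special fibre.  Here `g` is the "characteristic polynomial" of a lift `ξ` of a
regular element of the special fibre, and `u` sends the root to `ξ`.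
-/

universe u

open scoped TensorProduct
open Polynomial

namespace Groth.Agent.Lib.AzumayaEtale16

open IsLocalRing Groth.Agent.Lib.AzumayaRegular16

variable {R : Type u} [CommRing R] [IsLocalRing R] {A : Type u} [Ring A] [Algebra R A]
  [IsAzumaya R A]

local notation "κ" => ResidueField R

/-- there is a section whose image in the special fibre is regular -/
theorem exists_regular_section {r : ℕ} (hA : Module.finrank R A = r ^ 2) :
    ∃ ξ : A, Algebra.IsSeparable κ (Algebra.adjoin κ ({(1 : κ) ⊗ₜ[R] ξ} : Set (κ ⊗[R] A))) ∧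
      Module.finrank κ (Algebra.adjoin κ ({(1 : κ) ⊗ₜ[R] ξ} : Set (κ ⊗[R] A))) = r := by
  have := isSimpleRing_fibre (R := R) (A := A)
  have := isCentral_fibre (R := R) (A := A)
  have hA' : Module.finrank κ (κ ⊗[R] A) = r ^ 2 := by rw [finrank_fibre, hA]
  obtain ⟨x, hx1, hx2⟩ := Groth.Agent.Lib.CSARegular16.exists_regular hA'
  obtain ⟨ξ, hξ⟩ := TensorProduct.mk_surjective R A κ
    (by rw [IsLocalRing.ResidueField.algebraMap_eq]; exact residue_surjective) x
  have hξ' : (1 : κ) ⊗ₜ[R] ξ = x := hξ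
  refine ⟨ξ, ?_, ?_⟩
  · rw [hξ']; exact hx1
  · rw [hξ']; exact hx2

/-- the monic polynomial of degree `r` killing a regular section -/
theorem exists_monic_aeval_eq_zero {r : ℕ} (hA : Module.finrank R A = r ^ 2) (ξ : A)
    (hsep : Algebra.IsSeparable κ (Algebra.adjoin κ ({(1 : κ) ⊗ₜ[R] ξ} : Set (κ ⊗[R] A))))
    (hrk : Module.finrank κ (Algebra.adjoin κ ({(1 : κ) ⊗ₜ[R] ξ} : Set (κ ⊗[R] A))) = r) :
    ∃ g : R[X], g.Monic ∧ g.natDegree = r ∧ aeval ξ g = 0 ∧
      (g.map (residue R)).Separable := by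
  have hmem := pow_mem_span hA ξ hsep hrk
  obtain ⟨c, hc⟩ := (Submodule.mem_span_range_iff_exists_fun R).mp hmem
  set q : R[X] := ∑ j : Fin r, C (c j) * X ^ (j : ℕ) with hq
  have hqdeg : q.degree < r := Polynomial.degree_sum_fin_lt c
  set g : R[X] := X ^ r - q with hg
  have hgm : g.Monic := Polynomial.monic_X_pow_sub hqdeg
  have hgdeg : g.natDegree = r := by
    have h1 : g.degree = r := by
      rw [hg, Polynomial.degree_sub_eq_left_of_degree_lt, Polynomial.degree_X_pow]
      rw [Polynomial.degree_X_pow]; exact hqdeg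
    exact Polynomial.natDegree_eq_of_degree_eq_some h1
  have hgξ : aeval ξ g = 0 := by
    rw [hg, map_sub, map_pow, aeval_X, hq, map_sum, ← hc, sub_eq_zero]
    refine Finset.sum_congr rfl fun j _ => ?_
    rw [map_mul, aeval_C, map_pow, aeval_X, Algebra.smul_def]
  refine ⟨g, hgm, hgdeg, hgξ, ?_⟩
  -- the reduction of `g` is the minimal polynomial of the regular element
  have := isSimpleRing_fibre (R := R) (A := A)
  set x : κ ⊗[R] A := (1 : κ) ⊗ₜ[R] ξ with hx
  have hint : IsIntegral κ x := Algebra.IsIntegral.isIntegral x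
  have hdeg : (minpoly κ x).natDegree = r := by
    rw [← Groth.Agent.Lib.CSARegular16.finrank_adjoin_singleton x hint, hrk]
  have hkill : aeval x (g.map (residue R)) = 0 := by
    rw [← IsLocalRing.ResidueField.algebraMap_eq, Polynomial.aeval_map_algebraMap]
    have h1 : x = (Algebra.TensorProduct.includeRight : A →ₐ[R] κ ⊗[R] A) ξ := rfl
    rw [h1, Polynomial.aeval_algHom_apply, hgξ, map_zero]
  have hdvd : minpoly κ x ∣ g.map (residue R) := minpoly.dvd κ x hkill
  have heq : g.map (residue R) = minpoly κ x := by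
    refine Polynomial.eq_of_monic_of_dvd_of_natDegree_le (minpoly.monic hint) (hgm.map _) hdvd ?_
    rw [hdeg, hgm.natDegree_map, hgdeg]
  rw [heq]
  have h2 := hsep.isSeparable' ⟨x, Algebra.subset_adjoin (Set.mem_singleton x)⟩
  unfold IsSeparable at h2
  have h3 : minpoly κ ((Algebra.adjoin κ ({x} : Set (κ ⊗[R] A))).val
      ⟨x, Algebra.subset_adjoin (Set.mem_singleton x)⟩)
      = minpoly κ (⟨x, Algebra.subset_adjoin (Set.mem_singleton x)⟩ :
        Algebra.adjoin κ ({x} : Set (κ ⊗[R] A))) :=
    minpoly.algHom_eq _ Subtype.val_injective _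
  rw [← h3] at h2
  exact h2

/-- the evaluation map `R[X]/(g) → A` at an element killed by `g` -/
noncomputable def evalHom (g : R[X]) (ξ : A) (h : aeval ξ g = 0) : AdjoinRoot g →ₐ[R] A :=
  Ideal.Quotient.liftₐ (Ideal.span {g}) (aeval ξ) (by
    intro a ha
    obtain ⟨b, rfl⟩ := Ideal.mem_span_singleton.mp ha
    rw [map_mul, h, zero_mul])

lemma evalHom_mk (g : R[X]) (ξ : A) (h : aeval ξ g = 0) (p : R[X]) :
    evalHom g ξ h (AdjoinRoot.mk g p) = aeval ξ p := rfl

lemma evalHom_root (g : R[X]) (ξ : A) (h : aeval ξ g = 0) :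
    evalHom g ξ h (AdjoinRoot.root g) = ξ := by
  rw [AdjoinRoot.root, evalHom_mk, aeval_X]

/-- **maximal étale subalgebras of Azumaya algebras over local rings** -/
theorem exists_maximal_etale {r : ℕ} (hA : Module.finrank R A = r ^ 2) :
    ∃ (E : Type u) (_ : CommRing E) (_ : Algebra R E), Algebra.Etale R E ∧ Module.Finite R E ∧
      Module.Free R E ∧ Module.finrank R E = r ∧
        ∃ u : E →ₐ[R] A, Function.Injective (u.toLinearMap.lTensor κ) := by
  obtain ⟨ξ, hsep, hrk⟩ := exists_regular_section hA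
  obtain ⟨g, hgm, hgdeg, hgξ, hgsep⟩ := exists_monic_aeval_eq_zero hA ξ hsep hrk
  have hli := linearIndependent_pow hA ξ hsep hrk
  subst hgdeg
  let P := Groth.Agent.Lib.FiniteEtaleLift.pairOfMonic g hgm
  have hunit : IsUnit (AdjoinRoot.mk P.f P.g) :=
    Groth.Agent.Lib.FiniteEtaleLift.isUnit_mk_derivative_of_separable_map g hgm hgsep
  have hetale : Algebra.Etale R (AdjoinRoot g) :=
    Algebra.Etale.of_equiv (Groth.Agent.Lib.FiniteEtaleLift.equivAdjoinRootOfIsUnit P hunit)
  let pb := AdjoinRoot.powerBasis' hgm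
  refine ⟨AdjoinRoot g, inferInstance, inferInstance, hetale, hgm.finite_adjoinRoot,
    Module.Free.of_basis pb.basis, ?_, evalHom g ξ hgξ, ?_⟩
  · rw [pb.finrank]; rfl
  · -- injectivity on the special fibre
    have := isSimpleRing_fibre (R := R) (A := A)
    have := isCentral_fibre (R := R) (A := A)
    have hA' : Module.finrank κ (κ ⊗[R] A) = g.natDegree ^ 2 := by rw [finrank_fibre, hA]
    obtain ⟨h1, -⟩ := Groth.Agent.Lib.CSARegular16.of_adjoin hA' hsep hrk
    let bκ : Module.Basis (Fin g.natDegree) κ (κ ⊗[R] AdjoinRoot g) := pb.basis.baseChange κ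
    have hinj : Function.Injective ((evalHom g ξ hgξ).toLinearMap.baseChange κ) := by
      apply LinearMap.injective_of_linearIndependent (v := bκ) bκ.span_eq
      have h2 : (⇑((evalHom g ξ hgξ).toLinearMap.baseChange κ) ∘ ⇑bκ)
          = fun j : Fin g.natDegree => ((1 : κ) ⊗ₜ[R] ξ) ^ (j : ℕ) := by
        ext1 j
        have h3 : pb.basis j = AdjoinRoot.root g ^ (j : ℕ) := pb.basis_eq_pow j
        have h4 : bκ j = (1 : κ) ⊗ₜ[R] (pb.basis j) :=
          Module.Basis.baseChange_apply κ pb.basis j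
        rw [Function.comp_apply, h4, LinearMap.baseChange_tmul, h3, AlgHom.toLinearMap_apply,
          map_pow, evalHom_root, Algebra.TensorProduct.tmul_pow, one_pow]
      rw [h2]
      exact h1
    intro a b hab
    apply hinj
    rw [LinearMap.baseChange_eq_ltensor]
    exact hab

end Groth.Agent.Lib.AzumayaEtale16
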