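import Groth.Agent.Lib.Azumaya16Constr

/-!
# Homomorphisms between Azumaya algebras of the same rank are isomorphisms (helper16)
-/

namespace Groth.Agent.Lib.Azumaya16
open TensorProduct

section hom
universe u v w
variable (R : Type u) [CommRing R] (B : Type v) [Ring B] [Algebra R B] [IsAzumaya R B]
  (B' : Type w) [Ring B'] [Algebra R B'] [IsAzumaya R B']

/-- An algebra homomorphism between Azumaya algebras that are abstractly isomorphic as modules
(e.g. both free of the same rank) is bijective. -/
theorem algHom_bijective_of_linearEquiv (f : B →ₐ[R] B') (g : B ≃ₗ[R] B') :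
    Function.Bijective f := by
  obtain ⟨a1, a2, a3, a4⟩ := (isAzumaya_iff R B).1 inferInstance
  obtain ⟨b1, b2, b3, b4⟩ := (isAzumaya_iff R B').1 inferInstance
  have key : Function.Bijective f.toLinearMap := by
    apply bijective_of_fibres f.toLinearMap
    intro m hm
    let _ : Field (R ⧸ m) := Ideal.Quotient.field m
    refine ⟨R ⧸ m, inferInstance, inferInstance, Ideal.mk_ker, ?_⟩
    have hAz : IsAzumaya (R ⧸ m) ((R ⧸ m) ⊗[R] B) := isAzumaya_baseChange R (R ⧸ m) B
    have hAz' : IsAzumaya (R ⧸ m) ((R ⧸ m) ⊗[R] B') := isAzumaya_baseChange R (R ⧸ m) B'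
    have hsimple : IsSimpleRing ((R ⧸ m) ⊗[R] B) := isSimpleRing_of_isAzumaya_field (R ⧸ m) _
    have hnt : Nontrivial ((R ⧸ m) ⊗[R] B') := nontrivial_of_isAzumaya_field (R ⧸ m) _
    let F : (R ⧸ m) ⊗[R] B →ₐ[R ⧸ m] (R ⧸ m) ⊗[R] B' :=
      Algebra.TensorProduct.map (AlgHom.id (R ⧸ m) (R ⧸ m)) f
    have hF : ⇑(f.toLinearMap.baseChange (R ⧸ m)) = ⇑F := by
      funext x
      induction x using TensorProduct.induction_on with
      | zero => simp
      | add x y hx hy => simp only [map_add, hx, hy]
      | tmul s b => simp [F]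
    rw [hF]
    have hinj : Function.Injective F := fun a b hab => RingHom.injective F.toRingHom hab
    have hfin : Module.finrank (R ⧸ m) ((R ⧸ m) ⊗[R] B) = Module.finrank (R ⧸ m) ((R ⧸ m) ⊗[R] B') :=
      (g.baseChange R (R ⧸ m) B B').finrank_eq
    exact ⟨hinj, (LinearMap.injective_iff_surjective_of_finrank_eq_finrank hfin
      (f := F.toLinearMap)).1 hinj⟩
  exact key

end hom
end Groth.Agent.Lib.Azumaya16
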