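import Groth.Agent.Lib.LGAzumaya16c
import Groth.Agent.Lib.Azumaya16Fibre
import Mathlib.RingTheory.Spectrum.Prime.FreeLocus

/-!
# Modules over Azumaya algebras over LG rings: classification by rank
-/

set_option autoImplicit false
universe u v w
open scoped TensorProduct

namespace Groth.Agent.Lib.LGAzumaya16

section Rank

variable {R : Type u} [CommRing R]

/-- the point of `Spec R` given by a maximal ideal, as image of the point of `Spec (R/m)`. -/
noncomputable def fibrePt (m : Ideal R) [m.IsMaximal] : PrimeSpectrum R :=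
  PrimeSpectrum.comap (algebraMap R (R ⧸ m)) ⟨⊥, Ideal.isPrime_bot⟩

theorem finrank_fibre (m : Ideal R) [m.IsMaximal] (M : Type v) [AddCommGroup M] [Module R M]
    [Module.Finite R M] [Module.Flat R M] :
    Module.finrank (R ⧸ m) ((R ⧸ m) ⊗[R] M) = Module.rankAtStalk M (fibrePt m) := by
  let _ : Field (R ⧸ m) := Ideal.Quotient.field m
  have e1 := Module.rankAtStalk_baseChange (R := R) (M := M) (S := R ⧸ m) ⟨⊥, Ideal.isPrime_bot⟩
  rw [Module.rankAtStalk_eq_finrank_of_free] at e1
  simp only [Pi.natCast_apply, Nat.cast_id] at e1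
  exact e1

end Rank

section Azumaya

variable {R : Type u} [CommRing R] {A : Type v} [Ring A] [Algebra R A] [IsAzumaya R A]

theorem isSimpleRing_fibre_of_isAzumaya (m : Ideal R) [m.IsMaximal] :
    IsSimpleRing ((R ⧸ m) ⊗[R] A) := by
  let _ : Field (R ⧸ m) := Ideal.Quotient.field m
  have : IsAzumaya (R ⧸ m) ((R ⧸ m) ⊗[R] A) := Groth.Agent.Lib.Azumaya16.isAzumaya_baseChange R (R ⧸ m) A
  exact Groth.Agent.Lib.Azumaya16.isSimpleRing_of_isAzumaya_field (R ⧸ m) ((R ⧸ m) ⊗[R] A)

variable {M : Type w} [AddCommGroup M] [Module A M] [Module R M] [IsScalarTower R A M]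
  {N : Type w} [AddCommGroup N] [Module A N] [Module R N] [IsScalarTower R A N]
  [Module.Finite A M] [Module.Projective A M] [Module.Finite A N] [Module.Projective A N]

/-- Over an LG ring, for finite projective modules over an Azumaya algebra: if `rank N ≤ rank M` then
`N` is a direct summand of `M`. -/
theorem exists_comp_eq_id_of_rankAtStalk_le (hR : LGRing.IsLGRing R)
    (h : ∀ p : PrimeSpectrum R, Module.rankAtStalk N p ≤ Module.rankAtStalk M p) :
    ∃ (φ : M →ₗ[A] N) (ψ : N →ₗ[A] M), φ ∘ₗ ψ = LinearMap.id := by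
  have hfM : Module.Finite R M := Module.Finite.trans A M
  have hfN : Module.Finite R N := Module.Finite.trans A N
  have hpM : Module.Projective R M := projective_of_tower R A M
  have hpN : Module.Projective R N := projective_of_tower R A N
  refine exists_comp_eq_id hR (fun m _ => isSimpleRing_fibre_of_isAzumaya m) ?_
  intro m _
  rw [finrank_fibre m N, finrank_fibre m M]
  exact h _

/-- Over an LG ring, finite projective modules over an Azumaya algebra with the same rank are
isomorphic. -/
theorem nonempty_linearEquiv_of_rankAtStalk_eq (hR : LGRing.IsLGRing R)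
    (h : ∀ p : PrimeSpectrum R, Module.rankAtStalk M p = Module.rankAtStalk N p) :
    Nonempty (M ≃ₗ[A] N) := by
  have hfN : Module.Finite R N := Module.Finite.trans A N
  obtain ⟨φ, ψ, hφψ⟩ := exists_comp_eq_id_of_rankAtStalk_le (A := A) (M := M) (N := N) hR
    (fun p => (h p).ge)
  obtain ⟨φ', ψ', hφψ'⟩ := exists_comp_eq_id_of_rankAtStalk_le (A := A) (M := N) (N := M) hR
    (fun p => (h p).le)
  have hs : Function.Surjective φ := fun z => ⟨ψ z, LinearMap.congr_fun hφψ z⟩
  have hs' : Function.Surjective φ' := fun z => ⟨ψ' z, LinearMap.congr_fun hφψ' z⟩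
  have hinj : Function.Injective ((φ ∘ₗ φ').restrictScalars R) :=
    OrzechProperty.injective_of_surjective_endomorphism _ (hs.comp hs')
  have hinj' : Function.Injective φ' := by
    intro a b hab
    apply hinj
    change φ (φ' a) = φ (φ' b)
    rw [hab]
  exact ⟨(LinearEquiv.ofBijective φ' ⟨hinj', hs'⟩).symm⟩

end Azumaya

end Groth.Agent.Lib.LGAzumaya16

namespace Groth.Agent.Lib.LGAzumaya16

section Indecomposable

variable {A : Type u} [Ring A] {P : Type v} [AddCommGroup P] [Module A P]
  {Q : Type w} [AddCommGroup Q] [Module A Q]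

/-- A nonzero direct summand of an indecomposable module is the whole module. -/
theorem nonempty_linearEquiv_of_indecomposable [Nontrivial Q]
    (hP : ∀ e : Module.End A P, IsIdempotentElem e → e = 0 ∨ e = 1)
    (φ : P →ₗ[A] Q) (ψ : Q →ₗ[A] P) (h : φ ∘ₗ ψ = LinearMap.id) : Nonempty (P ≃ₗ[A] Q) := by
  have h' : ∀ q, φ (ψ q) = q := fun q => LinearMap.congr_fun h q
  have hidem : IsIdempotentElem (ψ ∘ₗ φ : Module.End A P) := by
    change (ψ ∘ₗ φ) * (ψ ∘ₗ φ) = ψ ∘ₗ φ
    ext p
    simp [Module.End.mul_apply, h']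
  rcases hP _ hidem with h0 | h1
  · exfalso
    obtain ⟨q, hq⟩ := exists_ne (0 : Q)
    apply hq
    have := LinearMap.congr_fun h0 (ψ q)
    simp only [LinearMap.comp_apply, LinearMap.zero_apply] at this
    rw [h' q] at this
    rw [← h' q, this, map_zero]
  · exact ⟨LinearEquiv.ofLinearMap φ ψ h h1⟩

end Indecomposable

end Groth.Agent.Lib.LGAzumaya16
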