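import Groth.Agent.Lib.LGAzumaya16g
import Mathlib.RingTheory.Support
import Mathlib.RingTheory.MatrixAlgebra
import Mathlib.LinearAlgebra.FreeModule.Finite.Matrix

/-!
# Rank lemmas and corollaries of the cancellation theorem
-/

set_option autoImplicit false
universe u v w u₁ u₂
open scoped TensorProduct

namespace Groth.Agent.Lib.LGAzumaya16

section RankLemmas

variable {R : Type u} [CommRing R]

theorem rankAtStalk_pos_of_faithful (M : Type v) [AddCommGroup M] [Module R M] [Module.Finite R M]
    [Module.Flat R M] [FaithfulSMul R M] (p : PrimeSpectrum R) : 0 < Module.rankAtStalk M p := by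
  rw [Module.rankAtStalk_pos_iff_mem_support, Module.support_eq_zeroLocus,
    Module.annihilator_eq_bot.mpr inferInstance]
  simp

theorem rankAtStalk_eq_of_tensor_equiv (A : Type v) [AddCommGroup A] [Module R A]
    [Module.Finite R A] [Module.Flat R A] (B : Type u₁) [AddCommGroup B] [Module R B]
    [Module.Finite R B] [Module.Flat R B] (S : Type w) [AddCommGroup S] [Module R S]
    [Module.Finite R S] [Module.Flat R S] [FaithfulSMul R S] (T : Type u₂) [AddCommGroup T]
    [Module R T] [Module.Finite R T] [Module.Flat R T]
    (hST : ∀ p : PrimeSpectrum R, Module.rankAtStalk S p = Module.rankAtStalk T p)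
    (e : (A ⊗[R] S) ≃ₗ[R] (B ⊗[R] T))
    (p : PrimeSpectrum R) : Module.rankAtStalk A p = Module.rankAtStalk B p := by
  have h1 := congrFun (Module.rankAtStalk_eq_of_equiv e) p
  rw [Module.rankAtStalk_tensorProduct, Module.rankAtStalk_tensorProduct] at h1
  simp only [Pi.mul_apply] at h1
  rw [← hST p] at h1
  exact Nat.eq_of_mul_eq_mul_right (rankAtStalk_pos_of_faithful S p) h1

/-- the rank of `End P` is the square of the rank of `P`. -/
theorem rankAtStalk_end (P : Type v) [AddCommGroup P] [Module R P] [Module.Finite R P]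
    [Module.Projective R P] (p : PrimeSpectrum R) :
    Module.rankAtStalk (Module.End R P) p = Module.rankAtStalk P p * Module.rankAtStalk P p := by
  have := Groth.Agent.Lib.Azumaya16.finite_linearMap R P P
  have := Groth.Agent.Lib.Azumaya16.projective_linearMap R P P
  rw [Module.rankAtStalk_eq, Module.rankAtStalk_eq]
  let κ := p.asIdeal.ResidueField
  let E : κ ⊗[R] Module.End R P ≃ₗ[κ] Module.End κ (κ ⊗[R] P) :=
    LinearEquiv.ofBijective (LinearMap.tensorProductEnd R κ P).toLinearMap
      (Groth.Agent.Lib.Azumaya16.tensorProductEnd_bijective R P κ)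
  change Module.finrank κ (κ ⊗[R] Module.End R P) = Module.finrank κ (κ ⊗[R] P) *
    Module.finrank κ (κ ⊗[R] P)
  rw [E.finrank_eq, Module.finrank_linearMap]

end RankLemmas

end Groth.Agent.Lib.LGAzumaya16
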