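import Mathlib
import Groth.Prelude.Def_W4c4lgringredgrpLG
import Groth.Agent.Lib.LGAzumaya16d
import Groth.Agent.Lib.LGAzumaya16h
import Groth.Agent.Lib.Azumaya16Hom

/-!
# Azumaya algebras containing a finite étale subalgebra of maximal rank (over a local ring)

helper16.
-/

set_option autoImplicit false
set_option linter.style.haveILetI false
set_option linter.unusedSectionVars false
universe u v w

open scoped TensorProduct

namespace Groth.Agent.Lib.AzumayaEtaleSub16

section LG

/-- A semilocal ring is an LG-ring. -/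
theorem isLGRing_of_finite_maximalSpectrum (R : Type u) [CommRing R] [Finite (MaximalSpectrum R)] :
    LGRing.IsLGRing R := by
  classical
  intro n f hf
  -- for each maximal ideal choose a point
  have hpt : ∀ m : MaximalSpectrum R, ∃ s : Fin n → R,
      MvPolynomial.aeval s f ∉ m.asIdeal := by
    intro m
    haveI := m.isMaximal
    obtain ⟨s, hs⟩ := hf m.asIdeal
    choose t ht using fun i => Ideal.Quotient.mk_surjective (s i)
    refine ⟨t, fun hmem => ?_⟩
    have h1 : MvPolynomial.aeval s f = Ideal.Quotient.mk m.asIdeal (MvPolynomial.aeval t f) := by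
      have h2 : s = (Ideal.Quotient.mk m.asIdeal) ∘ t := funext fun i => (ht i).symm
      rw [h2]
      have h3 := MvPolynomial.aeval_algebraMap_apply (R ⧸ m.asIdeal) t f
      rw [Ideal.Quotient.algebraMap_eq] at h3
      exact h3
    rw [h1, Ideal.Quotient.eq_zero_iff_mem.2 hmem] at hs
    exact not_isUnit_zero hs
  choose t ht using hpt
  have hcop : Pairwise (Function.onFun IsCoprime fun m : MaximalSpectrum R => m.asIdeal) := by
    intro m m' hne
    exact Ideal.isCoprime_of_isMaximal (fun h => hne (MaximalSpectrum.ext h))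
  choose s hs using fun i : Fin n =>
    Ideal.exists_forall_sub_mem_ideal hcop (fun m => t m i)
  refine ⟨s, ?_⟩
  by_contra hnu
  obtain ⟨I, hI, hmem⟩ := exists_max_ideal_of_mem_nonunits (mem_nonunits_iff.2 hnu)
  apply ht ⟨I, hI⟩
  -- f(s) ≡ f(t m) mod m
  have hsub : MvPolynomial.aeval s f - MvPolynomial.aeval (t ⟨I, hI⟩) f ∈ I := by
    rw [← Ideal.Quotient.eq_zero_iff_mem, map_sub, sub_eq_zero]
    have h1 := MvPolynomial.aeval_algebraMap_apply (R ⧸ I) s f
    have h2 := MvPolynomial.aeval_algebraMap_apply (R ⧸ I) (t ⟨I, hI⟩) f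
    rw [Ideal.Quotient.algebraMap_eq] at h1 h2
    rw [← h1, ← h2]
    have h4 : (Ideal.Quotient.mk I) ∘ s = (Ideal.Quotient.mk I) ∘ t ⟨I, hI⟩ :=
      funext fun i => Ideal.Quotient.eq.2 (hs i ⟨I, hI⟩)
    rw [h4]
  have := I.sub_mem hmem hsub
  simpa using this

end LG

section Semilocal

/-- A finite algebra over a local ring is semilocal. -/
theorem finite_maximalSpectrum_of_finite (R : Type u) [CommRing R] [IsLocalRing R]
    (E : Type v) [CommRing E] [Algebra R E] [Module.Finite R E] : Finite (MaximalSpectrum E) := by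
  set m := IsLocalRing.maximalIdeal R with hm
  set I := m.map (algebraMap R E) with hI
  letI : Field (R ⧸ m) := Ideal.Quotient.field m
  haveI : Module.Finite (R ⧸ m) (E ⧸ I) := Module.Finite.of_restrictScalars_finite R _ _
  haveI : IsArtinianRing (E ⧸ I) := IsArtinianRing.of_finite (R ⧸ m) (E ⧸ I)
  haveI : Algebra.IsIntegral R E := Algebra.IsIntegral.of_finite R E
  have hsurj : Function.Surjective (Ideal.Quotient.mk I) := Ideal.Quotient.mk_surjective
  let g : MaximalSpectrum (E ⧸ I) → MaximalSpectrum E := fun Q =>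
    ⟨Q.asIdeal.comap (Ideal.Quotient.mk I),
      haveI := Q.isMaximal; Ideal.comap_isMaximal_of_surjective _ hsurj⟩
  refine Finite.of_surjective g ?_
  intro P
  haveI := P.isMaximal
  have hIP : I ≤ P.asIdeal := by
    rw [hI, Ideal.map_le_iff_le_comap]
    have h1 : (P.asIdeal.comap (algebraMap R E)).IsMaximal :=
      Ideal.isMaximal_comap_of_isIntegral_of_isMaximal P.asIdeal
    exact (IsLocalRing.eq_maximalIdeal h1).ge
  have hcm : (P.asIdeal.map (Ideal.Quotient.mk I)).comap (Ideal.Quotient.mk I) = P.asIdeal := by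
    rw [Ideal.comap_map_of_surjective _ hsurj, ← RingHom.ker_eq_comap_bot, Ideal.mk_ker,
      sup_eq_left.2 hIP]
  have hmax : (P.asIdeal.map (Ideal.Quotient.mk I)).IsMaximal := by
    rcases Ideal.map_eq_top_or_isMaximal_of_surjective _ hsurj P.isMaximal with h | h
    · exfalso
      rw [h, Ideal.comap_top] at hcm
      exact P.isMaximal.ne_top hcm.symm
    · exact h
  exact ⟨⟨_, hmax⟩, MaximalSpectrum.ext hcm⟩

end Semilocal

section Separable

variable {R : Type u} [CommRing R] {E : Type v} [CommRing E] [Algebra R E]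
  {M : Type w} [AddCommGroup M] [Module R M] [Module E M] [IsScalarTower R E M]

/-- Over a separable (= formally unramified, essentially of finite type) commutative algebra `E`, a
module which is projective over the base ring is projective over `E`. -/
theorem projective_of_formallyUnramified [Algebra.FormallyUnramified R E]
    [Algebra.EssFiniteType R E] [Module.Projective R M] : Module.Projective E M := by
  obtain ⟨t, ht1, ht2⟩ := (Algebra.FormallyUnramified.iff_exists_tensorProduct (R := R) (S := E)).1
    inferInstance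
  -- `σ m : E ⊗ E → E ⊗ M`, `x ⊗ y ↦ x ⊗ y • m`
  let σ : M → (E ⊗[R] E →ₗ[E] E ⊗[R] M) := fun m =>
    TensorProduct.AlgebraTensorModule.lTensor E E ((LinearMap.toSpanSingleton E M m).restrictScalars R)
  have hσ_tmul : ∀ m x y, σ m (x ⊗ₜ[R] y) = x ⊗ₜ[R] (y • m) := fun m x y => rfl
  have hσ_mul : ∀ (m : M) (e : E) (z : E ⊗[R] E),
      σ m (((1 : E) ⊗ₜ[R] e) * z) = σ (e • m) z := by
    intro m e z
    induction z using TensorProduct.induction_on with
    | zero => simp
    | add z w hz hw => rw [mul_add, map_add, map_add, hz, hw]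
    | tmul x y =>
      rw [Algebra.TensorProduct.tmul_mul_tmul, one_mul, hσ_tmul, hσ_tmul, mul_smul, smul_comm]
  have hσ_mul' : ∀ (m : M) (e : E) (z : E ⊗[R] E),
      σ m ((e ⊗ₜ[R] (1 : E)) * z) = e • σ m z := by
    intro m e z
    have : (e ⊗ₜ[R] (1 : E)) * z = e • z := by
      induction z using TensorProduct.induction_on with
      | zero => simp
      | add z w hz hw => rw [mul_add, smul_add, hz, hw]
      | tmul x y =>
        rw [Algebra.TensorProduct.tmul_mul_tmul, one_mul, TensorProduct.smul_tmul', smul_eq_mul]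
    rw [this, map_smul]
  let μ : E ⊗[R] M →ₗ[E] M := LinearMap.liftBaseChange E (LinearMap.id : M →ₗ[R] M)
  have hμ_tmul : ∀ (e : E) (m : M), μ (e ⊗ₜ[R] m) = e • m := fun e m => by simp [μ]
  have hμσ : ∀ (m : M) (z : E ⊗[R] E), μ (σ m z) = Algebra.TensorProduct.lmul' R z • m := by
    intro m z
    induction z using TensorProduct.induction_on with
    | zero => simp
    | add z w hz hw => rw [map_add, map_add, hz, hw, map_add, add_smul]
    | tmul x y => rw [hσ_tmul, hμ_tmul, Algebra.TensorProduct.lmul'_apply_tmul, mul_smul]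
  have hσ_add : ∀ (m m' : M) (z : E ⊗[R] E), σ (m + m') z = σ m z + σ m' z := by
    intro m m' z
    induction z using TensorProduct.induction_on with
    | zero => simp
    | add z w hz hw => rw [map_add, map_add, map_add, hz, hw]; abel
    | tmul x y => rw [hσ_tmul, hσ_tmul, hσ_tmul, smul_add, TensorProduct.tmul_add]
  let s : M →ₗ[E] E ⊗[R] M :=
    { toFun := fun m => σ m t
      map_add' := fun m m' => hσ_add m m' t
      map_smul' := fun e m => by
        change σ (e • m) t = e • σ m t
        rw [← hσ_mul, ← hσ_mul']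
        congr 1
        have := ht1 e
        rw [sub_mul, sub_eq_zero] at this
        exact this }
  have hμs : μ ∘ₗ s = LinearMap.id := by
    refine LinearMap.ext fun m => ?_
    change μ (σ m t) = m
    rw [hμσ, ht2, one_smul]
  exact Module.Projective.of_split s μ hμs

end Separable


section Main

open Groth.Agent.Lib.Azumaya16 Groth.Agent.Lib.LGAzumaya16

variable (R : Type u) [CommRing R] [IsLocalRing R] (A : Type u) [Ring A] [Algebra R A]
  [IsAzumaya R A] (E : Type u) [CommRing E] [Algebra R E] [Algebra.Etale R E]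
  [Module.Finite R E] [Module.Free R E] (u : E →ₐ[R] A) [Module E A]

include R in
theorem isScalarTower_of_hmod (hmod : ∀ (e : E) (a : A), e • a = a * u e) :
    IsScalarTower R E A :=
  ⟨fun x e a => by rw [hmod, hmod, map_smul, mul_smul_comm]⟩

theorem injective_of_fibre
    (hu : Function.Injective (u.toLinearMap.lTensor (IsLocalRing.ResidueField R))) :
    Function.Injective u := by
  obtain ⟨a1, a2, a3, a4⟩ := (isAzumaya_iff R A).1 inferInstance
  haveI : Module.Free R A := Module.free_of_flat_of_isLocalRing
  obtain ⟨l', hl'⟩ := (IsLocalRing.split_injective_iff_lTensor_residueField_injective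
    u.toLinearMap).2 hu
  intro x y hxy
  have := congrArg l' hxy
  have h1 := LinearMap.congr_fun hl' x
  have h2 := LinearMap.congr_fun hl' y
  simp only [LinearMap.comp_apply, AlgHom.toLinearMap_apply, LinearMap.id_apply] at h1 h2
  rw [← h1, ← h2, this]

end Main

section Main2

open Groth.Agent.Lib.Azumaya16 Groth.Agent.Lib.LGAzumaya16

variable (R : Type u) [CommRing R] (A : Type u) [Ring A] [Algebra R A]
  (E : Type u) [CommRing E] [Algebra R E] (u : E →ₐ[R] A) [Module E A]
  [IsScalarTower R E A]

/-- left multiplication is `E`-linear for the right `E`-structure. -/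
noncomputable def lmulE (hmod : ∀ (e : E) (a : A), e • a = a * u e) : A →ₐ[R] Module.End E A where
  toFun a :=
    { toFun := fun y => a * y
      map_add' := fun y z => mul_add a y z
      map_smul' := fun e y => by
        simp only [RingHom.id_apply]
        rw [hmod, hmod, mul_assoc] }
  map_one' := by ext y; simp
  map_mul' a b := by ext y; simp [mul_assoc]
  map_zero' := by ext y; simp
  map_add' a b := by ext y; simp [add_mul]
  commutes' x := by
    ext y
    simp only [LinearMap.coe_mk, AddHom.coe_mk, Module.algebraMap_end_apply]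
    rw [Algebra.algebraMap_eq_smul_one, smul_mul_assoc, one_mul]

@[simp]
theorem lmulE_apply (hmod : ∀ (e : E) (a : A), e • a = a * u e) (a y : A) :
    lmulE R A E u hmod a y = a * y := rfl

/-- the canonical map `E ⊗ A → End_E(A)`. -/
noncomputable def Phi (hmod : ∀ (e : E) (a : A), e • a = a * u e) :
    E ⊗[R] A →ₐ[E] Module.End E A :=
  Algebra.TensorProduct.lift (Algebra.ofId E (Module.End E A)) (lmulE R A E u hmod)
    (fun e a => by
      rw [commute_iff_eq]
      ext y
      simp only [Module.End.mul_apply, Algebra.ofId_apply, Module.algebraMap_end_apply, lmulE_apply]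
      rw [hmod, hmod, mul_assoc])

theorem Phi_tmul (hmod : ∀ (e : E) (a : A), e • a = a * u e) (e : E) (a y : A) :
    Phi R A E u hmod (e ⊗ₜ[R] a) y = e • (a * y) := by
  simp [Phi]


variable [IsAzumaya R A] [Module.Free R A] [Module.Finite E A] [Module.Projective E A]
  [FaithfulSMul E A]

include R in
theorem le_rankAtStalk (r : ℕ) (hA : Module.finrank R A = r ^ 2)
    (hmod : ∀ (e : E) (a : A), e • a = a * u e) (q : PrimeSpectrum E) :
    r ≤ Module.rankAtStalk (R := E) A q := by
  obtain ⟨a1, a2, a3, a4⟩ := (isAzumaya_iff R A).1 inferInstance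
  haveI : Nontrivial E := ⟨⟨0, 1, fun h => q.isPrime.ne_top
    ((Ideal.eq_top_iff_one _).2 (h ▸ q.asIdeal.zero_mem))⟩⟩
  haveI : Nontrivial R := (algebraMap R E).domain_nontrivial
  let κ := q.asIdeal.ResidueField
  let B := E ⊗[R] A
  haveI hB : IsAzumaya E B := isAzumaya_baseChange R E A
  letI : Module B A := Module.compHom A (Phi R A E u hmod).toRingHom
  haveI : IsScalarTower E B A := ⟨fun e b a => by
    change Phi R A E u hmod (e • b) a = e • (Phi R A E u hmod b a)
    rw [map_smul]; rfl⟩
  let ρ := fibreRep E B κ A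
  haveI hκB : IsAzumaya κ (κ ⊗[E] B) := isAzumaya_baseChange E κ B
  haveI : IsSimpleRing (κ ⊗[E] B) := isSimpleRing_of_isAzumaya_field κ _
  have hpos : 0 < Module.rankAtStalk (R := E) A q := rankAtStalk_pos_of_faithful A q
  have hrk : Module.rankAtStalk (R := E) A q = Module.finrank κ (κ ⊗[E] A) :=
    Module.rankAtStalk_eq q
  haveI : Nontrivial (κ ⊗[E] A) := by
    apply Module.nontrivial_of_finrank_pos (R := κ)
    rw [← hrk]; exact hpos
  haveI : Nontrivial (Module.End κ (κ ⊗[E] A)) := inferInstance
  have hinj : Function.Injective ρ := RingHom.injective ρ.toRingHom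
  have h1 : Module.finrank κ (κ ⊗[E] B) ≤ Module.finrank κ (Module.End κ (κ ⊗[E] A)) :=
    LinearMap.finrank_le_finrank_of_injective (f := ρ.toLinearMap) hinj
  rw [Module.finrank_linearMap, Module.finrank_baseChange, ← hrk] at h1
  have h2 : Module.finrank E B = r ^ 2 := by
    rw [Module.finrank_baseChange, hA]
  rw [h2, pow_two] at h1
  exact Nat.mul_self_le_mul_self_iff.1 h1


end Main2

section Main3

open Groth.Agent.Lib.Azumaya16 Groth.Agent.Lib.LGAzumaya16

variable (R : Type u) [CommRing R] [IsLocalRing R] (A : Type u) [Ring A] [Algebra R A]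
  [IsAzumaya R A] (E : Type u) [CommRing E] [Algebra R E] [Algebra.Etale R E]
  [Module.Finite R E] [Module.Free R E] (u : E →ₐ[R] A) [Module E A]

theorem free_and_split (r : ℕ) (hA : Module.finrank R A = r ^ 2) (hE : Module.finrank R E = r)
    (hu : Function.Injective (u.toLinearMap.lTensor (IsLocalRing.ResidueField R)))
    (hmod : ∀ (e : E) (a : A), e • a = a * u e) :
    Module.Free E A ∧ Module.finrank E A = r ∧ Nonempty ((E ⊗[R] A) ≃ₐ[E] Module.End E A) := by
  haveI : IsScalarTower R E A := isScalarTower_of_hmod R A E u hmod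
  obtain ⟨a1, a2, a3, a4⟩ := (isAzumaya_iff R A).1 inferInstance
  haveI : Module.Free R A := Module.free_of_flat_of_isLocalRing
  haveI : Nontrivial A := by
    by_contra hA'
    rw [not_nontrivial_iff_subsingleton] at hA'
    exact one_ne_zero (α := R) (a2.eq_of_smul_eq_smul fun a => Subsingleton.elim _ _)
  haveI : Nontrivial E := by
    by_contra hE'
    rw [not_nontrivial_iff_subsingleton] at hE'
    obtain ⟨a, b, hab⟩ := exists_pair_ne A
    apply hab
    rw [← one_smul E a, ← one_smul E b, Subsingleton.elim (1 : E) 0, zero_smul, zero_smul]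
  haveI : Module.Finite E A := Module.Finite.of_restrictScalars_finite R E A
  haveI : Module.Projective E A := projective_of_formallyUnramified (R := R)
  have huinj := injective_of_fibre R A E u hu
  haveI : FaithfulSMul E A := ⟨fun {e e'} h => huinj (by
    have := h 1
    rwa [hmod, hmod, one_mul, one_mul] at this)⟩
  haveI : Finite (MaximalSpectrum E) := finite_maximalSpectrum_of_finite R E
  have hLG : LGRing.IsLGRing E := isLGRing_of_finite_maximalSpectrum E
  -- split surjection `A → E^r`
  obtain ⟨φ, ψ, hφψ⟩ := exists_comp_eq_id_of_rankAtStalk_le (R := E) (A := E) (M := A)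
    (N := Fin r → E) hLG (fun q => by
      rw [Module.rankAtStalk_eq_finrank_of_free]
      simp only [Module.finrank_pi, Fintype.card_fin, Pi.natCast_apply, Nat.cast_id]
      exact le_rankAtStalk R A E u r hA hmod q)
  have hφs : Function.Surjective φ := fun z => ⟨ψ z, LinearMap.congr_fun hφψ z⟩
  -- `φ` is injective by Orzech
  have hfr : Module.finrank R (Fin r → E) = Module.finrank R A := by
    rw [Module.finrank_pi_fintype, hA]
    simp [hE, pow_two]
  let θ : (Fin r → E) ≃ₗ[R] A := LinearEquiv.ofFinrankEq _ _ hfr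
  have hinj : Function.Injective (θ.toLinearMap ∘ₗ φ.restrictScalars R) :=
    OrzechProperty.injective_of_surjective_endomorphism _ (θ.surjective.comp hφs)
  have hφi : Function.Injective φ := by
    intro a b hab
    apply hinj
    change θ (φ a) = θ (φ b)
    rw [hab]
  let e : A ≃ₗ[E] (Fin r → E) := LinearEquiv.ofBijective φ ⟨hφi, hφs⟩
  haveI hfree : Module.Free E A := Module.Free.of_equiv e.symm
  have hrank : Module.finrank E A = r := by
    rw [e.finrank_eq]; simp
  refine ⟨hfree, hrank, ?_⟩
  haveI hB : IsAzumaya E (E ⊗[R] A) := isAzumaya_baseChange R E A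
  haveI hEnd : IsAzumaya E (Module.End E A) := isAzumaya_end E A
  have hfr2 : Module.finrank E (E ⊗[R] A) = Module.finrank E (Module.End E A) := by
    rw [Module.finrank_baseChange, hA, Module.finrank_linearMap, hrank, pow_two]
  let g : (E ⊗[R] A) ≃ₗ[E] Module.End E A := LinearEquiv.ofFinrankEq _ _ hfr2
  exact ⟨AlgEquiv.ofBijective (Phi R A E u hmod)
    (algHom_bijective_of_linearEquiv E _ _ (Phi R A E u hmod) g)⟩

end Main3

end Groth.Agent.Lib.AzumayaEtaleSub16
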