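import Mathlib
import Groth.Agent.Lib.AzumayaEtale16
import Groth.Agent.Lib.AzumayaEtaleSub16
import Groth.Agent.Lib.CSAIndexArith

/-!
# Azumaya algebras are étale-locally matrix algebras (affine form)

helper16.  Preparations: resultant criterion for separability, regular sections, spreading out
bijectivity from a localization at a prime to a basic open neighbourhood.
-/

set_option autoImplicit false
set_option linter.style.haveILetI false
set_option linter.unusedSectionVars false
universe u v w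

open Polynomial
open scoped TensorProduct

namespace Groth.Agent.Lib.AzumayaEtaleLocal16

section Resultant

variable {R : Type u} [CommRing R] {T : Type v} [CommRing T]

/-- For a monic polynomial `G`, separability of the image of `G` under a ring hom is detected by
the resultant of `G` and `G'`. -/
theorem separable_map_iff (G : R[X]) (hG : G.Monic) (φ : R →+* T) :
    (G.map φ).Separable ↔ IsUnit (φ (resultant G (derivative G))) := by
  rcases subsingleton_or_nontrivial T with hT | hT
  · exact ⟨fun _ => isUnit_of_subsingleton _, fun _ => ⟨0, 0, Subsingleton.elim _ _⟩⟩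
  have h1 : φ (resultant G (derivative G)) =
      resultant (G.map φ) ((derivative G).map φ) G.natDegree (derivative G).natDegree :=
    (resultant_map_map G (derivative G) G.natDegree (derivative G).natDegree φ).symm
  have h2 : (G.map φ).natDegree = G.natDegree := hG.natDegree_map φ
  have h3 : (derivative G).map φ = derivative (G.map φ) := (derivative_map G φ).symm
  have h4 : (derivative (G.map φ)).natDegree ≤ (derivative G).natDegree := by
    rw [← h3]; exact natDegree_map_le
  obtain ⟨k, hk⟩ := Nat.exists_eq_add_of_le h4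
  have h5 : (G.map φ).coeff G.natDegree = 1 := by
    rw [← h2]; exact (hG.map φ).coeff_natDegree
  rw [h1, h3, hk, resultant_add_right_deg _ _ _ _ k le_rfl, h5, one_pow, one_mul, ← h2,
    isUnit_resultant_iff_isCoprime (hG.map φ)]
  rfl

end Resultant

section Adjoin

variable {k : Type u} [Field k] {B : Type v} [Ring B] [Algebra k B]

theorem adjoin_smul_singleton (c : k) (hc : c ≠ 0) (x : B) :
    Algebra.adjoin k ({c • x} : Set B) = Algebra.adjoin k ({x} : Set B) := by
  apply le_antisymm
  · apply Algebra.adjoin_le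
    intro y hy
    rw [Set.mem_singleton_iff] at hy
    rw [hy]
    exact Subalgebra.smul_mem _ (Algebra.subset_adjoin (Set.mem_singleton x)) c
  · apply Algebra.adjoin_le
    intro y hy
    rw [Set.mem_singleton_iff] at hy
    have hx : c⁻¹ • (c • x) ∈ Algebra.adjoin k ({c • x} : Set B) :=
      Subalgebra.smul_mem _ (Algebra.subset_adjoin (R := k) (Set.mem_singleton (c • x))) _
    rw [smul_smul, inv_mul_cancel₀ hc, one_smul] at hx
    rw [hy]
    exact hx

end Adjoin

section Unique

variable {R : Type u} [CommRing R] {A : Type v} [Ring A] [Algebra R A]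

/-- uniqueness of the monic polynomial of degree `r` killing an element whose first `r` powers are
linearly independent. -/
theorem monic_eq_of_aeval_eq_zero {r : ℕ} (ξ : A)
    (hli : LinearIndependent R (fun j : Fin r => ξ ^ (j : ℕ)))
    (g g' : R[X]) (hg : g.Monic) (hg' : g'.Monic) (hd : g.natDegree = r) (hd' : g'.natDegree = r)
    (h : aeval ξ g = 0) (h' : aeval ξ g' = 0) : g = g' := by
  rcases subsingleton_or_nontrivial R with hR | hR
  · exact Subsingleton.elim _ _
  by_contra hne
  have hdeg : (g - g').degree < (r : WithBot ℕ) := by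
    have h1 : g.degree = g'.degree := by
      rw [degree_eq_natDegree hg.ne_zero, degree_eq_natDegree hg'.ne_zero, hd, hd']
    have h2 : g.leadingCoeff = g'.leadingCoeff := by rw [hg.leadingCoeff, hg'.leadingCoeff]
    have := degree_sub_lt_left h1 hg.ne_zero h2
    rwa [degree_eq_natDegree hg.ne_zero, hd] at this
  have hsum : g - g' = ∑ j : Fin r, C ((g - g').coeff j) * X ^ (j : ℕ) := by
    have hnd : (g - g').natDegree < r := by
      rw [← natDegree_lt_iff_degree_lt (sub_ne_zero.2 hne)] at hdeg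
      exact hdeg
    rw [Fin.sum_univ_eq_sum_range (fun j => C ((g - g').coeff j) * X ^ j) r]
    exact as_sum_range_C_mul_X_pow' (g - g') hnd
  have hzero : aeval ξ (g - g') = 0 := by rw [map_sub, h, h', sub_zero]
  rw [hsum, map_sum] at hzero
  simp only [map_mul, aeval_C, map_pow, aeval_X, ← Algebra.smul_def] at hzero
  have hc := Fintype.linearIndependent_iff.1 hli _ hzero
  apply hne
  rw [← sub_eq_zero, hsum]
  apply Finset.sum_eq_zero
  intro j _
  rw [hc j, map_zero, zero_mul]

end Unique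

section LocalRing

open IsLocalRing Groth.Agent.Lib.AzumayaRegular16 Groth.Agent.Lib.AzumayaEtale16

variable {R : Type u} [CommRing R] [IsLocalRing R] {A : Type u} [Ring A] [Algebra R A]
  [IsAzumaya R A]

local notation "κ" => ResidueField R

/-- the rank of an Azumaya algebra over a local ring is a positive square -/
theorem exists_finrank_eq_sq : ∃ r : ℕ, 1 ≤ r ∧ Module.finrank R A = r ^ 2 := by
  have := isSimpleRing_fibre (R := R) (A := A)
  have := isCentral_fibre (R := R) (A := A)
  obtain ⟨d, hd0, m, D, _, _, hm, hD, ⟨e⟩⟩ :=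
    Groth.Agent.Lib.CSAIndexArith.exists_isIndex (k := κ) (κ ⊗[R] A)
  refine ⟨m * d, Nat.mul_pos hm hd0, ?_⟩
  rw [← finrank_fibre (R := R) (A := A), e.toLinearEquiv.finrank_eq]
  have : Module.Finite κ D := Module.finite_of_finrank_pos (by rw [hD]; positivity)
  rw [Module.finrank_matrix, hD]
  simp only [Fintype.card_fin]
  ring

/-- any monic polynomial of degree `r` killing a regular section has separable reduction -/
theorem separable_of_aeval_eq_zero {r : ℕ} (ξ : A)
    (hsep : Algebra.IsSeparable κ (Algebra.adjoin κ ({(1 : κ) ⊗ₜ[R] ξ} : Set (κ ⊗[R] A))))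
    (hrk : Module.finrank κ (Algebra.adjoin κ ({(1 : κ) ⊗ₜ[R] ξ} : Set (κ ⊗[R] A))) = r)
    (g : R[X]) (hgm : g.Monic) (hgdeg : g.natDegree = r) (hgξ : aeval ξ g = 0) :
    (g.map (residue R)).Separable := by
  have := isSimpleRing_fibre (R := R) (A := A)
  set x : κ ⊗[R] A := (1 : κ) ⊗ₜ[R] ξ with hx
  have hint : IsIntegral κ x := Algebra.IsIntegral.isIntegral x
  have hdeg : (minpoly κ x).natDegree = r := by
    rw [← Groth.Agent.Lib.CSARegular16.finrank_adjoin_singleton x hint, hrk]
  have hkill : aeval x (g.map (residue R)) = 0 := by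
    rw [← IsLocalRing.ResidueField.algebraMap_eq, Polynomial.aeval_map_algebraMap]
    have h1 : x = (Algebra.TensorProduct.includeRight : A →ₐ[R] κ ⊗[R] A) ξ := rfl
    rw [h1, Polynomial.aeval_algHom_apply, hgξ, map_zero]
  have hdvd : minpoly κ x ∣ g.map (residue R) := minpoly.dvd κ x hkill
  have heq : g.map (residue R) = minpoly κ x := by
    refine Polynomial.eq_of_monic_of_dvd_of_natDegree_le (minpoly.monic hint) (hgm.map _) hdvd ?_
    rw [hdeg, hgm.natDegree_map, hgdeg]
  rw [heq]
  have h2 := hsep.isSeparable' ⟨x, Algebra.subset_adjoin (Set.mem_singleton x)⟩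
  unfold IsSeparable at h2
  have h3 : minpoly κ ((Algebra.adjoin κ ({x} : Set (κ ⊗[R] A))).val
      ⟨x, Algebra.subset_adjoin (Set.mem_singleton x)⟩)
      = minpoly κ (⟨x, Algebra.subset_adjoin (Set.mem_singleton x)⟩ :
        Algebra.adjoin κ ({x} : Set (κ ⊗[R] A))) :=
    minpoly.algHom_eq _ Subtype.val_injective _
  rw [← h3] at h2
  exact h2

/-- the evaluation map at a regular section is injective on the special fibre -/
theorem evalHom_injective_fibre {r : ℕ} (hA : Module.finrank R A = r ^ 2) (ξ : A)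
    (hsep : Algebra.IsSeparable κ (Algebra.adjoin κ ({(1 : κ) ⊗ₜ[R] ξ} : Set (κ ⊗[R] A))))
    (hrk : Module.finrank κ (Algebra.adjoin κ ({(1 : κ) ⊗ₜ[R] ξ} : Set (κ ⊗[R] A))) = r)
    (g : R[X]) (hgm : g.Monic) (hgdeg : g.natDegree = r) (hgξ : aeval ξ g = 0) :
    Function.Injective ((evalHom g ξ hgξ).toLinearMap.lTensor κ) := by
  subst hgdeg
  let pb := AdjoinRoot.powerBasis' hgm
  have := isSimpleRing_fibre (R := R) (A := A)
  have := isCentral_fibre (R := R) (A := A)
  have hA' : Module.finrank κ (κ ⊗[R] A) = g.natDegree ^ 2 := by rw [finrank_fibre, hA]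
  obtain ⟨h1, -⟩ := Groth.Agent.Lib.CSARegular16.of_adjoin hA' hsep hrk
  let bκ : Module.Basis (Fin g.natDegree) κ (κ ⊗[R] AdjoinRoot g) := pb.basis.baseChange κ
  have hinj : Function.Injective ((evalHom g ξ hgξ).toLinearMap.baseChange κ) := by
    apply LinearMap.injective_of_linearIndependent (v := bκ) bκ.span_eq
    have h2 : (⇑((evalHom g ξ hgξ).toLinearMap.baseChange κ) ∘ ⇑bκ)
        = fun j : Fin g.natDegree => ((1 : κ) ⊗ₜ[R] ξ) ^ (j : ℕ) := by
      ext1 j
      have h3 : pb.basis j = AdjoinRoot.root g ^ (j : ℕ) := pb.basis_eq_pow j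
      have h4 : bκ j = (1 : κ) ⊗ₜ[R] (pb.basis j) :=
        Module.Basis.baseChange_apply κ pb.basis j
      rw [Function.comp_apply, h4, LinearMap.baseChange_tmul, h3, AlgHom.toLinearMap_apply,
        map_pow, evalHom_root, Algebra.TensorProduct.tmul_pow, one_pow]
    rw [h2]
    exact h1
  intro a b hab
  apply hinj
  rw [LinearMap.baseChange_eq_ltensor]
  exact hab

end LocalRing

section Split

open Groth.Agent.Lib.Azumaya16 Groth.Agent.Lib.AzumayaEtaleSub16

variable (R : Type u) [CommRing R] (A : Type u) [Ring A] [Algebra R A] [IsAzumaya R A]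
  (E : Type u) [CommRing E] [Algebra R E] (u : E →ₐ[R] A) [Module E A] [IsScalarTower R E A]

/-- If `A` (Azumaya, free of rank `r²` over `R`) is free of rank `r` over `E` for the right module
structure, then `E ⊗ A ≅ M_r(E)`. -/
theorem nonempty_algEquiv_matrix_of_free [Nontrivial E] [Module.Free R A] (r : ℕ) (hr : 1 ≤ r)
    (hA : Module.finrank R A = r ^ 2)
    (hmod : ∀ (e : E) (a : A), e • a = a * u e) (b : Module.Basis (Fin r) E A) :
    Nonempty ((E ⊗[R] A) ≃ₐ[E] Matrix (Fin r) (Fin r) E) := by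
  obtain ⟨a1, a2, a3, a4⟩ := (isAzumaya_iff R A).1 inferInstance
  haveI : Nontrivial R := (algebraMap R E).domain_nontrivial
  haveI : Module.Free E A := Module.Free.of_basis b
  haveI : Module.Finite E A := Module.Finite.of_basis b
  have hrank : Module.finrank E A = r := by
    rw [Module.finrank_eq_card_basis b, Fintype.card_fin]
  haveI : Nonempty (Fin r) := ⟨⟨0, hr⟩⟩
  haveI : FaithfulSMul E A := by
    refine ⟨fun {e e'} h => ?_⟩
    have h1 := h (b ⟨0, hr⟩)
    have h2 : (e - e') • b ⟨0, hr⟩ = 0 := by rw [sub_smul, h1, sub_self]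
    have h3 := b.linearIndependent
    rw [Fintype.linearIndependent_iff] at h3
    have h4 := h3 (Pi.single ⟨0, hr⟩ (e - e')) (by
      rw [Finset.sum_eq_single ⟨0, hr⟩]
      · rw [Pi.single_eq_same]; exact h2
      · intro j _ hj; rw [Pi.single_eq_of_ne hj, zero_smul]
      · intro h; exact absurd (Finset.mem_univ _) h) ⟨0, hr⟩
    rw [Pi.single_eq_same] at h4
    exact sub_eq_zero.1 h4
  haveI hB : IsAzumaya E (E ⊗[R] A) := isAzumaya_baseChange R E A
  haveI hEnd : IsAzumaya E (Module.End E A) := isAzumaya_end E A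
  have hfr2 : Module.finrank E (E ⊗[R] A) = Module.finrank E (Module.End E A) := by
    rw [Module.finrank_baseChange, hA, Module.finrank_linearMap, hrank, pow_two]
  let g : (E ⊗[R] A) ≃ₗ[E] Module.End E A := LinearEquiv.ofFinrankEq _ _ hfr2
  let Φ : (E ⊗[R] A) ≃ₐ[E] Module.End E A := AlgEquiv.ofBijective (Phi R A E u hmod)
    (algHom_bijective_of_linearEquiv E _ _ (Phi R A E u hmod) g)
  exact ⟨Φ.trans (algEquivMatrix b)⟩

end Split

section Spread

variable {R : Type u} [CommRing R] {M : Type v} [AddCommGroup M] [Module R M]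
  {N : Type w} [AddCommGroup N] [Module R N]

theorem isLocalizedModule_map_eq_baseChange (S : Submonoid R) (T : Type*) [CommRing T]
    [Algebra R T] [IsLocalization S T] (l : M →ₗ[R] N) :
    IsLocalizedModule.map S (TensorProduct.mk R T M 1) (TensorProduct.mk R T N 1) l =
      (l.baseChange T).restrictScalars R := by
  apply IsLocalizedModule.linearMap_ext S (TensorProduct.mk R T M 1) (TensorProduct.mk R T N 1)
  refine LinearMap.ext fun m => ?_
  rw [LinearMap.comp_apply, IsLocalizedModule.map_apply]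
  simp

theorem exists_bijective_baseChange_away [Module.Finite R M] [Module.FinitePresentation R N]
    (l : M →ₗ[R] N) (p : Ideal R) [p.IsPrime]
    (h : Function.Bijective (l.baseChange (Localization.AtPrime p))) :
    ∃ w, w ∉ p ∧ ∀ f, w ∣ f → Function.Bijective (l.baseChange (Localization.Away f)) := by
  have h1 : Function.Bijective (IsLocalizedModule.map p.primeCompl
      (TensorProduct.mk R (Localization.AtPrime p) M 1)
      (TensorProduct.mk R (Localization.AtPrime p) N 1) l) := by
    rw [isLocalizedModule_map_eq_baseChange]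
    exact h
  obtain ⟨w, hw, hw'⟩ := exists_bijective_map_powers p.primeCompl
    (TensorProduct.mk R (Localization.AtPrime p) M 1)
    (TensorProduct.mk R (Localization.AtPrime p) N 1) l h1
  refine ⟨w, hw, fun f hf => ?_⟩
  have h2 := hw' f hf
  rw [← IsLocalizedModule.map_bijective_iff_localizedModuleMap_bijective
    (TensorProduct.mk R (Localization.Away f) M 1)
    (TensorProduct.mk R (Localization.Away f) N 1),
    isLocalizedModule_map_eq_baseChange] at h2
  exact h2

end Spread

section RightModule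

variable {E : Type u} [CommRing E] {A : Type v} [Ring A]

/-- the module structure `e • a = a * u e` for a ring hom from a commutative ring -/
@[reducible] def rightModule (u : E →+* A) : Module E A where
  smul e a := a * u e
  one_smul a := by change a * u 1 = a; rw [map_one, mul_one]
  mul_smul e e' a := by
    change a * u (e * e') = (a * u e') * u e
    rw [mul_comm e e', map_mul, mul_assoc]
  smul_zero e := by change 0 * u e = 0; rw [zero_mul]
  smul_add e a b := by change (a + b) * u e = a * u e + b * u e; rw [add_mul]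
  add_smul e e' a := by change a * u (e + e') = a * u e + a * u e'; rw [map_add, mul_add]
  zero_smul a := by change a * u 0 = 0; rw [map_zero, mul_zero]

end RightModule


section LocalRing2

open IsLocalRing

variable {R : Type u} [CommRing R] [IsLocalRing R] {A : Type u} [Ring A] [Algebra R A]

local notation "κ" => ResidueField R

theorem regular_smul {r : ℕ} (ξ : A) (c : R) (hc : residue R c ≠ 0)
    (hsep : Algebra.IsSeparable κ (Algebra.adjoin κ ({(1 : κ) ⊗ₜ[R] ξ} : Set (κ ⊗[R] A))))
    (hrk : Module.finrank κ (Algebra.adjoin κ ({(1 : κ) ⊗ₜ[R] ξ} : Set (κ ⊗[R] A))) = r) :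
    Algebra.IsSeparable κ (Algebra.adjoin κ ({(1 : κ) ⊗ₜ[R] (c • ξ)} : Set (κ ⊗[R] A))) ∧
    Module.finrank κ (Algebra.adjoin κ ({(1 : κ) ⊗ₜ[R] (c • ξ)} : Set (κ ⊗[R] A))) = r := by
  have hfib : ((1 : κ) ⊗ₜ[R] (c • ξ) : κ ⊗[R] A) = residue R c • ((1 : κ) ⊗ₜ[R] ξ) := by
    rw [TensorProduct.tmul_smul, ← IsLocalRing.ResidueField.algebraMap_eq, algebraMap_smul]
  rw [hfib, adjoin_smul_singleton _ hc]
  exact ⟨hsep, hrk⟩

end LocalRing2

section Extract

open IsLocalRing Groth.Agent.Lib.AzumayaRegular16 Groth.Agent.Lib.AzumayaEtale16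
  Groth.Agent.Lib.Azumaya16 Groth.Agent.Lib.AzumayaEtaleSub16

variable (R : Type u) [CommRing R] (A : Type u) [Ring A] [Algebra R A] [IsAzumaya R A]
  (p : Ideal R) [p.IsPrime]

local notation "S" => Localization.AtPrime p
local notation "AS" => (Localization.AtPrime p) ⊗[R] A

/-- Local analysis at a prime, packaged as global data. -/
theorem exists_global_data :
    ∃ (r : ℕ) (G : R[X]) (ξ : A) (β : Fin r → A), 1 ≤ r ∧ G.Monic ∧ G.natDegree = r ∧
      (∃ t, t ∉ p ∧ t • aeval ξ G = 0) ∧ resultant G (derivative G) ∉ p ∧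
      Function.Bijective ((Fintype.linearCombination R
        (fun ij : Fin r × Fin r => β ij.1 * ξ ^ (ij.2 : ℕ))).baseChange
          (Localization.AtPrime p)) := by
  haveI : IsAzumaya S AS := isAzumaya_baseChange R S A
  obtain ⟨r, hr, hA⟩ := exists_finrank_eq_sq (R := S) (A := AS)
  obtain ⟨ξ', hsep, hrk⟩ := exists_regular_section hA
  obtain ⟨g₀, hg₀m, hg₀d, hg₀ξ, -⟩ := exists_monic_aeval_eq_zero hA ξ' hsep hrk
  -- write `ξ'` as a fraction
  obtain ⟨⟨ξ₀, s₀⟩, hs₀⟩ := IsLocalizedModule.surj p.primeCompl (TensorProduct.mk R S A 1) ξ'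
  replace hs₀ : (s₀ : R) • ξ' = (1 : S) ⊗ₜ[R] ξ₀ := hs₀
  -- denominators of `g₀`
  obtain ⟨s, hsM, hs⟩ := IsLocalization.integerNormalization_spec p.primeCompl g₀
  have hcoef : ∀ n, algebraMap R S ((IsLocalization.integerNormalization p.primeCompl g₀).coeff n)
      = algebraMap R S s * g₀.coeff n := by
    intro n
    have := congrArg (fun q => q.coeff n) hs
    simpa [coeff_map, coeff_smul, Algebra.smul_def] using this
  set σ : R := s₀ * s with hσ
  have hσp : σ ∉ p := fun h => (p.primeCompl.mul_mem s₀.2 hsM) h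
  set σS : S := algebraMap R S σ with hσS
  set g₂ : S[X] := scaleRoots g₀ σS with hg₂
  have hg₂m : g₂.Monic := (monic_scaleRoots_iff σS).2 hg₀m
  have hg₂d : g₂.natDegree = r := by rw [hg₂, natDegree_scaleRoots, hg₀d]
  have hlifts : g₂ ∈ lifts (algebraMap R S) := by
    rw [lifts_iff_coeff_lifts]
    intro n
    rw [hg₂, coeff_scaleRoots, hg₀d]
    rcases lt_trichotomy n r with hn | hn | hn
    · obtain ⟨k, hk⟩ := Nat.exists_eq_add_of_lt hn
      have hk' : r - n = k + 1 := by omega
      refine ⟨(IsLocalization.integerNormalization p.primeCompl g₀).coeff n * s₀ * σ ^ k, ?_⟩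
      rw [map_mul, map_mul, hcoef, map_pow, hk', pow_succ, hσS, hσ, map_mul]
      ring
    · subst hn
      refine ⟨1, ?_⟩
      rw [map_one, Nat.sub_self, pow_zero, mul_one, ← hg₀d]
      exact hg₀m.coeff_natDegree.symm
    · refine ⟨0, ?_⟩
      rw [map_zero, coeff_eq_zero_of_natDegree_lt (by rw [hg₀d]; exact hn), zero_mul]
  obtain ⟨G, hGmap, hGdeg, hGm⟩ := lifts_and_natDegree_eq_and_monic hlifts hg₂m
  set ξ : A := s • ξ₀ with hξ
  have hξ' : (1 : S) ⊗ₜ[R] ξ = σS • ξ' := by
    rw [hξ, TensorProduct.tmul_smul, ← hs₀, hσS, hσ, algebraMap_smul, mul_comm, mul_smul]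
  have hkill : aeval (σS • ξ') g₂ = 0 := by
    have h1 : σS • ξ' = algebraMap S AS σS * ξ' := Algebra.smul_def (R := S) (A := AS) σS ξ'
    rw [hg₂, h1]
    exact scaleRoots_aeval_eq_zero hg₀ξ
  -- the new section is regular
  have hres : residue S σS ≠ 0 := by
    rw [Ne, residue_eq_zero_iff, hσS, IsLocalization.AtPrime.to_map_mem_maximal_iff S p]
    exact hσp
  obtain ⟨hsep₂, hrk₂⟩ := regular_smul ξ' σS hres hsep hrk
  have hsepG := separable_of_aeval_eq_zero (σS • ξ') hsep₂ hrk₂ g₂ hg₂m hg₂d hkill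
  have hρ : resultant G (derivative G) ∉ p := by
    have h1 : (G.map ((residue S).comp (algebraMap R S))).Separable := by
      rw [← Polynomial.map_map, hGmap]; exact hsepG
    rw [separable_map_iff G hGm] at h1
    intro hmem
    have h2 : (residue S) (algebraMap R S (resultant G (derivative G))) = 0 := by
      rw [residue_eq_zero_iff, IsLocalization.AtPrime.to_map_mem_maximal_iff S p]; exact hmem
    rw [RingHom.comp_apply, h2] at h1
    exact not_isUnit_zero h1
  have hD1 : ∃ t, t ∉ p ∧ t • aeval ξ G = 0 := by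
    have h1 : (TensorProduct.mk R S A 1) (aeval ξ G) = 0 := by
      change (1 : S) ⊗ₜ[R] (aeval ξ G) = 0
      have h2 : aeval (σS • ξ') g₂ = (1 : S) ⊗ₜ[R] (aeval ξ G) := by
        rw [← hξ', ← hGmap, aeval_map_algebraMap]
        have h3 : ((1 : S) ⊗ₜ[R] ξ : AS) =
          (Algebra.TensorProduct.includeRight : A →ₐ[R] AS) ξ := rfl
        rw [h3, aeval_algHom_apply]; rfl
      rw [← h2, hkill]
    obtain ⟨t, ht⟩ := (IsLocalizedModule.eq_zero_iff p.primeCompl (TensorProduct.mk R S A 1)).1 h1
    exact ⟨t, t.2, ht⟩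
  refine ⟨r, G, ξ, ?_⟩
  -- the étale algebra and the basis
  let P := Groth.Agent.Lib.FiniteEtaleLift.pairOfMonic g₂ hg₂m
  have hunit : IsUnit (AdjoinRoot.mk P.f P.g) :=
    Groth.Agent.Lib.FiniteEtaleLift.isUnit_mk_derivative_of_separable_map g₂ hg₂m hsepG
  haveI hetale : Algebra.Etale S (AdjoinRoot g₂) :=
    Algebra.Etale.of_equiv (Groth.Agent.Lib.FiniteEtaleLift.equivAdjoinRootOfIsUnit P hunit)
  let pb := AdjoinRoot.powerBasis' hg₂m
  haveI : Module.Finite S (AdjoinRoot g₂) := hg₂m.finite_adjoinRoot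
  haveI : Module.Free S (AdjoinRoot g₂) := Module.Free.of_basis pb.basis
  have hE : Module.finrank S (AdjoinRoot g₂) = r := by rw [pb.finrank]; exact hg₂d
  haveI : Nontrivial (AdjoinRoot g₂) :=
    Module.nontrivial_of_finrank_pos (R := S) (by rw [hE]; exact hr)
  let u : AdjoinRoot g₂ →ₐ[S] AS := evalHom g₂ (σS • ξ') hkill
  have hu := evalHom_injective_fibre hA _ hsep₂ hrk₂ g₂ hg₂m hg₂d hkill
  letI : Module (AdjoinRoot g₂) AS := rightModule u.toRingHom
  have hmod : ∀ (e : AdjoinRoot g₂) (a : AS), e • a = a * u e := fun e a => rfl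
  obtain ⟨hfree, hrank, -⟩ := free_and_split S AS (AdjoinRoot g₂) u r hA hE hu hmod
  haveI : IsScalarTower S (AdjoinRoot g₂) AS := isScalarTower_of_hmod S AS (AdjoinRoot g₂) u hmod
  haveI := hfree
  haveI : Module.Finite (AdjoinRoot g₂) AS := Module.Finite.of_restrictScalars_finite S _ _
  let b : Module.Basis (Fin r) (AdjoinRoot g₂) AS := Module.finBasisOfFinrankEq _ _ hrank
  choose βs hβs using fun i =>
    IsLocalizedModule.surj p.primeCompl (TensorProduct.mk R S A 1) (b i)
  refine ⟨fun i => (βs i).1, hr, hGm, hGdeg.trans hg₂d, hD1, hρ, ?_⟩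
  -- rescale the basis
  have hw : ∀ i, IsUnit (algebraMap S (AdjoinRoot g₂) (algebraMap R S ((βs i).2 : R))) :=
    fun i => (IsLocalization.map_units S (βs i).2).map _
  let b' : Module.Basis (Fin r) (AdjoinRoot g₂) AS := b.isUnitSMul hw
  have hb' : ∀ i, b' i = (1 : S) ⊗ₜ[R] (βs i).1 := by
    intro i
    rw [Module.Basis.isUnitSMul_apply, algebraMap_smul, algebraMap_smul]
    exact hβs i
  let pbb : Module.Basis (Fin r) S (AdjoinRoot g₂) := pb.basis.reindex (finCongr hg₂d)
  have hpbb : ∀ j : Fin r, pbb j = AdjoinRoot.root g₂ ^ (j : ℕ) := by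
    intro j
    rw [Module.Basis.reindex_apply, pb.basis_eq_pow]
    rfl
  let 𝔅 : Module.Basis (Fin r × Fin r) S AS := (pbb.smulTower b').reindex (Equiv.prodComm _ _)
  have h𝔅 : ∀ ij : Fin r × Fin r, 𝔅 ij = (1 : S) ⊗ₜ[R] ((βs ij.1).1 * ξ ^ (ij.2 : ℕ)) := by
    rintro ⟨i, j⟩
    rw [Module.Basis.reindex_apply]
    change (pbb.smulTower b') (j, i) = _
    rw [Module.Basis.smulTower_apply, hmod, hb', hpbb, map_pow]
    have h1 : u (AdjoinRoot.root g₂) = σS • ξ' := evalHom_root g₂ _ hkill
    rw [h1, ← hξ', Algebra.TensorProduct.tmul_pow, one_pow, Algebra.TensorProduct.tmul_mul_tmul,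
      one_mul]
  let 𝔠 : Module.Basis (Fin r × Fin r) S (S ⊗[R] (Fin r × Fin r → R)) :=
    (Pi.basisFun R (Fin r × Fin r)).baseChange S
  have hl : (Fintype.linearCombination R
      (fun ij : Fin r × Fin r => (βs ij.1).1 * ξ ^ (ij.2 : ℕ))).baseChange S =
      (𝔠.equiv 𝔅 (Equiv.refl _)).toLinearMap := by
    apply 𝔠.ext
    intro ij
    have h1 : (𝔠.equiv 𝔅 (Equiv.refl _)) (𝔠 ij) = 𝔅 ij := by
      rw [Module.Basis.equiv_apply]; rfl
    rw [LinearEquiv.coe_coe, h1, h𝔅, Module.Basis.baseChange_apply, LinearMap.baseChange_tmul,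
      Pi.basisFun_apply, Fintype.linearCombination_apply_single, one_smul]
  rw [hl]
  exact LinearEquiv.bijective _

end Extract


section Cancel

variable (R : Type u) [CommRing R] (T : Type v) [CommRing T] [Algebra R T]
  (E : Type w) [CommRing E] [Algebra R E] [Algebra T E] [IsScalarTower R T E]
  (A : Type*) [Ring A] [Algebra R A]

/-- `E ⊗[T] (T ⊗[R] A) ≃ E ⊗[R] A` for a non-commutative algebra `A` -/
noncomputable def cancelBaseChangeAlg : E ⊗[T] (T ⊗[R] A) ≃ₐ[E] E ⊗[R] A :=
  AlgEquiv.symm <| AlgEquiv.ofLinearEquiv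
    (TensorProduct.AlgebraTensorModule.cancelBaseChange R T E E A).symm
    (by simp [Algebra.TensorProduct.one_def]) <|
      LinearMap.map_mul_of_map_mul_tmul (fun _ _ _ _ ↦ by simp)

end Cancel

section EvalHom

variable {R : Type u} [CommRing R] {A : Type v} [Ring A] [Algebra R A]

/-- the evaluation map `R[X]/(g) → A` at an element killed by `g` (no hypotheses on `R`) -/
noncomputable def evalHom' (g : R[X]) (ξ : A) (h : aeval ξ g = 0) : AdjoinRoot g →ₐ[R] A :=
  Ideal.Quotient.liftₐ (Ideal.span {g}) (aeval ξ) (by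
    intro a ha
    obtain ⟨b, rfl⟩ := Ideal.mem_span_singleton.mp ha
    rw [map_mul, h, zero_mul])

lemma evalHom'_mk (g : R[X]) (ξ : A) (h : aeval ξ g = 0) (p : R[X]) :
    evalHom' g ξ h (AdjoinRoot.mk g p) = aeval ξ p := rfl

lemma evalHom'_root (g : R[X]) (ξ : A) (h : aeval ξ g = 0) :
    evalHom' g ξ h (AdjoinRoot.root g) = ξ := by
  rw [AdjoinRoot.root, evalHom'_mk, aeval_X]

end EvalHom

section Conclude0

open IsLocalRing Groth.Agent.Lib.AzumayaRegular16 Groth.Agent.Lib.AzumayaEtale16
  Groth.Agent.Lib.Azumaya16 Groth.Agent.Lib.AzumayaEtaleSub16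

variable (R : Type u) [CommRing R] (A : Type u) [Ring A] [Algebra R A] [IsAzumaya R A]
  (T : Type u) [CommRing T] [Algebra R T] [Nontrivial T]

/-- From the global data to a splitting over `T[X]/(G)`. -/
theorem split_of_global_data (r : ℕ) (G : R[X]) (ξ : A) (β : Fin r → A) (hr : 1 ≤ r)
    (hGm : G.Monic) (hGd : G.natDegree = r)
    (t : R) (ht : t • aeval ξ G = 0) (hut : IsUnit (algebraMap R T t))
    (huρ : IsUnit (algebraMap R T (resultant G (derivative G))))
    (hbij : Function.Bijective ((Fintype.linearCombination R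
        (fun ij : Fin r × Fin r => β ij.1 * ξ ^ (ij.2 : ℕ))).baseChange T)) :
    Module.Finite T (AdjoinRoot (G.map (algebraMap R T))) ∧
    Algebra.Etale T (AdjoinRoot (G.map (algebraMap R T))) ∧
    Module.FaithfullyFlat T (AdjoinRoot (G.map (algebraMap R T))) ∧
    Nonempty ((AdjoinRoot (G.map (algebraMap R T)) ⊗[R] A) ≃ₐ[AdjoinRoot (G.map (algebraMap R T))]
      Matrix (Fin r) (Fin r) (AdjoinRoot (G.map (algebraMap R T)))) := by
  set GT : T[X] := G.map (algebraMap R T) with hGT
  have hGTm : GT.Monic := hGm.map _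
  have hGTd : GT.natDegree = r := by rw [hGT, hGm.natDegree_map, hGd]
  haveI : IsAzumaya T (T ⊗[R] A) := isAzumaya_baseChange R T A
  -- the section is killed by `GT`
  have hkill : aeval ((1 : T) ⊗ₜ[R] ξ : T ⊗[R] A) GT = 0 := by
    have h2 : aeval ((1 : T) ⊗ₜ[R] ξ : T ⊗[R] A) GT = (1 : T) ⊗ₜ[R] (aeval ξ G) := by
      rw [hGT, aeval_map_algebraMap]
      have h3 : ((1 : T) ⊗ₜ[R] ξ : T ⊗[R] A) =
        (Algebra.TensorProduct.includeRight : A →ₐ[R] T ⊗[R] A) ξ := rfl
      rw [h3, aeval_algHom_apply]; rfl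
    rw [h2]
    have h4 : (algebraMap R T t) • ((1 : T) ⊗ₜ[R] (aeval ξ G) : T ⊗[R] A) = 0 := by
      rw [algebraMap_smul, ← TensorProduct.tmul_smul, ht, TensorProduct.tmul_zero]
    exact (hut.smul_eq_zero).1 h4
  -- étale
  have hsepT : GT.Separable := (separable_map_iff G hGm (algebraMap R T)).2 huρ
  let P := Groth.Agent.Lib.FiniteEtaleLift.pairOfMonic GT hGTm
  have hunit : IsUnit (AdjoinRoot.mk P.f P.g) := by
    obtain ⟨a, b, hab⟩ := hsepT
    refine IsUnit.of_mul_eq_one (AdjoinRoot.mk GT b) ?_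
    change AdjoinRoot.mk GT (derivative GT) * AdjoinRoot.mk GT b = 1
    rw [← map_mul, ← map_one (AdjoinRoot.mk GT), ← hab, map_add, map_mul (AdjoinRoot.mk GT) a GT,
      AdjoinRoot.mk_self, mul_zero, zero_add, mul_comm]
  haveI hetale : Algebra.Etale T (AdjoinRoot GT) :=
    Algebra.Etale.of_equiv (Groth.Agent.Lib.FiniteEtaleLift.equivAdjoinRootOfIsUnit P hunit)
  let pb := AdjoinRoot.powerBasis' hGTm
  haveI hfin : Module.Finite T (AdjoinRoot GT) := hGTm.finite_adjoinRoot
  haveI : Module.Free T (AdjoinRoot GT) := Module.Free.of_basis pb.basis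
  have hE : Module.finrank T (AdjoinRoot GT) = r := by rw [pb.finrank]; exact hGTd
  haveI : Nontrivial (AdjoinRoot GT) :=
    Module.nontrivial_of_finrank_pos (R := T) (by rw [hE]; exact hr)
  refine ⟨hfin, hetale, inferInstance, ?_⟩
  -- the `T`-basis of `T ⊗ A`
  let ι := Fin r × Fin r
  let l : (ι → R) →ₗ[R] A := Fintype.linearCombination R (fun ij : ι => β ij.1 * ξ ^ (ij.2 : ℕ))
  let 𝔠 : Module.Basis ι T (T ⊗[R] (ι → R)) := (Pi.basisFun R ι).baseChange T
  let 𝔅 : Module.Basis ι T (T ⊗[R] A) := 𝔠.map (LinearEquiv.ofBijective (l.baseChange T) hbij)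
  have h𝔅 : ∀ ij : ι, 𝔅 ij = (1 : T) ⊗ₜ[R] (β ij.1 * ξ ^ (ij.2 : ℕ)) := by
    intro ij
    rw [Module.Basis.map_apply, LinearEquiv.ofBijective_apply, Module.Basis.baseChange_apply,
      LinearMap.baseChange_tmul, Pi.basisFun_apply, Fintype.linearCombination_apply_single,
      one_smul]
  haveI : Module.Free T (T ⊗[R] A) := Module.Free.of_basis 𝔅
  have hAT : Module.finrank T (T ⊗[R] A) = r ^ 2 := by
    rw [Module.finrank_eq_card_basis 𝔅, Fintype.card_prod, Fintype.card_fin, pow_two]
  -- the module structure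
  let u : AdjoinRoot GT →ₐ[T] T ⊗[R] A := evalHom' GT ((1 : T) ⊗ₜ[R] ξ) hkill
  letI : Module (AdjoinRoot GT) (T ⊗[R] A) := rightModule u.toRingHom
  have hmod : ∀ (e : AdjoinRoot GT) (a : T ⊗[R] A), e • a = a * u e := fun e a => rfl
  haveI : IsScalarTower T (AdjoinRoot GT) (T ⊗[R] A) :=
    ⟨fun x e a => by rw [hmod, hmod, map_smul, mul_smul_comm]⟩
  -- the comparison map
  let μ : (Fin r → AdjoinRoot GT) →ₗ[AdjoinRoot GT] T ⊗[R] A :=
    Fintype.linearCombination (AdjoinRoot GT) (fun i : Fin r => ((1 : T) ⊗ₜ[R] β i : T ⊗[R] A))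
  have hroot : u (AdjoinRoot.root GT) = (1 : T) ⊗ₜ[R] ξ := evalHom'_root GT _ hkill
  have hμs : Function.Surjective μ := by
    intro a
    let c := 𝔅.repr a
    refine ⟨fun i => ∑ j : Fin r, c (i, j) • AdjoinRoot.root GT ^ (j : ℕ), ?_⟩
    rw [Fintype.linearCombination_apply]
    conv_rhs => rw [← 𝔅.sum_repr a, Fintype.sum_prod_type]
    refine Finset.sum_congr rfl fun i _ => ?_
    rw [Finset.sum_smul]
    refine Finset.sum_congr rfl fun j _ => ?_
    rw [smul_assoc, hmod, map_pow, hroot, h𝔅, Algebra.TensorProduct.tmul_pow, one_pow,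
      Algebra.TensorProduct.tmul_mul_tmul, one_mul]
  -- injectivity by Orzech
  haveI : Module.Finite T (T ⊗[R] A) := Module.Finite.of_basis 𝔅
  have hfr : Module.finrank T (Fin r → AdjoinRoot GT) = Module.finrank T (T ⊗[R] A) := by
    rw [Module.finrank_pi_fintype, hAT]
    simp [hE, pow_two]
  let θ : (Fin r → AdjoinRoot GT) ≃ₗ[T] T ⊗[R] A := LinearEquiv.ofFinrankEq _ _ hfr
  have hinj : Function.Injective (θ.symm.toLinearMap ∘ₗ μ.restrictScalars T) :=
    OrzechProperty.injective_of_surjective_endomorphism _ (θ.symm.surjective.comp hμs)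
  have hμi : Function.Injective μ := by
    intro a b hab
    apply hinj
    change θ.symm (μ a) = θ.symm (μ b)
    rw [hab]
  let bE : Module.Basis (Fin r) (AdjoinRoot GT) (T ⊗[R] A) :=
    (Pi.basisFun (AdjoinRoot GT) (Fin r)).map (LinearEquiv.ofBijective μ ⟨hμi, hμs⟩)
  obtain ⟨Ψ⟩ := nonempty_algEquiv_matrix_of_free T (T ⊗[R] A) (AdjoinRoot GT) u r hr hAT hmod bE
  exact ⟨(cancelBaseChangeAlg R T (AdjoinRoot GT) A).symm.trans Ψ⟩

end Conclude0

section Conclude

open IsLocalRing Groth.Agent.Lib.AzumayaRegular16 Groth.Agent.Lib.AzumayaEtale16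
  Groth.Agent.Lib.Azumaya16 Groth.Agent.Lib.AzumayaEtaleSub16

variable (R : Type u) [CommRing R] (A : Type u) [Ring A] [Algebra R A] [IsAzumaya R A]
  (p : Ideal R) [p.IsPrime]

/-- **Azumaya algebras are split by finite étale covers of Zariski neighbourhoods.** -/
theorem exists_split_cover : ∃ f : R, f ∉ p ∧ ∃ (R' : Type u) (_ : CommRing R') (_ : Algebra R R')
    (_ : Algebra (Localization.Away f) R') (_ : IsScalarTower R (Localization.Away f) R'),
    Module.Finite (Localization.Away f) R' ∧ Algebra.Etale (Localization.Away f) R' ∧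
    Module.FaithfullyFlat (Localization.Away f) R' ∧
    ∃ r : ℕ, 1 ≤ r ∧ Nonempty ((R' ⊗[R] A) ≃ₐ[R'] Matrix (Fin r) (Fin r) R') := by
  obtain ⟨a1, a2, a3, a4⟩ := (isAzumaya_iff R A).1 inferInstance
  haveI : Module.FinitePresentation R A := Module.finitePresentation_of_projective R A
  obtain ⟨r, G, ξ, β, hr, hGm, hGd, ⟨t, htp, ht⟩, hρ, hbij⟩ := exists_global_data R A p
  obtain ⟨w, hwp, hw⟩ := exists_bijective_baseChange_away _ p hbij
  set f : R := t * resultant G (derivative G) * w with hf
  have hfp : f ∉ p := fun h => by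
    rcases (Ideal.IsPrime.mem_or_mem inferInstance h) with h1 | h1
    · rcases (Ideal.IsPrime.mem_or_mem inferInstance h1) with h2 | h2
      · exact htp h2
      · exact hρ h2
    · exact hwp h1
  refine ⟨f, hfp, ?_⟩
  -- units in `T`
  have huf : IsUnit (algebraMap R (Localization.Away f) f) :=
    IsLocalization.Away.algebraMap_isUnit f
  have hut : IsUnit (algebraMap R (Localization.Away f) t) :=
    isUnit_of_dvd_unit (map_dvd _ ⟨resultant G (derivative G) * w, by rw [hf]; ring⟩) huf
  have huρ : IsUnit (algebraMap R (Localization.Away f) (resultant G (derivative G))) :=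
    isUnit_of_dvd_unit (map_dvd _ ⟨t * w, by rw [hf]; ring⟩) huf
  have hwf : w ∣ f := ⟨t * resultant G (derivative G), by rw [hf]; ring⟩
  haveI hTnt : Nontrivial (Localization.Away f) := by
    have h1 : IsUnit (algebraMap R (Localization.AtPrime p) f) :=
      IsLocalization.map_units (Localization.AtPrime p) (⟨f, hfp⟩ : p.primeCompl)
    exact (IsLocalization.Away.lift (S := Localization.Away f) f h1).domain_nontrivial
  obtain ⟨h1, h2, h3, h4⟩ := split_of_global_data R A (Localization.Away f) r G ξ β hr hGm hGd t ht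
    hut huρ (hw f hwf)
  exact ⟨AdjoinRoot (G.map (algebraMap R (Localization.Away f))), inferInstance, inferInstance,
    inferInstance, inferInstance, h1, h2, h3, r, hr, h4⟩

end Conclude

end Groth.Agent.Lib.AzumayaEtaleLocal16
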