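import Mathlib
import Groth.Prelude.Def_AzInv
import Groth.Agent.Lib.AzInvUnitary16
import Groth.Agent.Lib.AzumayaEtaleLocal16

/-!
# Standard forms of involutions of the first kind (helper16)

For an `R`-algebra `B` with an `R`-linear involution `s` (a `LamInv` for `lam = id`) and a commutative
`R`-algebra `T`, `Std s T I G` says: `T ⊗[R] B` is isomorphic to the matrix algebra `M_I(T)` in such a
way that the base change of `s` becomes `X ↦ G Xᵀ G⁻¹` (written without inverses as
`φ (s x) * G = G * (φ x)ᵀ`), with `G` invertible.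

Basic operations: checking on generators `1 ⊗ b` (`std_of_gen`), base change along `T →ₐ[R] T'`
(`Std.map`), change of the Gram matrix by congruence (`Std.congr`), passing to matrix algebras
(`Std.matrix`), and comparison of two algebras with involution having the same standard form
(`locIso_of_std`).
-/

set_option autoImplicit false
set_option linter.style.haveILetI false
set_option linter.unusedSectionVars false

namespace Groth.Agent.Lib.AzInvStd16
open TensorProduct AzInv Matrix
open Groth.Agent.Lib.AzInvUnitary16 Groth.Agent.Lib.AzumayaEtaleLocal16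

section conj
universe u v
variable {T : Type u} [CommSemiring T] {E : Type v} [Semiring E] [Algebra T E]

/-- Conjugation by a unit as an algebra automorphism. -/
def conjAlg (V : Eˣ) : E ≃ₐ[T] E where
  toFun x := (V : E) * x * ((V⁻¹ : Eˣ) : E)
  invFun x := ((V⁻¹ : Eˣ) : E) * x * (V : E)
  left_inv x := by simp [mul_assoc]
  right_inv x := by simp [mul_assoc]
  map_mul' x y := by simp [mul_assoc]
  map_add' x y := by simp [mul_add, add_mul]
  commutes' r := by
    rw [← Algebra.commutes, mul_assoc, Units.mul_inv, mul_one]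

@[simp] theorem conjAlg_apply (V : Eˣ) (x : E) :
    conjAlg (T := T) V x = (V : E) * x * ((V⁻¹ : Eˣ) : E) := rfl

end conj

section defs
universe u v w
variable {R : Type u} [CommRing R] {B : Type w} [Ring B] [Algebra R B]
  (s : AzInv.LamInv R B (AlgEquiv.refl : R ≃ₐ[R] R))

/-- `T ⊗[R] B ≅ M_I(T)` carrying the base change of `s` to `X ↦ G Xᵀ G⁻¹`. -/
def Std (T : Type v) [CommRing T] [Algebra R T] (I : Type*) [Fintype I] [DecidableEq I]
    (G : Matrix I I T) : Prop :=
  IsUnit G ∧ ∃ φ : T ⊗[R] B ≃ₐ[T] Matrix I I T,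
    ∀ x, φ (s.bc R (AlgEquiv.refl : R ≃ₐ[R] R) T x) * G = G * (φ x)ᵀ

variable {s}
variable {T : Type v} [CommRing T] [Algebra R T] {I : Type*} [Fintype I] [DecidableEq I]

/-- It suffices to check the standard-form identity on the generators `1 ⊗ b`. -/
theorem std_of_gen {G : Matrix I I T} (hG : IsUnit G) (φ : T ⊗[R] B ≃ₐ[T] Matrix I I T)
    (h : ∀ b : B, φ ((1 : T) ⊗ₜ[R] s b) * G = G * (φ ((1 : T) ⊗ₜ[R] b))ᵀ) : Std s T I G := by
  refine ⟨hG, φ, fun x => ?_⟩
  induction x using TensorProduct.induction_on with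
  | zero => simp
  | add x y hx hy => rw [map_add, map_add, add_mul, hx, hy, map_add, transpose_add, mul_add]
  | tmul a b =>
    have h1 : (a ⊗ₜ[R] b : T ⊗[R] B) = a • ((1 : T) ⊗ₜ[R] b) := by
      rw [TensorProduct.smul_tmul', smul_eq_mul, mul_one]
    have h2 : (a ⊗ₜ[R] s b : T ⊗[R] B) = a • ((1 : T) ⊗ₜ[R] s b) := by
      rw [TensorProduct.smul_tmul', smul_eq_mul, mul_one]
    rw [LamInv.bc_tmul, h2, h1, map_smul, map_smul, transpose_smul, Matrix.smul_mul,
      Matrix.mul_smul, h b]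

end defs

section matBC
universe v v'
variable (T : Type v) [CommRing T] (T' : Type v') [CommRing T'] [Algebra T T']
  (I : Type*) [Fintype I] [DecidableEq I]

/-- `T' ⊗[T] M_I(T) ≃ M_I(T')` as `T'`-algebras. -/
noncomputable def matBC : T' ⊗[T] Matrix I I T ≃ₐ[T'] Matrix I I T' :=
  AlgEquiv.ofRingEquiv (f := (matrixEquivTensor I T T').symm.toRingEquiv) (fun a => by
    rw [Algebra.TensorProduct.algebraMap_apply, Algebra.algebraMap_self_apply]
    change (matrixEquivTensor I T T').symm (a ⊗ₜ[T] (1 : Matrix I I T)) = _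
    rw [matrixEquivTensor_apply_symm, Matrix.map_one _ (map_zero _) (map_one _),
      Algebra.algebraMap_eq_smul_one])

variable {T T' I}

@[simp] theorem matBC_tmul (a : T') (M : Matrix I I T) :
    matBC T T' I (a ⊗ₜ[T] M) = a • M.map (algebraMap T T') := rfl

end matBC

section bcIso
universe u v v' w
variable {R : Type u} [CommRing R] {B : Type w} [Ring B] [Algebra R B]
  {T : Type v} [CommRing T] [Algebra R T] (T' : Type v') [CommRing T'] [Algebra R T']
  [Algebra T T'] [IsScalarTower R T T'] {I : Type*} [Fintype I] [DecidableEq I]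

/-- Base change of a splitting `T ⊗ B ≃ M_I(T)` along `T → T'`. -/
noncomputable def bcIso (φ : T ⊗[R] B ≃ₐ[T] Matrix I I T) : T' ⊗[R] B ≃ₐ[T'] Matrix I I T' :=
  ((cancelBaseChangeAlg R T T' B).symm.trans
    (Algebra.TensorProduct.congr (AlgEquiv.refl : T' ≃ₐ[T'] T') φ)).trans (matBC T T' I)

theorem bcIso_one_tmul (φ : T ⊗[R] B ≃ₐ[T] Matrix I I T) (b : B) :
    bcIso T' φ ((1 : T') ⊗ₜ[R] b) = (φ ((1 : T) ⊗ₜ[R] b)).map (algebraMap T T') := by
  have h1 : (cancelBaseChangeAlg R T T' B).symm ((1 : T') ⊗ₜ[R] b) =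
      (1 : T') ⊗ₜ[T] ((1 : T) ⊗ₜ[R] b) := by
    change (TensorProduct.AlgebraTensorModule.cancelBaseChange R T T' T' B).symm _ = _
    simp
  simp only [bcIso, AlgEquiv.trans_apply, h1, Algebra.TensorProduct.congr_apply,
    Algebra.TensorProduct.map_tmul, matBC_tmul]
  simp

end bcIso

section map
universe u v v' w
variable {R : Type u} [CommRing R] {B : Type w} [Ring B] [Algebra R B]
  {s : AzInv.LamInv R B (AlgEquiv.refl : R ≃ₐ[R] R)}
  {T : Type v} [CommRing T] [Algebra R T] {I : Type*} [Fintype I] [DecidableEq I]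

theorem Std.baseChange (T' : Type v') [CommRing T'] [Algebra R T']
    [Algebra T T'] [IsScalarTower R T T'] {G : Matrix I I T} (h : Std s T I G) :
    Std s T' I (G.map (algebraMap T T')) := by
  obtain ⟨hG, φ, hφ⟩ := h
  have hG' : IsUnit (G.map (algebraMap T T')) := by
    have := hG.map (algebraMap T T').mapMatrix
    rwa [RingHom.mapMatrix_apply] at this
  refine std_of_gen hG' (bcIso T' φ) (fun b => ?_)
  rw [bcIso_one_tmul, bcIso_one_tmul]
  have h1 := hφ ((1 : T) ⊗ₜ[R] b)
  rw [LamInv.bc_tmul] at h1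
  have h2 := congrArg (fun M => M.map (algebraMap T T')) h1
  simp only [Matrix.map_mul, Matrix.transpose_map] at h2
  exact h2

/-- Base change of a standard form along an `R`-algebra homomorphism. -/
theorem Std.map {T' : Type v'} [CommRing T'] [Algebra R T'] (g : T →ₐ[R] T')
    {G : Matrix I I T} (h : Std s T I G) : Std s T' I (G.map g) := by
  letI : Algebra T T' := g.toRingHom.toAlgebra
  haveI : IsScalarTower R T T' := IsScalarTower.of_algebraMap_eq (fun r => (g.commutes r).symm)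
  exact h.baseChange T'

end map

section congr
universe u v w
variable {R : Type u} [CommRing R] {B : Type w} [Ring B] [Algebra R B]
  {s : AzInv.LamInv R B (AlgEquiv.refl : R ≃ₐ[R] R)}
  {T : Type v} [CommRing T] [Algebra R T] {I : Type*} [Fintype I] [DecidableEq I]

/-- Congruent Gram matrices give the same standard form. -/
theorem Std.congr {G G' : Matrix I I T} (h : Std s T I G') (V : Matrix I I T) (hV : IsUnit V)
    (hG : G' = V * G * Vᵀ) : Std s T I G := by
  obtain ⟨hG', φ, hφ⟩ := h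
  have hGu : IsUnit G := by
    rw [Matrix.isUnit_iff_isUnit_det] at hG' ⊢
    rw [hG, Matrix.det_mul, Matrix.det_mul, Matrix.det_transpose] at hG'
    exact isUnit_of_mul_isUnit_right (isUnit_of_mul_isUnit_left hG')
  obtain ⟨Vu, rfl⟩ := hV
  set W : Matrix I I T := ((Vu⁻¹ : (Matrix I I T)ˣ) : Matrix I I T) with hW
  have hWV : W * (Vu : Matrix I I T) = 1 := Vu.inv_mul
  have hVW : (Vu : Matrix I I T) * W = 1 := Vu.mul_inv
  have hT : (Vu : Matrix I I T)ᵀ * Wᵀ = 1 := by rw [← Matrix.transpose_mul, hWV, Matrix.transpose_one]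
  refine ⟨hGu, φ.trans (conjAlg (T := T) Vu⁻¹), fun x => ?_⟩
  have h1 : ∀ y, (φ.trans (conjAlg (T := T) Vu⁻¹)) y = W * φ y * (Vu : Matrix I I T) := by
    intro y
    rw [AlgEquiv.trans_apply, conjAlg_apply, inv_inv]
  rw [h1, h1]
  have h2 := hφ x
  rw [hG] at h2
  calc W * φ (s.bc R AlgEquiv.refl T x) * (Vu : Matrix I I T) * G
      = W * φ (s.bc R AlgEquiv.refl T x) * (Vu : Matrix I I T) * G * ((Vu : Matrix I I T)ᵀ * Wᵀ) := by
        rw [hT, Matrix.mul_one]
    _ = W * (φ (s.bc R AlgEquiv.refl T x) * ((Vu : Matrix I I T) * G * (Vu : Matrix I I T)ᵀ)) * Wᵀ := by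
        simp only [Matrix.mul_assoc]
    _ = W * ((Vu : Matrix I I T) * G * (Vu : Matrix I I T)ᵀ * (φ x)ᵀ) * Wᵀ := by rw [h2]
    _ = (W * (Vu : Matrix I I T)) * G * ((Vu : Matrix I I T)ᵀ * (φ x)ᵀ * Wᵀ) := by
        simp only [Matrix.mul_assoc]
    _ = G * (W * φ x * (Vu : Matrix I I T))ᵀ := by
        rw [hWV, Matrix.one_mul, Matrix.transpose_mul, Matrix.transpose_mul]
        simp only [Matrix.mul_assoc]

end congr

section matTensor
universe u v w
variable (R : Type u) [CommRing R] (T : Type v) [CommRing T] [Algebra R T]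
  (B : Type w) [Ring B] [Algebra R B] (K : Type*) [Fintype K] [DecidableEq K]

/-- `T ⊗[R] M_K(B) ≃ M_K(T ⊗[R] B)`, linear version. -/
noncomputable def matTensorLin : T ⊗[R] Matrix K K B ≃ₗ[T] Matrix K K (T ⊗[R] B) :=
  ((TensorProduct.AlgebraTensorModule.congr (LinearEquiv.refl T T)
      (Matrix.ofLinearEquiv R (m := K) (n := K) (α := B)).symm).trans
    ((TensorProduct.piRight R T T (fun _ : K => K → B)).trans
      (LinearEquiv.piCongrRight fun _ : K => TensorProduct.piRight R T T (fun _ : K => B)))).trans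
    (Matrix.ofLinearEquiv T (m := K) (n := K) (α := T ⊗[R] B))

theorem matTensorLin_tmul (a : T) (M : Matrix K K B) (i j : K) :
    matTensorLin R T B K (a ⊗ₜ[R] M) i j = a ⊗ₜ[R] M i j := by
  simp [matTensorLin]

/-- `T ⊗[R] M_K(B) ≃ M_K(T ⊗[R] B)` as `T`-algebras. -/
noncomputable def matTensor : T ⊗[R] Matrix K K B ≃ₐ[T] Matrix K K (T ⊗[R] B) :=
  AlgEquiv.ofLinearEquiv (matTensorLin R T B K)
    (by
      ext i j
      rw [Algebra.TensorProduct.one_def, matTensorLin_tmul, Matrix.one_apply, Matrix.one_apply]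
      split_ifs <;> simp [Algebra.TensorProduct.one_def])
    (LinearMap.map_mul_of_map_mul_tmul (fun a₁ a₂ M₁ M₂ => by
      ext i j
      simp only [LinearEquiv.coe_coe, Algebra.TensorProduct.tmul_mul_tmul, matTensorLin_tmul,
        Matrix.mul_apply, TensorProduct.tmul_sum]))

theorem matTensor_tmul (a : T) (M : Matrix K K B) (i j : K) :
    matTensor R T B K (a ⊗ₜ[R] M) i j = a ⊗ₜ[R] M i j :=
  matTensorLin_tmul R T B K a M i j

end matTensor

section matrix
universe u v w
variable {R : Type u} [CommRing R] {B : Type w} [Ring B] [Algebra R B]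
  {s : AzInv.LamInv R B (AlgEquiv.refl : R ≃ₐ[R] R)}
  {T : Type v} [CommRing T] [Algebra R T] {I : Type*} [Fintype I] [DecidableEq I]

open scoped Kronecker in
theorem comp_diagonal_eq_kronecker (K : Type*) [Fintype K] [DecidableEq K] (G : Matrix I I T) :
    Matrix.comp K K I I T (Matrix.diagonal fun _ => G) = (1 : Matrix K K T) ⊗ₖ G := by
  ext ⟨i, a⟩ ⟨j, b⟩
  simp only [Matrix.comp_apply, Matrix.kroneckerMap_apply, Matrix.diagonal_apply, Matrix.one_apply]
  split_ifs <;> simp

open scoped Kronecker in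
/-- Standard form of the induced involution on a matrix algebra. -/
theorem Std.matrix (K : Type*) [Fintype K] [DecidableEq K] {G : Matrix I I T}
    (h : Std s T I G) : Std (s.matrix K) T (K × I) ((1 : Matrix K K T) ⊗ₖ G) := by
  obtain ⟨hG, φ, hφ⟩ := h
  rw [← comp_diagonal_eq_kronecker]
  have hD : IsUnit (Matrix.diagonal fun _ : K => G) := by
    have := hG.map (Matrix.scalar K)
    rwa [Matrix.scalar_apply] at this
  refine std_of_gen ((Matrix.isUnit_comp_iff K I T).2 hD)
    ((matTensor R T B K).trans (φ.mapMatrix.trans (Matrix.compAlgEquiv K I T T))) (fun M => ?_)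
  have key : ∀ M' : Matrix K K B,
      ((matTensor R T B K).trans (φ.mapMatrix.trans (Matrix.compAlgEquiv K I T T)))
        ((1 : T) ⊗ₜ[R] M') =
      Matrix.comp K K I I T (Matrix.of fun i j => φ ((1 : T) ⊗ₜ[R] M' i j)) := by
    intro M'
    rw [AlgEquiv.trans_apply, AlgEquiv.trans_apply, Matrix.compAlgEquiv_apply]
    congr 1
  rw [key, key, Matrix.transpose_comp]
  rw [← Matrix.compRingEquiv_apply, ← Matrix.compRingEquiv_apply, ← Matrix.compRingEquiv_apply,
    ← map_mul, ← map_mul]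
  congr 1
  ext i j : 1
  rw [Matrix.mul_diagonal, Matrix.diagonal_mul]
  simp only [Matrix.of_apply, Matrix.map_apply, Matrix.transpose_apply, LamInv.matrix_apply]
  have := hφ ((1 : T) ⊗ₜ[R] M j i)
  rw [LamInv.bc_tmul] at this
  exact this

end matrix

section compare
universe u v w w'
variable {R : Type u} [CommRing R] {B₁ : Type w} [Ring B₁] [Algebra R B₁]
  {B₂ : Type w'} [Ring B₂] [Algebra R B₂]
  (s₁ : AzInv.LamInv R B₁ (AlgEquiv.refl : R ≃ₐ[R] R))
  (s₂ : AzInv.LamInv R B₂ (AlgEquiv.refl : R ≃ₐ[R] R))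
  {T : Type v} [CommRing T] [Algebra R T] {I₁ I₂ : Type*} [Fintype I₁] [DecidableEq I₁]
  [Fintype I₂] [DecidableEq I₂]

/-- Two algebras with involution having the same standard form over `T` become isomorphic over `T`. -/
theorem locIso_of_std (e : I₁ ≃ I₂) {G₁ : Matrix I₁ I₁ T} {G₂ : Matrix I₂ I₂ T}
    (h₁ : Std s₁ T I₁ G₁) (h₂ : Std s₂ T I₂ G₂) (hG : G₂ = Matrix.reindex e e G₁) :
    ∃ f : T ⊗[R] B₁ ≃ₐ[T] T ⊗[R] B₂,
      ∀ x, f (s₁.bc R (AlgEquiv.refl : R ≃ₐ[R] R) T x) =
        s₂.bc R (AlgEquiv.refl : R ≃ₐ[R] R) T (f x) := by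
  obtain ⟨-, φ₁, hφ₁⟩ := h₁
  obtain ⟨hG₂, φ₂, hφ₂⟩ := h₂
  obtain ⟨ρ, hρ⟩ : ∃ ρ : Matrix I₁ I₁ T ≃ₐ[T] Matrix I₂ I₂ T, ρ = Matrix.reindexAlgEquiv T T e :=
    ⟨_, rfl⟩
  have hρa : ∀ X : Matrix I₁ I₁ T, ρ X = Matrix.reindex e e X := fun X => by
    rw [hρ, Matrix.coe_reindexAlgEquiv]
  have hρT : ∀ X : Matrix I₁ I₁ T, ρ Xᵀ = (ρ X)ᵀ := fun X => by
    rw [hρa, hρa]; rfl
  have hG' : G₂ = ρ G₁ := by rw [hG, hρa]
  refine ⟨φ₁.trans (ρ.trans φ₂.symm), fun x => ?_⟩
  apply φ₂.injective
  apply hG₂.mul_left_injective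
  simp only [AlgEquiv.trans_apply, AlgEquiv.apply_symm_apply]
  rw [hφ₂, AlgEquiv.apply_symm_apply, hG', ← map_mul, hφ₁, map_mul, hρT]

end compare

section base
universe u v
variable {R : Type u} [CommRing R]
  (hlam : ∀ r : R, (AlgEquiv.refl : R ≃ₐ[R] R) ((AlgEquiv.refl : R ≃ₐ[R] R) r) = r)
  (T : Type v) [CommRing T] [Algebra R T] (I : Type*) [Fintype I] [DecidableEq I]

/-- The transpose on `M_I(R)` (as the involution induced by the identity of `R`) is in standard form
with Gram matrix `1`. -/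
theorem std_self_matrix :
    Std ((AzInv.LamInv.self (AlgEquiv.refl : R ≃ₐ[R] R) hlam).matrix I) T I (1 : Matrix I I T) := by
  refine std_of_gen isUnit_one (matBC R T I) (fun M => ?_)
  rw [Matrix.mul_one, Matrix.one_mul, matBC_tmul, matBC_tmul, one_smul, one_smul]
  ext i j
  rw [Matrix.map_apply, LamInv.matrix_apply, LamInv.self_apply]
  rfl

/-- The involution `X ↦ u Xᵀ u⁻¹` of `M_I(R)` is in standard form with Gram matrix `u`. -/
theorem std_transpose_conj (u : (Matrix I I R)ˣ) (e : R)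
    (hu : AzInv.LamInv.transpose (AlgEquiv.refl : R ≃ₐ[R] R) I hlam (↑u : Matrix I I R) =
      e • (↑u : Matrix I I R))
    (he : (AlgEquiv.refl : R ≃ₐ[R] R) e * e = 1) :
    Std ((AzInv.LamInv.transpose (AlgEquiv.refl : R ≃ₐ[R] R) I hlam).conj u e hu he) T I
      ((u : Matrix I I R).map (algebraMap R T)) := by
  have hU : IsUnit ((u : Matrix I I R).map (algebraMap R T)) := by
    have := u.isUnit.map (algebraMap R T).mapMatrix
    rwa [RingHom.mapMatrix_apply] at this
  refine std_of_gen hU (matBC R T I) (fun M => ?_)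
  rw [matBC_tmul, matBC_tmul, one_smul, one_smul, LamInv.conj_apply, ← Matrix.map_mul,
    Matrix.mul_assoc, Units.inv_mul, Matrix.mul_one, Matrix.map_mul]
  congr 1

end base

end Groth.Agent.Lib.AzInvStd16
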