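import Mathlib
import Groth.Prelude.Def_AzInv
import Groth.Agent.Lib.AzInvStd16
import Groth.Agent.Lib.Azumaya16SN4

/-!
# Étale-local standard form of an involution of the first kind (helper16)

For an Azumaya algebra `A` of degree `n` over `R` (with `2` invertible) and an `R`-linear involution
`t`, every prime of `R` has an étale neighbourhood `T` over which `T ⊗ A ≃ M_n(T)` carries `t` to
`X ↦ G Xᵀ G⁻¹` with `Gᵀ = G` or `Gᵀ = -G` (`exists_locData`).  Ingredients: the étale splitting of
Azumaya algebras (`AzumayaEtaleLocal16.exists_split_cover`), the Zariski-local Skolem–Noether theorem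
(`Azumaya16.exists_away_inner`) applied to `X ↦ τ(Xᵀ)`, and the fact that `Gᵀ G⁻¹` is a central
square root of `1`.
-/

set_option autoImplicit false
set_option linter.style.haveILetI false
set_option linter.unusedSectionVars false
set_option linter.unusedVariables false
set_option linter.deprecated false

namespace Groth.Agent.Lib.AzInvLocal16
open TensorProduct AzInv Matrix
open Groth.Agent.Lib.AzInvUnitary16 Groth.Agent.Lib.AzumayaEtaleLocal16 Groth.Agent.Lib.AzInvStd16
  Groth.Agent.Lib.Azumaya16

section sn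
universe u v w
variable {R : Type u} [CommRing R] {A : Type w} [Ring A] [Algebra R A]
  (t : AzInv.LamInv R A (AlgEquiv.refl : R ≃ₐ[R] R))
  {T : Type v} [CommRing T] [Algebra R T] {I : Type*} [Fintype I] [DecidableEq I]


/-- the transported involution on the matrix algebra -/
noncomputable def tau (φ : T ⊗[R] A ≃ₐ[T] Matrix I I T) (X : Matrix I I T) : Matrix I I T :=
  φ (t.bc R (AlgEquiv.refl : R ≃ₐ[R] R) T (φ.symm X))

theorem tau_mul (φ : T ⊗[R] A ≃ₐ[T] Matrix I I T) (X Y : Matrix I I T) :
    tau t φ (X * Y) = tau t φ Y * tau t φ X := by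
  simp only [tau, map_mul, bc_mul]

theorem tau_tau (φ : T ⊗[R] A ≃ₐ[T] Matrix I I T) (X : Matrix I I T) :
    tau t φ (tau t φ X) = X := by
  simp only [tau, AlgEquiv.symm_apply_apply, bc_bc, AlgEquiv.apply_symm_apply]

theorem tau_one (φ : T ⊗[R] A ≃ₐ[T] Matrix I I T) : tau t φ 1 = 1 := by
  simp only [tau, map_one, bc_one]

theorem tau_add (φ : T ⊗[R] A ≃ₐ[T] Matrix I I T) (X Y : Matrix I I T) :
    tau t φ (X + Y) = tau t φ X + tau t φ Y := by
  simp only [tau, map_add]

theorem tau_smul (φ : T ⊗[R] A ≃ₐ[T] Matrix I I T) (c : T) (X : Matrix I I T) :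
    tau t φ (c • X) = c • tau t φ X := by
  simp only [tau, map_smul]

theorem tau_apply (φ : T ⊗[R] A ≃ₐ[T] Matrix I I T) (a : A) :
    tau t φ (φ ((1 : T) ⊗ₜ[R] a)) = φ ((1 : T) ⊗ₜ[R] t a) := by
  simp only [tau, AlgEquiv.symm_apply_apply, LamInv.bc_tmul]

/-- `X ↦ τ(Xᵀ)` is an algebra automorphism. -/
noncomputable def alpha (φ : T ⊗[R] A ≃ₐ[T] Matrix I I T) : Matrix I I T ≃ₐ[T] Matrix I I T :=
  AlgEquiv.ofBijective
    (AlgHom.ofLinearMap
      { toFun := fun X => tau t φ Xᵀ
        map_add' := fun X Y => by rw [Matrix.transpose_add, tau_add]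
        map_smul' := fun c X => by rw [Matrix.transpose_smul, tau_smul]; rfl }
      (by change tau t φ (1 : Matrix I I T)ᵀ = 1; rw [Matrix.transpose_one, tau_one])
      (fun X Y => by
        change tau t φ (X * Y)ᵀ = tau t φ Xᵀ * tau t φ Yᵀ
        rw [Matrix.transpose_mul, tau_mul]))
    (by
      refine Function.bijective_iff_has_inverse.2 ⟨fun Y => (tau t φ Y)ᵀ, fun X => ?_, fun Y => ?_⟩
      · change (tau t φ (tau t φ Xᵀ))ᵀ = X
        rw [tau_tau, Matrix.transpose_transpose]
      · change tau t φ ((tau t φ Y)ᵀ)ᵀ = Y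
        rw [Matrix.transpose_transpose, tau_tau])

theorem alpha_apply (φ : T ⊗[R] A ≃ₐ[T] Matrix I I T) (X : Matrix I I T) :
    alpha t φ X = tau t φ Xᵀ := rfl

end sn

section sn2
universe u v w
variable {R : Type u} [CommRing R] {A : Type w} [Ring A] [Algebra R A]
  (t : AzInv.LamInv R A (AlgEquiv.refl : R ≃ₐ[R] R))
  {T : Type v} [CommRing T] [Algebra R T] {I : Type*} [Fintype I] [DecidableEq I] [Nonempty I]

/-- Zariski-locally on `T`, a splitting `T ⊗ A ≃ M_I(T)` puts the involution into standard form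
(Skolem–Noether). -/
theorem exists_away_std (φ : T ⊗[R] A ≃ₐ[T] Matrix I I T) (q : Ideal T) [q.IsPrime] :
    ∃ h : T, h ∉ q ∧ ∃ G : Matrix I I (Localization.Away h), Std t (Localization.Away h) I G := by
  haveI : IsAzumaya T (Matrix I I T) := IsAzumaya.matrix T I
  obtain ⟨h, hq, u, hu⟩ := exists_away_inner (R := T) (A := Matrix I I T) (alpha t φ) q
  refine ⟨h, hq, matBC T (Localization.Away h) I (u : Localization.Away h ⊗[T] Matrix I I T), ?_⟩
  have hU : IsUnit (matBC T (Localization.Away h) I (u : Localization.Away h ⊗[T] Matrix I I T)) :=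
    u.isUnit.map (matBC T (Localization.Away h) I)
  refine std_of_gen hU (bcIso (Localization.Away h) φ) (fun a => ?_)
  rw [bcIso_one_tmul, bcIso_one_tmul, ← tau_apply]
  obtain ⟨X, hX⟩ : ∃ X, X = φ ((1 : T) ⊗ₜ[R] a) := ⟨_, rfl⟩
  rw [← hX]
  have h1 : tau t φ X = alpha t φ Xᵀ := by rw [alpha_apply, Matrix.transpose_transpose]
  have h2 : (tau t φ X).map (algebraMap T (Localization.Away h)) =
      matBC T (Localization.Away h) I ((1 : Localization.Away h) ⊗ₜ[T] alpha t φ Xᵀ) := by
    rw [matBC_tmul, one_smul, h1]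
  have h3 : ((1 : Localization.Away h) ⊗ₜ[T] alpha t φ Xᵀ : Localization.Away h ⊗[T] Matrix I I T) =
      (u : Localization.Away h ⊗[T] Matrix I I T) * ((1 : Localization.Away h) ⊗ₜ[T] Xᵀ) *
        ((u⁻¹ : (Localization.Away h ⊗[T] Matrix I I T)ˣ) : Localization.Away h ⊗[T] Matrix I I T) := by
    rw [← hu]
    simp
  have h4 : matBC T (Localization.Away h) I
        ((u⁻¹ : (Localization.Away h ⊗[T] Matrix I I T)ˣ) : Localization.Away h ⊗[T] Matrix I I T) *
      matBC T (Localization.Away h) I (u : Localization.Away h ⊗[T] Matrix I I T) = 1 := by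
    rw [← map_mul, Units.inv_mul, map_one]
  rw [h2, h3, map_mul, map_mul, Matrix.mul_assoc, h4, Matrix.mul_one,
    matBC_tmul, one_smul, Matrix.transpose_map]

end sn2

section sign
universe u v w
variable {R : Type u} [CommRing R] {A : Type w} [Ring A] [Algebra R A]
  {t : AzInv.LamInv R A (AlgEquiv.refl : R ≃ₐ[R] R)}
  {T : Type v} [CommRing T] [Algebra R T] {I : Type*} [Fintype I] [DecidableEq I] [Nonempty I]

/-- The Gram matrix of a standard form is `c`-symmetric for a square root `c` of `1`. -/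
theorem exists_sign {G : Matrix I I T} (h : Std t T I G) : ∃ c : T, c * c = 1 ∧ Gᵀ = c • G := by
  obtain ⟨hG, φ, hφ⟩ := h
  obtain ⟨Gu, rfl⟩ := hG
  set Gi : Matrix I I T := ((Gu⁻¹ : (Matrix I I T)ˣ) : Matrix I I T) with hGi
  have hGGi : (Gu : Matrix I I T) * Gi = 1 := Gu.mul_inv
  have hGiG : Gi * (Gu : Matrix I I T) = 1 := Gu.inv_mul
  -- `z = Gᵀ G⁻¹` is central
  have hz : ∀ X : Matrix I I T, (Gu : Matrix I I T)ᵀ * Gi * X = X * ((Gu : Matrix I I T)ᵀ * Gi) := by
    intro X
    obtain ⟨x, rfl⟩ := φ.surjective X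
    have h1 := hφ x
    have h2 := hφ (t.bc R (AlgEquiv.refl : R ≃ₐ[R] R) T x)
    rw [bc_bc] at h2
    set Y := φ (t.bc R (AlgEquiv.refl : R ≃ₐ[R] R) T x) with hY
    have h3 : (Gu : Matrix I I T)ᵀ * Yᵀ = φ x * (Gu : Matrix I I T)ᵀ := by
      have := congrArg Matrix.transpose h1
      rwa [Matrix.transpose_mul, Matrix.transpose_mul, Matrix.transpose_transpose] at this
    have h4 : Yᵀ = Gi * φ x * (Gu : Matrix I I T) := by
      rw [Matrix.mul_assoc, h2, ← Matrix.mul_assoc, hGiG, Matrix.one_mul]
    rw [h4] at h3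
    calc (Gu : Matrix I I T)ᵀ * Gi * φ x
        = (Gu : Matrix I I T)ᵀ * (Gi * φ x * (Gu : Matrix I I T)) * Gi := by
          simp only [Matrix.mul_assoc, hGGi, Matrix.mul_one]
      _ = φ x * ((Gu : Matrix I I T)ᵀ * Gi) := by rw [h3, Matrix.mul_assoc]
  obtain ⟨c, hc⟩ : (Gu : Matrix I I T)ᵀ * Gi ∈ Set.range (Matrix.scalar I) :=
    Matrix.mem_range_scalar_iff_commute_single'.2 (fun i j => (hz _).symm)
  have hGT : (Gu : Matrix I I T)ᵀ = c • (Gu : Matrix I I T) := by
    have := congrArg (fun M => M * (Gu : Matrix I I T)) hc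
    simp only [Matrix.mul_assoc, hGiG, Matrix.mul_one] at this
    rw [← this, Matrix.scalar_apply, ← Matrix.smul_eq_diagonal_mul]
  refine ⟨c, ?_, hGT⟩
  have h5 : (Gu : Matrix I I T) = (c * c) • (Gu : Matrix I I T) := by
    have := congrArg Matrix.transpose hGT
    rw [Matrix.transpose_transpose, Matrix.transpose_smul, hGT, smul_smul] at this
    exact this
  have h6 : (1 : Matrix I I T) = (c * c) • (1 : Matrix I I T) := by
    rw [← hGGi, ← Matrix.smul_mul, ← h5]
  obtain ⟨i⟩ := ‹Nonempty I›
  have := congrFun (congrFun h6 i) i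
  simpa using this.symm

end sign

section sign2
universe u v w
variable {R : Type u} [CommRing R] {A : Type w} [Ring A] [Algebra R A]
  {t : AzInv.LamInv R A (AlgEquiv.refl : R ≃ₐ[R] R)}
  {T : Type v} [CommRing T] [Algebra R T] {I : Type*} [Fintype I] [DecidableEq I] [Nonempty I]

/-- Zariski-locally the Gram matrix is symmetric or skew-symmetric. -/
theorem exists_away_sign (h2 : IsUnit (2 : T)) {G : Matrix I I T} (h : Std t T I G)
    (q : Ideal T) [hq : q.IsPrime] :
    ∃ f : T, f ∉ q ∧ ∃ G' : Matrix I I (Localization.Away f),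
      Std t (Localization.Away f) I G' ∧ (G'ᵀ = G' ∨ G'ᵀ = -G') := by
  obtain ⟨c, hc, hGT⟩ := exists_sign h
  have hprod : (c - 1) * (c + 1) = 0 := by linear_combination hc
  have key : ∀ f : T, (G.map (algebraMap T (Localization.Away f)))ᵀ =
      algebraMap T (Localization.Away f) c • G.map (algebraMap T (Localization.Away f)) := by
    intro f
    rw [← Matrix.transpose_map, hGT]
    ext i j
    simp [Matrix.map_apply, Matrix.smul_apply]
  by_cases hcq : c + 1 ∈ q
  · -- then `c - 1 ∉ q`
    have hcq' : c - 1 ∉ q := by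
      intro hm
      have h2q : (2 : T) ∈ q := by
        have := q.sub_mem hcq hm
        have e : c + 1 - (c - 1) = 2 := by ring
        rwa [e] at this
      exact hq.ne_top (q.eq_top_of_isUnit_mem h2q h2)
    refine ⟨c - 1, hcq', G.map (algebraMap T (Localization.Away (c - 1))),
      h.baseChange (Localization.Away (c - 1)), Or.inr ?_⟩
    have hu : IsUnit (algebraMap T (Localization.Away (c - 1)) (c - 1)) :=
      IsLocalization.Away.algebraMap_isUnit (c - 1)
    have h0 : algebraMap T (Localization.Away (c - 1)) (c + 1) = 0 := by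
      have := congrArg (algebraMap T (Localization.Away (c - 1))) hprod
      rw [map_mul, map_zero] at this
      exact (hu.mul_right_eq_zero).1 this
    have h1 : algebraMap T (Localization.Away (c - 1)) c = -1 := by
      rw [map_add, map_one] at h0
      exact eq_neg_of_add_eq_zero_left h0
    rw [key, h1, neg_one_smul]
  · refine ⟨c + 1, hcq, G.map (algebraMap T (Localization.Away (c + 1))),
      h.baseChange (Localization.Away (c + 1)), Or.inl ?_⟩
    have hu : IsUnit (algebraMap T (Localization.Away (c + 1)) (c + 1)) :=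
      IsLocalization.Away.algebraMap_isUnit (c + 1)
    have h0 : algebraMap T (Localization.Away (c + 1)) (c - 1) = 0 := by
      have := congrArg (algebraMap T (Localization.Away (c + 1))) hprod
      rw [map_mul, map_zero] at this
      exact (hu.mul_left_eq_zero).1 this
    have h1 : algebraMap T (Localization.Away (c + 1)) c = 1 := by
      rw [map_sub, map_one] at h0
      exact sub_eq_zero.1 h0
    rw [key, h1, one_smul]

end sign2

section away
universe u v
variable {R : Type u} [CommRing R] {T : Type v} [CommRing T] [Algebra R T]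

/-- a prime of `T_f` over a prime `q` of `T` not containing `f` -/
theorem exists_prime_away (q : PrimeSpectrum T) (f : T) (hf : f ∉ q.asIdeal) :
    ∃ q' : PrimeSpectrum (Localization.Away f),
      PrimeSpectrum.comap (algebraMap T (Localization.Away f)) q' = q := by
  have hdisj : Disjoint (Submonoid.powers f : Set T) (q.asIdeal : Set T) := by
    rw [Set.disjoint_left]
    rintro x ⟨n, rfl⟩ hx
    exact hf (q.isPrime.mem_of_pow_mem n hx)
  refine ⟨⟨Ideal.map (algebraMap T (Localization.Away f)) q.asIdeal,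
      IsLocalization.isPrime_of_isPrime_disjoint (Submonoid.powers f) _ _ q.isPrime hdisj⟩, ?_⟩
  apply PrimeSpectrum.ext
  exact IsLocalization.comap_map_of_isPrime_disjoint (Submonoid.powers f) _ q.isPrime hdisj

/-- the tower formula for `comap` -/
theorem comap_comap_tower {T' : Type*} [CommRing T'] [Algebra R T'] [Algebra T T']
    [IsScalarTower R T T'] (q' : PrimeSpectrum T') :
    PrimeSpectrum.comap (algebraMap R T) (PrimeSpectrum.comap (algebraMap T T') q') =
      PrimeSpectrum.comap (algebraMap R T') q' := by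
  rw [IsScalarTower.algebraMap_eq R T T']
  rfl

end away

section split
universe u w
variable {R : Type u} [CommRing R] {A : Type w} [Ring A] [Algebra R A]

/-- An Azumaya algebra of degree `n` is split by an étale neighbourhood of every prime. -/
theorem exists_split {n : ℕ} (hA : AzInv.IsAzumayaDeg R A n) (p : PrimeSpectrum R) :
    ∃ (T : Type u) (_ : CommRing T) (_ : Algebra R T), Algebra.Etale R T ∧
      ∃ q : PrimeSpectrum T, PrimeSpectrum.comap (algebraMap R T) q = p ∧
        Nonempty (T ⊗[R] A ≃ₐ[T] Matrix (Fin n) (Fin n) T) := by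
  obtain ⟨hAz, hrk⟩ := hA
  haveI := hAz
  haveI : Small.{u} A := Module.Finite.small R A
  let e₀ : Shrink.{u} A ≃ₐ[R] A := Shrink.algEquiv R A
  haveI : IsAzumaya R (Shrink.{u} A) := IsAzumaya.of_AlgEquiv R A (Shrink.{u} A) e₀.symm
  obtain ⟨f, hfp, R', _, _, _, _, hfin, het, hff, r, hr, ⟨ψ⟩⟩ :=
    exists_split_cover R (Shrink.{u} A) p.asIdeal
  haveI := het
  haveI := hff
  have hetR : Algebra.Etale R R' := Algebra.Etale.comp R (Localization.Away f) R'
  obtain ⟨pf, hpf⟩ := exists_prime_away (T := R) p f hfp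
  obtain ⟨q, hq⟩ := PrimeSpectrum.comap_surjective_of_faithfullyFlat
    (A := Localization.Away f) (B := R') pf
  have hqp : PrimeSpectrum.comap (algebraMap R R') q = p := by
    rw [← comap_comap_tower (T := Localization.Away f), hq, hpf]
  -- the splitting of `A` itself
  let ψ' : R' ⊗[R] A ≃ₐ[R'] Matrix (Fin r) (Fin r) R' :=
    (Algebra.TensorProduct.congr (AlgEquiv.refl : R' ≃ₐ[R'] R') e₀.symm).trans ψ
  -- rank comparison
  have h1 : Module.rankAtStalk (R := R') (R' ⊗[R] A) q = n ^ 2 := by
    rw [Module.rankAtStalk_baseChange, hqp, hrk]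
  have h2 : Module.rankAtStalk (R := R') (R' ⊗[R] A) q = r ^ 2 := by
    rw [Module.rankAtStalk_eq_of_equiv ψ'.toLinearEquiv]
    haveI : Nontrivial R' := q.nontrivial
    rw [Module.rankAtStalk_eq_finrank_of_free]
    simp [Module.finrank_matrix, sq]
  have hrn : r = n := by
    have : r ^ 2 = n ^ 2 := by rw [← h2, h1]
    exact Nat.pow_left_injective (by norm_num : 2 ≠ 0) this
  subst hrn
  exact ⟨R', inferInstance, inferInstance, hetR, q, hqp, ⟨ψ'⟩⟩

end split

section locdata
universe u w
variable {R : Type u} [CommRing R] {A : Type w} [Ring A] [Algebra R A]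
  (t : AzInv.LamInv R A (AlgEquiv.refl : R ≃ₐ[R] R))

/-- Étale-local standard form with a Gram matrix of symmetry `ε` near the prime `p`. -/
def LocData (n : ℕ) (ε : R) (p : PrimeSpectrum R) : Prop :=
  ∃ (T : Type u) (_ : CommRing T) (_ : Algebra R T), Algebra.Etale R T ∧
    p ∈ Set.range (PrimeSpectrum.comap (algebraMap R T)) ∧
    ∃ G : Matrix (Fin n) (Fin n) T, Gᵀ = ε • G ∧ Std t T (Fin n) G

/-- Every prime has an étale neighbourhood over which the involution is in standard form with a
symmetric or a skew-symmetric Gram matrix. -/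
theorem exists_locData {n : ℕ} (hn : 0 < n) (hA : AzInv.IsAzumayaDeg R A n) (h2 : IsUnit (2 : R))
    (p : PrimeSpectrum R) : LocData t n 1 p ∨ LocData t n (-1) p := by
  haveI : Nonempty (Fin n) := ⟨⟨0, hn⟩⟩
  obtain ⟨T₀, _, _, het₀, q₀, hq₀, ⟨φ₀⟩⟩ := exists_split hA p
  haveI := het₀
  obtain ⟨h, hh, G₁, hG₁⟩ := exists_away_std t φ₀ q₀.asIdeal
  haveI het₁ : Algebra.Etale R (Localization.Away h) :=
    Algebra.Etale.comp R T₀ (Localization.Away h)
  obtain ⟨q₁, hq₁⟩ := exists_prime_away q₀ h hh
  have h2' : IsUnit (2 : Localization.Away h) := by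
    have := h2.map (algebraMap R (Localization.Away h))
    rwa [map_ofNat] at this
  obtain ⟨f, hf, G₂, hG₂, hs⟩ := exists_away_sign h2' hG₁ q₁.asIdeal
  haveI het₂ : Algebra.Etale R (Localization.Away f) :=
    Algebra.Etale.comp R (Localization.Away h) (Localization.Away f)
  obtain ⟨q₂, hq₂⟩ := exists_prime_away q₁ f hf
  have hmem : p ∈ Set.range (PrimeSpectrum.comap (algebraMap R (Localization.Away f))) := by
    refine ⟨q₂, ?_⟩
    rw [← comap_comap_tower (T := Localization.Away h), hq₂, ← comap_comap_tower (T := T₀), hq₁, hq₀]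
  rcases hs with hs | hs
  · exact Or.inl ⟨Localization.Away f, inferInstance, inferInstance, het₂, hmem, G₂,
      by rw [hs, one_smul], hG₂⟩
  · exact Or.inr ⟨Localization.Away f, inferInstance, inferInstance, het₂, hmem, G₂,
      by rw [hs]; exact (neg_one_smul R G₂).symm, hG₂⟩

end locdata

end Groth.Agent.Lib.AzInvLocal16
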