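import Mathlib
import Groth.Prelude.Def_AzInv
import Groth.Agent.Lib.AzInvLocal16
import Groth.Agent.Lib.Azumaya16SN

/-!
# The orthogonal and symplectic loci are disjoint (helper16)

`false_of_std_sym_skew`: over a local ring with `2` invertible an involution of the first kind on a
split Azumaya algebra cannot have both a symmetric and a skew-symmetric Gram matrix (Skolem–Noether:
two Gram matrices of the same involution differ by a congruence and a scalar).
`nontrivial_tensor_of_mem_range`: two `R`-algebras with a common point in the images of their spectra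
have nontrivial tensor product.  `not_locData_both`: the loci `LocData t n 1` and `LocData t n (-1)`
are disjoint.
-/

set_option autoImplicit false
set_option linter.style.haveILetI false
set_option linter.unusedSectionVars false
set_option linter.unusedSimpArgs false

namespace Groth.Agent.Lib.AzInvDisjoint16
open TensorProduct AzInv Matrix
open Groth.Agent.Lib.AzInvUnitary16 Groth.Agent.Lib.AzumayaEtaleLocal16 Groth.Agent.Lib.AzInvStd16
  Groth.Agent.Lib.Azumaya16 Groth.Agent.Lib.AzInvLocal16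

section loc
universe u v w
variable {R : Type u} [CommRing R] {A : Type w} [Ring A] [Algebra R A]
  {t : AzInv.LamInv R A (AlgEquiv.refl : R ≃ₐ[R] R)}
  {L : Type v} [CommRing L] [Algebra R L] [IsLocalRing L]
  {I : Type*} [Fintype I] [DecidableEq I] [Nonempty I]

/-- Over a local ring with `2` invertible, the same involution cannot have both a symmetric and a
skew-symmetric Gram matrix. -/
theorem false_of_std_sym_skew (h2 : IsUnit (2 : L)) {G₁ G₂ : Matrix I I L}
    (h₁ : Std t L I G₁) (h₂ : Std t L I G₂) (hs₁ : G₁ᵀ = G₁) (hs₂ : G₂ᵀ = -G₂) : False := by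
  obtain ⟨hG₁, φ₁, hφ₁⟩ := h₁
  obtain ⟨hG₂, φ₂, hφ₂⟩ := h₂
  haveI : IsAzumaya L (Matrix I I L) := IsAzumaya.matrix L I
  obtain ⟨w, hw⟩ := skolem_noether_of_isLocalRing (R := L) (A := Matrix I I L) (φ₁.symm.trans φ₂)
  set W : Matrix I I L := (w : Matrix I I L) with hW
  set Wi : Matrix I I L := ((w⁻¹ : (Matrix I I L)ˣ) : Matrix I I L) with hWi
  have hWiW : Wi * W = 1 := w.inv_mul
  have hWWi : W * Wi = 1 := w.mul_inv
  have hT : Wᵀ * Wiᵀ = 1 := by rw [← Matrix.transpose_mul, hWiW, Matrix.transpose_one]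
  have hφ₂' : ∀ y, φ₂ y = W * φ₁ y * Wi := by
    intro y
    have := hw (φ₁ y)
    rwa [AlgEquiv.trans_apply, AlgEquiv.symm_apply_apply] at this
  -- the transported Gram matrix
  obtain ⟨G₃, hG₃⟩ : ∃ G₃ : Matrix I I L, G₃ = Wi * G₂ * Wiᵀ := ⟨_, rfl⟩
  have hG₃T : G₃ᵀ = -G₃ := by
    rw [hG₃, Matrix.transpose_mul, Matrix.transpose_mul, Matrix.transpose_transpose, hs₂]
    simp [Matrix.mul_assoc]
  have hG₃u : IsUnit G₃ := by
    rw [Matrix.isUnit_iff_isUnit_det] at hG₂ ⊢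
    rw [hG₃, Matrix.det_mul, Matrix.det_mul, Matrix.det_transpose]
    have hWi : IsUnit Wi.det := (Matrix.isUnit_iff_isUnit_det Wi).1 (w⁻¹).isUnit
    exact (hWi.mul hG₂).mul hWi
  have key : ∀ x, φ₁ (t.bc R (AlgEquiv.refl : R ≃ₐ[R] R) L x) * G₃ = G₃ * (φ₁ x)ᵀ := by
    intro x
    have h := hφ₂ x
    rw [hφ₂', hφ₂', Matrix.transpose_mul, Matrix.transpose_mul] at h
    have h' := congrArg (fun M => Wi * M * Wiᵀ) h
    calc φ₁ (t.bc R (AlgEquiv.refl : R ≃ₐ[R] R) L x) * G₃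
        = (Wi * W) * φ₁ (t.bc R (AlgEquiv.refl : R ≃ₐ[R] R) L x) * (Wi * G₂ * Wiᵀ) := by
          rw [hWiW, Matrix.one_mul, hG₃]
      _ = Wi * (W * φ₁ (t.bc R (AlgEquiv.refl : R ≃ₐ[R] R) L x) * Wi * G₂) * Wiᵀ := by
          simp only [Matrix.mul_assoc]
      _ = Wi * (G₂ * (Wiᵀ * ((φ₁ x)ᵀ * Wᵀ))) * Wiᵀ := h'
      _ = (Wi * G₂ * Wiᵀ) * (φ₁ x)ᵀ * (Wᵀ * Wiᵀ) := by simp only [Matrix.mul_assoc]
      _ = G₃ * (φ₁ x)ᵀ := by rw [hT, Matrix.mul_one, hG₃]
  -- `G₃⁻¹ G₁` is central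
  obtain ⟨G₃u, hG₃u'⟩ := hG₃u
  set G₃i : Matrix I I L := ((G₃u⁻¹ : (Matrix I I L)ˣ) : Matrix I I L) with hG₃i
  have hi1 : G₃i * G₃ = 1 := by rw [← hG₃u']; exact G₃u.inv_mul
  have hi2 : G₃ * G₃i = 1 := by rw [← hG₃u']; exact G₃u.mul_inv
  have hz : ∀ Z : Matrix I I L, Z * (G₃i * G₁) = (G₃i * G₁) * Z := by
    intro Z
    obtain ⟨x, hx⟩ := φ₁.surjective Zᵀ
    have e1 := hφ₁ x
    have e3 := key x
    rw [hx, Matrix.transpose_transpose] at e1 e3
    -- `Y = G₃ Z G₃⁻¹`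
    have hY : φ₁ (t.bc R (AlgEquiv.refl : R ≃ₐ[R] R) L x) = G₃ * Z * G₃i := by
      rw [← e3, Matrix.mul_assoc, hi2, Matrix.mul_one]
    rw [hY] at e1
    calc Z * (G₃i * G₁) = G₃i * (G₃ * Z * G₃i * G₁) := by
          simp only [← Matrix.mul_assoc, hi1, Matrix.one_mul]
      _ = G₃i * (G₁ * Z) := by rw [e1]
      _ = G₃i * G₁ * Z := by rw [Matrix.mul_assoc]
  obtain ⟨c, hc⟩ : G₃i * G₁ ∈ Set.range (Matrix.scalar I) :=
    Matrix.mem_range_scalar_iff_commute_single'.2 (fun i j => hz _)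
  have hG₁c : G₁ = c • G₃ := by
    have := congrArg (fun M => G₃ * M) hc
    simp only [← Matrix.mul_assoc, hi2, Matrix.one_mul] at this
    rw [← this, Matrix.scalar_apply, ← Matrix.smul_eq_mul_diagonal]
  have hneg : G₁ = -G₁ := by
    have := congrArg Matrix.transpose hG₁c
    rw [hs₁, Matrix.transpose_smul, hG₃T, smul_neg, ← hG₁c] at this
    exact this
  have h0 : G₁ = 0 := by
    have h2G : (2 : L) • G₁ = 0 := by
      rw [two_smul]
      nth_rewrite 1 [hneg]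
      exact neg_add_cancel G₁
    obtain ⟨u2, hu2⟩ := h2
    rw [← hu2] at h2G
    have := congrArg (fun M => ((u2⁻¹ : Lˣ) : L) • M) h2G
    simpa [smul_smul] using this
  rw [h0] at hG₁
  exact not_isUnit_zero hG₁

end loc

section fibre
universe u v v'
variable {R : Type u} [CommRing R] (T₁ : Type v) [CommRing T₁] [Algebra R T₁]
  (T₂ : Type v') [CommRing T₂] [Algebra R T₂]

/-- Two `R`-algebras whose spectra have a common image point have a nontrivial tensor product. -/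
theorem nontrivial_tensor_of_mem_range (p : PrimeSpectrum R)
    (h₁ : p ∈ Set.range (PrimeSpectrum.comap (algebraMap R T₁)))
    (h₂ : p ∈ Set.range (PrimeSpectrum.comap (algebraMap R T₂))) : Nontrivial (T₁ ⊗[R] T₂) := by
  have n₁ := (PrimeSpectrum.nontrivial_iff_mem_rangeComap (S := T₁) p).2 h₁
  have n₂ := (PrimeSpectrum.nontrivial_iff_mem_rangeComap (S := T₂) p).2 h₂
  set k := p.asIdeal.ResidueField with hk
  have n₃ : Nontrivial ((k ⊗[R] T₁) ⊗[k] (k ⊗[R] T₂)) :=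
    Algebra.TensorProduct.nontrivial_of_algebraMap_injective_of_flat_left k (k ⊗[R] T₁) (k ⊗[R] T₂)
      (algebraMap k (k ⊗[R] T₂)).injective
  have n₄ : Nontrivial ((k ⊗[R] T₁) ⊗[R] T₂) :=
    (TensorProduct.AlgebraTensorModule.cancelBaseChange R k k (k ⊗[R] T₁) T₂).symm.toEquiv.nontrivial
  have n₅ : Nontrivial (k ⊗[R] (T₁ ⊗[R] T₂)) :=
    (TensorProduct.assoc R k T₁ T₂).symm.toEquiv.nontrivial
  obtain ⟨q, -⟩ := (PrimeSpectrum.nontrivial_iff_mem_rangeComap (S := T₁ ⊗[R] T₂) p).1 n₅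
  exact q.nontrivial

end fibre

section disjoint
universe u w
variable {R : Type u} [CommRing R] {A : Type w} [Ring A] [Algebra R A]
  (t : AzInv.LamInv R A (AlgEquiv.refl : R ≃ₐ[R] R))

/-- The symmetric and the skew-symmetric loci are disjoint. -/
theorem not_locData_both {n : ℕ} (hn : 0 < n) (h2 : IsUnit (2 : R)) (p : PrimeSpectrum R)
    (h₁ : LocData t n 1 p) (h₂ : LocData t n (-1) p) : False := by
  haveI : Nonempty (Fin n) := ⟨⟨0, hn⟩⟩
  obtain ⟨T₁, _, _, -, hp₁, G₁, hs₁, hG₁⟩ := h₁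
  obtain ⟨T₂, _, _, -, hp₂, G₂, hs₂, hG₂⟩ := h₂
  haveI := nontrivial_tensor_of_mem_range T₁ T₂ p hp₁ hp₂
  obtain ⟨q⟩ : Nonempty (PrimeSpectrum (T₁ ⊗[R] T₂)) := inferInstance
  let L := Localization.AtPrime q.asIdeal
  let g₁ : T₁ →ₐ[R] L :=
    (IsScalarTower.toAlgHom R (T₁ ⊗[R] T₂) L).comp Algebra.TensorProduct.includeLeft
  let g₂ : T₂ →ₐ[R] L :=
    (IsScalarTower.toAlgHom R (T₁ ⊗[R] T₂) L).comp Algebra.TensorProduct.includeRight
  have h2L : IsUnit (2 : L) := by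
    have := h2.map (algebraMap R L)
    rwa [map_ofNat] at this
  refine false_of_std_sym_skew (t := t) (L := L) h2L (hG₁.map g₁) (hG₂.map g₂) ?_ ?_
  · rw [← Matrix.transpose_map, hs₁, one_smul]
  · rw [← Matrix.transpose_map, hs₂]
    ext i j
    simp [Matrix.map_apply, Matrix.smul_apply]

end disjoint

end Groth.Agent.Lib.AzInvDisjoint16
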