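import Mathlib
import Groth.Agent.Lib.AzInvUnitary16

/-!
# Unitary form of "automorphisms are locally inner", part 2 (helper16)
-/

set_option autoImplicit false
set_option linter.style.haveILetI false

namespace Groth.Agent.Lib.AzInvUnitary16
open TensorProduct AzInv Groth.Agent.Lib.Azumaya16 Groth.Agent.Lib.AzInvInner16

section pred
universe u v w
variable {S : Type u} {R : Type v} [CommRing S] [CommRing R] [Algebra S R]
  {lam : R ≃ₐ[S] R} {A : Type w} [Ring A] [Algebra S A] [Algebra R A] [IsScalarTower S R A]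
  (t : AzInv.LamInv R A lam) (ψ : A ≃ₐ[R] A)

/-- `ψ` is conjugation by `u` over `T` with `t(u) u ∈ Tˣ`. -/
def UnitaryOver (T : Type*) [CommRing T] [Algebra S T] : Prop :=
  ∃ (u : (T ⊗[S] A)ˣ) (c : Tˣ),
    (∀ x : T ⊗[S] A, Algebra.TensorProduct.congr (AlgEquiv.refl : T ≃ₐ[T] T) (ψ.restrictScalars S) x =
      ↑u * x * ↑u⁻¹) ∧
    t.bc S lam T (↑u : T ⊗[S] A) * ↑u = (c : T) ⊗ₜ[S] (1 : A)

theorem congr_bc (hψ : AzInv.IsInvHom t t ψ) (T : Type*) [CommRing T] [Algebra S T] (y : T ⊗[S] A) :
    Algebra.TensorProduct.congr (AlgEquiv.refl : T ≃ₐ[T] T) (ψ.restrictScalars S) (t.bc S lam T y) =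
      t.bc S lam T (Algebra.TensorProduct.congr (AlgEquiv.refl : T ≃ₐ[T] T) (ψ.restrictScalars S) y) := by
  induction y using TensorProduct.induction_on with
  | zero => simp
  | add y y' hy hy' => simp only [map_add, hy, hy']
  | tmul c a =>
    simp only [LamInv.bc_tmul, Algebra.TensorProduct.congr_apply, Algebra.TensorProduct.map_tmul]
    congr 1
    exact hψ a

end pred

section loc
universe u v w
variable {S : Type u} {R : Type v} [CommRing S] [CommRing R] [Algebra S R]
  (lam : R ≃ₐ[S] R) (hlam : ∀ r, lam (lam r) = r) (hfix : RInv.IsFixedRing S R lam.toRingEquiv)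
  {A : Type w} [Ring A] [Algebra S A] [Algebra R A] [IsScalarTower S R A] [IsAzumaya R A]
  (t : AzInv.LamInv R A lam) (ψ : A ≃ₐ[R] A) (hψ : AzInv.IsInvHom t t ψ)

include hfix in
theorem tmul_one_injective (T : Type*) [CommRing T] [Algebra S T] [Module.Flat S T] :
    Function.Injective (fun c : T => (c ⊗ₜ[S] (1 : A) : T ⊗[S] A)) := by
  have hinj : Function.Injective (Algebra.linearMap S A) := by
    intro s s' hss
    apply hfix.1
    apply FaithfulSMul.algebraMap_injective R A
    simpa [← IsScalarTower.algebraMap_apply] using hss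
  have h1 : Function.Injective ((Algebra.linearMap S A).lTensor T) :=
    Module.Flat.lTensor_preserves_injective_linearMap _ hinj
  intro c c' hcc
  apply (TensorProduct.rid S T).symm.injective
  apply h1
  simpa using hcc

include hlam hfix hψ in
theorem exists_away_unitaryOver (𝔭 : Ideal S) [𝔭.IsPrime] :
    ∃ b : S, b ∉ 𝔭 ∧ UnitaryOver t ψ (Localization.Away b) := by
  obtain ⟨b, hb, u, hu⟩ := exists_away_innerOver lam hlam hfix ψ 𝔭
  refine ⟨b, hb, ?_⟩
  -- notation
  have hcomm := congr_bc t ψ hψ (Localization.Away b)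
  have hconj : ∀ y : Localization.Away b ⊗[S] A,
      (↑u : Localization.Away b ⊗[S] A) * t.bc S lam (Localization.Away b) y * ↑u⁻¹ =
        t.bc S lam (Localization.Away b) ↑u⁻¹ * t.bc S lam (Localization.Away b) y *
          t.bc S lam (Localization.Away b) ↑u := by
    intro y
    rw [← hu, hcomm, hu, bc_mul, bc_mul, mul_assoc]
  have hcen : ∀ y : Localization.Away b ⊗[S] A,
      (t.bc S lam (Localization.Away b) ↑u * ↑u) * y = y * (t.bc S lam (Localization.Away b) ↑u * ↑u) := by
    intro y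
    have h := hconj (t.bc S lam (Localization.Away b) y)
    rw [bc_bc] at h
    have h2 : t.bc S lam (Localization.Away b) ↑u * ((↑u : Localization.Away b ⊗[S] A) * y * ↑u⁻¹) * ↑u =
        t.bc S lam (Localization.Away b) ↑u * (t.bc S lam (Localization.Away b) ↑u⁻¹ * y *
          t.bc S lam (Localization.Away b) ↑u) * ↑u := by rw [h]
    have e1 : t.bc S lam (Localization.Away b) ↑u * ((↑u : Localization.Away b ⊗[S] A) * y * ↑u⁻¹) * ↑u =
        (t.bc S lam (Localization.Away b) ↑u * ↑u) * y := by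
      simp only [mul_assoc, Units.inv_mul, mul_one]
    have e2 : t.bc S lam (Localization.Away b) ↑u * (t.bc S lam (Localization.Away b) ↑u⁻¹ * y *
        t.bc S lam (Localization.Away b) ↑u) * ↑u = y * (t.bc S lam (Localization.Away b) ↑u * ↑u) := by
      rw [← mul_assoc, ← mul_assoc, bc_units_inv' t (Localization.Away b) u, one_mul, mul_assoc]
    rw [e1, e2] at h2
    exact h2
  have hfixc : t.bc S lam (Localization.Away b) (t.bc S lam (Localization.Away b) ↑u * ↑u) =
      t.bc S lam (Localization.Away b) ↑u * ↑u := by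
    rw [bc_mul, bc_bc]
  obtain ⟨c₀, hc₀⟩ := exists_eq_tmul_one_of_central_fixed hfix t b _ (fun g => hcen _) hfixc
  -- the inverse
  have hinv : (t.bc S lam (Localization.Away b) ↑u * ↑u) *
      ((↑u⁻¹ : Localization.Away b ⊗[S] A) * t.bc S lam (Localization.Away b) ↑u⁻¹) = 1 := by
    rw [mul_assoc, ← mul_assoc (↑u : Localization.Away b ⊗[S] A), Units.mul_inv, one_mul,
      bc_units_inv' t (Localization.Away b) u]
  have hinv' : ((↑u⁻¹ : Localization.Away b ⊗[S] A) * t.bc S lam (Localization.Away b) ↑u⁻¹) *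
      (t.bc S lam (Localization.Away b) ↑u * ↑u) = 1 := by
    rw [mul_assoc, ← mul_assoc (t.bc S lam (Localization.Away b) ↑u⁻¹),
      bc_units_inv t (Localization.Away b) u, one_mul, Units.inv_mul]
  have hcen' : ∀ y : Localization.Away b ⊗[S] A,
      ((↑u⁻¹ : Localization.Away b ⊗[S] A) * t.bc S lam (Localization.Away b) ↑u⁻¹) * y =
        y * ((↑u⁻¹ : Localization.Away b ⊗[S] A) * t.bc S lam (Localization.Away b) ↑u⁻¹) := by
    intro y
    set c := t.bc S lam (Localization.Away b) ↑u * (↑u : Localization.Away b ⊗[S] A) with hc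
    set c' := (↑u⁻¹ : Localization.Away b ⊗[S] A) * t.bc S lam (Localization.Away b) ↑u⁻¹ with hc'
    calc c' * y = c' * y * (c * c') := by rw [hinv, mul_one]
      _ = c' * (y * c) * c' := by simp only [mul_assoc]
      _ = c' * (c * y) * c' := by rw [hcen y]
      _ = (c' * c) * y * c' := by simp only [mul_assoc]
      _ = y * c' := by rw [hinv', one_mul]
  have hfixc' : t.bc S lam (Localization.Away b)
      ((↑u⁻¹ : Localization.Away b ⊗[S] A) * t.bc S lam (Localization.Away b) ↑u⁻¹) =
      (↑u⁻¹ : Localization.Away b ⊗[S] A) * t.bc S lam (Localization.Away b) ↑u⁻¹ := by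
    rw [bc_mul, bc_bc]
  obtain ⟨c₀', hc₀'⟩ := exists_eq_tmul_one_of_central_fixed hfix t b _ (fun g => hcen' _) hfixc'
  have hinjT := tmul_one_injective lam hfix (A := A) (Localization.Away b)
  have h1 : c₀ * c₀' = 1 := by
    apply hinjT
    change ((c₀ * c₀') ⊗ₜ[S] (1 : A) : Localization.Away b ⊗[S] A) = (1 : Localization.Away b) ⊗ₜ[S] (1 : A)
    have : ((c₀ * c₀') ⊗ₜ[S] (1 : A) : Localization.Away b ⊗[S] A) =
        (c₀ ⊗ₜ[S] (1 : A)) * (c₀' ⊗ₜ[S] (1 : A)) := by
      rw [Algebra.TensorProduct.tmul_mul_tmul, mul_one]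
    rw [this, ← hc₀, ← hc₀', hinv, Algebra.TensorProduct.one_def]
  exact ⟨u, ⟨c₀, c₀', h1, by rw [mul_comm]; exact h1⟩, hu, hc₀⟩

end loc

end Groth.Agent.Lib.AzInvUnitary16
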