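import Mathlib
import Groth.Agent.Lib.AzInvUnitary16b

/-!
# Unitary form of "automorphisms are locally inner", part 3: gluing and square roots (helper16)
-/

set_option autoImplicit false
set_option linter.style.haveILetI false

namespace Groth.Agent.Lib.AzInvUnitary16
open TensorProduct AzInv Groth.Agent.Lib.Azumaya16 Groth.Agent.Lib.AzInvInner16

section glue
universe u v w
variable {S : Type u} {R : Type v} [CommRing S] [CommRing R] [Algebra S R]
  {lam : R ≃ₐ[S] R} {A : Type w} [Ring A] [Algebra S A] [Algebra R A] [IsScalarTower S R A]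
  (t : AzInv.LamInv R A lam) (ψ : A ≃ₐ[R] A)
  {ι : Type*} [Fintype ι] [DecidableEq ι] (T : ι → Type*) [∀ i, CommRing (T i)]
  [∀ i, Algebra S (T i)]

theorem bc_pi_apply (x : (∀ i, T i) ⊗[S] A) (i : ι) :
    Algebra.TensorProduct.map (Pi.evalAlgHom S T i) (AlgHom.id S A) (t.bc S lam (∀ i, T i) x) =
      t.bc S lam (T i) (Algebra.TensorProduct.map (Pi.evalAlgHom S T i) (AlgHom.id S A) x) := by
  induction x using TensorProduct.induction_on with
  | zero => simp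
  | add x y hx hy => simp only [map_add, hx, hy]
  | tmul c a => simp

theorem unitaryOver_pi (h : ∀ i, UnitaryOver t ψ (T i)) : UnitaryOver t ψ (∀ i, T i) := by
  choose U c hU hc using h
  let u' : (∀ i, T i ⊗[S] A)ˣ := MulEquiv.piUnits.symm U
  let e := piLeft (S := S) (A := A) T
  let u : ((∀ i, T i) ⊗[S] A)ˣ := Units.map (e.symm : (∀ i, T i ⊗[S] A) →* (∀ i, T i) ⊗[S] A) u'
  have hu : e (u : (∀ i, T i) ⊗[S] A) = (u' : ∀ i, T i ⊗[S] A) := by
    simp [u]
  have hui : e ((u⁻¹ : ((∀ i, T i) ⊗[S] A)ˣ) : (∀ i, T i) ⊗[S] A) =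
      ((u'⁻¹ : (∀ i, T i ⊗[S] A)ˣ) : ∀ i, T i ⊗[S] A) := by
    simp [u]
  have hpr : ∀ i, Algebra.TensorProduct.map (Pi.evalAlgHom S T i) (AlgHom.id S A)
      (u : (∀ i, T i) ⊗[S] A) = (U i : T i ⊗[S] A) := by
    intro i
    rw [← piLeft_apply]
    have := congrFun hu i
    exact this
  refine ⟨u, MulEquiv.piUnits.symm c, fun x => ?_, ?_⟩
  · apply e.injective
    funext i
    rw [map_mul, map_mul, hu, hui]
    simp only [e, Pi.mul_apply]
    rw [piLeft_apply, piLeft_apply, congr_pi_apply, hU i]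
    rfl
  · apply e.injective
    funext i
    simp only [e]
    rw [piLeft_apply, piLeft_apply, map_mul, bc_pi_apply, hpr, hc i]
    simp

end glue

section sqrt
universe u v w
variable {S : Type u} {R : Type v} [CommRing S] [CommRing R] [Algebra S R]
  {lam : R ≃ₐ[S] R} {A : Type w} [Ring A] [Algebra S A] [Algebra R A] [IsScalarTower S R A]
  (t : AzInv.LamInv R A lam) (ψ : A ≃ₐ[R] A)

theorem tmul_one_comm (T : Type*) [CommRing T] [Algebra S T] (c : T) (y : T ⊗[S] A) :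
    (c ⊗ₜ[S] (1 : A) : T ⊗[S] A) * y = y * (c ⊗ₜ[S] (1 : A)) := by
  induction y using TensorProduct.induction_on with
  | zero => simp
  | add y y' hy hy' => rw [mul_add, add_mul, hy, hy']
  | tmul d a => rw [Algebra.TensorProduct.tmul_mul_tmul, Algebra.TensorProduct.tmul_mul_tmul, mul_comm,
      one_mul, mul_one]

variable (S₁ : Type*) [CommRing S₁] [Algebra S S₁] (S₂ : Type*) [CommRing S₂] [Algebra S₁ S₂]
  [Algebra S S₂] [IsScalarTower S S₁ S₂]

/-- base change map `S₁ ⊗ A → S₂ ⊗ A`. -/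
noncomputable def beta : S₁ ⊗[S] A →ₐ[S] S₂ ⊗[S] A :=
  Algebra.TensorProduct.map (IsScalarTower.toAlgHom S S₁ S₂) (AlgHom.id S A)

@[simp] theorem beta_tmul (c : S₁) (a : A) :
    beta (S := S) (A := A) S₁ S₂ (c ⊗ₜ[S] a) = (algebraMap S₁ S₂ c) ⊗ₜ[S] a := by
  simp [beta]

theorem congr_beta (y : S₁ ⊗[S] A) :
    Algebra.TensorProduct.congr (AlgEquiv.refl : S₂ ≃ₐ[S₂] S₂) (ψ.restrictScalars S)
      (beta (S := S) (A := A) S₁ S₂ y) =
    beta (S := S) (A := A) S₁ S₂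
      (Algebra.TensorProduct.congr (AlgEquiv.refl : S₁ ≃ₐ[S₁] S₁) (ψ.restrictScalars S) y) := by
  induction y using TensorProduct.induction_on with
  | zero => simp
  | add y y' hy hy' => simp only [map_add, hy, hy']
  | tmul c a => simp

theorem bc_beta (y : S₁ ⊗[S] A) :
    t.bc S lam S₂ (beta (S := S) (A := A) S₁ S₂ y) = beta (S := S) (A := A) S₁ S₂ (t.bc S lam S₁ y) := by
  induction y using TensorProduct.induction_on with
  | zero => simp
  | add y y' hy hy' => simp only [map_add, hy, hy']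
  | tmul c a => simp

theorem unitary_of_sqrt (u₁ : (S₁ ⊗[S] A)ˣ) (c₁ : S₁ˣ)
    (hu₁ : ∀ x : S₁ ⊗[S] A,
      Algebra.TensorProduct.congr (AlgEquiv.refl : S₁ ≃ₐ[S₁] S₁) (ψ.restrictScalars S) x = ↑u₁ * x * ↑u₁⁻¹)
    (hc₁ : t.bc S lam S₁ (↑u₁ : S₁ ⊗[S] A) * ↑u₁ = (c₁ : S₁) ⊗ₜ[S] (1 : A))
    (d : S₂) (hd : d * d = algebraMap S₁ S₂ ↑c₁) :
    ∃ u : (S₂ ⊗[S] A)ˣ, t.bc S lam S₂ (↑u : S₂ ⊗[S] A) * ↑u = 1 ∧
      ∀ x : S₂ ⊗[S] A,
        Algebra.TensorProduct.congr (AlgEquiv.refl : S₂ ≃ₐ[S₂] S₂) (ψ.restrictScalars S) x =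
          ↑u * x * ↑u⁻¹ := by
  have hdu : IsUnit d := by
    have h : IsUnit (d * d) := by rw [hd]; exact c₁.isUnit.map _
    exact isUnit_of_mul_isUnit_left h
  obtain ⟨dinv, hdinv⟩ := hdu.exists_right_inv
  let w : S₂ ⊗[S] A := dinv ⊗ₜ[S] (1 : A)
  let w' : S₂ ⊗[S] A := d ⊗ₜ[S] (1 : A)
  have hww' : w * w' = 1 := by
    simp only [w, w']
    rw [Algebra.TensorProduct.tmul_mul_tmul, mul_one, mul_comm, hdinv, Algebra.TensorProduct.one_def]
  have hw'w : w' * w = 1 := by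
    simp only [w, w']
    rw [Algebra.TensorProduct.tmul_mul_tmul, mul_one, hdinv, Algebra.TensorProduct.one_def]
  let wu : (S₂ ⊗[S] A)ˣ := ⟨w, w', hww', hw'w⟩
  let bu : (S₂ ⊗[S] A)ˣ := Units.map (beta (S := S) (A := A) S₁ S₂ : S₁ ⊗[S] A →* S₂ ⊗[S] A) u₁
  have hbu : (bu : S₂ ⊗[S] A) = beta (S := S) (A := A) S₁ S₂ ↑u₁ := rfl
  have hwc : ∀ y : S₂ ⊗[S] A, w * y = y * w := fun y => tmul_one_comm S₂ dinv y
  have htw : t.bc S lam S₂ w = w := by
    simp only [w]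
    rw [LamInv.bc_tmul, t.map_one]
  refine ⟨bu * wu, ?_, ?_⟩
  · rw [Units.val_mul, hbu]
    change t.bc S lam S₂ (beta (S := S) (A := A) S₁ S₂ ↑u₁ * w) * (beta (S := S) (A := A) S₁ S₂ ↑u₁ * w) = 1
    rw [bc_mul, htw, bc_beta, mul_assoc, ← mul_assoc (beta (S := S) (A := A) S₁ S₂ _), ← map_mul, hc₁,
      beta_tmul, ← hd]
    simp only [w]
    rw [Algebra.TensorProduct.tmul_mul_tmul, Algebra.TensorProduct.tmul_mul_tmul, mul_one, mul_one]
    have : dinv * (d * d * dinv) = 1 := by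
      calc dinv * (d * d * dinv) = (d * dinv) * (d * dinv) := by ring
        _ = 1 := by rw [hdinv, one_mul]
    rw [this, Algebra.TensorProduct.one_def]
  · intro x
    have hcomm : Algebra.TensorProduct.congr (AlgEquiv.refl : S₂ ≃ₐ[S₂] S₂) (ψ.restrictScalars S) x *
        ↑(bu * wu) = ↑(bu * wu) * x := by
      rw [Units.val_mul, hbu]
      change _ * (beta (S := S) (A := A) S₁ S₂ ↑u₁ * w) = (beta (S := S) (A := A) S₁ S₂ ↑u₁ * w) * x
      induction x using TensorProduct.induction_on with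
      | zero => simp
      | add x x' hx hx' => rw [map_add, add_mul, mul_add, hx, hx']
      | tmul c a =>
        have h1 : (c ⊗ₜ[S] a : S₂ ⊗[S] A) =
            (c ⊗ₜ[S] (1 : A)) * beta (S := S) (A := A) S₁ S₂ ((1 : S₁) ⊗ₜ[S] a) := by
          rw [beta_tmul, map_one, Algebra.TensorProduct.tmul_mul_tmul, mul_one, one_mul]
        have h2 : Algebra.TensorProduct.congr (AlgEquiv.refl : S₂ ≃ₐ[S₂] S₂) (ψ.restrictScalars S)
            (c ⊗ₜ[S] a) = (c ⊗ₜ[S] (1 : A)) * beta (S := S) (A := A) S₁ S₂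
              (Algebra.TensorProduct.congr (AlgEquiv.refl : S₁ ≃ₐ[S₁] S₁) (ψ.restrictScalars S)
                ((1 : S₁) ⊗ₜ[S] a)) := by
          simp [Algebra.TensorProduct.tmul_mul_tmul]
        have h3 : Algebra.TensorProduct.congr (AlgEquiv.refl : S₁ ≃ₐ[S₁] S₁) (ψ.restrictScalars S)
            ((1 : S₁) ⊗ₜ[S] a) * (↑u₁ : S₁ ⊗[S] A) = (↑u₁ : S₁ ⊗[S] A) * ((1 : S₁) ⊗ₜ[S] a) := by
          rw [hu₁, mul_assoc, Units.inv_mul, mul_one]
        rw [h2, mul_assoc, ← mul_assoc (beta (S := S) (A := A) S₁ S₂ _), ← map_mul, h3, map_mul]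
        conv_rhs => rw [h1]
        rw [mul_assoc, mul_assoc, hwc, ← mul_assoc, ← mul_assoc, ← mul_assoc, ← mul_assoc,
          ← tmul_one_comm S₂ c (beta (S := S) (A := A) S₁ S₂ ↑u₁)]
    rw [← hcomm, mul_assoc, Units.mul_inv, mul_one]

end sqrt

section final
universe u v w
variable {S : Type u} {R : Type v} [CommRing S] [CommRing R] [Algebra S R]
  (lam : R ≃ₐ[S] R) (hlam : ∀ r, lam (lam r) = r) (hfix : RInv.IsFixedRing S R lam.toRingEquiv)
  {A : Type w} [Ring A] [Algebra S A] [Algebra R A] [IsScalarTower S R A] [IsAzumaya R A]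
  (t : AzInv.LamInv R A lam) (ψ : A ≃ₐ[R] A) (hψ : AzInv.IsInvHom t t ψ)

include hlam hfix hψ in
theorem exists_unitary_cover
    (hsq : ∀ (S₁ : Type u) [CommRing S₁] [Algebra S S₁] [Algebra.Etale S S₁] (x : S₁ˣ),
      ∃ (S₂ : Type u) (_ : CommRing S₂) (_ : Algebra S₁ S₂) (_ : Algebra.Etale S₁ S₂)
        (_ : Module.FaithfullyFlat S₁ S₂) (y : S₂), y * y = algebraMap S₁ S₂ ↑x) :
    ∃ (S' : Type u) (_ : CommRing S') (_ : Algebra S S') (_ : Algebra.Etale S S')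
      (_ : Module.FaithfullyFlat S S') (u : (S' ⊗[S] A)ˣ),
      t.bc S lam S' (↑u : S' ⊗[S] A) * ↑u = 1 ∧
        ∀ x : S' ⊗[S] A,
          Algebra.TensorProduct.congr (AlgEquiv.refl : S' ≃ₐ[S'] S') (ψ.restrictScalars S) x =
            ↑u * x * ↑u⁻¹ := by
  classical
  have hI : Ideal.span {b : S | UnitaryOver t ψ (Localization.Away b)} = ⊤ := by
    by_contra hne
    obtain ⟨m, hm, hle⟩ := Ideal.exists_le_maximal _ hne
    haveI := hm.isPrime
    obtain ⟨b, hb, hg⟩ := exists_away_unitaryOver lam hlam hfix t ψ hψ m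
    exact hb (hle (Ideal.subset_span hg))
  have h1 : (1 : S) ∈ Ideal.span {b : S | UnitaryOver t ψ (Localization.Away b)} := by
    rw [hI]; trivial
  obtain ⟨T, hT, h1T⟩ := Submodule.mem_span_finite_of_mem_span h1
  have hin : UnitaryOver t ψ (∀ t' : T, Localization.Away (t' : S)) :=
    unitaryOver_pi t ψ (fun t' : T => Localization.Away (t' : S)) (fun t' => hT t'.2)
  obtain ⟨u₁, c₁, hu₁, hc₁⟩ := hin
  haveI hff₁ : Module.FaithfullyFlat S (∀ t' : T, Localization.Away (t' : S)) :=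
    zariskiCover_faithfullyFlat T h1T
  obtain ⟨S₂, hCR, hAlg, hEt, hFF, d, hd⟩ := hsq (∀ t' : T, Localization.Away (t' : S)) c₁
  letI : CommRing S₂ := hCR
  letI : Algebra (∀ t' : T, Localization.Away (t' : S)) S₂ := hAlg
  letI : Algebra S S₂ :=
    ((algebraMap (∀ t' : T, Localization.Away (t' : S)) S₂).comp
      (algebraMap S (∀ t' : T, Localization.Away (t' : S)))).toAlgebra
  haveI : IsScalarTower S (∀ t' : T, Localization.Away (t' : S)) S₂ :=
    IsScalarTower.of_algebraMap_eq (fun _ => rfl)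
  haveI : Algebra.Etale (∀ t' : T, Localization.Away (t' : S)) S₂ := hEt
  haveI : Module.FaithfullyFlat (∀ t' : T, Localization.Away (t' : S)) S₂ := hFF
  have hEt' : Algebra.Etale S S₂ := Algebra.Etale.comp S (∀ t' : T, Localization.Away (t' : S)) S₂
  have hFF' : Module.FaithfullyFlat S S₂ :=
    Module.FaithfullyFlat.trans S (∀ t' : T, Localization.Away (t' : S)) S₂
  obtain ⟨u, hu1, hu2⟩ := unitary_of_sqrt t ψ (∀ t' : T, Localization.Away (t' : S)) S₂ u₁ c₁ hu₁ hc₁ d hd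
  exact ⟨S₂, inferInstance, inferInstance, hEt', hFF', u, hu1, hu2⟩

end final

end Groth.Agent.Lib.AzInvUnitary16
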