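import Mathlib
import Groth.Prelude.Def_AzInv
import Groth.Agent.Lib.AzInvDisjoint16
import Groth.Agent.Lib.AzInvUnitary16c

/-!
# Étale covers from étale neighbourhoods; constancy of the sign (helper16)

* `IsoOver s₁ s₂ T`: two algebras with involution become isomorphic over `T`; `isoOver_pi`: such
  isomorphisms glue over finite products.
* `isOpen_range_comap`: the image of `Spec T → Spec R` is open for `T` étale.
* `exists_cover`: if every prime of `R` has an étale neighbourhood `T` with `IsoOver s₁ s₂ T`, then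
  there is one étale faithfully flat `S'` with `IsoOver s₁ s₂ S'` (quasi-compactness of `Spec R`).
* `locData_dichotomy`: over a connected base the étale-local sign of an involution of the first
  kind (`AzInvLocal16.LocData`) is constant.
-/

set_option autoImplicit false
set_option linter.style.haveILetI false
set_option linter.unusedSectionVars false
set_option linter.deprecated false

namespace Groth.Agent.Lib.AzInvCover16
open TensorProduct AzInv Matrix
open Groth.Agent.Lib.AzInvUnitary16 Groth.Agent.Lib.AzInvInner16 Groth.Agent.Lib.AzInvStd16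
  Groth.Agent.Lib.AzInvLocal16 Groth.Agent.Lib.AzInvDisjoint16

section glue
universe u v w w'
variable {R : Type u} [CommRing R] {B₁ : Type w} [Ring B₁] [Algebra R B₁]
  {B₂ : Type w'} [Ring B₂] [Algebra R B₂]
  (s₁ : AzInv.LamInv R B₁ (AlgEquiv.refl : R ≃ₐ[R] R))
  (s₂ : AzInv.LamInv R B₂ (AlgEquiv.refl : R ≃ₐ[R] R))

/-- `(B₁, s₁)` and `(B₂, s₂)` become isomorphic over `T`. -/
def IsoOver (T : Type v) [CommRing T] [Algebra R T] : Prop :=
  ∃ f : T ⊗[R] B₁ ≃ₐ[T] T ⊗[R] B₂,
    ∀ x, f (s₁.bc R (AlgEquiv.refl : R ≃ₐ[R] R) T x) = s₂.bc R (AlgEquiv.refl : R ≃ₐ[R] R) T (f x)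

theorem isoOver_pi {ι : Type*} [Fintype ι] [DecidableEq ι] (T : ι → Type v) [∀ i, CommRing (T i)]
    [∀ i, Algebra R (T i)] (h : ∀ i, IsoOver s₁ s₂ (T i)) : IsoOver s₁ s₂ (∀ i, T i) := by
  choose f hf using h
  let e₁ := piLeft (S := R) (A := B₁) T
  let e₂ := piLeft (S := R) (A := B₂) T
  let F : (∀ i, T i) ⊗[R] B₁ ≃+* (∀ i, T i) ⊗[R] B₂ :=
    e₁.toRingEquiv.trans ((RingEquiv.piCongrRight fun i => (f i).toRingEquiv).trans
      e₂.symm.toRingEquiv)
  have hF : ∀ y, e₂ (F y) = fun i => f i (e₁ y i) := by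
    intro y
    simp only [F, RingEquiv.trans_apply]
    change e₂ (e₂.symm _) = _
    rw [AlgEquiv.apply_symm_apply]
    rfl
  have he₁ : ∀ (a : ∀ i, T i) (b : B₁), e₁ (a ⊗ₜ[R] b) = fun i => a i ⊗ₜ[R] b := by
    intro a b
    funext i
    simp only [e₁, piLeft_apply]
    simp
  have he₂ : ∀ (a : ∀ i, T i) (b : B₂), e₂ (a ⊗ₜ[R] b) = fun i => a i ⊗ₜ[R] b := by
    intro a b
    funext i
    simp only [e₂, piLeft_apply]
    simp
  refine ⟨AlgEquiv.ofRingEquiv (f := F) (fun a => ?_), fun x => ?_⟩
  · apply e₂.injective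
    rw [hF, Algebra.TensorProduct.algebraMap_apply, Algebra.TensorProduct.algebraMap_apply,
      Algebra.algebraMap_self_apply, he₁, he₂]
    funext i
    have := (f i).commutes (a i)
    rwa [Algebra.TensorProduct.algebraMap_apply, Algebra.TensorProduct.algebraMap_apply,
      Algebra.algebraMap_self_apply] at this
  · apply e₂.injective
    change e₂ (F _) = e₂ (s₂.bc R (AlgEquiv.refl : R ≃ₐ[R] R) (∀ i, T i) (F x))
    rw [hF]
    funext i
    simp only [e₁, e₂, piLeft_apply]
    rw [bc_pi_apply, hf, bc_pi_apply]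
    congr 1
    have := congrFun (hF x) i
    simp only [e₁, e₂, piLeft_apply] at this
    exact this.symm

end glue

section open_
universe u v
variable {R : Type u} [CommRing R]

theorem isOpen_range_comap (T : Type v) [CommRing T] [Algebra R T] [Algebra.Etale R T] :
    IsOpen (Set.range (PrimeSpectrum.comap (algebraMap R T))) := by
  haveI : Module.Flat R T := inferInstance
  haveI : Algebra.FinitePresentation R T := inferInstance
  exact (PrimeSpectrum.isOpenMap_comap_of_hasGoingDown_of_finitePresentation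
    (R := R) (S := T)).isOpen_range

end open_

section cover
universe u w w'
variable {R : Type u} [CommRing R] {B₁ : Type w} [Ring B₁] [Algebra R B₁]
  {B₂ : Type w'} [Ring B₂] [Algebra R B₂]
  (s₁ : AzInv.LamInv R B₁ (AlgEquiv.refl : R ≃ₐ[R] R))
  (s₂ : AzInv.LamInv R B₂ (AlgEquiv.refl : R ≃ₐ[R] R))

/-- Étale-local isomorphisms near every prime glue to an isomorphism over one étale faithfully flat
cover. -/
theorem exists_cover
    (hloc : ∀ p : PrimeSpectrum R, ∃ (T : Type u) (_ : CommRing T) (_ : Algebra R T),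
      Algebra.Etale R T ∧ p ∈ Set.range (PrimeSpectrum.comap (algebraMap R T)) ∧ IsoOver s₁ s₂ T) :
    ∃ (S' : Type u) (_ : CommRing S') (_ : Algebra R S') (_ : Algebra.Etale R S')
      (_ : Module.FaithfullyFlat R S'), IsoOver s₁ s₂ S' := by
  classical
  choose T iC iA hE hmem hIso using hloc
  letI : ∀ p, CommRing (T p) := iC
  letI : ∀ p, Algebra R (T p) := iA
  haveI : ∀ p, Algebra.Etale R (T p) := hE
  obtain ⟨s, hs⟩ := isCompact_univ.elim_finite_subcover
    (fun p => Set.range (PrimeSpectrum.comap (algebraMap R (T p))))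
    (fun p => isOpen_range_comap (T p)) (fun p _ => Set.mem_iUnion.2 ⟨p, hmem p⟩)
  haveI : Module.Flat R (∀ i : s, T i.1) :=
    Module.Flat.of_linearEquiv
      (DirectSum.linearEquivFunOnFintype R s (fun i : s => T i.1)).symm
  have hff : Module.FaithfullyFlat R (∀ i : s, T i.1) := by
    apply Module.FaithfullyFlat.of_comap_surjective
    intro q
    have hq := hs (Set.mem_univ q)
    simp only [Set.mem_iUnion] at hq
    obtain ⟨p, hp, q', hq'⟩ := hq
    refine ⟨PrimeSpectrum.comap (Pi.evalRingHom (fun i : s => T i.1) ⟨p, hp⟩) q', ?_⟩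
    rw [← hq']
    rfl
  exact ⟨∀ i : s, T i.1, inferInstance, inferInstance, inferInstance, hff,
    isoOver_pi s₁ s₂ (fun i : s => T i.1) (fun i => hIso i.1)⟩

end cover

section dichotomy
universe u w
variable {R : Type u} [CommRing R] {A : Type w} [Ring A] [Algebra R A]
  (t : AzInv.LamInv R A (AlgEquiv.refl : R ≃ₐ[R] R))

theorem isOpen_locData (n : ℕ) (ε : R) : IsOpen {p : PrimeSpectrum R | LocData t n ε p} := by
  rw [isOpen_iff_forall_mem_open]
  rintro p ⟨T, iC, iA, hE, hmem, hG⟩
  refine ⟨Set.range (PrimeSpectrum.comap (algebraMap R T)), ?_, isOpen_range_comap T, hmem⟩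
  intro p' hp'
  exact ⟨T, iC, iA, hE, hp', hG⟩

/-- Over a connected base the sign of the involution is constant. -/
theorem locData_dichotomy [ConnectedSpace (PrimeSpectrum R)] {n : ℕ} (hn : 0 < n)
    (hA : AzInv.IsAzumayaDeg R A n) (h2 : IsUnit (2 : R)) :
    (∀ p : PrimeSpectrum R, LocData t n 1 p) ∨ (∀ p : PrimeSpectrum R, LocData t n (-1) p) := by
  have hcompl : {p : PrimeSpectrum R | LocData t n 1 p}ᶜ = {p | LocData t n (-1) p} := by
    ext p
    simp only [Set.mem_compl_iff, Set.mem_setOf_eq]
    constructor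
    · intro h
      rcases exists_locData t hn hA h2 p with h' | h'
      · exact absurd h' h
      · exact h'
    · intro h h'
      exact not_locData_both t hn h2 p h' h
  have hclopen : IsClopen {p : PrimeSpectrum R | LocData t n 1 p} := by
    refine ⟨?_, isOpen_locData t n 1⟩
    rw [← isOpen_compl_iff, hcompl]
    exact isOpen_locData t n (-1)
  rcases isClopen_iff.1 hclopen with h | h
  · right
    intro p
    have : p ∈ {p : PrimeSpectrum R | LocData t n 1 p}ᶜ := by rw [h]; simp
    rw [hcompl] at this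
    exact this
  · left
    intro p
    have : p ∈ {p : PrimeSpectrum R | LocData t n 1 p} := by rw [h]; trivial
    exact this

end dichotomy

end Groth.Agent.Lib.AzInvCover16
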