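import Mathlib

/-!
# The doubling trick for symmetric and alternating forms (helper16)

Over a commutative ring containing `1/2` and a square root `i` of `-1`, for an invertible matrix `G`
with `Gᵀ = G` the form `G ⊕ G` is isometric to the unit form, and for `Gᵀ = -G` the form `G ⊕ G` is
isometric to the standard alternating form `J ⊗ 1`.  No diagonalisation is needed: the isometry is
the explicit matrix `Q₁ ⊗ 1 + Q₂ ⊗ G` for suitable `2 × 2` matrices `Q₁, Q₂`.
-/

set_option autoImplicit false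
set_option linter.unusedSectionVars false
set_option linter.unreachableTactic false
set_option linter.unusedTactic false

namespace Groth.Agent.Lib.AzInvDouble16
open Matrix
open scoped Kronecker

section kron
universe v
variable {T : Type v} [CommRing T] {I : Type*} [Fintype I] [DecidableEq I]

theorem kron_congr (Q₁ Q₂ N : Matrix (Fin 2) (Fin 2) T) (c : T) (G : Matrix I I T)
    (hGT : Gᵀ = c • G) (h11 : Q₁ * N * Q₁ᵀ = 0) (h22 : Q₂ * N * Q₂ᵀ = 0)
    (h12 : c • (Q₁ * N * Q₂ᵀ) + Q₂ * N * Q₁ᵀ = 1) :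
    (Q₁ ⊗ₖ (1 : Matrix I I T) + Q₂ ⊗ₖ G) * (N ⊗ₖ (1 : Matrix I I T)) *
      (Q₁ ⊗ₖ (1 : Matrix I I T) + Q₂ ⊗ₖ G)ᵀ = (1 : Matrix (Fin 2) (Fin 2) T) ⊗ₖ G := by
  have hT : (Q₁ ⊗ₖ (1 : Matrix I I T) + Q₂ ⊗ₖ G)ᵀ = Q₁ᵀ ⊗ₖ (1 : Matrix I I T) + Q₂ᵀ ⊗ₖ Gᵀ := by
    rw [Matrix.transpose_add, ← Matrix.kroneckerMap_transpose, ← Matrix.kroneckerMap_transpose,
      Matrix.transpose_one]
  rw [hT, Matrix.add_mul, ← Matrix.mul_kronecker_mul, ← Matrix.mul_kronecker_mul, Matrix.mul_add,
    Matrix.add_mul, Matrix.add_mul, ← Matrix.mul_kronecker_mul, ← Matrix.mul_kronecker_mul,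
    ← Matrix.mul_kronecker_mul, ← Matrix.mul_kronecker_mul, h11, h22]
  simp only [Matrix.mul_one, Matrix.one_mul, Matrix.zero_kronecker, zero_add, add_zero]
  rw [hGT, Matrix.kronecker_smul, ← Matrix.smul_kronecker, ← Matrix.add_kronecker, add_comm, h12]

end kron

section two
universe v
variable {T : Type v} [CommRing T] (i h : T) (hi : i * i = -1) (hh : 2 * h = 1)

theorem transpose_two (a b c d : T) :
    (!![a, b; c, d] : Matrix (Fin 2) (Fin 2) T)ᵀ = !![a, c; b, d] := by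
  ext x y; fin_cases x <;> fin_cases y <;> rfl

theorem eq_two {a b c d a' b' c' d' : T} (h1 : a = a') (h2 : b = b') (h3 : c = c') (h4 : d = d') :
    (!![a, b; c, d] : Matrix (Fin 2) (Fin 2) T) = !![a', b'; c', d'] := by
  rw [h1, h2, h3, h4]

/-- first matrix, orthogonal case -/
def Qa : Matrix (Fin 2) (Fin 2) T := !![h, h * i; -(h * i), h]
/-- second matrix, orthogonal case -/
def Qb : Matrix (Fin 2) (Fin 2) T := !![h, -(h * i); h * i, h]
/-- the standard alternating matrix -/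
def Jm : Matrix (Fin 2) (Fin 2) T := !![0, -1; 1, 0]
/-- first matrix, symplectic case -/
def Qc : Matrix (Fin 2) (Fin 2) T := !![1, 0; i, 0]
/-- second matrix, symplectic case -/
def Qd : Matrix (Fin 2) (Fin 2) T := !![0, h; 0, -(i * h)]

include hi in
theorem Qa_Qa : Qa i h * (Qa i h)ᵀ = 0 := by
  rw [Qa, transpose_two, Matrix.mul_fin_two, ← Matrix.ext_iff]
  intro a b
  fin_cases a <;> fin_cases b <;> simp <;>
    first | ring1 | linear_combination (h * h) * hi

include hi in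
theorem Qb_Qb : Qb i h * (Qb i h)ᵀ = 0 := by
  rw [Qb, transpose_two, Matrix.mul_fin_two, ← Matrix.ext_iff]
  intro a b
  fin_cases a <;> fin_cases b <;> simp <;>
    first | ring1 | linear_combination (h * h) * hi

include hi hh in
theorem Qa_Qb : Qa i h * (Qb i h)ᵀ + Qb i h * (Qa i h)ᵀ = 1 := by
  rw [Qa, Qb, transpose_two, transpose_two, Matrix.mul_fin_two, Matrix.mul_fin_two, ← Matrix.ext_iff]
  intro a b
  fin_cases a <;> fin_cases b <;> simp <;>
    first | ring1 | linear_combination (-2 * h * h) * hi + (2 * h + 1) * hh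

theorem Qc_Qc : Qc i * Jm * (Qc i)ᵀ = 0 := by
  rw [Qc, Jm, transpose_two, Matrix.mul_fin_two, Matrix.mul_fin_two, ← Matrix.ext_iff]
  intro a b
  fin_cases a <;> fin_cases b <;> simp

theorem Qd_Qd : Qd i h * Jm * (Qd i h)ᵀ = 0 := by
  rw [Qd, Jm, transpose_two, Matrix.mul_fin_two, Matrix.mul_fin_two, ← Matrix.ext_iff]
  intro a b
  fin_cases a <;> fin_cases b <;> simp <;> ring1

include hi hh in
theorem Qc_Qd : -(Qc i * Jm * (Qd i h)ᵀ) + Qd i h * Jm * (Qc i)ᵀ = 1 := by
  rw [Qc, Qd, Jm, transpose_two, transpose_two, Matrix.mul_fin_two, Matrix.mul_fin_two,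
    Matrix.mul_fin_two, Matrix.mul_fin_two, ← Matrix.ext_iff]
  intro a b
  fin_cases a <;> fin_cases b <;> simp <;>
    first | ring1 | linear_combination hh | linear_combination (-2 * h) * hi + hh

end two

section ex
universe v
variable {T : Type v} [CommRing T] (i h : T) (hi : i * i = -1) (hh : 2 * h = 1)
  {I : Type*} [Fintype I] [DecidableEq I]

theorem isUnit_of_congr {n : Type*} [Fintype n] [DecidableEq n] {V N G : Matrix n n T}
    (hG : IsUnit G) (h : V * N * Vᵀ = G) : IsUnit V := by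
  rw [Matrix.isUnit_iff_isUnit_det] at hG ⊢
  rw [← h, Matrix.det_mul, Matrix.det_mul] at hG
  exact isUnit_of_mul_isUnit_left (isUnit_of_mul_isUnit_left hG)

include hi hh in
/-- Doubling trick, orthogonal case: over a ring containing `1/2` and `√-1`, the form `G ⊕ G`
(`G` symmetric) is isometric to the unit form. -/
theorem exists_congr_orth (G : Matrix I I T)
    (hGk : IsUnit ((1 : Matrix (Fin 2) (Fin 2) T) ⊗ₖ G)) (hGT : Gᵀ = G) :
    ∃ V : Matrix (Fin 2 × I) (Fin 2 × I) T, IsUnit V ∧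
      (1 : Matrix (Fin 2) (Fin 2) T) ⊗ₖ G = V * (1 : Matrix (Fin 2 × I) (Fin 2 × I) T) * Vᵀ := by
  have key := kron_congr (Qa i h) (Qb i h) 1 1 G (by rw [hGT, one_smul])
    (by rw [Matrix.mul_one]; exact Qa_Qa i h hi) (by rw [Matrix.mul_one]; exact Qb_Qb i h hi)
    (by rw [Matrix.mul_one, Matrix.mul_one, one_smul]; exact Qa_Qb i h hi hh)
  rw [Matrix.one_kronecker_one] at key
  exact ⟨_, isUnit_of_congr hGk key, key.symm⟩

include hi hh in
/-- Doubling trick, symplectic case: over a ring containing `1/2` and `√-1`, the form `G ⊕ G`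
(`G` skew-symmetric) is isometric to the standard alternating form. -/
theorem exists_congr_symp (G : Matrix I I T)
    (hGk : IsUnit ((1 : Matrix (Fin 2) (Fin 2) T) ⊗ₖ G)) (hGT : Gᵀ = -G) :
    ∃ V : Matrix (Fin 2 × I) (Fin 2 × I) T, IsUnit V ∧
      (1 : Matrix (Fin 2) (Fin 2) T) ⊗ₖ G =
        V * ((Jm : Matrix (Fin 2) (Fin 2) T) ⊗ₖ (1 : Matrix I I T)) * Vᵀ := by
  have key := kron_congr (Qc i) (Qd i h) Jm (-1) G (by rw [hGT, neg_one_smul])
    (Qc_Qc i) (Qd_Qd i h) (by rw [neg_one_smul]; exact Qc_Qd i h hi hh)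
  exact ⟨_, isUnit_of_congr hGk key, key.symm⟩

end ex

end Groth.Agent.Lib.AzInvDouble16
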