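import Mathlib
import Groth.Agent.Lib.FiniteEtaleLift

/-!
# Adjoining a square root of `-1` (helper16)

`Ti T = T[X]/(X² + 1)` is faithfully flat over `T` (free of rank 2) and étale when `2` is a unit.
-/

set_option autoImplicit false
set_option linter.style.haveILetI false
set_option linter.unusedSectionVars false

namespace Groth.Agent.Lib.AzInvSqrt16
open Polynomial Groth.Agent.Lib.FiniteEtaleLift

section sqrt
universe v
variable (T : Type v) [CommRing T]

/-- the polynomial `X² + 1` -/
noncomputable def gp : T[X] := X ^ 2 + 1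

theorem gp_monic [Nontrivial T] : (gp T).Monic := by
  unfold gp
  monicity!

/-- `T[i] = T[X]/(X² + 1)` -/
abbrev Ti : Type v := AdjoinRoot (gp T)

theorem root_mul_root : (AdjoinRoot.root (gp T) : Ti T) * AdjoinRoot.root (gp T) = -1 := by
  have h := AdjoinRoot.eval₂_root (gp T)
  unfold gp at h
  simp only [eval₂_add, eval₂_pow, eval₂_X, eval₂_one] at h
  unfold gp
  linear_combination h

theorem natDegree_gp [Nontrivial T] : (gp T).natDegree = 2 := by
  unfold gp
  compute_degree!

theorem faithfullyFlat_Ti [Nontrivial T] : Module.FaithfullyFlat T (Ti T) := by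
  let pb := AdjoinRoot.powerBasis' (gp_monic T)
  haveI : Nonempty (Fin pb.dim) := by
    have : pb.dim = 2 := by
      simp only [pb, AdjoinRoot.powerBasis'_dim]; exact natDegree_gp T
    rw [this]; infer_instance
  exact Module.FaithfullyFlat.of_linearEquiv _ _ pb.basis.repr

theorem etale_Ti [Nontrivial T] (h2 : IsUnit (2 : T)) : Algebra.Etale T (Ti T) := by
  obtain ⟨u, hu⟩ := h2
  let P := pairOfMonic (gp T) (gp_monic T)
  have hd : derivative (gp T) = C (2 : T) * X := by
    unfold gp
    simp only [derivative_add, derivative_X_pow, derivative_one, add_zero, Nat.cast_ofNat,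
      Nat.add_one_sub_one, pow_one]
  have hunit : IsUnit (AdjoinRoot.mk P.f P.g) := by
    change IsUnit (AdjoinRoot.mk (gp T) (derivative (gp T)))
    rw [hd]
    refine IsUnit.of_mul_eq_one (AdjoinRoot.mk (gp T) (C (-((u⁻¹ : Tˣ) : T)) * X)) ?_
    rw [← map_mul]
    have e : C (2 : T) * X * (C (-((u⁻¹ : Tˣ) : T)) * X) = 1 + C (-1 : T) * gp T := by
      have h1 : (2 : T) * ((u⁻¹ : Tˣ) : T) = 1 := by rw [← hu]; exact u.mul_inv
      unfold gp
      have h1' : C (2 : T) * C (((u⁻¹ : Tˣ) : T)) = 1 := by rw [← C_mul, h1, C_1]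
      simp only [C_neg, C_1]
      linear_combination (-(X : T[X]) ^ 2) * h1'
    rw [e, map_add, map_one, map_mul, AdjoinRoot.mk_self, mul_zero, add_zero]
  exact Algebra.Etale.of_equiv (equivAdjoinRootOfIsUnit P hunit)

end sqrt

end Groth.Agent.Lib.AzInvSqrt16
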