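import Mathlib
import Groth.Prelude.Def_AzInv
import Groth.Agent.Lib.AzInvCover16
import Groth.Agent.Lib.AzInvSqrt16
import Groth.Agent.Lib.AzInvDouble16

/-!
# Involutions of the first kind over a connected base are orthogonal or symplectic (helper16)

Assembly: étale-local standard form (`AzInvLocal16`), constancy of the sign (`AzInvCover16`), the
doubling trick over `T[i]` (`AzInvDouble16`, `AzInvSqrt16`) giving
`(M₂(A), t) ≃ (M_{2n}(R), transpose)` resp. `(M_n(M₂(R)), symplectic)` étale-locally, and gluing over a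
finite étale cover.  Main result: `sameType_self_or_symplectic`.
-/

set_option autoImplicit false
set_option linter.style.haveILetI false
set_option linter.unusedSectionVars false

namespace Groth.Agent.Lib.AzInvFinal16
open TensorProduct AzInv Matrix
open Groth.Agent.Lib.AzInvStd16 Groth.Agent.Lib.AzInvLocal16 Groth.Agent.Lib.AzInvCover16
  Groth.Agent.Lib.AzInvSqrt16 Groth.Agent.Lib.AzInvDouble16
open scoped Kronecker

section final
universe u w
variable {R : Type u} [CommRing R]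
  (hlam : ∀ r : R, (AlgEquiv.refl : R ≃ₐ[R] R) ((AlgEquiv.refl : R ≃ₐ[R] R) r) = r)
  {A : Type w} [Ring A] [Algebra R A] (t : AzInv.LamInv R A (AlgEquiv.refl : R ≃ₐ[R] R))


theorem exists_half (T : Type u) [CommRing T] [Algebra R T] (h2 : IsUnit (2 : R)) :
    ∃ h : T, 2 * h = 1 := by
  obtain ⟨u, hu⟩ := h2
  refine ⟨algebraMap R T ((u⁻¹ : Rˣ) : R), ?_⟩
  have : (2 : R) * ((u⁻¹ : Rˣ) : R) = 1 := by rw [← hu]; exact u.mul_inv
  have := congrArg (algebraMap R T) this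
  rwa [map_mul, map_ofNat, map_one] at this

/-- Orthogonal case: over `T[i]` the doubled algebra `(M₂(A), t)` is isomorphic to
`(M_{2n}(R), transpose)`. -/
theorem isoOver_orth {n : ℕ} (T : Type u) [CommRing T] [Algebra R T] [Nontrivial T]
    (h2 : IsUnit (2 : R)) {G : Matrix (Fin n) (Fin n) T} (hGT : Gᵀ = G) (hG : Std t T (Fin n) G) :
    IsoOver (t.matrix (Fin 2))
      ((AzInv.LamInv.self (AlgEquiv.refl : R ≃ₐ[R] R) hlam).matrix (Fin (2 * n))) (Ti T) := by
  obtain ⟨h, hh⟩ := exists_half (R := R) (Ti T) h2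
  have hG' : Std t (Ti T) (Fin n) (G.map (algebraMap T (Ti T))) := hG.baseChange (Ti T)
  have hGT' : (G.map (algebraMap T (Ti T)))ᵀ = G.map (algebraMap T (Ti T)) := by
    rw [← Matrix.transpose_map, hGT]
  have hM := hG'.matrix (Fin 2)
  obtain ⟨V, hV, hcong⟩ := exists_congr_orth (AdjoinRoot.root (gp T)) h (root_mul_root T) hh
    (G.map (algebraMap T (Ti T))) hM.1 hGT'
  have hM1 : Std (t.matrix (Fin 2)) (Ti T) (Fin 2 × Fin n)
      (1 : Matrix (Fin 2 × Fin n) (Fin 2 × Fin n) (Ti T)) := hM.congr V hV hcong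
  have h₂ := std_self_matrix hlam (Ti T) (Fin (2 * n))
  exact locIso_of_std _ _ finProdFinEquiv hM1 h₂ (by simp)

theorem map_J (T' : Type u) [CommRing T'] [Algebra R T'] (J : (Matrix (Fin 2) (Fin 2) R)ˣ)
    (hJ : (↑J : Matrix (Fin 2) (Fin 2) R) = Matrix.of ![![0, -1], ![1, 0]]) :
    (↑J : Matrix (Fin 2) (Fin 2) R).map (algebraMap R T') = (Jm : Matrix (Fin 2) (Fin 2) T') := by
  rw [hJ, Jm]
  ext a b
  fin_cases a <;> fin_cases b <;> simp

/-- Symplectic case: over `T[i]` the doubled algebra `(M₂(A), t)` is isomorphic to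
`(M_n(M₂(R)), standard symplectic)`. -/
theorem isoOver_symp {n : ℕ} (T : Type u) [CommRing T] [Algebra R T] [Nontrivial T]
    (h2 : IsUnit (2 : R)) (J : (Matrix (Fin 2) (Fin 2) R)ˣ)
    (hJ : (↑J : Matrix (Fin 2) (Fin 2) R) = Matrix.of ![![0, -1], ![1, 0]])
    (hJt : AzInv.LamInv.transpose (AlgEquiv.refl : R ≃ₐ[R] R) (Fin 2) hlam
      (↑J : Matrix (Fin 2) (Fin 2) R) = (-1 : R) • (↑J : Matrix (Fin 2) (Fin 2) R))
    (hneg : (AlgEquiv.refl : R ≃ₐ[R] R) (-1) * (-1) = 1)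
    {G : Matrix (Fin n) (Fin n) T} (hGT : Gᵀ = -G) (hG : Std t T (Fin n) G) :
    IsoOver (t.matrix (Fin 2))
      (((AzInv.LamInv.transpose (AlgEquiv.refl : R ≃ₐ[R] R) (Fin 2) hlam).conj J (-1) hJt
        hneg).matrix (Fin n)) (Ti T) := by
  obtain ⟨h, hh⟩ := exists_half (R := R) (Ti T) h2
  have hG' : Std t (Ti T) (Fin n) (G.map (algebraMap T (Ti T))) := hG.baseChange (Ti T)
  have hGT' : (G.map (algebraMap T (Ti T)))ᵀ = -G.map (algebraMap T (Ti T)) := by
    rw [← Matrix.transpose_map, hGT]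
    ext i j
    simp
  have hM := hG'.matrix (Fin 2)
  obtain ⟨V, hV, hcong⟩ := exists_congr_symp (AdjoinRoot.root (gp T)) h (root_mul_root T) hh
    (G.map (algebraMap T (Ti T))) hM.1 hGT'
  have hM1 : Std (t.matrix (Fin 2)) (Ti T) (Fin 2 × Fin n)
      ((Jm : Matrix (Fin 2) (Fin 2) (Ti T)) ⊗ₖ (1 : Matrix (Fin n) (Fin n) (Ti T))) :=
    hM.congr V hV hcong
  have h₂ := (std_transpose_conj hlam (Ti T) (Fin 2) J (-1) hJt hneg).matrix (Fin n)
  refine locIso_of_std _ _ (Equiv.prodComm (Fin 2) (Fin n)) hM1 h₂ ?_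
  rw [map_J (Ti T) J hJ]
  ext ⟨i, a⟩ ⟨j, b⟩
  simp [Matrix.kroneckerMap_apply, mul_comm]

end final

section final2
universe u w
variable {R : Type u} [CommRing R]
  (hlam : ∀ r : R, (AlgEquiv.refl : R ≃ₐ[R] R) ((AlgEquiv.refl : R ≃ₐ[R] R) r) = r)
  {A : Type w} [Ring A] [Algebra R A] (t : AzInv.LamInv R A (AlgEquiv.refl : R ≃ₐ[R] R))

/-- passing to `T[i]` keeps an étale neighbourhood of `p` -/
theorem etale_Ti_of_mem (T : Type u) [CommRing T] [Algebra R T] [Algebra.Etale R T]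
    (h2 : IsUnit (2 : R)) (p : PrimeSpectrum R)
    (hp : p ∈ Set.range (PrimeSpectrum.comap (algebraMap R T))) :
    Nontrivial T ∧ Algebra.Etale R (Ti T) ∧
      p ∈ Set.range (PrimeSpectrum.comap (algebraMap R (Ti T))) := by
  obtain ⟨q, hq⟩ := hp
  haveI : Nontrivial T := q.nontrivial
  have h2T : IsUnit (2 : T) := by
    have := h2.map (algebraMap R T)
    rwa [map_ofNat] at this
  haveI := etale_Ti T h2T
  haveI := faithfullyFlat_Ti T
  refine ⟨inferInstance, Algebra.Etale.comp R T (Ti T), ?_⟩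
  obtain ⟨q', hq'⟩ := PrimeSpectrum.comap_surjective_of_faithfullyFlat (A := T) (B := Ti T) q
  exact ⟨q', by rw [← comap_comap_tower (T := T), hq', hq]⟩

theorem locFinal_orth {n : ℕ} (h2 : IsUnit (2 : R)) (p : PrimeSpectrum R)
    (h : LocData t n 1 p) :
    ∃ (T' : Type u) (_ : CommRing T') (_ : Algebra R T'), Algebra.Etale R T' ∧
      p ∈ Set.range (PrimeSpectrum.comap (algebraMap R T')) ∧
      IsoOver (t.matrix (Fin 2))
        ((AzInv.LamInv.self (AlgEquiv.refl : R ≃ₐ[R] R) hlam).matrix (Fin (2 * n))) T' := by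
  obtain ⟨T, _, _, hE, hp, G, hGT, hG⟩ := h
  haveI := hE
  obtain ⟨hnt, hE', hp'⟩ := etale_Ti_of_mem T h2 p hp
  rw [one_smul] at hGT
  exact ⟨Ti T, inferInstance, inferInstance, hE', hp', isoOver_orth hlam t T h2 hGT hG⟩

theorem locFinal_symp {n : ℕ} (h2 : IsUnit (2 : R)) (J : (Matrix (Fin 2) (Fin 2) R)ˣ)
    (hJ : (↑J : Matrix (Fin 2) (Fin 2) R) = Matrix.of ![![0, -1], ![1, 0]])
    (hJt : AzInv.LamInv.transpose (AlgEquiv.refl : R ≃ₐ[R] R) (Fin 2) hlam
      (↑J : Matrix (Fin 2) (Fin 2) R) = (-1 : R) • (↑J : Matrix (Fin 2) (Fin 2) R))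
    (hneg : (AlgEquiv.refl : R ≃ₐ[R] R) (-1) * (-1) = 1) (p : PrimeSpectrum R)
    (h : LocData t n (-1) p) :
    ∃ (T' : Type u) (_ : CommRing T') (_ : Algebra R T'), Algebra.Etale R T' ∧
      p ∈ Set.range (PrimeSpectrum.comap (algebraMap R T')) ∧
      IsoOver (t.matrix (Fin 2))
        (((AzInv.LamInv.transpose (AlgEquiv.refl : R ≃ₐ[R] R) (Fin 2) hlam).conj J (-1) hJt
          hneg).matrix (Fin n)) T' := by
  obtain ⟨T, _, _, hE, hp, G, hGT, hG⟩ := h
  haveI := hE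
  obtain ⟨hnt, hE', hp'⟩ := etale_Ti_of_mem T h2 p hp
  have hGT' : Gᵀ = -G := by rw [hGT]; exact neg_one_smul R G
  exact ⟨Ti T, inferInstance, inferInstance, hE', hp',
    isoOver_symp hlam t T h2 J hJ hJt hneg hGT' hG⟩

end final2

section conv
universe u w w'
variable {R : Type u} [CommRing R] {B₁ : Type w} [Ring B₁] [Algebra R B₁]
  {B₂ : Type w'} [Ring B₂] [Algebra R B₂]
  (s₁ : AzInv.LamInv R B₁ (AlgEquiv.refl : R ≃ₐ[R] R))
  (s₂ : AzInv.LamInv R B₂ (AlgEquiv.refl : R ≃ₐ[R] R))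

theorem one_tmul_algebraMap {R : Type*} [CommRing R] (S' : Type*) [CommRing S'] [Algebra R S']
    (B : Type*) [Ring B] [Algebra R B] (r : R) :
    ((1 : S') ⊗ₜ[R] algebraMap R B r : S' ⊗[R] B) =
      algebraMap S' (S' ⊗[R] B) (algebraMap R S' r) := by
  rw [Algebra.TensorProduct.algebraMap_apply, Algebra.algebraMap_self_apply,
    Algebra.algebraMap_eq_smul_one, Algebra.algebraMap_eq_smul_one, TensorProduct.tmul_smul,
    TensorProduct.smul_tmul']

theorem locIsoEt_of_isoOver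
    (h : ∃ (S' : Type u) (_ : CommRing S') (_ : Algebra R S') (_ : Algebra.Etale R S')
      (_ : Module.FaithfullyFlat R S'), IsoOver s₁ s₂ S') :
    AzInv.LocIsoEt R (AlgEquiv.refl : R ≃ₐ[R] R) s₁ s₂ := by
  obtain ⟨S', _, _, hE, hF, f, hf⟩ := h
  refine ⟨S', inferInstance, inferInstance, hE, hF, f, fun r x => ?_, hf⟩
  rw [one_tmul_algebraMap S' B₁, one_tmul_algebraMap S' B₂, map_mul, f.commutes]

end conv

universe u w

/-- Over a connected base with `2` invertible, an involution of the first kind on an Azumaya algebra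
of degree `n ≥ 1` has the type of the identity of `R` (orthogonal) or of the standard symplectic
involution of `M₂(R)`. -/
theorem sameType_self_or_symplectic (R : Type u) [CommRing R]
    (hlam : ∀ r : R, (AlgEquiv.refl : R ≃ₐ[R] R) ((AlgEquiv.refl : R ≃ₐ[R] R) r) = r)
    [Nontrivial R] [ConnectedSpace (PrimeSpectrum R)] (h2 : IsUnit (2 : R))
    (J : (Matrix (Fin 2) (Fin 2) R)ˣ)
    (hJ : (↑J : Matrix (Fin 2) (Fin 2) R) = Matrix.of ![![0, -1], ![1, 0]])
    (hJt : AzInv.LamInv.transpose (AlgEquiv.refl : R ≃ₐ[R] R) (Fin 2) hlam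
      (↑J : Matrix (Fin 2) (Fin 2) R) = (-1 : R) • (↑J : Matrix (Fin 2) (Fin 2) R))
    (hneg : (AlgEquiv.refl : R ≃ₐ[R] R) (-1) * (-1) = 1)
    (A : Type w) [Ring A] [Algebra R A]
    (n : ℕ) (hn : 0 < n) (hA : AzInv.IsAzumayaDeg R A n)
    (t : AzInv.LamInv R A (AlgEquiv.refl : R ≃ₐ[R] R)) :
    AzInv.SameType R (AlgEquiv.refl : R ≃ₐ[R] R) t
        (AzInv.LamInv.self (AlgEquiv.refl : R ≃ₐ[R] R) hlam) ∨
      AzInv.SameType R (AlgEquiv.refl : R ≃ₐ[R] R) t
        ((AzInv.LamInv.transpose (AlgEquiv.refl : R ≃ₐ[R] R) (Fin 2) hlam).conj J (-1) hJt hneg) := by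
  rcases locData_dichotomy t hn hA h2 with h | h
  · left
    refine ⟨2, 2 * n, by norm_num, by positivity, ?_⟩
    exact locIsoEt_of_isoOver _ _
      (exists_cover _ _ (fun p => locFinal_orth hlam t h2 p (h p)))
  · right
    refine ⟨2, n, by norm_num, hn, ?_⟩
    exact locIsoEt_of_isoOver _ _
      (exists_cover _ _ (fun p => locFinal_symp hlam t h2 J hJ hJt hneg p (h p)))

end Groth.Agent.Lib.AzInvFinal16
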