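import Mathlib
import Groth.Prelude.Def_AzInv
import Groth.Prelude.Def_W4c2azumayainvolQEt

/-!
# Quadratic étale algebras with involution are Galois (helper16)

For `R` quadratic étale over `S` with an involution `lam` whose fixed ring is `S`
(`RInv.IsQuadEtale`, `RInv.IsFixedRing`), the separability idempotent `e ∈ R ⊗[S] R` satisfies
`e + (1 ⊗ lam) e = 1` and `μ((1 ⊗ lam) e) = 0`: `exists_galIdem`.  Equivalently
`R ⊗[S] R ≃ R × R`, `a ⊗ b ↦ (a b, a lam b)` (`gal`).  Also `etale_of_isQuadEtale`,
`faithfullyFlat_of_isQuadEtale`.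
-/

set_option autoImplicit false
set_option linter.style.haveILetI false

namespace Groth.Agent.Lib.AzInvQuad16
open TensorProduct

section galois
universe u v
variable {S : Type u} {R : Type v} [CommRing S] [CommRing R] [Algebra S R]
  (lam : R ≃ₐ[S] R)

/-- `1 ⊗ lam` on `R ⊗ R`. -/
noncomputable def L : R ⊗[S] R →ₐ[S] R ⊗[S] R :=
  Algebra.TensorProduct.map (AlgHom.id S R) lam.toAlgHom

@[simp] theorem L_tmul (a b : R) : L lam (a ⊗ₜ[S] b) = a ⊗ₜ[S] lam b := by
  simp [L]

theorem L_L (hlam : ∀ r, lam (lam r) = r) (z : R ⊗[S] R) : L lam (L lam z) = z := by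
  induction z using TensorProduct.induction_on with
  | zero => simp
  | add x y hx hy => rw [map_add, map_add, hx, hy]
  | tmul a b => simp [hlam]

/-- A Galois idempotent for `(R, lam)` over `S`. -/
structure GalIdem (e : R ⊗[S] R) : Prop where
  comm : ∀ r : R, (r ⊗ₜ[S] (1 : R)) * e = ((1 : R) ⊗ₜ[S] r) * e
  mul_e : Algebra.TensorProduct.lmul' S e = 1
  mul_Le : Algebra.TensorProduct.lmul' S (L lam e) = 0
  add : e + L lam e = 1

end galois

section galois
universe u v
variable {S : Type u} {R : Type v} [CommRing S] [CommRing R] [Algebra S R]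
  (lam : R ≃ₐ[S] R)

/-- `a ⊗ b ↦ a * lam b`. -/
noncomputable def psi : R ⊗[S] R →ₐ[R] R :=
  Algebra.TensorProduct.lift (AlgHom.id R R) lam.toAlgHom (fun _ _ => Commute.all _ _)

@[simp] theorem psi_tmul (a b : R) : psi lam (a ⊗ₜ[S] b) = a * lam b := by
  simp [psi]

theorem psi_eq (z : R ⊗[S] R) : psi lam z = Algebra.TensorProduct.lmul' S (L lam z) := by
  induction z using TensorProduct.induction_on with
  | zero => simp
  | add x y hx hy => rw [map_add, map_add, map_add, hx, hy]
  | tmul a b => simp

theorem mul_elem_eq [Algebra.FormallyUnramified S R] [Algebra.EssFiniteType S R] (z : R ⊗[S] R) :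
    z * Algebra.FormallyUnramified.elem S R =
      (Algebra.TensorProduct.lmul' S z ⊗ₜ[S] (1 : R)) * Algebra.FormallyUnramified.elem S R := by
  induction z using TensorProduct.induction_on with
  | zero => simp
  | add x y hx hy => rw [add_mul, hx, hy, map_add, add_tmul, add_mul]
  | tmul a b =>
    have h := Algebra.FormallyUnramified.one_tmul_mul_elem (R := S) (S := R) b
    calc (a ⊗ₜ[S] b) * Algebra.FormallyUnramified.elem S R
        = (a ⊗ₜ[S] (1 : R)) * (((1 : R) ⊗ₜ[S] b) * Algebra.FormallyUnramified.elem S R) := by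
          rw [← mul_assoc, Algebra.TensorProduct.tmul_mul_tmul, mul_one, one_mul]
      _ = _ := by
          rw [h, ← mul_assoc, Algebra.TensorProduct.tmul_mul_tmul, mul_one,
            Algebra.TensorProduct.lmul'_apply_tmul]

theorem elem_idem [Algebra.FormallyUnramified S R] [Algebra.EssFiniteType S R] :
    Algebra.FormallyUnramified.elem S R * Algebra.FormallyUnramified.elem S R =
      Algebra.FormallyUnramified.elem S R := by
  rw [mul_elem_eq, Algebra.FormallyUnramified.lmul_elem]
  exact one_mul _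

end galois

section galois
universe u v
variable {S : Type u} {R : Type v} [CommRing S] [CommRing R] [Algebra S R]
  (lam : R ≃ₐ[S] R)

theorem psi_elem_eq_zero (hlam : ∀ r, lam (lam r) = r)
    (hfix : RInv.IsFixedRing S R lam.toRingEquiv)
    [Module.Finite S R] [Module.Flat S R] [Algebra.FormallyUnramified S R]
    (hrank : ∀ p : PrimeSpectrum S, Module.rankAtStalk (R := S) R p = 2) :
    psi lam (Algebra.FormallyUnramified.elem S R) = 0 := by
  set e₀ := Algebra.FormallyUnramified.elem S R with he₀
  set ε := psi lam e₀ with hε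
  -- `(lam r - r) ε = 0`
  have h1 : ∀ r : R, lam r * ε = r * ε := by
    intro r
    have h := Algebra.FormallyUnramified.one_tmul_mul_elem (R := S) (S := R) r
    have h' := congrArg (psi lam) h
    rw [map_mul, map_mul, psi_tmul, psi_tmul, map_one, one_mul, mul_one] at h'
    exact h'
  have hidem : ε * ε = ε := by
    rw [hε, ← map_mul, he₀, elem_idem]
  have hlamε : lam ε = ε := by
    have h2 : lam ε * ε = ε := by rw [h1 ε, hidem]
    have h3 := congrArg lam h2
    rw [map_mul, hlam, mul_comm, h2] at h3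
    exact h3.symm
  have hfixed : ∀ r : R, ∃ s : S, algebraMap S R s = r * ε := by
    intro r
    have : lam (r * ε) = r * ε := by rw [map_mul, hlamε, h1]
    exact ((hfix.2 (r * ε)).1 this)
  obtain ⟨s₀, hs₀⟩ := hfixed 1
  rw [one_mul] at hs₀
  by_contra hne
  have hs₀ne : s₀ ≠ 0 := by
    rintro rfl
    exact hne (by rw [← hs₀, map_zero])
  have hs₀idem : s₀ * s₀ = s₀ := by
    apply hfix.1
    rw [map_mul, hs₀, hidem]
  -- a maximal ideal containing `1 - s₀`
  have hI : Ideal.span {1 - s₀} ≠ (⊤ : Ideal S) := by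
    intro htop
    have h1mem : (1 : S) ∈ Ideal.span {1 - s₀} := by rw [htop]; trivial
    obtain ⟨c, hc⟩ := Ideal.mem_span_singleton'.1 h1mem
    apply hs₀ne
    calc s₀ = (c * (1 - s₀)) * s₀ := by rw [hc, one_mul]
      _ = c * (s₀ - s₀ * s₀) := by ring
      _ = 0 := by rw [hs₀idem, sub_self, mul_zero]
  obtain ⟨m, hm, hle⟩ := Ideal.exists_le_maximal _ hI
  have hmem : 1 - s₀ ∈ m := hle (Ideal.mem_span_singleton_self _)
  haveI := hm.isPrime
  let p : PrimeSpectrum S := ⟨m, hm.isPrime⟩
  have hr := hrank p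
  rw [Module.rankAtStalk_eq] at hr
  -- the fibre is spanned by `1`
  have hκ : algebraMap S m.ResidueField s₀ = 1 := by
    have : algebraMap S m.ResidueField (1 - s₀) = 0 :=
      (Ideal.algebraMap_residueField_eq_zero).2 hmem
    rw [map_sub, map_one, sub_eq_zero] at this
    exact this.symm
  have hone : ((1 : m.ResidueField) ⊗ₜ[S] ε : m.ResidueField ⊗[S] R) = 1 := by
    rw [← hs₀, Algebra.algebraMap_eq_smul_one, ← TensorProduct.smul_tmul,
      ← Algebra.algebraMap_eq_smul_one, hκ]
    rfl
  let φ : m.ResidueField →ₗ[m.ResidueField] m.ResidueField ⊗[S] R :=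
    (Algebra.linearMap m.ResidueField (m.ResidueField ⊗[S] R))
  have hsurj : Function.Surjective φ := by
    intro x
    induction x using TensorProduct.induction_on with
    | zero => exact ⟨0, map_zero _⟩
    | add x y hx hy =>
      obtain ⟨a, rfl⟩ := hx
      obtain ⟨b, rfl⟩ := hy
      exact ⟨a + b, map_add _ _ _⟩
    | tmul c r =>
      obtain ⟨s, hs⟩ := hfixed r
      refine ⟨s • c, ?_⟩
      have : (c ⊗ₜ[S] r : m.ResidueField ⊗[S] R) = (c ⊗ₜ[S] r) * ((1 : m.ResidueField) ⊗ₜ[S] ε) := by
        rw [hone, mul_one]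
      rw [this, Algebra.TensorProduct.tmul_mul_tmul, mul_one, ← hs, Algebra.algebraMap_eq_smul_one,
        ← TensorProduct.smul_tmul]
      simp only [φ, Algebra.linearMap_apply, Algebra.TensorProduct.algebraMap_apply,
        Algebra.algebraMap_self_apply]
  have hle := LinearMap.finrank_le_finrank_of_surjective hsurj
  rw [Module.finrank_self] at hle
  change Module.finrank m.ResidueField (m.ResidueField ⊗[S] R) = 2 at hr
  omega

end galois

section galois
universe u v
variable {S : Type u} {R : Type v} [CommRing S] [CommRing R] [Algebra S R]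
  (lam : R ≃ₐ[S] R)

/-- the Galois map `a ⊗ b ↦ (a b, a lam b)` as a left-`R`-linear map -/
noncomputable def gal : R ⊗[S] R →ₗ[R] R × R :=
  (Algebra.TensorProduct.lmul'' S (S := R)).toLinearMap.prod (psi lam).toLinearMap

theorem gal_apply (z : R ⊗[S] R) :
    gal lam z = (Algebra.TensorProduct.lmul' S z, psi lam z) := rfl

theorem exists_galIdem (hlam : ∀ r, lam (lam r) = r)
    (hfix : RInv.IsFixedRing S R lam.toRingEquiv) (hq : RInv.IsQuadEtale S R) :
    ∃ e : R ⊗[S] R, GalIdem lam e := by
  obtain ⟨hfin, hproj, hunr, hrank⟩ := hq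
  haveI := hfin
  haveI := hproj
  haveI := hunr
  set e₀ := Algebra.FormallyUnramified.elem S R with he₀
  have h0 : psi lam e₀ = 0 := psi_elem_eq_zero lam hlam hfix hrank
  have h1 : Algebra.TensorProduct.lmul' S e₀ = 1 := Algebra.FormallyUnramified.lmul_elem
  have h2 : psi lam (L lam e₀) = 1 := by rw [psi_eq, L_L lam hlam, h1]
  have h3 : Algebra.TensorProduct.lmul' S (L lam e₀) = 0 := by rw [← psi_eq, h0]
  -- surjectivity of the Galois map
  have hsurj : Function.Surjective (gal lam) := by
    rintro ⟨a, b⟩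
    refine ⟨a • e₀ + b • L lam e₀, ?_⟩
    rw [map_add, map_smul, map_smul, gal_apply, gal_apply, h0, h1, h2, h3]
    simp
  have hbij : Function.Bijective (gal lam) := by
    apply Module.bijective_of_surjective_of_rankAtStalk_eq hsurj
    intro m hm
    haveI : Nontrivial R := ⟨⟨0, 1, fun h => hm.ne_top ((Ideal.eq_top_iff_one _).2 (h ▸ m.zero_mem))⟩⟩
    rw [Module.rankAtStalk_baseChange, hrank, Module.rankAtStalk_prod, Module.rankAtStalk_self]
    rfl
  refine ⟨e₀, ⟨fun r => (Algebra.FormallyUnramified.one_tmul_mul_elem (R := S) (S := R) r).symm,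
    h1, h3, ?_⟩⟩
  apply hbij.1
  rw [map_add, gal_apply, gal_apply, gal_apply, h0, h1, h2, h3, map_one, map_one]
  simp

theorem etale_of_isQuadEtale (hq : RInv.IsQuadEtale S R) : Algebra.Etale S R := by
  obtain ⟨hfin, hproj, hunr, hrank⟩ := hq
  haveI := hfin
  haveI := hproj
  haveI := hunr
  haveI : Module.FinitePresentation S R := Module.finitePresentation_of_projective S R
  exact Algebra.Etale.of_formallyUnramified_of_flat

theorem faithfullyFlat_of_isQuadEtale (hq : RInv.IsQuadEtale S R) : Module.FaithfullyFlat S R := by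
  obtain ⟨hfin, hproj, hunr, hrank⟩ := hq
  haveI := hfin
  haveI := hproj
  apply Module.FaithfullyFlat.of_comap_surjective
  rw [← PrimeSpectrum.rankAtStalk_pos_iff_comap_surjective]
  intro p
  rw [hrank]
  norm_num

end galois

end Groth.Agent.Lib.AzInvQuad16
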