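import Mathlib
import Groth.Agent.Lib.AzInvQuad16a
import Groth.Agent.Lib.AzInvUnitary16

/-!
# Galois descent trick for algebras with unitary involution (helper16)

Given a Galois idempotent `e` for `(R, lam)` over `S` (`GalIdem`), for every `R`-algebra `T` and
every `R`-algebra `A` with a `lam`-involution `t`:
`Psi : T ⊗[S] A ≃ₐ[T] (T ⊗[R] A) × (T ⊗[R] A)ᵐᵒᵖ`, `x ↦ (π x, op (π (σ x)))`, carrying `1 ⊗ t` to the
exchange involution.  Consequently (`isoOverS_of_algEquiv`) ANY `T`-algebra isomorphism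
`T ⊗[R] A₁ ≃ T ⊗[R] A₂` induces an isomorphism of algebras with involution
`T ⊗[S] A₁ ≃ T ⊗[S] A₂` (`IsoOverS`).
-/

set_option autoImplicit false
set_option linter.style.haveILetI false

namespace Groth.Agent.Lib.AzInvQuad16
open TensorProduct AzInv Groth.Agent.Lib.AzInvUnitary16

section psi
universe u v w
variable {S : Type u} {R : Type v} [CommRing S] [CommRing R] [Algebra S R]
  {lam : R ≃ₐ[S] R}
  (T : Type*) [CommRing T] [Algebra S T] [Algebra R T] [IsScalarTower S R T]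
  (A : Type w) [Ring A] [Algebra S A] [Algebra R A] [IsScalarTower S R A]

/-- `R ⊗ R → T ⊗ A`. -/
noncomputable def jT : R ⊗[S] R →ₐ[S] T ⊗[S] A :=
  Algebra.TensorProduct.map (IsScalarTower.toAlgHom S R T) (IsScalarTower.toAlgHom S R A)

@[simp] theorem jT_tmul (a b : R) :
    jT (S := S) T A (a ⊗ₜ[S] b) = algebraMap R T a ⊗ₜ[S] algebraMap R A b := by
  simp [jT]

theorem jT_comm (z : R ⊗[S] R) (x : T ⊗[S] A) : jT (S := S) T A z * x = x * jT (S := S) T A z := by
  induction z using TensorProduct.induction_on with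
  | zero => simp
  | add z z' hz hz' => rw [map_add, add_mul, mul_add, hz, hz']
  | tmul a b =>
    induction x using TensorProduct.induction_on with
    | zero => simp
    | add x x' hx hx' => rw [mul_add, add_mul, hx, hx']
    | tmul c d =>
      rw [jT_tmul, Algebra.TensorProduct.tmul_mul_tmul, Algebra.TensorProduct.tmul_mul_tmul,
        mul_comm, Algebra.commutes]

variable {A}
variable (t : AzInv.LamInv R A lam)

theorem bc_jT (z : R ⊗[S] R) :
    t.bc S lam T (jT (S := S) T A z) = jT (S := S) T A (L lam z) := by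
  induction z using TensorProduct.induction_on with
  | zero => simp
  | add z z' hz hz' => rw [map_add, map_add, map_add, map_add, hz, hz']
  | tmul a b => rw [jT_tmul, LamInv.bc_tmul, L_tmul, jT_tmul, t.map_algebraMap]

/-- the canonical surjection `T ⊗[S] A → T ⊗[R] A` -/
noncomputable def pi' : T ⊗[S] A →ₐ[T] T ⊗[R] A :=
  Algebra.TensorProduct.mapOfCompatibleSMul R S T T A

@[simp] theorem pi'_tmul (c : T) (a : A) : pi' (S := S) (R := R) T (A := A) (c ⊗ₜ[S] a) = c ⊗ₜ[R] a := rfl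

theorem pi'_surjective : Function.Surjective (pi' (S := S) (R := R) T (A := A)) :=
  Algebra.TensorProduct.mapOfCompatibleSMul_surjective R S T T A

theorem pi'_jT (z : R ⊗[S] R) :
    pi' (S := S) (R := R) T (A := A) (jT (S := S) T A z) =
      algebraMap T (T ⊗[R] A) (algebraMap R T (Algebra.TensorProduct.lmul' S z)) := by
  induction z using TensorProduct.induction_on with
  | zero => simp
  | add z z' hz hz' => rw [map_add, map_add, map_add, map_add, map_add, hz, hz']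
  | tmul a b =>
    rw [jT_tmul, pi'_tmul, Algebra.TensorProduct.lmul'_apply_tmul,
      Algebra.TensorProduct.algebraMap_apply, Algebra.algebraMap_self_apply, map_mul,
      Algebra.algebraMap_eq_smul_one b, TensorProduct.tmul_smul, TensorProduct.smul_tmul',
      Algebra.smul_def, mul_comm]

end psi

section psi
universe u v w
variable {S : Type u} {R : Type v} [CommRing S] [CommRing R] [Algebra S R]
  {lam : R ≃ₐ[S] R}
  (T : Type*) [CommRing T] [Algebra S T] [Algebra R T] [IsScalarTower S R T]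
  {A : Type w} [Ring A] [Algebra S A] [Algebra R A] [IsScalarTower S R A]

/-- `(c, a) ↦ E * (c ⊗ a)` as a biadditive map -/
noncomputable def mulTmul (E : T ⊗[S] A) : T →+ A →+ T ⊗[S] A :=
  AddMonoidHom.mk' (fun c => AddMonoidHom.mk' (fun a => E * (c ⊗ₜ[S] a))
    (fun a b => by rw [tmul_add, mul_add]))
    (fun c d => by ext a; simp [add_tmul, mul_add])

@[simp] theorem mulTmul_apply (E : T ⊗[S] A) (c : T) (a : A) :
    mulTmul T E c a = E * (c ⊗ₜ[S] a) := rfl

variable {e : R ⊗[S] R}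

theorem jT_e_mul_smul (he : GalIdem lam e) (r : R) (c : T) (a : A) :
    jT (S := S) T A e * ((r • c) ⊗ₜ[S] a) = jT (S := S) T A e * (c ⊗ₜ[S] (r • a)) := by
  have h1 : ((r • c) ⊗ₜ[S] a : T ⊗[S] A) = jT (S := S) T A (r ⊗ₜ[S] (1 : R)) * (c ⊗ₜ[S] a) := by
    rw [jT_tmul, map_one, Algebra.TensorProduct.tmul_mul_tmul, one_mul, Algebra.smul_def]
  have h2 : (c ⊗ₜ[S] (r • a) : T ⊗[S] A) = jT (S := S) T A ((1 : R) ⊗ₜ[S] r) * (c ⊗ₜ[S] a) := by
    rw [jT_tmul, map_one, Algebra.TensorProduct.tmul_mul_tmul, one_mul, Algebra.smul_def]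
  rw [h1, h2, ← mul_assoc, ← mul_assoc, ← map_mul, ← map_mul, mul_comm e, mul_comm e, he.comm]

/-- the section `T ⊗[R] A → T ⊗[S] A`, `c ⊗ a ↦ E * (c ⊗ a)` -/
noncomputable def sec (he : GalIdem lam e) : T ⊗[R] A →+ T ⊗[S] A :=
  TensorProduct.liftAddHom (mulTmul T (jT (S := S) T A e)) (fun r c a => jT_e_mul_smul T he r c a)

theorem sec_pi' (he : GalIdem lam e) (x : T ⊗[S] A) :
    sec T he (pi' (S := S) (R := R) T (A := A) x) = jT (S := S) T A e * x := by
  induction x using TensorProduct.induction_on with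
  | zero => simp
  | add x y hx hy => rw [map_add, map_add, hx, hy, mul_add]
  | tmul c a => rfl

end psi

section psi
universe u v w
variable {S : Type u} {R : Type v} [CommRing S] [CommRing R] [Algebra S R]
  {lam : R ≃ₐ[S] R}
  (T : Type*) [CommRing T] [Algebra S T] [Algebra R T] [IsScalarTower S R T]
  {A : Type w} [Ring A] [Algebra S A] [Algebra R A] [IsScalarTower S R A]
  (t : AzInv.LamInv R A lam)

/-- second component `x ↦ op (π (σ x))` -/
noncomputable def rho : T ⊗[S] A →ₐ[T] (T ⊗[R] A)ᵐᵒᵖ :=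
  AlgHom.ofLinearMap
    ((MulOpposite.opLinearEquiv T).toLinearMap ∘ₗ (pi' (S := S) (R := R) T (A := A)).toLinearMap ∘ₗ
      t.bc S lam T)
    (by simp [bc_one])
    (fun x y => by
      simp only [LinearMap.coe_comp, LinearEquiv.coe_coe, Function.comp_apply, AlgHom.toLinearMap_apply,
        MulOpposite.coe_opLinearEquiv]
      rw [bc_mul, map_mul, MulOpposite.op_mul])

@[simp] theorem rho_apply (x : T ⊗[S] A) :
    rho T t x = MulOpposite.op (pi' (S := S) (R := R) T (A := A) (t.bc S lam T x)) := rfl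

/-- `x ↦ (π x, op (π (σ x)))` -/
noncomputable def PsiHom : T ⊗[S] A →ₐ[T] (T ⊗[R] A) × (T ⊗[R] A)ᵐᵒᵖ :=
  AlgHom.prod (pi' (S := S) (R := R) T (A := A)) (rho T t)

@[simp] theorem PsiHom_apply (x : T ⊗[S] A) :
    PsiHom T t x = (pi' (S := S) (R := R) T (A := A) x,
      MulOpposite.op (pi' (S := S) (R := R) T (A := A) (t.bc S lam T x))) := rfl

variable {e : R ⊗[S] R}

theorem PsiHom_bijective (hlam : ∀ r, lam (lam r) = r) (he : GalIdem lam e) :
    Function.Bijective (PsiHom T t) := by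
  set E := jT (S := S) T A e with hE
  set E' := jT (S := S) T A (L lam e) with hE'
  have hsum : E + E' = 1 := by rw [hE, hE', ← map_add, he.add, map_one]
  have hσE : t.bc S lam T E = E' := bc_jT T t e
  have hσE' : t.bc S lam T E' = E := by rw [hE', bc_jT, L_L lam hlam]
  have hπE : pi' (S := S) (R := R) T (A := A) E = 1 := by
    rw [hE, pi'_jT, he.mul_e, map_one, map_one]
  have hπE' : pi' (S := S) (R := R) T (A := A) E' = 0 := by
    rw [hE', pi'_jT, he.mul_Le, map_zero, map_zero]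
  constructor
  · rw [injective_iff_map_eq_zero]
    intro x hx
    rw [PsiHom_apply, Prod.mk_eq_zero, MulOpposite.op_eq_zero_iff] at hx
    obtain ⟨h1, h2⟩ := hx
    have h3 : E * x = 0 := by rw [← sec_pi' T he, h1, map_zero]
    have h4 : E * t.bc S lam T x = 0 := by rw [← sec_pi' T he, h2, map_zero]
    have h5 : x * E' = 0 := by
      have := congrArg (t.bc S lam T) h4
      rwa [bc_mul, bc_bc, hσE, map_zero] at this
    have h6 : E' * x = 0 := by rw [hE', jT_comm, ← hE', h5]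
    calc x = (E + E') * x := by rw [hsum, one_mul]
      _ = 0 := by rw [add_mul, h3, h6, add_zero]
  · rintro ⟨v, w⟩
    obtain ⟨x, rfl⟩ := pi'_surjective (S := S) (R := R) T (A := A) v
    obtain ⟨y, hy⟩ := pi'_surjective (S := S) (R := R) T (A := A) w.unop
    refine ⟨E * x + t.bc S lam T y * E', ?_⟩
    rw [PsiHom_apply]
    refine Prod.ext ?_ ?_
    · simp only [map_add, map_mul, hπE, hπE', one_mul, mul_zero, add_zero]
    · simp only [map_add, bc_mul, bc_bc, hσE, hσE', map_mul, hπE, hπE', hy]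
      rw [mul_zero, one_mul, zero_add, MulOpposite.op_unop]

/-- `T ⊗[S] A ≃ (T ⊗[R] A) × (T ⊗[R] A)ᵐᵒᵖ` -/
noncomputable def Psi (hlam : ∀ r, lam (lam r) = r) (he : GalIdem lam e) :
    T ⊗[S] A ≃ₐ[T] (T ⊗[R] A) × (T ⊗[R] A)ᵐᵒᵖ :=
  AlgEquiv.ofBijective (PsiHom T t) (PsiHom_bijective T t hlam he)

@[simp] theorem Psi_apply (hlam : ∀ r, lam (lam r) = r) (he : GalIdem lam e) (x : T ⊗[S] A) :
    Psi T t hlam he x = (pi' (S := S) (R := R) T (A := A) x,
      MulOpposite.op (pi' (S := S) (R := R) T (A := A) (t.bc S lam T x))) := rfl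

end psi

section iso
universe u v w w'
variable (S : Type u) {R : Type v} [CommRing S] [CommRing R] [Algebra S R]
  (lam : R ≃ₐ[S] R)
  {A₁ : Type w} [Ring A₁] [Algebra S A₁] [Algebra R A₁] [IsScalarTower S R A₁]
  {A₂ : Type w'} [Ring A₂] [Algebra S A₂] [Algebra R A₂] [IsScalarTower S R A₂]
  (t₁ : AzInv.LamInv R A₁ lam) (t₂ : AzInv.LamInv R A₂ lam)

/-- `(A₁, t₁)` and `(A₂, t₂)` become isomorphic as `R`-algebras with involution over `T`. -/
def IsoOverS (T : Type*) [CommRing T] [Algebra S T] : Prop :=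
  ∃ f : T ⊗[S] A₁ ≃ₐ[T] T ⊗[S] A₂,
    (∀ (r : R) (x : T ⊗[S] A₁), f (((1 : T) ⊗ₜ[S] algebraMap R A₁ r) * x) =
      ((1 : T) ⊗ₜ[S] algebraMap R A₂ r) * f x) ∧
    ∀ x : T ⊗[S] A₁, f (t₁.bc S lam T x) = t₂.bc S lam T (f x)

variable {S lam}
variable {e : R ⊗[S] R} (T : Type*) [CommRing T] [Algebra S T] [Algebra R T] [IsScalarTower S R T]

theorem Psi_bc {A : Type w} [Ring A] [Algebra S A] [Algebra R A] [IsScalarTower S R A]
    (t : AzInv.LamInv R A lam) (hlam : ∀ r, lam (lam r) = r) (he : GalIdem lam e)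
    (x : T ⊗[S] A) :
    Psi T t hlam he (t.bc S lam T x) =
      ((Psi T t hlam he x).2.unop, MulOpposite.op (Psi T t hlam he x).1) := by
  rw [Psi_apply, Psi_apply, bc_bc]
  rfl

theorem Psi_smul {A : Type w} [Ring A] [Algebra S A] [Algebra R A] [IsScalarTower S R A]
    (t : AzInv.LamInv R A lam) (hlam : ∀ r, lam (lam r) = r) (he : GalIdem lam e)
    (r : R) (x : T ⊗[S] A) :
    Psi T t hlam he (((1 : T) ⊗ₜ[S] algebraMap R A r) * x) =
      (algebraMap R T r • (Psi T t hlam he x).1, algebraMap R T (lam r) • (Psi T t hlam he x).2) := by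
  have h1 : pi' (S := S) (R := R) T (A := A) ((1 : T) ⊗ₜ[S] algebraMap R A r) =
      algebraMap T (T ⊗[R] A) (algebraMap R T r) := by
    rw [pi'_tmul, Algebra.TensorProduct.algebraMap_apply, Algebra.algebraMap_self_apply,
      Algebra.algebraMap_eq_smul_one r, TensorProduct.tmul_smul, TensorProduct.smul_tmul',
      Algebra.algebraMap_eq_smul_one]
  have h2 : pi' (S := S) (R := R) T (A := A) ((1 : T) ⊗ₜ[S] algebraMap R A (lam r)) =
      algebraMap T (T ⊗[R] A) (algebraMap R T (lam r)) := by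
    rw [pi'_tmul, Algebra.TensorProduct.algebraMap_apply, Algebra.algebraMap_self_apply,
      Algebra.algebraMap_eq_smul_one (lam r), TensorProduct.tmul_smul, TensorProduct.smul_tmul',
      Algebra.algebraMap_eq_smul_one]
  rw [Psi_apply, Psi_apply, map_mul, h1, bc_mul, LamInv.bc_tmul, t.map_algebraMap, map_mul, h2]
  refine Prod.ext ?_ ?_
  · simp only [Algebra.smul_def]
  · simp only
    rw [← MulOpposite.op_smul, Algebra.smul_def, Algebra.commutes]

end iso

section iso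
universe u v w w'
variable {S : Type u} {R : Type v} [CommRing S] [CommRing R] [Algebra S R]
  {lam : R ≃ₐ[S] R}
  {A₁ : Type w} [Ring A₁] [Algebra S A₁] [Algebra R A₁] [IsScalarTower S R A₁]
  {A₂ : Type w'} [Ring A₂] [Algebra S A₂] [Algebra R A₂] [IsScalarTower S R A₂]
  (t₁ : AzInv.LamInv R A₁ lam) (t₂ : AzInv.LamInv R A₂ lam)
  {e : R ⊗[S] R} (T : Type*) [CommRing T] [Algebra S T] [Algebra R T] [IsScalarTower S R T]

/-- **Galois descent trick**: if `R ⊗_S R = R × R` via `lam`, then any `T`-algebra isomorphism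
`T ⊗_R A₁ ≃ T ⊗_R A₂` (no condition on the involutions!) induces an isomorphism of algebras
with involution `T ⊗_S A₁ ≃ T ⊗_S A₂`. -/
theorem isoOverS_of_algEquiv (hlam : ∀ r, lam (lam r) = r) (he : GalIdem lam e)
    (g : T ⊗[R] A₁ ≃ₐ[T] T ⊗[R] A₂) : IsoOverS S lam t₁ t₂ T := by
  let Ψ₁ := Psi T t₁ hlam he
  let Ψ₂ := Psi T t₂ hlam he
  let G : ((T ⊗[R] A₁) × (T ⊗[R] A₁)ᵐᵒᵖ) ≃ₐ[T] ((T ⊗[R] A₂) × (T ⊗[R] A₂)ᵐᵒᵖ) :=
    AlgEquiv.prodCongr g (AlgEquiv.op g)
  have hG : ∀ v : (T ⊗[R] A₁) × (T ⊗[R] A₁)ᵐᵒᵖ, G v = (g v.1, MulOpposite.op (g v.2.unop)) :=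
    fun v => rfl
  have h1s : ∀ (r : R) (y : T ⊗[S] A₁), Ψ₁ (((1 : T) ⊗ₜ[S] algebraMap R A₁ r) * y) =
      (algebraMap R T r • (Ψ₁ y).1, algebraMap R T (lam r) • (Ψ₁ y).2) :=
    fun r y => Psi_smul T t₁ hlam he r y
  have h2s : ∀ (r : R) (y : T ⊗[S] A₂), Ψ₂ (((1 : T) ⊗ₜ[S] algebraMap R A₂ r) * y) =
      (algebraMap R T r • (Ψ₂ y).1, algebraMap R T (lam r) • (Ψ₂ y).2) :=
    fun r y => Psi_smul T t₂ hlam he r y
  have h1b : ∀ y : T ⊗[S] A₁, Ψ₁ (t₁.bc S lam T y) = ((Ψ₁ y).2.unop, MulOpposite.op (Ψ₁ y).1) :=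
    fun y => Psi_bc T t₁ hlam he y
  have h2b : ∀ y : T ⊗[S] A₂, Ψ₂ (t₂.bc S lam T y) = ((Ψ₂ y).2.unop, MulOpposite.op (Ψ₂ y).1) :=
    fun y => Psi_bc T t₂ hlam he y
  refine ⟨Ψ₁.trans (G.trans Ψ₂.symm), fun r x => ?_, fun x => ?_⟩
  · apply Ψ₂.injective
    have hy : Ψ₂ (Ψ₂.symm (G (Ψ₁ x))) = G (Ψ₁ x) := AlgEquiv.apply_symm_apply _ _
    simp only [AlgEquiv.trans_apply]
    rw [AlgEquiv.apply_symm_apply, h2s, hy, h1s, hG, hG]
    simp only [map_smul, MulOpposite.unop_smul, MulOpposite.op_smul]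
  · apply Ψ₂.injective
    have hy : Ψ₂ (Ψ₂.symm (G (Ψ₁ x))) = G (Ψ₁ x) := AlgEquiv.apply_symm_apply _ _
    simp only [AlgEquiv.trans_apply]
    rw [AlgEquiv.apply_symm_apply, h2b, hy, h1b, hG, hG]
    rfl

end iso

end Groth.Agent.Lib.AzInvQuad16
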