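import Mathlib
import Groth.Agent.Lib.AzInvQuad16b
import Groth.Agent.Lib.AzInvUnitary16c
import Groth.Agent.Lib.AzInvCover16
import Groth.Agent.Lib.AzInvLocal16
import Groth.Agent.Lib.AzInvStd16

/-!
# The unramified case: a single type (helper16)

`IsoOverS.of_algEquiv` (transport along an isomorphism of covers), `isoOverS_pi`,
`locIsoEt_of_forall` (étale-local isomorphisms near every prime of `S` glue to `LocIsoEt`),
`exists_small_model` (finite type algebras have models in the universe of the base) and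
`locIsoEt_matrix_of_isQuadEtale` (= S17354).
-/

set_option autoImplicit false
set_option linter.style.haveILetI false

namespace Groth.Agent.Lib.AzInvQuad16
open TensorProduct AzInv Groth.Agent.Lib.AzInvUnitary16 Groth.Agent.Lib.AzInvInner16
  Groth.Agent.Lib.AzInvCover16 Groth.Agent.Lib.AzInvLocal16 Groth.Agent.Lib.AzInvStd16

section transport
universe u v w w'
variable {S : Type u} {R : Type v} [CommRing S] [CommRing R] [Algebra S R]
  {lam : R ≃ₐ[S] R}
  {A₁ : Type w} [Ring A₁] [Algebra S A₁] [Algebra R A₁] [IsScalarTower S R A₁]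
  {A₂ : Type w'} [Ring A₂] [Algebra S A₂] [Algebra R A₂] [IsScalarTower S R A₂]
  (t₁ : AzInv.LamInv R A₁ lam) (t₂ : AzInv.LamInv R A₂ lam)

theorem congr_bc {A : Type w} [Ring A] [Algebra S A] [Algebra R A] [IsScalarTower S R A]
    (t : AzInv.LamInv R A lam) {T T' : Type*} [CommRing T] [Algebra S T] [CommRing T'] [Algebra S T']
    (c : T' ≃ₐ[S] T) (x : T' ⊗[S] A) :
    Algebra.TensorProduct.congr c (AlgEquiv.refl : A ≃ₐ[S] A) (t.bc S lam T' x) =
      t.bc S lam T (Algebra.TensorProduct.congr c (AlgEquiv.refl : A ≃ₐ[S] A) x) := by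
  induction x using TensorProduct.induction_on with
  | zero => simp
  | add x y hx hy => simp only [map_add, hx, hy]
  | tmul a b => simp

theorem IsoOverS.of_algEquiv {T T' : Type*} [CommRing T] [Algebra S T] [CommRing T'] [Algebra S T']
    (c : T' ≃ₐ[S] T) (h : IsoOverS S lam t₁ t₂ T) : IsoOverS S lam t₁ t₂ T' := by
  obtain ⟨f, hf1, hf2⟩ := h
  let c₁ : T' ⊗[S] A₁ ≃ₐ[S] T ⊗[S] A₁ := Algebra.TensorProduct.congr c AlgEquiv.refl
  let c₂ : T' ⊗[S] A₂ ≃ₐ[S] T ⊗[S] A₂ := Algebra.TensorProduct.congr c AlgEquiv.refl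
  let F : T' ⊗[S] A₁ ≃+* T' ⊗[S] A₂ :=
    c₁.toRingEquiv.trans (f.toRingEquiv.trans c₂.symm.toRingEquiv)
  have hF : ∀ x, c₂ (F x) = f (c₁ x) := by
    intro x
    simp only [F, RingEquiv.trans_apply]
    change c₂ (c₂.symm _) = _
    rw [AlgEquiv.apply_symm_apply]
    rfl
  have hc₁ : ∀ (a : T') (b : A₁), c₁ (a ⊗ₜ[S] b) = c a ⊗ₜ[S] b := fun a b => by simp [c₁]
  have hc₂ : ∀ (a : T') (b : A₂), c₂ (a ⊗ₜ[S] b) = c a ⊗ₜ[S] b := fun a b => by simp [c₂]
  refine ⟨AlgEquiv.ofRingEquiv (f := F) (fun a => ?_), fun r x => ?_, fun x => ?_⟩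
  · apply c₂.injective
    rw [hF, Algebra.TensorProduct.algebraMap_apply, Algebra.TensorProduct.algebraMap_apply,
      Algebra.algebraMap_self_apply, hc₁, hc₂]
    have := f.commutes (c a)
    rwa [Algebra.TensorProduct.algebraMap_apply, Algebra.TensorProduct.algebraMap_apply,
      Algebra.algebraMap_self_apply] at this
  · apply c₂.injective
    change c₂ (F _) = c₂ (_ * F x)
    have e1 : c₁ (((1 : T') ⊗ₜ[S] algebraMap R A₁ r) * x) =
        ((1 : T) ⊗ₜ[S] algebraMap R A₁ r) * c₁ x := by rw [map_mul, hc₁, map_one]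
    have e2 : c₂ (((1 : T') ⊗ₜ[S] algebraMap R A₂ r) * F x) =
        ((1 : T) ⊗ₜ[S] algebraMap R A₂ r) * c₂ (F x) := by rw [map_mul, hc₂, map_one]
    rw [hF, e1, e2, hf1, hF]
  · apply c₂.injective
    change c₂ (F _) = c₂ (t₂.bc S lam T' (F x))
    rw [hF, congr_bc t₂ c, hF, ← hf2]
    congr 1
    exact congr_bc t₁ c x

end transport

section glue
universe u v w w' x
variable {S : Type u} {R : Type v} [CommRing S] [CommRing R] [Algebra S R]
  {lam : R ≃ₐ[S] R}
  {A₁ : Type w} [Ring A₁] [Algebra S A₁] [Algebra R A₁] [IsScalarTower S R A₁]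
  {A₂ : Type w'} [Ring A₂] [Algebra S A₂] [Algebra R A₂] [IsScalarTower S R A₂]
  (t₁ : AzInv.LamInv R A₁ lam) (t₂ : AzInv.LamInv R A₂ lam)

theorem isoOverS_pi {ι : Type*} [Fintype ι] [DecidableEq ι] (T : ι → Type x) [∀ i, CommRing (T i)]
    [∀ i, Algebra S (T i)] (h : ∀ i, IsoOverS S lam t₁ t₂ (T i)) :
    IsoOverS S lam t₁ t₂ (∀ i, T i) := by
  choose f hf1 hf2 using h
  let e₁ := piLeft (S := S) (A := A₁) T
  let e₂ := piLeft (S := S) (A := A₂) T
  let F : (∀ i, T i) ⊗[S] A₁ ≃+* (∀ i, T i) ⊗[S] A₂ :=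
    e₁.toRingEquiv.trans ((RingEquiv.piCongrRight fun i => (f i).toRingEquiv).trans
      e₂.symm.toRingEquiv)
  have hF : ∀ y, e₂ (F y) = fun i => f i (e₁ y i) := by
    intro y
    simp only [F, RingEquiv.trans_apply]
    change e₂ (e₂.symm _) = _
    rw [AlgEquiv.apply_symm_apply]
    rfl
  have he₁ : ∀ (a : ∀ i, T i) (b : A₁), e₁ (a ⊗ₜ[S] b) = fun i => a i ⊗ₜ[S] b := by
    intro a b
    funext i
    simp only [e₁, piLeft_apply]
    simp
  have he₂ : ∀ (a : ∀ i, T i) (b : A₂), e₂ (a ⊗ₜ[S] b) = fun i => a i ⊗ₜ[S] b := by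
    intro a b
    funext i
    simp only [e₂, piLeft_apply]
    simp
  refine ⟨AlgEquiv.ofRingEquiv (f := F) (fun a => ?_), fun r y => ?_, fun y => ?_⟩
  · apply e₂.injective
    rw [hF, Algebra.TensorProduct.algebraMap_apply, Algebra.TensorProduct.algebraMap_apply,
      Algebra.algebraMap_self_apply, he₁, he₂]
    funext i
    have := (f i).commutes (a i)
    rwa [Algebra.TensorProduct.algebraMap_apply, Algebra.TensorProduct.algebraMap_apply,
      Algebra.algebraMap_self_apply] at this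
  · apply e₂.injective
    change e₂ (F _) = e₂ (_ * F y)
    have e1' : e₁ (((1 : ∀ i, T i) ⊗ₜ[S] algebraMap R A₁ r) * y) =
        fun i => ((1 : T i) ⊗ₜ[S] algebraMap R A₁ r) * e₁ y i := by
      rw [map_mul, he₁]
      rfl
    have e2' : e₂ (((1 : ∀ i, T i) ⊗ₜ[S] algebraMap R A₂ r) * F y) =
        fun i => ((1 : T i) ⊗ₜ[S] algebraMap R A₂ r) * e₂ (F y) i := by
      rw [map_mul, he₂]
      rfl
    rw [hF, e1', e2', hF]
    funext i
    exact hf1 i r _
  · apply e₂.injective
    change e₂ (F _) = e₂ (t₂.bc S lam (∀ i, T i) (F y))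
    rw [hF]
    funext i
    simp only [e₁, e₂, piLeft_apply]
    rw [bc_pi_apply, hf2, bc_pi_apply]
    congr 1
    have := congrFun (hF y) i
    simp only [e₁, e₂, piLeft_apply] at this
    exact this.symm

end glue

section cover
universe u v w w'
variable {S : Type u} {R : Type v} [CommRing S] [CommRing R] [Algebra S R]
  {lam : R ≃ₐ[S] R}
  {A₁ : Type w} [Ring A₁] [Algebra S A₁] [Algebra R A₁] [IsScalarTower S R A₁]
  {A₂ : Type w'} [Ring A₂] [Algebra S A₂] [Algebra R A₂] [IsScalarTower S R A₂]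
  (t₁ : AzInv.LamInv R A₁ lam) (t₂ : AzInv.LamInv R A₂ lam)

/-- Étale-local isomorphisms near every prime of `S` glue to `LocIsoEt`. -/
theorem locIsoEt_of_forall
    (hloc : ∀ p : PrimeSpectrum S, ∃ (T : Type u) (_ : CommRing T) (_ : Algebra S T),
      Algebra.Etale S T ∧ p ∈ Set.range (PrimeSpectrum.comap (algebraMap S T)) ∧
        IsoOverS S lam t₁ t₂ T) :
    AzInv.LocIsoEt S lam t₁ t₂ := by
  classical
  choose T iC iA hE hmem hIso using hloc
  letI : ∀ p, CommRing (T p) := iC
  letI : ∀ p, Algebra S (T p) := iA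
  haveI : ∀ p, Algebra.Etale S (T p) := hE
  obtain ⟨s, hs⟩ := isCompact_univ.elim_finite_subcover
    (fun p => Set.range (PrimeSpectrum.comap (algebraMap S (T p))))
    (fun p => isOpen_range_comap (T p)) (fun p _ => Set.mem_iUnion.2 ⟨p, hmem p⟩)
  haveI : Module.Flat S (∀ i : s, T i.1) :=
    Module.Flat.of_linearEquiv
      (DirectSum.linearEquivFunOnFintype S s (fun i : s => T i.1)).symm
  have hff : Module.FaithfullyFlat S (∀ i : s, T i.1) := by
    apply Module.FaithfullyFlat.of_comap_surjective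
    intro q
    have hq := hs (Set.mem_univ q)
    simp only [Set.mem_iUnion] at hq
    obtain ⟨p, hp, q', hq'⟩ := hq
    refine ⟨PrimeSpectrum.comap (Pi.evalRingHom (fun i : s => T i.1) ⟨p, hp⟩) q', ?_⟩
    rw [← hq']
    rfl
  obtain ⟨f, hf1, hf2⟩ := isoOverS_pi t₁ t₂ (fun i : s => T i.1) (fun i => hIso i.1)
  exact ⟨∀ i : s, T i.1, inferInstance, inferInstance, inferInstance, hff, f, hf1, hf2⟩

end cover

section shrink
universe u v
variable (S : Type u) [CommRing S] (T : Type v) [CommRing T] [Algebra S T]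

/-- a finite type algebra has a model in the universe of the base -/
theorem exists_small_model [Algebra.FiniteType S T] :
    ∃ (T' : Type u) (_ : CommRing T') (_ : Algebra S T'), Nonempty (T' ≃ₐ[S] T) := by
  obtain ⟨n, f, hf⟩ := Algebra.FiniteType.iff_quotient_mvPolynomial''.1
    (inferInstance : Algebra.FiniteType S T)
  exact ⟨MvPolynomial (Fin n) S ⧸ RingHom.ker f.toRingHom, inferInstance, inferInstance,
    ⟨Ideal.quotientKerAlgEquivOfSurjective hf⟩⟩

end shrink

section one
universe v w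
variable (R : Type v) [CommRing R] (A : Type w) [Ring A] [Algebra R A]

/-- `M_1(A) ≃ A` with the standard `Fin 1` instances. -/
def oneAlgEquiv : Matrix (Fin 1) (Fin 1) A ≃ₐ[R] A where
  toFun M := M 0 0
  invFun a := Matrix.of fun _ _ => a
  left_inv M := by
    ext i j
    rw [Subsingleton.elim i 0, Subsingleton.elim j 0]
    rfl
  right_inv a := rfl
  map_mul' M N := by simp [Matrix.mul_apply]
  map_add' M N := rfl
  commutes' r := by simp [Matrix.algebraMap_matrix_apply]

end one

section final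
universe u v w
variable {S : Type u} {R : Type v} [CommRing S] [CommRing R] [Algebra S R]
  (lam : R ≃ₐ[S] R) (hlam : ∀ r, lam (lam r) = r)
  {A : Type w} [Ring A] [Algebra S A] [Algebra R A] [IsScalarTower S R A]

/-- In the quadratic étale (unramified) case every `lam`-involution on an Azumaya algebra of degree
`n` is étale locally (on `S`) isomorphic to the `lam`-transpose on `M_n(R)`. -/
theorem locIsoEt_matrix_of_isQuadEtale (hfix : RInv.IsFixedRing S R lam.toRingEquiv)
    (hq : RInv.IsQuadEtale S R) (n : ℕ) (hA : AzInv.IsAzumayaDeg R A n)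
    (t : AzInv.LamInv R A lam) :
    AzInv.LocIsoEt S lam (t.matrix (Fin 1))
      ((AzInv.LamInv.self lam hlam).matrix (Fin n)) := by
  obtain ⟨e, he⟩ := exists_galIdem lam hlam hfix hq
  haveI hetR : Algebra.Etale S R := etale_of_isQuadEtale hq
  haveI hffR : Module.FaithfullyFlat S R := faithfullyFlat_of_isQuadEtale hq
  apply locIsoEt_of_forall
  intro p
  obtain ⟨q, hq'⟩ := PrimeSpectrum.comap_surjective_of_faithfullyFlat (A := S) (B := R) p
  obtain ⟨T, _, _, hetT, q', hq'', ⟨ψ⟩⟩ := exists_split hA q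
  letI : Algebra S T := ((algebraMap R T).comp (algebraMap S R)).toAlgebra
  haveI : IsScalarTower S R T := IsScalarTower.of_algebraMap_eq (fun _ => rfl)
  haveI := hetT
  haveI hetST : Algebra.Etale S T := Algebra.Etale.comp S R T
  -- the algebra isomorphism over `T`
  let g : T ⊗[R] Matrix (Fin 1) (Fin 1) A ≃ₐ[T] T ⊗[R] Matrix (Fin n) (Fin n) R :=
    (Algebra.TensorProduct.congr (AlgEquiv.refl : T ≃ₐ[T] T)
      (oneAlgEquiv R A)).trans
      (ψ.trans (matBC R T (Fin n)).symm)
  have hiso : IsoOverS S lam (t.matrix (Fin 1)) ((AzInv.LamInv.self lam hlam).matrix (Fin n)) T :=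
    isoOverS_of_algEquiv _ _ T hlam he g
  -- shrink the universe
  obtain ⟨T', _, _, ⟨c⟩⟩ := exists_small_model S T
  haveI : Algebra.Etale S T' := Algebra.Etale.of_equiv c.symm
  refine ⟨T', inferInstance, inferInstance, inferInstance, ?_, hiso.of_algEquiv _ _ c⟩
  refine ⟨PrimeSpectrum.comap (c : T' →+* T) q', ?_⟩
  rw [← hq', ← hq'']
  apply PrimeSpectrum.ext
  change Ideal.comap (algebraMap S T') (Ideal.comap (c : T' →+* T) q'.asIdeal) =
    Ideal.comap (algebraMap S R) (Ideal.comap (algebraMap R T) q'.asIdeal)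
  rw [Ideal.comap_comap, Ideal.comap_comap]
  congr 1
  ext s
  simp [IsScalarTower.algebraMap_apply S R T]

end final

end Groth.Agent.Lib.AzInvQuad16
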