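import Mathlib.RingTheory.AdjoinRoot
import Mathlib.RingTheory.Polynomial.Basic
import Mathlib.RingTheory.Nakayama
import Mathlib.Algebra.Ring.GeomSum
import Mathlib.Tactic.LinearCombination

/-!
Gabber's criterion from idempotent lifting: if idempotents lift from `B/IB` to `B` for the
monogenic algebras `B = A[T]/(p)`, `p ≡ (T^2 - T)^m` mod `I`, then every polynomial
`T^n (T - 1) + (coefficients in I)` has a root congruent to `1` modulo `I`.
-/

set_option autoImplicit false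
universe u
open Polynomial

namespace Groth.Agent.Lib.GabberIdem

variable {A : Type u} [CommRing A]

theorem mem_mapC_iff_map_eq_zero (I : Ideal A) (g : A[X]) :
    g ∈ Ideal.map (C : A →+* A[X]) I ↔ g.map (Ideal.Quotient.mk I) = 0 := by
  rw [Ideal.mem_map_C_iff]
  constructor
  · intro h
    ext k
    rw [coeff_map, coeff_zero, Ideal.Quotient.eq_zero_iff_mem]
    exact h k
  · intro h k
    have := congrArg (fun q => q.coeff k) h
    simp only [coeff_map, coeff_zero] at this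
    exact Ideal.Quotient.eq_zero_iff_mem.mp this

theorem map_algebraMap_eq (I : Ideal A) (f : A[X]) :
    Ideal.map (algebraMap A (AdjoinRoot f)) I =
      Ideal.map (AdjoinRoot.mk f) (Ideal.map (C : A →+* A[X]) I) := by
  rw [Ideal.map_map]
  rfl

theorem mk_mem_of_mem_mapC (I : Ideal A) (f g : A[X]) (hg : g ∈ Ideal.map (C : A →+* A[X]) I) :
    AdjoinRoot.mk f g ∈ Ideal.map (algebraMap A (AdjoinRoot f)) I := by
  rw [map_algebraMap_eq]
  exact Ideal.mem_map_of_mem _ hg

theorem exists_of_mk_mem (I : Ideal A) (f g : A[X])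
    (hg : AdjoinRoot.mk f g ∈ Ideal.map (algebraMap A (AdjoinRoot f)) I) :
    ∃ r ∈ Ideal.map (C : A →+* A[X]) I, f ∣ g - r := by
  rw [map_algebraMap_eq] at hg
  obtain ⟨r, hr, hrg⟩ := (Ideal.mem_map_iff_of_surjective _ AdjoinRoot.mk_surjective).mp hg
  exact ⟨r, hr, AdjoinRoot.mk_eq_mk.mp hrg.symm⟩

theorem modByMonic_mem_mapC (I : Ideal A) (f r : A[X]) (hf : f.Monic)
    (hr : r ∈ Ideal.map (C : A →+* A[X]) I) : r %ₘ f ∈ Ideal.map (C : A →+* A[X]) I := by
  rw [mem_mapC_iff_map_eq_zero] at hr ⊢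
  rw [map_modByMonic _ hf, hr, zero_modByMonic]

/-- The polynomial `u = (1 - (1 - X)^n)^n`. -/
noncomputable def uPoly (A : Type u) [CommRing A] (n : ℕ) : A[X] := (1 - (1 - X) ^ n) ^ n

theorem X_pow_dvd_uPoly (n : ℕ) : (X : A[X]) ^ n ∣ uPoly A n := by
  apply pow_dvd_pow_of_dvd
  have := sub_dvd_pow_sub_pow (1 : A[X]) (1 - X) n
  rwa [one_pow, sub_sub_cancel] at this

theorem one_sub_X_pow_dvd_one_sub_uPoly (n : ℕ) : ((1 : A[X]) - X) ^ n ∣ 1 - uPoly A n := by
  have := sub_dvd_pow_sub_pow (1 : A[X]) (1 - (1 - X) ^ n) n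
  rwa [one_pow, sub_sub_cancel] at this

theorem sq_sub_pow_dvd (n : ℕ) : ((X : A[X]) ^ 2 - X) ^ n ∣ uPoly A n ^ 2 - uPoly A n := by
  have h1 : (X : A[X]) ^ n * (1 - X) ^ n ∣ uPoly A n * (1 - uPoly A n) :=
    mul_dvd_mul (X_pow_dvd_uPoly n) (one_sub_X_pow_dvd_one_sub_uPoly n)
  have h2 : ((X : A[X]) ^ 2 - X) ^ n ∣ (X : A[X]) ^ n * (1 - X) ^ n := by
    rw [← mul_pow]
    apply pow_dvd_pow_of_dvd
    have : (X : A[X]) * (1 - X) = -(X ^ 2 - X) := by ring
    rw [this]
    exact (dvd_neg).mpr dvd_rfl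
  have h3 : uPoly A n ^ 2 - uPoly A n = -(uPoly A n * (1 - uPoly A n)) := by ring
  rw [h3]
  exact (dvd_neg).mpr (h2.trans h1)

theorem X_pow_mul_dvd (n : ℕ) (hn : 0 < n) :
    (X : A[X]) ^ n * (X - 1) ∣ uPoly A n - X ^ n := by
  have hcop : IsCoprime ((X : A[X]) ^ n) (X - 1) := by
    apply IsCoprime.pow_left
    exact ⟨1, -1, by ring⟩
  apply hcop.mul_dvd
  · exact dvd_sub (X_pow_dvd_uPoly n) dvd_rfl
  · have h1 : (X - 1 : A[X]) = X - C 1 := by simp
    rw [h1, dvd_iff_isRoot]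
    simp [uPoly, IsRoot, hn.ne']

theorem gabber_isMonic (n : ℕ) (pp : A[X]) (hpp : pp.natDegree ≤ n) :
    (X ^ n * (X - 1) + pp : A[X]).Monic := by
  have h1 : (X ^ n * (X - 1) + pp : A[X]) = X ^ (n + 1) + (pp - X ^ n) := by ring
  have hdeg : (pp - X ^ n : A[X]).degree < ((n + 1 : ℕ) : WithBot ℕ) := by
    have h2 : (pp - X ^ n : A[X]).degree ≤ (n : WithBot ℕ) := by
      refine (degree_sub_le _ _).trans (max_le ?_ ?_)
      · exact (degree_le_natDegree).trans (by exact_mod_cast hpp)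
      · exact degree_X_pow_le n
    exact lt_of_le_of_lt h2 (by exact_mod_cast Nat.lt_succ_self n)
  rw [h1]
  exact monic_X_pow_add hdeg

theorem gabber_monic [Nontrivial A] (n : ℕ) (pp : A[X]) (hpp : pp.natDegree ≤ n) :
    (X ^ n * (X - 1) + pp : A[X]).Monic ∧ (X ^ n * (X - 1) + pp : A[X]).natDegree = n + 1 := by
  have h1 : (X ^ n * (X - 1) + pp : A[X]) = X ^ (n + 1) + (pp - X ^ n) := by ring
  have hdeg : (pp - X ^ n : A[X]).degree < ((n + 1 : ℕ) : WithBot ℕ) := by
    have h2 : (pp - X ^ n : A[X]).degree ≤ (n : WithBot ℕ) := by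
      refine (degree_sub_le _ _).trans (max_le ?_ ?_)
      · exact (degree_le_natDegree).trans (by exact_mod_cast hpp)
      · exact degree_X_pow_le n
    exact lt_of_le_of_lt h2 (by exact_mod_cast Nat.lt_succ_self n)
  rw [h1]
  refine ⟨monic_X_pow_add hdeg, ?_⟩
  rw [natDegree_add_eq_left_of_degree_lt, natDegree_X_pow]
  rwa [degree_X_pow]

theorem gabber_big_monic (n : ℕ) (pp : A[X]) (hpp : pp.natDegree ≤ n) :
    ((X ^ n * (X - 1) + pp) * (X - 1) ^ (n - 1) : A[X]).Monic := by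
  have hX1 : (X - 1 : A[X]) = X - C 1 := by simp
  refine (gabber_isMonic n pp hpp).mul ?_
  rw [hX1]
  exact (monic_X_sub_C 1).pow _

theorem gabber_big_sub_mem (I : Ideal A) (n : ℕ) (hn : 0 < n) (pp : A[X])
    (hppI : ∀ i, pp.coeff i ∈ I) :
    (X ^ 2 - X) ^ n - (X ^ n * (X - 1) + pp) * (X - 1) ^ (n - 1) ∈
      Ideal.map (C : A →+* A[X]) I := by
  have hppC : pp ∈ Ideal.map (C : A →+* A[X]) I := Ideal.mem_map_C_iff.mpr hppI
  have h0 : (X ^ 2 - X : A[X]) ^ n - (X ^ n * (X - 1) + pp) * (X - 1) ^ (n - 1) =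
      - (pp * (X - 1) ^ (n - 1)) := by
    have h1 : (X ^ 2 - X : A[X]) ^ n = X ^ n * (X - 1) * (X - 1) ^ (n - 1) := by
      have h2 : (X ^ 2 - X : A[X]) = X * (X - 1) := by ring
      rw [h2, mul_pow, mul_assoc, ← pow_succ', Nat.sub_add_cancel hn]
    rw [h1]; ring
  rw [h0]
  exact Submodule.neg_mem _ (Ideal.mul_mem_right _ _ hppC)

theorem gabber_big_map (I : Ideal A) (n : ℕ) (hn : 0 < n) (pp : A[X])
    (hppI : ∀ i, pp.coeff i ∈ I) :
    ((X ^ n * (X - 1) + pp) * (X - 1) ^ (n - 1) : A[X]).map (Ideal.Quotient.mk I) =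
      ((X ^ 2 - X) ^ n : A[X]).map (Ideal.Quotient.mk I) := by
  have h := (mem_mapC_iff_map_eq_zero I _).mp (gabber_big_sub_mem I n hn pp hppI)
  rw [Polynomial.map_sub, sub_eq_zero] at h
  exact h.symm

theorem exists_root_of_idempotent_lift (I : Ideal A) (hI : I ≤ Ideal.jacobson ⊥) (n : ℕ)
    (hn : 0 < n) (pp : A[X]) (hpp : pp.natDegree ≤ n) (hppI : ∀ i, pp.coeff i ∈ I)
    (hlift : Set.SurjOn
      (Ideal.Quotient.mk (Ideal.map (algebraMap A
        (AdjoinRoot ((X ^ n * (X - 1) + pp) * (X - 1) ^ (n - 1) : A[X]))) I))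
      {e | IsIdempotentElem e} {e | IsIdempotentElem e}) :
    ∃ α : A, α - 1 ∈ I ∧ IsRoot (X ^ n * (X - 1) + pp : A[X]) α := by
  rcases subsingleton_or_nontrivial A with hsub | hnon
  · exact ⟨0, by rw [Subsingleton.elim (0 - 1 : A) 0]; exact I.zero_mem, Subsingleton.elim _ _⟩
  obtain ⟨hfm, hfdeg⟩ := gabber_monic n pp hpp
  have hppC : pp ∈ Ideal.map (C : A →+* A[X]) I := Ideal.mem_map_C_iff.mpr hppI
  generalize hf : (X ^ n * (X - 1) + pp : A[X]) = f at *
  generalize hP : f * (X - 1) ^ (n - 1) = P at *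
  -- `(X^2 - X)^n - P ∈ I A[X]`
  have hPI : (X ^ 2 - X) ^ n - P ∈ Ideal.map (C : A →+* A[X]) I := by
    have h0 : (X ^ 2 - X : A[X]) ^ n - P = - (pp * (X - 1) ^ (n - 1)) := by
      rw [← hP, ← hf]
      have h1 : (X ^ 2 - X : A[X]) ^ n = X ^ n * (X - 1) * (X - 1) ^ (n - 1) := by
        have h2 : (X ^ 2 - X : A[X]) = X * (X - 1) := by ring
        rw [h2, mul_pow, mul_assoc, ← pow_succ', Nat.sub_add_cancel hn]
      rw [h1]; ring
    rw [h0]
    exact Submodule.neg_mem _ (Ideal.mul_mem_right _ _ hppC)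
  obtain ⟨w, hw⟩ := sq_sub_pow_dvd (A := A) n
  have hidem : IsIdempotentElem (Ideal.Quotient.mk (Ideal.map (algebraMap A (AdjoinRoot P)) I)
      (AdjoinRoot.mk P (uPoly A n))) := by
    show _ * _ = _
    rw [← map_mul, ← map_mul, Ideal.Quotient.eq, ← map_sub, ← sq, hw]
    have h1 : AdjoinRoot.mk P ((X ^ 2 - X) ^ n * w) =
        AdjoinRoot.mk P (((X ^ 2 - X) ^ n - P) * w) := by
      rw [AdjoinRoot.mk_eq_mk]; exact ⟨w, by ring⟩
    rw [h1]
    exact mk_mem_of_mem_mapC I P _ (Ideal.mul_mem_right _ _ hPI)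
  obtain ⟨e, he, hee⟩ := hlift hidem
  obtain ⟨E, rfl⟩ := AdjoinRoot.mk_surjective e
  have hE1 : P ∣ E ^ 2 - E := by
    have h1 : AdjoinRoot.mk P (E ^ 2 - E) = 0 := by
      rw [map_sub, map_pow, sq]; exact sub_eq_zero.mpr he
    exact AdjoinRoot.mk_eq_zero.mp h1
  have hfP : f ∣ P := Dvd.intro _ hP
  have hE1' : f ∣ E ^ 2 - E := hfP.trans hE1
  have hE2 : ∃ r ∈ Ideal.map (C : A →+* A[X]) I, f ∣ E - X ^ n - r := by
    have h1 : AdjoinRoot.mk P (E - uPoly A n) ∈ Ideal.map (algebraMap A (AdjoinRoot P)) I := by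
      rw [map_sub, ← Ideal.Quotient.eq]; exact hee
    obtain ⟨r, hr, hdvd⟩ := exists_of_mk_mem I P _ h1
    obtain ⟨w', hw'⟩ := X_pow_mul_dvd (A := A) n hn
    refine ⟨r - pp * w', Ideal.sub_mem _ hr (Ideal.mul_mem_right _ _ hppC), ?_⟩
    have h2 : E - X ^ n - (r - pp * w') = (E - uPoly A n - r) + f * w' := by
      rw [← hf]; linear_combination hw'
    rw [h2]
    exact dvd_add (hfP.trans hdvd) (Dvd.intro _ rfl)
  obtain ⟨r, hr, q, hq⟩ := hE2
  -- work in `B' = A[X]/(f)`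
  have : Module.Finite A (AdjoinRoot f) := hfm.finite_adjoinRoot
  set e' : AdjoinRoot f := AdjoinRoot.mk f E with he'def
  have he' : e' * e' = e' := by
    rw [he'def, ← map_mul, AdjoinRoot.mk_eq_mk]
    have := hE1'; rwa [sq] at this
  set T : AdjoinRoot f := AdjoinRoot.root f with hT
  let N : Submodule A (AdjoinRoot f) := LinearMap.range (LinearMap.mulLeft A e')
  have hNfg : N.FG := by
    have h1 : (⊤ : Submodule A (AdjoinRoot f)).FG := Module.Finite.fg_top
    have h2 := h1.map (LinearMap.mulLeft A e')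
    rwa [Submodule.map_top] at h2
  have key : ∀ y ∈ Ideal.map (algebraMap A (AdjoinRoot f)) I, ∀ x : AdjoinRoot f,
      y * (e' * x) ∈ I • N := by
    intro y hy
    induction hy using Submodule.span_induction with
    | mem z hz =>
      intro x
      obtain ⟨a, ha, rfl⟩ := hz
      rw [← Algebra.smul_def]
      exact Submodule.smul_mem_smul ha ⟨x, rfl⟩
    | zero => intro x; rw [zero_mul]; exact Submodule.zero_mem _
    | add y z _ _ hy hz => intro x; rw [add_mul]; exact Submodule.add_mem _ (hy x) (hz x)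
    | smul c y _ hy =>
      intro x
      have : c • y * (e' * x) = y * (e' * (c * x)) := by
        rw [smul_eq_mul]; ring
      rw [this]
      exact hy (c * x)
  have hmulN : ∀ z ∈ I • N, ∀ b : AdjoinRoot f, z * b ∈ I • N := by
    intro z hz b
    refine Submodule.smul_induction_on hz ?_ ?_
    · intro a ha m hm
      obtain ⟨x, rfl⟩ := hm
      have : a • (LinearMap.mulLeft A e') x * b = a • (e' * (x * b)) := by
        simp only [LinearMap.mulLeft_apply]; rw [smul_mul_assoc, mul_assoc]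
      rw [this]
      exact Submodule.smul_mem_smul ha ⟨x * b, rfl⟩
    · intro x y hx hy
      rw [add_mul]; exact Submodule.add_mem _ hx hy
  -- `e' T - e' ∈ I B'`
  have h3 : e' * T - e' ∈ Ideal.map (algebraMap A (AdjoinRoot f)) I := by
    have h1 : e' * T - e' = AdjoinRoot.mk f (E * (X - 1)) := by
      rw [map_mul, map_sub, AdjoinRoot.mk_X, map_one, mul_sub, mul_one]
    have h2 : AdjoinRoot.mk f (E * (X - 1)) = AdjoinRoot.mk f ((r * (X - 1)) - pp) := by
      rw [AdjoinRoot.mk_eq_mk]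
      refine ⟨q * (X - 1) + 1, ?_⟩
      rw [← hf] at hq ⊢
      linear_combination (X - 1) * hq
    rw [h1, h2]
    exact mk_mem_of_mem_mapC I f _ (Ideal.sub_mem _ (Ideal.mul_mem_right _ _ hr) hppC)
  have hC1 : e' * T - e' ∈ I • N := by
    have h4 : e' * T - e' = (e' * T - e') * (e' * 1) := by
      have : (e' * T - e') * (e' * 1) = (e' * e') * T - e' * e' := by ring
      rw [this, he']
    rw [h4]; exact key _ h3 1
  have hpow : ∀ k : ℕ, e' * T ^ k ∈ Submodule.span A {e'} ⊔ I • N := by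
    intro k
    induction k with
    | zero => rw [pow_zero, mul_one]; exact Submodule.mem_sup_left (Submodule.subset_span rfl)
    | succ k ih =>
      have : e' * T ^ (k + 1) = e' * T ^ k + (e' * T - e') * T ^ k := by ring
      rw [this]
      exact Submodule.add_mem _ ih (Submodule.mem_sup_right (hmulN _ hC1 _))
  have hmono : ∀ (k : ℕ) (a : A), e' * AdjoinRoot.mk f (monomial k a) = a • (e' * T ^ k) := by
    intro k a
    rw [← C_mul_X_pow_eq_monomial, map_mul, map_pow, AdjoinRoot.mk_X, AdjoinRoot.mk_C,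
      Algebra.smul_def, AdjoinRoot.algebraMap_eq]
    ring
  have hC2 : N ≤ Submodule.span A {e'} ⊔ I • N := by
    rintro _ ⟨b, rfl⟩
    obtain ⟨g, rfl⟩ := AdjoinRoot.mk_surjective b
    show e' * AdjoinRoot.mk f g ∈ _
    induction g using Polynomial.induction_on' with
    | add g1 g2 h1 h2 => rw [map_add, mul_add]; exact Submodule.add_mem _ h1 h2
    | monomial k a => rw [hmono]; exact Submodule.smul_mem _ a (hpow k)
  have hNle : N ≤ Submodule.span A {e'} :=
    Submodule.le_of_le_smul_of_le_jacobson_bot hNfg hI hC2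
  have hTe : e' * T ∈ Submodule.span A {e'} := hNle ⟨T, rfl⟩
  obtain ⟨α, hα⟩ := Submodule.mem_span_singleton.mp hTe
  have hpowα : ∀ k : ℕ, e' * T ^ k = α ^ k • e' := by
    intro k
    induction k with
    | zero => simp
    | succ k ih =>
      have : e' * T ^ (k + 1) = (e' * T ^ k) * T := by ring
      rw [this, ih, smul_mul_assoc, ← hα, smul_smul, pow_succ]
  have heval : ∀ g : A[X], e' * AdjoinRoot.mk f g = g.eval α • e' := by
    intro g
    induction g using Polynomial.induction_on' with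
    | add g1 g2 h1 h2 => rw [map_add, mul_add, h1, h2, eval_add, add_smul]
    | monomial k a => rw [hmono, hpowα, eval_monomial, smul_smul]
  -- the coefficient functional
  let lam : AdjoinRoot f →ₗ[A] A := (Polynomial.lcoeff A n).comp (AdjoinRoot.modByMonicHom hfm)
  have hlam_mk : ∀ g, lam (AdjoinRoot.mk f g) = (g %ₘ f).coeff n := fun g => by
    simp [lam, AdjoinRoot.modByMonicHom_mk]
  have hlamI : ∀ y ∈ Ideal.map (algebraMap A (AdjoinRoot f)) I, lam y ∈ I := by
    intro y hy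
    obtain ⟨g, rfl⟩ := AdjoinRoot.mk_surjective y
    obtain ⟨r', hr', hd⟩ := exists_of_mk_mem I f g hy
    have h1 : AdjoinRoot.mk f g = AdjoinRoot.mk f r' := AdjoinRoot.mk_eq_mk.mpr hd
    rw [h1, hlam_mk]
    exact Ideal.mem_map_C_iff.mp (modByMonic_mem_mapC I f r' hfm hr') n
  have hc : lam e' - 1 ∈ I := by
    have h1 : e' = AdjoinRoot.mk f (X ^ n) + AdjoinRoot.mk f r := by
      rw [he'def, ← map_add, AdjoinRoot.mk_eq_mk]; exact ⟨q, by linear_combination hq⟩
    rw [h1, map_add, hlam_mk, hlam_mk]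
    have h2 : ((X : A[X]) ^ n %ₘ f) = X ^ n := by
      rw [modByMonic_eq_self_iff hfm, degree_X_pow, degree_eq_natDegree hfm.ne_zero, hfdeg]
      exact_mod_cast Nat.lt_succ_self n
    rw [h2, coeff_X_pow_self, add_sub_cancel_left]
    exact Ideal.mem_map_C_iff.mp (modByMonic_mem_mapC I f r hfm hr) n
  have hcu : IsUnit (lam e') := Ideal.isUnit_of_sub_one_mem_jacobson_bot _ (hI hc)
  have hroot : f.eval α = 0 := by
    have h1 := heval f
    rw [AdjoinRoot.mk_self, mul_zero] at h1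
    have h2 := congrArg lam h1
    rw [map_zero, map_smul, smul_eq_mul] at h2
    exact (hcu.mul_left_eq_zero).mp h2.symm
  have hα1 : α - 1 ∈ I := by
    have h1 : (α - 1) • e' = e' * T - e' := by rw [sub_smul, one_smul, hα]
    have h2 : (α - 1) • e' ∈ Ideal.map (algebraMap A (AdjoinRoot f)) I := h1 ▸ h3
    have h4 := hlamI _ h2
    rw [map_smul, smul_eq_mul] at h4
    have h5 : α - 1 = (α - 1) * lam e' - (α - 1) * (lam e' - 1) := by ring
    rw [h5]; exact Ideal.sub_mem _ h4 (Ideal.mul_mem_left _ _ hc)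
  exact ⟨α, hα1, hroot⟩

end Groth.Agent.Lib.GabberIdem
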