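import Groth.Agent.Lib.EtaleLift
import Mathlib.RingTheory.Polynomial.UniversalFactorizationRing

/-!
Lifting coprime monic factorizations along etale neighbourhoods (with coprimality of the lifted
factors), and the idempotent produced by such a factorization.
-/

set_option autoImplicit false
universe u

namespace Groth.Agent.Lib.EtaleFactor

open Polynomial

/-- Strong form of the lifting of coprime monic factorizations: the lifted factors are coprime. -/
theorem exists_etale_lift_factorization {A : Type u} [CommRing A] (I : Ideal A) (f : A[X])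
    (hf : f.Monic) (g h : (A ⧸ I)[X]) (hg : g.Monic) (hh : h.Monic) (hcop : IsCoprime g h)
    (hfgh : f.map (Ideal.Quotient.mk I) = g * h) :
    ∃ (A' : Type u) (_ : CommRing A') (_ : Algebra A A'), Algebra.Etale A A' ∧
      Function.Bijective (algebraMap (A ⧸ I) (A' ⧸ I.map (algebraMap A A'))) ∧
      ∃ g' h' : A'[X], g'.Monic ∧ h'.Monic ∧ f.map (algebraMap A A') = g' * h' ∧
        IsCoprime g' h' ∧
        g'.map (Ideal.Quotient.mk (I.map (algebraMap A A'))) =
          g.map (algebraMap (A ⧸ I) (A' ⧸ I.map (algebraMap A A'))) ∧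
        h'.map (Ideal.Quotient.mk (I.map (algebraMap A A'))) =
          h.map (algebraMap (A ⧸ I) (A' ⧸ I.map (algebraMap A A'))) := by
  rcases subsingleton_or_nontrivial (A ⧸ I) with hsub | hnt
  · let A' := Localization.Away (0 : A)
    have hA' : Subsingleton A' :=
      IsLocalization.subsingleton (M := Submonoid.powers (0 : A)) (S := A') ⟨1, by simp⟩
    have hq : Subsingleton (A' ⧸ I.map (algebraMap A A')) := inferInstance
    refine ⟨A', inferInstance, inferInstance, inferInstance, ⟨?_, ?_⟩, 1, 1, monic_one, monic_one,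
      Subsingleton.elim _ _, isCoprime_one_left, Subsingleton.elim _ _, Subsingleton.elim _ _⟩
    · intro x y _
      exact Subsingleton.elim _ _
    · intro y
      exact ⟨0, Subsingleton.elim _ _⟩
  · set m := g.natDegree with hm
    set k := h.natDegree with hk
    set n := f.natDegree with hn'
    have hn : n = m + k := by
      have := congrArg Polynomial.natDegree hfgh
      rwa [hf.natDegree_map, hg.natDegree_mul hh] at this
    let p : MonicDegreeEq A n := .mk f hf rfl
    let σ : UniversalCoprimeFactorizationRing m k hn p →ₐ[A] A ⧸ I :=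
      (UniversalCoprimeFactorizationRing.homEquiv (A ⧸ I) m k hn p).symm
        ⟨(.mk g hg rfl, .mk h hh rfl), hfgh.symm, hcop⟩
    have hσ : UniversalCoprimeFactorizationRing.homEquiv (A ⧸ I) m k hn p σ =
        ⟨(.mk g hg rfl, .mk h hh rfl), hfgh.symm, hcop⟩ := Equiv.apply_symm_apply _ _
    have hσ1 : (UniversalCoprimeFactorizationRing.factor₁ m k hn p).1.map σ.toRingHom = g := by
      have := congrArg (fun q => q.1.1.1) hσ
      simp only [MonicDegreeEq.mk_coe] at this
      rw [← this]
      simp [UniversalCoprimeFactorizationRing.homEquiv, UniversalFactorizationRing.homEquiv,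
        UniversalCoprimeFactorizationRing.factor₁, MonicDegreeEq.map, Polynomial.map_map]
      rfl
    have hσ2 : (UniversalCoprimeFactorizationRing.factor₂ m k hn p).1.map σ.toRingHom = h := by
      have := congrArg (fun q => q.1.2.1) hσ
      simp only [MonicDegreeEq.mk_coe] at this
      rw [← this]
      simp [UniversalCoprimeFactorizationRing.homEquiv, UniversalFactorizationRing.homEquiv,
        UniversalCoprimeFactorizationRing.factor₂, MonicDegreeEq.map, Polynomial.map_map]
      rfl
    obtain ⟨A', _, _, hEt, hbij, τ, hτ⟩ := Groth.Agent.Lib.EtaleLift.exists_etale_lift_of_etale I σ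
    have hcomp : (Ideal.Quotient.mk (I.map (algebraMap A A'))).comp τ.toRingHom =
        (algebraMap (A ⧸ I) (A' ⧸ I.map (algebraMap A A'))).comp σ.toRingHom :=
      RingHom.ext hτ
    refine ⟨A', inferInstance, inferInstance, hEt, hbij,
      (UniversalCoprimeFactorizationRing.factor₁ m k hn p).1.map τ.toRingHom,
      (UniversalCoprimeFactorizationRing.factor₂ m k hn p).1.map τ.toRingHom,
      (UniversalCoprimeFactorizationRing.factor₁ m k hn p).monic.map _,
      (UniversalCoprimeFactorizationRing.factor₂ m k hn p).monic.map _, ?_, ?_, ?_, ?_⟩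
    · rw [← Polynomial.map_mul, UniversalCoprimeFactorizationRing.factor₁_mul_factor₂,
        MonicDegreeEq.map_coe, Polynomial.map_map]
      congr 1
      ext a
      simp
    · exact (UniversalCoprimeFactorizationRing.isCoprime_factor₁_factor₂ m k hn p).map
        (Polynomial.mapRingHom τ.toRingHom)
    · rw [Polynomial.map_map, hcomp, ← Polynomial.map_map, hσ1]
    · rw [Polynomial.map_map, hcomp, ← Polynomial.map_map, hσ2]

section Idem

variable {A' E' : Type*} [CommRing A'] [Ring E'] [Algebra A' E']

/-- If all coefficients of `P` lie in `𝔞` and `N` absorbs `𝔞`-multiples, `P(β) ∈ N`. -/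
theorem aeval_mem_of_coeff_mem (𝔞 : Ideal A') (N : Submodule A' E')
    (h𝔞 : ∀ a ∈ 𝔞, ∀ y : E', a • y ∈ N) (β : E') (P : A'[X]) (hP : ∀ i, P.coeff i ∈ 𝔞) :
    aeval β P ∈ N := by
  rw [Polynomial.aeval_eq_sum_range]
  exact N.sum_mem fun i _ => h𝔞 _ (hP i) _

/-- The idempotent attached to a coprime factorization `G H` annihilating `β`, with
`G ≡ X^d`, `H ≡ (X-1)^d` and `β^2 ≡ β` modulo a two-sided ideal `N`. -/
theorem idem_of_factorization (𝔞 : Ideal A') (N : Submodule A' E')
    (hNl : ∀ x ∈ N, ∀ y : E', y * x ∈ N) (hNr : ∀ x ∈ N, ∀ y : E', x * y ∈ N)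
    (h𝔞 : ∀ a ∈ 𝔞, ∀ y : E', a • y ∈ N)
    (β : E') (hβ : β * β - β ∈ N) (G H U V : A'[X]) (d : ℕ) (hd : 1 ≤ d)
    (hUV : U * G + V * H = 1) (hGH : aeval β (G * H) = 0)
    (hG : ∀ i, (G - X ^ d).coeff i ∈ 𝔞) (hH : ∀ i, (H - (X - 1) ^ d).coeff i ∈ 𝔞) :
    IsIdempotentElem (aeval β (U * G)) ∧ aeval β (U * G) - β ∈ N := by
  obtain ⟨d, rfl⟩ : ∃ d', d = d' + 1 := ⟨d - 1, by omega⟩
  set e' := aeval β (U * G) with he'
  have h1 : aeval β (V * H) = 1 - e' := by
    have := congrArg (aeval β) hUV
    rw [map_add, map_one] at this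
    rw [he', ← this]; abel
  have hzero : e' * (1 - e') = 0 := by
    rw [← h1, he', ← map_mul]
    have : U * G * (V * H) = U * V * (G * H) := by ring
    rw [this, map_mul, hGH, mul_zero]
  have hidem : IsIdempotentElem e' := by
    change e' * e' = e'
    have : e' * (1 - e') = e' - e' * e' := by rw [mul_sub, mul_one]
    rw [this, sub_eq_zero] at hzero
    exact hzero.symm
  refine ⟨hidem, ?_⟩
  have hGβ : aeval β G - β ^ (d + 1) ∈ N := by
    have := aeval_mem_of_coeff_mem 𝔞 N h𝔞 β (G - X ^ (d + 1)) hG
    simpa using this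
  have hHβ : aeval β H - (β - 1) ^ (d + 1) ∈ N := by
    have := aeval_mem_of_coeff_mem 𝔞 N h𝔞 β (H - (X - 1) ^ (d + 1)) hH
    simpa using this
  -- `(1 - β) * G(β) ∈ N`
  have hcomm1 : (1 - β) * β = -(β * β - β) := by rw [sub_mul, one_mul]; abel
  have hA : (1 - β) * aeval β G ∈ N := by
    have : (1 - β) * aeval β G =
        (1 - β) * (aeval β G - β ^ (d + 1)) + (-(β * β - β)) * β ^ d := by
      rw [← hcomm1, mul_assoc, ← pow_succ', mul_sub]; abel
    rw [this]
    exact N.add_mem (hNl _ hGβ _) (hNr _ (N.neg_mem hβ) _)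
  have hcomm2 : β * (β - 1) = β * β - β := by rw [mul_sub, mul_one]
  have hB : β * aeval β H ∈ N := by
    have : β * aeval β H =
        β * (aeval β H - (β - 1) ^ (d + 1)) + (β * β - β) * (β - 1) ^ d := by
      rw [← hcomm2, mul_assoc, ← pow_succ', mul_sub]; abel
    rw [this]
    exact N.add_mem (hNl _ hHβ _) (hNr _ hβ _)
  -- commutation inside the image of `aeval β`
  have hc1 : (1 - β) * e' = aeval β U * ((1 - β) * aeval β G) := by
    have h2 : (1 - β) = aeval β (1 - X : A'[X]) := by simp
    rw [he', h2, ← map_mul, ← map_mul, ← map_mul]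
    congr 1; ring
  have hc2 : β * (1 - e') = aeval β V * (β * aeval β H) := by
    rw [← h1]
    have e1 : β * aeval β (V * H) = aeval β (X * (V * H)) := by
      simp only [map_mul, aeval_X]
    have e2 : aeval β V * (β * aeval β H) = aeval β (V * (X * H)) := by
      simp only [map_mul, aeval_X]
    rw [e1, e2]
    congr 1; ring
  have hfinal : e' - β = (1 - β) * e' - β * (1 - e') := by
    rw [sub_mul, one_mul, mul_sub, mul_one]; abel
  rw [hfinal, hc1, hc2]
  exact N.sub_mem (hNl _ hA _) (hNl _ hB _)

end Idem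

end Groth.Agent.Lib.EtaleFactor
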