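import Mathlib.RingTheory.Etale.Basic
import Mathlib.RingTheory.Ideal.Over
import Mathlib.RingTheory.Nakayama
import Mathlib.RingTheory.Localization.Away.Basic
import Mathlib.RingTheory.FiniteType

/-!
Etale neighbourhoods of a closed subscheme: if `B` is etale over `A` and `σ : B → A/I` is an
`A`-algebra map, a principal localization `A'` of `B` is etale over `A`, has `A/I = A'/IA'` and
the localization map lifts `σ`.
-/

set_option autoImplicit false
universe u

namespace Groth.Agent.Lib.EtaleLift

variable {A B : Type u} [CommRing A] [CommRing B] [Algebra A B]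

/-- For `B` formally unramified over `A`, the kernel `J` of an `A`-algebra map `B → A/I` satisfies
`J ≤ J^2 + IB`. -/
theorem ker_le_sq_sup [Algebra.FormallyUnramified A B] (I : Ideal A) (σ : B →ₐ[A] A ⧸ I) :
    RingHom.ker σ ≤ (RingHom.ker σ) ^ 2 ⊔ I.map (algebraMap A B) := by
  set J : Ideal B := RingHom.ker σ with hJ
  set K : Ideal B := J ^ 2 ⊔ I.map (algebraMap A B) with hK
  have hI0 : ∀ a ∈ I, (Algebra.ofId A (B ⧸ K)) a = 0 := by
    intro a ha
    change Ideal.Quotient.mk K (algebraMap A B a) = 0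
    rw [Ideal.Quotient.eq_zero_iff_mem]
    exact le_sup_right (α := Ideal B) (Ideal.mem_map_of_mem _ ha)
  let ψ : A ⧸ I →ₐ[A] B ⧸ K := Ideal.Quotient.liftₐ I (Algebra.ofId A (B ⧸ K)) hI0
  let φ₁ : B →ₐ[A] B ⧸ K := Ideal.Quotient.mkₐ A K
  let φ₂ : B →ₐ[A] B ⧸ K := ψ.comp σ
  let N : Ideal (B ⧸ K) := J.map (Ideal.Quotient.mk K)
  have hN : IsNilpotent N := by
    refine ⟨2, ?_⟩
    rw [Ideal.zero_eq_bot, ← Ideal.map_pow, ← le_bot_iff, Ideal.map_le_iff_le_comap]
    intro x hx
    rw [Ideal.mem_comap, Ideal.mem_bot, Ideal.Quotient.eq_zero_iff_mem]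
    exact le_sup_left (α := Ideal B) hx
  have heq : φ₁ = φ₂ := by
    refine Algebra.FormallyUnramified.ext N hN fun b => ?_
    obtain ⟨a, ha⟩ := Ideal.Quotient.mk_surjective (σ b)
    have h2 : φ₂ b = Ideal.Quotient.mk K (algebraMap A B a) := by
      change ψ (σ b) = _
      rw [← ha]
      rfl
    rw [h2]
    change Ideal.Quotient.mk N (Ideal.Quotient.mk K b) = _
    rw [Ideal.Quotient.eq, ← map_sub]
    refine Ideal.mem_map_of_mem _ ?_
    rw [hJ, RingHom.mem_ker, map_sub, AlgHom.commutes, ← ha]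
    exact sub_self _
  intro b hb
  have h1 : φ₁ b = 0 := by
    rw [heq]
    change ψ (σ b) = 0
    rw [(RingHom.mem_ker).1 hb, map_zero]
  exact (Ideal.Quotient.eq_zero_iff_mem).1 h1

/-- For `B` of finite type over `A`, the kernel of an `A`-algebra map `B → A/I` is the sum of
a finitely generated ideal and `IB`. -/
theorem exists_fg_ker_eq_sup [Algebra.FiniteType A B] (I : Ideal A) (σ : B →ₐ[A] A ⧸ I) :
    ∃ J₀ : Ideal B, J₀.FG ∧ RingHom.ker σ = J₀ ⊔ I.map (algebraMap A B) := by
  classical
  obtain ⟨t, ht⟩ := (Algebra.FiniteType.out : (⊤ : Subalgebra A B).FG)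
  have hlift : ∀ b : B, ∃ a : A, σ b = Ideal.Quotient.mk I a :=
    fun b => (Ideal.Quotient.mk_surjective (σ b)).imp fun a ha => ha.symm
  choose lift hlift using hlift
  let J₀ : Ideal B := Ideal.span ((fun b => b - algebraMap A B (lift b)) '' (t : Set B))
  have hJ₀fg : J₀.FG := ⟨t.image fun b => b - algebraMap A B (lift b), by simp [J₀]⟩
  refine ⟨J₀, hJ₀fg, le_antisymm ?_ ?_⟩
  · set K : Ideal B := J₀ ⊔ I.map (algebraMap A B) with hK
    have hKJ : K ≤ RingHom.ker σ := by
      refine sup_le ?_ ?_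
      · rw [Ideal.span_le]
        rintro _ ⟨b, -, rfl⟩
        rw [SetLike.mem_coe, RingHom.mem_ker, map_sub, AlgHom.commutes, hlift b]
        exact sub_self _
      · rw [Ideal.map_le_iff_le_comap]
        intro a ha
        rw [Ideal.mem_comap, RingHom.mem_ker, AlgHom.commutes]
        exact (Ideal.Quotient.eq_zero_iff_mem).2 ha
    have hall : ∀ x : B, ∃ a : A, x - algebraMap A B a ∈ K := by
      intro x
      have hx : x ∈ Algebra.adjoin A (t : Set B) := by rw [ht]; trivial
      induction hx using Algebra.adjoin_induction with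
      | mem b hb =>
        exact ⟨lift b, le_sup_left (α := Ideal B) (Ideal.subset_span ⟨b, hb, rfl⟩)⟩
      | algebraMap a => exact ⟨a, by simp⟩
      | add x y _ _ hx hy =>
        obtain ⟨a, ha⟩ := hx
        obtain ⟨a', ha'⟩ := hy
        refine ⟨a + a', ?_⟩
        have : x + y - algebraMap A B (a + a') =
            (x - algebraMap A B a) + (y - algebraMap A B a') := by
          rw [map_add]; ring
        rw [this]
        exact K.add_mem ha ha'
      | mul x y _ _ hx hy =>
        obtain ⟨a, ha⟩ := hx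
        obtain ⟨a', ha'⟩ := hy
        refine ⟨a * a', ?_⟩
        have : x * y - algebraMap A B (a * a') =
            (x - algebraMap A B a) * y + algebraMap A B a * (y - algebraMap A B a') := by
          rw [map_mul]; ring
        rw [this]
        exact K.add_mem (K.mul_mem_right _ ha) (K.mul_mem_left _ ha')
    intro x hx
    obtain ⟨a, ha⟩ := hall x
    have h1 : algebraMap A B a ∈ RingHom.ker σ := by
      have := (RingHom.ker σ).sub_mem hx (hKJ ha)
      simpa using this
    rw [RingHom.mem_ker, AlgHom.commutes] at h1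
    have h2 : a ∈ I := (Ideal.Quotient.eq_zero_iff_mem).1 h1
    have h3 : algebraMap A B a ∈ K := le_sup_right (α := Ideal B) (Ideal.mem_map_of_mem _ h2)
    have := K.add_mem ha h3
    simpa using this
  · refine sup_le ?_ ?_
    · rw [Ideal.span_le]
      rintro _ ⟨b, -, rfl⟩
      rw [SetLike.mem_coe, RingHom.mem_ker, map_sub, AlgHom.commutes, hlift b]
      exact sub_self _
    · rw [Ideal.map_le_iff_le_comap]
      intro a ha
      rw [Ideal.mem_comap, RingHom.mem_ker, AlgHom.commutes]
      exact (Ideal.Quotient.eq_zero_iff_mem).2 ha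

/-- For `B` unramified over `A` and `σ : B → A/I` with kernel `J`, there is `e ∈ 1 + J` with
`e J ⊆ IB`. -/
theorem exists_sub_one_mem_ker_and_mul_mem [Algebra.FormallyUnramified A B] [Algebra.FiniteType A B]
    (I : Ideal A) (σ : B →ₐ[A] A ⧸ I) :
    ∃ e : B, e - 1 ∈ RingHom.ker σ ∧ ∀ j ∈ RingHom.ker σ, e * j ∈ I.map (algebraMap A B) := by
  obtain ⟨J₀, hJ₀, hJ⟩ := exists_fg_ker_eq_sup I σ
  have hsq := ker_le_sq_sup I σ
  set J : Ideal B := RingHom.ker σ with hJdef
  set IB : Ideal B := I.map (algebraMap A B) with hIB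
  let N : Submodule B (B ⧸ IB) := Submodule.map (Submodule.mkQ IB) J
  have hmkIB : Submodule.map (Submodule.mkQ IB) IB = ⊥ := by
    rw [← le_bot_iff, Submodule.map_le_iff_le_comap]
    intro x hx
    rw [Submodule.mem_comap, Submodule.mem_bot, Submodule.mkQ_apply]
    exact (Submodule.Quotient.mk_eq_zero IB).2 hx
  have hNfg : N.FG := by
    have : N = Submodule.map (Submodule.mkQ IB) J₀ := by
      change Submodule.map (Submodule.mkQ IB) J = _
      rw [hJ, Submodule.map_sup, hmkIB, sup_bot_eq]
    rw [this]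
    exact Submodule.FG.map _ hJ₀
  have hle : N ≤ J • N := by
    change Submodule.map (Submodule.mkQ IB) J ≤ J • Submodule.map (Submodule.mkQ IB) J
    rw [← Submodule.map_smul'']
    refine le_trans (Submodule.map_mono hsq) ?_
    rw [Submodule.map_sup, hmkIB, sup_bot_eq, pow_two]
    exact le_of_eq rfl
  obtain ⟨r, hr1, hr2⟩ := Submodule.exists_sub_one_mem_and_smul_eq_zero_of_fg_of_le_smul J N hNfg hle
  refine ⟨r, hr1, fun j hj => ?_⟩
  have := hr2 (Submodule.mkQ IB j) ⟨j, hj, rfl⟩
  rw [← map_smul, Submodule.mkQ_apply, Submodule.Quotient.mk_eq_zero, smul_eq_mul] at this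
  exact this

/-- The etale case of the lifting of sections along etale neighbourhoods. -/
theorem exists_etale_lift_of_etale [Algebra.Etale A B] (I : Ideal A) (σ : B →ₐ[A] A ⧸ I) :
    ∃ (A' : Type u) (_ : CommRing A') (_ : Algebra A A'), Algebra.Etale A A' ∧
      Function.Bijective (algebraMap (A ⧸ I) (A' ⧸ I.map (algebraMap A A'))) ∧
      ∃ τ : B →ₐ[A] A', ∀ b : B,
        Ideal.Quotient.mk (I.map (algebraMap A A')) (τ b) =
          algebraMap (A ⧸ I) (A' ⧸ I.map (algebraMap A A')) (σ b) := by
  obtain ⟨e, he1, heJ⟩ := exists_sub_one_mem_ker_and_mul_mem I σ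
  let A' := Localization.Away e
  have hσe : σ e = 1 := by
    have := (RingHom.mem_ker).1 he1
    rwa [map_sub, map_one, sub_eq_zero] at this
  -- the ideal `I A'`
  set IA' : Ideal A' := I.map (algebraMap A A') with hIA'
  have hIB : (I.map (algebraMap A B)).map (algebraMap B A') = IA' := by
    rw [Ideal.map_map, ← IsScalarTower.algebraMap_eq]
  have heunit : IsUnit (algebraMap B A' e) := IsLocalization.Away.algebraMap_isUnit e
  -- `J A' ⊆ I A'`
  have hJ : ∀ j ∈ RingHom.ker σ, algebraMap B A' j ∈ IA' := by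
    intro j hj
    have h1 : algebraMap B A' (e * j) ∈ IA' := by
      rw [← hIB]
      exact Ideal.mem_map_of_mem _ (heJ j hj)
    rw [map_mul] at h1
    exact (Ideal.unit_mul_mem_iff_mem IA' heunit).1 h1
  have hlift : ∀ b : B, ∃ a : A, σ b = Ideal.Quotient.mk I a :=
    fun b => (Ideal.Quotient.mk_surjective (σ b)).imp fun a ha => ha.symm
  -- `b ≡ a` modulo `I A'` when `σ b = a`
  have hcongr : ∀ (b : B) (a : A), σ b = Ideal.Quotient.mk I a →
      algebraMap B A' b - algebraMap A A' a ∈ IA' := by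
    intro b a hba
    have : b - algebraMap A B a ∈ RingHom.ker σ := by
      rw [RingHom.mem_ker, map_sub, AlgHom.commutes, hba]
      exact sub_self _
    have h2 := hJ _ this
    rwa [map_sub, ← IsScalarTower.algebraMap_apply] at h2
  -- extension of `σ` to `A'`
  have hσunit : ∀ y : Submonoid.powers e, IsUnit (σ.toRingHom y) := by
    rintro ⟨_, n, rfl⟩
    change IsUnit (σ (e ^ n))
    rw [map_pow, hσe, one_pow]
    exact isUnit_one
  let σ' : A' →+* A ⧸ I := IsLocalization.lift (M := Submonoid.powers e) hσunit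
  have hσ' : ∀ b : B, σ' (algebraMap B A' b) = σ b := fun b => IsLocalization.lift_eq hσunit b
  have hσ'I : ∀ x ∈ IA', σ' x = 0 := by
    intro x hx
    have : IA' ≤ RingHom.ker σ' := by
      rw [hIA', Ideal.map_le_iff_le_comap]
      intro a ha
      rw [Ideal.mem_comap, RingHom.mem_ker, IsScalarTower.algebraMap_apply A B A', hσ',
        AlgHom.commutes]
      exact (Ideal.Quotient.eq_zero_iff_mem).2 ha
    exact this hx
  refine ⟨A', inferInstance, inferInstance, inferInstance, ⟨?_, ?_⟩,
    IsScalarTower.toAlgHom A B A', ?_⟩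
  · -- injectivity
    rw [injective_iff_map_eq_zero]
    intro x hx
    obtain ⟨a, rfl⟩ := Ideal.Quotient.mk_surjective x
    rw [Ideal.Quotient.algebraMap_quotient_map_quotient, Ideal.Quotient.eq_zero_iff_mem] at hx
    have h1 := hσ'I _ hx
    rw [IsScalarTower.algebraMap_apply A B A', hσ', AlgHom.commutes] at h1
    exact h1
  · -- surjectivity
    intro x
    obtain ⟨z, rfl⟩ := Ideal.Quotient.mk_surjective x
    obtain ⟨n, b, hnb⟩ := IsLocalization.Away.surj e z
    obtain ⟨a, ha⟩ := hlift b
    refine ⟨Ideal.Quotient.mk I a, ?_⟩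
    rw [Ideal.Quotient.algebraMap_quotient_map_quotient, Ideal.Quotient.eq]
    have h1 : algebraMap B A' e - 1 ∈ IA' := by
      have := hJ _ he1
      rwa [map_sub, map_one] at this
    have h2 : algebraMap B A' e ^ n - 1 ∈ IA' := by
      have hmk : Ideal.Quotient.mk IA' (algebraMap B A' e) = 1 := by
        rw [← sub_eq_zero, ← map_one (Ideal.Quotient.mk IA'), ← map_sub,
          Ideal.Quotient.eq_zero_iff_mem]
        exact h1
      rw [← Ideal.Quotient.eq_zero_iff_mem, map_sub, map_pow, hmk, one_pow, map_one, sub_self]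
    have h3 := hcongr b a ha
    have h4 : algebraMap A A' a - z =
        z * (algebraMap B A' e ^ n - 1) - (algebraMap B A' b - algebraMap A A' a) := by
      rw [← hnb]; ring
    rw [h4]
    exact IA'.sub_mem (IA'.mul_mem_left _ h2) h3
  · intro b
    obtain ⟨a, ha⟩ := hlift b
    rw [ha, Ideal.Quotient.algebraMap_quotient_map_quotient, Ideal.Quotient.eq]
    exact hcongr b a ha

end Groth.Agent.Lib.EtaleLift
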