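import Groth.Agent.Lib.HenselEtaleLift
import Groth.Agent.Lib.GabberIdem
import Groth.Agent.S2041
import Groth.Agent.S2042
import Mathlib.RingTheory.Ideal.GoingUp
import Mathlib.RingTheory.AdjoinRoot
import Mathlib.RingTheory.TensorProduct.Basic

/-!
# Stacks 09XI for Mathlib's `HenselianRing A I`: idempotents and factorizations

* `exists_retraction`: an étale neighbourhood `A'` of a henselian pair `(A, I)`
  (`A/I ≅ A'/IA'`) retracts onto `A`.
* `exists_idempotent_lift_of_isIntegral`: idempotents lift along `B → B/IB` for `B` integral over a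
  henselian pair.
* `idempotent_eq_of_sub_mem`: uniqueness of idempotent lifts modulo the Jacobson radical.
* `isGabber_of_surjOn`, `le_jacobson_of_injOn`: the converse direction.
* `henselianRing_of_isIntegral`: integral algebras over henselian pairs are henselian.
* `exists_factorization_lift`, `isGabber_of_factorization`: lifting coprime factorizations.
-/

set_option autoImplicit false
universe u

namespace Groth.Agent.Lib.HenselIdem

open Polynomial Groth.Agent.Lib.HenselEtaleLift Groth.Agent.Lib.HenselGabber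

section basic

/-- For `B` integral over `A` and `I` in the Jacobson radical of `A`, `IB` is in the Jacobson
radical of `B`. -/
theorem map_le_jacobson_of_isIntegral {A B : Type*} [CommRing A] [CommRing B] [Algebra A B]
    [Algebra.IsIntegral A B] (I : Ideal A) (hI : I ≤ Ideal.jacobson ⊥) :
    I.map (algebraMap A B) ≤ Ideal.jacobson ⊥ := by
  rw [Ideal.map_le_iff_le_comap]
  intro a ha
  rw [Ideal.mem_comap, Ideal.jacobson, Ideal.mem_sInf]
  rintro 𝔪 ⟨-, h𝔪⟩
  have hmax : (𝔪.comap (algebraMap A B)).IsMaximal :=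
    Ideal.isMaximal_comap_of_isIntegral_of_isMaximal 𝔪
  have hle : Ideal.jacobson (⊥ : Ideal A) ≤ 𝔪.comap (algebraMap A B) :=
    sInf_le ⟨bot_le, hmax⟩
  exact hle (hI ha)

/-- Idempotents congruent modulo the Jacobson radical are equal. -/
theorem idempotent_eq_of_sub_mem {B : Type*} [CommRing B] {J : Ideal B}
    (hJ : J ≤ Ideal.jacobson ⊥) {e e' : B} (he : IsIdempotentElem e) (he' : IsIdempotentElem e')
    (h : e - e' ∈ J) : e = e' := by
  have h1 : e * e = e := he
  have h2 : e' * e' = e' := he'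
  set d := e - e' with hd
  have hd3 : d * d * d = d := by
    rw [hd]
    linear_combination (e + 1 - 3 * e') * h1 + (3 * e - e' - 1) * h2
  have hu : IsUnit (1 - d * d) := by
    refine isUnit_of_sub_one_mem hJ ?_
    have : 1 - d * d - 1 = -(d * d) := by ring
    rw [this]
    exact J.neg_mem (J.mul_mem_left _ h)
  have h0 : d * (1 - d * d) = 0 := by
    have : d * (1 - d * d) = d - d * d * d := by ring
    rw [this, hd3, sub_self]
  have hd0 : d = 0 := by
    obtain ⟨w, hw⟩ := hu.exists_right_inv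
    calc d = d * ((1 - d * d) * w) := by rw [hw, mul_one]
      _ = d * (1 - d * d) * w := by ring
      _ = 0 := by rw [h0, zero_mul]
  exact sub_eq_zero.1 hd0

end basic

section retraction

variable {A A' : Type u} [CommRing A] [CommRing A'] [Algebra A A'] [Algebra.Etale A A']

/-- An étale neighbourhood `A'` of a henselian pair `(A, I)` has a retraction onto `A`,
congruent to the identity modulo `IA'`. -/
theorem exists_retraction (I : Ideal A) [HenselianRing A I]
    (φ : A ⧸ I →+* A' ⧸ I.map (algebraMap A A'))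
    (hφ : ∀ a, φ (Ideal.Quotient.mk I a) = Ideal.Quotient.mk _ (algebraMap A A' a))
    (hbij : Function.Bijective φ) :
    ∃ ρ : A' →ₐ[A] A, ∀ x, x - algebraMap A A' (ρ x) ∈ I.map (algebraMap A A') := by
  let e : A ⧸ I ≃+* A' ⧸ I.map (algebraMap A A') := RingEquiv.ofBijective φ hbij
  let σ₀ : A' →ₐ[A] A ⧸ I :=
    { e.symm.toRingHom.comp (Ideal.Quotient.mk _) with
      commutes' := fun a => by
        change e.symm (Ideal.Quotient.mk _ (algebraMap A A' a)) = Ideal.Quotient.mk I a
        rw [RingEquiv.symm_apply_eq]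
        exact (hφ a).symm }
  obtain ⟨ρ, hρ⟩ := exists_lift I σ₀
  refine ⟨ρ, fun x => ?_⟩
  have h1 : Ideal.Quotient.mk I (ρ x) = e.symm (Ideal.Quotient.mk _ x) :=
    congrArg (fun g : A' →ₐ[A] A ⧸ I => g x) hρ
  have h2 : φ (Ideal.Quotient.mk I (ρ x)) = Ideal.Quotient.mk _ x := by
    rw [h1]
    exact e.apply_symm_apply _
  rw [hφ] at h2
  exact Ideal.Quotient.eq.1 h2.symm

/-- Version of `exists_retraction` for the canonical algebra map `A/I → A'/IA'`. -/
theorem exists_retraction' (I : Ideal A) [HenselianRing A I]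
    (hbij : Function.Bijective (algebraMap (A ⧸ I) (A' ⧸ I.map (algebraMap A A')))) :
    ∃ ρ : A' →ₐ[A] A, ∀ x, x - algebraMap A A' (ρ x) ∈ I.map (algebraMap A A') :=
  exists_retraction I _ (fun a => Ideal.Quotient.algebraMap_quotient_map_quotient a) hbij

end retraction

section idempotents

variable {A B : Type u} [CommRing A] [CommRing B] [Algebra A B]

/-- Idempotents lift along `B → B/IB` for `B` integral over a henselian pair `(A, I)`
(Stacks 09XI (1) ⇒ (4)), elementwise form. -/
theorem exists_idempotent_lift_of_isIntegral [Algebra.IsIntegral A B] (I : Ideal A)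
    [HenselianRing A I] (b : B) (hb : b * b - b ∈ I.map (algebraMap A B)) :
    ∃ e : B, IsIdempotentElem e ∧ e - b ∈ I.map (algebraMap A B) := by
  have hē : IsIdempotentElem (Ideal.Quotient.mk (I.map (algebraMap A B)) b) := by
    change _ * _ = _
    rw [← map_mul]
    exact Ideal.Quotient.eq.2 hb
  obtain ⟨A', _, _, hEt, hbij, e', he', hlift⟩ := Groth.Agent.S2041.result I _ hē
  obtain ⟨ρ, -⟩ := exists_retraction' I hbij
  let μ : TensorProduct A A' B →ₐ[A] B :=
    Algebra.TensorProduct.lift ((Algebra.ofId A B).comp ρ) (AlgHom.id A B)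
      fun _ _ => Commute.all _ _
  refine ⟨μ e', he'.map μ, ?_⟩
  have h1 : μ (e' - 1 ⊗ₜ b) = μ e' - b := by
    rw [map_sub]
    congr 1
    simp [μ]
  rw [← h1]
  have hmap : (I.map (algebraMap A (TensorProduct A A' B))).map (μ : TensorProduct A A' B →+* B) =
      I.map (algebraMap A B) := by
    rw [Ideal.map_map]
    exact congrArg (fun f => Ideal.map f I) μ.comp_algebraMap
  rw [← hmap]
  exact Ideal.mem_map_of_mem _ (hlift b rfl)

/-- Quotient form of `exists_idempotent_lift_of_isIntegral`. -/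
theorem surjOn_idempotents_of_isIntegral [Algebra.IsIntegral A B] (I : Ideal A)
    [HenselianRing A I] :
    Set.SurjOn (Ideal.Quotient.mk (I.map (algebraMap A B)))
      {e : B | IsIdempotentElem e} {e | IsIdempotentElem e} := by
  intro ē hē
  obtain ⟨b, rfl⟩ := Ideal.Quotient.mk_surjective ē
  have hb : b * b - b ∈ I.map (algebraMap A B) := by
    rw [← Ideal.Quotient.eq, map_mul]
    exact hē
  obtain ⟨e, he, heb⟩ := exists_idempotent_lift_of_isIntegral I b hb
  exact ⟨e, he, Ideal.Quotient.eq.2 heb⟩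

/-- Reduction modulo `IB` is injective on idempotents, for `B` integral and `I ≤ Jac(A)`. -/
theorem injOn_idempotents_of_isIntegral [Algebra.IsIntegral A B] (I : Ideal A)
    (hI : I ≤ Ideal.jacobson ⊥) :
    Set.InjOn (Ideal.Quotient.mk (I.map (algebraMap A B))) {e : B | IsIdempotentElem e} := by
  intro e he e' he' h
  exact idempotent_eq_of_sub_mem (map_le_jacobson_of_isIntegral I hI) he he'
    (Ideal.Quotient.eq.1 h)

/-- Stacks 09XI (1) ⇒ (4). -/
theorem bijOn_idempotents_of_isIntegral [Algebra.IsIntegral A B] (I : Ideal A)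
    [HenselianRing A I] :
    Set.BijOn (Ideal.Quotient.mk (I.map (algebraMap A B)))
      {e : B | IsIdempotentElem e} {e | IsIdempotentElem e} :=
  ⟨fun _ he => he.map _, injOn_idempotents_of_isIntegral I HenselianRing.jac,
    surjOn_idempotents_of_isIntegral I⟩

end idempotents

section converse

variable {A : Type u} [CommRing A]

/-- If reduction modulo `I` is injective on idempotents of the cyclic algebras `A/K`, then `I` is
contained in the Jacobson radical. -/
theorem le_jacobson_of_injOn (I : Ideal A)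
    (h : ∀ K : Ideal A, Set.InjOn (Ideal.Quotient.mk (I.map (algebraMap A (A ⧸ K))))
      {e : A ⧸ K | IsIdempotentElem e}) : I ≤ Ideal.jacobson ⊥ := by
  intro x hx
  rw [Ideal.jacobson, Ideal.mem_sInf]
  rintro 𝔪 ⟨-, h𝔪⟩
  by_contra hx𝔪
  obtain ⟨y, m, hm, hym⟩ := h𝔪.exists_inv hx𝔪
  set i := y * x with hi
  have hiI : i ∈ I := I.mul_mem_left _ hx
  let K : Ideal A := I ⊓ 𝔪
  have hidem : IsIdempotentElem (Ideal.Quotient.mk K i) := by
    change _ * _ = _
    rw [← map_mul, Ideal.Quotient.eq]
    have e1 : i * i - i = -(i * m) := by linear_combination i * hym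
    rw [e1]
    exact K.neg_mem ⟨I.mul_mem_right _ hiI, 𝔪.mul_mem_left _ hm⟩
  have h0 : Ideal.Quotient.mk (I.map (algebraMap A (A ⧸ K))) (Ideal.Quotient.mk K i) =
      Ideal.Quotient.mk (I.map (algebraMap A (A ⧸ K))) 0 := by
    rw [map_zero, Ideal.Quotient.eq_zero_iff_mem]
    exact Ideal.mem_map_of_mem _ hiI
  have h1 := h K hidem (IsIdempotentElem.zero) h0
  have h2 : i ∈ K := Ideal.Quotient.eq_zero_iff_mem.1 h1
  have h3 : (1 : A) ∈ 𝔪 := by
    rw [← hym]
    exact 𝔪.add_mem h2.2 hm
  exact h𝔪.ne_top ((Ideal.eq_top_iff_one _).2 h3)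

/-- If `I ≤ Jac(A)` and idempotents lift for the monogenic finite free algebras `A[X]/(g)`, then
`(A, I)` satisfies Gabber's condition (Stacks 09XI (3) ⇒ (5)). -/
theorem isGabber_of_surjOn (I : Ideal A) (hI : I ≤ Ideal.jacobson ⊥)
    (h : ∀ g : A[X], g.Monic →
      Set.SurjOn (Ideal.Quotient.mk (I.map (algebraMap A (AdjoinRoot g))))
        {e | IsIdempotentElem e} {e | IsIdempotentElem e}) : IsGabber A I := by
  refine ⟨hI, fun n f hfm hfbar => ?_⟩
  rcases subsingleton_or_nontrivial A with hsub | hnon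
  · exact ⟨0, Subsingleton.elim _ _, by rw [Subsingleton.elim (0 - 1 : A) 0]; exact I.zero_mem⟩
  have hItop : I ≠ ⊤ := by
    intro htop
    have h1 : (1 : A) ∈ Ideal.jacobson (⊥ : Ideal A) := hI (htop ▸ Submodule.mem_top)
    have := (Ideal.mem_jacobson_bot.1 h1) (-1)
    simp at this
  have : Nontrivial (A ⧸ I) := Ideal.Quotient.nontrivial_iff.2 hItop
  set q : A[X] := X ^ (n + 1) * (X - 1) with hq
  have hqm : q.Monic := by
    have : (X - 1 : A[X]) = X - C 1 := by simp
    rw [hq, this]
    exact (monic_X_pow _).mul (monic_X_sub_C 1)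
  have hqdeg : q.natDegree = n + 2 := by
    have : (X - 1 : A[X]) = X - C 1 := by simp
    rw [hq, this, (monic_X_pow _).natDegree_mul (monic_X_sub_C 1), natDegree_X_pow,
      natDegree_X_sub_C]
  have hfdeg : f.natDegree = n + 2 := by
    rw [← hfm.natDegree_map (Ideal.Quotient.mk I), hfbar,
      (monic_X_sub_C 1).natDegree_mul (monic_X_pow _), natDegree_X_pow, natDegree_X_sub_C]
    ring
  set pp : A[X] := f - q with hpp
  have hppI : ∀ i, pp.coeff i ∈ I := by
    intro i
    rw [← Ideal.Quotient.eq_zero_iff_mem, ← Polynomial.coeff_map, hpp, Polynomial.map_sub, hfbar,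
      hq]
    simp [mul_comm]
  have hppdeg : pp.natDegree ≤ n + 1 := by
    rw [Polynomial.natDegree_le_iff_coeff_eq_zero]
    intro N hN
    rw [hpp, Polynomial.coeff_sub]
    rcases Nat.lt_or_ge (n + 2) N with hlt | hge
    · rw [Polynomial.coeff_eq_zero_of_natDegree_lt (hfdeg ▸ hlt),
        Polynomial.coeff_eq_zero_of_natDegree_lt (hqdeg ▸ hlt), sub_zero]
    · have hNeq : N = n + 2 := by omega
      have h1 : f.coeff N = 1 := by rw [hNeq, ← hfdeg]; exact hfm.coeff_natDegree
      have h2 : q.coeff N = 1 := by rw [hNeq, ← hqdeg]; exact hqm.coeff_natDegree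
      rw [h1, h2, sub_self]
  have hfeq : (X ^ (n + 1) * (X - 1) + pp : A[X]) = f := by rw [hpp, hq]; ring
  have hbig : ((X ^ (n + 1) * (X - 1) + pp) * (X - 1) ^ (n + 1 - 1) : A[X]).Monic :=
    Groth.Agent.Lib.GabberIdem.gabber_big_monic (n + 1) pp hppdeg
  obtain ⟨α, hα1, hα⟩ := Groth.Agent.Lib.GabberIdem.exists_root_of_idempotent_lift I hI (n + 1)
    (Nat.succ_pos n) pp hppdeg hppI (h _ hbig)
  rw [hfeq] at hα
  exact ⟨α, hα, hα1⟩

end converse

section integral

variable {A B : Type u} [CommRing A] [CommRing B] [Algebra A B]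

/-- **Integral algebras over henselian pairs are henselian** (Stacks 09XK). -/
theorem henselianRing_of_isIntegral [Algebra.IsIntegral A B] (I : Ideal A) [HenselianRing A I] :
    HenselianRing B (I.map (algebraMap A B)) := by
  refine henselianRing_of_isGabber _ (isGabber_of_surjOn _
    (map_le_jacobson_of_isIntegral I HenselianRing.jac) fun g hg => ?_)
  have hfin : Module.Finite B (AdjoinRoot g) := hg.finite_adjoinRoot
  have : Algebra.IsIntegral B (AdjoinRoot g) := Algebra.IsIntegral.of_finite B (AdjoinRoot g)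
  have : Algebra.IsIntegral A (AdjoinRoot g) := Algebra.IsIntegral.trans B
  have hideal : (I.map (algebraMap A B)).map (algebraMap B (AdjoinRoot g)) =
      I.map (algebraMap A (AdjoinRoot g)) := by
    rw [Ideal.map_map, ← IsScalarTower.algebraMap_eq]
  intro ē hē
  obtain ⟨b, rfl⟩ := Ideal.Quotient.mk_surjective ē
  have hb : b * b - b ∈ I.map (algebraMap A (AdjoinRoot g)) := by
    rw [← hideal, ← Ideal.Quotient.eq, map_mul]
    exact hē
  obtain ⟨e, he, heb⟩ := exists_idempotent_lift_of_isIntegral I b hb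
  rw [← hideal] at heb
  exact ⟨e, he, Ideal.Quotient.eq.2 heb⟩

end integral

section factorization

variable {A : Type u} [CommRing A]

/-- Coprime monic factorizations lift over a henselian pair (Stacks 09XI (2) ⇒ (1)). -/
theorem exists_factorization_lift (I : Ideal A) [HenselianRing A I] (f : A[X]) (hf : f.Monic)
    (g₀ h₀ : (A ⧸ I)[X]) (hg₀ : g₀.Monic) (hh₀ : h₀.Monic) (hcop : IsCoprime g₀ h₀)
    (hfac : f.map (Ideal.Quotient.mk I) = g₀ * h₀) :
    ∃ g h : A[X], g.Monic ∧ h.Monic ∧ f = g * h ∧ g.map (Ideal.Quotient.mk I) = g₀ ∧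
      h.map (Ideal.Quotient.mk I) = h₀ := by
  obtain ⟨A', _, _, hEt, hbij, g', h', hg', hh', hfac', hgmap, hhmap⟩ :=
    Groth.Agent.S2042.result I f hf g₀ h₀ hg₀ hh₀ hcop hfac
  obtain ⟨ρ, hρ⟩ := exists_retraction' I hbij
  set φ := algebraMap (A ⧸ I) (A' ⧸ I.map (algebraMap A A')) with hφ
  have hcomp : ∀ x : A', φ (Ideal.Quotient.mk I (ρ x)) =
      Ideal.Quotient.mk (I.map (algebraMap A A')) x := by
    intro x
    rw [hφ, Ideal.Quotient.algebraMap_quotient_map_quotient]
    exact (Ideal.Quotient.eq.2 (hρ x)).symm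
  have hcomp' : (φ.comp (Ideal.Quotient.mk I)).comp (ρ : A' →+* A) =
      Ideal.Quotient.mk (I.map (algebraMap A A')) := RingHom.ext hcomp
  have hinj := Polynomial.map_injective φ hbij.1
  refine ⟨g'.map (ρ : A' →+* A), h'.map (ρ : A' →+* A), hg'.map _, hh'.map _, ?_, ?_, ?_⟩
  · rw [← Polynomial.map_mul, ← hfac', Polynomial.map_map]
    have : (ρ : A' →+* A).comp (algebraMap A A') = RingHom.id A := by
      ext a; exact ρ.commutes a
    rw [this, Polynomial.map_id]
  · apply hinj
    rw [Polynomial.map_map, Polynomial.map_map, hcomp', hgmap]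
  · apply hinj
    rw [Polynomial.map_map, Polynomial.map_map, hcomp', hhmap]

/-- Lifting of coprime factorizations implies Gabber's condition (Stacks 09XI (1) ⇒ (5)). -/
theorem isGabber_of_factorization (I : Ideal A) (hI : I ≤ Ideal.jacobson ⊥)
    (h : ∀ f : A[X], f.Monic → ∀ g₀ h₀ : (A ⧸ I)[X], g₀.Monic → h₀.Monic → IsCoprime g₀ h₀ →
      f.map (Ideal.Quotient.mk I) = g₀ * h₀ →
      ∃ g h : A[X], g.Monic ∧ h.Monic ∧ f = g * h ∧ g.map (Ideal.Quotient.mk I) = g₀ ∧
        h.map (Ideal.Quotient.mk I) = h₀) : IsGabber A I := by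
  refine ⟨hI, fun n f hfm hfbar => ?_⟩
  rcases subsingleton_or_nontrivial A with hsub | hnon
  · exact ⟨0, Subsingleton.elim _ _, by rw [Subsingleton.elim (0 - 1 : A) 0]; exact I.zero_mem⟩
  have hItop : I ≠ ⊤ := by
    intro htop
    have h1 : (1 : A) ∈ Ideal.jacobson (⊥ : Ideal A) := hI (htop ▸ Submodule.mem_top)
    have := (Ideal.mem_jacobson_bot.1 h1) (-1)
    simp at this
  have : Nontrivial (A ⧸ I) := Ideal.Quotient.nontrivial_iff.2 hItop
  have hcop : IsCoprime (X - C 1 : (A ⧸ I)[X]) (X ^ (n + 1)) := by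
    refine IsCoprime.pow_right ⟨-1, 1, ?_⟩
    simp
  obtain ⟨g, h', hg, hh', hfac, hgmap, -⟩ := h f hfm _ _ (monic_X_sub_C 1) (monic_X_pow _) hcop hfbar
  have hgdeg : g.natDegree = 1 := by
    rw [← hg.natDegree_map (Ideal.Quotient.mk I), hgmap, natDegree_X_sub_C]
  have hgeq := hg.eq_X_add_C hgdeg
  refine ⟨-g.coeff 0, ?_, ?_⟩
  · rw [hfac, IsRoot, eval_mul]
    have : g.eval (-g.coeff 0) = 0 := by
      rw [hgeq]; simp
    rw [this, zero_mul]
  · have h0 : Ideal.Quotient.mk I (g.coeff 0) = -1 := by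
      rw [← Polynomial.coeff_map, hgmap]
      simp
    rw [← Ideal.Quotient.eq, map_neg, h0, neg_neg, map_one]

end factorization

end Groth.Agent.Lib.HenselIdem
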