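import Mathlib
import Groth.Agent.Lib.HenselIdem
import Groth.Agent.Lib.Azumaya16Hom

/-!
# Noncommutative idempotent lifting over henselian local rings

* `exists_idempotent_lift`: `R` henselian local, `C` a (noncommutative) `R`-algebra, finite as a module,
  `ρ : C →+* T` a ring hom whose kernel is exactly `m C`. Then idempotents of `T` in the range of `ρ`
  lift to idempotents of `C`.
-/

set_option autoImplicit false
universe u v w

namespace Groth.Agent.Lib.HenselAzumaya16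

open TensorProduct

section Lift

variable {R : Type u} [CommRing R]

/-- An element `b` of a finite algebra lying in `I C` satisfies `b ^ n ∈ I • R[b]`-span: more precisely
`b ^ n = ∑ r_k • b ^ k` with `r_k ∈ I`. -/
theorem exists_pow_eq_sum_of_mem_smul_top {C : Type v} [Ring C] [Algebra R C] [Module.Finite R C]
    (I : Ideal R) (b : C) (hb : b ∈ I • (⊤ : Submodule R C)) :
    ∃ (n : ℕ) (r : ℕ → R), (∀ k, r k ∈ I) ∧ b ^ n = ∑ k ∈ Finset.range n, r k • b ^ k := by
  have hrange : LinearMap.range (LinearMap.mulLeft R b) ≤ I • (⊤ : Submodule R C) := by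
    rintro _ ⟨x, rfl⟩
    change b * x ∈ _
    have h := Submodule.map_smul'' I (⊤ : Submodule R C) (LinearMap.mulRight R x)
    have h2 : LinearMap.mulRight R x b ∈ Submodule.map (LinearMap.mulRight R x) (I • ⊤) :=
      Submodule.mem_map_of_mem hb
    rw [h] at h2
    exact Submodule.smul_mono le_rfl le_top h2
  obtain ⟨p, hp, hdeg, hcoeff, hev⟩ :=
    LinearMap.exists_monic_and_natDegree_eq_and_coeff_mem_pow_and_aeval_eq_zero R
      (LinearMap.mulLeft R b) I hrange
  have hpb : Polynomial.aeval b p = 0 := by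
    have h1 : Polynomial.aeval (Algebra.lmul R C b) p = Algebra.lmul R C (Polynomial.aeval b p) :=
      Polynomial.aeval_algHom_apply (Algebra.lmul R C) b p
    have h2 : Polynomial.aeval (Algebra.lmul R C b) p = 0 := hev
    rw [h1] at h2
    have := LinearMap.congr_fun h2 1
    simpa using this
  refine ⟨p.natDegree, fun k => - p.coeff k * (if k < p.natDegree then 1 else 0), ?_, ?_⟩
  · intro k
    dsimp only
    split_ifs with hk
    · have : p.coeff k ∈ I ^ (p.natDegree - k) := hcoeff k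
      have h1 : I ^ (p.natDegree - k) ≤ I := Ideal.pow_le_self (by omega)
      simpa using I.neg_mem (h1 this)
    · simp
  · rw [Polynomial.aeval_eq_sum_range, Finset.sum_range_succ, hp.coeff_natDegree, one_smul] at hpb
    rw [eq_neg_of_add_eq_zero_right hpb, ← Finset.sum_neg_distrib]
    apply Finset.sum_congr rfl
    intro k hk
    rw [Finset.mem_range] at hk
    simp [hk]

open scoped IsMulCommutative in
/-- **Noncommutative idempotent lifting over a henselian local ring.** -/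
theorem exists_idempotent_lift [HenselianLocalRing R] {C : Type u} [Ring C] [Algebra R C]
    [Module.Finite R C] {T : Type w} [Ring T] (ρ : C →+* T)
    (h1 : ∀ r ∈ IsLocalRing.maximalIdeal R, ρ (algebraMap R C r) = 0)
    (h2 : ∀ c : C, ρ c = 0 → c ∈ (IsLocalRing.maximalIdeal R) • (⊤ : Submodule R C))
    (c : C) (hc : IsIdempotentElem (ρ c)) : ∃ e : C, IsIdempotentElem e ∧ ρ e = ρ c := by
  classical
  set m := IsLocalRing.maximalIdeal R with hm
  let B : Subalgebra R C := Algebra.adjoin R {c}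
  haveI : IsMulCommutative B := Algebra.isMulCommutative_adjoin R (s := {c}) (by
    intro a ha b hb
    rw [Set.mem_singleton_iff] at ha hb
    rw [ha, hb])
  have hint : Algebra.IsIntegral R B := by
    refine ⟨fun x => ?_⟩
    have hx : IsIntegral R (x : C) := Algebra.IsIntegral.isIntegral (R := R) (x : C)
    exact (isIntegral_algHom_iff B.val Subtype.val_injective).1 hx
  let g : B →+* T := ρ.comp (B.val : B →ₐ[R] C).toRingHom
  have hg : ∀ b ∈ m.map (algebraMap R B), g b = 0 := by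
    intro b hb
    have hle : m.map (algebraMap R B) ≤ RingHom.ker g := by
      rw [Ideal.map_le_iff_le_comap]
      intro r hr
      rw [Ideal.mem_comap, RingHom.mem_ker]
      change ρ ((algebraMap R B r : B) : C) = 0
      exact h1 r hr
    exact hle hb
  let f : B ⧸ m.map (algebraMap R B) →+* T := Ideal.Quotient.lift _ g hg
  have hker : ∀ x ∈ RingHom.ker f, IsNilpotent x := by
    intro x hx
    obtain ⟨b, rfl⟩ := Ideal.Quotient.mk_surjective x
    rw [RingHom.mem_ker] at hx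
    have hb0 : ρ (b : C) = 0 := hx
    obtain ⟨n, r, hr, hpow⟩ := exists_pow_eq_sum_of_mem_smul_top m (b : C) (h2 _ hb0)
    refine ⟨n, ?_⟩
    rw [← map_pow, Ideal.Quotient.eq_zero_iff_mem]
    have hpowB : b ^ n = ∑ k ∈ Finset.range n, r k • b ^ k := by
      apply Subtype.val_injective
      rw [SubmonoidClass.coe_pow, hpow]
      simp
    rw [hpowB]
    apply Ideal.sum_mem
    intro k _
    rw [Algebra.smul_def]
    exact Ideal.mul_mem_right _ _ (Ideal.mem_map_of_mem _ (hr k))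
  have hcB : c ∈ B := Algebra.subset_adjoin (Set.mem_singleton c)
  obtain ⟨ε, hε, hfε⟩ := exists_isIdempotentElem_eq_of_ker_isNilpotent f hker (ρ c)
    ⟨Ideal.Quotient.mk _ ⟨c, hcB⟩, rfl⟩ hc
  obtain ⟨b₁, rfl⟩ := Ideal.Quotient.mk_surjective ε
  have hb₁ : b₁ * b₁ - b₁ ∈ m.map (algebraMap R B) := by
    rw [← Ideal.Quotient.eq, map_mul]
    exact hε
  obtain ⟨e, he, heb⟩ := Groth.Agent.Lib.HenselIdem.exists_idempotent_lift_of_isIntegral
    (A := R) (B := B) m b₁ hb₁
  refine ⟨(e : C), ?_, ?_⟩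
  · have := congrArg (Subtype.val : B → C) he.eq
    change (e : C) * (e : C) = (e : C)
    simpa using this
  · have h3 : Ideal.Quotient.mk (m.map (algebraMap R B)) e = Ideal.Quotient.mk _ b₁ :=
      Ideal.Quotient.eq.2 heb
    have h4 : f (Ideal.Quotient.mk _ e) = ρ (e : C) := rfl
    rw [← h4, h3, hfε]

end Lift

section Act

variable {R : Type u} [CommRing R] [IsLocalRing R]
  {A : Type v} [Ring A] [Algebra R A] {B : Type w} [Ring B] [Algebra R B]

local notation "k" => IsLocalRing.ResidueField R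

theorem tmul_one_surjective (x : k ⊗[R] B) : ∃ b : B, (1 : k) ⊗ₜ[R] b = x := by
  induction x using TensorProduct.induction_on with
  | zero => exact ⟨0, by simp⟩
  | add x y hx hy =>
    obtain ⟨a, rfl⟩ := hx
    obtain ⟨b, rfl⟩ := hy
    exact ⟨a + b, by rw [TensorProduct.tmul_add]⟩
  | tmul c b =>
    obtain ⟨r, rfl⟩ := IsLocalRing.residue_surjective c
    refine ⟨r • b, ?_⟩
    rw [TensorProduct.tmul_smul, TensorProduct.smul_tmul', Algebra.smul_def, mul_one]
    rfl

/-- left multiplication action of `B` on `k ⊗ B` -/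
noncomputable def actL : B →ₐ[R] Module.End k (k ⊗[R] B) :=
  ((Algebra.lmul k (k ⊗[R] B)).restrictScalars R).comp Algebra.TensorProduct.includeRight

theorem actL_apply (b : B) (x : k ⊗[R] B) : actL (R := R) b x = ((1 : k) ⊗ₜ[R] b) * x := rfl

/-- right multiplication action of `Aᵐᵒᵖ` on `k ⊗ B` through `e₀`. -/
noncomputable def actR (e₀ : (k ⊗[R] A) ≃ₐ[k] (k ⊗[R] B)) : Aᵐᵒᵖ →ₐ[R] Module.End k (k ⊗[R] B) :=
  AlgHom.ofLinearMap
    { toFun := fun a => LinearMap.mulRight k (e₀ ((1 : k) ⊗ₜ[R] a.unop))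
      map_add' := fun a b => by
        refine LinearMap.ext fun x => ?_
        simp [TensorProduct.tmul_add, mul_add]
      map_smul' := fun r a => by
        refine LinearMap.ext fun x => ?_
        have : e₀ ((1 : k) ⊗ₜ[R] (r • a.unop)) = r • e₀ ((1 : k) ⊗ₜ[R] a.unop) := by
          rw [TensorProduct.tmul_smul, ← algebraMap_smul k r ((1 : k) ⊗ₜ[R] a.unop), map_smul,
            algebraMap_smul]
        simp only [MulOpposite.unop_smul, this, LinearMap.mulRight_apply, RingHom.id_apply,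
          LinearMap.smul_apply, mul_smul_comm] }
    (by
      refine LinearMap.ext fun x => ?_
      have h1 : ((1 : k) ⊗ₜ[R] (1 : A)) = 1 := rfl
      simp [h1])
    (fun a b => by
      refine LinearMap.ext fun x => ?_
      have h1 : ((1 : k) ⊗ₜ[R] (b.unop * a.unop)) =
          ((1 : k) ⊗ₜ[R] b.unop) * ((1 : k) ⊗ₜ[R] a.unop) := by
        rw [Algebra.TensorProduct.tmul_mul_tmul, mul_one]
      simp only [MulOpposite.unop_mul, LinearMap.coe_mk, AddHom.coe_mk, LinearMap.mulRight_apply,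
        Module.End.mul_apply, h1, map_mul, mul_assoc])

theorem actR_apply (e₀ : (k ⊗[R] A) ≃ₐ[k] (k ⊗[R] B)) (a : Aᵐᵒᵖ) (x : k ⊗[R] B) :
    actR e₀ a x = x * e₀ ((1 : k) ⊗ₜ[R] a.unop) := rfl

/-- the action of `B ⊗ Aᵐᵒᵖ` on `k ⊗ B`. -/
noncomputable def act (e₀ : (k ⊗[R] A) ≃ₐ[k] (k ⊗[R] B)) :
    (B ⊗[R] Aᵐᵒᵖ) →ₐ[R] Module.End k (k ⊗[R] B) :=
  Algebra.TensorProduct.lift actL (actR e₀) (fun b a => by
    rw [commute_iff_eq]
    refine LinearMap.ext fun x => ?_
    simp only [Module.End.mul_apply, actL_apply, actR_apply, mul_assoc])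

theorem act_tmul (e₀ : (k ⊗[R] A) ≃ₐ[k] (k ⊗[R] B)) (b : B) (a : Aᵐᵒᵖ) (x : k ⊗[R] B) :
    act e₀ (b ⊗ₜ[R] a) x = ((1 : k) ⊗ₜ[R] b) * x * e₀ ((1 : k) ⊗ₜ[R] a.unop) := by
  rw [act, Algebra.TensorProduct.lift_tmul, Module.End.mul_apply, actL_apply, actR_apply, mul_assoc]

end Act

section Main

variable {R : Type u} [CommRing R] [IsLocalRing R]
  {A : Type v} [Ring A] [Algebra R A] [IsAzumaya R A]
  {B : Type w} [Ring B] [Algebra R B] [IsAzumaya R B]

local notation "k" => IsLocalRing.ResidueField R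

attribute [local instance] Module.free_of_flat_of_isLocalRing

theorem act_surjective (e₀ : (k ⊗[R] A) ≃ₐ[k] (k ⊗[R] B)) : Function.Surjective (act e₀) := by
  intro φ
  haveI : IsAzumaya k (k ⊗[R] B) := Groth.Agent.Lib.Azumaya16.isAzumaya_baseChange R k B
  obtain ⟨t, rfl⟩ := (IsAzumaya.AlgHom.mulLeftRight_bij k (k ⊗[R] B)).2 φ
  induction t using TensorProduct.induction_on with
  | zero => exact ⟨0, by simp⟩
  | add s t hs ht =>
    obtain ⟨x, hx⟩ := hs
    obtain ⟨y, hy⟩ := ht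
    exact ⟨x + y, by rw [map_add, hx, hy, map_add]⟩
  | tmul x y =>
    obtain ⟨b, rfl⟩ := tmul_one_surjective x
    obtain ⟨z, hz⟩ := e₀.surjective y.unop
    obtain ⟨a, rfl⟩ := tmul_one_surjective z
    refine ⟨b ⊗ₜ MulOpposite.op a, ?_⟩
    refine LinearMap.ext fun v => ?_
    rw [act_tmul, AlgHom.mulLeftRight_apply, MulOpposite.unop_op, hz]

theorem finrank_eq_of_fibre_equiv (e₀ : (k ⊗[R] A) ≃ₐ[k] (k ⊗[R] B)) :
    Module.finrank R A = Module.finrank R B := by
  rw [← Module.finrank_baseChange (R := k) (S := R) (M' := A),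
    ← Module.finrank_baseChange (R := k) (S := R) (M' := B)]
  exact e₀.toLinearEquiv.finrank_eq

theorem mem_smul_top_of_act_eq_zero (e₀ : (k ⊗[R] A) ≃ₐ[k] (k ⊗[R] B)) (c : B ⊗[R] Aᵐᵒᵖ)
    (hc : act e₀ c = 0) : c ∈ (IsLocalRing.maximalIdeal R) • (⊤ : Submodule R (B ⊗[R] Aᵐᵒᵖ)) := by
  haveI : Module.Free R Aᵐᵒᵖ := Module.Free.of_equiv (MulOpposite.opLinearEquiv R : A ≃ₗ[R] Aᵐᵒᵖ)
  let F : k ⊗[R] (B ⊗[R] Aᵐᵒᵖ) →ₗ[k] Module.End k (k ⊗[R] B) :=
    LinearMap.liftBaseChange k (act e₀).toLinearMap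
  have hFsurj : Function.Surjective F := fun φ => by
    obtain ⟨c, rfl⟩ := act_surjective e₀ φ
    exact ⟨1 ⊗ₜ c, by simp [F]⟩
  have hfr : Module.finrank k (k ⊗[R] (B ⊗[R] Aᵐᵒᵖ)) = Module.finrank k (Module.End k (k ⊗[R] B)) := by
    rw [Module.finrank_baseChange, Module.finrank_tensorProduct, Module.finrank_linearMap,
      Module.finrank_baseChange,
      ← (MulOpposite.opLinearEquiv R : A ≃ₗ[R] Aᵐᵒᵖ).finrank_eq, finrank_eq_of_fibre_equiv e₀]
  have hFinj : Function.Injective F :=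
    (LinearMap.injective_iff_surjective_of_finrank_eq_finrank hfr).2 hFsurj
  have h0 : (1 : k) ⊗ₜ[R] c = 0 := hFinj (by simp [F, hc])
  have h := LinearMap.ker_tensorProductMk (R := R) (Q := B ⊗[R] Aᵐᵒᵖ) (I := IsLocalRing.maximalIdeal R)
  rw [← h]
  exact h0

end Main

section Final

variable {R : Type u} [CommRing R] [HenselianLocalRing R]
  {A : Type u} [Ring A] [Algebra R A] [IsAzumaya R A]
  {B : Type u} [Ring B] [Algebra R B] [IsAzumaya R B]

local notation "k" => IsLocalRing.ResidueField R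

attribute [local instance] Module.free_of_flat_of_isLocalRing

/-- Over a henselian local ring, an isomorphism between the special fibres of two Azumaya algebras
lifts to an algebra homomorphism. -/
theorem exists_algHom_lift (e₀ : (k ⊗[R] A) ≃ₐ[k] (k ⊗[R] B)) :
    ∃ φ : A →ₐ[R] B, ∀ a : A, e₀ ((1 : k) ⊗ₜ[R] a) = (1 : k) ⊗ₜ[R] (φ a) := by
  classical
  set m := IsLocalRing.maximalIdeal R with hm
  have hmjac : m ≤ Ideal.jacobson ⊥ := (IsLocalRing.jacobson_eq_maximalIdeal ⊥ bot_ne_top).ge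
  haveI : IsAzumaya k (k ⊗[R] B) := Groth.Agent.Lib.Azumaya16.isAzumaya_baseChange R k B
  haveI : Nontrivial (k ⊗[R] B) := Groth.Agent.Lib.Azumaya16.nontrivial_of_isAzumaya_field k _
  -- the rank one projector
  obtain ⟨lam, hlam⟩ := Module.Projective.exists_dual_eq_one k (one_ne_zero : (1 : k ⊗[R] B) ≠ 0)
  let π : Module.End k (k ⊗[R] B) := lam.smulRight (1 : k ⊗[R] B)
  have hπ_apply : ∀ x, π x = lam x • (1 : k ⊗[R] B) := fun x => rfl
  have hπ : IsIdempotentElem π := by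
    refine LinearMap.ext fun x => ?_
    rw [Module.End.mul_apply, hπ_apply, hπ_apply, map_smul, hlam, smul_eq_mul, mul_one]
  obtain ⟨c, hc⟩ := act_surjective e₀ π
  let ρ : (B ⊗[R] Aᵐᵒᵖ) →+* Module.End k (k ⊗[R] B) := (act e₀).toRingHom
  have hρ : ∀ x, ρ x = act e₀ x := fun _ => rfl
  have h1 : ∀ r ∈ m, ρ (algebraMap R (B ⊗[R] Aᵐᵒᵖ) r) = 0 := by
    intro r hr
    rw [hρ, AlgHom.commutes]
    refine LinearMap.ext fun x => ?_
    rw [Module.algebraMap_end_apply, LinearMap.zero_apply, ← algebraMap_smul k r x]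
    have : algebraMap R k r = 0 := by
      rw [IsLocalRing.ResidueField.algebraMap_eq, IsLocalRing.residue_eq_zero_iff]
      exact hr
    rw [this, zero_smul]
  obtain ⟨e, he, hρe⟩ := exists_idempotent_lift ρ h1
    (fun c hc => mem_smul_top_of_act_eq_zero e₀ c hc) c (by rw [hρ, hc]; exact hπ)
  rw [hρ, hρ, hc] at hρe
  -- `θ x = ρ x 1`
  have hθe : ∀ x : B ⊗[R] Aᵐᵒᵖ, act e₀ (x * e) 1 = act e₀ x 1 := by
    intro x
    rw [map_mul, Module.End.mul_apply, hρe, hπ_apply, hlam, one_smul]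
  have hker : ∀ x : B ⊗[R] Aᵐᵒᵖ, x * e = x → act e₀ x 1 = 0 →
      x ∈ m • (⊤ : Submodule R (B ⊗[R] Aᵐᵒᵖ)) := by
    intro x hx h0
    apply mem_smul_top_of_act_eq_zero e₀
    refine LinearMap.ext fun w => ?_
    rw [← hx, map_mul, Module.End.mul_apply, hρe, hπ_apply, map_smul, h0, smul_zero,
      LinearMap.zero_apply]
  -- the module `P = C e`
  let P : Submodule R (B ⊗[R] Aᵐᵒᵖ) := LinearMap.range (LinearMap.mulRight R e)
  have hP : ∀ x : B ⊗[R] Aᵐᵒᵖ, x ∈ P → x * e = x := by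
    rintro _ ⟨y, rfl⟩
    change y * e * e = y * e
    rw [mul_assoc, he.eq]
  let ψ : B →ₗ[R] (B ⊗[R] Aᵐᵒᵖ) := (LinearMap.mulRight R e) ∘ₗ
    (Algebra.TensorProduct.includeLeft : B →ₐ[R] (B ⊗[R] Aᵐᵒᵖ)).toLinearMap
  have hψ_apply : ∀ b, ψ b = (b ⊗ₜ[R] (1 : Aᵐᵒᵖ)) * e := fun b => rfl
  have hone : ((1 : k) ⊗ₜ[R] (1 : A)) = 1 := rfl
  have hθψ : ∀ b, act e₀ (ψ b) 1 = (1 : k) ⊗ₜ[R] b := by
    intro b
    rw [hψ_apply, hθe, act_tmul, MulOpposite.unop_one, hone, map_one, mul_one, mul_one]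
  have hPfg : P.FG := by
    have : P = Submodule.map (LinearMap.mulRight R e) ⊤ := (Submodule.map_top _).symm
    rw [this]
    exact Module.Finite.fg_top.map _
  have hsurj : P ≤ LinearMap.range ψ := by
    apply Submodule.le_of_le_smul_of_le_jacobson_bot hPfg hmjac
    intro x hx
    obtain ⟨b, hb⟩ := tmul_one_surjective (act e₀ x 1)
    have hx' := hP x hx
    have h3 : (x - ψ b) * e = x - ψ b := by rw [sub_mul, hx', hψ_apply, mul_assoc, he.eq]
    have hd : x - ψ b ∈ m • (⊤ : Submodule R (B ⊗[R] Aᵐᵒᵖ)) := by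
      apply hker _ h3
      rw [map_sub, LinearMap.sub_apply, hθψ, hb, sub_self]
    have hd2 : x - ψ b ∈ m • P := by
      rw [← h3]
      have h4 := Submodule.map_smul'' m (⊤ : Submodule R (B ⊗[R] Aᵐᵒᵖ)) (LinearMap.mulRight R e)
      have h5 : LinearMap.mulRight R e (x - ψ b) ∈
          Submodule.map (LinearMap.mulRight R e) (m • ⊤) := Submodule.mem_map_of_mem hd
      rw [h4, Submodule.map_top] at h5
      exact h5
    have : x = ψ b + (x - ψ b) := by abel
    rw [this]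
    exact Submodule.add_mem_sup ⟨b, rfl⟩ hd2
  have hkerψ : ∀ b, ψ b = 0 → b ∈ m • (⊤ : Submodule R B) := by
    intro b hb
    have h0 : (1 : k) ⊗ₜ[R] b = 0 := by rw [← hθψ, hb, map_zero, LinearMap.zero_apply]
    rw [← LinearMap.ker_tensorProductMk (R := R) (Q := B) (I := m)]
    exact h0
  let ψ' : B →ₗ[R] P := ψ.codRestrict P (fun b => ⟨b ⊗ₜ[R] (1 : Aᵐᵒᵖ), rfl⟩)
  have hψ'surj : Function.Surjective ψ' := by
    rintro ⟨x, hx⟩
    obtain ⟨b, hb⟩ := hsurj hx
    exact ⟨b, Subtype.ext hb⟩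
  haveI : Module.Projective R P := Module.Projective.of_split P.subtype
    ((LinearMap.mulRight R e).codRestrict P (fun x => ⟨x, rfl⟩)) (by
      refine LinearMap.ext fun x => Subtype.ext ?_
      exact hP x.1 x.2)
  obtain ⟨h, hh⟩ := Module.projective_lifting_property ψ' LinearMap.id hψ'surj
  let q : B →ₗ[R] B := LinearMap.id - h ∘ₗ ψ'
  have hq_apply : ∀ b, q b = b - h (ψ' b) := fun b => rfl
  have hhψ : ∀ p : P, ψ' (h p) = p := fun p => LinearMap.congr_fun hh p
  have hq1 : ∀ b, ψ' (q b) = 0 := by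
    intro b
    rw [hq_apply, map_sub, hhψ, sub_self]
  have hqq : ∀ b, q (q b) = q b := by
    intro b
    rw [hq_apply (q b), hq1, map_zero, sub_zero]
  have hN : LinearMap.range q = ⊥ := by
    apply Submodule.eq_bot_of_le_smul_of_le_jacobson_bot m _ _ _ hmjac
    · rw [LinearMap.range_eq_map]
      exact Module.Finite.fg_top.map _
    · rintro _ ⟨b, rfl⟩
      have h6 : q b ∈ m • (⊤ : Submodule R B) := hkerψ _ (congrArg Subtype.val (hq1 b))
      rw [← hqq b]
      have h7 := Submodule.map_smul'' m (⊤ : Submodule R B) q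
      have h8 : q (q b) ∈ Submodule.map q (m • ⊤) := Submodule.mem_map_of_mem h6
      rw [h7, Submodule.map_top] at h8
      exact h8
  have hinj : Function.Injective ψ := by
    rw [injective_iff_map_eq_zero]
    intro b hb
    have hb' : ψ' b = 0 := Subtype.ext hb
    have h9 : q b = b := by rw [hq_apply, hb', map_zero, sub_zero]
    have h10 : q b ∈ LinearMap.range q := ⟨b, rfl⟩
    rw [hN, Submodule.mem_bot, h9] at h10
    exact h10
  -- the homomorphism
  have hex : ∀ a : A, ∃ b : B, ψ b = ((1 : B) ⊗ₜ[R] MulOpposite.op a) * e :=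
    fun a => hsurj ⟨_, rfl⟩
  choose φ hφ using hex
  have hφ' : ∀ a, ((φ a) ⊗ₜ[R] (1 : Aᵐᵒᵖ)) * e = ((1 : B) ⊗ₜ[R] MulOpposite.op a) * e := hφ
  have hadd : ∀ a a', φ (a + a') = φ a + φ a' := by
    intro a a'
    apply hinj
    rw [map_add, hφ, hφ, hφ, MulOpposite.op_add, TensorProduct.tmul_add, add_mul]
  have hsmul : ∀ (r : R) (a : A), φ (r • a) = r • φ a := by
    intro r a
    apply hinj
    rw [map_smul, hφ, hφ, MulOpposite.op_smul, TensorProduct.tmul_smul, smul_mul_assoc]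
  have hone' : φ 1 = 1 := by
    apply hinj
    rw [hφ, hψ_apply, MulOpposite.op_one]
  have hmul : ∀ a a', φ (a * a') = φ a * φ a' := by
    intro a a'
    apply hinj
    rw [hφ, hψ_apply, MulOpposite.op_mul]
    have e1 : ((1 : B) ⊗ₜ[R] (MulOpposite.op a' * MulOpposite.op a)) =
        ((1 : B) ⊗ₜ[R] MulOpposite.op a') * ((1 : B) ⊗ₜ[R] MulOpposite.op a) := by
      rw [Algebra.TensorProduct.tmul_mul_tmul, mul_one]
    have e2 : ((φ a * φ a') ⊗ₜ[R] (1 : Aᵐᵒᵖ)) =
        ((φ a) ⊗ₜ[R] (1 : Aᵐᵒᵖ)) * ((φ a') ⊗ₜ[R] (1 : Aᵐᵒᵖ)) := by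
      rw [Algebra.TensorProduct.tmul_mul_tmul, mul_one]
    have e3 : ((1 : B) ⊗ₜ[R] MulOpposite.op a') * ((φ a) ⊗ₜ[R] (1 : Aᵐᵒᵖ)) =
        ((φ a) ⊗ₜ[R] (1 : Aᵐᵒᵖ)) * ((1 : B) ⊗ₜ[R] MulOpposite.op a') := by
      rw [Algebra.TensorProduct.tmul_mul_tmul, Algebra.TensorProduct.tmul_mul_tmul, mul_one,
        one_mul, mul_one, one_mul]
    rw [e1, e2, mul_assoc, ← hφ' a, ← mul_assoc, e3, mul_assoc, ← hφ' a', mul_assoc]
  let Φ : A →ₐ[R] B := AlgHom.ofLinearMap
    { toFun := φ, map_add' := hadd, map_smul' := fun r a => by rw [hsmul]; rfl } hone' hmul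
  refine ⟨Φ, fun a => ?_⟩
  change e₀ ((1 : k) ⊗ₜ[R] a) = (1 : k) ⊗ₜ[R] φ a
  have honeB : ((1 : k) ⊗ₜ[R] (1 : B)) = 1 := rfl
  rw [← hθψ (φ a), hφ, hθe, act_tmul, MulOpposite.unop_op, honeB, one_mul, one_mul]

/-- **Azumaya algebras over a henselian local ring are determined by their special fibre**, and every
isomorphism of special fibres lifts. -/
theorem exists_algEquiv_lift (e₀ : (k ⊗[R] A) ≃ₐ[k] (k ⊗[R] B)) :
    ∃ e : A ≃ₐ[R] B, ∀ a : A, e₀ ((1 : k) ⊗ₜ[R] a) = (1 : k) ⊗ₜ[R] (e a) := by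
  obtain ⟨φ, hφ⟩ := exists_algHom_lift e₀
  have hbij : Function.Bijective φ :=
    Groth.Agent.Lib.Azumaya16.algHom_bijective_of_linearEquiv R A B φ
      (LinearEquiv.ofFinrankEq A B (finrank_eq_of_fibre_equiv e₀))
  exact ⟨AlgEquiv.ofBijective φ hbij, fun a => hφ a⟩

end Final

end Groth.Agent.Lib.HenselAzumaya16
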