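import Mathlib

/-!
# Decomposing a ring as a finite product of local rings by lifting idempotents

Let `J` be an ideal of `B` contained in the Jacobson radical, such that `Spec (B / J)` is
discrete and every idempotent of `B / J` lifts to an idempotent of `B`.  Then `B` is a finite
product of local rings, each a quotient of `B`.

Conversely, in a product of local rings idempotents lift modulo any ideal.
-/

set_option autoImplicit false
universe u

namespace Groth.Agent.Lib.PiLocalDecomp22

section Lift

variable {B : Type u} [CommRing B] (J : Ideal B) (hJ : J ≤ Ideal.jacobson ⊥)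

include hJ in
/-- an idempotent in an ideal contained in the Jacobson radical is zero -/
theorem eq_zero_of_isIdempotentElem_of_mem {e : B} (he : IsIdempotentElem e) (heJ : e ∈ J) :
    e = 0 := by
  have h1 : IsUnit (1 - e) := by
    apply Ideal.isUnit_of_sub_one_mem_jacobson_bot
    have : 1 - e - 1 = -e := by ring
    rw [this]
    exact neg_mem (hJ heJ)
  have h2 : (1 - e) * e = 0 := by rw [sub_mul, one_mul, he.eq, sub_self]
  exact (h1.mul_right_eq_zero).1 h2

include hJ in
/-- units lift modulo an ideal contained in the Jacobson radical -/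
theorem isUnit_of_isUnit_mk {a : B} (ha : IsUnit (Ideal.Quotient.mk J a)) : IsUnit a := by
  obtain ⟨b', hb'⟩ := ha.exists_right_inv
  obtain ⟨b, rfl⟩ := Ideal.Quotient.mk_surjective b'
  have h1 : a * b - 1 ∈ J := by
    rw [← Ideal.Quotient.eq_zero_iff_mem, map_sub, map_mul, hb', map_one, sub_self]
  have h2 : IsUnit (a * b) := Ideal.isUnit_of_sub_one_mem_jacobson_bot _ (hJ h1)
  exact isUnit_of_mul_isUnit_left h2

variable [DiscreteTopology (PrimeSpectrum (B ⧸ J))]
  (hlift : ∀ x : B ⧸ J, IsIdempotentElem x → ∃ e : B, IsIdempotentElem e ∧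
    Ideal.Quotient.mk J e = x)

include hJ hlift in
/-- **Decomposition.**  There is a complete family of orthogonal idempotents of `B` indexed by
the maximal ideals of `B / J` such that each `B / (1 - ε i)` is local. -/
theorem exists_completeOrthogonalIdempotents :
    ∃ (_ : Fintype (MaximalSpectrum (B ⧸ J))) (ε : MaximalSpectrum (B ⧸ J) → B),
      CompleteOrthogonalIdempotents ε ∧ ∀ i, IsLocalRing (B ⧸ Ideal.span {1 - ε i}) := by
  classical
  set Q := B ⧸ J with hQ
  let E : Q ≃ₐ[Q] MaximalSpectrum.PiLocalization Q := MaximalSpectrum.toPiLocalizationEquiv Q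
  have hfin : Finite (MaximalSpectrum Q) :=
    MaximalSpectrum.finite_of_toPiLocalization_surjective
      (PrimeSpectrum.maximalSpectrumToPiLocalization_surjective_of_discreteTopology Q)
  let _ : Fintype (MaximalSpectrum Q) := Fintype.ofFinite _
  -- the idempotents of the quotient
  let εbar : MaximalSpectrum Q → Q := fun i => E.symm (Pi.single i 1)
  have hεbar : CompleteOrthogonalIdempotents εbar := by
    have h1 : CompleteOrthogonalIdempotents
        (fun i : MaximalSpectrum Q => (Pi.single i 1 : MaximalSpectrum.PiLocalization Q)) :=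
      CompleteOrthogonalIdempotents.single _
    exact h1.map (E.symm : MaximalSpectrum.PiLocalization Q →+* Q)
  choose ε hεidem hεmk using fun i => hlift (εbar i) (hεbar.idem i)
  have hcoi : CompleteOrthogonalIdempotents ε := by
    rw [CompleteOrthogonalIdempotents.iff_ortho_complete]
    constructor
    · intro i j hij
      apply eq_zero_of_isIdempotentElem_of_mem J hJ ((hεidem i).mul (hεidem j))
      rw [← Ideal.Quotient.eq_zero_iff_mem, map_mul, hεmk, hεmk]
      exact hεbar.ortho hij
    · have hortho : Pairwise (ε · * ε · = 0) := by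
        intro i j hij
        apply eq_zero_of_isIdempotentElem_of_mem J hJ ((hεidem i).mul (hεidem j))
        rw [← Ideal.Quotient.eq_zero_iff_mem, map_mul, hεmk, hεmk]
        exact hεbar.ortho hij
      have hoi : OrthogonalIdempotents ε := ⟨hεidem, hortho⟩
      have hsum : IsIdempotentElem (∑ i, ε i) := hoi.isIdempotentElem_sum
      have h1 : (1 - ∑ i, ε i) = 0 := by
        apply eq_zero_of_isIdempotentElem_of_mem J hJ hsum.one_sub
        rw [← Ideal.Quotient.eq_zero_iff_mem, map_sub, map_one, map_sum]
        simp only [hεmk]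
        rw [hεbar.complete, sub_self]
      exact (sub_eq_zero.1 h1).symm
  refine ⟨inferInstance, ε, hcoi, fun i => ?_⟩
  -- locality of the factors
  set D := B ⧸ Ideal.span {1 - ε i} with hD
  have hεD : Ideal.Quotient.mk (Ideal.span {1 - ε i}) (ε i) = 1 := by
    have : Ideal.Quotient.mk (Ideal.span {1 - ε i}) (1 - ε i) = 0 :=
      Ideal.Quotient.eq_zero_iff_mem.2 (Ideal.mem_span_singleton_self _)
    rw [map_sub, map_one, sub_eq_zero] at this
    exact this.symm
  have hnontriv : Nontrivial D := by
    rw [Ideal.Quotient.nontrivial_iff]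
    intro htop
    have h1 : (1 : B) ∈ Ideal.span {1 - ε i} := htop ▸ Submodule.mem_top
    obtain ⟨c, hc⟩ := Ideal.mem_span_singleton'.1 h1
    have h2 : ε i = 0 := by
      have : ε i = ε i * (c * (1 - ε i)) := by rw [hc, mul_one]
      rw [this]
      have h3 : ε i * (1 - ε i) = 0 := by rw [mul_sub, mul_one, (hεidem i).eq, sub_self]
      calc ε i * (c * (1 - ε i)) = c * (ε i * (1 - ε i)) := by ring
        _ = 0 := by rw [h3, mul_zero]
    have h4 : εbar i = 0 := by rw [← hεmk, h2, map_zero]
    have h5 : (Pi.single i 1 : MaximalSpectrum.PiLocalization Q) = 0 := by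
      have := congrArg E h4
      rwa [AlgEquiv.apply_symm_apply, map_zero] at this
    have h6 := congrFun h5 i
    rw [Pi.single_eq_same, Pi.zero_apply] at h6
    exact one_ne_zero h6
  -- key: if the `i`-th component of `E (mk a)` is a unit then `mk a` is a unit of `D`
  have key : ∀ a : B, IsUnit (E (Ideal.Quotient.mk J a) i) →
      IsUnit (Ideal.Quotient.mk (Ideal.span {1 - ε i}) a) := by
    intro a ha
    have h1 : IsUnit (E (Ideal.Quotient.mk J (a * ε i + (1 - ε i)))) := by
      rw [Pi.isUnit_iff]
      intro j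
      have hE : E (Ideal.Quotient.mk J (ε i)) = Pi.single i 1 := by
        rw [hεmk]
        exact E.apply_symm_apply _
      rw [map_add, map_mul, map_sub, map_one, map_add, map_mul, map_sub, map_one, hE]
      by_cases hji : j = i
      · subst hji
        simp only [Pi.add_apply, Pi.mul_apply, Pi.single_eq_same, mul_one, Pi.sub_apply,
          Pi.one_apply, sub_self, add_zero]
        exact ha
      · simp only [Pi.add_apply, Pi.mul_apply, Pi.single_eq_of_ne hji, mul_zero, Pi.sub_apply,
          Pi.one_apply, sub_zero, zero_add]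
        exact isUnit_one
    have h2 : IsUnit (Ideal.Quotient.mk J (a * ε i + (1 - ε i))) :=
      (isUnit_map_iff E _).1 h1
    have h3 : IsUnit (a * ε i + (1 - ε i)) := isUnit_of_isUnit_mk J hJ h2
    have h4 := h3.map (Ideal.Quotient.mk (Ideal.span {1 - ε i}))
    rw [map_add, map_mul, map_sub, map_one, hεD, sub_self, add_zero, mul_one] at h4
    exact h4
  refine IsLocalRing.of_isUnit_or_isUnit_one_sub_self fun d => ?_
  obtain ⟨a, rfl⟩ := Ideal.Quotient.mk_surjective d
  rcases IsLocalRing.isUnit_or_isUnit_one_sub_self (E (Ideal.Quotient.mk J a) i) with h | h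
  · exact Or.inl (key a h)
  · right
    have := key (1 - a) (by rw [map_sub, map_one, map_sub, map_one]; exact h)
    rwa [map_sub, map_one] at this

end Lift

section Pi

variable {ι : Type*} {C : ι → Type*} [∀ j, CommRing (C j)] [∀ j, IsLocalRing (C j)]

/-- In a product of local rings, idempotents lift modulo any ideal. -/
theorem exists_idempotent_sub_mem_pi (𝔞 : Ideal (∀ j, C j)) (x : ∀ j, C j)
    (hx : x * x - x ∈ 𝔞) : ∃ e : ∀ j, C j, IsIdempotentElem e ∧ e - x ∈ 𝔞 := by
  classical
  have hinv : ∀ j, ∃ w : C j, (if IsUnit (x j) then (1 : C j) else 0) - x j =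
      (x j * x j - x j) * w := by
    intro j
    by_cases hu : IsUnit (x j)
    · obtain ⟨v, hv⟩ := hu.exists_right_inv
      refine ⟨-v, ?_⟩
      rw [if_pos hu]
      linear_combination (x j - 1) * hv
    · have hu' : IsUnit (1 - x j) :=
        (IsLocalRing.isUnit_or_isUnit_one_sub_self (x j)).resolve_left hu
      obtain ⟨v, hv⟩ := hu'.exists_right_inv
      refine ⟨v, ?_⟩
      rw [if_neg hu]
      linear_combination (x j) * hv
  choose w hw using hinv
  refine ⟨fun j => if IsUnit (x j) then 1 else 0, ?_, ?_⟩
  · funext j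
    by_cases hu : IsUnit (x j)
    · simp [hu]
    · simp [hu]
  · have : (fun j => if IsUnit (x j) then (1 : C j) else 0) - x = (x * x - x) * w := by
      funext j
      exact hw j
    rw [this]
    exact Ideal.mul_mem_right _ _ hx

/-- Idempotents lift modulo any ideal in a ring isomorphic to a product of local rings. -/
theorem exists_idempotent_lift_of_ringEquiv {B : Type*} [CommRing B] (φ : B ≃+* (∀ j, C j))
    (𝔟 : Ideal B) (y : B ⧸ 𝔟) (hy : IsIdempotentElem y) :
    ∃ e : B, IsIdempotentElem e ∧ Ideal.Quotient.mk 𝔟 e = y := by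
  obtain ⟨b, rfl⟩ := Ideal.Quotient.mk_surjective y
  have hb : b * b - b ∈ 𝔟 := by
    rw [← Ideal.Quotient.eq_zero_iff_mem, map_sub, map_mul, hy.eq, sub_self]
  set 𝔞 : Ideal (∀ j, C j) := 𝔟.map (φ : B →+* (∀ j, C j)) with h𝔞
  have hx : φ b * φ b - φ b ∈ 𝔞 := by
    have := Ideal.mem_map_of_mem (φ : B →+* (∀ j, C j)) hb
    simpa using this
  obtain ⟨e', he', hmem⟩ := exists_idempotent_sub_mem_pi 𝔞 (φ b) hx
  refine ⟨φ.symm e', ?_, ?_⟩
  · change φ.symm e' * φ.symm e' = φ.symm e'
    rw [← map_mul, he'.eq]
  · rw [Ideal.Quotient.eq]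
    have h1 : φ.symm e' - b = φ.symm (e' - φ b) := by
      rw [map_sub, RingEquiv.symm_apply_apply]
    rw [h1]
    have h2 := Ideal.mem_map_of_mem (φ.symm : (∀ j, C j) →+* B) hmem
    rw [h𝔞, Ideal.map_map] at h2
    have h3 : ((φ.symm : (∀ j, C j) →+* B).comp (φ : B →+* (∀ j, C j))) = RingHom.id B := by
      ext z
      simp
    rw [h3, Ideal.map_id] at h2
    exact h2

end Pi

end Groth.Agent.Lib.PiLocalDecomp22
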