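import Groth.Prelude.Def_W4c2azumayainvolQEt
import Mathlib.RingTheory.Jacobson.Ideal
import Mathlib.RingTheory.LocalRing.MaximalIdeal.Basic
import Mathlib.RingTheory.Ideal.Operations
import Mathlib.RingTheory.Ideal.Maps

/-!
# Rings with involution and their fixed rings (helper88)

Basic facts about a commutative ring `R` with an involution `lam` whose fixed ring is `S`:
traces and norms lie in `S`; if `S` is local, `R` has at most two maximal ideals, swapped by
`lam`, and `m_S R ⊆ Jac R`.
-/

set_option autoImplicit false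
universe u v

namespace Groth.Agent.Lib.RInv88

open RInv

variable {S : Type u} {R : Type v} [CommRing S] [CommRing R] [Algebra S R]
  (lam : R ≃+* R) (hlam : Function.Involutive lam) (hS : RInv.IsFixedRing S R lam)

include hS in
theorem lam_algebraMap (s : S) : lam (algebraMap S R s) = algebraMap S R s :=
  (hS.2 _).mpr ⟨s, rfl⟩

include hlam hS in
theorem exists_trace (x : R) : ∃ t : S, algebraMap S R t = x + lam x :=
  (hS.2 (x + lam x)).mp (by rw [map_add, hlam x, add_comm])

include hlam hS in
theorem exists_norm (x : R) : ∃ n : S, algebraMap S R n = x * lam x :=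
  (hS.2 (x * lam x)).mp (by rw [map_mul, hlam x, mul_comm])

include hS in
theorem isUnit_algebraMap_iff (s : S) : IsUnit (algebraMap S R s) ↔ IsUnit s := by
  constructor
  · intro h
    obtain ⟨y, hy⟩ := h.exists_right_inv
    have hy' : algebraMap S R s * lam y = 1 := by
      have := congrArg lam hy
      rwa [map_mul, lam_algebraMap lam hS, map_one] at this
    have hyy : lam y = y := by
      calc lam y = (y * algebraMap S R s) * lam y := by rw [mul_comm y, hy, one_mul]
        _ = y * (algebraMap S R s * lam y) := by ring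
        _ = y := by rw [hy', mul_one]
    obtain ⟨s', hs'⟩ := (hS.2 y).mp hyy
    have : algebraMap S R (s * s') = algebraMap S R 1 := by
      rw [map_mul, hs', hy, map_one]
    exact IsUnit.of_mul_eq_one s' (hS.1 this)
  · intro h
    exact h.map _

theorem isUnit_iff_isUnit_norm (x : R) : IsUnit x ↔ IsUnit (x * lam x) := by
  constructor
  · intro h
    exact h.mul (h.map lam)
  · intro h
    exact isUnit_of_mul_isUnit_left h

include hS in
theorem nontrivial_of_nontrivial [Nontrivial S] : Nontrivial R := hS.1.nontrivial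

theorem mem_jacobson_iff (x : R) : x ∈ Ring.jacobson R ↔ ∀ y, IsUnit (x * y + 1) := by
  rw [← Ideal.jacobson_bot]
  exact Ideal.mem_jacobson_bot

include hlam in
theorem lam_mem_jacobson (x : R) (hx : x ∈ Ring.jacobson R) : lam x ∈ Ring.jacobson R := by
  rw [mem_jacobson_iff] at hx ⊢
  intro y
  have h1 := hx (lam y)
  have h2 : lam (x * lam y + 1) = lam x * y + 1 := by
    rw [map_add, map_mul, hlam y, map_one]
  rw [← h2]
  exact h1.map lam

include hlam hS in
/-- If `S` is local, then `m_S R ⊆ Jac R`. -/
theorem algebraMap_mem_jacobson [IsLocalRing S] (s : S) (hs : s ∈ IsLocalRing.maximalIdeal S) :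
    algebraMap S R s ∈ Ring.jacobson R := by
  rw [mem_jacobson_iff]
  intro y
  rw [isUnit_iff_isUnit_norm lam]
  obtain ⟨t, ht⟩ := exists_trace lam hlam hS y
  obtain ⟨n, hn⟩ := exists_norm lam hlam hS y
  have e : (algebraMap S R s * y + 1) * lam (algebraMap S R s * y + 1)
      = algebraMap S R (1 + s * (t + s * n)) := by
    rw [map_add, map_mul, lam_algebraMap lam hS, map_one, map_add, map_one, map_mul, map_add,
      map_mul, ht, hn]
    ring
  rw [e]
  apply IsUnit.map
  have hmem : s * (t + s * n) ∈ IsLocalRing.maximalIdeal S := Ideal.mul_mem_right _ _ hs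
  by_contra hnu
  have h1 : 1 + s * (t + s * n) ∈ IsLocalRing.maximalIdeal S :=
    (IsLocalRing.mem_maximalIdeal _).mpr hnu
  have h2 : (1 : S) ∈ IsLocalRing.maximalIdeal S := by
    have := Ideal.sub_mem _ h1 hmem
    rwa [add_sub_cancel_right] at this
  exact (IsLocalRing.maximalIdeal.isMaximal S).ne_top ((Ideal.eq_top_iff_one _).mpr h2)

include hlam hS in
theorem algebraMap_mem_of_isMaximal [IsLocalRing S] (M : Ideal R) [M.IsMaximal] (s : S)
    (hs : s ∈ IsLocalRing.maximalIdeal S) : algebraMap S R s ∈ M :=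
  Ring.jacobson_le_of_isMaximal M (algebraMap_mem_jacobson lam hlam hS s hs)

include hlam hS in
/-- If `S` is local, any two maximal ideals of `R` are equal or swapped by `lam`. -/
theorem eq_or_eq_comap_of_isMaximal [IsLocalRing S] (M M' : Ideal R) [hM : M.IsMaximal]
    [hM' : M'.IsMaximal] : M' = M ∨ M' = M.comap lam := by
  by_contra hcon
  push Not at hcon
  obtain ⟨h1, h2⟩ := hcon
  have hMl : (M.comap lam).IsMaximal := Ideal.comap_isMaximal_of_equiv lam
  have hn1 : ¬ M' ≤ M := fun h => h1 (hM'.eq_of_le hM.ne_top h)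
  have hn2 : ¬ M' ≤ M.comap lam := fun h => h2 (hM'.eq_of_le hMl.ne_top h)
  have hsub : ¬ ((M' : Set R) ⊆ M ∪ (M.comap lam : Ideal R)) := by
    rw [Ideal.subset_union]
    push Not
    exact ⟨hn1, hn2⟩
  rw [Set.not_subset] at hsub
  obtain ⟨z, hzM', hz⟩ := hsub
  rw [Set.mem_union, not_or] at hz
  obtain ⟨hz1, hz2⟩ := hz
  have hz2' : lam z ∉ M := hz2
  obtain ⟨s, hs⟩ := exists_norm lam hlam hS z
  have hsM' : algebraMap S R s ∈ M' := by
    rw [hs]
    exact Ideal.mul_mem_right _ _ hzM'
  have hsm : s ∈ IsLocalRing.maximalIdeal S := by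
    rw [IsLocalRing.mem_maximalIdeal]
    intro hu
    exact hM'.ne_top (Ideal.eq_top_of_isUnit_mem _ hsM' (hu.map _))
  have hsM : algebraMap S R s ∈ M := algebraMap_mem_of_isMaximal lam hlam hS M s hsm
  rw [hs] at hsM
  rcases hM.isPrime.mem_or_mem hsM with h | h
  · exact hz1 h
  · exact hz2' h

include hlam hS in
/-- If `S` is local and `x` is anti-fixed (`lam x = -x`) and not in the Jacobson radical,
then `x` is a unit. -/
theorem isUnit_of_notMem_jacobson [IsLocalRing S] (x : R) (hx : lam x = -x)
    (h : x ∉ Ring.jacobson R) : IsUnit x := by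
  by_contra hnu
  obtain ⟨M, hM, hxM⟩ := exists_max_ideal_of_mem_nonunits hnu
  rw [Ring.jacobson_eq_sInf_isMaximal, Submodule.mem_sInf] at h
  push Not at h
  obtain ⟨M', hM', hxM'⟩ := h
  have hM'max : Ideal.IsMaximal M' := hM'
  rcases eq_or_eq_comap_of_isMaximal lam hlam hS M M' with e | e
  · exact hxM' (e ▸ hxM)
  · apply hxM'
    rw [e, Ideal.mem_comap, hx]
    exact M.neg_mem hxM

include hlam hS in
theorem isUnit_sub_of_notMem_jacobson [IsLocalRing S] (r : R)
    (h : lam r - r ∉ Ring.jacobson R) : IsUnit (r - lam r) := by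
  have h1 : IsUnit (lam r - r) :=
    isUnit_of_notMem_jacobson lam hlam hS (lam r - r) (by rw [map_sub, hlam r]; ring) h
  have : r - lam r = -(lam r - r) := by ring
  rw [this]
  exact h1.neg

end Groth.Agent.Lib.RInv88
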