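import Groth.Agent.Lib.RInv88
import Mathlib.RingTheory.IntegralClosure.IsIntegral.Defs
import Mathlib.Algebra.Polynomial.Monic

/-!
# Rings with involution: `R` is integral over the fixed ring (helper88)
-/

set_option autoImplicit false
universe u v

namespace Groth.Agent.Lib.RInvIntegral88

open RInv Groth.Agent.Lib.RInv88 Polynomial

variable {S : Type u} {R : Type v} [CommRing S] [CommRing R] [Algebra S R]
  (lam : R ≃+* R) (hlam : Function.Involutive lam) (hS : RInv.IsFixedRing S R lam)

include hlam hS in
/-- Every element of `R` is a root of a monic quadratic polynomial over `S`. -/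
theorem isIntegralElem (r : R) : (algebraMap S R).IsIntegralElem r := by
  obtain ⟨t, ht⟩ := exists_trace lam hlam hS r
  obtain ⟨n, hn⟩ := exists_norm lam hlam hS r
  refine ⟨X ^ 2 - (C t * X - C n), monic_X_pow_sub ?_, ?_⟩
  · refine lt_of_le_of_lt (degree_sub_le _ _) ?_
    rw [max_lt_iff]
    constructor
    · exact lt_of_le_of_lt (degree_C_mul_X_le t) (by norm_num)
    · exact lt_of_le_of_lt degree_C_le (by norm_num)
  · rw [eval₂_sub, eval₂_sub, eval₂_pow, eval₂_X, eval₂_mul, eval₂_C, eval₂_X, eval₂_C, ht, hn]
    ring

include hlam hS in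
theorem isIntegral : (algebraMap S R).IsIntegral := fun r => isIntegralElem lam hlam hS r

end Groth.Agent.Lib.RInvIntegral88
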