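import Mathlib.RingTheory.Henselian
import Mathlib.RingTheory.Ideal.Quotient.Operations
import Mathlib.RingTheory.Jacobson.Ideal
import Mathlib.RingTheory.Nilpotent.Basic
import Mathlib.Algebra.Polynomial.Lifts
import Mathlib.Algebra.Polynomial.Div
import Mathlib.Tactic.LinearCombination
import Mathlib.Tactic.Ring

set_option autoImplicit false
universe u

namespace Groth.Agent.Lib.HenselPair

open Polynomial

variable {A : Type u} [CommRing A]

/-- A unit plus an element of the Jacobson radical is a unit. -/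
theorem isUnit_add_of_mem_jacobson {u x : A} (hu : IsUnit u) (hx : x ∈ Ideal.jacobson (⊥ : Ideal A)) :
    IsUnit (u + x) := by
  obtain ⟨v, rfl⟩ := hu
  have h := (Ideal.mem_jacobson_bot.1 hx) (↑v⁻¹ : A)
  have h2 : (v : A) + x = v * (x * ↑v⁻¹ + 1) := by
    have hv : (v : A) * ↑v⁻¹ = 1 := by simp
    calc (v : A) + x = v + x * ((v : A) * ↑v⁻¹) := by rw [hv, mul_one]
      _ = v * (x * ↑v⁻¹ + 1) := by ring
  rw [h2]
  exact v.isUnit.mul h

/-- If `J` is in the Jacobson radical, units modulo `J` are units. -/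
theorem isUnit_of_isUnit_mk {J : Ideal A} (hJ : J ≤ Ideal.jacobson ⊥) {x : A}
    (hx : IsUnit (Ideal.Quotient.mk J x)) : IsUnit x := by
  have := isLocalHom_of_le_jacobson_bot J hJ
  exact IsUnit.of_map (Ideal.Quotient.mk J) x hx

/-- If `x - y ∈ J` and `J` is in the Jacobson radical, then `x` is a unit iff `y` is. -/
theorem isUnit_of_sub_mem {J : Ideal A} (hJ : J ≤ Ideal.jacobson ⊥) {x y : A}
    (hxy : x - y ∈ J) (hy : IsUnit y) : IsUnit x := by
  have : x = y + (x - y) := by ring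
  rw [this]
  exact isUnit_add_of_mem_jacobson hy (hJ hxy)

/-- A root `a` of `f` near an approximate root `a₀` (modulo `J` in the Jacobson radical) with
`f(a₀) ∈ I` and `f'(a₀)` a unit satisfies `a - a₀ ∈ I`. -/
theorem sub_mem_of_isRoot {I J : Ideal A} (hJ : J ≤ Ideal.jacobson ⊥) (f : A[X]) {a₀ a : A}
    (h₁ : f.eval a₀ ∈ I) (hu : IsUnit (f.derivative.eval a₀)) (ha : f.IsRoot a)
    (haJ : a - a₀ ∈ J) : a - a₀ ∈ I := by
  obtain ⟨c, hc⟩ := exists_mul_sq_add_linear_part_eq_eval_add f a₀ (a - a₀)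
  have e : a₀ + (a - a₀) = a := by ring
  rw [e, ha] at hc
  have hunit : IsUnit (f.derivative.eval a₀ + c * (a - a₀)) :=
    isUnit_add_of_mem_jacobson hu (hJ (Ideal.mul_mem_left _ _ haJ))
  obtain ⟨v, hv⟩ := hunit
  have key : (v : A) * (a - a₀) = - f.eval a₀ := by
    rw [hv]
    linear_combination hc
  have : a - a₀ = ↑v⁻¹ * (- f.eval a₀) := by
    rw [← key, ← mul_assoc]
    simp
  rw [this]
  exact Ideal.mul_mem_left _ _ (Ideal.neg_mem_iff _ |>.2 h₁)

theorem henselian_of_le {I J : Ideal A} (hIJ : I ≤ J) [hJ : HenselianRing A J] :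
    HenselianRing A I := by
  have hjacJ := hJ.jac
  have hjacI : I ≤ Ideal.jacobson ⊥ := hIJ.trans hjacJ
  refine ⟨hjacI, ?_⟩
  intro f hf a₀ h₁ h₂
  have hu : IsUnit (f.derivative.eval a₀) := isUnit_of_isUnit_mk hjacI h₂
  obtain ⟨a, ha, ha'⟩ := hJ.is_henselian f hf a₀ (hIJ h₁) (hu.map _)
  exact ⟨a, ha, sub_mem_of_isRoot hjacJ f h₁ hu ha ha'⟩

theorem map_mk_le_jacobson {I J : Ideal A} (hJ : J ≤ Ideal.jacobson ⊥) :
    Ideal.map (Ideal.Quotient.mk I) J ≤ Ideal.jacobson ⊥ := by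
  intro x hx
  obtain ⟨x, hxJ, rfl⟩ :=
    (Ideal.mem_map_iff_of_surjective _ Ideal.Quotient.mk_surjective).1 hx
  rw [Ideal.mem_jacobson_bot]
  intro y
  obtain ⟨y, rfl⟩ := Ideal.Quotient.mk_surjective y
  have := (Ideal.mem_jacobson_bot.1 (hJ hxJ)) y
  have h2 := this.map (Ideal.Quotient.mk I)
  simpa using h2

theorem henselian_quotient {I J : Ideal A} (hIJ : I ≤ J) [hJ : HenselianRing A J] :
    HenselianRing (A ⧸ I) (Ideal.map (Ideal.Quotient.mk I) J) := by
  have hjacJ := hJ.jac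
  refine ⟨map_mk_le_jacobson hjacJ, ?_⟩
  intro f hf a₀ h₁ h₂
  obtain ⟨g, rfl, -, hg⟩ := lifts_and_natDegree_eq_and_monic
    (mem_lifts_of_surjective (Ideal.Quotient.mk_surjective (I := I)) f) hf
  obtain ⟨a₀, rfl⟩ := Ideal.Quotient.mk_surjective a₀
  rw [eval_map, eval₂_at_apply, Ideal.mem_quotient_iff_mem hIJ] at h₁
  rw [derivative_map, eval_map, eval₂_at_apply] at h₂
  have hu : IsUnit (g.derivative.eval a₀) := by
    obtain ⟨b, hb⟩ := isUnit_iff_exists_inv.1 h₂
    obtain ⟨b, rfl⟩ := Ideal.Quotient.mk_surjective b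
    obtain ⟨b, rfl⟩ := Ideal.Quotient.mk_surjective b
    have hb' : Ideal.Quotient.mk (Ideal.map (Ideal.Quotient.mk I) J)
        (Ideal.Quotient.mk I (g.derivative.eval a₀ * b)) =
        Ideal.Quotient.mk (Ideal.map (Ideal.Quotient.mk I) J) (Ideal.Quotient.mk I 1) := by
      simpa using hb
    rw [Ideal.Quotient.eq, ← map_sub, Ideal.mem_quotient_iff_mem hIJ] at hb'
    have hb := hb'
    have h1 : IsUnit (g.derivative.eval a₀ * b) :=
      isUnit_of_sub_mem hjacJ hb isUnit_one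
    exact isUnit_of_mul_isUnit_left h1
  obtain ⟨a, ha, ha'⟩ := hJ.is_henselian g hg a₀ h₁ (hu.map _)
  refine ⟨Ideal.Quotient.mk I a, ?_, ?_⟩
  · rw [IsRoot, eval_map, eval₂_at_apply, ha, map_zero]
  · rw [← map_sub]
    exact Ideal.mem_map_of_mem _ ha'

theorem henselian_of_henselian_quotient {I J : Ideal A} (hIJ : I ≤ J) [hI : HenselianRing A I]
    [hJ : HenselianRing (A ⧸ I) (Ideal.map (Ideal.Quotient.mk I) J)] :
    HenselianRing A J := by
  have hjacI := hI.jac
  have hjacJ : J ≤ Ideal.jacobson ⊥ := by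
    intro x hx
    rw [Ideal.mem_jacobson_bot]
    intro y
    have h1 : Ideal.Quotient.mk I x ∈ Ideal.jacobson (⊥ : Ideal (A ⧸ I)) :=
      hJ.jac (Ideal.mem_map_of_mem _ hx)
    have h2 := (Ideal.mem_jacobson_bot.1 h1) (Ideal.Quotient.mk I y)
    rw [← map_mul, ← map_one (Ideal.Quotient.mk I), ← map_add] at h2
    exact isUnit_of_isUnit_mk hjacI h2
  refine ⟨hjacJ, ?_⟩
  intro f hf a₀ h₁ h₂
  have hu : IsUnit (f.derivative.eval a₀) := isUnit_of_isUnit_mk hjacJ h₂
  obtain ⟨a₁, ha₁, ha₁'⟩ := hJ.is_henselian (f.map (Ideal.Quotient.mk I)) (hf.map _)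
    (Ideal.Quotient.mk I a₀)
    (by rw [eval_map, eval₂_at_apply]; exact Ideal.mem_map_of_mem _ h₁)
    (by rw [derivative_map, eval_map, eval₂_at_apply]; exact (hu.map _).map _)
  obtain ⟨a₁, rfl⟩ := Ideal.Quotient.mk_surjective a₁
  rw [IsRoot, eval_map, eval₂_at_apply, Ideal.Quotient.eq_zero_iff_mem] at ha₁
  rw [← map_sub, Ideal.mem_quotient_iff_mem hIJ] at ha₁'
  have hu₁ : IsUnit (f.derivative.eval a₁) := by
    refine isUnit_of_sub_mem hjacJ ?_ hu
    obtain ⟨c, hc⟩ := sub_dvd_eval_sub a₁ a₀ f.derivative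
    rw [hc]
    exact Ideal.mul_mem_right _ _ ha₁'
  obtain ⟨a, ha, ha'⟩ := hI.is_henselian f hf a₁ ha₁ (hu₁.map _)
  refine ⟨a, ha, ?_⟩
  have : a - a₀ = (a - a₁) + (a₁ - a₀) := by ring
  rw [this]
  exact Ideal.add_mem _ (hIJ ha') ha₁'

theorem isAdicComplete_of_pow_eq_bot (I : Ideal A) (N : ℕ)
    (hN : I ^ N = ⊥) : IsAdicComplete I A where
  haus' x hx := by
    have := hx N
    rw [hN, Submodule.bot_smul, SModEq.bot] at this
    exact this
  prec' f hf := by
    refine ⟨f N, fun n => ?_⟩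
    rcases le_total n N with h | h
    · exact hf h
    · have := hf h
      rw [hN, Submodule.bot_smul, SModEq.bot] at this
      rw [this]

theorem henselian_of_nilpotent (I : Ideal A) (hI : ∀ x ∈ I, IsNilpotent x) :
    HenselianRing A I := by
  have hjac : I ≤ Ideal.jacobson ⊥ := by
    intro x hx
    rw [Ideal.mem_jacobson_bot]
    intro y
    exact ((Commute.all x y).isNilpotent_mul_right (hI x hx)).isUnit_add_one
  refine ⟨hjac, ?_⟩
  intro f hf a₀ h₁ h₂
  obtain ⟨N, hN⟩ := hI _ h₁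
  set I₀ : Ideal A := Ideal.span {f.eval a₀} with hI₀
  have hI₀N : I₀ ^ N = ⊥ := by
    rw [hI₀, Ideal.span_singleton_pow, hN]
    simp
  have hle : I₀ ≤ I := by
    rw [hI₀, Ideal.span_le]
    simpa using h₁
  have := isAdicComplete_of_pow_eq_bot I₀ N hI₀N
  have hu : IsUnit (f.derivative.eval a₀) := isUnit_of_isUnit_mk hjac h₂
  obtain ⟨a, ha, ha'⟩ := HenselianRing.is_henselian (I := I₀) f hf a₀
    (Ideal.subset_span rfl) (hu.map _)
  exact ⟨a, ha, hle ha'⟩

theorem henselian_radical (I : Ideal A) [hI : HenselianRing A I] : HenselianRing A I.radical := by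
  have : HenselianRing (A ⧸ I) (Ideal.map (Ideal.Quotient.mk I) I.radical) := by
    apply henselian_of_nilpotent
    intro x hx
    obtain ⟨x, hxJ, rfl⟩ :=
      (Ideal.mem_map_iff_of_surjective _ Ideal.Quotient.mk_surjective).1 hx
    obtain ⟨n, hn⟩ := hxJ
    exact ⟨n, by rw [← map_pow, Ideal.Quotient.eq_zero_iff_mem]; exact hn⟩
  exact henselian_of_henselian_quotient (Ideal.le_radical)

theorem henselian_iff_radical (I : Ideal A) : HenselianRing A I ↔ HenselianRing A I.radical :=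
  ⟨fun _ => henselian_radical I, fun _ => henselian_of_le Ideal.le_radical⟩

theorem henselian_iff_of_radical_eq (I J : Ideal A) (h : I.radical = J.radical) :
    HenselianRing A I ↔ HenselianRing A J := by
  rw [henselian_iff_radical I, henselian_iff_radical J, h]

end Groth.Agent.Lib.HenselPair
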