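import Groth.Agent.Lib.HenselIdem
import Groth.Agent.Lib.HenselPair
import Groth.Agent.Lib.HenselizationNoeth

/-!
# Integral local algebras over henselian local rings

* `radical_map_maximalIdeal`: for a local ring `B` integral over a local ring `A`,
  `rad(m_A B) = m_B`.
* `henselianLocalRing_of_isIntegral`: a local ring integral over a henselian local ring is
  henselian.
* `isLocalRing_of_isDomain_of_isIntegral`: a domain integral over a henselian local ring is local.
-/

set_option autoImplicit false
universe u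

namespace Groth.Agent.Lib.HenselIntegralLocal

open IsLocalRing Polynomial

section radical

variable {A B : Type*} [CommRing A] [IsLocalRing A] [CommRing B] [IsLocalRing B] [Algebra A B]
  [Algebra.IsIntegral A B]

theorem map_maximalIdeal_le :
    (maximalIdeal A).map (algebraMap A B) ≤ maximalIdeal B := by
  have h := Groth.Agent.Lib.HenselIdem.map_le_jacobson_of_isIntegral (B := B) (maximalIdeal A)
    (by rw [IsLocalRing.jacobson_eq_maximalIdeal ⊥ bot_ne_top])
  rwa [IsLocalRing.jacobson_eq_maximalIdeal ⊥ bot_ne_top] at h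

/-- For a local ring `B` integral over a local ring `A`, `rad(m_A B) = m_B`. -/
theorem radical_map_maximalIdeal :
    ((maximalIdeal A).map (algebraMap A B)).radical = maximalIdeal B := by
  apply le_antisymm
  · rw [← (maximalIdeal.isMaximal B).isPrime.radical]
    exact Ideal.radical_mono map_maximalIdeal_le
  · rw [Ideal.radical_eq_sInf]
    refine le_sInf ?_
    rintro 𝔮 ⟨hle, h𝔮⟩
    have hcomap : 𝔮.comap (algebraMap A B) = maximalIdeal A := by
      have h1 : maximalIdeal A ≤ 𝔮.comap (algebraMap A B) := Ideal.map_le_iff_le_comap.1 hle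
      have h2 : 𝔮.comap (algebraMap A B) ≠ ⊤ := (Ideal.comap_isPrime _ 𝔮).ne_top
      exact ((maximalIdeal.isMaximal A).eq_of_le h2 h1).symm
    have hmax : 𝔮.IsMaximal :=
      Ideal.isMaximal_of_isIntegral_of_isMaximal_comap 𝔮 (hcomap ▸ maximalIdeal.isMaximal A)
    exact (IsLocalRing.eq_maximalIdeal hmax).ge

end radical

section henselian

/-- A local ring integral over a henselian local ring is henselian. -/
theorem henselianLocalRing_of_isIntegral (A B : Type u) [CommRing A] [HenselianLocalRing A]
    [CommRing B] [IsLocalRing B] [Algebra A B] [Algebra.IsIntegral A B] :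
    HenselianLocalRing B := by
  have h1 : HenselianRing B ((maximalIdeal A).map (algebraMap A B)) :=
    Groth.Agent.Lib.HenselIdem.henselianRing_of_isIntegral (maximalIdeal A)
  have h2 : HenselianRing B (maximalIdeal B) := by
    refine (Groth.Agent.Lib.HenselPair.henselian_iff_of_radical_eq _ _ ?_).1 h1
    rw [radical_map_maximalIdeal, (maximalIdeal.isMaximal B).isPrime.radical]
  exact Groth.Agent.Lib.HenselizationNoeth.henselianLocalRing_of_henselianRing B

end henselian

section domain

/-- A domain integral over a henselian local ring is a local ring. -/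
theorem isLocalRing_of_isDomain_of_isIntegral (A B : Type u) [CommRing A] [HenselianLocalRing A]
    [CommRing B] [IsDomain B] [Algebra A B] [Algebra.IsIntegral A B] : IsLocalRing B := by
  refine IsLocalRing.of_isUnit_or_isUnit_one_sub_self fun x => ?_
  obtain ⟨f, hfm, hfx⟩ := Algebra.IsIntegral.isIntegral (R := A) x
  rw [← Polynomial.aeval_def] at hfx
  -- factor `f̄ = X^a * g₀` with `g₀(0) ≠ 0`
  set k := ResidueField A
  set fbar : k[X] := f.map (residue A) with hfbar
  have hfbar0 : fbar ≠ 0 := (hfm.map _).ne_zero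
  obtain ⟨a, g₀, hg₀root, hfac⟩ : ∃ (a : ℕ) (g₀ : k[X]), ¬ IsRoot g₀ 0 ∧ fbar = X ^ a * g₀ := by
    obtain ⟨g₀, hg₀, hroot⟩ := Polynomial.exists_eq_pow_rootMultiplicity_mul_and_not_dvd fbar hfbar0 0
    refine ⟨fbar.rootMultiplicity 0, g₀, ?_, ?_⟩
    · rwa [← dvd_iff_isRoot]
    · simpa using hg₀
  have hg₀0 : g₀.eval 0 ≠ 0 := hg₀root
  have hg₀m : g₀.Monic := by
    have h1 : (X ^ a * g₀ : k[X]).Monic := hfac ▸ hfm.map _
    exact (monic_X_pow a).of_mul_monic_left h1
  have hcop : IsCoprime (X ^ a : k[X]) g₀ := by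
    refine IsCoprime.pow_left ?_
    obtain ⟨q, hq⟩ := Polynomial.X_sub_C_dvd_sub_C_eval (a := (0 : k)) (p := g₀)
    refine ⟨-(C (g₀.eval 0)⁻¹ * q), C (g₀.eval 0)⁻¹, ?_⟩
    have h1 : g₀ = C (g₀.eval 0) + X * q := by
      have : (X - C (0 : k)) * q = X * q := by simp
      rw [← this, ← hq]; ring
    have h2 : (C (g₀.eval 0)⁻¹ : k[X]) * C (g₀.eval 0) = 1 := by
      rw [← C_mul, inv_mul_cancel₀ hg₀0, C_1]
    calc -(C (g₀.eval 0)⁻¹ * q) * X + C (g₀.eval 0)⁻¹ * g₀
        = -(C (g₀.eval 0)⁻¹ * q) * X + C (g₀.eval 0)⁻¹ * (C (g₀.eval 0) + X * q) := by rw [← h1]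
      _ = C (g₀.eval 0)⁻¹ * C (g₀.eval 0) := by ring
      _ = 1 := h2
  obtain ⟨f₁, f₂, hf₁m, hf₂m, hff, hf₁map, hf₂map⟩ :=
    Groth.Agent.Lib.HenselIdem.exists_factorization_lift (maximalIdeal A) f hfm (X ^ a) g₀
      (monic_X_pow a) hg₀m hcop hfac
  have hprod : Polynomial.aeval x f₁ * Polynomial.aeval x f₂ = 0 := by
    rw [← map_mul, ← hff, hfx]
  rcases mul_eq_zero.1 hprod with h1 | h2
  · -- `f₁(x) = 0`, so `1 - x` is a unit
    right
    have hu : IsUnit (f₁.eval 1) := by
      have h3 : residue A (f₁.eval 1) = 1 := by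
        have e1 : f₁.map (residue A) = X ^ a := hf₁map
        rw [← Polynomial.eval₂_at_apply, map_one, ← Polynomial.eval_map, e1]
        simp
      have h4 : IsUnit (residue A (f₁.eval 1)) := h3 ▸ isUnit_one
      exact (isUnit_map_iff (residue A) _).1 h4
    obtain ⟨q, hq⟩ := Polynomial.X_sub_C_dvd_sub_C_eval (a := (1 : A)) (p := f₁)
    have h5 := congrArg (Polynomial.aeval x) hq
    rw [map_sub, Polynomial.aeval_C, map_mul, map_sub, Polynomial.aeval_X, Polynomial.aeval_C,
      map_one, h1, zero_sub] at h5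
    have h6 : (1 - x) * Polynomial.aeval x q = algebraMap A B (f₁.eval 1) := by
      linear_combination h5
    exact isUnit_of_mul_isUnit_left (h6 ▸ hu.map (algebraMap A B))
  · -- `f₂(x) = 0`, so `x` is a unit
    left
    have hu : IsUnit (f₂.eval 0) := by
      have h3 : residue A (f₂.eval 0) = g₀.eval 0 := by
        have e1 : f₂.map (residue A) = g₀ := hf₂map
        rw [← e1, Polynomial.eval_map, ← Polynomial.eval₂_at_apply, map_zero]
      have h4 : IsUnit (residue A (f₂.eval 0)) := by
        rw [h3]; exact isUnit_iff_ne_zero.2 hg₀0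
      exact (isUnit_map_iff (residue A) _).1 h4
    obtain ⟨q, hq⟩ := Polynomial.X_sub_C_dvd_sub_C_eval (a := (0 : A)) (p := f₂)
    have h5 := congrArg (Polynomial.aeval x) hq
    rw [map_sub, Polynomial.aeval_C, map_mul, map_sub, Polynomial.aeval_X, Polynomial.aeval_C,
      map_zero, sub_zero, h2, zero_sub] at h5
    have h6 : x * (-Polynomial.aeval x q) = algebraMap A B (f₂.eval 0) := by
      linear_combination h5
    exact isUnit_of_mul_isUnit_left (h6 ▸ hu.map (algebraMap A B))

end domain

end Groth.Agent.Lib.HenselIntegralLocal
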