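import Groth.Agent.Lib.TensorPurelyInsepLocal61
import Groth.Agent.Lib.HenselIntegralLocal

/-!
# `A ⊗[R] B` for `B` strictly henselian (helper61)

Continuation of `Lib/TensorPurelyInsepLocal61`: `R → A` local integral with purely inseparable
residue field extension, `R → B` local.

* `isIntegral_residueField`: integrality passes to residue fields.
* `isLocalHom_lift`: a map `A ⊗[R] B → T` induced by local homomorphisms `A → T`, `B → T` is local.
* `henselianLocalRing_tensor`: if `B` is henselian then so is `A ⊗[R] B`.
* `isSepClosed_residueField_tensor`: if the residue field of `B` is separably closed then so is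
  the residue field of `A ⊗[R] B`.
-/

set_option autoImplicit false
universe u

namespace Groth.Agent.Lib.TensorPurelyInsepHensel61

open IsLocalRing TensorProduct Groth.Agent.Lib.TensorPurelyInsepLocal61

/-- Integrality passes to residue fields. -/
theorem isIntegral_residueField (R S : Type*) [CommRing R] [IsLocalRing R] [CommRing S]
    [IsLocalRing S] [Algebra R S] [IsLocalHom (algebraMap R S)] [Algebra.IsIntegral R S] :
    Algebra.IsIntegral (ResidueField R) (ResidueField S) := by
  refine ⟨fun y => ?_⟩
  obtain ⟨x, rfl⟩ := residue_surjective y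
  have h1 : IsIntegral R x := Algebra.IsIntegral.isIntegral x
  have h2 : IsIntegral R (residue S x) := h1.map (IsScalarTower.toAlgHom R S (ResidueField S))
  exact h2.tower_top

section Main

variable (R A B : Type u) [CommRing R] [IsLocalRing R]
  [CommRing A] [IsLocalRing A] [Algebra R A] [IsLocalHom (algebraMap R A)] [Algebra.IsIntegral R A]
  [IsPurelyInseparable (ResidueField R) (ResidueField A)]
  [CommRing B] [IsLocalRing B] [Algebra R B] [IsLocalHom (algebraMap R B)]

/-- A map `A ⊗[R] B → T` induced by local homomorphisms is local. -/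
theorem isLocalHom_lift (T : Type u) [CommRing T] [IsLocalRing T] [Algebra R T]
    (f : A →ₐ[R] T) (g : B →ₐ[R] T) (hf : IsLocalHom f.toRingHom) (hg : IsLocalHom g.toRingHom) :
    IsLocalHom (Algebra.TensorProduct.lift f g (fun _ _ => Commute.all _ _)).toRingHom := by
  have hloc : IsLocalRing (A ⊗[R] B) := isLocalRing_tensor R A B
  set Λ := Algebra.TensorProduct.lift f g (fun _ _ => Commute.all _ _) with hΛ
  have hΛt : ∀ a b, Λ (a ⊗ₜ[R] b) = f a * g b := fun a b =>
    Algebra.TensorProduct.lift_tmul f g _ a b
  -- `Λ` maps `J` into the maximal ideal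
  have hJ : J R A B ≤ (maximalIdeal T).comap Λ.toRingHom := by
    refine sup_le ?_ ?_
    · rw [Ideal.map_le_iff_le_comap]
      intro a ha
      rw [Ideal.mem_comap, Ideal.mem_comap]
      change Λ (a ⊗ₜ[R] (1 : B)) ∈ maximalIdeal T
      rw [hΛt, map_one, mul_one]
      exact map_nonunit f.toRingHom a ha
    · rw [Ideal.map_le_iff_le_comap]
      intro b hb
      rw [Ideal.mem_comap, Ideal.mem_comap]
      change Λ ((1 : A) ⊗ₜ[R] b) ∈ maximalIdeal T
      rw [hΛt, map_one, one_mul]
      exact map_nonunit g.toRingHom b hb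
  refine ⟨fun x hx => ?_⟩
  by_contra hx'
  have hxm : x ∈ maximalIdeal (A ⊗[R] B) := hx'
  obtain ⟨n, b, h⟩ := exists_pow_sub_mem R A B (ringExpChar (ResidueField B)) x
  have hb : b ∈ maximalIdeal B :=
    (mem_maximal_iff R A B _ (maximalIdeal (A ⊗[R] B)) x n b h).mp hxm
  have h1 : Λ (x ^ ringExpChar (ResidueField B) ^ n - (1 : A) ⊗ₜ[R] b) ∈ maximalIdeal T := hJ h
  have h2 : Λ ((1 : A) ⊗ₜ[R] b) ∈ maximalIdeal T := by
    rw [hΛt, map_one, one_mul]
    exact map_nonunit g.toRingHom b hb
  have h3 : Λ x ^ ringExpChar (ResidueField B) ^ n ∈ maximalIdeal T := by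
    have := Ideal.add_mem _ h1 h2
    rw [← map_add, sub_add_cancel, map_pow] at this
    exact this
  have h4 : Λ x ∈ maximalIdeal T := (maximalIdeal.isMaximal T).isPrime.mem_of_pow_mem _ h3
  exact h4 hx

/-- If `B` is henselian then so is `A ⊗[R] B`. -/
theorem henselianLocalRing_tensor [hB : HenselianLocalRing B] :
    HenselianLocalRing (A ⊗[R] B) := by
  have hloc : IsLocalRing (A ⊗[R] B) := isLocalRing_tensor R A B
  let _ : Algebra B (A ⊗[R] B) := Algebra.TensorProduct.rightAlgebra
  have hint : Algebra.IsIntegral B (A ⊗[R] B) := isIntegral_right R A B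
  exact Groth.Agent.Lib.HenselIntegralLocal.henselianLocalRing_of_isIntegral B (A ⊗[R] B)

/-- If the residue field of `B` is separably closed then so is that of `A ⊗[R] B`. -/
theorem isSepClosed_residueField_tensor [IsSepClosed (ResidueField B)] :
    letI : IsLocalRing (A ⊗[R] B) := isLocalRing_tensor R A B
    IsSepClosed (ResidueField (A ⊗[R] B)) := by
  letI hloc : IsLocalRing (A ⊗[R] B) := isLocalRing_tensor R A B
  let _ : Algebra B (A ⊗[R] B) := Algebra.TensorProduct.rightAlgebra
  have hint : Algebra.IsIntegral B (A ⊗[R] B) := isIntegral_right R A B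
  have hlocal : IsLocalHom (algebraMap B (A ⊗[R] B)) := by
    refine ⟨fun b hb => ?_⟩
    by_contra hb'
    have h1 : b ∈ maximalIdeal B := hb'
    rw [← comap_includeRight_of_isMaximal R A B (maximalIdeal (A ⊗[R] B))] at h1
    exact h1 hb
  have hint' : Algebra.IsIntegral (ResidueField B) (ResidueField (A ⊗[R] B)) :=
    isIntegral_residueField B (A ⊗[R] B)
  have halg : Algebra.IsAlgebraic (ResidueField B) (ResidueField (A ⊗[R] B)) :=
    Algebra.IsIntegral.isAlgebraic
  exact Algebra.IsAlgebraic.isSepClosed (F := ResidueField B)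

end Main

end Groth.Agent.Lib.TensorPurelyInsepHensel61
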