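import Groth.Agent.Lib.HenselTransfer22
import Groth.Agent.Lib.PiLocalDecomp22
import Groth.Agent.Lib.HenselIdem
import Groth.Agent.Lib.RInv88
import Groth.Agent.Lib.RInvIntegral88
import Groth.Agent.Lib.TensorPurelyInsepHensel61

/-!
# Rings with involution over a strictly henselian fixed ring are finite products of strictly
henselian local rings
-/

set_option autoImplicit false
universe u v

namespace Groth.Agent.Lib.RInvDecomp22

open IsLocalRing

/-- reindexing a finite product by `Fin n` -/
theorem reindex {R : Type v} [CommRing R] {κ : Type v} [Fintype κ] (T' : κ → Type v)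
    [∀ i, CommRing (T' i)] (h1 : ∀ i, HenselianLocalRing (T' i))
    (h2 : ∀ i, @IsSepClosed (@ResidueField (T' i) _ (h1 i).toIsLocalRing) _)
    (E : R ≃+* (∀ i, T' i)) :
    ∃ (ι : Type) (_ : Fintype ι) (T : ι → Type v) (_ : ∀ i, CommRing (T i))
      (_ : ∀ i, HenselianLocalRing (T i)),
      (∀ i, IsSepClosed (ResidueField (T i))) ∧ Nonempty (R ≃+* (∀ i, T i)) := by
  classical
  let σ : κ ≃ Fin (Fintype.card κ) := Fintype.equivFin κ
  exact ⟨Fin (Fintype.card κ), inferInstance, fun k => T' (σ.symm k), fun k => inferInstance,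
    fun k => h1 _, fun k => h2 _, ⟨E.trans (RingEquiv.piCongrLeft T' σ.symm).symm⟩⟩

variable {S : Type u} {R : Type v} [CommRing S] [CommRing R] [Algebra S R]
  (lam : R ≃+* R) (hlam : Function.Involutive lam) (hS : RInv.IsFixedRing S R lam)

include hlam hS in
theorem exists_decomp [HenselianLocalRing S] [IsSepClosed (ResidueField S)] :
    ∃ (ι : Type) (_ : Fintype ι) (T : ι → Type v) (_ : ∀ i, CommRing (T i))
      (_ : ∀ i, HenselianLocalRing (T i)),
      (∀ i, IsSepClosed (ResidueField (T i))) ∧ Nonempty (R ≃+* (∀ i, T i)) := by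
  classical
  have hint : Algebra.IsIntegral S R :=
    ⟨Groth.Agent.Lib.RInvIntegral88.isIntegral lam hlam hS⟩
  -- the image of `S` in `R`
  let A : Subring R := (algebraMap S R).range
  let e : S ≃+* A := RingEquiv.ofBijective (algebraMap S R).rangeRestrict
    ⟨fun a b h => hS.1 (congrArg Subtype.val h), RingHom.rangeRestrict_surjective _⟩
  have hA : HenselianLocalRing A :=
    Groth.Agent.Lib.HenselTransfer22.henselianLocalRing_of_ringEquiv e.symm
  let _ : Algebra S A := (algebraMap S R).rangeRestrict.toAlgebra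
  have htower : IsScalarTower S A R := IsScalarTower.of_algebraMap_eq fun _ => rfl
  have hintA : Algebra.IsIntegral A R := Algebra.IsIntegral.tower_top S
  set J : Ideal R := (maximalIdeal A).map (algebraMap A R) with hJdef
  have hJ : J ≤ Ideal.jacobson ⊥ :=
    Groth.Agent.Lib.HenselIdem.map_le_jacobson_of_isIntegral (B := R) (maximalIdeal A)
      (by rw [IsLocalRing.jacobson_eq_maximalIdeal ⊥ bot_ne_top])
  -- primes of `R` containing `J` are maximal
  have hmaxR : ∀ q : Ideal R, q.IsPrime → J ≤ q → q.IsMaximal := by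
    intro q hq hle
    have h1 : maximalIdeal A ≤ q.comap (algebraMap A R) := Ideal.map_le_iff_le_comap.1 hle
    have h2 : q.comap (algebraMap A R) ≠ ⊤ := (Ideal.comap_isPrime _ q).ne_top
    have h3 : q.comap (algebraMap A R) = maximalIdeal A :=
      ((maximalIdeal.isMaximal A).eq_of_le h2 h1).symm
    exact Ideal.isMaximal_of_isIntegral_of_isMaximal_comap q (h3 ▸ maximalIdeal.isMaximal A)
  have hcomapmax : ∀ P : PrimeSpectrum (R ⧸ J),
      (P.asIdeal.comap (Ideal.Quotient.mk J)).IsMaximal := by
    intro P
    apply hmaxR _ (Ideal.comap_isPrime _ _)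
    intro x hx
    rw [Ideal.mem_comap, Ideal.Quotient.eq_zero_iff_mem.2 hx]
    exact P.asIdeal.zero_mem
  have hdim : Ring.KrullDimLE 0 (R ⧸ J) := by
    refine Ring.KrullDimLE.mk₀ fun P hP => ?_
    have h1 := hcomapmax ⟨P, hP⟩
    have h2 : P = (P.comap (Ideal.Quotient.mk J)).map (Ideal.Quotient.mk J) :=
      (Ideal.map_comap_of_surjective _ Ideal.Quotient.mk_surjective P).symm
    rcases Ideal.map_eq_top_or_isMaximal_of_surjective (Ideal.Quotient.mk J)
      Ideal.Quotient.mk_surjective h1 with h | h
    · exact absurd (h2.trans h) hP.ne_top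
    · rw [h2]; exact h
  have hfinite : Finite (PrimeSpectrum (R ⧸ J)) := by
    by_cases hne : Nonempty (PrimeSpectrum (R ⧸ J))
    · obtain ⟨P₀⟩ := hne
      set M := P₀.asIdeal.comap (Ideal.Quotient.mk J) with hM
      have hMmax : M.IsMaximal := hcomapmax P₀
      let f : PrimeSpectrum (R ⧸ J) → Bool := fun P =>
        decide (P.asIdeal.comap (Ideal.Quotient.mk J) = M)
      refine Finite.of_injective f fun P P' hPP' => ?_
      have hP := hcomapmax P
      have hP' := hcomapmax P'
      have key : P.asIdeal.comap (Ideal.Quotient.mk J) =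
          P'.asIdeal.comap (Ideal.Quotient.mk J) := by
        by_cases h : P.asIdeal.comap (Ideal.Quotient.mk J) = M
        · have h' : P'.asIdeal.comap (Ideal.Quotient.mk J) = M := by
            have : f P' = true := by rw [← hPP']; exact decide_eq_true h
            exact of_decide_eq_true this
          rw [h, h']
        · have h' : ¬ P'.asIdeal.comap (Ideal.Quotient.mk J) = M := by
            intro h''
            have : f P = true := by rw [hPP']; exact decide_eq_true h''
            exact h (of_decide_eq_true this)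
          have e1 := (Groth.Agent.Lib.RInv88.eq_or_eq_comap_of_isMaximal lam hlam hS M
            (P.asIdeal.comap (Ideal.Quotient.mk J))).resolve_left h
          have e2 := (Groth.Agent.Lib.RInv88.eq_or_eq_comap_of_isMaximal lam hlam hS M
            (P'.asIdeal.comap (Ideal.Quotient.mk J))).resolve_left h'
          rw [e1, e2]
      apply PrimeSpectrum.ext
      exact Ideal.comap_injective_of_surjective _ Ideal.Quotient.mk_surjective key
    · have : IsEmpty (PrimeSpectrum (R ⧸ J)) := not_nonempty_iff.1 hne
      infer_instance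
  have hdisc : DiscreteTopology (PrimeSpectrum (R ⧸ J)) :=
    PrimeSpectrum.discreteTopology_iff_finite_and_krullDimLE_zero.2 ⟨hfinite, hdim⟩
  -- idempotents lift
  have hlift : ∀ x : R ⧸ J, IsIdempotentElem x → ∃ e : R, IsIdempotentElem e ∧
      Ideal.Quotient.mk J e = x := by
    intro x hx
    obtain ⟨b, rfl⟩ := Ideal.Quotient.mk_surjective x
    have hb : b * b - b ∈ J := by
      rw [← Ideal.Quotient.eq_zero_iff_mem, map_sub, map_mul, hx.eq, sub_self]
    obtain ⟨e', he', hmem⟩ :=
      Groth.Agent.Lib.HenselIdem.exists_idempotent_lift_of_isIntegral (A := A) (B := R)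
        (maximalIdeal A) b hb
    exact ⟨e', he', Ideal.Quotient.eq.2 hmem⟩
  obtain ⟨hF, ε, hcoi, hloc⟩ :=
    Groth.Agent.Lib.PiLocalDecomp22.exists_completeOrthogonalIdempotents J hJ hlift
  have hhens : ∀ i, HenselianLocalRing (R ⧸ Ideal.span {1 - ε i}) := fun i =>
    have := hloc i
    Groth.Agent.Lib.HenselIntegralLocal.henselianLocalRing_of_isIntegral A
      (R ⧸ Ideal.span {1 - ε i})
  have hsc : ∀ i, IsSepClosed (ResidueField (R ⧸ Ideal.span {1 - ε i})) := by
    intro i
    have := hloc i
    have : IsLocalHom (algebraMap S (R ⧸ Ideal.span {1 - ε i})) :=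
      Groth.Agent.Lib.HenselTransfer22.isLocalHom_of_isIntegral
    have hint' : Algebra.IsIntegral (ResidueField S) (ResidueField (R ⧸ Ideal.span {1 - ε i})) :=
      Groth.Agent.Lib.TensorPurelyInsepHensel61.isIntegral_residueField S _
    have halg : Algebra.IsAlgebraic (ResidueField S)
        (ResidueField (R ⧸ Ideal.span {1 - ε i})) := Algebra.IsIntegral.isAlgebraic
    exact Algebra.IsAlgebraic.isSepClosed (F := ResidueField S)
  exact reindex (fun i => R ⧸ Ideal.span {1 - ε i}) hhens hsc
    (RingEquiv.ofBijective _ hcoi.bijective_pi)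

end Groth.Agent.Lib.RInvDecomp22
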