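import Mathlib
import Groth.Agent.Lib.Azumaya16Hom
import Groth.Agent.Lib.LGAzumaya16d
import Groth.Agent.Lib.LGAzumaya16h
import Groth.Agent.Lib.CSATpow

/-!
# Rank arguments for Azumaya algebras (helper16)

* `algHom_bijective_of_rank`: an algebra homomorphism between Azumaya algebras of the same
  (pointwise) rank is bijective.
* `isAzumaya_tpow`, `rankAtStalk_tpow`: tensor powers.
* `faithfulSMul_of_rankAtStalk_pos`.
-/

set_option autoImplicit false
set_option linter.style.haveILetI false
universe u v w

open scoped TensorProduct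

namespace Groth.Agent.Lib.AzumayaRank16

open Groth.Agent.Lib.Azumaya16 Groth.Agent.Lib.LGAzumaya16

section hom

variable (R : Type u) [CommRing R] (B : Type v) [Ring B] [Algebra R B] [IsAzumaya R B]
  (B' : Type w) [Ring B'] [Algebra R B'] [IsAzumaya R B']

/-- An algebra homomorphism between Azumaya algebras of the same rank is bijective. -/
theorem algHom_bijective_of_rank (f : B →ₐ[R] B')
    (hrk : ∀ p : PrimeSpectrum R, Module.rankAtStalk B p = Module.rankAtStalk B' p) :
    Function.Bijective f := by
  obtain ⟨a1, a2, a3, a4⟩ := (isAzumaya_iff R B).1 inferInstance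
  obtain ⟨b1, b2, b3, b4⟩ := (isAzumaya_iff R B').1 inferInstance
  have key : Function.Bijective f.toLinearMap := by
    apply bijective_of_fibres f.toLinearMap
    intro m hm
    let _ : Field (R ⧸ m) := Ideal.Quotient.field m
    refine ⟨R ⧸ m, inferInstance, inferInstance, Ideal.mk_ker, ?_⟩
    have hAz : IsAzumaya (R ⧸ m) ((R ⧸ m) ⊗[R] B) := isAzumaya_baseChange R (R ⧸ m) B
    have hAz' : IsAzumaya (R ⧸ m) ((R ⧸ m) ⊗[R] B') := isAzumaya_baseChange R (R ⧸ m) B'
    have hsimple : IsSimpleRing ((R ⧸ m) ⊗[R] B) := isSimpleRing_of_isAzumaya_field (R ⧸ m) _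
    have hnt : Nontrivial ((R ⧸ m) ⊗[R] B') := nontrivial_of_isAzumaya_field (R ⧸ m) _
    let F : (R ⧸ m) ⊗[R] B →ₐ[R ⧸ m] (R ⧸ m) ⊗[R] B' :=
      Algebra.TensorProduct.map (AlgHom.id (R ⧸ m) (R ⧸ m)) f
    have hF : ⇑(f.toLinearMap.baseChange (R ⧸ m)) = ⇑F := by
      funext x
      induction x using TensorProduct.induction_on with
      | zero => simp
      | add x y hx hy => simp only [map_add, hx, hy]
      | tmul s b => simp [F]
    rw [hF]
    have hinj : Function.Injective F := fun a b hab => RingHom.injective F.toRingHom hab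
    have hfin : Module.finrank (R ⧸ m) ((R ⧸ m) ⊗[R] B) =
        Module.finrank (R ⧸ m) ((R ⧸ m) ⊗[R] B') := by
      rw [finrank_fibre m B, finrank_fibre m B', hrk]
    exact ⟨hinj, (LinearMap.injective_iff_surjective_of_finrank_eq_finrank hfin
      (f := F.toLinearMap)).1 hinj⟩
  exact key

end hom


section tpow

open Groth.Agent.Lib.CSATpow

variable (R : Type u) [CommRing R] (A : Type v) [Ring A] [Algebra R A] [IsAzumaya R A]

/-- tensor powers of Azumaya algebras are Azumaya -/
theorem isAzumaya_tpow (e : ℕ) : IsAzumaya R (⨂[R] _ : Fin e, A) := by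
  induction e with
  | zero => exact IsAzumaya.of_AlgEquiv R _ _ (tpowZeroEquiv R A).symm
  | succ e ih =>
    haveI := ih
    haveI : IsAzumaya R ((⨂[R] _ : Fin e, A) ⊗[R] A) := isAzumaya_tensorProduct R _ A
    exact IsAzumaya.of_AlgEquiv R _ _ (tpowSuccEquiv R A e).symm

/-- the rank of a tensor power -/
theorem rankAtStalk_tpow (e : ℕ) (p : PrimeSpectrum R) :
    Module.rankAtStalk (⨂[R] _ : Fin e, A) p = Module.rankAtStalk A p ^ e := by
  obtain ⟨a1, a2, a3, a4⟩ := (isAzumaya_iff R A).1 inferInstance
  induction e with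
  | zero =>
    haveI : Nontrivial R := ⟨⟨0, 1, fun h => p.isPrime.ne_top
      ((Ideal.eq_top_iff_one _).2 (h ▸ p.asIdeal.zero_mem))⟩⟩
    rw [Module.rankAtStalk_eq_of_equiv (tpowZeroEquiv R A).toLinearEquiv, pow_zero,
      Module.rankAtStalk_self]
    rfl
  | succ e ih =>
    haveI := isAzumaya_tpow R A e
    obtain ⟨c1, c2, c3, c4⟩ := (isAzumaya_iff R (⨂[R] _ : Fin e, A)).1 inferInstance
    rw [Module.rankAtStalk_eq_of_equiv (tpowSuccEquiv R A e).toLinearEquiv,
      Module.rankAtStalk_tensorProduct, Pi.mul_apply, ih, pow_succ]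

end tpow

section faithful

variable (R : Type u) [CommRing R] (M : Type v) [AddCommGroup M] [Module R M] [Module.Finite R M]
  [Module.Projective R M]

/-- a finite projective module of everywhere positive rank is faithful -/
theorem faithfulSMul_of_rankAtStalk_pos (h : ∀ p : PrimeSpectrum R, 0 < Module.rankAtStalk M p) :
    FaithfulSMul R M := by
  refine ⟨fun {r r'} hrr => ?_⟩
  rw [← sub_eq_zero]
  have hkill : ∀ m : M, (r - r') • m = 0 := fun m => by rw [sub_smul, hrr m, sub_self]
  apply eq_zero_of_localization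
  intro J hJ
  let p : PrimeSpectrum R := ⟨J, hJ.isPrime⟩
  haveI : Module.Free (Localization.AtPrime J) (LocalizedModule J.primeCompl M) :=
    Module.free_of_flat_of_isLocalRing
  have hpos : 0 < Module.finrank (Localization.AtPrime J) (LocalizedModule J.primeCompl M) := h p
  let b := Module.finBasis (Localization.AtPrime J) (LocalizedModule J.primeCompl M)
  let i0 : Fin (Module.finrank (Localization.AtPrime J) (LocalizedModule J.primeCompl M)) :=
    ⟨0, hpos⟩
  -- the scalar kills the localized module
  have hk : ∀ x : LocalizedModule J.primeCompl M,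
      (algebraMap R (Localization.AtPrime J) (r - r')) • x = 0 := by
    intro x
    induction x using LocalizedModule.induction_on with
    | h m s =>
      rw [algebraMap_smul, LocalizedModule.smul'_mk, hkill, LocalizedModule.zero_mk]
  have h1 := hk (b i0)
  have h2 := b.linearIndependent
  rw [Fintype.linearIndependent_iff] at h2
  have h3 := h2 (Pi.single i0 (algebraMap R (Localization.AtPrime J) (r - r'))) (by
    rw [Finset.sum_eq_single i0]
    · rw [Pi.single_eq_same]; exact h1
    · intro j _ hj; rw [Pi.single_eq_of_ne hj, zero_smul]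
    · intro h; exact absurd (Finset.mem_univ _) h) i0
  rwa [Pi.single_eq_same] at h3

end faithful

end Groth.Agent.Lib.AzumayaRank16
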