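/-
helper56: generation of the strict henselization by "étale operations".

Let `S` be a strict henselization of the local ring `R` (given only by the universal property).
* `eq_top_of_isHClosed` : an `R`-subalgebra `S'` of `S` which is closed under inverses and under
  taking simple roots (in `S`) of monic polynomials with coefficients in `S'` is all of `S`.
* `exists_etale_of_finset` : every finite subset of `S` lies in the image of an étale `R`-algebra.
-/
import Groth.Prelude.Def_Hensel
import Mathlib.RingTheory.Etale.StandardEtale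
import Mathlib.RingTheory.Henselian
import Mathlib.RingTheory.LocalRing.ResidueField.Basic
import Mathlib.FieldTheory.IsSepClosed
import Mathlib.RingTheory.Polynomial.Basic

set_option autoImplicit false
universe u

namespace Groth.Agent.Lib.H56ShGen

open Polynomial IsLocalRing

section Closed

variable {R S : Type u} [CommRing R] [CommRing S] [Algebra R S]

/-- An `R`-subalgebra of `S` closed under inverses and simple roots of monic polynomials. -/
structure IsHClosed (S' : Subalgebra R S) : Prop where
  inv_mem : ∀ a b : S, a ∈ S' → a * b = 1 → b ∈ S'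
  root_mem : ∀ (P : S'[X]) (a : S), P.Monic → aeval a P = 0 →
    IsUnit (aeval a (derivative P)) → a ∈ S'

variable {S' : Subalgebra R S} (h : IsHClosed S')

include h in
theorem IsHClosed.isLocalHom_val : IsLocalHom (S'.val : S' →+* S) := by
  constructor
  intro a ha
  obtain ⟨b, hb⟩ := ha.exists_right_inv
  have hbS : b ∈ S' := h.inv_mem _ b a.2 hb
  exact IsUnit.of_mul_eq_one (⟨b, hbS⟩ : S') (Subtype.ext hb)

variable [IsLocalRing S]

include h in
theorem IsHClosed.isLocalRing : IsLocalRing S' :=
  have := h.isLocalHom_val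
  RingHom.domain_isLocalRing (S'.val : S' →+* S)

theorem isUnit_of_sub_mem_maximalIdeal {A : Type*} [CommRing A] [IsLocalRing A] {x u : A}
    (hu : IsUnit u) (hx : x - u ∈ maximalIdeal A) : IsUnit x := by
  by_contra hx'
  have h1 : x ∈ maximalIdeal A := hx'
  have h2 : u ∈ maximalIdeal A := by
    have := Ideal.sub_mem _ h1 hx
    simpa using this
  exact h2 hu

include h in
theorem IsHClosed.henselian [HenselianLocalRing S] : HenselianLocalRing S' := by
  have hloc := h.isLocalHom_val
  have hlr := h.isLocalRing
  refine { is_henselian := ?_ }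
  intro f hf a₀ h₁ h₂
  have e1 : ∀ (g : S'[X]) (x : S'), (g.map (S'.val : S' →+* S)).eval (x : S) =
      ((g.eval x : S') : S) := by
    intro g x
    rw [Polynomial.eval_map]
    exact Polynomial.eval₂_at_apply (S'.val : S' →+* S) x
  have h₁' : (f.map (S'.val : S' →+* S)).eval (a₀ : S) ∈ maximalIdeal S := by
    rw [e1]
    exact map_nonunit (S'.val : S' →+* S) _ h₁
  have h₂' : IsUnit ((f.map (S'.val : S' →+* S)).derivative.eval (a₀ : S)) := by
    rw [Polynomial.derivative_map, e1]
    exact h₂.map (S'.val : S' →+* S)
  obtain ⟨a, ha, haa⟩ := HenselianLocalRing.is_henselian _ (hf.map _) (a₀ : S) h₁' h₂'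
  have hroot : aeval a f = 0 := by
    rw [Polynomial.aeval_def, ← Polynomial.eval_map]
    exact ha
  have hder : IsUnit (aeval a (derivative f)) := by
    rw [Polynomial.aeval_def, ← Polynomial.eval_map]
    change IsUnit (((derivative f).map (S'.val : S' →+* S)).eval a)
    rw [← Polynomial.derivative_map]
    refine isUnit_of_sub_mem_maximalIdeal h₂' ?_
    exact Ideal.mem_of_dvd _ (Polynomial.sub_dvd_eval_sub a (a₀ : S) _) haa
  have haS : a ∈ S' := h.root_mem f a hf hroot hder
  refine ⟨⟨a, haS⟩, ?_, ?_⟩
  · rw [Polynomial.IsRoot.def]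
    apply Subtype.ext
    rw [← e1]
    exact ha
  · intro hu
    have : IsUnit ((S'.val : S' →+* S) (⟨a, haS⟩ - a₀)) := hu.map _
    exact haa this

end Closed

section Strict

variable {R S : Type u} [CommRing R] [IsLocalRing R] [CommRing S] [IsLocalRing S] [Algebra R S]
  [IsLocalHom (algebraMap R S)]

/-- Hensel's lemma in the form which also records that the derivative at the root is a unit. -/
theorem exists_root_of_henselian [HenselianLocalRing S] (P : S[X]) (hP : P.Monic) (a₀ : S)
    (h₁ : P.eval a₀ ∈ maximalIdeal S) (h₂ : IsUnit (P.derivative.eval a₀)) :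
    ∃ a : S, P.eval a = 0 ∧ a - a₀ ∈ maximalIdeal S ∧ IsUnit (P.derivative.eval a) := by
  obtain ⟨a, ha, haa⟩ := HenselianLocalRing.is_henselian P hP a₀ h₁ h₂
  refine ⟨a, ha, haa, isUnit_of_sub_mem_maximalIdeal h₂ ?_⟩
  exact Ideal.mem_of_dvd _ (Polynomial.sub_dvd_eval_sub a a₀ _) haa

variable {S' : Subalgebra R S} (h : IsHClosed S')

include h in
/-- The residue field of `S` is generated by `S'`. -/
theorem IsHClosed.exists_mem_residue_eq [hS : Hensel.IsStrictHenselization R S]
    (α : ResidueField S) : ∃ a ∈ S', residue S a = α := by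
  have hhens : HenselianLocalRing S := hS.henselian
  have hsep : Algebra.IsSeparable (ResidueField R) (ResidueField S) := hS.isSepClosure.separable
  have hα : (minpoly (ResidueField R) α).Separable :=
    Algebra.IsSeparable.isSeparable (ResidueField R) α
  have hint : IsIntegral (ResidueField R) α := Algebra.IsSeparable.isIntegral (ResidueField R) α
  have hmonic := minpoly.monic hint
  have hlift : minpoly (ResidueField R) α ∈ Polynomial.lifts (residue R) := by
    rw [Polynomial.lifts_iff_coeff_lifts]
    intro n
    exact residue_surjective _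
  obtain ⟨P, hPm, -, hPmonic⟩ := Polynomial.lifts_and_natDegree_eq_and_monic hlift hmonic
  obtain ⟨a₀, rfl⟩ := residue_surjective α
  have hcomp : (residue S).comp (algebraMap R S) =
      (algebraMap (ResidueField R) (ResidueField S)).comp (residue R) := rfl
  have key : ∀ Q : R[X], residue S ((Q.map (algebraMap R S)).eval a₀) =
      aeval (residue S a₀) (Q.map (residue R)) := by
    intro Q
    rw [Polynomial.eval_map, Polynomial.hom_eval₂, Polynomial.aeval_def, Polynomial.eval₂_map,
      hcomp]
  have h₁ : (P.map (algebraMap R S)).eval a₀ ∈ maximalIdeal S := by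
    rw [← residue_eq_zero_iff, key, hPm, minpoly.aeval]
  have h₂ : IsUnit ((P.map (algebraMap R S)).derivative.eval a₀) := by
    rw [Polynomial.derivative_map]
    by_contra hnu
    have h0 : residue S (((derivative P).map (algebraMap R S)).eval a₀) = 0 :=
      (residue_eq_zero_iff _).2 hnu
    rw [key, ← Polynomial.derivative_map, hPm] at h0
    exact hα.aeval_derivative_ne_zero (minpoly.aeval _ _) h0
  obtain ⟨a, ha, haa, hau⟩ :=
    exists_root_of_henselian (P.map (algebraMap R S)) (hPmonic.map _) a₀ h₁ h₂
  refine ⟨a, ?_, ?_⟩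
  · refine h.root_mem (P.map (algebraMap R S')) a (hPmonic.map _) ?_ ?_
    · rw [Polynomial.aeval_map_algebraMap, Polynomial.aeval_def, ← Polynomial.eval_map]
      exact ha
    · rw [Polynomial.derivative_map, Polynomial.aeval_map_algebraMap, Polynomial.aeval_def,
        ← Polynomial.eval_map, ← Polynomial.derivative_map]
      exact hau
  · rw [← sub_eq_zero, ← map_sub, residue_eq_zero_iff]
    exact haa

include h in
theorem IsHClosed.isLocalHom_algebraMap : IsLocalHom (algebraMap R S') := by
  have := h.isLocalHom_val
  constructor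
  intro r hr
  have h1 : IsUnit ((S'.val : S' →+* S) (algebraMap R S' r)) := hr.map _
  exact isUnit_of_map_unit (algebraMap R S) r h1

include h in
/-- A subalgebra of the strict henselization closed under inverses and simple roots of monic
polynomials is everything. -/
theorem IsHClosed.eq_top [hS : Hensel.IsStrictHenselization R S] : S' = ⊤ := by
  have hhens : HenselianLocalRing S := hS.henselian
  have hloc := h.isLocalHom_val
  have hhens' : HenselianLocalRing S' := h.henselian
  have hlocR : IsLocalHom (algebraMap R S') := h.isLocalHom_algebraMap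
  let ι : S' →+* S := S'.val
  let κι : ResidueField S' →+* ResidueField S := ResidueField.map ι
  have hbij : Function.Bijective κι := by
    refine ⟨κι.injective, fun α => ?_⟩
    obtain ⟨a, ha, rfl⟩ := h.exists_mem_residue_eq α
    exact ⟨residue S' ⟨a, ha⟩, ResidueField.map_residue ι ⟨a, ha⟩⟩
  let e : ResidueField S' ≃+* ResidueField S := RingEquiv.ofBijective κι hbij
  have heapply : ∀ y, e y = κι y := fun _ => rfl
  have hτ : (e.symm : ResidueField S →+* ResidueField S').comp
      (ResidueField.map (algebraMap R S)) = ResidueField.map (algebraMap R S') := by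
    ext x
    obtain ⟨r, rfl⟩ := residue_surjective x
    apply e.injective
    rw [RingHom.comp_apply, RingHom.coe_coe, e.apply_symm_apply, heapply]
    rfl
  obtain ⟨g, ⟨hg1, hg2⟩, -⟩ := hS.universal S' (algebraMap R S') _ hτ
  obtain ⟨e', -, he'⟩ := hS.universal S (algebraMap R S) (RingHom.id _) (RingHom.id_comp _)
  have h1 : ι.comp g = e' := he' _ ⟨by
      rw [RingHom.comp_assoc, hg1]; rfl, fun x => by
      rw [RingHom.comp_apply, ← ResidueField.map_residue ι, hg2]
      change e (e.symm _) = _
      rw [e.apply_symm_apply]; rfl⟩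
  have h2 : RingHom.id S = e' := he' _ ⟨rfl, fun x => rfl⟩
  rw [eq_top_iff]
  intro x _
  have : x = ι (g x) := by
    have := congrArg (fun k => k x) (h1.trans h2.symm)
    exact this.symm
  rw [this]
  exact (g x).2

end Strict

section Etale

open TensorProduct

variable (R S : Type u) [CommRing R] [CommRing S] [Algebra R S]

/-- `x ∈ S` lies in the image of an étale `R`-algebra. -/
def IsEtaleGen (x : S) : Prop :=
  ∃ (E : Type u) (_ : CommRing E) (_ : Algebra R E) (_ : Algebra.Etale R E) (φ : E →ₐ[R] S),
    x ∈ φ.range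

variable {R S}

theorem isEtaleGen_algebraMap (r : R) : IsEtaleGen R S (algebraMap R S r) :=
  ⟨R, inferInstance, inferInstance, inferInstance, Algebra.ofId R S, ⟨r, rfl⟩⟩

/-- Two étale-generated elements come from a common étale algebra. -/
theorem exists_common {x y : S} (hx : IsEtaleGen R S x) (hy : IsEtaleGen R S y) :
    ∃ (E : Type u) (_ : CommRing E) (_ : Algebra R E) (_ : Algebra.Etale R E) (φ : E →ₐ[R] S),
      x ∈ φ.range ∧ y ∈ φ.range := by
  obtain ⟨E, _, _, _, φ, e, rfl⟩ := hx
  obtain ⟨E', _, _, _, φ', e', rfl⟩ := hy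
  have : Algebra.Etale R (E ⊗[R] E') := Algebra.Etale.comp R E (E ⊗[R] E')
  refine ⟨E ⊗[R] E', inferInstance, inferInstance, this,
    Algebra.TensorProduct.productMap φ φ', ⟨e ⊗ₜ 1, ?_⟩, ⟨1 ⊗ₜ e', ?_⟩⟩
  · simp
  · simp

/-- Finitely many étale-generated elements come from a common étale algebra. -/
theorem exists_of_finset (F : Finset S) (hF : ∀ x ∈ F, IsEtaleGen R S x) :
    ∃ (E : Type u) (_ : CommRing E) (_ : Algebra R E) (_ : Algebra.Etale R E) (φ : E →ₐ[R] S),
      ∀ x ∈ F, x ∈ φ.range := by
  classical
  induction F using Finset.induction_on with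
  | empty =>
    exact ⟨R, inferInstance, inferInstance, inferInstance, Algebra.ofId R S, by simp⟩
  | insert a F ha ih =>
    obtain ⟨E, _, _, _, φ, hφ⟩ := ih (fun x hx => hF x (Finset.mem_insert_of_mem hx))
    obtain ⟨E', _, _, _, φ', e', he'⟩ := hF a (Finset.mem_insert_self a F)
    have : Algebra.Etale R (E ⊗[R] E') := Algebra.Etale.comp R E (E ⊗[R] E')
    refine ⟨E ⊗[R] E', inferInstance, inferInstance, this,
      Algebra.TensorProduct.productMap φ φ', ?_⟩
    intro x hx
    rcases Finset.mem_insert.1 hx with rfl | hx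
    · exact ⟨1 ⊗ₜ e', by simpa using he'⟩
    · obtain ⟨e, he⟩ := hφ x hx
      exact ⟨e ⊗ₜ 1, by simpa using he⟩

variable (R S) in
/-- The subalgebra of étale-generated elements. -/
def etaleSub : Subalgebra R S where
  carrier := {x | IsEtaleGen R S x}
  mul_mem' {a b} ha hb := by
    obtain ⟨E, _, _, _, φ, ⟨e, rfl⟩, ⟨e', rfl⟩⟩ := exists_common ha hb
    exact ⟨E, inferInstance, inferInstance, inferInstance, φ, ⟨e * e', map_mul _ _ _⟩⟩
  add_mem' {a b} ha hb := by
    obtain ⟨E, _, _, _, φ, ⟨e, rfl⟩, ⟨e', rfl⟩⟩ := exists_common ha hb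
    exact ⟨E, inferInstance, inferInstance, inferInstance, φ, ⟨e + e', map_add _ _ _⟩⟩
  algebraMap_mem' r := isEtaleGen_algebraMap r

theorem mem_etaleSub {x : S} : x ∈ etaleSub R S ↔ IsEtaleGen R S x := Iff.rfl

theorem isEtaleGen_of_mul_eq_one {a b : S} (ha : IsEtaleGen R S a) (hab : a * b = 1) :
    IsEtaleGen R S b := by
  obtain ⟨E, _, _, _, φ, e, rfl⟩ := ha
  replace hab : φ e * b = 1 := hab
  have hf : ∀ y : Submonoid.powers e, IsUnit (φ y) := by
    rintro ⟨_, n, rfl⟩
    rw [map_pow]
    exact (IsUnit.of_mul_eq_one _ hab).pow n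
  let ψ : Localization.Away e →ₐ[R] S := IsLocalization.liftAlgHom (M := Submonoid.powers e) hf
  refine ⟨Localization.Away e, inferInstance, inferInstance, inferInstance, ψ,
    ⟨IsLocalization.Away.invSelf e, ?_⟩⟩
  have h1 : ψ (algebraMap E (Localization.Away e) e) = φ e := IsLocalization.lift_eq _ _
  have h2 : φ e * ψ (IsLocalization.Away.invSelf e) = 1 := by
    rw [← h1, ← map_mul, IsLocalization.Away.mul_invSelf, map_one]
  calc ψ (IsLocalization.Away.invSelf e) = (φ e * b) * ψ (IsLocalization.Away.invSelf e) := by
        rw [hab, one_mul]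
    _ = b * (φ e * ψ (IsLocalization.Away.invSelf e)) := by ring
    _ = b := by rw [h2, mul_one]

theorem isEtaleGen_of_root (P : (etaleSub R S)[X]) (a : S) (hP : P.Monic) (h0 : aeval a P = 0)
    (hu : IsUnit (aeval a (derivative P))) : IsEtaleGen R S a := by
  classical
  -- a common étale algebra for the coefficients
  obtain ⟨E, _, _, _, φ, hφ⟩ := exists_of_finset (R := R)
    (P.coeffs.image (fun c : etaleSub R S => (c : S))) (by
      intro x hx
      obtain ⟨c, -, rfl⟩ := Finset.mem_image.1 hx
      exact c.2)
  have hlift : P.map (etaleSub R S).val.toRingHom ∈ Polynomial.lifts (φ : E →+* S) := by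
    rw [Polynomial.lifts_iff_coeff_lifts]
    intro n
    rw [Polynomial.coeff_map]
    by_cases hn : P.coeff n = 0
    · exact ⟨0, by simp [hn]⟩
    · exact hφ _ (Finset.mem_image_of_mem _ (Polynomial.coeff_mem_coeffs hn))
  obtain ⟨Q, hQ, -, hQm⟩ := Polynomial.lifts_and_natDegree_eq_and_monic hlift (hP.map _)
  let _ : Algebra E S := (φ : E →+* S).toAlgebra
  have htower : IsScalarTower R E S := IsScalarTower.of_algebraMap_eq (fun r => (φ.commutes r).symm)
  let SP : StandardEtalePair E :=
    { f := Q
      monic_f := hQm
      g := derivative Q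
      cond := ⟨1, 0, 1, by simp⟩ }
  have e1 : ∀ G : E[X], aeval a G = (G.map (φ : E →+* S)).eval a := by
    intro G
    rw [Polynomial.aeval_def, Polynomial.eval_map]
    rfl
  have e2 : ∀ G : (etaleSub R S)[X], aeval a G = (G.map (etaleSub R S).val.toRingHom).eval a := by
    intro G
    rw [Polynomial.aeval_def, Polynomial.eval_map]
    rfl
  have hmap : SP.HasMap a := by
    refine ⟨?_, ?_⟩
    · change aeval a Q = 0
      rw [e1, hQ, ← e2]; exact h0
    · change IsUnit (aeval a (derivative Q))
      rw [e1, ← Polynomial.derivative_map, hQ, Polynomial.derivative_map, ← e2]; exact hu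
  let _ : Algebra R SP.Ring := ((algebraMap E SP.Ring).comp (algebraMap R E)).toAlgebra
  have htower' : IsScalarTower R E SP.Ring := IsScalarTower.of_algebraMap_eq (fun r => rfl)
  have hEt : Algebra.Etale R SP.Ring := Algebra.Etale.comp R E SP.Ring
  exact ⟨SP.Ring, inferInstance, inferInstance, hEt, (SP.lift a hmap).restrictScalars R,
    ⟨SP.X, SP.lift_X a hmap⟩⟩

/-- The étale-generated subalgebra is closed under inverses and simple roots. -/
theorem isHClosed_etaleSub : IsHClosed (etaleSub R S) where
  inv_mem _ _ ha hab := isEtaleGen_of_mul_eq_one ha hab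
  root_mem P a hP h0 hu := isEtaleGen_of_root P a hP h0 hu

end Etale

section Main

variable (R S : Type u) [CommRing R] [IsLocalRing R] [CommRing S] [IsLocalRing S] [Algebra R S]
  [IsLocalHom (algebraMap R S)] [Hensel.IsStrictHenselization R S]

/-- Every element of the strict henselization comes from an étale `R`-algebra. -/
theorem isEtaleGen_of_isStrictHenselization (x : S) : IsEtaleGen R S x := by
  have htop := (isHClosed_etaleSub (R := R) (S := S)).eq_top
  have hx : x ∈ etaleSub R S := by rw [htop]; trivial
  exact hx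

/-- Every finite subset of the strict henselization lies in the image of an étale `R`-algebra. -/
theorem exists_etale_of_finset (F : Finset S) :
    ∃ (E : Type u) (_ : CommRing E) (_ : Algebra R E) (_ : Algebra.Etale R E) (φ : E →ₐ[R] S),
      ∀ x ∈ F, x ∈ φ.range :=
  exists_of_finset F (fun x _ => isEtaleGen_of_isStrictHenselization R S x)

end Main

end Groth.Agent.Lib.H56ShGen
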