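import Groth.Agent.Lib.StrictHenselization

/-!
# Properties of the strict henselization (helper22)

* `equivSh S : S ≃ₐ[R] Sh R` for any strict henselization `S` of `R`.
* `faithfullyFlat_Sh`, `faithfullyFlat_of_isStrictHenselization`.
* `ringKrullDim_Sh`, `ringKrullDim_of_isStrictHenselization`.
-/

namespace Groth.Agent.Lib.StrictHenselization

open Polynomial IsLocalRing Groth.Agent.Lib Groth.Agent.Lib.SepStep
  Groth.Agent.Lib.HenselizationConstr

universe u

variable (R : Type u) [CommRing R] [IsLocalRing R]

section Flat

instance flat_Sh : Module.Flat R (Sh R) :=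
  have : Module.Flat (R1 R) (Sh R) := HenselizationFlat.flat_Hzn (R1 R)
  Module.Flat.trans R (R1 R) (Sh R)

instance faithfullyFlat_Sh : Module.FaithfullyFlat R (Sh R) :=
  Module.FaithfullyFlat.of_flat_of_isLocalHom

theorem strictComap_algebraMap_Sh : HenselizationDim.StrictComap (algebraMap R (Sh R)) := by
  rw [algebraMap_eq]
  exact (strictComap_sStep R (Om R)).comp (HenselizationDim.strictComap_algebraMap_Hzn (R1 R))

theorem ringKrullDim_Sh : ringKrullDim (Sh R) = ringKrullDim R :=
  le_antisymm (strictComap_algebraMap_Sh R).krullDim_le
    HenselizationDim.ringKrullDim_le_of_faithfullyFlat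

end Flat

section Transfer

variable (S : Type u) [CommRing S] [IsLocalRing S] [Algebra R S] [IsLocalHom (algebraMap R S)]
  [hS : Hensel.IsStrictHenselization R S]

theorem residueField_map_eq_algebraMap (S' : Type u) [CommRing S'] [IsLocalRing S']
    [Algebra R S'] [IsLocalHom (algebraMap R S')] :
    ResidueField.map (algebraMap R S') = algebraMap (ResidueField R) (ResidueField S') := by
  ext x
  obtain ⟨r, rfl⟩ := residue_surjective x
  rfl

/-- Any strict henselization of `R` is isomorphic, as an `R`-algebra, to `Sh R`. -/
noncomputable def equivSh : S ≃ₐ[R] Sh R := by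
  have hSh : HenselianLocalRing S := hS.henselian
  have hsc : IsSepClosure (ResidueField R) (ResidueField S) := hS.isSepClosure
  let τ₀ : ResidueField S ≃ₐ[ResidueField R] ResidueField (Sh R) :=
    IsSepClosure.equiv (ResidueField R) (ResidueField S) (ResidueField (Sh R))
  have hτ₁ : (τ₀ : ResidueField S →+* ResidueField (Sh R)).comp
      (ResidueField.map (algebraMap R S)) = ResidueField.map (algebraMap R (Sh R)) := by
    rw [residueField_map_eq_algebraMap, residueField_map_eq_algebraMap]
    ext y
    exact τ₀.commutes y
  have hτ₂ : (τ₀.symm : ResidueField (Sh R) →+* ResidueField S).comp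
      (ResidueField.map (algebraMap R (Sh R))) = ResidueField.map (algebraMap R S) := by
    rw [residueField_map_eq_algebraMap, residueField_map_eq_algebraMap]
    ext y
    exact τ₀.symm.commutes y
  have hid₁ : (RingHom.id (ResidueField S)).comp (ResidueField.map (algebraMap R S)) =
      ResidueField.map (algebraMap R S) := RingHom.id_comp _
  have hid₂ : (RingHom.id (ResidueField (Sh R))).comp
      (ResidueField.map (algebraMap R (Sh R))) = ResidueField.map (algebraMap R (Sh R)) :=
    RingHom.id_comp _
  have h1 := hS.universal (Sh R) (algebraMap R (Sh R)) _ hτ₁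
  have h2 := (isStrictHenselization R).universal S (algebraMap R S) _ hτ₂
  have h3 := hS.universal S (algebraMap R S) _ hid₁
  have h4 := (isStrictHenselization R).universal (Sh R) (algebraMap R (Sh R)) _ hid₂
  let a : S →+* Sh R := h1.choose
  let b : Sh R →+* S := h2.choose
  have ha : a.comp (algebraMap R S) = algebraMap R (Sh R) := h1.choose_spec.1.1
  have ha' : ∀ x : S, residue (Sh R) (a x) = τ₀ (residue S x) := h1.choose_spec.1.2
  have hb : b.comp (algebraMap R (Sh R)) = algebraMap R S := h2.choose_spec.1.1
  have hb' : ∀ x : Sh R, residue S (b x) = τ₀.symm (residue (Sh R) x) := h2.choose_spec.1.2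
  have hba : b.comp a = RingHom.id S := by
    obtain ⟨e, -, he⟩ := h3
    rw [he (b.comp a) ⟨by rw [RingHom.comp_assoc, ha, hb], fun x => by
        rw [RingHom.comp_apply, hb', ha']
        exact τ₀.symm_apply_apply _⟩,
      he (RingHom.id S) ⟨rfl, fun x => rfl⟩]
  have hab : a.comp b = RingHom.id (Sh R) := by
    obtain ⟨e, -, he⟩ := h4
    rw [he (a.comp b) ⟨by rw [RingHom.comp_assoc, hb, ha], fun x => by
        rw [RingHom.comp_apply, ha', hb']
        exact τ₀.apply_symm_apply _⟩,
      he (RingHom.id _) ⟨rfl, fun x => rfl⟩]
  exact
    { toFun := a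
      invFun := b
      left_inv := fun x => congrArg (fun k => k x) hba
      right_inv := fun x => congrArg (fun k => k x) hab
      map_mul' := a.map_mul
      map_add' := a.map_add
      commutes' := fun r => congrArg (fun k => k r) ha }

/-- Every strict henselization of `R` is faithfully flat over `R`. -/
theorem faithfullyFlat_of_isStrictHenselization : Module.FaithfullyFlat R S :=
  Module.FaithfullyFlat.of_linearEquiv (R := R) (M := Sh R) (N := S)
    (equivSh R S).toLinearEquiv

/-- Every strict henselization of `R` has the same Krull dimension as `R`. -/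
theorem ringKrullDim_of_isStrictHenselization : ringKrullDim S = ringKrullDim R :=
  (ringKrullDim_eq_of_ringEquiv (equivSh R S).toRingEquiv).trans (ringKrullDim_Sh R)

end Transfer

end Groth.Agent.Lib.StrictHenselization
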