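import Mathlib
import Groth.Agent.Lib.H56ShGen
import Groth.Agent.Lib.StrictHenselizationProps
import Groth.Agent.Lib.DiagFlat

/-!
# Descending algebra homomorphisms from a strict henselization to an étale neighbourhood (helper16)

`T` is a strict henselization of `S_p` (`p` a prime of `S`).

* `exists_etale_of_finset`: every finite subset of `T` lies in the image of an étale `S`-algebra
  `E : Type u` mapping to `T` (`T` is a filtered colimit of étale `S`-algebras, in the form we need).
* `exists_kill`, `exists_kill_tensor`, `exists_kill_finset`, `exists_away`: an element of `E ⊗ M`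
  dying in `T ⊗ M` dies after inverting some `s ∈ E` that is a unit in `T`.
* `lin`, `lin_mul_of_gen`, `lin_semilinear_of_gen` … : a linear map `A₁ → E ⊗ A₂` obtained from a
  lift of finitely many values; multiplicativity / semilinearity can be checked on generators.
* **`exists_descend_hom`**: an `R`-compatible (and `s`-compatible) `S`-algebra homomorphism
  `ρ : A₁ →ₐ[S] T ⊗[S] A₂` (with `A₁` finite projective over `R`) descends to an étale `E → T`.
-/

set_option autoImplicit false
set_option linter.style.haveILetI false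
set_option linter.unusedSectionVars false

namespace Groth.Agent.Lib.ShDescent16
open TensorProduct Polynomial Groth.Agent.Lib.H56ShGen

section gen
universe u
variable (S : Type u) [CommRing S] (p : Ideal S) [p.IsPrime]
  (T : Type u) [CommRing T] [IsLocalRing T] [Algebra S T] [Algebra (Localization.AtPrime p) T]
  [IsScalarTower S (Localization.AtPrime p) T]
  [IsLocalHom (algebraMap (Localization.AtPrime p) T)]
  [Hensel.IsStrictHenselization (Localization.AtPrime p) T]

include p in
/-- every element of the strict henselization of `S_p` comes from an étale `S`-algebra -/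
theorem isEtaleGen_of_strict (x : T) : IsEtaleGen S T x := by
  have hU : IsHClosed (etaleSub S T) := isHClosed_etaleSub
  -- the same carrier as an `S_p`-subalgebra
  have halg : ∀ y : Localization.AtPrime p, algebraMap (Localization.AtPrime p) T y ∈ etaleSub S T := by
    intro y
    obtain ⟨s, f, rfl⟩ := IsLocalization.exists_mk'_eq p.primeCompl y
    have h1 : algebraMap (Localization.AtPrime p) T (IsLocalization.mk' _ s f) *
        algebraMap S T (f : S) = algebraMap S T s := by
      rw [IsScalarTower.algebraMap_apply S (Localization.AtPrime p) T,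
        IsScalarTower.algebraMap_apply S (Localization.AtPrime p) T, ← map_mul,
        IsLocalization.mk'_spec]
    have hfu : IsUnit (algebraMap S T (f : S)) := by
      rw [IsScalarTower.algebraMap_apply S (Localization.AtPrime p) T]
      exact (IsLocalization.map_units (Localization.AtPrime p) f).map _
    obtain ⟨b, hb⟩ := hfu.exists_right_inv
    have hbU : b ∈ etaleSub S T := hU.inv_mem _ b ((etaleSub S T).algebraMap_mem _) hb
    have : algebraMap (Localization.AtPrime p) T (IsLocalization.mk' _ s f) =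
        algebraMap S T s * b := by
      calc algebraMap (Localization.AtPrime p) T (IsLocalization.mk' _ s f)
          = algebraMap (Localization.AtPrime p) T (IsLocalization.mk' _ s f) *
              (algebraMap S T (f : S) * b) := by rw [hb, mul_one]
        _ = algebraMap S T s * b := by rw [← mul_assoc, h1]
    rw [this]
    exact (etaleSub S T).mul_mem ((etaleSub S T).algebraMap_mem _) hbU
  let U' : Subalgebra (Localization.AtPrime p) T :=
    { (etaleSub S T).toSubsemiring with algebraMap_mem' := halg }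
  have hmem : ∀ y : T, y ∈ U' ↔ y ∈ etaleSub S T := fun y => Iff.rfl
  let j : U' →+* etaleSub S T :=
    { toFun := fun y => ⟨y.1, y.2⟩
      map_one' := rfl
      map_mul' := fun _ _ => rfl
      map_zero' := rfl
      map_add' := fun _ _ => rfl }
  have hj : ((etaleSub S T).val : etaleSub S T →+* T).comp j = (U'.val : U' →+* T) := rfl
  have hU' : IsHClosed U' := by
    refine ⟨fun a b ha hab => hU.inv_mem a b ha hab, fun P a hP h0 hu => ?_⟩
    refine hU.root_mem (P.map j) a (hP.map j) ?_ ?_
    · rw [Polynomial.aeval_def, Polynomial.eval₂_map]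
      rw [Polynomial.aeval_def] at h0
      exact h0
    · rw [Polynomial.derivative_map, Polynomial.aeval_def, Polynomial.eval₂_map]
      rw [Polynomial.aeval_def] at hu
      exact hu
  have htop : U' = ⊤ := hU'.eq_top
  have : x ∈ U' := by rw [htop]; trivial
  exact (hmem x).1 this

include p in
/-- every finite subset of the strict henselization of `S_p` lies in the image of an étale
`S`-algebra -/
theorem exists_etale_of_finset (F : Finset T) :
    ∃ (E : Type u) (_ : CommRing E) (_ : Algebra S E) (_ : Algebra.Etale S E) (φ : E →ₐ[S] T),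
      ∀ x ∈ F, x ∈ φ.range :=
  exists_of_finset F (fun x _ => isEtaleGen_of_strict S p T x)

end gen
end Groth.Agent.Lib.ShDescent16

namespace Groth.Agent.Lib.ShDescent16
open TensorProduct

section kill
universe u
variable {S : Type u} [CommRing S] {T : Type u} [CommRing T] [IsLocalRing T] [Algebra S T]
  [Module.Flat S T]
  {E : Type u} [CommRing E] [Algebra S E] [Algebra.Etale S E] (φ : E →ₐ[S] T)

/-- `T` is flat over every étale approximation -/
theorem flat_of_etale : @Module.Flat E T _ _ (φ : E →+* T).toAlgebra.toModule := by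
  letI : Algebra E T := (φ : E →+* T).toAlgebra
  haveI : IsScalarTower S E T := IsScalarTower.of_algebraMap_eq (fun r => (φ.commutes r).symm)
  exact Groth.Agent.Lib.DiagFlat.flat_of_flat_lmul' (Algebra.WeaklyEtale.flat_lmul' S E) T

/-- an element of an `E`-module that dies in `N ⊗[E] T` is killed by some `s` with `φ s` a unit -/
theorem exists_kill {N : Type*} [AddCommGroup N] [Module E N] (z : N)
    (hz : letI : Algebra E T := (φ : E →+* T).toAlgebra; (z ⊗ₜ[E] (1 : T) : N ⊗[E] T) = 0) :
    ∃ s : E, IsUnit (φ s) ∧ s • z = 0 := by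
  letI : Algebra E T := (φ : E →+* T).toAlgebra
  haveI : Module.Flat E T := flat_of_etale φ
  have h0 : ∑ i : Fin 1, (fun _ : Fin 1 => z) i ⊗ₜ[E] (fun _ : Fin 1 => (1 : T)) i =
      (0 : N ⊗[E] T) := by
    simpa using hz
  have hinj : Function.Injective
      (LinearMap.rTensor T (Submodule.span E (Set.range (fun _ : Fin 1 => z))).subtype) :=
    Module.Flat.rTensor_preserves_injective_linearMap _ (Submodule.injective_subtype _)
  obtain ⟨k, a, y, h1, h2⟩ :=
    TensorProduct.vanishesTrivially_of_sum_tmul_eq_zero_of_rTensor_injective E hinj h0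
  have h1' : (1 : T) = ∑ j, φ (a 0 j) * y j := by
    have := h1 0
    simpa [Algebra.smul_def, RingHom.algebraMap_toAlgebra] using this
  -- some `φ (a 0 j)` is a unit
  have hex : ∃ j, IsUnit (φ (a 0 j)) := by
    by_contra hcon
    push Not at hcon
    have hmem : (1 : T) ∈ IsLocalRing.maximalIdeal T := by
      rw [h1']
      apply Ideal.sum_mem
      intro j _
      exact Ideal.mul_mem_right _ _ ((IsLocalRing.mem_maximalIdeal _).2 (hcon j))
    exact (Ideal.ne_top_iff_one _).1 (IsLocalRing.maximalIdeal.isMaximal T).ne_top hmem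
  obtain ⟨j, hj⟩ := hex
  refine ⟨a 0 j, hj, ?_⟩
  have := h2 j
  simpa using this

end kill
end Groth.Agent.Lib.ShDescent16

namespace Groth.Agent.Lib.ShDescent16
open TensorProduct

section kill
universe u
variable {S : Type u} [CommRing S] {T : Type u} [CommRing T] [IsLocalRing T] [Algebra S T]
  [Module.Flat S T]
  {E : Type u} [CommRing E] [Algebra S E] [Algebra.Etale S E] (φ : E →ₐ[S] T)

/-- `φ ⊗ id : E ⊗ M → T ⊗ M` -/
noncomputable abbrev bcMap (M : Type*) [AddCommGroup M] [Module S M] : E ⊗[S] M →ₗ[S] T ⊗[S] M :=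
  φ.toLinearMap.rTensor M

/-- an element of `E ⊗[S] M` that dies in `T ⊗[S] M` is killed by some `s` with `φ s` a unit -/
theorem exists_kill_tensor {M : Type*} [AddCommGroup M] [Module S M] (z : E ⊗[S] M)
    (hz : φ.toLinearMap.rTensor M z = 0) : ∃ s : E, IsUnit (φ s) ∧ s • z = 0 := by
  letI : Algebra E T := (φ : E →+* T).toAlgebra
  haveI : IsScalarTower S E T := IsScalarTower.of_algebraMap_eq (fun r => (φ.commutes r).symm)
  apply exists_kill φ z
  have key : ∀ w : E ⊗[S] M, TensorProduct.AlgebraTensorModule.cancelBaseChange S E T T M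
      ((1 : T) ⊗ₜ[E] w) = φ.toLinearMap.rTensor M w := by
    intro w
    induction w using TensorProduct.induction_on with
    | zero => simp
    | add x y hx hy => rw [tmul_add, map_add, hx, hy, map_add]
    | tmul e m =>
      rw [TensorProduct.AlgebraTensorModule.cancelBaseChange_tmul, LinearMap.rTensor_tmul,
        Algebra.smul_def, mul_one]
      rfl
  have h1 : ((1 : T) ⊗ₜ[E] z : T ⊗[E] (E ⊗[S] M)) = 0 := by
    apply (TensorProduct.AlgebraTensorModule.cancelBaseChange S E T T M).injective
    rw [key, hz, map_zero]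
  have h2 := congrArg (TensorProduct.comm E T (E ⊗[S] M)) h1
  rwa [TensorProduct.comm_tmul, map_zero] at h2

end kill
end Groth.Agent.Lib.ShDescent16

namespace Groth.Agent.Lib.ShDescent16
open TensorProduct

section kill
universe u
variable {S : Type u} [CommRing S] {T : Type u} [CommRing T] [IsLocalRing T] [Algebra S T]
  [Module.Flat S T]
  {E : Type u} [CommRing E] [Algebra S E] [Algebra.Etale S E] (φ : E →ₐ[S] T)

theorem exists_kill_finset {M : Type*} [AddCommGroup M] [Module S M] (Z : Finset (E ⊗[S] M))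
    (hZ : ∀ z ∈ Z, φ.toLinearMap.rTensor M z = 0) :
    ∃ s : E, IsUnit (φ s) ∧ ∀ z ∈ Z, s • z = 0 := by
  classical
  induction Z using Finset.induction_on with
  | empty => exact ⟨1, by simp, by simp⟩
  | insert a Z ha ih =>
    obtain ⟨s, hs, hsz⟩ := ih (fun z hz => hZ z (Finset.mem_insert_of_mem hz))
    obtain ⟨s', hs', hs'a⟩ := exists_kill_tensor φ a (hZ a (Finset.mem_insert_self a Z))
    refine ⟨s' * s, by rw [map_mul]; exact hs'.mul hs, fun z hz => ?_⟩
    rcases Finset.mem_insert.1 hz with rfl | hz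
    · rw [mul_comm, mul_smul, hs'a, smul_zero]
    · rw [mul_smul, hsz z hz, smul_zero]

omit [IsLocalRing T] [Module.Flat S T] [Algebra.Etale S E] in
/-- refine an approximation by inverting `s` -/
theorem exists_away (s : E) (hs : IsUnit (φ s)) :
    ∃ φ' : Localization.Away s →ₐ[S] T,
      φ'.comp (IsScalarTower.toAlgHom S E (Localization.Away s)) = φ := by
  have hf : ∀ y : Submonoid.powers s, IsUnit (φ y) := by
    rintro ⟨_, n, rfl⟩
    rw [map_pow]
    exact hs.pow n
  refine ⟨IsLocalization.liftAlgHom (M := Submonoid.powers s) hf, ?_⟩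
  ext x
  simp

omit [IsLocalRing T] [Module.Flat S T] [Algebra.Etale S E] in
theorem rTensor_away_eq_zero {M : Type*} [AddCommGroup M] [Module S M] (s : E) (z : E ⊗[S] M)
    (hz : s • z = 0) :
    (IsScalarTower.toAlgHom S E (Localization.Away s)).toLinearMap.rTensor M z = 0 := by
  set ψ := IsScalarTower.toAlgHom S E (Localization.Away s) with hψ
  have key : ∀ (c : E) (w : E ⊗[S] M), ψ.toLinearMap.rTensor M (c • w) =
      ψ c • ψ.toLinearMap.rTensor M w := by
    intro c w
    induction w using TensorProduct.induction_on with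
    | zero => simp
    | add x y hx hy => rw [smul_add, map_add, hx, hy, map_add, smul_add]
    | tmul e m =>
      rw [TensorProduct.smul_tmul', LinearMap.rTensor_tmul, LinearMap.rTensor_tmul,
        TensorProduct.smul_tmul', smul_eq_mul, smul_eq_mul]
      simp
  have h1 := key s z
  rw [hz, map_zero] at h1
  have hu : IsUnit (ψ s) := IsLocalization.Away.algebraMap_isUnit s
  exact (hu.smul_left_cancel).1 (by rw [← h1, smul_zero])

end kill
end Groth.Agent.Lib.ShDescent16

namespace Groth.Agent.Lib.ShDescent16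
open TensorProduct

section lift
universe u
variable {S : Type u} [CommRing S] {T : Type u} [CommRing T] [Algebra S T]

/-- finitely many coefficients of `T` suffice to write an element of `T ⊗ M` -/
theorem exists_finset_lift {M : Type*} [AddCommGroup M] [Module S M] (x : T ⊗[S] M) :
    ∃ F : Finset T, ∀ (E : Type u) [CommRing E] [Algebra S E] (φ : E →ₐ[S] T),
      (∀ t ∈ F, t ∈ φ.range) → ∃ y : E ⊗[S] M, φ.toLinearMap.rTensor M y = x := by
  classical
  induction x using TensorProduct.induction_on with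
  | zero => exact ⟨∅, fun E _ _ φ _ => ⟨0, map_zero _⟩⟩
  | tmul t m =>
    refine ⟨{t}, fun E _ _ φ h => ?_⟩
    obtain ⟨e, he⟩ := h t (Finset.mem_singleton_self t)
    exact ⟨e ⊗ₜ[S] m, by rw [LinearMap.rTensor_tmul]; exact congrArg (· ⊗ₜ[S] m) he⟩
  | add x y hx hy =>
    obtain ⟨F, hF⟩ := hx
    obtain ⟨G, hG⟩ := hy
    refine ⟨F ∪ G, fun E _ _ φ h => ?_⟩
    obtain ⟨a, ha⟩ := hF E φ (fun t ht => h t (Finset.mem_union_left _ ht))
    obtain ⟨b, hb⟩ := hG E φ (fun t ht => h t (Finset.mem_union_right _ ht))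
    exact ⟨a + b, by rw [map_add, ha, hb]⟩

/-- the same for a finite family -/
theorem exists_finset_lift_fin {M : Type*} [AddCommGroup M] [Module S M] {n : ℕ}
    (x : Fin n → T ⊗[S] M) :
    ∃ F : Finset T, ∀ (E : Type u) [CommRing E] [Algebra S E] (φ : E →ₐ[S] T),
      (∀ t ∈ F, t ∈ φ.range) → ∃ y : Fin n → E ⊗[S] M, ∀ i, φ.toLinearMap.rTensor M (y i) = x i := by
  classical
  choose F hF using fun i => exists_finset_lift (x i)
  refine ⟨Finset.univ.biUnion F, fun E _ _ φ h => ?_⟩
  have : ∀ i, ∃ y : E ⊗[S] M, φ.toLinearMap.rTensor M y = x i := fun i =>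
    hF i E φ (fun t ht => h t (Finset.mem_biUnion.2 ⟨i, Finset.mem_univ i, ht⟩))
  choose y hy using this
  exact ⟨y, hy⟩

end lift
end Groth.Agent.Lib.ShDescent16

namespace Groth.Agent.Lib.ShDescent16
open TensorProduct

section lin
universe u v w w'
variable {S : Type u} {R : Type v} [CommRing S] [CommRing R] [Algebra S R]
  {A₁ : Type w} [Ring A₁] [Algebra S A₁] [Algebra R A₁] [IsScalarTower S R A₁]
  {A₂ : Type w'} [Ring A₂] [Algebra S A₂] [Algebra R A₂] [IsScalarTower S R A₂]
  {n : ℕ} (α : A₁ →ₗ[R] Fin n → R)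
  {E : Type*} [CommRing E] [Algebra S E] (y : Fin n → E ⊗[S] A₂)

/-- the `R`-compatible linear map `A₁ → E ⊗ A₂` with "values" `y i`:
`a ↦ ∑ i, (1 ⊗ α_i(a)) * y i` -/
noncomputable def lin : A₁ →ₗ[S] E ⊗[S] A₂ where
  toFun a := ∑ i, ((1 : E) ⊗ₜ[S] algebraMap R A₂ (α a i)) * y i
  map_add' a b := by
    simp only [map_add, Pi.add_apply, tmul_add, add_mul, Finset.sum_add_distrib]
  map_smul' c a := by
    simp only [RingHom.id_apply, Finset.smul_sum]
    refine Finset.sum_congr rfl fun i _ => ?_
    rw [← algebraMap_smul R c a, map_smul, Pi.smul_apply, smul_eq_mul, map_mul,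
      ← IsScalarTower.algebraMap_apply S R A₂, ← Algebra.smul_def, TensorProduct.tmul_smul,
      smul_mul_assoc]

theorem lin_apply (a : A₁) :
    lin α y a = ∑ i, ((1 : E) ⊗ₜ[S] algebraMap R A₂ (α a i)) * y i := rfl

theorem lin_smul (r : R) (a : A₁) :
    lin α y (algebraMap R A₁ r * a) = ((1 : E) ⊗ₜ[S] algebraMap R A₂ r) * lin α y a := by
  rw [lin_apply, lin_apply, Finset.mul_sum]
  refine Finset.sum_congr rfl fun i _ => ?_
  rw [← Algebra.smul_def, map_smul, Pi.smul_apply, smul_eq_mul, map_mul, ← mul_assoc,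
    Algebra.TensorProduct.tmul_mul_tmul, one_mul]

theorem lin_smul' (r : R) (a : A₁) :
    lin α y (r • a) = ((1 : E) ⊗ₜ[S] algebraMap R A₂ r) * lin α y a := by
  rw [Algebra.smul_def, lin_smul]

theorem map_lin {E' : Type*} [CommRing E'] [Algebra S E'] (ψ : E →ₐ[S] E') (a : A₁) :
    Algebra.TensorProduct.map ψ (AlgHom.id S A₂) (lin α y a) =
      lin α (fun i => Algebra.TensorProduct.map ψ (AlgHom.id S A₂) (y i)) a := by
  rw [lin_apply, lin_apply, map_sum]
  refine Finset.sum_congr rfl fun i _ => ?_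
  rw [map_mul, Algebra.TensorProduct.map_tmul, map_one, AlgHom.id_apply]

/-- over the target of an `R`-compatible algebra hom `ρ`, `lin` with values `ρ (a i)` is `ρ` -/
theorem lin_eq_of_algHom (a : Fin n → A₁) (hα : ∀ x : A₁, x = ∑ i, α x i • a i)
    (ρ : A₁ →ₐ[S] E ⊗[S] A₂)
    (hρ : ∀ (r : R) (x : A₁), ρ (algebraMap R A₁ r * x) = ((1 : E) ⊗ₜ[S] algebraMap R A₂ r) * ρ x)
    (x : A₁) : lin α (fun i => ρ (a i)) x = ρ x := by
  conv_rhs => rw [hα x]
  rw [lin_apply, map_sum]
  refine Finset.sum_congr rfl fun i _ => ?_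
  rw [Algebra.smul_def, hρ]

end lin
end Groth.Agent.Lib.ShDescent16

namespace Groth.Agent.Lib.ShDescent16
open TensorProduct

section ext
universe u v w w'
variable {S : Type u} {R : Type v} [CommRing S] [CommRing R] [Algebra S R]
  {A₁ : Type w} [Ring A₁] [Algebra S A₁] [Algebra R A₁] [IsScalarTower S R A₁]
  {A₂ : Type w'} [Ring A₂] [Algebra S A₂] [Algebra R A₂] [IsScalarTower S R A₂]
  {n : ℕ} (α : A₁ →ₗ[R] Fin n → R) (a : Fin n → A₁) (hα : ∀ x : A₁, x = ∑ i, α x i • a i)
  {E : Type*} [CommRing E] [Algebra S E] (y : Fin n → E ⊗[S] A₂)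

include hα in
theorem induction_gen {P : A₁ → Prop} (h0 : P 0) (hadd : ∀ x y, P x → P y → P (x + y))
    (hsmul : ∀ (r : R) x, P x → P (r • x)) (hgen : ∀ i, P (a i)) : ∀ x, P x := by
  intro x
  rw [hα x]
  exact Finset.sum_induction _ P hadd h0 (fun i _ => hsmul _ _ (hgen i))

omit [IsScalarTower S R A₂] in
theorem one_tmul_comm (r : R) (w : E ⊗[S] A₂) :
    w * ((1 : E) ⊗ₜ[S] algebraMap R A₂ r) = ((1 : E) ⊗ₜ[S] algebraMap R A₂ r) * w := by
  induction w using TensorProduct.induction_on with
  | zero => simp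
  | add x y hx hy => rw [add_mul, mul_add, hx, hy]
  | tmul e b =>
    rw [Algebra.TensorProduct.tmul_mul_tmul, Algebra.TensorProduct.tmul_mul_tmul, mul_one, one_mul,
      Algebra.commutes]

include hα in
theorem lin_mul_of_gen
    (h : ∀ i j, lin α y (a i * a j) = lin α y (a i) * lin α y (a j)) (x x' : A₁) :
    lin α y (x * x') = lin α y x * lin α y x' := by
  revert x'
  refine induction_gen α a hα (P := fun x => ∀ x', lin α y (x * x') = lin α y x * lin α y x')
    ?_ ?_ ?_ ?_ x
  · intro x'; simp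
  · intro x₁ x₂ h₁ h₂ x'
    rw [add_mul, map_add, h₁, h₂, map_add, add_mul]
  · intro r x₁ h₁ x'
    rw [smul_mul_assoc, lin_smul', h₁, lin_smul', mul_assoc]
  · intro i x'
    refine induction_gen α a hα (P := fun x' => lin α y (a i * x') = lin α y (a i) * lin α y x')
      ?_ ?_ ?_ ?_ x'
    · simp
    · intro x₁ x₂ h₁ h₂
      rw [mul_add, map_add, h₁, h₂, map_add, mul_add]
    · intro r x₁ h₁
      rw [mul_smul_comm, lin_smul', h₁, lin_smul', ← mul_assoc, ← mul_assoc, one_tmul_comm]
    · intro j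
      exact h i j

variable {lam : R → R} (s₁ : A₁ →ₗ[S] A₁) (s₂ : A₂ →ₗ[S] A₂)

omit [IsScalarTower S R A₂] in
theorem baseChange_one_tmul_mul (hs₂ : ∀ (r : R) (b : A₂), s₂ (r • b) = lam r • s₂ b) (r : R)
    (w : E ⊗[S] A₂) :
    s₂.baseChange E (((1 : E) ⊗ₜ[S] algebraMap R A₂ r) * w) =
      ((1 : E) ⊗ₜ[S] algebraMap R A₂ (lam r)) * s₂.baseChange E w := by
  induction w using TensorProduct.induction_on with
  | zero => simp
  | add x y hx hy => rw [mul_add, map_add, hx, hy, map_add, mul_add]
  | tmul e b =>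
    rw [Algebra.TensorProduct.tmul_mul_tmul, one_mul, LinearMap.baseChange_tmul,
      LinearMap.baseChange_tmul, Algebra.TensorProduct.tmul_mul_tmul, one_mul,
      ← Algebra.smul_def, hs₂, Algebra.smul_def]

include hα in
theorem lin_semilinear_of_gen (hs₁ : ∀ (r : R) (x : A₁), s₁ (r • x) = lam r • s₁ x)
    (hs₂ : ∀ (r : R) (b : A₂), s₂ (r • b) = lam r • s₂ b)
    (h : ∀ i, lin α y (s₁ (a i)) = s₂.baseChange E (lin α y (a i))) (x : A₁) :
    lin α y (s₁ x) = s₂.baseChange E (lin α y x) := by
  refine induction_gen α a hα (P := fun x => lin α y (s₁ x) = s₂.baseChange E (lin α y x))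
    ?_ ?_ ?_ ?_ x
  · simp
  · intro x₁ x₂ h₁ h₂
    rw [map_add, map_add, h₁, h₂, map_add, map_add]
  · intro r x₁ h₁
    rw [hs₁, lin_smul', h₁, lin_smul', baseChange_one_tmul_mul s₂ hs₂]
  · exact h

end ext
end Groth.Agent.Lib.ShDescent16

namespace Groth.Agent.Lib.ShDescent16
open TensorProduct

section nat
universe u
variable {S : Type u} [CommRing S] {E E' : Type*} [CommRing E] [Algebra S E] [CommRing E']
  [Algebra S E'] (ψ : E →ₐ[S] E')

theorem rTensor_eq_map {A : Type*} [Ring A] [Algebra S A] (w : E ⊗[S] A) :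
    ψ.toLinearMap.rTensor A w = Algebra.TensorProduct.map ψ (AlgHom.id S A) w := by
  induction w using TensorProduct.induction_on with
  | zero => simp
  | add x y hx hy => rw [map_add, hx, hy, map_add]
  | tmul e b => simp

theorem map_baseChange {A : Type*} [Ring A] [Algebra S A] (s : A →ₗ[S] A) (w : E ⊗[S] A) :
    Algebra.TensorProduct.map ψ (AlgHom.id S A) (s.baseChange E w) =
      s.baseChange E' (Algebra.TensorProduct.map ψ (AlgHom.id S A) w) := by
  induction w using TensorProduct.induction_on with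
  | zero => simp
  | add x y hx hy => simp only [map_add, hx, hy]
  | tmul e b => simp

theorem map_map {E'' : Type*} [CommRing E''] [Algebra S E''] (ψ' : E' →ₐ[S] E'')
    {A : Type*} [Ring A] [Algebra S A] (w : E ⊗[S] A) :
    Algebra.TensorProduct.map ψ' (AlgHom.id S A) (Algebra.TensorProduct.map ψ (AlgHom.id S A) w) =
      Algebra.TensorProduct.map (ψ'.comp ψ) (AlgHom.id S A) w := by
  induction w using TensorProduct.induction_on with
  | zero => simp
  | add x y hx hy => simp only [map_add, hx, hy]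
  | tmul e b => simp

end nat
end Groth.Agent.Lib.ShDescent16

namespace Groth.Agent.Lib.ShDescent16
open TensorProduct

section descend
universe u v w w'
variable {S : Type u} {R : Type v} [CommRing S] [CommRing R] [Algebra S R]
  {A₁ : Type w} [Ring A₁] [Algebra S A₁] [Algebra R A₁] [IsScalarTower S R A₁]
  {A₂ : Type w'} [Ring A₂] [Algebra S A₂] [Algebra R A₂] [IsScalarTower S R A₂]
  [Module.Finite R A₁] [Module.Projective R A₁]
  {T : Type u} [CommRing T] [IsLocalRing T] [Algebra S T] [Module.Flat S T]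

/-- **Descent of algebra homomorphisms** from a local flat `S`-algebra `T` approximated by étale
`S`-algebras to one of its étale approximations. -/
theorem exists_descend_hom
    (hgen : ∀ F : Finset T, ∃ (E : Type u) (_ : CommRing E) (_ : Algebra S E)
      (_ : Algebra.Etale S E) (φ : E →ₐ[S] T), ∀ x ∈ F, x ∈ φ.range)
    {lam : R → R} (s₁ : A₁ →ₗ[S] A₁) (s₂ : A₂ →ₗ[S] A₂)
    (hs₁ : ∀ (r : R) (x : A₁), s₁ (r • x) = lam r • s₁ x)
    (hs₂ : ∀ (r : R) (b : A₂), s₂ (r • b) = lam r • s₂ b)
    (ρ : A₁ →ₐ[S] T ⊗[S] A₂)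
    (hρ : ∀ (r : R) (x : A₁), ρ (algebraMap R A₁ r * x) = ((1 : T) ⊗ₜ[S] algebraMap R A₂ r) * ρ x)
    (hρs : ∀ x : A₁, ρ (s₁ x) = s₂.baseChange T (ρ x)) :
    ∃ (E : Type u) (_ : CommRing E) (_ : Algebra S E) (_ : Algebra.Etale S E) (φ : E →ₐ[S] T)
      (ρ' : A₁ →ₐ[S] E ⊗[S] A₂),
      (∀ (r : R) (x : A₁), ρ' (algebraMap R A₁ r * x) =
        ((1 : E) ⊗ₜ[S] algebraMap R A₂ r) * ρ' x) ∧
      (∀ x : A₁, ρ' (s₁ x) = s₂.baseChange E (ρ' x)) ∧
      ∀ x : A₁, Algebra.TensorProduct.map φ (AlgHom.id S A₂) (ρ' x) = ρ x := by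
  classical
  obtain ⟨n, f, α, -, -, hfg⟩ := Module.Finite.exists_comp_eq_id_of_projective R A₁
  let a : Fin n → A₁ := fun i => f (fun j => if i = j then 1 else 0)
  have hα : ∀ x : A₁, x = ∑ i, α x i • a i := by
    intro x
    have h1 : f (α x) = x := LinearMap.congr_fun hfg x
    conv_lhs => rw [← h1]
    rw [LinearMap.pi_apply_eq_sum_univ f (α x)]
  obtain ⟨F, hF⟩ := exists_finset_lift_fin (fun i => ρ (a i))
  obtain ⟨E₀, _, _, _, φ₀, hφ₀⟩ := hgen F
  obtain ⟨y, hy⟩ := hF E₀ φ₀ hφ₀
  have hy' : ∀ i, Algebra.TensorProduct.map φ₀ (AlgHom.id S A₂) (y i) = ρ (a i) := fun i => by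
    rw [← rTensor_eq_map]; exact hy i
  -- key fact
  have K : ∀ x : A₁, Algebra.TensorProduct.map φ₀ (AlgHom.id S A₂) (lin α y x) = ρ x := by
    intro x
    rw [map_lin]
    simp only [hy']
    exact lin_eq_of_algHom α a hα ρ hρ x
  -- defects
  let d1 : Fin n × Fin n → E₀ ⊗[S] A₂ := fun ij =>
    lin α y (a ij.1 * a ij.2) - lin α y (a ij.1) * lin α y (a ij.2)
  let d2 : E₀ ⊗[S] A₂ := lin α y 1 - 1
  let d3 : Fin n → E₀ ⊗[S] A₂ := fun i => lin α y (s₁ (a i)) - s₂.baseChange E₀ (lin α y (a i))
  let Z : Finset (E₀ ⊗[S] A₂) := (Finset.univ.image d1 ∪ {d2}) ∪ Finset.univ.image d3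
  have hZ : ∀ z ∈ Z, φ₀.toLinearMap.rTensor A₂ z = 0 := by
    intro z hz
    rw [rTensor_eq_map]
    simp only [Z, Finset.mem_union, Finset.mem_image, Finset.mem_univ, true_and,
      Finset.mem_singleton] at hz
    rcases hz with (⟨ij, rfl⟩ | rfl) | ⟨i, rfl⟩
    · simp only [d1, map_sub, map_mul, K, sub_self]
    · simp only [d2, map_sub, K, map_one, sub_self]
    · simp only [d3, map_sub, K, map_baseChange, hρs, sub_self]
  obtain ⟨s, hs, hsZ⟩ := exists_kill_finset φ₀ Z hZ
  obtain ⟨φ', hφ'⟩ := exists_away φ₀ s hs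
  set ψ := IsScalarTower.toAlgHom S E₀ (Localization.Away s) with hψ
  let y' : Fin n → Localization.Away s ⊗[S] A₂ :=
    fun i => Algebra.TensorProduct.map ψ (AlgHom.id S A₂) (y i)
  have hlin : ∀ x : A₁, Algebra.TensorProduct.map ψ (AlgHom.id S A₂) (lin α y x) = lin α y' x :=
    fun x => map_lin α y ψ x
  have hzero : ∀ z ∈ Z, Algebra.TensorProduct.map ψ (AlgHom.id S A₂) z = 0 := by
    intro z hz
    rw [← rTensor_eq_map]
    exact rTensor_away_eq_zero s z (hsZ z hz)
  have h1 : ∀ i j, lin α y' (a i * a j) = lin α y' (a i) * lin α y' (a j) := by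
    intro i j
    have hmem : d1 (i, j) ∈ Z := by
      simp only [Z, Finset.mem_union, Finset.mem_image, Finset.mem_univ, true_and]
      exact Or.inl (Or.inl ⟨(i, j), rfl⟩)
    have := hzero _ hmem
    simp only [d1, map_sub, map_mul, hlin] at this
    exact sub_eq_zero.1 this
  have h2 : lin α y' 1 = 1 := by
    have hmem : d2 ∈ Z := by
      simp only [Z, Finset.mem_union, Finset.mem_singleton]
      exact Or.inl (Or.inr trivial)
    have := hzero _ hmem
    simp only [d2, map_sub, hlin, map_one] at this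
    exact sub_eq_zero.1 this
  have h3 : ∀ i, lin α y' (s₁ (a i)) = s₂.baseChange _ (lin α y' (a i)) := by
    intro i
    have hmem : d3 i ∈ Z := by
      simp only [Z, Finset.mem_union, Finset.mem_image, Finset.mem_univ, true_and]
      exact Or.inr ⟨i, rfl⟩
    have := hzero _ hmem
    simp only [d3, map_sub, hlin, map_baseChange] at this
    exact sub_eq_zero.1 this
  let ρ' : A₁ →ₐ[S] Localization.Away s ⊗[S] A₂ :=
    AlgHom.ofLinearMap (lin α y') h2 (lin_mul_of_gen α a hα y' h1)
  have hEt : Algebra.Etale S (Localization.Away s) := Algebra.Etale.comp S E₀ (Localization.Away s)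
  refine ⟨Localization.Away s, inferInstance, inferInstance, hEt, φ', ρ',
    fun r x => lin_smul α y' r x, fun x => lin_semilinear_of_gen α a hα y' s₁ s₂ hs₁ hs₂ h3 x,
    fun x => ?_⟩
  change Algebra.TensorProduct.map φ' (AlgHom.id S A₂) (lin α y' x) = ρ x
  rw [← hlin, map_map, hφ', K]

end descend
end Groth.Agent.Lib.ShDescent16
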