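import Groth.Agent.Lib.HenselStep
import Groth.Prelude.Def_Hensel
import Mathlib.Algebra.Colimit.Ring
import Mathlib.Algebra.Polynomial.Lifts

/-!
# Construction of the henselization of a local ring (helper22)

`Hzn R` is the direct limit of the tower `R → Step R → Step (Step R) → ⋯`.
Main results: `Hzn R` is a henselian local `R`-algebra with local structure map, and
`isHenselization : Hensel.IsHenselization R (Hzn R)`; `exists_isHenselization`.
-/

namespace Groth.Agent.Lib.HenselizationConstr

open Polynomial IsLocalRing Groth.Agent.Lib.HenselStep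

universe u

/-- Bundled local rings in a fixed universe. -/
structure LocRing : Type (u + 1) where
  /-- underlying type -/
  carrier : Type u
  [commRing : CommRing carrier]
  [isLocalRing : IsLocalRing carrier]

attribute [instance] LocRing.commRing LocRing.isLocalRing

/-- One step on bundled local rings. -/
noncomputable def LocRing.step (A : LocRing.{u}) : LocRing.{u} := ⟨Step A.carrier⟩

variable (R : Type u) [CommRing R] [IsLocalRing R]

/-- The tower of iterated steps. -/
noncomputable def tower : ℕ → LocRing.{u}
  | 0 => ⟨R⟩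
  | n + 1 => (tower n).step

/-- The `n`-th ring of the tower. -/
abbrev G (n : ℕ) : Type u := (tower R n).carrier

/-- The structure map from one stage to the next. -/
noncomputable def next (n : ℕ) : G R n →+* G R (n + 1) :=
  algebraMap (G R n) (Step (G R n))

instance isLocalHom_next (n : ℕ) : IsLocalHom (next R n) :=
  isLocalHom_algebraMap_step (G R n)

/-- Transition maps of the tower. -/
noncomputable def trans (m n : ℕ) (h : m ≤ n) : G R m →+* G R n :=
  Nat.leRecOn h (fun {k} g => (next R k).comp g) (RingHom.id _)

theorem trans_self (n : ℕ) : trans R n n le_rfl = RingHom.id _ :=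
  Nat.leRecOn_self _

theorem trans_succ (m n : ℕ) (h : m ≤ n) :
    trans R m (n + 1) (Nat.le_succ_of_le h) = (next R n).comp (trans R m n h) :=
  Nat.leRecOn_succ h _

theorem trans_trans (m n k : ℕ) (h₁ : m ≤ n) (h₂ : n ≤ k) (x : G R m) :
    trans R n k h₂ (trans R m n h₁ x) = trans R m k (h₁.trans h₂) x := by
  induction k, h₂ using Nat.le_induction with
  | base => rw [trans_self]; rfl
  | succ k h₂ ih =>
    rw [trans_succ R n k h₂, trans_succ R m k (h₁.trans h₂), RingHom.comp_apply, ih]
    rfl

instance directedSystem : DirectedSystem (G R) fun i j h => trans R i j h where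
  map_self i x := by rw [trans_self]; rfl
  map_map k j i hij hjk x := trans_trans R i j k hij hjk x

instance isLocalHom_trans (m n : ℕ) (h : m ≤ n) : IsLocalHom (trans R m n h) := by
  induction n, h using Nat.le_induction with
  | base => rw [trans_self]; infer_instance
  | succ n h ih =>
    rw [trans_succ R m n h]
    infer_instance

/-- The henselization of `R` as a type. -/
def Hzn : Type u := Ring.DirectLimit (G R) (fun i j h => trans R i j h)

noncomputable instance : CommRing (Hzn R) :=
  inferInstanceAs (CommRing (Ring.DirectLimit (G R) (fun i j h => trans R i j h)))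

/-- The canonical map from a stage of the tower. -/
noncomputable def ofStage (n : ℕ) : G R n →+* Hzn R :=
  Ring.DirectLimit.of (G R) (fun i j h => trans R i j h) n

theorem ofStage_trans (i j : ℕ) (h : i ≤ j) (x : G R i) :
    ofStage R j (trans R i j h x) = ofStage R i x :=
  Ring.DirectLimit.of_f h x

theorem ofStage_next (n : ℕ) (x : G R n) : ofStage R (n + 1) (next R n x) = ofStage R n x := by
  have h := ofStage_trans R n (n + 1) (Nat.le_succ n) x
  rw [trans_succ R n n le_rfl, trans_self] at h
  exact h

theorem exists_ofStage (z : Hzn R) : ∃ n x, ofStage R n x = z :=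
  Ring.DirectLimit.exists_of z

theorem ofStage_eq_zero {i : ℕ} {x : G R i} (h : ofStage R i x = 0) :
    ∃ (j : ℕ) (hij : i ≤ j), trans R i j hij x = 0 :=
  Ring.DirectLimit.of.zero_exact h

theorem ofStage_eq_one {i : ℕ} {x : G R i} (h : ofStage R i x = 1) :
    ∃ (j : ℕ) (hij : i ≤ j), trans R i j hij x = 1 := by
  have h0 : ofStage R i (x - 1) = 0 := by rw [map_sub, h, map_one, sub_self]
  obtain ⟨j, hij, hj⟩ := ofStage_eq_zero R h0
  exact ⟨j, hij, by rwa [map_sub, map_one, sub_eq_zero] at hj⟩

theorem isUnit_ofStage_iff {i : ℕ} {x : G R i} : IsUnit (ofStage R i x) ↔ IsUnit x := by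
  refine ⟨fun h => ?_, fun h => h.map _⟩
  obtain ⟨y, hy⟩ := h.exists_right_inv
  obtain ⟨j, b, rfl⟩ := exists_ofStage R y
  let k := max i j
  have hik : i ≤ k := le_max_left i j
  have hjk : j ≤ k := le_max_right i j
  rw [← ofStage_trans R i k hik x, ← ofStage_trans R j k hjk b, ← map_mul] at hy
  obtain ⟨l, hkl, hl⟩ := ofStage_eq_one R hy
  rw [map_mul, trans_trans] at hl
  have : IsUnit (trans R i l (hik.trans hkl) x) := .of_mul_eq_one _ hl
  exact isUnit_of_map_unit (trans R i l (hik.trans hkl)) x this

instance : Nontrivial (Hzn R) := by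
  refine ⟨⟨0, 1, fun h => ?_⟩⟩
  have h1 : ofStage R 0 (1 : G R 0) = 0 := by rw [map_one]; exact h.symm
  obtain ⟨j, hj, hj'⟩ := ofStage_eq_zero R h1
  rw [map_one] at hj'
  exact one_ne_zero hj'

instance : IsLocalRing (Hzn R) := by
  refine IsLocalRing.of_nonunits_add ?_
  intro a b ha hb
  obtain ⟨i, x, rfl⟩ := exists_ofStage R a
  obtain ⟨j, y, rfl⟩ := exists_ofStage R b
  let k := max i j
  have hik : i ≤ k := le_max_left i j
  have hjk : j ≤ k := le_max_right i j
  rw [mem_nonunits_iff, isUnit_ofStage_iff] at ha hb
  rw [← ofStage_trans R i k hik x, ← ofStage_trans R j k hjk y, ← map_add, mem_nonunits_iff,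
    isUnit_ofStage_iff]
  have hx : trans R i k hik x ∈ nonunits (G R k) := fun h => ha (isUnit_of_map_unit _ x h)
  have hy : trans R j k hjk y ∈ nonunits (G R k) := fun h => hb (isUnit_of_map_unit _ y h)
  exact IsLocalRing.nonunits_add hx hy

instance isLocalHom_ofStage (n : ℕ) : IsLocalHom (ofStage R n) :=
  ⟨fun _ h => (isUnit_ofStage_iff R).mp h⟩

theorem ofStage_mem_maximalIdeal_iff {i : ℕ} {x : G R i} :
    ofStage R i x ∈ maximalIdeal (Hzn R) ↔ x ∈ maximalIdeal (G R i) := by
  rw [mem_maximalIdeal, mem_maximalIdeal, mem_nonunits_iff, mem_nonunits_iff, isUnit_ofStage_iff]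

noncomputable instance : Algebra R (Hzn R) := (ofStage R 0).toAlgebra

theorem algebraMap_eq : algebraMap R (Hzn R) = ofStage R 0 := rfl

instance : IsLocalHom (algebraMap R (Hzn R)) := isLocalHom_ofStage R 0

section Henselian

theorem exists_monic_lift (F : (Hzn R)[X]) (hF : F.Monic) :
    ∃ (n : ℕ) (Fn : (G R n)[X]), Fn.Monic ∧ Fn.map (ofStage R n) = F := by
  obtain ⟨n, p, hp⟩ := Ring.DirectLimit.Polynomial.exists_of (f' := fun i j h => trans R i j h) F
  have hmem : F ∈ Polynomial.lifts (ofStage R n) := (Polynomial.mem_lifts _).mpr ⟨p, hp⟩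
  obtain ⟨q, hq, -, hqm⟩ := Polynomial.lifts_and_natDegree_eq_and_monic hmem hF
  exact ⟨n, q, hqm, hq⟩

/-- The adjoined root, viewed in the next stage of the tower. -/
noncomputable def rootNext (k : ℕ) (p : HData (G R k)) : G R (k + 1) := root (G R k) p

theorem isRoot_rootNext (k : ℕ) (p : HData (G R k)) :
    (p.poly.map (next R k)).IsRoot (rootNext R k p) :=
  isRoot_root (G R k) p

theorem rootNext_sub_mem (k : ℕ) (p : HData (G R k)) :
    rootNext R k p - next R k p.pt ∈ maximalIdeal (G R (k + 1)) :=
  root_sub_mem_maximalIdeal (G R k) p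

theorem ofStage_comp_next (k : ℕ) : (ofStage R (k + 1)).comp (next R k) = ofStage R k :=
  RingHom.ext (ofStage_next R k)

theorem ofStage_comp_trans (i k : ℕ) (h : i ≤ k) :
    (ofStage R k).comp (trans R i k h) = ofStage R i :=
  RingHom.ext (ofStage_trans R i k h)

instance henselianLocalRing : HenselianLocalRing (Hzn R) := by
  refine ⟨fun F hF a₀ h₁ h₂ => ?_⟩
  obtain ⟨i, Fi, hFi, rfl⟩ := exists_monic_lift R F hF
  obtain ⟨j, aj, rfl⟩ := exists_ofStage R a₀
  let k := max i j
  have hik : i ≤ k := le_max_left i j
  have hjk : j ≤ k := le_max_right i j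
  set Fk : (G R k)[X] := Fi.map (trans R i k hik) with hFk
  set ak : G R k := trans R j k hjk aj with hak
  have hmap : Fk.map (ofStage R k) = Fi.map (ofStage R i) := by
    rw [hFk, Polynomial.map_map, ofStage_comp_trans]
  have hpt : ofStage R k ak = ofStage R j aj := ofStage_trans R j k hjk aj
  rw [← hmap, ← hpt] at h₁ h₂ ⊢
  rw [Polynomial.eval_map, Polynomial.eval₂_at_apply, ofStage_mem_maximalIdeal_iff] at h₁
  rw [Polynomial.derivative_map, Polynomial.eval_map, Polynomial.eval₂_at_apply,
    isUnit_ofStage_iff] at h₂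
  let p : HData (G R k) := ⟨(Fk, ak), hFi.map _, h₁, h₂⟩
  refine ⟨ofStage R (k + 1) (rootNext R k p), ?_, ?_⟩
  · have hr : (Fk.map (next R k)).IsRoot (rootNext R k p) := isRoot_rootNext R k p
    rw [IsRoot.def] at hr ⊢
    have hm : Fk.map (ofStage R k) = (Fk.map (next R k)).map (ofStage R (k + 1)) :=
      (congrArg (fun g => Fk.map g) (ofStage_comp_next R k).symm).trans
        (Polynomial.map_map (next R k) (ofStage R (k + 1)) Fk).symm
    rw [hm, Polynomial.eval_map, Polynomial.eval₂_at_apply, hr, map_zero]
  · rw [← ofStage_next R k ak, ← map_sub, ofStage_mem_maximalIdeal_iff]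
    exact rootNext_sub_mem R k p

end Henselian

section Universal

variable {R}
variable {T : Type*} [CommRing T] [HenselianLocalRing T] (f : R →+* T) [hf : IsLocalHom f]

/-- The compatible family of local maps from the stages of the tower to `T`. -/
noncomputable def stageMap : ∀ n : ℕ, { g : G R n →+* T // IsLocalHom g }
  | 0 => ⟨f, hf⟩
  | n + 1 =>
    ⟨@HenselStep.lift (G R n) _ _ T _ _ (stageMap n).1 (stageMap n).2,
      @HenselStep.isLocalHom_lift (G R n) _ _ T _ _ (stageMap n).1 (stageMap n).2⟩

theorem stageMap_zero : (stageMap f 0).1 = f := rfl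

theorem stageMap_succ_comp_next (n : ℕ) :
    (stageMap f (n + 1)).1.comp (next R n) = (stageMap f n).1 :=
  @HenselStep.lift_comp_algebraMap (G R n) _ _ T _ _ (stageMap f n).1 (stageMap f n).2

theorem stageMap_trans (i j : ℕ) (h : i ≤ j) (x : G R i) :
    (stageMap f j).1 (trans R i j h x) = (stageMap f i).1 x := by
  induction j, h using Nat.le_induction with
  | base => rw [trans_self]; rfl
  | succ j h ih =>
    rw [trans_succ R i j h, RingHom.comp_apply, ← ih]
    exact congrArg (fun k => k (trans R i j h x)) (stageMap_succ_comp_next f j)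

/-- The canonical map from the henselization to a henselian local ring under `R`. -/
noncomputable def liftHzn : Hzn R →+* T :=
  Ring.DirectLimit.lift (G R) (fun i j h => trans R i j h) T (fun n => (stageMap f n).1)
    (fun i j h x => stageMap_trans f i j h x)

theorem liftHzn_ofStage (n : ℕ) (x : G R n) : liftHzn f (ofStage R n x) = (stageMap f n).1 x :=
  Ring.DirectLimit.lift_of _ _ _ _ _

theorem liftHzn_comp_algebraMap : (liftHzn f).comp (algebraMap R (Hzn R)) = f :=
  RingHom.ext fun x => liftHzn_ofStage f 0 x

theorem liftHzn_unique (ψ : Hzn R →+* T) (hψ : ψ.comp (algebraMap R (Hzn R)) = f) :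
    ψ = liftHzn f := by
  have key : ∀ n, ψ.comp (ofStage R n) = (stageMap f n).1 := by
    intro n
    induction n with
    | zero => exact hψ
    | succ n ih =>
      have h1 : (ψ.comp (ofStage R (n + 1))).comp (next R n) = (stageMap f n).1 := by
        rw [RingHom.comp_assoc, ofStage_comp_next, ih]
      exact @HenselStep.lift_unique (G R n) _ _ T _ _ (stageMap f n).1 (stageMap f n).2
        (ψ.comp (ofStage R (n + 1))) h1
  apply Ring.DirectLimit.hom_ext
  intro n
  ext x
  rw [RingHom.comp_apply, RingHom.comp_apply]
  show ψ (ofStage R n x) = liftHzn f (ofStage R n x)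
  rw [liftHzn_ofStage, ← key n]
  rfl

end Universal

/-- `Hzn R` is a henselization of `R`. -/
instance isHenselization : Hensel.IsHenselization R (Hzn R) where
  henselian := henselianLocalRing R
  universal T _ _ f hf := by
    refine ⟨@liftHzn R _ _ T _ _ f hf, @liftHzn_comp_algebraMap R _ _ T _ _ f hf, ?_⟩
    intro ψ hψ
    exact @liftHzn_unique R _ _ T _ _ f hf ψ hψ

/-- Every local ring has a henselization. -/
theorem exists_isHenselization :
    ∃ (S : Type u) (_ : CommRing S) (_ : IsLocalRing S) (_ : Algebra R S)
      (_ : IsLocalHom (algebraMap R S)), Hensel.IsHenselization R S :=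
  ⟨Hzn R, inferInstance, inferInstance, inferInstance, inferInstance, isHenselization R⟩

section Transfer

variable (S : Type u) [CommRing S] [IsLocalRing S] [Algebra R S] [IsLocalHom (algebraMap R S)]
  [hS : Hensel.IsHenselization R S]

/-- Any henselization of `R` is isomorphic, as an `R`-algebra, to `Hzn R`. -/
noncomputable def equivHzn : S ≃ₐ[R] Hzn R := by
  have hSh : HenselianLocalRing S := hS.henselian
  have h1 := hS.universal (Hzn R) (algebraMap R (Hzn R)) inferInstance
  have h2 := (isHenselization R).universal S (algebraMap R S) inferInstance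
  have h3 := hS.universal S (algebraMap R S) inferInstance
  have h4 := (isHenselization R).universal (Hzn R) (algebraMap R (Hzn R)) inferInstance
  let a : S →+* Hzn R := h1.choose
  let b : Hzn R →+* S := h2.choose
  have ha : a.comp (algebraMap R S) = algebraMap R (Hzn R) := h1.choose_spec.1
  have hb : b.comp (algebraMap R (Hzn R)) = algebraMap R S := h2.choose_spec.1
  have hba : b.comp a = RingHom.id S := by
    obtain ⟨e, -, he⟩ := h3
    rw [he (b.comp a) (by show (b.comp a).comp _ = _; rw [RingHom.comp_assoc, ha, hb]),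
      he (RingHom.id S) rfl]
  have hab : a.comp b = RingHom.id (Hzn R) := by
    obtain ⟨e, -, he⟩ := h4
    rw [he (a.comp b) (by show (a.comp b).comp _ = _; rw [RingHom.comp_assoc, hb, ha]),
      he (RingHom.id _) rfl]
  exact
    { toFun := a
      invFun := b
      left_inv := fun x => congrArg (fun k => k x) hba
      right_inv := fun x => congrArg (fun k => k x) hab
      map_mul' := a.map_mul
      map_add' := a.map_add
      commutes' := fun r => congrArg (fun k => k r) ha }

end Transfer

end Groth.Agent.Lib.HenselizationConstr
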