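import Groth.Agent.Lib.HenselizationFlat
import Mathlib.RingTheory.Ideal.GoingUp
import Mathlib.RingTheory.Ideal.GoingDown
import Mathlib.RingTheory.KrullDimension.Basic
import Mathlib.RingTheory.Localization.Ideal

/-!
# Krull dimension of the henselization (helper22)

* `ringKrullDim_le_of_faithfullyFlat`: `dim R ≤ dim S` for a faithfully flat `R`-algebra `S`.
* `StrictComap f`: contraction along `f` is strictly monotone on primes (incomparability).
* `ringKrullDim_Hzn : ringKrullDim (Hzn R) = ringKrullDim R`, and
  `ringKrullDim_of_isHenselization` for any henselization.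
-/

namespace Groth.Agent.Lib.HenselizationDim

open Polynomial IsLocalRing Groth.Agent.Lib.HenselStep Groth.Agent.Lib.HenselizationConstr
  Groth.Agent.Lib.HenselizationFlat

universe u

/-- Faithfully flat algebras do not lower the Krull dimension. -/
theorem ringKrullDim_le_of_faithfullyFlat {R S : Type*} [CommRing R] [CommRing S] [Algebra R S]
    [Module.FaithfullyFlat R S] : ringKrullDim R ≤ ringKrullDim S := by
  unfold ringKrullDim Order.krullDim
  refine iSup_le fun l => ?_
  obtain ⟨P, hP, hlo⟩ := Ideal.exists_isPrime_liesOver_of_faithfullyFlat (B := S) l.last.asIdeal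
  obtain ⟨L, hlen, -, -⟩ := Ideal.exists_ltSeries_of_hasGoingDown l P
  rw [← hlen]
  exact le_iSup (fun p : LTSeries (PrimeSpectrum S) => (p.length : WithBot ℕ∞)) L

/-- Contraction of prime ideals along `f` is strictly monotone. -/
def StrictComap {A B : Type*} [CommRing A] [CommRing B] (f : A →+* B) : Prop :=
  ∀ P Q : Ideal B, P.IsPrime → Q.IsPrime → P < Q → P.comap f < Q.comap f

theorem StrictComap.id (A : Type*) [CommRing A] : StrictComap (RingHom.id A) := by
  intro P Q _ _ h
  simpa using h

theorem StrictComap.comp {A B C : Type*} [CommRing A] [CommRing B] [CommRing C]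
    {f : A →+* B} {g : B →+* C} (hf : StrictComap f) (hg : StrictComap g) :
    StrictComap (g.comp f) := by
  intro P Q hP hQ h
  rw [← Ideal.comap_comap, ← Ideal.comap_comap]
  exact hf _ _ (Ideal.comap_isPrime g P) (Ideal.comap_isPrime g Q) (hg P Q hP hQ h)

theorem StrictComap.of_isIntegral (A B : Type*) [CommRing A] [CommRing B] [Algebra A B]
    [Algebra.IsIntegral A B] : StrictComap (algebraMap A B) := by
  intro P Q hP _ h
  exact Ideal.IsIntegral.comap_lt_comap h

theorem StrictComap.of_isLocalization {A : Type*} [CommRing A] (M : Submonoid A) (B : Type*)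
    [CommRing B] [Algebra A B] [IsLocalization M B] : StrictComap (algebraMap A B) := by
  intro P Q _ _ h
  refine lt_of_le_of_ne (Ideal.comap_mono h.le) fun heq => ?_
  have h1 : Ideal.map (algebraMap A B) (P.comap (algebraMap A B)) = P :=
    IsLocalization.map_under M B P
  have h2 : Ideal.map (algebraMap A B) (Q.comap (algebraMap A B)) = Q :=
    IsLocalization.map_under M B Q
  rw [heq, h2] at h1
  exact h.ne h1.symm

theorem StrictComap.krullDim_le {A B : Type*} [CommRing A] [CommRing B] {f : A →+* B}
    (hf : StrictComap f) : ringKrullDim B ≤ ringKrullDim A := by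
  refine Order.krullDim_le_of_strictMono (PrimeSpectrum.comap f) ?_
  intro P Q h
  exact hf P.asIdeal Q.asIdeal P.isPrime Q.isPrime h

section Step

variable (A : Type u) [CommRing A] [IsLocalRing A]

instance isIntegral_stepPre : Algebra.IsIntegral A (StepPre A) := by
  have hX : ∀ p : HData A, IsIntegral A (Ideal.Quotient.mk (relIdeal A) (MvPolynomial.X p)) := by
    intro p
    refine ⟨p.poly, p.monic, ?_⟩
    have h1 : Polynomial.aeval (MvPolynomial.X p : MvPolynomial (HData A) A) p.poly ∈
        relIdeal A := Ideal.subset_span ⟨p, rfl⟩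
    have h2 := Ideal.Quotient.eq_zero_iff_mem.mpr h1
    rw [← Polynomial.aeval_def]
    have h3 : Polynomial.aeval (Ideal.Quotient.mk (relIdeal A) (MvPolynomial.X p)) p.poly =
        Ideal.Quotient.mk (relIdeal A)
          (Polynomial.aeval (MvPolynomial.X p : MvPolynomial (HData A) A) p.poly) :=
      (Polynomial.aeval_algHom_apply (Ideal.Quotient.mkₐ A (relIdeal A)) _ _)
    rw [h3, h2]
  refine ⟨fun x => ?_⟩
  obtain ⟨f, rfl⟩ := Ideal.Quotient.mk_surjective x
  induction f using MvPolynomial.induction_on with
  | C a => exact isIntegral_algebraMap (R := A) (A := StepPre A) (x := a)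
  | add f g hf hg => rw [map_add]; exact hf.add hg
  | mul_X f p hf => rw [map_mul]; exact hf.mul (hX p)

theorem strictComap_step : StrictComap (algebraMap A (Step A)) := by
  have h1 : StrictComap (algebraMap A (StepPre A)) := StrictComap.of_isIntegral A (StepPre A)
  have h2 : StrictComap (algebraMap (StepPre A) (Step A)) :=
    StrictComap.of_isLocalization (stepPrime A).primeCompl (Step A)
  have h3 := h1.comp h2
  rwa [← IsScalarTower.algebraMap_eq A (StepPre A) (Step A)] at h3

end Step

section Tower

variable (R : Type u) [CommRing R] [IsLocalRing R]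

theorem strictComap_trans (m n : ℕ) (h : m ≤ n) : StrictComap (trans R m n h) := by
  induction n, h using Nat.le_induction with
  | base => rw [trans_self]; exact StrictComap.id _
  | succ n h ih =>
    rw [trans_succ R m n h]
    exact ih.comp (strictComap_step (G R n))

theorem strictComap_algebraMap_Hzn : StrictComap (algebraMap R (Hzn R)) := by
  intro P Q hP hQ h
  obtain ⟨hle, z, hzQ, hzP⟩ := SetLike.lt_iff_le_and_exists.mp h
  obtain ⟨n, x, rfl⟩ := exists_ofStage R z
  have hlt : P.comap (ofStage R n) < Q.comap (ofStage R n) :=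
    SetLike.lt_iff_le_and_exists.mpr ⟨Ideal.comap_mono hle, x, hzQ, hzP⟩
  have := strictComap_trans R 0 n (Nat.zero_le n) _ _ (Ideal.comap_isPrime _ P)
    (Ideal.comap_isPrime _ Q) hlt
  rwa [Ideal.comap_comap, Ideal.comap_comap, ofStage_comp_trans] at this

theorem ringKrullDim_Hzn : ringKrullDim (Hzn R) = ringKrullDim R :=
  le_antisymm (strictComap_algebraMap_Hzn R).krullDim_le ringKrullDim_le_of_faithfullyFlat

/-- Every henselization of `R` has the same Krull dimension as `R`. -/
theorem ringKrullDim_of_isHenselization (S : Type u) [CommRing S] [IsLocalRing S] [Algebra R S]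
    [IsLocalHom (algebraMap R S)] [Hensel.IsHenselization R S] :
    ringKrullDim S = ringKrullDim R :=
  (ringKrullDim_eq_of_ringEquiv (equivHzn R S).toRingEquiv).trans (ringKrullDim_Hzn R)

end Tower

end Groth.Agent.Lib.HenselizationDim
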