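import Groth.Agent.Lib.SepStep
import Groth.Agent.Lib.HenselizationConstr
import Groth.Agent.Lib.HenselizationFlat
import Groth.Agent.Lib.HenselizationDim
import Groth.Agent.Lib.HenselizationUP
import Groth.Prelude.Def_Hensel
import Mathlib.FieldTheory.IsSepClosed
import Mathlib.FieldTheory.SeparableClosure

/-!
# Construction of the strict henselization of a local ring (helper22)

`Sh R := Hzn (SStep R (SeparableClosure κ(R)))`.
Main results: `isStrictHenselization : Hensel.IsStrictHenselization R (Sh R)`,
`exists_isStrictHenselization`, `equivSh` (any strict henselization is `R`-isomorphic to `Sh R`),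
faithful flatness and Krull dimension.
-/

namespace Groth.Agent.Lib.StrictHenselization

open Polynomial IsLocalRing Groth.Agent.Lib Groth.Agent.Lib.SepStep
  Groth.Agent.Lib.HenselizationConstr

universe u

variable (R : Type u) [CommRing R] [IsLocalRing R]

/-- The separable closure of the residue field. -/
abbrev Om : Type u := SeparableClosure (ResidueField R)

/-- The first step: a local `R`-algebra with residue field `Om R`. -/
abbrev R1 : Type u := SStep R (Om R)

/-- The strict henselization of `R`. -/
def Sh : Type u := Hzn (R1 R)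

noncomputable instance : CommRing (Sh R) := inferInstanceAs (CommRing (Hzn (R1 R)))

instance : IsLocalRing (Sh R) := inferInstanceAs (IsLocalRing (Hzn (R1 R)))

instance : HenselianLocalRing (Sh R) := inferInstanceAs (HenselianLocalRing (Hzn (R1 R)))

noncomputable instance : Algebra (R1 R) (Sh R) := inferInstanceAs (Algebra (R1 R) (Hzn (R1 R)))

instance : IsLocalHom (algebraMap (R1 R) (Sh R)) :=
  inferInstanceAs (IsLocalHom (algebraMap (R1 R) (Hzn (R1 R))))

instance : Hensel.IsHenselization (R1 R) (Sh R) := isHenselization (R1 R)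

noncomputable instance : Algebra R (Sh R) :=
  ((algebraMap (R1 R) (Sh R)).comp (algebraMap R (R1 R))).toAlgebra

instance : IsScalarTower R (R1 R) (Sh R) := IsScalarTower.of_algebraMap_eq fun _ => rfl

theorem algebraMap_eq :
    algebraMap R (Sh R) = (algebraMap (R1 R) (Sh R)).comp (algebraMap R (R1 R)) := rfl

instance : IsLocalHom (algebraMap R (Sh R)) := by
  rw [algebraMap_eq]
  exact RingHom.isLocalHom_comp _ _

/-- The residue field of `R1 R` maps isomorphically to that of `Sh R`. -/
noncomputable def resEquiv1 : ResidueField (R1 R) ≃+* ResidueField (Sh R) :=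
  RingEquiv.ofBijective (ResidueField.map (algebraMap (R1 R) (Sh R)))
    (HenselizationUP.residueFieldMap_bijective (R1 R) (Sh R))

/-- The residue field of `Sh R` is the separable closure of that of `R`. -/
noncomputable def resIso : ResidueField (Sh R) ≃+* Om R :=
  (resEquiv1 R).symm.trans (resEquiv R (Om R))

theorem resIso_residue_algebraMap (x : R1 R) :
    resIso R (residue (Sh R) (algebraMap (R1 R) (Sh R) x)) = rho R (Om R) x := by
  have h : residue (Sh R) (algebraMap (R1 R) (Sh R) x) = resEquiv1 R (residue (R1 R) x) := rfl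
  rw [h, resIso, RingEquiv.trans_apply, RingEquiv.symm_apply_apply, resEquiv_residue]

theorem resIso_symm_rho (x : R1 R) :
    (resIso R).symm (rho R (Om R) x) = residue (Sh R) (algebraMap (R1 R) (Sh R) x) := by
  rw [← resIso_residue_algebraMap, RingEquiv.symm_apply_apply]

theorem resIso_algebraMap (y : ResidueField R) :
    resIso R (algebraMap (ResidueField R) (ResidueField (Sh R)) y) =
      algebraMap (ResidueField R) (Om R) y := by
  obtain ⟨r, rfl⟩ := residue_surjective y
  rw [ResidueField.algebraMap_residue, algebraMap_eq, RingHom.comp_apply,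
    resIso_residue_algebraMap, rho_algebraMap]
  rfl

/-- `resIso` as an algebra isomorphism. -/
noncomputable def resAlgEquiv : ResidueField (Sh R) ≃ₐ[ResidueField R] Om R :=
  { resIso R with commutes' := resIso_algebraMap R }

instance isSepClosed_residueField : IsSepClosed (ResidueField (Sh R)) := by
  refine IsSepClosed.of_exists_root _ fun p hm hi hs => ?_
  have hs' : (p.map (resIso R).toRingHom).Separable := hs.map
  have hdeg : (p.map (resIso R).toRingHom).degree ≠ 0 := by
    rw [Polynomial.degree_map]
    exact (Polynomial.degree_pos_of_irreducible hi).ne'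
  obtain ⟨x, hx⟩ := IsSepClosed.exists_root _ hdeg hs'
  refine ⟨(resIso R).symm x, ?_⟩
  have h1 : (resIso R).toRingHom ((resIso R).symm x) = x := (resIso R).apply_symm_apply x
  rw [← h1, IsRoot.def, Polynomial.eval_map, Polynomial.eval₂_at_apply] at hx
  exact (map_eq_zero_iff _ (resIso R).injective).mp hx

instance isSepClosure_residueField :
    IsSepClosure (ResidueField R) (ResidueField (Sh R)) where
  sep_closed := isSepClosed_residueField R
  separable := AlgEquiv.Algebra.isSeparable (resAlgEquiv R).symm

section Universal

variable {R}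
variable {T : Type u} [CommRing T] [HenselianLocalRing T] (f : R →+* T) [IsLocalHom f]
  (τ : ResidueField (Sh R) →+* ResidueField T)
  (hτ : τ.comp (ResidueField.map (algebraMap R (Sh R))) = ResidueField.map f)

/-- The induced embedding of `Om R` into the residue field of `T`. -/
noncomputable def tau' : Om R →+* ResidueField T := τ.comp (resIso R).symm.toRingHom

include hτ in
theorem tau'_comp : (tau' τ).comp (toΩ R (Om R)) = (residue T).comp f := by
  ext r
  have h1 := congrArg (fun k => k (residue R r)) hτ
  simp only [RingHom.comp_apply, ResidueField.map_residue] at h1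
  simp only [RingHom.comp_apply, tau']
  rw [← h1]
  congr 1
  show (resIso R).symm (toΩ R (Om R) r) = _
  rw [← rho_algebraMap, resIso_symm_rho]
  rfl

/-- The map from the first step. -/
noncomputable def lift1 : R1 R →+* T := SepStep.lift f (tau' τ) (tau'_comp f τ hτ)

instance isLocalHom_lift1 : IsLocalHom (lift1 f τ hτ) :=
  SepStep.isLocalHom_lift f (tau' τ) (tau'_comp f τ hτ)

/-- The canonical map from the strict henselization. -/
noncomputable def liftSh : Sh R →+* T := liftHzn (lift1 f τ hτ)

theorem liftSh_comp_algebraMap1 :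
    (liftSh f τ hτ).comp (algebraMap (R1 R) (Sh R)) = lift1 f τ hτ :=
  liftHzn_comp_algebraMap (lift1 f τ hτ)

theorem liftSh_comp_algebraMap : (liftSh f τ hτ).comp (algebraMap R (Sh R)) = f := by
  rw [algebraMap_eq, ← RingHom.comp_assoc, liftSh_comp_algebraMap1]
  exact SepStep.lift_comp_algebraMap f (tau' τ) (tau'_comp f τ hτ)

instance isLocalHom_liftSh : IsLocalHom (liftSh f τ hτ) := by
  refine ⟨fun z hz => ?_⟩
  obtain ⟨n, x, rfl⟩ := exists_ofStage (R1 R) z
  have h1 : liftSh f τ hτ (ofStage (R1 R) n x) = (stageMap (lift1 f τ hτ) n).1 x :=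
    liftHzn_ofStage (lift1 f τ hτ) n x
  rw [h1] at hz
  have := (stageMap (lift1 f τ hτ) n).2
  exact (isUnit_of_map_unit (stageMap (lift1 f τ hτ) n).1 x hz).map _

theorem exists_algebraMap_sub_mem (z : Sh R) :
    ∃ x : R1 R, z - algebraMap (R1 R) (Sh R) x ∈ maximalIdeal (Sh R) := by
  obtain ⟨y, hy⟩ := (resEquiv1 R).surjective (residue (Sh R) z)
  obtain ⟨x, rfl⟩ := residue_surjective y
  refine ⟨x, ?_⟩
  rw [← residue_eq_zero_iff, map_sub, ← hy, sub_eq_zero]
  rfl

theorem residue_liftSh (z : Sh R) :
    residue T (liftSh f τ hτ z) = τ (residue (Sh R) z) := by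
  obtain ⟨x, hx⟩ := exists_algebraMap_sub_mem z
  have h1 : residue (Sh R) z = residue (Sh R) (algebraMap (R1 R) (Sh R) x) := by
    rw [← sub_eq_zero, ← map_sub, residue_eq_zero_iff]
    exact hx
  have h2 : residue T (liftSh f τ hτ z) =
      residue T (liftSh f τ hτ (algebraMap (R1 R) (Sh R) x)) := by
    rw [← sub_eq_zero, ← map_sub, ← map_sub, residue_eq_zero_iff]
    exact map_nonunit (liftSh f τ hτ) _ hx
  rw [h1, h2]
  have h3 : liftSh f τ hτ (algebraMap (R1 R) (Sh R) x) = lift1 f τ hτ x :=
    congrArg (fun k => k x) (liftSh_comp_algebraMap1 f τ hτ)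
  rw [h3, lift1, SepStep.residue_lift, tau', RingHom.comp_apply]
  congr 1
  exact resIso_symm_rho R x

theorem liftSh_unique (g : Sh R →+* T) (hg : g.comp (algebraMap R (Sh R)) = f)
    (hg' : ∀ z, residue T (g z) = τ (residue (Sh R) z)) : g = liftSh f τ hτ := by
  have h1 : g.comp (algebraMap (R1 R) (Sh R)) = lift1 f τ hτ := by
    apply SepStep.lift_unique f (tau' τ) (tau'_comp f τ hτ)
    · rw [RingHom.comp_assoc]
      exact hg
    · intro x
      rw [RingHom.comp_apply, hg', tau', RingHom.comp_apply]
      congr 1
      exact (resIso_symm_rho R x).symm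
  exact liftHzn_unique (lift1 f τ hτ) g h1

end Universal

/-- `Sh R` is a strict henselization of `R`. -/
instance isStrictHenselization : Hensel.IsStrictHenselization R (Sh R) where
  henselian := inferInstance
  isSepClosure := isSepClosure_residueField R
  universal T _ _ f _ τ hτ := by
    refine ⟨liftSh f τ hτ, ⟨liftSh_comp_algebraMap f τ hτ, residue_liftSh f τ hτ⟩, ?_⟩
    rintro g ⟨hg, hg'⟩
    exact liftSh_unique f τ hτ g hg hg'

/-- Every local ring has a strict henselization. -/
theorem exists_isStrictHenselization :
    ∃ (S : Type u) (_ : CommRing S) (_ : IsLocalRing S) (_ : Algebra R S)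
      (_ : IsLocalHom (algebraMap R S)), Hensel.IsStrictHenselization R S :=
  ⟨Sh R, inferInstance, inferInstance, inferInstance, inferInstance, isStrictHenselization R⟩

end Groth.Agent.Lib.StrictHenselization
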