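import Mathlib
import Groth.Agent.Lib.ShDescent16a
import Groth.Agent.Lib.AzumayaRank16
import Groth.Agent.Lib.AzInvInner16b
import Groth.Agent.Lib.AzInvCover16
import Groth.Agent.Lib.StrictHenselization
import Groth.Agent.Lib.StrictHenselizationProps

/-!
# Étale-local isomorphisms from homomorphisms over strict henselizations (helper16)

`R` an `S`-algebra, `A₁, A₂` Azumaya `R`-algebras, `s_i : A_i →ₗ[S] A_i` semilinear maps.

* `cEquiv S R E A : (E ⊗[S] R) ⊗[R] A ≃+* E ⊗[S] A`.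
* `IsoOverG s₁ s₂ E`: over `E` there is an `E`-algebra isomorphism `E ⊗[S] A₁ ≃ E ⊗[S] A₂`
  compatible with the `R`-structures and with `s₁, s₂`.
* `extHom`, `extHom_bijective`: an `R`-compatible algebra hom `A₁ → E ⊗ A₂` between Azumaya
  algebras of the same rank extends to an isomorphism `E ⊗ A₁ ≃ E ⊗ A₂`.
* `isoOverG_pi`, `exists_cover_of_forall`: finite products / Zariski-étale covers.
* **`exists_cover_of_forall_strictHenselization`** (meta-theorem): to produce an étale faithfully flat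
  `S'` with `IsoOverG s₁ s₂ S'` it suffices to produce, for every prime `p` of `S` and every
  (`S`-flat) strict henselization `T` of `S_p`, an `R`- and `s`-compatible `S`-algebra homomorphism
  `A₁ →ₐ[S] T ⊗[S] A₂`.
-/

set_option autoImplicit false
set_option linter.style.haveILetI false
set_option linter.unusedSectionVars false

namespace Groth.Agent.Lib.ShDescent16
open TensorProduct

attribute [local instance] Algebra.TensorProduct.rightAlgebra

section cEquiv
universe u v w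
variable (S : Type u) (R : Type v) [CommRing S] [CommRing R] [Algebra S R]
  (E : Type*) [CommRing E] [Algebra S E]
  (A : Type w) [Ring A] [Algebra S A] [Algebra R A] [IsScalarTower S R A]

/-- `(E ⊗[S] R) ⊗[R] A ≃ E ⊗[S] A`, additively -/
noncomputable def cAdd : (E ⊗[S] R) ⊗[R] A ≃+ E ⊗[S] A :=
  (TensorProduct.comm R (E ⊗[S] R) A).toAddEquiv.trans
    ((TensorProduct.congr (LinearEquiv.refl R A)
      (Algebra.TensorProduct.commRight S R E).symm.toLinearEquiv).toAddEquiv.trans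
      ((TensorProduct.AlgebraTensorModule.cancelBaseChange S R R A E).toAddEquiv.trans
        (TensorProduct.comm S A E).toAddEquiv))

theorem cAdd_tmul (e : E) (r : R) (a : A) :
    cAdd S R E A ((e ⊗ₜ[S] r) ⊗ₜ[R] a) = e ⊗ₜ[S] (r • a) := by
  simp [cAdd]

end cEquiv
end Groth.Agent.Lib.ShDescent16

namespace Groth.Agent.Lib.ShDescent16
open TensorProduct

attribute [local instance] Algebra.TensorProduct.rightAlgebra

section cEquiv
universe u v w
variable (S : Type u) (R : Type v) [CommRing S] [CommRing R] [Algebra S R]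
  (E : Type*) [CommRing E] [Algebra S E]
  (A : Type w) [Ring A] [Algebra S A] [Algebra R A] [IsScalarTower S R A]

variable {S R E A} in
theorem triple_induction {P : (E ⊗[S] R) ⊗[R] A → Prop} (h0 : P 0)
    (hadd : ∀ x y, P x → P y → P (x + y))
    (hpure : ∀ (e : E) (r : R) (a : A), P ((e ⊗ₜ[S] r) ⊗ₜ[R] a)) : ∀ x, P x := by
  intro x
  induction x using TensorProduct.induction_on with
  | zero => exact h0
  | add x y hx hy => exact hadd x y hx hy
  | tmul X a =>
    induction X using TensorProduct.induction_on with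
    | zero => rw [zero_tmul]; exact h0
    | add X Y hX hY => rw [add_tmul]; exact hadd _ _ hX hY
    | tmul e r => exact hpure e r a

theorem cAdd_mul (x y : (E ⊗[S] R) ⊗[R] A) :
    cAdd S R E A (x * y) = cAdd S R E A x * cAdd S R E A y := by
  revert y
  refine triple_induction (P := fun x => ∀ y, cAdd S R E A (x * y) = cAdd S R E A x * cAdd S R E A y)
    ?_ ?_ ?_ x
  · intro y; simp
  · intro x₁ x₂ h₁ h₂ y
    rw [add_mul, map_add, h₁, h₂, map_add, add_mul]
  · intro e r a y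
    refine triple_induction (P := fun y => cAdd S R E A (((e ⊗ₜ[S] r) ⊗ₜ[R] a) * y) =
      cAdd S R E A ((e ⊗ₜ[S] r) ⊗ₜ[R] a) * cAdd S R E A y) ?_ ?_ ?_ y
    · simp
    · intro y₁ y₂ h₁ h₂
      rw [mul_add, map_add, h₁, h₂, map_add, mul_add]
    · intro e' r' a'
      rw [Algebra.TensorProduct.tmul_mul_tmul, Algebra.TensorProduct.tmul_mul_tmul, cAdd_tmul,
        cAdd_tmul, cAdd_tmul, Algebra.TensorProduct.tmul_mul_tmul, smul_mul_smul_comm]

/-- `(E ⊗[S] R) ⊗[R] A ≃+* E ⊗[S] A` -/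
noncomputable def cEquiv : (E ⊗[S] R) ⊗[R] A ≃+* E ⊗[S] A :=
  { cAdd S R E A with map_mul' := cAdd_mul S R E A }

@[simp] theorem cEquiv_tmul (e : E) (r : R) (a : A) :
    cEquiv S R E A ((e ⊗ₜ[S] r) ⊗ₜ[R] a) = e ⊗ₜ[S] (r • a) := cAdd_tmul S R E A e r a

/-- `E ⊗ R → E ⊗ A` -/
noncomputable def jE : E ⊗[S] R →ₐ[S] E ⊗[S] A :=
  Algebra.TensorProduct.map (AlgHom.id S E) (IsScalarTower.toAlgHom S R A)

@[simp] theorem jE_tmul (e : E) (r : R) : jE S R E A (e ⊗ₜ[S] r) = e ⊗ₜ[S] algebraMap R A r := by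
  simp [jE]

theorem cEquiv_algebraMap (x : E ⊗[S] R) :
    cEquiv S R E A (x ⊗ₜ[R] (1 : A)) = jE S R E A x := by
  induction x using TensorProduct.induction_on with
  | zero => simp
  | add x y hx hy => rw [add_tmul, map_add, hx, hy, map_add]
  | tmul e r => rw [cEquiv_tmul, jE_tmul, Algebra.algebraMap_eq_smul_one]

end cEquiv
end Groth.Agent.Lib.ShDescent16

namespace Groth.Agent.Lib.ShDescent16
open TensorProduct

section defs
universe u v w w'
variable {S : Type u} {R : Type v} [CommRing S] [CommRing R] [Algebra S R]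
  {A₁ : Type w} [Ring A₁] [Algebra S A₁] [Algebra R A₁] [IsScalarTower S R A₁]
  {A₂ : Type w'} [Ring A₂] [Algebra S A₂] [Algebra R A₂] [IsScalarTower S R A₂]
  (s₁ : A₁ →ₗ[S] A₁) (s₂ : A₂ →ₗ[S] A₂)

/-- `(A₁, s₁)` and `(A₂, s₂)` become isomorphic as `R`-algebras with extra structure over `E`. -/
def IsoOverG (E : Type*) [CommRing E] [Algebra S E] : Prop :=
  ∃ f : E ⊗[S] A₁ ≃ₐ[E] E ⊗[S] A₂,
    (∀ (r : R) (x : E ⊗[S] A₁), f (((1 : E) ⊗ₜ[S] algebraMap R A₁ r) * x) =
      ((1 : E) ⊗ₜ[S] algebraMap R A₂ r) * f x) ∧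
    ∀ x : E ⊗[S] A₁, f (s₁.baseChange E x) = s₂.baseChange E (f x)

variable (E : Type*) [CommRing E] [Algebra S E] (ρ' : A₁ →ₐ[S] E ⊗[S] A₂)

/-- the `E`-algebra hom `E ⊗ A₁ → E ⊗ A₂` induced by `ρ'` -/
noncomputable def extHom : E ⊗[S] A₁ →ₐ[E] E ⊗[S] A₂ :=
  Algebra.TensorProduct.lift (Algebra.TensorProduct.includeLeft : E →ₐ[E] E ⊗[S] A₂) ρ'
    (fun e b => by
      rw [Algebra.TensorProduct.includeLeft_apply]
      generalize ρ' b = w
      induction w using TensorProduct.induction_on with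
      | zero => simp
      | add x y hx hy => exact hx.add_right hy
      | tmul e' b' =>
        change _ * _ = _ * _
        rw [Algebra.TensorProduct.tmul_mul_tmul, Algebra.TensorProduct.tmul_mul_tmul, mul_comm,
          one_mul, mul_one])

@[simp] theorem extHom_tmul (e : E) (a : A₁) :
    extHom E ρ' (e ⊗ₜ[S] a) = (e ⊗ₜ[S] (1 : A₂)) * ρ' a := by
  simp [extHom]

theorem extHom_smul
    (h1 : ∀ (r : R) (x : A₁), ρ' (algebraMap R A₁ r * x) = ((1 : E) ⊗ₜ[S] algebraMap R A₂ r) * ρ' x)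
    (r : R) (x : E ⊗[S] A₁) :
    extHom E ρ' (((1 : E) ⊗ₜ[S] algebraMap R A₁ r) * x) =
      ((1 : E) ⊗ₜ[S] algebraMap R A₂ r) * extHom E ρ' x := by
  rw [map_mul]
  congr 1
  rw [extHom_tmul, ← mul_one (algebraMap R A₁ r), h1, map_one, mul_one,
    ← Algebra.TensorProduct.one_def, one_mul]

theorem extHom_baseChange (h2 : ∀ x : A₁, ρ' (s₁ x) = s₂.baseChange E (ρ' x)) (x : E ⊗[S] A₁) :
    extHom E ρ' (s₁.baseChange E x) = s₂.baseChange E (extHom E ρ' x) := by
  induction x using TensorProduct.induction_on with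
  | zero => simp
  | add x y hx hy => simp only [map_add, hx, hy]
  | tmul e a =>
    rw [LinearMap.baseChange_tmul, extHom_tmul, extHom_tmul, h2]
    have : ∀ w : E ⊗[S] A₂, (e ⊗ₜ[S] (1 : A₂)) * w = e • w := by
      intro w
      rw [Algebra.smul_def]
      rfl
    rw [this, this, map_smul]

end defs
end Groth.Agent.Lib.ShDescent16

namespace Groth.Agent.Lib.ShDescent16
open TensorProduct Groth.Agent.Lib.Azumaya16

attribute [local instance] Algebra.TensorProduct.rightAlgebra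

section bij
universe u v w w'
variable {S : Type u} {R : Type v} [CommRing S] [CommRing R] [Algebra S R]
  {A₁ : Type w} [Ring A₁] [Algebra S A₁] [Algebra R A₁] [IsScalarTower S R A₁]
  {A₂ : Type w'} [Ring A₂] [Algebra S A₂] [Algebra R A₂] [IsScalarTower S R A₂]
  [IsAzumaya R A₁] [IsAzumaya R A₂]
  (E : Type*) [CommRing E] [Algebra S E] (ρ' : A₁ →ₐ[S] E ⊗[S] A₂)

theorem extHom_jE
    (h1 : ∀ (r : R) (x : A₁), ρ' (algebraMap R A₁ r * x) = ((1 : E) ⊗ₜ[S] algebraMap R A₂ r) * ρ' x)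
    (x : E ⊗[S] R) : extHom E ρ' (jE S R E A₁ x) = jE S R E A₂ x := by
  induction x using TensorProduct.induction_on with
  | zero => simp
  | add x y hx hy => simp only [map_add, hx, hy]
  | tmul e r =>
    rw [jE_tmul, jE_tmul, extHom_tmul, ← mul_one (algebraMap R A₁ r), h1, map_one, mul_one,
      Algebra.TensorProduct.tmul_mul_tmul, mul_one, one_mul]

theorem extHom_bijective
    (hrk : ∀ p : PrimeSpectrum R, Module.rankAtStalk A₁ p = Module.rankAtStalk A₂ p)
    (h1 : ∀ (r : R) (x : A₁), ρ' (algebraMap R A₁ r * x) = ((1 : E) ⊗ₜ[S] algebraMap R A₂ r) * ρ' x) :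
    Function.Bijective (extHom E ρ') := by
  let c₁ := cEquiv S R E A₁
  let c₂ := cEquiv S R E A₂
  haveI : IsAzumaya (E ⊗[S] R) ((E ⊗[S] R) ⊗[R] A₁) := isAzumaya_baseChange R (E ⊗[S] R) A₁
  haveI : IsAzumaya (E ⊗[S] R) ((E ⊗[S] R) ⊗[R] A₂) := isAzumaya_baseChange R (E ⊗[S] R) A₂
  let F₀ : (E ⊗[S] R) ⊗[R] A₁ →+* (E ⊗[S] R) ⊗[R] A₂ :=
    (c₂.symm : E ⊗[S] A₂ →+* _).comp (((extHom E ρ' : E ⊗[S] A₁ →+* E ⊗[S] A₂)).comp
      (c₁ : _ →+* E ⊗[S] A₁))
  have hF₀ : ∀ x, F₀ x = c₂.symm (extHom E ρ' (c₁ x)) := fun x => rfl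
  let F : (E ⊗[S] R) ⊗[R] A₁ →ₐ[E ⊗[S] R] (E ⊗[S] R) ⊗[R] A₂ :=
    { F₀ with
      commutes' := fun x => by
        change F₀ _ = _
        rw [hF₀, Algebra.TensorProduct.algebraMap_apply, Algebra.TensorProduct.algebraMap_apply,
          Algebra.algebraMap_self_apply]
        apply c₂.injective
        rw [RingEquiv.apply_symm_apply]
        change extHom E ρ' (cEquiv S R E A₁ _) = cEquiv S R E A₂ _
        rw [cEquiv_algebraMap, cEquiv_algebraMap, extHom_jE E ρ' h1] }
  have hFb : Function.Bijective F := by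
    apply Groth.Agent.Lib.AzumayaRank16.algHom_bijective_of_rank
    intro q
    rw [Module.rankAtStalk_baseChange, Module.rankAtStalk_baseChange, hrk]
  have hFe : ∀ x, F x = c₂.symm (extHom E ρ' (c₁ x)) := fun x => rfl
  constructor
  · intro x y hxy
    obtain ⟨x', rfl⟩ := c₁.surjective x
    obtain ⟨y', rfl⟩ := c₁.surjective y
    have : F x' = F y' := by rw [hFe, hFe, hxy]
    rw [hFb.1 this]
  · intro z
    obtain ⟨x, hx⟩ := hFb.2 (c₂.symm z)
    refine ⟨c₁ x, ?_⟩
    have := congrArg c₂ hx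
    rwa [hFe, RingEquiv.apply_symm_apply, RingEquiv.apply_symm_apply] at this

end bij
end Groth.Agent.Lib.ShDescent16

namespace Groth.Agent.Lib.ShDescent16
open TensorProduct Groth.Agent.Lib.AzInvInner16 Groth.Agent.Lib.AzInvCover16

section ofHom
universe u v w w'
variable {S : Type u} {R : Type v} [CommRing S] [CommRing R] [Algebra S R]
  {A₁ : Type w} [Ring A₁] [Algebra S A₁] [Algebra R A₁] [IsScalarTower S R A₁]
  {A₂ : Type w'} [Ring A₂] [Algebra S A₂] [Algebra R A₂] [IsScalarTower S R A₂]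
  [IsAzumaya R A₁] [IsAzumaya R A₂]
  (s₁ : A₁ →ₗ[S] A₁) (s₂ : A₂ →ₗ[S] A₂)

/-- an `R`-compatible algebra hom `A₁ → E ⊗ A₂` between Azumaya algebras of the same rank induces
an isomorphism over `E` -/
theorem isoOverG_of_hom
    (hrk : ∀ p : PrimeSpectrum R, Module.rankAtStalk A₁ p = Module.rankAtStalk A₂ p)
    (E : Type*) [CommRing E] [Algebra S E] (ρ' : A₁ →ₐ[S] E ⊗[S] A₂)
    (h1 : ∀ (r : R) (x : A₁), ρ' (algebraMap R A₁ r * x) = ((1 : E) ⊗ₜ[S] algebraMap R A₂ r) * ρ' x)
    (h2 : ∀ x : A₁, ρ' (s₁ x) = s₂.baseChange E (ρ' x)) : IsoOverG (R := R) s₁ s₂ E :=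
  ⟨AlgEquiv.ofBijective (extHom E ρ') (extHom_bijective E ρ' hrk h1),
    fun r x => extHom_smul E ρ' h1 r x, fun x => extHom_baseChange s₁ s₂ E ρ' h2 x⟩

end ofHom

section transport
universe u v w w'
variable {S : Type u} {R : Type v} [CommRing S] [CommRing R] [Algebra S R]
  {A₁ : Type w} [Ring A₁] [Algebra S A₁] [Algebra R A₁] [IsScalarTower S R A₁]
  {A₂ : Type w'} [Ring A₂] [Algebra S A₂] [Algebra R A₂] [IsScalarTower S R A₂]
  (s₁ : A₁ →ₗ[S] A₁) (s₂ : A₂ →ₗ[S] A₂)

theorem isoOverG_pi {ι : Type*} [Fintype ι] [DecidableEq ι] (T : ι → Type*) [∀ i, CommRing (T i)]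
    [∀ i, Algebra S (T i)] (h : ∀ i, IsoOverG (R := R) s₁ s₂ (T i)) :
    IsoOverG (R := R) s₁ s₂ (∀ i, T i) := by
  choose f hf1 hf2 using h
  let e₁ := piLeft (S := S) (A := A₁) T
  let e₂ := piLeft (S := S) (A := A₂) T
  let F : (∀ i, T i) ⊗[S] A₁ ≃+* (∀ i, T i) ⊗[S] A₂ :=
    e₁.toRingEquiv.trans ((RingEquiv.piCongrRight fun i => (f i).toRingEquiv).trans
      e₂.symm.toRingEquiv)
  have hF : ∀ y, e₂ (F y) = fun i => f i (e₁ y i) := by
    intro y
    simp only [F, RingEquiv.trans_apply]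
    change e₂ (e₂.symm _) = _
    rw [AlgEquiv.apply_symm_apply]
    rfl
  have he₁ : ∀ (a : ∀ i, T i) (b : A₁), e₁ (a ⊗ₜ[S] b) = fun i => a i ⊗ₜ[S] b := by
    intro a b
    funext i
    simp only [e₁, piLeft_apply]
    simp
  have he₂ : ∀ (a : ∀ i, T i) (b : A₂), e₂ (a ⊗ₜ[S] b) = fun i => a i ⊗ₜ[S] b := by
    intro a b
    funext i
    simp only [e₂, piLeft_apply]
    simp
  refine ⟨AlgEquiv.ofRingEquiv (f := F) (fun a => ?_), fun r y => ?_, fun y => ?_⟩
  · apply e₂.injective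
    rw [hF, Algebra.TensorProduct.algebraMap_apply, Algebra.TensorProduct.algebraMap_apply,
      Algebra.algebraMap_self_apply, he₁, he₂]
    funext i
    have := (f i).commutes (a i)
    rwa [Algebra.TensorProduct.algebraMap_apply, Algebra.TensorProduct.algebraMap_apply,
      Algebra.algebraMap_self_apply] at this
  · apply e₂.injective
    change e₂ (F _) = e₂ (_ * F y)
    have e1' : e₁ (((1 : ∀ i, T i) ⊗ₜ[S] algebraMap R A₁ r) * y) =
        fun i => ((1 : T i) ⊗ₜ[S] algebraMap R A₁ r) * e₁ y i := by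
      rw [map_mul, he₁]
      rfl
    have e2' : e₂ (((1 : ∀ i, T i) ⊗ₜ[S] algebraMap R A₂ r) * F y) =
        fun i => ((1 : T i) ⊗ₜ[S] algebraMap R A₂ r) * e₂ (F y) i := by
      rw [map_mul, he₂]
      rfl
    rw [hF, e1', e2', hF]
    funext i
    exact hf1 i r _
  · apply e₂.injective
    change e₂ (F _) = e₂ (s₂.baseChange (∀ i, T i) (F y))
    rw [hF]
    funext i
    simp only [e₁, e₂, piLeft_apply]
    rw [map_baseChange, hf2, map_baseChange]
    congr 1
    have := congrFun (hF y) i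
    simp only [e₁, e₂, piLeft_apply] at this
    exact this.symm

end transport

section cover
universe u v w w'
variable {S : Type u} {R : Type v} [CommRing S] [CommRing R] [Algebra S R]
  {A₁ : Type w} [Ring A₁] [Algebra S A₁] [Algebra R A₁] [IsScalarTower S R A₁]
  {A₂ : Type w'} [Ring A₂] [Algebra S A₂] [Algebra R A₂] [IsScalarTower S R A₂]
  (s₁ : A₁ →ₗ[S] A₁) (s₂ : A₂ →ₗ[S] A₂)

/-- Étale-local isomorphisms near every prime of `S` glue to one étale faithfully flat cover. -/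
theorem exists_cover_of_forall
    (hloc : ∀ p : PrimeSpectrum S, ∃ (T : Type u) (_ : CommRing T) (_ : Algebra S T),
      Algebra.Etale S T ∧ p ∈ Set.range (PrimeSpectrum.comap (algebraMap S T)) ∧
        IsoOverG (R := R) s₁ s₂ T) :
    ∃ (S' : Type u) (_ : CommRing S') (_ : Algebra S S') (_ : Algebra.Etale S S')
      (_ : Module.FaithfullyFlat S S'), IsoOverG (R := R) s₁ s₂ S' := by
  classical
  choose T iC iA hE hmem hIso using hloc
  letI : ∀ p, CommRing (T p) := iC
  letI : ∀ p, Algebra S (T p) := iA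
  haveI : ∀ p, Algebra.Etale S (T p) := hE
  obtain ⟨s, hs⟩ := isCompact_univ.elim_finite_subcover
    (fun p => Set.range (PrimeSpectrum.comap (algebraMap S (T p))))
    (fun p => isOpen_range_comap (T p)) (fun p _ => Set.mem_iUnion.2 ⟨p, hmem p⟩)
  haveI : Module.Flat S (∀ i : s, T i.1) :=
    Module.Flat.of_linearEquiv
      (DirectSum.linearEquivFunOnFintype S s (fun i : s => T i.1)).symm
  have hff : Module.FaithfullyFlat S (∀ i : s, T i.1) := by
    apply Module.FaithfullyFlat.of_comap_surjective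
    intro q
    have hq := hs (Set.mem_univ q)
    simp only [Set.mem_iUnion] at hq
    obtain ⟨p, hp, q', hq'⟩ := hq
    refine ⟨PrimeSpectrum.comap (Pi.evalRingHom (fun i : s => T i.1) ⟨p, hp⟩) q', ?_⟩
    rw [← hq']
    rfl
  exact ⟨∀ i : s, T i.1, inferInstance, inferInstance, inferInstance, hff,
    isoOverG_pi s₁ s₂ (fun i : s => T i.1) (fun i => hIso i.1)⟩

end cover
end Groth.Agent.Lib.ShDescent16

namespace Groth.Agent.Lib.ShDescent16
open TensorProduct Groth.Agent.Lib.StrictHenselization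

section meta_
universe u v w w'
variable {S : Type u} {R : Type v} [CommRing S] [CommRing R] [Algebra S R]
  {A₁ : Type w} [Ring A₁] [Algebra S A₁] [Algebra R A₁] [IsScalarTower S R A₁]
  {A₂ : Type w'} [Ring A₂] [Algebra S A₂] [Algebra R A₂] [IsScalarTower S R A₂]
  [IsAzumaya R A₁] [IsAzumaya R A₂]

/-- **Descent from strict henselizations**: if for every prime `p` of `S` there is an `R`-compatible
algebra homomorphism `A₁ → T ⊗[S] A₂` over (any) `S`-flat strict henselization `T` of `S_p`, compatible with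
the semilinear maps `s₁, s₂`, then `(A₁, s₁)` and `(A₂, s₂)` become isomorphic over one étale
faithfully flat `S`-algebra. -/
theorem exists_cover_of_forall_strictHenselization
    (hrk : ∀ p : PrimeSpectrum R, Module.rankAtStalk A₁ p = Module.rankAtStalk A₂ p)
    {lam : R → R} (s₁ : A₁ →ₗ[S] A₁) (s₂ : A₂ →ₗ[S] A₂)
    (hs₁ : ∀ (r : R) (x : A₁), s₁ (r • x) = lam r • s₁ x)
    (hs₂ : ∀ (r : R) (b : A₂), s₂ (r • b) = lam r • s₂ b)
    (H : ∀ (p : Ideal S) [p.IsPrime] (T : Type u) [CommRing T] [IsLocalRing T] [Algebra S T]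
      [Algebra (Localization.AtPrime p) T] [IsScalarTower S (Localization.AtPrime p) T]
      [IsLocalHom (algebraMap (Localization.AtPrime p) T)]
      [Hensel.IsStrictHenselization (Localization.AtPrime p) T] [Module.Flat S T],
      ∃ ρ : A₁ →ₐ[S] T ⊗[S] A₂,
        (∀ (r : R) (x : A₁), ρ (algebraMap R A₁ r * x) =
          ((1 : T) ⊗ₜ[S] algebraMap R A₂ r) * ρ x) ∧
        ∀ x : A₁, ρ (s₁ x) = s₂.baseChange T (ρ x)) :
    ∃ (S' : Type u) (_ : CommRing S') (_ : Algebra S S') (_ : Algebra.Etale S S')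
      (_ : Module.FaithfullyFlat S S'), IsoOverG (R := R) s₁ s₂ S' := by
  haveI : Module.Finite R A₁ := IsAzumaya.toFinite
  haveI : Module.Projective R A₁ := IsAzumaya.toProjective
  apply exists_cover_of_forall
  intro p
  let Sp := Localization.AtPrime p.asIdeal
  let T := Sh Sp
  letI : Algebra S T := ((algebraMap Sp T).comp (algebraMap S Sp)).toAlgebra
  haveI : IsScalarTower S Sp T := IsScalarTower.of_algebraMap_eq (fun _ => rfl)
  haveI : Module.Flat S T := Module.Flat.trans S Sp T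
  obtain ⟨ρ, hρ1, hρ2⟩ := H p.asIdeal T
  obtain ⟨E, _, _, hEt, φ, ρ', h1, h2, -⟩ := exists_descend_hom
    (exists_etale_of_finset S p.asIdeal T) s₁ s₂ hs₁ hs₂ ρ hρ1 hρ2
  refine ⟨E, inferInstance, inferInstance, hEt, ?_, isoOverG_of_hom s₁ s₂ hrk E ρ' h1 h2⟩
  refine ⟨⟨(IsLocalRing.maximalIdeal T).comap (φ : E →+* T), Ideal.comap_isPrime _ _⟩, ?_⟩
  apply PrimeSpectrum.ext
  change Ideal.comap (algebraMap S E) (Ideal.comap (φ : E →+* T) (IsLocalRing.maximalIdeal T)) =
    p.asIdeal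
  rw [Ideal.comap_comap]
  have : (φ : E →+* T).comp (algebraMap S E) = (algebraMap Sp T).comp (algebraMap S Sp) := by
    ext s
    simp only [RingHom.comp_apply, RingHom.coe_coe, AlgHom.commutes]
    rfl
  rw [this, ← Ideal.comap_comap, IsLocalRing.maximalIdeal_comap]
  exact Localization.AtPrime.under_maximalIdeal

end meta_
end Groth.Agent.Lib.ShDescent16
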