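import Mathlib
import Groth.Prelude.Def_AzInv
import Groth.Prelude.Def_W4c2azumayainvolQEt
import Groth.Agent.Lib.ShDescent16b
import Groth.Agent.Lib.CSASplit
import Groth.Agent.Lib.HenselAzumaya16
import Groth.Agent.Lib.AzInvStd16
import Groth.Agent.Lib.Azumaya16Fibre
import Groth.Agent.Lib.RInvDecomp22

/-!
# Azumaya algebras over a ring with involution split étale-locally on the fixed ring (helper16)

* `lamT`, `isFixedRing_baseChange`: the fixed ring of an involution commutes with flat base change.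
* `exists_algEquiv_matrix_of_strictHenselian(_deg)`: Azumaya algebras over a strictly henselian
  local ring are matrix algebras.
* `exists_hom_of_strictHenselian`: for `T` strictly henselian local and flat over `S = R^lam`, the
  ring `T ⊗[S] R` is a finite product of strictly henselian local rings (`RInvDecomp22`), so an
  Azumaya `R`-algebra `A` of degree `n` has an `R`-compatible hom `A → T ⊗[S] M_n(R)`.
* **`exists_etale_fixedRing_split`**: `A` becomes `M_n(S' ⊗[S] R)` over an étale faithfully flat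
  `S`-algebra `S'`, compatibly with the `R`-structures (statement S17356).
-/

set_option autoImplicit false
set_option linter.style.haveILetI false
set_option linter.unusedSectionVars false

namespace Groth.Agent.Lib.ShDescent16
open TensorProduct

section fixed
universe u v
variable {S : Type u} {R : Type v} [CommRing S] [CommRing R] [Algebra S R]

/-- the base change of an `S`-algebra automorphism -/
noncomputable abbrev lamT (T : Type*) [CommRing T] [Algebra S T] (lam : R ≃ₐ[S] R) :
    T ⊗[S] R ≃ₐ[T] T ⊗[S] R :=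
  Algebra.TensorProduct.congr (AlgEquiv.refl : T ≃ₐ[T] T) lam

@[simp] theorem lamT_tmul (T : Type*) [CommRing T] [Algebra S T] (lam : R ≃ₐ[S] R) (t : T) (r : R) :
    lamT T lam (t ⊗ₜ[S] r) = t ⊗ₜ[S] lam r := by
  simp [lamT]

theorem lamT_involutive (T : Type*) [CommRing T] [Algebra S T] (lam : R ≃ₐ[S] R)
    (hlam : ∀ r, lam (lam r) = r) : Function.Involutive (lamT T lam) := by
  intro z
  induction z using TensorProduct.induction_on with
  | zero => simp
  | add x y hx hy => simp only [map_add, hx, hy]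
  | tmul t r => simp [hlam]

/-- **The fixed ring commutes with flat base change.** -/
theorem isFixedRing_baseChange (T : Type*) [CommRing T] [Algebra S T] [Module.Flat S T]
    (lam : R ≃ₐ[S] R) (hfix : RInv.IsFixedRing S R lam.toRingEquiv) :
    RInv.IsFixedRing T (T ⊗[S] R) (lamT T lam).toRingEquiv := by
  have hex : Function.Exact (Algebra.linearMap S R) (lam.toLinearMap - (LinearMap.id : R →ₗ[S] R)) := by
    intro r
    rw [LinearMap.sub_apply, sub_eq_zero]
    exact hfix.2 r
  have hex' := Module.Flat.lTensor_exact T hex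
  have hinj := Module.Flat.lTensor_preserves_injective_linearMap (M := T)
    (Algebra.linearMap S R) hfix.1
  have key : ∀ t : T, algebraMap T (T ⊗[S] R) t =
      (Algebra.linearMap S R).lTensor T ((TensorProduct.rid S T).symm t) := by
    intro t
    simp [Algebra.TensorProduct.algebraMap_apply]
  refine ⟨?_, ?_⟩
  · intro t t' h
    rw [key, key] at h
    exact (TensorProduct.rid S T).symm.injective (hinj h)
  · intro z
    have h1 : (lamT T lam).toRingEquiv z = z ↔
        (lam.toLinearMap - (LinearMap.id : R →ₗ[S] R)).lTensor T z = 0 := by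
      rw [LinearMap.lTensor_sub, LinearMap.sub_apply, sub_eq_zero, LinearMap.lTensor_id,
        LinearMap.id_apply]
      have : (lamT T lam).toRingEquiv z = lam.toLinearMap.lTensor T z := by
        induction z using TensorProduct.induction_on with
        | zero => simp
        | add x y hx hy =>
          rw [map_add, map_add, hx, hy]
        | tmul t r =>
          change lamT T lam (t ⊗ₜ[S] r) = _
          simp
      rw [this]
    rw [h1, hex' z]
    constructor
    · rintro ⟨w, rfl⟩
      exact ⟨TensorProduct.rid S T w, by rw [key, LinearEquiv.symm_apply_apply]⟩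
    · rintro ⟨t, rfl⟩
      exact ⟨_, (key t).symm⟩

end fixed
end Groth.Agent.Lib.ShDescent16

namespace Groth.Agent.Lib.ShDescent16
open TensorProduct

section shsplit
universe v w
variable (T : Type v) [CommRing T] [HenselianLocalRing T]
  [IsSepClosed (IsLocalRing.ResidueField T)]

/-- Azumaya algebras over a strictly henselian local ring are matrix algebras (same universe). -/
theorem exists_algEquiv_matrix_of_strictHenselian_aux (B : Type v) [Ring B] [Algebra T B]
    [IsAzumaya T B] :
    ∃ m : ℕ, m ≠ 0 ∧ Nonempty (B ≃ₐ[T] Matrix (Fin m) (Fin m) T) := by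
  let k := IsLocalRing.ResidueField T
  haveI hAz : IsAzumaya k (k ⊗[T] B) := Groth.Agent.Lib.Azumaya16.isAzumaya_baseChange T k B
  haveI hsimple : IsSimpleRing (k ⊗[T] B) :=
    Groth.Agent.Lib.Azumaya16.isSimpleRing_of_isAzumaya_field k _
  haveI hcentral : Algebra.IsCentral k (k ⊗[T] B) := inferInstance
  haveI : Module.Finite k (k ⊗[T] B) := IsAzumaya.toFinite
  obtain ⟨m, hm, ⟨e0⟩⟩ :=
    Groth.Agent.Lib.CSA.exists_algEquiv_matrix_of_isSepClosed (K := k) (k ⊗[T] B)
  haveI : NeZero m := ⟨hm⟩
  haveI : IsAzumaya T (Matrix (Fin m) (Fin m) T) := IsAzumaya.matrix T (Fin m)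
  let e₀ : (k ⊗[T] B) ≃ₐ[k] (k ⊗[T] Matrix (Fin m) (Fin m) T) :=
    e0.trans (Groth.Agent.Lib.AzInvStd16.matBC T k (Fin m)).symm
  obtain ⟨e, -⟩ := Groth.Agent.Lib.HenselAzumaya16.exists_algEquiv_lift e₀
  exact ⟨m, hm, ⟨e⟩⟩

/-- Azumaya algebras over a strictly henselian local ring are matrix algebras. -/
theorem exists_algEquiv_matrix_of_strictHenselian (B : Type w) [Ring B] [Algebra T B]
    [IsAzumaya T B] :
    ∃ m : ℕ, m ≠ 0 ∧ Nonempty (B ≃ₐ[T] Matrix (Fin m) (Fin m) T) := by
  haveI : Module.Finite T B := IsAzumaya.toFinite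
  haveI : Small.{v} B := Module.Finite.small T B
  let e₀ : Shrink.{v} B ≃ₐ[T] B := Shrink.algEquiv T B
  haveI : IsAzumaya T (Shrink.{v} B) := IsAzumaya.of_AlgEquiv T B (Shrink.{v} B) e₀.symm
  obtain ⟨m, hm, ⟨e⟩⟩ := exists_algEquiv_matrix_of_strictHenselian_aux T (Shrink.{v} B)
  exact ⟨m, hm, ⟨e₀.symm.trans e⟩⟩

/-- ... with the degree determined by the rank. -/
theorem exists_algEquiv_matrix_of_strictHenselian_deg (B : Type w) [Ring B] [Algebra T B]
    [IsAzumaya T B] (n : ℕ)
    (hrk : Module.rankAtStalk (R := T) B (IsLocalRing.closedPoint T) = n ^ 2) :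
    Nonempty (B ≃ₐ[T] Matrix (Fin n) (Fin n) T) := by
  obtain ⟨m, hm, ⟨e⟩⟩ := exists_algEquiv_matrix_of_strictHenselian T B
  have h2 : Module.rankAtStalk (R := T) B (IsLocalRing.closedPoint T) = m ^ 2 := by
    rw [Module.rankAtStalk_eq_of_equiv e.toLinearEquiv, Module.rankAtStalk_eq_finrank_of_free]
    simp [Module.finrank_matrix, sq]
  have hmn : m = n := by
    have : m ^ 2 = n ^ 2 := by rw [← h2, hrk]
    exact Nat.pow_left_injective (by norm_num : 2 ≠ 0) this
  subst hmn
  exact ⟨e⟩

end shsplit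
end Groth.Agent.Lib.ShDescent16

namespace Groth.Agent.Lib.ShDescent16
open TensorProduct

section prodsplit
universe u v w
variable {S : Type u} {R : Type v} [CommRing S] [CommRing R] [Algebra S R]
  {A : Type w} [Ring A] [Algebra S A] [Algebra R A] [IsScalarTower S R A]

/-- `matTensor` of `1 ⊗ scalar r`. -/
theorem matTensor_one_tmul_algebraMap (T : Type*) [CommRing T] [Algebra S T] (n : ℕ) (r : R) :
    Groth.Agent.Lib.AzInvStd16.matTensor S T R (Fin n)
      ((1 : T) ⊗ₜ[S] algebraMap R (Matrix (Fin n) (Fin n) R) r) =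
      Matrix.scalar (Fin n) ((1 : T) ⊗ₜ[S] r) := by
  ext i j
  rw [Groth.Agent.Lib.AzInvStd16.matTensor_tmul, Matrix.algebraMap_matrix_apply,
    Matrix.scalar_apply, Matrix.diagonal_apply]
  split_ifs
  · rfl
  · rw [TensorProduct.tmul_zero]

/-- a family of matrix representations over `P t` gives one over the product ring -/
def piMatrixAlgHom' {R' : Type*} [CommRing R'] {A' : Type*} [Ring A'] [Algebra R' A']
    {ι : Type*} [Fintype ι] (P : ι → Type*) [∀ t, CommRing (P t)]
    [∀ t, Algebra R' (P t)] {n : ℕ} (ρ : ∀ t, A' →ₐ[R'] Matrix (Fin n) (Fin n) (P t)) :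
    A' →ₐ[R'] Matrix (Fin n) (Fin n) (∀ t, P t) where
  toFun a := Matrix.of fun i j t => ρ t a i j
  map_one' := by
    ext i j t
    simp only [Matrix.of_apply, map_one, Matrix.one_apply]
    split_ifs <;> rfl
  map_mul' a b := by
    ext i j t
    simp only [Matrix.of_apply, map_mul, Matrix.mul_apply, Finset.sum_apply, Pi.mul_apply]
  map_zero' := by
    ext i j t
    simp
  map_add' a b := by
    ext i j t
    simp
  commutes' r := by
    ext i j t
    simp only [Matrix.of_apply, AlgHom.commutes, Matrix.algebraMap_matrix_apply]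
    split_ifs <;> rfl

/-- Over a strictly henselian local flat `S`-algebra `T`, an Azumaya `R`-algebra of degree `n`
admits an `R`-compatible representation in `T ⊗[S] M_n(R)`. -/
theorem exists_hom_of_strictHenselian (lam : R ≃ₐ[S] R) (hlam : ∀ r, lam (lam r) = r)
    (hfix : RInv.IsFixedRing S R lam.toRingEquiv) {n : ℕ} (hA : AzInv.IsAzumayaDeg R A n)
    (T : Type u) [CommRing T] [HenselianLocalRing T] [IsSepClosed (IsLocalRing.ResidueField T)]
    [Algebra S T] [Module.Flat S T] :
    ∃ ρ : A →ₐ[S] T ⊗[S] Matrix (Fin n) (Fin n) R,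
      ∀ (r : R) (x : A), ρ (algebraMap R A r * x) =
        ((1 : T) ⊗ₜ[S] algebraMap R (Matrix (Fin n) (Fin n) R) r) * ρ x := by
  obtain ⟨hAz, hrk⟩ := hA
  haveI := hAz
  obtain ⟨ι, _, Ti, _, hHens, hsc, ⟨e⟩⟩ :=
    Groth.Agent.Lib.RInvDecomp22.exists_decomp (S := T) (R := T ⊗[S] R) (lamT T lam).toRingEquiv
      (lamT_involutive T lam hlam) (isFixedRing_baseChange T lam hfix)
  let g : ∀ i, R →+* Ti i := fun i =>
    (Pi.evalRingHom Ti i).comp ((e : T ⊗[S] R →+* ∀ i, Ti i).comp
      (Algebra.TensorProduct.includeRight : R →ₐ[S] T ⊗[S] R).toRingHom)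
  letI : ∀ i, Algebra R (Ti i) := fun i => (g i).toAlgebra
  have halg : ∀ (i : ι) (r : R), algebraMap R (Ti i) r = e ((1 : T) ⊗ₜ[S] r) i := fun i r => rfl
  have hψ : ∀ i, Nonempty (Ti i ⊗[R] A ≃ₐ[Ti i] Matrix (Fin n) (Fin n) (Ti i)) := by
    intro i
    haveI := hHens i
    haveI := hsc i
    haveI : IsAzumaya (Ti i) (Ti i ⊗[R] A) :=
      Groth.Agent.Lib.Azumaya16.isAzumaya_baseChange R (Ti i) A
    apply exists_algEquiv_matrix_of_strictHenselian_deg
    rw [Module.rankAtStalk_baseChange, hrk]
  let ψ : ∀ i, Ti i ⊗[R] A ≃ₐ[Ti i] Matrix (Fin n) (Fin n) (Ti i) := fun i => (hψ i).some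
  let ρi : ∀ i, A →ₐ[R] Matrix (Fin n) (Fin n) (Ti i) := fun i =>
    ((ψ i).toAlgHom.restrictScalars R).comp Algebra.TensorProduct.includeRight
  let ρP : A →ₐ[R] Matrix (Fin n) (Fin n) (∀ i, Ti i) :=
    piMatrixAlgHom' Ti ρi
  let ρring : A →+* T ⊗[S] Matrix (Fin n) (Fin n) R :=
    ((Groth.Agent.Lib.AzInvStd16.matTensor S T R (Fin n)).symm.toRingEquiv.toRingHom).comp
      ((e.symm.mapMatrix (m := Fin n)).toRingHom.comp ρP.toRingHom)
  have hρ : ∀ a, ρring a = (Groth.Agent.Lib.AzInvStd16.matTensor S T R (Fin n)).symm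
      ((ρP a).map e.symm) := fun a => rfl
  have hr1 : ∀ r : R, ρring (algebraMap R A r) =
      (1 : T) ⊗ₜ[S] algebraMap R (Matrix (Fin n) (Fin n) R) r := by
    intro r
    rw [hρ, AlgEquiv.symm_apply_eq, matTensor_one_tmul_algebraMap, AlgHom.commutes]
    ext i j
    rw [Matrix.map_apply, Matrix.algebraMap_matrix_apply, Matrix.scalar_apply,
      Matrix.diagonal_apply]
    split_ifs
    · rw [RingEquiv.symm_apply_eq]
      funext k
      rw [Pi.algebraMap_apply, halg]
    · rw [map_zero]
  have hkey : ∀ (r : R) (x : A), ρring (algebraMap R A r * x) =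
      ((1 : T) ⊗ₜ[S] algebraMap R (Matrix (Fin n) (Fin n) R) r) * ρring x := by
    intro r x
    rw [map_mul, hr1]
  refine ⟨{ ρring with commutes' := fun s => ?_ }, hkey⟩
  change ρring (algebraMap S A s) = _
  rw [IsScalarTower.algebraMap_apply S R A, hr1, ← IsScalarTower.algebraMap_apply,
    Algebra.algebraMap_eq_smul_one, TensorProduct.tmul_smul, Algebra.algebraMap_eq_smul_one,
    Algebra.TensorProduct.one_def]

end prodsplit
end Groth.Agent.Lib.ShDescent16

namespace Groth.Agent.Lib.ShDescent16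
open TensorProduct

section final
universe u v w
variable {S : Type u} {R : Type v} [CommRing S] [CommRing R] [Algebra S R]
  {A : Type w} [Ring A] [Algebra S A] [Algebra R A] [IsScalarTower S R A]

/-- **Splitting of Azumaya algebras over an étale cover of the fixed ring.** -/
theorem exists_etale_fixedRing_split (lam : R ≃ₐ[S] R) (hlam : ∀ r, lam (lam r) = r)
    (hfix : RInv.IsFixedRing S R lam.toRingEquiv) (n : ℕ) (hn : 0 < n)
    (hA : AzInv.IsAzumayaDeg R A n) :
    ∃ (S' : Type u) (_ : CommRing S') (_ : Algebra S S') (_ : Algebra.Etale S S')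
      (_ : Module.FaithfullyFlat S S') (f : S' ⊗[S] A ≃ₐ[S'] Matrix (Fin n) (Fin n) (S' ⊗[S] R)),
      ∀ (r : R) (x : S' ⊗[S] A),
        f (((1 : S') ⊗ₜ[S] algebraMap R A r) * x) =
          Matrix.scalar (Fin n) ((1 : S') ⊗ₜ[S] r) * f x := by
  haveI : NeZero n := ⟨hn.ne'⟩
  haveI : IsAzumaya R A := hA.1
  haveI : IsAzumaya R (Matrix (Fin n) (Fin n) R) := IsAzumaya.matrix R (Fin n)
  have hrk : ∀ p : PrimeSpectrum R, Module.rankAtStalk A p =
      Module.rankAtStalk (Matrix (Fin n) (Fin n) R) p := by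
    intro p
    haveI : Nontrivial R := p.nontrivial
    rw [hA.2 p, Module.rankAtStalk_eq_finrank_of_free]
    simp [Module.finrank_matrix, sq]
  obtain ⟨S', _, _, hEt, hff, f, hf, -⟩ :=
    exists_cover_of_forall_strictHenselization (S := S) (R := R) (A₁ := A)
      (A₂ := Matrix (Fin n) (Fin n) R) hrk (lam := id) (0 : A →ₗ[S] A)
      (0 : Matrix (Fin n) (Fin n) R →ₗ[S] Matrix (Fin n) (Fin n) R)
      (fun r x => by simp) (fun r x => by simp)
      (by
        intro p _ T _ _ _ _ _ _ hSH _
        haveI : HenselianLocalRing T := hSH.henselian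
        haveI : IsSepClosed (IsLocalRing.ResidueField T) := hSH.isSepClosure.sep_closed
        obtain ⟨ρ, hρ⟩ := exists_hom_of_strictHenselian lam hlam hfix hA T
        exact ⟨ρ, hρ, fun x => by simp⟩)
  refine ⟨S', inferInstance, inferInstance, hEt, hff,
    f.trans (Groth.Agent.Lib.AzInvStd16.matTensor S S' R (Fin n)), fun r x => ?_⟩
  rw [AlgEquiv.trans_apply, hf, map_mul, matTensor_one_tmul_algebraMap, AlgEquiv.trans_apply]

end final
end Groth.Agent.Lib.ShDescent16
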