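import Mathlib
import Groth.Agent.Lib.AzInvSplitS16
import Groth.Agent.Lib.AzInvUnitary16
import Groth.Agent.Lib.AzumayaSemilocalSN16
import Groth.Agent.Lib.AzInvInner16

/-!
# Local standard form of Azumaya algebras with `lam`-involution (helper16)

`R` a ring with involution `lam`, fixed ring `S`; `T` an `S`-algebra, `K = T ⊗[S] R`.

* `exists_split_of_strictHenselian`: `T ⊗ A ≃ M_n(K)` compatibly with `R`, for `T` strictly henselian.
* `tauK`: the involution transported to `M_n(K)` (a `LamInv K (M_n K) (lamT T lam)`).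
* `exists_conj_of_lamInv`: two `lamK`-involutions of an Azumaya algebra over a semilocal ring differ
  by an inner automorphism; `exists_sign_of_conj`: the twisting unit `a` satisfies `τ₀ a = ε a`,
  `lamK ε * ε = 1`; `conj_intertwine`: congruent units give isomorphic twisted involutions.
* `trK`, `StdForm t T τ'`, `exists_hom_of_stdForm` (produces the homomorphisms needed by the
  meta-theorem `exists_cover_of_forall_strictHenselization`), `stdForm_transpose`.
* **`exists_stdForm_conj`** (local structure theorem): over a strictly henselian local flat `T`,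
  `(A, t) ≅ (M_n(K), X ↦ u Xᵗ u⁻¹)` with `uᵗ = ε u`, `lam ε * ε = 1`.
-/

set_option autoImplicit false
set_option linter.style.haveILetI false
set_option linter.unusedSectionVars false

namespace Groth.Agent.Lib.ShDescent16
open TensorProduct AzInv

section split
universe u v w
variable {S : Type u} {R : Type v} [CommRing S] [CommRing R] [Algebra S R]
  {A : Type w} [Ring A] [Algebra S A] [Algebra R A] [IsScalarTower S R A]

/-- `R`-compatible splitting of an Azumaya algebra over a strictly henselian local flat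
`S`-algebra -/
theorem exists_split_of_strictHenselian (lam : R ≃ₐ[S] R) (hlam : ∀ r, lam (lam r) = r)
    (hfix : RInv.IsFixedRing S R lam.toRingEquiv) {n : ℕ} (hn : 0 < n)
    (hA : AzInv.IsAzumayaDeg R A n)
    (T : Type u) [CommRing T] [HenselianLocalRing T] [IsSepClosed (IsLocalRing.ResidueField T)]
    [Algebra S T] [Module.Flat S T] :
    ∃ F : T ⊗[S] A ≃ₐ[T] Matrix (Fin n) (Fin n) (T ⊗[S] R),
      ∀ (r : R) (x : T ⊗[S] A), F (((1 : T) ⊗ₜ[S] algebraMap R A r) * x) =
        Matrix.scalar (Fin n) ((1 : T) ⊗ₜ[S] r) * F x := by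
  haveI : NeZero n := ⟨hn.ne'⟩
  haveI : IsAzumaya R A := hA.1
  haveI : IsAzumaya R (Matrix (Fin n) (Fin n) R) := IsAzumaya.matrix R (Fin n)
  have hrk : ∀ p : PrimeSpectrum R, Module.rankAtStalk A p =
      Module.rankAtStalk (Matrix (Fin n) (Fin n) R) p := by
    intro p
    haveI : Nontrivial R := p.nontrivial
    rw [hA.2 p, Module.rankAtStalk_eq_finrank_of_free]
    simp [Module.finrank_matrix, sq]
  obtain ⟨ρ, hρ⟩ := exists_hom_of_strictHenselian lam hlam hfix hA T
  obtain ⟨f, hf, -⟩ := isoOverG_of_hom (R := R) (0 : A →ₗ[S] A)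
    (0 : Matrix (Fin n) (Fin n) R →ₗ[S] Matrix (Fin n) (Fin n) R) hrk T ρ hρ (fun x => by simp)
  refine ⟨f.trans (Groth.Agent.Lib.AzInvStd16.matTensor S T R (Fin n)), fun r x => ?_⟩
  rw [AlgEquiv.trans_apply, hf, map_mul, matTensor_one_tmul_algebraMap, AlgEquiv.trans_apply]

end split

section transport
universe u v w
variable {S : Type u} {R : Type v} [CommRing S] [CommRing R] [Algebra S R]
  {lam : R ≃ₐ[S] R} (hlam : ∀ r, lam (lam r) = r)
  {A : Type w} [Ring A] [Algebra S A] [Algebra R A] [IsScalarTower S R A]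
  (t : AzInv.LamInv R A lam)
  {T : Type*} [CommRing T] [Algebra S T] {n : ℕ}
  (F : T ⊗[S] A ≃ₐ[T] Matrix (Fin n) (Fin n) (T ⊗[S] R))
  (hF : ∀ (r : R) (x : T ⊗[S] A), F (((1 : T) ⊗ₜ[S] algebraMap R A r) * x) =
    Matrix.scalar (Fin n) ((1 : T) ⊗ₜ[S] r) * F x)

theorem jE_comm (c : T ⊗[S] R) (x : T ⊗[S] A) : jE S R T A c * x = x * jE S R T A c := by
  induction c using TensorProduct.induction_on with
  | zero => simp
  | add c c' hc hc' => rw [map_add, add_mul, mul_add, hc, hc']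
  | tmul a r =>
    induction x using TensorProduct.induction_on with
    | zero => simp
    | add x x' hx hx' => rw [mul_add, add_mul, hx, hx']
    | tmul b y =>
      rw [jE_tmul, Algebra.TensorProduct.tmul_mul_tmul, Algebra.TensorProduct.tmul_mul_tmul,
        mul_comm, Algebra.commutes]

theorem bc_jE (c : T ⊗[S] R) :
    t.bc S lam T (jE S R T A c) = jE S R T A (lamT T lam c) := by
  induction c using TensorProduct.induction_on with
  | zero => simp
  | add c c' hc hc' => rw [map_add, map_add, hc, hc', map_add, map_add]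
  | tmul a r =>
    rw [jE_tmul, LamInv.bc_tmul, lamT_tmul, jE_tmul, t.map_algebraMap]

include hF in
theorem F_jE_mul (c : T ⊗[S] R) (x : T ⊗[S] A) : F (jE S R T A c * x) = c • F x := by
  induction c using TensorProduct.induction_on with
  | zero => simp
  | add c c' hc hc' => rw [map_add, add_mul, map_add, hc, hc', add_smul]
  | tmul a r =>
    have h1 : jE S R T A (a ⊗ₜ[S] r) * x = a • (((1 : T) ⊗ₜ[S] algebraMap R A r) * x) := by
      rw [jE_tmul, ← smul_mul_assoc, TensorProduct.smul_tmul', smul_eq_mul, mul_one]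
    rw [h1, map_smul, hF, ← smul_mul_assoc]
    have h2 : a • Matrix.scalar (Fin n) ((1 : T) ⊗ₜ[S] r) =
        Matrix.scalar (Fin n) (a ⊗ₜ[S] r : T ⊗[S] R) := by
      ext i j
      simp only [Matrix.smul_apply, Matrix.scalar_apply, Matrix.diagonal_apply]
      split_ifs
      · rw [TensorProduct.smul_tmul', smul_eq_mul, mul_one]
      · rw [smul_zero]
    rw [h2]
    ext i j
    simp [Matrix.scalar_apply, Matrix.diagonal_mul]

include hF in
theorem F_symm_smul (c : T ⊗[S] R) (X : Matrix (Fin n) (Fin n) (T ⊗[S] R)) :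
    F.symm (c • X) = jE S R T A c * F.symm X := by
  apply F.injective
  rw [AlgEquiv.apply_symm_apply, F_jE_mul F hF, AlgEquiv.apply_symm_apply]

/-- the involution transported to `M_n(T ⊗ R)` -/
noncomputable def tauK :
    AzInv.LamInv (T ⊗[S] R) (Matrix (Fin n) (Fin n) (T ⊗[S] R)) (lamT T lam) where
  toFun X := F (t.bc S lam T (F.symm X))
  map_add' X Y := by simp only [map_add]
  map_mul' X Y := by
    rw [map_mul, Groth.Agent.Lib.AzInvUnitary16.bc_mul, map_mul]
  map_smul' c X := by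
    rw [F_symm_smul F hF, Groth.Agent.Lib.AzInvUnitary16.bc_mul, bc_jE, ← jE_comm,
      F_jE_mul F hF]
  invol' X := by
    rw [AlgEquiv.symm_apply_apply, Groth.Agent.Lib.AzInvUnitary16.bc_bc,
      AlgEquiv.apply_symm_apply]

theorem tauK_apply (X : Matrix (Fin n) (Fin n) (T ⊗[S] R)) :
    tauK t F hF X = F (t.bc S lam T (F.symm X)) := rfl

theorem tauK_F (x : T ⊗[S] A) : tauK t F hF (F x) = F (t.bc S lam T x) := by
  rw [tauK_apply, AlgEquiv.symm_apply_apply]

end transport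
end Groth.Agent.Lib.ShDescent16

namespace Groth.Agent.Lib.ShDescent16
open TensorProduct AzInv

section inner
variable {K : Type*} [CommRing K] {lamK : K → K}

/-- two `lamK`-involutions of an Azumaya algebra over a semilocal ring differ by an inner
automorphism -/
theorem exists_conj_of_lamInv [Finite (MaximalSpectrum K)] (hK : ∀ c, lamK (lamK c) = c)
    {B : Type*} [Ring B] [Algebra K B] [IsAzumaya K B] (τ τ₀ : AzInv.LamInv K B lamK) :
    ∃ a : Bˣ, ∀ X, τ X = (↑a : B) * τ₀ X * (↑a⁻¹ : B) := by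
  let σ₁ : B →ₐ[K] B :=
    { toFun := fun X => τ (τ₀ X)
      map_one' := by simp
      map_mul' := fun X Y => by rw [τ₀.map_mul, τ.map_mul]
      map_zero' := by simp
      map_add' := fun X Y => by simp
      commutes' := fun c => by rw [τ₀.map_algebraMap, τ.map_algebraMap, hK] }
  let σ₂ : B →ₐ[K] B :=
    { toFun := fun X => τ₀ (τ X)
      map_one' := by simp
      map_mul' := fun X Y => by rw [τ.map_mul, τ₀.map_mul]
      map_zero' := by simp
      map_add' := fun X Y => by simp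
      commutes' := fun c => by rw [τ.map_algebraMap, τ₀.map_algebraMap, hK] }
  let σ : B ≃ₐ[K] B := AlgEquiv.ofAlgHom σ₁ σ₂
    (by ext X; change τ (τ₀ (τ₀ (τ X))) = X; simp)
    (by ext X; change τ₀ (τ (τ (τ₀ X))) = X; simp)
  obtain ⟨a, ha⟩ :=
    Groth.Agent.Lib.AzumayaSemilocalSN16.skolem_noether_of_finite_maximalSpectrum σ
  refine ⟨a, fun X => ?_⟩
  have := ha (τ₀ X)
  change τ (τ₀ (τ₀ X)) = _ at this
  rwa [τ₀.invol] at this

/-- the sign of an inner twist (general form) -/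
theorem exists_sign_of_conj' {B : Type*} [Ring B] [Algebra K B]
    (hcen : ∀ z : B, (∀ X, X * z = z * X) → ∃ ε : K, z = algebraMap K B ε)
    (hinj : Function.Injective (algebraMap K B))
    (τ τ₀ : AzInv.LamInv K B lamK) (a : Bˣ)
    (h : ∀ X, τ X = (↑a : B) * τ₀ X * (↑a⁻¹ : B)) :
    ∃ ε : K, τ₀ (↑a : B) = ε • (↑a : B) ∧ lamK ε * ε = 1 := by
  -- `z = τ₀ a * a⁻¹` is central
  set z : B := τ₀ (↑a : B) * (↑a⁻¹ : B) with hz
  have hzinv' : z * ((↑a : B) * τ₀ (↑a⁻¹ : B)) = 1 := by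
    rw [hz, mul_assoc, ← mul_assoc (↑a⁻¹ : B), Units.inv_mul, one_mul, τ₀.map_units_inv']
  have hcomm : ∀ X : B, X * z = z * X := by
    intro X
    have h1 : τ (τ X) = X := τ.invol X
    rw [h, h, τ₀.map_mul, τ₀.map_mul, τ₀.invol] at h1
    have h2 : ((↑a : B) * τ₀ (↑a⁻¹ : B)) * X * z = X := by
      rw [hz]
      simp only [mul_assoc] at h1 ⊢
      exact h1
    calc X * z = (z * ((↑a : B) * τ₀ (↑a⁻¹ : B))) * X * z := by rw [hzinv', one_mul]
      _ = z * (((↑a : B) * τ₀ (↑a⁻¹ : B)) * X * z) := by simp only [mul_assoc]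
      _ = z * X := by rw [h2]
  obtain ⟨ε, hε⟩ := hcen z hcomm
  have hta : τ₀ (↑a : B) = ε • (↑a : B) := by
    have : τ₀ (↑a : B) = z * ↑a := by
      rw [hz, mul_assoc, Units.inv_mul, mul_one]
    rw [this, hε, Algebra.smul_def]
  refine ⟨ε, hta, ?_⟩
  have h3 : (↑a : B) = (lamK ε * ε) • (↑a : B) := by
    conv_lhs => rw [← τ₀.invol (↑a : B), hta, τ₀.map_smul, hta, smul_smul]
  have h4 : (1 : B) = (lamK ε * ε) • (1 : B) := by
    have := congrArg (fun M => M * (↑a⁻¹ : B)) h3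
    simp only [smul_mul_assoc, Units.mul_inv] at this
    exact this
  apply hinj
  rw [Algebra.algebraMap_eq_smul_one, ← h4, map_one]

/-- the sign of an inner twist, for matrix algebras -/
theorem exists_sign_of_conj {n : ℕ} (hn : 0 < n)
    (τ τ₀ : AzInv.LamInv K (Matrix (Fin n) (Fin n) K) lamK) (a : (Matrix (Fin n) (Fin n) K)ˣ)
    (h : ∀ X, τ X = (↑a : Matrix (Fin n) (Fin n) K) * τ₀ X * (↑a⁻¹ : Matrix (Fin n) (Fin n) K)) :
    ∃ ε : K, τ₀ (↑a : Matrix (Fin n) (Fin n) K) = ε • (↑a : Matrix (Fin n) (Fin n) K) ∧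
      lamK ε * ε = 1 := by
  refine exists_sign_of_conj' ?_ ?_ τ τ₀ a h
  · intro z hz
    have hmem : z ∈ Set.range (Matrix.scalar (Fin n)) := by
      rw [Matrix.mem_range_scalar_iff_commute_single']
      intro i j
      exact hz _
    obtain ⟨ε, hε⟩ := hmem
    exact ⟨ε, by rw [← hε]; rfl⟩
  · intro c c' hcc
    have := congrFun (congrFun hcc ⟨0, hn⟩) ⟨0, hn⟩
    simpa [Matrix.algebraMap_matrix_apply] using this

end inner

section intertwine
variable {K : Type*} [CommRing K] {lamK : K → K} {B : Type*} [Ring B] [Algebra K B]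
  (τ₀ : AzInv.LamInv K B lamK)

/-- congruent twisting units give isomorphic twisted involutions -/
theorem conj_intertwine (u u' v : Bˣ) (ε ε' : K) (hu : τ₀ ↑u = ε • (↑u : B))
    (he : lamK ε * ε = 1) (hu' : τ₀ ↑u' = ε' • (↑u' : B)) (he' : lamK ε' * ε' = 1) (c : K)
    (hc : (↑v : B) * ↑u * τ₀ ↑v = c • (↑u' : B)) (X : B) :
    (↑v : B) * τ₀.conj u ε hu he X * ↑v⁻¹ = τ₀.conj u' ε' hu' he' (↑v * X * ↑v⁻¹) := by
  rw [LamInv.conj_apply, LamInv.conj_apply, τ₀.map_mul, τ₀.map_mul]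
  -- `P = u' * (τ₀ v)⁻¹`, `v * u = c • P`
  have hVU : (↑v : B) * ↑u = c • ((↑u' : B) * τ₀ ↑v⁻¹) := by
    rw [← smul_mul_assoc, ← hc, mul_assoc, τ₀.map_units_inv', mul_one]
  have h1 : c • (((↑u⁻¹ : B) * ↑v⁻¹) * ((↑u' : B) * τ₀ ↑v⁻¹)) = 1 := by
    rw [← mul_smul_comm, ← hVU]
    simp only [mul_assoc, Units.inv_mul_cancel_left, Units.inv_mul]
  calc (↑v : B) * (↑u * τ₀ X * ↑u⁻¹) * ↑v⁻¹
      = ((↑v : B) * ↑u) * τ₀ X * ((↑u⁻¹ : B) * ↑v⁻¹) := by simp only [mul_assoc]
    _ = ((↑u' : B) * τ₀ ↑v⁻¹) * τ₀ X *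
          (c • (((↑u⁻¹ : B) * ↑v⁻¹) * ((↑u' : B) * τ₀ ↑v⁻¹))) * (τ₀ ↑v * ↑u'⁻¹) := by
        rw [hVU]
        simp only [smul_mul_assoc, mul_smul_comm, mul_assoc]
        congr 1
        simp only [← mul_assoc]
        rw [mul_assoc _ (τ₀ ↑v⁻¹) (τ₀ ↑v), τ₀.map_units_inv, mul_one, Units.mul_inv_cancel_right]
    _ = ↑u' * (τ₀ ↑v⁻¹ * (τ₀ X * τ₀ ↑v)) * ↑u'⁻¹ := by
        rw [h1, mul_one]
        simp only [mul_assoc]

end intertwine
end Groth.Agent.Lib.ShDescent16

namespace Groth.Agent.Lib.ShDescent16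
open TensorProduct AzInv

section stdform
universe u v w w'
variable {S : Type u} {R : Type v} [CommRing S] [CommRing R] [Algebra S R]
  {lam : R ≃ₐ[S] R} (hlam : ∀ r, lam (lam r) = r)
  {A : Type w} [Ring A] [Algebra S A] [Algebra R A] [IsScalarTower S R A]
  {A' : Type w'} [Ring A'] [Algebra S A'] [Algebra R A'] [IsScalarTower S R A']
  (t : AzInv.LamInv R A lam) (t' : AzInv.LamInv R A' lam)
  (T : Type*) [CommRing T] [Algebra S T] (n : ℕ)

/-- the `lam`-transpose on `M_n(T ⊗ R)` -/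
noncomputable abbrev trK :
    AzInv.LamInv (T ⊗[S] R) (Matrix (Fin n) (Fin n) (T ⊗[S] R)) (lamT T lam) :=
  AzInv.LamInv.transpose (lamT T lam) (Fin n) (lamT_involutive T lam hlam)

variable {n}

/-- over `T`, `(A, t)` is isomorphic to `(M_n(T ⊗ R), τ')`, compatibly with the `R`-structures -/
def StdForm (τ' : AzInv.LamInv (T ⊗[S] R) (Matrix (Fin n) (Fin n) (T ⊗[S] R)) (lamT T lam)) :
    Prop :=
  ∃ F : T ⊗[S] A ≃ₐ[T] Matrix (Fin n) (Fin n) (T ⊗[S] R),
    (∀ (r : R) (x : T ⊗[S] A), F (((1 : T) ⊗ₜ[S] algebraMap R A r) * x) =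
      Matrix.scalar (Fin n) ((1 : T) ⊗ₜ[S] r) * F x) ∧
    ∀ x : T ⊗[S] A, F (t.bc S lam T x) = τ' (F x)

variable {t t' T}

/-- an algebra homomorphism intertwining two standard forms gives a homomorphism
`A → T ⊗ A'` of the kind required by the descent meta-theorem -/
theorem exists_hom_of_stdForm
    {τ₁ τ₂ : AzInv.LamInv (T ⊗[S] R) (Matrix (Fin n) (Fin n) (T ⊗[S] R)) (lamT T lam)}
    (h₁ : StdForm t T τ₁) (h₂ : StdForm t' T τ₂)
    (G : Matrix (Fin n) (Fin n) (T ⊗[S] R) →ₐ[T ⊗[S] R] Matrix (Fin n) (Fin n) (T ⊗[S] R))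
    (hG : ∀ X, G (τ₁ X) = τ₂ (G X)) :
    ∃ ρ : A →ₐ[S] T ⊗[S] A',
      (∀ (r : R) (x : A), ρ (algebraMap R A r * x) =
        ((1 : T) ⊗ₜ[S] algebraMap R A' r) * ρ x) ∧
      ∀ x : A, ρ (t.linS S lam x) = (t'.linS S lam).baseChange T (ρ x) := by
  obtain ⟨F, hF1, hF2⟩ := h₁
  obtain ⟨F', hF'1, hF'2⟩ := h₂
  let ρ : A →ₐ[S] T ⊗[S] A' :=
    ((F'.symm.toAlgHom).restrictScalars S).comp
      (((G.restrictScalars T).restrictScalars S).comp
        (((F.toAlgHom).restrictScalars S).comp Algebra.TensorProduct.includeRight))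
  have hρ : ∀ a, ρ a = F'.symm (G (F ((1 : T) ⊗ₜ[S] a))) := fun a => rfl
  refine ⟨ρ, fun r x => ?_, fun x => ?_⟩
  · rw [hρ, hρ]
    apply F'.injective
    rw [AlgEquiv.apply_symm_apply, hF'1, AlgEquiv.apply_symm_apply]
    have : ((1 : T) ⊗ₜ[S] (algebraMap R A r * x) : T ⊗[S] A) =
        ((1 : T) ⊗ₜ[S] algebraMap R A r) * ((1 : T) ⊗ₜ[S] x) := by
      rw [Algebra.TensorProduct.tmul_mul_tmul, mul_one]
    rw [this, hF1]
    have hsc : ∀ (c : T ⊗[S] R) (X : Matrix (Fin n) (Fin n) (T ⊗[S] R)),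
        Matrix.scalar (Fin n) c * X = c • X := by
      intro c X
      ext i j
      simp [Matrix.scalar_apply, Matrix.diagonal_mul]
    rw [hsc, hsc, map_smul]
  · rw [hρ, hρ]
    apply F'.injective
    rw [AlgEquiv.apply_symm_apply]
    change _ = F' (t'.bc S lam T _)
    rw [hF'2, AlgEquiv.apply_symm_apply, ← hG, ← hF2, LamInv.bc_tmul]
    rfl

/-- the matrix algebra `M_n(R)` with the `lam`-transpose is in standard form over every `T` -/
theorem stdForm_transpose :
    StdForm ((AzInv.LamInv.self lam hlam).matrix (Fin n)) T (trK hlam T n) := by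
  refine ⟨Groth.Agent.Lib.AzInvStd16.matTensor S T R (Fin n), fun r x => ?_, fun x => ?_⟩
  · rw [map_mul, matTensor_one_tmul_algebraMap]
  · induction x using TensorProduct.induction_on with
    | zero => simp
    | add x y hx hy => rw [map_add, map_add, hx, hy, map_add, LamInv.map_add]
    | tmul a M =>
      ext i j
      rw [LamInv.bc_tmul, Groth.Agent.Lib.AzInvStd16.matTensor_tmul]
      change _ = lamT T lam ((Groth.Agent.Lib.AzInvStd16.matTensor S T R (Fin n)) (a ⊗ₜ[S] M) j i)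
      rw [Groth.Agent.Lib.AzInvStd16.matTensor_tmul, lamT_tmul]
      rfl

end stdform
end Groth.Agent.Lib.ShDescent16

namespace Groth.Agent.Lib.ShDescent16
open TensorProduct AzInv

section clt
universe u v w
variable {S : Type u} {R : Type v} [CommRing S] [CommRing R] [Algebra S R]
  {lam : R ≃ₐ[S] R} (hlam : ∀ r, lam (lam r) = r)
  {A : Type w} [Ring A] [Algebra S A] [Algebra R A] [IsScalarTower S R A]

/-- **Local structure theorem**: over a strictly henselian local flat `S`-algebra `T`, an Azumaya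
algebra of degree `n` with `lam`-involution is `(M_n(T ⊗ R), X ↦ u Xᵗ u⁻¹)` for a unit `u` with
`uᵗ = ε u`, `lam ε * ε = 1`. -/
theorem exists_stdForm_conj (hfix : RInv.IsFixedRing S R lam.toRingEquiv) {n : ℕ} (hn : 0 < n)
    (hA : AzInv.IsAzumayaDeg R A n) (t : AzInv.LamInv R A lam)
    (T : Type u) [CommRing T] [HenselianLocalRing T] [IsSepClosed (IsLocalRing.ResidueField T)]
    [Algebra S T] [Module.Flat S T] :
    ∃ (u : (Matrix (Fin n) (Fin n) (T ⊗[S] R))ˣ) (ε : T ⊗[S] R)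
      (hu : trK hlam T n (↑u : Matrix (Fin n) (Fin n) (T ⊗[S] R)) =
        ε • (↑u : Matrix (Fin n) (Fin n) (T ⊗[S] R)))
      (he : lamT T lam ε * ε = 1), StdForm t T ((trK hlam T n).conj u ε hu he) := by
  obtain ⟨F, hF⟩ := exists_split_of_strictHenselian lam hlam hfix hn hA T
  haveI : Finite (MaximalSpectrum (T ⊗[S] R)) :=
    Groth.Agent.Lib.AzInvInner16.finite_maximalSpectrum (S := T) (lamT T lam).toRingEquiv
      (lamT_involutive T lam hlam) (isFixedRing_baseChange T lam hfix)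
  haveI : NeZero n := ⟨hn.ne'⟩
  haveI : IsAzumaya (T ⊗[S] R) (Matrix (Fin n) (Fin n) (T ⊗[S] R)) :=
    IsAzumaya.matrix (T ⊗[S] R) (Fin n)
  obtain ⟨a, ha⟩ := exists_conj_of_lamInv (lamT_involutive T lam hlam) (tauK t F hF)
    (trK hlam T n)
  obtain ⟨ε, hε1, hε2⟩ := exists_sign_of_conj hn (tauK t F hF) (trK hlam T n) a ha
  refine ⟨a, ε, hε1, hε2, F, hF, fun x => ?_⟩
  rw [← tauK_F t F hF, ha, LamInv.conj_apply]

end clt
end Groth.Agent.Lib.ShDescent16
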