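/-
Diagonalisation of hermitian matrices over a commutative ring with involution whose fixed ring
is local (helper70).
-/
import Mathlib
import Groth.Agent.Lib.RInv88

set_option autoImplicit false
universe u v

namespace Groth.Agent.Lib.RInvHerm

open Matrix RInv Groth.Agent.Lib.RInv88

section Star

variable {A : Type v} [CommRing A] (lam : A ≃+* A)

/-- the `lam`-conjugate transpose -/
def st {m n : Type*} (v : Matrix m n A) : Matrix n m A := (v.map lam).transpose

variable {m n l : Type*}

theorem st_apply (v : Matrix m n A) (i : n) (j : m) : st lam v i j = lam (v j i) := rfl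

theorem st_mul [Fintype n] (v : Matrix m n A) (w : Matrix n l A) :
    st lam (v * w) = st lam w * st lam v := by
  unfold st
  rw [Matrix.map_mul, Matrix.transpose_mul]

theorem st_add (v w : Matrix m n A) : st lam (v + w) = st lam v + st lam w := by
  ext i j; simp [st_apply]

theorem st_sub (v w : Matrix m n A) : st lam (v - w) = st lam v - st lam w := by
  ext i j; simp [st_apply]

theorem st_neg (v : Matrix m n A) : st lam (-v) = -st lam v := by
  ext i j; simp [st_apply]

theorem st_zero : st lam (0 : Matrix m n A) = 0 := by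
  ext i j; simp [st_apply]

theorem st_smul (a : A) (v : Matrix m n A) : st lam (a • v) = lam a • st lam v := by
  ext i j; simp [st_apply]

theorem st_one [DecidableEq n] : st lam (1 : Matrix n n A) = 1 := by
  ext i j
  rw [st_apply, Matrix.one_apply, Matrix.one_apply]
  split_ifs with h1 h2 h2
  · simp
  · exact absurd h1.symm h2
  · exact absurd h2.symm h1
  · simp

theorem st_st (hlam : Function.Involutive lam) (v : Matrix m n A) : st lam (st lam v) = v := by
  ext i j; simp [st_apply, hlam (v i j)]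

theorem st_diagonal [DecidableEq n] (d : n → A) :
    st lam (Matrix.diagonal d) = Matrix.diagonal (fun i => lam (d i)) := by
  ext i j
  rw [st_apply, Matrix.diagonal_apply, Matrix.diagonal_apply]
  split_ifs with h1 h2 h2
  · rw [h2]
  · exact absurd h1.symm h2
  · exact absurd h2.symm h1
  · simp

theorem st_fromBlocks {m' n' : Type*} (a : Matrix m n A) (b : Matrix m n' A) (c : Matrix m' n A)
    (d : Matrix m' n' A) :
    st lam (Matrix.fromBlocks a b c d) =
      Matrix.fromBlocks (st lam a) (st lam c) (st lam b) (st lam d) := by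
  unfold st
  rw [Matrix.fromBlocks_map, Matrix.fromBlocks_transpose]

theorem st_submatrix {m' n' : Type*} (v : Matrix m n A) (f : m' → m) (g : n' → n) :
    st lam (v.submatrix f g) = (st lam v).submatrix g f := by
  ext i j; simp [st_apply]

theorem isUnit_st [Fintype n] [DecidableEq n] {v : Matrix n n A} (hv : IsUnit v) :
    IsUnit (st lam v) := by
  obtain ⟨w, hw⟩ := hv.exists_left_inv
  have : st lam v * st lam w = 1 := by rw [← st_mul, hw, st_one]
  exact IsUnit.of_mul_eq_one _ this

end Star

section Ring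

variable {B : Type u} {A : Type v} [CommRing B] [CommRing A] [Algebra B A]
  (lam : A ≃+* A) (hlam : Function.Involutive lam) (hB : IsFixedRing B A lam) [IsLocalRing B]
  (ε : A) (hε : ε = 1 ∨ ε = -1)

include hε in
theorem lam_eps : lam ε = ε := by rcases hε with rfl | rfl <;> simp

include hε in
theorem eps_mul_eps : ε * ε = 1 := by rcases hε with rfl | rfl <;> simp

include hlam hB hε in
/-- an `ε`-symmetric element outside the Jacobson radical is a unit -/
theorem isUnit_of_symm (s : A) (hs : lam s = ε * s) (h : s ∉ Ring.jacobson A) : IsUnit s := by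
  by_contra hnu
  obtain ⟨b, hb⟩ := exists_norm lam hlam hB s
  have hbnu : ¬ IsUnit b := by
    intro hbu
    have : IsUnit (s * lam s) := hb ▸ hbu.map (algebraMap B A)
    exact hnu (isUnit_of_mul_isUnit_left this)
  have hbm : b ∈ IsLocalRing.maximalIdeal B := (IsLocalRing.mem_maximalIdeal b).2 hbnu
  have h1 : s * lam s ∈ Ring.jacobson A := hb ▸ algebraMap_mem_jacobson lam hlam hB b hbm
  rw [hs] at h1
  have h2 : s ^ 2 ∈ Ring.jacobson A := by
    have := Ideal.mul_mem_left _ ε h1
    have e : ε * (s * (ε * s)) = (ε * ε) * s ^ 2 := by ring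
    rwa [e, eps_mul_eps ε hε, one_mul] at this
  have hrad : (Ring.jacobson A).IsRadical := by
    rw [← Ideal.jacobson_bot]; exact Ideal.isRadical_jacobson _
  exact h (hrad ⟨2, h2⟩)

/-- the `ε`-trace -/
def T (u : A) : A := u + ε * lam u

include hlam hε in
theorem lam_T (u : A) : lam (T lam ε u) = ε * T lam ε u := by
  unfold T
  rw [map_add, map_mul, hlam u, lam_eps lam ε hε, mul_add, ← mul_assoc, eps_mul_eps ε hε, one_mul,
    add_comm]

theorem T_add (u w : A) : T lam ε (u + w) = T lam ε u + T lam ε w := by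
  unfold T; rw [map_add]; ring

theorem T_sum {ι : Type*} (s : Finset ι) (f : ι → A) :
    T lam ε (∑ i ∈ s, f i) = ∑ i ∈ s, T lam ε (f i) := by
  unfold T
  rw [map_sum, Finset.mul_sum, Finset.sum_add_distrib]

include hlam in
theorem T_mem_of_mem (u : A) (hu : u ∈ Ring.jacobson A) : T lam ε u ∈ Ring.jacobson A :=
  Ideal.add_mem _ hu (Ideal.mul_mem_left _ _ (lam_mem_jacobson lam hlam u hu))

/-- in the bad case all `ε`-traces lie in the radical -/
theorem T_mem_of_bad (hid : ∀ a : A, lam a - a ∈ Ring.jacobson A)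
    (he : ε + 1 ∈ Ring.jacobson A) (u : A) : T lam ε u ∈ Ring.jacobson A := by
  have e : T lam ε u = (ε + 1) * lam u - (lam u - u) := by unfold T; ring
  rw [e]
  exact Ideal.sub_mem _ (Ideal.mul_mem_right _ _ he) (hid u)

/-- in the good case some `ε`-trace is outside the radical -/
theorem exists_T_notMem_of_good
    (hgood : (∃ a : A, lam a - a ∉ Ring.jacobson A) ∨ ε + 1 ∉ Ring.jacobson A) :
    ∃ w : A, T lam ε w ∉ Ring.jacobson A := by
  by_cases he : ε + 1 ∈ Ring.jacobson A
  · rcases hgood with ⟨a, ha⟩ | h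
    · refine ⟨-a, fun hT => ha ?_⟩
      have e : lam a - a = T lam ε (-a) + (ε + 1) * lam a := by unfold T; rw [map_neg]; ring
      rw [e]
      exact Ideal.add_mem _ hT (Ideal.mul_mem_right _ _ he)
    · exact absurd he h
  · refine ⟨1, ?_⟩
    have : T lam ε 1 = ε + 1 := by unfold T; rw [map_one]; ring
    rwa [this]

end Ring

section Herm

variable {B : Type u} {A : Type v} [CommRing B] [CommRing A] [Algebra B A]
  (lam : A ≃+* A) (hlam : Function.Involutive lam) (hB : IsFixedRing B A lam) [IsLocalRing B]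
  (ε : A) (hε : ε = 1 ∨ ε = -1)

variable {n : Type*} [Fintype n] [DecidableEq n]

theorem herm_apply {h : Matrix n n A} (herm : ε • st lam h = h) (i j : n) :
    h i j = ε * lam (h j i) := by
  have := congrFun (congrFun herm i) j
  rw [Matrix.smul_apply, st_apply, smul_eq_mul] at this
  exact this.symm

include hε in
theorem herm_diag {h : Matrix n n A} (herm : ε • st lam h = h) (i : n) :
    lam (h i i) = ε * h i i := by
  have := herm_apply lam ε herm i i
  calc lam (h i i) = (ε * ε) * lam (h i i) := by rw [eps_mul_eps ε hε, one_mul]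
    _ = ε * (ε * lam (h i i)) := by ring
    _ = ε * h i i := by rw [← this]

include hlam in
theorem herm_congr {m : Type*} [Fintype m] [DecidableEq m] {h : Matrix n n A}
    (herm : ε • st lam h = h) (v : Matrix n m A) :
    ε • st lam (st lam v * h * v) = st lam v * h * v := by
  rw [st_mul, st_mul, st_st lam hlam, ← Matrix.mul_smul, ← Matrix.smul_mul, herm, Matrix.mul_assoc]

include hε in
theorem st_eq_of_herm {h : Matrix n n A} (herm : ε • st lam h = h) : st lam h = ε • h := by
  conv_rhs => rw [← herm]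
  rw [smul_smul, eps_mul_eps ε hε, one_smul]

/-- congruent to a diagonal matrix -/
def Diagble (h : Matrix n n A) : Prop :=
  ∃ v : Matrix n n A, IsUnit v ∧ ∃ d : n → A, st lam v * h * v = Matrix.diagonal d

theorem Diagble.of_congr {h P : Matrix n n A} (hP : IsUnit P)
    (hd : Diagble lam (st lam P * h * P)) : Diagble lam h := by
  obtain ⟨v, hv, d, e⟩ := hd
  refine ⟨P * v, hP.mul hv, d, ?_⟩
  rw [st_mul, ← e]
  simp only [Matrix.mul_assoc]

theorem Diagble.of_reindex {m : Type*} [Fintype m] [DecidableEq m] {h : Matrix n n A} (e : n ≃ m)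
    (hd : Diagble lam (Matrix.reindex e e h)) : Diagble lam h := by
  obtain ⟨v, hv, d, hvd⟩ := hd
  refine ⟨v.submatrix e e, (Matrix.isUnit_submatrix_equiv e e).2 hv, d ∘ e, ?_⟩
  have hh : h = (Matrix.reindex e e h).submatrix e e := by
    ext i j; simp
  rw [st_submatrix]
  conv_lhs => rw [hh]
  rw [Matrix.submatrix_mul_equiv, Matrix.submatrix_mul_equiv, hvd, Matrix.submatrix_diagonal_equiv]

theorem Diagble.of_subsingleton [Subsingleton n] (h : Matrix n n A) : Diagble lam h := by
  refine ⟨1, isUnit_one, fun i => h i i, ?_⟩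
  rw [st_one, Matrix.one_mul, Matrix.mul_one]
  ext i j
  rw [Matrix.diagonal_apply]
  rw [if_pos (Subsingleton.elim i j), Subsingleton.elim j i]

end Herm

section Find

variable {B : Type u} {A : Type v} [CommRing B] [CommRing A] [Algebra B A]
  (lam : A ≃+* A) (hlam : Function.Involutive lam) (hB : IsFixedRing B A lam) [IsLocalRing B]
  (ε : A) (hε : ε = 1 ∨ ε = -1)

variable {n : Type*} [Fintype n] [DecidableEq n]

theorem st_single {m' n' : Type*} [DecidableEq m'] [DecidableEq n'] (i : m') (j : n') (c : A) :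
    st lam (Matrix.single i j c) = Matrix.single j i (lam c) := by
  unfold st
  rw [Matrix.map_single, Matrix.transpose_single]

theorem isUnit_transvection {i j : n} (hij : i ≠ j) (c : A) :
    IsUnit (Matrix.transvection i j c) := by
  apply IsUnit.of_mul_eq_one (Matrix.transvection i j (-c))
  rw [Matrix.transvection_mul_transvection_same _ _ hij, add_neg_cancel, Matrix.transvection_zero]

theorem congr_transvection_apply (h : Matrix n n A) (i j : n) (c : A) :
    (st lam (Matrix.transvection j i c) * h * Matrix.transvection j i c) i i =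
      h i i + h i j * c + lam c * h j i + lam c * h j j * c := by
  unfold Matrix.transvection
  rw [st_add, st_one, st_single, Matrix.add_mul, Matrix.one_mul, Matrix.add_mul, Matrix.mul_add,
    Matrix.mul_one, Matrix.mul_add, Matrix.mul_one, Matrix.single_mul_mul_single]
  simp only [Matrix.add_apply, Matrix.mul_single_apply_same, Matrix.single_mul_apply_same,
    Matrix.single_apply_same]
  ring

include hlam hB hε in
theorem exists_isUnit_diag_of_good [Nonempty n] {h : Matrix n n A} (hh : IsUnit h)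
    (herm : ε • st lam h = h) (hgood : ∃ w : A, T lam ε w ∉ Ring.jacobson A) :
    ∃ P : Matrix n n A, IsUnit P ∧ ∃ i₀ : n, IsUnit ((st lam P * h * P) i₀ i₀) := by
  by_cases hd : ∃ i, h i i ∉ Ring.jacobson A
  · obtain ⟨i, hi⟩ := hd
    refine ⟨1, isUnit_one, i, ?_⟩
    rw [st_one, Matrix.one_mul, Matrix.mul_one]
    exact isUnit_of_symm lam hlam hB ε hε _ (herm_diag lam ε hε herm i) hi
  · push Not at hd
    obtain ⟨i₀⟩ := ‹Nonempty n›
    obtain ⟨w, hw⟩ := hgood
    obtain ⟨g, hg⟩ := hh.exists_right_inv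
    have hsum : ∑ j, h i₀ j * g j i₀ = 1 := by
      have := congrFun (congrFun hg i₀) i₀
      rwa [Matrix.mul_apply, Matrix.one_apply_eq] at this
    have hw' : w = ∑ j, h i₀ j * (g j i₀ * w) := by
      simp_rw [← mul_assoc]
      rw [← Finset.sum_mul, hsum, one_mul]
    have : ∃ j, T lam ε (h i₀ j * (g j i₀ * w)) ∉ Ring.jacobson A := by
      by_contra hall
      push Not at hall
      apply hw
      rw [hw', T_sum]
      exact Ideal.sum_mem _ (fun j _ => hall j)
    obtain ⟨j, hj⟩ := this
    have hji : j ≠ i₀ := by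
      rintro rfl
      exact hj (T_mem_of_mem lam hlam ε _ (Ideal.mul_mem_right _ _ (hd j)))
    refine ⟨Matrix.transvection j i₀ (g j i₀ * w), isUnit_transvection hji _, i₀, ?_⟩
    apply isUnit_of_symm lam hlam hB ε hε _
      (herm_diag lam ε hε (herm_congr lam hlam ε herm _) i₀)
    rw [congr_transvection_apply]
    intro hmem
    apply hj
    have e : h i₀ i₀ + h i₀ j * (g j i₀ * w) + lam (g j i₀ * w) * h j i₀ +
        lam (g j i₀ * w) * h j j * (g j i₀ * w) =
        T lam ε (h i₀ j * (g j i₀ * w)) +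
          (h i₀ i₀ + lam (g j i₀ * w) * h j j * (g j i₀ * w)) := by
      unfold T
      rw [herm_apply lam ε herm j i₀]
      simp only [map_mul]
      ring
    rw [e] at hmem
    have h2 : h i₀ i₀ + lam (g j i₀ * w) * h j j * (g j i₀ * w) ∈ Ring.jacobson A :=
      Ideal.add_mem _ (hd i₀)
        (Ideal.mul_mem_right _ _ (Ideal.mul_mem_left _ _ (hd j)))
    exact (Ideal.add_mem_iff_left _ h2).1 hmem

end Find

section Split

variable {A : Type v} [CommRing A]
  (lam : A ≃+* A) (hlam : Function.Involutive lam)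
  (ε : A) (hε : ε = 1 ∨ ε = -1)

variable {m n : Type*} [Fintype m] [DecidableEq m] [Fintype n] [DecidableEq n]

theorem herm_fromBlocks_iff {a : Matrix m m A} {b : Matrix m n A} {c : Matrix n m A}
    {d : Matrix n n A} :
    ε • st lam (Matrix.fromBlocks a b c d) = Matrix.fromBlocks a b c d ↔
      ε • st lam a = a ∧ ε • st lam c = b ∧ ε • st lam b = c ∧ ε • st lam d = d := by
  rw [st_fromBlocks, Matrix.fromBlocks_smul, Matrix.fromBlocks_inj]

include hlam in
theorem split {a : Matrix m m A} {b : Matrix m n A} {c : Matrix n m A} {d : Matrix n n A}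
    (herm : ε • st lam (Matrix.fromBlocks a b c d) = Matrix.fromBlocks a b c d)
    (hu : IsUnit (Matrix.fromBlocks a b c d)) (ha : IsUnit a) :
    IsUnit (d - c * a⁻¹ * b) ∧ ε • st lam (d - c * a⁻¹ * b) = d - c * a⁻¹ * b ∧
      ∃ v : Matrix (m ⊕ n) (m ⊕ n) A, IsUnit v ∧
        st lam v * Matrix.fromBlocks a b c d * v = Matrix.fromBlocks a 0 0 (d - c * a⁻¹ * b) := by
  have hadet : IsUnit a.det := (Matrix.isUnit_iff_isUnit_det a).1 ha
  set X : Matrix m n A := -(a⁻¹ * b) with hX
  set v : Matrix (m ⊕ n) (m ⊕ n) A := Matrix.fromBlocks 1 X 0 1 with hv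
  have hvu : IsUnit v := Matrix.isUnit_fromBlocks_zero₂₁.2 ⟨isUnit_one, isUnit_one⟩
  have hcomp : st lam v * Matrix.fromBlocks a b c d * v =
      Matrix.fromBlocks a (a * X + b) (st lam X * a + c)
        ((st lam X * a + c) * X + (st lam X * b + d)) := by
    rw [hv, st_fromBlocks, st_one, st_one, st_zero, Matrix.fromBlocks_multiply,
      Matrix.fromBlocks_multiply]
    simp only [Matrix.one_mul, Matrix.zero_mul, add_zero, Matrix.mul_one, Matrix.mul_zero]
  have h12 : a * X + b = 0 := by
    rw [hX, Matrix.mul_neg, ← Matrix.mul_assoc, Matrix.mul_nonsing_inv a hadet, Matrix.one_mul,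
      neg_add_cancel]
  have hN := herm_congr lam hlam ε herm v
  rw [hcomp, h12, herm_fromBlocks_iff] at hN
  obtain ⟨-, -, h21, -⟩ := hN
  rw [st_zero, smul_zero] at h21
  have hstX : st lam X = -(c * a⁻¹) := by
    have h1 : st lam X * a = -c := eq_neg_of_add_eq_zero_left h21.symm
    calc st lam X = st lam X * (a * a⁻¹) := by rw [Matrix.mul_nonsing_inv a hadet, Matrix.mul_one]
      _ = (st lam X * a) * a⁻¹ := by rw [Matrix.mul_assoc]
      _ = -(c * a⁻¹) := by rw [h1, Matrix.neg_mul]
  have h22 : (st lam X * a + c) * X + (st lam X * b + d) = d - c * a⁻¹ * b := by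
    rw [← h21, Matrix.zero_mul, zero_add, hstX, Matrix.neg_mul]
    abel
  rw [h22, h12, ← h21] at hcomp
  have hNu : IsUnit (Matrix.fromBlocks a 0 0 (d - c * a⁻¹ * b)) := by
    rw [← hcomp]
    exact ((isUnit_st lam hvu).mul hu).mul hvu
  have hN' := herm_congr lam hlam ε herm v
  rw [hcomp, herm_fromBlocks_iff] at hN'
  exact ⟨(Matrix.isUnit_fromBlocks_zero₂₁.1 hNu).2, hN'.2.2.2, v, hvu, hcomp⟩

end Split

section Assemble

variable {A : Type v} [CommRing A]
  (lam : A ≃+* A) (hlam : Function.Involutive lam)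
  (ε : A) (hε : ε = 1 ∨ ε = -1)

variable {m n : Type*} [Fintype m] [DecidableEq m] [Fintype n] [DecidableEq n]

theorem isUnit_iff_of_unique [Unique m] (a : Matrix m m A) :
    IsUnit a ↔ IsUnit (a default default) := by
  rw [Matrix.isUnit_iff_isUnit_det, Matrix.det_unique]

theorem Diagble.fromBlocks_of [Subsingleton m] {a : Matrix m m A} {S : Matrix n n A}
    (hS : Diagble lam S) : Diagble lam (Matrix.fromBlocks a 0 0 S) := by
  obtain ⟨v, hv, d, e⟩ := hS
  refine ⟨Matrix.fromBlocks 1 0 0 v, Matrix.isUnit_fromBlocks_zero₂₁.2 ⟨isUnit_one, hv⟩,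
    Sum.elim (fun i => a i i) d, ?_⟩
  rw [st_fromBlocks, st_one, st_zero, st_zero, Matrix.fromBlocks_multiply,
    Matrix.fromBlocks_multiply, ← Matrix.fromBlocks_diagonal]
  simp only [Matrix.one_mul, Matrix.zero_mul, add_zero, Matrix.mul_one, Matrix.mul_zero, zero_add]
  rw [e]
  congr 1
  ext i j
  rw [Matrix.diagonal_apply, if_pos (Subsingleton.elim i j), Subsingleton.elim j i]

include hlam in
theorem Diagble.of_split [Subsingleton m] {a : Matrix m m A} {b : Matrix m n A}
    {c : Matrix n m A} {d : Matrix n n A}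
    (herm : ε • st lam (Matrix.fromBlocks a b c d) = Matrix.fromBlocks a b c d)
    (hu : IsUnit (Matrix.fromBlocks a b c d)) (ha : IsUnit a)
    (hS : Diagble lam (d - c * a⁻¹ * b)) : Diagble lam (Matrix.fromBlocks a b c d) := by
  obtain ⟨-, -, v, hv, e⟩ := split lam hlam ε herm hu ha
  apply Diagble.of_congr lam hv
  rw [e]
  exact Diagble.fromBlocks_of lam hS

end Assemble

section Bad

variable {B : Type u} {A : Type v} [CommRing B] [CommRing A] [Algebra B A]
  (lam : A ≃+* A) (hlam : Function.Involutive lam) (hB : IsFixedRing B A lam) [IsLocalRing B]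
  (ε : A) (hε : ε = 1 ∨ ε = -1)

variable {n : Type*} [Fintype n] [DecidableEq n]

include hlam hε in
/-- in the bad case a hermitian matrix with diagonal in the radical is alternating mod radical -/
theorem alt_mem (hid : ∀ a : A, lam a - a ∈ Ring.jacobson A) (he : ε + 1 ∈ Ring.jacobson A)
    {S : Matrix n n A} (herm : ε • st lam S = S) (hSd : ∀ j, S j j ∈ Ring.jacobson A)
    (x : Matrix n PUnit.{1} A) :
    (st lam x * S * x) PUnit.unit PUnit.unit ∈ Ring.jacobson A := by
  induction x using Matrix.induction_on' with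
  | h_zero =>
    rw [Matrix.mul_zero]
    exact Ideal.zero_mem _
  | h_add p q hp hq =>
    have e1 : st lam (p + q) * S * (p + q) =
        st lam p * S * p + st lam q * S * q + (st lam p * S * q + st lam q * S * p) := by
      rw [st_add, Matrix.add_mul, Matrix.add_mul, Matrix.mul_add, Matrix.mul_add]
      abel
    have e2 : st lam q * S * p = ε • st lam (st lam p * S * q) := by
      rw [st_mul, st_mul, st_st lam hlam, st_eq_of_herm lam ε hε herm, Matrix.smul_mul,
        Matrix.mul_smul, Matrix.mul_assoc, smul_smul, eps_mul_eps ε hε, one_smul]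
    rw [e1, e2]
    simp only [Matrix.add_apply, Matrix.smul_apply, st_apply, smul_eq_mul]
    exact Ideal.add_mem _ (Ideal.add_mem _ hp hq) (T_mem_of_bad lam ε hid he _)
  | h_std_basis i j c =>
    rw [st_single, Matrix.single_mul_mul_single]
    obtain rfl : j = PUnit.unit := rfl
    rw [Matrix.single_apply_same]
    exact Ideal.mul_mem_right _ _ (Ideal.mul_mem_left _ _ (hSd i))

end Bad

section Bad2

variable {B : Type u} {A : Type v} [CommRing B] [CommRing A] [Algebra B A]
  (lam : A ≃+* A) (hlam : Function.Involutive lam) (hB : IsFixedRing B A lam) [IsLocalRing B]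
  (ε : A) (hε : ε = 1 ∨ ε = -1)

variable {n : Type*} [Fintype n] [DecidableEq n]

theorem notMem_jacobson_of_isUnit [Nontrivial A] {x : A} (hx : IsUnit x) :
    x ∉ Ring.jacobson A := by
  intro hJ
  have : Ring.jacobson A = ⊤ := Ideal.eq_top_of_isUnit_mem _ hJ hx
  exact (Ring.jacobson_lt_top A).ne this

include hlam hB hε in
theorem resplit (hid : ∀ a : A, lam a - a ∈ Ring.jacobson A) (he : ε + 1 ∈ Ring.jacobson A)
    {a : Matrix PUnit.{1} PUnit.{1} A} {S : Matrix n n A}
    (herma : ε • st lam a = a) (hermS : ε • st lam S = S) (hau : IsUnit a) (hSu : IsUnit S)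
    (hSd : ∀ j, S j j ∈ Ring.jacobson A) (j₀ : n) :
    ∃ P : Matrix (PUnit.{1} ⊕ n) (PUnit.{1} ⊕ n) A, IsUnit P ∧
      ∃ (a' : Matrix PUnit.{1} PUnit.{1} A) (b' : Matrix PUnit.{1} n A)
        (c' : Matrix n PUnit.{1} A),
        st lam P * Matrix.fromBlocks a 0 0 S * P = Matrix.fromBlocks a' b' c' S ∧ IsUnit a' ∧
        (S - c' * a'⁻¹ * b') j₀ j₀ ∉ Ring.jacobson A := by
  haveI : Nontrivial A := nontrivial_of_nontrivial lam hB
  have hSdet : IsUnit S.det := (Matrix.isUnit_iff_isUnit_det S).1 hSu
  set ρ : Matrix PUnit.{1} n A := Matrix.single PUnit.unit j₀ (1 : A) with hρ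
  set c₁ : Matrix n PUnit.{1} A := st lam (ρ * S⁻¹) with hc₁
  have hstc : st lam c₁ = ρ * S⁻¹ := st_st lam hlam _
  have hb' : st lam c₁ * S = ρ := by
    rw [hstc, Matrix.mul_assoc, Matrix.nonsing_inv_mul S hSdet, Matrix.mul_one]
  set P : Matrix (PUnit.{1} ⊕ n) (PUnit.{1} ⊕ n) A := Matrix.fromBlocks 1 0 c₁ 1 with hP
  have hcomp : st lam P * Matrix.fromBlocks a 0 0 S * P =
      Matrix.fromBlocks (a + st lam c₁ * S * c₁) (st lam c₁ * S) (S * c₁) S := by
    rw [hP, st_fromBlocks, st_one, st_one, st_zero, Matrix.fromBlocks_multiply,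
      Matrix.fromBlocks_multiply]
    simp only [Matrix.one_mul, Matrix.zero_mul, add_zero, Matrix.mul_one, Matrix.mul_zero,
      zero_add]
  have hermM : ε • st lam (Matrix.fromBlocks a 0 0 S) = Matrix.fromBlocks a 0 0 S := by
    rw [herm_fromBlocks_iff]
    exact ⟨herma, by rw [st_zero, smul_zero], by rw [st_zero, smul_zero], hermS⟩
  have hermN := herm_congr lam hlam ε hermM P
  rw [hcomp, herm_fromBlocks_iff] at hermN
  obtain ⟨herma', -, h2, -⟩ := hermN
  rw [hb'] at h2
  -- the new corner is a unit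
  have hau' : IsUnit (a PUnit.unit PUnit.unit) := (isUnit_iff_of_unique a).1 hau
  have ha'u : IsUnit (a + st lam c₁ * S * c₁) := by
    rw [isUnit_iff_of_unique]
    apply isUnit_of_symm lam hlam hB ε hε _ (herm_diag lam ε hε herma' _)
    intro hJ
    have h3 : (st lam c₁ * S * c₁) PUnit.unit PUnit.unit ∈ Ring.jacobson A :=
      alt_mem lam hlam ε hε hid he hermS hSd c₁
    rw [Matrix.add_apply] at hJ
    exact notMem_jacobson_of_isUnit hau' ((Ideal.add_mem_iff_left _ h3).1 hJ)
  set a' : Matrix PUnit.{1} PUnit.{1} A := a + st lam c₁ * S * c₁ with ha'def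
  refine ⟨P, Matrix.isUnit_fromBlocks_zero₁₂.2 ⟨isUnit_one, isUnit_one⟩,
    a', st lam c₁ * S, S * c₁, hcomp, ha'u, ?_⟩
  rw [hb', ← h2]
  have hinvu : IsUnit (a'⁻¹ PUnit.unit PUnit.unit) := by
    have : IsUnit a'⁻¹ := by
      rw [Matrix.isUnit_nonsing_inv_iff]; exact ha'u
    exact (isUnit_iff_of_unique _).1 this
  have hentry : ((ε • st lam ρ) * a'⁻¹ * ρ) j₀ j₀ = ε * a'⁻¹ PUnit.unit PUnit.unit := by
    simp [Matrix.mul_apply, st_apply, hρ]
  rw [Matrix.sub_apply, hentry]
  intro hJ
  have h4 : ε * a'⁻¹ PUnit.unit PUnit.unit ∈ Ring.jacobson A := by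
    have := Ideal.sub_mem _ (hSd j₀) hJ
    rwa [sub_sub_cancel] at this
  have hεu : IsUnit ε := IsUnit.of_mul_eq_one ε (eps_mul_eps ε hε)
  exact notMem_jacobson_of_isUnit (hεu.mul hinvu) h4

end Bad2

section Main

variable {B : Type u} {A : Type v} [CommRing B] [CommRing A] [Algebra B A]
  (lam : A ≃+* A) (hlam : Function.Involutive lam) (hB : IsFixedRing B A lam) [IsLocalRing B]
  (ε : A) (hε : ε = 1 ∨ ε = -1)

include hlam hB hε in
theorem diag_of_inv : ∀ (n : ℕ) (h : Matrix (Fin n) (Fin n) A), IsUnit h → ε • st lam h = h →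
    (n = 0 ∨ ((∃ a : A, lam a - a ∉ Ring.jacobson A) ∨ ε + 1 ∉ Ring.jacobson A) ∨
      ∃ i, h i i ∉ Ring.jacobson A) →
    Diagble lam h := by
  intro n
  induction n with
  | zero =>
    intro h _ _ _
    exact Diagble.of_subsingleton lam h
  | succ n ih =>
    intro h hh herm hinv
    obtain ⟨P, hP, i₀, hu⟩ : ∃ P : Matrix (Fin (n + 1)) (Fin (n + 1)) A, IsUnit P ∧
        ∃ i₀, IsUnit ((st lam P * h * P) i₀ i₀) := by
      rcases hinv with h0 | hgood | ⟨i, hi⟩
      · exact absurd h0 (Nat.succ_ne_zero n)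
      · exact exists_isUnit_diag_of_good lam hlam hB ε hε hh herm
          (exists_T_notMem_of_good lam ε hgood)
      · refine ⟨1, isUnit_one, i, ?_⟩
        rw [st_one, Matrix.one_mul, Matrix.mul_one]
        exact isUnit_of_symm lam hlam hB ε hε _ (herm_diag lam ε hε herm i) hi
    apply Diagble.of_congr lam hP
    have hh₁u : IsUnit (st lam P * h * P) := ((isUnit_st lam hP).mul hh).mul hP
    have herm₁ : ε • st lam (st lam P * h * P) = st lam P * h * P := herm_congr lam hlam ε herm P
    generalize st lam P * h * P = h₁ at hu hh₁u herm₁ ⊢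
    -- reindex
    let e : Fin (n + 1) ≃ PUnit.{1} ⊕ Fin n :=
      ((finSuccEquiv' i₀).trans (Equiv.optionEquivSumPUnit (Fin n))).trans (Equiv.sumComm _ _)
    have he₀ : e.symm (Sum.inl PUnit.unit) = i₀ := by simp [e]
    apply Diagble.of_reindex lam e
    have hMu : IsUnit (Matrix.reindex e e h₁) := by
      rw [Matrix.reindex_apply]
      exact (Matrix.isUnit_submatrix_equiv _ _).2 hh₁u
    have hermM : ε • st lam (Matrix.reindex e e h₁) = Matrix.reindex e e h₁ := by
      ext i j
      rw [Matrix.smul_apply, st_apply, smul_eq_mul, Matrix.reindex_apply, Matrix.submatrix_apply,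
        Matrix.submatrix_apply]
      exact (herm_apply lam ε herm₁ _ _).symm
    have hM11 : (Matrix.reindex e e h₁) (Sum.inl PUnit.unit) (Sum.inl PUnit.unit) = h₁ i₀ i₀ := by
      rw [Matrix.reindex_apply, Matrix.submatrix_apply, he₀]
    generalize Matrix.reindex e e h₁ = M at hMu hermM hM11 ⊢
    rw [← Matrix.fromBlocks_toBlocks M] at hMu hermM ⊢
    have hau : IsUnit M.toBlocks₁₁ := by
      rw [isUnit_iff_of_unique]
      show IsUnit (M (Sum.inl PUnit.unit) (Sum.inl PUnit.unit))
      rw [hM11]; exact hu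
    obtain ⟨hSu, hermS, v, hv, hvM⟩ := split lam hlam ε hermM hMu hau
    have hermM' := herm_congr lam hlam ε hermM v
    have hM'u : IsUnit (st lam v * Matrix.fromBlocks M.toBlocks₁₁ M.toBlocks₁₂ M.toBlocks₂₁
      M.toBlocks₂₂ * v) := ((isUnit_st lam hv).mul hMu).mul hv
    apply Diagble.of_congr lam hv
    rw [hvM] at hermM' hM'u ⊢
    generalize M.toBlocks₂₂ - M.toBlocks₂₁ * M.toBlocks₁₁⁻¹ * M.toBlocks₁₂ = S at *
    generalize M.toBlocks₁₁ = a at *
    by_cases hn : n = 0
    · exact Diagble.fromBlocks_of lam (ih S hSu hermS (Or.inl hn))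
    by_cases hgood : (∃ a : A, lam a - a ∉ Ring.jacobson A) ∨ ε + 1 ∉ Ring.jacobson A
    · exact Diagble.fromBlocks_of lam (ih S hSu hermS (Or.inr (Or.inl hgood)))
    by_cases hd : ∃ j, S j j ∉ Ring.jacobson A
    · exact Diagble.fromBlocks_of lam (ih S hSu hermS (Or.inr (Or.inr hd)))
    -- the bad case: re-split
    push Not at hgood hd
    obtain ⟨hid, he⟩ := hgood
    have herma : ε • st lam a = a := ((herm_fromBlocks_iff lam ε).1 hermM').1
    obtain ⟨P₂, hP₂, a', b', c', hcomp, ha'u, hentry⟩ :=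
      resplit lam hlam hB ε hε hid he herma hermS hau hSu hd ⟨0, Nat.pos_of_ne_zero hn⟩
    apply Diagble.of_congr lam hP₂
    have hermN := herm_congr lam hlam ε hermM' P₂
    have hNu : IsUnit (st lam P₂ * Matrix.fromBlocks a 0 0 S * P₂) :=
      ((isUnit_st lam hP₂).mul hM'u).mul hP₂
    rw [hcomp] at hermN hNu ⊢
    obtain ⟨hS'u, hermS', -⟩ := split lam hlam ε hermN hNu ha'u
    apply Diagble.of_split lam hlam ε hermN hNu ha'u
    exact ih _ hS'u hermS' (Or.inr (Or.inr ⟨_, hentry⟩))

end Main

section AltDet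

/-- an alternating matrix of odd size has determinant zero -/
theorem det_eq_zero_of_alt {R : Type*} [CommRing R] {n : ℕ} (hn : Odd n)
    (M : Matrix (Fin n) (Fin n) R) (hM : ∀ i j, M i j = -M j i) (hd : ∀ i, M i i = 0) :
    M.det = 0 := by
  let G : Matrix (Fin n) (Fin n) (MvPolynomial (Fin n × Fin n) ℤ) :=
    Matrix.of fun i j => if i < j then MvPolynomial.X (i, j)
      else if j < i then -MvPolynomial.X (j, i) else 0
  have hGt : Gᵀ = -G := by
    ext i j
    simp only [Matrix.transpose_apply, Matrix.neg_apply, G, Matrix.of_apply]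
    rcases lt_trichotomy i j with h | h | h
    · simp [h, not_lt.2 h.le]
    · subst h; simp
    · simp [h, not_lt.2 h.le]
  have hdet : G.det = 0 := by
    have h1 : G.det = -G.det := by
      conv_lhs => rw [← Matrix.det_transpose, hGt, Matrix.det_neg, Fintype.card_fin,
        hn.neg_one_pow, neg_one_mul]
    have h2 : (2 : MvPolynomial (Fin n × Fin n) ℤ) * G.det = 0 := by linear_combination h1
    exact (mul_eq_zero.1 h2).resolve_left two_ne_zero
  let φ : MvPolynomial (Fin n × Fin n) ℤ →+* R :=
    MvPolynomial.eval₂Hom (Int.castRingHom R) (fun p => M p.1 p.2)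
  have hφ : φ.mapMatrix G = M := by
    ext i j
    simp only [RingHom.mapMatrix_apply, Matrix.map_apply, G, Matrix.of_apply]
    rcases lt_trichotomy i j with h | h | h
    · simp [h, φ]
    · subst h; simp [hd]
    · simp [h, not_lt.2 h.le, φ]
      exact (hM i j).symm
  rw [← hφ, ← RingHom.map_det, hdet, map_zero]

end AltDet

section Final

variable {B : Type u} {A : Type v} [CommRing B] [CommRing A] [Algebra B A]
  (lam : A ≃+* A) (hlam : Function.Involutive lam) (hB : IsFixedRing B A lam) [IsLocalRing B]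
  (ε : A) (hε : ε = 1 ∨ ε = -1)

include hB in
theorem exists_diag_notMem (hid : ∀ a : A, lam a - a ∈ Ring.jacobson A)
    (he : ε + 1 ∈ Ring.jacobson A) {n : ℕ} (hn : Odd n) {h : Matrix (Fin n) (Fin n) A}
    (hh : IsUnit h) (herm : ε • st lam h = h) : ∃ i, h i i ∉ Ring.jacobson A := by
  by_contra hall
  push Not at hall
  haveI : Nontrivial A := nontrivial_of_nontrivial lam hB
  have h1 : (Ideal.Quotient.mk (Ring.jacobson A)) ε = -1 := by
    rw [eq_neg_iff_add_eq_zero, ← map_one (Ideal.Quotient.mk (Ring.jacobson A)), ← map_add]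
    exact Ideal.Quotient.eq_zero_iff_mem.2 he
  have h2 : ∀ x : A, (Ideal.Quotient.mk (Ring.jacobson A)) (lam x) =
      (Ideal.Quotient.mk (Ring.jacobson A)) x := by
    intro x
    rw [← sub_eq_zero, ← map_sub]
    exact Ideal.Quotient.eq_zero_iff_mem.2 (hid x)
  have hdet : ((Ideal.Quotient.mk (Ring.jacobson A)).mapMatrix h).det = 0 := by
    apply det_eq_zero_of_alt hn
    · intro i j
      simp only [RingHom.mapMatrix_apply, Matrix.map_apply]
      rw [herm_apply lam ε herm i j, map_mul, h1, h2, neg_one_mul]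
    · intro i
      simp only [RingHom.mapMatrix_apply, Matrix.map_apply]
      exact Ideal.Quotient.eq_zero_iff_mem.2 (hall i)
  rw [← RingHom.map_det] at hdet
  exact notMem_jacobson_of_isUnit ((Matrix.isUnit_iff_isUnit_det h).1 hh)
    (Ideal.Quotient.eq_zero_iff_mem.1 hdet)

include hlam hB hε in
/-- diagonalisation of hermitian matrices -/
theorem exists_diagonal (n : ℕ) (h : Matrix (Fin n) (Fin n) A)
    (hh : IsUnit h) (herm : ε • (h.map lam).transpose = h)
    (hcase : (∃ a : A, lam a - a ∉ Ring.jacobson A) ∨ ε + 1 ∉ Ring.jacobson A ∨ Odd n) :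
    ∃ v : Matrix (Fin n) (Fin n) A, IsUnit v ∧
      ∃ d : Fin n → A, (v.map lam).transpose * h * v = Matrix.diagonal d := by
  by_cases hgood : (∃ a : A, lam a - a ∉ Ring.jacobson A) ∨ ε + 1 ∉ Ring.jacobson A
  · exact diag_of_inv lam hlam hB ε hε n h hh herm (Or.inr (Or.inl hgood))
  · have hodd : Odd n := by
      rcases hcase with h1 | h2 | h3
      · exact absurd (Or.inl h1) hgood
      · exact absurd (Or.inr h2) hgood
      · exact h3
    push Not at hgood
    exact diag_of_inv lam hlam hB ε hε n h hh herm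
      (Or.inr (Or.inr (exists_diag_notMem lam hB ε hgood.1 hgood.2 hodd hh herm)))

end Final

end Groth.Agent.Lib.RInvHerm
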