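import Mathlib

/-!
# Descending étale / smooth algebras through (weak) directed colimits of rings (helper96)

A *weak colimit system* is a family of rings `G i` with ring maps `g i : G i →+* A` such that
* (`lift`) every finite subset of `A` lies in the range of a single `g i`;
* (`kill`) every finite subset of the kernel of `g i` is killed by a ring map `h : G i →+* G j`
  compatible with the maps to `A`.
This is what one gets from a directed system of rings with jointly surjective maps to `A` whose
kernels die in the system (`isWeakColim_of_directed`), even if the transition maps are not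
functorial.

Main results:
* `exists_lift_subalgebra_fg`: a finitely generated `ℤ`-subalgebra of `A` lifts to some `G j`.
* `exists_etale_descent`, `exists_smooth_descent`: an étale (smooth) `A`-algebra is the base
  change of an étale (smooth) `G j`-algebra for some `j` (via Mathlib's
  `Algebra.Etale.exists_subalgebra_fg`).
-/

set_option autoImplicit false
universe u v w

namespace Groth.Agent.Lib.ColimDescent96

open TensorProduct

variable {ι : Type v} (G : ι → Type u) [∀ i, CommRing (G i)] {A : Type w} [CommRing A]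
  (g : ∀ i, G i →+* A)

/-- A weak colimit system of rings. -/
structure IsWeakColim : Prop where
  lift : ∀ T : Finset A, ∃ i, ∀ a ∈ T, ∃ x : G i, g i x = a
  kill : ∀ (i : ι) (T : Finset (G i)), (∀ x ∈ T, g i x = 0) →
    ∃ (j : ι) (h : G i →+* G j), (g j).comp h = g i ∧ ∀ x ∈ T, h x = 0

variable {G g}

/-- A directed system with jointly surjective maps to `A` and dying kernels is a weak colimit
system (no functoriality of the transition maps is needed). -/
theorem isWeakColim_of_directed [Preorder ι] [IsDirected ι (· ≤ ·)] [Nonempty ι]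
    (f : ∀ i j, i ≤ j → (G i →+* G j)) (hg : ∀ i j (h : i ≤ j), (g j).comp (f i j h) = g i)
    (hsurj : ∀ a : A, ∃ i, ∃ x : G i, g i x = a)
    (hker : ∀ i (x : G i), g i x = 0 → ∃ j, ∃ h : i ≤ j, f i j h x = 0) :
    IsWeakColim G g := by
  classical
  constructor
  · intro T
    induction T using Finset.induction_on with
    | empty => exact ⟨Classical.arbitrary ι, by simp⟩
    | insert a T _ ih =>
      obtain ⟨i, hi⟩ := ih
      obtain ⟨i', x', hx'⟩ := hsurj a
      obtain ⟨k, hik, hi'k⟩ := exists_ge_ge i i'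
      refine ⟨k, fun b hb => ?_⟩
      rcases Finset.mem_insert.1 hb with rfl | hb
      · exact ⟨f i' k hi'k x', by rw [← hx', ← hg i' k hi'k]; rfl⟩
      · obtain ⟨x, hx⟩ := hi b hb
        exact ⟨f i k hik x, by rw [← hx, ← hg i k hik]; rfl⟩
  · intro i T
    induction T using Finset.induction_on with
    | empty => intro _; exact ⟨i, RingHom.id _, by simp, by simp⟩
    | insert a T _ ih =>
      intro hT
      obtain ⟨j, h, hh, hk⟩ := ih (fun x hx => hT x (Finset.mem_insert_of_mem hx))
      have ha : g j (h a) = 0 := by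
        have := RingHom.congr_fun hh a
        rw [RingHom.comp_apply] at this
        rw [this]; exact hT a (Finset.mem_insert_self a T)
      obtain ⟨j', hjj', hj'⟩ := hker j (h a) ha
      refine ⟨j', (f j j' hjj').comp h, ?_, fun x hx => ?_⟩
      · rw [← RingHom.comp_assoc, hg j j' hjj', hh]
      · rcases Finset.mem_insert.1 hx with rfl | hx
        · exact hj'
        · rw [RingHom.comp_apply, hk x hx, map_zero]

/-- Finitely many elements of `A` lift to a common stage (as a function). -/
theorem IsWeakColim.exists_lift_fun (hW : IsWeakColim G g) {n : ℕ} (a : Fin n → A) :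
    ∃ (i : ι) (x : Fin n → G i), ∀ t, g i (x t) = a t := by
  classical
  obtain ⟨i, hi⟩ := hW.lift (Finset.univ.image a)
  choose x hx using fun t => hi (a t) (Finset.mem_image_of_mem a (Finset.mem_univ t))
  exact ⟨i, x, hx⟩

/-- A ring map from a finitely presented `ℤ`-algebra to `A` lifts to some stage. -/
theorem IsWeakColim.exists_lift_of_finitePresentation (hW : IsWeakColim G g) {P : Type*}
    [CommRing P] [Algebra.FinitePresentation ℤ P] (φ : P →+* A) :
    ∃ (j : ι) (l : P →+* G j), (g j).comp l = φ := by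
  classical
  obtain ⟨n, f, hf, hK⟩ := Algebra.FinitePresentation.out (R := ℤ) (A := P)
  obtain ⟨i, x, hx⟩ := hW.exists_lift_fun (fun t => φ (f (MvPolynomial.X t)))
  let ψ : MvPolynomial (Fin n) ℤ →+* G i := MvPolynomial.eval₂Hom (Int.castRingHom (G i)) x
  have hψ : (g i).comp ψ = φ.comp (f : MvPolynomial (Fin n) ℤ →+* P) := by
    apply MvPolynomial.ringHom_ext
    · intro r
      simp
    · intro t
      simp [ψ, hx]
  obtain ⟨S, hS⟩ := hK
  have hSker : ∀ k ∈ S, f k = 0 := by
    intro k hk
    have : k ∈ RingHom.ker f.toRingHom := hS ▸ Ideal.subset_span hk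
    exact this
  obtain ⟨j, h, hh, hkill⟩ := hW.kill i (S.image ψ) (by
    intro y hy
    obtain ⟨k, hk, rfl⟩ := Finset.mem_image.1 hy
    have := RingHom.congr_fun hψ k
    rw [RingHom.comp_apply] at this
    rw [this, RingHom.comp_apply]
    show φ (f k) = 0
    rw [hSker k hk, map_zero])
  have hker : ∀ p ∈ RingHom.ker (f : MvPolynomial (Fin n) ℤ →+* P), (h.comp ψ) p = 0 := by
    intro p hp
    have hp' : p ∈ Ideal.span (S : Set (MvPolynomial (Fin n) ℤ)) := by
      rw [hS]; exact hp
    have hle : Ideal.span (S : Set (MvPolynomial (Fin n) ℤ)) ≤ RingHom.ker (h.comp ψ) := by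
      rw [Ideal.span_le]
      intro k hk
      show (h.comp ψ) k = 0
      rw [RingHom.comp_apply]
      exact hkill _ (Finset.mem_image_of_mem ψ hk)
    exact hle hp'
  have hfsurj : Function.Surjective (f : MvPolynomial (Fin n) ℤ →+* P) := hf
  refine ⟨j, RingHom.liftOfSurjective (f : MvPolynomial (Fin n) ℤ →+* P) hfsurj ⟨h.comp ψ, hker⟩, ?_⟩
  apply RingHom.ext
  intro p
  obtain ⟨q, rfl⟩ := hfsurj p
  rw [RingHom.comp_apply]
  have h1 : RingHom.liftOfSurjective (f : MvPolynomial (Fin n) ℤ →+* P) hfsurj ⟨h.comp ψ, hker⟩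
      ((f : MvPolynomial (Fin n) ℤ →+* P) q) = (h.comp ψ) q :=
    RingHom.liftOfRightInverse_comp_apply _ _ _ _ q
  rw [h1, RingHom.comp_apply]
  have h2 := RingHom.congr_fun hh (ψ q)
  rw [RingHom.comp_apply] at h2
  rw [h2]
  have h3 := RingHom.congr_fun hψ q
  rw [RingHom.comp_apply, RingHom.comp_apply] at h3
  exact h3

section Descent

variable {ι : Type v} {G : ι → Type u} [∀ i, CommRing (G i)] {A : Type u} [CommRing A]
  {g : ∀ i, G i →+* A}

/-- A finitely generated `ℤ`-subalgebra of `A` lifts to some stage. -/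
theorem IsWeakColim.exists_lift_subalgebra_fg (hW : IsWeakColim G g) (A₀ : Subalgebra ℤ A)
    (hfg : A₀.FG) : ∃ (j : ι) (l : A₀ →+* G j), (g j).comp l = (A₀.val : A₀ →+* A) := by
  have h1 : Algebra.FiniteType ℤ A₀ := (Subalgebra.fg_iff_finiteType A₀).1 hfg
  have h2 : Algebra.FinitePresentation ℤ A₀ := Algebra.FinitePresentation.of_finiteType.1 h1
  exact hW.exists_lift_of_finitePresentation (A₀.val : A₀ →+* A)

/-- An étale algebra over a weak colimit of rings descends to some stage. -/
theorem IsWeakColim.exists_etale_descent (hW : IsWeakColim G g) (B : Type u) [CommRing B]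
    [Algebra A B] [Algebra.Etale A B] :
    ∃ (i : ι) (Bi : Type u) (_ : CommRing Bi) (_ : Algebra (G i) Bi), Algebra.Etale (G i) Bi ∧
      letI : Algebra (G i) A := (g i).toAlgebra
      Nonempty (B ≃ₐ[A] A ⊗[G i] Bi) := by
  obtain ⟨A₀, B₀, _, _, hfg, hE, ⟨e⟩⟩ := Algebra.Etale.exists_subalgebra_fg ℤ A B
  obtain ⟨j, l, hl⟩ := hW.exists_lift_subalgebra_fg A₀ hfg
  let _ : Algebra A₀ (G j) := l.toAlgebra
  let _ : Algebra (G j) A := (g j).toAlgebra
  have : IsScalarTower A₀ (G j) A :=
    IsScalarTower.of_algebraMap_eq (fun a => (RingHom.congr_fun hl a).symm)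
  refine ⟨j, G j ⊗[A₀] B₀, inferInstance, inferInstance, inferInstance, ⟨e.trans ?_⟩⟩
  exact (Algebra.TensorProduct.cancelBaseChange A₀ (G j) A A B₀).symm

/-- A smooth algebra over a weak colimit of rings descends to some stage. -/
theorem IsWeakColim.exists_smooth_descent (hW : IsWeakColim G g) (B : Type u) [CommRing B]
    [Algebra A B] [Algebra.Smooth A B] :
    ∃ (i : ι) (Bi : Type u) (_ : CommRing Bi) (_ : Algebra (G i) Bi), Algebra.Smooth (G i) Bi ∧
      letI : Algebra (G i) A := (g i).toAlgebra
      Nonempty (B ≃ₐ[A] A ⊗[G i] Bi) := by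
  obtain ⟨A₀, B₀, _, _, hfg, hE, ⟨e⟩⟩ := Algebra.Smooth.exists_subalgebra_fg ℤ A B
  obtain ⟨j, l, hl⟩ := hW.exists_lift_subalgebra_fg A₀ hfg
  let _ : Algebra A₀ (G j) := l.toAlgebra
  let _ : Algebra (G j) A := (g j).toAlgebra
  have : IsScalarTower A₀ (G j) A :=
    IsScalarTower.of_algebraMap_eq (fun a => (RingHom.congr_fun hl a).symm)
  refine ⟨j, G j ⊗[A₀] B₀, inferInstance, inferInstance, inferInstance, ⟨e.trans ?_⟩⟩
  exact (Algebra.TensorProduct.cancelBaseChange A₀ (G j) A A B₀).symm

end Descent

end Groth.Agent.Lib.ColimDescent96
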