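import Groth.Prelude.Def_PBC
import Mathlib.RingTheory.Flat.EquationalCriterion
import Mathlib.RingTheory.RingHom.Flat
import Mathlib.CategoryTheory.Filtered.Basic
import Mathlib.CategoryTheory.Limits.Types.Filtered
import Mathlib.CategoryTheory.Limits.Preserves.Over
import Mathlib.Algebra.Category.Ring.FilteredColimits

set_option autoImplicit false
open CategoryTheory CategoryTheory.Limits
universe u

namespace Groth.Agent.Lib.IndEtale

/-- A ring map which is a "filtered colimit" (in an elementwise sense) of flat ring maps is flat. -/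
theorem flat_of_filtered_system {J : Type*} [Category J] [IsFiltered J]
    {R S : Type*} [CommRing R] [CommRing S] (u : R →+* S)
    (Rj Sj : J → Type*) [∀ j, CommRing (Rj j)] [∀ j, CommRing (Sj j)]
    (uj : ∀ j, Rj j →+* Sj j) (huj : ∀ j, (uj j).Flat)
    (φ : ∀ j, Rj j →+* R) (ψ : ∀ j, Sj j →+* S)
    (hsq : ∀ j, u.comp (φ j) = (ψ j).comp (uj j))
    (ρ : ∀ {i j : J}, (i ⟶ j) → Rj i →+* Rj j) (μ : ∀ {i j : J}, (i ⟶ j) → Sj i →+* Sj j)
    (hρ : ∀ {i j : J} (f : i ⟶ j), (φ j).comp (ρ f) = φ i)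
    (hμ : ∀ {i j : J} (f : i ⟶ j), (ψ j).comp (μ f) = ψ i)
    (hρμ : ∀ {i j : J} (f : i ⟶ j), (uj j).comp (ρ f) = (μ f).comp (uj i))
    (hR : ∀ r : R, ∃ j x, φ j x = r)
    (hS : ∀ s : S, ∃ j x, ψ j x = s)
    (hS0 : ∀ j (x : Sj j), ψ j x = 0 → ∃ (k : J) (f : j ⟶ k), μ f x = 0) :
    u.Flat := by
  classical
  let := u.toAlgebra
  show Module.Flat R S
  refine Module.Flat.of_forall_isTrivialRelation ?_
  intro l f x h
  choose jf f0 hf0 using fun i => hR (f i)
  choose jx x0 hx0 using fun i => hS (x i)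
  obtain ⟨j, hj⟩ := IsFiltered.sup_objs_exists (Finset.univ.image jf ∪ Finset.univ.image jx)
  have af : ∀ i, jf i ⟶ j := fun i =>
    (hj (Finset.mem_union_left _ (Finset.mem_image_of_mem _ (Finset.mem_univ i)))).some
  have ax : ∀ i, jx i ⟶ j := fun i =>
    (hj (Finset.mem_union_right _ (Finset.mem_image_of_mem _ (Finset.mem_univ i)))).some
  let f1 : Fin l → Rj j := fun i => ρ (af i) (f0 i)
  let x1 : Fin l → Sj j := fun i => μ (ax i) (x0 i)
  have hf1 : ∀ i, φ j (f1 i) = f i := fun i => by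
    rw [← hf0 i]; exact RingHom.congr_fun (hρ (af i)) (f0 i)
  have hx1 : ∀ i, ψ j (x1 i) = x i := fun i => by
    rw [← hx0 i]; exact RingHom.congr_fun (hμ (ax i)) (x0 i)
  have hs : ψ j (∑ i, uj j (f1 i) * x1 i) = 0 := by
    rw [map_sum, ← h]
    refine Finset.sum_congr rfl (fun i _ => ?_)
    rw [map_mul, hx1, Algebra.smul_def, ← hf1 i]
    congr 1
    exact (RingHom.congr_fun (hsq j) (f1 i)).symm
  obtain ⟨k, g, hg⟩ := hS0 j _ hs
  let f2 : Fin l → Rj k := fun i => ρ g (f1 i)
  let x2 : Fin l → Sj k := fun i => μ g (x1 i)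
  have hf2 : ∀ i, φ k (f2 i) = f i := fun i => by
    rw [← hf1 i]; exact RingHom.congr_fun (hρ g) (f1 i)
  have hx2 : ∀ i, ψ k (x2 i) = x i := fun i => by
    rw [← hx1 i]; exact RingHom.congr_fun (hμ g) (x1 i)
  let := (uj k).toAlgebra
  have hflat : Module.Flat (Rj k) (Sj k) := huj k
  have hrel : ∑ i, f2 i • x2 i = 0 := by
    rw [← hg, map_sum]
    refine Finset.sum_congr rfl (fun i _ => ?_)
    rw [map_mul, Algebra.smul_def]
    congr 1
    exact RingHom.congr_fun (hρμ g) (f1 i)
  obtain ⟨n, a', y', hxa, hfa⟩ := Module.Flat.isTrivialRelation_of_sum_smul_eq_zero hrel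
  refine ⟨n, fun i m => φ k (a' i m), fun m => ψ k (y' m), fun i => ?_, fun m => ?_⟩
  · rw [← hx2 i, hxa i, map_sum]
    refine Finset.sum_congr rfl (fun m _ => ?_)
    rw [Algebra.smul_def, Algebra.smul_def, map_mul]
    congr 1
    exact (RingHom.congr_fun (hsq k) (a' i m)).symm
  · rw [← map_zero (φ k), ← hfa m, map_sum]
    refine Finset.sum_congr rfl (fun i _ => ?_)
    rw [map_mul, hf2]

/-- Concrete (elementwise) description of an ind-etale algebra: a filtered system of etale
`A`-algebras `E j` with compatible maps to `B` which are jointly surjective, and such that an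
element dying in `B` already dies at a later stage. -/
theorem exists_concrete (A B : Type u) [CommRing A] [CommRing B] [Algebra A B]
    (h : EtPBC.IsIndEtale A B) :
    ∃ (J : Type u) (_ : SmallCategory J) (_ : IsFiltered J) (E : J → Type u)
      (_ : ∀ j, CommRing (E j)) (_ : ∀ j, Algebra A (E j)) (_ : ∀ j, Algebra.Etale A (E j))
      (t : ∀ {i j : J}, (i ⟶ j) → (E i →ₐ[A] E j)) (φ : ∀ j, E j →ₐ[A] B),
      (∀ {i j : J} (f : i ⟶ j), (φ j).comp (t f) = φ i) ∧ (∀ b : B, ∃ j x, φ j x = b) ∧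
      (∀ j (x : E j), φ j x = 0 → ∃ (k : J) (f : j ⟶ k), t f x = 0) := by
  obtain ⟨J, hJ, hJf, D, c, hc, hD, ⟨e⟩⟩ := h
  let G : Under (CommRingCat.of A) ⥤ Type u := Under.forget _ ⋙ forget CommRingCat
  have hG : IsColimit (G.mapCocone c) := isColimitOfPreserves G hc
  let instAlg : ∀ j, Algebra A (D.obj j).right := fun j => (D.obj j).hom.hom.toAlgebra
  let t : ∀ {i j : J}, (i ⟶ j) → ((D.obj i).right →ₐ[A] (D.obj j).right) := fun {i j} f =>
    { toRingHom := (D.map f).right.hom
      commutes' := fun a => by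
        have := Under.w (D.map f)
        exact congrArg (fun g => g.hom a) this }
  let φ : ∀ j, (D.obj j).right →ₐ[A] B := fun j =>
    { toRingHom := (c.ι.app j ≫ e.hom).right.hom
      commutes' := fun a => by
        have := Under.w (c.ι.app j ≫ e.hom)
        exact congrArg (fun g => g.hom a) this }
  refine ⟨J, hJ, hJf, fun j => (D.obj j).right, fun j => inferInstance, instAlg, hD, t, φ,
    ?_, ?_, ?_⟩
  · intro i j f
    ext x
    have := c.w f
    show (c.ι.app j ≫ e.hom).right.hom ((D.map f).right.hom x) = (c.ι.app i ≫ e.hom).right.hom x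
    rw [← this]
    rfl
  · intro b
    obtain ⟨j, y, hy⟩ := Types.jointly_surjective_of_isColimit hG (e.inv.right b)
    refine ⟨j, y, ?_⟩
    have hy' : (c.ι.app j).right.hom y = e.inv.right.hom b := hy
    show e.hom.right.hom ((c.ι.app j).right.hom y) = b
    rw [hy']
    exact congrArg (fun g => g.right.hom b) e.inv_hom_id
  · intro j x hx
    have hx' : e.hom.right.hom ((c.ι.app j).right.hom x) = 0 := hx
    have h0 : (c.ι.app j).right.hom x = 0 := by
      have h1 := congrArg (fun g => g.right.hom ((c.ι.app j).right.hom x)) e.hom_inv_id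
      have h2 : e.inv.right.hom (e.hom.right.hom ((c.ι.app j).right.hom x)) =
          (c.ι.app j).right.hom x := h1
      rw [← h2, hx', map_zero]
    have h3 : (G.mapCocone c).ι.app j x = (G.mapCocone c).ι.app j (0 : (D.obj j).right) := by
      show (c.ι.app j).right.hom x = (c.ι.app j).right.hom 0
      rw [h0, map_zero]
    obtain ⟨k, f, hf⟩ := (Types.FilteredColimit.isColimit_eq_iff' hG x (0 : (D.obj j).right)).1 h3
    refine ⟨k, f, ?_⟩
    have hf' : (D.map f).right.hom x = (D.map f).right.hom 0 := hf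
    show (D.map f).right.hom x = 0
    rw [hf', map_zero]

end Groth.Agent.Lib.IndEtale
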