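import Groth.Agent.Lib.H15EtHull
import Groth.Agent.Lib.ColimDescent96
import Mathlib.RingTheory.Etale.Field
import Mathlib.FieldTheory.IsSepClosed
import Groth.Agent.Lib.IndEtale
import Groth.Prelude.Def_ProEtW
import Mathlib.RingTheory.Flat.FaithfullyFlat.Basic

set_option autoImplicit false
universe u

namespace Groth.Agent.Lib.H15EtRetract

open CategoryTheory CategoryTheory.Limits TensorProduct Groth.Agent.Lib.H56IndEtale
  Groth.Agent.Lib.H15EtHull Groth.Agent.Lib.ColimDescent96

/-- a nonzero étale algebra over a separably closed field has a rational point. -/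
theorem exists_point_of_etale_sepClosed (K E : Type u) [Field K] [IsSepClosed K] [CommRing E]
    [Algebra K E] [Algebra.Etale K E] [Nontrivial E] : Nonempty (E →ₐ[K] K) := by
  obtain ⟨I, _, Ai, _, _, e, h⟩ := (Algebra.Etale.iff_exists_algEquiv_prod K E).1 inferInstance
  have hI : Nonempty I := by
    by_contra hI
    rw [not_nonempty_iff] at hI
    have : Subsingleton (Π i, Ai i) := inferInstance
    have : Subsingleton E := e.injective.subsingleton
    exact not_subsingleton E this
  obtain ⟨i⟩ := hI
  have := (h i).2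
  have hbij : Function.Bijective (algebraMap K (Ai i)) := IsSepClosed.algebraMap_bijective K (Ai i)
  let e' : K ≃ₐ[K] Ai i := AlgEquiv.ofBijective (Algebra.ofId K (Ai i)) hbij
  exact ⟨(e'.symm : Ai i →ₐ[K] K).comp ((Pi.evalAlgHom K Ai i).comp (e : E →ₐ[K] Π i, Ai i))⟩


section weak

variable {A B : Type u} [CommRing A] [CommRing B] [Algebra A B]

lemma exists_lift_finset (T : Finset (Hull A B)) :
    ∃ X : Sk A B, ∀ a ∈ T, ∃ x : X.alg, ι X x = a := by
  classical
  have := H15EtHull.isFiltered_sk (A := A) (B := B)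
  induction T using Finset.induction_on with
  | empty => exact ⟨Classical.choice IsFiltered.nonempty, by simp⟩
  | insert a T _ ih =>
    obtain ⟨X, hX⟩ := ih
    obtain ⟨Y, y, hy⟩ := ι_surj a
    refine ⟨IsFiltered.max X Y, fun b hb => ?_⟩
    rcases Finset.mem_insert.1 hb with rfl | hb
    · exact ⟨(IsFiltered.rightToMax X Y).1 y, by rw [ι_map, hy]⟩
    · obtain ⟨x, hx⟩ := hX b hb
      exact ⟨(IsFiltered.leftToMax X Y).1 x, by rw [ι_map, hx]⟩

lemma exists_kill_finset (X : Sk A B) (T : Finset X.alg) (hT : ∀ x ∈ T, ι X x = 0) :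
    ∃ (Z : Sk A B) (f : X ⟶ Z), ∀ x ∈ T, f.1 x = 0 := by
  classical
  induction T using Finset.induction_on with
  | empty => exact ⟨X, 𝟙 X, by simp⟩
  | insert a T _ ih =>
    obtain ⟨Z, f, hf⟩ := ih (fun x hx => hT x (Finset.mem_insert_of_mem hx))
    have ha : ι Z (f.1 a) = ι Z 0 := by
      rw [ι_map, map_zero]
      exact hT a (Finset.mem_insert_self a T)
    obtain ⟨W, g, hg⟩ := ι_inj Z _ _ ha
    refine ⟨W, f ≫ g, fun x hx => ?_⟩
    show g.1 (f.1 x) = 0
    rcases Finset.mem_insert.1 hx with rfl | hx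
    · rw [hg, map_zero]
    · rw [hf x hx, map_zero]

theorem isWeakColim_hull :
    IsWeakColim (fun X : Sk A B => X.alg) (fun X => (ι X).toRingHom) where
  lift := exists_lift_finset
  kill := fun X T hT => by
    obtain ⟨Z, f, hf⟩ := exists_kill_finset X T hT
    exact ⟨Z, f.1.toRingHom, RingHom.ext fun x => ι_map f x, hf⟩

end weak


section retract

variable {A B : Type u} [CommRing A] [CommRing B] [Algebra A B]

/-- an étale algebra over the hull with a compatible `B`-point has a retraction. -/
theorem nonempty_retraction_of_point (D : Type u) [CommRing D] [Algebra (Hull A B) D]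
    [Algebra.Etale (Hull A B) D] (σ : D →+* B)
    (hσ : ∀ c : Hull A B, σ (algebraMap (Hull A B) D c) = θ A B c) :
    Nonempty (D →ₐ[Hull A B] Hull A B) := by
  obtain ⟨X, DX, _, _, hEtX, he⟩ := (isWeakColim_hull (A := A) (B := B)).exists_etale_descent D
  letI : Algebra X.alg (Hull A B) := (ι X).toRingHom.toAlgebra
  obtain ⟨e⟩ := he
  have halgX : ∀ x : X.alg, algebraMap X.alg (Hull A B) x = ι X x := fun _ => rfl
  -- the `A`-algebra structure on `DX`
  letI : Algebra A DX := ((algebraMap X.alg DX).comp (algebraMap A X.alg)).toAlgebra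
  have : IsScalarTower A X.alg DX :=
    IsScalarTower.of_algebraMap_eq (R := A) (S := X.alg) (A := DX) fun _ => rfl
  have : Algebra.Etale A DX := Algebra.Etale.comp A X.alg DX
  -- the map `DX → B`
  let incl : DX →+* D := (e.symm : (Hull A B ⊗[X.alg] DX) →+* D).comp
    (Algebra.TensorProduct.includeRight : DX →ₐ[X.alg] Hull A B ⊗[X.alg] DX).toRingHom
  have hincl : ∀ x : X.alg, incl (algebraMap X.alg DX x) = algebraMap (Hull A B) D (ι X x) := by
    intro x
    show e.symm ((1 : Hull A B) ⊗ₜ[X.alg] (algebraMap X.alg DX x)) = _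
    have h1 : (1 : Hull A B) ⊗ₜ[X.alg] (algebraMap X.alg DX x) =
        algebraMap (Hull A B) (Hull A B ⊗[X.alg] DX) (ι X x) := by
      rw [Algebra.TensorProduct.algebraMap_apply, Algebra.algebraMap_eq_smul_one (A := DX)]
      refine (TensorProduct.smul_tmul x (1 : Hull A B) (1 : DX)).symm.trans ?_
      rw [Algebra.smul_def, mul_one, halgX]
      rfl
    rw [h1, AlgEquiv.commutes]
  let φD : DX →ₐ[A] B :=
    { toRingHom := σ.comp incl
      commutes' := fun a => by
        show σ (incl (algebraMap X.alg DX (algebraMap A X.alg a))) = _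
        rw [hincl, hσ, θ_ι, AlgHom.commutes] }
  have hφD : ∀ x : X.alg, φD (algebraMap X.alg DX x) = X.ψ x := by
    intro x
    show σ (incl (algebraMap X.alg DX x)) = _
    rw [hincl, hσ, θ_ι]
  obtain ⟨Y, eY, heY⟩ := exists_sk φD
  let f : X ⟶ Y := ⟨eY.toAlgHom.comp (IsScalarTower.toAlgHom A X.alg DX), by
    ext x
    have := AlgHom.congr_fun heY (algebraMap X.alg DX x)
    simp only [AlgHom.comp_apply] at this ⊢
    rw [← hφD x]
    exact this⟩
  let g : DX →ₐ[X.alg] Hull A B :=
    { toRingHom := (ι Y).toRingHom.comp eY.toAlgHom.toRingHom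
      commutes' := fun x => by
        show ι Y (eY (algebraMap X.alg DX x)) = ι X x
        exact ι_map f x }
  let ρ : Hull A B ⊗[X.alg] DX →ₐ[Hull A B] Hull A B :=
    Algebra.TensorProduct.lift (AlgHom.id (Hull A B) (Hull A B)) g (fun _ _ => Commute.all _ _)
  exact ⟨ρ.comp e.toAlgHom⟩

end retract


section main

variable (A : Type u) [CommRing A]

/-- separable closure of the residue field at `p`. -/
abbrev Ksep (p : PrimeSpectrum A) : Type u := SeparableClosure p.asIdeal.ResidueField

/-- the product of the separable closures of all residue fields. -/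
abbrev Bsep : Type u := ∀ p : PrimeSpectrum A, Ksep A p

/-- the étale hull of `A` in `Bsep A`. -/
abbrev Csep : Type u := Hull A (Bsep A)

/-- the projection `Csep A → Ksep A p`. -/
noncomputable def πp (p : PrimeSpectrum A) : Csep A →+* Ksep A p :=
  (Pi.evalRingHom (Ksep A) p).comp (θ A (Bsep A)).toRingHom

lemma πp_algebraMap (p : PrimeSpectrum A) (a : A) :
    πp A p (algebraMap A (Csep A) a) = algebraMap A (Ksep A p) a := by
  show (θ A (Bsep A) (algebraMap A (Csep A) a)) p = _
  rw [AlgHom.commutes]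
  rfl

theorem hasEtaleRetractions : ProEtW.HasEtaleRetractions (Csep A) := by
  intro D _ _ hff hEt
  -- a point of `D` over each `Ksep A p`
  have hpt : ∀ p : PrimeSpectrum A, ∃ σp : D →+* Ksep A p,
      ∀ c : Csep A, σp (algebraMap (Csep A) D c) = πp A p c := by
    intro p
    letI : Algebra (Csep A) (Ksep A p) := (πp A p).toAlgebra
    obtain ⟨τ⟩ := exists_point_of_etale_sepClosed (Ksep A p) (Ksep A p ⊗[Csep A] D)
    refine ⟨(τ : Ksep A p ⊗[Csep A] D →+* Ksep A p).comp
      (Algebra.TensorProduct.includeRight : D →ₐ[Csep A] Ksep A p ⊗[Csep A] D).toRingHom, ?_⟩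
    intro c
    show τ ((1 : Ksep A p) ⊗ₜ[Csep A] (algebraMap (Csep A) D c)) = _
    have h1 : (1 : Ksep A p) ⊗ₜ[Csep A] (algebraMap (Csep A) D c) =
        algebraMap (Ksep A p) (Ksep A p ⊗[Csep A] D) (πp A p c) := by
      rw [Algebra.TensorProduct.algebraMap_apply, Algebra.algebraMap_eq_smul_one (A := D)]
      refine (TensorProduct.smul_tmul c (1 : Ksep A p) (1 : D)).symm.trans ?_
      rw [Algebra.smul_def, mul_one]
      rfl
    rw [h1, AlgHom.commutes]
    rfl
  choose σp hσp using hpt
  exact nonempty_retraction_of_point D (RingHom.pi σp) (fun c => by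
    funext p
    exact hσp p c)

theorem faithfullyFlat_Csep : Module.FaithfullyFlat A (Csep A) := by
  have hflat : Module.Flat A (Csep A) := by
    have hfil := H15EtHull.isFiltered_sk (A := A) (B := Bsep A)
    let μ : ∀ {X Y : Sk A (Bsep A)}, (X ⟶ Y) → (X.alg →+* Y.alg) := fun f => f.1.toRingHom
    have hμ : ∀ {X Y : Sk A (Bsep A)} (f : X ⟶ Y), (ι Y).toRingHom.comp (μ f) = (ι X).toRingHom :=
      fun f => RingHom.ext fun x => ι_map f x
    have hρμ : ∀ {X Y : Sk A (Bsep A)} (f : X ⟶ Y),
        (algebraMap A Y.alg).comp (RingHom.id A) = (μ f).comp (algebraMap A X.alg) :=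
      fun f => RingHom.ext fun x => (f.1.commutes x).symm
    have := Groth.Agent.Lib.IndEtale.flat_of_filtered_system (J := Sk A (Bsep A))
      (algebraMap A (Csep A))
      (fun _ => A) (fun X => X.alg) (fun X => algebraMap A X.alg)
      (fun X => by
        rw [RingHom.flat_algebraMap_iff]
        infer_instance)
      (fun _ => RingHom.id A) (fun X => (ι X).toRingHom)
      (fun X => by
        ext x
        exact ((ι X).commutes x).symm)
      (fun _ => RingHom.id A) μ
      (fun f => rfl)
      hμ hρμ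
      (fun r => ⟨Classical.choice hfil.nonempty, r, rfl⟩)
      (fun s => ι_surj s)
      (fun X x hx => by
        obtain ⟨Z, f, hf⟩ := ι_inj X x 0 (by rw [map_zero]; exact hx)
        refine ⟨Z, f, ?_⟩
        show f.1 x = 0
        rw [hf, map_zero])
    rwa [RingHom.flat_algebraMap_iff] at this
  apply Module.FaithfullyFlat.of_comap_surjective
  intro p
  refine ⟨PrimeSpectrum.comap (πp A p) ⊥, ?_⟩
  ext a
  show πp A p (algebraMap A (Csep A) a) = 0 ↔ a ∈ p.asIdeal
  rw [πp_algebraMap, IsScalarTower.algebraMap_apply A p.asIdeal.ResidueField (Ksep A p),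
    map_eq_zero_iff _ (algebraMap p.asIdeal.ResidueField (Ksep A p)).injective,
    Ideal.algebraMap_residueField_eq_zero]

/-- `S0693`. -/
theorem exists_indEtale_hasEtaleRetractions :
    ∃ (C : Type u) (_ : CommRing C) (_ : Algebra A C),
      Module.FaithfullyFlat A C ∧ EtPBC.IsIndEtale A C ∧ ProEtW.HasEtaleRetractions C :=
  ⟨Csep A, inferInstance, inferInstance, faithfullyFlat_Csep A, isIndEtale_hull A (Bsep A),
    hasEtaleRetractions A⟩

end main

end Groth.Agent.Lib.H15EtRetract
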