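import Groth.Agent.Lib.EssEtale
import Mathlib.RingTheory.Henselian
import Mathlib.RingTheory.Etale.StandardEtale
import Mathlib.RingTheory.Unramified.LocalStructure

set_option autoImplicit false
universe u

namespace Groth.Agent.Lib.EssEtaleLift

open IsLocalRing Polynomial

/-- Over a henselian local ring `B`, a residue-field-valued point of an etale algebra `C`
(over a base `A` mapping to `B`) lifts to a `B`-valued point. -/
theorem exists_algHom_lift {A C B : Type u} [CommRing A] [CommRing C] [Algebra A C]
    [Algebra.Etale A C] (q : Ideal C) [q.IsPrime] [CommRing B] [HenselianLocalRing B]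
    [Algebra A B] (χ : C →ₐ[A] ResidueField B) (hχ : ∀ x, χ x = 0 → x ∈ q) :
    ∃ σ : C →ₐ[A] B, ∀ x, residue B (σ x) = χ x := by
  obtain ⟨f, hfq, hstd⟩ := Algebra.IsEtaleAt.exists_isStandardEtale (R := A) q
  obtain ⟨P⟩ := hstd.nonempty_standardEtalePresentation
  have hχf : IsUnit (χ f) := by
    rw [isUnit_iff_ne_zero]
    exact fun h => hfq (hχ f h)
  let χ' : Localization.Away f →ₐ[A] ResidueField B :=
    IsLocalization.liftAlgHom (M := Submonoid.powers f) (f := χ) (by
      rintro ⟨_, n, rfl⟩
      simpa using hχf.pow n)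
  have hχ' : ∀ x, χ' (algebraMap C _ x) = χ x := fun x => by simp [χ']
  set xbar := χ' P.x with hxbar_def
  have hxbar : P.HasMap xbar := P.hasMap.map χ'
  obtain ⟨a₀, ha₀⟩ := residue_surjective xbar
  let res : B →ₐ[A] ResidueField B := IsScalarTower.toAlgHom A B (ResidueField B)
  have hres : ∀ b, res b = residue B b := fun _ => rfl
  have key : ∀ (p : A[X]) (b : B),
      residue B ((p.map (algebraMap A B)).eval b) = aeval (residue B b) p := by
    intro p b
    rw [Polynomial.eval_map_algebraMap]
    exact (Polynomial.aeval_algHom_apply res b p).symm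
  have hF : (P.f.map (algebraMap A B)).Monic := P.monic_f.map _
  have h1 : (P.f.map (algebraMap A B)).eval a₀ ∈ maximalIdeal B := by
    rw [← residue_eq_zero_iff, key, ha₀]
    exact hxbar.1
  have h2 : IsUnit ((P.f.map (algebraMap A B)).derivative.eval a₀) := by
    rw [← isUnit_map_iff (residue B), Polynomial.derivative_map, key, ha₀]
    exact hxbar.isUnit_derivative_f
  obtain ⟨a, ha, haa⟩ := HenselianLocalRing.is_henselian _ hF a₀ h1 h2
  have hra : residue B a = xbar := by
    rw [← ha₀, ← sub_eq_zero, ← map_sub, residue_eq_zero_iff]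
    exact haa
  have hmap : P.HasMap a := by
    refine ⟨?_, ?_⟩
    · rw [← Polynomial.eval_map_algebraMap]
      exact ha
    · rw [← isUnit_map_iff (residue B), ← Polynomial.eval_map_algebraMap, key, hra]
      exact hxbar.2
  let σ' : Localization.Away f →ₐ[A] B := (P.lift a hmap).comp P.equivRing.toAlgHom
  have hσ' : res.comp σ' = χ' := by
    apply P.hom_ext
    simp [σ', hres, hra, hxbar_def]
  refine ⟨σ'.comp (IsScalarTower.toAlgHom A C _), fun x => ?_⟩
  have := congr($hσ' (algebraMap C _ x))
  simpa [hχ', hres] using this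

/-- Existence of a local lift `A' → B` of a local map `A → B` to a henselian local ring, for an
essentially etale local `A`-algebra `A'`, inducing a prescribed map on residue fields. -/
theorem exists_local_lift {A A' B : Type u} [CommRing A] [IsLocalRing A] [CommRing A']
    [IsLocalRing A'] [Algebra A A'] [IsLocalHom (algebraMap A A')]
    (hA' : EGA4loc.IsEssentiallyEtale A A')
    [CommRing B] [HenselianLocalRing B] (ψ : A →+* B) [IsLocalHom ψ]
    (α : ResidueField A' →+* ResidueField B)
    (hα : α.comp (ResidueField.map (algebraMap A A')) = ResidueField.map ψ) :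
    ∃ ψ' : A' →+* B, IsLocalHom ψ' ∧ ψ'.comp (algebraMap A A') = ψ ∧
      ∀ x, residue B (ψ' x) = α (residue A' x) := by
  obtain ⟨C, _, _, q, _, hC, hq, ⟨e⟩⟩ := hA'
  let _ : Algebra A B := ψ.toAlgebra
  let ι : C →ₐ[A] A' :=
    e.symm.toAlgHom.comp (IsScalarTower.toAlgHom A C (Localization.AtPrime q))
  have hι : ∀ x, ι x = e.symm (algebraMap C (Localization.AtPrime q) x) := fun _ => rfl
  let χ₀ : C →+* ResidueField B := α.comp ((residue A').comp ι.toRingHom)
  have hχ₀ : ∀ x, χ₀ x = α (residue A' (ι x)) := fun _ => rfl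
  let χ : C →ₐ[A] ResidueField B :=
    { χ₀ with
      commutes' := fun a => by
        change χ₀ (algebraMap A C a) = _
        rw [hχ₀, ι.commutes, ← ResidueField.map_residue, ← RingHom.comp_apply, hα,
          ResidueField.map_residue]
        rfl }
  have hχ₁ : ∀ x, χ x = α (residue A' (ι x)) := fun _ => rfl
  have hχ : ∀ x, χ x = 0 → x ∈ q := by
    intro x hx
    rw [hχ₁, map_eq_zero_iff α α.injective, residue_eq_zero_iff] at hx
    have h2 : algebraMap C (Localization.AtPrime q) x ∈
        maximalIdeal (Localization.AtPrime q) := by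
      rw [mem_maximalIdeal, mem_nonunits_iff] at hx ⊢
      intro hu
      apply hx
      rw [hι]
      exact hu.map e.symm
    exact (IsLocalization.AtPrime.to_map_mem_maximal_iff _ q x).mp h2
  obtain ⟨σ, hσ⟩ := exists_algHom_lift q χ hχ
  have hunits : ∀ s : q.primeCompl, IsUnit (σ.toRingHom s) := by
    intro s
    change IsUnit (σ s)
    rw [← isUnit_map_iff (residue B), hσ, isUnit_iff_ne_zero]
    exact fun h => s.2 (hχ _ h)
  let ψ'' : Localization.AtPrime q →+* B :=
    IsLocalization.lift (M := q.primeCompl) (g := σ.toRingHom) hunits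
  have hψ'' : ∀ x, ψ'' (algebraMap C _ x) = σ x := fun x =>
    IsLocalization.lift_eq (M := q.primeCompl) hunits x
  let ψ' : A' →+* B := ψ''.comp (e : A' →+* Localization.AtPrime q)
  have hψ' : ∀ y, ψ' y = ψ'' (e y) := fun _ => rfl
  have hres : ∀ y, residue B (ψ' y) = α (residue A' y) := by
    have h3 : (residue B).comp ψ'' =
        (α.comp (residue A')).comp (e.symm : Localization.AtPrime q →+* A') := by
      apply IsLocalization.ringHom_ext q.primeCompl
      ext x
      simp only [RingHom.comp_apply, hψ'', hσ, hχ₁, hι]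
      rfl
    intro y
    have h4 := congr($h3 (e y))
    simp only [RingHom.comp_apply] at h4
    rw [hψ', h4]
    congr 2
    exact e.symm_apply_apply y
  refine ⟨ψ', ⟨?_⟩, ?_, hres⟩
  · intro y hy
    by_contra hny
    have h5 : y ∈ maximalIdeal A' := hny
    rw [← residue_eq_zero_iff] at h5
    have h0 : residue B (ψ' y) = 0 := by rw [hres, h5, map_zero]
    rw [residue_eq_zero_iff] at h0
    exact h0 hy
  · ext a
    rw [RingHom.comp_apply, hψ']
    have h6 : e (algebraMap A A' a) = algebraMap C (Localization.AtPrime q) (algebraMap A C a) := by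
      rw [e.commutes, IsScalarTower.algebraMap_apply A C (Localization.AtPrime q)]
    rw [h6, hψ'', σ.commutes]
    rfl

/-- Two ring maps out of an essentially etale local algebra to a local ring, agreeing on the base
and modulo the maximal ideal, are equal. -/
theorem ringHom_ext_of_residue_eq {A A' B : Type u} [CommRing A] [IsLocalRing A] [CommRing A']
    [Algebra A A'] (hA' : EGA4loc.IsEssentiallyEtale A A')
    [CommRing B] [IsLocalRing B] (ψ : A →+* B) (φ₁ φ₂ : A' →+* B)
    (h₁ : φ₁.comp (algebraMap A A') = ψ) (h₂ : φ₂.comp (algebraMap A A') = ψ)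
    (h : ∀ x, residue B (φ₁ x) = residue B (φ₂ x)) : φ₁ = φ₂ := by
  let _ : Algebra A B := ψ.toAlgebra
  have := Groth.Agent.Lib.EssEtale.formallyUnramified_of_isEssentiallyEtale hA'
  have := Groth.Agent.Lib.EssEtale.essFiniteType_of_isEssentiallyEtale hA'
  let F : A' →ₐ[A] B := { φ₁ with commutes' := fun a => congr($h₁ a) }
  let G : A' →ₐ[A] B := { φ₂ with commutes' := fun a => congr($h₂ a) }
  have hFG : F = G := Groth.Agent.Lib.EssEtale.algHom_ext_of_residue_eq F G h
  ext x
  exact congr($hFG x)

end Groth.Agent.Lib.EssEtaleLift
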