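import Mathlib
import Groth.Agent.Lib.EssEtaleLift

/-!
# Sections of smooth schemes over a henselian local ring (helper61)

`exists_algHom_of_smooth`: `A` henselian local, `C` a smooth `A`-algebra, `χ : C →ₐ[A] κ(A)`;
then `χ` lifts to an `A`-algebra map `C → A`.

`exists_section`: scheme version for `f : X ⟶ Spec A` smooth.
-/

set_option autoImplicit false
universe u
open CategoryTheory CategoryTheory.Limits AlgebraicGeometry

namespace Groth.Agent.Lib.HenselSmoothSection61

open IsLocalRing

/-- the étale case relative to a polynomial ring. -/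
theorem exists_lift_of_etale_mvPolynomial (A : Type u) [CommRing A] [HenselianLocalRing A]
    (D : Type u) [CommRing D] [Algebra A D] (n : ℕ)
    (ψ : MvPolynomial (Fin n) A →+* D) (hψ : ψ.comp MvPolynomial.C = algebraMap A D)
    (hψet : ψ.Etale) (χ : D →ₐ[A] ResidueField A) :
    ∃ σ : D →ₐ[A] A, ∀ x, residue A (σ x) = χ x := by
  -- lift the coordinates of the point
  have hsurj := residue_surjective (R := A)
  choose a ha using fun i : Fin n => hsurj (χ (ψ (MvPolynomial.X i)))
  let ev : MvPolynomial (Fin n) A →ₐ[A] A := MvPolynomial.aeval a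
  let algPD : Algebra (MvPolynomial (Fin n) A) D := ψ.toAlgebra
  let algPA : Algebra (MvPolynomial (Fin n) A) A := ev.toRingHom.toAlgebra
  have hPD : ∀ p, algebraMap (MvPolynomial (Fin n) A) D p = ψ p := fun _ => rfl
  have hPA : ∀ p, algebraMap (MvPolynomial (Fin n) A) A p = ev p := fun _ => rfl
  have het : Algebra.Etale (MvPolynomial (Fin n) A) D := hψet
  -- compatibility of the point with the `P`-structures
  have hcompat : ∀ p : MvPolynomial (Fin n) A, χ (ψ p) = residue A (ev p) := by
    intro p
    have h1 : (χ.toRingHom.comp ψ) = ((residue A).comp ev.toRingHom) := by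
      apply MvPolynomial.ringHom_ext
      · intro r
        have e1 : ψ (MvPolynomial.C r) = algebraMap A D r := congr($hψ r)
        change χ (ψ (MvPolynomial.C r)) = residue A (ev (MvPolynomial.C r))
        rw [e1, χ.commutes]
        simp only [ev, MvPolynomial.aeval_C]
        rfl
      · intro i
        change χ (ψ (MvPolynomial.X i)) = residue A (ev (MvPolynomial.X i))
        simp only [ev, MvPolynomial.aeval_X]
        exact (ha i).symm
    exact congr($h1 p)
  let χP : D →ₐ[MvPolynomial (Fin n) A] ResidueField A :=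
    { χ.toRingHom with
      commutes' := fun p => by
        change χ (ψ p) = residue A (ev p)
        exact hcompat p }
  have hχP : ∀ x, χP x = χ x := fun _ => rfl
  have hprime : (RingHom.ker χ.toRingHom).IsPrime := RingHom.ker_isPrime _
  obtain ⟨σ', hσ'⟩ := Groth.Agent.Lib.EssEtaleLift.exists_algHom_lift
    (A := MvPolynomial (Fin n) A) (C := D) (B := A) (RingHom.ker χ.toRingHom) χP
    (fun x hx => hx)
  refine ⟨{ σ'.toRingHom with
      commutes' := fun r => ?_ }, fun x => ?_⟩
  · change σ' (algebraMap A D r) = r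
    have e1 : algebraMap A D r = algebraMap (MvPolynomial (Fin n) A) D (MvPolynomial.C r) := by
      rw [hPD]; exact (congr($hψ r)).symm
    rw [e1, σ'.commutes, hPA]
    simp [ev]
  · change residue A (σ' x) = χ x
    rw [hσ', hχP]

theorem exists_algHom_of_smooth (A : Type u) [CommRing A] [HenselianLocalRing A]
    (C : Type u) [CommRing C] [Algebra A C] [Algebra.Smooth A C]
    (χ : C →ₐ[A] ResidueField A) :
    ∃ σ : C →ₐ[A] A, ∀ x, residue A (σ x) = χ x := by
  have hprime : (RingHom.ker χ.toRingHom).IsPrime := RingHom.ker_isPrime _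
  obtain ⟨g, hg, hstd⟩ :=
    Algebra.IsSmoothAt.exists_notMem_isStandardSmooth A (S := C) (RingHom.ker χ.toRingHom)
  have hχg : IsUnit (χ g) := by
    rw [isUnit_iff_ne_zero]
    exact fun h => hg h
  let χ' : Localization.Away g →ₐ[A] ResidueField A :=
    IsLocalization.liftAlgHom (M := Submonoid.powers g) (f := χ) (by
      rintro ⟨_, m, rfl⟩
      simpa using hχg.pow m)
  have hχ' : ∀ x, χ' (algebraMap C _ x) = χ x := fun x => by simp [χ']
  have hstd' : (algebraMap A (Localization.Away g)).IsStandardSmooth :=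
    RingHom.isStandardSmooth_algebraMap.mpr hstd
  obtain ⟨n, ψ, hψ, hψet⟩ := hstd'.exists_etale_mvPolynomial
  obtain ⟨σ', hσ'⟩ := exists_lift_of_etale_mvPolynomial A (Localization.Away g) n ψ hψ hψet χ'
  refine ⟨σ'.comp (IsScalarTower.toAlgHom A C _), fun x => ?_⟩
  change residue A (σ' (algebraMap C _ x)) = χ x
  rw [hσ', hχ']

/-- `A` henselian local, `f : X ⟶ Spec A` smooth: every rational point of the closed fibre
extends to a section. -/
theorem exists_section (A : Type u) [CommRing A] [HenselianLocalRing A]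
    {X : Scheme.{u}} (f : X ⟶ Spec (CommRingCat.of A)) [Smooth f]
    (t : Spec (CommRingCat.of (ResidueField A)) ⟶ X)
    (ht : t ≫ f = Spec.map (CommRingCat.ofHom (residue A))) :
    ∃ s : Spec (CommRingCat.of A) ⟶ X, s ≫ f = 𝟙 _ ∧
      Spec.map (CommRingCat.ofHom (residue A)) ≫ s = t := by
  let pt : Spec (CommRingCat.of (ResidueField A)) :=
    (⊥ : PrimeSpectrum (ResidueField A))
  obtain ⟨C, j, hj, x', hx'⟩ := X.exists_Spec_apply_eq (t pt)
  have hrange : Set.range t ⊆ Set.range j := by
    rintro _ ⟨z, rfl⟩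
    have hz : z = pt := Subsingleton.elim (α := PrimeSpectrum (ResidueField A)) _ _
    rw [hz]
    exact ⟨x', hx'⟩
  let t' : Spec (CommRingCat.of (ResidueField A)) ⟶ Spec C :=
    IsOpenImmersion.lift j t hrange
  have ht' : t' ≫ j = t := IsOpenImmersion.lift_fac j t hrange
  obtain ⟨φ, hφ⟩ := Spec.map_surjective (j ≫ f)
  obtain ⟨χ₀, hχ₀⟩ := Spec.map_surjective t'
  have hφsm : φ.hom.Smooth := by
    have : Smooth (Spec.map φ) := by rw [hφ]; infer_instance
    exact (HasRingHomProperty.Spec_iff (P := @Smooth)).mp this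
  have hcomp : φ ≫ χ₀ = CommRingCat.ofHom (residue A) := by
    apply Spec.map_injective
    rw [Spec.map_comp, hφ, hχ₀, ← Category.assoc, ht', ht]
  algebraize [φ.hom]
  have : Algebra.Smooth A C := hφsm
  let χ : C →ₐ[A] ResidueField A :=
    { χ₀.hom with
      commutes' := fun r => by
        have := congr($(hcomp).hom r)
        simp only [CommRingCat.hom_comp, RingHom.coe_comp, Function.comp_apply,
          CommRingCat.hom_ofHom] at this
        exact this }
  obtain ⟨σ, hσ⟩ := exists_algHom_of_smooth A C χ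
  have hσ1 : φ ≫ CommRingCat.ofHom σ.toRingHom = 𝟙 _ := by
    ext r
    change σ (algebraMap A C r) = r
    rw [σ.commutes]
    rfl
  have hσ2 : CommRingCat.ofHom σ.toRingHom ≫ CommRingCat.ofHom (residue A) = χ₀ := by
    ext x
    change residue A (σ x) = χ₀.hom x
    rw [hσ]
    rfl
  refine ⟨Spec.map (CommRingCat.ofHom σ.toRingHom) ≫ j, ?_, ?_⟩
  · rw [Category.assoc, ← hφ, ← Spec.map_comp, hσ1, Spec.map_id]
  · rw [← Category.assoc, ← Spec.map_comp, hσ2, hχ₀, ht']

end Groth.Agent.Lib.HenselSmoothSection61
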