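import Mathlib
import Groth.Agent.Lib.AzInvSplitS16
import Groth.Agent.Lib.H15EtRetract
import Groth.Agent.Lib.HenselSmoothSection61

/-!
# Sections of étale covers and square roots over strictly henselian local rings (helper16)

* `exists_section_of_etale_faithfullyFlat`: an étale faithfully flat algebra over a strictly
  henselian local ring `T` has a `T`-section.
* `exists_lift_of_etale_cover`: a ring map `E → T` extends along any étale faithfully flat `E → E₂`.
* `exists_sqrt_of_strict`: if units of étale `S`-algebras have square roots étale-locally, then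
  units of every (flat) strict henselization `T` of `S_p` have square roots in `T`.
-/

set_option autoImplicit false
set_option linter.style.haveILetI false
set_option linter.unusedSectionVars false

namespace Groth.Agent.Lib.ShDescent16
open TensorProduct

section lift
universe u
variable {T : Type u} [CommRing T] [HenselianLocalRing T]
  [IsSepClosed (IsLocalRing.ResidueField T)]

/-- étale faithfully flat algebras over a strictly henselian local ring have sections -/
theorem exists_section_of_etale_faithfullyFlat (T' : Type u) [CommRing T'] [Algebra T T']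
    [Algebra.Etale T T'] [Module.FaithfullyFlat T T'] : Nonempty (T' →ₐ[T] T) := by
  let k := IsLocalRing.ResidueField T
  haveI : Nontrivial (k ⊗[T] T') := by
    haveI : Nontrivial (T' ⊗[T] k) := Module.FaithfullyFlat.lTensor_nontrivial T T' k
    exact (TensorProduct.comm T k T').toEquiv.nontrivial
  obtain ⟨χ₀⟩ := Groth.Agent.Lib.H15EtRetract.exists_point_of_etale_sepClosed k (k ⊗[T] T')
  let χ : T' →ₐ[T] k := (χ₀.restrictScalars T).comp Algebra.TensorProduct.includeRight
  haveI : Algebra.Smooth T T' := inferInstance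
  obtain ⟨σ, -⟩ := Groth.Agent.Lib.HenselSmoothSection61.exists_algHom_of_smooth T T' χ
  exact ⟨σ⟩

/-- étale faithfully flat covers of an approximation lift to the strictly henselian ring -/
theorem exists_lift_of_etale_cover {E : Type u} [CommRing E] (φ : E →+* T)
    (E₂ : Type u) [CommRing E₂] [Algebra E E₂] [Algebra.Etale E E₂]
    [Module.FaithfullyFlat E E₂] :
    ∃ φ₂ : E₂ →+* T, φ₂.comp (algebraMap E E₂) = φ := by
  letI : Algebra E T := φ.toAlgebra
  obtain ⟨σ⟩ := exists_section_of_etale_faithfullyFlat (T := T) (T ⊗[E] E₂)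
  refine ⟨(σ : T ⊗[E] E₂ →+* T).comp
    (Algebra.TensorProduct.includeRight : E₂ →ₐ[E] T ⊗[E] E₂).toRingHom, ?_⟩
  ext e
  simp only [RingHom.comp_apply, AlgHom.toRingHom_eq_coe, RingHom.coe_coe,
    Algebra.TensorProduct.includeRight_apply]
  have h1 : ((1 : T) ⊗ₜ[E] algebraMap E E₂ e : T ⊗[E] E₂) = algebraMap T (T ⊗[E] E₂) (φ e) := by
    rw [Algebra.TensorProduct.algebraMap_apply, Algebra.algebraMap_self_apply,
      Algebra.algebraMap_eq_smul_one, ← TensorProduct.smul_tmul, Algebra.smul_def, mul_one]
    rfl
  rw [h1, AlgHom.commutes, Algebra.algebraMap_self_apply]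

end lift
end Groth.Agent.Lib.ShDescent16

namespace Groth.Agent.Lib.ShDescent16
open TensorProduct

section sqrt
universe u
variable (S : Type u) [CommRing S] (p : Ideal S) [p.IsPrime]
  (T : Type u) [CommRing T] [IsLocalRing T] [Algebra S T] [Algebra (Localization.AtPrime p) T]
  [IsScalarTower S (Localization.AtPrime p) T]
  [IsLocalHom (algebraMap (Localization.AtPrime p) T)]
  [hSH : Hensel.IsStrictHenselization (Localization.AtPrime p) T] [Module.Flat S T]

include p hSH in
/-- If units of étale `S`-algebras have square roots étale-locally, then units of the strict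
henselizations of `S` have square roots. -/
theorem exists_sqrt_of_strict
    (hsq : ∀ (S₁ : Type u) [CommRing S₁] [Algebra S S₁] [Algebra.Etale S S₁] (x : S₁ˣ),
      ∃ (S₂ : Type u) (_ : CommRing S₂) (_ : Algebra S₁ S₂) (_ : Algebra.Etale S₁ S₂)
        (_ : Module.FaithfullyFlat S₁ S₂) (y : S₂), y * y = algebraMap S₁ S₂ ↑x)
    (x : Tˣ) : ∃ y : T, y * y = ↑x := by
  classical
  haveI : HenselianLocalRing T := hSH.henselian
  haveI : IsSepClosed (IsLocalRing.ResidueField T) := hSH.isSepClosure.sep_closed
  obtain ⟨E, _, _, hEt, φ, hφ⟩ := exists_etale_of_finset S p T {(x : T), ((x⁻¹ : Tˣ) : T)}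
  obtain ⟨x₀, hx₀⟩ := hφ (x : T) (by simp)
  obtain ⟨x₁, hx₁⟩ := hφ ((x⁻¹ : Tˣ) : T) (by simp)
  have hφz : φ (x₀ * x₁ - 1) = 0 := by
    rw [map_sub, map_mul, map_one]
    erw [hx₀, hx₁]
    simp
  obtain ⟨s, hs, hsz⟩ := exists_kill φ (N := E) (x₀ * x₁ - 1) (by
    letI : Algebra E T := (φ : E →+* T).toAlgebra
    have : ((x₀ * x₁ - 1) ⊗ₜ[E] (1 : T) : E ⊗[E] T) = (1 : E) ⊗ₜ[E] ((x₀ * x₁ - 1) • (1 : T)) := by
      rw [← TensorProduct.smul_tmul, smul_eq_mul, mul_one]
    rw [this, Algebra.smul_def, mul_one]
    change (1 : E) ⊗ₜ[E] (φ (x₀ * x₁ - 1)) = 0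
    rw [hφz, TensorProduct.tmul_zero])
  obtain ⟨φ', hφ'⟩ := exists_away φ s hs
  have hφ'a : ∀ e : E, φ' (algebraMap E (Localization.Away s) e) = φ e := fun e => by
    rw [← hφ']; rfl
  -- `x₀` becomes a unit in `E_s`
  have hunit : algebraMap E (Localization.Away s) x₀ * algebraMap E (Localization.Away s) x₁ = 1 := by
    have hu : IsUnit (algebraMap E (Localization.Away s) s) :=
      IsLocalization.Away.algebraMap_isUnit s
    have h0 : algebraMap E (Localization.Away s) s *
        (algebraMap E (Localization.Away s) x₀ * algebraMap E (Localization.Away s) x₁ - 1) = 0 := by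
      rw [← map_mul, ← map_one (algebraMap E (Localization.Away s)), ← map_sub, ← map_mul,
        ← smul_eq_mul s, hsz, map_zero]
    have := (hu.mul_right_eq_zero).1 h0
    exact sub_eq_zero.1 this
  let xu : (Localization.Away s)ˣ := Units.mkOfMulEqOne _ _ hunit
  haveI : Algebra.Etale S (Localization.Away s) := Algebra.Etale.comp S E (Localization.Away s)
  obtain ⟨S₂, _, _, hEt₂, hff₂, y, hy⟩ := hsq (Localization.Away s) xu
  obtain ⟨φ₂, hφ₂⟩ := exists_lift_of_etale_cover (T := T) (φ' : Localization.Away s →+* T) S₂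
  refine ⟨φ₂ y, ?_⟩
  rw [← map_mul, hy]
  have : φ₂ (algebraMap (Localization.Away s) S₂ ↑xu) =
      (φ' : Localization.Away s →+* T) (↑xu : Localization.Away s) := by
    rw [← hφ₂]; rfl
  rw [this]
  change φ' (algebraMap E (Localization.Away s) x₀) = ↑x
  rw [hφ'a]
  exact hx₀

end sqrt
end Groth.Agent.Lib.ShDescent16
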