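import Mathlib
import Groth.Agent.Lib.AzInvStdForm16
import Groth.Agent.Lib.ShSqrt16
import Groth.Agent.Lib.RInvHerm
import Groth.Agent.Lib.AzInvQuad16c

/-!
# Involutions on Azumaya algebras of odd degree have the neutral type (helper16)

* `exists_unit_of_fixed`, `exists_congr_one_of_odd`: over `(K, lamK)` with local fixed ring `B` whose
  units are squares, an `ε`-hermitian unit `u` of odd size satisfies `w u wᵗ = c • 1`.
* `isAzumayaDeg_matrix_one`, `isAzumayaDeg_matrix_self`.
* `locIsoEt_of_forall_strictHenselization`: the descent meta-theorem in `AzInv.LocIsoEt` form.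
* `locIsoEt_transpose_of_odd`, **`sameType_self_of_odd`** (statement S17353).
-/

set_option autoImplicit false
set_option linter.style.haveILetI false
set_option linter.unusedSectionVars false

namespace Groth.Agent.Lib.ShDescent16
open TensorProduct AzInv Groth.Agent.Lib.RInvHerm

section herm
universe u v
variable {B : Type u} {K : Type v} [CommRing B] [CommRing K] [Algebra B K]
  (lamK : K ≃+* K) (hlamK : Function.Involutive lamK) (hB : RInv.IsFixedRing B K lamK)

include hlamK hB in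
/-- a fixed unit comes from a unit of the fixed ring -/
theorem exists_unit_of_fixed (x : K) (hx : IsUnit x) (hfx : lamK x = x) :
    ∃ b : Bˣ, algebraMap B K ↑b = x := by
  obtain ⟨b, hb⟩ := (hB.2 x).1 hfx
  obtain ⟨xu, rfl⟩ := hx
  have hfx' : lamK (↑xu⁻¹ : K) = ↑xu⁻¹ := by
    have h1 : lamK (↑xu⁻¹ : K) * (xu : K) = 1 := by
      conv_lhs => rw [← hfx]
      rw [← map_mul, Units.inv_mul, map_one]
    exact (Units.eq_inv_of_mul_eq_one_right h1)
  obtain ⟨b', hb'⟩ := (hB.2 _).1 hfx'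
  have hbb' : b * b' = 1 := by
    apply hB.1
    rw [map_mul, hb, hb', Units.mul_inv, map_one]
  exact ⟨Units.mkOfMulEqOne b b' hbb', hb⟩

variable [IsLocalRing B]

include hlamK hB in
/-- hermitian forms of odd rank (up to a scalar) are standard when units of the fixed ring are
squares -/
theorem exists_congr_one_of_odd (hsqB : ∀ x : Bˣ, ∃ y : B, y * y = ↑x) {n : ℕ} (hn : Odd n)
    (u : (Matrix (Fin n) (Fin n) K)ˣ) (ε : K)
    (hu : st lamK (↑u : Matrix (Fin n) (Fin n) K) = ε • (↑u : Matrix (Fin n) (Fin n) K))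
    (he : lamK ε * ε = 1) :
    ∃ (w : (Matrix (Fin n) (Fin n) K)ˣ) (c : K),
      (↑w : Matrix (Fin n) (Fin n) K) * (↑u : Matrix (Fin n) (Fin n) K) *
          st lamK (↑w : Matrix (Fin n) (Fin n) K) =
        c • (1 : Matrix (Fin n) (Fin n) K) := by
  classical
  obtain ⟨k, hk⟩ := hn
  set d : K := (↑u : Matrix (Fin n) (Fin n) K).det with hd
  have hdu : IsUnit d := (Matrix.isUnit_iff_isUnit_det _).1 u.isUnit
  have hdet : lamK d = ε ^ n * d := by
    have h1 := congrArg Matrix.det hu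
    rw [Matrix.det_smul, Fintype.card_fin] at h1
    rw [← h1, st, Matrix.det_transpose]
    have := RingHom.map_det (lamK : K →+* K) (↑u : Matrix (Fin n) (Fin n) K)
    rw [RingHom.mapMatrix_apply] at this
    exact this
  have he' : ε * lamK ε = 1 := by rw [mul_comm]; exact he
  have hεu : IsUnit ε := IsUnit.of_mul_eq_one _ he'
  -- `c = d ε^k` satisfies `lam c = ε c`
  set c : K := d * ε ^ k with hc
  have hcu : IsUnit c := hdu.mul (hεu.pow k)
  have hlc : lamK c = ε * c := by
    rw [hc, map_mul, map_pow, hdet, hk]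
    have : ε ^ k * lamK ε ^ k = 1 := by rw [← mul_pow, he', one_pow]
    calc ε ^ (2 * k + 1) * d * lamK ε ^ k = ε * d * ε ^ k * (ε ^ k * lamK ε ^ k) := by ring
      _ = ε * (d * ε ^ k) := by rw [this]; ring
  obtain ⟨cu, hcu'⟩ := hcu
  set ci : K := ↑cu⁻¹ with hci
  have hcci : c * ci = 1 := by rw [← hcu', hci, Units.mul_inv]
  have hlci : lamK ci * ε = ci := by
    have h1 : lamK ci * (ε * c) = 1 := by rw [← hlc, ← map_mul, mul_comm, hcci, map_one]
    calc lamK ci * ε = lamK ci * ε * (c * ci) := by rw [hcci, mul_one]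
      _ = (lamK ci * (ε * c)) * ci := by ring
      _ = ci := by rw [h1, one_mul]
  -- the hermitian matrix `h = c⁻¹ u`
  set h : Matrix (Fin n) (Fin n) K := ci • (↑u : Matrix (Fin n) (Fin n) K) with hh
  have hherm : (1 : K) • (h.map lamK).transpose = h := by
    rw [one_smul]
    change st lamK h = h
    rw [hh, st_smul, hu, smul_smul, hlci]
  have hhu : IsUnit h := by
    refine IsUnit.of_mul_eq_one (c • (↑u⁻¹ : Matrix (Fin n) (Fin n) K)) ?_
    rw [hh, smul_mul_smul_comm, Units.mul_inv, mul_comm, hcci, one_smul]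
  obtain ⟨v, hv, d', hvd⟩ := exists_diagonal lamK hlamK hB 1 (Or.inl rfl) n h hhu hherm
    (Or.inr (Or.inr ⟨k, hk⟩))
  change st lamK v * h * v = Matrix.diagonal d' at hvd
  have hsth : st lamK h = h := by rw [one_smul] at hherm; exact hherm
  -- the diagonal entries are fixed units
  have hDu : IsUnit (Matrix.diagonal d') := by
    rw [← hvd]
    exact ((isUnit_st lamK hv).mul hhu).mul hv
  have hd'u : ∀ i, IsUnit (d' i) := by
    rw [Matrix.isUnit_diagonal, Pi.isUnit_iff] at hDu
    exact hDu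
  have hd'f : ∀ i, lamK (d' i) = d' i := by
    have h1 : st lamK (Matrix.diagonal d') = Matrix.diagonal d' := by
      rw [← hvd, st_mul, st_mul, st_st lamK hlamK, hsth, mul_assoc]
    rw [st_diagonal] at h1
    intro i
    exact congrFun (Matrix.diagonal_injective h1) i
  choose b hb using fun i => exists_unit_of_fixed lamK hlamK hB (d' i) (hd'u i) (hd'f i)
  choose y hy using fun i => hsqB (b i)
  set Y : Matrix (Fin n) (Fin n) K := Matrix.diagonal (fun i => algebraMap B K (y i)) with hY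
  have hYY : Y * Y = Matrix.diagonal d' := by
    rw [hY, Matrix.diagonal_mul_diagonal]
    congr 1
    funext i
    rw [← map_mul, hy, hb]
  have hYu : IsUnit Y := isUnit_of_mul_isUnit_left (hYY ▸ hDu)
  have hstY : st lamK Y = Y := by
    rw [hY, st_diagonal]
    congr 1
    funext i
    exact (hB.2 _).2 ⟨y i, rfl⟩
  obtain ⟨Yu, hYu'⟩ := hYu
  have hstYi : st lamK (↑Yu⁻¹ : Matrix (Fin n) (Fin n) K) = ↑Yu⁻¹ := by
    have h1 : st lamK (↑Yu⁻¹ : Matrix (Fin n) (Fin n) K) * (Yu : Matrix (Fin n) (Fin n) K) = 1 := by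
      conv_lhs => rw [hYu', ← hstY, ← st_mul, ← hYu', Units.mul_inv, st_one]
    exact Units.eq_inv_of_mul_eq_one_right h1
  obtain ⟨vu, hvu⟩ := isUnit_st lamK hv
  refine ⟨Yu⁻¹ * vu, c, ?_⟩
  rw [Units.val_mul, hvu, st_mul, st_st lamK hlamK, hstYi]
  have h2 : (↑u : Matrix (Fin n) (Fin n) K) = c • h := by
    rw [hh, smul_smul, hcci, one_smul]
  rw [h2]
  simp only [Matrix.mul_smul, Matrix.smul_mul]
  congr 1
  calc (↑Yu⁻¹ : Matrix (Fin n) (Fin n) K) * st lamK v * h * (v * ↑Yu⁻¹)
      = ↑Yu⁻¹ * (st lamK v * h * v) * ↑Yu⁻¹ := by simp only [mul_assoc]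
    _ = 1 := by
      rw [hvd, ← hYY, ← hYu', ← mul_assoc, Units.inv_mul, one_mul, Units.mul_inv]

end herm
end Groth.Agent.Lib.ShDescent16

namespace Groth.Agent.Lib.ShDescent16
open TensorProduct AzInv Groth.Agent.Lib.RInvHerm

section deg
universe v w
variable (R : Type v) [CommRing R] (A : Type w) [Ring A] [Algebra R A]

theorem isAzumayaDeg_matrix_one {n : ℕ} (hA : AzInv.IsAzumayaDeg R A n) :
    AzInv.IsAzumayaDeg R (Matrix (Fin 1) (Fin 1) A) n := by
  haveI := hA.1
  refine ⟨IsAzumaya.of_AlgEquiv R A _ (Groth.Agent.Lib.AzInvQuad16.oneAlgEquiv R A).symm,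
    fun p => ?_⟩
  rw [Module.rankAtStalk_eq_of_equiv (Groth.Agent.Lib.AzInvQuad16.oneAlgEquiv R A).toLinearEquiv]
  exact hA.2 p

theorem isAzumayaDeg_matrix_self {n : ℕ} (hn : 0 < n) :
    AzInv.IsAzumayaDeg R (Matrix (Fin n) (Fin n) R) n := by
  haveI : NeZero n := ⟨hn.ne'⟩
  refine ⟨IsAzumaya.matrix R (Fin n), fun p => ?_⟩
  haveI : Nontrivial R := p.nontrivial
  rw [Module.rankAtStalk_eq_finrank_of_free]
  simp [Module.finrank_matrix, sq]

end deg

section odd
universe u v w
variable {S : Type u} {R : Type v} [CommRing S] [CommRing R] [Algebra S R]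
  {lam : R ≃ₐ[S] R} (hlam : ∀ r, lam (lam r) = r)
  {A : Type w} [Ring A] [Algebra S A] [Algebra R A] [IsScalarTower S R A]

/-- the general descent principle in `LocIsoEt` form -/
theorem locIsoEt_of_forall_strictHenselization
    {A' : Type*} [Ring A'] [Algebra S A'] [Algebra R A'] [IsScalarTower S R A'] {n : ℕ}
    (hA : AzInv.IsAzumayaDeg R A n) (hA' : AzInv.IsAzumayaDeg R A' n)
    (t : AzInv.LamInv R A lam) (t' : AzInv.LamInv R A' lam)
    (H : ∀ (p : Ideal S) [p.IsPrime] (T : Type u) [CommRing T] [IsLocalRing T] [Algebra S T]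
      [Algebra (Localization.AtPrime p) T] [IsScalarTower S (Localization.AtPrime p) T]
      [IsLocalHom (algebraMap (Localization.AtPrime p) T)]
      [Hensel.IsStrictHenselization (Localization.AtPrime p) T] [Module.Flat S T],
      ∃ ρ : A →ₐ[S] T ⊗[S] A',
        (∀ (r : R) (x : A), ρ (algebraMap R A r * x) =
          ((1 : T) ⊗ₜ[S] algebraMap R A' r) * ρ x) ∧
        ∀ x : A, ρ (t.linS S lam x) = (t'.linS S lam).baseChange T (ρ x)) :
    AzInv.LocIsoEt S lam t t' := by
  haveI := hA.1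
  haveI := hA'.1
  exact exists_cover_of_forall_strictHenselization (S := S) (R := R)
    (fun p => by rw [hA.2 p, hA'.2 p]) (lam := lam) (t.linS S lam) (t'.linS S lam)
    (fun r x => t.map_smul r x) (fun r x => t'.map_smul r x) H

/-- **Odd degree**: étale-locally on `S`, `(A, t)` is `(M_n(R), lam-transpose)`. -/
theorem locIsoEt_transpose_of_odd (hfix : RInv.IsFixedRing S R lam.toRingEquiv)
    (hsq : ∀ (S₁ : Type u) [CommRing S₁] [Algebra S S₁] [Algebra.Etale S S₁] (x : S₁ˣ),
      ∃ (S₂ : Type u) (_ : CommRing S₂) (_ : Algebra S₁ S₂) (_ : Algebra.Etale S₁ S₂)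
        (_ : Module.FaithfullyFlat S₁ S₂) (y : S₂), y * y = algebraMap S₁ S₂ ↑x)
    {n : ℕ} (hn : Odd n) (hA : AzInv.IsAzumayaDeg R A n) (t : AzInv.LamInv R A lam) :
    AzInv.LocIsoEt S lam t ((AzInv.LamInv.self lam hlam).matrix (Fin n)) := by
  refine locIsoEt_of_forall_strictHenselization hA (isAzumayaDeg_matrix_self R hn.pos) t _ ?_
  intro p _ T _ _ _ _ _ _ hSH _
  haveI : HenselianLocalRing T := hSH.henselian
  haveI : IsSepClosed (IsLocalRing.ResidueField T) := hSH.isSepClosure.sep_closed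
  obtain ⟨u, ε, hu, he, hstd⟩ := exists_stdForm_conj hlam hfix hn.pos hA t T
  obtain ⟨w, c, hw⟩ := exists_congr_one_of_odd (lamT T lam).toRingEquiv
    (lamT_involutive T lam hlam) (isFixedRing_baseChange T lam hfix)
    (exists_sqrt_of_strict S p T hsq) hn u ε hu he
  have hu1 : trK hlam T n (↑(1 : (Matrix (Fin n) (Fin n) (T ⊗[S] R))ˣ) :
      Matrix (Fin n) (Fin n) (T ⊗[S] R)) =
      (1 : T ⊗[S] R) • (↑(1 : (Matrix (Fin n) (Fin n) (T ⊗[S] R))ˣ) :
        Matrix (Fin n) (Fin n) (T ⊗[S] R)) := by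
    rw [Units.val_one, LamInv.map_one, one_smul]
  have he1 : lamT T lam (1 : T ⊗[S] R) * 1 = 1 := by rw [map_one, mul_one]
  refine exists_hom_of_stdForm hstd (stdForm_transpose hlam)
    (Groth.Agent.Lib.AzInvStd16.conjAlg (T := T ⊗[S] R) w).toAlgHom (fun X => ?_)
  have := conj_intertwine (trK hlam T n) u 1 w ε 1 hu he hu1 he1 c
    (by rw [Units.val_one]; exact hw) X
  change (↑w : Matrix (Fin n) (Fin n) (T ⊗[S] R)) * _ *
    (↑w⁻¹ : Matrix (Fin n) (Fin n) (T ⊗[S] R)) = _
  rw [this, LamInv.conj_apply, Units.val_one, inv_one, Units.val_one, one_mul, mul_one]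
  rfl

end odd
end Groth.Agent.Lib.ShDescent16

namespace Groth.Agent.Lib.ShDescent16
open TensorProduct AzInv

section odd
universe u v w
variable {S : Type u} {R : Type v} [CommRing S] [CommRing R] [Algebra S R]
  {lam : R ≃ₐ[S] R} (hlam : ∀ r, lam (lam r) = r)
  {A : Type w} [Ring A] [Algebra S A] [Algebra R A] [IsScalarTower S R A]

/-- **Odd degree ⇒ neutral type** (statement S17353). -/
theorem sameType_self_of_odd (hfix : RInv.IsFixedRing S R lam.toRingEquiv)
    (hsq : ∀ (S₁ : Type u) [CommRing S₁] [Algebra S S₁] [Algebra.Etale S S₁] (x : S₁ˣ),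
      ∃ (S₂ : Type u) (_ : CommRing S₂) (_ : Algebra S₁ S₂) (_ : Algebra.Etale S₁ S₂)
        (_ : Module.FaithfullyFlat S₁ S₂) (y : S₂), y * y = algebraMap S₁ S₂ ↑x)
    {n : ℕ} (hn : Odd n) (hA : AzInv.IsAzumayaDeg R A n) (t : AzInv.LamInv R A lam) :
    AzInv.SameType S lam t (AzInv.LamInv.self lam hlam) :=
  ⟨1, n, one_pos, hn.pos, locIsoEt_transpose_of_odd hlam hfix hsq hn
    (isAzumayaDeg_matrix_one R A hA) (t.matrix (Fin 1))⟩

end odd
end Groth.Agent.Lib.ShDescent16
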