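import Mathlib
import Groth.Agent.Lib.RInvHerm

/-!
# Skew-hermitian forms over a local ring with involution (helper16)

`K` a commutative ring with involution `lamK`, fixed ring `B`; `st lamK` (from `Lib/RInvHerm`) is the
conjugate transpose.

* `Cg lamK h h'` : `h' = (st v) h v` for an invertible `v` (congruence), with `refl/trans/reindex/
  fromBlocks`.
* `cg_two` : a `2 × 2` skew-hermitian matrix with unit off-diagonal entry is congruent to
  `J₂ = !![0, 1; -1, 0]` (needs `2` invertible, `lamK ≡ id` modulo the Jacobson radical, and square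
  roots of units of `B`).
* `exists_isUnit_off` : a transvection makes a chosen off-diagonal entry of a unimodular matrix with
  non-unit diagonal entry a unit.
* **`cg_Jc`** : over local `B`, `K` (ramified case), every unimodular skew-hermitian matrix is
  congruent to the standard alternating matrix `Jc K N`.
-/

set_option autoImplicit false
set_option linter.style.haveILetI false
set_option linter.unusedSectionVars false
set_option linter.unusedSimpArgs false

namespace Groth.Agent.Lib.SkewHerm16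
open Matrix Groth.Agent.Lib.RInvHerm

section Cg
variable {K : Type*} [CommRing K] (lamK : K ≃+* K) (hlamK : Function.Involutive lamK)
variable {I J : Type*} [Fintype I] [DecidableEq I] [Fintype J] [DecidableEq J]

/-- `h'` is congruent to `h`: `h' = vᵗ h v` for an invertible `v` -/
def Cg (h h' : Matrix I I K) : Prop :=
  ∃ v : Matrix I I K, IsUnit v ∧ st lamK v * h * v = h'

theorem Cg.refl (h : Matrix I I K) : Cg lamK h h :=
  ⟨1, isUnit_one, by rw [st_one, Matrix.one_mul, Matrix.mul_one]⟩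

theorem Cg.of_eq {h h' : Matrix I I K} (e : h = h') : Cg lamK h h' := e ▸ Cg.refl lamK h

variable {lamK}

theorem Cg.trans {h h' h'' : Matrix I I K} (h₁ : Cg lamK h h') (h₂ : Cg lamK h' h'') :
    Cg lamK h h'' := by
  obtain ⟨v, hv, e⟩ := h₁
  obtain ⟨w, hw, e'⟩ := h₂
  refine ⟨v * w, hv.mul hw, ?_⟩
  rw [st_mul, ← e', ← e]
  simp only [Matrix.mul_assoc]

theorem Cg.isUnit {h h' : Matrix I I K} (h₁ : Cg lamK h h') (hh : IsUnit h) : IsUnit h' := by
  obtain ⟨v, hv, e⟩ := h₁
  rw [← e]
  exact ((isUnit_st lamK hv).mul hh).mul hv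

theorem Cg.reindex {h h' : Matrix I I K} (h₁ : Cg lamK h h') (e : I ≃ J) :
    Cg lamK (Matrix.reindex e e h) (Matrix.reindex e e h') := by
  obtain ⟨v, hv, hvh⟩ := h₁
  refine ⟨Matrix.reindex e e v, ?_, ?_⟩
  · rw [Matrix.reindex_apply]
    exact (Matrix.isUnit_submatrix_equiv _ _).2 hv
  · rw [← hvh]
    simp only [Matrix.reindex_apply, st_submatrix, Matrix.submatrix_mul_equiv]

theorem Cg.of_reindex {h h' : Matrix I I K} (e : I ≃ J)
    (h₁ : Cg lamK (Matrix.reindex e e h) (Matrix.reindex e e h')) : Cg lamK h h' := by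
  have := h₁.reindex e.symm
  simpa using this

theorem Cg.fromBlocks {a a' : Matrix I I K} {S S' : Matrix J J K} (h₁ : Cg lamK a a')
    (h₂ : Cg lamK S S') :
    Cg lamK (Matrix.fromBlocks a 0 0 S) (Matrix.fromBlocks a' 0 0 S') := by
  obtain ⟨v, hv, e⟩ := h₁
  obtain ⟨w, hw, e'⟩ := h₂
  refine ⟨Matrix.fromBlocks v 0 0 w, Matrix.isUnit_fromBlocks_zero₂₁.2 ⟨hv, hw⟩, ?_⟩
  rw [st_fromBlocks, st_zero, st_zero, Matrix.fromBlocks_multiply, Matrix.fromBlocks_multiply]
  simp only [Matrix.zero_mul, Matrix.mul_zero, add_zero, zero_add]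
  rw [e, e']

include hlamK in
/-- transposed form of a congruence: `w h wᵗ = h'` -/
theorem Cg.exists_left {h h' : Matrix I I K} (h₁ : Cg lamK h h') :
    ∃ w : Matrix I I K, IsUnit w ∧ w * h * st lamK w = h' := by
  obtain ⟨v, hv, e⟩ := h₁
  exact ⟨st lamK v, isUnit_st lamK hv, by rw [st_st lamK hlamK, e]⟩

end Cg
end Groth.Agent.Lib.SkewHerm16

namespace Groth.Agent.Lib.SkewHerm16
open Matrix Groth.Agent.Lib.RInvHerm Groth.Agent.Lib.RInv88

section two
variable {K : Type*} [CommRing K] (lamK : K ≃+* K)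

/-- the general `2 × 2` congruence formula -/
theorem st_mul_mul_two (p q r s α β γ δ : K) :
    st lamK !![p, q; r, s] * !![α, β; γ, δ] * !![p, q; r, s] =
      !![lamK p * (α * p + β * r) + lamK r * (γ * p + δ * r),
         lamK p * (α * q + β * s) + lamK r * (γ * q + δ * s);
         lamK q * (α * p + β * r) + lamK s * (γ * p + δ * r),
         lamK q * (α * q + β * s) + lamK s * (γ * q + δ * s)] := by
  ext i j
  fin_cases i <;> fin_cases j <;>
    simp [st_apply, Matrix.mul_apply, Fin.sum_univ_two] <;> ring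

theorem two_ext {a b c d a' b' c' d' : K} (h1 : a = a') (h2 : b = b') (h3 : c = c')
    (h4 : d = d') : (!![a, b; c, d] : Matrix (Fin 2) (Fin 2) K) = !![a', b'; c', d'] := by
  rw [h1, h2, h3, h4]

theorem isUnit_two_of_det (p q r s : K) (h : IsUnit (p * s - q * r)) :
    IsUnit (!![p, q; r, s] : Matrix (Fin 2) (Fin 2) K) := by
  rw [Matrix.isUnit_iff_isUnit_det, Matrix.det_fin_two_of]
  exact h

theorem cg_two_of (p q r s α β γ δ : K) (h : IsUnit (p * s - q * r)) :
    Cg lamK !![α, β; γ, δ]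
      !![lamK p * (α * p + β * r) + lamK r * (γ * p + δ * r),
         lamK p * (α * q + β * s) + lamK r * (γ * q + δ * s);
         lamK q * (α * p + β * r) + lamK s * (γ * p + δ * r),
         lamK q * (α * q + β * s) + lamK s * (γ * q + δ * s)] :=
  ⟨!![p, q; r, s], isUnit_two_of_det p q r s h, st_mul_mul_two lamK p q r s α β γ δ⟩

end two

section two'
universe u v
variable {B : Type u} {K : Type v} [CommRing B] [CommRing K] [Algebra B K]
  (lamK : K ≃+* K) (hlamK : Function.Involutive lamK) (hB : RInv.IsFixedRing B K lamK)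
  [IsLocalRing B]

/-- the standard alternating `2 × 2` matrix -/
def J₂ : Matrix (Fin 2) (Fin 2) K := !![0, 1; -1, 0]

include hlamK hB in
theorem mem_jacobson_of_skew (h2 : IsUnit (2 : K)) (hid : ∀ a : K, lamK a - a ∈ Ring.jacobson K)
    (x : K) (hx : lamK x = -x) : x ∈ Ring.jacobson K := by
  have h1 : lamK x - x ∈ Ring.jacobson K := hid x
  rw [hx] at h1
  obtain ⟨t, ht⟩ := h2.exists_left_inv
  have : x = (-t) * (-x - x) := by
    have : (-t) * (-x - x) = (t * 2) * x := by ring
    rw [this, ht, one_mul]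
  rw [this]
  exact Ideal.mul_mem_left _ _ h1

include hlamK hB in
/-- **`2 × 2` skew-hermitian forms with unit off-diagonal entry are standard** (in the ramified
case, `2` invertible, units of the fixed ring squares). -/
theorem cg_two (h2 : IsUnit (2 : K)) (hid : ∀ a : K, lamK a - a ∈ Ring.jacobson K)
    (hsqB : ∀ x : Bˣ, ∃ y : B, y * y = ↑x)
    (a : Matrix (Fin 2) (Fin 2) K) (herm : (-1 : K) • st lamK a = a) (hβ : IsUnit (a 0 1)) :
    Cg lamK a (J₂ : Matrix (Fin 2) (Fin 2) K) := by
  haveI : Nontrivial K := nontrivial_of_nontrivial lamK hB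
  have hJ : ∀ x : K, x ∈ Ring.jacobson K → ∀ y : K, IsUnit (1 + x * y) := by
    intro x hx y
    have := (mem_jacobson_iff x).1 hx y
    rwa [add_comm] at this
  have hskew : ∀ x : K, lamK x = -x → x ∈ Ring.jacobson K :=
    mem_jacobson_of_skew lamK hlamK hB h2 hid
  -- entries
  set α := a 0 0 with hα
  set β := a 0 1 with hβd
  set γ := a 1 0 with hγ
  set δ := a 1 1 with hδ
  have ha : a = !![α, β; γ, δ] := Matrix.eta_fin_two a
  have e00 : lamK α = -α := by
    have := herm_apply lamK (-1) herm 0 0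
    have h' : α = -lamK α := by rw [hα]; simpa using this
    exact (neg_eq_iff_eq_neg.mpr h').symm
  have e11 : lamK δ = -δ := by
    have := herm_apply lamK (-1) herm 1 1
    have h' : δ = -lamK δ := by rw [hδ]; simpa using this
    exact (neg_eq_iff_eq_neg.mpr h').symm
  have e10 : γ = -lamK β := by
    have := herm_apply lamK (-1) herm 1 0
    simpa using this
  obtain ⟨βu, hβu⟩ := hβ
  set βi : K := ↑βu⁻¹ with hβi
  have hββi : β * βi = 1 := by rw [← hβu, hβi, Units.mul_inv]
  -- step 1: scale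
  set δ₁ : K := lamK βi * δ * βi with hδ₁
  have s1 : Cg lamK a !![α, 1; -1, δ₁] := by
    rw [ha]
    have := cg_two_of lamK 1 0 0 βi α β γ δ (by rw [one_mul, zero_mul, sub_zero]; exact ⟨βu⁻¹, rfl⟩)
    have h1 : lamK βi * lamK β = 1 := by rw [← map_mul, mul_comm, hββi, map_one]
    refine this.trans (Cg.of_eq lamK (two_ext ?_ ?_ ?_ ?_))
    · simp only [map_one, map_zero, mul_zero, mul_one, add_zero, zero_mul, one_mul]
    · simp only [map_one, map_zero, mul_zero, add_zero, zero_mul, zero_add, one_mul]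
      exact hββi
    · simp only [map_one, map_zero, mul_zero, mul_one, add_zero, zero_mul, zero_add]
      rw [e10, mul_neg, h1]
    · simp only [map_zero, mul_zero, zero_mul, zero_add]
      rw [hδ₁]; ring
  have eδ₁ : lamK δ₁ = -δ₁ := by
    rw [hδ₁, map_mul, map_mul, hlamK βi, e11]; ring
  -- the square root
  have hαJ : α ∈ Ring.jacobson K := hskew α e00
  set c : K := α * δ₁ with hc
  have hcfix : lamK c = c := by rw [hc, map_mul, e00, eδ₁]; ring
  obtain ⟨c₀, hc₀⟩ := (hB.2 c).1 hcfix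
  have hcu : IsUnit (1 + c) := by
    have := hJ α hαJ δ₁
    rwa [← hc] at this
  have hc₀u : IsUnit (1 + c₀) := by
    rw [← isUnit_algebraMap_iff lamK hB, map_add, map_one, hc₀]
    exact hcu
  obtain ⟨r₀, hr₀⟩ := hsqB hc₀u.unit
  rw [IsUnit.unit_spec] at hr₀
  have h2B : IsUnit (2 : B) := by
    rw [← isUnit_algebraMap_iff lamK hB, map_ofNat]
    exact h2
  obtain ⟨r₁, hr₁, hr₁u⟩ : ∃ r₁ : B, r₁ * r₁ = 1 + c₀ ∧ IsUnit (1 + r₁) := by
    have hsum : IsUnit ((1 + r₀) + (1 - r₀)) := by
      have : (1 + r₀) + (1 - r₀) = 2 := by ring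
      rw [this]; exact h2B
    rcases IsLocalRing.isUnit_or_isUnit_of_isUnit_add hsum with h | h
    · exact ⟨r₀, hr₀, h⟩
    · exact ⟨-r₀, by rw [neg_mul_neg, hr₀], by rwa [← sub_eq_add_neg]⟩
  set r : K := algebraMap B K r₁ with hr
  have hrr : r * r = 1 + c := by rw [hr, ← map_mul, hr₁, map_add, map_one, hc₀]
  have hrfix : lamK r = r := lam_algebraMap lamK hB r₁
  obtain ⟨zu, hzu⟩ := hr₁u.map (algebraMap B K)
  rw [map_add, map_one, ← hr] at hzu
  set zi : K := ↑zu⁻¹ with hzi
  have hz1 : (1 + r) * zi = 1 := by rw [← hzu, hzi, Units.mul_inv]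
  have hzifix : lamK zi = zi := by
    have h1 : lamK zi * (1 + r) = 1 := by
      have := congrArg lamK hz1
      rw [map_mul, map_add, map_one, hrfix] at this
      rw [mul_comm]; exact this
    calc lamK zi = lamK zi * ((1 + r) * zi) := by rw [hz1, mul_one]
      _ = (lamK zi * (1 + r)) * zi := by ring
      _ = zi := by rw [h1, one_mul]
  -- step 2: an isotropic vector
  set y : K := -(α * zi) with hy
  have ey : lamK y = -y := by rw [hy, map_neg, map_mul, e00, hzifix]; ring
  have hyJ : y ∈ Ring.jacobson K := hskew y ey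
  have hiso : α + 2 * y - y * y * δ₁ = 0 := by
    have : α + 2 * y - y * y * δ₁ = α * (1 - 2 * zi - c * zi ^ 2) := by rw [hy, hc]; ring
    rw [this]
    have : 1 - 2 * zi - c * zi ^ 2 = 0 := by
      linear_combination (-(1 + (r - 1) * zi)) * hz1 + zi ^ 2 * hrr
    rw [this, mul_zero]
  set μ : K := 1 - y * δ₁ with hμ
  have hμu : IsUnit μ := by
    have := hJ y hyJ (-δ₁)
    have e : 1 + y * -δ₁ = μ := by rw [hμ]; ring
    rwa [e] at this
  have hμfix : lamK μ = μ := by rw [hμ, map_sub, map_one, map_mul, ey, eδ₁]; ring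
  have s2 : Cg lamK !![α, 1; -1, δ₁] !![0, μ; -μ, δ₁] := by
    have := cg_two_of lamK 1 0 y 1 α 1 (-1) δ₁ (by simp)
    refine this.trans (Cg.of_eq lamK (two_ext ?_ ?_ ?_ ?_))
    · simp only [map_one, mul_one, one_mul, ey]
      linear_combination hiso
    · simp only [map_one, mul_zero, mul_one, zero_add, one_mul, ey]
      rw [hμ]; ring
    · simp only [map_one, map_zero, mul_one, zero_mul, zero_add, one_mul]
      rw [hμ]; ring
    · simp only [map_one, map_zero, mul_zero, mul_one, zero_mul, zero_add, one_mul]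
  -- step 3: scale
  obtain ⟨μu, hμu'⟩ := hμu
  set μi : K := ↑μu⁻¹ with hμi
  have hμμi : μ * μi = 1 := by rw [← hμu', hμi, Units.mul_inv]
  have hμifix : lamK μi = μi := by
    have h1 : lamK μi * μ = 1 := by
      have := congrArg lamK hμμi
      rw [map_mul, hμfix, map_one] at this
      rw [mul_comm]; exact this
    calc lamK μi = lamK μi * (μ * μi) := by rw [hμμi, mul_one]
      _ = (lamK μi * μ) * μi := by ring
      _ = μi := by rw [h1, one_mul]
  set δ₃ : K := μi * δ₁ * μi with hδ₃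
  have eδ₃ : lamK δ₃ = -δ₃ := by rw [hδ₃, map_mul, map_mul, hμifix, eδ₁]; ring
  have s3 : Cg lamK !![0, μ; -μ, δ₁] !![0, 1; -1, δ₃] := by
    have := cg_two_of lamK 1 0 0 μi 0 μ (-μ) δ₁
      (by rw [one_mul, zero_mul, sub_zero]; exact ⟨μu⁻¹, rfl⟩)
    refine this.trans (Cg.of_eq lamK (two_ext ?_ ?_ ?_ ?_))
    · simp only [map_zero, mul_zero, zero_mul, add_zero, mul_one]
    · simp only [map_one, map_zero, mul_zero, zero_mul, add_zero, zero_add, one_mul]
      exact hμμi
    · simp only [map_zero, mul_zero, zero_mul, add_zero, zero_add, mul_one, hμifix]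
      rw [mul_neg, mul_comm, hμμi]
    · simp only [map_zero, mul_zero, zero_mul, zero_add, hμifix]
      rw [hδ₃]; ring
  -- step 4: make the second vector isotropic
  obtain ⟨t, ht⟩ := h2.exists_left_inv
  have htfix : lamK t = t := by
    have h1 : lamK t * 2 = 1 := by
      have := congrArg lamK ht
      rwa [map_mul, map_ofNat, map_one] at this
    calc lamK t = lamK t * (t * 2) := by rw [ht, mul_one]
      _ = (lamK t * 2) * t := by ring
      _ = t := by rw [h1, one_mul]
  set κ : K := t * δ₃ with hκ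
  have eκ : lamK κ = -κ := by rw [hκ, map_mul, htfix, eδ₃]; ring
  have s4 : Cg lamK !![0, 1; -1, δ₃] (J₂ : Matrix (Fin 2) (Fin 2) K) := by
    have := cg_two_of lamK 1 κ 0 1 0 1 (-1) δ₃ (by simp)
    unfold J₂
    refine this.trans (Cg.of_eq lamK (two_ext ?_ ?_ ?_ ?_))
    · simp only [map_one, map_zero, mul_zero, mul_one, add_zero, zero_mul]
    · simp only [map_one, map_zero, mul_one, add_zero, zero_mul, zero_add, one_mul]
    · simp only [map_one, mul_zero, mul_one, add_zero, zero_mul, zero_add, one_mul, eκ]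
    · simp only [map_one, mul_one, zero_mul, zero_add, one_mul, eκ]
      have : -κ + (-1 * κ + δ₃) = (1 - t * 2) * δ₃ := by rw [hκ]; ring
      rw [this, ht, sub_self, zero_mul]
  exact s1.trans (s2.trans (s3.trans s4))

end two'
end Groth.Agent.Lib.SkewHerm16

namespace Groth.Agent.Lib.SkewHerm16
open Matrix Groth.Agent.Lib.RInvHerm Groth.Agent.Lib.RInv88

section find
variable {K : Type*} [CommRing K] (lamK : K ≃+* K)
variable {I : Type*} [Fintype I] [DecidableEq I]

theorem congr_transvection_apply_off (h : Matrix I I K) (i₀ i₁ j : I) (h01 : i₀ ≠ i₁)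
    (c : K) :
    (st lamK (Matrix.transvection j i₁ c) * h * Matrix.transvection j i₁ c) i₀ i₁ =
      h i₀ i₁ + h i₀ j * c := by
  unfold Matrix.transvection
  rw [st_add, st_one, st_single, Matrix.add_mul, Matrix.one_mul, Matrix.add_mul, Matrix.mul_add,
    Matrix.mul_one, Matrix.mul_add, Matrix.mul_one]
  simp only [Matrix.add_apply, Matrix.mul_single_apply_same]
  rw [Matrix.single_mul_apply_of_ne _ _ _ _ _ h01, Matrix.single_mul_apply_of_ne _ _ _ _ _ h01]
  ring

variable [IsLocalRing K]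

/-- a unit matrix whose `(i₀, i₀)` entry is not a unit is congruent to one with a unit
`(i₀, i₁)` entry -/
theorem exists_isUnit_off (h : Matrix I I K) (hh : IsUnit h) (i₀ i₁ : I) (h01 : i₀ ≠ i₁)
    (h00 : ¬ IsUnit (h i₀ i₀)) :
    ∃ P : Matrix I I K, IsUnit P ∧ IsUnit ((st lamK P * h * P) i₀ i₁) := by
  by_cases h1 : IsUnit (h i₀ i₁)
  · exact ⟨1, isUnit_one, by rwa [st_one, Matrix.one_mul, Matrix.mul_one]⟩
  obtain ⟨g, hg⟩ := hh.exists_right_inv
  have hsum : ∑ j, h i₀ j * g j i₀ = 1 := by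
    have := congrFun (congrFun hg i₀) i₀
    rwa [Matrix.mul_apply, Matrix.one_apply_eq] at this
  have hex : ∃ j, IsUnit (h i₀ j) := by
    by_contra hcon
    push Not at hcon
    have hmem : (1 : K) ∈ IsLocalRing.maximalIdeal K := by
      rw [← hsum]
      exact Ideal.sum_mem _ fun j _ =>
        Ideal.mul_mem_right _ _ ((IsLocalRing.mem_maximalIdeal _).2 (hcon j))
    exact (Ideal.ne_top_iff_one _).1 (IsLocalRing.maximalIdeal.isMaximal K).ne_top hmem
  obtain ⟨j, hj⟩ := hex
  have hj0 : j ≠ i₀ := fun e => h00 (e ▸ hj)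
  have hj1 : j ≠ i₁ := fun e => h1 (e ▸ hj)
  refine ⟨Matrix.transvection j i₁ 1, isUnit_transvection hj1 _, ?_⟩
  rw [congr_transvection_apply_off lamK h i₀ i₁ j h01, mul_one, add_comm]
  -- unit + nonunit
  have hnu : h i₀ i₁ ∈ IsLocalRing.maximalIdeal K := (IsLocalRing.mem_maximalIdeal _).2 h1
  by_contra hcon
  have h2 : h i₀ j + h i₀ i₁ ∈ IsLocalRing.maximalIdeal K := (IsLocalRing.mem_maximalIdeal _).2 hcon
  have := Ideal.sub_mem _ h2 hnu
  rw [add_sub_cancel_right] at this
  exact (IsLocalRing.mem_maximalIdeal _).1 this hj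

end find
end Groth.Agent.Lib.SkewHerm16

namespace Groth.Agent.Lib.SkewHerm16
open Matrix Groth.Agent.Lib.RInvHerm Groth.Agent.Lib.RInv88

section std
variable {K : Type*} [CommRing K]

/-- the splitting `Fin (N + 2) ≃ Fin 2 ⊕ Fin N` -/
def e₀ (N : ℕ) : Fin (N + 2) ≃ Fin 2 ⊕ Fin N :=
  (finCongr (by omega : N + 2 = 2 + N)).trans finSumFinEquiv.symm

theorem e₀_symm_inl_zero (N : ℕ) : (e₀ N).symm (Sum.inl 0) = 0 := by
  apply Fin.ext
  simp [e₀]

theorem e₀_symm_inl_one (N : ℕ) : (e₀ N).symm (Sum.inl 1) = 1 := by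
  apply Fin.ext
  simp [e₀]

variable (K) in
/-- the standard alternating matrix of size `N` (meaningful for even `N`) -/
def Jc : ∀ N : ℕ, Matrix (Fin N) (Fin N) K
  | 0 => 0
  | 1 => 0
  | (N + 2) => Matrix.reindex (e₀ N).symm (e₀ N).symm (Matrix.fromBlocks J₂ 0 0 (Jc N))

theorem Jc_succ_succ (N : ℕ) :
    Jc K (N + 2) = Matrix.reindex (e₀ N).symm (e₀ N).symm (Matrix.fromBlocks J₂ 0 0 (Jc K N)) :=
  rfl

variable (lamK : K ≃+* K)
variable {I : Type*} [Fintype I] [DecidableEq I]

theorem Cg.isUnit' {h h' : Matrix I I K} (h₁ : Cg lamK h h') (hh : IsUnit h') : IsUnit h := by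
  obtain ⟨v, hv, e⟩ := h₁
  rw [← e] at hh
  have h2 : IsUnit (st lamK v * h) := isUnit_of_mul_isUnit_left hh
  exact isUnit_of_mul_isUnit_right h2

theorem isUnit_J₂ : IsUnit (J₂ : Matrix (Fin 2) (Fin 2) K) := by
  unfold J₂
  apply isUnit_two_of_det
  simp

end std

section main
universe u v
variable {B : Type u} {K : Type v} [CommRing B] [CommRing K] [Algebra B K]
  (lamK : K ≃+* K) (hlamK : Function.Involutive lamK) (hB : RInv.IsFixedRing B K lamK)
  [IsLocalRing B] [IsLocalRing K]

include hlamK hB in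
/-- **Skew-hermitian unimodular forms are standard** (ramified case, `2` invertible, units of the
fixed ring squares). -/
theorem cg_Jc (h2 : IsUnit (2 : K)) (hid : ∀ a : K, lamK a - a ∈ Ring.jacobson K)
    (hsqB : ∀ x : Bˣ, ∃ y : B, y * y = ↑x) :
    ∀ (N : ℕ) (h : Matrix (Fin N) (Fin N) K), IsUnit h → (-1 : K) • st lamK h = h →
      Cg lamK h (Jc K N) := by
  have hε : (-1 : K) = 1 ∨ (-1 : K) = -1 := Or.inr rfl
  have hdiag : ∀ {N : ℕ} (h : Matrix (Fin N) (Fin N) K), (-1 : K) • st lamK h = h →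
      ∀ i, ¬ IsUnit (h i i) := by
    intro N h herm i hu
    have h1 : lamK (h i i) = -h i i := by
      have := herm_diag lamK (-1) hε herm i
      rw [this]; ring
    exact notMem_jacobson_of_isUnit hu (mem_jacobson_of_skew lamK hlamK hB h2 hid _ h1)
  intro N
  induction N using Nat.twoStepInduction with
  | zero =>
    intro h _ _
    exact Cg.of_eq lamK (Subsingleton.elim _ _)
  | one =>
    intro h hh herm
    exfalso
    have : IsUnit (h 0 0) := by
      rw [Matrix.isUnit_iff_isUnit_det] at hh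
      have e : h.det = h 0 0 := by
        rw [Matrix.det_unique]
        rfl
      rwa [e] at hh
    exact hdiag h herm 0 this
  | more N ih _ =>
    intro h hh herm
    obtain ⟨P, hP, hu⟩ := exists_isUnit_off lamK h hh 0 1 (by simp) (hdiag h herm 0)
    have hcg1 : Cg lamK h (st lamK P * h * P) := ⟨P, hP, rfl⟩
    refine hcg1.trans ?_
    have hh₁u : IsUnit (st lamK P * h * P) := ((isUnit_st lamK hP).mul hh).mul hP
    have herm₁ : (-1 : K) • st lamK (st lamK P * h * P) = st lamK P * h * P :=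
      herm_congr lamK hlamK (-1) herm P
    generalize st lamK P * h * P = h₁ at hu hh₁u herm₁ ⊢
    apply Cg.of_reindex (e₀ N)
    rw [Jc_succ_succ]
    have hMu : IsUnit (Matrix.reindex (e₀ N) (e₀ N) h₁) := by
      rw [Matrix.reindex_apply]
      exact (Matrix.isUnit_submatrix_equiv _ _).2 hh₁u
    have hermM : (-1 : K) • st lamK (Matrix.reindex (e₀ N) (e₀ N) h₁) =
        Matrix.reindex (e₀ N) (e₀ N) h₁ := by
      ext i j
      rw [Matrix.smul_apply, st_apply, smul_eq_mul, Matrix.reindex_apply, Matrix.submatrix_apply,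
        Matrix.submatrix_apply]
      exact (herm_apply lamK (-1) herm₁ _ _).symm
    have hM01 : (Matrix.reindex (e₀ N) (e₀ N) h₁) (Sum.inl 0) (Sum.inl 1) = h₁ 0 1 := by
      rw [Matrix.reindex_apply, Matrix.submatrix_apply, e₀_symm_inl_zero, e₀_symm_inl_one]
    have hR : Matrix.reindex (e₀ N) (e₀ N)
        (Matrix.reindex (e₀ N).symm (e₀ N).symm (Matrix.fromBlocks J₂ 0 0 (Jc K N))) =
        Matrix.fromBlocks J₂ 0 0 (Jc K N) := by
      ext i j
      simp
    rw [hR]
    generalize Matrix.reindex (e₀ N) (e₀ N) h₁ = M at hMu hermM hM01 ⊢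
    rw [← Matrix.fromBlocks_toBlocks M] at hMu hermM ⊢
    obtain ⟨herma, -, -, -⟩ := (herm_fromBlocks_iff lamK (-1)).1 hermM
    have ha01 : IsUnit (M.toBlocks₁₁ 0 1) := by
      change IsUnit (M (Sum.inl 0) (Sum.inl 1))
      rw [hM01]; exact hu
    have hcga : Cg lamK M.toBlocks₁₁ (J₂ : Matrix (Fin 2) (Fin 2) K) :=
      cg_two lamK hlamK hB h2 hid hsqB _ herma ha01
    have hau : IsUnit M.toBlocks₁₁ := hcga.isUnit' lamK isUnit_J₂
    obtain ⟨hSu, hermS, v, hv, hvM⟩ := split lamK hlamK (-1) hermM hMu hau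
    have hcg2 : Cg lamK (Matrix.fromBlocks M.toBlocks₁₁ M.toBlocks₁₂ M.toBlocks₂₁ M.toBlocks₂₂)
        (Matrix.fromBlocks M.toBlocks₁₁ 0 0
          (M.toBlocks₂₂ - M.toBlocks₂₁ * M.toBlocks₁₁⁻¹ * M.toBlocks₁₂)) := ⟨v, hv, hvM⟩
    exact hcg2.trans (Cg.fromBlocks hcga (ih _ hSu hermS))

end main
end Groth.Agent.Lib.SkewHerm16
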