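import Mathlib
import Groth.Agent.Lib.AzInvOdd16
import Groth.Agent.Lib.SkewHerm16

/-!
# Normal forms of `ε`-hermitian forms over strictly henselian bases and invariance of the sign
(helper16)

Setting: `K` a commutative ring with involution `lamK`, fixed ring `B` local with square roots of
units (in the application `B = T` a strict henselization of `S_p`, `K = T ⊗[S] R`).

* `exists_isUnit_add_mul_lam` (Hilbert 90 in the unramified case), `isLocalRing_of_bad` (in the
  ramified case `K` is local), `exists_congr_one` (normalised hermitian forms are `c • 1`).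
* `congr_of_congr_std`, `exists_congr_of_std`, `exists_hom_of_congr`.
* `IsoOverG.symm`, `IsoOverG.map` (base change of `IsoOverG` along an algebra homomorphism).
* `StdFormI` (general index standard form), `StdForm.toI`, `StdFormI.matrix`.
* `exists_sign_relation`, `isUnit_one_add_iff`, **`exists_sign_of_isoOverG`** (invariance of the sign
  under `SameType`).
* `exists_congr_of_herm`, `exists_congr_of_good`, `exists_congr_of_skew`,
  `exists_congr_of_ramified`: two `ε`-hermitian unimodular forms of the same size (and sign) are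
  congruent up to a scalar.
-/

set_option autoImplicit false
set_option linter.style.haveILetI false
set_option linter.unusedSectionVars false
set_option linter.unusedSimpArgs false

namespace Groth.Agent.Lib.ShDescent16
open TensorProduct AzInv Groth.Agent.Lib.RInvHerm

section norm
universe u v
variable {B : Type u} {K : Type v} [CommRing B] [CommRing K] [Algebra B K]
  (lamK : K ≃+* K) (hlamK : Function.Involutive lamK) (hB : RInv.IsFixedRing B K lamK)
  [IsLocalRing B]

include hlamK hB in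
/-- **Hilbert 90** in the good case: some `x + ε lam x` is a unit. -/
theorem exists_isUnit_add_mul_lam (hG : ∃ a : K, lamK a - a ∉ Ring.jacobson K) (ε : K)
    (he : lamK ε * ε = 1) : ∃ x : K, IsUnit (x + ε * lamK x) := by
  obtain ⟨a, ha⟩ := hG
  have hs : IsUnit (a - lamK a) :=
    Groth.Agent.Lib.RInv88.isUnit_sub_of_notMem_jacobson lamK hlamK hB a ha
  have hεu : IsUnit ε := IsUnit.of_mul_eq_one_right _ he
  have hkey : ∀ M : Ideal K, M.IsMaximal → (1 + ε * lamK 1) ∈ M → (a + ε * lamK a) ∈ M → False := by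
    intro M hM h1 h2
    have : ε * (a - lamK a) ∈ M := by
      have : ε * (a - lamK a) = a * (1 + ε * lamK 1) - (a + ε * lamK a) := by
        rw [map_one]; ring
      rw [this]
      exact M.sub_mem (M.mul_mem_left _ h1) h2
    exact hM.ne_top (Ideal.eq_top_of_isUnit_mem _ this (hεu.mul hs))
  by_contra hcon
  push Not at hcon
  have hadd : ∀ x y : K, (x + y) + ε * lamK (x + y) = (x + ε * lamK x) + (y + ε * lamK y) := by
    intro x y; rw [map_add]; ring
  obtain ⟨M₁, hM₁, h1⟩ := exists_max_ideal_of_mem_nonunits (hcon 1)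
  obtain ⟨M₂, hM₂, h2⟩ := exists_max_ideal_of_mem_nonunits (hcon a)
  obtain ⟨M₃, hM₃, h3⟩ := exists_max_ideal_of_mem_nonunits (hcon (1 + a))
  rw [hadd] at h3
  rcases Groth.Agent.Lib.RInv88.eq_or_eq_comap_of_isMaximal lamK hlamK hB M₁ M₂ with e | e
  · subst e
    exact hkey M₂ hM₂ h1 h2
  · rcases Groth.Agent.Lib.RInv88.eq_or_eq_comap_of_isMaximal lamK hlamK hB M₁ M₃ with e' | e'
    · subst e'
      refine hkey M₃ hM₃ h1 ?_
      have := M₃.sub_mem h3 h1
      rwa [add_sub_cancel_left] at this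
    · have e'' : M₃ = M₂ := by rw [e, e']
      subst e''
      refine hkey M₃ hM₃ ?_ h2
      have := M₃.sub_mem h3 h2
      rwa [add_sub_cancel_right] at this

include hlamK hB in
/-- in the bad (ramified) case the ring is local -/
theorem isLocalRing_of_bad (hR : ∀ a : K, lamK a - a ∈ Ring.jacobson K) : IsLocalRing K := by
  haveI : Nontrivial K := Groth.Agent.Lib.RInv88.nontrivial_of_nontrivial lamK hB
  obtain ⟨M, hM⟩ := Ideal.exists_maximal K
  refine IsLocalRing.of_unique_max_ideal ⟨M, hM, fun M' hM' => ?_⟩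
  have hMM : M.comap lamK = M := by
    haveI : (M.comap lamK).IsMaximal := Ideal.comap_isMaximal_of_equiv lamK
    refine (Ideal.IsMaximal.eq_of_le inferInstance hM.ne_top ?_)
    intro x hx
    have h1 : lamK x ∈ M := hx
    have h2 : lamK x - x ∈ M := Ring.jacobson_le_of_isMaximal M (hR x)
    have := M.sub_mem h1 h2
    rwa [sub_sub_cancel] at this
  rcases Groth.Agent.Lib.RInv88.eq_or_eq_comap_of_isMaximal lamK hlamK hB M M' with e | e
  · exact e
  · rw [e, hMM]

include hlamK hB in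
/-- hermitian forms (up to a normalising scalar) are standard when units of the fixed ring are
squares, in the cases where hermitian matrices are diagonalisable -/
theorem exists_congr_one (hsqB : ∀ x : Bˣ, ∃ y : B, y * y = ↑x) {n : ℕ}
    (u : (Matrix (Fin n) (Fin n) K)ˣ) (ε : K)
    (hu : st lamK (↑u : Matrix (Fin n) (Fin n) K) = ε • (↑u : Matrix (Fin n) (Fin n) K))
    (ci : K) (hciu : IsUnit ci) (hlci : lamK ci * ε = ci)
    (hcase : (∃ a : K, lamK a - a ∉ Ring.jacobson K) ∨ (1 : K) + 1 ∉ Ring.jacobson K ∨ Odd n) :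
    ∃ (w : (Matrix (Fin n) (Fin n) K)ˣ) (c : K),
      (↑w : Matrix (Fin n) (Fin n) K) * (↑u : Matrix (Fin n) (Fin n) K) *
          st lamK (↑w : Matrix (Fin n) (Fin n) K) =
        c • (1 : Matrix (Fin n) (Fin n) K) := by
  classical
  obtain ⟨cu, hcu'⟩ := hciu
  set c : K := ↑cu⁻¹ with hc
  have hcci : c * ci = 1 := by rw [← hcu', hc, Units.inv_mul]
  -- the hermitian matrix `h = ci u`
  set h : Matrix (Fin n) (Fin n) K := ci • (↑u : Matrix (Fin n) (Fin n) K) with hh
  have hherm : (1 : K) • (h.map lamK).transpose = h := by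
    rw [one_smul]
    change st lamK h = h
    rw [hh, st_smul, hu, smul_smul, hlci]
  have hhu : IsUnit h := by
    refine IsUnit.of_mul_eq_one (c • (↑u⁻¹ : Matrix (Fin n) (Fin n) K)) ?_
    rw [hh, smul_mul_smul_comm, Units.mul_inv, mul_comm, hcci, one_smul]
  obtain ⟨v, hv, d', hvd⟩ := exists_diagonal lamK hlamK hB 1 (Or.inl rfl) n h hhu hherm hcase
  change st lamK v * h * v = Matrix.diagonal d' at hvd
  have hsth : st lamK h = h := by rw [one_smul] at hherm; exact hherm
  have hDu : IsUnit (Matrix.diagonal d') := by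
    rw [← hvd]
    exact ((isUnit_st lamK hv).mul hhu).mul hv
  have hd'u : ∀ i, IsUnit (d' i) := by
    rw [Matrix.isUnit_diagonal, Pi.isUnit_iff] at hDu
    exact hDu
  have hd'f : ∀ i, lamK (d' i) = d' i := by
    have h1 : st lamK (Matrix.diagonal d') = Matrix.diagonal d' := by
      rw [← hvd, st_mul, st_mul, st_st lamK hlamK, hsth, mul_assoc]
    rw [st_diagonal] at h1
    intro i
    exact congrFun (Matrix.diagonal_injective h1) i
  choose b hb using fun i => exists_unit_of_fixed lamK hlamK hB (d' i) (hd'u i) (hd'f i)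
  choose y hy using fun i => hsqB (b i)
  set Y : Matrix (Fin n) (Fin n) K := Matrix.diagonal (fun i => algebraMap B K (y i)) with hY
  have hYY : Y * Y = Matrix.diagonal d' := by
    rw [hY, Matrix.diagonal_mul_diagonal]
    congr 1
    funext i
    rw [← map_mul, hy, hb]
  have hYu : IsUnit Y := isUnit_of_mul_isUnit_left (hYY ▸ hDu)
  have hstY : st lamK Y = Y := by
    rw [hY, st_diagonal]
    congr 1
    funext i
    exact (hB.2 _).2 ⟨y i, rfl⟩
  obtain ⟨Yu, hYu'⟩ := hYu
  have hstYi : st lamK (↑Yu⁻¹ : Matrix (Fin n) (Fin n) K) = ↑Yu⁻¹ := by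
    have h1 : st lamK (↑Yu⁻¹ : Matrix (Fin n) (Fin n) K) * (Yu : Matrix (Fin n) (Fin n) K) = 1 := by
      conv_lhs => rw [hYu', ← hstY, ← st_mul, ← hYu', Units.mul_inv, st_one]
    exact Units.eq_inv_of_mul_eq_one_right h1
  obtain ⟨vu, hvu⟩ := isUnit_st lamK hv
  refine ⟨Yu⁻¹ * vu, c, ?_⟩
  rw [Units.val_mul, hvu, st_mul, st_st lamK hlamK, hstYi]
  have h2 : (↑u : Matrix (Fin n) (Fin n) K) = c • h := by
    rw [hh, smul_smul, hcci, one_smul]
  rw [h2]
  simp only [Matrix.mul_smul, Matrix.smul_mul]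
  congr 1
  calc (↑Yu⁻¹ : Matrix (Fin n) (Fin n) K) * st lamK v * h * (v * ↑Yu⁻¹)
      = ↑Yu⁻¹ * (st lamK v * h * v) * ↑Yu⁻¹ := by simp only [mul_assoc]
    _ = 1 := by
      rw [hvd, ← hYY, ← hYu', ← mul_assoc, Units.inv_mul, one_mul, Units.mul_inv]

end norm
end Groth.Agent.Lib.ShDescent16

namespace Groth.Agent.Lib.ShDescent16
open TensorProduct AzInv Groth.Agent.Lib.RInvHerm

section combine
variable {K : Type*} [CommRing K] {lamK : K → K} {B : Type*} [Ring B] [Algebra K B]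
  (τ₀ : AzInv.LamInv K B lamK)

/-- two forms congruent (up to scalars) to the same form are congruent up to a scalar -/
theorem congr_of_congr_std (N u u' w w' : Bˣ) (c : K) (c' : Kˣ)
    (h : (↑w : B) * ↑u * τ₀ ↑w = c • (↑N : B))
    (h' : (↑w' : B) * ↑u' * τ₀ ↑w' = (↑c' : K) • (↑N : B)) :
    (↑(w'⁻¹ * w) : B) * ↑u * τ₀ (↑(w'⁻¹ * w) : B) = (c * ↑c'⁻¹) • (↑u' : B) := by
  have hN : (↑N : B) = (↑c'⁻¹ : K) • ((↑w' : B) * ↑u' * τ₀ ↑w') := by
    rw [h', smul_smul, Units.inv_mul, one_smul]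
  rw [Units.val_mul, τ₀.map_mul]
  calc (↑w'⁻¹ : B) * ↑w * ↑u * (τ₀ ↑w * τ₀ ↑w'⁻¹)
      = ↑w'⁻¹ * ((↑w : B) * ↑u * τ₀ ↑w) * τ₀ ↑w'⁻¹ := by simp only [mul_assoc]
    _ = (c * ↑c'⁻¹) • (↑w'⁻¹ * ((↑w' : B) * ↑u' * τ₀ ↑w') * τ₀ ↑w'⁻¹) := by
        rw [h, hN]
        simp only [mul_smul_comm, smul_mul_assoc, smul_smul]
    _ = (c * ↑c'⁻¹) • (↑u' : B) := by
        congr 1
        simp only [mul_assoc]
        rw [τ₀.map_units_inv', mul_one, Units.inv_mul_cancel_left]

end combine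

section scalar
variable {K : Type*} [CommRing K]

theorem isUnit_of_isUnit_smul_matrix {n : ℕ} (hn : 0 < n) (c : K)
    (N : Matrix (Fin n) (Fin n) K) (h : IsUnit (c • N)) : IsUnit c := by
  rw [Matrix.isUnit_iff_isUnit_det, Matrix.det_smul, Fintype.card_fin] at h
  have h1 : IsUnit (c ^ n) := isUnit_of_mul_isUnit_left h
  exact (isUnit_pow_iff hn.ne').1 h1

end scalar

section homs
universe u v w w'
variable {S : Type u} {R : Type v} [CommRing S] [CommRing R] [Algebra S R]
  {lam : R ≃ₐ[S] R} (hlam : ∀ r, lam (lam r) = r)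
  {A : Type w} [Ring A] [Algebra S A] [Algebra R A] [IsScalarTower S R A]
  {A' : Type w'} [Ring A'] [Algebra S A'] [Algebra R A'] [IsScalarTower S R A']
  {t : AzInv.LamInv R A lam} {t' : AzInv.LamInv R A' lam}
  {T : Type*} [CommRing T] [Algebra S T] {n : ℕ}

/-- congruent standard forms give the homomorphism required by the descent meta-theorem -/
theorem exists_hom_of_congr
    {u u' : (Matrix (Fin n) (Fin n) (T ⊗[S] R))ˣ} {ε ε' : T ⊗[S] R}
    {hu : trK hlam T n (↑u : Matrix (Fin n) (Fin n) (T ⊗[S] R)) =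
      ε • (↑u : Matrix (Fin n) (Fin n) (T ⊗[S] R))}
    {he : lamT T lam ε * ε = 1}
    {hu' : trK hlam T n (↑u' : Matrix (Fin n) (Fin n) (T ⊗[S] R)) =
      ε' • (↑u' : Matrix (Fin n) (Fin n) (T ⊗[S] R))}
    {he' : lamT T lam ε' * ε' = 1}
    (h₁ : StdForm t T ((trK hlam T n).conj u ε hu he))
    (h₂ : StdForm t' T ((trK hlam T n).conj u' ε' hu' he'))
    (v : (Matrix (Fin n) (Fin n) (T ⊗[S] R))ˣ) (c : T ⊗[S] R)
    (hv : (↑v : Matrix (Fin n) (Fin n) (T ⊗[S] R)) *
      (↑u : Matrix (Fin n) (Fin n) (T ⊗[S] R)) *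
      trK hlam T n (↑v : Matrix (Fin n) (Fin n) (T ⊗[S] R)) =
        c • (↑u' : Matrix (Fin n) (Fin n) (T ⊗[S] R))) :
    ∃ ρ : A →ₐ[S] T ⊗[S] A',
      (∀ (r : R) (x : A), ρ (algebraMap R A r * x) =
        ((1 : T) ⊗ₜ[S] algebraMap R A' r) * ρ x) ∧
      ∀ x : A, ρ (t.linS S lam x) = (t'.linS S lam).baseChange T (ρ x) := by
  refine exists_hom_of_stdForm h₁ h₂
    (Groth.Agent.Lib.AzInvStd16.conjAlg (T := T ⊗[S] R) v).toAlgHom (fun X => ?_)
  exact conj_intertwine (trK hlam T n) u u' v ε ε' hu he hu' he' c hv X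

end homs
end Groth.Agent.Lib.ShDescent16

namespace Groth.Agent.Lib.ShDescent16
open TensorProduct AzInv

section map
universe u v w w'
variable {S : Type u} {R : Type v} [CommRing S] [CommRing R] [Algebra S R]
  {A₁ : Type w} [Ring A₁] [Algebra S A₁] [Algebra R A₁] [IsScalarTower S R A₁]
  {A₂ : Type w'} [Ring A₂] [Algebra S A₂] [Algebra R A₂] [IsScalarTower S R A₂]
  (s₁ : A₁ →ₗ[S] A₁) (s₂ : A₂ →ₗ[S] A₂)

theorem IsoOverG.symm {E : Type*} [CommRing E] [Algebra S E] (h : IsoOverG (R := R) s₁ s₂ E) :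
    IsoOverG (R := R) s₂ s₁ E := by
  obtain ⟨f, hf1, hf2⟩ := h
  refine ⟨f.symm, fun r x => ?_, fun x => ?_⟩
  · apply f.injective
    rw [AlgEquiv.apply_symm_apply, hf1, AlgEquiv.apply_symm_apply]
  · apply f.injective
    rw [AlgEquiv.apply_symm_apply, hf2, AlgEquiv.apply_symm_apply]

variable {E E' : Type*} [CommRing E] [Algebra S E] [CommRing E'] [Algebra S E']
  (φ : E →ₐ[S] E')

/-- the homomorphism `A₁ → E' ⊗ A₂` obtained from an isomorphism over `E` and `φ : E → E'` -/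
noncomputable def mapHom (f : E ⊗[S] A₁ ≃ₐ[E] E ⊗[S] A₂) : A₁ →ₐ[S] E' ⊗[S] A₂ :=
  ((Algebra.TensorProduct.map φ (AlgHom.id S A₂)).comp (f.toAlgHom.restrictScalars S)).comp
    Algebra.TensorProduct.includeRight

theorem mapHom_apply (f : E ⊗[S] A₁ ≃ₐ[E] E ⊗[S] A₂) (a : A₁) :
    mapHom φ f a = Algebra.TensorProduct.map φ (AlgHom.id S A₂) (f ((1 : E) ⊗ₜ[S] a)) := rfl

theorem map_baseChange' (x : E ⊗[S] A₂) :
    Algebra.TensorProduct.map φ (AlgHom.id S A₂) (s₂.baseChange E x) =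
      s₂.baseChange E' (Algebra.TensorProduct.map φ (AlgHom.id S A₂) x) := by
  induction x using TensorProduct.induction_on with
  | zero => simp
  | add x y hx hy => simp only [map_add, hx, hy]
  | tmul e a => simp

/-- `extHom` of `mapHom` is the base change of `f` -/
theorem extHom_mapHom (f : E ⊗[S] A₁ ≃ₐ[E] E ⊗[S] A₂) (x : E ⊗[S] A₁) :
    extHom E' (mapHom φ f) (Algebra.TensorProduct.map φ (AlgHom.id S A₁) x) =
      Algebra.TensorProduct.map φ (AlgHom.id S A₂) (f x) := by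
  induction x using TensorProduct.induction_on with
  | zero => simp
  | add x y hx hy => simp only [map_add, hx, hy]
  | tmul e a =>
    rw [Algebra.TensorProduct.map_tmul, AlgHom.id_apply, extHom_tmul, mapHom_apply]
    have h1 : (e ⊗ₜ[S] a : E ⊗[S] A₁) = e • ((1 : E) ⊗ₜ[S] a) := by
      rw [TensorProduct.smul_tmul', smul_eq_mul, mul_one]
    rw [h1, map_smul, Algebra.smul_def, map_mul, Algebra.TensorProduct.algebraMap_apply,
      Algebra.algebraMap_self_apply, Algebra.TensorProduct.map_tmul, map_one]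

include φ in
/-- base change of `IsoOverG` along an algebra homomorphism -/
theorem IsoOverG.map (h : IsoOverG (R := R) s₁ s₂ E) : IsoOverG (R := R) s₁ s₂ E' := by
  obtain ⟨f, hf1, hf2⟩ := h
  obtain ⟨g, hgf⟩ : ∃ g : E ⊗[S] A₂ ≃ₐ[E] E ⊗[S] A₁, g = f.symm := ⟨_, rfl⟩
  have key : ∀ (f : E ⊗[S] A₁ ≃ₐ[E] E ⊗[S] A₂),
      (∀ (r : R) (x : E ⊗[S] A₁), f (((1 : E) ⊗ₜ[S] algebraMap R A₁ r) * x) =
        ((1 : E) ⊗ₜ[S] algebraMap R A₂ r) * f x) →
      ∀ (r : R) (x : A₁), mapHom φ f (algebraMap R A₁ r * x) =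
        ((1 : E') ⊗ₜ[S] algebraMap R A₂ r) * mapHom φ f x := by
    intro f hf1 r x
    rw [mapHom_apply, mapHom_apply]
    have : ((1 : E) ⊗ₜ[S] (algebraMap R A₁ r * x) : E ⊗[S] A₁) =
        ((1 : E) ⊗ₜ[S] algebraMap R A₁ r) * ((1 : E) ⊗ₜ[S] x) := by
      rw [Algebra.TensorProduct.tmul_mul_tmul, mul_one]
    rw [this, hf1, map_mul, Algebra.TensorProduct.map_tmul, map_one, AlgHom.id_apply]
  have h1 := key f hf1
  have h2 : ∀ x : A₁, mapHom φ f (s₁ x) = s₂.baseChange E' (mapHom φ f x) := by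
    intro x
    rw [mapHom_apply, mapHom_apply, ← map_baseChange', ← hf2, LinearMap.baseChange_tmul]
  -- the inverse
  have hinv1 : ∀ x : E' ⊗[S] A₁, extHom E' (mapHom φ g) (extHom E' (mapHom φ f) x) = x := by
    intro x
    induction x using TensorProduct.induction_on with
    | zero => simp
    | add x y hx hy => simp only [map_add, hx, hy]
    | tmul e a =>
      rw [extHom_tmul, map_mul, mapHom_apply, extHom_mapHom]
      have : g (f ((1 : E) ⊗ₜ[S] a)) = (1 : E) ⊗ₜ[S] a := by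
        rw [hgf, AlgEquiv.symm_apply_apply]
      rw [this, Algebra.TensorProduct.map_tmul, map_one, AlgHom.id_apply, extHom_tmul, map_one,
        mul_one, Algebra.TensorProduct.tmul_mul_tmul, mul_one, one_mul]
  have hinv2 : ∀ x : E' ⊗[S] A₂, extHom E' (mapHom φ f) (extHom E' (mapHom φ g) x) = x := by
    intro x
    induction x using TensorProduct.induction_on with
    | zero => simp
    | add x y hx hy => simp only [map_add, hx, hy]
    | tmul e a =>
      rw [extHom_tmul, map_mul, mapHom_apply, extHom_mapHom]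
      have : f (g ((1 : E) ⊗ₜ[S] a)) = (1 : E) ⊗ₜ[S] a := by
        rw [hgf, AlgEquiv.apply_symm_apply]
      rw [this, Algebra.TensorProduct.map_tmul, map_one, AlgHom.id_apply, extHom_tmul, map_one,
        mul_one, Algebra.TensorProduct.tmul_mul_tmul, mul_one, one_mul]
  refine ⟨AlgEquiv.ofAlgHom (extHom E' (mapHom φ f)) (extHom E' (mapHom φ g))
    (AlgHom.ext hinv2) (AlgHom.ext hinv1), fun r x => extHom_smul E' _ h1 r x,
    fun x => extHom_baseChange s₁ s₂ E' _ h2 x⟩

end map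
end Groth.Agent.Lib.ShDescent16

namespace Groth.Agent.Lib.ShDescent16
open TensorProduct AzInv Groth.Agent.Lib.RInvHerm

section stdformI
universe u v w
variable {S : Type u} {R : Type v} [CommRing S] [CommRing R] [Algebra S R]
  {lam : R ≃ₐ[S] R} (hlam : ∀ r, lam (lam r) = r)
  {A : Type w} [Ring A] [Algebra S A] [Algebra R A] [IsScalarTower S R A]
  (t : AzInv.LamInv R A lam)
  (T : Type*) [CommRing T] [Algebra S T] (I : Type*) [Fintype I] [DecidableEq I]

/-- general-index standard form with explicit twisting matrix `u` (and its inverse `ui`) -/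
def StdFormI (u ui : Matrix I I (T ⊗[S] R)) : Prop :=
  ∃ F : T ⊗[S] A ≃ₐ[T] Matrix I I (T ⊗[S] R),
    (∀ (r : R) (x : T ⊗[S] A), F (((1 : T) ⊗ₜ[S] algebraMap R A r) * x) =
      ((1 : T) ⊗ₜ[S] r : T ⊗[S] R) • F x) ∧
    ∀ x : T ⊗[S] A, F (t.bc S lam T x) = u * st (lamT T lam).toRingEquiv (F x) * ui

variable {t T I}

theorem StdForm.toI {n : ℕ} {u : (Matrix (Fin n) (Fin n) (T ⊗[S] R))ˣ} {ε : T ⊗[S] R}
    {hu : trK hlam T n (↑u : Matrix (Fin n) (Fin n) (T ⊗[S] R)) =
      ε • (↑u : Matrix (Fin n) (Fin n) (T ⊗[S] R))}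
    {he : lamT T lam ε * ε = 1}
    (h : StdForm t T ((trK hlam T n).conj u ε hu he)) :
    StdFormI t T (Fin n) (↑u : Matrix (Fin n) (Fin n) (T ⊗[S] R))
      (↑u⁻¹ : Matrix (Fin n) (Fin n) (T ⊗[S] R)) := by
  obtain ⟨F, hF1, hF2⟩ := h
  refine ⟨F, fun r x => ?_, fun x => ?_⟩
  · rw [hF1]
    ext i j
    simp [Matrix.scalar_apply, Matrix.diagonal_mul]
  · rw [hF2, LamInv.conj_apply]
    rfl

/-- the induced involution on matrices is again in standard form -/
theorem StdFormI.matrix (m : Type*) [Fintype m] [DecidableEq m] {u ui : Matrix I I (T ⊗[S] R)}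
    (h : StdFormI t T I u ui) :
    StdFormI (t.matrix m) T (m × I)
      (Matrix.comp m m I I (T ⊗[S] R) (Matrix.diagonal fun _ => u))
      (Matrix.comp m m I I (T ⊗[S] R) (Matrix.diagonal fun _ => ui)) := by
  obtain ⟨F, hF1, hF2⟩ := h
  let Fm : T ⊗[S] Matrix m m A ≃ₐ[T] Matrix (m × I) (m × I) (T ⊗[S] R) :=
    (Groth.Agent.Lib.AzInvStd16.matTensor S T A m).trans
      (F.mapMatrix.trans (Matrix.compAlgEquiv m I (T ⊗[S] R) T))
  have key : ∀ (a : T) (M' : Matrix m m A),
      Fm (a ⊗ₜ[S] M') =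
      Matrix.comp m m I I (T ⊗[S] R) (Matrix.of fun i j => F (a ⊗ₜ[S] M' i j)) := by
    intro a M'
    change Matrix.compAlgEquiv m I (T ⊗[S] R) T
      (F.mapMatrix (Groth.Agent.Lib.AzInvStd16.matTensor S T A m (a ⊗ₜ[S] M'))) = _
    rw [Matrix.compAlgEquiv_apply]
    congr 1
  refine ⟨Fm, fun r x => ?_, fun x => ?_⟩
  · induction x using TensorProduct.induction_on with
    | zero => simp
    | add x y hx hy => rw [mul_add, map_add, hx, hy, map_add, smul_add]
    | tmul a M =>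
      rw [Algebra.TensorProduct.tmul_mul_tmul, one_mul, key, key]
      ext ⟨i, p⟩ ⟨j, q⟩
      rw [Matrix.smul_apply, Matrix.comp_apply, Matrix.comp_apply, Matrix.of_apply,
        Matrix.of_apply]
      have h1 : (algebraMap R (Matrix m m A) r * M) i j = algebraMap R A r * M i j := by
        rw [Matrix.algebraMap_eq_diagonal, Matrix.diagonal_mul]
        rfl
      have h2 : (a ⊗ₜ[S] (algebraMap R A r * M i j) : T ⊗[S] A) =
          ((1 : T) ⊗ₜ[S] algebraMap R A r) * (a ⊗ₜ[S] M i j) := by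
        rw [Algebra.TensorProduct.tmul_mul_tmul, one_mul]
      rw [h1, h2, hF1, Matrix.smul_apply]
  · induction x using TensorProduct.induction_on with
    | zero => simp [st_zero]
    | add x y hx hy => rw [map_add, map_add, hx, hy, map_add, st_add, mul_add, add_mul]
    | tmul a M =>
      rw [LamInv.bc_tmul, key, key]
      have h3 : st (lamT T lam).toRingEquiv
          (Matrix.comp m m I I (T ⊗[S] R) (Matrix.of fun i j => F (a ⊗ₜ[S] M i j))) =
          Matrix.comp m m I I (T ⊗[S] R)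
            (Matrix.of fun i j => st (lamT T lam).toRingEquiv (F (a ⊗ₜ[S] M j i))) := by
        ext ⟨i, p⟩ ⟨j, q⟩
        rfl
      rw [h3, ← Matrix.compRingEquiv_apply, ← Matrix.compRingEquiv_apply,
        ← Matrix.compRingEquiv_apply, ← Matrix.compRingEquiv_apply, ← map_mul, ← map_mul]
      congr 1
      ext i j : 1
      rw [Matrix.mul_diagonal, Matrix.diagonal_mul]
      simp only [Matrix.of_apply, LamInv.matrix_apply]
      have := hF2 (a ⊗ₜ[S] M j i)
      rw [LamInv.bc_tmul] at this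
      exact this

end stdformI
end Groth.Agent.Lib.ShDescent16

namespace Groth.Agent.Lib.ShDescent16
open TensorProduct AzInv Groth.Agent.Lib.RInvHerm

section signinv
variable {K : Type*} [CommRing K] (lamK : K ≃+* K) (hlamK : Function.Involutive lamK)
  {I : Type*} [Fintype I] [DecidableEq I] [Nonempty I]

include hlamK in
/-- **Sign relation**: an algebra automorphism of `M_I(K)` intertwining two twisted transposes
relates their signs. -/
theorem exists_sign_relation [Finite (MaximalSpectrum K)]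
    (G : Matrix I I K ≃ₐ[K] Matrix I I K) (u₁ ui₁ u₂ ui₂ : Matrix I I K) (ε₁ ε₂ : K)
    (h₁ : u₁ * ui₁ = 1) (h₁' : ui₁ * u₁ = 1) (h₂ : u₂ * ui₂ = 1) (h₂' : ui₂ * u₂ = 1)
    (hs₁ : st lamK u₁ = ε₁ • u₁) (hs₂ : st lamK u₂ = ε₂ • u₂)
    (hG : ∀ X, G (u₁ * st lamK X * ui₁) = u₂ * st lamK (G X) * ui₂) :
    ∃ c : K, IsUnit c ∧ ε₁ * c = lamK c * ε₂ := by
  haveI : IsAzumaya K (Matrix I I K) := IsAzumaya.matrix K I
  obtain ⟨g, hg⟩ :=
    Groth.Agent.Lib.AzumayaSemilocalSN16.skolem_noether_of_finite_maximalSpectrum G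
  set gm : Matrix I I K := (↑g : Matrix I I K) with hgm
  set gi : Matrix I I K := (↑g⁻¹ : Matrix I I K) with hgi
  have hggi : gm * gi = 1 := g.mul_inv
  have hgig : gi * gm = 1 := g.inv_mul
  have hsg1 : st lamK gi * st lamK gm = 1 := by rw [← st_mul, hggi, st_one]
  have hsg2 : st lamK gm * st lamK gi = 1 := by rw [← st_mul, hgig, st_one]
  set z : Matrix I I K := st lamK gm * ui₂ * gm * u₁ with hz
  have hzu : IsUnit z := by
    refine IsUnit.of_mul_eq_one (ui₁ * gi * u₂ * st lamK gi) ?_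
    rw [hz]
    calc st lamK gm * ui₂ * gm * u₁ * (ui₁ * gi * u₂ * st lamK gi)
        = st lamK gm * ui₂ * gm * (u₁ * ui₁) * gi * u₂ * st lamK gi := by
          simp only [Matrix.mul_assoc]
      _ = st lamK gm * ui₂ * (gm * gi) * u₂ * st lamK gi := by
          rw [h₁, Matrix.mul_one]; simp only [Matrix.mul_assoc]
      _ = st lamK gm * (ui₂ * u₂) * st lamK gi := by
          rw [hggi, Matrix.mul_one]; simp only [Matrix.mul_assoc]
      _ = 1 := by rw [h₂', Matrix.mul_one, hsg2]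
  have hcomm : ∀ Y : Matrix I I K, z * Y = Y * z := by
    intro Y
    obtain ⟨X, rfl⟩ : ∃ X, Y = st lamK X := ⟨st lamK Y, (st_st lamK hlamK Y).symm⟩
    have h := hG X
    rw [hg, hg, st_mul, st_mul] at h
    -- `gm * (u₁ * st X * ui₁) * gi = u₂ * (st gi * (st X * st gm)) * ui₂`
    have e1 : gm * (u₁ * st lamK X * ui₁) * gi * (gm * u₁) = gm * u₁ * st lamK X := by
      calc gm * (u₁ * st lamK X * ui₁) * gi * (gm * u₁)
          = gm * u₁ * st lamK X * (ui₁ * ((gi * gm) * u₁)) := by simp only [Matrix.mul_assoc]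
        _ = gm * u₁ * st lamK X := by rw [hgig, Matrix.one_mul, h₁', Matrix.mul_one]
    calc z * st lamK X
        = st lamK gm * ui₂ * (gm * (u₁ * st lamK X * ui₁) * gi * (gm * u₁)) := by
          rw [e1, hz]; simp only [Matrix.mul_assoc]
      _ = st lamK gm * ui₂ *
            (u₂ * (st lamK gi * (st lamK X * st lamK gm)) * ui₂ * (gm * u₁)) := by
          rw [h]
      _ = (st lamK gm * ((ui₂ * u₂) * st lamK gi)) * st lamK X *
            (st lamK gm * ui₂ * gm * u₁) := by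
          simp only [Matrix.mul_assoc]
      _ = st lamK X * z := by
          rw [h₂', Matrix.one_mul, hsg2, Matrix.one_mul]
  have hmem : z ∈ Set.range (Matrix.scalar I) := by
    rw [Matrix.mem_range_scalar_iff_commute_single']
    intro i j
    exact (hcomm _).symm
  obtain ⟨c, hc⟩ := hmem
  have hc' : z = c • (1 : Matrix I I K) := by
    rw [← hc]
    ext i j
    simp [Matrix.scalar_apply, Matrix.one_apply, Matrix.diagonal_apply]
  have hcu : IsUnit c := by
    rw [hc', Matrix.isUnit_iff_isUnit_det, Matrix.det_smul, Matrix.det_one, mul_one] at hzu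
    exact (isUnit_pow_iff Fintype.card_ne_zero).1 hzu
  refine ⟨c, hcu, ?_⟩
  -- `gm * u₁ * st gm = c • u₂`
  have hkey : gm * u₁ * st lamK gm = c • u₂ := by
    calc gm * u₁ * st lamK gm
        = u₂ * (st lamK gi * (st lamK gm * ui₂ * gm * u₁)) * st lamK gm := by
          rw [← Matrix.mul_assoc (st lamK gi), ← Matrix.mul_assoc (st lamK gi),
            ← Matrix.mul_assoc (st lamK gi), hsg1, Matrix.one_mul]
          rw [← Matrix.mul_assoc u₂, ← Matrix.mul_assoc u₂, h₂, Matrix.one_mul]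
      _ = c • u₂ := by
          rw [← hz, hc']
          simp only [Matrix.mul_smul, Matrix.smul_mul, Matrix.mul_one]
          rw [Matrix.mul_assoc, hsg1, Matrix.mul_one]
  have h3 := congrArg (st lamK) hkey
  rw [st_mul, st_mul, st_st lamK hlamK, hs₁, st_smul, hs₂] at h3
  simp only [Matrix.mul_smul, Matrix.smul_mul] at h3
  rw [← Matrix.mul_assoc, hkey, smul_smul, smul_smul] at h3
  have h4 := congrArg (fun M => M * ui₂) h3
  simp only [Matrix.smul_mul, h₂] at h4
  obtain ⟨i⟩ := ‹Nonempty I›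
  have h5 := congrFun (congrFun h4 i) i
  simpa using h5

end signinv

section locring
variable {K : Type*} [CommRing K] (lamK : K ≃+* K) [IsLocalRing K]

/-- in the ramified local case the sign relation preserves the type -/
theorem isUnit_one_add_iff (hid : ∀ a : K, lamK a - a ∈ Ring.jacobson K) {c ε₁ ε₂ : K}
    (hc : IsUnit c) (h : ε₁ * c = lamK c * ε₂) : IsUnit (1 + ε₁) ↔ IsUnit (1 + ε₂) := by
  have hmem : (1 + ε₁) * c - (1 + ε₂) * c ∈ IsLocalRing.maximalIdeal K := by
    have e : (1 + ε₁) * c - (1 + ε₂) * c = (lamK c - c) * ε₂ := by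
      calc (1 + ε₁) * c - (1 + ε₂) * c = ε₁ * c - c * ε₂ := by ring
        _ = (lamK c - c) * ε₂ := by rw [h]; ring
    rw [e, ← IsLocalRing.ringJacobson_eq_maximalIdeal]
    exact Ideal.mul_mem_right _ _ (hid c)
  have key : ∀ x y : K, x - y ∈ IsLocalRing.maximalIdeal K → IsUnit x → IsUnit y := by
    intro x y hxy hx
    by_contra hy
    have hy' : y ∈ IsLocalRing.maximalIdeal K := (IsLocalRing.mem_maximalIdeal y).2 hy
    have : x ∈ IsLocalRing.maximalIdeal K := by
      have := Ideal.add_mem _ hxy hy'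
      rwa [sub_add_cancel] at this
    exact ((IsLocalRing.mem_maximalIdeal x).1 this) hx
  constructor
  · intro h1
    have h2 : IsUnit ((1 + ε₂) * c) := key _ _ hmem (h1.mul hc)
    exact isUnit_of_mul_isUnit_left h2
  · intro h1
    have hmem' : (1 + ε₂) * c - (1 + ε₁) * c ∈ IsLocalRing.maximalIdeal K := by
      have := Ideal.neg_mem_iff _ |>.2 hmem
      rwa [neg_sub] at this
    have h2 : IsUnit ((1 + ε₁) * c) := key _ _ hmem' (h1.mul hc)
    exact isUnit_of_mul_isUnit_left h2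

end locring
end Groth.Agent.Lib.ShDescent16

namespace Groth.Agent.Lib.ShDescent16
open TensorProduct AzInv Groth.Agent.Lib.RInvHerm

section compdiag
variable {K : Type*} [CommRing K] (lamK : K ≃+* K)
  {m I : Type*} [Fintype m] [DecidableEq m] [Fintype I] [DecidableEq I]

theorem comp_diagonal_mul (u ui : Matrix I I K) (h : u * ui = 1) :
    Matrix.comp m m I I K (Matrix.diagonal fun _ => u) *
      Matrix.comp m m I I K (Matrix.diagonal fun _ => ui) = 1 := by
  rw [← Matrix.compRingEquiv_apply, ← Matrix.compRingEquiv_apply, ← map_mul,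
    Matrix.diagonal_mul_diagonal]
  simp only [h]
  rw [Matrix.diagonal_one, map_one]

theorem st_comp_diagonal (u : Matrix I I K) (ε : K) (h : st lamK u = ε • u) :
    st lamK (Matrix.comp m m I I K (Matrix.diagonal fun _ => u)) =
      ε • Matrix.comp m m I I K (Matrix.diagonal fun _ => u) := by
  ext ⟨i, p⟩ ⟨j, q⟩
  rw [st_apply, Matrix.smul_apply, Matrix.comp_apply, Matrix.comp_apply, Matrix.diagonal_apply,
    Matrix.diagonal_apply]
  have h1 : lamK (u q p) = ε * u p q := by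
    have := congrFun (congrFun h p) q
    rwa [st_apply, Matrix.smul_apply, smul_eq_mul] at this
  by_cases hij : i = j
  · subst hij
    simp [h1]
  · have hji : ¬ j = i := fun e => hij e.symm
    simp [hij, hji]

end compdiag

section signiso
universe u v w w'
variable {S : Type u} {R : Type v} [CommRing S] [CommRing R] [Algebra S R]
  {lam : R ≃ₐ[S] R} (hlam : ∀ r, lam (lam r) = r)
  {A : Type w} [Ring A] [Algebra S A] [Algebra R A] [IsScalarTower S R A]
  {A' : Type w'} [Ring A'] [Algebra S A'] [Algebra R A'] [IsScalarTower S R A']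
  {t : AzInv.LamInv R A lam} {t' : AzInv.LamInv R A' lam}
  {T : Type*} [CommRing T] [Algebra S T]

/-- **Invariance of the sign**: if `(M_m(A), t)` and `(M_m'(A'), t')` are isomorphic over `T`, the
signs of the standard forms of `t` and `t'` over `T` are related by a unit. -/
theorem exists_sign_of_isoOverG [Nontrivial (T ⊗[S] R)] [Finite (MaximalSpectrum (T ⊗[S] R))]
    {n : ℕ} (hn : 0 < n)
    {u u' : (Matrix (Fin n) (Fin n) (T ⊗[S] R))ˣ} {ε ε' : T ⊗[S] R}
    {hu : trK hlam T n (↑u : Matrix (Fin n) (Fin n) (T ⊗[S] R)) =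
      ε • (↑u : Matrix (Fin n) (Fin n) (T ⊗[S] R))}
    {he : lamT T lam ε * ε = 1}
    {hu' : trK hlam T n (↑u' : Matrix (Fin n) (Fin n) (T ⊗[S] R)) =
      ε' • (↑u' : Matrix (Fin n) (Fin n) (T ⊗[S] R))}
    {he' : lamT T lam ε' * ε' = 1}
    (h₁ : StdForm t T ((trK hlam T n).conj u ε hu he))
    (h₂ : StdForm t' T ((trK hlam T n).conj u' ε' hu' he'))
    {m m' : ℕ} (hm : 0 < m)
    (hiso : IsoOverG (R := R) ((t.matrix (Fin m)).linS S lam) ((t'.matrix (Fin m')).linS S lam) T) :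
    ∃ c : T ⊗[S] R, IsUnit c ∧ ε * c = lamT T lam c * ε' := by
  obtain ⟨Fm, hFm1, hFm2⟩ := (h₁.toI hlam).matrix (Fin m)
  obtain ⟨Fm', hFm'1, hFm'2⟩ := (h₂.toI hlam).matrix (Fin m')
  obtain ⟨f, hf1, hf2⟩ := hiso
  obtain ⟨G₀, hG₀⟩ : ∃ G₀ : Matrix (Fin m × Fin n) (Fin m × Fin n) (T ⊗[S] R) ≃ₐ[T]
      Matrix (Fin m' × Fin n) (Fin m' × Fin n) (T ⊗[S] R), G₀ = Fm.symm.trans (f.trans Fm') :=
    ⟨_, rfl⟩
  have hG₀a : ∀ X, G₀ X = Fm' (f (Fm.symm X)) := fun X => by rw [hG₀]; rfl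
  have hlin1 : ∀ (r : R) X, G₀ (((1 : T) ⊗ₜ[S] r : T ⊗[S] R) • X) =
      ((1 : T) ⊗ₜ[S] r : T ⊗[S] R) • G₀ X := by
    intro r X
    rw [hG₀a, hG₀a]
    have e1 : Fm.symm (((1 : T) ⊗ₜ[S] r : T ⊗[S] R) • X) =
        ((1 : T) ⊗ₜ[S] algebraMap R (Matrix (Fin m) (Fin m) A) r) * Fm.symm X := by
      apply Fm.injective
      rw [AlgEquiv.apply_symm_apply, hFm1, AlgEquiv.apply_symm_apply]
    rw [e1, hf1, hFm'1]
  have hlin : ∀ (c : T ⊗[S] R) X, G₀ (c • X) = c • G₀ X := by
    intro c X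
    induction c using TensorProduct.induction_on with
    | zero => simp
    | add x y hx hy => rw [add_smul, map_add, hx, hy, add_smul]
    | tmul a r =>
      have e : (a ⊗ₜ[S] r : T ⊗[S] R) = a • ((1 : T) ⊗ₜ[S] r) := by
        rw [TensorProduct.smul_tmul', smul_eq_mul, mul_one]
      rw [e, smul_assoc, map_smul, hlin1, smul_assoc]
  let G : Matrix (Fin m × Fin n) (Fin m × Fin n) (T ⊗[S] R) ≃ₐ[T ⊗[S] R]
      Matrix (Fin m' × Fin n) (Fin m' × Fin n) (T ⊗[S] R) :=
    AlgEquiv.ofRingEquiv (f := G₀.toRingEquiv) (fun c => by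
      change G₀ (algebraMap (T ⊗[S] R) _ c) = _
      rw [Algebra.algebraMap_eq_smul_one, hlin, map_one, ← Algebra.algebraMap_eq_smul_one])
  have hGa : ∀ X, G X = G₀ X := fun X => rfl
  -- sizes agree
  have hmm : m = m' := by
    have h := G.toLinearEquiv.finrank_eq
    simp only [Module.finrank_matrix, Fintype.card_prod, Fintype.card_fin, Module.finrank_self,
      mul_one] at h
    have h2 : m * n = m' * n := Nat.mul_self_inj.1 h
    exact Nat.eq_of_mul_eq_mul_right hn h2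
  subst hmm
  haveI : Nonempty (Fin m) := Fin.pos_iff_nonempty.1 hm
  haveI : Nonempty (Fin n) := Fin.pos_iff_nonempty.1 hn
  have hu1 : st (lamT T lam).toRingEquiv (↑u : Matrix (Fin n) (Fin n) (T ⊗[S] R)) =
      ε • (↑u : Matrix (Fin n) (Fin n) (T ⊗[S] R)) := hu
  have hu'1 : st (lamT T lam).toRingEquiv (↑u' : Matrix (Fin n) (Fin n) (T ⊗[S] R)) =
      ε' • (↑u' : Matrix (Fin n) (Fin n) (T ⊗[S] R)) := hu'
  refine exists_sign_relation (lamT T lam).toRingEquiv (lamT_involutive T lam hlam) G _ _ _ _ ε ε'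
    (comp_diagonal_mul _ _ u.mul_inv) (comp_diagonal_mul _ _ u.inv_mul)
    (comp_diagonal_mul _ _ u'.mul_inv) (comp_diagonal_mul _ _ u'.inv_mul)
    (st_comp_diagonal _ _ _ hu1) (st_comp_diagonal _ _ _ hu'1) (fun X => ?_)
  obtain ⟨x, rfl⟩ := Fm.surjective X
  rw [← hFm2, hGa, hGa, hG₀a, hG₀a, AlgEquiv.symm_apply_apply, AlgEquiv.symm_apply_apply,
    ← hFm'2]
  congr 1
  exact hf2 x

end signiso
end Groth.Agent.Lib.ShDescent16

namespace Groth.Agent.Lib.ShDescent16
open TensorProduct AzInv Groth.Agent.Lib.RInvHerm Groth.Agent.Lib.SkewHerm16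

section normal
universe u v
variable {B : Type u} {K : Type v} [CommRing B] [CommRing K] [Algebra B K]
  (lamK : K ≃+* K) (hlamK : Function.Involutive lamK) (hB : RInv.IsFixedRing B K lamK)

/-- two forms congruent up to scalars to the same form are congruent up to a scalar -/
theorem exists_congr_of_std {n : ℕ} (N : Matrix (Fin n) (Fin n) K)
    (u u' w w' : (Matrix (Fin n) (Fin n) K)ˣ) (c c' : K) (hc' : IsUnit c')
    (h : (↑w : Matrix (Fin n) (Fin n) K) * (↑u : Matrix (Fin n) (Fin n) K) * st lamK (↑w : Matrix (Fin n) (Fin n) K) = c • N)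
    (h' : (↑w' : Matrix (Fin n) (Fin n) K) * (↑u' : Matrix (Fin n) (Fin n) K) * st lamK (↑w' : Matrix (Fin n) (Fin n) K) =
      c' • N) :
    ∃ (v : (Matrix (Fin n) (Fin n) K)ˣ) (c'' : K),
      (↑v : Matrix (Fin n) (Fin n) K) * (↑u : Matrix (Fin n) (Fin n) K) * st lamK (↑v : Matrix (Fin n) (Fin n) K) =
        c'' • (↑u' : Matrix (Fin n) (Fin n) K) := by
  obtain ⟨cu, rfl⟩ := hc'
  refine ⟨w'⁻¹ * w, c * ↑cu⁻¹, ?_⟩
  have hN : N = (↑cu⁻¹ : K) • ((↑w' : Matrix (Fin n) (Fin n) K) * (↑u' : Matrix (Fin n) (Fin n) K) *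
      st lamK (↑w' : Matrix (Fin n) (Fin n) K)) := by
    rw [h', smul_smul, Units.inv_mul, one_smul]
  have hst : st lamK (↑w' : Matrix (Fin n) (Fin n) K) *
      st lamK (↑w'⁻¹ : Matrix (Fin n) (Fin n) K) = 1 := by
    rw [← st_mul, Units.inv_mul, st_one]
  rw [Units.val_mul, st_mul]
  calc (↑w'⁻¹ : Matrix (Fin n) (Fin n) K) * (↑w : Matrix (Fin n) (Fin n) K) * (↑u : Matrix (Fin n) (Fin n) K) *
        (st lamK (↑w : Matrix (Fin n) (Fin n) K) * st lamK (↑w'⁻¹ : Matrix (Fin n) (Fin n) K))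
      = (↑w'⁻¹ : Matrix (Fin n) (Fin n) K) * ((↑w : Matrix (Fin n) (Fin n) K) * (↑u : Matrix (Fin n) (Fin n) K) * st lamK (↑w : Matrix (Fin n) (Fin n) K)) * st lamK (↑w'⁻¹ : Matrix (Fin n) (Fin n) K) := by
        simp only [Matrix.mul_assoc]
    _ = (c * ↑cu⁻¹) • ((↑w'⁻¹ : Matrix (Fin n) (Fin n) K) *
          ((↑w' : Matrix (Fin n) (Fin n) K) * (↑u' : Matrix (Fin n) (Fin n) K) * st lamK (↑w' : Matrix (Fin n) (Fin n) K)) * st lamK (↑w'⁻¹ : Matrix (Fin n) (Fin n) K)) := by
        rw [h, hN]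
        simp only [Matrix.mul_smul, Matrix.smul_mul, smul_smul]
    _ = (c * ↑cu⁻¹) • (↑u' : Matrix (Fin n) (Fin n) K) := by
        congr 1
        simp only [Matrix.mul_assoc]
        rw [hst, Matrix.mul_one, ← Matrix.mul_assoc, Units.inv_mul, Matrix.one_mul]

variable [IsLocalRing B]

include hlamK hB in
/-- hermitian type (normalised by `ci`, `ci'`), in the cases where hermitian matrices are
diagonalisable -/
theorem exists_congr_of_herm (hsqB : ∀ x : Bˣ, ∃ y : B, y * y = ↑x) {n : ℕ} (hn : 0 < n)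
    (u u' : (Matrix (Fin n) (Fin n) K)ˣ) (ε ε' : K)
    (hu : st lamK (↑u : Matrix (Fin n) (Fin n) K) = ε • (↑u : Matrix (Fin n) (Fin n) K))
    (hu' : st lamK (↑u' : Matrix (Fin n) (Fin n) K) = ε' • (↑u' : Matrix (Fin n) (Fin n) K))
    (ci ci' : K) (hci : IsUnit ci) (hci' : IsUnit ci') (hlci : lamK ci * ε = ci)
    (hlci' : lamK ci' * ε' = ci')
    (hcase : (∃ a : K, lamK a - a ∉ Ring.jacobson K) ∨ (1 : K) + 1 ∉ Ring.jacobson K ∨ Odd n) :
    ∃ (v : (Matrix (Fin n) (Fin n) K)ˣ) (c : K),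
      (↑v : Matrix (Fin n) (Fin n) K) * (↑u : Matrix (Fin n) (Fin n) K) * st lamK (↑v : Matrix (Fin n) (Fin n) K) =
        c • (↑u' : Matrix (Fin n) (Fin n) K) := by
  obtain ⟨w, c, hw⟩ := exists_congr_one lamK hlamK hB hsqB u ε hu ci hci hlci hcase
  obtain ⟨w', c', hw'⟩ := exists_congr_one lamK hlamK hB hsqB u' ε' hu' ci' hci' hlci' hcase
  have hc' : IsUnit c' := by
    refine isUnit_of_isUnit_smul_matrix hn c' 1 ?_
    rw [← hw']
    exact (w'.isUnit.mul u'.isUnit).mul (isUnit_st lamK w'.isUnit)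
  exact exists_congr_of_std lamK 1 u u' w w' c c' hc' hw hw'

include hlamK hB in
/-- the unramified case -/
theorem exists_congr_of_good (hsqB : ∀ x : Bˣ, ∃ y : B, y * y = ↑x) {n : ℕ} (hn : 0 < n)
    (hG : ∃ a : K, lamK a - a ∉ Ring.jacobson K)
    (u u' : (Matrix (Fin n) (Fin n) K)ˣ) (ε ε' : K)
    (hu : st lamK (↑u : Matrix (Fin n) (Fin n) K) = ε • (↑u : Matrix (Fin n) (Fin n) K))
    (hu' : st lamK (↑u' : Matrix (Fin n) (Fin n) K) = ε' • (↑u' : Matrix (Fin n) (Fin n) K))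
    (he : lamK ε * ε = 1) (he' : lamK ε' * ε' = 1) :
    ∃ (v : (Matrix (Fin n) (Fin n) K)ˣ) (c : K),
      (↑v : Matrix (Fin n) (Fin n) K) * (↑u : Matrix (Fin n) (Fin n) K) * st lamK (↑v : Matrix (Fin n) (Fin n) K) =
        c • (↑u' : Matrix (Fin n) (Fin n) K) := by
  obtain ⟨x, hx⟩ := exists_isUnit_add_mul_lam lamK hlamK hB hG ε he
  obtain ⟨x', hx'⟩ := exists_isUnit_add_mul_lam lamK hlamK hB hG ε' he'
  have key : ∀ (e y : K), lamK e * e = 1 → lamK (y + e * lamK y) * e = y + e * lamK y := by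
    intro e y hey
    rw [map_add, map_mul, hlamK y]
    calc (lamK y + lamK e * y) * e = e * lamK y + (lamK e * e) * y := by ring
      _ = y + e * lamK y := by rw [hey]; ring
  exact exists_congr_of_herm lamK hlamK hB hsqB hn u u' ε ε' hu hu' _ _ hx hx' (key ε x he)
    (key ε' x' he') (Or.inl hG)

variable [IsLocalRing K]

include hlamK hB in
/-- the ramified skew-hermitian case -/
theorem exists_congr_of_skew (hsqB : ∀ x : Bˣ, ∃ y : B, y * y = ↑x) {n : ℕ}
    (h2 : IsUnit (2 : K)) (hid : ∀ a : K, lamK a - a ∈ Ring.jacobson K)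
    (u u' : (Matrix (Fin n) (Fin n) K)ˣ) (ε ε' : K)
    (hu : st lamK (↑u : Matrix (Fin n) (Fin n) K) = ε • (↑u : Matrix (Fin n) (Fin n) K))
    (hu' : st lamK (↑u' : Matrix (Fin n) (Fin n) K) = ε' • (↑u' : Matrix (Fin n) (Fin n) K))
    (he : lamK ε * ε = 1) (he' : lamK ε' * ε' = 1)
    (h1 : IsUnit (1 - ε)) (h1' : IsUnit (1 - ε')) :
    ∃ (v : (Matrix (Fin n) (Fin n) K)ˣ) (c : K),
      (↑v : Matrix (Fin n) (Fin n) K) * (↑u : Matrix (Fin n) (Fin n) K) * st lamK (↑v : Matrix (Fin n) (Fin n) K) =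
        c • (↑u' : Matrix (Fin n) (Fin n) K) := by
  have key : ∀ (u : (Matrix (Fin n) (Fin n) K)ˣ) (ε : K),
      st lamK (↑u : Matrix (Fin n) (Fin n) K) = ε • (↑u : Matrix (Fin n) (Fin n) K) →
      lamK ε * ε = 1 → IsUnit (1 - ε) →
      ∃ (w : (Matrix (Fin n) (Fin n) K)ˣ) (c : K), IsUnit c ∧
        (↑w : Matrix (Fin n) (Fin n) K) * (↑u : Matrix (Fin n) (Fin n) K) * st lamK (↑w : Matrix (Fin n) (Fin n) K) =
          c • Jc K n := by
    intro u ε hu he h1
    obtain ⟨cu, hcu⟩ := h1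
    have hl : lamK (1 - ε) * ε = -(1 - ε) := by
      rw [map_sub, map_one, sub_mul, he]; ring
    set h : Matrix (Fin n) (Fin n) K := (1 - ε) • (↑u : Matrix (Fin n) (Fin n) K) with hh
    have hherm : (-1 : K) • st lamK h = h := by
      rw [hh, st_smul, hu, smul_smul, smul_smul, mul_assoc, hl]
      congr 1
      ring
    have hhu : IsUnit h := by
      refine IsUnit.of_mul_eq_one ((↑cu⁻¹ : K) • (↑u⁻¹ : Matrix (Fin n) (Fin n) K)) ?_
      rw [hh, smul_mul_smul_comm, Units.mul_inv, ← hcu, Units.mul_inv, one_smul]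
    obtain ⟨a, ha, e⟩ := cg_Jc lamK hlamK hB h2 hid hsqB n h hhu hherm
    obtain ⟨w, hw⟩ := isUnit_st lamK ha
    refine ⟨w, ↑cu⁻¹, Units.isUnit _, ?_⟩
    rw [hw, st_st lamK hlamK, ← e, hh]
    simp only [Matrix.mul_smul, Matrix.smul_mul, smul_smul]
    rw [← hcu, Units.inv_mul, one_smul]
  obtain ⟨w, c, -, hw⟩ := key u ε hu he h1
  obtain ⟨w', c', hc', hw'⟩ := key u' ε' hu' he' h1'
  exact exists_congr_of_std lamK (Jc K n) u u' w w' c c' hc' hw hw'

end normal

section ramified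
universe u v
variable {B : Type u} {K : Type v} [CommRing B] [CommRing K] [Algebra B K]
  (lamK : K ≃+* K) (hlamK : Function.Involutive lamK) (hB : RInv.IsFixedRing B K lamK)
  [IsLocalRing B]

include hlamK hB in
/-- the ramified case with `2` invertible, given the sign relation -/
theorem exists_congr_of_ramified (hsqB : ∀ x : Bˣ, ∃ y : B, y * y = ↑x) {n : ℕ} (hn : 0 < n)
    (h2 : IsUnit (2 : K)) (hid : ∀ a : K, lamK a - a ∈ Ring.jacobson K)
    (u u' : (Matrix (Fin n) (Fin n) K)ˣ) (ε ε' : K)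
    (hu : st lamK (↑u : Matrix (Fin n) (Fin n) K) = ε • (↑u : Matrix (Fin n) (Fin n) K))
    (hu' : st lamK (↑u' : Matrix (Fin n) (Fin n) K) = ε' • (↑u' : Matrix (Fin n) (Fin n) K))
    (he : lamK ε * ε = 1) (he' : lamK ε' * ε' = 1)
    (c : K) (hc : IsUnit c) (hrel : ε * c = lamK c * ε') :
    ∃ (v : (Matrix (Fin n) (Fin n) K)ˣ) (c : K),
      (↑v : Matrix (Fin n) (Fin n) K) * (↑u : Matrix (Fin n) (Fin n) K) * st lamK (↑v : Matrix (Fin n) (Fin n) K) =
        c • (↑u' : Matrix (Fin n) (Fin n) K) := by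
  haveI : IsLocalRing K := isLocalRing_of_bad lamK hlamK hB hid
  have hiff := isUnit_one_add_iff lamK hid hc hrel
  have hsum : ∀ e : K, IsUnit ((1 + e) + (1 - e)) := by
    intro e
    have : (1 + e) + (1 - e) = 2 := by ring
    rw [this]; exact h2
  have hkey : ∀ e : K, lamK e * e = 1 → lamK (1 + e) * e = 1 + e := by
    intro e hee
    rw [map_add, map_one, add_mul, hee]; ring
  by_cases h1 : IsUnit (1 + ε)
  · have h1' : IsUnit (1 + ε') := hiff.1 h1
    have h2' : (1 : K) + 1 ∉ Ring.jacobson K := by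
      rw [one_add_one_eq_two]
      exact notMem_jacobson_of_isUnit h2
    exact exists_congr_of_herm lamK hlamK hB hsqB hn u u' ε ε' hu hu' _ _ h1 h1' (hkey ε he)
      (hkey ε' he') (Or.inr (Or.inl h2'))
  · have h1' : ¬ IsUnit (1 + ε') := fun h => h1 (hiff.2 h)
    have h3 : IsUnit (1 - ε) :=
      (IsLocalRing.isUnit_or_isUnit_of_isUnit_add (hsum ε)).resolve_left h1
    have h3' : IsUnit (1 - ε') :=
      (IsLocalRing.isUnit_or_isUnit_of_isUnit_add (hsum ε')).resolve_left h1'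
    exact exists_congr_of_skew lamK hlamK hB hsqB h2 hid u u' ε ε' hu hu' he he' h3 h3'

end ramified
end Groth.Agent.Lib.ShDescent16
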