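import Mathlib
import Groth.Agent.Lib.AzInvNorm16
import Groth.Agent.Lib.AzInvQuad16a

/-!
# Same type and same degree imply étale-locally isomorphic (helper16)

* `one_mem_span_of_isQuadEtale`, `exists_notMem_jacobson_of_span`: quadratic étale `R/S` is
  unramified after every base change.
* **`locIsoEt_of_sameType`** (statement S17352).
-/

set_option autoImplicit false
set_option linter.style.haveILetI false
set_option linter.unusedSectionVars false
set_option linter.unusedSimpArgs false

namespace Groth.Agent.Lib.ShDescent16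
open TensorProduct AzInv Groth.Agent.Lib.RInvHerm

section quad
universe u v
variable {S : Type u} {R : Type v} [CommRing S] [CommRing R] [Algebra S R]
  (lam : R ≃ₐ[S] R) (hlam : ∀ r, lam (lam r) = r)

include hlam in
/-- for a quadratic étale algebra the elements `lam s - s` generate the unit ideal -/
theorem one_mem_span_of_isQuadEtale (hfix : RInv.IsFixedRing S R lam.toRingEquiv)
    (hq : RInv.IsQuadEtale S R) :
    (1 : R) ∈ Ideal.span (Set.range fun s : R => lam s - s) := by
  obtain ⟨e, he⟩ := Groth.Agent.Lib.AzInvQuad16.exists_galIdem lam hlam hfix hq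
  set J : Ideal R := Ideal.span (Set.range fun s : R => lam s - s) with hJ
  have key : ∀ z : R ⊗[S] R, Algebra.TensorProduct.lmul' S z -
      Algebra.TensorProduct.lmul' S (Groth.Agent.Lib.AzInvQuad16.L lam z) ∈ J := by
    intro z
    induction z using TensorProduct.induction_on with
    | zero => simp
    | add x y hx hy =>
      rw [map_add, map_add, map_add]
      have : Algebra.TensorProduct.lmul' S x + Algebra.TensorProduct.lmul' S y -
          (Algebra.TensorProduct.lmul' S (Groth.Agent.Lib.AzInvQuad16.L lam x) +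
            Algebra.TensorProduct.lmul' S (Groth.Agent.Lib.AzInvQuad16.L lam y)) =
          (Algebra.TensorProduct.lmul' S x -
            Algebra.TensorProduct.lmul' S (Groth.Agent.Lib.AzInvQuad16.L lam x)) +
          (Algebra.TensorProduct.lmul' S y -
            Algebra.TensorProduct.lmul' S (Groth.Agent.Lib.AzInvQuad16.L lam y)) := by ring
      rw [this]
      exact J.add_mem hx hy
    | tmul a b =>
      rw [Groth.Agent.Lib.AzInvQuad16.L_tmul, Algebra.TensorProduct.lmul'_apply_tmul,
        Algebra.TensorProduct.lmul'_apply_tmul]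
      have : a * b - a * lam b = (-a) * (lam b - b) := by ring
      rw [this]
      exact J.mul_mem_left _ (Ideal.subset_span ⟨b, rfl⟩)
  have := key e
  rwa [he.mul_e, he.mul_Le, sub_zero] at this

/-- hence every nontrivial base change is unramified -/
theorem exists_notMem_jacobson_of_span (T : Type*) [CommRing T] [Algebra S T]
    [Nontrivial (T ⊗[S] R)]
    (h1 : (1 : R) ∈ Ideal.span (Set.range fun s : R => lam s - s)) :
    ∃ a : T ⊗[S] R, (lamT T lam).toRingEquiv a - a ∉ Ring.jacobson (T ⊗[S] R) := by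
  by_contra hcon
  push Not at hcon
  let ι : R →+* T ⊗[S] R := (Algebra.TensorProduct.includeRight : R →ₐ[S] T ⊗[S] R).toRingHom
  have hle : Ideal.span (Set.range fun s : R => lam s - s) ≤
      (Ring.jacobson (T ⊗[S] R)).comap ι := by
    rw [Ideal.span_le]
    rintro _ ⟨s, rfl⟩
    change ι (lam s - s) ∈ Ring.jacobson (T ⊗[S] R)
    have : ι (lam s - s) = (lamT T lam).toRingEquiv ((1 : T) ⊗ₜ[S] s) - (1 : T) ⊗ₜ[S] s := by
      change (1 : T) ⊗ₜ[S] (lam s - s) = lamT T lam ((1 : T) ⊗ₜ[S] s) - (1 : T) ⊗ₜ[S] s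
      rw [lamT_tmul, TensorProduct.tmul_sub]
    rw [this]
    exact hcon _
  have h2 : ι 1 ∈ Ring.jacobson (T ⊗[S] R) := hle h1
  rw [map_one] at h2
  exact notMem_jacobson_of_isUnit isUnit_one h2

end quad

section main
universe u v w w'
variable {S : Type u} {R : Type v} [CommRing S] [CommRing R] [Algebra S R]
  {lam : R ≃ₐ[S] R} (hlam : ∀ r, lam (lam r) = r)
  {A : Type w} [Ring A] [Algebra S A] [Algebra R A] [IsScalarTower S R A]
  {A' : Type w'} [Ring A'] [Algebra S A'] [Algebra R A'] [IsScalarTower S R A']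

include hlam in
/-- **Same type + same degree ⇒ étale-locally isomorphic** (statement S17352). -/
theorem locIsoEt_of_sameType (hfix : RInv.IsFixedRing S R lam.toRingEquiv)
    (hsq : ∀ (S₁ : Type u) [CommRing S₁] [Algebra S S₁] [Algebra.Etale S S₁] (x : S₁ˣ),
      ∃ (S₂ : Type u) (_ : CommRing S₂) (_ : Algebra S₁ S₂) (_ : Algebra.Etale S₁ S₂)
        (_ : Module.FaithfullyFlat S₁ S₂) (y : S₂), y * y = algebraMap S₁ S₂ ↑x)
    {n : ℕ} (hn : 0 < n) (hcond : IsUnit (2 : S) ∨ RInv.IsQuadEtale S R ∨ Odd n)
    (hA : AzInv.IsAzumayaDeg R A n) (hA' : AzInv.IsAzumayaDeg R A' n)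
    (t : AzInv.LamInv R A lam) (t' : AzInv.LamInv R A' lam) (h : AzInv.SameType S lam t t') :
    AzInv.LocIsoEt S lam t t' := by
  refine locIsoEt_of_forall_strictHenselization hA hA' t t' ?_
  intro p _ T _ _ _ _ _ _ hSH _
  haveI : HenselianLocalRing T := hSH.henselian
  haveI : IsSepClosed (IsLocalRing.ResidueField T) := hSH.isSepClosure.sep_closed
  obtain ⟨u, ε, hu, he, hstd⟩ := exists_stdForm_conj hlam hfix hn hA t T
  obtain ⟨u', ε', hu', he', hstd'⟩ := exists_stdForm_conj hlam hfix hn hA' t' T
  have hlamK := lamT_involutive T lam hlam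
  have hB := isFixedRing_baseChange T lam hfix
  have hsqB := exists_sqrt_of_strict S p T hsq
  haveI : Nontrivial (T ⊗[S] R) :=
    Groth.Agent.Lib.RInv88.nontrivial_of_nontrivial (lamT T lam).toRingEquiv hB
  suffices hmain : ∃ (v : (Matrix (Fin n) (Fin n) (T ⊗[S] R))ˣ) (c : T ⊗[S] R),
      (↑v : Matrix (Fin n) (Fin n) (T ⊗[S] R)) * (↑u : Matrix (Fin n) (Fin n) (T ⊗[S] R)) *
        st (lamT T lam).toRingEquiv (↑v : Matrix (Fin n) (Fin n) (T ⊗[S] R)) =
        c • (↑u' : Matrix (Fin n) (Fin n) (T ⊗[S] R)) by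
    obtain ⟨v, c, hv⟩ := hmain
    exact exists_hom_of_congr hlam hstd hstd' v c hv
  by_cases hG : ∃ a : T ⊗[S] R, (lamT T lam).toRingEquiv a - a ∉ Ring.jacobson (T ⊗[S] R)
  · exact exists_congr_of_good (lamT T lam).toRingEquiv hlamK hB hsqB hn hG u u' ε ε' hu hu' he he'
  · rcases hcond with h2 | hq | hodd
    · -- `2` invertible: use the sign relation coming from `SameType`
      push Not at hG
      obtain ⟨m, m', hm, hm', S', _, _, _, _, f, hf1, hf2⟩ := h
      obtain ⟨φ₂, hφ₂⟩ := exists_lift_of_etale_cover (algebraMap S T) S'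
      let φ : S' →ₐ[S] T := { φ₂ with commutes' := fun s => RingHom.congr_fun hφ₂ s }
      have hiso : IsoOverG (R := R) ((t.matrix (Fin m)).linS S lam)
          ((t'.matrix (Fin m')).linS S lam) S' := ⟨f, hf1, hf2⟩
      have hisoT := IsoOverG.map _ _ φ hiso
      haveI : Finite (MaximalSpectrum (T ⊗[S] R)) :=
        Groth.Agent.Lib.AzInvInner16.finite_maximalSpectrum (S := T) (lamT T lam).toRingEquiv
          hlamK hB
      obtain ⟨c, hc, hrel⟩ := exists_sign_of_isoOverG hlam hn hstd hstd' hm hisoT
      have h2K : IsUnit (2 : T ⊗[S] R) := by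
        have := h2.map (algebraMap S (T ⊗[S] R))
        rwa [map_ofNat] at this
      exact exists_congr_of_ramified (lamT T lam).toRingEquiv hlamK hB hsqB hn h2K hG u u' ε ε'
        hu hu' he he' c hc hrel
    · exact absurd (exists_notMem_jacobson_of_span lam T
        (one_mem_span_of_isQuadEtale lam hlam hfix hq)) hG
    · -- odd degree
      obtain ⟨w, c, hw⟩ := exists_congr_one_of_odd (lamT T lam).toRingEquiv hlamK hB hsqB hodd
        u ε hu he
      obtain ⟨w', c', hw'⟩ := exists_congr_one_of_odd (lamT T lam).toRingEquiv hlamK hB hsqB hodd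
        u' ε' hu' he'
      have hc' : IsUnit c' := by
        refine isUnit_of_isUnit_smul_matrix hn c' 1 ?_
        rw [← hw']
        exact (w'.isUnit.mul u'.isUnit).mul (isUnit_st _ w'.isUnit)
      exact exists_congr_of_std (lamT T lam).toRingEquiv 1 u u' w w' c c' hc' hw hw'

end main
end Groth.Agent.Lib.ShDescent16
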