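import Mathlib

/-!
# Faithfully flat descent: elements of flat modules, finite projective modules

helper16.
* `exists_one_tmul_eq`: for `R'` faithfully flat over `R` and `M` flat, an element `x : R' ⊗ M` whose
  two pullbacks to `(R' ⊗ R') ⊗ M` agree is of the form `1 ⊗ m`.
* `flat_of_baseChange`, `finitePresentation_of_baseChange`, `projective_of_baseChange`.
* `rankAtStalk_eq_of_baseChange`.
-/

set_option autoImplicit false
set_option linter.style.haveILetI false
universe u v w

open scoped TensorProduct

namespace Groth.Agent.Lib.FFDescent16

section Elements

variable (R : Type u) [CommRing R] (R' : Type v) [CommRing R'] [Algebra R R']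
  [Module.FaithfullyFlat R R'] (M : Type w) [AddCommGroup M] [Module R M] [Module.Flat R M]

/-- descent of elements of a flat module along a faithfully flat ring map -/
theorem exists_one_tmul_eq (x : R' ⊗[R] M)
    (hx : (Algebra.TensorProduct.includeLeftSubRight R R').rTensor M x = 0) :
    ∃ m : M, x = (1 : R') ⊗ₜ[R] m := by
  have hex : Function.Exact (Algebra.linearMap R R') (Algebra.TensorProduct.includeLeftSubRight R R') :=
    Algebra.IsEffective.of_faithfullyFlat R R'
  have hex' := Module.Flat.rTensor_exact M hex
  obtain ⟨y, hy⟩ := (hex' x).1 hx
  have key : ∀ y : R ⊗[R] M, (Algebra.linearMap R R').rTensor M y =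
      (1 : R') ⊗ₜ[R] (TensorProduct.lid R M y) := by
    intro y
    induction y using TensorProduct.induction_on with
    | zero => simp
    | add a b ha hb => rw [map_add, map_add, TensorProduct.tmul_add, ha, hb]
    | tmul r m =>
      rw [LinearMap.rTensor_tmul, TensorProduct.lid_tmul, Algebra.linearMap_apply,
        Algebra.algebraMap_eq_smul_one, TensorProduct.smul_tmul]
  exact ⟨TensorProduct.lid R M y, by rw [← hy, key]⟩

end Elements


section Modules

variable (R : Type u) [CommRing R] (R' : Type v) [CommRing R'] [Algebra R R']
  [Module.FaithfullyFlat R R'] (M : Type w) [AddCommGroup M] [Module R M]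

/-- finite presentation descends along faithfully flat ring maps -/
theorem finitePresentation_of_baseChange [Module.FinitePresentation R' (R' ⊗[R] M)] :
    Module.FinitePresentation R M := by
  haveI : Module.Finite R M := Module.Finite.of_finite_tensorProduct_of_faithfullyFlat R'
  obtain ⟨k, f, hf⟩ := Module.Finite.exists_fin' R M
  refine Module.finitePresentation_of_surjective f hf ?_
  let F := TensorProduct.AlgebraTensorModule.lTensor R' R' f
  have hF : Function.Surjective F := LinearMap.lTensor_surjective R' hf
  have hfg : (LinearMap.ker F).FG := Module.FinitePresentation.fg_ker F hF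
  haveI : Module.Finite R' (LinearMap.ker F) := Module.Finite.iff_fg.2 hfg
  haveI : Module.Finite R' (R' ⊗[R] LinearMap.ker f) :=
    Module.Finite.equiv (LinearMap.tensorKerEquiv R' R' f).symm
  haveI : Module.Finite R (LinearMap.ker f) :=
    Module.Finite.of_finite_tensorProduct_of_faithfullyFlat R'
  exact Module.Finite.iff_fg.1 this

/-- finite projectivity descends along faithfully flat ring maps -/
theorem finite_projective_of_baseChange [Module.Finite R' (R' ⊗[R] M)]
    [Module.Projective R' (R' ⊗[R] M)] : Module.Finite R M ∧ Module.Projective R M := by
  haveI : Module.FinitePresentation R' (R' ⊗[R] M) := Module.finitePresentation_of_projective R' _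
  haveI : Module.FinitePresentation R M := finitePresentation_of_baseChange R R' M
  haveI : Module.Flat R M := Module.Flat.of_flat_tensorProduct R M R'
  exact ⟨inferInstance, Module.Flat.projective_of_finitePresentation⟩

/-- the rank of a module can be computed after faithfully flat base change -/
theorem rankAtStalk_eq_of_baseChange [Module.Finite R M] [Module.Flat R M] (N : ℕ)
    (h : ∀ q : PrimeSpectrum R', Module.rankAtStalk (R' ⊗[R] M) q = N) (p : PrimeSpectrum R) :
    Module.rankAtStalk M p = N := by
  obtain ⟨q, rfl⟩ := PrimeSpectrum.comap_surjective_of_faithfullyFlat (A := R) (B := R') p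
  rw [← Module.rankAtStalk_baseChange]
  exact h q

end Modules

end Groth.Agent.Lib.FFDescent16
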