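import Mathlib
import Groth.Agent.Lib.AzInvSameType16
import Groth.Agent.Lib.FFDescent16
import Groth.Agent.Lib.StrictHenselizationProps
import Groth.Agent.Lib.AzInvDisjoint16

/-!
# Tools for "every involution is ordinary" (helper16), part a

* `exists_basis_of_good`, `isQuadEtale_of_good`: unramified + `2` invertible + square roots ⇒ `K` is
  quadratic étale over its fixed ring; `isQuadEtale_of_baseChange` (faithfully flat descent of
  quadratic étale algebras), `isQuadEtale_of_algEquiv`.
* `forall_mem_jacobson_of_not_isQuadEtale`: if `S_p ⊗ R` is not quadratic étale over `S_p`, the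
  strict henselization is ramified.
* `StdForm.ofI`, `unitT`, `stdForm_transpose_conj`: `(M_n(R), X ↦ w Xᵗ w⁻¹)` is in standard form
  over every `T`.
* `exists_section_of_etale_of_nontrivial`, `exists_algHom_of_etale_of_mem_range`: an étale
  `S`-algebra with a point over `p` maps to the strict henselization of `S_p`.
* `exists_etale_nbhd_of_hom`: descent of a compatible homomorphism over the strict henselization
  to an étale neighbourhood; `IsoOverG.trans`, `IsoOverG.exists_hom`.
-/

set_option autoImplicit false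
set_option linter.style.haveILetI false
set_option linter.unusedSectionVars false
set_option linter.unusedSimpArgs false

namespace Groth.Agent.Lib.ShDescent16
open TensorProduct AzInv Groth.Agent.Lib.RInvHerm

section quadgood
universe u v
variable {B : Type u} {K : Type v} [CommRing B] [CommRing K] [Algebra B K]
  (lamK : K ≃+* K) (hlamK : Function.Involutive lamK) (hB : RInv.IsFixedRing B K lamK)
  [IsLocalRing B]

include hlamK hB in
/-- in the unramified case with `2` invertible and square roots, `K` is free with basis `1, z`,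
`z² = 1`, `lam z = -z` -/
theorem exists_basis_of_good (h2 : IsUnit (2 : B)) (hsqB : ∀ x : Bˣ, ∃ y : B, y * y = ↑x)
    (hG : ∃ a : K, lamK a - a ∉ Ring.jacobson K) :
    ∃ z : K, z * z = 1 ∧ lamK z = -z ∧
      Function.Bijective (fun s : B × B => algebraMap B K s.1 + algebraMap B K s.2 * z) := by
  obtain ⟨a, ha⟩ := hG
  have hbu : IsUnit (a - lamK a) :=
    Groth.Agent.Lib.RInv88.isUnit_sub_of_notMem_jacobson lamK hlamK hB a ha
  set b : K := a - lamK a with hb
  have hlb : lamK b = -b := by rw [hb, map_sub, hlamK a]; ring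
  have hbbf : lamK (b * b) = b * b := by rw [map_mul, hlb]; ring
  obtain ⟨β, hβ⟩ := exists_unit_of_fixed lamK hlamK hB (b * b) (hbu.mul hbu) hbbf
  obtain ⟨y, hy⟩ := hsqB β
  have hyu : IsUnit y := isUnit_of_mul_isUnit_left (hy ▸ β.isUnit)
  obtain ⟨yu, rfl⟩ := hyu
  set z : K := b * algebraMap B K ↑yu⁻¹ with hz
  have hfix : ∀ s : B, lamK (algebraMap B K s) = algebraMap B K s := fun s =>
    (hB.2 _).2 ⟨s, rfl⟩
  have hzz : z * z = 1 := by
    calc z * z = (b * b) * algebraMap B K (↑yu⁻¹ * ↑yu⁻¹) := by rw [hz, map_mul]; ring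
      _ = algebraMap B K ((↑yu * ↑yu) * (↑yu⁻¹ * ↑yu⁻¹)) := by rw [← hβ, ← hy, ← map_mul]
      _ = 1 := by
        have : ((yu : B) * ↑yu) * (↑yu⁻¹ * ↑yu⁻¹) = 1 := by
          calc ((yu : B) * ↑yu) * (↑yu⁻¹ * ↑yu⁻¹) = (↑yu * ↑yu⁻¹) * ((yu : B) * ↑yu⁻¹) := by ring
            _ = 1 := by rw [Units.mul_inv, one_mul]
        rw [this, map_one]
  have hlz : lamK z = -z := by rw [hz, map_mul, hlb, hfix]; ring
  obtain ⟨c, hc⟩ := h2.exists_left_inv
  have hcK : algebraMap B K c * 2 = 1 := by
    have := congrArg (algebraMap B K) hc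
    rwa [map_mul, map_ofNat, map_one] at this
  refine ⟨z, hzz, hlz, ?_, ?_⟩
  · rintro ⟨s, s'⟩ ⟨r, r'⟩ h
    simp only at h
    have h' := congrArg lamK h
    simp only [map_add, map_mul, hfix, hlz] at h'
    have e1 : algebraMap B K s = algebraMap B K r := by
      have : (2 : K) * algebraMap B K s = 2 * algebraMap B K r := by
        calc (2 : K) * algebraMap B K s
            = (algebraMap B K s + algebraMap B K s' * z) +
                (algebraMap B K s + algebraMap B K s' * -z) := by ring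
          _ = (algebraMap B K r + algebraMap B K r' * z) +
                (algebraMap B K r + algebraMap B K r' * -z) := by rw [h, h']
          _ = 2 * algebraMap B K r := by ring
      calc algebraMap B K s = (algebraMap B K c * 2) * algebraMap B K s := by rw [hcK, one_mul]
        _ = algebraMap B K c * (2 * algebraMap B K s) := by ring
        _ = algebraMap B K c * (2 * algebraMap B K r) := by rw [this]
        _ = (algebraMap B K c * 2) * algebraMap B K r := by ring
        _ = algebraMap B K r := by rw [hcK, one_mul]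
    have e2 : algebraMap B K s' = algebraMap B K r' := by
      rw [e1] at h
      have h3 : algebraMap B K s' * z = algebraMap B K r' * z := add_left_cancel h
      calc algebraMap B K s' = (algebraMap B K s' * z) * z := by rw [mul_assoc, hzz, mul_one]
        _ = (algebraMap B K r' * z) * z := by rw [h3]
        _ = algebraMap B K r' := by rw [mul_assoc, hzz, mul_one]
    rw [hB.1 e1, hB.1 e2]
  · intro x
    have h1 : lamK (x + lamK x) = x + lamK x := by rw [map_add, hlamK x, add_comm]
    have h2' : lamK ((x - lamK x) * z) = (x - lamK x) * z := by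
      rw [map_mul, map_sub, hlamK x, hlz]; ring
    obtain ⟨s₀, hs₀⟩ := (hB.2 _).1 h1
    obtain ⟨s₁, hs₁⟩ := (hB.2 _).1 h2'
    refine ⟨(c * s₀, c * s₁), ?_⟩
    simp only [map_mul, hs₀, hs₁]
    calc algebraMap B K c * (x + lamK x) + algebraMap B K c * ((x - lamK x) * z) * z
        = algebraMap B K c * (x + lamK x) + algebraMap B K c * (x - lamK x) * (z * z) := by ring
      _ = (algebraMap B K c * 2) * x := by rw [hzz]; ring
      _ = x := by rw [hcK, one_mul]

include hlamK hB in
/-- hence `K` is quadratic étale over `B` -/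
theorem isQuadEtale_of_good (h2 : IsUnit (2 : B)) (hsqB : ∀ x : Bˣ, ∃ y : B, y * y = ↑x)
    (hG : ∃ a : K, lamK a - a ∉ Ring.jacobson K) : RInv.IsQuadEtale B K := by
  obtain ⟨z, hzz, hlz, hbij⟩ := exists_basis_of_good lamK hlamK hB h2 hsqB hG
  let f : (B × B) →ₗ[B] K :=
    { toFun := fun s => algebraMap B K s.1 + algebraMap B K s.2 * z
      map_add' := fun s r => by simp only [Prod.fst_add, Prod.snd_add, map_add]; ring
      map_smul' := fun c s => by
        change algebraMap B K (c • s).1 + algebraMap B K (c • s).2 * z =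
          c • (algebraMap B K s.1 + algebraMap B K s.2 * z)
        rw [Prod.smul_fst, Prod.smul_snd, smul_eq_mul, smul_eq_mul, map_mul, map_mul,
          Algebra.smul_def]
        ring }
  let e : (B × B) ≃ₗ[B] K := LinearEquiv.ofBijective f hbij
  haveI : Module.Finite B K := Module.Finite.equiv e
  haveI : Module.Free B K := Module.Free.of_equiv e
  refine ⟨inferInstance, inferInstance, ?_, fun p => ?_⟩
  · -- unramified: `Ω = 0`
    rw [Algebra.formallyUnramified_iff]
    have hD : ∀ x : K, KaehlerDifferential.D B K x = 0 := by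
      have hz0 : KaehlerDifferential.D B K z = 0 := by
        have h1 : KaehlerDifferential.D B K (z * z) = 0 := by rw [hzz, Derivation.map_one_eq_zero]
        rw [Derivation.leibniz] at h1
        have h3 : ((2 : K) * z) • KaehlerDifferential.D B K z = 0 := by
          rw [← h1, mul_smul, two_smul]
        have h2K : IsUnit (2 : K) := by
          have := h2.map (algebraMap B K)
          rwa [map_ofNat] at this
        have hu : IsUnit ((2 : K) * z) := h2K.mul (IsUnit.of_mul_eq_one _ hzz)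
        exact (hu.smul_eq_zero).1 h3
      intro x
      obtain ⟨⟨s, s'⟩, rfl⟩ := hbij.2 x
      simp only [map_add, Derivation.leibniz, Derivation.map_algebraMap, hz0, smul_zero, add_zero]
    have : (⊤ : Submodule K (Ω[K⁄B])) = ⊥ := by
      rw [← KaehlerDifferential.span_range_derivation, Submodule.span_eq_bot]
      rintro _ ⟨x, rfl⟩
      exact hD x
    exact (Submodule.subsingleton_iff K).1 (subsingleton_of_bot_eq_top this.symm)
  · haveI : Nontrivial B := p.nontrivial
    rw [Module.rankAtStalk_eq_finrank_of_free, ← e.finrank_eq, Module.finrank_prod,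
      Module.finrank_self]
    rfl

end quadgood

section descent
universe u v w
variable (S₀ : Type u) (T₀ : Type v) [CommRing S₀] [CommRing T₀] [Algebra S₀ T₀]
  [Module.FaithfullyFlat S₀ T₀] (R₀ : Type w) [CommRing R₀] [Algebra S₀ R₀]

attribute [local instance] Algebra.TensorProduct.rightAlgebra in
/-- quadratic étale algebras descend along faithfully flat maps -/
theorem isQuadEtale_of_baseChange (h : RInv.IsQuadEtale T₀ (T₀ ⊗[S₀] R₀)) :
    RInv.IsQuadEtale S₀ R₀ := by
  obtain ⟨hfin, hproj, hunr, hrank⟩ := h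
  haveI := hfin
  haveI := hproj
  obtain ⟨h1, h2⟩ := Groth.Agent.Lib.FFDescent16.finite_projective_of_baseChange S₀ T₀ R₀
  haveI := h1
  haveI := h2
  refine ⟨h1, h2, ?_, Groth.Agent.Lib.FFDescent16.rankAtStalk_eq_of_baseChange S₀ T₀ R₀ 2 hrank⟩
  rw [Algebra.formallyUnramified_iff]
  haveI : Subsingleton (Ω[(T₀ ⊗[S₀] R₀)⁄T₀]) := hunr.subsingleton_kaehlerDifferential
  haveI : Subsingleton (T₀ ⊗[S₀] Ω[R₀⁄S₀]) :=
    (KaehlerDifferential.tensorKaehlerEquivBase S₀ T₀ R₀ (T₀ ⊗[S₀] R₀)).toEquiv.subsingleton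
  exact Module.FaithfullyFlat.lTensor_reflects_triviality S₀ T₀ _

end descent

section transfer
universe u v w
variable {B : Type u} {K : Type v} {K' : Type w} [CommRing B] [CommRing K] [CommRing K']
  [Algebra B K] [Algebra B K']

theorem isQuadEtale_of_algEquiv (e : K ≃ₐ[B] K') (h : RInv.IsQuadEtale B K) :
    RInv.IsQuadEtale B K' := by
  obtain ⟨hfin, hproj, hunr, hrank⟩ := h
  haveI := hfin
  haveI := hproj
  haveI := hunr
  refine ⟨Module.Finite.equiv e.toLinearEquiv, Module.Projective.of_equiv e.toLinearEquiv,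
    Algebra.FormallyUnramified.of_equiv e, fun p => ?_⟩
  rw [← Module.rankAtStalk_eq_of_equiv e.toLinearEquiv]
  exact hrank p

end transfer
end Groth.Agent.Lib.ShDescent16

namespace Groth.Agent.Lib.ShDescent16
open TensorProduct AzInv Groth.Agent.Lib.RInvHerm

section ramified
universe u v
variable {S : Type u} {R : Type v} [CommRing S] [CommRing R] [Algebra S R]
  {lam : R ≃ₐ[S] R} (hlam : ∀ r, lam (lam r) = r)

include hlam in
/-- if `S_p ⊗ R` is not quadratic étale over `S_p` (and `2` is invertible), then `T ⊗ R` is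
ramified for the strict henselization `T` of `S_p` -/
theorem forall_mem_jacobson_of_not_isQuadEtale (hfix : RInv.IsFixedRing S R lam.toRingEquiv)
    (h2 : IsUnit (2 : S))
    (hsq : ∀ (S₁ : Type u) [CommRing S₁] [Algebra S S₁] [Algebra.Etale S S₁] (x : S₁ˣ),
      ∃ (S₂ : Type u) (_ : CommRing S₂) (_ : Algebra S₁ S₂) (_ : Algebra.Etale S₁ S₂)
        (_ : Module.FaithfullyFlat S₁ S₂) (y : S₂), y * y = algebraMap S₁ S₂ ↑x)
    (p : Ideal S) [p.IsPrime] (T : Type u) [CommRing T] [IsLocalRing T] [Algebra S T]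
    [Algebra (Localization.AtPrime p) T] [IsScalarTower S (Localization.AtPrime p) T]
    [IsLocalHom (algebraMap (Localization.AtPrime p) T)]
    [hSH : Hensel.IsStrictHenselization (Localization.AtPrime p) T] [Module.Flat S T]
    (hnq : ¬ RInv.IsQuadEtale (Localization.AtPrime p) (Localization.AtPrime p ⊗[S] R)) :
    ∀ a : T ⊗[S] R, (lamT T lam).toRingEquiv a - a ∈ Ring.jacobson (T ⊗[S] R) := by
  by_contra hcon
  push Not at hcon
  apply hnq
  have h2T : IsUnit (2 : T) := by
    have := h2.map (algebraMap S T)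
    rwa [map_ofNat] at this
  have hq : RInv.IsQuadEtale T (T ⊗[S] R) :=
    isQuadEtale_of_good (lamT T lam).toRingEquiv (lamT_involutive T lam hlam)
      (isFixedRing_baseChange T lam hfix) h2T (exists_sqrt_of_strict S p T hsq) hcon
  haveI : Module.FaithfullyFlat (Localization.AtPrime p) T :=
    Groth.Agent.Lib.StrictHenselization.faithfullyFlat_of_isStrictHenselization
      (Localization.AtPrime p) T
  apply isQuadEtale_of_baseChange (Localization.AtPrime p) T
  exact isQuadEtale_of_algEquiv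
    (Groth.Agent.Lib.AzumayaEtaleLocal16.cancelBaseChangeAlg S (Localization.AtPrime p) T R).symm hq

end ramified

section stdconj
universe u v w
variable {S : Type u} {R : Type v} [CommRing S] [CommRing R] [Algebra S R]
  {lam : R ≃ₐ[S] R} (hlam : ∀ r, lam (lam r) = r)
  {A : Type w} [Ring A] [Algebra S A] [Algebra R A] [IsScalarTower S R A]
  {t : AzInv.LamInv R A lam}
  (T : Type*) [CommRing T] [Algebra S T]

variable {T} in
theorem StdForm.ofI {n : ℕ} {u : (Matrix (Fin n) (Fin n) (T ⊗[S] R))ˣ} {ε : T ⊗[S] R}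
    (hu : trK hlam T n (↑u : Matrix (Fin n) (Fin n) (T ⊗[S] R)) =
      ε • (↑u : Matrix (Fin n) (Fin n) (T ⊗[S] R)))
    (he : lamT T lam ε * ε = 1)
    (h : StdFormI t T (Fin n) (↑u : Matrix (Fin n) (Fin n) (T ⊗[S] R))
      (↑u⁻¹ : Matrix (Fin n) (Fin n) (T ⊗[S] R))) :
    StdForm t T ((trK hlam T n).conj u ε hu he) := by
  obtain ⟨F, hF1, hF2⟩ := h
  refine ⟨F, fun r x => ?_, fun x => ?_⟩
  · rw [hF1]
    ext i j
    simp [Matrix.scalar_apply, Matrix.diagonal_mul]
  · rw [hF2, LamInv.conj_apply]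
    rfl

/-- the image in `M_n(T ⊗ R)` of a global invertible matrix -/
noncomputable def unitT {n : ℕ} (w : (Matrix (Fin n) (Fin n) R)ˣ) :
    (Matrix (Fin n) (Fin n) (T ⊗[S] R))ˣ :=
  Units.map ((Algebra.TensorProduct.includeRight : R →ₐ[S] T ⊗[S] R).toRingHom.mapMatrix
    (m := Fin n)).toMonoidHom w

theorem unitT_val {n : ℕ} (w : (Matrix (Fin n) (Fin n) R)ˣ) (i j : Fin n) :
    (↑(unitT (S := S) T w) : Matrix (Fin n) (Fin n) (T ⊗[S] R)) i j =
      (1 : T) ⊗ₜ[S] (↑w : Matrix (Fin n) (Fin n) R) i j := rfl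

theorem unitT_inv_val {n : ℕ} (w : (Matrix (Fin n) (Fin n) R)ˣ) (i j : Fin n) :
    (↑(unitT (S := S) T w)⁻¹ : Matrix (Fin n) (Fin n) (T ⊗[S] R)) i j =
      (1 : T) ⊗ₜ[S] (↑w⁻¹ : Matrix (Fin n) (Fin n) R) i j := rfl

theorem trK_unitT {n : ℕ} (w : (Matrix (Fin n) (Fin n) R)ˣ) (e : R)
    (hw : AzInv.LamInv.transpose lam (Fin n) hlam (↑w : Matrix (Fin n) (Fin n) R) =
      e • (↑w : Matrix (Fin n) (Fin n) R)) :
    trK hlam T n (↑(unitT (S := S) T w) : Matrix (Fin n) (Fin n) (T ⊗[S] R)) =
      ((1 : T) ⊗ₜ[S] e : T ⊗[S] R) • (↑(unitT (S := S) T w) : Matrix (Fin n) (Fin n) (T ⊗[S] R)) := by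
  ext i j
  have h1 := congrFun (congrFun hw i) j
  rw [LamInv.transpose_apply, Matrix.smul_apply, smul_eq_mul] at h1
  change lamT T lam ((↑(unitT (S := S) T w) : Matrix (Fin n) (Fin n) (T ⊗[S] R)) j i) =
    ((1 : T) ⊗ₜ[S] e : T ⊗[S] R) * (↑(unitT (S := S) T w) : Matrix (Fin n) (Fin n) (T ⊗[S] R)) i j
  rw [unitT_val, unitT_val, lamT_tmul, h1, Algebra.TensorProduct.tmul_mul_tmul, one_mul]

theorem lamT_one_tmul_mul (e : R) (he : lam e * e = 1) :
    lamT T lam ((1 : T) ⊗ₜ[S] e) * ((1 : T) ⊗ₜ[S] e : T ⊗[S] R) = 1 := by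
  rw [lamT_tmul, Algebra.TensorProduct.tmul_mul_tmul, one_mul, he, Algebra.TensorProduct.one_def]

/-- the matrix algebra `M_n(R)` with a twisted `lam`-transpose is in standard form over every
`T` -/
theorem stdForm_transpose_conj {n : ℕ} (w : (Matrix (Fin n) (Fin n) R)ˣ) (e : R)
    (hw : AzInv.LamInv.transpose lam (Fin n) hlam (↑w : Matrix (Fin n) (Fin n) R) =
      e • (↑w : Matrix (Fin n) (Fin n) R)) (he : lam e * e = 1) :
    StdForm ((AzInv.LamInv.transpose lam (Fin n) hlam).conj w e hw he) T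
      ((trK hlam T n).conj (unitT (S := S) T w) ((1 : T) ⊗ₜ[S] e) (trK_unitT hlam T w e hw)
        (lamT_one_tmul_mul T e he)) := by
  refine ⟨Groth.Agent.Lib.AzInvStd16.matTensor S T R (Fin n), fun r x => ?_, fun x => ?_⟩
  · rw [map_mul, matTensor_one_tmul_algebraMap]
  · induction x using TensorProduct.induction_on with
    | zero => simp
    | add x y hx hy => rw [map_add, map_add, hx, hy, map_add, LamInv.map_add]
    | tmul a M =>
      rw [LamInv.bc_tmul, LamInv.conj_apply, LamInv.conj_apply]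
      have hF : ∀ (b : T) (X : Matrix (Fin n) (Fin n) R),
          Groth.Agent.Lib.AzInvStd16.matTensor S T R (Fin n) (b ⊗ₜ[S] X) =
            Matrix.of fun i j => (b ⊗ₜ[S] X i j : T ⊗[S] R) := by
        intro b X
        ext i j
        rw [Groth.Agent.Lib.AzInvStd16.matTensor_tmul, Matrix.of_apply]
      have h1 : (a ⊗ₜ[S] ((↑w : Matrix (Fin n) (Fin n) R) *
          AzInv.LamInv.transpose lam (Fin n) hlam M * (↑w⁻¹ : Matrix (Fin n) (Fin n) R)) :
          T ⊗[S] Matrix (Fin n) (Fin n) R) =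
          ((1 : T) ⊗ₜ[S] (↑w : Matrix (Fin n) (Fin n) R)) *
            (a ⊗ₜ[S] AzInv.LamInv.transpose lam (Fin n) hlam M) *
            ((1 : T) ⊗ₜ[S] (↑w⁻¹ : Matrix (Fin n) (Fin n) R)) := by
        rw [Algebra.TensorProduct.tmul_mul_tmul, Algebra.TensorProduct.tmul_mul_tmul, one_mul,
          mul_one]
      rw [h1, map_mul, map_mul]
      congr 1

end stdconj
end Groth.Agent.Lib.ShDescent16

namespace Groth.Agent.Lib.ShDescent16
open TensorProduct AzInv Groth.Agent.Lib.RInvHerm

section lift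
universe u
variable {T : Type u} [CommRing T] [HenselianLocalRing T]
  [IsSepClosed (IsLocalRing.ResidueField T)]

/-- étale algebras over a strictly henselian local ring with nonzero closed fibre have sections -/
theorem exists_section_of_etale_of_nontrivial (T' : Type u) [CommRing T'] [Algebra T T']
    [Algebra.Etale T T'] [Nontrivial (IsLocalRing.ResidueField T ⊗[T] T')] :
    Nonempty (T' →ₐ[T] T) := by
  let k := IsLocalRing.ResidueField T
  obtain ⟨χ₀⟩ := Groth.Agent.Lib.H15EtRetract.exists_point_of_etale_sepClosed k (k ⊗[T] T')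
  let χ : T' →ₐ[T] k := (χ₀.restrictScalars T).comp Algebra.TensorProduct.includeRight
  haveI : Algebra.Smooth T T' := inferInstance
  obtain ⟨σ, -⟩ := Groth.Agent.Lib.HenselSmoothSection61.exists_algHom_of_smooth T T' χ
  exact ⟨σ⟩

end lift

section lift2
universe u
variable (S : Type u) [CommRing S] (p : Ideal S) [p.IsPrime]
  (T : Type u) [CommRing T] [IsLocalRing T] [Algebra S T] [Algebra (Localization.AtPrime p) T]
  [IsScalarTower S (Localization.AtPrime p) T]
  [IsLocalHom (algebraMap (Localization.AtPrime p) T)]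
  [hSH : Hensel.IsStrictHenselization (Localization.AtPrime p) T]

theorem comap_maximalIdeal_eq :
    (IsLocalRing.maximalIdeal T).comap (algebraMap S T) = p := by
  rw [IsScalarTower.algebraMap_eq S (Localization.AtPrime p) T, ← Ideal.comap_comap,
    IsLocalRing.maximalIdeal_comap]
  exact Localization.AtPrime.under_maximalIdeal

include hSH in
/-- an étale `S`-algebra with a point over `p` maps to the strict henselization of `S_p` -/
theorem exists_algHom_of_etale_of_mem_range (E : Type u) [CommRing E] [Algebra S E]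
    [Algebra.Etale S E]
    (h : (⟨p, inferInstance⟩ : PrimeSpectrum S) ∈
      Set.range (PrimeSpectrum.comap (algebraMap S E))) : Nonempty (E →ₐ[S] T) := by
  haveI : HenselianLocalRing T := hSH.henselian
  haveI : IsSepClosed (IsLocalRing.ResidueField T) := hSH.isSepClosure.sep_closed
  let k := IsLocalRing.ResidueField T
  have hk : (⟨p, inferInstance⟩ : PrimeSpectrum S) ∈
      Set.range (PrimeSpectrum.comap (algebraMap S k)) := by
    refine ⟨⟨⊥, Ideal.isPrime_bot⟩, ?_⟩
    apply PrimeSpectrum.ext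
    change Ideal.comap (algebraMap S k) ⊥ = p
    rw [IsScalarTower.algebraMap_eq S T k, ← Ideal.comap_comap]
    have : Ideal.comap (algebraMap T k) ⊥ = IsLocalRing.maximalIdeal T := by
      rw [← RingHom.ker_eq_comap_bot]
      exact IsLocalRing.ker_residue
    rw [this]
    exact comap_maximalIdeal_eq S p T
  haveI n1 : Nontrivial (k ⊗[S] E) :=
    Groth.Agent.Lib.AzInvDisjoint16.nontrivial_tensor_of_mem_range k E _ hk h
  haveI : Nontrivial (k ⊗[T] (T ⊗[S] E)) :=
    (TensorProduct.AlgebraTensorModule.cancelBaseChange S T k k E).toEquiv.nontrivial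
  obtain ⟨σ⟩ := exists_section_of_etale_of_nontrivial (T := T) (T ⊗[S] E)
  exact ⟨(σ.restrictScalars S).comp Algebra.TensorProduct.includeRight⟩

end lift2

section nbhd
universe u v w w'
variable {S : Type u} {R : Type v} [CommRing S] [CommRing R] [Algebra S R]
  {A₁ : Type w} [Ring A₁] [Algebra S A₁] [Algebra R A₁] [IsScalarTower S R A₁]
  {A₂ : Type w'} [Ring A₂] [Algebra S A₂] [Algebra R A₂] [IsScalarTower S R A₂]
  [IsAzumaya R A₁] [IsAzumaya R A₂]

/-- a compatible homomorphism over the strict henselization of `S_p` descends to an isomorphism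
over an étale neighbourhood of `p` -/
theorem exists_etale_nbhd_of_hom
    (hrk : ∀ q : PrimeSpectrum R, Module.rankAtStalk A₁ q = Module.rankAtStalk A₂ q)
    {lam : R → R} (s₁ : A₁ →ₗ[S] A₁) (s₂ : A₂ →ₗ[S] A₂)
    (hs₁ : ∀ (r : R) (x : A₁), s₁ (r • x) = lam r • s₁ x)
    (hs₂ : ∀ (r : R) (b : A₂), s₂ (r • b) = lam r • s₂ b)
    (p : Ideal S) [p.IsPrime] (T : Type u) [CommRing T] [IsLocalRing T] [Algebra S T]
    [Algebra (Localization.AtPrime p) T] [IsScalarTower S (Localization.AtPrime p) T]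
    [IsLocalHom (algebraMap (Localization.AtPrime p) T)]
    [Hensel.IsStrictHenselization (Localization.AtPrime p) T] [Module.Flat S T]
    (ρ : A₁ →ₐ[S] T ⊗[S] A₂)
    (hρ1 : ∀ (r : R) (x : A₁), ρ (algebraMap R A₁ r * x) =
      ((1 : T) ⊗ₜ[S] algebraMap R A₂ r) * ρ x)
    (hρ2 : ∀ x : A₁, ρ (s₁ x) = s₂.baseChange T (ρ x)) :
    ∃ (E : Type u) (_ : CommRing E) (_ : Algebra S E), Algebra.Etale S E ∧
      (⟨p, inferInstance⟩ : PrimeSpectrum S) ∈ Set.range (PrimeSpectrum.comap (algebraMap S E)) ∧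
      IsoOverG (R := R) s₁ s₂ E := by
  haveI : Module.Finite R A₁ := IsAzumaya.toFinite
  haveI : Module.Projective R A₁ := IsAzumaya.toProjective
  obtain ⟨E, _, _, hEt, φ, ρ', h1, h2, -⟩ := exists_descend_hom
    (exists_etale_of_finset S p T) s₁ s₂ hs₁ hs₂ ρ hρ1 hρ2
  refine ⟨E, inferInstance, inferInstance, hEt, ?_, isoOverG_of_hom s₁ s₂ hrk E ρ' h1 h2⟩
  refine ⟨⟨(IsLocalRing.maximalIdeal T).comap (φ : E →+* T), Ideal.comap_isPrime _ _⟩, ?_⟩
  apply PrimeSpectrum.ext
  change Ideal.comap (algebraMap S E) (Ideal.comap (φ : E →+* T) (IsLocalRing.maximalIdeal T)) = p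
  rw [Ideal.comap_comap]
  have : (φ : E →+* T).comp (algebraMap S E) = algebraMap S T := by
    ext s
    simp only [RingHom.comp_apply, RingHom.coe_coe, AlgHom.commutes]
  rw [this]
  exact comap_maximalIdeal_eq S p T

end nbhd

section trans
universe u v w₁ w₂ w₃
variable {S : Type u} {R : Type v} [CommRing S] [CommRing R] [Algebra S R]
  {A₁ : Type w₁} [Ring A₁] [Algebra S A₁] [Algebra R A₁] [IsScalarTower S R A₁]
  {A₂ : Type w₂} [Ring A₂] [Algebra S A₂] [Algebra R A₂] [IsScalarTower S R A₂]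
  {A₃ : Type w₃} [Ring A₃] [Algebra S A₃] [Algebra R A₃] [IsScalarTower S R A₃]
  {s₁ : A₁ →ₗ[S] A₁} {s₂ : A₂ →ₗ[S] A₂} {s₃ : A₃ →ₗ[S] A₃}

theorem IsoOverG.trans {E : Type*} [CommRing E] [Algebra S E]
    (h : IsoOverG (R := R) s₁ s₂ E) (h' : IsoOverG (R := R) s₂ s₃ E) :
    IsoOverG (R := R) s₁ s₃ E := by
  obtain ⟨f, hf1, hf2⟩ := h
  obtain ⟨g, hg1, hg2⟩ := h'
  refine ⟨f.trans g, fun r x => ?_, fun x => ?_⟩
  · rw [AlgEquiv.trans_apply, hf1, hg1]; rfl
  · rw [AlgEquiv.trans_apply, hf2, hg2]; rfl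

/-- the homomorphism underlying an isomorphism over `E` -/
theorem IsoOverG.exists_hom {E : Type*} [CommRing E] [Algebra S E]
    (h : IsoOverG (R := R) s₁ s₂ E) :
    ∃ ρ : A₁ →ₐ[S] E ⊗[S] A₂,
      (∀ (r : R) (x : A₁), ρ (algebraMap R A₁ r * x) =
        ((1 : E) ⊗ₜ[S] algebraMap R A₂ r) * ρ x) ∧
      ∀ x : A₁, ρ (s₁ x) = s₂.baseChange E (ρ x) := by
  obtain ⟨f, hf1, hf2⟩ := h
  refine ⟨(f.toAlgHom.restrictScalars S).comp Algebra.TensorProduct.includeRight,
    fun r x => ?_, fun x => ?_⟩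
  · change f ((1 : E) ⊗ₜ[S] (algebraMap R A₁ r * x)) = _ * f ((1 : E) ⊗ₜ[S] x)
    rw [← hf1, Algebra.TensorProduct.tmul_mul_tmul, mul_one]
  · change f ((1 : E) ⊗ₜ[S] s₁ x) = s₂.baseChange E (f ((1 : E) ⊗ₜ[S] x))
    rw [← hf2, LinearMap.baseChange_tmul]

end trans
end Groth.Agent.Lib.ShDescent16
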