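import Mathlib
import Groth.Agent.Lib.SkewHerm16

/-!
# The standard alternating matrix `Jc` (helper16)

`isUnit_Jc_of_even`, `even_of_isUnit_Jc`, `st_Jc` (`Jc` is skew-hermitian), `Jc_map`.
-/

set_option autoImplicit false
set_option linter.style.haveILetI false
set_option linter.unusedSectionVars false
set_option linter.unusedSimpArgs false

namespace Groth.Agent.Lib.SkewHerm16
open Matrix Groth.Agent.Lib.RInvHerm

section Jc
variable {K : Type*} [CommRing K]

theorem isUnit_Jc_of_even : ∀ n : ℕ, Even n → IsUnit (Jc K n) := by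
  intro n
  induction n using Nat.twoStepInduction with
  | zero => intro _; exact isUnit_of_subsingleton _
  | one => intro h; exact absurd h (by decide)
  | more N ih _ =>
    intro h
    have hN : Even N := by
      rcases h with ⟨k, hk⟩
      exact ⟨k - 1, by omega⟩
    rw [Jc_succ_succ, Matrix.reindex_apply]
    refine (Matrix.isUnit_submatrix_equiv _ _).2 ?_
    exact Matrix.isUnit_fromBlocks_zero₂₁.2 ⟨isUnit_J₂, ih hN⟩

theorem even_of_isUnit_Jc [Nontrivial K] : ∀ n : ℕ, IsUnit (Jc K n) → Even n := by
  intro n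
  induction n using Nat.twoStepInduction with
  | zero => intro _; exact ⟨0, rfl⟩
  | one =>
    intro h
    exfalso
    rw [Matrix.isUnit_iff_isUnit_det] at h
    have : (Jc K 1).det = 0 := by
      rw [Matrix.det_unique]; rfl
    rw [this] at h
    exact not_isUnit_zero h
  | more N ih _ =>
    intro h
    rw [Jc_succ_succ, Matrix.reindex_apply] at h
    have h1 := (Matrix.isUnit_submatrix_equiv _ _).1 h
    have h2 := (Matrix.isUnit_fromBlocks_zero₂₁.1 h1).2
    obtain ⟨k, hk⟩ := ih h2
    exact ⟨k + 1, by omega⟩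

theorem st_J₂ (lamK : K ≃+* K) : st lamK (J₂ : Matrix (Fin 2) (Fin 2) K) = -J₂ := by
  ext i j
  fin_cases i <;> fin_cases j <;> simp [st_apply, J₂]

theorem st_Jc (lamK : K ≃+* K) : ∀ n : ℕ, st lamK (Jc K n) = -Jc K n := by
  intro n
  induction n using Nat.twoStepInduction with
  | zero => exact Subsingleton.elim _ _
  | one =>
    ext i j
    simp [st_apply, Jc]
  | more N ih _ =>
    rw [Jc_succ_succ, Matrix.reindex_apply, st_submatrix, st_fromBlocks, st_J₂, ih, st_zero,
      st_zero]
    ext i j
    simp only [Matrix.submatrix_apply, Matrix.neg_apply]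
    rcases (e₀ N).symm.symm i with a | a <;> rcases (e₀ N).symm.symm j with b | b <;> simp

theorem J₂_map {K' : Type*} [CommRing K'] (f : K →+* K') :
    (J₂ : Matrix (Fin 2) (Fin 2) K).map f = J₂ := by
  ext i j
  fin_cases i <;> fin_cases j <;> simp [J₂]

theorem Jc_map {K' : Type*} [CommRing K'] (f : K →+* K') :
    ∀ n : ℕ, (Jc K n).map f = Jc K' n := by
  intro n
  induction n using Nat.twoStepInduction with
  | zero => exact Subsingleton.elim _ _
  | one =>
    ext i j
    simp [Jc]
  | more N ih _ =>
    rw [Jc_succ_succ, Jc_succ_succ, Matrix.reindex_apply, Matrix.reindex_apply,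
      ← Matrix.submatrix_map, Matrix.fromBlocks_map, J₂_map, ih]
    simp

end Jc
end Groth.Agent.Lib.SkewHerm16
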