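import Mathlib
import Groth.Agent.Lib.AzInvOrdinary16a
import Groth.Agent.Lib.SkewHerm16b

/-!
# Every `lam`-involution is ordinary (helper16), part b

* `exists_strictHenselization`, `exists_sign_of_isoOverG'`, `exists_congr_Jc`, `even_of_skew`,
  `exists_congr_of_iff`.
* `IsoLocus t t'` (open set of primes of `S` near which `(A,t) ≅ (A',t')` étale-locally),
  `isoOverG_of_mem_isoLocus`, `exists_hom_of_sign_iff`, `sign_iff_of_mem_isoLocus`.
* `mixMat`, `mixUnit` (gluing two twisting matrices along an idempotent of `S`).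
* **`exists_ordinary`** (statement S17358).
-/

set_option autoImplicit false
set_option linter.style.haveILetI false
set_option linter.unusedSectionVars false
set_option linter.unusedSimpArgs false

namespace Groth.Agent.Lib.ShDescent16
open TensorProduct AzInv Groth.Agent.Lib.RInvHerm Groth.Agent.Lib.SkewHerm16
  Groth.Agent.Lib.StrictHenselization

section existsSh
universe u
variable (S : Type u) [CommRing S] (p : Ideal S) [p.IsPrime]

/-- a strict henselization of `S_p` with all the structure used by the descent theorems -/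
theorem exists_strictHenselization :
    ∃ (T : Type u) (_ : CommRing T) (_ : IsLocalRing T) (_ : Algebra S T)
      (_ : Algebra (Localization.AtPrime p) T) (_ : IsScalarTower S (Localization.AtPrime p) T)
      (_ : IsLocalHom (algebraMap (Localization.AtPrime p) T))
      (_ : Hensel.IsStrictHenselization (Localization.AtPrime p) T), Module.Flat S T := by
  let Sp := Localization.AtPrime p
  let T := Sh Sp
  letI : Algebra S T := ((algebraMap Sp T).comp (algebraMap S Sp)).toAlgebra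
  haveI : IsScalarTower S Sp T := IsScalarTower.of_algebraMap_eq (fun _ => rfl)
  haveI : Module.Flat S T := Module.Flat.trans S Sp T
  exact ⟨T, inferInstance, inferInstance, inferInstance, inferInstance, inferInstance,
    inferInstance, inferInstance, inferInstance⟩

end existsSh

section signiso'
universe u v w w'
variable {S : Type u} {R : Type v} [CommRing S] [CommRing R] [Algebra S R]
  {lam : R ≃ₐ[S] R} (hlam : ∀ r, lam (lam r) = r)
  {A : Type w} [Ring A] [Algebra S A] [Algebra R A] [IsScalarTower S R A]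
  {A' : Type w'} [Ring A'] [Algebra S A'] [Algebra R A'] [IsScalarTower S R A']
  {t : AzInv.LamInv R A lam} {t' : AzInv.LamInv R A' lam}
  {T : Type*} [CommRing T] [Algebra S T]

/-- **Invariance of the sign**, for isomorphic algebras with involution -/
theorem exists_sign_of_isoOverG' [Finite (MaximalSpectrum (T ⊗[S] R))]
    {n : ℕ} (hn : 0 < n)
    {u u' : (Matrix (Fin n) (Fin n) (T ⊗[S] R))ˣ} {ε ε' : T ⊗[S] R}
    {hu : trK hlam T n (↑u : Matrix (Fin n) (Fin n) (T ⊗[S] R)) =
      ε • (↑u : Matrix (Fin n) (Fin n) (T ⊗[S] R))}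
    {he : lamT T lam ε * ε = 1}
    {hu' : trK hlam T n (↑u' : Matrix (Fin n) (Fin n) (T ⊗[S] R)) =
      ε' • (↑u' : Matrix (Fin n) (Fin n) (T ⊗[S] R))}
    {he' : lamT T lam ε' * ε' = 1}
    (h₁ : StdForm t T ((trK hlam T n).conj u ε hu he))
    (h₂ : StdForm t' T ((trK hlam T n).conj u' ε' hu' he'))
    (hiso : IsoOverG (R := R) (t.linS S lam) (t'.linS S lam) T) :
    ∃ c : T ⊗[S] R, IsUnit c ∧ ε * c = lamT T lam c * ε' := by
  obtain ⟨Fm, hFm1, hFm2⟩ := h₁.toI hlam
  obtain ⟨Fm', hFm'1, hFm'2⟩ := h₂.toI hlam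
  obtain ⟨f, hf1, hf2⟩ := hiso
  obtain ⟨G₀, hG₀⟩ : ∃ G₀ : Matrix (Fin n) (Fin n) (T ⊗[S] R) ≃ₐ[T]
      Matrix (Fin n) (Fin n) (T ⊗[S] R), G₀ = Fm.symm.trans (f.trans Fm') :=
    ⟨_, rfl⟩
  have hG₀a : ∀ X, G₀ X = Fm' (f (Fm.symm X)) := fun X => by rw [hG₀]; rfl
  have hlin1 : ∀ (r : R) X, G₀ (((1 : T) ⊗ₜ[S] r : T ⊗[S] R) • X) =
      ((1 : T) ⊗ₜ[S] r : T ⊗[S] R) • G₀ X := by
    intro r X
    rw [hG₀a, hG₀a]
    have e1 : Fm.symm (((1 : T) ⊗ₜ[S] r : T ⊗[S] R) • X) =
        ((1 : T) ⊗ₜ[S] algebraMap R A r) * Fm.symm X := by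
      apply Fm.injective
      rw [AlgEquiv.apply_symm_apply, hFm1, AlgEquiv.apply_symm_apply]
    rw [e1, hf1, hFm'1]
  have hlin : ∀ (c : T ⊗[S] R) X, G₀ (c • X) = c • G₀ X := by
    intro c X
    induction c using TensorProduct.induction_on with
    | zero => simp
    | add x y hx hy => rw [add_smul, map_add, hx, hy, add_smul]
    | tmul a r =>
      have e : (a ⊗ₜ[S] r : T ⊗[S] R) = a • ((1 : T) ⊗ₜ[S] r) := by
        rw [TensorProduct.smul_tmul', smul_eq_mul, mul_one]
      rw [e, smul_assoc, map_smul, hlin1, smul_assoc]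
  let G : Matrix (Fin n) (Fin n) (T ⊗[S] R) ≃ₐ[T ⊗[S] R]
      Matrix (Fin n) (Fin n) (T ⊗[S] R) :=
    AlgEquiv.ofRingEquiv (f := G₀.toRingEquiv) (fun c => by
      change G₀ (algebraMap (T ⊗[S] R) _ c) = _
      rw [Algebra.algebraMap_eq_smul_one, hlin, map_one, ← Algebra.algebraMap_eq_smul_one])
  have hGa : ∀ X, G X = G₀ X := fun X => rfl
  haveI : Nonempty (Fin n) := Fin.pos_iff_nonempty.1 hn
  have hu1 : st (lamT T lam).toRingEquiv (↑u : Matrix (Fin n) (Fin n) (T ⊗[S] R)) =
      ε • (↑u : Matrix (Fin n) (Fin n) (T ⊗[S] R)) := hu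
  have hu'1 : st (lamT T lam).toRingEquiv (↑u' : Matrix (Fin n) (Fin n) (T ⊗[S] R)) =
      ε' • (↑u' : Matrix (Fin n) (Fin n) (T ⊗[S] R)) := hu'
  refine exists_sign_relation (lamT T lam).toRingEquiv (lamT_involutive T lam hlam) G _ _ _ _ ε ε'
    u.mul_inv u.inv_mul u'.mul_inv u'.inv_mul hu1 hu'1 (fun X => ?_)
  obtain ⟨x, rfl⟩ := Fm.surjective X
  rw [← hFm2, hGa, hGa, hG₀a, hG₀a, AlgEquiv.symm_apply_apply, AlgEquiv.symm_apply_apply,
    ← hFm'2]
  congr 1
  exact hf2 x

end signiso'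

section normal2
universe u v
variable {B : Type u} {K : Type v} [CommRing B] [CommRing K] [Algebra B K]
  (lamK : K ≃+* K) (hlamK : Function.Involutive lamK) (hB : RInv.IsFixedRing B K lamK)
  [IsLocalRing B] [IsLocalRing K]

include hlamK hB in
/-- the ramified skew-hermitian case: reduction to the standard alternating form -/
theorem exists_congr_Jc (hsqB : ∀ x : Bˣ, ∃ y : B, y * y = ↑x) {n : ℕ}
    (h2 : IsUnit (2 : K)) (hid : ∀ a : K, lamK a - a ∈ Ring.jacobson K)
    (u : (Matrix (Fin n) (Fin n) K)ˣ) (ε : K)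
    (hu : st lamK (↑u : Matrix (Fin n) (Fin n) K) = ε • (↑u : Matrix (Fin n) (Fin n) K))
    (he : lamK ε * ε = 1) (h1 : IsUnit (1 - ε)) :
    ∃ (w : (Matrix (Fin n) (Fin n) K)ˣ) (c : K), IsUnit c ∧
      (↑w : Matrix (Fin n) (Fin n) K) * (↑u : Matrix (Fin n) (Fin n) K) *
        st lamK (↑w : Matrix (Fin n) (Fin n) K) = c • Jc K n := by
  obtain ⟨cu, hcu⟩ := h1
  have hl : lamK (1 - ε) * ε = -(1 - ε) := by
    rw [map_sub, map_one, sub_mul, he]; ring
  set h : Matrix (Fin n) (Fin n) K := (1 - ε) • (↑u : Matrix (Fin n) (Fin n) K) with hh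
  have hherm : (-1 : K) • st lamK h = h := by
    rw [hh, st_smul, hu, smul_smul, smul_smul, mul_assoc, hl]
    congr 1
    ring
  have hhu : IsUnit h := by
    refine IsUnit.of_mul_eq_one ((↑cu⁻¹ : K) • (↑u⁻¹ : Matrix (Fin n) (Fin n) K)) ?_
    rw [hh, smul_mul_smul_comm, Units.mul_inv, ← hcu, Units.mul_inv, one_smul]
  obtain ⟨a, ha, e⟩ := cg_Jc lamK hlamK hB h2 hid hsqB n h hhu hherm
  obtain ⟨w, hw⟩ := isUnit_st lamK ha
  refine ⟨w, ↑cu⁻¹, Units.isUnit _, ?_⟩
  rw [hw, st_st lamK hlamK, ← e, hh]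
  simp only [Matrix.mul_smul, Matrix.smul_mul, smul_smul]
  rw [← hcu, Units.inv_mul, one_smul]

include hlamK hB in
/-- skew-hermitian unimodular forms have even rank -/
theorem even_of_skew (hsqB : ∀ x : Bˣ, ∃ y : B, y * y = ↑x) {n : ℕ}
    (h2 : IsUnit (2 : K)) (hid : ∀ a : K, lamK a - a ∈ Ring.jacobson K)
    (u : (Matrix (Fin n) (Fin n) K)ˣ) (ε : K)
    (hu : st lamK (↑u : Matrix (Fin n) (Fin n) K) = ε • (↑u : Matrix (Fin n) (Fin n) K))
    (he : lamK ε * ε = 1) (h1 : IsUnit (1 - ε)) : Even n := by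
  obtain ⟨w, c, hc, hw⟩ := exists_congr_Jc lamK hlamK hB hsqB h2 hid u ε hu he h1
  apply even_of_isUnit_Jc (K := K)
  have h3 : IsUnit (c • Jc K n) := by
    rw [← hw]
    exact (w.isUnit.mul u.isUnit).mul (isUnit_st lamK w.isUnit)
  obtain ⟨cu, rfl⟩ := hc
  have : Jc K n = (↑cu⁻¹ : K) • ((↑cu : K) • Jc K n) := by
    rw [smul_smul, Units.inv_mul, one_smul]
  rw [this]
  obtain ⟨m, hm⟩ := h3
  refine IsUnit.of_mul_eq_one ((↑cu : K) • (↑m⁻¹ : Matrix (Fin n) (Fin n) K)) ?_
  rw [← hm, smul_mul_smul_comm, Units.mul_inv, Units.inv_mul, one_smul]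

end normal2

section ramified2
universe u v
variable {B : Type u} {K : Type v} [CommRing B] [CommRing K] [Algebra B K]
  (lamK : K ≃+* K) (hlamK : Function.Involutive lamK) (hB : RInv.IsFixedRing B K lamK)
  [IsLocalRing B]

include hlamK hB in
/-- the ramified case with `2` invertible: forms with the same sign are congruent up to a
scalar -/
theorem exists_congr_of_iff (hsqB : ∀ x : Bˣ, ∃ y : B, y * y = ↑x) {n : ℕ} (hn : 0 < n)
    (h2 : IsUnit (2 : K)) (hid : ∀ a : K, lamK a - a ∈ Ring.jacobson K)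
    (u u' : (Matrix (Fin n) (Fin n) K)ˣ) (ε ε' : K)
    (hu : st lamK (↑u : Matrix (Fin n) (Fin n) K) = ε • (↑u : Matrix (Fin n) (Fin n) K))
    (hu' : st lamK (↑u' : Matrix (Fin n) (Fin n) K) = ε' • (↑u' : Matrix (Fin n) (Fin n) K))
    (he : lamK ε * ε = 1) (he' : lamK ε' * ε' = 1)
    (hiff : IsUnit (1 + ε) ↔ IsUnit (1 + ε')) :
    ∃ (v : (Matrix (Fin n) (Fin n) K)ˣ) (c : K),
      (↑v : Matrix (Fin n) (Fin n) K) * (↑u : Matrix (Fin n) (Fin n) K) *
        st lamK (↑v : Matrix (Fin n) (Fin n) K) =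
        c • (↑u' : Matrix (Fin n) (Fin n) K) := by
  haveI : IsLocalRing K := isLocalRing_of_bad lamK hlamK hB hid
  have hsum : ∀ e : K, IsUnit ((1 + e) + (1 - e)) := by
    intro e
    have : (1 + e) + (1 - e) = 2 := by ring
    rw [this]; exact h2
  have hkey : ∀ e : K, lamK e * e = 1 → lamK (1 + e) * e = 1 + e := by
    intro e hee
    rw [map_add, map_one, add_mul, hee]; ring
  by_cases h1 : IsUnit (1 + ε)
  · have h1' : IsUnit (1 + ε') := hiff.1 h1
    have h2' : (1 : K) + 1 ∉ Ring.jacobson K := by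
      rw [one_add_one_eq_two]
      exact notMem_jacobson_of_isUnit h2
    exact exists_congr_of_herm lamK hlamK hB hsqB hn u u' ε ε' hu hu' _ _ h1 h1' (hkey ε he)
      (hkey ε' he') (Or.inr (Or.inl h2'))
  · have h1' : ¬ IsUnit (1 + ε') := fun h => h1 (hiff.2 h)
    have h3 : IsUnit (1 - ε) :=
      (IsLocalRing.isUnit_or_isUnit_of_isUnit_add (hsum ε)).resolve_left h1
    have h3' : IsUnit (1 - ε') :=
      (IsLocalRing.isUnit_or_isUnit_of_isUnit_add (hsum ε')).resolve_left h1'
    exact exists_congr_of_skew lamK hlamK hB hsqB h2 hid u u' ε ε' hu hu' he he' h3 h3'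

end ramified2
end Groth.Agent.Lib.ShDescent16

namespace Groth.Agent.Lib.ShDescent16
open TensorProduct AzInv Groth.Agent.Lib.RInvHerm Groth.Agent.Lib.SkewHerm16

section locus
universe u v w w'
variable {S : Type u} {R : Type v} [CommRing S] [CommRing R] [Algebra S R]
  {lam : R ≃ₐ[S] R} (hlam : ∀ r, lam (lam r) = r)
  {A : Type w} [Ring A] [Algebra S A] [Algebra R A] [IsScalarTower S R A]
  {A' : Type w'} [Ring A'] [Algebra S A'] [Algebra R A'] [IsScalarTower S R A']

/-- the set of primes of `S` near which `(A, t)` and `(A', t')` are étale-locally isomorphic -/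
def IsoLocus (t : AzInv.LamInv R A lam) (t' : AzInv.LamInv R A' lam) : Set (PrimeSpectrum S) :=
  {p | ∃ (E : Type u) (_ : CommRing E) (_ : Algebra S E), Algebra.Etale S E ∧
      p ∈ Set.range (PrimeSpectrum.comap (algebraMap S E)) ∧
      IsoOverG (R := R) (t.linS S lam) (t'.linS S lam) E}

theorem isOpen_isoLocus (t : AzInv.LamInv R A lam) (t' : AzInv.LamInv R A' lam) :
    IsOpen (IsoLocus (S := S) t t') := by
  rw [isOpen_iff_forall_mem_open]
  rintro p ⟨E, _, _, hEt, hp, hiso⟩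
  haveI := hEt
  refine ⟨Set.range (PrimeSpectrum.comap (algebraMap S E)), ?_,
    Groth.Agent.Lib.AzInvCover16.isOpen_range_comap E, hp⟩
  intro q hq
  exact ⟨E, inferInstance, inferInstance, hEt, hq, hiso⟩

variable (p : Ideal S) [p.IsPrime] (T : Type u) [CommRing T] [IsLocalRing T] [Algebra S T]
  [Algebra (Localization.AtPrime p) T] [IsScalarTower S (Localization.AtPrime p) T]
  [IsLocalHom (algebraMap (Localization.AtPrime p) T)]
  [hSH : Hensel.IsStrictHenselization (Localization.AtPrime p) T]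

include hSH in
/-- at a point of the locus the algebras become isomorphic over the strict henselization -/
theorem isoOverG_of_mem_isoLocus {t : AzInv.LamInv R A lam} {t' : AzInv.LamInv R A' lam}
    (h : (⟨p, inferInstance⟩ : PrimeSpectrum S) ∈ IsoLocus (S := S) t t') :
    IsoOverG (R := R) (t.linS S lam) (t'.linS S lam) T := by
  obtain ⟨E, _, _, hEt, hp, hiso⟩ := h
  haveI := hEt
  obtain ⟨φ⟩ := exists_algHom_of_etale_of_mem_range S p T E hp
  exact IsoOverG.map _ _ φ hiso

variable [Module.Flat S T]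

include hSH hlam in
/-- per-`T` criterion: equal signs give a compatible homomorphism to the twisted matrix algebra -/
theorem exists_hom_of_sign_iff (hfix : RInv.IsFixedRing S R lam.toRingEquiv)
    (hsq : ∀ (S₁ : Type u) [CommRing S₁] [Algebra S S₁] [Algebra.Etale S S₁] (x : S₁ˣ),
      ∃ (S₂ : Type u) (_ : CommRing S₂) (_ : Algebra S₁ S₂) (_ : Algebra.Etale S₁ S₂)
        (_ : Module.FaithfullyFlat S₁ S₂) (y : S₂), y * y = algebraMap S₁ S₂ ↑x)
    (h2 : IsUnit (2 : S)) {n : ℕ} (hn : 0 < n) (t : AzInv.LamInv R A lam)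
    (w : (Matrix (Fin n) (Fin n) R)ˣ) (e : R)
    (hw : AzInv.LamInv.transpose lam (Fin n) hlam (↑w : Matrix (Fin n) (Fin n) R) =
      e • (↑w : Matrix (Fin n) (Fin n) R)) (he : lam e * e = 1)
    (hid : ∀ a : T ⊗[S] R, (lamT T lam).toRingEquiv a - a ∈ Ring.jacobson (T ⊗[S] R))
    {u : (Matrix (Fin n) (Fin n) (T ⊗[S] R))ˣ} {ε : T ⊗[S] R}
    {hu : trK hlam T n (↑u : Matrix (Fin n) (Fin n) (T ⊗[S] R)) =
      ε • (↑u : Matrix (Fin n) (Fin n) (T ⊗[S] R))}
    {he' : lamT T lam ε * ε = 1}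
    (hstd : StdForm t T ((trK hlam T n).conj u ε hu he'))
    (hiff : IsUnit (1 + ε) ↔ IsUnit (1 + ((1 : T) ⊗ₜ[S] e : T ⊗[S] R))) :
    ∃ ρ : A →ₐ[S] T ⊗[S] Matrix (Fin n) (Fin n) R,
      (∀ (r : R) (x : A), ρ (algebraMap R A r * x) =
        ((1 : T) ⊗ₜ[S] algebraMap R (Matrix (Fin n) (Fin n) R) r) * ρ x) ∧
      ∀ x : A, ρ (t.linS S lam x) =
        (((AzInv.LamInv.transpose lam (Fin n) hlam).conj w e hw he).linS S lam).baseChange T
          (ρ x) := by
  have hstd' := stdForm_transpose_conj hlam T w e hw he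
  have h2K : IsUnit (2 : T ⊗[S] R) := by
    have := h2.map (algebraMap S (T ⊗[S] R))
    rwa [map_ofNat] at this
  obtain ⟨v, c, hv⟩ := exists_congr_of_iff (lamT T lam).toRingEquiv (lamT_involutive T lam hlam)
    (isFixedRing_baseChange T lam hfix) (exists_sqrt_of_strict S p T hsq) hn h2K hid u
    (unitT (S := S) T w) ε ((1 : T) ⊗ₜ[S] e) hu (trK_unitT hlam T w e hw) he'
    (lamT_one_tmul_mul T e he) hiff
  exact exists_hom_of_congr hlam hstd hstd' v c hv

include hSH hlam in
/-- at a point of the locus of `(A, t) ≅ (M_n(R), w, e)` the signs agree -/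
theorem sign_iff_of_mem_isoLocus (hfix : RInv.IsFixedRing S R lam.toRingEquiv)
    {n : ℕ} (hn : 0 < n) (t : AzInv.LamInv R A lam)
    (w : (Matrix (Fin n) (Fin n) R)ˣ) (e : R)
    (hw : AzInv.LamInv.transpose lam (Fin n) hlam (↑w : Matrix (Fin n) (Fin n) R) =
      e • (↑w : Matrix (Fin n) (Fin n) R)) (he : lam e * e = 1)
    (hid : ∀ a : T ⊗[S] R, (lamT T lam).toRingEquiv a - a ∈ Ring.jacobson (T ⊗[S] R))
    {u : (Matrix (Fin n) (Fin n) (T ⊗[S] R))ˣ} {ε : T ⊗[S] R}
    {hu : trK hlam T n (↑u : Matrix (Fin n) (Fin n) (T ⊗[S] R)) =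
      ε • (↑u : Matrix (Fin n) (Fin n) (T ⊗[S] R))}
    {he' : lamT T lam ε * ε = 1}
    (hstd : StdForm t T ((trK hlam T n).conj u ε hu he'))
    (h : (⟨p, inferInstance⟩ : PrimeSpectrum S) ∈
      IsoLocus (S := S) t ((AzInv.LamInv.transpose lam (Fin n) hlam).conj w e hw he)) :
    IsUnit (1 + ε) ↔ IsUnit (1 + ((1 : T) ⊗ₜ[S] e : T ⊗[S] R)) := by
  have hB := isFixedRing_baseChange T lam hfix
  have hlamK := lamT_involutive T lam hlam
  haveI : IsLocalRing (T ⊗[S] R) := isLocalRing_of_bad (lamT T lam).toRingEquiv hlamK hB hid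
  haveI : Finite (MaximalSpectrum (T ⊗[S] R)) :=
    Groth.Agent.Lib.AzInvInner16.finite_maximalSpectrum (S := T) (lamT T lam).toRingEquiv
      hlamK hB
  have hiso := isoOverG_of_mem_isoLocus p T h
  obtain ⟨c, hc, hrel⟩ := exists_sign_of_isoOverG' hlam hn hstd
    (stdForm_transpose_conj hlam T w e hw he) hiso
  exact isUnit_one_add_iff (lamT T lam).toRingEquiv hid hc hrel

end locus
end Groth.Agent.Lib.ShDescent16

namespace Groth.Agent.Lib.ShDescent16
open TensorProduct AzInv Groth.Agent.Lib.RInvHerm Groth.Agent.Lib.SkewHerm16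

section mix
universe u v
variable {S : Type u} {R : Type v} [CommRing S] [CommRing R] [Algebra S R] {n : ℕ}

/-- `e₀ a + (1 - e₀) b` -/
def mixMat (e₀ : S) (a b : Matrix (Fin n) (Fin n) R) : Matrix (Fin n) (Fin n) R :=
  e₀ • a + (1 - e₀) • b

variable {e₀ : S}

theorem mixMat_mul (h₀ : IsIdempotentElem e₀) (a₁ a₂ b₁ b₂ : Matrix (Fin n) (Fin n) R) :
    mixMat e₀ a₁ a₂ * mixMat e₀ b₁ b₂ = mixMat e₀ (a₁ * b₁) (a₂ * b₂) := by
  have h1 : e₀ * e₀ = e₀ := h₀
  have h2 : e₀ * (1 - e₀) = 0 := by rw [mul_sub, mul_one, h1, sub_self]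
  have h3 : (1 - e₀) * e₀ = 0 := by rw [mul_comm, h2]
  have h4 : (1 - e₀) * (1 - e₀) = 1 - e₀ := h₀.one_sub
  unfold mixMat
  simp only [add_mul, mul_add, Matrix.smul_mul, Matrix.mul_smul, smul_smul, h1, h2, h3, h4,
    zero_smul, add_zero, zero_add]

theorem mixMat_self (a : Matrix (Fin n) (Fin n) R) : mixMat e₀ a a = a := by
  unfold mixMat
  rw [← add_smul, add_sub_cancel, one_smul]

/-- mixing two invertible matrices along an idempotent -/
def mixUnit (h₀ : IsIdempotentElem e₀) (w₁ w₂ : (Matrix (Fin n) (Fin n) R)ˣ) :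
    (Matrix (Fin n) (Fin n) R)ˣ where
  val := mixMat e₀ (↑w₁ : Matrix (Fin n) (Fin n) R) (↑w₂ : Matrix (Fin n) (Fin n) R)
  inv := mixMat e₀ (↑w₁⁻¹ : Matrix (Fin n) (Fin n) R) (↑w₂⁻¹ : Matrix (Fin n) (Fin n) R)
  val_inv := by rw [mixMat_mul h₀, Units.mul_inv, Units.mul_inv, mixMat_self]
  inv_val := by rw [mixMat_mul h₀, Units.inv_mul, Units.inv_mul, mixMat_self]

theorem mixUnit_val (h₀ : IsIdempotentElem e₀) (w₁ w₂ : (Matrix (Fin n) (Fin n) R)ˣ) :
    (↑(mixUnit h₀ w₁ w₂) : Matrix (Fin n) (Fin n) R) =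
      mixMat e₀ (↑w₁ : Matrix (Fin n) (Fin n) R) (↑w₂ : Matrix (Fin n) (Fin n) R) := rfl

theorem mixUnit_inv_val (h₀ : IsIdempotentElem e₀) (w₁ w₂ : (Matrix (Fin n) (Fin n) R)ˣ) :
    (↑(mixUnit h₀ w₁ w₂)⁻¹ : Matrix (Fin n) (Fin n) R) =
      mixMat e₀ (↑w₁⁻¹ : Matrix (Fin n) (Fin n) R) (↑w₂⁻¹ : Matrix (Fin n) (Fin n) R) := rfl

variable {lam : R ≃ₐ[S] R}

theorem lamInv_mixMat (τ : AzInv.LamInv R (Matrix (Fin n) (Fin n) R) lam)
    (a b : Matrix (Fin n) (Fin n) R) : τ (mixMat e₀ a b) = mixMat e₀ (τ a) (τ b) := by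
  unfold mixMat
  rw [τ.map_add]
  congr 1
  · exact (τ.linS S lam).map_smul e₀ a
  · exact (τ.linS S lam).map_smul (1 - e₀) b

/-- the sign of the mixed matrix -/
theorem smul_mixMat_sign (h₀ : IsIdempotentElem e₀) (a b : Matrix (Fin n) (Fin n) R) :
    (algebraMap S R (2 * e₀ - 1)) • mixMat e₀ a b = mixMat e₀ ((1 : R) • a) ((-1 : R) • b) := by
  have h1 : algebraMap S R e₀ * algebraMap S R e₀ = algebraMap S R e₀ := by
    rw [← map_mul, h₀.eq]
  have hs : ∀ (s : S) (M : Matrix (Fin n) (Fin n) R), s • M = algebraMap S R s • M :=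
    fun s M => (algebraMap_smul R s M).symm
  unfold mixMat
  rw [hs e₀ a, hs (1 - e₀) b, hs e₀ _, hs (1 - e₀) _]
  ext i j
  simp only [Matrix.smul_apply, Matrix.add_apply, smul_eq_mul, map_sub, map_mul,
    map_one, map_ofNat]
  linear_combination (2 * a i j - 2 * b i j) * h1

theorem sign_mul_sign (h₀ : IsIdempotentElem e₀) :
    lam (algebraMap S R (2 * e₀ - 1)) * algebraMap S R (2 * e₀ - 1) = 1 := by
  have h1 : e₀ * e₀ = e₀ := h₀
  rw [AlgEquiv.commutes, ← map_mul]
  have : (2 * e₀ - 1) * (2 * e₀ - 1) = 1 := by linear_combination 4 * h1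
  rw [this, map_one]

variable (T : Type*) [CommRing T] [Algebra S T]

theorem tmul_mixMat_of_one (h : algebraMap S T e₀ = 1) (x : T) (a b : Matrix (Fin n) (Fin n) R) :
    (x ⊗ₜ[S] mixMat e₀ a b : T ⊗[S] Matrix (Fin n) (Fin n) R) = x ⊗ₜ[S] a := by
  unfold mixMat
  rw [TensorProduct.tmul_add, TensorProduct.tmul_smul, TensorProduct.tmul_smul,
    TensorProduct.smul_tmul', TensorProduct.smul_tmul', Algebra.smul_def, Algebra.smul_def,
    map_sub, map_one, h, sub_self, zero_mul, one_mul, TensorProduct.zero_tmul, add_zero]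

theorem tmul_mixMat_of_zero (h : algebraMap S T e₀ = 0) (x : T) (a b : Matrix (Fin n) (Fin n) R) :
    (x ⊗ₜ[S] mixMat e₀ a b : T ⊗[S] Matrix (Fin n) (Fin n) R) = x ⊗ₜ[S] b := by
  unfold mixMat
  rw [TensorProduct.tmul_add, TensorProduct.tmul_smul, TensorProduct.tmul_smul,
    TensorProduct.smul_tmul', TensorProduct.smul_tmul', Algebra.smul_def, Algebra.smul_def,
    map_sub, map_one, h, sub_zero, zero_mul, one_mul, TensorProduct.zero_tmul, zero_add]

theorem baseChange_eq_of_one (h : algebraMap S T e₀ = 1)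
    (τ τ₁ τ₂ : AzInv.LamInv R (Matrix (Fin n) (Fin n) R) lam)
    (hτ : ∀ X, τ X = mixMat e₀ (τ₁ X) (τ₂ X)) (y : T ⊗[S] Matrix (Fin n) (Fin n) R) :
    (τ.linS S lam).baseChange T y = (τ₁.linS S lam).baseChange T y := by
  induction y using TensorProduct.induction_on with
  | zero => simp
  | add x y hx hy => rw [map_add, map_add, hx, hy]
  | tmul a X =>
    rw [LinearMap.baseChange_tmul, LinearMap.baseChange_tmul, LamInv.linS_apply,
      LamInv.linS_apply, hτ, tmul_mixMat_of_one T h]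

theorem baseChange_eq_of_zero (h : algebraMap S T e₀ = 0)
    (τ τ₁ τ₂ : AzInv.LamInv R (Matrix (Fin n) (Fin n) R) lam)
    (hτ : ∀ X, τ X = mixMat e₀ (τ₁ X) (τ₂ X)) (y : T ⊗[S] Matrix (Fin n) (Fin n) R) :
    (τ.linS S lam).baseChange T y = (τ₂.linS S lam).baseChange T y := by
  induction y using TensorProduct.induction_on with
  | zero => simp
  | add x y hx hy => rw [map_add, map_add, hx, hy]
  | tmul a X =>
    rw [LinearMap.baseChange_tmul, LinearMap.baseChange_tmul, LamInv.linS_apply,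
      LamInv.linS_apply, hτ, tmul_mixMat_of_zero T h]

end mix

section idem
variable {S : Type*} [CommRing S] (p : Ideal S) [p.IsPrime]
  (T : Type*) [CommRing T] [IsLocalRing T] [Algebra S T]

theorem algebraMap_idem_of_notMem {e₀ : S} (h₀ : IsIdempotentElem e₀)
    (hp : (IsLocalRing.maximalIdeal T).comap (algebraMap S T) = p) (h : e₀ ∉ p) :
    algebraMap S T e₀ = 1 := by
  have h1 : algebraMap S T e₀ * algebraMap S T e₀ = algebraMap S T e₀ := by
    rw [← map_mul, h₀.eq]
  have hu : IsUnit (algebraMap S T e₀) := by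
    by_contra hnu
    apply h
    rw [← hp]
    exact (IsLocalRing.mem_maximalIdeal _).2 hnu
  have h2 : algebraMap S T e₀ * algebraMap S T e₀ = algebraMap S T e₀ * 1 := by rw [h1, mul_one]
  exact hu.mul_left_cancel h2

theorem algebraMap_idem_of_mem {e₀ : S} (h₀ : IsIdempotentElem e₀)
    (hp : (IsLocalRing.maximalIdeal T).comap (algebraMap S T) = p) (h : e₀ ∈ p) :
    algebraMap S T e₀ = 0 := by
  have h1 : algebraMap S T e₀ * algebraMap S T e₀ = algebraMap S T e₀ := by
    rw [← map_mul, h₀.eq]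
  have hm : algebraMap S T e₀ ∈ IsLocalRing.maximalIdeal T := by
    rw [← hp] at h
    exact h
  have hu : IsUnit (1 - algebraMap S T e₀) := by
    rcases IsLocalRing.isUnit_or_isUnit_one_sub_self (algebraMap S T e₀) with h' | h'
    · exact absurd h' ((IsLocalRing.mem_maximalIdeal _).1 hm)
    · exact h'
  have h2 : (1 - algebraMap S T e₀) * algebraMap S T e₀ = (1 - algebraMap S T e₀) * 0 := by
    rw [mul_zero, sub_mul, one_mul, h1, sub_self]
  exact hu.mul_left_cancel h2

end idem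
end Groth.Agent.Lib.ShDescent16

namespace Groth.Agent.Lib.ShDescent16
open TensorProduct AzInv Groth.Agent.Lib.RInvHerm Groth.Agent.Lib.SkewHerm16

section ordinary
universe u v w
variable {S : Type u} {R : Type v} [CommRing S] [CommRing R] [Algebra S R]
  {lam : R ≃ₐ[S] R} (hlam : ∀ r, lam (lam r) = r)
  {A : Type w} [Ring A] [Algebra S A] [Algebra R A] [IsScalarTower S R A]

theorem isUnit_one_add_one_tmul_one (T : Type*) [CommRing T] [Algebra S T] (h2 : IsUnit (2 : S)) :
    IsUnit (1 + ((1 : T) ⊗ₜ[S] (1 : R) : T ⊗[S] R)) := by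
  rw [← Algebra.TensorProduct.one_def, one_add_one_eq_two]
  have := h2.map (algebraMap S (T ⊗[S] R))
  rwa [map_ofNat] at this

theorem not_isUnit_one_add_one_tmul_neg (T : Type*) [CommRing T] [Algebra S T]
    [Nontrivial (T ⊗[S] R)] : ¬ IsUnit (1 + ((1 : T) ⊗ₜ[S] (-1 : R) : T ⊗[S] R)) := by
  rw [TensorProduct.tmul_neg, ← Algebra.TensorProduct.one_def, add_neg_cancel]
  exact not_isUnit_zero

include hlam in
/-- **Every `lam`-involution is ordinary** in the everywhere ramified case (with `2` invertible) and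
in the quadratic étale case (statement S17358). -/
theorem exists_ordinary (hfix : RInv.IsFixedRing S R lam.toRingEquiv)
    (hsq : ∀ (S₁ : Type u) [CommRing S₁] [Algebra S S₁] [Algebra.Etale S S₁] (x : S₁ˣ),
      ∃ (S₂ : Type u) (_ : CommRing S₂) (_ : Algebra S₁ S₂) (_ : Algebra.Etale S₁ S₂)
        (_ : Module.FaithfullyFlat S₁ S₂) (y : S₂), y * y = algebraMap S₁ S₂ ↑x)
    (hram : (IsUnit (2 : S) ∧ ∀ p : PrimeSpectrum S,
        ¬ RInv.IsQuadEtale (Localization.AtPrime p.asIdeal)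
          (Localization.AtPrime p.asIdeal ⊗[S] R)) ∨ RInv.IsQuadEtale S R)
    {n : ℕ} (hn : 0 < n) (hA : AzInv.IsAzumayaDeg R A n) (t : AzInv.LamInv R A lam) :
    ∃ (w : (Matrix (Fin n) (Fin n) R)ˣ) (e : R)
      (hw : AzInv.LamInv.transpose lam (Fin n) hlam (↑w : Matrix (Fin n) (Fin n) R) =
        e • (↑w : Matrix (Fin n) (Fin n) R))
      (he : lam e * e = 1),
      AzInv.LocIsoEt S lam t ((AzInv.LamInv.transpose lam (Fin n) hlam).conj w e hw he) := by
  have hA' := isAzumayaDeg_matrix_self R hn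
  haveI := hA.1
  haveI := hA'.1
  have hrk : ∀ q : PrimeSpectrum R, Module.rankAtStalk A q =
      Module.rankAtStalk (Matrix (Fin n) (Fin n) R) q := fun q => by rw [hA.2 q, hA'.2 q]
  have hw1 : AzInv.LamInv.transpose lam (Fin n) hlam
      (↑(1 : (Matrix (Fin n) (Fin n) R)ˣ) : Matrix (Fin n) (Fin n) R) =
      (1 : R) • (↑(1 : (Matrix (Fin n) (Fin n) R)ˣ) : Matrix (Fin n) (Fin n) R) := by
    rw [Units.val_one, LamInv.map_one, one_smul]
  have he1 : lam (1 : R) * 1 = 1 := by rw [map_one, mul_one]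
  rcases hram with ⟨h2, hnq⟩ | hq
  · by_cases hev : Even n
    · -- even degree: two possible local signs
      obtain ⟨J, hJ⟩ := isUnit_Jc_of_even (K := R) n hev
      have hJt : AzInv.LamInv.transpose lam (Fin n) hlam (↑J : Matrix (Fin n) (Fin n) R) =
          (-1 : R) • (↑J : Matrix (Fin n) (Fin n) R) := by
        rw [hJ]
        change st lam.toRingEquiv (Jc R n) = _
        rw [st_Jc, neg_smul, one_smul]
      have heJ : lam (-1 : R) * (-1) = 1 := by rw [map_neg, map_one]; ring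
      set τp := (AzInv.LamInv.transpose lam (Fin n) hlam).conj 1 1 hw1 he1 with hτp
      set τm := (AzInv.LamInv.transpose lam (Fin n) hlam).conj J (-1) hJt heJ with hτm
      -- the local analysis at a prime
      have hlocal : ∀ p : PrimeSpectrum S,
          (p ∈ IsoLocus (S := S) t τp ∨ p ∈ IsoLocus (S := S) t τm) ∧
          (p ∈ IsoLocus (S := S) t τp → p ∈ IsoLocus (S := S) t τm → False) := by
        intro p
        obtain ⟨T, _, _, _, _, _, _, hSH, _⟩ := exists_strictHenselization S p.asIdeal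
        haveI : HenselianLocalRing T := hSH.henselian
        haveI : IsSepClosed (IsLocalRing.ResidueField T) := hSH.isSepClosure.sep_closed
        have hid := forall_mem_jacobson_of_not_isQuadEtale hlam hfix h2 hsq p.asIdeal T (hnq p)
        haveI : Nontrivial (T ⊗[S] R) :=
          Groth.Agent.Lib.RInv88.nontrivial_of_nontrivial (lamT T lam).toRingEquiv
            (isFixedRing_baseChange T lam hfix)
        obtain ⟨u, ε, hu, he, hstd⟩ := exists_stdForm_conj hlam hfix hn hA t T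
        constructor
        · by_cases h1 : IsUnit (1 + ε)
          · left
            obtain ⟨ρ, hρ1, hρ2⟩ := exists_hom_of_sign_iff hlam p.asIdeal T hfix hsq h2 hn t 1 1
              hw1 he1 hid hstd (iff_of_true h1 (isUnit_one_add_one_tmul_one T h2))
            exact exists_etale_nbhd_of_hom hrk (t.linS S lam) (τp.linS S lam)
              (fun r x => t.map_smul r x) (fun r x => τp.map_smul r x) p.asIdeal T ρ hρ1 hρ2
          · right
            obtain ⟨ρ, hρ1, hρ2⟩ := exists_hom_of_sign_iff hlam p.asIdeal T hfix hsq h2 hn t J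
              (-1) hJt heJ hid hstd (iff_of_false h1 (not_isUnit_one_add_one_tmul_neg T))
            exact exists_etale_nbhd_of_hom hrk (t.linS S lam) (τm.linS S lam)
              (fun r x => t.map_smul r x) (fun r x => τm.map_smul r x) p.asIdeal T ρ hρ1 hρ2
        · intro hp hm
          have i1 := sign_iff_of_mem_isoLocus hlam p.asIdeal T hfix hn t 1 1 hw1 he1 hid hstd hp
          have i2 := sign_iff_of_mem_isoLocus hlam p.asIdeal T hfix hn t J (-1) hJt heJ hid hstd hm
          exact not_isUnit_one_add_one_tmul_neg T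
            (i2.1 (i1.2 (isUnit_one_add_one_tmul_one T h2)))
      have hcompl : (IsoLocus (S := S) t τp)ᶜ = IsoLocus (S := S) t τm := by
        ext p
        constructor
        · intro hp
          exact (hlocal p).1.resolve_left hp
        · intro hm hp
          exact (hlocal p).2 hp hm
      have hclopen : IsClopen (IsoLocus (S := S) t τp) :=
        ⟨⟨by rw [hcompl]; exact isOpen_isoLocus t τm⟩, isOpen_isoLocus t τp⟩
      obtain ⟨e₀, he₀, hV⟩ := PrimeSpectrum.isClopen_iff.1 hclopen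
      -- the global twisting matrix
      have hwmix : AzInv.LamInv.transpose lam (Fin n) hlam
          (↑(mixUnit he₀ 1 J) : Matrix (Fin n) (Fin n) R) =
          (algebraMap S R (2 * e₀ - 1)) • (↑(mixUnit he₀ 1 J) : Matrix (Fin n) (Fin n) R) := by
        rw [mixUnit_val, lamInv_mixMat, hw1, hJt, smul_mixMat_sign he₀]
      refine ⟨mixUnit he₀ 1 J, algebraMap S R (2 * e₀ - 1), hwmix, sign_mul_sign he₀,
        locIsoEt_of_forall_strictHenselization hA hA' t _ ?_⟩
      intro p _ T _ _ _ _ _ _ hSH _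
      have hτ : ∀ X, (AzInv.LamInv.transpose lam (Fin n) hlam).conj (mixUnit he₀ 1 J)
          (algebraMap S R (2 * e₀ - 1)) hwmix (sign_mul_sign he₀) X =
          mixMat e₀ (τp X) (τm X) := by
        intro X
        rw [hτp, hτm, LamInv.conj_apply, LamInv.conj_apply, LamInv.conj_apply, mixUnit_val,
          mixUnit_inv_val]
        conv_lhs => rw [← mixMat_self (e₀ := e₀) (AzInv.LamInv.transpose lam (Fin n) hlam X)]
        rw [mixMat_mul he₀, mixMat_mul he₀]
      have hcomap := comap_maximalIdeal_eq S p T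
      rcases (hlocal ⟨p, inferInstance⟩).1 with hp | hm
      · obtain ⟨ρ, hρ1, hρ2⟩ := (isoOverG_of_mem_isoLocus p T hp).exists_hom
        have he₀p : e₀ ∉ p := by
          rw [hV] at hp
          exact (PrimeSpectrum.mem_basicOpen e₀ _).1 hp
        have halg := algebraMap_idem_of_notMem p T he₀ hcomap he₀p
        refine ⟨ρ, hρ1, fun x => ?_⟩
        rw [hρ2, baseChange_eq_of_one T halg _ τp τm hτ]
      · obtain ⟨ρ, hρ1, hρ2⟩ := (isoOverG_of_mem_isoLocus p T hm).exists_hom
        have he₀p : e₀ ∈ p := by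
          by_contra hcon
          have : (⟨p, inferInstance⟩ : PrimeSpectrum S) ∈ IsoLocus (S := S) t τp := by
            rw [hV]
            exact (PrimeSpectrum.mem_basicOpen e₀ _).2 hcon
          exact (hlocal ⟨p, inferInstance⟩).2 this hm
        have halg := algebraMap_idem_of_mem p T he₀ hcomap he₀p
        refine ⟨ρ, hρ1, fun x => ?_⟩
        rw [hρ2, baseChange_eq_of_zero T halg _ τp τm hτ]
    · -- odd degree: only the hermitian sign occurs
      refine ⟨1, 1, hw1, he1, locIsoEt_of_forall_strictHenselization hA hA' t _ ?_⟩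
      intro p _ T _ _ _ _ _ _ hSH _
      haveI : HenselianLocalRing T := hSH.henselian
      haveI : IsSepClosed (IsLocalRing.ResidueField T) := hSH.isSepClosure.sep_closed
      have hid := forall_mem_jacobson_of_not_isQuadEtale hlam hfix h2 hsq p T (hnq ⟨p, inferInstance⟩)
      have hB := isFixedRing_baseChange T lam hfix
      have hlamK := lamT_involutive T lam hlam
      haveI : Nontrivial (T ⊗[S] R) :=
        Groth.Agent.Lib.RInv88.nontrivial_of_nontrivial (lamT T lam).toRingEquiv hB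
      haveI : IsLocalRing (T ⊗[S] R) := isLocalRing_of_bad (lamT T lam).toRingEquiv hlamK hB hid
      obtain ⟨u, ε, hu, he, hstd⟩ := exists_stdForm_conj hlam hfix hn hA t T
      have h2K : IsUnit (2 : T ⊗[S] R) := by
        have := h2.map (algebraMap S (T ⊗[S] R))
        rwa [map_ofNat] at this
      have h1 : IsUnit (1 + ε) := by
        by_contra h1
        have hsum : IsUnit ((1 + ε) + (1 - ε)) := by
          have : (1 + ε) + (1 - ε) = 2 := by ring
          rw [this]; exact h2K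
        have h3 : IsUnit (1 - ε) :=
          (IsLocalRing.isUnit_or_isUnit_of_isUnit_add hsum).resolve_left h1
        exact hev (even_of_skew (lamT T lam).toRingEquiv hlamK hB (exists_sqrt_of_strict S p T hsq)
          h2K hid u ε hu he h3)
      exact exists_hom_of_sign_iff hlam p T hfix hsq h2 hn t 1 1 hw1 he1 hid hstd
        (iff_of_true h1 (isUnit_one_add_one_tmul_one T h2))
  · -- quadratic étale: everything is unramified
    refine ⟨1, 1, hw1, he1, locIsoEt_of_forall_strictHenselization hA hA' t _ ?_⟩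
    intro p _ T _ _ _ _ _ _ hSH _
    haveI : HenselianLocalRing T := hSH.henselian
    haveI : IsSepClosed (IsLocalRing.ResidueField T) := hSH.isSepClosure.sep_closed
    have hB := isFixedRing_baseChange T lam hfix
    have hlamK := lamT_involutive T lam hlam
    haveI : Nontrivial (T ⊗[S] R) :=
      Groth.Agent.Lib.RInv88.nontrivial_of_nontrivial (lamT T lam).toRingEquiv hB
    have hG := exists_notMem_jacobson_of_span lam T (one_mem_span_of_isQuadEtale lam hlam hfix hq)
    obtain ⟨u, ε, hu, he, hstd⟩ := exists_stdForm_conj hlam hfix hn hA t T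
    obtain ⟨v, c, hv⟩ := exists_congr_of_good (lamT T lam).toRingEquiv hlamK hB
      (exists_sqrt_of_strict S p T hsq) hn hG u (unitT (S := S) T 1) ε ((1 : T) ⊗ₜ[S] (1 : R)) hu
      (trK_unitT hlam T 1 1 hw1) he (lamT_one_tmul_mul T 1 he1)
    exact exists_hom_of_congr hlam hstd (stdForm_transpose_conj hlam T 1 1 hw1 he1) v c hv

end ordinary
end Groth.Agent.Lib.ShDescent16
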