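import Mathlib

/-!
# Spreading out spanning families in fibres, and a counting lemma (helper16)

Used for S17362 (local constancy of the orthogonal/symplectic sign of an involution).
-/

namespace Groth.Agent.Lib.AzInvSign16
open TensorProduct

section spread
universe v w
variable {R : Type v} [CommRing R] {M : Type w} [AddCommGroup M] [Module R M] [Module.Finite R M]

/-- If the images of a family `x` span the fibre of the finite module `M` at `q`, they span the fibres
at all primes of a basic open neighbourhood of `q`. -/
theorem exists_span_fibre_eq_top {ι : Type*} (x : ι → M) (q : PrimeSpectrum R)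
    (h : Submodule.span q.asIdeal.ResidueField
      (Set.range fun i => ((1 : q.asIdeal.ResidueField) ⊗ₜ[R] x i : q.asIdeal.ResidueField ⊗[R] M)) = ⊤) :
    ∃ f : R, f ∉ q.asIdeal ∧ ∀ q' : PrimeSpectrum R, f ∉ q'.asIdeal →
      Submodule.span q'.asIdeal.ResidueField
        (Set.range fun i => ((1 : q'.asIdeal.ResidueField) ⊗ₜ[R] x i : q'.asIdeal.ResidueField ⊗[R] M)) = ⊤ := by
  classical
  set N' : Submodule R M := Submodule.span R (Set.range x) with hN'
  -- the fibre of the quotient at `q` vanishes
  have hsub : Subsingleton (q.asIdeal.ResidueField ⊗[R] (M ⧸ N')) := by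
    let π := (N'.mkQ).baseChange q.asIdeal.ResidueField
    have hπ : ∀ y, π y = 0 := by
      intro y
      have hy : y ∈ Submodule.span q.asIdeal.ResidueField
          (Set.range fun i => ((1 : q.asIdeal.ResidueField) ⊗ₜ[R] x i : q.asIdeal.ResidueField ⊗[R] M)) := by
        rw [h]; trivial
      induction hy using Submodule.span_induction with
      | mem y hy =>
        obtain ⟨i, rfl⟩ := hy
        simp only [π, LinearMap.baseChange_tmul, Submodule.mkQ_apply]
        rw [(Submodule.Quotient.mk_eq_zero N').2 (Submodule.subset_span ⟨i, rfl⟩), tmul_zero]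
      | zero => simp
      | add a b _ _ ha hb => rw [map_add, ha, hb, add_zero]
      | smul c a _ ha => rw [map_smul, ha, smul_zero]
    refine ⟨fun a b => ?_⟩
    have h0 : ∀ z : q.asIdeal.ResidueField ⊗[R] (M ⧸ N'), z = 0 := by
      intro z
      induction z using TensorProduct.induction_on with
      | zero => rfl
      | add a b ha hb => rw [ha, hb, add_zero]
      | tmul c m =>
        obtain ⟨m, rfl⟩ := Submodule.Quotient.mk_surjective N' m
        have := hπ (c ⊗ₜ[R] m)
        simpa [π] using this
    rw [h0 a, h0 b]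
  have hq : q ∉ Module.support R (M ⧸ N') := by
    rw [Module.mem_support_iff_nontrivial_residueField_tensorProduct]
    exact not_nontrivial _
  rw [Module.support_eq_zeroLocus, PrimeSpectrum.mem_zeroLocus, Set.not_subset] at hq
  obtain ⟨f, hfann, hfq⟩ := hq
  refine ⟨f, hfq, fun q' hfq' => ?_⟩
  have hfa : ∀ a : M, f • a ∈ N' := by
    intro a
    have := (Module.mem_annihilator.1 hfann) (N'.mkQ a)
    rw [← map_smul, Submodule.mkQ_apply, Submodule.Quotient.mk_eq_zero] at this
    exact this
  set κ := q'.asIdeal.ResidueField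
  set W := Submodule.span κ (Set.range fun i => ((1 : κ) ⊗ₜ[R] x i : κ ⊗[R] M)) with hW
  have hfunit : algebraMap R κ f ≠ 0 := by
    intro h0
    apply hfq'
    have : f ∈ RingHom.ker (algebraMap R κ) := h0
    rwa [Ideal.ker_algebraMap_residueField] at this
  have hN : ∀ y ∈ N', ((1 : κ) ⊗ₜ[R] y : κ ⊗[R] M) ∈ W := by
    intro y hy
    induction hy using Submodule.span_induction with
    | mem y hy =>
      obtain ⟨i, rfl⟩ := hy
      exact Submodule.subset_span ⟨i, rfl⟩
    | zero => rw [tmul_zero]; exact W.zero_mem
    | add a b _ _ ha hb => rw [tmul_add]; exact W.add_mem ha hb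
    | smul c a _ ha =>
      have : ((1 : κ) ⊗ₜ[R] (c • a) : κ ⊗[R] M) = (algebraMap R κ c) • ((1 : κ) ⊗ₜ[R] a) := by
        rw [TensorProduct.smul_tmul', ← TensorProduct.smul_tmul, Algebra.smul_def, mul_one, smul_eq_mul,
          mul_one]
      rw [this]
      exact W.smul_mem _ ha
  rw [eq_top_iff]
  rintro z -
  induction z using TensorProduct.induction_on with
  | zero => exact W.zero_mem
  | add a b ha hb => exact W.add_mem ha hb
  | tmul c m =>
    have h1 : (c ⊗ₜ[R] m : κ ⊗[R] M) = (c * (algebraMap R κ f)⁻¹) • ((1 : κ) ⊗ₜ[R] (f • m)) := by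
      have : ((1 : κ) ⊗ₜ[R] (f • m) : κ ⊗[R] M) = (algebraMap R κ f) • ((1 : κ) ⊗ₜ[R] m) := by
        rw [TensorProduct.smul_tmul', ← TensorProduct.smul_tmul, Algebra.smul_def, mul_one, smul_eq_mul,
          mul_one]
      rw [this, smul_smul, mul_assoc, inv_mul_cancel₀ hfunit, mul_one, TensorProduct.smul_tmul',
        smul_eq_mul, mul_one]
    rw [h1]
    exact W.smul_mem _ (hN _ (hfa m))

end spread

section count
variable {K : Type*} [Field K] {V : Type*} [AddCommGroup V] [Module K V] [FiniteDimensional K V]

/-- Counting lemma: complementary subspaces `W₁`, `W₂`, families in `W₁` and in `W₂` which together span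
`V` and whose total number is `dim V`; then `dim W₁` is the size of the first family. -/
theorem finrank_eq_card_of_span {ι₁ ι₂ : Type*} [Fintype ι₁] [Fintype ι₂]
    (W₁ W₂ : Submodule K V) (hdisj : Disjoint W₁ W₂)
    (x₁ : ι₁ → V) (x₂ : ι₂ → V) (h₁ : ∀ i, x₁ i ∈ W₁) (h₂ : ∀ i, x₂ i ∈ W₂)
    (hspan : Submodule.span K (Set.range (Sum.elim x₁ x₂)) = ⊤)
    (hcard : Fintype.card ι₁ + Fintype.card ι₂ = Module.finrank K V) :
    Module.finrank K W₁ = Fintype.card ι₁ := by
  classical
  have hli : LinearIndependent K (Sum.elim x₁ x₂) := by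
    apply linearIndependent_of_top_le_span_of_card_eq_finrank hspan.ge
    rw [Fintype.card_sum, hcard]
  have hli₁ : LinearIndependent K x₁ := by
    have := hli.comp Sum.inl Sum.inl_injective
    simpa [Function.comp_def] using this
  have hli₂ : LinearIndependent K x₂ := by
    have := hli.comp Sum.inr Sum.inr_injective
    simpa [Function.comp_def] using this
  have hc₁ : Fintype.card ι₁ ≤ Module.finrank K W₁ := by
    let y₁ : ι₁ → W₁ := fun i => ⟨x₁ i, h₁ i⟩
    have : LinearIndependent K y₁ := by
      apply LinearIndependent.of_comp W₁.subtype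
      simpa [Function.comp_def, y₁] using hli₁
    exact this.fintype_card_le_finrank
  have hc₂ : Fintype.card ι₂ ≤ Module.finrank K W₂ := by
    let y₂ : ι₂ → W₂ := fun i => ⟨x₂ i, h₂ i⟩
    have : LinearIndependent K y₂ := by
      apply LinearIndependent.of_comp W₂.subtype
      simpa [Function.comp_def, y₂] using hli₂
    exact this.fintype_card_le_finrank
  have hsum : Module.finrank K W₁ + Module.finrank K W₂ ≤ Module.finrank K V := by
    have h := Submodule.finrank_sup_add_finrank_inf_eq W₁ W₂
    rw [hdisj.eq_bot, finrank_bot, add_zero] at h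
    rw [← h]
    exact Submodule.finrank_le _
  omega

end count

end Groth.Agent.Lib.AzInvSign16
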