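import Groth.Agent.Lib.Azumaya16Fibre
import Mathlib.Algebra.Azumaya.Matrix
import Mathlib.LinearAlgebra.Matrix.ToLin

/-!
# Azumaya algebras: tensor products and endomorphism algebras (helper16)
-/

namespace Groth.Agent.Lib.Azumaya16
open TensorProduct

section tensor
universe u v w
variable (R : Type u) [CommRing R] (A : Type v) [Ring A] [Algebra R A] (B : Type w) [Ring B] [Algebra R B]

theorem traceIdeal_mul_le (M N : Type*) [AddCommGroup M] [Module R M] [AddCommGroup N] [Module R N] :
    traceIdeal R M * traceIdeal R N ≤ traceIdeal R (M ⊗[R] N) := by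
  rw [Ideal.mul_le]
  intro r hr s hs
  induction hr using Submodule.span_induction with
  | mem x hx =>
    obtain ⟨f, a, rfl⟩ := hx
    induction hs using Submodule.span_induction with
    | mem y hy =>
      obtain ⟨g, b, rfl⟩ := hy
      have : f a * g b = (LinearMap.mul' R R ∘ₗ TensorProduct.map f g) (a ⊗ₜ[R] b) := by simp
      rw [this]
      exact apply_mem_traceIdeal _ _
    | zero => simp
    | add y z _ _ hy hz => rw [mul_add]; exact Ideal.add_mem _ hy hz
    | smul c y _ hy => rw [smul_eq_mul, mul_left_comm]; exact Ideal.mul_mem_left _ _ hy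
  | zero => simp
  | add y z _ _ hy hz => rw [add_mul]; exact Ideal.add_mem _ hy hz
  | smul c y _ hy => rw [smul_eq_mul, mul_assoc]; exact Ideal.mul_mem_left _ _ hy

theorem lr_tensor_square (x : (A ⊗[R] A) ⊗[R] (B ⊗[R] B)) :
    lr R (A ⊗[R] B) (TensorProduct.tensorTensorTensorComm R A A B B x) =
      homTensorHomMap (.id R) A B A B (TensorProduct.map (lr R A) (lr R B) x) := by
  induction x using TensorProduct.induction_on with
  | zero => simp
  | add x y hx hy => simp only [map_add, hx, hy]
  | tmul s t =>
    induction s using TensorProduct.induction_on with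
    | zero => simp
    | add x y hx hy => simp only [TensorProduct.add_tmul, map_add, hx, hy]
    | tmul a a' =>
      induction t using TensorProduct.induction_on with
      | zero => simp
      | add x y hx hy => simp only [TensorProduct.tmul_add, map_add, hx, hy]
      | tmul b b' =>
        apply TensorProduct.ext'
        intro x y
        simp [Algebra.TensorProduct.tmul_mul_tmul]

theorem isAzumaya_tensorProduct [IsAzumaya R A] [IsAzumaya R B] : IsAzumaya R (A ⊗[R] B) := by
  obtain ⟨a1, a2, a3, a4⟩ := (isAzumaya_iff R A).1 inferInstance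
  obtain ⟨b1, b2, b3, b4⟩ := (isAzumaya_iff R B).1 inferInstance
  rw [isAzumaya_iff]
  refine ⟨inferInstance, ?_, inferInstance, ?_⟩
  · apply faithfulSMul_of_traceIdeal_eq_top
    rw [eq_top_iff]
    refine le_trans ?_ (traceIdeal_mul_le R A B)
    rw [traceIdeal_eq_top_of_faithful R A, traceIdeal_eq_top_of_faithful R B, Ideal.top_mul]
  · have h1 : ⇑(lr R (A ⊗[R] B)) ∘ ⇑(TensorProduct.tensorTensorTensorComm R A A B B) =
        ⇑(homTensorHomEquiv R A B A B) ∘
          ⇑(TensorProduct.congr (LinearEquiv.ofBijective (lr R A) a4) (LinearEquiv.ofBijective (lr R B) b4)) := by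
      funext x
      simp only [Function.comp_apply, homTensorHomEquiv_apply]
      rw [lr_tensor_square]
      rfl
    rw [← Function.Bijective.of_comp_iff _ (TensorProduct.tensorTensorTensorComm R A A B B).bijective, h1]
    exact (LinearEquiv.bijective _).comp (LinearEquiv.bijective _)

end tensor
end Groth.Agent.Lib.Azumaya16

namespace Groth.Agent.Lib.Azumaya16
open TensorProduct

section endo
universe u v

theorem isAzumaya_end_of_field (K : Type u) [Field K] (V : Type v) [AddCommGroup V] [Module K V]
    [FiniteDimensional K V] [Nontrivial V] : IsAzumaya K (Module.End K V) := by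
  have : Nonempty (Fin (Module.finrank K V)) := Fin.pos_iff_nonempty.1 Module.finrank_pos
  have h1 := IsAzumaya.matrix K (Fin (Module.finrank K V))
  exact IsAzumaya.of_AlgEquiv K _ _ (LinearMap.toMatrixAlgEquiv (Module.finBasis K V)).symm

variable (R : Type u) [CommRing R] (P : Type v) [AddCommGroup P] [Module R P]
  [Module.Finite R P] [Module.Projective R P] [FaithfulSMul R P]

omit [FaithfulSMul R P] in
theorem tensorProductEnd_bijective (S : Type*) [CommRing S] [Algebra R S] :
    Function.Bijective (LinearMap.tensorProductEnd R S P) :=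
  tensorProduct_bijective_of_finite_projective R S P P

theorem isAzumaya_end : IsAzumaya R (Module.End R P) := by
  have := finite_linearMap R P P
  have := projective_linearMap R P P
  apply isAzumaya_of_fibres
  intro m hm
  let _ : Field (R ⧸ m) := Ideal.Quotient.field m
  refine ⟨R ⧸ m, inferInstance, inferInstance, Ideal.mk_ker, ?_⟩
  have hfaith : FaithfulSMul (R ⧸ m) ((R ⧸ m) ⊗[R] P) := faithfulSMul_baseChange R (R ⧸ m) P
  have hnt : Nontrivial ((R ⧸ m) ⊗[R] P) := by
    by_contra hnt
    rw [not_nontrivial_iff_subsingleton] at hnt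
    have : (1 : R ⧸ m) = 0 :=
      FaithfulSMul.eq_of_smul_eq_smul (α := (R ⧸ m) ⊗[R] P) fun b => Subsingleton.elim _ _
    exact one_ne_zero this
  have h1 := isAzumaya_end_of_field (R ⧸ m) ((R ⧸ m) ⊗[R] P)
  exact IsAzumaya.of_AlgEquiv (R ⧸ m) (Module.End (R ⧸ m) ((R ⧸ m) ⊗[R] P))
    ((R ⧸ m) ⊗[R] Module.End R P)
    (AlgEquiv.ofBijective (LinearMap.tensorProductEnd R (R ⧸ m) P)
      (tensorProductEnd_bijective R P (R ⧸ m))).symm

end endo
end Groth.Agent.Lib.Azumaya16
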