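import Mathlib
import Groth.Agent.Lib.AzInvOrdinary16b
import Groth.Agent.Lib.FiniteEtaleLift
import Groth.Agent.Lib.Azumaya16Constr
import Groth.Agent.Lib.RInvIntegral88

/-!
# Tools for the classification of types by signs (helper16), part a

* `gpx`, `etale_gpx`, `faithfullyFlat_gpx`, `exists_sqrt_cover_of_two`: when `2` is invertible,
  units have square roots étale-locally.
* `isAzumayaDeg_matrix`: `M_m(A)` is Azumaya of degree `m * n`.
* `StdFormI.reindex`, `exists_stdForm_matrix`: `M_m(A)` has a standard form with the same sign.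
* `lamT_sub_mem_map`, `map_includeRight_ne_top`, `forall_mem_jacobson_of_ramified`,
  `comap_maximalIdeal_eq_of_ramified`: the strict henselization at (the image of) a ramified prime
  `q` of `R` is ramified, and its closed point lies over `q`.
-/

set_option autoImplicit false
set_option linter.style.haveILetI false
set_option linter.unusedSectionVars false
set_option linter.unusedSimpArgs false

namespace Groth.Agent.Lib.ShDescent16
open TensorProduct AzInv Polynomial Groth.Agent.Lib.FiniteEtaleLift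

section sqrt
universe v
variable (T : Type v) [CommRing T] (x : Tˣ)

/-- the polynomial `X² - x` -/
noncomputable def gpx : T[X] := X ^ 2 - C (x : T)

theorem gpx_monic [Nontrivial T] : (gpx T x).Monic := by
  unfold gpx
  monicity!

theorem natDegree_gpx [Nontrivial T] : (gpx T x).natDegree = 2 := by
  unfold gpx
  compute_degree!

theorem root_mul_root_gpx :
    (AdjoinRoot.root (gpx T x) : AdjoinRoot (gpx T x)) * AdjoinRoot.root (gpx T x) =
      algebraMap T (AdjoinRoot (gpx T x)) (x : T) := by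
  have h := AdjoinRoot.eval₂_root (gpx T x)
  unfold gpx at h
  simp only [eval₂_sub, eval₂_pow, eval₂_X, eval₂_C] at h
  unfold gpx
  rw [AdjoinRoot.algebraMap_eq]
  linear_combination h

theorem faithfullyFlat_gpx [Nontrivial T] : Module.FaithfullyFlat T (AdjoinRoot (gpx T x)) := by
  let pb := AdjoinRoot.powerBasis' (gpx_monic T x)
  haveI : Nonempty (Fin pb.dim) := by
    have : pb.dim = 2 := by
      simp only [pb, AdjoinRoot.powerBasis'_dim]; exact natDegree_gpx T x
    rw [this]; infer_instance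
  exact Module.FaithfullyFlat.of_linearEquiv _ _ pb.basis.repr

theorem etale_gpx [Nontrivial T] (h2 : IsUnit (2 : T)) :
    Algebra.Etale T (AdjoinRoot (gpx T x)) := by
  obtain ⟨u, hu⟩ := h2
  let P := pairOfMonic (gpx T x) (gpx_monic T x)
  have hd : derivative (gpx T x) = C (2 : T) * X := by
    unfold gpx
    simp only [derivative_sub, derivative_X_pow, derivative_C, sub_zero, Nat.cast_ofNat,
      Nat.add_one_sub_one, pow_one]
  have hunit : IsUnit (AdjoinRoot.mk P.f P.g) := by
    change IsUnit (AdjoinRoot.mk (gpx T x) (derivative (gpx T x)))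
    rw [hd]
    refine IsUnit.of_mul_eq_one
      (AdjoinRoot.mk (gpx T x) (C (((u⁻¹ : Tˣ) : T) * ((x⁻¹ : Tˣ) : T)) * X)) ?_
    rw [← map_mul]
    have e : C (2 : T) * X * (C (((u⁻¹ : Tˣ) : T) * ((x⁻¹ : Tˣ) : T)) * X) =
        1 + C (((x⁻¹ : Tˣ) : T)) * gpx T x := by
      have h1 : (2 : T) * ((u⁻¹ : Tˣ) : T) = 1 := by rw [← hu]; exact u.mul_inv
      have h1' : C (2 : T) * C (((u⁻¹ : Tˣ) : T)) = 1 := by rw [← C_mul, h1, C_1]
      have h2' : C (((x⁻¹ : Tˣ) : T)) * C (x : T) = 1 := by
        rw [← C_mul, Units.inv_mul, C_1]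
      unfold gpx
      rw [C_mul]
      linear_combination ((X : T[X]) ^ 2 * C (((x⁻¹ : Tˣ) : T))) * h1' + h2'
    rw [e, map_add, map_one, map_mul, AdjoinRoot.mk_self, mul_zero, add_zero]
  exact Algebra.Etale.of_equiv (equivAdjoinRootOfIsUnit P hunit)

end sqrt

section hsq
universe u
variable {S : Type u} [CommRing S]

/-- when `2` is invertible, units have square roots étale-locally -/
theorem exists_sqrt_cover_of_two (h2 : IsUnit (2 : S)) (S₁ : Type u) [CommRing S₁] [Algebra S S₁]
    (x : S₁ˣ) :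
    ∃ (S₂ : Type u) (_ : CommRing S₂) (_ : Algebra S₁ S₂) (_ : Algebra.Etale S₁ S₂)
      (_ : Module.FaithfullyFlat S₁ S₂) (y : S₂), y * y = algebraMap S₁ S₂ ↑x := by
  rcases subsingleton_or_nontrivial S₁ with hs | hn
  · exact ⟨S₁, inferInstance, inferInstance, inferInstance, inferInstance, 0,
      Subsingleton.elim _ _⟩
  · have h2' : IsUnit (2 : S₁) := by
      have := h2.map (algebraMap S S₁)
      rwa [map_ofNat] at this
    exact ⟨AdjoinRoot (gpx S₁ x), inferInstance, inferInstance, etale_gpx S₁ x h2',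
      faithfullyFlat_gpx S₁ x, AdjoinRoot.root (gpx S₁ x), root_mul_root_gpx S₁ x⟩

end hsq

section degmat
universe v w
variable (R : Type v) [CommRing R] (A : Type w) [Ring A] [Algebra R A]

theorem isAzumayaDeg_matrix {n : ℕ} (hA : AzInv.IsAzumayaDeg R A n) {m : ℕ} (hm : 0 < m) :
    AzInv.IsAzumayaDeg R (Matrix (Fin m) (Fin m) A) (m * n) := by
  haveI := hA.1
  haveI : NeZero m := ⟨hm.ne'⟩
  haveI : IsAzumaya R (Matrix (Fin m) (Fin m) R) := IsAzumaya.matrix R (Fin m)
  haveI : IsAzumaya R (A ⊗[R] Matrix (Fin m) (Fin m) R) :=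
    Groth.Agent.Lib.Azumaya16.isAzumaya_tensorProduct R A _
  haveI : Module.Finite R A := IsAzumaya.toFinite
  haveI : Module.Projective R A := IsAzumaya.toProjective
  refine ⟨IsAzumaya.of_AlgEquiv R _ _ (matrixEquivTensor (Fin m) R A).symm, fun p => ?_⟩
  haveI : Nontrivial R := p.nontrivial
  rw [Module.rankAtStalk_eq_of_equiv (matrixEquivTensor (Fin m) R A).toLinearEquiv,
    Module.rankAtStalk_tensorProduct, Pi.mul_apply, hA.2 p,
    Module.rankAtStalk_eq_finrank_of_free]
  simp [Module.finrank_matrix]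
  ring

end degmat
end Groth.Agent.Lib.ShDescent16

namespace Groth.Agent.Lib.ShDescent16
open TensorProduct AzInv Groth.Agent.Lib.RInvHerm

section reindex
universe u v w
variable {S : Type u} {R : Type v} [CommRing S] [CommRing R] [Algebra S R]
  {lam : R ≃ₐ[S] R} (hlam : ∀ r, lam (lam r) = r)
  {A : Type w} [Ring A] [Algebra S A] [Algebra R A] [IsScalarTower S R A]
  {t : AzInv.LamInv R A lam}
  {T : Type*} [CommRing T] [Algebra S T]
  {I J : Type*} [Fintype I] [DecidableEq I] [Fintype J] [DecidableEq J]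

theorem StdFormI.reindex (e : I ≃ J) {u ui : Matrix I I (T ⊗[S] R)} (h : StdFormI t T I u ui) :
    StdFormI t T J (Matrix.reindex e e u) (Matrix.reindex e e ui) := by
  obtain ⟨F, hF1, hF2⟩ := h
  refine ⟨F.trans (Matrix.reindexAlgEquiv T (T ⊗[S] R) e), fun r x => ?_, fun x => ?_⟩
  · rw [AlgEquiv.trans_apply, AlgEquiv.trans_apply, hF1, Matrix.coe_reindexAlgEquiv]
    ext i j
    rfl
  · rw [AlgEquiv.trans_apply, AlgEquiv.trans_apply, hF2, Matrix.coe_reindexAlgEquiv]
    simp only [Matrix.reindex_apply, st_submatrix, Matrix.submatrix_mul_equiv]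

/-- the matrix algebra `M_m(A)` has a standard form with the same sign -/
theorem exists_stdForm_matrix {n : ℕ}
    {u : (Matrix (Fin n) (Fin n) (T ⊗[S] R))ˣ} {ε : T ⊗[S] R}
    {hu : trK hlam T n (↑u : Matrix (Fin n) (Fin n) (T ⊗[S] R)) =
      ε • (↑u : Matrix (Fin n) (Fin n) (T ⊗[S] R))}
    {he : lamT T lam ε * ε = 1}
    (h : StdForm t T ((trK hlam T n).conj u ε hu he)) (m : ℕ) (N : ℕ) (hN : m * n = N) :
    ∃ (U : (Matrix (Fin N) (Fin N) (T ⊗[S] R))ˣ)
      (hU : trK hlam T N (↑U : Matrix (Fin N) (Fin N) (T ⊗[S] R)) =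
        ε • (↑U : Matrix (Fin N) (Fin N) (T ⊗[S] R))),
      StdForm (t.matrix (Fin m)) T ((trK hlam T N).conj U ε hU he) := by
  subst hN
  have hI := ((h.toI hlam).matrix (Fin m)).reindex (finProdFinEquiv : Fin m × Fin n ≃ Fin (m * n))
  set U₀ := Matrix.comp (Fin m) (Fin m) (Fin n) (Fin n) (T ⊗[S] R)
    (Matrix.diagonal fun _ => (↑u : Matrix (Fin n) (Fin n) (T ⊗[S] R))) with hU₀
  set Ui₀ := Matrix.comp (Fin m) (Fin m) (Fin n) (Fin n) (T ⊗[S] R)
    (Matrix.diagonal fun _ => (↑u⁻¹ : Matrix (Fin n) (Fin n) (T ⊗[S] R))) with hUi₀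
  have h1 : U₀ * Ui₀ = 1 := comp_diagonal_mul _ _ u.mul_inv
  have h2 : Ui₀ * U₀ = 1 := comp_diagonal_mul _ _ u.inv_mul
  have hu1 : st (lamT T lam).toRingEquiv (↑u : Matrix (Fin n) (Fin n) (T ⊗[S] R)) =
      ε • (↑u : Matrix (Fin n) (Fin n) (T ⊗[S] R)) := hu
  have h3 : st (lamT T lam).toRingEquiv U₀ = ε • U₀ := st_comp_diagonal _ _ _ hu1
  let U : (Matrix (Fin (m * n)) (Fin (m * n)) (T ⊗[S] R))ˣ :=
    { val := Matrix.reindex finProdFinEquiv finProdFinEquiv U₀
      inv := Matrix.reindex finProdFinEquiv finProdFinEquiv Ui₀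
      val_inv := by
        rw [Matrix.reindex_apply, Matrix.reindex_apply, Matrix.submatrix_mul_equiv, h1,
          Matrix.submatrix_one_equiv]
      inv_val := by
        rw [Matrix.reindex_apply, Matrix.reindex_apply, Matrix.submatrix_mul_equiv, h2,
          Matrix.submatrix_one_equiv] }
  have hU : trK hlam T (m * n) (↑U : Matrix (Fin (m * n)) (Fin (m * n)) (T ⊗[S] R)) =
      ε • (↑U : Matrix (Fin (m * n)) (Fin (m * n)) (T ⊗[S] R)) := by
    change st (lamT T lam).toRingEquiv (Matrix.reindex finProdFinEquiv finProdFinEquiv U₀) =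
      ε • Matrix.reindex finProdFinEquiv finProdFinEquiv U₀
    rw [Matrix.reindex_apply, st_submatrix, h3]
    ext i j
    rfl
  exact ⟨U, hU, StdForm.ofI hlam hU he hI⟩

end reindex
end Groth.Agent.Lib.ShDescent16

namespace Groth.Agent.Lib.ShDescent16
open TensorProduct AzInv Groth.Agent.Lib.RInvHerm

section ramprime
universe u v
variable {S : Type u} {R : Type v} [CommRing S] [CommRing R] [Algebra S R]
  {lam : R ≃ₐ[S] R} (hlam : ∀ r, lam (lam r) = r)
  (q : Ideal R) [q.IsPrime]
  (T : Type*) [CommRing T] [IsLocalRing T] [Algebra S T] [Module.Flat S T]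

/-- `lam_T a - a` lies in the extension of a ramified prime -/
theorem lamT_sub_mem_map (hq : ∀ r : R, lam r - r ∈ q) (a : T ⊗[S] R) :
    lamT T lam a - a ∈
      Ideal.map (Algebra.TensorProduct.includeRight : R →ₐ[S] T ⊗[S] R).toRingHom q := by
  induction a using TensorProduct.induction_on with
  | zero => simp
  | add x y hx hy =>
    have : lamT T lam (x + y) - (x + y) = (lamT T lam x - x) + (lamT T lam y - y) := by
      rw [map_add]; ring
    rw [this]
    exact Ideal.add_mem _ hx hy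
  | tmul s r =>
    have : lamT T lam (s ⊗ₜ[S] r) - s ⊗ₜ[S] r =
        (s ⊗ₜ[S] (1 : R)) * ((1 : T) ⊗ₜ[S] (lam r - r)) := by
      rw [lamT_tmul, Algebra.TensorProduct.tmul_mul_tmul, mul_one, one_mul, TensorProduct.tmul_sub]
    rw [this]
    exact Ideal.mul_mem_left _ _ (Ideal.mem_map_of_mem _ (hq r))

/-- the extension of a prime `q` to `T ⊗ R` is proper when the closed point of `T` lies over
`q ∩ S` -/
theorem map_includeRight_ne_top
    (hpT : (IsLocalRing.maximalIdeal T).comap (algebraMap S T) = q.comap (algebraMap S R)) :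
    Ideal.map (Algebra.TensorProduct.includeRight : R →ₐ[S] T ⊗[S] R).toRingHom q ≠ ⊤ := by
  let P : PrimeSpectrum S := ⟨q.comap (algebraMap S R), inferInstance⟩
  have h1 : P ∈ Set.range (PrimeSpectrum.comap (algebraMap S T)) :=
    ⟨IsLocalRing.closedPoint T, PrimeSpectrum.ext hpT⟩
  have h2 : P ∈ Set.range (PrimeSpectrum.comap (algebraMap S (R ⧸ q))) := by
    refine ⟨⟨⊥, Ideal.isPrime_bot⟩, PrimeSpectrum.ext ?_⟩
    change Ideal.comap (algebraMap S (R ⧸ q)) ⊥ = q.comap (algebraMap S R)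
    ext s
    simp only [Ideal.mem_comap, Ideal.mem_bot]
    rw [IsScalarTower.algebraMap_apply S R (R ⧸ q), Ideal.Quotient.algebraMap_eq,
      Ideal.Quotient.eq_zero_iff_mem]
  haveI := Groth.Agent.Lib.AzInvDisjoint16.nontrivial_tensor_of_mem_range T (R ⧸ q) P h1 h2
  let φ : T ⊗[S] R →ₐ[S] T ⊗[S] (R ⧸ q) :=
    Algebra.TensorProduct.map (AlgHom.id S T) (Ideal.Quotient.mkₐ S q)
  intro htop
  have hle : Ideal.map (Algebra.TensorProduct.includeRight : R →ₐ[S] T ⊗[S] R).toRingHom q ≤
      RingHom.ker (φ : T ⊗[S] R →+* T ⊗[S] (R ⧸ q)) := by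
    rw [Ideal.map_le_iff_le_comap]
    intro r hr
    change φ ((1 : T) ⊗ₜ[S] r) = 0
    rw [Algebra.TensorProduct.map_tmul, Ideal.Quotient.mkₐ_eq_mk,
      Ideal.Quotient.eq_zero_iff_mem.2 hr, TensorProduct.tmul_zero]
  rw [htop] at hle
  have : (1 : T ⊗[S] R) ∈ RingHom.ker (φ : T ⊗[S] R →+* T ⊗[S] (R ⧸ q)) := hle trivial
  rw [RingHom.mem_ker, map_one] at this
  exact one_ne_zero this

include hlam in
/-- at a ramified prime the strict henselization is ramified -/
theorem forall_mem_jacobson_of_ramified (hfix : RInv.IsFixedRing S R lam.toRingEquiv)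
    (hq : ∀ r : R, lam r - r ∈ q)
    (hpT : (IsLocalRing.maximalIdeal T).comap (algebraMap S T) = q.comap (algebraMap S R)) :
    ∀ a : T ⊗[S] R, (lamT T lam).toRingEquiv a - a ∈ Ring.jacobson (T ⊗[S] R) := by
  by_contra hcon
  push Not at hcon
  obtain ⟨a, ha⟩ := hcon
  have hu : IsUnit (a - (lamT T lam).toRingEquiv a) :=
    Groth.Agent.Lib.RInv88.isUnit_sub_of_notMem_jacobson (lamT T lam).toRingEquiv
      (lamT_involutive T lam hlam) (isFixedRing_baseChange T lam hfix) a ha
  apply map_includeRight_ne_top q T hpT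
  refine Ideal.eq_top_of_isUnit_mem _ ?_ hu
  have := lamT_sub_mem_map q T hq a
  have h2 := Ideal.neg_mem_iff _ |>.2 this
  rwa [neg_sub] at h2

include hlam in
/-- the closed point of `T ⊗ R` lies over the ramified prime `q` -/
theorem comap_maximalIdeal_eq_of_ramified (hfix : RInv.IsFixedRing S R lam.toRingEquiv)
    (hpT : (IsLocalRing.maximalIdeal T).comap (algebraMap S T) = q.comap (algebraMap S R))
    [IsLocalRing (T ⊗[S] R)] :
    (IsLocalRing.maximalIdeal (T ⊗[S] R)).comap
      (Algebra.TensorProduct.includeRight : R →ₐ[S] T ⊗[S] R).toRingHom = q := by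
  have hB := isFixedRing_baseChange T lam hfix
  set q₀ := (IsLocalRing.maximalIdeal (T ⊗[S] R)).comap
    (Algebra.TensorProduct.includeRight : R →ₐ[S] T ⊗[S] R).toRingHom with hq₀
  have hle : q ≤ q₀ := by
    rw [hq₀, ← Ideal.map_le_iff_le_comap]
    exact IsLocalRing.le_maximalIdeal (map_includeRight_ne_top q T hpT)
  -- `T → T ⊗ R` is local
  have hT : (IsLocalRing.maximalIdeal (T ⊗[S] R)).comap (algebraMap T (T ⊗[S] R)) =
      IsLocalRing.maximalIdeal T := by
    ext b
    rw [Ideal.mem_comap, IsLocalRing.mem_maximalIdeal, IsLocalRing.mem_maximalIdeal,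
      mem_nonunits_iff, mem_nonunits_iff,
      Groth.Agent.Lib.RInv88.isUnit_algebraMap_iff (lamT T lam).toRingEquiv hB]
  have hcomap : q₀.comap (algebraMap S R) = q.comap (algebraMap S R) := by
    rw [hq₀, Ideal.comap_comap, ← hpT, ← hT, Ideal.comap_comap]
    congr 1
    ext s
    simp only [RingHom.comp_apply, AlgHom.toRingHom_eq_coe, RingHom.coe_coe,
      Algebra.TensorProduct.includeRight_apply, Algebra.TensorProduct.algebraMap_apply,
      Algebra.algebraMap_self_apply]
    rw [Algebra.algebraMap_eq_smul_one, Algebra.algebraMap_eq_smul_one (A := T),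
      TensorProduct.smul_tmul]
  by_contra hne
  have hlt : q < q₀ := lt_of_le_of_ne hle (fun h => hne h.symm)
  obtain ⟨x, hx₀, hxq⟩ := Set.exists_of_ssubset hlt
  have hint : IsIntegral S x :=
    Groth.Agent.Lib.RInvIntegral88.isIntegral lam.toRingEquiv hlam hfix x
  have := Ideal.comap_lt_comap_of_integral_mem_sdiff hle ⟨hx₀, hxq⟩ hint
  rw [hcomap] at this
  exact lt_irrefl _ this

end ramprime
end Groth.Agent.Lib.ShDescent16
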