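import Mathlib
import Groth.Agent.Lib.AzInvSymCrit16a
import Groth.Agent.Lib.AzInvSign16

/-!
# Classification of types by orthogonal/symplectic signs (helper16), part b

* `symSub k n e = {Y | Yᵀ = e • Y}`, `finrank_symSub_one` (`= (n+1).choose 2`),
  `finrank_symSub_eq_iff`.
* `exists_smul_mem_span`, `Wp`, `Wm`, `sup_eq_top`, `disjoint_Wp_Wm`, `finrank_fibre_eq`.
* `finrank_Wp_eq` (dimension of the symmetric part of a fibre from a matrix model),
  **`finrank_Wp_eq_choose_iff`** (orthogonal at `q` ⟺ hermitian sign over the strict henselization).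
* `exists_sign_of_isoOverG_gen`, **`sameType_iff`** (statement S17361).
-/

set_option autoImplicit false
set_option linter.style.haveILetI false
set_option linter.unusedSectionVars false
set_option linter.unusedSimpArgs false

namespace Groth.Agent.Lib.ShDescent16
open TensorProduct AzInv

section symm
variable (k : Type*) [Field k] (n : ℕ)

/-- the subspace `{Y | Yᵀ = e • Y}` of `M_n(k)` -/
def symSub (e : k) : Submodule k (Matrix (Fin n) (Fin n) k) where
  carrier := {Y | Y.transpose = e • Y}
  add_mem' := by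
    intro a b ha hb
    simp only [Set.mem_ofPred_eq] at *
    rw [Matrix.transpose_add, ha, hb, smul_add]
  zero_mem' := by simp
  smul_mem' := by
    intro c a ha
    simp only [Set.mem_ofPred_eq] at *
    rw [Matrix.transpose_smul, ha, smul_comm]

variable {k n}

theorem mem_symSub {e : k} {Y : Matrix (Fin n) (Fin n) k} :
    Y ∈ symSub k n e ↔ Y.transpose = e • Y := Iff.rfl

variable (k n)

/-- symmetric matrices are determined by their upper triangular part -/
noncomputable def symSubEquiv :
    symSub k n 1 ≃ₗ[k] ({p : Fin n × Fin n // p.1 ≤ p.2} → k) where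
  toFun Y := fun p => (Y : Matrix (Fin n) (Fin n) k) p.1.1 p.1.2
  map_add' Y Z := by funext p; rfl
  map_smul' c Y := by funext p; rfl
  invFun f := ⟨Matrix.of fun i j => if h : i ≤ j then f ⟨(i, j), h⟩ else f ⟨(j, i), le_of_not_ge h⟩,
    by
      rw [mem_symSub, one_smul]
      ext i j
      rw [Matrix.transpose_apply, Matrix.of_apply, Matrix.of_apply]
      rcases lt_trichotomy i j with h | h | h
      · rw [dif_neg (not_le.2 h), dif_pos h.le]
      · subst h; rfl
      · rw [dif_pos h.le, dif_neg (not_le.2 h)]⟩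
  left_inv Y := by
    apply Subtype.ext
    ext i j
    have hY : (Y : Matrix (Fin n) (Fin n) k).transpose = (Y : Matrix (Fin n) (Fin n) k) := by
      have := Y.2
      rwa [mem_symSub, one_smul] at this
    simp only [Matrix.of_apply]
    split_ifs with h
    · rfl
    · have := congrFun (congrFun hY i) j
      rw [Matrix.transpose_apply] at this
      exact this
  right_inv f := by
    funext p
    simp only [Matrix.of_apply]
    rw [dif_pos p.2]

theorem finrank_symSub_one : Module.finrank k (symSub k n 1) = Nat.choose (n + 1) 2 := by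
  rw [(symSubEquiv k n).finrank_eq, Module.finrank_fintype_fun_eq_card,
    ← Fintype.card_congr (Sym2.sortEquiv (α := Fin n)), Sym2.card, Fintype.card_fin]

theorem two_mul_choose (n : ℕ) : 2 * Nat.choose (n + 1) 2 = n * n + n := by
  induction n with
  | zero => rfl
  | succ m ih =>
    rw [Nat.choose_succ_succ, Nat.choose_one_right, mul_add, ih]
    ring

variable {k n}

theorem disjoint_symSub (h2 : (2 : k) ≠ 0) {e : k} (he : e * e = 1) :
    Disjoint (symSub k n e) (symSub k n (-e)) := by
  rw [Submodule.disjoint_def]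
  intro Y h1 h2'
  rw [mem_symSub] at h1 h2'
  have h3 : ((2 : k) * e) • Y = 0 := by
    have : e • Y = (-e) • Y := h1.symm.trans h2'
    rw [mul_smul, two_smul]
    rw [neg_smul] at this
    nth_rewrite 1 [this]
    rw [neg_add_cancel]
  have he0 : e ≠ 0 := by
    rintro rfl
    rw [mul_zero] at he
    exact zero_ne_one he
  exact (smul_eq_zero.1 h3).resolve_left (mul_ne_zero h2 he0)

theorem finrank_symSub_neg_one (h2 : (2 : k) ≠ 0) :
    Module.finrank k (symSub k n (-1)) + Nat.choose (n + 1) 2 = n * n := by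
  have hdisj : Disjoint (symSub k n 1) (symSub k n (-1)) := disjoint_symSub h2 (one_mul 1)
  have hsup : symSub k n 1 ⊔ symSub k n (-1) = ⊤ := by
    rw [eq_top_iff]
    intro Y _
    have hY : Y = (2 : k)⁻¹ • (Y + Y.transpose) + (2 : k)⁻¹ • (Y - Y.transpose) := by
      rw [← smul_add, add_add_sub_cancel, ← two_smul k Y, smul_smul, inv_mul_cancel₀ h2, one_smul]
    rw [hY]
    refine Submodule.add_mem _ (Submodule.mem_sup_left ?_) (Submodule.mem_sup_right ?_)
    · apply Submodule.smul_mem
      rw [mem_symSub, one_smul, Matrix.transpose_add, Matrix.transpose_transpose, add_comm]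
    · apply Submodule.smul_mem
      rw [mem_symSub, Matrix.transpose_sub, Matrix.transpose_transpose, neg_smul, one_smul,
        neg_sub]
  have h := Submodule.finrank_sup_add_finrank_inf_eq (symSub k n 1) (symSub k n (-1))
  rw [hdisj.eq_bot, finrank_bot, add_zero, hsup, finrank_top, finrank_symSub_one,
    Module.finrank_matrix] at h
  simp only [Fintype.card_fin, Module.finrank_self, mul_one] at h
  omega

/-- the sign can be read off from the dimension of `symSub` -/
theorem finrank_symSub_eq_iff (hn : 0 < n) (h2 : (2 : k) ≠ 0) {e : k} (he : e * e = 1) :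
    Module.finrank k (symSub k n e) = Nat.choose (n + 1) 2 ↔ e = 1 := by
  have hcases : e = 1 ∨ e = -1 := by
    have : (e - 1) * (e + 1) = 0 := by ring_nf; rw [sq, he]; ring
    rcases mul_eq_zero.1 this with h | h
    · left; exact sub_eq_zero.1 h
    · right; exact eq_neg_of_add_eq_zero_left h
  rcases hcases with rfl | rfl
  · simp [finrank_symSub_one]
  · constructor
    · intro h
      exfalso
      have h1 := finrank_symSub_neg_one (n := n) h2
      have h3 := two_mul_choose n
      rw [h] at h1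
      omega
    · intro h
      exfalso
      have : (2 : k) = 0 := by
        have h' : (1 : k) + 1 = 0 := by
          nth_rewrite 1 [← h]
          rw [neg_add_cancel]
        rw [← one_add_one_eq_two, h']
      exact h2 this

end symm
end Groth.Agent.Lib.ShDescent16

namespace Groth.Agent.Lib.ShDescent16
open TensorProduct AzInv

section spread
universe v w
variable {R : Type v} [CommRing R] {M : Type w} [AddCommGroup M] [Module R M] [Module.Finite R M]

/-- If the images of a family `x` span the fibre of the finite module `M` at `q`, then some `f ∉ q`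
multiplies `M` into the span of `x`. -/
theorem exists_smul_mem_span {ι : Type*} (x : ι → M) (q : PrimeSpectrum R)
    (h : Submodule.span q.asIdeal.ResidueField
      (Set.range fun i => ((1 : q.asIdeal.ResidueField) ⊗ₜ[R] x i :
        q.asIdeal.ResidueField ⊗[R] M)) = ⊤) :
    ∃ f : R, f ∉ q.asIdeal ∧ ∀ a : M, f • a ∈ Submodule.span R (Set.range x) := by
  classical
  set N' : Submodule R M := Submodule.span R (Set.range x) with hN'
  have hsub : Subsingleton (q.asIdeal.ResidueField ⊗[R] (M ⧸ N')) := by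
    let π := (N'.mkQ).baseChange q.asIdeal.ResidueField
    have hπ : ∀ y, π y = 0 := by
      intro y
      have hy : y ∈ Submodule.span q.asIdeal.ResidueField
          (Set.range fun i => ((1 : q.asIdeal.ResidueField) ⊗ₜ[R] x i :
            q.asIdeal.ResidueField ⊗[R] M)) := by
        rw [h]; trivial
      induction hy using Submodule.span_induction with
      | mem y hy =>
        obtain ⟨i, rfl⟩ := hy
        simp only [π, LinearMap.baseChange_tmul, Submodule.mkQ_apply]
        rw [(Submodule.Quotient.mk_eq_zero N').2 (Submodule.subset_span ⟨i, rfl⟩), tmul_zero]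
      | zero => simp
      | add a b _ _ ha hb => rw [map_add, ha, hb, add_zero]
      | smul c a _ ha => rw [map_smul, ha, smul_zero]
    refine ⟨fun a b => ?_⟩
    have h0 : ∀ z : q.asIdeal.ResidueField ⊗[R] (M ⧸ N'), z = 0 := by
      intro z
      induction z using TensorProduct.induction_on with
      | zero => rfl
      | add a b ha hb => rw [ha, hb, add_zero]
      | tmul c m =>
        obtain ⟨m, rfl⟩ := Submodule.Quotient.mk_surjective N' m
        have := hπ (c ⊗ₜ[R] m)
        simpa [π] using this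
    rw [h0 a, h0 b]
  have hq : q ∉ Module.support R (M ⧸ N') := by
    rw [Module.mem_support_iff_nontrivial_residueField_tensorProduct]
    exact not_nontrivial _
  rw [Module.support_eq_zeroLocus, PrimeSpectrum.mem_zeroLocus, Set.not_subset] at hq
  obtain ⟨f, hfann, hfq⟩ := hq
  refine ⟨f, hfq, fun a => ?_⟩
  have := (Module.mem_annihilator.1 hfann) (N'.mkQ a)
  rw [← map_smul, Submodule.mkQ_apply, Submodule.Quotient.mk_eq_zero] at this
  exact this

end spread

section fibre
universe u v w
variable {S : Type u} {R : Type v} [CommRing S] [CommRing R] [Algebra S R]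
    {lam : R ≃ₐ[S] R}
    {A : Type w} [Ring A] [Algebra S A] [Algebra R A] [IsScalarTower S R A]

/-- span of the images of the symmetric elements in the fibre at `p`. -/
noncomputable def Wp (t : AzInv.LamInv R A lam) (p : PrimeSpectrum R) :
    Submodule p.asIdeal.ResidueField (p.asIdeal.ResidueField ⊗[R] A) :=
  Submodule.span p.asIdeal.ResidueField
    (Set.range fun a : {a : A // t a = a} => (1 : p.asIdeal.ResidueField) ⊗ₜ[R] (a : A))

/-- span of the images of the skew-symmetric elements in the fibre at `p`. -/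
noncomputable def Wm (t : AzInv.LamInv R A lam) (p : PrimeSpectrum R) :
    Submodule p.asIdeal.ResidueField (p.asIdeal.ResidueField ⊗[R] A) :=
  Submodule.span p.asIdeal.ResidueField
    (Set.range fun a : {a : A // t a = -a} => (1 : p.asIdeal.ResidueField) ⊗ₜ[R] (a : A))

theorem sup_eq_top (h2 : IsUnit (2 : S)) (t : AzInv.LamInv R A lam) (p : PrimeSpectrum R) :
    Wp t p ⊔ Wm t p = ⊤ := by
  obtain ⟨c, hc⟩ := h2.exists_right_inv
  have htS : ∀ (s : S) (a : A), t (s • a) = s • t a := fun s a => (t.linS S lam).map_smul s a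
  rw [eq_top_iff]
  rintro z -
  induction z using TensorProduct.induction_on with
  | zero => exact Submodule.zero_mem _
  | add a b ha hb => exact Submodule.add_mem _ ha hb
  | tmul k a =>
    have hsym : t (c • (a + t a)) = c • (a + t a) := by
      rw [htS, t.map_add, t.invol, add_comm]
    have hskew : t (c • (a - t a)) = -(c • (a - t a)) := by
      rw [htS, t.map_sub, t.invol, ← smul_neg, neg_sub]
    have hsum : a = c • (a + t a) + c • (a - t a) := by
      rw [← smul_add, add_add_sub_cancel, ← two_smul S a, smul_smul, mul_comm, hc, one_smul]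
    have h1 : (k ⊗ₜ[R] a : p.asIdeal.ResidueField ⊗[R] A) =
        k • ((1 : p.asIdeal.ResidueField) ⊗ₜ[R] (c • (a + t a))) +
          k • ((1 : p.asIdeal.ResidueField) ⊗ₜ[R] (c • (a - t a))) := by
      rw [← smul_add, ← TensorProduct.tmul_add, ← hsum, TensorProduct.smul_tmul', smul_eq_mul,
        mul_one]
    rw [h1]
    refine Submodule.add_mem _ (Submodule.mem_sup_left ?_) (Submodule.mem_sup_right ?_)
    · exact Submodule.smul_mem _ _ (Submodule.subset_span ⟨⟨_, hsym⟩, rfl⟩)
    · exact Submodule.smul_mem _ _ (Submodule.subset_span ⟨⟨_, hskew⟩, rfl⟩)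

omit [Algebra S A] [IsScalarTower S R A] in
theorem disjoint_Wp_Wm (h2 : IsUnit (2 : S)) (t : AzInv.LamInv R A lam) (p : PrimeSpectrum R)
    (hp : ∀ r : R, lam r - r ∈ p.asIdeal) : Disjoint (Wp t p) (Wm t p) := by
  set κ := p.asIdeal.ResidueField
  let g : A →ₗ[R] κ ⊗[R] A :=
    { toFun := fun a => (1 : κ) ⊗ₜ[R] t a
      map_add' := fun a b => by rw [t.map_add, TensorProduct.tmul_add]
      map_smul' := fun r a => by
        rw [RingHom.id_apply, t.map_smul, ← TensorProduct.smul_tmul, TensorProduct.smul_tmul']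
        congr 1
        rw [Algebra.smul_def, Algebra.smul_def, mul_one, mul_one]
        have h0 : algebraMap R κ (lam r - r) = 0 := by
          have : lam r - r ∈ RingHom.ker (algebraMap R κ) := by
            rw [Ideal.ker_algebraMap_residueField]; exact hp r
          exact this
        rw [map_sub, sub_eq_zero] at h0
        exact h0 }
  let T : κ ⊗[R] A →ₗ[κ] κ ⊗[R] A := LinearMap.liftBaseChange κ g
  have hT : ∀ a : A, T ((1 : κ) ⊗ₜ[R] a) = (1 : κ) ⊗ₜ[R] t a := by
    intro a
    simp [T, g]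
  have hWp : Wp t p ≤ LinearMap.ker (T - LinearMap.id) := by
    apply Submodule.span_le.2
    rintro _ ⟨a, rfl⟩
    simp only [SetLike.mem_coe, LinearMap.mem_ker, LinearMap.sub_apply, LinearMap.id_apply]
    rw [hT, a.2, sub_self]
  have hWm : Wm t p ≤ LinearMap.ker (T + LinearMap.id) := by
    apply Submodule.span_le.2
    rintro _ ⟨a, rfl⟩
    simp only [SetLike.mem_coe, LinearMap.mem_ker, LinearMap.add_apply, LinearMap.id_apply]
    rw [hT, a.2, TensorProduct.tmul_neg, neg_add_cancel]
  have h2κ : (2 : κ) ≠ 0 := by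
    have h1 : IsUnit (algebraMap S κ 2) := h2.map (algebraMap S κ)
    rw [map_ofNat] at h1
    exact h1.ne_zero
  rw [Submodule.disjoint_def]
  intro x hx1 hx2
  have e1 := hWp hx1
  have e2 := hWm hx2
  simp only [LinearMap.mem_ker, LinearMap.sub_apply, LinearMap.add_apply, LinearMap.id_apply]
    at e1 e2
  have h3 : (2 : κ) • x = 0 := by
    rw [two_smul]
    have : x + x = (T x + x) - (T x - x) := by abel
    rw [this, e1, e2, sub_zero]
  exact (smul_eq_zero.1 h3).resolve_left h2κ

theorem finrank_fibre_eq (n : ℕ) (hA : AzInv.IsAzumayaDeg R A n) (p : PrimeSpectrum R) :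
    Module.finrank p.asIdeal.ResidueField (p.asIdeal.ResidueField ⊗[R] A) = n ^ 2 := by
  have := hA.1
  rw [← hA.2 p, Module.rankAtStalk_eq]

end fibre
end Groth.Agent.Lib.ShDescent16

namespace Groth.Agent.Lib.ShDescent16
open TensorProduct AzInv

section lemmaC
universe u v w
variable {S : Type u} {R : Type v} [CommRing S] [CommRing R] [Algebra S R]
    {lam : R ≃ₐ[S] R}
    {A : Type w} [Ring A] [Algebra S A] [Algebra R A] [IsScalarTower S R A]

/-- **Dimension of the symmetric part of the fibre** at a ramified prime, computed from a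
"matrix model" `π : A → M_n(k)` of the fibre over a field `k ⊇ κ(q)` in which the involution is
`X ↦ ū Xᵀ ū⁻¹`, `ūᵀ = e ū`. -/
theorem finrank_Wp_eq (h2 : IsUnit (2 : S)) {n : ℕ} (hA : AzInv.IsAzumayaDeg R A n)
    (t : AzInv.LamInv R A lam) (q : PrimeSpectrum R) (hq : ∀ r : R, lam r - r ∈ q.asIdeal)
    {k : Type*} [Field k] (θ : R →+* k) (hθ : RingHom.ker θ = q.asIdeal)
    (π : A →+* Matrix (Fin n) (Fin n) k) (hπ : ∀ (r : R) (a : A), π (r • a) = θ r • π a)
    (hspan : Submodule.span k (Set.range π) = ⊤)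
    (ū ūi : Matrix (Fin n) (Fin n) k) (h1 : ū * ūi = 1) (h1' : ūi * ū = 1) (e : k)
    (he : ū.transpose = e • ū) (hee : e * e = 1)
    (hπt : ∀ a : A, π (t a) = ū * (π a).transpose * ūi) :
    Module.finrank q.asIdeal.ResidueField (Wp t q) = Module.finrank k (symSub k n e) := by
  classical
  have := hA.1
  have h2k : (2 : k) ≠ 0 := by
    have h1 : IsUnit (θ (algebraMap S R 2)) := (h2.map (algebraMap S R)).map θ
    rw [map_ofNat, map_ofNat] at h1
    exact h1.ne_zero
  have hfinq := finrank_fibre_eq n hA q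
  have hsupq := sup_eq_top h2 t q
  have hdisjq := disjoint_Wp_Wm h2 t q hq
  set κ := q.asIdeal.ResidueField
  obtain ⟨b, hbsub, hbspan, hbli⟩ := exists_linearIndependent κ
    (Set.range fun a : {a : A // t a = a} => ((1 : κ) ⊗ₜ[R] (a : A) : κ ⊗[R] A))
  obtain ⟨b', hb'sub, hb'span, hb'li⟩ := exists_linearIndependent κ
    (Set.range fun a : {a : A // t a = -a} => ((1 : κ) ⊗ₜ[R] (a : A) : κ ⊗[R] A))
  have hbfin : b.Finite := hbli.setFinite
  have hb'fin : b'.Finite := hb'li.setFinite
  letI : Fintype b := hbfin.fintype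
  letI : Fintype b' := hb'fin.fintype
  have hcb : Module.finrank κ (Wp t q) = Fintype.card b := by
    have := finrank_span_set_eq_card hbli
    rw [hbspan] at this
    rw [Set.toFinset_card] at this
    exact this
  have hcb' : Module.finrank κ (Wm t q) = Fintype.card b' := by
    have := finrank_span_set_eq_card hb'li
    rw [hb'span] at this
    rw [Set.toFinset_card] at this
    exact this
  have hcard : Fintype.card b + Fintype.card b' = n ^ 2 := by
    have h := Submodule.finrank_sup_add_finrank_inf_eq (Wp t q) (Wm t q)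
    rw [hdisjq.eq_bot, finrank_bot, add_zero, hsupq, finrank_top, hfinq] at h
    rw [← hcb, ← hcb', h]
  have hα : ∀ y : b, ∃ a : {a : A // t a = a}, ((1 : κ) ⊗ₜ[R] (a : A) : κ ⊗[R] A) = y :=
    fun y => hbsub y.2
  have hα' : ∀ y : b', ∃ a : {a : A // t a = -a}, ((1 : κ) ⊗ₜ[R] (a : A) : κ ⊗[R] A) = y :=
    fun y => hb'sub y.2
  choose α hα using hα
  choose α' hα' using hα'
  let x : b ⊕ b' → A := Sum.elim (fun y => (α y : A)) (fun y => (α' y : A))
  have hxspan : Submodule.span κ (Set.range fun i => ((1 : κ) ⊗ₜ[R] x i : κ ⊗[R] A)) = ⊤ := by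
    have hr : (Set.range fun i => ((1 : κ) ⊗ₜ[R] x i : κ ⊗[R] A)) = b ∪ b' := by
      ext z
      constructor
      · rintro ⟨i | i, rfl⟩
        · left; simp only [x, Sum.elim_inl]; rw [hα]; exact i.2
        · right; simp only [x, Sum.elim_inr]; rw [hα']; exact i.2
      · rintro (hz | hz)
        · exact ⟨Sum.inl ⟨z, hz⟩, by simp only [x, Sum.elim_inl]; rw [hα]⟩
        · exact ⟨Sum.inr ⟨z, hz⟩, by simp only [x, Sum.elim_inr]; rw [hα']⟩
    rw [hr, Submodule.span_union, hbspan, hb'span]
    exact hsupq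
  obtain ⟨f, hfq, hf⟩ := exists_smul_mem_span x q hxspan
  have hθf : θ f ≠ 0 := by
    intro h0
    apply hfq
    rw [← hθ]
    exact h0
  -- the images of the `x i` span `M_n(k)`
  have hspan1 : Submodule.span k (Set.range fun i => π (x i)) = ⊤ := by
    rw [eq_top_iff, ← hspan, Submodule.span_le]
    rintro _ ⟨a, rfl⟩
    have hN : ∀ y ∈ Submodule.span R (Set.range x),
        π y ∈ Submodule.span k (Set.range fun i => π (x i)) := by
      intro y hy
      induction hy using Submodule.span_induction with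
      | mem y hy =>
        obtain ⟨i, rfl⟩ := hy
        exact Submodule.subset_span ⟨i, rfl⟩
      | zero => rw [map_zero]; exact Submodule.zero_mem _
      | add a b _ _ ha hb => rw [map_add]; exact Submodule.add_mem _ ha hb
      | smul c a _ ha => rw [hπ]; exact Submodule.smul_mem _ _ ha
    have h3 := hN _ (hf a)
    rw [hπ] at h3
    have h4 := Submodule.smul_mem _ (θ f)⁻¹ h3
    rwa [smul_smul, inv_mul_cancel₀ hθf, one_smul] at h4
  -- multiply by `ū` on the right
  let ρ : Matrix (Fin n) (Fin n) k ≃ₗ[k] Matrix (Fin n) (Fin n) k :=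
    { toFun := fun X => X * ū
      invFun := fun X => X * ūi
      map_add' := fun X Y => add_mul X Y ū
      map_smul' := fun c X => Matrix.smul_mul c X ū
      left_inv := fun X => by
        change X * ū * ūi = X
        rw [Matrix.mul_assoc, h1, Matrix.mul_one]
      right_inv := fun X => by
        change X * ūi * ū = X
        rw [Matrix.mul_assoc, h1', Matrix.mul_one] }
  have hspan2 : Submodule.span k (Set.range (Sum.elim (fun y : b => π (α y : A) * ū)
      (fun y : b' => π (α' y : A) * ū))) = ⊤ := by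
    have hfun : Set.range (Sum.elim (fun y : b => π (α y : A) * ū)
        (fun y : b' => π (α' y : A) * ū)) = ρ '' (Set.range fun i => π (x i)) := by
      ext Z
      constructor
      · rintro ⟨i | i, rfl⟩
        · exact ⟨_, ⟨Sum.inl i, rfl⟩, rfl⟩
        · exact ⟨_, ⟨Sum.inr i, rfl⟩, rfl⟩
      · rintro ⟨_, ⟨i | i, rfl⟩, rfl⟩
        · exact ⟨Sum.inl i, rfl⟩
        · exact ⟨Sum.inr i, rfl⟩
    have hm := Submodule.map_span
      (ρ : Matrix (Fin n) (Fin n) k →ₗ[k] Matrix (Fin n) (Fin n) k)
      (Set.range fun i => π (x i))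
    rw [hspan1, Submodule.map_top, LinearMap.range_eq_top.2 ρ.surjective] at hm
    rw [hfun]
    exact hm.symm
  have hmem₁ : ∀ y : b, π (α y : A) * ū ∈ symSub k n e := by
    intro y
    rw [mem_symSub, Matrix.transpose_mul, he, Matrix.smul_mul]
    congr 1
    have := hπt (α y : A)
    rw [(α y).2] at this
    calc ū * (π (α y : A)).transpose = (ū * (π (α y : A)).transpose * ūi) * ū := by
          rw [Matrix.mul_assoc _ ūi, h1', Matrix.mul_one]
      _ = π (α y : A) * ū := by rw [← this]
  have hmem₂ : ∀ y : b', π (α' y : A) * ū ∈ symSub k n (-e) := by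
    intro y
    rw [mem_symSub, Matrix.transpose_mul, he, Matrix.smul_mul, neg_smul]
    have := hπt (α' y : A)
    rw [(α' y).2, map_neg] at this
    have h5 : ū * (π (α' y : A)).transpose = -(π (α' y : A) * ū) := by
      calc ū * (π (α' y : A)).transpose = (ū * (π (α' y : A)).transpose * ūi) * ū := by
            rw [Matrix.mul_assoc _ ūi, h1', Matrix.mul_one]
        _ = -(π (α' y : A) * ū) := by rw [← this, Matrix.neg_mul]
    rw [h5, smul_neg]
  have hfinM : Module.finrank k (Matrix (Fin n) (Fin n) k) = n ^ 2 := by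
    simp [Module.finrank_matrix, sq]
  rw [hcb]
  symm
  exact Groth.Agent.Lib.AzInvSign16.finrank_eq_card_of_span (symSub k n e) (symSub k n (-e))
    (disjoint_symSub h2k hee) _ _ hmem₁ hmem₂ hspan2 (by rw [hcard, hfinM])

end lemmaC
end Groth.Agent.Lib.ShDescent16

namespace Groth.Agent.Lib.ShDescent16
open TensorProduct AzInv Groth.Agent.Lib.RInvHerm

section criterion
universe u v w
variable {S : Type u} {R : Type v} [CommRing S] [CommRing R] [Algebra S R]
    {lam : R ≃ₐ[S] R} (hlam : ∀ r, lam (lam r) = r)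
    {A : Type w} [Ring A] [Algebra S A] [Algebra R A] [IsScalarTower S R A]
    {T : Type*} [CommRing T] [Algebra S T]

/-- **The sign criterion**: over a base `T` where `T ⊗ R` is local and ramified with closed point
over the prime `q` of `R`, the involution `t` is orthogonal at `q` (in the sense of dimensions of
symmetric elements) iff its standard form over `T` has hermitian sign. -/
theorem finrank_Wp_eq_choose_iff [IsLocalRing (T ⊗[S] R)] (h2 : IsUnit (2 : S))
    {n : ℕ} (hn : 0 < n) (hA : AzInv.IsAzumayaDeg R A n) (t : AzInv.LamInv R A lam)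
    (hid : ∀ a : T ⊗[S] R, (lamT T lam).toRingEquiv a - a ∈ Ring.jacobson (T ⊗[S] R))
    (q : PrimeSpectrum R)
    (hqK : (IsLocalRing.maximalIdeal (T ⊗[S] R)).comap
      (Algebra.TensorProduct.includeRight : R →ₐ[S] T ⊗[S] R).toRingHom = q.asIdeal)
    {u : (Matrix (Fin n) (Fin n) (T ⊗[S] R))ˣ} {ε : T ⊗[S] R}
    {hu : trK hlam T n (↑u : Matrix (Fin n) (Fin n) (T ⊗[S] R)) =
      ε • (↑u : Matrix (Fin n) (Fin n) (T ⊗[S] R))}
    {he : lamT T lam ε * ε = 1}
    (hstd : StdForm t T ((trK hlam T n).conj u ε hu he)) :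
    Module.finrank q.asIdeal.ResidueField (Wp t q) = Nat.choose (n + 1) 2 ↔ IsUnit (1 + ε) := by
  let k := IsLocalRing.ResidueField (T ⊗[S] R)
  let res : (T ⊗[S] R) →+* k := IsLocalRing.residue (T ⊗[S] R)
  let ι : R →+* (T ⊗[S] R) := (Algebra.TensorProduct.includeRight : R →ₐ[S] T ⊗[S] R).toRingHom
  have hker : RingHom.ker res = IsLocalRing.maximalIdeal (T ⊗[S] R) := IsLocalRing.ker_residue
  have hres : ∀ x : (T ⊗[S] R), res (lamT T lam x) = res x := by
    intro x
    have h1 : lamT T lam x - x ∈ RingHom.ker res := by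
      rw [hker, ← IsLocalRing.ringJacobson_eq_maximalIdeal]
      exact hid x
    rw [RingHom.mem_ker, map_sub, sub_eq_zero] at h1
    exact h1
  have hq : ∀ r : R, lam r - r ∈ q.asIdeal := by
    intro r
    rw [← hqK, Ideal.mem_comap, ← IsLocalRing.ringJacobson_eq_maximalIdeal]
    have := hid ((1 : T) ⊗ₜ[S] r)
    change lamT T lam ((1 : T) ⊗ₜ[S] r) - (1 : T) ⊗ₜ[S] r ∈ _ at this
    rw [lamT_tmul, ← TensorProduct.tmul_sub] at this
    exact this
  let θ : R →+* k := res.comp ι
  have hθ : RingHom.ker θ = q.asIdeal := by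
    rw [← hqK, ← hker]
    exact (RingHom.comap_ker res ι).symm
  obtain ⟨F, hF1, hF2⟩ := hstd
  let π : A →+* Matrix (Fin n) (Fin n) k :=
    (res.mapMatrix).comp ((F : T ⊗[S] A →+* Matrix (Fin n) (Fin n) (T ⊗[S] R)).comp
      (Algebra.TensorProduct.includeRight : A →ₐ[S] T ⊗[S] A).toRingHom)
  have hπa : ∀ a : A, π a = (F ((1 : T) ⊗ₜ[S] a)).map res := fun a => rfl
  have hπ : ∀ (r : R) (a : A), π (r • a) = θ r • π a := by
    intro r a
    rw [hπa, hπa, Algebra.smul_def]
    have : ((1 : T) ⊗ₜ[S] (algebraMap R A r * a) : T ⊗[S] A) =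
        ((1 : T) ⊗ₜ[S] algebraMap R A r) * ((1 : T) ⊗ₜ[S] a) := by
      rw [Algebra.TensorProduct.tmul_mul_tmul, mul_one]
    rw [this, hF1]
    ext i j
    simp only [Matrix.map_apply, Matrix.smul_apply, smul_eq_mul, Matrix.scalar_apply,
      Matrix.diagonal_mul, map_mul]
    rfl
  have hspan : Submodule.span k (Set.range π) = ⊤ := by
    have key : ∀ x : T ⊗[S] A, (F x).map res ∈ Submodule.span k (Set.range π) := by
      intro x
      induction x using TensorProduct.induction_on with
      | zero =>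
        rw [map_zero]
        have : (0 : Matrix (Fin n) (Fin n) (T ⊗[S] R)).map res = 0 := by ext i j; simp
        rw [this]
        exact Submodule.zero_mem _
      | add x y hx hy =>
        rw [map_add]
        have : (F x + F y).map res = (F x).map res + (F y).map res := by ext i j; simp
        rw [this]
        exact Submodule.add_mem _ hx hy
      | tmul s a =>
        have h1 : (s ⊗ₜ[S] a : T ⊗[S] A) = s • ((1 : T) ⊗ₜ[S] a) := by
          rw [TensorProduct.smul_tmul', smul_eq_mul, mul_one]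
        have h2' : (F (s ⊗ₜ[S] a)).map res = res (algebraMap T (T ⊗[S] R) s) • π a := by
          rw [h1, map_smul, hπa]
          ext i j
          rw [Matrix.map_apply, Matrix.smul_apply, Matrix.smul_apply, Matrix.map_apply,
            Algebra.smul_def, map_mul, smul_eq_mul]
        rw [h2']
        exact Submodule.smul_mem _ _ (Submodule.subset_span ⟨a, rfl⟩)
    rw [eq_top_iff]
    intro Z _
    obtain ⟨X, rfl⟩ : ∃ X : Matrix (Fin n) (Fin n) (T ⊗[S] R), X.map res = Z := by
      refine ⟨Matrix.of fun i j => (IsLocalRing.residue_surjective (Z i j)).choose, ?_⟩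
      ext i j
      exact (IsLocalRing.residue_surjective (Z i j)).choose_spec
    obtain ⟨x, rfl⟩ := F.surjective X
    exact key x
  have h2k : (2 : k) ≠ 0 := by
    have h1 : IsUnit (θ (algebraMap S R 2)) := (h2.map (algebraMap S R)).map θ
    rw [map_ofNat, map_ofNat] at h1
    exact h1.ne_zero
  set ū : Matrix (Fin n) (Fin n) k := res.mapMatrix (↑u : Matrix (Fin n) (Fin n) (T ⊗[S] R)) with hū
  set ūi : Matrix (Fin n) (Fin n) k := res.mapMatrix (↑u⁻¹ : Matrix (Fin n) (Fin n) (T ⊗[S] R)) with hūi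
  have h1 : ū * ūi = 1 := by rw [hū, hūi, ← map_mul, Units.mul_inv, map_one]
  have h1' : ūi * ū = 1 := by rw [hū, hūi, ← map_mul, Units.inv_mul, map_one]
  have hmapT : ∀ X : Matrix (Fin n) (Fin n) (T ⊗[S] R),
      res.mapMatrix (trK hlam T n X) = (res.mapMatrix X).transpose := by
    intro X
    ext i j
    change res (lamT T lam (X j i)) = res (X j i)
    exact hres _
  have heū : ū.transpose = res ε • ū := by
    rw [hū, ← hmapT, hu]
    ext i j
    simp [RingHom.mapMatrix_apply, Matrix.map_apply, Matrix.smul_apply]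
  have hee : res ε * res ε = 1 := by
    have := congrArg res he
    rwa [map_mul, hres, map_one] at this
  have hπt : ∀ a : A, π (t a) = ū * (π a).transpose * ūi := by
    intro a
    have e1 : F ((1 : T) ⊗ₜ[S] t a) = (↑u : Matrix (Fin n) (Fin n) (T ⊗[S] R)) *
        trK hlam T n (F ((1 : T) ⊗ₜ[S] a)) * (↑u⁻¹ : Matrix (Fin n) (Fin n) (T ⊗[S] R)) := by
      rw [← LamInv.bc_tmul, hF2, LamInv.conj_apply]
    change res.mapMatrix (F ((1 : T) ⊗ₜ[S] t a)) = _
    rw [e1, map_mul, map_mul, hmapT]
    rfl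
  have hfin := finrank_Wp_eq h2 hA t q hq θ hθ π hπ hspan ū ūi h1 h1' (res ε) heū hee hπt
  rw [hfin, finrank_symSub_eq_iff hn h2k hee]
  have hcases : res ε = 1 ∨ res ε = -1 := by
    have : (res ε - 1) * (res ε + 1) = 0 := by
      have h' : (res ε - 1) * (res ε + 1) = res ε * res ε - 1 := by ring
      rw [h', hee, sub_self]
    rcases mul_eq_zero.1 this with h | h
    · left; exact sub_eq_zero.1 h
    · right; exact eq_neg_of_add_eq_zero_left h
  have hunit : IsUnit (1 + ε) ↔ res (1 + ε) ≠ 0 := by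
    rw [ne_eq, ← RingHom.mem_ker, hker, IsLocalRing.mem_maximalIdeal, mem_nonunits_iff, not_not]
  rw [hunit, map_add, map_one]
  constructor
  · intro h
    rw [h, one_add_one_eq_two]
    exact h2k
  · intro h
    rcases hcases with h' | h'
    · exact h'
    · exfalso
      apply h
      rw [h', add_neg_cancel]

end criterion
end Groth.Agent.Lib.ShDescent16

namespace Groth.Agent.Lib.ShDescent16
open TensorProduct AzInv Groth.Agent.Lib.RInvHerm

section signgen
universe u v w w'
variable {S : Type u} {R : Type v} [CommRing S] [CommRing R] [Algebra S R]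
  {lam : R ≃ₐ[S] R} (hlam : ∀ r, lam (lam r) = r)
  {A : Type w} [Ring A] [Algebra S A] [Algebra R A] [IsScalarTower S R A]
  {A' : Type w'} [Ring A'] [Algebra S A'] [Algebra R A'] [IsScalarTower S R A']
  {t : AzInv.LamInv R A lam} {t' : AzInv.LamInv R A' lam}
  {T : Type*} [CommRing T] [Algebra S T]

/-- **Invariance of the sign** under `SameType`, for possibly different degrees -/
theorem exists_sign_of_isoOverG_gen [Nontrivial (T ⊗[S] R)]
    [Finite (MaximalSpectrum (T ⊗[S] R))] {n n' : ℕ} (hn : 0 < n)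
    {u : (Matrix (Fin n) (Fin n) (T ⊗[S] R))ˣ} {u' : (Matrix (Fin n') (Fin n') (T ⊗[S] R))ˣ}
    {ε ε' : T ⊗[S] R}
    {hu : trK hlam T n (↑u : Matrix (Fin n) (Fin n) (T ⊗[S] R)) =
      ε • (↑u : Matrix (Fin n) (Fin n) (T ⊗[S] R))}
    {he : lamT T lam ε * ε = 1}
    {hu' : trK hlam T n' (↑u' : Matrix (Fin n') (Fin n') (T ⊗[S] R)) =
      ε' • (↑u' : Matrix (Fin n') (Fin n') (T ⊗[S] R))}
    {he' : lamT T lam ε' * ε' = 1}
    (h₁ : StdForm t T ((trK hlam T n).conj u ε hu he))
    (h₂ : StdForm t' T ((trK hlam T n').conj u' ε' hu' he'))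
    {m m' : ℕ} (hm : 0 < m)
    (hiso : IsoOverG (R := R) ((t.matrix (Fin m)).linS S lam) ((t'.matrix (Fin m')).linS S lam) T) :
    ∃ c : T ⊗[S] R, IsUnit c ∧ ε * c = lamT T lam c * ε' := by
  obtain ⟨Fm, hFm1, hFm2⟩ := (h₁.toI hlam).matrix (Fin m)
  obtain ⟨Fm', hFm'1, hFm'2⟩ := (h₂.toI hlam).matrix (Fin m')
  obtain ⟨f, hf1, hf2⟩ := hiso
  obtain ⟨G₀, hG₀⟩ : ∃ G₀ : Matrix (Fin m × Fin n) (Fin m × Fin n) (T ⊗[S] R) ≃ₐ[T]
      Matrix (Fin m' × Fin n') (Fin m' × Fin n') (T ⊗[S] R), G₀ = Fm.symm.trans (f.trans Fm') :=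
    ⟨_, rfl⟩
  have hG₀a : ∀ X, G₀ X = Fm' (f (Fm.symm X)) := fun X => by rw [hG₀]; rfl
  have hlin1 : ∀ (r : R) X, G₀ (((1 : T) ⊗ₜ[S] r : T ⊗[S] R) • X) =
      ((1 : T) ⊗ₜ[S] r : T ⊗[S] R) • G₀ X := by
    intro r X
    rw [hG₀a, hG₀a]
    have e1 : Fm.symm (((1 : T) ⊗ₜ[S] r : T ⊗[S] R) • X) =
        ((1 : T) ⊗ₜ[S] algebraMap R (Matrix (Fin m) (Fin m) A) r) * Fm.symm X := by
      apply Fm.injective
      rw [AlgEquiv.apply_symm_apply, hFm1, AlgEquiv.apply_symm_apply]
    rw [e1, hf1, hFm'1]
  have hlin : ∀ (c : T ⊗[S] R) X, G₀ (c • X) = c • G₀ X := by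
    intro c X
    induction c using TensorProduct.induction_on with
    | zero => simp
    | add x y hx hy => rw [add_smul, map_add, hx, hy, add_smul]
    | tmul a r =>
      have e : (a ⊗ₜ[S] r : T ⊗[S] R) = a • ((1 : T) ⊗ₜ[S] r) := by
        rw [TensorProduct.smul_tmul', smul_eq_mul, mul_one]
      rw [e, smul_assoc, map_smul, hlin1, smul_assoc]
  let G : Matrix (Fin m × Fin n) (Fin m × Fin n) (T ⊗[S] R) ≃ₐ[T ⊗[S] R]
      Matrix (Fin m' × Fin n') (Fin m' × Fin n') (T ⊗[S] R) :=
    AlgEquiv.ofRingEquiv (f := G₀.toRingEquiv) (fun c => by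
      change G₀ (algebraMap (T ⊗[S] R) _ c) = _
      rw [Algebra.algebraMap_eq_smul_one, hlin, map_one, ← Algebra.algebraMap_eq_smul_one])
  have hGa : ∀ X, G X = G₀ X := fun X => rfl
  -- sizes agree
  have hcard : m * n = m' * n' := by
    have h := G.toLinearEquiv.finrank_eq
    simp only [Module.finrank_matrix, Fintype.card_prod, Fintype.card_fin, Module.finrank_self,
      mul_one] at h
    exact Nat.mul_self_inj.1 h
  let e : Fin m × Fin n ≃ Fin m' × Fin n' := Fintype.equivOfCardEq (by simp [hcard])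
  haveI : Nonempty (Fin m) := Fin.pos_iff_nonempty.1 hm
  haveI : Nonempty (Fin n) := Fin.pos_iff_nonempty.1 hn
  have hu1 : st (lamT T lam).toRingEquiv (↑u : Matrix (Fin n) (Fin n) (T ⊗[S] R)) =
      ε • (↑u : Matrix (Fin n) (Fin n) (T ⊗[S] R)) := hu
  have hu'1 : st (lamT T lam).toRingEquiv (↑u' : Matrix (Fin n') (Fin n') (T ⊗[S] R)) =
      ε' • (↑u' : Matrix (Fin n') (Fin n') (T ⊗[S] R)) := hu'
  set U' := Matrix.comp (Fin m') (Fin m') (Fin n') (Fin n') (T ⊗[S] R)
    (Matrix.diagonal fun _ => (↑u' : Matrix (Fin n') (Fin n') (T ⊗[S] R))) with hU'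
  set Ui' := Matrix.comp (Fin m') (Fin m') (Fin n') (Fin n') (T ⊗[S] R)
    (Matrix.diagonal fun _ => (↑u'⁻¹ : Matrix (Fin n') (Fin n') (T ⊗[S] R))) with hUi'
  have h1' : U' * Ui' = 1 := comp_diagonal_mul _ _ u'.mul_inv
  have h2' : Ui' * U' = 1 := comp_diagonal_mul _ _ u'.inv_mul
  have h3' : st (lamT T lam).toRingEquiv U' = ε' • U' := st_comp_diagonal _ _ _ hu'1
  refine exists_sign_relation (lamT T lam).toRingEquiv (lamT_involutive T lam hlam)
    (G.trans (Matrix.reindexAlgEquiv (T ⊗[S] R) (T ⊗[S] R) e.symm)) _ _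
    (U'.submatrix e e) (Ui'.submatrix e e) ε ε'
    (comp_diagonal_mul _ _ u.mul_inv) (comp_diagonal_mul _ _ u.inv_mul)
    (by rw [Matrix.submatrix_mul_equiv, h1', Matrix.submatrix_one_equiv])
    (by rw [Matrix.submatrix_mul_equiv, h2', Matrix.submatrix_one_equiv])
    (st_comp_diagonal _ _ _ hu1)
    (by rw [st_submatrix, h3']; ext i j; rfl) (fun X => ?_)
  obtain ⟨x, rfl⟩ := Fm.surjective X
  rw [AlgEquiv.trans_apply, AlgEquiv.trans_apply, Matrix.coe_reindexAlgEquiv,
    Matrix.reindex_apply, Matrix.reindex_apply, Equiv.symm_symm]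
  have key : G (Matrix.comp (Fin m) (Fin m) (Fin n) (Fin n) (T ⊗[S] R)
        (Matrix.diagonal fun _ => (↑u : Matrix (Fin n) (Fin n) (T ⊗[S] R))) *
      st (lamT T lam).toRingEquiv (Fm x) *
      Matrix.comp (Fin m) (Fin m) (Fin n) (Fin n) (T ⊗[S] R)
        (Matrix.diagonal fun _ => (↑u⁻¹ : Matrix (Fin n) (Fin n) (T ⊗[S] R)))) =
      U' * st (lamT T lam).toRingEquiv (G (Fm x)) * Ui' := by
    rw [← hFm2, hGa, hGa, hG₀a, hG₀a, AlgEquiv.symm_apply_apply, AlgEquiv.symm_apply_apply,
      ← hFm'2]
    congr 1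
    exact hf2 x
  rw [key, st_submatrix, Matrix.submatrix_mul_equiv, Matrix.submatrix_mul_equiv]

end signgen
end Groth.Agent.Lib.ShDescent16

namespace Groth.Agent.Lib.ShDescent16
open TensorProduct AzInv Groth.Agent.Lib.RInvHerm

section final
universe u v w w'
variable {S : Type u} {R : Type v} [CommRing S] [CommRing R] [Algebra S R]
  {lam : R ≃ₐ[S] R} (hlam : ∀ r, lam (lam r) = r)
  {A : Type w} [Ring A] [Algebra S A] [Algebra R A] [IsScalarTower S R A]
  {A' : Type w'} [Ring A'] [Algebra S A'] [Algebra R A'] [IsScalarTower S R A']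

theorem ramified_of_forall_mem_jacobson (T : Type*) [CommRing T] [Algebra S T]
    [IsLocalRing (T ⊗[S] R)]
    (hid : ∀ a : T ⊗[S] R, (lamT T lam).toRingEquiv a - a ∈ Ring.jacobson (T ⊗[S] R)) (r : R) :
    lam r - r ∈ (IsLocalRing.maximalIdeal (T ⊗[S] R)).comap
      (Algebra.TensorProduct.includeRight : R →ₐ[S] T ⊗[S] R).toRingHom := by
  rw [Ideal.mem_comap, ← IsLocalRing.ringJacobson_eq_maximalIdeal]
  have := hid ((1 : T) ⊗ₜ[S] r)
  change lamT T lam ((1 : T) ⊗ₜ[S] r) - (1 : T) ⊗ₜ[S] r ∈ _ at this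
  rw [lamT_tmul, ← TensorProduct.tmul_sub] at this
  exact this

include hlam in
/-- **Same type ⟺ same orthogonal/symplectic sign at every ramified prime** (statement S17361). -/
theorem sameType_iff (hfix : RInv.IsFixedRing S R lam.toRingEquiv) (h2 : IsUnit (2 : S))
    {n n' : ℕ} (hn : 0 < n) (hn' : 0 < n') (hA : AzInv.IsAzumayaDeg R A n)
    (hA' : AzInv.IsAzumayaDeg R A' n')
    (t : AzInv.LamInv R A lam) (t' : AzInv.LamInv R A' lam) :
    AzInv.SameType S lam t t' ↔
      ∀ q : PrimeSpectrum R, (∀ r : R, lam r - r ∈ q.asIdeal) →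
        (Module.finrank q.asIdeal.ResidueField (Wp t q) = Nat.choose (n + 1) 2 ↔
          Module.finrank q.asIdeal.ResidueField (Wp t' q) = Nat.choose (n' + 1) 2) := by
  have hsq : ∀ (S₁ : Type u) [CommRing S₁] [Algebra S S₁] [Algebra.Etale S S₁] (x : S₁ˣ),
      ∃ (S₂ : Type u) (_ : CommRing S₂) (_ : Algebra S₁ S₂) (_ : Algebra.Etale S₁ S₂)
        (_ : Module.FaithfullyFlat S₁ S₂) (y : S₂), y * y = algebraMap S₁ S₂ ↑x :=
    fun S₁ _ _ _ x => exists_sqrt_cover_of_two h2 S₁ x
  constructor
  · rintro ⟨m, m', hm, hm', S', _, _, hEt, hff, f, hf1, hf2⟩ q hq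
    haveI := hEt
    haveI := hff
    obtain ⟨T, _, _, _, _, _, _, hSH, _⟩ :=
      exists_strictHenselization S (q.asIdeal.comap (algebraMap S R))
    haveI : HenselianLocalRing T := hSH.henselian
    haveI : IsSepClosed (IsLocalRing.ResidueField T) := hSH.isSepClosure.sep_closed
    have hpT := comap_maximalIdeal_eq S (q.asIdeal.comap (algebraMap S R)) T
    have hid := forall_mem_jacobson_of_ramified hlam q.asIdeal T hfix hq hpT
    have hB := isFixedRing_baseChange T lam hfix
    have hlamK := lamT_involutive T lam hlam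
    haveI : Nontrivial (T ⊗[S] R) :=
      Groth.Agent.Lib.RInv88.nontrivial_of_nontrivial (lamT T lam).toRingEquiv hB
    haveI : IsLocalRing (T ⊗[S] R) := isLocalRing_of_bad (lamT T lam).toRingEquiv hlamK hB hid
    haveI : Finite (MaximalSpectrum (T ⊗[S] R)) :=
      Groth.Agent.Lib.AzInvInner16.finite_maximalSpectrum (S := T) (lamT T lam).toRingEquiv
        hlamK hB
    have hqK := comap_maximalIdeal_eq_of_ramified hlam q.asIdeal T hfix hpT
    obtain ⟨u, ε, hu, he, hstd⟩ := exists_stdForm_conj hlam hfix hn hA t T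
    obtain ⟨u', ε', hu', he', hstd'⟩ := exists_stdForm_conj hlam hfix hn' hA' t' T
    obtain ⟨φ₂, hφ₂⟩ := exists_lift_of_etale_cover (algebraMap S T) S'
    let φ : S' →ₐ[S] T := { φ₂ with commutes' := fun s => RingHom.congr_fun hφ₂ s }
    have hiso : IsoOverG (R := R) ((t.matrix (Fin m)).linS S lam)
        ((t'.matrix (Fin m')).linS S lam) S' := ⟨f, hf1, hf2⟩
    have hisoT := IsoOverG.map _ _ φ hiso
    obtain ⟨c, hc, hrel⟩ := exists_sign_of_isoOverG_gen hlam hn hstd hstd' hm hisoT
    rw [finrank_Wp_eq_choose_iff hlam h2 hn hA t hid q hqK hstd,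
      finrank_Wp_eq_choose_iff hlam h2 hn' hA' t' hid q hqK hstd']
    exact isUnit_one_add_iff (lamT T lam).toRingEquiv hid hc hrel
  · intro H
    refine ⟨n', n, hn', hn, ?_⟩
    have hAm : AzInv.IsAzumayaDeg R (Matrix (Fin n') (Fin n') A) (n' * n) :=
      isAzumayaDeg_matrix R A hA hn'
    have hAm' : AzInv.IsAzumayaDeg R (Matrix (Fin n) (Fin n) A') (n' * n) := by
      rw [Nat.mul_comm]
      exact isAzumayaDeg_matrix R A' hA' hn
    have hN : 0 < n' * n := Nat.mul_pos hn' hn
    refine locIsoEt_of_forall_strictHenselization hAm hAm' (t.matrix (Fin n'))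
      (t'.matrix (Fin n)) ?_
    intro p _ T _ _ _ _ _ _ hSH _
    haveI : HenselianLocalRing T := hSH.henselian
    haveI : IsSepClosed (IsLocalRing.ResidueField T) := hSH.isSepClosure.sep_closed
    have hB := isFixedRing_baseChange T lam hfix
    have hlamK := lamT_involutive T lam hlam
    have hsqB := exists_sqrt_of_strict S p T hsq
    haveI : Nontrivial (T ⊗[S] R) :=
      Groth.Agent.Lib.RInv88.nontrivial_of_nontrivial (lamT T lam).toRingEquiv hB
    obtain ⟨u, ε, hu, he, hstd⟩ := exists_stdForm_conj hlam hfix hn hA t T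
    obtain ⟨u', ε', hu', he', hstd'⟩ := exists_stdForm_conj hlam hfix hn' hA' t' T
    obtain ⟨U, hU, hstdM⟩ := exists_stdForm_matrix hlam hstd n' (n' * n) rfl
    obtain ⟨U', hU', hstdM'⟩ := exists_stdForm_matrix hlam hstd' n (n' * n) (Nat.mul_comm n n')
    suffices hmain : ∃ (v : (Matrix (Fin (n' * n)) (Fin (n' * n)) (T ⊗[S] R))ˣ) (c : T ⊗[S] R),
        (↑v : Matrix (Fin (n' * n)) (Fin (n' * n)) (T ⊗[S] R)) *
          (↑U : Matrix (Fin (n' * n)) (Fin (n' * n)) (T ⊗[S] R)) *
          st (lamT T lam).toRingEquiv (↑v : Matrix (Fin (n' * n)) (Fin (n' * n)) (T ⊗[S] R)) =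
          c • (↑U' : Matrix (Fin (n' * n)) (Fin (n' * n)) (T ⊗[S] R)) by
      obtain ⟨v, c, hv⟩ := hmain
      exact exists_hom_of_congr hlam hstdM hstdM' v c hv
    by_cases hG : ∃ a : T ⊗[S] R, (lamT T lam).toRingEquiv a - a ∉ Ring.jacobson (T ⊗[S] R)
    · exact exists_congr_of_good (lamT T lam).toRingEquiv hlamK hB hsqB hN hG U U' ε ε' hU hU'
        he he'
    · push Not at hG
      haveI : IsLocalRing (T ⊗[S] R) := isLocalRing_of_bad (lamT T lam).toRingEquiv hlamK hB hG
      let q : PrimeSpectrum R := ⟨(IsLocalRing.maximalIdeal (T ⊗[S] R)).comap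
        (Algebra.TensorProduct.includeRight : R →ₐ[S] T ⊗[S] R).toRingHom,
        Ideal.comap_isPrime _ _⟩
      have hq : ∀ r : R, lam r - r ∈ q.asIdeal := ramified_of_forall_mem_jacobson T hG
      have c1 := finrank_Wp_eq_choose_iff hlam h2 hn hA t hG q rfl hstd
      have c2 := finrank_Wp_eq_choose_iff hlam h2 hn' hA' t' hG q rfl hstd'
      have hiff : IsUnit (1 + ε) ↔ IsUnit (1 + ε') := c1.symm.trans ((H q hq).trans c2)
      have h2K : IsUnit (2 : T ⊗[S] R) := by
        have := h2.map (algebraMap S (T ⊗[S] R))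
        rwa [map_ofNat] at this
      exact exists_congr_of_iff (lamT T lam).toRingEquiv hlamK hB hsqB hN h2K hG U U' ε ε' hU hU'
        he he' hiff

end final
end Groth.Agent.Lib.ShDescent16
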