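import Groth.Agent.Lib.Azumaya16Fibre
import Mathlib.RingTheory.Finiteness.Descent
import Mathlib.RingTheory.Flat.EquationalCriterion
import Mathlib.RingTheory.Flat.FaithfullyFlat.Algebra
import Mathlib.RingTheory.Flat.Tensor

namespace Groth.Agent.Lib.Azumaya16
open TensorProduct

section descent
universe u v w₁ w₂
variable {R : Type u} [CommRing R] (S : Type v) [CommRing S] [Algebra R S]

theorem baseChange_bijective {P : Type*} {Q : Type*} [AddCommGroup P] [Module R P] [AddCommGroup Q] [Module R Q]
    (F : P →ₗ[R] Q) (hF : Function.Bijective F) : Function.Bijective (F.baseChange S) := by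
  have : ⇑(F.baseChange S) = ⇑((LinearEquiv.ofBijective F hF).baseChange R S _ _) := by
    funext x
    induction x using TensorProduct.induction_on with
    | zero => simp
    | add x y hx hy => simp only [map_add, hx, hy]
    | tmul s y => simp
  rw [this]
  exact LinearEquiv.bijective _

/-- For each maximal ideal of `R`, a residue field of `S` over it, when `Spec S → Spec R` is surjective. -/
theorem exists_field_of_comap_surjective
    (hS : Function.Surjective (PrimeSpectrum.comap (algebraMap R S))) (m : Ideal R) (hm : m.IsMaximal) :
    ∃ (q : Ideal S) (_ : q.IsPrime), RingHom.ker (algebraMap R q.ResidueField) = m := by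
  obtain ⟨q, hq⟩ := hS ⟨m, hm.isPrime⟩
  refine ⟨q.asIdeal, q.2, ?_⟩
  have h1 : algebraMap R q.asIdeal.ResidueField =
      (algebraMap S q.asIdeal.ResidueField).comp (algebraMap R S) :=
    IsScalarTower.algebraMap_eq R S _
  rw [h1, ← RingHom.comap_ker, Ideal.ker_algebraMap_residueField]
  exact congrArg PrimeSpectrum.asIdeal hq

theorem bijective_of_baseChange_of_comap_surjective
    (hS : Function.Surjective (PrimeSpectrum.comap (algebraMap R S)))
    {P : Type w₁} {Q : Type w₂} [AddCommGroup P] [Module R P] [AddCommGroup Q] [Module R Q]
    [Module.Finite R P] [Module.Finite R Q] [Module.Projective R Q] (F : P →ₗ[R] Q)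
    (hF : Function.Bijective (F.baseChange S)) : Function.Bijective F := by
  apply bijective_of_fibres F
  intro m hm
  obtain ⟨q, hq, hker⟩ := exists_field_of_comap_surjective S hS m hm
  refine ⟨q.ResidueField, inferInstance, inferInstance, hker, ?_⟩
  have h2 := baseChange_bijective q.ResidueField (F.baseChange S) hF
  rw [LinearMap.baseChange_baseChange] at h2
  simpa using h2

end descent
end Groth.Agent.Lib.Azumaya16

namespace Groth.Agent.Lib.Azumaya16
open TensorProduct

section descent2
universe u v w
variable {R : Type u} [CommRing R] (S : Type v) [CommRing S] [Algebra R S]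

theorem isAzumaya_of_comap_surjective
    (hS : Function.Surjective (PrimeSpectrum.comap (algebraMap R S)))
    (B : Type w) [Ring B] [Algebra R B] [Module.Finite R B] [Module.Projective R B]
    [IsAzumaya S (S ⊗[R] B)] : IsAzumaya R B := by
  apply isAzumaya_of_fibres_lr
  intro m hm
  obtain ⟨q, hq, hker⟩ := exists_field_of_comap_surjective S hS m hm
  refine ⟨q.ResidueField, inferInstance, inferInstance, hker, ?_, ?_⟩
  · have hAz : IsAzumaya q.ResidueField (q.ResidueField ⊗[S] (S ⊗[R] B)) :=
      isAzumaya_baseChange S q.ResidueField (S ⊗[R] B)
    have hnt := nontrivial_of_isAzumaya_field q.ResidueField (q.ResidueField ⊗[S] (S ⊗[R] B))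
    exact (AlgebraTensorModule.cancelBaseChange R S q.ResidueField q.ResidueField B).symm.toEquiv.nontrivial
  · have h1 : Function.Bijective (lr S (S ⊗[R] B)) :=
      ((isAzumaya_iff S (S ⊗[R] B)).1 inferInstance).2.2.2
    rw [bijective_lr_baseChange_iff R S B (tensorProduct_bijective_of_finite_projective R S B B)] at h1
    have h2 := baseChange_bijective q.ResidueField ((lr R B).baseChange S) h1
    rw [LinearMap.baseChange_baseChange] at h2
    simpa using h2

end descent2
end Groth.Agent.Lib.Azumaya16

namespace Groth.Agent.Lib.Azumaya16
open TensorProduct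

section ffdescent
universe u v w
variable (R : Type u) [CommRing R] (S : Type v) [CommRing S] [Algebra R S] [Module.FaithfullyFlat R S]
  (M : Type w) [AddCommGroup M] [Module R M]

/-- Flatness descends along faithfully flat base change. -/
theorem flat_of_flat_baseChange [Module.Flat S (S ⊗[R] M)] : Module.Flat R M := by
  have hflat : Module.Flat R (S ⊗[R] M) := Module.Flat.trans R S (S ⊗[R] M)
  rw [Module.Flat.iff_rTensor_injective']
  intro I
  rw [← Module.FaithfullyFlat.lTensor_injective_iff_injective R S]
  have h1 : Function.Injective (LinearMap.rTensor (S ⊗[R] M) I.subtype) :=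
    Module.Flat.rTensor_preserves_injective_linearMap _ (Submodule.subtype_injective _)
  have h2 : (LinearMap.rTensor M I.subtype).lTensor S =
      (TensorProduct.leftComm R S R M).symm.toLinearMap ∘ₗ
        (LinearMap.rTensor (S ⊗[R] M) I.subtype) ∘ₗ (TensorProduct.leftComm R S I M).toLinearMap := by
    apply TensorProduct.ext'
    intro s x
    induction x using TensorProduct.induction_on with
    | zero => simp
    | add x y hx hy => simp only [TensorProduct.tmul_add, map_add, hx, hy]
    | tmul i m => simp
  rw [h2]
  simpa using h1

/-- Finite presentation descends along faithfully flat base change. -/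
theorem finitePresentation_of_baseChange [Module.FinitePresentation S (S ⊗[R] M)] :
    Module.FinitePresentation R M := by
  have hfin : Module.Finite R M := Module.Finite.of_finite_tensorProduct_of_faithfullyFlat S
  obtain ⟨n, f, hf⟩ := Module.Finite.exists_fin' R M
  have hker : (LinearMap.ker (f.baseChange S)).FG :=
    Module.FinitePresentation.fg_ker (f.baseChange S) (LinearMap.lTensor_surjective S hf)
  have hexact : Function.Exact (LinearMap.ker f).subtype f := LinearMap.exact_subtype_ker_map f
  have hexact' : Function.Exact ((LinearMap.ker f).subtype.baseChange S) (f.baseChange S) :=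
    Module.Flat.lTensor_exact S hexact
  have hinj : Function.Injective ((LinearMap.ker f).subtype.baseChange S) :=
    Module.Flat.lTensor_preserves_injective_linearMap _ (Submodule.subtype_injective _)
  have hrange : LinearMap.range ((LinearMap.ker f).subtype.baseChange S) =
      LinearMap.ker (f.baseChange S) := hexact'.linearMap_ker_eq.symm
  have hfinS : Module.Finite S (S ⊗[R] LinearMap.ker f) := by
    have hfk : Module.Finite S (LinearMap.ker (f.baseChange S)) := Module.Finite.iff_fg.2 hker
    let e : (S ⊗[R] LinearMap.ker f) ≃ₗ[S] LinearMap.ker (f.baseChange S) :=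
      (LinearEquiv.ofInjective _ hinj).trans (LinearEquiv.ofEq _ _ hrange)
    exact Module.Finite.equiv e.symm
  have hfinK : Module.Finite R (LinearMap.ker f) :=
    Module.Finite.of_finite_tensorProduct_of_faithfullyFlat S
  exact Module.finitePresentation_of_surjective f hf (Module.Finite.iff_fg.1 hfinK)

/-- Finite projective descends along faithfully flat base change. -/
theorem finite_projective_of_baseChange [Module.Finite S (S ⊗[R] M)] [Module.Projective S (S ⊗[R] M)] :
    Module.Finite R M ∧ Module.Projective R M := by
  have h1 : Module.FinitePresentation S (S ⊗[R] M) := Module.finitePresentation_of_projective S _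
  have h2 : Module.FinitePresentation R M := finitePresentation_of_baseChange R S M
  have h3 : Module.Flat R M := flat_of_flat_baseChange R S M
  exact ⟨inferInstance, Module.Flat.projective_of_finitePresentation⟩

theorem isAzumaya_of_faithfullyFlat (B : Type w) [Ring B] [Algebra R B] [IsAzumaya S (S ⊗[R] B)] :
    IsAzumaya R B := by
  obtain ⟨h1, h2⟩ := finite_projective_of_baseChange R S B
  exact isAzumaya_of_comap_surjective S PrimeSpectrum.comap_surjective_of_faithfullyFlat B

end ffdescent
end Groth.Agent.Lib.Azumaya16
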