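import Mathlib
import Groth.Agent.Lib.Azumaya16SN
import Groth.Agent.Lib.Azumaya16Constr

/-!
# Double centralizer theorem for Azumaya algebras (helper16)

Let `A` be an Azumaya `R`-algebra, `E` ANY `R`-algebra and `φ : A →ₐ[R] E`.  With
`C = Subalgebra.centralizer R (Set.range φ)` the multiplication map `A ⊗[R] C → E`, `a ⊗ c ↦ φ a * c`
is an isomorphism of `R`-algebras (`mulMap_bijective`, `mulEquiv`).
If moreover `E` is Azumaya, so is `C` (`isAzumaya_cent`).
-/

set_option autoImplicit false
set_option linter.style.haveILetI false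

namespace Groth.Agent.Lib.AzumayaDCT16
open TensorProduct Groth.Agent.Lib.Azumaya16

section dct
universe u v w
variable {R : Type u} [CommRing R] {A : Type v} [Ring A] [Algebra R A]
  {E : Type w} [Ring E] [Algebra R E] (φ : A →ₐ[R] E)

/-- the action of `A ⊗ A` on `E`: `(x ⊗ y) • m = φ x * m * φ y`. -/
noncomputable def act : A ⊗[R] A →ₗ[R] Module.End R E :=
  lr R E ∘ₗ TensorProduct.map φ.toLinearMap φ.toLinearMap

@[simp] theorem act_tmul (x y : A) (m : E) : act φ (x ⊗ₜ[R] y) m = φ x * m * φ y := by
  simp [act]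

theorem act_map_mulLeft (x : A) (s : A ⊗[R] A) (m : E) :
    act φ (TensorProduct.map (LinearMap.mulLeft R x) LinearMap.id s) m = φ x * act φ s m := by
  induction s using TensorProduct.induction_on with
  | zero => simp
  | add s t hs ht => simp only [map_add, LinearMap.add_apply, mul_add, hs, ht]
  | tmul p q => simp [mul_assoc]

theorem act_map_mulRight (x : A) (s : A ⊗[R] A) (m : E) :
    act φ (TensorProduct.map LinearMap.id (LinearMap.mulRight R x) s) m = act φ s m * φ x := by
  induction s using TensorProduct.induction_on with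
  | zero => simp
  | add s t hs ht => simp only [map_add, LinearMap.add_apply, add_mul, hs, ht]
  | tmul p q => simp [mul_assoc]

/-- the centralizer of the image of `φ`. -/
abbrev cent : Subalgebra R E := Subalgebra.centralizer R (Set.range φ)

theorem mem_cent_iff (m : E) : m ∈ cent φ ↔ ∀ a : A, φ a * m = m * φ a := by
  rw [Subalgebra.mem_centralizer_iff]
  constructor
  · intro h a
    exact h (φ a) ⟨a, rfl⟩
  · rintro h _ ⟨a, rfl⟩
    exact h a

theorem act_mem_cent [IsAzumaya R A] (f : A →ₗ[R] R) (s : A ⊗[R] A)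
    (hs : ∀ z, lr R A s z = f z • (1 : A)) (m : E) : act φ s m ∈ cent φ := by
  obtain ⟨hproj, hfaith, hfin, hbij⟩ := (isAzumaya_iff R A).1 inferInstance
  rw [mem_cent_iff]
  intro a
  rw [← act_map_mulLeft, ← act_map_mulRight]
  have : TensorProduct.map (LinearMap.mulLeft R a) LinearMap.id s =
      TensorProduct.map LinearMap.id (LinearMap.mulRight R a) s := by
    apply hbij.1
    ext z
    rw [lr_map_mulLeft, lr_map_mulRight, hs, mul_smul_comm, smul_mul_assoc, mul_one, one_mul]
  rw [this]

theorem act_apply_mul_cent (s : A ⊗[R] A) (a : A) (c : E) (hc : c ∈ cent φ) :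
    act φ s (φ a * c) = φ (lr R A s a) * c := by
  rw [mem_cent_iff] at hc
  induction s using TensorProduct.induction_on with
  | zero => simp
  | add s t hs ht => simp only [map_add, LinearMap.add_apply, add_mul, hs, ht]
  | tmul p q =>
    rw [act_tmul, lr_tmul, map_mul, map_mul]
    simp only [mul_assoc]
    rw [hc q]

/-- the multiplication map `A ⊗ C_E(A) → E`. -/
noncomputable def mulMap : A ⊗[R] cent φ →ₐ[R] E :=
  Algebra.TensorProduct.lift φ (cent φ).val (fun a c => by
    have := (mem_cent_iff φ (c : E)).1 c.2 a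
    exact this)

@[simp] theorem mulMap_tmul (a : A) (c : cent φ) : mulMap φ (a ⊗ₜ[R] c) = φ a * (c : E) := by
  simp [mulMap]

/-- the `R`-linear map `E → C_E(A)`, `m ↦ s • m` for `s` with `lr s = f(·) • 1`. -/
noncomputable def toCent [IsAzumaya R A] (f : A →ₗ[R] R) (s : A ⊗[R] A)
    (hs : ∀ z, lr R A s z = f z • (1 : A)) : E →ₗ[R] cent φ where
  toFun m := ⟨act φ s m, act_mem_cent φ f s hs m⟩
  map_add' m m' := by
    apply Subtype.ext
    simp
  map_smul' r m := by
    apply Subtype.ext
    simp

/-- **Double centralizer theorem** (first half): `A ⊗ C_E(A) ≅ E` for an Azumaya algebra `A` mapping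
to an arbitrary `R`-algebra `E`. -/
theorem mulMap_bijective [IsAzumaya R A] : Function.Bijective (mulMap φ) := by
  classical
  obtain ⟨hproj, hfaith, hfin, hbij⟩ := (isAzumaya_iff R A).1 inferInstance
  obtain ⟨n, f, g, -, -, hfg⟩ := Module.Finite.exists_comp_eq_id_of_projective R A
  let u : Fin n → A := fun j => f (Pi.single j 1)
  let fj : Fin n → (A →ₗ[R] R) := fun j => (LinearMap.proj j).comp g
  have hdual : ∀ z : A, z = ∑ j, fj j z • u j := by
    intro z
    conv_lhs => rw [← LinearMap.id_apply (R := R) z, ← hfg, LinearMap.comp_apply]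
    rw [LinearMap.pi_apply_eq_sum_univ f (g z)]
    refine Finset.sum_congr rfl fun i _ => ?_
    simp only [fj, u, LinearMap.comp_apply, LinearMap.proj_apply]
    congr 2
    funext j
    simp [Pi.single_apply, eq_comm]
  have hs : ∀ j, ∃ s : A ⊗[R] A, ∀ z, lr R A s z = fj j z • (1 : A) := by
    intro j
    obtain ⟨s, hs⟩ := hbij.2 ((fj j).smulRight (1 : A))
    exact ⟨s, fun z => by rw [hs]; rfl⟩
  choose s hs using hs
  let ψ : E →ₗ[R] A ⊗[R] cent φ :=
    ∑ j, (TensorProduct.mk R A (cent φ) (u j)) ∘ₗ (toCent φ (fj j) (s j) (hs j))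
  have hψ : ∀ m, ψ m = ∑ j, u j ⊗ₜ[R] (toCent φ (fj j) (s j) (hs j) m) := by
    intro m
    simp [ψ, LinearMap.sum_apply]
  -- `Σ_j (u_j ⊗ 1) s_j = 1 ⊗ 1`
  have hone : ∑ j, TensorProduct.map (LinearMap.mulLeft R (u j)) LinearMap.id (s j) =
      (1 : A) ⊗ₜ[R] (1 : A) := by
    apply hbij.1
    ext z
    rw [map_sum, LinearMap.sum_apply]
    simp only [lr_map_mulLeft, hs, lr_tmul, one_mul, mul_one, mul_smul_comm]
    exact (hdual z).symm
  have h1 : ∀ m, mulMap φ (ψ m) = m := by
    intro m
    rw [hψ, map_sum]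
    simp only [mulMap_tmul]
    have : ∀ j, φ (u j) * ((toCent φ (fj j) (s j) (hs j) m : cent φ) : E) =
        act φ (TensorProduct.map (LinearMap.mulLeft R (u j)) LinearMap.id (s j)) m := by
      intro j
      rw [act_map_mulLeft]
      rfl
    simp only [this]
    rw [← LinearMap.sum_apply, ← map_sum, hone, act_tmul, map_one, one_mul, mul_one]
  have h2 : ∀ x, ψ (mulMap φ x) = x := by
    intro x
    induction x using TensorProduct.induction_on with
    | zero => simp
    | add x y hx hy => rw [map_add, map_add, hx, hy]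
    | tmul a c =>
      rw [mulMap_tmul, hψ]
      have : ∀ j, toCent φ (fj j) (s j) (hs j) (φ a * (c : E)) = fj j a • c := by
        intro j
        apply Subtype.ext
        change act φ (s j) (φ a * (c : E)) = fj j a • (c : E)
        rw [act_apply_mul_cent φ (s j) a c c.2, hs, map_smul, map_one, smul_mul_assoc, one_mul]
      simp only [this]
      simp only [TensorProduct.tmul_smul]
      conv_rhs => rw [hdual a, TensorProduct.sum_tmul]
      refine Finset.sum_congr rfl fun j _ => ?_
      rw [TensorProduct.smul_tmul']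
  exact ⟨Function.LeftInverse.injective h2, Function.RightInverse.surjective h1⟩

/-- `A ⊗ C_E(A) ≃ₐ E`. -/
noncomputable def mulEquiv [IsAzumaya R A] : A ⊗[R] cent φ ≃ₐ[R] E :=
  AlgEquiv.ofBijective (mulMap φ) (mulMap_bijective φ)

@[simp] theorem mulEquiv_tmul [IsAzumaya R A] (a : A) (c : cent φ) :
    mulEquiv φ (a ⊗ₜ[R] c) = φ a * (c : E) := by
  simp [mulEquiv]

end dct

end Groth.Agent.Lib.AzumayaDCT16
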