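import Mathlib
import Groth.Agent.Lib.AzumayaDCT16

/-!
# Double centralizer theorem for Azumaya algebras, part 2 (helper16)

* `bijective_of_lTensor_bijective`: tensoring with a module having `R` as a direct summand reflects
  bijectivity.
* `isAzumaya_cent`: the centralizer of an Azumaya subalgebra of an Azumaya algebra is Azumaya.
* `isAzumaya_op`: the opposite of an Azumaya algebra is Azumaya.
* `brauerEquiv`: `A ⊗ End_R(C) ≃ₐ Cᵐᵒᵖ ⊗ E` for `C = C_E(A)`.
-/

set_option autoImplicit false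
set_option linter.style.haveILetI false

namespace Groth.Agent.Lib.AzumayaDCT16
open TensorProduct Groth.Agent.Lib.Azumaya16

section retract
universe u
variable {R : Type u} [CommRing R] {P X Y : Type*} [AddCommGroup P] [Module R P]
  [AddCommGroup X] [Module R X] [AddCommGroup Y] [Module R Y]

theorem bijective_of_lTensor_bijective (p₀ : P) (π₀ : P →ₗ[R] R) (h : π₀ p₀ = 1) (g : X →ₗ[R] Y)
    (hg : Function.Bijective (g.lTensor P)) : Function.Bijective g := by
  let πX : P ⊗[R] X →ₗ[R] X := (TensorProduct.lid R X).toLinearMap ∘ₗ π₀.rTensor X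
  let πY : P ⊗[R] Y →ₗ[R] Y := (TensorProduct.lid R Y).toLinearMap ∘ₗ π₀.rTensor Y
  have hπX : ∀ x : X, πX (p₀ ⊗ₜ[R] x) = x := fun x => by simp [πX, h]
  have hπY : ∀ y : Y, πY (p₀ ⊗ₜ[R] y) = y := fun y => by simp [πY, h]
  have hnat : ∀ w : P ⊗[R] X, πY (g.lTensor P w) = g (πX w) := by
    intro w
    induction w using TensorProduct.induction_on with
    | zero => simp
    | add a b ha hb => simp only [map_add, ha, hb]
    | tmul p x => simp [πX, πY]
  constructor
  · intro x x' hxx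
    have : g.lTensor P (p₀ ⊗ₜ[R] x) = g.lTensor P (p₀ ⊗ₜ[R] x') := by
      simp [hxx]
    have := hg.1 this
    rw [← hπX x, ← hπX x', this]
  · intro y
    obtain ⟨w, hw⟩ := hg.2 (p₀ ⊗ₜ[R] y)
    exact ⟨πX w, by rw [← hnat, hw, hπY]⟩

end retract

section cent
universe u v w
variable {R : Type u} [CommRing R] {A : Type v} [Ring A] [Algebra R A] [IsAzumaya R A]
  {E : Type w} [Ring E] [Algebra R E] [IsAzumaya R E] (φ : A →ₐ[R] E)

/-- **Double centralizer theorem** (second half): the centralizer of an Azumaya subalgebra in an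
Azumaya algebra is Azumaya. -/
theorem isAzumaya_cent : IsAzumaya R (cent φ) := by
  obtain ⟨hproj, hfaith, hfin, hbij⟩ := (isAzumaya_iff R A).1 inferInstance
  obtain ⟨hprojE, hfaithE, hfinE, hbijE⟩ := (isAzumaya_iff R E).1 inferInstance
  obtain ⟨ρ, hρ⟩ := exists_retraction R A
  -- retraction of the inclusion `C ⊆ E`
  let π : A ⊗[R] cent φ →ₗ[R] cent φ := (TensorProduct.lid R (cent φ)).toLinearMap ∘ₗ ρ.rTensor (cent φ)
  let π' : E →ₗ[R] cent φ := π ∘ₗ (mulEquiv φ).symm.toLinearMap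
  have hπ' : ∀ c : cent φ, π' (c : E) = c := by
    intro c
    have h1 : (mulEquiv φ).symm (c : E) = (1 : A) ⊗ₜ[R] c := by
      rw [AlgEquiv.symm_apply_eq, mulEquiv_tmul, map_one, one_mul]
    simp only [π', LinearMap.comp_apply, AlgEquiv.toLinearMap_apply]
    rw [h1]
    simp [π, hρ]
  have hfinC : Module.Finite R (cent φ) :=
    Module.Finite.of_surjective π' (fun c => ⟨(c : E), hπ' c⟩)
  have hprojC : Module.Projective R (cent φ) :=
    Module.Projective.of_split (cent φ).val.toLinearMap π' (by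
      ext c
      exact congrArg Subtype.val (hπ' c))
  have hfaithC : FaithfulSMul R (cent φ) := by
    rw [faithfulSMul_iff_algebraMap_injective]
    intro r r' hrr
    apply FaithfulSMul.algebraMap_injective R E
    have := congrArg (Subtype.val : cent φ → E) hrr
    exact this
  rw [isAzumaya_iff]
  refine ⟨hprojC, hfaithC, hfinC, ?_⟩
  -- bijectivity of `lr`
  haveI hT : IsAzumaya R (A ⊗[R] cent φ) := IsAzumaya.of_AlgEquiv R _ _ (mulEquiv φ).symm
  obtain ⟨-, -, -, hbijT⟩ := (isAzumaya_iff R (A ⊗[R] cent φ)).1 hT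
  have h1 : Function.Bijective (TensorProduct.map (lr R A) (lr R (cent φ))) := by
    have hsq : ⇑(lr R (A ⊗[R] cent φ)) ∘ ⇑(TensorProduct.tensorTensorTensorComm R A A (cent φ) (cent φ)) =
        ⇑(homTensorHomEquiv R A (cent φ) A (cent φ)) ∘
          ⇑(TensorProduct.map (lr R A) (lr R (cent φ))) := by
      funext x
      simp only [Function.comp_apply, homTensorHomEquiv_apply]
      rw [lr_tensor_square]
    have h2 : Function.Bijective (⇑(homTensorHomEquiv R A (cent φ) A (cent φ)) ∘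
          ⇑(TensorProduct.map (lr R A) (lr R (cent φ)))) := by
      rw [← hsq]
      exact hbijT.comp (LinearEquiv.bijective _)
    exact (Function.Bijective.of_comp_iff' (LinearEquiv.bijective _) _).1 h2
  have h3 : Function.Bijective ((lr R (cent φ)).lTensor (A ⊗[R] A)) := by
    have hcomp : TensorProduct.map (lr R A) (lr R (cent φ)) =
        ((lr R A).rTensor (Module.End R (cent φ))) ∘ₗ ((lr R (cent φ)).lTensor (A ⊗[R] A)) := by
      apply TensorProduct.ext'
      intro x y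
      simp
    rw [hcomp] at h1
    have h4 : Function.Bijective ((lr R A).rTensor (Module.End R (cent φ))) :=
      (TensorProduct.congr (LinearEquiv.ofBijective (lr R A) hbij)
        (LinearEquiv.refl R (Module.End R (cent φ)))).bijective
    exact (Function.Bijective.of_comp_iff' h4 _).1 h1
  exact bijective_of_lTensor_bijective ((1 : A) ⊗ₜ[R] (1 : A))
    (LinearMap.mul' R R ∘ₗ TensorProduct.map ρ ρ) (by simp [hρ]) _ h3

end cent

section op
universe u v
variable (R : Type u) [CommRing R] (A : Type v) [Ring A] [Algebra R A]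

theorem lr_op (s : Aᵐᵒᵖ ⊗[R] Aᵐᵒᵖ) (z : A) :
    (lr R Aᵐᵒᵖ s (MulOpposite.op z)).unop =
      lr R A (TensorProduct.comm R A A (TensorProduct.map (MulOpposite.opLinearEquiv R).symm.toLinearMap
        (MulOpposite.opLinearEquiv R).symm.toLinearMap s)) z := by
  induction s using TensorProduct.induction_on with
  | zero => simp
  | add a b ha hb => simp only [map_add, LinearMap.add_apply, MulOpposite.unop_add, ha, hb]
  | tmul a b => simp [mul_assoc]

/-- The opposite of an Azumaya algebra is Azumaya. -/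
theorem isAzumaya_op [IsAzumaya R A] : IsAzumaya R Aᵐᵒᵖ := by
  obtain ⟨hproj, hfaith, hfin, hbij⟩ := (isAzumaya_iff R A).1 inferInstance
  rw [isAzumaya_iff]
  refine ⟨Module.Projective.of_equiv (MulOpposite.opLinearEquiv R : A ≃ₗ[R] Aᵐᵒᵖ), ?_,
    Module.Finite.equiv (MulOpposite.opLinearEquiv R : A ≃ₗ[R] Aᵐᵒᵖ), ?_⟩
  · rw [faithfulSMul_iff_algebraMap_injective]
    intro r r' hrr
    apply FaithfulSMul.algebraMap_injective R A
    have := congrArg MulOpposite.unop hrr
    simpa using this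
  · let e : Aᵐᵒᵖ ⊗[R] Aᵐᵒᵖ ≃ₗ[R] A ⊗[R] A :=
      (TensorProduct.congr (MulOpposite.opLinearEquiv R).symm (MulOpposite.opLinearEquiv R).symm) ≪≫ₗ
        TensorProduct.comm R A A
    have he : ∀ s z, (lr R Aᵐᵒᵖ s (MulOpposite.op z)).unop = lr R A (e s) z := fun s z => lr_op R A s z
    constructor
    · rw [← LinearMap.ker_eq_bot, LinearMap.ker_eq_bot']
      intro s hs
      have : lr R A (e s) = 0 := by
        ext z
        rw [← he, hs]
        simp
      have := (LinearMap.ker_eq_bot'.1 (LinearMap.ker_eq_bot.2 hbij.1)) _ this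
      simpa using this
    · intro F
      let F' : Module.End R A :=
        (MulOpposite.opLinearEquiv R).symm.toLinearMap ∘ₗ F ∘ₗ (MulOpposite.opLinearEquiv R).toLinearMap
      obtain ⟨s', hs'⟩ := hbij.2 F'
      refine ⟨e.symm s', ?_⟩
      ext z
      obtain ⟨z, rfl⟩ := MulOpposite.op_surjective z
      apply MulOpposite.unop_injective
      rw [he, LinearEquiv.apply_symm_apply, hs']
      rfl

end op

section brauer
universe u v w
variable {R : Type u} [CommRing R] {A : Type v} [Ring A] [Algebra R A] [IsAzumaya R A]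
  {E : Type w} [Ring E] [Algebra R E] [IsAzumaya R E] (φ : A →ₐ[R] E)

/-- `A ⊗ End_R(C) ≃ₐ Cᵐᵒᵖ ⊗ E` for `C = C_E(A)`: `A` and `Cᵐᵒᵖ` are Brauer equivalent when `E` is an
endomorphism algebra. -/
theorem nonempty_brauerEquiv :
    Nonempty (A ⊗[R] Module.End R (cent φ) ≃ₐ[R] (cent φ)ᵐᵒᵖ ⊗[R] E) := by
  haveI := isAzumaya_cent φ
  let e1 : (cent φ) ⊗[R] (cent φ)ᵐᵒᵖ ≃ₐ[R] Module.End R (cent φ) :=
    AlgEquiv.ofBijective (AlgHom.mulLeftRight R (cent φ)) IsAzumaya.bij
  let e2 : A ⊗[R] Module.End R (cent φ) ≃ₐ[R] A ⊗[R] ((cent φ) ⊗[R] (cent φ)ᵐᵒᵖ) :=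
    Algebra.TensorProduct.congr AlgEquiv.refl e1.symm
  let e3 : A ⊗[R] ((cent φ) ⊗[R] (cent φ)ᵐᵒᵖ) ≃ₐ[R] (A ⊗[R] (cent φ)) ⊗[R] (cent φ)ᵐᵒᵖ :=
    (Algebra.TensorProduct.assoc R R R A (cent φ) (cent φ)ᵐᵒᵖ).symm
  let e4 : (A ⊗[R] (cent φ)) ⊗[R] (cent φ)ᵐᵒᵖ ≃ₐ[R] E ⊗[R] (cent φ)ᵐᵒᵖ :=
    Algebra.TensorProduct.congr (mulEquiv φ) AlgEquiv.refl
  let e5 : E ⊗[R] (cent φ)ᵐᵒᵖ ≃ₐ[R] (cent φ)ᵐᵒᵖ ⊗[R] E := Algebra.TensorProduct.comm R _ _
  exact ⟨e2.trans (e3.trans (e4.trans e5))⟩

end brauer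

end Groth.Agent.Lib.AzumayaDCT16
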