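import Mathlib
import Groth.Agent.Lib.AzumayaEtaleLocal16
import Groth.Agent.Lib.AzumayaRank16

/-!
# Global faithfully flat splitting of Azumaya algebras of constant rank (helper16)

`exists_cover_realization`: an Azumaya algebra `A` of constant rank `n²` over `R` admits an
`R`-algebra homomorphism `A → M_n(R')` into matrices over a faithfully flat `R`-algebra `R'`
(a finite product of finite étale covers of basic opens).
-/

set_option autoImplicit false
set_option linter.style.haveILetI false
universe u v w

open scoped TensorProduct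

namespace Groth.Agent.Lib.AzumayaGlobalSplit16

open Groth.Agent.Lib.Azumaya16 Groth.Agent.Lib.AzumayaRank16

variable (R : Type u) [CommRing R] (A : Type u) [Ring A] [Algebra R A]

/-- a local piece of a splitting cover: a flat algebra covering `D(f)` with a realization -/
def Good (n : ℕ) (f : R) : Prop :=
  ∃ (R' : Type u) (_ : CommRing R') (_ : Algebra R R'), Module.Flat R R' ∧
    (∀ q : PrimeSpectrum R, f ∉ q.asIdeal →
      ∃ q' : PrimeSpectrum R', PrimeSpectrum.comap (algebraMap R R') q' = q) ∧
    Nonempty (A →ₐ[R] Matrix (Fin n) (Fin n) R')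

variable [IsAzumaya R A] in
theorem exists_good (n : ℕ) (hrk : ∀ p : PrimeSpectrum R, Module.rankAtStalk A p = n ^ 2)
    (p : PrimeSpectrum R) : ∃ f : R, f ∉ p.asIdeal ∧ Good R A n f := by
  obtain ⟨a1, a2, a3, a4⟩ := (isAzumaya_iff R A).1 inferInstance
  obtain ⟨f, hfp, R', _, _, _, _, hfin, het, hff, r, hr, ⟨φ⟩⟩ :=
    Groth.Agent.Lib.AzumayaEtaleLocal16.exists_split_cover R A p.asIdeal
  refine ⟨f, hfp, R', inferInstance, inferInstance, ?_, ?_, ?_⟩
  · exact Module.Flat.trans R (Localization.Away f) R'
  · intro q hq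
    have hq' : q ∈ Set.range (PrimeSpectrum.comap (algebraMap R (Localization.Away f))) := by
      rw [PrimeSpectrum.localization_away_comap_range (Localization.Away f) f]
      exact hq
    obtain ⟨q₁, rfl⟩ := hq'
    obtain ⟨q', rfl⟩ := PrimeSpectrum.comap_surjective_of_faithfullyFlat
      (A := Localization.Away f) (B := R') q₁
    refine ⟨q', ?_⟩
    rw [IsScalarTower.algebraMap_eq R (Localization.Away f) R']
    rfl
  · -- the rank
    have hp' : p ∈ Set.range (PrimeSpectrum.comap (algebraMap R (Localization.Away f))) := by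
      rw [PrimeSpectrum.localization_away_comap_range (Localization.Away f) f]
      exact hfp
    obtain ⟨q₁, hq₁⟩ := hp'
    obtain ⟨q', hq'⟩ := PrimeSpectrum.comap_surjective_of_faithfullyFlat
      (A := Localization.Away f) (B := R') q₁
    haveI : Nontrivial R' := ⟨⟨0, 1, fun h => q'.isPrime.ne_top
      ((Ideal.eq_top_iff_one _).2 (h ▸ q'.asIdeal.zero_mem))⟩⟩
    have h1 : Module.rankAtStalk (R' ⊗[R] A) q' = n ^ 2 := by
      rw [Module.rankAtStalk_baseChange, hrk]
    have h2 : Module.rankAtStalk (R' ⊗[R] A) q' = r ^ 2 := by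
      rw [Module.rankAtStalk_eq_of_equiv φ.toLinearEquiv, Module.rankAtStalk_eq_finrank_of_free,
        Module.finrank_matrix]
      simp [pow_two]
    have hrn : r = n := by
      have : r ^ 2 = n ^ 2 := h2.symm.trans h1
      exact Nat.pow_left_injective (by norm_num) this
    subst hrn
    exact ⟨φ.toAlgHom.restrictScalars R |>.comp
      (Algebra.TensorProduct.includeRight : A →ₐ[R] R' ⊗[R] A)⟩


section Pi

variable {R A} {ι : Type v} [Fintype ι] (S : ι → Type w) [∀ t, CommRing (S t)]
  [∀ t, Algebra R (S t)] {n : ℕ}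

/-- a family of matrix representations over `S t` gives one over the product ring -/
def piMatrixAlgHom (ρ : ∀ t, A →ₐ[R] Matrix (Fin n) (Fin n) (S t)) :
    A →ₐ[R] Matrix (Fin n) (Fin n) (∀ t, S t) where
  toFun a := Matrix.of fun i j t => ρ t a i j
  map_one' := by
    ext i j t
    simp only [Matrix.of_apply, map_one, Matrix.one_apply]
    split_ifs <;> rfl
  map_mul' a b := by
    ext i j t
    simp only [Matrix.of_apply, map_mul, Matrix.mul_apply, Finset.sum_apply, Pi.mul_apply]
  map_zero' := by
    ext i j t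
    simp
  map_add' a b := by
    ext i j t
    simp
  commutes' r := by
    ext i j t
    simp only [Matrix.of_apply, AlgHom.commutes, Matrix.algebraMap_matrix_apply]
    split_ifs <;> rfl

end Pi

variable [IsAzumaya R A]

/-- **global faithfully flat splitting** of an Azumaya algebra of constant rank `n²` -/
theorem exists_cover_realization (n : ℕ)
    (hrk : ∀ p : PrimeSpectrum R, Module.rankAtStalk A p = n ^ 2) :
    ∃ (R' : Type u) (_ : CommRing R') (_ : Algebra R R'), Module.FaithfullyFlat R R' ∧
      Nonempty (A →ₐ[R] Matrix (Fin n) (Fin n) R') := by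
  classical
  have hI : Ideal.span {f : R | Good R A n f} = ⊤ := by
    by_contra hne
    obtain ⟨m, hm, hle⟩ := Ideal.exists_le_maximal _ hne
    obtain ⟨f, hf, hg⟩ := exists_good R A n hrk ⟨m, hm.isPrime⟩
    exact hf (hle (Ideal.subset_span hg))
  have h1 : (1 : R) ∈ Ideal.span {f : R | Good R A n f} := by rw [hI]; trivial
  obtain ⟨T, hT, h1T⟩ := Submodule.mem_span_finite_of_mem_span h1
  choose R' hCR hAlg hflat hcov hρ using fun t : T => hT t.2
  letI : ∀ t, CommRing (R' t) := hCR
  letI : ∀ t, Algebra R (R' t) := hAlg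
  haveI : ∀ t, Module.Flat R (R' t) := hflat
  haveI : Module.Flat R (∀ t, R' t) :=
    Module.Flat.of_linearEquiv (DirectSum.linearEquivFunOnFintype R T R').symm
  refine ⟨∀ t, R' t, inferInstance, inferInstance, ?_, ⟨piMatrixAlgHom R' fun t => (hρ t).some⟩⟩
  apply Module.FaithfullyFlat.of_comap_surjective
  intro q
  -- some `t ∈ T` is not in `q`
  have hex : ∃ t : T, (t : R) ∉ q.asIdeal := by
    by_contra hall
    push Not at hall
    have hle : Ideal.span (T : Set R) ≤ q.asIdeal := Ideal.span_le.2 fun t ht => hall ⟨t, ht⟩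
    exact q.isPrime.ne_top ((Ideal.eq_top_iff_one _).2 (hle h1T))
  obtain ⟨t, ht⟩ := hex
  obtain ⟨q', hq'⟩ := hcov t q ht
  refine ⟨PrimeSpectrum.comap (Pi.evalRingHom R' t) q', ?_⟩
  rw [← hq']
  rfl

end Groth.Agent.Lib.AzumayaGlobalSplit16
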