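import Mathlib
import Groth.Agent.Lib.AzumayaGlobalSplit16

/-!
# Faithfully flat, finitely presented splitting of Azumaya algebras of constant rank (helper16)

`exists_fp_splitting`: an Azumaya algebra `A` of constant rank `n²` (`n ≥ 1`) over `R` becomes isomorphic to `M_n(R')` over a
faithfully flat, finitely presented `R`-algebra `R'` (a finite product of finite étale covers of basic opens).
-/

set_option autoImplicit false
set_option linter.style.haveILetI false
set_option linter.unusedSectionVars false
set_option linter.unusedSimpArgs false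
set_option linter.unusedVariables false

namespace Groth.Agent.Lib.AzumayaFPSplit16
open TensorProduct
open Groth.Agent.Lib.Azumaya16 Groth.Agent.Lib.AzumayaRank16 Groth.Agent.Lib.AzumayaGlobalSplit16

universe u

variable (R : Type u) [CommRing R] (A : Type u) [Ring A] [Algebra R A]

/-- a local piece of a finitely presented splitting cover. -/
def GoodFP (n : ℕ) (f : R) : Prop :=
  ∃ (R' : Type u) (_ : CommRing R') (_ : Algebra R R'), Module.Flat R R' ∧
    Algebra.FinitePresentation R R' ∧
    (∀ q : PrimeSpectrum R, f ∉ q.asIdeal →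
      ∃ q' : PrimeSpectrum R', PrimeSpectrum.comap (algebraMap R R') q' = q) ∧
    Nonempty (A →ₐ[R] Matrix (Fin n) (Fin n) R')

variable [IsAzumaya R A] in
theorem exists_goodFP (n : ℕ) (hrk : ∀ p : PrimeSpectrum R, Module.rankAtStalk A p = n ^ 2)
    (p : PrimeSpectrum R) : ∃ f : R, f ∉ p.asIdeal ∧ GoodFP R A n f := by
  obtain ⟨f, hfp, R', _, _, _, _, hfin, het, hff, r, hr, ⟨φ⟩⟩ :=
    Groth.Agent.Lib.AzumayaEtaleLocal16.exists_split_cover R A p.asIdeal
  refine ⟨f, hfp, R', inferInstance, inferInstance, ?_, ?_, ?_, ?_⟩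
  · exact Module.Flat.trans R (Localization.Away f) R'
  · haveI : Algebra.FinitePresentation R (Localization.Away f) :=
      IsLocalization.Away.finitePresentation f
    haveI : Algebra.FinitePresentation (Localization.Away f) R' := het.finitePresentation
    exact Algebra.FinitePresentation.trans R (Localization.Away f) R'
  · intro q hq
    have hq' : q ∈ Set.range (PrimeSpectrum.comap (algebraMap R (Localization.Away f))) := by
      rw [PrimeSpectrum.localization_away_comap_range (Localization.Away f) f]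
      exact hq
    obtain ⟨q₁, rfl⟩ := hq'
    obtain ⟨q', rfl⟩ := PrimeSpectrum.comap_surjective_of_faithfullyFlat
      (A := Localization.Away f) (B := R') q₁
    refine ⟨q', ?_⟩
    rw [IsScalarTower.algebraMap_eq R (Localization.Away f) R']
    rfl
  · have hp' : p ∈ Set.range (PrimeSpectrum.comap (algebraMap R (Localization.Away f))) := by
      rw [PrimeSpectrum.localization_away_comap_range (Localization.Away f) f]
      exact hfp
    obtain ⟨q₁, hq₁⟩ := hp'
    obtain ⟨q', hq'⟩ := PrimeSpectrum.comap_surjective_of_faithfullyFlat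
      (A := Localization.Away f) (B := R') q₁
    haveI : Nontrivial R' := ⟨⟨0, 1, fun h => q'.isPrime.ne_top
      ((Ideal.eq_top_iff_one _).2 (h ▸ q'.asIdeal.zero_mem))⟩⟩
    have h1 : Module.rankAtStalk (R' ⊗[R] A) q' = n ^ 2 := by
      rw [Module.rankAtStalk_baseChange, hrk]
    have h2 : Module.rankAtStalk (R' ⊗[R] A) q' = r ^ 2 := by
      rw [Module.rankAtStalk_eq_of_equiv φ.toLinearEquiv, Module.rankAtStalk_eq_finrank_of_free,
        Module.finrank_matrix]
      simp [pow_two]
    have hrn : r = n := by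
      have : r ^ 2 = n ^ 2 := h2.symm.trans h1
      exact Nat.pow_left_injective (by norm_num) this
    subst hrn
    exact ⟨φ.toAlgHom.restrictScalars R |>.comp
      (Algebra.TensorProduct.includeRight : A →ₐ[R] R' ⊗[R] A)⟩

variable [IsAzumaya R A]

/-- **global faithfully flat finitely presented splitting** of an Azumaya algebra of constant rank `n²`. -/
theorem exists_fp_splitting (n : ℕ) (hn : 1 ≤ n)
    (hrk : ∀ p : PrimeSpectrum R, Module.rankAtStalk A p = n ^ 2) :
    ∃ (R' : Type u) (_ : CommRing R') (_ : Algebra R R'), Module.FaithfullyFlat R R' ∧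
      Algebra.FinitePresentation R R' ∧
      Nonempty ((R' ⊗[R] A) ≃ₐ[R'] Matrix (Fin n) (Fin n) R') := by
  classical
  have hI : Ideal.span {f : R | GoodFP R A n f} = ⊤ := by
    by_contra hne
    obtain ⟨m, hm, hle⟩ := Ideal.exists_le_maximal _ hne
    obtain ⟨f, hf, hg⟩ := exists_goodFP R A n hrk ⟨m, hm.isPrime⟩
    exact hf (hle (Ideal.subset_span hg))
  have h1 : (1 : R) ∈ Ideal.span {f : R | GoodFP R A n f} := by rw [hI]; trivial
  obtain ⟨T, hT, h1T⟩ := Submodule.mem_span_finite_of_mem_span h1
  choose R' hCR hAlg hflat hfp hcov hρ using fun t : T => hT t.2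
  letI : ∀ t, CommRing (R' t) := hCR
  letI : ∀ t, Algebra R (R' t) := hAlg
  haveI : ∀ t, Module.Flat R (R' t) := hflat
  haveI : ∀ t, Algebra.FinitePresentation R (R' t) := hfp
  haveI : Module.Flat R (∀ t, R' t) :=
    Module.Flat.of_linearEquiv (DirectSum.linearEquivFunOnFintype R T R').symm
  have hff : Module.FaithfullyFlat R (∀ t, R' t) := by
    apply Module.FaithfullyFlat.of_comap_surjective
    intro q
    have hex : ∃ t : T, (t : R) ∉ q.asIdeal := by
      by_contra hall
      push Not at hall
      have hle : Ideal.span (T : Set R) ≤ q.asIdeal := Ideal.span_le.2 fun t ht => hall ⟨t, ht⟩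
      exact q.isPrime.ne_top ((Ideal.eq_top_iff_one _).2 (hle h1T))
    obtain ⟨t, ht⟩ := hex
    obtain ⟨q', hq'⟩ := hcov t q ht
    refine ⟨PrimeSpectrum.comap (Pi.evalRingHom R' t) q', ?_⟩
    rw [← hq']
    rfl
  refine ⟨∀ t, R' t, inferInstance, inferInstance, hff, inferInstance, ?_⟩
  set S := ∀ t, R' t with hS
  let ρ : A →ₐ[R] Matrix (Fin n) (Fin n) S := piMatrixAlgHom R' fun t => (hρ t).some
  let ψ : S ⊗[R] A →ₐ[S] Matrix (Fin n) (Fin n) S :=
    Algebra.TensorProduct.lift (Algebra.ofId S (Matrix (Fin n) (Fin n) S)) ρ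
      (fun s a => Algebra.commutes s (ρ a))
  haveI : Nonempty (Fin n) := ⟨⟨0, hn⟩⟩
  haveI : IsAzumaya S (S ⊗[R] A) := isAzumaya_baseChange R S A
  haveI : IsAzumaya S (Matrix (Fin n) (Fin n) S) := IsAzumaya.matrix S (Fin n)
  have hbij : Function.Bijective ψ := by
    apply algHom_bijective_of_rank S (S ⊗[R] A) (Matrix (Fin n) (Fin n) S) ψ
    intro q
    haveI : Nontrivial S := ⟨⟨0, 1, fun h => q.isPrime.ne_top
      ((Ideal.eq_top_iff_one _).2 (h ▸ q.asIdeal.zero_mem))⟩⟩
    rw [Module.rankAtStalk_baseChange, hrk, Module.rankAtStalk_eq_finrank_of_free,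
      Module.finrank_matrix]
    simp [pow_two]
  exact ⟨AlgEquiv.ofBijective ψ hbij⟩

end Groth.Agent.Lib.AzumayaFPSplit16
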