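import Mathlib
import Groth.Agent.Lib.AzumayaDCT16b
import Groth.Agent.Lib.AzumayaRank16

/-!
# Idempotents in Azumaya algebras over connected rings (helper16)

For an idempotent `e` of an `R`-algebra `A`: the left ideal `Pe e = A e` as an `R`-module, the left
multiplication representation `phiE e : A →ₐ[R] End_R (A e)`; if `e` is a primitive idempotent the
centralizer of `A` in `End_R (A e)` (`= End_A(A e) ≅ (e A e)ᵒᵖ`) has only trivial idempotents
(`idem_cent`).  Over a connected ring every finite projective algebra `A ≠ 0` has a primitive idempotent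
(`exists_primitive`).
-/

set_option autoImplicit false
set_option linter.style.haveILetI false

namespace Groth.Agent.Lib.AzumayaIdem16
open TensorProduct Groth.Agent.Lib.Azumaya16 Groth.Agent.Lib.AzumayaDCT16

section basic
universe u v
variable {R : Type u} [CommRing R] {A : Type v} [Ring A] [Algebra R A]

/-- the left ideal `A e` as an `R`-submodule. -/
def Pe (e : A) : Submodule R A := LinearMap.range (LinearMap.mulRight R e)

theorem mem_Pe {e x : A} : x ∈ Pe (R := R) e ↔ ∃ a, a * e = x := by
  simp [Pe, LinearMap.mem_range]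

theorem mul_mem_Pe (e a : A) : a * e ∈ Pe (R := R) e := mem_Pe.2 ⟨a, rfl⟩

theorem mul_idem_of_mem {e x : A} (he : IsIdempotentElem e) (hx : x ∈ Pe (R := R) e) : x * e = x := by
  obtain ⟨a, rfl⟩ := mem_Pe.1 hx
  rw [mul_assoc, he.eq]

theorem self_mem_Pe {e : A} (he : IsIdempotentElem e) : e ∈ Pe (R := R) e :=
  mem_Pe.2 ⟨e, he.eq⟩

theorem left_mul_mem {e x : A} (a : A) (hx : x ∈ Pe (R := R) e) : a * x ∈ Pe (R := R) e := by
  obtain ⟨b, rfl⟩ := mem_Pe.1 hx
  rw [← mul_assoc]
  exact mul_mem_Pe e _

/-- retraction `A → A e`. -/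
def retr (e : A) : A →ₗ[R] Pe (R := R) e := (LinearMap.mulRight R e).rangeRestrict

theorem retr_apply (e a : A) : ((retr (R := R) e a : Pe (R := R) e) : A) = a * e := rfl

theorem retr_subtype {e : A} (he : IsIdempotentElem e) (x : Pe (R := R) e) : retr (R := R) e (x : A) = x := by
  apply Subtype.ext
  rw [retr_apply, mul_idem_of_mem he x.2]

instance finite_Pe [Module.Finite R A] (e : A) : Module.Finite R (Pe (R := R) e) :=
  Module.Finite.range _

theorem projective_Pe [Module.Projective R A] {e : A} (he : IsIdempotentElem e) :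
    Module.Projective R (Pe (R := R) e) :=
  Module.Projective.of_split (Pe (R := R) e).subtype (retr e) (by
    ext x
    exact congrArg Subtype.val (retr_subtype he x))

/-- left multiplication of `A` on `A e`. -/
def phiE (e : A) : A →ₐ[R] Module.End R (Pe (R := R) e) where
  toFun a := (LinearMap.mulLeft R a).restrict (fun x hx => left_mul_mem a hx)
  map_one' := by
    ext x
    simp [LinearMap.restrict_apply]
  map_mul' a b := by
    ext x
    simp [LinearMap.restrict_apply, mul_assoc]
  map_zero' := by
    ext x
    simp [LinearMap.restrict_apply]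
  map_add' a b := by
    ext x
    simp [LinearMap.restrict_apply, add_mul]
  commutes' r := by
    ext x
    simp [LinearMap.restrict_apply, Algebra.algebraMap_eq_smul_one]

@[simp] theorem phiE_apply (e a : A) (x : Pe (R := R) e) : ((phiE e a x : Pe (R := R) e) : A) = a * x := rfl

/-- an idempotent `e` is primitive if the only idempotents `f` with `e f = f = f e` are `0` and `e`. -/
def IsPrimitive (e : A) : Prop :=
  IsIdempotentElem e ∧ e ≠ 0 ∧ ∀ f : A, IsIdempotentElem f → e * f = f → f * e = f → f = 0 ∨ f = e

/-- If `e` is primitive, the centralizer of `A` in `End_R (A e)` has only trivial idempotents. -/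
theorem idem_cent {e : A} (he : IsPrimitive (A := A) e) (g : Module.End R (Pe (R := R) e))
    (hg : g ∈ cent (phiE (R := R) e)) (hgi : IsIdempotentElem g) : g = 0 ∨ g = 1 := by
  obtain ⟨hei, he0, hprim⟩ := he
  rw [mem_cent_iff] at hg
  let eP : Pe (R := R) e := ⟨e, self_mem_Pe hei⟩
  let f : A := (g eP : A)
  have hgA : ∀ (a : A) (x : Pe (R := R) e), ((g (phiE e a x) : Pe (R := R) e) : A) = a * (g x : A) := by
    intro a x
    have := congrArg (fun h : Module.End R (Pe (R := R) e) => ((h x : Pe (R := R) e) : A)) (hg a)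
    simp only [Module.End.mul_apply] at this
    rw [← this]
    rfl
  have hx : ∀ x : Pe (R := R) e, x = phiE e (x : A) eP := by
    intro x
    apply Subtype.ext
    rw [phiE_apply]
    exact (mul_idem_of_mem hei x.2).symm
  have hgx : ∀ x : Pe (R := R) e, ((g x : Pe (R := R) e) : A) = (x : A) * f := by
    intro x
    conv_lhs => rw [hx x]
    rw [hgA]
  have hfe : f * e = f := mul_idem_of_mem hei (g eP).2
  have hef : e * f = f := by
    have := hgx eP
    exact this.symm
  have hff : f * f = f := by
    have h1 : ((g (g eP) : Pe (R := R) e) : A) = f * f := hgx (g eP)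
    have h2 : g (g eP) = g eP := by
      have := congrArg (fun h : Module.End R (Pe (R := R) e) => h eP) hgi.eq
      simpa using this
    rw [h2] at h1
    exact h1.symm
  rcases hprim f hff hef hfe with h0 | h1
  · left
    ext x
    rw [hgx, h0, mul_zero]
    rfl
  · right
    ext x
    rw [hgx, h1, mul_idem_of_mem hei x.2]
    rfl

end basic

section split
universe u v
variable {R : Type u} [CommRing R] {A : Type v} [Ring A] [Algebra R A]

/-- `A e ≃ A f × A (e - f)` for idempotents `f ≤ e`. -/
noncomputable def splitEquiv {e f : A} (he : IsIdempotentElem e) (hf : IsIdempotentElem f)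
    (hef : e * f = f) (hfe : f * e = f) :
    Pe (R := R) e ≃ₗ[R] Pe (R := R) f × Pe (R := R) (e - f) where
  toFun x := (retr f (x : A), retr (e - f) (x : A))
  map_add' x y := by simp
  map_smul' r x := by simp
  invFun y := ⟨(y.1 : A) + (y.2 : A), by
    obtain ⟨a, ha⟩ := mem_Pe.1 y.1.2
    obtain ⟨b, hb⟩ := mem_Pe.1 y.2.2
    refine mem_Pe.2 ⟨(y.1 : A) + (y.2 : A), ?_⟩
    rw [← ha, ← hb, add_mul, mul_assoc, hfe, mul_assoc, sub_mul, he.eq, hfe]⟩
  left_inv x := by
    apply Subtype.ext
    change (x : A) * f + (x : A) * (e - f) = x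
    rw [← mul_add, add_sub_cancel, mul_idem_of_mem he x.2]
  right_inv y := by
    obtain ⟨a, ha⟩ := mem_Pe.1 y.1.2
    obtain ⟨b, hb⟩ := mem_Pe.1 y.2.2
    have h1 : (e - f) * f = 0 := by rw [sub_mul, hef, hf.eq, sub_self]
    have h2 : f * (e - f) = 0 := by rw [mul_sub, hfe, hf.eq, sub_self]
    have h3 : (e - f) * (e - f) = e - f := by
      rw [mul_sub, sub_mul, sub_mul, he.eq, hfe, hef, hf.eq, sub_self, sub_zero]
    apply Prod.ext
    · apply Subtype.ext
      change ((y.1 : A) + (y.2 : A)) * f = y.1
      rw [← ha, ← hb, add_mul, mul_assoc, hf.eq, mul_assoc, h1, mul_zero, add_zero]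
    · apply Subtype.ext
      change ((y.1 : A) + (y.2 : A)) * (e - f) = y.2
      rw [← ha, ← hb, add_mul, mul_assoc, h2, mul_zero, zero_add, mul_assoc, h3]

end split

section connected
universe u v
variable {R : Type u} [CommRing R] [ConnectedSpace (PrimeSpectrum R)]

/-- over a connected ring, the rank of a finite projective module is constant. -/
theorem rankAtStalk_eq_of_connected (M : Type v) [AddCommGroup M] [Module R M] [Module.Finite R M]
    [Module.Projective R M] (p q : PrimeSpectrum R) :
    Module.rankAtStalk M p = Module.rankAtStalk M q := by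
  haveI : Module.FinitePresentation R M := Module.finitePresentation_of_projective R M
  exact (Module.isLocallyConstant_rankAtStalk (R := R) (M := M)).apply_eq_of_preconnectedSpace p q

theorem subsingleton_of_rankAtStalk_eq_zero (M : Type v) [AddCommGroup M] [Module R M] [Module.Finite R M]
    [Module.Projective R M] (p : PrimeSpectrum R) (h : Module.rankAtStalk M p = 0) : Subsingleton M := by
  rw [← Module.rankAtStalk_eq_zero_iff_subsingleton (R := R)]
  funext q
  rw [rankAtStalk_eq_of_connected M q p, h]
  rfl

theorem faithfulSMul_of_nontrivial (M : Type v) [AddCommGroup M] [Module R M] [Module.Finite R M]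
    [Module.Projective R M] [Nontrivial M] : FaithfulSMul R M := by
  apply Groth.Agent.Lib.AzumayaRank16.faithfulSMul_of_rankAtStalk_pos
  intro p
  rw [Nat.pos_iff_ne_zero]
  intro h
  have := subsingleton_of_rankAtStalk_eq_zero M p h
  exact not_subsingleton M this

/-- existence of primitive idempotents. -/
theorem exists_primitive (R : Type u) [CommRing R] [ConnectedSpace (PrimeSpectrum R)]
    {A : Type v} [Ring A] [Algebra R A] [Module.Finite R A] [Module.Projective R A]
    [Nontrivial A] : ∃ e : A, IsPrimitive (A := A) e := by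
  classical
  obtain ⟨p₀⟩ : Nonempty (PrimeSpectrum R) := inferInstance
  let S : Set ℕ := {k | ∃ e : A, IsIdempotentElem e ∧ e ≠ 0 ∧ Module.rankAtStalk (Pe (R := R) e) p₀ = k}
  have hS : S.Nonempty := ⟨_, 1, IsIdempotentElem.one, one_ne_zero, rfl⟩
  obtain ⟨e, hei, he0, hek⟩ := Nat.sInf_mem hS
  refine ⟨e, hei, he0, fun f hf hef hfe => ?_⟩
  by_cases hf0 : f = 0
  · exact Or.inl hf0
  right
  have hle : Module.rankAtStalk (Pe (R := R) e) p₀ ≤ Module.rankAtStalk (Pe (R := R) f) p₀ := by
    rw [hek]
    exact Nat.sInf_le ⟨f, hf, hf0, rfl⟩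
  have h3 : (e - f) * (e - f) = e - f := by
    rw [mul_sub, sub_mul, sub_mul, hei.eq, hfe, hef, hf.eq, sub_self, sub_zero]
  haveI := projective_Pe (R := R) hei
  haveI := projective_Pe (R := R) hf
  haveI := projective_Pe (R := R) (e := e - f) h3
  have hsum : Module.rankAtStalk (Pe (R := R) e) p₀ =
      Module.rankAtStalk (Pe (R := R) f) p₀ + Module.rankAtStalk (Pe (R := R) (e - f)) p₀ := by
    rw [Module.rankAtStalk_eq_of_equiv (splitEquiv (R := R) hei hf hef hfe), Module.rankAtStalk_prod]
    rfl
  have h0 : Module.rankAtStalk (Pe (R := R) (e - f)) p₀ = 0 := by omega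
  have hsub := subsingleton_of_rankAtStalk_eq_zero (Pe (R := R) (e - f)) p₀ h0
  have : (⟨e - f, self_mem_Pe h3⟩ : Pe (R := R) (e - f)) = 0 := Subsingleton.elim _ _
  have h4 : e - f = 0 := congrArg Subtype.val this
  exact (sub_eq_zero.1 h4).symm

end connected

end Groth.Agent.Lib.AzumayaIdem16
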