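import Mathlib
import Groth.Agent.Lib.AzumayaIdem16

/-!
# Brauer classes over connected rings are represented by algebras with trivial idempotents (helper16)
-/

set_option autoImplicit false
set_option linter.style.haveILetI false

namespace Groth.Agent.Lib.AzumayaIdem16
open TensorProduct Groth.Agent.Lib.Azumaya16 Groth.Agent.Lib.AzumayaDCT16

universe u

/-- generic form: a representation `φ : A → End_R(Q)` on a faithfully projective module whose commutant
has only trivial idempotents. -/
theorem exists_rep_of_commutant {R : Type u} [CommRing R] (A : Type u) [Ring A] [Algebra R A]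
    [IsAzumaya R A] (Q : Type u) [AddCommGroup Q] [Module R Q] [Module.Finite R Q]
    [Module.Projective R Q] [FaithfulSMul R Q] (φ : A →ₐ[R] Module.End R Q)
    (hidem : ∀ g : Module.End R Q, g ∈ cent φ → IsIdempotentElem g → g = 0 ∨ g = 1) :
    ∃ (B : Type u) (_ : Ring B) (_ : Algebra R B) (_ : IsAzumaya R B) (P Q : Type u) (_ : AddCommGroup P)
      (_ : Module R P) (_ : AddCommGroup Q) (_ : Module R Q),
      (∀ b : B, IsIdempotentElem b → b = 0 ∨ b = 1) ∧ Module.Finite R P ∧ Module.Projective R P ∧
      FaithfulSMul R P ∧ Module.Finite R Q ∧ Module.Projective R Q ∧ FaithfulSMul R Q ∧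
      Nonempty (A ⊗[R] Module.End R P ≃ₐ[R] B ⊗[R] Module.End R Q) := by
  haveI : IsAzumaya R (Module.End R Q) := isAzumaya_end R Q
  haveI hC : IsAzumaya R (cent φ) := isAzumaya_cent φ
  haveI hCop : IsAzumaya R (cent φ)ᵐᵒᵖ := isAzumaya_op R (cent φ)
  refine ⟨(cent φ)ᵐᵒᵖ, inferInstance, inferInstance, hCop, cent φ, Q, inferInstance, inferInstance,
    inferInstance, inferInstance, ?_, hC.toFinite, hC.toProjective, hC.toFaithfulSMul, inferInstance,
    inferInstance, inferInstance, nonempty_brauerEquiv φ⟩
  intro b hb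
  have hb' : IsIdempotentElem (b.unop : Module.End R Q) := by
    have h1 : b.unop * b.unop = b.unop := by
      have := congrArg MulOpposite.unop hb.eq
      simpa using this
    have := congrArg (Subtype.val : cent φ → Module.End R Q) h1
    exact this
  rcases hidem (b.unop : Module.End R Q) b.unop.2 hb' with h0 | h1
  · left
    apply MulOpposite.unop_injective
    apply Subtype.ext
    exact h0
  · right
    apply MulOpposite.unop_injective
    apply Subtype.ext
    exact h1

theorem exists_trivial_idem_rep {R : Type u} [CommRing R]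
    [ConnectedSpace (PrimeSpectrum R)] (A : Type u) [Ring A] [Algebra R A] [IsAzumaya R A] :
    ∃ (B : Type u) (_ : Ring B) (_ : Algebra R B) (_ : IsAzumaya R B) (P Q : Type u) (_ : AddCommGroup P)
      (_ : Module R P) (_ : AddCommGroup Q) (_ : Module R Q),
      (∀ b : B, IsIdempotentElem b → b = 0 ∨ b = 1) ∧ Module.Finite R P ∧ Module.Projective R P ∧
      FaithfulSMul R P ∧ Module.Finite R Q ∧ Module.Projective R Q ∧ FaithfulSMul R Q ∧
      Nonempty (A ⊗[R] Module.End R P ≃ₐ[R] B ⊗[R] Module.End R Q) := by
  classical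
  obtain ⟨hproj, hfaith, hfin, hbij⟩ := (isAzumaya_iff R A).1 inferInstance
  haveI : Nontrivial R := by
    obtain ⟨p₀⟩ : Nonempty (PrimeSpectrum R) := inferInstance
    exact (PrimeSpectrum.nonempty_iff_nontrivial).1 ⟨p₀⟩
  haveI : Nontrivial A := (FaithfulSMul.algebraMap_injective R A).nontrivial
  obtain ⟨e, he⟩ := exists_primitive R (A := A)
  have hei := he.1
  have he0 := he.2.1
  haveI := projective_Pe (R := R) hei
  haveI : Nontrivial (Pe (R := R) e) :=
    ⟨⟨⟨e, self_mem_Pe hei⟩, 0, fun h => he0 (congrArg Subtype.val h)⟩⟩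
  haveI := faithfulSMul_of_nontrivial (R := R) (Pe (R := R) e)
  exact exists_rep_of_commutant A (Pe (R := R) e) (phiE (R := R) e) (fun g hg hgi => idem_cent he g hg hgi)

end Groth.Agent.Lib.AzumayaIdem16
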