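import Mathlib
import Groth.Agent.Lib.KronPow

/-!
# The alternating vector and the antisymmetrizer in the Kronecker power (helper16)

For a commutative ring `T` and `n : ℕ`, `alt T n : (Fin n → Fin n) → T` is the vector
`∑ σ, sign σ • δ_σ`.  For every `n × n` matrix `Z`: `kron (fun _ => Z) *ᵥ alt = det Z • alt` and
`alt ᵥ* kron (fun _ => Z) = det Z • alt` (Leibniz formula).  `antisym T n := vecMulVec alt alt`.
-/

set_option autoImplicit false
universe u v

open Matrix

namespace Groth.Agent.Lib.KronAlt16

open Groth.Agent.Lib.KronPow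

variable (T : Type u) [CommRing T] (n : ℕ)

/-- the alternating vector `∑ σ, sign σ • δ_σ` -/
def alt : (Fin n → Fin n) → T := fun f =>
  ∑ σ : Equiv.Perm (Fin n), if (⇑σ : Fin n → Fin n) = f then ((Equiv.Perm.sign σ : ℤ) : T) else 0

variable {T n}

lemma alt_perm (τ : Equiv.Perm (Fin n)) : alt T n ⇑τ = ((Equiv.Perm.sign τ : ℤ) : T) := by
  unfold alt
  rw [Finset.sum_eq_single τ]
  · simp
  · intro σ _ hσ
    rw [if_neg]
    intro h
    exact hσ (Equiv.ext (congrFun h))
  · intro h; exact absurd (Finset.mem_univ _) h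

lemma alt_of_not_injective {f : Fin n → Fin n} (hf : ¬ Function.Injective f) : alt T n f = 0 := by
  unfold alt
  apply Finset.sum_eq_zero
  intro σ _
  rw [if_neg]
  intro h
  exact hf (h ▸ σ.injective)

lemma alt_id : alt T n id = 1 := by
  have := alt_perm (T := T) (1 : Equiv.Perm (Fin n))
  simpa using this

lemma sum_mul_alt (c : (Fin n → Fin n) → T) :
    ∑ g : Fin n → Fin n, c g * alt T n g =
      ∑ σ : Equiv.Perm (Fin n), ((Equiv.Perm.sign σ : ℤ) : T) * c ⇑σ := by
  unfold alt
  simp_rw [Finset.mul_sum]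
  rw [Finset.sum_comm]
  refine Finset.sum_congr rfl fun σ _ => ?_
  rw [Finset.sum_eq_single (⇑σ : Fin n → Fin n)]
  · rw [if_pos rfl, mul_comm]
  · intro g _ hg
    rw [if_neg (Ne.symm hg), mul_zero]
  · intro h; exact absurd (Finset.mem_univ _) h

/-- Leibniz: the Kronecker power of `Z` acts on the alternating vector by `det Z`. -/
theorem kron_mulVec_alt (Z : Matrix (Fin n) (Fin n) T) :
    kron (fun _ : Fin n => Z) *ᵥ alt T n = Z.det • alt T n := by
  ext f
  rw [Matrix.mulVec, dotProduct, Pi.smul_apply, smul_eq_mul]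
  simp only [kron_apply]
  rw [sum_mul_alt]
  -- the sum is the determinant of `Z.submatrix f id`
  have h1 : ∑ σ : Equiv.Perm (Fin n), ((Equiv.Perm.sign σ : ℤ) : T) * ∏ i, Z (f i) (σ i) =
      (Z.submatrix f id).det := by
    rw [← Matrix.det_transpose, Matrix.det_apply']
    rfl
  rw [h1]
  by_cases hf : Function.Injective f
  · have hb : Function.Bijective f := Finite.injective_iff_bijective.1 hf
    let τ : Equiv.Perm (Fin n) := Equiv.ofBijective f hb
    have hτ : (⇑τ : Fin n → Fin n) = f := rfl
    rw [← hτ, alt_perm, Matrix.det_permute, mul_comm]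
  · rw [alt_of_not_injective hf, mul_zero]
    rw [Function.Injective] at hf
    push Not at hf
    obtain ⟨i, j, hij, hne⟩ := hf
    exact Matrix.det_zero_of_row_eq hne (by ext k; simp [hij])

theorem alt_vecMul_kron (Z : Matrix (Fin n) (Fin n) T) :
    alt T n ᵥ* kron (fun _ : Fin n => Z) = Z.det • alt T n := by
  ext g
  rw [Matrix.vecMul, dotProduct, Pi.smul_apply, smul_eq_mul]
  simp only [kron_apply]
  have h0 : ∑ f : Fin n → Fin n, alt T n f * ∏ i, Z (f i) (g i) =
      ∑ f : Fin n → Fin n, (∏ i, Z (f i) (g i)) * alt T n f :=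
    Finset.sum_congr rfl fun f _ => mul_comm _ _
  rw [h0, sum_mul_alt]
  have h1 : ∑ σ : Equiv.Perm (Fin n), ((Equiv.Perm.sign σ : ℤ) : T) * ∏ i, Z (σ i) (g i) =
      (Z.submatrix id g).det := by
    rw [Matrix.det_apply']
    rfl
  rw [h1]
  by_cases hg : Function.Injective g
  · have hb : Function.Bijective g := Finite.injective_iff_bijective.1 hg
    let τ : Equiv.Perm (Fin n) := Equiv.ofBijective g hb
    have hτ : (⇑τ : Fin n → Fin n) = g := rfl
    rw [← hτ, alt_perm, Matrix.det_permute', mul_comm]
  · rw [alt_of_not_injective hg, mul_zero]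
    rw [Function.Injective] at hg
    push Not at hg
    obtain ⟨i, j, hij, hne⟩ := hg
    exact Matrix.det_zero_of_column_eq hne (by intro k; simp [hij])

variable (T n) in
/-- the antisymmetrizer, as the rank one matrix `alt altᵀ` -/
def antisym : Matrix (Fin n → Fin n) (Fin n → Fin n) T := Matrix.vecMulVec (alt T n) (alt T n)

theorem kron_mul_antisym (Z : Matrix (Fin n) (Fin n) T) :
    kron (fun _ : Fin n => Z) * antisym T n = Z.det • antisym T n := by
  unfold antisym
  rw [Matrix.mul_vecMulVec, kron_mulVec_alt, Matrix.smul_vecMulVec]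

theorem antisym_mul_kron (Z : Matrix (Fin n) (Fin n) T) :
    antisym T n * kron (fun _ : Fin n => Z) = Z.det • antisym T n := by
  unfold antisym
  rw [Matrix.vecMulVec_mul, alt_vecMul_kron, Matrix.vecMulVec_smul]

/-- conjugation by a Kronecker power fixes the antisymmetrizer -/
theorem kron_conj_antisym (Z Z' : Matrix (Fin n) (Fin n) T) (h : Z * Z' = 1) :
    kron (fun _ : Fin n => Z) * antisym T n * kron (fun _ : Fin n => Z') = antisym T n := by
  rw [kron_mul_antisym, Matrix.smul_mul, antisym_mul_kron, smul_smul, ← Matrix.det_mul, h,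
    Matrix.det_one, one_smul]

theorem antisym_map {T' : Type v} [CommRing T'] (φ : T →+* T') :
    (antisym T n).map φ = antisym T' n := by
  ext f g
  simp only [antisym, Matrix.map_apply, Matrix.vecMulVec_apply, map_mul]
  have : ∀ f, φ (alt T n f) = alt T' n f := by
    intro f
    unfold alt
    rw [map_sum]
    refine Finset.sum_congr rfl fun σ _ => ?_
    split_ifs <;> simp
  rw [this, this]

end Groth.Agent.Lib.KronAlt16
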