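import Mathlib
import Groth.Agent.Lib.KronAlt16
import Groth.Agent.Lib.FFDescent16
import Groth.Agent.Lib.AzumayaRank16
import Groth.Agent.Lib.AzumayaGlobalSplit16
import Groth.Agent.Lib.Azumaya16SN

/-!
# The Brauer class of an Azumaya algebra of rank `n²` is `n`-torsion (helper16)

For an Azumaya algebra `A` of constant rank `n²` over a commutative ring `R` we construct a finite
projective `R`-module `E` of rank `n^n` with `A^{⊗ n} ≅ End_R(E)`:  `E = A^{⊗ n} · e` where `e` is
the antisymmetrizer, obtained by faithfully flat descent from a splitting.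
-/

set_option autoImplicit false
set_option linter.style.haveILetI false
set_option linter.unusedSectionVars false
universe u v w

open scoped TensorProduct
open Matrix

namespace Groth.Agent.Lib.AzumayaTorsion16

open Groth.Agent.Lib.KronPow Groth.Agent.Lib.KronAlt16 Groth.Agent.Lib.CSATpow
  Groth.Agent.Lib.Azumaya16 Groth.Agent.Lib.AzumayaRank16 Groth.Agent.Lib.LGAzumaya16

section RhoN

variable {R : Type u} [CommRing R] {A : Type v} [Ring A] [Algebra R A]
  {T : Type w} [CommRing T] [Algebra R T] {n : ℕ}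

/-- the underlying linear map of `rhoN` -/
noncomputable def rhoNLin (ρ : A →ₐ[R] Matrix (Fin n) (Fin n) T) :
    (⨂[R] _ : Fin n, A) →ₗ[R] Matrix (Fin n → Fin n) (Fin n → Fin n) T :=
  PiTensorProduct.lift (((kronMultilinear T (Fin n) (Fin n)).restrictScalars R).compLinearMap
    (fun _ => ρ.toLinearMap))

lemma rhoNLin_tprod (ρ : A →ₐ[R] Matrix (Fin n) (Fin n) T) (a : Fin n → A) :
    rhoNLin ρ (PiTensorProduct.tprod R a) = kron (fun i => ρ (a i)) := by
  simp [rhoNLin]

/-- the `n`-th tensor power of a matrix representation, acting on the Kronecker power -/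
noncomputable def rhoN (ρ : A →ₐ[R] Matrix (Fin n) (Fin n) T) :
    (⨂[R] _ : Fin n, A) →ₐ[R] Matrix (Fin n → Fin n) (Fin n → Fin n) T :=
  AlgHom.ofLinearMap (rhoNLin ρ)
    (by
      rw [PiTensorProduct.one_def, rhoNLin_tprod]
      simp only [Pi.one_apply, map_one]
      exact kron_one)
    (map_mul_of_tprod (rhoNLin ρ) (fun f g => by
      rw [rhoNLin_tprod, rhoNLin_tprod, rhoNLin_tprod, ← kron_mul]
      simp only [Pi.mul_apply, map_mul]))

lemma rhoN_tprod (ρ : A →ₐ[R] Matrix (Fin n) (Fin n) T) (a : Fin n → A) :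
    rhoN ρ (PiTensorProduct.tprod R a) = kron (fun i => ρ (a i)) :=
  rhoNLin_tprod ρ a

/-- the `T`-linear extension of `rhoN` -/
noncomputable def Psi (ρ : A →ₐ[R] Matrix (Fin n) (Fin n) T) :
    T ⊗[R] (⨂[R] _ : Fin n, A) →ₐ[T] Matrix (Fin n → Fin n) (Fin n → Fin n) T :=
  Algebra.TensorProduct.lift (Algebra.ofId T _) (rhoN ρ) (fun t b => by
    rw [commute_iff_eq, Algebra.ofId_apply, Algebra.commutes])

lemma Psi_tmul (ρ : A →ₐ[R] Matrix (Fin n) (Fin n) T) (t : T) (b : ⨂[R] _ : Fin n, A) :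
    Psi ρ (t ⊗ₜ[R] b) = t • rhoN ρ b := by
  simp [Psi, Algebra.smul_def]

end RhoN


section Naturality

variable {R : Type u} [CommRing R] {A : Type v} [Ring A] [Algebra R A]
  {T : Type w} [CommRing T] [Algebra R T] {n : ℕ}
  {T' : Type*} [CommRing T'] [Algebra R T'] (φ : T →ₐ[R] T')

/-- push a matrix representation forward along a map of coefficient rings -/
noncomputable def pushRep (ρ : A →ₐ[R] Matrix (Fin n) (Fin n) T) :
    A →ₐ[R] Matrix (Fin n) (Fin n) T' :=
  (φ.mapMatrix).comp ρ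

lemma pushRep_apply (ρ : A →ₐ[R] Matrix (Fin n) (Fin n) T) (a : A) :
    pushRep φ ρ a = (ρ a).map φ := rfl

lemma rhoN_pushRep (ρ : A →ₐ[R] Matrix (Fin n) (Fin n) T) (b : ⨂[R] _ : Fin n, A) :
    rhoN (pushRep φ ρ) b = (rhoN ρ b).map φ := by
  induction b using PiTensorProduct.induction_on with
  | smul_tprod r a =>
    rw [map_smul, map_smul, rhoN_tprod, rhoN_tprod, Matrix.map_smul _ _ (fun t => map_smul φ r t)]
    congr 1
    exact (kron_map (φ : T →+* T') (fun i => ρ (a i))).symm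
  | add x y hx hy =>
    rw [map_add, map_add, hx, hy, Matrix.map_add _ (map_add φ)]

lemma Psi_pushRep (ρ : A →ₐ[R] Matrix (Fin n) (Fin n) T) (x : T ⊗[R] (⨂[R] _ : Fin n, A)) :
    Psi (pushRep φ ρ) (Algebra.TensorProduct.map φ (AlgHom.id R _) x) = (Psi ρ x).map φ := by
  induction x using TensorProduct.induction_on with
  | zero => simp
  | add x y hx hy => rw [map_add, map_add, map_add, hx, hy, Matrix.map_add _ (map_add φ)]
  | tmul t b =>
    rw [Algebra.TensorProduct.map_tmul, Psi_tmul, Psi_tmul, rhoN_pushRep, AlgHom.id_apply,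
      Matrix.map_smul' _ _ _ (map_mul φ)]

end Naturality

section Bijective

variable {R : Type u} [CommRing R] {A : Type v} [Ring A] [Algebra R A] [IsAzumaya R A]
  {T : Type w} [CommRing T] [Algebra R T] {n : ℕ}

theorem Psi_bijective (hrk : ∀ p : PrimeSpectrum R, Module.rankAtStalk A p = n ^ 2)
    (ρ : A →ₐ[R] Matrix (Fin n) (Fin n) T) : Function.Bijective (Psi ρ) := by
  haveI : IsAzumaya R (⨂[R] _ : Fin n, A) := isAzumaya_tpow R A n
  haveI : IsAzumaya T (T ⊗[R] (⨂[R] _ : Fin n, A)) := isAzumaya_baseChange R T _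
  haveI : Nonempty (Fin n → Fin n) := ⟨id⟩
  haveI : IsAzumaya T (Matrix (Fin n → Fin n) (Fin n → Fin n) T) := IsAzumaya.matrix T _
  obtain ⟨c1, c2, c3, c4⟩ := (isAzumaya_iff R (⨂[R] _ : Fin n, A)).1 inferInstance
  apply algHom_bijective_of_rank T _ _ (Psi ρ)
  intro q
  haveI : Nontrivial T := ⟨⟨0, 1, fun h => q.isPrime.ne_top
    ((Ideal.eq_top_iff_one _).2 (h ▸ q.asIdeal.zero_mem))⟩⟩
  rw [Module.rankAtStalk_baseChange, rankAtStalk_tpow, hrk, Module.rankAtStalk_eq_finrank_of_free,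
    Module.finrank_matrix]
  simp only [Module.finrank_self, mul_one, Fintype.card_pi_const, Fintype.card_fin,
    Pi.natCast_apply, Nat.cast_id]
  ring

end Bijective

section Independence

variable {R : Type u} [CommRing R] {A : Type v} [Ring A] [Algebra R A] [IsAzumaya R A]
  {T : Type w} [CommRing T] [Algebra R T] {n : ℕ}

/-- the `T`-linear extension of a matrix representation -/
noncomputable def psi (ρ : A →ₐ[R] Matrix (Fin n) (Fin n) T) :
    T ⊗[R] A →ₐ[T] Matrix (Fin n) (Fin n) T :=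
  Algebra.TensorProduct.lift (Algebra.ofId T _) ρ (fun t b => by
    rw [commute_iff_eq, Algebra.ofId_apply, Algebra.commutes])

lemma psi_tmul (ρ : A →ₐ[R] Matrix (Fin n) (Fin n) T) (t : T) (a : A) :
    psi ρ (t ⊗ₜ[R] a) = t • ρ a := by
  simp [psi, Algebra.smul_def]

theorem psi_bijective (hn : 0 < n) (hrk : ∀ p : PrimeSpectrum R, Module.rankAtStalk A p = n ^ 2)
    (ρ : A →ₐ[R] Matrix (Fin n) (Fin n) T) : Function.Bijective (psi ρ) := by
  haveI : IsAzumaya T (T ⊗[R] A) := isAzumaya_baseChange R T _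
  haveI : Nonempty (Fin n) := ⟨⟨0, hn⟩⟩
  haveI : IsAzumaya T (Matrix (Fin n) (Fin n) T) := IsAzumaya.matrix T _
  obtain ⟨c1, c2, c3, c4⟩ := (isAzumaya_iff R A).1 inferInstance
  apply algHom_bijective_of_rank T _ _ (psi ρ)
  intro q
  haveI : Nontrivial T := ⟨⟨0, 1, fun h => q.isPrime.ne_top
    ((Ideal.eq_top_iff_one _).2 (h ▸ q.asIdeal.zero_mem))⟩⟩
  rw [Module.rankAtStalk_baseChange, hrk, Module.rankAtStalk_eq_finrank_of_free,
    Module.finrank_matrix]
  simp only [Module.finrank_self, mul_one, Fintype.card_fin, Pi.natCast_apply, Nat.cast_id]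
  ring

/-- over a local ring two representations are conjugate -/
theorem exists_conj_of_isLocalRing [IsLocalRing T] (hn : 0 < n)
    (hrk : ∀ p : PrimeSpectrum R, Module.rankAtStalk A p = n ^ 2)
    (ρ₁ ρ₂ : A →ₐ[R] Matrix (Fin n) (Fin n) T) :
    ∃ u : (Matrix (Fin n) (Fin n) T)ˣ, ∀ a : A,
      ρ₂ a = (u : Matrix (Fin n) (Fin n) T) * ρ₁ a * ((u⁻¹ : (Matrix (Fin n) (Fin n) T)ˣ) :
        Matrix (Fin n) (Fin n) T) := by
  haveI : Nonempty (Fin n) := ⟨⟨0, hn⟩⟩
  haveI : IsAzumaya T (Matrix (Fin n) (Fin n) T) := IsAzumaya.matrix T _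
  let ψ₁ : T ⊗[R] A ≃ₐ[T] Matrix (Fin n) (Fin n) T :=
    AlgEquiv.ofBijective (psi ρ₁) (psi_bijective hn hrk ρ₁)
  let ψ₂ : T ⊗[R] A ≃ₐ[T] Matrix (Fin n) (Fin n) T :=
    AlgEquiv.ofBijective (psi ρ₂) (psi_bijective hn hrk ρ₂)
  obtain ⟨u, hu⟩ := skolem_noether_of_isLocalRing (ψ₁.symm.trans ψ₂)
  refine ⟨u, fun a => ?_⟩
  have h1 : ψ₁ ((1 : T) ⊗ₜ[R] a) = ρ₁ a := by
    rw [AlgEquiv.ofBijective_apply, psi_tmul, one_smul]
  have h2 : ψ₂ ((1 : T) ⊗ₜ[R] a) = ρ₂ a := by
    rw [AlgEquiv.ofBijective_apply, psi_tmul, one_smul]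
  rw [← hu, ← h1, AlgEquiv.trans_apply, AlgEquiv.symm_apply_apply, h2]


theorem Psi_antisym_of_isLocalRing [IsLocalRing T] (hn : 0 < n)
    (hrk : ∀ p : PrimeSpectrum R, Module.rankAtStalk A p = n ^ 2)
    (ρ₁ ρ₂ : A →ₐ[R] Matrix (Fin n) (Fin n) T) (x : T ⊗[R] (⨂[R] _ : Fin n, A))
    (h : Psi ρ₁ x = antisym T n) : Psi ρ₂ x = antisym T n := by
  obtain ⟨u, hu⟩ := exists_conj_of_isLocalRing hn hrk ρ₁ ρ₂
  set K : Matrix (Fin n → Fin n) (Fin n → Fin n) T :=
    kron (fun _ : Fin n => (u : Matrix (Fin n) (Fin n) T)) with hK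
  set K' : Matrix (Fin n → Fin n) (Fin n → Fin n) T :=
    kron (fun _ : Fin n => ((u⁻¹ : (Matrix (Fin n) (Fin n) T)ˣ) : Matrix (Fin n) (Fin n) T))
    with hK'
  have h1 : ∀ b : ⨂[R] _ : Fin n, A, rhoN ρ₂ b = K * rhoN ρ₁ b * K' := by
    intro b
    induction b using PiTensorProduct.induction_on with
    | smul_tprod r a =>
      rw [map_smul, map_smul, rhoN_tprod, rhoN_tprod, Matrix.mul_smul, Matrix.smul_mul, hK, hK',
        ← kron_mul, ← kron_mul]
      congr 2
      funext i
      exact hu (a i)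
    | add y z hy hz =>
      rw [map_add, map_add, hy, hz, Matrix.mul_add, Matrix.add_mul]
  have h2 : ∀ y : T ⊗[R] (⨂[R] _ : Fin n, A), Psi ρ₂ y = K * Psi ρ₁ y * K' := by
    intro y
    induction y using TensorProduct.induction_on with
    | zero => simp
    | add y z hy hz => rw [map_add, map_add, hy, hz, Matrix.mul_add, Matrix.add_mul]
    | tmul t b => rw [Psi_tmul, Psi_tmul, h1, Matrix.mul_smul, Matrix.smul_mul]
  rw [h2, h, hK, hK']
  exact kron_conj_antisym _ _ (Units.mul_inv u)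


/-- **independence of the representation**: the element of `T ⊗ A^{⊗ n}` corresponding to the
antisymmetrizer does not depend on the matrix representation. -/
theorem Psi_antisym_indep (hn : 0 < n)
    (hrk : ∀ p : PrimeSpectrum R, Module.rankAtStalk A p = n ^ 2)
    (ρ₁ ρ₂ : A →ₐ[R] Matrix (Fin n) (Fin n) T) (x : T ⊗[R] (⨂[R] _ : Fin n, A))
    (h : Psi ρ₁ x = antisym T n) : Psi ρ₂ x = antisym T n := by
  ext f g
  rw [← sub_eq_zero]
  apply eq_zero_of_localization
  intro J hJ
  let φ : T →ₐ[R] Localization.AtPrime J := IsScalarTower.toAlgHom R T (Localization.AtPrime J)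
  have h1 := Psi_pushRep φ ρ₁ x
  have h2 := Psi_pushRep φ ρ₂ x
  have hmap : (antisym T n).map ⇑φ = antisym (Localization.AtPrime J) n :=
    antisym_map (φ : T →+* Localization.AtPrime J)
  rw [h, hmap] at h1
  have h3 := Psi_antisym_of_isLocalRing hn hrk (pushRep φ ρ₁) (pushRep φ ρ₂) _ h1
  rw [h2, ← hmap] at h3
  have h4 := congrFun (congrFun h3 f) g
  simp only [Matrix.map_apply] at h4
  rw [map_sub, sub_eq_zero]
  exact h4

end Independence

section Descent

variable {R : Type u} [CommRing R] {A : Type v} [Ring A] [Algebra R A] [IsAzumaya R A]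
  {R' : Type w} [CommRing R'] [Algebra R R'] [Module.FaithfullyFlat R R'] {n : ℕ}

/-- **descent of the antisymmetrizer** -/
theorem exists_antisym_elt (hn : 0 < n)
    (hrk : ∀ p : PrimeSpectrum R, Module.rankAtStalk A p = n ^ 2)
    (ρ : A →ₐ[R] Matrix (Fin n) (Fin n) R') :
    ∃ e : ⨂[R] _ : Fin n, A, Psi ρ ((1 : R') ⊗ₜ[R] e) = antisym R' n := by
  haveI : IsAzumaya R (⨂[R] _ : Fin n, A) := isAzumaya_tpow R A n
  obtain ⟨c1, c2, c3, c4⟩ := (isAzumaya_iff R (⨂[R] _ : Fin n, A)).1 inferInstance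
  obtain ⟨x, hx⟩ := (Psi_bijective hrk ρ).2 (antisym R' n)
  let ι₁ : R' →ₐ[R] R' ⊗[R] R' := Algebra.TensorProduct.includeLeft
  let ι₂ : R' →ₐ[R] R' ⊗[R] R' := Algebra.TensorProduct.includeRight
  have e1 := Psi_pushRep ι₁ ρ x
  have e2 := Psi_pushRep ι₂ ρ x
  have hm1 : (antisym R' n).map ⇑ι₁ = antisym (R' ⊗[R] R') n :=
    antisym_map (ι₁ : R' →+* R' ⊗[R] R')
  have hm2 : (antisym R' n).map ⇑ι₂ = antisym (R' ⊗[R] R') n :=
    antisym_map (ι₂ : R' →+* R' ⊗[R] R')
  rw [hx, hm1] at e1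
  rw [hx, hm2] at e2
  have e3 := Psi_antisym_indep hn hrk (pushRep ι₂ ρ) (pushRep ι₁ ρ) _ e2
  have e4 := (Psi_bijective hrk (pushRep ι₁ ρ)).1 (e1.trans e3.symm)
  have key : ∀ (ι : R' →ₐ[R] R' ⊗[R] R') (y : R' ⊗[R] (⨂[R] _ : Fin n, A)),
      ι.toLinearMap.rTensor _ y = Algebra.TensorProduct.map ι (AlgHom.id R _) y := by
    intro ι y
    induction y using TensorProduct.induction_on with
    | zero => simp
    | add y z hy hz => rw [map_add, map_add, hy, hz]
    | tmul t b => simp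
  have e5 : (Algebra.TensorProduct.includeLeftSubRight R R').rTensor (⨂[R] _ : Fin n, A) x = 0 := by
    have h0 : Algebra.TensorProduct.includeLeftSubRight R R' = ι₁.toLinearMap - ι₂.toLinearMap := rfl
    rw [h0, LinearMap.rTensor_sub, LinearMap.sub_apply, key, key, e4, sub_self]
  obtain ⟨e, he⟩ := Groth.Agent.Lib.FFDescent16.exists_one_tmul_eq R R' _ x e5
  exact ⟨e, he ▸ hx⟩

end Descent

section Ideal

variable {R : Type u} [CommRing R] {A : Type v} [Ring A] [Algebra R A] [IsAzumaya R A]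
  {R' : Type w} [CommRing R'] [Algebra R R'] [Module.Flat R R'] {n : ℕ}

local notation "B" => ⨂[R] _ : Fin n, A

/-- the left ideal generated by `e`, base changed, is free of rank `n^n` -/
theorem nonempty_baseChange_span_equiv
    (hrk : ∀ p : PrimeSpectrum R, Module.rankAtStalk A p = n ^ 2)
    (ρ : A →ₐ[R] Matrix (Fin n) (Fin n) R') (e : ⨂[R] _ : Fin n, A)
    (he : Psi ρ ((1 : R') ⊗ₜ[R] e) = antisym R' n) :
    Nonempty ((R' ⊗[R] (Submodule.span (⨂[R] _ : Fin n, A) {e} : Submodule _ (⨂[R] _ : Fin n, A)))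
      ≃ₗ[R'] ((Fin n → Fin n) → R')) := by
  let E : Submodule B B := Submodule.span B {e}
  let incl : E →ₗ[R] B := E.subtype.restrictScalars R
  have hincl : Function.Injective incl := Subtype.val_injective
  let F : R' ⊗[R] E →ₗ[R'] Matrix (Fin n → Fin n) (Fin n → Fin n) R' :=
    (Psi ρ).toLinearMap ∘ₗ (incl.baseChange R')
  have hF : Function.Injective F := by
    refine (Psi_bijective hrk ρ).1.comp ?_
    have := Module.Flat.lTensor_preserves_injective_linearMap (M := R') incl hincl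
    intro a b hab
    apply this
    rw [← LinearMap.baseChange_eq_ltensor]
    exact hab
  have hFt : ∀ (t : R') (y : E), F (t ⊗ₜ[R] y) = t • Psi ρ ((1 : R') ⊗ₜ[R] (y : B)) := by
    intro t y
    change Psi ρ (t ⊗ₜ[R] (y : B)) = _
    rw [Psi_tmul, Psi_tmul, one_smul]
  let G : ((Fin n → Fin n) → R') →ₗ[R'] Matrix (Fin n → Fin n) (Fin n → Fin n) R' :=
    { toFun := fun v => Matrix.vecMulVec v (alt R' n)
      map_add' := fun v w => Matrix.add_vecMulVec v w _
      map_smul' := fun c v => Matrix.smul_vecMulVec c v _ }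
  have hG : Function.Injective G := by
    intro v w hvw
    funext f
    have := congrFun (congrFun hvw f) id
    simpa [G, Matrix.vecMulVec_apply, alt_id] using this
  have hmulE : ∀ X : Matrix (Fin n → Fin n) (Fin n → Fin n) R',
      X * antisym R' n = G (X *ᵥ alt R' n) := by
    intro X
    change X * Matrix.vecMulVec _ _ = Matrix.vecMulVec _ _
    rw [Matrix.mul_vecMulVec]
  have hrange : LinearMap.range F = LinearMap.range G := by
    apply le_antisymm
    · rintro _ ⟨z, rfl⟩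
      induction z using TensorProduct.induction_on with
      | zero => rw [map_zero]; exact Submodule.zero_mem _
      | add z w hz hw => rw [map_add]; exact Submodule.add_mem _ hz hw
      | tmul t y =>
        obtain ⟨b, hb⟩ := Submodule.mem_span_singleton.1 y.2
        rw [hFt, ← hb, smul_eq_mul]
        have h1 : ((1 : R') ⊗ₜ[R] (b * e) : R' ⊗[R] B) =
            ((1 : R') ⊗ₜ[R] b) * ((1 : R') ⊗ₜ[R] e) := by
          rw [Algebra.TensorProduct.tmul_mul_tmul, one_mul]
        rw [h1, map_mul, he, hmulE, ← map_smul]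
        exact ⟨_, rfl⟩
    · rintro _ ⟨v, rfl⟩
      -- `G v = X * antisym` with `X = vecMulVec v δ_id`
      have h2 : G v = Matrix.vecMulVec v (Pi.single id 1) * antisym R' n := by
        rw [hmulE]
        congr 1
        funext f
        rw [Matrix.mulVec, Matrix.vecMulVec]
        simp [dotProduct, Pi.single_apply, alt_id]
      rw [h2]
      obtain ⟨y, hy⟩ := (Psi_bijective hrk ρ).2 (Matrix.vecMulVec v (Pi.single id 1))
      rw [← hy]
      clear hy h2
      induction y using TensorProduct.induction_on with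
      | zero => rw [map_zero, zero_mul]; exact Submodule.zero_mem _
      | add z w hz hw => rw [map_add, add_mul]; exact Submodule.add_mem _ hz hw
      | tmul t b =>
        refine ⟨t ⊗ₜ[R] ⟨b * e, Submodule.mem_span_singleton.2 ⟨b, rfl⟩⟩, ?_⟩
        rw [hFt]
        have h1 : ((1 : R') ⊗ₜ[R] (b * e) : R' ⊗[R] B) =
            ((1 : R') ⊗ₜ[R] b) * ((1 : R') ⊗ₜ[R] e) := by
          rw [Algebra.TensorProduct.tmul_mul_tmul, one_mul]
        change t • Psi ρ ((1 : R') ⊗ₜ[R] (b * e)) = _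
        rw [h1, map_mul, he, Psi_tmul, Psi_tmul, one_smul, Matrix.smul_mul]
  exact ⟨(LinearEquiv.ofInjective F hF).trans ((LinearEquiv.ofEq _ _ hrange).trans
    (LinearEquiv.ofInjective G hG).symm)⟩

end Ideal

section Main

variable (R : Type u) [CommRing R] (A : Type u) [Ring A] [Algebra R A] [IsAzumaya R A]

/-- **The Brauer class of an Azumaya algebra of constant rank `n²` is `n`-torsion.** -/
theorem exists_end_equiv (n : ℕ)
    (hrk : ∀ p : PrimeSpectrum R, Module.rankAtStalk (R := R) A p = n ^ 2) :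
    ∃ (E : Type u) (_ : AddCommGroup E) (_ : Module R E), Module.Finite R E ∧
      Module.Projective R E ∧ (∀ p : PrimeSpectrum R, Module.rankAtStalk (R := R) E p = n ^ n) ∧
      Nonempty ((⨂[R] _ : Fin n, A) ≃ₐ[R] Module.End R E) := by
  haveI hBaz : IsAzumaya R (⨂[R] _ : Fin n, A) := isAzumaya_tpow R A n
  rcases Nat.eq_zero_or_pos n with rfl | hn
  · -- `n = 0`
    refine ⟨R, inferInstance, inferInstance, inferInstance, inferInstance, ?_, ?_⟩
    · intro p
      haveI : Nontrivial R := ⟨⟨0, 1, fun h => p.isPrime.ne_top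
        ((Ideal.eq_top_iff_one _).2 (h ▸ p.asIdeal.zero_mem))⟩⟩
      rw [Module.rankAtStalk_self]
      rfl
    · haveI : IsAzumaya R (Module.End R R) := isAzumaya_end R R
      have hb := algHom_bijective_of_rank R R (Module.End R R) (Algebra.ofId R _) (fun p => by
        haveI : Nontrivial R := ⟨⟨0, 1, fun h => p.isPrime.ne_top
          ((Ideal.eq_top_iff_one _).2 (h ▸ p.asIdeal.zero_mem))⟩⟩
        rw [rankAtStalk_end, Module.rankAtStalk_self]
        rfl)
      exact ⟨(tpowZeroEquiv R A).trans (AlgEquiv.ofBijective _ hb)⟩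
  · obtain ⟨R', _, _, hff, ⟨ρ⟩⟩ :=
      Groth.Agent.Lib.AzumayaGlobalSplit16.exists_cover_realization R A n hrk
    obtain ⟨e, he⟩ := exists_antisym_elt hn hrk ρ
    obtain ⟨ε⟩ := nonempty_baseChange_span_equiv hrk ρ e he
    let E : Submodule (⨂[R] _ : Fin n, A) (⨂[R] _ : Fin n, A) := Submodule.span _ {e}
    haveI : Module.Finite R' (R' ⊗[R] E) := Module.Finite.equiv ε.symm
    haveI : Module.Free R' (R' ⊗[R] E) := Module.Free.of_equiv ε.symm
    obtain ⟨hfin, hproj⟩ := Groth.Agent.Lib.FFDescent16.finite_projective_of_baseChange R R' E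
    have hcard : Fintype.card (Fin n → Fin n) = n ^ n := by simp
    have hrankE : ∀ p : PrimeSpectrum R, Module.rankAtStalk (R := R) E p = n ^ n := by
      apply Groth.Agent.Lib.FFDescent16.rankAtStalk_eq_of_baseChange R R' E
      intro q
      haveI : Nontrivial R' := ⟨⟨0, 1, fun h => q.isPrime.ne_top
        ((Ideal.eq_top_iff_one _).2 (h ▸ q.asIdeal.zero_mem))⟩⟩
      rw [Module.rankAtStalk_eq_of_equiv ε, Module.rankAtStalk_eq_finrank_of_free]
      simp
    haveI : FaithfulSMul R E := faithfulSMul_of_rankAtStalk_pos R E (fun p => by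
      rw [hrankE p]; positivity)
    haveI : IsAzumaya R (Module.End R E) := isAzumaya_end R E
    have hb := algHom_bijective_of_rank R (⨂[R] _ : Fin n, A) (Module.End R E)
      (Algebra.lsmul R R E) (fun p => by
        rw [rankAtStalk_tpow, hrk, rankAtStalk_end, hrankE]
        ring)
    exact ⟨E, inferInstance, inferInstance, hfin, hproj, hrankE, ⟨AlgEquiv.ofBijective _ hb⟩⟩

end Main

end Groth.Agent.Lib.AzumayaTorsion16
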