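import Groth.Agent.Lib.H78PullSec
import Groth.Agent.Lib.H78TensorGen
import Groth.Prelude.Def_CohBC2

/-!
# The degree-zero base change map on sections (helper21)

* `adjunct_app_pb`: the adjunct `g^* A ⟶ B` of `φ : A ⟶ g_* B` sends the pullback of a section `a` to `φ a`.
* `bc0Adj_app`, `bc0_app_pb`: `CohBC.bc0` sends the pullback (along `g`) of a section `a` of `f_* F` over `U` to the
  pullback (along `g'`) of `a` as a section of `F` over `f⁻¹U`.
* `eq_zero_of_isEmpty`: sections over an empty open vanish.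
* `epi_of_surjective_app`: on a one-point scheme a morphism of modules which is surjective on sections over a
  nonempty open is an epimorphism.
* `exists_pb_ne_zero_of_epi_bc0`: if `bc0` is an epimorphism onto a module with a nonzero section, then some section of
  `F` over some `f⁻¹U` has nonzero pullback along `g'`.
-/

set_option autoImplicit false
set_option linter.style.haveILetI false
universe u

open CategoryTheory AlgebraicGeometry Opposite TopologicalSpace
open AlgebraicGeometry.Scheme.Modules

namespace Groth.Agent.Lib.BC0Sec21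

open Groth.Agent.Lib.H78SecCoord Groth.Agent.Lib.H78PullSec Groth.Agent.Lib.H78TensorGen

section Adjunct

variable {X Y : Scheme.{u}} (g : X ⟶ Y)

/-- the adjunct of `φ : A ⟶ g_* B` on pulled back sections -/
theorem adjunct_app_pb {A : Y.Modules} {B : X.Modules} (φ : A ⟶ (pushforward g).obj B) (U : Y.Opens)
    (a : Γ(A, U)) :
    (((pullbackPushforwardAdjunction g).homEquiv A B).symm φ).app (g ⁻¹ᵁ U) (pb g A a) =
      ofPush g B U (φ.app U a) := by
  set ψ := ((pullbackPushforwardAdjunction g).homEquiv A B).symm φ with hψ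
  have h1 : φ = ((pullbackPushforwardAdjunction g).homEquiv A B) ψ := by
    rw [hψ, Equiv.apply_symm_apply]
  rw [Adjunction.homEquiv_unit] at h1
  have h2 := congrArg (fun χ => Scheme.Modules.Hom.app χ U a) h1
  exact h2.symm

end Adjunct

section BC

variable {X S X' S' : Scheme.{u}} (f : X ⟶ S) (g : S' ⟶ S) (f' : X' ⟶ S') (g' : X' ⟶ X)
  (w : g' ≫ f = f' ≫ g) (F : X.Modules)

include w in
theorem preimage_eq (U : S.Opens) : f' ⁻¹ᵁ (g ⁻¹ᵁ U) = g' ⁻¹ᵁ (f ⁻¹ᵁ U) := by
  rw [← Scheme.Hom.comp_preimage, ← Scheme.Hom.comp_preimage, w]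

/-- `bc0Adj` on sections -/
theorem bc0Adj_app (U : S.Opens) (a : Γ(F, f ⁻¹ᵁ U)) :
    (CohBC.bc0Adj f g f' g' w F).app U (toPush f F U a) =
      ((pullback g').obj F).presheaf.map (eqToHom (preimage_eq f g f' g' w U)).op (pb g' F a) := by
  rfl

/-- `bc0` on pulled back sections -/
theorem bc0_app_pb (U : S.Opens) (a : Γ(F, f ⁻¹ᵁ U)) :
    (CohBC.bc0 f g f' g' w F).app (g ⁻¹ᵁ U) (pb g ((pushforward f).obj F) (toPush f F U a)) =
      ((pullback g').obj F).presheaf.map (eqToHom (preimage_eq f g f' g' w U)).op (pb g' F a) := by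
  unfold CohBC.bc0
  rw [adjunct_app_pb]
  exact bc0Adj_app f g f' g' w F U a

end BC

section OnePoint

/-- sections over an empty open vanish -/
theorem eq_zero_of_isEmpty {Z : Scheme.{u}} (M : Z.Modules) {V : Z.Opens} (hV : ∀ z : Z, z ∉ V)
    (t : Γ(M, V)) : t = 0 :=
  sec_ext M t 0 (fun z hz => absurd hz (hV z))

/-- on a one-point scheme, surjectivity on sections over a nonempty open implies epi -/
theorem epi_of_surjective_app {Z : Scheme.{u}} [Unique Z] {A T : Z.Modules} (φ : A ⟶ T) (V : Z.Opens)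
    (hV : (default : Z) ∈ V) (h : Function.Surjective (φ.app V)) : Epi φ := by
  constructor
  intro K h₁ h₂ h12
  ext W t
  change h₁.app W t = h₂.app W t
  by_cases hW : (default : Z) ∈ W
  · have hWV : W = V := by
      ext z
      rw [Unique.eq_default z]
      exact ⟨fun _ => hV, fun _ => hW⟩
    subst hWV
    obtain ⟨a, rfl⟩ := h t
    exact congrArg (fun χ => Scheme.Modules.Hom.app χ W a) h12
  · have ht : t = 0 :=
      eq_zero_of_isEmpty T (fun z hz => hW (by rw [← Unique.eq_default z]; exact hz)) t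
    rw [ht, map_zero, map_zero]

end OnePoint

section Epi

variable {X S X' S' : Scheme.{u}} (f : X ⟶ S) (g : S' ⟶ S) (f' : X' ⟶ S') (g' : X' ⟶ X)
  (w : g' ≫ f = f' ≫ g) (F : X.Modules)

/-- if `bc0` over a one-point base `S'` is an epimorphism onto a module with a nonzero global section, then some
section of `F` over `f⁻¹U`, `U` a neighbourhood of the image point, has nonzero pullback along `g'` -/
theorem exists_pb_ne_zero_of_epi_bc0 [Unique S'] (hepi : Epi (CohBC.bc0 f g f' g' w F))
    (t : Γ((pullback g').obj F, ⊤)) (ht : t ≠ 0) :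
    ∃ U : S.Opens, g default ∈ U ∧ ∃ a : Γ(F, f ⁻¹ᵁ U), pb g' F a ≠ 0 := by
  by_contra hne
  push Not at hne
  -- `bc0Adj` vanishes
  have h1 : CohBC.bc0Adj f g f' g' w F = 0 := by
    ext U a
    change (CohBC.bc0Adj f g f' g' w F).app U a = 0
    by_cases hU : g default ∈ U
    · have h2 := bc0Adj_app f g f' g' w F U (ofPush f F U a)
      rw [hne U hU, map_zero] at h2
      exact h2
    · refine eq_zero_of_isEmpty ((pullback g').obj F) (V := f' ⁻¹ᵁ (g ⁻¹ᵁ U)) (fun z hz => hU ?_) _
      have hz' : g (f' z) ∈ U := hz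
      rwa [Unique.eq_default (f' z)] at hz'
  have h3 : CohBC.bc0 f g f' g' w F = 0 := by
    unfold CohBC.bc0
    rw [h1]
    apply ((pullbackPushforwardAdjunction g).homEquiv _ _).injective
    rw [Equiv.apply_symm_apply, Adjunction.homEquiv_unit, Functor.map_zero, Limits.comp_zero]
  have hz : Limits.IsZero ((pushforward f').obj ((pullback g').obj F)) :=
    Limits.IsZero.of_epi_eq_zero (CohBC.bc0 f g f' g' w F) h3
  apply ht
  have h4 : 𝟙 ((pushforward f').obj ((pullback g').obj F)) = 0 := hz.eq_of_src _ _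
  have h5 := congrArg (fun χ => Scheme.Modules.Hom.app χ ⊤ (toPush f' ((pullback g').obj F) ⊤ t)) h4
  exact h5

end Epi

end Groth.Agent.Lib.BC0Sec21
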