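import Mathlib
import Groth.Prelude.Def_Dieu

/-!
# Descent for `Dieu.BC` of flat modules along an equalizer of ring maps

If `g : A → B` is injective, `h₁ h₂ : B → C` agree on `g` and the equalizer of `h₁, h₂` is the image
of `g`, then for a flat `A`-module `M`, `M → BC g M` is injective and its image is the equalizer of
the two pushes `BC g M ⇉ BC (h₂ ∘ g) M`.  Applied to Witt vectors of a faithfully flat ring map.
-/

set_option autoImplicit false
set_option linter.unusedSectionVars false

universe u v w w'

noncomputable section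

namespace Groth.Agent.Lib.BCDescent76

open Dieu TensorProduct

section General

variable {A : Type u} {B : Type v} {C : Type w'} [CommRing A] [CommRing B] [CommRing C]
  (g : A →+* B) (h₁ h₂ : B →+* C)

/-- `a ↦ g a` as an `A`-linear map `A → Res g`. -/
def jMap : A →ₗ[A] Res g where
  toFun a := Res.mk g (g a)
  map_add' a b := by
    apply Res.ext
    simp only [Res.val_mk, Res.val_add, map_add]
  map_smul' a b := by
    apply Res.ext
    simp only [Res.val_mk, Res.val_smul, smul_eq_mul, map_mul, RingHom.id_apply]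

@[simp] theorem jMap_apply (a : A) : jMap g a = Res.mk g (g a) := rfl

/-- `t ↦ h₁ t - h₂ t` as an `A`-linear map `Res g → Res (h₂.comp g)`. -/
def dMap (e : h₁.comp g = h₂.comp g) : Res g →ₗ[A] Res (h₂.comp g) where
  toFun t := Res.mk (h₂.comp g) (h₁ t.val - h₂ t.val)
  map_add' s t := by
    apply Res.ext
    simp only [Res.val_mk, Res.val_add, map_add]
    ring
  map_smul' a t := by
    apply Res.ext
    have h : h₁ (g a) = h₂ (g a) := RingHom.congr_fun e a
    simp only [Res.val_mk, Res.val_smul, map_mul, RingHom.id_apply, RingHom.comp_apply, h]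
    ring

@[simp] theorem dMap_apply (e : h₁.comp g = h₂.comp g) (t : Res g) :
    dMap g h₁ h₂ e t = Res.mk (h₂.comp g) (h₁ t.val - h₂ t.val) := rfl

theorem exact_jMap_dMap (e : h₁.comp g = h₂.comp g)
    (hex : ∀ b : B, h₁ b = h₂ b → b ∈ Set.range g) :
    Function.Exact (jMap g) (dMap g h₁ h₂ e) := by
  intro t
  constructor
  · intro ht
    have h0 : h₁ t.val - h₂ t.val = 0 := ht
    obtain ⟨a, ha⟩ := hex t.val (sub_eq_zero.mp h0)
    exact ⟨a, Res.ext g ha⟩
  · rintro ⟨a, rfl⟩
    apply Res.ext
    have h : h₁ (g a) = h₂ (g a) := RingHom.congr_fun e a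
    simp only [dMap_apply, jMap_apply, Res.val_mk, h, sub_self, Res.val_zero]

variable (M : Type w) [AddCommGroup M] [Module A M]

/-- `jMap ⊗ M` as an additive map into `BC g M`. -/
def jBC : A ⊗[A] M →+ BC g M := ((jMap g).rTensor M).toAddMonoidHom

/-- `dMap ⊗ M` as an additive map `BC g M → BC (h₂ ∘ g) M`. -/
def dBC (e : h₁.comp g = h₂.comp g) : BC g M →+ BC (h₂.comp g) M :=
  ((dMap g h₁ h₂ e).rTensor M).toAddMonoidHom

theorem jBC_one_tmul (x : M) : jBC g M ((1 : A) ⊗ₜ[A] x) = BC.ι g M x := by
  change (jMap g).rTensor M ((1 : A) ⊗ₜ[A] x) = _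
  rw [LinearMap.rTensor_tmul, jMap_apply, map_one]
  rfl

theorem dBC_tmul (e : h₁.comp g = h₂.comp g) (b : B) (x : M) :
    dBC g h₁ h₂ M e (BC.tmul g b x) = BC.tmul (h₂.comp g) (h₁ b - h₂ b) x := by
  change (dMap g h₁ h₂ e).rTensor M ((Res.mk g b) ⊗ₜ[A] x) = _
  rw [LinearMap.rTensor_tmul, dMap_apply]
  rfl

theorem dBC_apply (e : h₁.comp g = h₂.comp g) (z : BC g M) :
    dBC g h₁ h₂ M e z = BC.castHom e (BC.push g h₁ z) - BC.push g h₂ z := by
  induction z using BC.induction_on g with
  | zero => simp only [map_zero, sub_self]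
  | tmul b x =>
    rw [dBC_tmul, BC.push_tmul, BC.push_tmul, BC.castHom_tmul]
    have h : BC.tmul (h₂.comp g) (h₁ b - h₂ b) x + BC.tmul (h₂.comp g) (h₂ b) x =
        BC.tmul (h₂.comp g) (h₁ b) x := by
      rw [← BC.add_tmul, sub_add_cancel]
    exact eq_sub_of_add_eq h
  | add z₁ z₂ h₁' h₂' =>
    rw [map_add, h₁', h₂', map_add, map_add, map_add]
    abel

/-- Descent for flat modules along an equalizer diagram of rings. -/
theorem descent (e : h₁.comp g = h₂.comp g) (hinj : Function.Injective g)
    (hex : ∀ b : B, h₁ b = h₂ b → b ∈ Set.range g) [Module.Flat A M] :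
    Function.Injective (BC.ι g M) ∧
      ∀ z : BC g M, (BC.castHom e (BC.push g h₁ z) = BC.push g h₂ z ↔
        z ∈ Set.range (BC.ι g M)) := by
  have hjinj : Function.Injective (jMap g) := fun a b hab => hinj hab
  have hJ : Function.Injective (jBC g M) :=
    Module.Flat.rTensor_preserves_injective_linearMap (jMap g) hjinj
  have hE : ∀ z : BC g M, dBC g h₁ h₂ M e z = 0 ↔ z ∈ Set.range (jBC g M) :=
    Module.Flat.rTensor_exact M (exact_jMap_dMap g h₁ h₂ e hex)
  have hlid : ∀ w : A ⊗[A] M, (1 : A) ⊗ₜ[A] (TensorProduct.lid A M w) = w := by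
    intro w
    have := (TensorProduct.lid A M).symm_apply_apply w
    rwa [TensorProduct.lid_symm_apply] at this
  constructor
  · intro x y hxy
    rw [← jBC_one_tmul, ← jBC_one_tmul] at hxy
    have h1 := hJ hxy
    have h2 := congrArg (TensorProduct.lid A M) h1
    simpa using h2
  · intro z
    rw [← sub_eq_zero, ← dBC_apply, hE]
    constructor
    · rintro ⟨w, hw⟩
      refine ⟨TensorProduct.lid A M w, ?_⟩
      rw [← jBC_one_tmul, hlid, hw]
    · rintro ⟨x, rfl⟩
      exact ⟨_, jBC_one_tmul g M x⟩

end General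

end Groth.Agent.Lib.BCDescent76

noncomputable section

namespace Groth.Agent.Lib.BCDescent76

open Dieu TensorProduct

section Witt

variable (p : ℕ) [Fact p.Prime] (S R : Type u) [CommRing S] [CommRing R] [Algebra S R]
  [Module.FaithfullyFlat S R]

theorem witt_map_injective :
    Function.Injective (WittVector.map (algebraMap S R) : WittVector p S →+* WittVector p R) :=
  WittVector.map_injective _ (FaithfulSMul.algebraMap_injective S R)

theorem witt_equalizer (b : WittVector p R)
    (hb : (WittVector.map (Algebra.TensorProduct.includeLeftRingHom : R →+* R ⊗[S] R) :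
        WittVector p R →+* WittVector p (R ⊗[S] R)) b =
      (WittVector.map ((Algebra.TensorProduct.includeRight : R →ₐ[S] R ⊗[S] R) : R →+* R ⊗[S] R) :
        WittVector p R →+* WittVector p (R ⊗[S] R)) b) :
    b ∈ Set.range (WittVector.map (algebraMap S R) : WittVector p S →+* WittVector p R) := by
  have heq := (Algebra.IsEffective.of_faithfullyFlat S R).eqLocus_includeLeft_includeRight
  have hmem : ∀ n : ℕ, b.coeff n ∈ Set.range (algebraMap S R) := by
    intro n
    have h1 := congrArg (fun w => WittVector.coeff w n) hb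
    simp only [WittVector.map_coeff] at h1
    rw [← heq]
    exact h1
  choose s hs using hmem
  refine ⟨WittVector.mk p s, ?_⟩
  ext n
  rw [WittVector.map_coeff, WittVector.coeff_mk, hs]

end Witt

end Groth.Agent.Lib.BCDescent76
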