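import Groth.Agent.Lib.KerBC23
import Mathlib.RingTheory.TensorProduct.Maps

/-!
# Base change of a polynomial law along `A → A'` (helper23)
-/

set_option autoImplicit false
universe u
open scoped TensorProduct

namespace Groth.Agent.Lib.BCLaw23

open Groth.Agent.Lib.PolLaw23 Groth.Agent.Lib.KerBC23

section cb

variable (A : Type u) [CommRing A] (A' : Type u) [CommRing A'] [Algebra A A']
  (R : Type u) [CommSemiring R] [Algebra A R] [Algebra A' R] [IsScalarTower A A' R]
  (B : Type u) [CommRing B] [Algebra A B]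

/-- `R ⊗[A'] (A' ⊗[A] B) ≃ₐ[R] R ⊗[A] B`. -/
noncomputable abbrev cb : R ⊗[A'] (A' ⊗[A] B) ≃ₐ[R] R ⊗[A] B :=
  Algebra.TensorProduct.cancelBaseChange A A' R R B

variable {A A' R B}

theorem cb_tmul (r : R) (a : A') (b : B) : cb A A' R B (r ⊗ₜ[A'] (a ⊗ₜ[A] b)) = (a • r) ⊗ₜ[A] b := by
  simp

theorem cb_symm_tmul (r : R) (b : B) : (cb A A' R B).symm (r ⊗ₜ[A] b) = r ⊗ₜ[A'] ((1 : A') ⊗ₜ[A] b) := by
  simp

theorem cb_one_tmul (z : A' ⊗[A] B) :
    cb A A' R B ((1 : R) ⊗ₜ[A'] z) = bc (IsScalarTower.toAlgHom A A' R) z := by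
  induction z using TensorProduct.induction_on with
  | zero => simp
  | tmul a b => rw [cb_tmul, bc_tmul, Algebra.smul_def, mul_one]; rfl
  | add x y hx hy => rw [TensorProduct.tmul_add, map_add, hx, hy, map_add]

variable {R' : Type u} [CommSemiring R'] [Algebra A R'] [Algebra A' R'] [IsScalarTower A A' R']

theorem cb_rTensor (φ : R →ₐ[A'] R') (x : R ⊗[A'] (A' ⊗[A] B)) :
    cb A A' R' B (φ.toLinearMap.rTensor (A' ⊗[A] B) x) =
      (φ.restrictScalars A).toLinearMap.rTensor B (cb A A' R B x) := by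
  induction x using TensorProduct.induction_on with
  | zero => simp
  | tmul r z =>
    induction z using TensorProduct.induction_on with
    | zero => simp
    | tmul a b =>
      rw [LinearMap.rTensor_tmul, cb_tmul, cb_tmul, LinearMap.rTensor_tmul]
      simp
    | add x y hx hy =>
      rw [TensorProduct.tmul_add, map_add, map_add, hx, hy, map_add, map_add]
  | add x y hx hy => rw [map_add, map_add, hx, hy, map_add, map_add]

theorem cb_symm_rTensor (φ : R →ₐ[A'] R') (y : R ⊗[A] B) :
    (cb A A' R' B).symm ((φ.restrictScalars A).toLinearMap.rTensor B y) =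
      φ.toLinearMap.rTensor (A' ⊗[A] B) ((cb A A' R B).symm y) := by
  rw [AlgEquiv.symm_apply_eq, cb_rTensor, AlgEquiv.apply_symm_apply]

end cb


section law

variable {A : Type u} [CommRing A] {B : Type u} [CommRing B] [Algebra A B]
  {C : Type u} [CommRing C] [Algebra A C]

/-- The base change of the polynomial law `F : B → C` over `A` to a law `A' ⊗ B → A' ⊗ C` over `A'`. -/
noncomputable def bcLaw (F : B →ₚₗ[A] C) (A' : Type u) [CommRing A'] [Algebra A A'] :
    (A' ⊗[A] B) →ₚₗ[A'] (A' ⊗[A] C) where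
  toFun' R _ _ :=
    letI : Algebra A R := Algebra.compHom R (algebraMap A A')
    haveI : IsScalarTower A A' R := IsScalarTower.of_algebraMap_eq (fun _ => rfl)
    fun x => (cb A A' R C).symm (F.toFun' R (cb A A' R B x))
  isCompat' {R} _ _ {R'} _ _ φ := by
    let _ : Algebra A R := Algebra.compHom R (algebraMap A A')
    have : IsScalarTower A A' R := IsScalarTower.of_algebraMap_eq (fun _ => rfl)
    let _ : Algebra A R' := Algebra.compHom R' (algebraMap A A')
    have : IsScalarTower A A' R' := IsScalarTower.of_algebraMap_eq (fun _ => rfl)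
    funext x
    simp only [Function.comp_apply]
    rw [cb_rTensor, ← PolynomialLaw.isCompat_apply', cb_symm_rTensor]

theorem bcLaw_toFun' (F : B →ₚₗ[A] C) (A' : Type u) [CommRing A'] [Algebra A A']
    (R : Type u) [CommSemiring R] [instAR : Algebra A R] [Algebra A' R] [IsScalarTower A A' R]
    (x : R ⊗[A'] (A' ⊗[A] B)) :
    (bcLaw F A').toFun' R x = (cb A A' R C).symm (F.toFun' R (cb A A' R B x)) := by
  have h : instAR = Algebra.compHom R (algebraMap A A') :=
    Algebra.algebra_ext _ _ (fun r => IsScalarTower.algebraMap_apply A A' R r)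
  subst h
  rfl


/-- The kernel of the base-changed law is `kerBC`. -/
theorem ker_bcLaw (F : B →ₚₗ[A] C) (A' : Type u) [CommRing A'] [Algebra A A'] :
    PolLaw.ker (bcLaw F A') = PolLaw.kerBC F A' := by
  ext b'
  constructor
  · intro h R _ _ _ _ x w
    have h1 := h R ((cb A A' R B).symm x) ((cb A A' R B).symm w)
    rw [bcLaw_toFun', bcLaw_toFun', map_add, map_mul, AlgEquiv.apply_symm_apply,
      AlgEquiv.apply_symm_apply, cb_one_tmul] at h1
    exact (cb A A' R C).symm.injective h1
  · intro h R _ _ x w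
    let _ : Algebra A R := Algebra.compHom R (algebraMap A A')
    have : IsScalarTower A A' R := IsScalarTower.of_algebraMap_eq (fun _ => rfl)
    rw [bcLaw_toFun', bcLaw_toFun', map_add, map_mul, cb_one_tmul]
    exact congrArg _ (h R _ _)

theorem bcLaw_isHomog (F : B →ₚₗ[A] C) {d : ℕ} (hF : PolLaw.IsHomog F d)
    (A' : Type u) [CommRing A'] [Algebra A A'] : PolLaw.IsHomog (bcLaw F A') d := by
  intro R _ _ s x
  let _ : Algebra A R := Algebra.compHom R (algebraMap A A')
  have : IsScalarTower A A' R := IsScalarTower.of_algebraMap_eq (fun _ => rfl)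
  rw [bcLaw_toFun', bcLaw_toFun', map_smul, hF R, map_smul]

theorem bcLaw_isMult (F : B →ₚₗ[A] C) (hF : PolLaw.IsMult F)
    (A' : Type u) [CommRing A'] [Algebra A A'] : PolLaw.IsMult (bcLaw F A') := by
  intro R _ _
  let _ : Algebra A R := Algebra.compHom R (algebraMap A A')
  have : IsScalarTower A A' R := IsScalarTower.of_algebraMap_eq (fun _ => rfl)
  refine ⟨?_, fun x y => ?_⟩
  · rw [bcLaw_toFun', map_one, (hF R).1, map_one]
  · rw [bcLaw_toFun', bcLaw_toFun', bcLaw_toFun', map_mul, (hF R).2, map_mul]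


/-- Post-composition with an algebra isomorphism does not change the kernel. -/
theorem ker_postcomp_equiv {C' : Type u} [CommRing C'] [Algebra A C'] (e : C ≃ₐ[A] C') (F : B →ₚₗ[A] C) :
    PolLaw.ker (PolLaw.postcomp e.toAlgHom.toLinearMap F) = PolLaw.ker F := by
  have hinj : ∀ (S : Type u) [CommSemiring S] [Algebra A S],
      Function.Injective (e.toAlgHom.toLinearMap.lTensor S) := by
    intro S _ _
    have : (e.toAlgHom.toLinearMap.lTensor S) = (e.toLinearEquiv.lTensor S).toLinearMap := by
      ext; rfl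
    rw [this]
    exact (e.toLinearEquiv.lTensor S).injective
  ext b
  constructor
  · intro h S _ _ x w
    exact hinj S (h S x w)
  · intro h S _ _ x w
    exact congrArg (e.toAlgHom.toLinearMap.lTensor S) (h S x w)

/-- The base change of a multiplicative law `B → A` of degree `d` to a multiplicative law
`A' ⊗ B → A'` of degree `d` over `A'`. -/
noncomputable def bcMul {d : ℕ} (F : PolLaw.MulLaw A B A d) (A' : Type u) [CommRing A'] [Algebra A A'] :
    PolLaw.MulLaw A' (A' ⊗[A] B) A' d :=
  PolLaw.MulLaw.postcomp (Algebra.TensorProduct.rid A A' A').toAlgHom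
    ⟨bcLaw F.law A', bcLaw_isHomog F.law F.homog A', bcLaw_isMult F.law F.mult A'⟩

theorem ker_bcMul {d : ℕ} (F : PolLaw.MulLaw A B A d) (A' : Type u) [CommRing A'] [Algebra A A'] :
    PolLaw.ker (bcMul F A').law = PolLaw.kerBC F.law A' := by
  rw [← ker_bcLaw]
  exact ker_postcomp_equiv (Algebra.TensorProduct.rid A A' A') (bcLaw F.law A')

/-- Values of the base-changed law that are scalars. -/
theorem bcMul_toFun'_eq_tmul {d : ℕ} (F : PolLaw.MulLaw A B A d) (A' : Type u) [CommRing A'] [Algebra A A']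
    (R : Type u) [CommSemiring R] [Algebra A R] [Algebra A' R] [IsScalarTower A A' R]
    (x : R ⊗[A'] (A' ⊗[A] B)) (r : R) (h : F.law.toFun' R (cb A A' R B x) = r ⊗ₜ[A] (1 : A)) :
    (bcMul F A').law.toFun' R x = r ⊗ₜ[A'] (1 : A') := by
  show (Algebra.TensorProduct.rid A A' A').toAlgHom.toLinearMap.lTensor R ((bcLaw F.law A').toFun' R x) = _
  rw [bcLaw_toFun', h, cb_symm_tmul, LinearMap.lTensor_tmul]
  simp


/-- Post-composition with an algebra isomorphism does not change the kernels of the base changes. -/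
theorem kerBC_postcomp_equiv {C' : Type u} [CommRing C'] [Algebra A C'] (e : C ≃ₐ[A] C') (F : B →ₚₗ[A] C)
    (A' : Type u) [CommRing A'] [Algebra A A'] :
    PolLaw.kerBC (PolLaw.postcomp e.toAlgHom.toLinearMap F) A' = PolLaw.kerBC F A' := by
  have hinj : ∀ (S : Type u) [CommSemiring S] [Algebra A S],
      Function.Injective (e.toAlgHom.toLinearMap.lTensor S) := by
    intro S _ _
    have : (e.toAlgHom.toLinearMap.lTensor S) = (e.toLinearEquiv.lTensor S).toLinearMap := by
      ext; rfl
    rw [this]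
    exact (e.toLinearEquiv.lTensor S).injective
  ext b
  constructor
  · intro h R _ _ _ _ x w
    exact hinj R (h R x w)
  · intro h R _ _ _ _ x w
    exact congrArg (e.toAlgHom.toLinearMap.lTensor R) (h R x w)

section trans

variable {A₁ : Type u} [CommRing A₁] [Algebra A A₁] {A₂ : Type u} [CommRing A₂] [Algebra A A₂]
  [Algebra A₁ A₂] [IsScalarTower A A₁ A₂]

theorem cb_map_toAlgHom (R : Type u) [CommSemiring R] [Algebra A R] [Algebra A₁ R] [Algebra A₂ R]
    [IsScalarTower A A₁ R] [IsScalarTower A A₂ R] [IsScalarTower A₁ A₂ R] (b'' : A₂ ⊗[A₁] (A₁ ⊗[A] B)) :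
    cb A A₁ R B (Algebra.TensorProduct.map (IsScalarTower.toAlgHom A₁ A₂ R) (AlgHom.id A₁ (A₁ ⊗[A] B)) b'') =
      Algebra.TensorProduct.map (IsScalarTower.toAlgHom A A₂ R) (AlgHom.id A B) (cb A A₁ A₂ B b'') := by
  induction b'' using TensorProduct.induction_on with
  | zero => simp
  | tmul r z =>
    induction z using TensorProduct.induction_on with
    | zero => simp
    | tmul a b =>
      rw [Algebra.TensorProduct.map_tmul, AlgHom.id_apply, cb_tmul, cb_tmul, Algebra.TensorProduct.map_tmul]
      simp [Algebra.smul_def, IsScalarTower.algebraMap_apply A₁ A₂ R]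
    | add x y hx hy =>
      rw [TensorProduct.tmul_add, map_add, map_add, hx, hy, map_add, map_add]
  | add x y hx hy => rw [map_add, map_add, hx, hy, map_add, map_add]

/-- Transitivity of base change for kernels. -/
theorem mem_kerBC_bcLaw_iff (F : B →ₚₗ[A] C) (b'' : A₂ ⊗[A₁] (A₁ ⊗[A] B)) :
    b'' ∈ PolLaw.kerBC (bcLaw F A₁) A₂ ↔ cb A A₁ A₂ B b'' ∈ PolLaw.kerBC F A₂ := by
  constructor
  · intro h R _ _ _ _ x w
    let _ : Algebra A₁ R := Algebra.compHom R (algebraMap A₁ A₂)
    have : IsScalarTower A₁ A₂ R := IsScalarTower.of_algebraMap_eq (fun _ => rfl)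
    have : IsScalarTower A A₁ R := IsScalarTower.of_algebraMap_eq (fun a => by
      rw [IsScalarTower.algebraMap_apply A A₂ R, IsScalarTower.algebraMap_apply A A₁ A₂]; rfl)
    have h1 := h R ((cb A A₁ R B).symm x) ((cb A A₁ R B).symm w)
    rw [bcLaw_toFun', bcLaw_toFun', map_add, map_mul, AlgEquiv.apply_symm_apply,
      AlgEquiv.apply_symm_apply, cb_map_toAlgHom] at h1
    exact (cb A A₁ R C).symm.injective h1
  · intro h R _ _ _ _ x w
    let _ : Algebra A R := Algebra.compHom R (algebraMap A A₁)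
    have : IsScalarTower A A₁ R := IsScalarTower.of_algebraMap_eq (fun _ => rfl)
    have : IsScalarTower A A₂ R := IsScalarTower.of_algebraMap_eq (fun a => by
      rw [IsScalarTower.algebraMap_apply A A₁ R, IsScalarTower.algebraMap_apply A A₁ A₂,
        ← IsScalarTower.algebraMap_apply A₁ A₂ R])
    rw [bcLaw_toFun', bcLaw_toFun', map_add, map_mul, cb_map_toAlgHom]
    exact congrArg _ (h R _ _)

end trans

end law

end Groth.Agent.Lib.BCLaw23
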