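import Groth.Agent.Lib.TFunFlatBC
import Mathlib.RingTheory.LocalRing.ResidueField.Ideal

set_option autoImplicit false
universe u

namespace Groth.Agent.Lib.DRankBC

open CategoryTheory CategoryTheory.Limits MonoidalCategory CohIII TensorProduct

variable {A B C : Type u} [CommRing A] [CommRing B] [CommRing C]
variable {ι : Type} {c : ComplexShape ι} (P : HomologicalComplex (ModuleCat.{u} A) c)

/-- Base change of complexes is compatible with composition of ring maps. -/
noncomputable def bcCxComp (f : A →+* B) (g : B →+* C) :
    bcCx (g.comp f) P ≅ bcCx g (bcCx f P) :=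
  HomologicalComplex.Hom.isoOfComponents
    (fun i => (ModuleCat.extendScalarsComp f g).app (P.X i)) (by
      intro i j _
      exact ((ModuleCat.extendScalarsComp f g).hom.naturality (P.d i j)).symm)

theorem finrank_homology_bcCx_comp (f : A →+* B) (g : B →+* C) (q : ι) :
    Module.finrank C ((bcCx g (bcCx f P)).homology q) =
      Module.finrank C ((bcCx (g.comp f) P).homology q) :=
  (((HomologicalComplex.homologyFunctor _ c q).mapIso (bcCxComp P f g)).toLinearEquiv).finrank_eq.symm

/-- Homology dimension is invariant under field extension. -/
theorem finrank_homology_bcCx_field {L L' : Type u} [Field L] [Field L'] (ψ : L →+* L')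
    (Q : HomologicalComplex (ModuleCat.{u} L) c) (q : ι) :
    Module.finrank L' ((bcCx ψ Q).homology q) = Module.finrank L (Q.homology q) := by
  letI : Algebra L L' := ψ.toAlgebra
  have h : Module.finrank L' ((bcCx (algebraMap L L') Q).homology q) =
      Module.finrank L (Q.homology q) := by
    rw [(Groth.Agent.Lib.TFunFlatBC.homologyFBEquiv L' Q q).finrank_eq, Module.finrank_baseChange]
  exact h

/-- `d_q` is compatible with base change along `A → B`. -/
theorem dRank_bcCx [Algebra A B] (q : ι) (y : PrimeSpectrum B) :
    dRank (bcCx (algebraMap A B) P) q y =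
      dRank P q (PrimeSpectrum.comap (algebraMap A B) y) := by
  let x := PrimeSpectrum.comap (algebraMap A B) y
  let ψ : x.asIdeal.ResidueField →+* y.asIdeal.ResidueField :=
    Ideal.ResidueField.map x.asIdeal y.asIdeal (algebraMap A B) rfl
  have hψ : ψ.comp (algebraMap A x.asIdeal.ResidueField) =
      (algebraMap B y.asIdeal.ResidueField).comp (algebraMap A B) := by
    ext r
    exact Ideal.ResidueField.map_algebraMap _ _ _ _ r
  show Module.finrank y.asIdeal.ResidueField
      ((bcCx (algebraMap B y.asIdeal.ResidueField) (bcCx (algebraMap A B) P)).homology q) =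
    Module.finrank x.asIdeal.ResidueField
      ((bcCx (algebraMap A x.asIdeal.ResidueField) P).homology q)
  rw [finrank_homology_bcCx_comp, ← hψ, ← finrank_homology_bcCx_comp, finrank_homology_bcCx_field]

end Groth.Agent.Lib.DRankBC
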