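import Groth.Agent.Lib.FibreDict21
import Groth.Agent.Lib.DRankBC

/-!
# Transfer of the base-change property of a model along a base change of the family (helper21)

If `X' = X₀ ×_{A₀} A` and `L₀` is a model of `(X₀, F₀)` over `A₀` with the base-change property `BCProp`, then
`L₀ ⊗_{A₀} A` is a model of `(X', F')` over `A` with the base-change property (no hypotheses on the rings).
-/

set_option autoImplicit false
set_option linter.style.haveILetI false
universe u

open CategoryTheory CategoryTheory.Limits AlgebraicGeometry Opposite CohIII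

namespace Groth.Agent.Lib.BCPropTransfer21

open Groth.Agent.Lib.FibreDict21 Scheme.Modules

theorem bcProp_of_isPullback {A₀ A : Type u} [CommRing A₀] [CommRing A] (φ : A₀ →+* A)
    {X₀ X' : Scheme.{u}} [X₀.Over (Spec (CommRingCat.of A₀))] [X'.Over (Spec (CommRingCat.of A))]
    (g₀ : X' ⟶ X₀)
    (hpb : IsPullback g₀ (X' ↘ Spec (CommRingCat.of A)) (X₀ ↘ Spec (CommRingCat.of A₀))
      (Spec.map (CommRingCat.ofHom φ)))
    (F₀ : X₀.Modules) (F' : X'.Modules) (β : F' ≅ (Scheme.Modules.pullback g₀).obj F₀)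
    (L₀ : CochainComplex (ModuleCat.{u} A₀) ℤ) (h : BCProp A₀ F₀ L₀) :
    BCProp A F' (bcCx φ L₀) := by
  intro R _ _ X'' _ g' sq p
  letI : Algebra A₀ R := ((algebraMap A R).comp φ).toAlgebra
  have hmap : Spec.map (CommRingCat.ofHom (algebraMap A₀ R)) =
      Spec.map (CommRingCat.ofHom (algebraMap A R)) ≫ Spec.map (CommRingCat.ofHom φ) := by
    rw [← Spec.map_comp]
    rfl
  have sq' : IsPullback (g' ≫ g₀) (X'' ↘ Spec (CommRingCat.of R))
      (X₀ ↘ Spec (CommRingCat.of A₀)) (Spec.map (CommRingCat.ofHom (algebraMap A₀ R))) := by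
    rw [hmap]
    exact sq.paste_horiz hpb
  obtain ⟨e⟩ := h R X'' (g' ≫ g₀) sq' p
  let γ : (Scheme.Modules.pullback g').obj F' ≅ (Scheme.Modules.pullback (g' ≫ g₀)).obj F₀ :=
    (Scheme.Modules.pullback g').mapIso β ≪≫ (pullbackComp g' g₀).app F₀
  let δ : (bcCx (algebraMap A₀ R) L₀).homology (p : ℤ) ≅
      (bcCx (algebraMap A R) (bcCx φ L₀)).homology (p : ℤ) :=
    (HomologicalComplex.homologyFunctor _ (ComplexShape.up ℤ) (p : ℤ)).mapIso
      (Groth.Agent.Lib.DRankBC.bcCxComp L₀ φ (algebraMap A R))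
  exact ⟨(Groth.Agent.Lib.BaseChangeCohH44.HHlinEquiv R γ p).trans (e.trans δ.toLinearEquiv)⟩

end Groth.Agent.Lib.BCPropTransfer21
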