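import Groth.Agent.Lib.BaseChangeSheafH44
import Groth.Prelude.Def_Canon

/-!
# Cohomology of the base change: `H^p(X_R, π^*F) ≅ H^p(C ⊗_A R)` (helper44)

`X` over `Spec A` with a finite cover `U` by opens with affine finite intersections, `F` quasi-coherent,
`C = cechCx A F U` the Čech complex (of `A`-modules) of `F ⊗_A A`.  For every `A`-algebra `R`,
`H^p(X_R, π^*(F ⊗_A A)) ≃+ H^p(C ⊗_A R)`, compatibly with the actions of `R`.
-/

set_option autoImplicit false
set_option linter.style.haveILetI false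
universe u

open CategoryTheory CategoryTheory.Limits AlgebraicGeometry Opposite MonoidalCategory CohIII

namespace Groth.Agent.Lib.BaseChangeCohH44

open Groth.Agent.Lib.TensorACechH44 Groth.Agent.Lib.EWH44 Groth.Agent.Lib.ReesCoh Formal
  Groth.Agent.Lib.BaseChangeSheafH44 Groth.Agent.Lib.PushCechLead Groth.Agent.Lib.CechEquivH44
  Groth.Agent.Lib.CechEquivariant9

variable (A : Type u) [CommRing A] (R : Type u) [CommRing R] [Algebra A R]
  {X : Scheme.{u}} [X.Over (Spec (CommRingCat.of A))] (F : X.Modules)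
  {ι : Type u} (U : ι → X.Opens)

section Cover

omit [X.Over (Spec (CommRingCat.of A))] in
theorem preimage_biInf {Y : Scheme.{u}} (g : Y ⟶ X) (s : Finset ι) (hs : s.Nonempty) :
    g ⁻¹ᵁ (⨅ i ∈ s, U i) = ⨅ i ∈ s, g ⁻¹ᵁ U i := by
  classical
  induction hs using Finset.Nonempty.cons_induction with
  | singleton a => simp
  | cons a s ha hs ih =>
    rw [Finset.cons_eq_insert, Finset.iInf_insert, Finset.iInf_insert, Scheme.Hom.preimage_inf, ih]

theorem isAffineOpen_preimage_biInf
    (hU : ∀ s : Finset ι, s.Nonempty → IsAffineOpen (⨅ i ∈ s, U i)) (s : Finset ι)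
    (hs : s.Nonempty) : IsAffineOpen (⨅ i ∈ s, bcπ A R X ⁻¹ᵁ U i) := by
  rw [← preimage_biInf U (bcπ A R X) s hs]
  exact (hU s hs).preimage (bcπ A R X)

end Cover

/-- the action of the multiplicative monoid of `R` on the abelian sheaf underlying a module on a scheme over
`Spec R` -/
noncomputable def actR {Y : Scheme.{u}} [Y.Over (Spec (CommRingCat.of R))] (M : Y.Modules) :
    R →* End (Coh.toAb M) where
  toFun r := Coh.smulAb M (Coh.toGlobal (Y ↘ Spec (CommRingCat.of R)) r)
  map_one' := by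
    rw [map_one, Coh.smulAb_one]
    rfl
  map_mul' r s := by
    rw [map_mul, Coh.smulAb_mul]
    rfl

variable [F.IsQuasicoherent] [Finite ι]

/-- **Base change for cohomology.** -/
theorem exists_addEquiv_bc (hcov : ⨆ i, U i = ⊤)
    (hU : ∀ s : Finset ι, s.Nonempty → IsAffineOpen (⨅ i ∈ s, U i)) (p : ℕ) :
    ∃ e : Coh.HH (bc A R X) (E₁ A R F) p ≃+ ((TFun (cechCx A F U) p).obj (ModuleCat.of A R)),
      ∀ (r : R) (x : Coh.HH (bc A R X) (E₁ A R F) p),
        e (r • x) = ((TFun (cechCx A F U) p).map (mulR A R r)).hom (e x) := by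
  have hcov' : ⨆ i, bcπ A R X ⁻¹ᵁ U i = ⊤ := by
    rw [← Scheme.Hom.preimage_iSup, hcov]
    rfl
  haveI : Coh.IsQCoh (E₁ A R F) := by
    haveI : (E₀ A F).IsQuasicoherent := isQuasicoherent_tensorAFunctor_obj A F _
    infer_instance
  obtain ⟨e₁, he₁⟩ := exists_addEquiv_act (fun i => bcπ A R X ⁻¹ᵁ U i) hcov'
    (isAffineOpen_preimage_biInf A R U hU) (E₁ A R F) R (actR R (E₁ A R F)) p
  obtain ⟨I⟩ := nonempty_cechTFunIso A F U (Groth.Agent.Lib.TensorAModelH44.isAffineOpen_prod U hU) p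
  obtain ⟨κ, -, hκ⟩ := exists_iso_push_pull A R F
  -- the comparison of Čech cohomology groups
  let cκ : (cechFun A F U ⋙ HomologicalComplex.homologyFunctor AddCommGrpCat.{u} _ p).obj
      (ModuleCat.of A R) ≅ CohB1.cechH U (G₀ A R F) p :=
    (HomologicalComplex.homologyFunctor AddCommGrpCat.{u} _ p).mapIso
      ((cechComplexFunctor U).mapIso ((Scheme.Modules.toPresheaf X).mapIso κ))
  let c := cechHPushIso (bcπ A R X) U (E₁ A R F) p
  let J : (TFun (cechCx A F U) p ⋙ forget₂ (ModuleCat.{u} A) AddCommGrpCat.{u}).obj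
      (ModuleCat.of A R) ≅ CohB1.cechH (fun i => bcπ A R X ⁻¹ᵁ U i) (E₁ A R F) p :=
    I.app (ModuleCat.of A R) ≪≫ cκ ≪≫ c.symm
  -- the endomorphisms induced by multiplication by `r`
  obtain ⟨aR, haR⟩ : ∃ a : R → (CohB1.cechH (fun i => bcπ A R X ⁻¹ᵁ U i) (E₁ A R F) p ⟶
      CohB1.cechH (fun i => bcπ A R X ⁻¹ᵁ U i) (E₁ A R F) p), ∀ r, a r =
      HomologicalComplex.homologyMap ((cechComplexFunctor (fun i => bcπ A R X ⁻¹ᵁ U i)).map
        (actR R (E₁ A R F) r : Coh.toAb (E₁ A R F) ⟶ Coh.toAb (E₁ A R F)).hom) p :=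
    ⟨fun r => _, fun r => rfl⟩
  obtain ⟨bR, hbR⟩ : ∃ b : R → (CohB1.cechH U (G₀ A R F) p ⟶ CohB1.cechH U (G₀ A R F) p),
      ∀ r, b r = HomologicalComplex.homologyMap
        ((cechComplexFunctor U).map ((Scheme.Modules.toPresheaf X).map (ρ₀ A R F r))) p :=
    ⟨fun r => _, fun r => rfl⟩
  -- naturality with respect to multiplication by `r`
  have h2 : ∀ r : R, (cechFun A F U ⋙ HomologicalComplex.homologyFunctor AddCommGrpCat.{u} _ p).map
      (mulR A R r) ≫ cκ.hom = cκ.hom ≫ bR r := by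
    intro r
    rw [hbR]
    change HomologicalComplex.homologyMap ((cechComplexFunctor U).map
        ((Scheme.Modules.toPresheaf X).map ((tensorAFunctor A F).map (mulR A R r)))) p ≫
      HomologicalComplex.homologyMap ((cechComplexFunctor U).map
        ((Scheme.Modules.toPresheaf X).map κ.hom)) p = HomologicalComplex.homologyMap
        ((cechComplexFunctor U).map ((Scheme.Modules.toPresheaf X).map κ.hom)) p ≫ _
    rw [← HomologicalComplex.homologyMap_comp, ← HomologicalComplex.homologyMap_comp,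
      ← Functor.map_comp, ← Functor.map_comp, ← Functor.map_comp, ← Functor.map_comp, hκ r]
  have h3 : ∀ r : R, bR r ≫ c.inv = c.inv ≫ aR r := by
    intro r
    have h4' : aR r ≫ c.hom = c.hom ≫ bR r := by
      rw [haR, hbR]
      have hnat := cechIso_naturality (TopologicalSpace.Opens.map (bcπ A R X).base) U
        ((actR R (E₁ A R F) r : Coh.toAb (E₁ A R F) ⟶ Coh.toAb (E₁ A R F)).hom :
          (E₁ A R F).presheaf ⟶ (E₁ A R F).presheaf) (isIso_piComparison_map (bcπ A R X) U)
      have h4 := congrArg (fun φ => HomologicalComplex.homologyMap φ p) hnat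
      simp only [HomologicalComplex.homologyMap_comp] at h4
      exact h4
    rw [Iso.comp_inv_eq, Category.assoc, h4', Iso.inv_hom_id_assoc]
  have hJ : ∀ r : R,
      (TFun (cechCx A F U) p ⋙ forget₂ (ModuleCat.{u} A) AddCommGrpCat.{u}).map (mulR A R r) ≫ J.hom =
      J.hom ≫ aR r := by
    intro r
    have h1 := I.hom.naturality (mulR A R r)
    have hJhom : J.hom = I.hom.app (ModuleCat.of A R) ≫ cκ.hom ≫ c.inv := rfl
    rw [hJhom, ← Category.assoc, h1, Category.assoc, ← Category.assoc _ cκ.hom, h2, Category.assoc,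
      Category.assoc, Category.assoc, h3]
  have hJinv : ∀ r : R, aR r ≫ J.inv =
      J.inv ≫ (TFun (cechCx A F U) p ⋙ forget₂ (ModuleCat.{u} A) AddCommGrpCat.{u}).map
        (mulR A R r) := by
    intro r
    rw [Iso.comp_inv_eq, Category.assoc, hJ, Iso.inv_hom_id_assoc]
  let E : Coh.HH (bc A R X) (E₁ A R F) p ≃+ ((TFun (cechCx A F U) p).obj (ModuleCat.of A R)) :=
    e₁.symm.trans J.symm.addCommGroupIsoToAddEquiv
  refine ⟨E, fun r x => ?_⟩
  obtain ⟨y, rfl⟩ := e₁.surjective x
  have h5 : r • e₁ y = e₁ ((aR r).hom y) := by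
    rw [haR]
    exact (he₁ r y).symm
  rw [h5]
  change J.inv.hom (e₁.symm (e₁ _)) = ((TFun (cechCx A F U) p).map (mulR A R r)).hom
    (J.inv.hom (e₁.symm (e₁ y)))
  rw [AddEquiv.symm_apply_apply, AddEquiv.symm_apply_apply]
  exact ConcreteCategory.congr_hom (hJinv r) y

/-- an isomorphism of modules induces a linear equivalence on cohomology -/
noncomputable def HHlinEquiv {Y : Scheme.{u}} [Y.Over (Spec (CommRingCat.of R))] {M N : Y.Modules}
    (e : M ≅ N) (p : ℕ) : Coh.HH Y M p ≃ₗ[R] Coh.HH Y N p :=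
  LinearEquiv.ofLinear (Canon.HHlin R e.hom p) (Canon.HHlin R e.inv p)
    (by
      refine LinearMap.ext fun x => ?_
      change Sheaf.H.map ((SheafOfModules.toSheaf Y.ringCatSheaf).mapIso e).hom p
        (Sheaf.H.map ((SheafOfModules.toSheaf Y.ringCatSheaf).mapIso e).inv p x) = x
      rw [← Sheaf.H.map_comp_apply, Iso.inv_hom_id, Sheaf.H.map_id_apply])
    (by
      refine LinearMap.ext fun x => ?_
      change Sheaf.H.map ((SheafOfModules.toSheaf Y.ringCatSheaf).mapIso e).inv p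
        (Sheaf.H.map ((SheafOfModules.toSheaf Y.ringCatSheaf).mapIso e).hom p x) = x
      rw [← Sheaf.H.map_comp_apply, Iso.hom_inv_id, Sheaf.H.map_id_apply])

/-- **Base change for cohomology**, for `π^* F` itself. -/
theorem exists_addEquiv_bc_pull (hcov : ⨆ i, U i = ⊤)
    (hU : ∀ s : Finset ι, s.Nonempty → IsAffineOpen (⨅ i ∈ s, U i)) (p : ℕ) :
    ∃ e : Coh.HH (bc A R X) ((Scheme.Modules.pullback (bcπ A R X)).obj F) p ≃+
        ((TFun (cechCx A F U) p).obj (ModuleCat.of A R)),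
      ∀ (r : R) (x : Coh.HH (bc A R X) ((Scheme.Modules.pullback (bcπ A R X)).obj F) p),
        e (r • x) = ((TFun (cechCx A F U) p).map (mulR A R r)).hom (e x) := by
  obtain ⟨e, he⟩ := exists_addEquiv_bc A R F U hcov hU p
  let σ := HHlinEquiv R ((Scheme.Modules.pullback (bcπ A R X)).mapIso
    (Groth.Agent.Lib.TensorAModel2H44.tensorASelfIso A F)) p
  refine ⟨σ.symm.toAddEquiv.trans e, fun r x => ?_⟩
  change e (σ.symm (r • x)) = _
  rw [map_smul, he]
  rfl

end Groth.Agent.Lib.BaseChangeCohH44
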