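import Groth.Agent.Lib.BaseChangeSheafSqH44
import Groth.Agent.Lib.BaseChangeCohH44
import Groth.Prelude.Def_Canon

/-!
# Cohomology of a base change `X' = X ×_A R` (arbitrary cartesian square): `H^p(X', g'^*F) ≅ H^p(C ⊗_A R)` (helper44)

`X` over `Spec A` with a finite cover `U` by opens with affine finite intersections, `F` quasi-coherent,
`C = cechCx A F U` the Čech complex (of `A`-modules) of `F ⊗_A A`.  For every `A`-algebra `R`,
`H^p(X_R, π^*(F ⊗_A A)) ≃+ H^p(C ⊗_A R)`, compatibly with the actions of `R`.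
-/

set_option autoImplicit false
set_option linter.style.haveILetI false
universe u

open CategoryTheory CategoryTheory.Limits AlgebraicGeometry Opposite MonoidalCategory CohIII

namespace Groth.Agent.Lib.BaseChangeCohSqH44

open Groth.Agent.Lib.TensorACechH44 Groth.Agent.Lib.EWH44 Groth.Agent.Lib.ReesCoh Formal
  Groth.Agent.Lib.BaseChangeSheafSqH44 Groth.Agent.Lib.PushCechLead Groth.Agent.Lib.BaseChangeCohH44
  Groth.Agent.Lib.PullbackSqSecH44 Groth.Agent.Lib.CechEquivH44
  Groth.Agent.Lib.CechEquivariant9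

variable (A : Type u) [CommRing A] (R : Type u) [CommRing R] [Algebra A R]
  {X X' : Scheme.{u}} [X.Over (Spec (CommRingCat.of A))] [X'.Over (Spec (CommRingCat.of R))]
  (g' : X' ⟶ X) (F : X.Modules)
  {ι : Type u} (U : ι → X.Opens)

theorem isAffineOpen_preimage_biInf' [IsAffineHom g']
    (hU : ∀ s : Finset ι, s.Nonempty → IsAffineOpen (⨅ i ∈ s, U i)) (s : Finset ι)
    (hs : s.Nonempty) : IsAffineOpen (⨅ i ∈ s, g' ⁻¹ᵁ U i) := by
  rw [← preimage_biInf U g' s hs]
  exact (hU s hs).preimage g'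

variable [F.IsQuasicoherent] [Finite ι]

/-- **Base change for cohomology.** -/
theorem exists_addEquiv_sq
    (hsq : IsPullback g' (X' ↘ Spec (CommRingCat.of R)) (X ↘ Spec (CommRingCat.of A))
      (Spec.map (CommRingCat.ofHom (algebraMap A R))))
    (hcov : ⨆ i, U i = ⊤)
    (hU : ∀ s : Finset ι, s.Nonempty → IsAffineOpen (⨅ i ∈ s, U i)) (p : ℕ) :
    ∃ e : Coh.HH X' (E₁ A g' F) p ≃+ ((TFun (cechCx A F U) p).obj (ModuleCat.of A R)),
      ∀ (r : R) (x : Coh.HH X' (E₁ A g' F) p),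
        e (r • x) = ((TFun (cechCx A F U) p).map (Groth.Agent.Lib.BaseChangeSheafH44.mulR A R r)).hom (e x) := by
  haveI : IsAffineHom g' := isAffineHom_of_isPullback hsq
  have hcov' : ⨆ i, g' ⁻¹ᵁ U i = ⊤ := by
    rw [← Scheme.Hom.preimage_iSup, hcov]
    rfl
  haveI : Coh.IsQCoh (E₁ A g' F) := by
    haveI : (E₀ A F).IsQuasicoherent := isQuasicoherent_tensorAFunctor_obj A F _
    infer_instance
  obtain ⟨e₁, he₁⟩ := exists_addEquiv_act (fun i => g' ⁻¹ᵁ U i) hcov'
    (isAffineOpen_preimage_biInf' g' U hU) (E₁ A g' F) R (actR R (E₁ A g' F)) p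
  obtain ⟨I⟩ := nonempty_cechTFunIso A F U (Groth.Agent.Lib.TensorAModelH44.isAffineOpen_prod U hU) p
  obtain ⟨κ, -, hκ⟩ := exists_iso_push_pull A R g' F hsq
  -- the comparison of Čech cohomology groups
  let cκ : (cechFun A F U ⋙ HomologicalComplex.homologyFunctor AddCommGrpCat.{u} _ p).obj
      (ModuleCat.of A R) ≅ CohB1.cechH U (G₀ A g' F) p :=
    (HomologicalComplex.homologyFunctor AddCommGrpCat.{u} _ p).mapIso
      ((cechComplexFunctor U).mapIso ((Scheme.Modules.toPresheaf X).mapIso κ))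
  let c := cechHPushIso g' U (E₁ A g' F) p
  let J : (TFun (cechCx A F U) p ⋙ forget₂ (ModuleCat.{u} A) AddCommGrpCat.{u}).obj
      (ModuleCat.of A R) ≅ CohB1.cechH (fun i => g' ⁻¹ᵁ U i) (E₁ A g' F) p :=
    I.app (ModuleCat.of A R) ≪≫ cκ ≪≫ c.symm
  -- the endomorphisms induced by multiplication by `r`
  obtain ⟨aR, haR⟩ : ∃ a : R → (CohB1.cechH (fun i => g' ⁻¹ᵁ U i) (E₁ A g' F) p ⟶
      CohB1.cechH (fun i => g' ⁻¹ᵁ U i) (E₁ A g' F) p), ∀ r, a r =
      HomologicalComplex.homologyMap ((cechComplexFunctor (fun i => g' ⁻¹ᵁ U i)).map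
        (actR R (E₁ A g' F) r : Coh.toAb (E₁ A g' F) ⟶ Coh.toAb (E₁ A g' F)).hom) p :=
    ⟨fun r => _, fun r => rfl⟩
  obtain ⟨bR, hbR⟩ : ∃ b : R → (CohB1.cechH U (G₀ A g' F) p ⟶ CohB1.cechH U (G₀ A g' F) p),
      ∀ r, b r = HomologicalComplex.homologyMap
        ((cechComplexFunctor U).map ((Scheme.Modules.toPresheaf X).map (ρ₀ A R g' F r))) p :=
    ⟨fun r => _, fun r => rfl⟩
  -- naturality with respect to multiplication by `r`
  have h2 : ∀ r : R, (cechFun A F U ⋙ HomologicalComplex.homologyFunctor AddCommGrpCat.{u} _ p).map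
      (Groth.Agent.Lib.BaseChangeSheafH44.mulR A R r) ≫ cκ.hom = cκ.hom ≫ bR r := by
    intro r
    rw [hbR]
    change HomologicalComplex.homologyMap ((cechComplexFunctor U).map
        ((Scheme.Modules.toPresheaf X).map ((tensorAFunctor A F).map (Groth.Agent.Lib.BaseChangeSheafH44.mulR A R r)))) p ≫
      HomologicalComplex.homologyMap ((cechComplexFunctor U).map
        ((Scheme.Modules.toPresheaf X).map κ.hom)) p = HomologicalComplex.homologyMap
        ((cechComplexFunctor U).map ((Scheme.Modules.toPresheaf X).map κ.hom)) p ≫ _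
    rw [← HomologicalComplex.homologyMap_comp, ← HomologicalComplex.homologyMap_comp,
      ← Functor.map_comp, ← Functor.map_comp, ← Functor.map_comp, ← Functor.map_comp, hκ r]
  have h3 : ∀ r : R, bR r ≫ c.inv = c.inv ≫ aR r := by
    intro r
    have h4' : aR r ≫ c.hom = c.hom ≫ bR r := by
      rw [haR, hbR]
      have hnat := cechIso_naturality (TopologicalSpace.Opens.map g'.base) U
        ((actR R (E₁ A g' F) r : Coh.toAb (E₁ A g' F) ⟶ Coh.toAb (E₁ A g' F)).hom :
          (E₁ A g' F).presheaf ⟶ (E₁ A g' F).presheaf) (isIso_piComparison_map g' U)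
      have h4 := congrArg (fun φ => HomologicalComplex.homologyMap φ p) hnat
      simp only [HomologicalComplex.homologyMap_comp] at h4
      exact h4
    rw [Iso.comp_inv_eq, Category.assoc, h4', Iso.inv_hom_id_assoc]
  have hJ : ∀ r : R,
      (TFun (cechCx A F U) p ⋙ forget₂ (ModuleCat.{u} A) AddCommGrpCat.{u}).map (Groth.Agent.Lib.BaseChangeSheafH44.mulR A R r) ≫ J.hom =
      J.hom ≫ aR r := by
    intro r
    have h1 := I.hom.naturality (Groth.Agent.Lib.BaseChangeSheafH44.mulR A R r)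
    have hJhom : J.hom = I.hom.app (ModuleCat.of A R) ≫ cκ.hom ≫ c.inv := rfl
    rw [hJhom, ← Category.assoc, h1, Category.assoc, ← Category.assoc _ cκ.hom, h2, Category.assoc,
      Category.assoc, Category.assoc, h3]
  have hJinv : ∀ r : R, aR r ≫ J.inv =
      J.inv ≫ (TFun (cechCx A F U) p ⋙ forget₂ (ModuleCat.{u} A) AddCommGrpCat.{u}).map
        (Groth.Agent.Lib.BaseChangeSheafH44.mulR A R r) := by
    intro r
    rw [Iso.comp_inv_eq, Category.assoc, hJ, Iso.inv_hom_id_assoc]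
  let E : Coh.HH X' (E₁ A g' F) p ≃+ ((TFun (cechCx A F U) p).obj (ModuleCat.of A R)) :=
    e₁.symm.trans J.symm.addCommGroupIsoToAddEquiv
  refine ⟨E, fun r x => ?_⟩
  obtain ⟨y, rfl⟩ := e₁.surjective x
  have h5 : r • e₁ y = e₁ ((aR r).hom y) := by
    rw [haR]
    exact (he₁ r y).symm
  rw [h5]
  change J.inv.hom (e₁.symm (e₁ _)) = ((TFun (cechCx A F U) p).map (Groth.Agent.Lib.BaseChangeSheafH44.mulR A R r)).hom
    (J.inv.hom (e₁.symm (e₁ y)))
  rw [AddEquiv.symm_apply_apply, AddEquiv.symm_apply_apply]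
  exact ConcreteCategory.congr_hom (hJinv r) y

/-- **Base change for cohomology**, for `π^* F` itself. -/
theorem exists_addEquiv_sq_pull
    (hsq : IsPullback g' (X' ↘ Spec (CommRingCat.of R)) (X ↘ Spec (CommRingCat.of A))
      (Spec.map (CommRingCat.ofHom (algebraMap A R))))
    (hcov : ⨆ i, U i = ⊤)
    (hU : ∀ s : Finset ι, s.Nonempty → IsAffineOpen (⨅ i ∈ s, U i)) (p : ℕ) :
    ∃ e : Coh.HH X' ((Scheme.Modules.pullback g').obj F) p ≃+
        ((TFun (cechCx A F U) p).obj (ModuleCat.of A R)),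
      ∀ (r : R) (x : Coh.HH X' ((Scheme.Modules.pullback g').obj F) p),
        e (r • x) = ((TFun (cechCx A F U) p).map (Groth.Agent.Lib.BaseChangeSheafH44.mulR A R r)).hom (e x) := by
  obtain ⟨e, he⟩ := exists_addEquiv_sq A R g' F U hsq hcov hU p
  let σ := HHlinEquiv R ((Scheme.Modules.pullback g').mapIso
    (Groth.Agent.Lib.TensorAModel2H44.tensorASelfIso A F)) p
  refine ⟨σ.symm.toAddEquiv.trans e, fun r x => ?_⟩
  change e (σ.symm (r • x)) = _
  rw [map_smul, he]
  rfl

end Groth.Agent.Lib.BaseChangeCohSqH44
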