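import Groth.Agent.Lib.BcCxLiftH44
import Groth.Agent.Lib.BaseChangeCohSqH44

/-!
# The Čech complex of a base change is the base change of the Čech complex (helper44)

`X` over `Spec A` with a finite family `U` of opens with affine finite intersections, `F` quasi-coherent,
`g' : X' ⟶ X` a cartesian square over `Spec R ⟶ Spec A`.  Then, as complexes of `R`-modules,
`R ⊗_A cechCx A F U ≅ cechCx R (g'^* F) (g'⁻¹ U)`.
-/

set_option autoImplicit false
set_option linter.style.haveILetI false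
universe u

open CategoryTheory CategoryTheory.Limits AlgebraicGeometry Opposite MonoidalCategory CohIII

namespace Groth.Agent.Lib.BaseChangeCxH44

open Groth.Agent.Lib.TensorACechH44 Groth.Agent.Lib.EWH44 Groth.Agent.Lib.ReesCoh Formal
  Groth.Agent.Lib.BaseChangeSheafSqH44 Groth.Agent.Lib.PushCechLead
  Groth.Agent.Lib.CechEquivariant9 Groth.Agent.Lib.TensorAModel2H44 Groth.Agent.Lib.TensorAModelH44
  Groth.Agent.Lib.LinLiftH44

variable (A : Type u) [CommRing A] (R : Type u) [CommRing R] [Algebra A R]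
  {X X' : Scheme.{u}} [X.Over (Spec (CommRingCat.of A))] [X'.Over (Spec (CommRingCat.of R))]
  (g' : X' ⟶ X) (F : X.Modules)
  {ι : Type u} (U : ι → X.Opens)

/-- multiplication by a scalar commutes with every morphism of modules -/
theorem smulMod_naturality {Y : Scheme.{u}} [Y.Over (Spec (CommRingCat.of R))] {M N : Y.Modules}
    (f : M ⟶ N) (r : R) : smulMod R M r ≫ f = f ≫ smulMod R N r := by
  unfold smulMod
  exact (KLin.comp_smulModΓ f _).symm

variable [F.IsQuasicoherent] [Finite ι]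

/-- **The Čech complex of the base change, as a complex of abelian groups with its `R`-action.** -/
theorem exists_iso_cechFun
    (hsq : IsPullback g' (X' ↘ Spec (CommRingCat.of R)) (X ↘ Spec (CommRingCat.of A))
      (Spec.map (CommRingCat.ofHom (algebraMap A R)))) :
    ∃ Θ : (cechFun R ((Scheme.Modules.pullback g').obj F) (fun i => g' ⁻¹ᵁ U i)).obj
        (ModuleCat.of R R) ≅ (cechFun A F U).obj (ModuleCat.of A R),
      ∀ r : R, (cechFun R ((Scheme.Modules.pullback g').obj F) (fun i => g' ⁻¹ᵁ U i)).map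
          (r • 𝟙 (ModuleCat.of R R)) ≫ Θ.hom =
        Θ.hom ≫ (cechFun A F U).map (mulR A R r) := by
  obtain ⟨κ, -, hκ⟩ := exists_iso_push_pull A R g' F hsq
  obtain ⟨m1, -⟩ : ∃ m : (tensorAFunctor R ((Scheme.Modules.pullback g').obj F)).obj
      (ModuleCat.of R R) ≅ E₁ A g' F, m = m :=
    ⟨tensorASelfIso R ((Scheme.Modules.pullback g').obj F) ≪≫
      ((Scheme.Modules.pullback g').mapIso (tensorASelfIso A F)).symm, rfl⟩
  -- the three steps
  obtain ⟨a, ha⟩ : ∃ a : (cechFun R ((Scheme.Modules.pullback g').obj F)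
      (fun i => g' ⁻¹ᵁ U i)).obj (ModuleCat.of R R) ≅
      (cechComplexFunctor (fun i => g' ⁻¹ᵁ U i)).obj (E₁ A g' F).presheaf,
      a = (cechComplexFunctor (fun i => g' ⁻¹ᵁ U i)).mapIso
        ((Scheme.Modules.toPresheaf X').mapIso m1) := ⟨_, rfl⟩
  obtain ⟨c, hc⟩ : ∃ c : (cechComplexFunctor (fun i => g' ⁻¹ᵁ U i)).obj (E₁ A g' F).presheaf ≅
      (cechComplexFunctor U).obj (G₀ A g' F).presheaf, c = cechPushIso g' U (E₁ A g' F) := ⟨_, rfl⟩
  obtain ⟨d, hd⟩ : ∃ d : (cechComplexFunctor U).obj (G₀ A g' F).presheaf ≅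
      (cechFun A F U).obj (ModuleCat.of A R),
      d = (cechComplexFunctor U).mapIso ((Scheme.Modules.toPresheaf X).mapIso κ.symm) := ⟨_, rfl⟩
  refine ⟨a ≪≫ c ≪≫ d, fun r => ?_⟩
  -- equivariance of the three steps
  have h1 : (tensorAFunctor R ((Scheme.Modules.pullback g').obj F)).map (r • 𝟙 (ModuleCat.of R R)) ≫
      m1.hom = m1.hom ≫ smulMod R (E₁ A g' F) r := by
    rw [Groth.Agent.Lib.TensorALinH44.tensorAFunctor_map_smul]
    exact smulMod_naturality R m1.hom r
  obtain ⟨S0, hS0⟩ : ∃ f : (cechFun R ((Scheme.Modules.pullback g').obj F)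
      (fun i => g' ⁻¹ᵁ U i)).obj (ModuleCat.of R R) ⟶ (cechFun R ((Scheme.Modules.pullback g').obj F)
      (fun i => g' ⁻¹ᵁ U i)).obj (ModuleCat.of R R),
      f = (cechFun R ((Scheme.Modules.pullback g').obj F) (fun i => g' ⁻¹ᵁ U i)).map
        (r • 𝟙 (ModuleCat.of R R)) := ⟨_, rfl⟩
  obtain ⟨S1, hS1⟩ : ∃ f : (cechComplexFunctor (fun i => g' ⁻¹ᵁ U i)).obj (E₁ A g' F).presheaf ⟶
      (cechComplexFunctor (fun i => g' ⁻¹ᵁ U i)).obj (E₁ A g' F).presheaf,
      f = (cechComplexFunctor (fun i => g' ⁻¹ᵁ U i)).map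
        ((Scheme.Modules.toPresheaf X').map (smulMod R (E₁ A g' F) r)) := ⟨_, rfl⟩
  obtain ⟨S2, hS2⟩ : ∃ f : (cechComplexFunctor U).obj (G₀ A g' F).presheaf ⟶
      (cechComplexFunctor U).obj (G₀ A g' F).presheaf,
      f = (cechComplexFunctor U).map ((Scheme.Modules.toPresheaf X).map (ρ₀ A R g' F r)) := ⟨_, rfl⟩
  obtain ⟨S3, hS3⟩ : ∃ f : (cechFun A F U).obj (ModuleCat.of A R) ⟶
      (cechFun A F U).obj (ModuleCat.of A R), f = (cechFun A F U).map (mulR A R r) := ⟨_, rfl⟩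
  have ha' : S0 ≫ a.hom = a.hom ≫ S1 := by
    rw [ha, hS0, hS1]
    have h := congrArg (fun φ => (cechComplexFunctor (fun i => g' ⁻¹ᵁ U i)).map
      ((Scheme.Modules.toPresheaf X').map φ)) h1
    simp only [Functor.map_comp] at h
    exact h
  have hc' : S1 ≫ c.hom = c.hom ≫ S2 := by
    rw [hc, hS1, hS2]
    exact cechIso_naturality (TopologicalSpace.Opens.map g'.base) U
      ((Scheme.Modules.toPresheaf X').map (smulMod R (E₁ A g' F) r)) (isIso_piComparison_map g' U)
  have h3 : ρ₀ A R g' F r ≫ κ.inv = κ.inv ≫ (tensorAFunctor A F).map (mulR A R r) := by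
    rw [Iso.comp_inv_eq, Category.assoc, hκ r, Iso.inv_hom_id_assoc]
  have hd' : S2 ≫ d.hom = d.hom ≫ S3 := by
    rw [hd, hS2, hS3]
    have h := congrArg (fun φ => (cechComplexFunctor U).map
      ((Scheme.Modules.toPresheaf X).map φ)) h3
    simp only [Functor.map_comp] at h
    exact h
  rw [← hS0, ← hS3, Iso.trans_hom, Iso.trans_hom]
  calc S0 ≫ a.hom ≫ c.hom ≫ d.hom = (S0 ≫ a.hom) ≫ c.hom ≫ d.hom := by rw [Category.assoc]
    _ = (a.hom ≫ S1) ≫ c.hom ≫ d.hom := by rw [ha']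
    _ = a.hom ≫ (S1 ≫ c.hom) ≫ d.hom := by simp only [Category.assoc]
    _ = a.hom ≫ (c.hom ≫ S2) ≫ d.hom := by rw [hc']
    _ = a.hom ≫ c.hom ≫ (S2 ≫ d.hom) := by simp only [Category.assoc]
    _ = a.hom ≫ c.hom ≫ (d.hom ≫ S3) := by rw [hd']
    _ = (a.hom ≫ c.hom ≫ d.hom) ≫ S3 := by simp only [Category.assoc]

/-- **The Čech complex of a base change is the base change of the Čech complex.** -/
theorem nonempty_iso_bcCx_cechCx
    (hsq : IsPullback g' (X' ↘ Spec (CommRingCat.of R)) (X ↘ Spec (CommRingCat.of A))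
      (Spec.map (CommRingCat.ofHom (algebraMap A R))))
    (hU : ∀ s : Finset ι, s.Nonempty → IsAffineOpen (⨅ i ∈ s, U i)) :
    Nonempty (bcCx (algebraMap A R) (cechCx A F U) ≅
      cechCx R ((Scheme.Modules.pullback g').obj F) (fun i => g' ⁻¹ᵁ U i)) := by
  haveI : ∀ n, PreservesColimitsOfSize.{u, u}
      (cechFun A F U ⋙ HomologicalComplex.eval AddCommGrpCat.{u} (ComplexShape.up ℕ) n) :=
    preservesColimits_cechFun_eval A F U (isAffineOpen_prod U hU)
  obtain ⟨Θ, hΘ⟩ := exists_iso_cechFun A R g' F U hsq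
  refine Groth.Agent.Lib.BcCxLiftH44.nonempty_iso_bcCx R (cechFun A F U)
    (cechCx R ((Scheme.Modules.pullback g').obj F) (fun i => g' ⁻¹ᵁ U i))
    (fun n => (HomologicalComplex.Hom.isoApp Θ n).addCommGroupIsoToAddEquiv) ?_ ?_
  · intro i j x
    exact (ConcreteCategory.congr_hom (Θ.hom.comm i j) x).symm
  · intro r n x
    have h := congrArg (fun φ => (φ.f n).hom x) (hΘ r)
    exact h

end Groth.Agent.Lib.BaseChangeCxH44
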