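import Mathlib.Algebra.FiveLemma
import Mathlib.RingTheory.Flat.Basic
import Mathlib.RingTheory.Flat.IsBaseChange
import Mathlib.RingTheory.IsTensorProduct
import Mathlib.RingTheory.TensorProduct.IsBaseChangePi

/-!
# Five lemma for `IsBaseChange` along a flat ring map, and transport along ring isomorphisms (helper49)

* `IsBaseChange.of_five_exact`: in a commutative ladder with exact rows (top row `R`-linear, bottom row
  `S`-linear, `S` flat over `R`), if the four outer vertical maps are base changes, so is the middle one.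
* `isBaseChange_of_subsingleton`: any map between trivial modules is a base change.
* `isBaseChange_of_semilinear`: transport of `IsBaseChange` along ring isomorphisms `A ≃ R`, `B ≃ R'` and
  semilinear additive equivalences of the modules.
-/

set_option autoImplicit false
open TensorProduct

namespace Groth.Agent.Lib.BaseChangeFive

section Five

variable {R : Type*} [CommRing R] (S : Type*) [CommRing S] [Algebra R S]
variable {M₁ M₂ M₃ M₄ M₅ N₁ N₂ N₃ N₄ N₅ : Type*}
  [AddCommGroup M₁] [AddCommGroup M₂] [AddCommGroup M₃] [AddCommGroup M₄] [AddCommGroup M₅]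
  [AddCommGroup N₁] [AddCommGroup N₂] [AddCommGroup N₃] [AddCommGroup N₄] [AddCommGroup N₅]
  [Module R M₁] [Module R M₂] [Module R M₃] [Module R M₄] [Module R M₅]
  [Module R N₁] [Module R N₂] [Module R N₃] [Module R N₄] [Module R N₅]
  [Module S N₁] [Module S N₂] [Module S N₃] [Module S N₄] [Module S N₅]
  [IsScalarTower R S N₁] [IsScalarTower R S N₂] [IsScalarTower R S N₃] [IsScalarTower R S N₄]
  [IsScalarTower R S N₅]
  (h₁ : M₁ →ₗ[R] N₁) (h₂ : M₂ →ₗ[R] N₂) (h₃ : M₃ →ₗ[R] N₃) (h₄ : M₄ →ₗ[R] N₄) (h₅ : M₅ →ₗ[R] N₅)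
  {f₁ : M₁ →ₗ[R] M₂} {f₂ : M₂ →ₗ[R] M₃} {f₃ : M₃ →ₗ[R] M₄} {f₄ : M₄ →ₗ[R] M₅}
  {g₁ : N₁ →ₗ[S] N₂} {g₂ : N₂ →ₗ[S] N₃} {g₃ : N₃ →ₗ[S] N₄} {g₄ : N₄ →ₗ[S] N₅}

/-- **Five lemma for base change along a flat ring map.** -/
theorem _root_.IsBaseChange.of_five_exact [Module.Flat R S]
    (comm₁ : h₂.comp f₁ = (g₁.restrictScalars R).comp h₁)
    (comm₂ : h₃.comp f₂ = (g₂.restrictScalars R).comp h₂)
    (comm₃ : h₄.comp f₃ = (g₃.restrictScalars R).comp h₃)
    (comm₄ : h₅.comp f₄ = (g₄.restrictScalars R).comp h₄)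
    (hf₁ : Function.Exact f₁ f₂) (hf₂ : Function.Exact f₂ f₃) (hf₃ : Function.Exact f₃ f₄)
    (hg₁ : Function.Exact g₁ g₂) (hg₂ : Function.Exact g₂ g₃) (hg₃ : Function.Exact g₃ g₄)
    (isb₁ : IsBaseChange S h₁) (isb₂ : IsBaseChange S h₂) (isb₄ : IsBaseChange S h₄)
    (isb₅ : IsBaseChange S h₅) : IsBaseChange S h₃ := by
  simp only [IsBaseChange, IsTensorProduct] at isb₁ isb₂ isb₄ isb₅ ⊢
  refine LinearMap.bijective_of_surjective_of_bijective_of_bijective_of_injective
    ((f₁.baseChange S).restrictScalars R) ((f₂.baseChange S).restrictScalars R)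
    ((f₃.baseChange S).restrictScalars R) ((f₄.baseChange S).restrictScalars R)
    (g₁.restrictScalars R) (g₂.restrictScalars R) (g₃.restrictScalars R) (g₄.restrictScalars R)
    _ _ _ _ _ ?_ ?_ ?_ ?_ ?_ ?_ ?_ hg₁ hg₂ hg₃ isb₁.2 isb₂ isb₄ isb₅.1
  · ext s m
    simpa using congr(s • ($comm₁ m)).symm
  · ext s m
    simpa using congr(s • ($comm₂ m)).symm
  · ext s m
    simpa using congr(s • ($comm₃ m)).symm
  · ext s m
    simpa using congr(s • ($comm₄ m)).symm
  · exact Module.Flat.lTensor_exact S hf₁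
  · exact Module.Flat.lTensor_exact S hf₂
  · exact Module.Flat.lTensor_exact S hf₃

end Five

section Subsingleton

variable {R S M N : Type*} [CommRing R] [CommRing S] [Algebra R S]
  [AddCommGroup M] [Module R M] [AddCommGroup N] [Module R N] [Module S N] [IsScalarTower R S N]

/-- any map between trivial modules is a base change -/
theorem isBaseChange_of_subsingleton [Subsingleton M] [Subsingleton N] (f : M →ₗ[R] N) :
    IsBaseChange S f := by
  simp only [IsBaseChange, IsTensorProduct]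
  have : Subsingleton (S ⊗[R] M) := by
    refine ⟨fun x y => ?_⟩
    have h0 : ∀ z : S ⊗[R] M, z = 0 := by
      intro z
      induction z using TensorProduct.induction_on with
      | zero => rfl
      | tmul s m => rw [Subsingleton.elim m 0, TensorProduct.tmul_zero]
      | add a b ha hb => rw [ha, hb, add_zero]
    rw [h0 x, h0 y]
  exact ⟨fun x y _ => Subsingleton.elim x y, fun n => ⟨0, Subsingleton.elim _ _⟩⟩

end Subsingleton

section Semilinear

variable {A B R R' M N P Q : Type*} [CommRing A] [CommRing B] [Algebra A B]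
  [CommRing R] [CommRing R'] [Algebra R R']
  [AddCommGroup M] [Module A M] [AddCommGroup N] [Module A N] [Module B N] [IsScalarTower A B N]
  [AddCommGroup P] [Module R P] [AddCommGroup Q] [Module R Q] [Module R' Q] [IsScalarTower R R' Q]

/-- the comparison map `B ⊗[A] M → R' ⊗[R] P` induced by semilinear data -/
noncomputable def tensorSemi (σ : A →+* R) (τ : B →+* R')
    (hστ : ∀ a, τ (algebraMap A B a) = algebraMap R R' (σ a))
    (eM : M →+ P) (heM : ∀ (a : A) (m : M), eM (a • m) = σ a • eM m) : B ⊗[A] M →+ R' ⊗[R] P :=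
  TensorProduct.liftAddHom
    { toFun := fun b =>
        { toFun := fun m => τ b ⊗ₜ[R] eM m
          map_zero' := by rw [map_zero, TensorProduct.tmul_zero]
          map_add' := fun m m' => by rw [map_add, TensorProduct.tmul_add] }
      map_zero' := by
        ext m
        change τ 0 ⊗ₜ[R] eM m = 0
        rw [map_zero, TensorProduct.zero_tmul]
      map_add' := fun b b' => by
        ext m
        change τ (b + b') ⊗ₜ[R] eM m = τ b ⊗ₜ[R] eM m + τ b' ⊗ₜ[R] eM m
        rw [map_add, TensorProduct.add_tmul] }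
    (fun a b m => by
      change τ (a • b) ⊗ₜ[R] eM m = τ b ⊗ₜ[R] eM (a • m)
      rw [heM, Algebra.smul_def, map_mul, hστ, ← Algebra.smul_def, TensorProduct.smul_tmul])

theorem tensorSemi_tmul (σ : A →+* R) (τ : B →+* R')
    (hστ : ∀ a, τ (algebraMap A B a) = algebraMap R R' (σ a))
    (eM : M →+ P) (heM : ∀ (a : A) (m : M), eM (a • m) = σ a • eM m) (b : B) (m : M) :
    tensorSemi σ τ hστ eM heM (b ⊗ₜ[A] m) = τ b ⊗ₜ[R] eM m := rfl

/-- **Transport of base change along ring isomorphisms.** -/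
theorem isBaseChange_of_semilinear (σ : A ≃+* R) (τ : B ≃+* R')
    (hστ : ∀ a, τ (algebraMap A B a) = algebraMap R R' (σ a))
    (eM : M ≃+ P) (heM : ∀ (a : A) (m : M), eM (a • m) = σ a • eM m)
    (eN : N ≃+ Q) (heN : ∀ (b : B) (n : N), eN (b • n) = τ b • eN n)
    (ρ : M →ₗ[A] N) (θ : P →ₗ[R] Q) (hρθ : ∀ m, eN (ρ m) = θ (eM m))
    (hθ : IsBaseChange R' θ) : IsBaseChange B ρ := by
  have hστ' : ∀ r, τ.symm (algebraMap R R' r) = algebraMap A B (σ.symm r) := by
    intro r
    apply τ.injective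
    rw [RingEquiv.apply_symm_apply, hστ, RingEquiv.apply_symm_apply]
  have heM' : ∀ (r : R) (p : P), eM.symm (r • p) = σ.symm r • eM.symm p := by
    intro r p
    apply eM.injective
    rw [AddEquiv.apply_symm_apply, heM, AddEquiv.apply_symm_apply, RingEquiv.apply_symm_apply]
  let Φ := tensorSemi (σ : A →+* R) (τ : B →+* R') hστ eM.toAddMonoidHom heM
  let Ψ := tensorSemi (σ.symm : R →+* A) (τ.symm : R' →+* B) hστ' eM.symm.toAddMonoidHom heM'
  have hΨΦ : ∀ x, Ψ (Φ x) = x := by
    intro x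
    induction x using TensorProduct.induction_on with
    | zero => rw [map_zero, map_zero]
    | tmul b m =>
      change Ψ (τ b ⊗ₜ[R] eM m) = _
      change τ.symm (τ b) ⊗ₜ[A] eM.symm (eM m) = _
      rw [RingEquiv.symm_apply_apply, AddEquiv.symm_apply_apply]
    | add x y hx hy => rw [map_add, map_add, hx, hy]
  have hΦΨ : ∀ y, Φ (Ψ y) = y := by
    intro y
    induction y using TensorProduct.induction_on with
    | zero => rw [map_zero, map_zero]
    | tmul r p =>
      change Φ (τ.symm r ⊗ₜ[A] eM.symm p) = _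
      change τ (τ.symm r) ⊗ₜ[R] eM (eM.symm p) = _
      rw [RingEquiv.apply_symm_apply, AddEquiv.apply_symm_apply]
    | add x y hx hy => rw [map_add, map_add, hx, hy]
  have hΦ : Function.Bijective Φ :=
    ⟨fun x y h => by rw [← hΨΦ x, ← hΨΦ y, h], fun y => ⟨Ψ y, hΦΨ y⟩⟩
  let ρ' : B ⊗[A] M →ₗ[B] N := ρ.liftBaseChange B
  have hρ' : ∀ (b : B) (m : M), ρ' (b ⊗ₜ m) = b • ρ m := fun b m =>
    LinearMap.liftBaseChange_tmul B ρ b m
  have key : ∀ x, eN (ρ' x) = hθ.equiv (Φ x) := by
    intro x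
    induction x using TensorProduct.induction_on with
    | zero => rw [map_zero, map_zero, map_zero, map_zero]
    | tmul b m =>
      rw [hρ', heN, hρθ]
      change _ = hθ.equiv (τ b ⊗ₜ[R] eM m)
      rw [hθ.equiv_tmul]
    | add x y hx hy => rw [map_add, map_add, map_add, map_add, hx, hy]
  have hbij : Function.Bijective ρ' := by
    have h1 : (ρ' : B ⊗[A] M → N) = eN.symm ∘ hθ.equiv ∘ Φ := by
      funext x
      change ρ' x = eN.symm (hθ.equiv (Φ x))
      rw [← key, AddEquiv.symm_apply_apply]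
    rw [h1]
    exact eN.symm.bijective.comp (hθ.equiv.bijective.comp hΦ)
  refine IsBaseChange.of_equiv (LinearEquiv.ofBijective ρ' hbij) (fun m => ?_)
  rw [LinearEquiv.ofBijective_apply, hρ', one_smul]

end Semilinear

end Groth.Agent.Lib.BaseChangeFive
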