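import Mathlib.RingTheory.TensorProduct.Basic
import Mathlib.Algebra.Module.FinitePresentation
import Mathlib.LinearAlgebra.DirectSum.Finsupp
import Mathlib.LinearAlgebra.FreeModule.Basic
import Mathlib.LinearAlgebra.Basis.VectorSpace

/-!
# Base change of `Hom_D(E, F)` along a commutative algebra over a field (helper18)

For a field `K`, a `K`-algebra `D`, a finitely generated `D`-module `E`, any `D`-module `F` and a
commutative `K`-algebra `P`, the map `P ⊗ Hom_D(E,F) → Hom_P(P ⊗ E, P ⊗ F)` is injective with image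
the maps commuting with `D`.  Proof via coordinates with respect to a `K`-basis of `P`.
-/

set_option autoImplicit false
universe u v w w' u'
open scoped TensorProduct

namespace Groth.Agent.Lib.BaseChangeHom18

section Coord

variable {K : Type u} [Field K] {P : Type u'} [CommRing P] [Algebra K P]
  {ι : Type*} [DecidableEq ι] (b : Module.Basis ι K P)
  (M : Type*) [AddCommGroup M] [Module K M] {N : Type*} [AddCommGroup N] [Module K N]

/-- Coordinates of an element of `P ⊗ M` with respect to a basis of `P`. -/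
noncomputable def co : P ⊗[K] M ≃ₗ[K] (ι →₀ M) :=
  (TensorProduct.congr b.repr (LinearEquiv.refl K M)) ≪≫ₗ TensorProduct.finsuppScalarLeft K M ι

variable {M}

theorem co_tmul (p : P) (m : M) (i : ι) : co b M (p ⊗ₜ[K] m) i = b.repr p i • m := by
  simp [co, TensorProduct.finsuppScalarLeft_apply_tmul_apply]

theorem co_symm_single (i : ι) (m : M) : (co b M).symm (Finsupp.single i m) = b i ⊗ₜ[K] m := by
  rw [LinearEquiv.symm_apply_eq]
  ext j
  rw [co_tmul, Module.Basis.repr_self, Finsupp.single_apply, Finsupp.single_apply]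
  split_ifs <;> simp

theorem co_baseChange (f : M →ₗ[K] N) (x : P ⊗[K] M) (i : ι) :
    co b N (f.baseChange P x) i = f (co b M x i) := by
  induction x using TensorProduct.induction_on with
  | zero => simp
  | tmul p m => rw [LinearMap.baseChange_tmul, co_tmul, co_tmul, map_smul]
  | add x y hx hy => simp only [map_add, Finsupp.add_apply, hx, hy]

theorem eq_sum (x : P ⊗[K] M) (S : Finset ι) (hS : (co b M x).support ⊆ S) :
    x = ∑ i ∈ S, b i ⊗ₜ[K] co b M x i := by
  apply (co b M).injective
  rw [map_sum]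
  have : ∀ i ∈ S, co b M (b i ⊗ₜ[K] co b M x i) = Finsupp.single i (co b M x i) := by
    intro i _
    rw [← co_symm_single, LinearEquiv.apply_symm_apply]
  rw [Finset.sum_congr rfl this]
  ext j
  rw [Finsupp.finsetSum_apply]
  simp only [Finsupp.single_apply]
  rw [Finset.sum_ite_eq']
  split_ifs with h
  · rfl
  · by_contra hne
    exact h (hS (Finsupp.mem_support_iff.2 hne))

end Coord

section Main

variable {K : Type u} [Field K] {D : Type v} [Ring D] [Algebra K D]
  {E : Type w} [AddCommGroup E] [Module K E] [Module D E] [IsScalarTower K D E]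
  {F : Type w'} [AddCommGroup F] [Module K F] [Module D F] [IsScalarTower K D F]
  (P : Type u') [CommRing P] [Algebra K P]
  (Φ : P ⊗[K] (E →ₗ[D] F) →ₗ[P] (P ⊗[K] E →ₗ[P] P ⊗[K] F))
  (hΦ : ∀ (p : P) (f : E →ₗ[D] F), Φ (p ⊗ₜ[K] f) = p • (f.restrictScalars K).baseChange P)

include hΦ

theorem co_Phi {ι : Type*} [DecidableEq ι] (b : Module.Basis ι K P)
    (t : P ⊗[K] (E →ₗ[D] F)) (e : E) (i : ι) :
    co b F (Φ t ((1 : P) ⊗ₜ[K] e)) i = (co b (E →ₗ[D] F) t i) e := by
  induction t using TensorProduct.induction_on with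
  | zero => simp
  | tmul p f =>
    rw [hΦ, LinearMap.smul_apply, LinearMap.baseChange_tmul, TensorProduct.smul_tmul', smul_eq_mul,
      mul_one, co_tmul, co_tmul]
    rfl
  | add x y hx hy =>
    simp only [map_add, LinearMap.add_apply, Finsupp.add_apply, hx, hy]

theorem injective_Phi : Function.Injective Φ := by
  classical
  rw [injective_iff_map_eq_zero]
  intro t ht
  let b := Module.Free.chooseBasis K P
  apply (co b (E →ₗ[D] F)).injective
  rw [map_zero]
  ext i e
  rw [← co_Phi P Φ hΦ b t e i, ht]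
  simp

theorem comm_of_mem_range (g : P ⊗[K] E →ₗ[P] P ⊗[K] F) (hg : g ∈ LinearMap.range Φ) (d : D) :
    g ∘ₗ (DistribSMul.toLinearMap K E d).baseChange P =
      (DistribSMul.toLinearMap K F d).baseChange P ∘ₗ g := by
  obtain ⟨t, rfl⟩ := hg
  induction t using TensorProduct.induction_on with
  | zero => simp
  | tmul p f =>
    rw [hΦ]
    apply TensorProduct.AlgebraTensorModule.ext
    intro a e
    simp [TensorProduct.smul_tmul']
  | add x y hx hy =>
    rw [map_add, LinearMap.add_comp, LinearMap.comp_add, hx, hy]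

theorem mem_range_of_comm [Module.Finite D E] (g : P ⊗[K] E →ₗ[P] P ⊗[K] F)
    (hg : ∀ d : D, g ∘ₗ (DistribSMul.toLinearMap K E d).baseChange P =
      (DistribSMul.toLinearMap K F d).baseChange P ∘ₗ g) :
    g ∈ LinearMap.range Φ := by
  classical
  let b := Module.Free.chooseBasis K P
  let gi : Module.Free.ChooseBasisIndex K P → (E →ₗ[D] F) := fun i =>
    { toFun := fun e => co b F (g ((1 : P) ⊗ₜ[K] e)) i
      map_add' := by
        intro x y
        simp only [TensorProduct.tmul_add, map_add, Finsupp.add_apply]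
      map_smul' := by
        intro d e
        simp only [RingHom.id_apply]
        have h1 : (1 : P) ⊗ₜ[K] (d • e) =
            (DistribSMul.toLinearMap K E d).baseChange P ((1 : P) ⊗ₜ[K] e) := by
          rw [LinearMap.baseChange_tmul]; rfl
        have h2 := LinearMap.congr_fun (hg d) ((1 : P) ⊗ₜ[K] e)
        rw [LinearMap.comp_apply, LinearMap.comp_apply] at h2
        rw [h1, h2, co_baseChange]
        rfl }
  have hgi : ∀ i e, gi i e = co b F (g ((1 : P) ⊗ₜ[K] e)) i := fun _ _ => rfl
  obtain ⟨s, hs⟩ := (Module.Finite.fg_top : (⊤ : Submodule D E).FG)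
  let S : Finset (Module.Free.ChooseBasisIndex K P) :=
    s.biUnion fun e => (co b F (g ((1 : P) ⊗ₜ[K] e))).support
  have hzero : ∀ i, i ∉ S → gi i = 0 := by
    intro i hi
    apply LinearMap.ext_on hs
    intro e he
    rw [hgi, LinearMap.zero_apply]
    by_contra hne
    exact hi (Finset.mem_biUnion.2 ⟨e, he, Finsupp.mem_support_iff.2 hne⟩)
  refine ⟨∑ i ∈ S, b i ⊗ₜ[K] gi i, ?_⟩
  apply TensorProduct.AlgebraTensorModule.ext
  intro a e
  have ha : a ⊗ₜ[K] e = a • ((1 : P) ⊗ₜ[K] e) := by
    rw [TensorProduct.smul_tmul', smul_eq_mul, mul_one]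
  rw [ha, map_smul, map_smul]
  congr 1
  rw [map_sum, LinearMap.sum_apply]
  have hsupp : (co b F (g ((1 : P) ⊗ₜ[K] e))).support ⊆ S := by
    intro i hi
    by_contra hnot
    have := hzero i hnot
    rw [Finsupp.mem_support_iff, ← hgi, this] at hi
    exact hi rfl
  rw [eq_sum b (g ((1 : P) ⊗ₜ[K] e)) S hsupp]
  refine Finset.sum_congr rfl fun i _ => ?_
  rw [hΦ, LinearMap.smul_apply, LinearMap.baseChange_tmul, TensorProduct.smul_tmul', smul_eq_mul,
    mul_one]
  rfl

end Main

end Groth.Agent.Lib.BaseChangeHom18
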