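import Mathlib.CategoryTheory.Adjunction.Basic

/-!
Abstract form of the base change compatibilities of trace (counit) and unit for a square of
adjunctions: purely formal diagram chases, used for the duality statements on `D_QCoh`.
-/

set_option autoImplicit false

namespace Groth.Agent.Lib.BaseChangeMates

open CategoryTheory

universe v₁ v₂ v₃ v₄ u₁ u₂ u₃ u₄

variable {A : Type u₁} {B : Type u₂} {A' : Type u₃} {B' : Type u₄}
  [Category.{v₁} A] [Category.{v₂} B] [Category.{v₃} A'] [Category.{v₄} B']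
variable {F : A ⥤ B} {F' : A' ⥤ B'} {G : B' ⥤ B} {G' : A' ⥤ A} {L : B ⥤ B'} {L' : A ⥤ A'}
  {a : B ⥤ A} {a' : B' ⥤ A'}

/-- The comparison `G' a' M ⟶ a G M`. -/
def xi (adj : F ⊣ a) (adj' : F' ⊣ a') (e : G' ⋙ F ≅ F' ⋙ G) (M : B') :
    G'.obj (a'.obj M) ⟶ a.obj (G.obj M) :=
  (adj.homEquiv _ _) (e.hom.app (a'.obj M) ≫ G.map (adj'.counit.app M))

/-- The base change map `L' a K ⟶ a' L K`. -/
noncomputable def bcMap (adj : F ⊣ a) (adj' : F' ⊣ a') (e : G' ⋙ F ≅ F' ⋙ G)
    (adjg : L ⊣ G) (adjg' : L' ⊣ G') (K : B) (hξ : IsIso (xi adj adj' e (L.obj K))) :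
    L'.obj (a.obj K) ⟶ a'.obj (L.obj K) :=
  haveI := hξ
  L'.map (a.map (adjg.unit.app K)) ≫ L'.map (inv (xi adj adj' e (L.obj K))) ≫
    adjg'.counit.app (a'.obj (L.obj K))

/-- The base change map `L F K ⟶ F' L' K`. -/
def bcPush (e : G' ⋙ F ≅ F' ⋙ G) (adjg : L ⊣ G) (adjg' : L' ⊣ G') (K : A) :
    L.obj (F.obj K) ⟶ F'.obj (L'.obj K) :=
  (adjg.homEquiv _ _).symm (F.map (adjg'.unit.app K) ≫ e.hom.app (L'.obj K))

variable (adj : F ⊣ a) (adj' : F' ⊣ a') (e : G' ⋙ F ≅ F' ⋙ G) (adjg : L ⊣ G) (adjg' : L' ⊣ G')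

lemma xi_fac (M : B') :
    F.map (xi adj adj' e M) ≫ adj.counit.app (G.obj M) =
      e.hom.app (a'.obj M) ≫ G.map (adj'.counit.app M) := by
  simp [xi, Adjunction.homEquiv_unit]

lemma unit_map_bcMap (K : B) (hξ : IsIso (xi adj adj' e (L.obj K))) :
    haveI := hξ
    adjg'.unit.app (a.obj K) ≫ G'.map (bcMap adj adj' e adjg adjg' K hξ) =
      a.map (adjg.unit.app K) ≫ inv (xi adj adj' e (L.obj K)) := by
  have := hξ
  simp [bcMap, -Functor.map_inv]

lemma homEquiv_bcPush (K : A) :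
    adjg.homEquiv _ _ (bcPush e adjg adjg' K) =
      F.map (adjg'.unit.app K) ≫ e.hom.app (L'.obj K) := by
  simp [bcPush]

/-- Base change compatibility of the trace (counit). -/
theorem trace_compat (K : B) (hξ : IsIso (xi adj adj' e (L.obj K))) :
    bcPush e adjg adjg' (a.obj K) ≫ F'.map (bcMap adj adj' e adjg adjg' K hξ) ≫
      adj'.counit.app (L.obj K) = L.map (adj.counit.app K) := by
  have := hξ
  apply (adjg.homEquiv _ _).injective
  rw [Adjunction.homEquiv_naturality_right, homEquiv_bcPush, Adjunction.homEquiv_unit,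
    Adjunction.unit_naturality]
  have h1 : e.hom.app (L'.obj (a.obj K)) ≫ G.map (F'.map (bcMap adj adj' e adjg adjg' K hξ)) =
      F.map (G'.map (bcMap adj adj' e adjg adjg' K hξ)) ≫ e.hom.app (a'.obj (L.obj K)) :=
    (e.hom.naturality (bcMap adj adj' e adjg adjg' K hξ)).symm
  have h2 := unit_map_bcMap adj adj' e adjg adjg' K hξ
  have h3 := xi_fac adj adj' e (L.obj K)
  calc (F.map (adjg'.unit.app (a.obj K)) ≫ e.hom.app (L'.obj (a.obj K))) ≫
        G.map (F'.map (bcMap adj adj' e adjg adjg' K hξ) ≫ adj'.counit.app (L.obj K))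
      = F.map (adjg'.unit.app (a.obj K)) ≫ (e.hom.app (L'.obj (a.obj K)) ≫
        G.map (F'.map (bcMap adj adj' e adjg adjg' K hξ))) ≫ G.map (adj'.counit.app (L.obj K)) := by
        simp only [Functor.map_comp, Category.assoc]
    _ = F.map (adjg'.unit.app (a.obj K) ≫ G'.map (bcMap adj adj' e adjg adjg' K hξ)) ≫
        e.hom.app (a'.obj (L.obj K)) ≫ G.map (adj'.counit.app (L.obj K)) := by
        rw [h1]; simp only [Functor.map_comp, Category.assoc]
    _ = F.map (a.map (adjg.unit.app K)) ≫ F.map (inv (xi adj adj' e (L.obj K))) ≫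
        F.map (xi adj adj' e (L.obj K)) ≫ adj.counit.app (G.obj (L.obj K)) := by
        rw [h2, h3]; simp only [Functor.map_comp, Category.assoc]
    _ = F.map (a.map (adjg.unit.app K)) ≫ adj.counit.app (G.obj (L.obj K)) := by
        simp
    _ = adj.counit.app K ≫ adjg.unit.app K := by
        exact adj.counit_naturality _

lemma xi_eq (M : B') :
    xi adj adj' e M = adj.unit.app (G'.obj (a'.obj M)) ≫
      a.map (e.hom.app (a'.obj M) ≫ G.map (adj'.counit.app M)) := by
  simp [xi, Adjunction.homEquiv_unit]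

lemma xi_naturality {M N : B'} (ψ : M ⟶ N) :
    G'.map (a'.map ψ) ≫ xi adj adj' e N = xi adj adj' e M ≫ a.map (G.map ψ) := by
  have h1 : F.map (G'.map (a'.map ψ)) ≫ e.hom.app (a'.obj N) =
      e.hom.app (a'.obj M) ≫ G.map (F'.map (a'.map ψ)) := e.hom.naturality (a'.map ψ)
  have hu : G'.map (a'.map ψ) ≫ adj.unit.app (G'.obj (a'.obj N)) =
      adj.unit.app (G'.obj (a'.obj M)) ≫ a.map (F.map (G'.map (a'.map ψ))) :=
    (adj.unit_naturality _).symm
  have hc : F'.map (a'.map ψ) ≫ adj'.counit.app N = adj'.counit.app M ≫ ψ :=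
    adj'.counit_naturality ψ
  calc G'.map (a'.map ψ) ≫ xi adj adj' e N
      = adj.unit.app (G'.obj (a'.obj M)) ≫ a.map ((F.map (G'.map (a'.map ψ)) ≫
          e.hom.app (a'.obj N)) ≫ G.map (adj'.counit.app N)) := by
        rw [xi_eq, reassoc_of% hu, ← a.map_comp, Category.assoc]
    _ = adj.unit.app (G'.obj (a'.obj M)) ≫ a.map (e.hom.app (a'.obj M) ≫
          G.map (F'.map (a'.map ψ) ≫ adj'.counit.app N)) := by
        rw [h1, Category.assoc, ← G.map_comp]
    _ = xi adj adj' e M ≫ a.map (G.map ψ) := by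
        rw [hc, xi_eq, Category.assoc, ← a.map_comp, Category.assoc, ← G.map_comp]

/-- Base change compatibility of the unit. -/
theorem unit_compat (M : A) (hξ1 : IsIso (xi adj adj' e (L.obj (F.obj M))))
    (hξ2 : IsIso (xi adj adj' e (F'.obj (L'.obj M)))) :
    adj'.unit.app (L'.obj M) = L'.map (adj.unit.app M) ≫
      bcMap adj adj' e adjg adjg' (F.obj M) hξ1 ≫ a'.map (bcPush e adjg adjg' M) := by
  have := hξ1
  have := hξ2
  apply (adjg'.homEquiv _ _).injective
  rw [← cancel_mono (xi adj adj' e (F'.obj (L'.obj M)))]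
  have hL : adjg'.homEquiv _ _ (adj'.unit.app (L'.obj M)) ≫ xi adj adj' e (F'.obj (L'.obj M)) =
      adj.unit.app M ≫ a.map (F.map (adjg'.unit.app M) ≫ e.hom.app (L'.obj M)) := by
    have h1 : F.map (G'.map (adj'.unit.app (L'.obj M))) ≫ e.hom.app (a'.obj (F'.obj (L'.obj M))) =
        e.hom.app (L'.obj M) ≫ G.map (F'.map (adj'.unit.app (L'.obj M))) :=
      e.hom.naturality (adj'.unit.app (L'.obj M))
    have hu : adjg'.unit.app M ≫ G'.map (adj'.unit.app (L'.obj M)) ≫
        adj.unit.app (G'.obj (a'.obj (F'.obj (L'.obj M)))) =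
        adj.unit.app M ≫ a.map (F.map (adjg'.unit.app M ≫ G'.map (adj'.unit.app (L'.obj M)))) := by
      rw [← Category.assoc]
      exact (adj.unit_naturality _).symm
    have ht : F'.map (adj'.unit.app (L'.obj M)) ≫ adj'.counit.app (F'.obj (L'.obj M)) =
        𝟙 (F'.obj (L'.obj M)) :=
      adj'.left_triangle_components _
    calc adjg'.homEquiv _ _ (adj'.unit.app (L'.obj M)) ≫ xi adj adj' e (F'.obj (L'.obj M))
        = adj.unit.app M ≫ a.map (F.map (adjg'.unit.app M) ≫ (F.map (G'.map (adj'.unit.app (L'.obj M)))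
            ≫ e.hom.app (a'.obj (F'.obj (L'.obj M)))) ≫
            G.map (adj'.counit.app (F'.obj (L'.obj M)))) := by
          rw [Adjunction.homEquiv_unit, xi_eq]
          simp only [Category.assoc]
          rw [reassoc_of% hu, ← a.map_comp, F.map_comp]
          simp only [Category.assoc]
      _ = adj.unit.app M ≫ a.map (F.map (adjg'.unit.app M) ≫ e.hom.app (L'.obj M) ≫
            G.map (F'.map (adj'.unit.app (L'.obj M)) ≫ adj'.counit.app (F'.obj (L'.obj M)))) := by
          rw [h1, Category.assoc, ← G.map_comp]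
      _ = adj.unit.app M ≫ a.map (F.map (adjg'.unit.app M) ≫ e.hom.app (L'.obj M)) := by
          rw [ht, G.map_id]
          simp
  have hR : adjg'.homEquiv _ _ (L'.map (adj.unit.app M) ≫
      bcMap adj adj' e adjg adjg' (F.obj M) hξ1 ≫ a'.map (bcPush e adjg adjg' M)) ≫
      xi adj adj' e (F'.obj (L'.obj M)) =
      adj.unit.app M ≫ a.map (F.map (adjg'.unit.app M) ≫ e.hom.app (L'.obj M)) := by
    have h2 := unit_map_bcMap adj adj' e adjg adjg' (F.obj M) hξ1
    have hu : adjg'.unit.app M ≫ G'.map (L'.map (adj.unit.app M)) =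
        adj.unit.app M ≫ adjg'.unit.app (a.obj (F.obj M)) := adjg'.unit_naturality _
    have hb : adjg.unit.app (F.obj M) ≫ G.map (bcPush e adjg adjg' M) =
        F.map (adjg'.unit.app M) ≫ e.hom.app (L'.obj M) := by
      rw [← homEquiv_bcPush, Adjunction.homEquiv_unit]
    calc adjg'.homEquiv _ _ (L'.map (adj.unit.app M) ≫
          bcMap adj adj' e adjg adjg' (F.obj M) hξ1 ≫ a'.map (bcPush e adjg adjg' M)) ≫
          xi adj adj' e (F'.obj (L'.obj M))
        = adj.unit.app M ≫ (adjg'.unit.app (a.obj (F.obj M)) ≫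
            G'.map (bcMap adj adj' e adjg adjg' (F.obj M) hξ1)) ≫
            G'.map (a'.map (bcPush e adjg adjg' M)) ≫ xi adj adj' e (F'.obj (L'.obj M)) := by
          rw [Adjunction.homEquiv_unit, G'.map_comp, G'.map_comp]
          simp only [Category.assoc]
          exact (reassoc_of% hu) _
      _ = adj.unit.app M ≫ a.map (adjg.unit.app (F.obj M)) ≫
            (inv (xi adj adj' e (L.obj (F.obj M))) ≫ xi adj adj' e (L.obj (F.obj M))) ≫
            a.map (G.map (bcPush e adjg adjg' M)) := by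
          rw [h2, xi_naturality]
          simp only [Category.assoc]
      _ = adj.unit.app M ≫ a.map (F.map (adjg'.unit.app M) ≫ e.hom.app (L'.obj M)) := by
          rw [IsIso.inv_hom_id, Category.id_comp, ← a.map_comp, hb]
  exact hL.trans hR.symm

end Groth.Agent.Lib.BaseChangeMates
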