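import Mathlib

set_option autoImplicit false
set_option linter.unusedSectionVars false
universe u
open scoped TensorProduct

namespace Groth.Agent.Lib.BaseChangeRetract

open Algebra Algebra.Extension

attribute [local instance] Algebra.TensorProduct.rightAlgebra

variable {k : Type u} [Field k] {B₀ : Type u} [CommRing B₀] [Algebra k B₀] (E₀ : Extension.{u} k B₀)
  (T : Type u) [CommRing T] [Algebra k T]

theorem exists_retraction (τ : T) (lam : T →ₗ[k] k) (hlam : lam τ = 1)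
    (g' : (E₀.baseChange (T := T)).CotangentSpace →ₗ[T ⊗[k] B₀] (E₀.baseChange (T := T)).Cotangent)
    (hg' : ∀ c', g' ((E₀.baseChange (T := T)).cotangentComplex c') = (τ ⊗ₜ[k] (1 : B₀)) • c') :
    ∃ l : E₀.CotangentSpace →ₗ[B₀] E₀.Cotangent, l ∘ₗ E₀.cotangentComplex = LinearMap.id := by
  let E' := E₀.baseChange (T := T)
  let α' : E₀.Cotangent →ₗ[B₀] E'.Cotangent := Cotangent.map (E₀.toBaseChange T)
  let β' : E₀.CotangentSpace →ₗ[B₀] E'.CotangentSpace := CotangentSpace.map (E₀.toBaseChange T)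
  let e : T ⊗[k] E₀.Cotangent ≃ₗ[T] E'.Cotangent := E₀.tensorCotangentOfFlat T
  have he : ∀ (t : T) (x : E₀.Cotangent), e (t ⊗ₜ x) = t • α' x := fun t x =>
    E₀.tensorCotangentOfFlat_tmul T t x
  let Λ₀ : T ⊗[k] E₀.Cotangent →ₗ[k] E₀.Cotangent :=
    (TensorProduct.lid k E₀.Cotangent).toLinearMap ∘ₗ LinearMap.rTensor E₀.Cotangent lam
  have hΛ₀ : ∀ (t : T) (x : E₀.Cotangent), Λ₀ (t ⊗ₜ x) = lam t • x := fun t x => by
    simp [Λ₀]
  have hcomm : ∀ (b : B₀) (t : T) (m : E'.Cotangent), b • (t • m) = t • (b • m) := by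
    intro b t m
    rw [← algebraMap_smul (T ⊗[k] B₀) b (t • m), ← algebraMap_smul (T ⊗[k] B₀) t m,
      ← algebraMap_smul (T ⊗[k] B₀) b m, ← algebraMap_smul (T ⊗[k] B₀) t (algebraMap B₀ (T ⊗[k] B₀) b • m),
      smul_smul, smul_smul, mul_comm]
  -- the `B₀`-action on `T ⊗ C₀`
  have hb : ∀ (b : B₀) (z : T ⊗[k] E₀.Cotangent), ∃ z', b • e z = e z' ∧ Λ₀ z' = b • Λ₀ z := by
    intro b z
    induction z using TensorProduct.induction_on with
    | zero => exact ⟨0, by simp, by simp⟩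
    | tmul t x =>
      refine ⟨t ⊗ₜ (b • x), ?_, ?_⟩
      · rw [he, he, map_smul, hcomm]
      · rw [hΛ₀, hΛ₀, smul_comm]
    | add z₁ z₂ h₁ h₂ =>
      obtain ⟨z₁', h₁', h₁''⟩ := h₁
      obtain ⟨z₂', h₂', h₂''⟩ := h₂
      exact ⟨z₁' + z₂', by rw [map_add, map_add, smul_add, h₁', h₂'], by rw [map_add, map_add, smul_add, h₁'', h₂'']⟩
  have hρ' : ∀ (b : B₀) (c' : E'.Cotangent), Λ₀ (e.symm (b • c')) = b • Λ₀ (e.symm c') := by
    intro b c'
    obtain ⟨z', hz', hz''⟩ := hb b (e.symm c')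
    rw [LinearEquiv.apply_symm_apply] at hz'
    rw [hz', LinearEquiv.symm_apply_apply, hz'']
  have hg'b : ∀ (b : B₀) (y : E'.CotangentSpace), g' (b • y) = b • g' y := by
    intro b y
    rw [← algebraMap_smul (T ⊗[k] B₀) b y, map_smul, algebraMap_smul]
  let l : E₀.CotangentSpace →ₗ[B₀] E₀.Cotangent :=
    { toFun := fun ω => Λ₀ (e.symm (g' (β' ω)))
      map_add' := fun x y => by simp only [map_add]
      map_smul' := fun b x => by
        simp only [map_smul, RingHom.id_apply]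
        rw [hg'b, hρ'] }
  refine ⟨l, LinearMap.ext fun c => ?_⟩
  change Λ₀ (e.symm (g' (β' (E₀.cotangentComplex c)))) = c
  have h1 : β' (E₀.cotangentComplex c) = E'.cotangentComplex (α' c) :=
    CotangentSpace.map_cotangentComplex (E₀.toBaseChange T) c
  rw [h1, hg']
  have h2 : (τ ⊗ₜ[k] (1 : B₀)) • α' c = e (τ ⊗ₜ c) := by
    rw [he, ← algebraMap_smul (T ⊗[k] B₀) τ (α' c)]
    rfl
  rw [h2, LinearEquiv.symm_apply_apply, hΛ₀, hlam, one_smul]

end Groth.Agent.Lib.BaseChangeRetract
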