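import Groth.Agent.Lib.EWH44

/-!
# Lifting additive functors `ModuleCat A ⥤ Ab` to `ModuleCat A`, and Eilenberg–Watts for them (helper44)

An additive functor `Ψ₀ : ModuleCat A ⥤ AddCommGrpCat` lifts to `modLift Ψ₀ : ModuleCat A ⥤ ModuleCat A`
(`a` acts on `Ψ₀(M)` through `Ψ₀(a • 𝟙)`).  If `Ψ₀` preserves colimits, then `Ψ₀(A) ⊗_A M → Ψ₀(M)`,
`y ⊗ m ↦ Ψ₀(1 ↦ m)(y)`, is bijective (`bijective_ewApp`).
-/

set_option autoImplicit false
set_option linter.style.haveILetI false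
universe u

open CategoryTheory CategoryTheory.Limits MonoidalCategory

namespace Groth.Agent.Lib.ModLiftH44

open Groth.Agent.Lib.EWH44

variable {A : Type u} [CommRing A] (Ψ₀ : ModuleCat.{u} A ⥤ AddCommGrpCat.{u}) [Ψ₀.Additive]

/-- the action of `A` on `Ψ₀(M)` by functoriality -/
noncomputable def actHom (M : ModuleCat.{u} A) : A →+* AddMonoid.End (Ψ₀.obj M) where
  toFun a := (Ψ₀.map (a • 𝟙 M)).hom
  map_one' := by
    rw [one_smul, Ψ₀.map_id]
    rfl
  map_mul' a b := by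
    have h : (a * b) • 𝟙 M = (b • 𝟙 M) ≫ (a • 𝟙 M) := by
      rw [Linear.smul_comp, Linear.comp_smul, Category.id_comp, smul_smul, mul_comm]
    rw [h, Ψ₀.map_comp]
    rfl
  map_zero' := by
    rw [zero_smul, Ψ₀.map_zero]
    rfl
  map_add' a b := by
    rw [add_smul, Ψ₀.map_add]
    rfl

/-- the `A`-module structure on `Ψ₀(M)` by functoriality -/
@[reducible] noncomputable def moduleObj (M : ModuleCat.{u} A) : Module A (Ψ₀.obj M) :=
  Module.compHom _ (actHom Ψ₀ M)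

theorem smul_def (M : ModuleCat.{u} A) (a : A) (y : Ψ₀.obj M) :
    letI := moduleObj Ψ₀ M
    a • y = (Ψ₀.map (a • 𝟙 M)).hom y := rfl

/-- `Ψ₀(M)` as an `A`-module -/
noncomputable def objM (M : ModuleCat.{u} A) : ModuleCat.{u} A :=
  letI := moduleObj Ψ₀ M
  ModuleCat.of A (Ψ₀.obj M)

/-- a map commuting with the functorial actions, as a morphism of `A`-modules -/
noncomputable def homM {M M' : ModuleCat.{u} A} (f : Ψ₀.obj M ⟶ Ψ₀.obj M')
    (hf : ∀ a : A, Ψ₀.map (a • 𝟙 M) ≫ f = f ≫ Ψ₀.map (a • 𝟙 M')) :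
    objM Ψ₀ M ⟶ objM Ψ₀ M' :=
  letI := moduleObj Ψ₀ M
  letI := moduleObj Ψ₀ M'
  ModuleCat.ofHom
    { toFun := f.hom
      map_add' := map_add _
      map_smul' := fun a y => congrArg (fun g => g.hom y) (hf a) }

@[simp]
theorem homM_apply {M M' : ModuleCat.{u} A} (f : Ψ₀.obj M ⟶ Ψ₀.obj M') (hf) (y : Ψ₀.obj M) :
    (homM Ψ₀ f hf).hom y = f.hom y := rfl

/-- the lifted functor -/
noncomputable def modLift : ModuleCat.{u} A ⥤ ModuleCat.{u} A where
  obj M := objM Ψ₀ M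
  map {M M'} g := homM Ψ₀ (Ψ₀.map g) (fun a => by
    rw [← Ψ₀.map_comp, ← Ψ₀.map_comp, Linear.smul_comp, Linear.comp_smul, Category.id_comp,
      Category.comp_id])
  map_id M := by
    apply ModuleCat.hom_ext
    refine LinearMap.ext fun y => ?_
    change (Ψ₀.map (𝟙 M)).hom y = y
    rw [Ψ₀.map_id]
    rfl
  map_comp g h := by
    apply ModuleCat.hom_ext
    refine LinearMap.ext fun y => ?_
    change (Ψ₀.map (g ≫ h)).hom y = (Ψ₀.map h).hom ((Ψ₀.map g).hom y)
    rw [Ψ₀.map_comp]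
    rfl

theorem modLift_map_apply {M M' : ModuleCat.{u} A} (g : M ⟶ M') (y : Ψ₀.obj M) :
    ((modLift Ψ₀).map g).hom y = (Ψ₀.map g).hom y := rfl

instance : (modLift Ψ₀).Additive where
  map_add {M M' g h} := by
    apply ModuleCat.hom_ext
    refine LinearMap.ext fun y => ?_
    change (Ψ₀.map (g + h)).hom y = (Ψ₀.map g).hom y + (Ψ₀.map h).hom y
    rw [Ψ₀.map_add]
    rfl

instance : (modLift Ψ₀).Linear A where
  map_smul {M M'} g a := by
    apply ModuleCat.hom_ext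
    refine LinearMap.ext fun y => ?_
    change (Ψ₀.map (a • g)).hom y = (Ψ₀.map (a • 𝟙 M')).hom ((Ψ₀.map g).hom y)
    have h : a • g = g ≫ (a • 𝟙 M') := by
      rw [Linear.comp_smul, Category.comp_id]
    rw [h, Ψ₀.map_comp]
    rfl

/-- the lift followed by the forgetful functor is the original functor -/
noncomputable def modLiftForgetIso :
    modLift Ψ₀ ⋙ forget₂ (ModuleCat.{u} A) AddCommGrpCat.{u} ≅ Ψ₀ :=
  NatIso.ofComponents (fun M => Iso.refl _) (by
    intro M M' g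
    rfl)

instance preservesColimits_modLift [PreservesColimitsOfSize.{u, u} Ψ₀] :
    PreservesColimitsOfSize.{u, u} (modLift Ψ₀) := by
  haveI : PreservesColimitsOfSize.{u, u}
      (modLift Ψ₀ ⋙ forget₂ (ModuleCat.{u} A) AddCommGrpCat.{u}) :=
    preservesColimits_of_natIso (modLiftForgetIso Ψ₀).symm
  haveI : ReflectsColimitsOfSize.{u, u} (forget₂ (ModuleCat.{u} A) AddCommGrpCat.{u}) :=
    reflectsColimits_of_reflectsIsomorphisms
  exact preservesColimits_of_reflects_of_preserves _ (forget₂ (ModuleCat.{u} A) AddCommGrpCat.{u})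

/-- **Eilenberg–Watts for `Ab`-valued functors**: `Ψ₀(A) ⊗_A M → Ψ₀(M)` is bijective. -/
theorem bijective_ewApp [PreservesColimitsOfSize.{u, u} Ψ₀] (M : ModuleCat.{u} A) :
    Function.Bijective (ewApp (modLift Ψ₀) M).hom := by
  haveI : IsIso (ewApp (modLift Ψ₀) M) := isIso_ewHom_app (modLift Ψ₀) M
  exact (ConcreteCategory.isIso_iff_bijective (ewApp (modLift Ψ₀) M)).mp inferInstance

theorem ewApp_tmul' (M : ModuleCat.{u} A) (y : Ψ₀.obj (ModuleCat.of A A)) (m : M) :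
    (ewApp (modLift Ψ₀) M).hom (y ⊗ₜ m) = (Ψ₀.map (pt M m)).hom y := rfl

end Groth.Agent.Lib.ModLiftH44
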