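import Groth.Agent.Lib.ReesCohB
import Groth.Agent.Lib.FlatBaseChangeQcqs
import Mathlib.Algebra.Polynomial.Basis
import Mathlib.LinearAlgebra.TensorProduct.Basis

/-!
# K2b (S2435), part C: sections of `π^* F` over `π⁻¹ U` for `π : X_R ⟶ X` (lead)

For `U ⊆ X` affine and `F` quasi-coherent, `Γ(F, U) → Γ(π^*F, π⁻¹U)` is a base change along `A → R`
(`isBaseChange_bc`).
-/

set_option autoImplicit false
set_option linter.style.haveILetI false
universe u
open CategoryTheory CategoryTheory.Limits AlgebraicGeometry Opposite TopologicalSpace TensorProduct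

namespace Groth.Agent.Lib.ReesCoh

open Scheme.Modules Groth.Agent.Lib.UnitBaseChange Groth.Agent.Lib.FlatBaseChangeQcqs Formal

section Scal

variable (A : Type u) [CommRing A] (X : Scheme.{u}) [X.Over (Spec (CommRingCat.of A))]

/-- The ring map `A → Γ(X, U)` for `X` over `Spec A`. -/
noncomputable def scal (U : X.Opens) : A →+* Γ(X, U) :=
  (X.presheaf.map (homOfLE (le_top (a := U))).op).hom.comp
    (Coh.toGlobal (X ↘ Spec (CommRingCat.of A)))

theorem smulMod_app (M : X.Modules) (a : A) (U : X.Opens) (m : Γ(M, U)) :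
    (smulMod A M a).app U m = scal A X U a • m := rfl

theorem scal_eq (U : X.Opens) :
    CommRingCat.ofHom (scal A X U) = (Scheme.ΓSpecIso (CommRingCat.of A)).inv ≫
      (X ↘ Spec (CommRingCat.of A)).appLE ⊤ U
        (show U ≤ (X ↘ Spec (CommRingCat.of A)) ⁻¹ᵁ ⊤ from le_top) := by
  rfl

end Scal

section BC

variable (A : Type u) [CommRing A] (R : Type u) [CommRing R] [Algebra A R]
  (X : Scheme.{u}) [X.Over (Spec (CommRingCat.of A))]

/-- the shape of `π⁻¹U` used by `FlatBaseChangeQcqs` -/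
theorem bc_preimage_eq (U : X.Opens) : bcπ A R X ⁻¹ᵁ U =
    bcπ A R X ⁻¹ᵁ U ⊓ (bc A R X ↘ Spec (CommRingCat.of R)) ⁻¹ᵁ ⊤ := by
  ext x; simp

variable {A R X}

theorem isPushout_scal {U : X.Opens} (hU : IsAffineOpen U) {U' : (bc A R X).Opens}
    (hU' : U' = bcπ A R X ⁻¹ᵁ U ⊓ (bc A R X ↘ Spec (CommRingCat.of R)) ⁻¹ᵁ ⊤) :
    IsAffineOpen U' ∧
    IsPushout (CommRingCat.ofHom (scal A X U)) (CommRingCat.ofHom (algebraMap A R))
      ((bcπ A R X).appLE U U' (hU'.le.trans inf_le_left))
      (CommRingCat.ofHom (scal R (bc A R X) U')) := by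
  subst hU'
  obtain ⟨h1, h2⟩ := isAffineOpen_inf_and_isPushout (isPullback_bc A R X)
    (isAffineOpen_top (Spec (CommRingCat.of A))) (isAffineOpen_top (Spec (CommRingCat.of R))) hU
    (V := ⊤) (V' := ⊤) le_top le_top
  refine ⟨h1, ?_⟩
  refine h2.of_iso (Scheme.ΓSpecIso (CommRingCat.of A)) (Iso.refl _)
    (Scheme.ΓSpecIso (CommRingCat.of R)) (Iso.refl _) ?_ ?_ ?_ ?_
  · rw [scal_eq, Iso.hom_inv_id_assoc]; exact Category.comp_id _
  · have := Scheme.ΓSpecIso_naturality (CommRingCat.ofHom (algebraMap A R))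
    rw [← this]
    congr 1
  · simp
  · rw [scal_eq, Iso.hom_inv_id_assoc]; exact Category.comp_id _

theorem appLE_scal {U : X.Opens} {U' : (bc A R X).Opens} (hUU' : U' ≤ bcπ A R X ⁻¹ᵁ U) (a : A) :
    ((bcπ A R X).appLE U U' hUU').hom (scal A X U a) = scal R (bc A R X) U' (algebraMap A R a) := by
  have h1 : X.presheaf.map (homOfLE (le_top (a := U))).op ≫ (bcπ A R X).appLE U U' hUU' =
      (bcπ A R X).appTop ≫ (bc A R X).presheaf.map (homOfLE (le_top (a := U'))).op :=
    Scheme.Hom.map_appLE _ _ _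
  have h2 := congr($(h1).hom (Coh.toGlobal (X ↘ Spec (CommRingCat.of A)) a))
  have h3 := gtop_toGlobal_alg (isOverAlg_bcπ A R X) a
  unfold Groth.Agent.Lib.PushCechLead.gtop at h3
  change ((bcπ A R X).appLE U U' hUU').hom
    ((X.presheaf.map (homOfLE (le_top (a := U))).op).hom
      (Coh.toGlobal (X ↘ Spec (CommRingCat.of A)) a)) = _
  refine h2.trans ?_
  exact congrArg (fun z => ((bc A R X).presheaf.map (homOfLE (le_top (a := U'))).op).hom z) h3

/-- the unit on sections `Γ(F, U) → Γ(π^*F, U')`, `U' ≤ π⁻¹U`, as an `A`-linear map -/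
noncomputable def unitSecA (F : X.Modules) {U : X.Opens} {U' : (bc A R X).Opens}
    (hUU' : U' ≤ bcπ A R X ⁻¹ᵁ U) :
    letI : Module A Γ(F, U) := Module.compHom _ (scal A X U)
    letI : Module A Γ((Scheme.Modules.pullback (bcπ A R X)).obj F, U') :=
      Module.compHom _ ((scal R (bc A R X) U').comp (algebraMap A R))
    Γ(F, U) →ₗ[A] Γ((Scheme.Modules.pullback (bcπ A R X)).obj F, U') :=
  letI : Module A Γ(F, U) := Module.compHom _ (scal A X U)
  letI : Module A Γ((Scheme.Modules.pullback (bcπ A R X)).obj F, U') :=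
    Module.compHom _ ((scal R (bc A R X) U').comp (algebraMap A R))
  { toFun := unitSecFun (bcπ A R X) F hUU'
    map_add' := fun x y => map_add (unitSec (bcπ A R X) F hUU') x y
    map_smul' := fun a m => by
      change unitSecFun (bcπ A R X) F hUU' (scal A X U a • m) =
        scal R (bc A R X) U' (algebraMap A R a) • unitSecFun (bcπ A R X) F hUU' m
      rw [unitSecFun_smul, appLE_scal] }

set_option maxHeartbeats 1600000 in
set_option backward.isDefEq.respectTransparency false in
/-- **Sections of the base change**: for `F` quasi-coherent and `U ⊆ X` affine, the unit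
`Γ(F, U) → Γ(π^*F, π⁻¹U)` is a base change along `A → R`. -/
theorem isBaseChange_bc (F : X.Modules) [F.IsQuasicoherent] {U : X.Opens} (hU : IsAffineOpen U)
    {U' : (bc A R X).Opens}
    (hU' : U' = bcπ A R X ⁻¹ᵁ U ⊓ (bc A R X ↘ Spec (CommRingCat.of R)) ⁻¹ᵁ ⊤) :
    letI : Module A Γ(F, U) := Module.compHom _ (scal A X U)
    letI : Module R Γ((Scheme.Modules.pullback (bcπ A R X)).obj F, U') :=
      Module.compHom _ (scal R (bc A R X) U')
    letI : Module A Γ((Scheme.Modules.pullback (bcπ A R X)).obj F, U') :=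
      Module.compHom _ ((scal R (bc A R X) U').comp (algebraMap A R))
    haveI : IsScalarTower A R Γ((Scheme.Modules.pullback (bcπ A R X)).obj F, U') :=
      .of_algebraMap_smul fun _ _ => rfl
    IsBaseChange R (unitSecA F (hU'.le.trans inf_le_left)) := by
  obtain ⟨hU'a, hPO⟩ := isPushout_scal hU hU'
  have hUU' : U' ≤ bcπ A R X ⁻¹ᵁ U := hU'.le.trans inf_le_left
  letI algAB : Algebra A Γ(X, U) := (scal A X U).toAlgebra
  letI algBB' : Algebra Γ(X, U) Γ(bc A R X, U') := ((bcπ A R X).appLE U U' hUU').hom.toAlgebra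
  letI algA'B' : Algebra R Γ(bc A R X, U') := (scal R (bc A R X) U').toAlgebra
  letI algAB' : Algebra A Γ(bc A R X, U') :=
    ((scal R (bc A R X) U').comp (algebraMap A R)).toAlgebra
  haveI : IsScalarTower A R Γ(bc A R X, U') := .of_algebraMap_eq fun _ => rfl
  haveI : IsScalarTower A Γ(X, U) Γ(bc A R X, U') :=
    .of_algebraMap_eq fun x => (appLE_scal hUU' x).symm
  haveI : Algebra.IsPushout A R Γ(X, U) Γ(bc A R X, U') :=
    CommRingCat.isPushout_iff_isPushout.mp hPO.flip
  letI modAM : Module A Γ(F, U) := Module.compHom _ (scal A X U)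
  haveI : IsScalarTower A Γ(X, U) Γ(F, U) := .of_algebraMap_smul fun _ _ => rfl
  letI modBN : Module Γ(X, U) Γ((Scheme.Modules.pullback (bcπ A R X)).obj F, U') :=
    Module.compHom _ ((bcπ A R X).appLE U U' hUU').hom
  haveI : IsScalarTower Γ(X, U) Γ(bc A R X, U')
      Γ((Scheme.Modules.pullback (bcπ A R X)).obj F, U') := .of_algebraMap_smul fun _ _ => rfl
  letI modA'N : Module R Γ((Scheme.Modules.pullback (bcπ A R X)).obj F, U') :=
    Module.compHom _ (scal R (bc A R X) U')
  haveI : IsScalarTower R Γ(bc A R X, U')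
      Γ((Scheme.Modules.pullback (bcπ A R X)).obj F, U') := .of_algebraMap_smul fun _ _ => rfl
  letI modAN : Module A Γ((Scheme.Modules.pullback (bcπ A R X)).obj F, U') :=
    Module.compHom _ ((scal R (bc A R X) U').comp (algebraMap A R))
  haveI : IsScalarTower A R Γ((Scheme.Modules.pullback (bcπ A R X)).obj F, U') :=
    .of_algebraMap_smul fun _ _ => rfl
  have h₂ := isBaseChange_unitSec (bcπ A R X) F hU'a hU hUU'
  exact Groth.Agent.Lib.FlatBaseChangeAlg.isBaseChange_of_isPushout (A := A)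
    (A' := R) (B := Γ(X, U)) (B' := Γ(bc A R X, U')) (M := Γ(F, U))
    (N := Γ((Scheme.Modules.pullback (bcπ A R X)).obj F, U'))
    (unitSec (bcπ A R X) F hUU') h₂ (unitSecA F hUU') (fun m => rfl)

/-- every section of `π^*F` over `π⁻¹U` is a sum of elements `r • (image of a section of F)` -/
theorem mem_closure_bc (F : X.Modules) [F.IsQuasicoherent] {U : X.Opens} (hU : IsAffineOpen U)
    {U' : (bc A R X).Opens}
    (hU' : U' = bcπ A R X ⁻¹ᵁ U ⊓ (bc A R X ↘ Spec (CommRingCat.of R)) ⁻¹ᵁ ⊤)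
    (y : Γ((Scheme.Modules.pullback (bcπ A R X)).obj F, U')) :
    y ∈ AddSubgroup.closure {z | ∃ (r : R) (x : Γ(F, U)),
      z = scal R (bc A R X) U' r • unitSecFun (bcπ A R X) F (hU'.le.trans inf_le_left) x} := by
  letI : Module A Γ(F, U) := Module.compHom _ (scal A X U)
  letI : Module R Γ((Scheme.Modules.pullback (bcπ A R X)).obj F, U') :=
    Module.compHom _ (scal R (bc A R X) U')
  letI : Module A Γ((Scheme.Modules.pullback (bcπ A R X)).obj F, U') :=
    Module.compHom _ ((scal R (bc A R X) U').comp (algebraMap A R))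
  haveI : IsScalarTower A R Γ((Scheme.Modules.pullback (bcπ A R X)).obj F, U') :=
    .of_algebraMap_smul fun _ _ => rfl
  have h := isBaseChange_bc F hU hU'
  set S := AddSubgroup.closure {z | ∃ (r : R) (x : Γ(F, U)),
      z = scal R (bc A R X) U' r • unitSecFun (bcπ A R X) F (hU'.le.trans inf_le_left) x} with hS
  have hsmul : ∀ (s : R) (n : Γ((Scheme.Modules.pullback (bcπ A R X)).obj F, U')),
      n ∈ S → scal R (bc A R X) U' s • n ∈ S := by
    intro s n hn
    induction hn using AddSubgroup.closure_induction with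
    | mem z hz =>
      obtain ⟨r, x, rfl⟩ := hz
      refine AddSubgroup.subset_closure ⟨s * r, x, ?_⟩
      rw [map_mul, mul_smul]
    | zero => rw [smul_zero]; exact S.zero_mem
    | add a b _ _ ha hb => rw [smul_add]; exact S.add_mem ha hb
    | neg a _ ha => rw [smul_neg]; exact S.neg_mem ha
  refine h.inductionOn y (motive := fun y => y ∈ S) S.zero_mem (fun m => ?_) (fun s n hn => hsmul s n hn)
    (fun a b ha hb => S.add_mem ha hb)
  refine AddSubgroup.subset_closure ⟨1, m, ?_⟩
  rw [map_one, one_smul]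
  rfl

end BC

section Poly

open Polynomial

variable {A : Type u} [CommRing A] {X : Scheme.{u}} [X.Over (Spec (CommRingCat.of A))]

theorem finsupp_eq_zero_of_isBaseChange_poly {M W : Type*} [AddCommGroup M]
    [Module A M] [AddCommGroup W] [Module A W] [Module A[X] W] [IsScalarTower A A[X] W]
    (j : M →ₗ[A] W) (hj : IsBaseChange A[X] j) (x : ℕ →₀ M)
    (h : x.sum (fun k xk => (Polynomial.X ^ k : A[X]) • j xk) = 0) : x = 0 := by
  classical
  apply TensorProduct.sum_tmul_basis_left_eq_zero (Polynomial.basisMonomials A) x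
  apply hj.equiv.injective
  rw [map_zero, Finsupp.sum, map_sum]
  rw [Finsupp.sum] at h
  rw [← h]
  refine Finset.sum_congr rfl fun k _ => ?_
  rw [IsBaseChange.equiv_tmul, Polynomial.coe_basisMonomials]
  simp only [Polynomial.monomial_one_right_eq_X_pow]

/-- for `R = A[t]`: the sections `t^k • (image of x_k)` are independent -/
theorem finsupp_eq_zero_bc (F : X.Modules) [F.IsQuasicoherent] {U : X.Opens} (hU : IsAffineOpen U)
    {U' : (bc A A[X] X).Opens}
    (hU' : U' = bcπ A A[X] X ⁻¹ᵁ U ⊓ (bc A A[X] X ↘ Spec (CommRingCat.of A[X])) ⁻¹ᵁ ⊤)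
    (x : ℕ →₀ Γ(F, U))
    (h : x.sum (fun k xk => scal A[X] (bc A A[X] X) U' (Polynomial.X ^ k) •
      unitSecFun (bcπ A A[X] X) F (hU'.le.trans inf_le_left) xk) = 0) : x = 0 := by
  letI : Module A Γ(F, U) := Module.compHom _ (scal A X U)
  letI : Module A[X] Γ((Scheme.Modules.pullback (bcπ A A[X] X)).obj F, U') :=
    Module.compHom _ (scal A[X] (bc A A[X] X) U')
  letI : Module A Γ((Scheme.Modules.pullback (bcπ A A[X] X)).obj F, U') :=
    Module.compHom _ ((scal A[X] (bc A A[X] X) U').comp (algebraMap A A[X]))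
  haveI : IsScalarTower A A[X] Γ((Scheme.Modules.pullback (bcπ A A[X] X)).obj F, U') :=
    .of_algebraMap_smul fun _ _ => rfl
  exact finsupp_eq_zero_of_isBaseChange_poly _ (isBaseChange_bc F hU hU') x h

end Poly

end Groth.Agent.Lib.ReesCoh
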