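import Groth.Agent.Lib.H72FlatBaseChange
import Groth.Agent.Lib.StructureModuleStalk
import Groth.Agent.Lib.ModStalkLin
import Groth.Agent.Lib.ModPullback

/-!
# helper72: more on flatness over the base

* `isFlatOverAt_iff_of_iso`: `IsFlatOverAt` is invariant under isomorphisms of modules.
* `isFlatOverAt_structureModule_iff`: `O_X` is flat over `S` at `x` iff `f.stalkMap x` is flat.
* `flat_stalkMap_of_isPullback`: pointwise base change of flatness of morphisms: in a cartesian square
  `X' = X ×_S S'`, if `g : S' ⟶ S` is flat at `f' x'` then `g' : X' ⟶ X` is flat at `x'`.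
* `isFlatOverAt_of_pullback_of_isPullback` (= S1392).
-/

set_option autoImplicit false
set_option linter.style.haveILetI false
universe u

namespace Groth.Agent.Lib.H72FlatBaseChange

open AlgebraicGeometry CategoryTheory CategoryTheory.Limits

variable {X S : Scheme.{u}}

/-- `IsFlatOverAt` is invariant under isomorphisms of modules. -/
theorem isFlatOverAt_iff_of_iso (f : X ⟶ S) {F F' : X.Modules} (e : F ≅ F') (x : X) :
    FlatMod.IsFlatOverAt f F x ↔ FlatMod.IsFlatOverAt f F' x := by
  letI m1 : Module (S.presheaf.stalk (f x)) (F.presheaf.stalk x) := FlatMod.moduleStalkOver f F x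
  letI m2 : Module (S.presheaf.stalk (f x)) (F'.presheaf.stalk x) := FlatMod.moduleStalkOver f F' x
  let E := Groth.Agent.Lib.ModStalkLin.stalkLinEquiv e x
  let E' : F.presheaf.stalk x ≃ₗ[S.presheaf.stalk (f x)] F'.presheaf.stalk x :=
    { E.toAddEquiv with
      map_smul' := fun r m => E.map_smul ((f.stalkMap x).hom r) m }
  exact Module.Flat.equiv_iff E'

/-- The structure sheaf is flat over `S` at `x` iff the stalk map is flat. -/
theorem isFlatOverAt_structureModule_iff (f : X ⟶ S) (x : X) :
    FlatMod.IsFlatOverAt f (Coh.structureModule X) x ↔ (f.stalkMap x).hom.Flat := by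
  letI alg : Algebra (S.presheaf.stalk (f x)) (X.presheaf.stalk x) := (f.stalkMap x).hom.toAlgebra
  letI m2 : Module (S.presheaf.stalk (f x)) ((Coh.structureModule X).presheaf.stalk x) :=
    FlatMod.moduleStalkOver f (Coh.structureModule X) x
  let E := Groth.Agent.Lib.StructureModuleStalk.stalkEquiv x
  let E' : X.presheaf.stalk x ≃ₗ[S.presheaf.stalk (f x)]
      (Coh.structureModule X).presheaf.stalk x :=
    { E.toAddEquiv with
      map_smul' := fun r m => E.map_smul ((f.stalkMap x).hom r) m }
  exact (Module.Flat.equiv_iff E').symm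

variable {X' S' : Scheme.{u}} {f : X ⟶ S} {f' : X' ⟶ S'} {g' : X' ⟶ X} {g : S' ⟶ S}

/-- Pointwise base change of flatness of morphisms. -/
theorem flat_stalkMap_of_isPullback (hc : IsPullback g' f' f g) (x' : X')
    (hg : (g.stalkMap (f' x')).hom.Flat) : (g'.stalkMap x').hom.Flat := by
  haveI : (Coh.structureModule S').IsQuasicoherent :=
    Groth.Agent.Lib.StructureModule.isQuasicoherent_structureModule S'
  have h1 : FlatMod.IsFlatOverAt g (Coh.structureModule S') (f' x') :=
    (isFlatOverAt_structureModule_iff g _).2 hg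
  have h2 := isFlatOverAt_pullback_of_isPullback hc.flip (Coh.structureModule S') x' h1
  have h3 := (isFlatOverAt_iff_of_iso g' (Groth.Agent.Lib.ModPullback.pullbackUnitIso f').symm x').1 h2
  exact (isFlatOverAt_structureModule_iff g' x').1 h3

end Groth.Agent.Lib.H72FlatBaseChange
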