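import Groth.Agent.Lib.TensorAModelH44
import Groth.Agent.Lib.ModPullback
import Groth.Agent.Lib.H72FlatBaseChange2
import Groth.Agent.Lib.FlatOverSections
import Groth.Agent.Lib.H90CohRestrict
import Groth.Agent.Lib.EulerChar54
import Groth.Agent.S0002

/-!
# The Čech complex of `F ⊗_A A`: flat terms, vanishing, finiteness (helper44, K2c geometry)
-/

set_option autoImplicit false
set_option linter.style.haveILetI false
universe u

open CategoryTheory CategoryTheory.Limits AlgebraicGeometry Opposite MonoidalCategory CohIII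

namespace Groth.Agent.Lib.TensorAModel2H44

open Groth.Agent.Lib.TensorACechH44 Groth.Agent.Lib.EndEquivH44 Groth.Agent.Lib.TensorAModelH44
  Groth.Agent.Lib.OXModTensor

variable (A : Type u) [CommRing A] {X : Scheme.{u}} [X.Over (Spec (CommRingCat.of A))]
  (F : X.Modules)

/-- `F ⊗_A A ≅ F` -/
noncomputable def tensorASelfIso : (tensorAFunctor A F).obj (ModuleCat.of A A) ≅ F :=
  (DCoh.tensorRightMod F).mapIso
    ((Groth.Agent.Lib.ModPullback.pullbackUnitIso (X ↘ Spec (CommRingCat.of A))).symm) ≪≫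
    leftUnitor F

section Flat

/-- the structure map `A → Γ(X, V)` -/
noncomputable def toSec (V : X.Opens) : A →+* Γ(X, V) :=
  (Coh.resTop X (op V)).comp (Coh.toGlobal (X ↘ Spec (CommRingCat.of A)))

theorem toSec_eq (V : X.Opens) :
    toSec A V = ((X ↘ Spec (CommRingCat.of A)).appLE ⊤ V le_top).hom.comp
      (Scheme.ΓSpecIso (CommRingCat.of A)).inv.hom := by
  ext a
  rfl

/-- sections of an `O_X`-module over `V` as an `A`-module -/
@[reducible] noncomputable def moduleSec (P : X.Modules) (V : X.Opens) : Module A Γ(P, V) :=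
  Module.compHom _ (toSec A V)

theorem smulMod_app (P : X.Modules) (a : A) (V : X.Opens) (y : Γ(P, V)) :
    (Formal.smulMod A P a).app V y = (toSec A V a) • y := by
  change (Coh.smulAb P _).hom.app (op V) y = _
  rw [Coh.smulAb_app]
  rfl

variable {F}

/-- sections over an affine open of a module flat over `Spec A` are flat over `A` -/
theorem flat_sections [F.IsQuasicoherent]
    (hfl : FlatMod.IsFlatOver (X ↘ Spec (CommRingCat.of A)) F) {P : X.Modules} (e : P ≅ F)
    {V : X.Opens} (hV : IsAffineOpen V) :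
    @Module.Flat A Γ(P, V) _ _ (moduleSec A P V) := by
  letI := moduleSec A P V
  haveI : P.IsQuasicoherent := (SheafOfModules.isQuasicoherent X.ringCatSheaf).prop_of_iso e.symm
    (inferInstance : F.IsQuasicoherent)
  have h1 := (Groth.Agent.Lib.FlatOverSections.forall_isFlatOverAt_iff_flat_sections
    (X ↘ Spec (CommRingCat.of A)) P hV (isAffineOpen_top (Spec (CommRingCat.of A))) le_top).mp
    (fun x _ => (Groth.Agent.Lib.H72FlatBaseChange.isFlatOverAt_iff_of_iso _ e x).2 (hfl x))
  -- transport along the ring isomorphism `A ≃ Γ(Spec A, ⊤)`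
  let B := Γ(Spec (CommRingCat.of A), ⊤)
  letI : Module B Γ(P, V) :=
    Module.compHom _ ((X ↘ Spec (CommRingCat.of A)).appLE ⊤ V le_top).hom
  letI : Algebra A B := (Scheme.ΓSpecIso (CommRingCat.of A)).inv.hom.toAlgebra
  haveI : IsScalarTower A B Γ(P, V) := by
    refine IsScalarTower.of_algebraMap_smul fun a y => ?_
    change ((X ↘ Spec (CommRingCat.of A)).appLE ⊤ V le_top).hom
      ((Scheme.ΓSpecIso (CommRingCat.of A)).inv.hom a) • y = toSec A V a • y
    rw [toSec_eq]
    rfl
  haveI : Module.Flat A B := by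
    let σ : A ≃ₗ[A] B :=
      { (Scheme.ΓSpecIso (CommRingCat.of A)).symm.commRingCatIsoToRingEquiv.toAddEquiv with
        map_smul' := fun a b => by
          change (Scheme.ΓSpecIso (CommRingCat.of A)).inv.hom (a * b) =
            (Scheme.ΓSpecIso (CommRingCat.of A)).inv.hom a * (Scheme.ΓSpecIso (CommRingCat.of A)).inv.hom b
          exact map_mul _ a b }
    exact Module.Flat.of_linearEquiv σ.symm
  haveI : Module.Flat B Γ(P, V) := h1
  exact Module.Flat.trans A B Γ(P, V)

section CechFlat

open Groth.Agent.Lib.LinLiftH44 Groth.Agent.Lib.CechLow Groth.Agent.Lib.CechLES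

variable (F) {ι : Type u} (U : ι → X.Opens)

/-- the components of a Čech cochain of `F ⊗_A A` -/
noncomputable def cechComp (n : ℕ) (a : Fin (n + 1) → ι)
    (y : (cechCx A F U).X n) :
    Γ((tensorAFunctor A F).obj (ModuleCat.of A A), ∏ᶜ fun k => U (a k)) :=
  comp U ((tensorAFunctor A F).obj (ModuleCat.of A A)).presheaf n a y

theorem cechComp_add (n : ℕ) (a : Fin (n + 1) → ι) (y z : (cechCx A F U).X n) :
    cechComp A F U n a (y + z) = cechComp A F U n a y + cechComp A F U n a z :=
  map_add (comp U ((tensorAFunctor A F).obj (ModuleCat.of A A)).presheaf n a).hom y z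

theorem cechComp_smul (n : ℕ) (a : Fin (n + 1) → ι) (c : A) (y : (cechCx A F U).X n) :
    cechComp A F U n a (c • y) =
      toSec A (∏ᶜ fun k => U (a k)) c • cechComp A F U n a y := by
  have h1 : c • y = (((cechFun A F U).map (c • 𝟙 (ModuleCat.of A A))).f n).hom y := rfl
  rw [h1]
  have h2 := comp_map_apply U
    ((Scheme.Modules.toPresheaf X).map ((tensorAFunctor A F).map (c • 𝟙 (ModuleCat.of A A)))) n a y
  refine h2.trans ?_
  rw [Groth.Agent.Lib.TensorALinH44.tensorAFunctor_map_smul]
  exact smulMod_app A _ c _ _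

theorem cechComp_ext (n : ℕ) (y z : (cechCx A F U).X n)
    (h : ∀ a, cechComp A F U n a y = cechComp A F U n a z) : y = z :=
  cochain_ext U ((tensorAFunctor A F).obj (ModuleCat.of A A)).presheaf n y z h

variable {F} in
/-- **Flatness**: the terms of the Čech complex of `F ⊗_A A` are flat `A`-modules. -/
theorem flat_cechCx_X [F.IsQuasicoherent] [Finite ι]
    (hfl : FlatMod.IsFlatOver (X ↘ Spec (CommRingCat.of A)) F)
    (hU : ∀ (n : ℕ) (a : Fin (n + 1) → ι), IsAffineOpen (∏ᶜ fun k => U (a k))) (n : ℕ) :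
    Module.Flat A ((cechCx A F U).X n) := by
  classical
  haveI := Fintype.ofFinite ι
  let GA := (tensorAFunctor A F).obj (ModuleCat.of A A)
  letI : ∀ a : Fin (n + 1) → ι, Module A Γ(GA, ∏ᶜ fun k => U (a k)) :=
    fun a => moduleSec A GA _
  haveI : ∀ a : Fin (n + 1) → ι, Module.Flat A Γ(GA, ∏ᶜ fun k => U (a k)) :=
    fun a => flat_sections A hfl (tensorASelfIso A F) (hU n a)
  let e : (cechCx A F U).X n ≃ₗ[A] (∀ a : Fin (n + 1) → ι, Γ(GA, ∏ᶜ fun k => U (a k))) :=
    LinearEquiv.ofBijective
      { toFun := fun y a => cechComp A F U n a y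
        map_add' := fun y z => funext fun a => cechComp_add A F U n a y z
        map_smul' := fun c y => funext fun a => cechComp_smul A F U n a c y }
      ⟨fun y z h => cechComp_ext A F U n y z (fun a => congrFun h a),
        fun s => ⟨mkCochain U GA.presheaf n s, funext fun a => comp_mkCochain U GA.presheaf n s a⟩⟩
  haveI : Module.Flat A (∀ a : Fin (n + 1) → ι, Γ(GA, ∏ᶜ fun k => U (a k))) :=
    Module.Flat.of_linearEquiv (DFinsupp.linearEquivFunOnFintype).symm
  exact Module.Flat.of_linearEquiv e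

end CechFlat

end Flat

section Finite

open Groth.Agent.Lib.LinLiftH44

theorem smul_homology {ι' : Type} {c : ComplexShape ι'} (C : HomologicalComplex (ModuleCat.{u} A) c)
    (a : A) (i : ι') (x : C.homology i) :
    a • x = (HomologicalComplex.homologyMap (a • 𝟙 C) i).hom x := by
  have h : HomologicalComplex.homologyMap (a • 𝟙 C) i = a • 𝟙 (C.homology i) := by
    change ShortComplex.homologyMap ((HomologicalComplex.shortComplexFunctor _ c i).map (a • 𝟙 C)) = _
    have h1 : (HomologicalComplex.shortComplexFunctor (ModuleCat.{u} A) c i).map (a • 𝟙 C) =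
        a • 𝟙 (C.sc i) := rfl
    rw [h1, ShortComplex.homologyMap_smul, ShortComplex.homologyMap_id]
    rfl
  rw [h]
  rfl

variable [F.IsQuasicoherent] {ι : Type u} [Finite ι] (U : ι → X.Opens)

/-- the cohomology of the Čech complex of `F ⊗_A A` is `A`-linearly isomorphic to `H^n(X, F ⊗_A A)` -/
theorem nonempty_homology_linearEquiv (hcov : ⨆ i, U i = ⊤)
    (hU : ∀ s : Finset ι, s.Nonempty → IsAffineOpen (⨅ i ∈ s, U i)) (n : ℕ) :
    Nonempty ((cechCx A F U).homology n ≃ₗ[A]
      Coh.HH X ((tensorAFunctor A F).obj (ModuleCat.of A A)) n) := by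
  let Φ₀ := cechFun A F U
  let I := linLiftHomologyIso Φ₀ n
  obtain ⟨e1₀, he1⟩ := endEquiv_cech A F U hcov hU n (ModuleCat.of A A)
  let e1 : ↑((cechFun A F U ⋙ HomologicalComplex.homologyFunctor AddCommGrpCat.{u} _ n).obj
      (ModuleCat.of A A)) ≃+ Coh.HH X ((tensorAFunctor A F).obj (ModuleCat.of A A)) n := e1₀
  let E : (cechCx A F U).homology n ≃+
      Coh.HH X ((tensorAFunctor A F).obj (ModuleCat.of A A)) n :=
    (I.app (ModuleCat.of A A)).addCommGroupIsoToAddEquiv.trans e1
  refine ⟨{ E with map_smul' := fun c x => ?_ }⟩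
  let ψ : ModuleCat.of A A ⟶ ModuleCat.of A A := c • 𝟙 _
  -- (1) the scalar action on the homology of the lifted complex
  have h1 : c • x = ((linLift Φ₀ ⋙ HomologicalComplex.homologyFunctor (ModuleCat.{u} A) _ n).map ψ).hom x := by
    rw [smul_homology]
    have : (linLift Φ₀).map ψ = c • 𝟙 ((linLift Φ₀).obj (ModuleCat.of A A)) := by
      rw [Functor.map_smul, CategoryTheory.Functor.map_id]
    change _ = (HomologicalComplex.homologyMap ((linLift Φ₀).map ψ) n).hom x
    rw [this]
    rfl
  -- (2) naturality of `I`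
  have h2 : (I.hom.app (ModuleCat.of A A)).hom
      (((linLift Φ₀ ⋙ HomologicalComplex.homologyFunctor (ModuleCat.{u} A) _ n).map ψ).hom x) =
      ((Φ₀ ⋙ HomologicalComplex.homologyFunctor AddCommGrpCat.{u} _ n).map ψ).hom
        ((I.hom.app (ModuleCat.of A A)).hom x) :=
    ConcreteCategory.congr_hom (I.hom.naturality ψ) x
  -- (3) equivariance of the Čech-to-derived comparison, (4) `A`-linearity of `F ⊗_A -`
  have h3 := he1 ψ ((I.hom.app (ModuleCat.of A A)).hom x)
  have h4 : ((tensorAFunctor A F ⋙ HAb X n).map ψ).hom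
      (e1 ((I.hom.app (ModuleCat.of A A)).hom x)) =
      c • e1 ((I.hom.app (ModuleCat.of A A)).hom x) := by
    change Sheaf.H.map ((SheafOfModules.toSheaf X.ringCatSheaf).map
      ((tensorAFunctor A F).map (c • 𝟙 (ModuleCat.of A A)))) n _ = _
    rw [Groth.Agent.Lib.TensorALinH44.tensorAFunctor_map_smul]
    rfl
  change e1 ((I.hom.app (ModuleCat.of A A)).hom (c • x)) =
    c • e1 ((I.hom.app (ModuleCat.of A A)).hom x)
  refine Eq.trans ?_ h4
  refine Eq.trans ?_ h3
  refine congrArg e1 ?_
  refine Eq.trans ?_ h2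
  exact congrArg (I.hom.app (ModuleCat.of A A)).hom h1

variable {F} in
/-- **Finiteness** of the cohomology of the Čech complex of `F ⊗_A A`. -/
theorem finite_homology_cechCx [IsNoetherianRing A] [IsProper (X ↘ Spec (CommRingCat.of A))]
    (hF : Coh.IsCoh F) (hcov : ⨆ i, U i = ⊤)
    (hU : ∀ s : Finset ι, s.Nonempty → IsAffineOpen (⨅ i ∈ s, U i)) (n : ℕ) :
    Module.Finite A ((cechCx A F U).homology n) := by
  obtain ⟨e⟩ := nonempty_homology_linearEquiv A F U hcov hU n
  have hcoh : Coh.IsCoh ((tensorAFunctor A F).obj (ModuleCat.of A A)) :=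
    Groth.Agent.Lib.H90CohRestrict.isCoh_of_iso (tensorASelfIso A F).symm hF
  haveI := Groth.Agent.S0002.result A X _ hcoh n
  exact Module.Finite.equiv e.symm

end Finite

section Vanishing

variable [F.IsQuasicoherent] {ι : Type u} [Finite ι] (U : ι → X.Opens)

/-- **Vanishing**: `H^p(C ⊗_A M) = 0` for `p` beyond a uniform bound. -/
theorem exists_vanishing [IsSeparated (X ↘ Spec (CommRingCat.of A))] [CompactSpace X]
    (hcov : ⨆ i, U i = ⊤) (hU : ∀ s : Finset ι, s.Nonempty → IsAffineOpen (⨅ i ∈ s, U i)) :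
    ∃ t : ℕ, ∀ (M : ModuleCat.{u} A) (p : ℕ), t ≤ p →
      IsZero ((TFun (cechCx A F U) p).obj M) := by
  obtain ⟨t, ht⟩ := Groth.Agent.Lib.EulerChar54.exists_vanishing_bound (X ↘ Spec (CommRingCat.of A))
  refine ⟨t, fun M p hp => ?_⟩
  obtain ⟨e, -⟩ := endEquiv_TFun A F U hcov hU p M
  have h1 : Subsingleton (Coh.HH X ((tensorAFunctor A F).obj M) p) :=
    ht _ (isQuasicoherent_tensorAFunctor_obj A F M) p hp
  have h1' : Subsingleton ↑((tensorAFunctor A F ⋙ HAb X p).obj M) := h1
  have h2 : Subsingleton ((TFun (cechCx A F U) p).obj M) := e.toEquiv.subsingleton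
  exact ModuleCat.isZero_of_subsingleton _

end Vanishing

end Groth.Agent.Lib.TensorAModel2H44
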