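import Groth.Agent.Lib.ZClos5B
import Groth.Agent.Lib.H90OXModExt

/-!
# ZClos cluster, part C: elementwise description of the Z-closure on Noetherian opens
-/

set_option autoImplicit false
universe u

open CategoryTheory CategoryTheory.Limits AlgebraicGeometry TopologicalSpace Opposite

namespace Groth.Agent.Lib.ZClos5

open Groth.Agent.Lib.QCohStalk Groth.Agent.Lib.H90OXModQcqs Groth.Agent.Lib.H90OXModSections
  Groth.Agent.Lib.H90OXModExt Groth.Agent.Lib.H90OXModExact

variable {X : Scheme.{u}}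

/-- A morphism of `O_X`-modules which is bijective on sections over every affine open is an
isomorphism. -/
theorem isIso_of_bijective_affine {M N : X.Modules} (φ : M ⟶ N)
    (h : ∀ U : X.affineOpens, Function.Bijective (φ.app U.1)) : IsIso φ := by
  have hm : Mono φ := (mono_iff_forall_affine φ).mpr fun U => (h U).1
  have hinj : ∀ W, Function.Injective (φ.app W) := fun W => injective_app_of_mono φ W
  have hsurj : ∀ W, Function.Surjective (φ.app W) := by
    intro W t
    obtain ⟨Us, hUs, hW⟩ := Opens.isBasis_iff_cover.mp X.isBasis_affineOpens W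
    have hle : ∀ V : Us, V.1 ≤ W := fun V => by rw [hW]; exact le_sSup V.2
    have hcov : W ≤ ⨆ V : Us, V.1 := by rw [hW, sSup_eq_iSup']
    choose s hs using fun V : Us => (h ⟨V.1, hUs V.2⟩).2 (res N (hle V) t)
    obtain ⟨s', hs'⟩ := exists_glue M W (fun V : Us => V.1) hle hcov s (by
      intro V V'
      apply hinj
      rw [app_res, app_res, hs, hs, res_res, res_res])
    refine ⟨s', ?_⟩
    apply res_ext N W (fun V : Us => V.1) hle hcov
    intro V
    rw [← app_res, hs' V, hs]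
  rw [Scheme.Modules.Hom.isIso_iff_isIso_app]
  intro W
  exact (ConcreteCategory.isIso_iff_bijective _).mpr ⟨hinj W, hsurj W⟩

section UV

/-- `U ∩ V` in the form used by `resPush` -/
abbrev UV (U V : X.Opens) : X.Opens := U.ι ''ᵁ U.ι ⁻¹ᵁ V

lemma UV_eq (U V : X.Opens) : UV U V = U ⊓ V := ZClos.ι_image_preimage U V
lemma UV_le_right (U V : X.Opens) : UV U V ≤ V := U.ι.image_preimage_le V
lemma UV_le_left (U V : X.Opens) : UV U V ≤ U := by rw [UV_eq]; exact inf_le_left
lemma UV_mono {U U' V V' : X.Opens} (h : U' ≤ U) (h' : V' ≤ V) : UV U' V' ≤ UV U V := by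
  rw [UV_eq, UV_eq]; exact inf_le_inf h h'
lemma le_UV {U V W : X.Opens} (h : W ≤ U) (h' : W ≤ V) : W ≤ UV U V := by
  rw [UV_eq]; exact le_inf h h'

variable (M : X.Modules)

lemma unit_app_apply (U V : X.Opens) (s : Γ(M, V)) :
    ((ZClos.resPushUnit U).app M).app V s = res M (UV_le_right U V) s := rfl

lemma trans_app_apply {U U' : X.Opens} (h : U' ≤ U) (V : X.Opens) (s : Γ(M, UV U V)) :
    (ZClos.resPushMapApp h M).app V s = res M (UV_mono h le_rfl) s := by
  rw [ZClos.resPushMapApp_app]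
  rfl

lemma resPush_res (U : X.Opens) {V W : X.Opens} (h : W ≤ V) (s : Γ(M, UV U V)) :
    res ((ZClos.resPush U).obj M) h s = res M (UV_mono le_rfl h) s := rfl

end UV

section H0Elem

variable (Z : Set X) (F : X.Modules)

lemma rhoApp_app (T : ZClos.Cl Z) (V : X.Opens) (s : Γ(F, V)) :
    (ZClos.rhoApp Z F).app V s = (ιH Z F T).app V (res F (UV_le_right T.U V) s) := by
  rw [rhoApp_eq' Z F T]
  rfl

lemma ιH_app_trans {T T' : ZClos.Cl Z} (hT : T ≤ T') (V : X.Opens) (t : Γ(F, UV T.U V)) :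
    (ιH Z F T').app V (res F (UV_mono (ZClos.Cl.U_anti hT) le_rfl) t) = (ιH Z F T).app V t := by
  rw [← ιH_w Z F hT, ← trans_app_apply F (ZClos.Cl.U_anti hT) V t]
  rfl

lemma ιH_app_res (T : ZClos.Cl Z) {V W : X.Opens} (h : W ≤ V) (t : Γ(F, UV T.U V)) :
    res ((ZClos.H0 Z).obj F) h ((ιH Z F T).app V t) =
      (ιH Z F T).app W (res F (UV_mono le_rfl h) t) := by
  rw [← resPush_res F T.U h t, app_res]

variable [IsLocallyNoetherian X]

theorem H0_sec_surj (V : X.Opens) (hV : IsCompact (V : Set X))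
    (s : Γ((ZClos.H0 Z).obj F, V)) :
    ∃ (T : ZClos.Cl Z) (t : Γ(F, UV T.U V)), (ιH Z F T).app V t = s :=
  sec_surj ((ZClos.diagram Z).obj F) (colimit.cocone _) (colimit.isColimit _) V
    (mem_noethOpens_of_isCompact V hV) s

theorem H0_sec_inj (V : X.Opens) (hV : IsCompact (V : Set X)) (T : ZClos.Cl Z)
    (t : Γ(F, UV T.U V)) (h : (ιH Z F T).app V t = 0) :
    ∃ (T' : ZClos.Cl Z) (hT : T ≤ T'), res F (UV_mono (ZClos.Cl.U_anti hT) le_rfl) t = 0 := by
  obtain ⟨T', f, hf⟩ := sec_inj ((ZClos.diagram Z).obj F) (colimit.cocone _)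
    (colimit.isColimit _) V (mem_noethOpens_of_isCompact V hV) T t h
  refine ⟨T', f.le, ?_⟩
  rw [← trans_app_apply F (ZClos.Cl.U_anti f.le) V t]
  exact hf

theorem H0_sec_inj' (V : X.Opens) (hV : IsCompact (V : Set X)) (T : ZClos.Cl Z)
    (t₁ t₂ : Γ(F, UV T.U V)) (h : (ιH Z F T).app V t₁ = (ιH Z F T).app V t₂) :
    ∃ (T' : ZClos.Cl Z) (hT : T ≤ T'), res F (UV_mono (ZClos.Cl.U_anti hT) le_rfl) t₁ =
      res F (UV_mono (ZClos.Cl.U_anti hT) le_rfl) t₂ := by
  obtain ⟨T', f, hf⟩ := sec_inj' ((ZClos.diagram Z).obj F) (colimit.cocone _)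
    (colimit.isColimit _) V (mem_noethOpens_of_isCompact V hV) T t₁ t₂ h
  refine ⟨T', f.le, ?_⟩
  rw [← trans_app_apply F (ZClos.Cl.U_anti f.le) V t₁,
    ← trans_app_apply F (ZClos.Cl.U_anti f.le) V t₂]
  exact hf

/-- two representatives of sections of `H0` can be brought to a common stage -/
theorem H0_sec_surj_ge (V : X.Opens) (hV : IsCompact (V : Set X))
    (s : Γ((ZClos.H0 Z).obj F, V)) (T₀ : ZClos.Cl Z) :
    ∃ (T : ZClos.Cl Z) (_ : T₀ ≤ T) (t : Γ(F, UV T.U V)), (ιH Z F T).app V t = s := by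
  obtain ⟨T, t, ht⟩ := H0_sec_surj Z F V hV s
  exact ⟨T ⊔ T₀, le_sup_right, _, (ιH_app_trans Z F (le_sup_left : T ≤ T ⊔ T₀) V t).trans ht⟩

end H0Elem

section Closed

variable (Z : Set X) (F : X.Modules) [IsLocallyNoetherian X]

/-- nontrivial half of **S5843**. -/
theorem isIso_unit_of_isZClosed (h : ZClos.IsZClosed Z F) (T : ZClos.Cl Z) :
    IsIso ((ZClos.resPushUnit T.U).app F) := by
  have hρ : IsIso (ZClos.rhoApp Z F) := h
  have hpure := (isZPure_iff Z F).mp (isZPure_of_isZClosed Z F h)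
  apply isIso_of_bijective_affine
  intro V
  have hVc : IsCompact ((V.1 : X.Opens) : Set X) := V.2.isCompact
  constructor
  · have : Mono ((ZClos.resPushUnit T.U).app F) := hpure T
    exact injective_app_of_mono _ V.1
  · intro (t : Γ(F, UV T.U V.1))
    obtain ⟨s, hs⟩ : ∃ s : Γ(F, V.1), (ZClos.rhoApp Z F).app V.1 s = (ιH Z F T).app V.1 t :=
      ⟨(inv (ZClos.rhoApp Z F)).app V.1 ((ιH Z F T).app V.1 t), by
        rw [← ConcreteCategory.comp_apply, ← Scheme.Modules.Hom.comp_app, IsIso.inv_hom_id]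
        rfl⟩
    rw [rhoApp_app Z F T] at hs
    obtain ⟨T', hT, h2⟩ := H0_sec_inj' Z F V.1 hVc T _ _ hs
    refine ⟨s, ?_⟩
    have : Mono ((ZClos.resPushUnit T'.U).app F) := hpure T'
    apply injective_app_of_mono ((ZClos.resPushUnit T'.U).app F) (UV T.U V.1)
    rw [unit_app_apply, unit_app_apply, unit_app_apply]
    have e : UV T'.U (UV T.U V.1) ≤ UV T'.U V.1 := UV_mono le_rfl (UV_le_right _ _)
    have h3 := congrArg (res F e) h2
    rw [res_res, res_res, res_res] at h3
    rw [res_res]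
    exact h3

/-- **S5843**. -/
theorem isZClosed_iff :
    ZClos.IsZClosed Z F ↔ ∀ T : ZClos.Cl Z, IsIso (ZClos.toDiagram Z F T) :=
  ⟨fun h T => isIso_unit_of_isZClosed Z F h T, fun h => isZClosed_of_isIso_toDiagram Z F h⟩

end Closed

end Groth.Agent.Lib.ZClos5
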