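import Groth.Agent.Lib.EWHomH44
import Groth.Agent.Lib.ModLiftH44
import Groth.Agent.Lib.TensorAModel2H44
import Groth.Agent.Lib.ReesCohC
import Groth.Agent.Lib.ZClos5C
import Groth.Prelude.Def_KLin

/-!
# `F ⊗_A R ≅ π_* π^* F` for the base change `π : X_R ⟶ X` (helper44)

`X` over `Spec A`, `R` an `A`-algebra, `π : X_R = X ×_A R ⟶ X` (lead's `ReesCoh.bc`, `bcπ`), `F` quasi-coherent.
With `E = F ⊗_A A` (`≅ F`), the canonical morphism `κ : F ⊗_A R ⟶ π_* π^* E`, determined by
`(F ⊗_A (1 ↦ r)) ≫ κ = η ≫ π_*(r ·)`, is an isomorphism compatible with the actions of `R`.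
-/

set_option autoImplicit false
set_option linter.style.haveILetI false
universe u

open CategoryTheory CategoryTheory.Limits AlgebraicGeometry Opposite MonoidalCategory CohIII

namespace Groth.Agent.Lib.BaseChangeSheafH44

open Groth.Agent.Lib.TensorACechH44 Groth.Agent.Lib.EWH44 Groth.Agent.Lib.EWHomH44
  Groth.Agent.Lib.ReesCoh Formal

variable (A : Type u) [CommRing A] (R : Type u) [CommRing R] [Algebra A R]
  {X : Scheme.{u}} [X.Over (Spec (CommRingCat.of A))] (F : X.Modules)

/-- `E = F ⊗_A A` -/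
noncomputable abbrev E₀ : X.Modules := (tensorAFunctor A F).obj (ModuleCat.of A A)

/-- `π^* E` on `X_R` -/
noncomputable abbrev E₁ : (bc A R X).Modules := (Scheme.Modules.pullback (bcπ A R X)).obj (E₀ A F)

/-- `G = π_* π^* E` -/
noncomputable abbrev G₀ : X.Modules := (Scheme.Modules.pushforward (bcπ A R X)).obj (E₁ A R F)

/-- the unit `E ⟶ π_* π^* E` -/
noncomputable abbrev η₀ : E₀ A F ⟶ G₀ A R F :=
  (Scheme.Modules.pullbackPushforwardAdjunction (bcπ A R X)).unit.app (E₀ A F)

/-- the action of `r ∈ R` on `π_* π^* E` -/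
noncomputable def ρ₀ (r : R) : G₀ A R F ⟶ G₀ A R F :=
  (Scheme.Modules.pushforward (bcπ A R X)).map (smulMod R (E₁ A R F) r)

/-- the family `r ↦ η ≫ (r ·)` -/
noncomputable def gfam (r : R) : E₀ A F ⟶ G₀ A R F := η₀ A R F ≫ ρ₀ A R F r

theorem smulMod_add' {Y : Scheme.{u}} [Y.Over (Spec (CommRingCat.of R))] (M : Y.Modules) (r s : R) :
    smulMod R M (r + s) = smulMod R M r + smulMod R M s := by
  unfold smulMod
  rw [map_add, KLin.smulModΓ_add]

theorem smulMod_mul' {Y : Scheme.{u}} [Y.Over (Spec (CommRingCat.of R))] (M : Y.Modules) (r s : R) :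
    smulMod R M (r * s) = smulMod R M r ≫ smulMod R M s := by
  unfold smulMod
  rw [map_mul, KLin.smulModΓ_mul]

theorem ρ₀_add (r s : R) : ρ₀ A R F (r + s) = ρ₀ A R F r + ρ₀ A R F s := by
  unfold ρ₀
  rw [smulMod_add', Functor.map_add]

theorem ρ₀_mul (r s : R) : ρ₀ A R F (r * s) = ρ₀ A R F r ≫ ρ₀ A R F s := by
  unfold ρ₀
  rw [smulMod_mul', CategoryTheory.Functor.map_comp]

theorem gfam_add (r s : R) : gfam A R F (r + s) = gfam A R F r + gfam A R F s := by
  unfold gfam
  rw [ρ₀_add, Preadditive.comp_add]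

theorem gfam_smul (a : A) (r : R) :
    gfam A R F (a • r) = (tensorAFunctor A F).map (a • 𝟙 (ModuleCat.of A A)) ≫ gfam A R F r := by
  unfold gfam
  rw [Groth.Agent.Lib.TensorALinH44.tensorAFunctor_map_smul, Algebra.smul_def, ρ₀_mul]
  have h1 := (Scheme.Modules.pullbackPushforwardAdjunction (bcπ A R X)).unit.naturality
    (smulMod A (E₀ A F) a)
  have h2 : (Scheme.Modules.pullback (bcπ A R X)).map (smulMod A (E₀ A F) a) =
      smulMod R (E₁ A R F) (algebraMap A R a) := pull_smulMod (isOverAlg_bcπ A R X) (E₀ A F) a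
  simp only [Functor.id_obj, Functor.id_map, Functor.comp_obj, Functor.comp_map] at h1
  rw [h2] at h1
  rw [← Category.assoc, ← Category.assoc]
  congr 1
  exact h1.symm

/-- **the comparison morphism** `κ : F ⊗_A R ⟶ π_* π^* (F ⊗_A A)` -/
theorem exists_kappa :
    ∃ κ : (tensorAFunctor A F).obj (ModuleCat.of A R) ⟶ G₀ A R F,
      ∀ r : R, (tensorAFunctor A F).map (pt (ModuleCat.of A R) r) ≫ κ = gfam A R F r :=
  exists_desc (Ψ := tensorAFunctor A F) (ModuleCat.of A R) (G₀ A R F) (gfam A R F)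
    (gfam_add A R F) (gfam_smul A R F)

section Sections

open Groth.Agent.Lib.SecColimH44 Groth.Agent.Lib.ModLiftH44 TensorProduct

variable (V : X.Opens)

/-- `M ↦ Γ(V, F ⊗_A M)` as a functor to abelian groups -/
noncomputable abbrev secA : ModuleCat.{u} A ⥤ AddCommGrpCat.{u} :=
  tensorAFunctor A F ⋙ secFunctor V

instance : (secFunctor (X := X) V).Additive where
  map_add := rfl

instance : (secA A F V).Additive := by
  unfold secA
  infer_instance

theorem secA_map_apply {M M' : ModuleCat.{u} A} (φ : M ⟶ M') (y : (secA A F V).obj M) :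
    ((secA A F V).map φ).hom y = ((tensorAFunctor A F).map φ).app V y := rfl

variable {V}

/-- the functorial `A`-action on `Γ(V, F ⊗_A M)` is the one through `A → Γ(X, V)` -/
theorem secA_smul (M : ModuleCat.{u} A) (a : A) (y : (secA A F V).obj M) :
    ((secA A F V).map (a • 𝟙 M)).hom y = scal A X V a • (show Γ((tensorAFunctor A F).obj M, V) from y) := by
  rw [secA_map_apply, Groth.Agent.Lib.TensorALinH44.tensorAFunctor_map_smul]
  rfl

theorem gfam_app (r : R) (y : Γ(E₀ A F, V)) :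
    (gfam A R F r).app V y =
      scal R (bc A R X) (bcπ A R X ⁻¹ᵁ V) r •
        Groth.Agent.Lib.UnitBaseChange.unitSecFun (bcπ A R X) (E₀ A F) (le_refl (bcπ A R X ⁻¹ᵁ V)) y := by
  unfold gfam
  change (ρ₀ A R F r).app V ((η₀ A R F).app V y) = _
  change (smulMod R (E₁ A R F) r).app (bcπ A R X ⁻¹ᵁ V) ((η₀ A R F).app V y) = _
  rw [ReesCoh.smulMod_app]
  congr 1
  unfold Groth.Agent.Lib.UnitBaseChange.unitSecFun
  have : (homOfLE (le_refl (bcπ A R X ⁻¹ᵁ V))).op = 𝟙 (op (bcπ A R X ⁻¹ᵁ V)) := rfl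
  rw [this, CategoryTheory.Functor.map_id]
  rfl

variable [F.IsQuasicoherent]

/-- **`κ` is bijective on sections over affine opens.** -/
theorem bijective_kappa_app (κ : (tensorAFunctor A F).obj (ModuleCat.of A R) ⟶ G₀ A R F)
    (hκ : ∀ r : R, (tensorAFunctor A F).map (pt (ModuleCat.of A R) r) ≫ κ = gfam A R F r)
    (hV : IsAffineOpen V) : Function.Bijective (κ.app V) := by
  haveI : PreservesColimitsOfSize.{u, u} (secA A F V) :=
    preservesColimits_sec (tensorAFunctor A F) hV
  have hε := bijective_ewApp (secA A F V) (ModuleCat.of A R)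
  have hV' : bcπ A R X ⁻¹ᵁ V =
      bcπ A R X ⁻¹ᵁ V ⊓ (bc A R X ↘ Spec (CommRingCat.of R)) ⁻¹ᵁ ⊤ := bc_preimage_eq A R X V
  letI : Module A Γ(E₀ A F, V) := Module.compHom _ (scal A X V)
  letI : Module R Γ(E₁ A R F, bcπ A R X ⁻¹ᵁ V) := Module.compHom _ (scal R (bc A R X) (bcπ A R X ⁻¹ᵁ V))
  letI : Module A Γ(E₁ A R F, bcπ A R X ⁻¹ᵁ V) :=
    Module.compHom _ ((scal R (bc A R X) (bcπ A R X ⁻¹ᵁ V)).comp (algebraMap A R))
  haveI : IsScalarTower A R Γ(E₁ A R F, bcπ A R X ⁻¹ᵁ V) := .of_algebraMap_smul fun _ _ => rfl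
  have h := isBaseChange_bc (E₀ A F) hV hV'
  -- the two module structures on `Γ(E, V)` agree
  let ι : ((modLift (secA A F V)).obj (ModuleCat.of A A)) ≃ₗ[A] Γ(E₀ A F, V) :=
    { toFun := fun y => y
      invFun := fun y => y
      left_inv := fun _ => rfl
      right_inv := fun _ => rfl
      map_add' := fun _ _ => rfl
      map_smul' := fun a y => secA_smul A F (ModuleCat.of A A) a y }
  let B : TensorProduct A ((modLift (secA A F V)).obj (ModuleCat.of A A)) R ≃+
      Γ(E₁ A R F, bcπ A R X ⁻¹ᵁ V) :=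
    ((TensorProduct.congr ι (LinearEquiv.refl A R)).toAddEquiv.trans
      (TensorProduct.comm A Γ(E₀ A F, V) R).toAddEquiv).trans h.equiv.toAddEquiv
  let K : ((modLift (secA A F V)).obj (ModuleCat.of A R)) →+ Γ(E₁ A R F, bcπ A R X ⁻¹ᵁ V) :=
    { toFun := fun z => κ.app V z
      map_zero' := map_zero (κ.app V).hom
      map_add' := map_add (κ.app V).hom }
  have hB : ∀ t : TensorProduct A ((modLift (secA A F V)).obj (ModuleCat.of A A)) R,
      K ((ewApp (modLift (secA A F V)) (ModuleCat.of A R)).hom t) = B t := by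
    intro t
    induction t using TensorProduct.induction_on with
    | zero => rw [map_zero, map_zero, map_zero]
    | add t₁ t₂ h₁ h₂ => rw [map_add, map_add, map_add, h₁, h₂]
    | tmul y r =>
      rw [ewApp_tmul']
      change κ.app V (((tensorAFunctor A F).map (pt (ModuleCat.of A R) r)).app V y) = _
      have h1 : κ.app V (((tensorAFunctor A F).map (pt (ModuleCat.of A R) r)).app V y) =
          (gfam A R F r).app V y := by
        rw [← hκ r]
        rfl
      rw [h1, gfam_app]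
      change _ = h.equiv (r ⊗ₜ[A] (ι y))
      rw [IsBaseChange.equiv_tmul]
      rfl
  have hbij : Function.Bijective (K ∘ (ewApp (modLift (secA A F V)) (ModuleCat.of A R)).hom) := by
    have : (K ∘ (ewApp (modLift (secA A F V)) (ModuleCat.of A R)).hom) = B := funext hB
    rw [this]
    exact B.bijective
  exact (Function.Bijective.of_comp_iff K hε).1 hbij

end Sections

section Iso

variable [F.IsQuasicoherent]

/-- multiplication by `r` on `R`, as an `A`-linear endomorphism -/
noncomputable abbrev mulR (r : R) : ModuleCat.of A R ⟶ ModuleCat.of A R :=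
  ModuleCat.ofHom (LinearMap.mulLeft A r)

theorem pt_mulR (r s : R) :
    pt (ModuleCat.of A R) s ≫ mulR A R r = pt (ModuleCat.of A R) (r * s) := by
  rw [pt_comp]
  rfl

/-- **`F ⊗_A R ≅ π_* π^* (F ⊗_A A)`**, compatibly with the unit and with multiplication by `R`. -/
theorem exists_iso_push_pull :
    ∃ κ : (tensorAFunctor A F).obj (ModuleCat.of A R) ≅ G₀ A R F,
      (∀ r : R, (tensorAFunctor A F).map (pt (ModuleCat.of A R) r) ≫ κ.hom = gfam A R F r) ∧
      ∀ r : R, (tensorAFunctor A F).map (mulR A R r) ≫ κ.hom = κ.hom ≫ ρ₀ A R F r := by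
  obtain ⟨κ, hκ⟩ := exists_kappa A R F
  haveI : IsIso κ := Groth.Agent.Lib.ZClos5.isIso_of_bijective_affine κ
    (fun V => bijective_kappa_app A R F κ hκ V.2)
  refine ⟨asIso κ, hκ, fun r => ?_⟩
  apply hom_ext_pt (Ψ := tensorAFunctor A F)
  intro s
  change _ ≫ _ ≫ κ = _ ≫ κ ≫ _
  rw [← Category.assoc, ← CategoryTheory.Functor.map_comp, pt_mulR, hκ, ← Category.assoc, hκ]
  unfold gfam
  rw [mul_comm, ρ₀_mul, Category.assoc]

end Iso

end Groth.Agent.Lib.BaseChangeSheafH44
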