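import Groth.Agent.Lib.ReesCohC

/-!
# Sections of `g'^* F` for an arbitrary base-change square over `Spec R → Spec A` (helper44)

The lemmas of lead's `ReesCohC` (stated for the chosen pullback `ReesCoh.bc A R X`) for an arbitrary
cartesian square `X' = X ×_{Spec A} Spec R`.
-/

set_option autoImplicit false
set_option linter.style.haveILetI false
universe u
open CategoryTheory CategoryTheory.Limits AlgebraicGeometry Opposite TopologicalSpace TensorProduct

namespace Groth.Agent.Lib.PullbackSqSecH44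

open Scheme.Modules Groth.Agent.Lib.UnitBaseChange Groth.Agent.Lib.FlatBaseChangeQcqs Formal
  Groth.Agent.Lib.ReesCoh

variable {A : Type u} [CommRing A] {R : Type u} [CommRing R] [Algebra A R]
  {X X' : Scheme.{u}} [X.Over (Spec (CommRingCat.of A))] [X'.Over (Spec (CommRingCat.of R))]
  {g' : X' ⟶ X}

omit [Algebra A R] [X.Over (Spec (CommRingCat.of A))] in
/-- the shape of `g'⁻¹U` used by `FlatBaseChangeQcqs` -/
theorem preimage_eq (g' : X' ⟶ X) (U : X.Opens) : g' ⁻¹ᵁ U =
    g' ⁻¹ᵁ U ⊓ (X' ↘ Spec (CommRingCat.of R)) ⁻¹ᵁ ⊤ := by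
  ext x; simp

theorem isAffineHom_of_isPullback
    (hsq : IsPullback g' (X' ↘ Spec (CommRingCat.of R)) (X ↘ Spec (CommRingCat.of A))
      (Spec.map (CommRingCat.ofHom (algebraMap A R)))) : IsAffineHom g' :=
  MorphismProperty.of_isPullback (P := @IsAffineHom) hsq.flip inferInstance

theorem isOverAlg_of_isPullback
    (hsq : IsPullback g' (X' ↘ Spec (CommRingCat.of R)) (X ↘ Spec (CommRingCat.of A))
      (Spec.map (CommRingCat.ofHom (algebraMap A R)))) : IsOverAlg g' A R := hsq.w

theorem isPushout_scal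
    (hsq : IsPullback g' (X' ↘ Spec (CommRingCat.of R)) (X ↘ Spec (CommRingCat.of A))
      (Spec.map (CommRingCat.ofHom (algebraMap A R))))
    {U : X.Opens} (hU : IsAffineOpen U) {U' : X'.Opens}
    (hU' : U' = g' ⁻¹ᵁ U ⊓ (X' ↘ Spec (CommRingCat.of R)) ⁻¹ᵁ ⊤) :
    IsAffineOpen U' ∧
    IsPushout (CommRingCat.ofHom (scal A X U)) (CommRingCat.ofHom (algebraMap A R))
      (g'.appLE U U' (hU'.le.trans inf_le_left))
      (CommRingCat.ofHom (scal R X' U')) := by
  subst hU'
  obtain ⟨h1, h2⟩ := isAffineOpen_inf_and_isPushout hsq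
    (isAffineOpen_top (Spec (CommRingCat.of A))) (isAffineOpen_top (Spec (CommRingCat.of R))) hU
    (V := ⊤) (V' := ⊤) le_top le_top
  refine ⟨h1, ?_⟩
  refine h2.of_iso (Scheme.ΓSpecIso (CommRingCat.of A)) (Iso.refl _)
    (Scheme.ΓSpecIso (CommRingCat.of R)) (Iso.refl _) ?_ ?_ ?_ ?_
  · rw [scal_eq, Iso.hom_inv_id_assoc]; exact Category.comp_id _
  · have := Scheme.ΓSpecIso_naturality (CommRingCat.ofHom (algebraMap A R))
    rw [← this]
    congr 1
  · simp
  · rw [scal_eq, Iso.hom_inv_id_assoc]; exact Category.comp_id _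

theorem appLE_scal (hg : IsOverAlg g' A R) {U : X.Opens} {U' : X'.Opens}
    (hUU' : U' ≤ g' ⁻¹ᵁ U) (a : A) :
    (g'.appLE U U' hUU').hom (scal A X U a) = scal R X' U' (algebraMap A R a) := by
  have h1 : X.presheaf.map (homOfLE (le_top (a := U))).op ≫ g'.appLE U U' hUU' =
      g'.appTop ≫ X'.presheaf.map (homOfLE (le_top (a := U'))).op :=
    Scheme.Hom.map_appLE _ _ _
  have h2 := congr($(h1).hom (Coh.toGlobal (X ↘ Spec (CommRingCat.of A)) a))
  have h3 := gtop_toGlobal_alg hg a
  unfold Groth.Agent.Lib.PushCechLead.gtop at h3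
  change (g'.appLE U U' hUU').hom
    ((X.presheaf.map (homOfLE (le_top (a := U))).op).hom
      (Coh.toGlobal (X ↘ Spec (CommRingCat.of A)) a)) = _
  refine h2.trans ?_
  exact congrArg (fun z => (X'.presheaf.map (homOfLE (le_top (a := U'))).op).hom z) h3

/-- the unit on sections `Γ(F, U) → Γ(g'^*F, U')`, `U' ≤ g'⁻¹U`, as an `A`-linear map -/
noncomputable def unitSecA (hg : IsOverAlg g' A R) (F : X.Modules) {U : X.Opens} {U' : X'.Opens}
    (hUU' : U' ≤ g' ⁻¹ᵁ U) :
    letI : Module A Γ(F, U) := Module.compHom _ (scal A X U)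
    letI : Module A Γ((Scheme.Modules.pullback g').obj F, U') :=
      Module.compHom _ ((scal R X' U').comp (algebraMap A R))
    Γ(F, U) →ₗ[A] Γ((Scheme.Modules.pullback g').obj F, U') :=
  letI : Module A Γ(F, U) := Module.compHom _ (scal A X U)
  letI : Module A Γ((Scheme.Modules.pullback g').obj F, U') :=
    Module.compHom _ ((scal R X' U').comp (algebraMap A R))
  { toFun := unitSecFun g' F hUU'
    map_add' := fun x y => map_add (unitSec g' F hUU') x y
    map_smul' := fun a m => by
      change unitSecFun g' F hUU' (scal A X U a • m) =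
        scal R X' U' (algebraMap A R a) • unitSecFun g' F hUU' m
      rw [unitSecFun_smul, appLE_scal hg] }

set_option maxHeartbeats 1600000 in
set_option backward.isDefEq.respectTransparency false in
/-- **Sections of the base change**: for `F` quasi-coherent and `U ⊆ X` affine, the unit
`Γ(F, U) → Γ(g'^*F, g'⁻¹U)` is a base change along `A → R`. -/
theorem isBaseChange_sq
    (hsq : IsPullback g' (X' ↘ Spec (CommRingCat.of R)) (X ↘ Spec (CommRingCat.of A))
      (Spec.map (CommRingCat.ofHom (algebraMap A R))))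
    (F : X.Modules) [F.IsQuasicoherent] {U : X.Opens} (hU : IsAffineOpen U)
    {U' : X'.Opens}
    (hU' : U' = g' ⁻¹ᵁ U ⊓ (X' ↘ Spec (CommRingCat.of R)) ⁻¹ᵁ ⊤) :
    letI : Module A Γ(F, U) := Module.compHom _ (scal A X U)
    letI : Module R Γ((Scheme.Modules.pullback g').obj F, U') :=
      Module.compHom _ (scal R X' U')
    letI : Module A Γ((Scheme.Modules.pullback g').obj F, U') :=
      Module.compHom _ ((scal R X' U').comp (algebraMap A R))
    haveI : IsScalarTower A R Γ((Scheme.Modules.pullback g').obj F, U') :=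
      .of_algebraMap_smul fun _ _ => rfl
    IsBaseChange R (unitSecA (isOverAlg_of_isPullback hsq) F (hU'.le.trans inf_le_left)) := by
  obtain ⟨hU'a, hPO⟩ := isPushout_scal hsq hU hU'
  have hUU' : U' ≤ g' ⁻¹ᵁ U := hU'.le.trans inf_le_left
  letI algAB : Algebra A Γ(X, U) := (scal A X U).toAlgebra
  letI algBB' : Algebra Γ(X, U) Γ(X', U') := (g'.appLE U U' hUU').hom.toAlgebra
  letI algA'B' : Algebra R Γ(X', U') := (scal R X' U').toAlgebra
  letI algAB' : Algebra A Γ(X', U') :=
    ((scal R X' U').comp (algebraMap A R)).toAlgebra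
  haveI : IsScalarTower A R Γ(X', U') := .of_algebraMap_eq fun _ => rfl
  haveI : IsScalarTower A Γ(X, U) Γ(X', U') :=
    .of_algebraMap_eq fun x => (appLE_scal (isOverAlg_of_isPullback hsq) hUU' x).symm
  haveI : Algebra.IsPushout A R Γ(X, U) Γ(X', U') :=
    CommRingCat.isPushout_iff_isPushout.mp hPO.flip
  letI modAM : Module A Γ(F, U) := Module.compHom _ (scal A X U)
  haveI : IsScalarTower A Γ(X, U) Γ(F, U) := .of_algebraMap_smul fun _ _ => rfl
  letI modBN : Module Γ(X, U) Γ((Scheme.Modules.pullback g').obj F, U') :=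
    Module.compHom _ (g'.appLE U U' hUU').hom
  haveI : IsScalarTower Γ(X, U) Γ(X', U')
      Γ((Scheme.Modules.pullback g').obj F, U') := .of_algebraMap_smul fun _ _ => rfl
  letI modA'N : Module R Γ((Scheme.Modules.pullback g').obj F, U') :=
    Module.compHom _ (scal R X' U')
  haveI : IsScalarTower R Γ(X', U')
      Γ((Scheme.Modules.pullback g').obj F, U') := .of_algebraMap_smul fun _ _ => rfl
  letI modAN : Module A Γ((Scheme.Modules.pullback g').obj F, U') :=
    Module.compHom _ ((scal R X' U').comp (algebraMap A R))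
  haveI : IsScalarTower A R Γ((Scheme.Modules.pullback g').obj F, U') :=
    .of_algebraMap_smul fun _ _ => rfl
  have h₂ := isBaseChange_unitSec g' F hU'a hU hUU'
  exact Groth.Agent.Lib.FlatBaseChangeAlg.isBaseChange_of_isPushout (A := A)
    (A' := R) (B := Γ(X, U)) (B' := Γ(X', U')) (M := Γ(F, U))
    (N := Γ((Scheme.Modules.pullback g').obj F, U'))
    (unitSec g' F hUU') h₂ (unitSecA (isOverAlg_of_isPullback hsq) F hUU') (fun m => rfl)

end Groth.Agent.Lib.PullbackSqSecH44
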