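import Mathlib

/-!
# Basic elements (Eisenbud–Evans), Serre's splitting theorem and Bass cancellation (helper6)

Namespace `Groth.Agent.Lib.BasicElt6`.

Main results:
* `core` : the Eisenbud–Evans basic element lemma in vector form, for an abstract
  "spectrum with dimension function" `DimData R`.
* `exists_span_eq_top` : Noetherian ring version.
* `exists_unimodular_add_smul` : Bass-type lemma for finite projective modules of rank `> dim R`.
* `exists_unimodular`, `exists_equiv_prod_fin`, `exists_isCompl_free` : Serre's splitting theorem.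
* `cancel_one`, `cancel` : Bass cancellation.
* `exists_pow_equiv` : stably isomorphic ⇒ isomorphic powers.
-/

set_option autoImplicit false
open Module TensorProduct

namespace Groth.Agent.Lib.BasicElt6

section Minors
variable {K : Type*} [Field K] {J : Type*}

/-- A linearly independent finite family of vectors in `K^J` has a nonvanishing maximal minor. -/
theorem exists_det_ne_zero_of_linearIndependent {n : ℕ} (x : Fin n → J → K)
    (hx : LinearIndependent K x) :
    ∃ c : Fin n → J, (Matrix.of fun i l => x i (c l)).det ≠ 0 := by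
  classical
  let y : J → (Fin n → K) := fun j i => x i j
  have hspan : Submodule.span K (Set.range y) = ⊤ := by
    by_contra hne
    obtain ⟨f, hf0, hf⟩ := Submodule.exists_le_ker_of_lt_top _ (lt_top_iff_ne_top.mpr hne)
    apply hf0
    have hsum : ∑ i, f (Pi.single i 1) • x i = 0 := by
      ext j
      have hj : f (y j) = 0 := hf (Submodule.subset_span ⟨j, rfl⟩)
      rw [LinearMap.pi_apply_eq_sum_univ] at hj
      simp only [Finset.sum_apply, Pi.smul_apply, smul_eq_mul, Pi.zero_apply]
      rw [← hj]
      refine Finset.sum_congr rfl fun i _ => ?_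
      simp only [y]
      have : (fun j' : Fin n => if i = j' then (1 : K) else 0) = Pi.single i 1 := by
        ext j'; simp [Pi.single_apply, eq_comm]
      rw [this, mul_comm, smul_eq_mul, mul_comm]
    have hzero := Fintype.linearIndependent_iff.mp hx _ hsum
    apply LinearMap.pi_ext'
    intro i
    ext
    simp [hzero i]
  obtain ⟨b, hb, hbspan, hbli⟩ := exists_linearIndependent K (Set.range y)
  rw [hspan] at hbspan
  let B : Basis b K (Fin n → K) := Basis.mk hbli (by simp [hbspan])
  have : Fintype b := FiniteDimensional.fintypeBasisIndex B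
  have hcard : Fintype.card b = n := by
    have := Module.finrank_eq_card_basis B
    simpa using this.symm
  let e : Fin n ≃ b := (Fintype.equivFinOfCardEq hcard).symm
  choose g hg using fun l : Fin n => hb (e l).2
  refine ⟨g, ?_⟩
  have hli : LinearIndependent K (fun l => y (g l)) := by
    have h1 : LinearIndependent K (fun l : Fin n => ((e l : b) : Fin n → K)) :=
      hbli.comp e e.injective
    convert h1 using 2 with l
    exact hg l
  have hunit : IsUnit (Matrix.of fun l i => y (g l) i) :=
    Matrix.linearIndependent_rows_iff_isUnit.mp hli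
  have hdet := (Matrix.isUnit_iff_isUnit_det _).mp hunit
  have htr : (Matrix.of fun i l => x i (g l)) = (Matrix.of fun l i => y (g l) i).transpose := by
    ext i l; rfl
  rw [htr, Matrix.det_transpose]
  exact hdet.ne_zero

/-- Rank at least `n` iff some `n × n` minor does not vanish (set version). -/
theorem le_finrank_span_iff_exists_det_ne_zero (T : Set (J → K)) (hT : T.Finite) (n : ℕ) :
    n ≤ finrank K (Submodule.span K T) ↔
      ∃ (s : Fin n → J → K) (c : Fin n → J), (∀ i, s i ∈ T) ∧
        (Matrix.of fun i l => s i (c l)).det ≠ 0 := by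
  classical
  have hfin : Module.Finite K (Submodule.span K T) := FiniteDimensional.span_of_finite K hT
  constructor
  · intro hn
    obtain ⟨b, hb, hbspan, hbli⟩ := exists_linearIndependent K T
    have hbfin : b.Finite := hT.subset hb
    have : Fintype b := hbfin.fintype
    have hcard : Fintype.card b = finrank K (Submodule.span K T) := by
      rw [← hbspan]
      have := finrank_span_eq_card hbli
      rw [Subtype.range_coe] at this
      exact this.symm
    have hle : n ≤ Fintype.card b := hcard ▸ hn
    let ι : Fin n ↪ b := (Fin.castLEEmb hle).trans (Fintype.equivFin b).symm.toEmbedding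
    let s : Fin n → J → K := fun i => (ι i : J → K)
    have hs : LinearIndependent K s := hbli.comp ι ι.injective
    obtain ⟨c, hc⟩ := exists_det_ne_zero_of_linearIndependent s hs
    exact ⟨s, c, fun i => hb (ι i).2, hc⟩
  · rintro ⟨s, c, hsT, hdet⟩
    have hunit : IsUnit (Matrix.of fun i l => s i (c l)) :=
      (Matrix.isUnit_iff_isUnit_det _).mpr (IsUnit.mk0 _ hdet)
    have hrows : LinearIndependent K (fun i l => s i (c l)) :=
      Matrix.linearIndependent_rows_iff_isUnit.mpr hunit
    have hs : LinearIndependent K s := by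
      let π : (J → K) →ₗ[K] (Fin n → K) := LinearMap.funLeft K K c
      refine LinearIndependent.of_comp π ?_
      have : ⇑π ∘ s = fun i l => s i (c l) := by
        ext i l; simp [π, LinearMap.funLeft_apply]
      rw [this]; exact hrows

    have h1 : finrank K (Submodule.span K (Set.range s)) = n := by
      simpa using finrank_span_eq_card hs
    rw [← h1]
    exact Submodule.finrank_mono (Submodule.span_mono (Set.range_subset_iff.mpr hsT))

end Minors

section Red
variable {R : Type*} [CommRing R] (K : Type*) [Field K] [Algebra R K] {J : Type*}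

/-- coordinatewise reduction `R^J → K^J`. -/
noncomputable def red : (J → R) →ₗ[R] (J → K) := (Algebra.linearMap R K).compLeft J

@[simp] lemma red_apply (v : J → R) (j : J) : red K v j = algebraMap R K (v j) := rfl

lemma red_smul (r : R) (v : J → R) : red K (r • v) = algebraMap R K r • red K v := by
  ext j; simp

/-- The `K`-span of the reductions of a set of vectors. -/
noncomputable def spanK (S : Set (J → R)) : Submodule K (J → K) := Submodule.span K (red K '' S)

/-- The rank of a set of vectors after reduction to `K`. -/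
noncomputable def rk (S : Set (J → R)) : ℕ := finrank K (spanK K S)

lemma spanK_mono {S T : Set (J → R)} (h : S ⊆ T) : spanK K S ≤ spanK K T :=
  Submodule.span_mono (Set.image_mono h)

lemma red_mem_spanK {S : Set (J → R)} {v : J → R} (h : v ∈ S) : red K v ∈ spanK K S :=
  Submodule.subset_span ⟨v, h, rfl⟩

instance finite_spanK {S : Set (J → R)} [hS : Finite S] : Module.Finite K (spanK K S) :=
  FiniteDimensional.span_of_finite K ((Set.toFinite S).image _)

lemma rk_mono {S T : Set (J → R)} (hT : T.Finite) (h : S ⊆ T) : rk K S ≤ rk K T := by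
  have : Finite T := hT
  exact Submodule.finrank_mono (spanK_mono K h)

/-- The ideal generated by the `n × n` minors of a set of vectors. -/
def minorsIdeal (S : Set (J → R)) (n : ℕ) : Ideal R :=
  Ideal.span {m | ∃ (s : Fin n → J → R) (c : Fin n → J), (∀ i, s i ∈ S) ∧
    m = (Matrix.of fun i l => s i (c l)).det}

lemma rk_lt_iff (S : Set (J → R)) (hS : S.Finite) (n : ℕ) :
    rk K S < n ↔ minorsIdeal S n ≤ RingHom.ker (algebraMap R K) := by
  classical
  rw [← not_le, rk, spanK, le_finrank_span_iff_exists_det_ne_zero _ (hS.image _), minorsIdeal,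
    Ideal.span_le]
  constructor
  · intro h m hm
    obtain ⟨s, c, hs, rfl⟩ := hm
    by_contra hne
    apply h
    refine ⟨fun i => red K (s i), c, fun i => ⟨s i, hs i, rfl⟩, ?_⟩
    have : (Matrix.of fun i l => red K (s i) (c l)) =
        (algebraMap R K).mapMatrix (Matrix.of fun i l => s i (c l)) := by
      ext i l; simp
    rw [this, ← RingHom.map_det]
    exact hne
  · rintro h ⟨s', c, hs', hdet⟩
    choose s hs hss using hs'
    apply hdet
    have : (Matrix.of fun i l => s' i (c l)) =
        (algebraMap R K).mapMatrix (Matrix.of fun i l => s i (c l)) := by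
      ext i l; simp [← hss]
    rw [this, ← RingHom.map_det]
    exact h ⟨s, c, hs, rfl⟩

end Red

section Perturb
variable {R : Type*} [CommRing R] (K : Type*) [Field K] [Algebra R K] {J : Type*}

/-- the perturbed family -/
def pert (a : R) (x : J → R) {t : ℕ} (u : Fin t → J → R) (z : J → R) (b₀ : R) (b : Fin t → R) :
    Set (J → R) :=
  insert (x + (a * b₀) • z) (Set.range fun i => u i + b i • z)

lemma finite_pert (a : R) (x : J → R) {t : ℕ} (u : Fin t → J → R) (z : J → R) (b₀ : R)
    (b : Fin t → R) : (pert a x u z b₀ b).Finite :=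
  (Set.finite_range _).insert _

lemma spanK_full_eq (a : R) (x : J → R) {t : ℕ} (u : Fin t → J → R) (z : J → R) (b₀ : R)
    (b : Fin t → R) :
    spanK K (insert z (insert x (Set.range u))) =
      spanK K (pert a x u z b₀ b) ⊔ Submodule.span K {red K z} := by
  apply le_antisymm
  · rw [spanK, Submodule.span_le]
    rintro _ ⟨v, hv, rfl⟩
    have hz : red K z ∈ spanK K (pert a x u z b₀ b) ⊔ Submodule.span K {red K z} :=
      Submodule.mem_sup_right (Submodule.mem_span_singleton_self _)
    rcases hv with rfl | rfl | ⟨i, rfl⟩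
    · exact hz
    · have h1 : red K (v + (a * b₀) • z) ∈
          spanK K (pert a v u z b₀ b) ⊔ Submodule.span K {red K z} :=
        Submodule.mem_sup_left (red_mem_spanK K (Set.mem_insert _ _))
      have : red K v = red K (v + (a * b₀) • z) - algebraMap R K (a * b₀) • red K z := by
        rw [map_add, red_smul]; abel
      rw [SetLike.mem_coe, this]
      exact Submodule.sub_mem _ h1 (Submodule.smul_mem _ _ hz)
    · have h1 : red K (u i + b i • z) ∈
          spanK K (pert a x u z b₀ b) ⊔ Submodule.span K {red K z} :=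
        Submodule.mem_sup_left (red_mem_spanK K (Set.mem_insert_of_mem _ ⟨i, rfl⟩))
      have : red K (u i) = red K (u i + b i • z) - algebraMap R K (b i) • red K z := by
        rw [map_add, red_smul]; abel
      rw [SetLike.mem_coe, this]
      exact Submodule.sub_mem _ h1 (Submodule.smul_mem _ _ hz)
  · have hz : red K z ∈ spanK K (insert z (insert x (Set.range u))) :=
      red_mem_spanK K (Set.mem_insert _ _)
    refine sup_le ?_ ?_
    · rw [spanK, Submodule.span_le]
      rintro _ ⟨v, hv, rfl⟩
      rcases hv with rfl | ⟨i, rfl⟩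
      · rw [SetLike.mem_coe, map_add, red_smul]
        exact Submodule.add_mem _ (red_mem_spanK K (by simp)) (Submodule.smul_mem _ _ hz)
      · rw [SetLike.mem_coe, map_add, red_smul]
        exact Submodule.add_mem _ (red_mem_spanK K (by simp)) (Submodule.smul_mem _ _ hz)
    · rw [Submodule.span_le, Set.singleton_subset_iff]
      exact hz

omit [CommRing R] in
lemma finite_full (x : J → R) {t : ℕ} (u : Fin t → J → R) (z : J → R) :
    (insert z (insert x (Set.range u))).Finite :=
  ((Set.finite_range _).insert _).insert _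

/-- the rank drops by at most one -/
lemma rk_full_le (a : R) (x : J → R) {t : ℕ} (u : Fin t → J → R) (z : J → R) (b₀ : R)
    (b : Fin t → R) :
    rk K (insert z (insert x (Set.range u))) ≤ rk K (pert a x u z b₀ b) + 1 := by
  have : Finite (pert a x u z b₀ b) := finite_pert a x u z b₀ b
  rw [rk, spanK_full_eq K a x u z b₀ b]
  refine (Submodule.finrank_add_le_finrank_add_finrank _ _).trans ?_
  refine Nat.add_le_add_left ?_ _
  have := finrank_span_le_card (R := K) ({red K z} : Set (J → K))
  simpa using this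

/-- no drop if `z̄` is in the span of the perturbed family -/
lemma rk_full_eq (a : R) (x : J → R) {t : ℕ} (u : Fin t → J → R) (z : J → R) (b₀ : R)
    (b : Fin t → R) (hz : red K z ∈ spanK K (pert a x u z b₀ b)) :
    rk K (insert z (insert x (Set.range u))) = rk K (pert a x u z b₀ b) := by
  have : spanK K (pert a x u z b₀ b) ⊔ Submodule.span K {red K z} =
      spanK K (pert a x u z b₀ b) := by
    rw [sup_eq_left, Submodule.span_le, Set.singleton_subset_iff]
    exact hz
  rw [rk, spanK_full_eq K a x u z b₀ b, rk, this]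

/-- strict drop otherwise -/
lemma rk_pert_lt (a : R) (x : J → R) {t : ℕ} (u : Fin t → J → R) (z : J → R) (b₀ : R)
    (b : Fin t → R) (hz : red K z ∉ spanK K (pert a x u z b₀ b)) :
    rk K (pert a x u z b₀ b) < rk K (insert z (insert x (Set.range u))) := by
  have : Finite (insert z (insert x (Set.range u)) : Set (J → R)) := finite_full x u z
  rw [rk, rk]
  apply Submodule.finrank_lt_finrank_of_lt
  rw [spanK_full_eq K a x u z b₀ b]
  refine lt_of_le_of_ne le_sup_left fun h => hz ?_
  rw [h]
  exact Submodule.mem_sup_right (Submodule.mem_span_singleton_self _)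

end Perturb

section Fix
variable {R : Type*} [CommRing R] (K : Type*) [Field K] [Algebra R K] {J : Type*}

/-- general linear combination of a perturbed family -/
lemma comb_mem (a : R) (x : J → R) {t : ℕ} (u : Fin t → J → R) (z : J → R) (b₀ : R)
    (b : Fin t → R) (g₀ : K) (g : Fin t → K) :
    g₀ • red K (x + (a * b₀) • z) + ∑ j, g j • red K (u j + b j • z) ∈
      spanK K (pert a x u z b₀ b) := by
  refine Submodule.add_mem _ (Submodule.smul_mem _ _ (red_mem_spanK K (Set.mem_insert _ _))) ?_
  refine Submodule.sum_mem _ fun j _ => Submodule.smul_mem _ _ ?_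
  exact red_mem_spanK K (Set.mem_insert_of_mem _ ⟨j, rfl⟩)

lemma comb_eq (a : R) (x : J → R) {t : ℕ} (u : Fin t → J → R) (z : J → R) (b₀ : R)
    (b : Fin t → R) (g₀ : K) (g : Fin t → K) :
    g₀ • red K (x + (a * b₀) • z) + ∑ j, g j • red K (u j + b j • z) =
      (g₀ • red K x + ∑ j, g j • red K (u j)) +
        (g₀ * algebraMap R K (a * b₀) + ∑ j, g j * algebraMap R K (b j)) • red K z := by
  simp only [map_add, red_smul, smul_add, Finset.sum_add_distrib, add_smul, Finset.sum_smul,
    mul_smul, map_mul]
  abel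

lemma exists_fix (a r : R) (hr : algebraMap R K r ≠ 0) (x : J → R) {t : ℕ}
    (u : Fin t → J → R) (z : J → R)
    (hx : algebraMap R K a = 0 → red K x ≠ 0)
    (hrk : rk K (insert x (Set.range u)) ≤ t) :
    ∃ (c₀ : R) (c : Fin t → R),
      red K z ∈ spanK K (pert a x u z (r * c₀) (fun i => r * c i)) := by
  classical
  let w : Fin (t + 1) → (J → K) := Fin.cons (red K x) (fun i => red K (u i))
  have hrange : Set.range w = red K '' (insert x (Set.range u)) := by
    rw [Fin.range_cons, Set.image_insert_eq, ← Set.range_comp]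
    rfl
  have hnli : ¬ LinearIndependent K w := by
    intro hli
    have h1 := finrank_span_eq_card hli
    rw [hrange, Fintype.card_fin] at h1
    have : rk K (insert x (Set.range u)) = t + 1 := h1
    omega
  obtain ⟨g, hg, i₀, hi₀⟩ := Fintype.not_linearIndependent_iff.mp hnli
  rw [Fin.sum_univ_succ] at hg
  simp only [w, Fin.cons_zero, Fin.cons_succ] at hg
  -- key: for any c₀, c, `μ • red z` lies in the span
  have key : ∀ (c₀ : R) (c : Fin t → R),
      (g 0 * algebraMap R K (a * (r * c₀)) + ∑ j, g j.succ * algebraMap R K (r * c j)) •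
        red K z ∈ spanK K (pert a x u z (r * c₀) (fun i => r * c i)) := by
    intro c₀ c
    have h1 := comb_mem K a x u z (r * c₀) (fun i => r * c i) (g 0) (fun j => g j.succ)
    rw [comb_eq, hg, zero_add] at h1
    exact h1
  have fin : ∀ (c₀ : R) (c : Fin t → R),
      (g 0 * algebraMap R K (a * (r * c₀)) + ∑ j, g j.succ * algebraMap R K (r * c j)) ≠ 0 →
      red K z ∈ spanK K (pert a x u z (r * c₀) (fun i => r * c i)) := by
    intro c₀ c hμ
    have := Submodule.smul_mem _ (g 0 * algebraMap R K (a * (r * c₀)) +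
      ∑ j, g j.succ * algebraMap R K (r * c j))⁻¹ (key c₀ c)
    rwa [smul_smul, inv_mul_cancel₀ hμ, one_smul] at this
  by_cases hA : ∃ i : Fin t, g i.succ ≠ 0
  · obtain ⟨i, hi⟩ := hA
    refine ⟨0, Pi.single i 1, fin _ _ ?_⟩
    have : ∑ j, g j.succ * algebraMap R K (r * (Pi.single i 1 : Fin t → R) j) =
        g i.succ * algebraMap R K r := by
      rw [Finset.sum_eq_single i]
      · simp
      · intro j _ hj; simp [hj]
      · simp
    rw [this]
    simp [hi, hr]
  · push Not at hA
    have hg0 : g 0 ≠ 0 := by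
      induction i₀ using Fin.cases with
      | zero => exact hi₀
      | succ i => exact absurd (hA i) hi₀
    have hx0 : red K x = 0 := by
      simp only [hA, zero_smul, Finset.sum_const_zero, add_zero] at hg
      exact (smul_eq_zero.mp hg).resolve_left hg0
    have ha : algebraMap R K a ≠ 0 := fun h => hx h hx0
    refine ⟨1, 0, fin _ _ ?_⟩
    simp [hA, hg0, ha, hr]

end Fix

section FixE
variable {R : Type*} [CommRing R] {J : Type*}

/-- residue field at a point of the prime spectrum -/
abbrev κ (p : PrimeSpectrum R) : Type _ := p.asIdeal.ResidueField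

lemma algebraMap_κ_eq_zero {p : PrimeSpectrum R} {r : R} :
    algebraMap R (κ p) r = 0 ↔ r ∈ p.asIdeal :=
  Ideal.algebraMap_residueField_eq_zero

lemma red_image_pert_congr (K : Type*) [Field K] [Algebra R K] (a : R) (x : J → R) {t : ℕ}
    (u : Fin t → J → R) (z : J → R) (b₀ b₀' : R) (b b' : Fin t → R)
    (h₀ : algebraMap R K b₀ = algebraMap R K b₀')
    (h : ∀ i, algebraMap R K (b i) = algebraMap R K (b' i)) :
    red K '' pert a x u z b₀ b = red K '' pert a x u z b₀' b' := by
  unfold pert
  rw [Set.image_insert_eq, Set.image_insert_eq, ← Set.range_comp, ← Set.range_comp]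
  congr 1
  · rw [map_add, map_add, red_smul, red_smul, map_mul, map_mul, h₀]
  · congr 1
    funext i
    simp only [Function.comp_apply, map_add, red_smul, h i]

lemma pert_pert (a : R) (x : J → R) {t : ℕ} (u : Fin t → J → R) (z : J → R) (b₀ c₀ : R)
    (b c : Fin t → R) :
    pert a (x + (a * b₀) • z) (fun i => u i + b i • z) z c₀ c =
      pert a x u z (b₀ + c₀) (fun i => b i + c i) := by
  unfold pert
  congr 1
  · rw [add_assoc, ← add_smul, mul_add]
  · congr 1
    funext i
    rw [add_assoc, ← add_smul]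

theorem exists_coeffs (a : R) (x : J → R) {t : ℕ} (u : Fin t → J → R) (z : J → R)
    (E : Finset (PrimeSpectrum R))
    (hrk : ∀ p ∈ E, rk (κ p) (insert z (insert x (Set.range u))) ≤ t + 1)
    (hx : ∀ p ∈ E, a ∈ p.asIdeal → red (κ p) x ≠ 0) :
    ∃ (b₀ : R) (b : Fin t → R), ∀ p ∈ E, red (κ p) z ∈ spanK (κ p) (pert a x u z b₀ b) := by
  classical
  induction E using Finset.strongInduction with
  | H E ih =>
    rcases E.eq_empty_or_nonempty with rfl | hne
    · exact ⟨0, 0, by simp⟩
    obtain ⟨p, hpE, hpmin⟩ := E.exists_minimal hne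
    obtain ⟨b₀, b, hb⟩ := ih (E.erase p) (Finset.erase_ssubset hpE)
      (fun q hq => hrk q (Finset.mem_of_mem_erase hq))
      (fun q hq => hx q (Finset.mem_of_mem_erase hq))
    by_cases hz : red (κ p) z ∈ spanK (κ p) (pert a x u z b₀ b)
    · refine ⟨b₀, b, fun q hq => ?_⟩
      by_cases hqp : q = p
      · subst hqp; exact hz
      · exact hb q (Finset.mem_erase.mpr ⟨hqp, hq⟩)
    -- find r in all the other primes but not in p
    have hnot : ¬ (E.erase p).inf (fun q => q.asIdeal) ≤ p.asIdeal := by
      rw [Ideal.IsPrime.inf_le' p.isPrime]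
      rintro ⟨q, hq, hqp⟩
      have hqE := Finset.mem_of_mem_erase hq
      have : p ≤ q := hpmin hqE hqp
      exact (Finset.ne_of_mem_erase hq) (le_antisymm hqp this)
    obtain ⟨r, hrI, hrp⟩ := SetLike.not_le_iff_exists.mp hnot
    have hrq : ∀ q ∈ E.erase p, r ∈ q.asIdeal := fun q hq =>
      (Finset.inf_le (f := fun q : PrimeSpectrum R => q.asIdeal) hq) hrI
    have hrk' : rk (κ p) (insert (x + (a * b₀) • z) (Set.range fun i => u i + b i • z)) ≤ t := by
      have := rk_pert_lt (κ p) a x u z b₀ b hz
      have h2 := hrk p hpE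
      unfold pert at this
      omega
    have hx' : algebraMap R (κ p) a = 0 → red (κ p) (x + (a * b₀) • z) ≠ 0 := by
      intro ha
      rw [map_add, red_smul, map_mul, ha, zero_mul, zero_smul, add_zero]
      exact hx p hpE (algebraMap_κ_eq_zero.mp ha)
    obtain ⟨c₀, c, hc⟩ := exists_fix (κ p) a r (fun h => hrp (algebraMap_κ_eq_zero.mp h))
      (x + (a * b₀) • z) (fun i => u i + b i • z) z hx' hrk'
    rw [pert_pert] at hc
    refine ⟨b₀ + r * c₀, fun i => b i + r * c i, fun q hq => ?_⟩
    by_cases hqp : q = p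
    · subst hqp; exact hc
    · have hq' : q ∈ E.erase p := Finset.mem_erase.mpr ⟨hqp, hq⟩
      have hr0 : algebraMap R (κ q) r = 0 := algebraMap_κ_eq_zero.mpr (hrq q hq')
      have := hb q hq'
      rw [spanK] at this ⊢
      rw [red_image_pert_congr (κ q) a x u z (b₀ + r * c₀) b₀ (fun i => b i + r * c i) b
        (by rw [map_add, map_mul, hr0, zero_mul, add_zero])
        (fun i => by rw [map_add, map_mul, hr0, zero_mul, add_zero])]
      exact this

end FixE

section Core
variable {R : Type*} [CommRing R] {J : Type*}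

/-- The data of a "spectrum with dimension function". -/
structure DimData (R : Type*) [CommRing R] where
  X : Set (PrimeSpectrum R)
  δ : PrimeSpectrum R → ℕ
  hδ : ∀ p ∈ X, ∀ q ∈ X, p < q → δ q < δ p
  hX : ∀ I : Ideal R, ∃ F : Finset (PrimeSpectrum R),
    (∀ q ∈ F, q ∈ X ∧ I ≤ q.asIdeal) ∧ ∀ p ∈ X, I ≤ p.asIdeal → ∃ q ∈ F, q ≤ p

lemma rk_lt_iff_κ (p : PrimeSpectrum R) (S : Set (J → R)) (hS : S.Finite) (n : ℕ) :
    rk (κ p) S < n ↔ minorsIdeal S n ≤ p.asIdeal := by
  rw [rk_lt_iff (κ p) S hS n, Ideal.ker_algebraMap_residueField]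

theorem step (D : DimData R) (a : R) (x : J → R) {t : ℕ} (u : Fin t → J → R) (z : J → R)
    (h1 : ∀ p ∈ D.X, min (t + 2) (D.δ p + 1) ≤ rk (κ p) (insert z (insert x (Set.range u))))
    (h2 : ∀ p ∈ D.X, a ∈ p.asIdeal → red (κ p) x ≠ 0) :
    ∃ (b₀ : R) (b : Fin t → R), ∀ p ∈ D.X,
      min (t + 1) (D.δ p + 1) ≤ rk (κ p) (pert a x u z b₀ b) := by
  classical
  obtain ⟨S, hS⟩ : ∃ S : Set (J → R), S = insert z (insert x (Set.range u)) := ⟨_, rfl⟩
  have hSfin : S.Finite := hS ▸ finite_full x u z
  rw [← hS] at h1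
  choose F hF hF' using fun k : ℕ => D.hX (minorsIdeal S (k + 1))
  let E : Finset (PrimeSpectrum R) :=
    ((Finset.range (t + 2)).biUnion F).filter (fun p => rk (κ p) S ≤ t + 1)
  have hEX : ∀ p ∈ E, p ∈ D.X := by
    intro p hp
    obtain ⟨k, -, hk⟩ := Finset.mem_biUnion.mp (Finset.mem_filter.mp hp).1
    exact (hF k p hk).1
  obtain ⟨b₀, b, hb⟩ := exists_coeffs a x u z E
    (fun p hp => hS ▸ (Finset.mem_filter.mp hp).2) (fun p hp => h2 p (hEX p hp))
  refine ⟨b₀, b, fun p hp => ?_⟩
  have hle := rk_full_le (κ p) a x u z b₀ b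
  rw [← hS] at hle
  have hH1 := h1 p hp
  by_cases hbig : min (t + 1) (D.δ p + 1) + 1 ≤ rk (κ p) S
  · omega
  have hk : rk (κ p) S = D.δ p + 1 := by omega
  have hkt : D.δ p + 1 ≤ t + 1 := by omega
  -- p lies in E
  have hpE : p ∈ E := by
    have hpD : minorsIdeal S (rk (κ p) S + 1) ≤ p.asIdeal :=
      (rk_lt_iff_κ p S hSfin _).mp (Nat.lt_succ_self _)
    obtain ⟨q, hqF, hqp⟩ := hF' _ p hp hpD
    obtain ⟨hqX, hqI⟩ := hF _ q hqF
    have hqrk : rk (κ q) S < rk (κ p) S + 1 := (rk_lt_iff_κ q S hSfin _).mpr hqI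
    have hqeq : q = p := by
      by_contra hne
      have hlt : q < p := lt_of_le_of_ne hqp hne
      have hδ := D.hδ q hqX p hp hlt
      have := h1 q hqX
      omega
    subst hqeq
    refine Finset.mem_filter.mpr ⟨Finset.mem_biUnion.mpr ⟨rk (κ q) S, ?_, hqF⟩, by omega⟩
    rw [Finset.mem_range]; omega
  have := rk_full_eq (κ p) a x u z b₀ b (hb p hpE)
  rw [← hS] at this
  omega

theorem core (D : DimData R) (a : R) : ∀ (t : ℕ) (x : J → R) (u : Fin t → J → R),
    (∀ p ∈ D.X, min (t + 1) (D.δ p + 1) ≤ rk (κ p) (insert x (Set.range u))) →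
    (∀ p ∈ D.X, a ∈ p.asIdeal → red (κ p) x ≠ 0) →
    ∃ w ∈ Submodule.span R (Set.range u), ∀ p ∈ D.X, red (κ p) (x + a • w) ≠ 0 := by
  intro t
  induction t with
  | zero =>
    intro x u h1 h2
    refine ⟨0, Submodule.zero_mem _, fun p hp h0 => ?_⟩
    have := h1 p hp
    rw [smul_zero, add_zero] at h0
    have hr : Set.range u = ∅ := Set.range_eq_empty u
    have h3 : rk (κ p) (insert x (Set.range u)) = 0 := by
      have h4 : red (κ p) '' (insert x (Set.range u)) = {0} := by
        rw [hr]; simp [h0]
      rw [rk, spanK, h4, Submodule.span_zero_singleton]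
      exact finrank_bot _ _
    omega
  | succ t ih =>
    intro x u h1 h2
    set z := u (Fin.last t) with hz
    set u₀ : Fin t → J → R := fun i => u i.castSucc with hu₀
    have hset : insert x (Set.range u) = insert z (insert x (Set.range u₀)) := by
      ext v
      simp only [Set.mem_insert_iff, Set.mem_range]
      constructor
      · rintro (rfl | ⟨i, rfl⟩)
        · exact Or.inr (Or.inl rfl)
        · induction i using Fin.lastCases with
          | last => exact Or.inl rfl
          | cast i => exact Or.inr (Or.inr ⟨i, rfl⟩)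
      · rintro (rfl | rfl | ⟨i, rfl⟩)
        · exact Or.inr ⟨_, rfl⟩
        · exact Or.inl rfl
        · exact Or.inr ⟨_, rfl⟩
    obtain ⟨b₀, b, hb⟩ := step D a x u₀ z (fun p hp => by rw [← hset]; exact h1 p hp) h2
    have h2' : ∀ p ∈ D.X, a ∈ p.asIdeal → red (κ p) (x + (a * b₀) • z) ≠ 0 := by
      intro p hp ha
      have ha0 : algebraMap R (κ p) a = 0 := algebraMap_κ_eq_zero.mpr ha
      rw [map_add, red_smul, map_mul, ha0, zero_mul, zero_smul, add_zero]
      exact h2 p hp ha
    obtain ⟨w', hw', hw'ne⟩ := ih (x + (a * b₀) • z) (fun i => u₀ i + b i • z) hb h2'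
    refine ⟨b₀ • z + w', ?_, fun p hp => ?_⟩
    · refine Submodule.add_mem _ (Submodule.smul_mem _ _ (Submodule.subset_span ⟨_, rfl⟩)) ?_
      refine Submodule.span_le.mpr ?_ hw'
      rintro _ ⟨i, rfl⟩
      exact Submodule.add_mem _ (Submodule.subset_span ⟨_, rfl⟩)
        (Submodule.smul_mem _ _ (Submodule.subset_span ⟨_, rfl⟩))
    · have : x + a • (b₀ • z + w') = x + (a * b₀) • z + a • w' := by
        rw [smul_add, smul_smul, add_assoc]
      rw [this]
      exact hw'ne p hp

end Core

section Noeth
variable {R : Type*} [CommRing R] {J : Type*}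

lemma height_toNat_le [IsNoetherianRing R] (d : ℕ) (hd : ringKrullDim R ≤ d)
    (p : PrimeSpectrum R) : p.asIdeal.height ≤ d := by
  have h1 := Ideal.height_le_ringKrullDim_of_ne_top p.isPrime.ne_top
  have h2 := h1.trans hd
  exact_mod_cast h2

/-- `DimData` of a Noetherian ring of dimension `≤ d`: all primes, `δ = d - height`. -/
noncomputable def noethDimData (R : Type*) [CommRing R] [IsNoetherianRing R] (d : ℕ)
    (hd : ringKrullDim R ≤ d) : DimData R where
  X := Set.univ
  δ p := d - p.asIdeal.height.toNat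
  hδ := by
    intro p _ q _ hpq
    have hlt : p.asIdeal.height < q.asIdeal.height :=
      Ideal.height_strict_mono_of_isPrime ((PrimeSpectrum.asIdeal_lt_asIdeal p q).mpr hpq)
    have hq := height_toNat_le d hd q
    have hp := height_toNat_le d hd p
    have hqtop : q.asIdeal.height ≠ ⊤ := ne_top_of_le_ne_top (ENat.natCast_ne_top d) hq
    have hptop : p.asIdeal.height ≠ ⊤ := ne_top_of_le_ne_top (ENat.natCast_ne_top d) hp
    obtain ⟨m, hm⟩ := ENat.ne_top_iff_exists.mp hptop
    obtain ⟨n, hn⟩ := ENat.ne_top_iff_exists.mp hqtop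
    show d - q.asIdeal.height.toNat < d - p.asIdeal.height.toNat
    rw [← hm, ← hn] at hlt
    rw [← hn] at hq
    rw [← hm, ← hn, ENat.toNat_natCast, ENat.toNat_natCast]
    have h1 : m < n := by exact_mod_cast hlt
    have h2 : n ≤ d := by exact_mod_cast hq
    omega
  hX := by
    intro I
    classical
    have hfin : {q : PrimeSpectrum R | q.asIdeal ∈ I.minimalPrimes}.Finite :=
      Set.Finite.preimage (fun a _ b _ h => PrimeSpectrum.ext h)
        (Ideal.finite_minimalPrimes_of_isNoetherianRing R I)
    refine ⟨hfin.toFinset, fun q hq => ⟨Set.mem_univ _, ?_⟩, fun p _ hp => ?_⟩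
    · have : q.asIdeal ∈ I.minimalPrimes := by simpa using hq
      exact this.1.2
    · have := p.isPrime
      obtain ⟨q, hq, hqp⟩ := Ideal.exists_minimalPrimes_le hp
      refine ⟨⟨q, hq.1.1⟩, ?_, hqp⟩
      simpa using hq

/-- The Eisenbud–Evans basic element lemma in vector form, for a Noetherian ring. -/
theorem exists_span_eq_top [IsNoetherianRing R] (d : ℕ) (hd : ringKrullDim R ≤ d) (a : R)
    (x : J → R) {t : ℕ} (u : Fin t → J → R)
    (h1 : ∀ p : PrimeSpectrum R, d + 1 ≤ rk (κ p) (insert x (Set.range u)))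
    (h2 : ∀ p : PrimeSpectrum R, a ∈ p.asIdeal → red (κ p) x ≠ 0) :
    ∃ w ∈ Submodule.span R (Set.range u), Ideal.span (Set.range (x + a • w)) = ⊤ := by
  obtain ⟨w, hw, hne⟩ := core (noethDimData R d hd) a t x u
    (fun p _ => by
      have : (noethDimData R d hd).δ p ≤ d := Nat.sub_le _ _
      have := h1 p
      omega)
    (fun p _ => h2 p)
  refine ⟨w, hw, ?_⟩
  by_contra hne'
  obtain ⟨m, hm, hle⟩ := Ideal.exists_le_maximal _ hne'
  apply hne ⟨m, hm.isPrime⟩ (Set.mem_univ _)
  ext j
  rw [red_apply, Pi.zero_apply, algebraMap_κ_eq_zero]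
  exact hle (Ideal.subset_span ⟨j, rfl⟩)

end Noeth

section Proj
universe u v
variable {R : Type u} [CommRing R] {P : Type v} [AddCommGroup P] [Module R P]

lemma apply_eq_sum {N : ℕ} (f : (Fin N → R) →ₗ[R] P) (v : Fin N → R) :
    f v = ∑ j, v j • f (Pi.single j 1) := by
  classical
  rw [LinearMap.pi_apply_eq_sum_univ f v]
  refine Finset.sum_congr rfl fun j _ => ?_
  congr 2
  ext i
  simp [Pi.single_apply, eq_comm]

lemma finrank_fiber_le_rk (K : Type*) [Field K] [Algebra R K] {N : ℕ}
    (f : (Fin N → R) →ₗ[R] P) (g : P →ₗ[R] (Fin N → R)) (hfg : f ∘ₗ g = LinearMap.id) :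
    finrank K (K ⊗[R] P) ≤ rk K (Set.range fun i => g (f (Pi.single i 1))) := by
  classical
  have hfg' : ∀ y, f (g y) = y := fun y => LinearMap.congr_fun hfg y
  let G : K ⊗[R] P →ₗ[K] (Fin N → K) := LinearMap.liftBaseChange K ((red K) ∘ₗ g)
  let H : (Fin N → K) →ₗ[K] K ⊗[R] P :=
    Fintype.linearCombination K (fun j => (1 : K) ⊗ₜ[R] f (Pi.single j 1))
  have hHG : H ∘ₗ G = LinearMap.id := by
    apply TensorProduct.AlgebraTensorModule.curry_injective
    ext y
    simp only [AlgebraTensorModule.curry_apply, curry_apply]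
    show H (G (1 ⊗ₜ y)) = 1 ⊗ₜ y
    simp only [G, H, LinearMap.liftBaseChange_tmul, one_smul, LinearMap.coe_comp,
      Function.comp_apply, Fintype.linearCombination_apply, red_apply]
    conv_rhs => rw [← hfg' y, apply_eq_sum f (g y), tmul_sum]
    refine Finset.sum_congr rfl fun j _ => ?_
    rw [tmul_smul, ← algebraMap_smul K (g y j) ((1 : K) ⊗ₜ[R] f (Pi.single j 1))]
  have hinj : Function.Injective G := by
    intro a b hab
    have := congrArg H hab
    have h1 := LinearMap.congr_fun hHG a
    have h2 := LinearMap.congr_fun hHG b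
    simp only [LinearMap.coe_comp, Function.comp_apply, LinearMap.id_coe, id_eq] at h1 h2
    rw [← h1, ← h2, this]
  have hrange : LinearMap.range G ≤ spanK K (Set.range fun i => g (f (Pi.single i 1))) := by
    rintro _ ⟨τ, rfl⟩
    induction τ using TensorProduct.induction_on with
    | zero => simp
    | add a b ha hb => rw [map_add]; exact Submodule.add_mem _ ha hb
    | tmul c y =>
      simp only [G, LinearMap.liftBaseChange_tmul, LinearMap.coe_comp, Function.comp_apply]
      refine Submodule.smul_mem _ _ ?_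
      have : red K (g y) = ∑ j, algebraMap R K (g y j) • red K (g (f (Pi.single j 1))) := by
        conv_lhs => rw [← hfg' y, apply_eq_sum f (g y), map_sum, map_sum]
        refine Finset.sum_congr rfl fun j _ => ?_
        rw [map_smul, red_smul]
      rw [this]
      refine Submodule.sum_mem _ fun j _ => Submodule.smul_mem _ _ ?_
      exact red_mem_spanK K ⟨j, rfl⟩
  have : Finite (Set.range fun i => g (f (Pi.single i (1 : R)))) := Set.finite_range _
  calc finrank K (K ⊗[R] P) = finrank K (LinearMap.range G) :=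
        (LinearMap.finrank_range_of_inj hinj).symm
    _ ≤ rk K (Set.range fun i => g (f (Pi.single i 1))) := Submodule.finrank_mono hrange

/-- **Bass-type lemma** (via Eisenbud–Evans): over a Noetherian ring of dimension `≤ d`, if `P` is
finite projective of rank `> d` everywhere and `(a, x) ∈ R × P` is unimodular, then
`x + a • y` is unimodular in `P` for some `y`. -/
theorem exists_unimodular_add_smul [IsNoetherianRing R] (d : ℕ) (hd : ringKrullDim R ≤ d)
    [Module.Finite R P] [Module.Projective R P]
    (hrk : ∀ p : PrimeSpectrum R, d + 1 ≤ Module.rankAtStalk P p)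
    (a : R) (x : P) (r : R) (φ : P →ₗ[R] R) (h : r * a + φ x = 1) :
    ∃ (y : P) (ψ : P →ₗ[R] R), ψ (x + a • y) = 1 := by
  classical
  obtain ⟨N, f, hf⟩ := Module.Finite.exists_fin' R P
  obtain ⟨g, hg⟩ := Module.projective_lifting_property f LinearMap.id hf
  have hfg' : ∀ y, f (g y) = y := fun y => LinearMap.congr_fun hg y
  let u : Fin N → (Fin N → R) := fun i => g (f (Pi.single i 1))
  have h2 : ∀ p : PrimeSpectrum R, a ∈ p.asIdeal → red (κ p) (g x) ≠ 0 := by
    intro p ha h0
    have hcoord : ∀ j, g x j ∈ p.asIdeal := fun j => by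
      have := congrFun h0 j
      rwa [red_apply, Pi.zero_apply, algebraMap_κ_eq_zero] at this
    have hφ : φ x ∈ p.asIdeal := by
      rw [← hfg' x, apply_eq_sum f (g x), map_sum]
      refine Ideal.sum_mem _ fun j _ => ?_
      rw [map_smul, smul_eq_mul]
      exact Ideal.mul_mem_right _ _ (hcoord j)
    have h1 : (1 : R) ∈ p.asIdeal := by
      rw [← h]
      exact Ideal.add_mem _ (Ideal.mul_mem_left _ _ ha) hφ
    exact p.isPrime.ne_top ((Ideal.eq_top_iff_one _).mpr h1)
  have h1 : ∀ p : PrimeSpectrum R, d + 1 ≤ rk (κ p) (insert (g x) (Set.range u)) := by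
    intro p
    have e1 := Module.rankAtStalk_eq (M := P) p
    have e2 := finrank_fiber_le_rk (κ p) f g hg
    have e3 : rk (κ p) (Set.range u) ≤ rk (κ p) (insert (g x) (Set.range u)) :=
      rk_mono (κ p) ((Set.finite_range u).insert _) (Set.subset_insert _ _)
    have := hrk p
    rw [e1] at this
    exact this.trans (e2.trans e3)
  obtain ⟨w, hw, htop⟩ := exists_span_eq_top d hd a (g x) u h1 h2
  have hgfw : g (f w) = w := by
    have : Submodule.span R (Set.range u) ≤ LinearMap.range g := by
      rw [Submodule.span_le]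
      rintro _ ⟨i, rfl⟩
      exact ⟨_, rfl⟩
    obtain ⟨y', rfl⟩ := this hw
    rw [hfg']
  have h1mem : (1 : R) ∈ Ideal.span (Set.range (g x + a • w)) := by rw [htop]; trivial
  obtain ⟨c, hc⟩ := (Ideal.mem_span_range_iff_exists_fun).mp h1mem
  refine ⟨f w, (∑ j, c j • LinearMap.proj j) ∘ₗ g, ?_⟩
  rw [LinearMap.comp_apply, map_add, map_smul, hgfw, LinearMap.sum_apply]
  rw [← hc]
  refine Finset.sum_congr rfl fun j _ => ?_
  simp

end Proj

section Apps
universe u v w
variable {R : Type u} [CommRing R] {P : Type v} [AddCommGroup P] [Module R P]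

/-- Serre: a finite projective module of rank `> dim R` has a unimodular element. -/
theorem exists_unimodular [IsNoetherianRing R] (d : ℕ) (hd : ringKrullDim R ≤ d)
    [Module.Finite R P] [Module.Projective R P]
    (hrk : ∀ p : PrimeSpectrum R, d + 1 ≤ Module.rankAtStalk P p) :
    ∃ (y : P) (ψ : P →ₗ[R] R), ψ y = 1 := by
  obtain ⟨y, ψ, h⟩ := exists_unimodular_add_smul d hd hrk 1 0 1 0 (by simp)
  exact ⟨y, ψ, by simpa using h⟩

/-- splitting off the line spanned by a unimodular element -/
def splitUnimodular (y : P) (ψ : P →ₗ[R] R) (h : ψ y = 1) :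
    P ≃ₗ[R] (LinearMap.ker ψ × R) where
  toFun p := (⟨p - ψ p • y, by simp [h]⟩, ψ p)
  map_add' p q := by
    ext
    · simp only [map_add, add_smul, Prod.mk_add_mk, AddMemClass.mk_add_mk]
      abel
    · simp
  map_smul' r p := by
    ext
    · simp [smul_sub, mul_smul]
    · simp
  invFun kr := (kr.1 : P) + kr.2 • y
  left_inv p := by simp
  right_inv kr := by
    obtain ⟨⟨k, hk⟩, r⟩ := kr
    have hk' : ψ k = 0 := hk
    ext
    · simp [hk', h]
    · simp [hk', h]

/-- shear `(p, s) ↦ (p + s • y, s)` -/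
def shearL (y : P) : (P × R) ≃ₗ[R] (P × R) where
  toFun ps := (ps.1 + ps.2 • y, ps.2)
  map_add' a b := by ext <;> simp [add_smul]; abel
  map_smul' r a := by ext <;> simp [mul_smul]
  invFun ps := (ps.1 - ps.2 • y, ps.2)
  left_inv ps := by ext <;> simp
  right_inv ps := by ext <;> simp

@[simp] lemma shearL_apply (y : P) (p : P) (s : R) : shearL y (p, s) = (p + s • y, s) := rfl

/-- shear `(p, s) ↦ (p, s + ψ p)` -/
def shearR (ψ : P →ₗ[R] R) : (P × R) ≃ₗ[R] (P × R) :=
  LinearEquiv.skewProd (LinearEquiv.refl R P) (LinearEquiv.refl R R) ψ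

@[simp] lemma shearR_apply (ψ : P →ₗ[R] R) (p : P) (s : R) : shearR ψ (p, s) = (p, s + ψ p) := rfl

/-- cancellation from an isomorphism fixing `(0, 1)`. -/
def cancelOfFix {P' : Type w} [AddCommGroup P'] [Module R P'] (e : (P × R) ≃ₗ[R] (P' × R))
    (he : e (0, 1) = (0, 1)) : P ≃ₗ[R] P' where
  toFun p := (e (p, 0)).1
  map_add' p q := by
    have : ((p + q, 0) : P × R) = (p, 0) + (q, 0) := by simp
    rw [this, map_add]; rfl
  map_smul' r p := by
    have : ((r • p, 0) : P × R) = r • (p, 0) := by simp
    rw [this, map_smul]; rfl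
  invFun q := (e.symm (q, 0)).1
  left_inv p := by
    have h1 : ((e (p, 0)).1, (0 : R)) = e (p, 0) - (e (p, 0)).2 • e (0, 1) := by
      rw [he]; ext <;> simp
    simp only
    rw [h1, map_sub, map_smul, e.symm_apply_apply, e.symm_apply_apply]
    simp
  right_inv q := by
    have he' : e.symm (0, 1) = (0, 1) := by rw [← he, e.symm_apply_apply]
    have h1 : ((e.symm (q, 0)).1, (0 : R)) = e.symm (q, 0) - (e.symm (q, 0)).2 • e.symm (0, 1) := by
      rw [he']; ext <;> simp
    simp only
    rw [h1, map_sub, map_smul, e.apply_symm_apply, e.apply_symm_apply]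
    simp

/-- **Bass cancellation**, one free summand. -/
theorem cancel_one [IsNoetherianRing R] (d : ℕ) (hd : ringKrullDim R ≤ d)
    [Module.Finite R P] [Module.Projective R P]
    (hrk : ∀ p : PrimeSpectrum R, d + 1 ≤ Module.rankAtStalk P p)
    {P' : Type w} [AddCommGroup P'] [Module R P'] (e : (P × R) ≃ₗ[R] (P' × R)) :
    Nonempty (P ≃ₗ[R] P') := by
  obtain ⟨x, a, hxa⟩ : ∃ (x : P) (a : R), e (x, a) = (0, 1) :=
    ⟨(e.symm (0, 1)).1, (e.symm (0, 1)).2, by simp⟩
  let π : P × R →ₗ[R] R := (LinearMap.snd R P' R) ∘ₗ e.toLinearMap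
  have hπ : π (x, a) = 1 := by simp [π, hxa]
  have hsplit : π (0, 1) * a + (π ∘ₗ LinearMap.inl R P R) x = 1 := by
    have h0 : π (x, a) = π (0, 1) * a + (π ∘ₗ LinearMap.inl R P R) x := by
      have : ((x, a) : P × R) = a • (0, 1) + (x, 0) := by ext <;> simp
      rw [this, map_add, map_smul, smul_eq_mul, mul_comm]
      rfl
    rw [← h0, hπ]
  obtain ⟨y, ψ, hψ⟩ := exists_unimodular_add_smul d hd hrk a x (π (0, 1))
    (π ∘ₗ LinearMap.inl R P R) hsplit
  -- σ sends (x, a) to (0, 1)
  let σ : (P × R) ≃ₗ[R] (P × R) :=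
    (shearL y).trans ((shearR ((1 - a) • ψ)).trans (shearL (-(x + a • y))))
  have hσ : σ (x, a) = (0, 1) := by
    simp only [σ, LinearEquiv.trans_apply, shearL_apply, shearR_apply, LinearMap.smul_apply, hψ]
    ext <;> simp
  refine ⟨cancelOfFix (σ.symm.trans e) ?_⟩
  rw [LinearEquiv.trans_apply, ← hσ, σ.symm_apply_apply, hxa]

end Apps

section Apps2
universe u v w
variable {R : Type u} [CommRing R] {P : Type v} [AddCommGroup P] [Module R P]

/-- complementary submodules from a product decomposition -/
theorem exists_isCompl_of_equiv_prod {A : Type*} {B : Type*} [AddCommGroup A] [Module R A]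
    [AddCommGroup B] [Module R B] (E : P ≃ₗ[R] A × B) :
    ∃ (P₀ Q : Submodule R P), IsCompl P₀ Q ∧ Nonempty (Q ≃ₗ[R] B) := by
  refine ⟨(LinearMap.range (LinearMap.inl R A B)).map E.symm.toLinearMap,
    (LinearMap.range (LinearMap.inr R A B)).map E.symm.toLinearMap, ?_, ⟨?_⟩⟩
  · exact (Submodule.orderIsoMapComap E.symm).isCompl_iff.mp LinearMap.isCompl_range_inl_inr
  · have e1 : B ≃ₗ[R] LinearMap.range (LinearMap.inr R A B) :=
      LinearEquiv.ofInjective _ LinearMap.inr_injective
    have e2 : LinearMap.range (LinearMap.inr R A B) ≃ₗ[R]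
        (LinearMap.range (LinearMap.inr R A B)).map E.symm.toLinearMap :=
      E.symm.submoduleMap _
    exact (e1.trans e2).symm

lemma rankAtStalk_fin_fun [Nontrivial R] (k : ℕ) (p : PrimeSpectrum R) :
    Module.rankAtStalk (R := R) (Fin k → R) p = k := by
  rw [Module.rankAtStalk_eq_finrank_of_free]
  simp

/-- `X × R^(m+1) ≃ (X × R^m) × R` -/
def prodFinSucc (R : Type u) [CommRing R] (X : Type w) [AddCommGroup X] [Module R X] (m : ℕ) :
    (X × (Fin (m + 1) → R)) ≃ₗ[R] ((X × (Fin m → R)) × R) :=
  (LinearEquiv.prodCongr (LinearEquiv.refl R X)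
    ((Fin.consLinearEquiv R (fun _ : Fin (m + 1) => R)).symm.trans
      (LinearEquiv.prodComm R R (Fin m → R)))).trans
    (LinearEquiv.prodAssoc R X (Fin m → R) R).symm

/-- **Bass cancellation**. -/
theorem cancel [IsNoetherianRing R] (d : ℕ) (hd : ringKrullDim R ≤ d)
    [Module.Finite R P] [Module.Projective R P]
    (hrk : ∀ p : PrimeSpectrum R, d + 1 ≤ Module.rankAtStalk P p)
    {P' : Type w} [AddCommGroup P'] [Module R P'] (m : ℕ)
    (e : (P × (Fin m → R)) ≃ₗ[R] (P' × (Fin m → R))) :
    Nonempty (P ≃ₗ[R] P') := by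
  induction m with
  | zero =>
    exact ⟨(LinearEquiv.prodUnique (R := R) (M := P) (M₂ := Fin 0 → R)).symm.trans
      (e.trans LinearEquiv.prodUnique)⟩
  | succ m ih =>
    -- `X × (Fin (m+1) → R) ≃ (X × (Fin m → R)) × R`
    have e' : ((P × (Fin m → R)) × R) ≃ₗ[R] ((P' × (Fin m → R)) × R) :=
      (prodFinSucc R P m).symm.trans (e.trans (prodFinSucc R P' m))
    have hrk' : ∀ p : PrimeSpectrum R, d + 1 ≤ Module.rankAtStalk (P × (Fin m → R)) p := by
      intro p
      rw [Module.rankAtStalk_prod]
      exact (hrk p).trans (Nat.le_add_right _ _)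
    obtain ⟨e''⟩ := cancel_one d hd hrk' e'
    exact ih e''

end Apps2

section Apps3
universe u v w
variable {R : Type u} [CommRing R] {P : Type v} [AddCommGroup P] [Module R P]

lemma finite_of_equiv_prod {A : Type*} {B : Type*} [AddCommGroup A] [Module R A]
    [AddCommGroup B] [Module R B] [Module.Finite R P] (E : P ≃ₗ[R] A × B) : Module.Finite R A :=
  Module.Finite.of_surjective ((LinearMap.fst R A B) ∘ₗ E.toLinearMap)
    ((LinearMap.fst_surjective (R := R) (M := A) (M₂ := B)).comp E.surjective)

lemma projective_of_equiv_prod {A : Type*} {B : Type*} [AddCommGroup A] [Module R A]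
    [AddCommGroup B] [Module R B] [Module.Projective R P] (E : P ≃ₗ[R] A × B) :
    Module.Projective R A :=
  Module.Projective.of_split (E.symm.toLinearMap ∘ₗ LinearMap.inl R A B)
    ((LinearMap.fst R A B) ∘ₗ E.toLinearMap) (by ext a; simp)

/-- **Serre's splitting theorem**, iterated: `P ≃ A × R^k` whenever `dim R + k ≤ rank P`. -/
theorem exists_equiv_prod_fin [IsNoetherianRing R] (d : ℕ) (hd : ringKrullDim R ≤ d)
    [Module.Finite R P] [Module.Projective R P] (n : ℕ)
    (hrk : ∀ p : PrimeSpectrum R, Module.rankAtStalk P p = n) :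
    ∀ k : ℕ, d + k ≤ n → ∃ (A : Type v) (_ : AddCommGroup A) (_ : Module R A),
      Nonempty (P ≃ₗ[R] A × (Fin k → R)) := by
  intro k
  induction k with
  | zero =>
    intro _
    exact ⟨P, inferInstance, inferInstance,
      ⟨(LinearEquiv.prodUnique (R := R) (M := P) (M₂ := Fin 0 → R)).symm⟩⟩
  | succ k ih =>
    intro hk
    obtain ⟨A, _, _, ⟨E⟩⟩ := ih (by omega)
    have hfin : Module.Finite R A := finite_of_equiv_prod E
    have hproj : Module.Projective R A := projective_of_equiv_prod E
    have hrkA : ∀ p : PrimeSpectrum R, d + 1 ≤ Module.rankAtStalk A p := by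
      intro p
      have : Nontrivial R := p.nontrivial
      have h1 := hrk p
      rw [Module.rankAtStalk_eq_of_equiv E, Module.rankAtStalk_prod] at h1
      simp only [Pi.add_apply, rankAtStalk_fin_fun] at h1
      omega
    obtain ⟨y, ψ, hψ⟩ := exists_unimodular d hd hrkA
    refine ⟨LinearMap.ker ψ, inferInstance, inferInstance, ⟨?_⟩⟩
    -- P ≃ A × R^k ≃ (ker ψ × R) × R^k ≃ ker ψ × (R × R^k) ≃ ker ψ × R^(k+1)
    exact E.trans ((LinearEquiv.prodCongr (splitUnimodular y ψ hψ) (LinearEquiv.refl R _)).trans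
      ((LinearEquiv.prodAssoc R _ R (Fin k → R)).trans
        (LinearEquiv.prodCongr (LinearEquiv.refl R _)
          (Fin.consLinearEquiv R (fun _ : Fin (k + 1) => R)))))

/-- **Serre's splitting theorem** in submodule form. -/
theorem exists_isCompl_free [IsNoetherianRing R] (d : ℕ) (hd : ringKrullDim R ≤ d)
    [Module.Finite R P] [Module.Projective R P] (n : ℕ)
    (hrk : ∀ p : PrimeSpectrum R, Module.rankAtStalk P p = n) (k : ℕ) (hk : d + k ≤ n) :
    ∃ (P₀ Q : Submodule R P), IsCompl P₀ Q ∧ Nonempty (Q ≃ₗ[R] (Fin k → R)) := by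
  obtain ⟨A, _, _, ⟨E⟩⟩ := exists_equiv_prod_fin d hd n hrk k hk
  exact exists_isCompl_of_equiv_prod E

end Apps3

section Apps4
universe u v w
variable {R : Type u} [CommRing R] {P : Type v} [AddCommGroup P] [Module R P]

/-- `(ι → M × M') ≃ (ι → M) × (ι → M')` -/
def piProdEquiv (R : Type*) [CommRing R] (ι : Type*) (M M' : Type*) [AddCommGroup M] [Module R M]
    [AddCommGroup M'] [Module R M'] : (ι → M × M') ≃ₗ[R] (ι → M) × (ι → M') where
  toFun f := (fun i => (f i).1, fun i => (f i).2)
  map_add' _ _ := rfl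
  map_smul' _ _ := rfl
  invFun gh := fun i => (gh.1 i, gh.2 i)
  left_inv _ := rfl
  right_inv _ := rfl

/-- `(Fin N → Fin m → R) ≃ (Fin (N * m) → R)` -/
def finFunFin (R : Type*) [CommRing R] (N m : ℕ) : (Fin N → Fin m → R) ≃ₗ[R] (Fin (N * m) → R) :=
  (LinearEquiv.curry R R (Fin N) (Fin m)).symm.trans
    (LinearEquiv.funCongrLeft R R finProdFinEquiv.symm)

lemma projective_fin_fun [Module.Projective R P] (N : ℕ) : Module.Projective R (Fin N → P) := by
  classical
  exact Module.Projective.of_equiv'
    (DFinsupp.linearEquivFunOnFintype (R := R) (M := fun _ : Fin N => P))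

lemma rankAtStalk_fin_pow [Module.Finite R P] [Module.Projective R P] (N : ℕ)
    (p : PrimeSpectrum R) :
    Module.rankAtStalk (R := R) (Fin N → P) p = N * Module.rankAtStalk P p := by
  rw [Module.rankAtStalk_pi, finsum_eq_sum_of_fintype]
  simp

/-- stably isomorphic finite projective modules of constant rank have isomorphic powers. -/
theorem exists_pow_equiv [IsNoetherianRing R] (d : ℕ) (hd : ringKrullDim R ≤ d)
    [Module.Finite R P] [Module.Projective R P]
    {Q : Type w} [AddCommGroup Q] [Module R Q] [Module.Finite R Q] [Module.Projective R Q]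
    (n : ℕ) (hrk : ∀ p : PrimeSpectrum R, Module.rankAtStalk P p = n)
    (hrk' : ∀ p : PrimeSpectrum R, Module.rankAtStalk Q p = n)
    (m : ℕ) (e : (P × (Fin m → R)) ≃ₗ[R] (Q × (Fin m → R))) :
    ∃ N : ℕ, 1 ≤ N ∧ Nonempty ((Fin N → P) ≃ₗ[R] (Fin N → Q)) := by
  rcases Nat.eq_zero_or_pos n with rfl | hn
  · have hP : Subsingleton P :=
      Module.rankAtStalk_eq_zero_iff_subsingleton.mp (funext fun p => hrk p)
    have hQ : Subsingleton Q :=
      Module.rankAtStalk_eq_zero_iff_subsingleton.mp (funext fun p => hrk' p)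
    exact ⟨1, le_rfl, ⟨LinearEquiv.ofSubsingleton _ _⟩⟩
  · refine ⟨d + 1, by omega, ?_⟩
    have : Module.Projective R (Fin (d + 1) → P) := projective_fin_fun _
    have hrkN : ∀ p : PrimeSpectrum R, d + 1 ≤ Module.rankAtStalk (Fin (d + 1) → P) p := by
      intro p
      rw [rankAtStalk_fin_pow, hrk p]
      nlinarith
    let E : ((Fin (d + 1) → P) × (Fin ((d + 1) * m) → R)) ≃ₗ[R]
        ((Fin (d + 1) → Q) × (Fin ((d + 1) * m) → R)) :=
      (LinearEquiv.prodCongr (LinearEquiv.refl R _) (finFunFin R (d + 1) m).symm).trans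
        ((piProdEquiv R (Fin (d + 1)) P (Fin m → R)).symm.trans
          ((LinearEquiv.piCongrRight fun _ => e).trans
            ((piProdEquiv R (Fin (d + 1)) Q (Fin m → R)).trans
              (LinearEquiv.prodCongr (LinearEquiv.refl R _) (finFunFin R (d + 1) m)))))
    exact cancel d hd hrkN _ E

end Apps4


end Groth.Agent.Lib.BasicElt6
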