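import Groth.Agent.Lib.BasicElt6

/-!
# Generalized Eisenbud–Evans basic element lemma (helper6)

Namespace `Groth.Agent.Lib.BasicElt6b`.  Compared to `BasicElt6.core`:
* vectors live in an arbitrary `R`-module `V`, and for each prime `p` we are given an `R`-linear map
  `ρ p : V → W p` to a `κ(p)`-vector space (this allows "relative ranks" modulo a fixed family);
* the coefficient of the distinguished vector ranges over an ideal `A` instead of multiples of `a`;
* the set of primes `X`, the dimension function `δ` and the closedness of rank loci are hypotheses.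
-/

set_option autoImplicit false
open Module

namespace Groth.Agent.Lib.BasicElt6b

open Groth.Agent.Lib.BasicElt6 (κ algebraMap_κ_eq_zero)

section Local
variable {R : Type*} [CommRing R] {V : Type*} [AddCommGroup V] [Module R V]
variable (K : Type*) [Field K] [Algebra R K] {W : Type*} [AddCommGroup W] [Module K W] [Module R W]
  [IsScalarTower R K W] (ρ : V →ₗ[R] W)

lemma ρ_smul (r : R) (v : V) : ρ (r • v) = algebraMap R K r • ρ v := by
  rw [map_smul, algebraMap_smul]

/-- The `K`-span of the images of a set of vectors. -/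
def spanK (S : Set V) : Submodule K W := Submodule.span K (ρ '' S)

/-- The rank of a set of vectors. -/
noncomputable def rk (S : Set V) : ℕ := finrank K (spanK K ρ S)

omit [Algebra R K] [IsScalarTower R K W] in
lemma spanK_mono {S T : Set V} (h : S ⊆ T) : spanK K ρ S ≤ spanK K ρ T :=
  Submodule.span_mono (Set.image_mono h)

omit [Algebra R K] [IsScalarTower R K W] in
lemma mem_spanK {S : Set V} {v : V} (h : v ∈ S) : ρ v ∈ spanK K ρ S :=
  Submodule.subset_span ⟨v, h, rfl⟩

instance finite_spanK {S : Set V} [hS : Finite S] : Module.Finite K (spanK K ρ S) :=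
  FiniteDimensional.span_of_finite K ((Set.toFinite S).image _)

omit [Algebra R K] [IsScalarTower R K W] in
lemma rk_mono {S T : Set V} (hT : T.Finite) (h : S ⊆ T) : rk K ρ S ≤ rk K ρ T := by
  have : Finite T := hT
  exact Submodule.finrank_mono (spanK_mono K ρ h)

/-- the perturbed family -/
def pert (x : V) {t : ℕ} (u : Fin t → V) (z : V) (b₀ : R) (b : Fin t → R) : Set V :=
  insert (x + b₀ • z) (Set.range fun i => u i + b i • z)

omit [AddCommGroup V] [Module R V] in
lemma finite_full (x : V) {t : ℕ} (u : Fin t → V) (z : V) :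
    (insert z (insert x (Set.range u))).Finite :=
  ((Set.finite_range _).insert _).insert _

lemma finite_pert (x : V) {t : ℕ} (u : Fin t → V) (z : V) (b₀ : R) (b : Fin t → R) :
    (pert x u z b₀ b).Finite :=
  (Set.finite_range _).insert _

lemma spanK_full_eq (x : V) {t : ℕ} (u : Fin t → V) (z : V) (b₀ : R) (b : Fin t → R) :
    spanK K ρ (insert z (insert x (Set.range u))) =
      spanK K ρ (pert x u z b₀ b) ⊔ Submodule.span K {ρ z} := by
  apply le_antisymm
  · rw [spanK, Submodule.span_le]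
    rintro _ ⟨v, hv, rfl⟩
    have hz : ρ z ∈ spanK K ρ (pert x u z b₀ b) ⊔ Submodule.span K {ρ z} :=
      Submodule.mem_sup_right (Submodule.mem_span_singleton_self _)
    rcases hv with rfl | rfl | ⟨i, rfl⟩
    · exact hz
    · have h1 : ρ (v + b₀ • z) ∈ spanK K ρ (pert v u z b₀ b) ⊔ Submodule.span K {ρ z} :=
        Submodule.mem_sup_left (mem_spanK K ρ (Set.mem_insert _ _))
      have : ρ v = ρ (v + b₀ • z) - algebraMap R K b₀ • ρ z := by
        rw [map_add, ρ_smul K ρ]; abel
      rw [SetLike.mem_coe, this]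
      exact Submodule.sub_mem _ h1 (Submodule.smul_mem _ _ hz)
    · have h1 : ρ (u i + b i • z) ∈ spanK K ρ (pert x u z b₀ b) ⊔ Submodule.span K {ρ z} :=
        Submodule.mem_sup_left (mem_spanK K ρ (Set.mem_insert_of_mem _ ⟨i, rfl⟩))
      have : ρ (u i) = ρ (u i + b i • z) - algebraMap R K (b i) • ρ z := by
        rw [map_add, ρ_smul K ρ]; abel
      rw [SetLike.mem_coe, this]
      exact Submodule.sub_mem _ h1 (Submodule.smul_mem _ _ hz)
  · have hz : ρ z ∈ spanK K ρ (insert z (insert x (Set.range u))) :=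
      mem_spanK K ρ (Set.mem_insert _ _)
    refine sup_le ?_ ?_
    · rw [spanK, Submodule.span_le]
      rintro _ ⟨v, hv, rfl⟩
      rcases hv with rfl | ⟨i, rfl⟩
      · rw [SetLike.mem_coe, map_add, ρ_smul K ρ]
        exact Submodule.add_mem _ (mem_spanK K ρ (by simp)) (Submodule.smul_mem _ _ hz)
      · rw [SetLike.mem_coe, map_add, ρ_smul K ρ]
        exact Submodule.add_mem _ (mem_spanK K ρ (by simp)) (Submodule.smul_mem _ _ hz)
    · rw [Submodule.span_le, Set.singleton_subset_iff]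
      exact hz

/-- the rank drops by at most one -/
lemma rk_full_le (x : V) {t : ℕ} (u : Fin t → V) (z : V) (b₀ : R) (b : Fin t → R) :
    rk K ρ (insert z (insert x (Set.range u))) ≤ rk K ρ (pert x u z b₀ b) + 1 := by
  have : Finite (pert x u z b₀ b) := finite_pert x u z b₀ b
  rw [rk, spanK_full_eq K ρ x u z b₀ b]
  refine (Submodule.finrank_add_le_finrank_add_finrank _ _).trans ?_
  refine Nat.add_le_add_left ?_ _
  have := finrank_span_le_card (R := K) ({ρ z} : Set W)
  simpa using this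

/-- no drop if `ρ z` is in the span of the perturbed family -/
lemma rk_full_eq (x : V) {t : ℕ} (u : Fin t → V) (z : V) (b₀ : R) (b : Fin t → R)
    (hz : ρ z ∈ spanK K ρ (pert x u z b₀ b)) :
    rk K ρ (insert z (insert x (Set.range u))) = rk K ρ (pert x u z b₀ b) := by
  have : spanK K ρ (pert x u z b₀ b) ⊔ Submodule.span K {ρ z} = spanK K ρ (pert x u z b₀ b) := by
    rw [sup_eq_left, Submodule.span_le, Set.singleton_subset_iff]
    exact hz
  rw [rk, spanK_full_eq K ρ x u z b₀ b, rk, this]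

/-- strict drop otherwise -/
lemma rk_pert_lt (x : V) {t : ℕ} (u : Fin t → V) (z : V) (b₀ : R) (b : Fin t → R)
    (hz : ρ z ∉ spanK K ρ (pert x u z b₀ b)) :
    rk K ρ (pert x u z b₀ b) < rk K ρ (insert z (insert x (Set.range u))) := by
  have : Finite (insert z (insert x (Set.range u)) : Set V) := finite_full x u z
  rw [rk, rk]
  apply Submodule.finrank_lt_finrank_of_lt
  rw [spanK_full_eq K ρ x u z b₀ b]
  refine lt_of_le_of_ne le_sup_left fun h => hz ?_
  rw [h]
  exact Submodule.mem_sup_right (Submodule.mem_span_singleton_self _)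

omit [Algebra R K] [IsScalarTower R K W] in
lemma comb_mem (x : V) {t : ℕ} (u : Fin t → V) (z : V) (b₀ : R) (b : Fin t → R) (g₀ : K)
    (g : Fin t → K) :
    g₀ • ρ (x + b₀ • z) + ∑ j, g j • ρ (u j + b j • z) ∈ spanK K ρ (pert x u z b₀ b) := by
  refine Submodule.add_mem _ (Submodule.smul_mem _ _ (mem_spanK K ρ (Set.mem_insert _ _))) ?_
  refine Submodule.sum_mem _ fun j _ => Submodule.smul_mem _ _ ?_
  exact mem_spanK K ρ (Set.mem_insert_of_mem _ ⟨j, rfl⟩)

lemma comb_eq (x : V) {t : ℕ} (u : Fin t → V) (z : V) (b₀ : R) (b : Fin t → R) (g₀ : K)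
    (g : Fin t → K) :
    g₀ • ρ (x + b₀ • z) + ∑ j, g j • ρ (u j + b j • z) =
      (g₀ • ρ x + ∑ j, g j • ρ (u j)) +
        (g₀ * algebraMap R K b₀ + ∑ j, g j * algebraMap R K (b j)) • ρ z := by
  simp only [map_add, ρ_smul K ρ, smul_add, Finset.sum_add_distrib, add_smul, Finset.sum_smul,
    mul_smul]
  abel

lemma exists_fix (A : Ideal R) (r : R) (hr : algebraMap R K r ≠ 0) (x : V) {t : ℕ}
    (u : Fin t → V) (z : V)
    (hx : A ≤ RingHom.ker (algebraMap R K) → ρ x ≠ 0)
    (hrk : rk K ρ (insert x (Set.range u)) ≤ t) :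
    ∃ c₀ ∈ A, ∃ c : Fin t → R,
      ρ z ∈ spanK K ρ (pert x u z (r * c₀) (fun i => r * c i)) := by
  classical
  let w : Fin (t + 1) → W := Fin.cons (ρ x) (fun i => ρ (u i))
  have hrange : Set.range w = ρ '' (insert x (Set.range u)) := by
    rw [Fin.range_cons, Set.image_insert_eq, ← Set.range_comp]
    rfl
  have hnli : ¬ LinearIndependent K w := by
    intro hli
    have h1 := finrank_span_eq_card hli
    rw [hrange, Fintype.card_fin] at h1
    have : rk K ρ (insert x (Set.range u)) = t + 1 := h1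
    omega
  obtain ⟨g, hg, i₀, hi₀⟩ := Fintype.not_linearIndependent_iff.mp hnli
  rw [Fin.sum_univ_succ] at hg
  simp only [w, Fin.cons_zero, Fin.cons_succ] at hg
  have key : ∀ (c₀ : R) (c : Fin t → R),
      (g 0 * algebraMap R K (r * c₀) + ∑ j, g j.succ * algebraMap R K (r * c j)) •
        ρ z ∈ spanK K ρ (pert x u z (r * c₀) (fun i => r * c i)) := by
    intro c₀ c
    have h1 := comb_mem K ρ x u z (r * c₀) (fun i => r * c i) (g 0) (fun j => g j.succ)
    rw [comb_eq, hg, zero_add] at h1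
    exact h1
  have fin : ∀ (c₀ : R) (c : Fin t → R),
      (g 0 * algebraMap R K (r * c₀) + ∑ j, g j.succ * algebraMap R K (r * c j)) ≠ 0 →
      ρ z ∈ spanK K ρ (pert x u z (r * c₀) (fun i => r * c i)) := by
    intro c₀ c hμ
    have := Submodule.smul_mem _ (g 0 * algebraMap R K (r * c₀) +
      ∑ j, g j.succ * algebraMap R K (r * c j))⁻¹ (key c₀ c)
    rwa [smul_smul, inv_mul_cancel₀ hμ, one_smul] at this
  by_cases hA : ∃ i : Fin t, g i.succ ≠ 0
  · obtain ⟨i, hi⟩ := hA
    refine ⟨0, A.zero_mem, Pi.single i 1, fin _ _ ?_⟩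
    have : ∑ j, g j.succ * algebraMap R K (r * (Pi.single i 1 : Fin t → R) j) =
        g i.succ * algebraMap R K r := by
      rw [Finset.sum_eq_single i]
      · simp
      · intro j _ hj; simp [hj]
      · simp
    rw [this]
    simp [hi, hr]
  · push Not at hA
    have hg0 : g 0 ≠ 0 := by
      induction i₀ using Fin.cases with
      | zero => exact hi₀
      | succ i => exact absurd (hA i) hi₀
    have hx0 : ρ x = 0 := by
      simp only [hA, zero_smul, Finset.sum_const_zero, add_zero] at hg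
      exact (smul_eq_zero.mp hg).resolve_left hg0
    have hnot : ¬ A ≤ RingHom.ker (algebraMap R K) := fun h => hx h hx0
    obtain ⟨a, haA, hak⟩ := SetLike.not_le_iff_exists.mp hnot
    have ha : algebraMap R K a ≠ 0 := hak
    refine ⟨a, haA, 0, fin _ _ ?_⟩
    simp [hg0, ha, hr]

lemma image_pert_congr (x : V) {t : ℕ} (u : Fin t → V) (z : V) (b₀ b₀' : R) (b b' : Fin t → R)
    (h₀ : algebraMap R K b₀ = algebraMap R K b₀')
    (h : ∀ i, algebraMap R K (b i) = algebraMap R K (b' i)) :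
    ρ '' pert x u z b₀ b = ρ '' pert x u z b₀' b' := by
  unfold pert
  rw [Set.image_insert_eq, Set.image_insert_eq, ← Set.range_comp, ← Set.range_comp]
  congr 1
  · rw [map_add, map_add, ρ_smul K ρ, ρ_smul K ρ, h₀]
  · congr 1
    funext i
    simp only [Function.comp_apply, map_add, ρ_smul K ρ, h i]

omit [Field K] [Algebra R K] [AddCommGroup W] [Module K W] [Module R W] [IsScalarTower R K W] in
lemma pert_pert (x : V) {t : ℕ} (u : Fin t → V) (z : V) (b₀ c₀ : R) (b c : Fin t → R) :
    pert (x + b₀ • z) (fun i => u i + b i • z) z c₀ c =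
      pert x u z (b₀ + c₀) (fun i => b i + c i) := by
  unfold pert
  congr 1
  · rw [add_assoc, ← add_smul]
  · congr 1
    funext i
    rw [add_assoc, ← add_smul]

end Local

section Global
variable {R : Type*} [CommRing R] {V : Type*} [AddCommGroup V] [Module R V]
variable {W : PrimeSpectrum R → Type*} [∀ p, AddCommGroup (W p)] [∀ p, Module (κ p) (W p)]
  [∀ p, Module R (W p)] [∀ p, IsScalarTower R (κ p) (W p)] (ρ : ∀ p, V →ₗ[R] W p)

theorem exists_coeffs (A : Ideal R) (x : V) {t : ℕ} (u : Fin t → V) (z : V)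
    (E : Finset (PrimeSpectrum R))
    (hrk : ∀ p ∈ E, rk (κ p) (ρ p) (insert z (insert x (Set.range u))) ≤ t + 1)
    (hx : ∀ p ∈ E, A ≤ p.asIdeal → ρ p x ≠ 0) :
    ∃ b₀ ∈ A, ∃ b : Fin t → R, ∀ p ∈ E, ρ p z ∈ spanK (κ p) (ρ p) (pert x u z b₀ b) := by
  classical
  induction E using Finset.strongInduction with
  | H E ih =>
    rcases E.eq_empty_or_nonempty with rfl | hne
    · exact ⟨0, A.zero_mem, 0, by simp⟩
    obtain ⟨p, hpE, hpmin⟩ := E.exists_minimal hne
    obtain ⟨b₀, hb₀, b, hb⟩ := ih (E.erase p) (Finset.erase_ssubset hpE)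
      (fun q hq => hrk q (Finset.mem_of_mem_erase hq))
      (fun q hq => hx q (Finset.mem_of_mem_erase hq))
    by_cases hz : ρ p z ∈ spanK (κ p) (ρ p) (pert x u z b₀ b)
    · refine ⟨b₀, hb₀, b, fun q hq => ?_⟩
      by_cases hqp : q = p
      · subst hqp; exact hz
      · exact hb q (Finset.mem_erase.mpr ⟨hqp, hq⟩)
    have hnot : ¬ (E.erase p).inf (fun q => q.asIdeal) ≤ p.asIdeal := by
      rw [Ideal.IsPrime.inf_le' p.isPrime]
      rintro ⟨q, hq, hqp⟩
      have hqE := Finset.mem_of_mem_erase hq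
      have : p ≤ q := hpmin hqE hqp
      exact (Finset.ne_of_mem_erase hq) (le_antisymm hqp this)
    obtain ⟨r, hrI, hrp⟩ := SetLike.not_le_iff_exists.mp hnot
    have hrq : ∀ q ∈ E.erase p, r ∈ q.asIdeal := fun q hq =>
      (Finset.inf_le (f := fun q : PrimeSpectrum R => q.asIdeal) hq) hrI
    have hrk' : rk (κ p) (ρ p) (insert (x + b₀ • z) (Set.range fun i => u i + b i • z)) ≤ t := by
      have := rk_pert_lt (κ p) (ρ p) x u z b₀ b hz
      have h2 := hrk p hpE
      unfold pert at this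
      omega
    have hx' : A ≤ RingHom.ker (algebraMap R (κ p)) → ρ p (x + b₀ • z) ≠ 0 := by
      intro hA
      rw [Ideal.ker_algebraMap_residueField] at hA
      have hb0 : algebraMap R (κ p) b₀ = 0 := algebraMap_κ_eq_zero.mpr (hA hb₀)
      rw [map_add, ρ_smul (κ p) (ρ p), hb0, zero_smul, add_zero]
      exact hx p hpE hA
    obtain ⟨c₀, hc₀, c, hc⟩ := exists_fix (κ p) (ρ p) A r
      (fun h => hrp (algebraMap_κ_eq_zero.mp h)) (x + b₀ • z) (fun i => u i + b i • z) z hx' hrk'
    rw [pert_pert] at hc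
    refine ⟨b₀ + r * c₀, A.add_mem hb₀ (A.mul_mem_left _ hc₀), fun i => b i + r * c i,
      fun q hq => ?_⟩
    by_cases hqp : q = p
    · subst hqp; exact hc
    · have hq' : q ∈ E.erase p := Finset.mem_erase.mpr ⟨hqp, hq⟩
      have hr0 : algebraMap R (κ q) r = 0 := algebraMap_κ_eq_zero.mpr (hrq q hq')
      have := hb q hq'
      rw [spanK] at this ⊢
      rw [image_pert_congr (κ q) (ρ q) x u z (b₀ + r * c₀) b₀ (fun i => b i + r * c i) b
        (by rw [map_add, map_mul, hr0, zero_mul, add_zero])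
        (fun i => by rw [map_add, map_mul, hr0, zero_mul, add_zero])]
      exact this

variable (X : Set (PrimeSpectrum R)) (δ : PrimeSpectrum R → ℕ)

theorem step (hδ : ∀ p ∈ X, ∀ q ∈ X, p < q → δ q < δ p)
    (hcl : ∀ (S : Set V), S.Finite → ∀ n : ℕ, ∃ F : Finset (PrimeSpectrum R),
      (∀ q ∈ F, q ∈ X ∧ rk (κ q) (ρ q) S < n) ∧
        ∀ p ∈ X, rk (κ p) (ρ p) S < n → ∃ q ∈ F, q ≤ p)
    (A : Ideal R) (x : V) {t : ℕ} (u : Fin t → V) (z : V)
    (h1 : ∀ p ∈ X, min (t + 2) (δ p + 1) ≤ rk (κ p) (ρ p) (insert z (insert x (Set.range u))))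
    (h2 : ∀ p ∈ X, A ≤ p.asIdeal → ρ p x ≠ 0) :
    ∃ b₀ ∈ A, ∃ b : Fin t → R, ∀ p ∈ X,
      min (t + 1) (δ p + 1) ≤ rk (κ p) (ρ p) (pert x u z b₀ b) := by
  classical
  obtain ⟨S, hS⟩ : ∃ S : Set V, S = insert z (insert x (Set.range u)) := ⟨_, rfl⟩
  have hSfin : S.Finite := hS ▸ finite_full x u z
  rw [← hS] at h1
  choose F hF hF' using fun k : ℕ => hcl S hSfin (k + 1)
  let E : Finset (PrimeSpectrum R) :=
    ((Finset.range (t + 2)).biUnion F).filter (fun p => rk (κ p) (ρ p) S ≤ t + 1)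
  have hEX : ∀ p ∈ E, p ∈ X := by
    intro p hp
    obtain ⟨k, -, hk⟩ := Finset.mem_biUnion.mp (Finset.mem_filter.mp hp).1
    exact (hF k p hk).1
  obtain ⟨b₀, hb₀, b, hb⟩ := exists_coeffs ρ A x u z E
    (fun p hp => hS ▸ (Finset.mem_filter.mp hp).2) (fun p hp => h2 p (hEX p hp))
  refine ⟨b₀, hb₀, b, fun p hp => ?_⟩
  have hle := rk_full_le (κ p) (ρ p) x u z b₀ b
  rw [← hS] at hle
  have hH1 := h1 p hp
  by_cases hbig : min (t + 1) (δ p + 1) + 1 ≤ rk (κ p) (ρ p) S
  · omega
  have hk : rk (κ p) (ρ p) S = δ p + 1 := by omega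
  have hkt : δ p + 1 ≤ t + 1 := by omega
  have hpE : p ∈ E := by
    obtain ⟨q, hqF, hqp⟩ := hF' (rk (κ p) (ρ p) S) p hp (Nat.lt_succ_self _)
    obtain ⟨hqX, hqrk⟩ := hF _ q hqF
    have hqeq : q = p := by
      by_contra hne
      have hlt : q < p := lt_of_le_of_ne hqp hne
      have hδ' := hδ q hqX p hp hlt
      have := h1 q hqX
      omega
    subst hqeq
    refine Finset.mem_filter.mpr ⟨Finset.mem_biUnion.mpr ⟨rk (κ q) (ρ q) S, ?_, hqF⟩, by omega⟩
    rw [Finset.mem_range]; omega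
  have := rk_full_eq (κ p) (ρ p) x u z b₀ b (hb p hpE)
  rw [← hS] at this
  omega

theorem core (hδ : ∀ p ∈ X, ∀ q ∈ X, p < q → δ q < δ p)
    (hcl : ∀ (S : Set V), S.Finite → ∀ n : ℕ, ∃ F : Finset (PrimeSpectrum R),
      (∀ q ∈ F, q ∈ X ∧ rk (κ q) (ρ q) S < n) ∧
        ∀ p ∈ X, rk (κ p) (ρ p) S < n → ∃ q ∈ F, q ≤ p)
    (A : Ideal R) : ∀ (t : ℕ) (x : V) (u : Fin t → V),
    (∀ p ∈ X, min (t + 1) (δ p + 1) ≤ rk (κ p) (ρ p) (insert x (Set.range u))) →
    (∀ p ∈ X, A ≤ p.asIdeal → ρ p x ≠ 0) →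
    ∃ w ∈ (A • Submodule.span R (Set.range u) : Submodule R V), ∀ p ∈ X, ρ p (x + w) ≠ 0 := by
  intro t
  induction t with
  | zero =>
    intro x u h1 h2
    refine ⟨0, Submodule.zero_mem _, fun p hp h0 => ?_⟩
    have := h1 p hp
    rw [add_zero] at h0
    have hr : Set.range u = ∅ := Set.range_eq_empty u
    have h3 : rk (κ p) (ρ p) (insert x (Set.range u)) = 0 := by
      have h4 : (ρ p) '' (insert x (Set.range u)) = {0} := by
        rw [hr]; simp [h0]
      rw [rk, spanK, h4, Submodule.span_zero_singleton]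
      exact finrank_bot _ _
    omega
  | succ t ih =>
    intro x u h1 h2
    set z := u (Fin.last t) with hz
    set u₀ : Fin t → V := fun i => u i.castSucc with hu₀
    have hset : insert x (Set.range u) = insert z (insert x (Set.range u₀)) := by
      ext v
      simp only [Set.mem_insert_iff, Set.mem_range]
      constructor
      · rintro (rfl | ⟨i, rfl⟩)
        · exact Or.inr (Or.inl rfl)
        · induction i using Fin.lastCases with
          | last => exact Or.inl rfl
          | cast i => exact Or.inr (Or.inr ⟨i, rfl⟩)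
      · rintro (rfl | rfl | ⟨i, rfl⟩)
        · exact Or.inr ⟨_, rfl⟩
        · exact Or.inl rfl
        · exact Or.inr ⟨_, rfl⟩
    obtain ⟨b₀, hb₀, b, hb⟩ := step ρ X δ hδ hcl A x u₀ z
      (fun p hp => by rw [← hset]; exact h1 p hp) h2
    have h2' : ∀ p ∈ X, A ≤ p.asIdeal → ρ p (x + b₀ • z) ≠ 0 := by
      intro p hp hA
      have hb0 : algebraMap R (κ p) b₀ = 0 := algebraMap_κ_eq_zero.mpr (hA hb₀)
      rw [map_add, ρ_smul (κ p) (ρ p), hb0, zero_smul, add_zero]
      exact h2 p hp hA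
    obtain ⟨w', hw', hw'ne⟩ := ih (x + b₀ • z) (fun i => u₀ i + b i • z) hb h2'
    refine ⟨b₀ • z + w', ?_, fun p hp => ?_⟩
    · refine Submodule.add_mem _
        (Submodule.smul_mem_smul hb₀ (Submodule.subset_span ⟨_, rfl⟩)) ?_
      refine Submodule.smul_mono le_rfl (Submodule.span_le.mpr ?_) hw'
      rintro _ ⟨i, rfl⟩
      exact Submodule.add_mem _ (Submodule.subset_span ⟨_, rfl⟩)
        (Submodule.smul_mem _ _ (Submodule.subset_span ⟨_, rfl⟩))
    · rw [← add_assoc]
      exact hw'ne p hp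

end Global

end Groth.Agent.Lib.BasicElt6b
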