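import Groth.Prelude.Def_CohTop
import Groth.Agent.Lib.AcyclicClassGraded
import Groth.Agent.Lib.FlasqueAcyclic
import Mathlib.Algebra.Homology.DerivedCategory.Ext.ExactSequences
import Mathlib.Topology.Sheaves.LocallySurjective

/-!
# Higher direct images vanish when cohomology vanishes on the preimages of a basis

For a continuous map `f : X ⟶ S`, a basis `B` of the opens of `S` and an abelian sheaf `A` on `X` such
that `H'^(n+1)(f⁻¹V, A) = 0` for all `V ∈ B` and all `n ≥ k`, the higher direct images `R^(q+1) f_* A`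
vanish for `q ≥ k` (`isZero_Rpush_succ`).
-/

set_option autoImplicit false
universe u
open CategoryTheory CategoryTheory.Limits TopologicalSpace Opposite Abelian

namespace Groth.Agent.Lib.BasisAcyclic

open Groth.Agent.Lib.FlasqueAcyclic

variable {X S : TopCat.{u}} (f : X ⟶ S) (B : Set (Opens S))

/-- `A` has no cohomology in degrees `> k` on the preimages of the members of `B`. -/
def IsAcyclicAbove (k : ℕ) (A : CohTop.Ab X) : Prop :=
  ∀ V ∈ B, ∀ n : ℕ, k ≤ n → ∀ α : Ext (freeSh ((Opens.map f).obj V)) A (n + 1), α = 0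

variable {f B}

lemma isAcyclicAbove_of_iso {k : ℕ} {A A' : CohTop.Ab X} (e : A ≅ A')
    (hA : IsAcyclicAbove f B k A) : IsAcyclicAbove f B k A' := by
  intro V hV n hn α
  have h1 : (α.comp (Ext.mk₀ e.inv) (add_zero _)).comp (Ext.mk₀ e.hom) (add_zero _) = α := by
    rw [Ext.comp_assoc_of_second_deg_zero, Ext.mk₀_comp_mk₀, e.inv_hom_id, Ext.comp_mk₀_id]
  have h2 := hA V hV n hn (α.comp (Ext.mk₀ e.inv) (add_zero _))
  rw [← h1, h2, Ext.zero_comp]

lemma isAcyclicAbove_of_injective (k : ℕ) (I : CohTop.Ab X) [Injective I] :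
    IsAcyclicAbove f B k I :=
  fun _ _ _ _ α => Ext.eq_zero_of_injective α

lemma isAcyclicAbove_mono {k k' : ℕ} (h : k ≤ k') {A : CohTop.Ab X}
    (hA : IsAcyclicAbove f B k A) : IsAcyclicAbove f B k' A :=
  fun V hV n hn α => hA V hV n (h.trans hn) α

lemma isAcyclicAbove_X₃ {T : ShortComplex (CohTop.Ab X)} (hT : T.ShortExact) {k : ℕ}
    (h1 : IsAcyclicAbove f B (k + 1) T.X₁) (h2 : IsAcyclicAbove f B k T.X₂) :
    IsAcyclicAbove f B k T.X₃ := by
  intro V hV n hn α
  obtain ⟨β, rfl⟩ := Ext.covariant_sequence_exact₃ _ hT α (rfl : n + 1 + 1 = n + 2)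
    (h1 V hV (n + 1) (by omega) _)
  rw [h2 V hV n hn β, Ext.zero_comp]

lemma surjective_app {T : ShortComplex (CohTop.Ab X)} (hT : T.ShortExact)
    (h1 : IsAcyclicAbove f B 0 T.X₁) (V : Opens S) (hV : V ∈ B) :
    Function.Surjective (T.g.hom.app (op ((Opens.map f).obj V))) := by
  intro s
  obtain ⟨x₂, hx₂⟩ := Ext.covariant_sequence_exact₃ _ hT
    (Ext.mk₀ ((homEquiv ((Opens.map f).obj V) T.X₃).symm s)) (rfl : 0 + 1 = 1)
    (h1 V hV 0 le_rfl _)
  obtain ⟨ψ, rfl⟩ := (Ext.mk₀_bijective _ _).2 x₂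
  rw [Ext.mk₀_comp_mk₀] at hx₂
  have hψ := (Ext.mk₀_bijective _ _).1 hx₂
  refine ⟨homEquiv _ _ ψ, ?_⟩
  rw [← homEquiv_comp, hψ, Equiv.apply_symm_apply]

lemma epi_push_map_g (hB : Opens.IsBasis B) {T : ShortComplex (CohTop.Ab X)} (hT : T.ShortExact)
    (h1 : IsAcyclicAbove f B 0 T.X₁) : Epi ((CohTop.push f).map T.g) := by
  refine (TopCat.Sheaf.isLocallySurjective_iff_epi (X := S) ((CohTop.push f).map T.g)).1 ?_
  rw [TopCat.Presheaf.isLocallySurjective_iff]
  intro U t x hx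
  obtain ⟨W, hW, hxW, hWU'⟩ := Opens.isBasis_iff_nbhd.1 hB hx
  refine ⟨W, hWU', ?_, hxW⟩
  obtain ⟨s, hs⟩ := surjective_app hT h1 W hW
    (((CohTop.push f).obj T.X₃).obj.map (homOfLE hWU').op t)
  exact ⟨s, hs⟩

instance preservesFiniteLimits_push : PreservesFiniteLimits (CohTop.push f) := by
  have : (CohTop.push f).IsRightAdjoint :=
    (TopCat.Sheaf.pullbackPushforwardAdjunction AddCommGrpCat.{u} f).isRightAdjoint
  infer_instance

/-- **Vanishing of higher direct images from vanishing on a basis.** -/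
theorem isZero_Rpush_succ (hB : Opens.IsBasis B) (A : CohTop.Ab X) (k : ℕ)
    (hA : IsAcyclicAbove f B k A) (q : ℕ) (hq : k ≤ q) :
    IsZero ((CohTop.Rpush f (q + 1)).obj A) :=
  Groth.Agent.Lib.AcyclicClass.isZero_rightDerived_succ_of_graded (CohTop.push f)
    (fun k (A : CohTop.Ab X) => IsAcyclicAbove f B k A)
    (fun _ _ _ e h => isAcyclicAbove_of_iso e h)
    (fun k _ hT _ h1 => isAcyclicAbove_X₃ hT h1 (isAcyclicAbove_of_injective k _))
    (fun _ hT _ h1 => isAcyclicAbove_X₃ hT (isAcyclicAbove_mono (Nat.zero_le 1) h1)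
      (isAcyclicAbove_of_injective 0 _))
    (fun _ hT h1 => epi_push_map_g hB hT h1)
    A k hA q hq

end Groth.Agent.Lib.BasisAcyclic
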