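import Groth.Agent.Lib.TFunCompare

/-!
# `H_q(B ⊗_A P) ≅ T_q(B)` is compatible with the actions of `B` (helper44)

helper84's `TFunCompare.homologyCompare B P q` is an `A`-linear isomorphism between (the underlying `A`-module of)
`H_q(B ⊗_A P)` and `T_q(B) = H_q(P ⊗_A B)`.  Here: it intertwines multiplication by `b ∈ B` with
`T_q(b ·)`.  Consequently an additive isomorphism onto `T_q(B)` equivariant for the functorial `B`-action gives a
`B`-linear isomorphism onto `H_q(B ⊗_A P)`.
-/

set_option autoImplicit false
universe u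

open CategoryTheory CategoryTheory.Limits MonoidalCategory CohIII TensorProduct

namespace Groth.Agent.Lib.TFunCompareLinH44

open Groth.Agent.Lib.TFunCompare

variable {A : Type u} [CommRing A] (B : Type u) [CommRing B] [Algebra A B]

/-- multiplication by `b` on `B`, as an `A`-linear endomorphism -/
noncomputable abbrev mulB (b : B) : ModuleCat.of A B ⟶ ModuleCat.of A B :=
  ModuleCat.ofHom (LinearMap.mulLeft A b)

/-- multiplication by `b` on `B ⊗_A X`, on the underlying `A`-module -/
noncomputable abbrev smulFB (X : ModuleCat.{u} A) (b : B) :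
    (RB (A := A) B).obj ((FB (A := A) B).obj X) ⟶ (RB (A := A) B).obj ((FB (A := A) B).obj X) :=
  (RB (A := A) B).map (b • 𝟙 ((FB (A := A) B).obj X))

theorem smulFB_tmul (X : ModuleCat.{u} A) (b b' : B) (x : X) :
    (smulFB B X b).hom (b' ⊗ₜ[A] x : (FB (A := A) B).obj X) =
      ((b * b') ⊗ₜ[A] x : (FB (A := A) B).obj X) := rfl

theorem sigmaEquiv_smul_aux (X : ModuleCat.{u} A) (b : B) (w : X ⊗[A] B) :
    sigmaEquiv B X ((smulFB B X b).hom ((sigmaEquiv B X).symm w)) =
      LinearMap.lTensor X (LinearMap.mulLeft A b) w := by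
  induction w using TensorProduct.induction_on with
  | zero => simp only [map_zero]
  | tmul x b' =>
    have h1 : (sigmaEquiv B X).symm (x ⊗ₜ[A] b') = (b' ⊗ₜ[A] x : (FB (A := A) B).obj X) := by
      rw [LinearEquiv.symm_apply_eq, sigmaEquiv_tmul]
    rw [h1, smulFB_tmul, sigmaEquiv_tmul]
    rfl
  | add w₁ w₂ h₁ h₂ => rw [map_add, map_add, map_add, map_add, h₁, h₂]

theorem sigma_smul (X : ModuleCat.{u} A) (b : B) :
    (RB (A := A) B).map (b • 𝟙 ((FB (A := A) B).obj X)) ≫ (sigma B X).hom =
      (sigma B X).hom ≫ (X ◁ mulB B b) := by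
  ext z
  have h := sigmaEquiv_smul_aux B X b (sigmaEquiv B X z)
  rw [LinearEquiv.symm_apply_apply] at h
  exact h

variable {ι : Type} {c : ComplexShape ι} (P : HomologicalComplex (ModuleCat.{u} A) c) (q : ι)

theorem smul_homology' (K : HomologicalComplex (ModuleCat.{u} B) c) (b : B) (x : K.homology q) :
    b • x = (HomologicalComplex.homologyMap (b • 𝟙 K) q).hom x := by
  have h : HomologicalComplex.homologyMap (b • 𝟙 K) q = b • 𝟙 (K.homology q) := by
    change ShortComplex.homologyMap ((HomologicalComplex.shortComplexFunctor _ c q).map (b • 𝟙 K)) = _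
    have h1 : (HomologicalComplex.shortComplexFunctor (ModuleCat.{u} B) c q).map (b • 𝟙 K) =
        b • 𝟙 (K.sc q) := rfl
    rw [h1, ShortComplex.homologyMap_smul, ShortComplex.homologyMap_id]
    rfl
  rw [h]
  rfl

/-- the morphism of short complexes induced by multiplication by `b` on `B ⊗ P` -/
theorem scIso_smul (b : B) :
    (RB (A := A) B).mapShortComplex.map ((HomologicalComplex.shortComplexFunctor _ c q).map
        (b • 𝟙 (bcCx (algebraMap A B) P))) ≫ (scIso B P q).hom =
      (scIso B P q).hom ≫ (HomologicalComplex.shortComplexFunctor _ c q).map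
        (tensorMap P (mulB B b)) := by
  apply ShortComplex.hom_ext
  · exact sigma_smul B _ b
  · exact sigma_smul B _ b
  · exact sigma_smul B _ b

/-- **`homologyCompare` intertwines `b ·` with `T_q(b ·)`.** -/
theorem homologyCompare_smul (b : B) (z : (bcCx (algebraMap A B) P).homology q) :
    (homologyCompare B P q).hom.hom (b • z) =
      ((TFun P q).map (mulB B b)).hom ((homologyCompare B P q).hom.hom z) := by
  rw [smul_homology' B q (bcCx (algebraMap A B) P) b z]
  obtain ⟨ψ, hψ⟩ : ∃ f : (bcCx (algebraMap A B) P).sc q ⟶ (bcCx (algebraMap A B) P).sc q,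
      f = (HomologicalComplex.shortComplexFunctor _ c q).map (b • 𝟙 (bcCx (algebraMap A B) P)) :=
    ⟨_, rfl⟩
  obtain ⟨Fψ, hFψ⟩ : ∃ f : ((bcCx (algebraMap A B) P).sc q).map (RB (A := A) B) ⟶
      ((bcCx (algebraMap A B) P).sc q).map (RB (A := A) B),
      f = (RB (A := A) B).mapShortComplex.map ψ := ⟨_, rfl⟩
  obtain ⟨τ, hτ⟩ : ∃ f : (tensorObj P (ModuleCat.of A B)).sc q ⟶ (tensorObj P (ModuleCat.of A B)).sc q,
      f = (HomologicalComplex.shortComplexFunctor _ c q).map (tensorMap P (mulB B b)) := ⟨_, rfl⟩
  have hnat : ShortComplex.homologyMap Fψ ≫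
      (((bcCx (algebraMap A B) P).sc q).mapHomologyIso (RB (A := A) B)).hom =
      (((bcCx (algebraMap A B) P).sc q).mapHomologyIso (RB (A := A) B)).hom ≫
        (RB (A := A) B).map (ShortComplex.homologyMap ψ) := by
    rw [hFψ]
    exact ShortComplex.mapHomologyIso_hom_naturality ψ (RB (A := A) B)
  have hsc : Fψ ≫ (scIso B P q).hom = (scIso B P q).hom ≫ τ := by
    rw [hFψ, hψ, hτ]
    exact scIso_smul B P q b
  have hinv : (RB (A := A) B).map (ShortComplex.homologyMap ψ) ≫
      (((bcCx (algebraMap A B) P).sc q).mapHomologyIso (RB (A := A) B)).inv =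
      (((bcCx (algebraMap A B) P).sc q).mapHomologyIso (RB (A := A) B)).inv ≫
        ShortComplex.homologyMap Fψ := by
    rw [Iso.comp_inv_eq, Category.assoc, hnat, Iso.inv_hom_id_assoc]
  have h2 : (RB (A := A) B).map (ShortComplex.homologyMap ψ) ≫
      ((((bcCx (algebraMap A B) P).sc q).mapHomologyIso (RB (A := A) B)).inv ≫
        ShortComplex.homologyMap (scIso B P q).hom) =
      ((((bcCx (algebraMap A B) P).sc q).mapHomologyIso (RB (A := A) B)).inv ≫
        ShortComplex.homologyMap (scIso B P q).hom) ≫ ShortComplex.homologyMap τ := by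
    rw [← Category.assoc, hinv, Category.assoc, Category.assoc, ← ShortComplex.homologyMap_comp,
      ← ShortComplex.homologyMap_comp, hsc]
  have h3 : (RB (A := A) B).map (HomologicalComplex.homologyMap (b • 𝟙 (bcCx (algebraMap A B) P)) q) ≫
      (homologyCompare B P q).hom = (homologyCompare B P q).hom ≫ (TFun P q).map (mulB B b) := by
    rw [hψ, hτ] at h2
    exact h2
  exact ConcreteCategory.congr_hom h3 z

/-- An additive isomorphism onto `T_q(B)` which is equivariant for the functorial action of `B` gives a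
`B`-linear isomorphism onto `H_q(B ⊗_A P)`. -/
theorem nonempty_linearEquiv_of_equivariant {H : Type u} [AddCommGroup H] [Module B H]
    (e : H ≃+ (TFun P q).obj (ModuleCat.of A B))
    (he : ∀ (b : B) (x : H), e (b • x) = ((TFun P q).map (mulB B b)).hom (e x)) :
    Nonempty (H ≃ₗ[B] (bcCx (algebraMap A B) P).homology q) := by
  let hC : (bcCx (algebraMap A B) P).homology q ≃+ (TFun P q).obj (ModuleCat.of A B) :=
    { toFun := fun z => (homologyCompare B P q).hom.hom z
      invFun := fun w => (homologyCompare B P q).inv.hom w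
      left_inv := fun z => by
        change ((homologyCompare B P q).hom ≫ (homologyCompare B P q).inv).hom z = z
        rw [Iso.hom_inv_id]
        rfl
      right_inv := fun w => by
        change ((homologyCompare B P q).inv ≫ (homologyCompare B P q).hom).hom w = w
        rw [Iso.inv_hom_id]
        rfl
      map_add' := fun z z' => map_add (homologyCompare B P q).hom.hom z z' }
  have hCs : ∀ (b : B) (z : (bcCx (algebraMap A B) P).homology q),
      hC (b • z) = ((TFun P q).map (mulB B b)).hom (hC z) := homologyCompare_smul B P q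
  refine ⟨{ e.trans hC.symm with map_smul' := fun b x => ?_ }⟩
  change hC.symm (e (b • x)) = b • hC.symm (e x)
  apply hC.injective
  rw [AddEquiv.apply_symm_apply, hCs, AddEquiv.apply_symm_apply, he]

end Groth.Agent.Lib.TFunCompareLinH44
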