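import Groth.Agent.Lib.LinLiftH44
import Groth.Agent.Lib.TFunCompareLinH44

/-!
# Recognizing the base-changed complex `R ⊗_A Φ₀(A)` (helper44)

`Φ₀ : ModuleCat A ⥤ complexes of abelian groups` additive and preserving colimits degreewise, `C = Φ₀(A)` with its
functorial `A`-module structure (`linLift`), `R` an `A`-algebra.  A complex `K'` of `R`-modules whose underlying
complex of abelian groups is identified with `Φ₀(R)`, compatibly with the action of `R` (acting on `Φ₀(R)` by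
functoriality), is isomorphic to `bcCx (algebraMap A R) C = R ⊗_A C`.
-/

set_option autoImplicit false
universe u

open CategoryTheory CategoryTheory.Limits MonoidalCategory CohIII TensorProduct

namespace Groth.Agent.Lib.BcCxLiftH44

open Groth.Agent.Lib.LinLiftH44 Groth.Agent.Lib.EWCxH44 Groth.Agent.Lib.EWH44
  Groth.Agent.Lib.TFunCompare Groth.Agent.Lib.TFunCompareLinH44

variable {A : Type u} [CommRing A] (R : Type u) [CommRing R] [Algebra A R]
  {ι : Type} {c : ComplexShape ι}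
  (Φ₀ : ModuleCat.{u} A ⥤ HomologicalComplex AddCommGrpCat.{u} c) [Φ₀.Additive]
  [∀ n, PreservesColimitsOfSize.{u, u} (Φ₀ ⋙ HomologicalComplex.eval AddCommGrpCat.{u} c n)]

/-- the complex `C = Φ₀(A)` with its functorial `A`-module structure -/
noncomputable abbrev cx : HomologicalComplex (ModuleCat.{u} A) c :=
  (linLift Φ₀).obj (ModuleCat.of A A)

/-- `γ_n : R ⊗_A C_n → Φ₀(R)_n`, `r ⊗ y ↦ Φ₀(1 ↦ r)(y)` -/
noncomputable def gamFun (n : ι) (z : (bcCx (algebraMap A R) (cx Φ₀)).X n) :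
    (Φ₀.obj (ModuleCat.of A R)).X n :=
  ((ewCxApp (linLift Φ₀) (ModuleCat.of A R)).hom.f n).hom (sigmaEquiv R ((cx Φ₀).X n) z)

theorem gamFun_add (n : ι) (z z' : (bcCx (algebraMap A R) (cx Φ₀)).X n) :
    gamFun R Φ₀ n (z + z') = gamFun R Φ₀ n z + gamFun R Φ₀ n z' := by
  unfold gamFun
  have h : sigmaEquiv R ((cx Φ₀).X n) (z + z') =
      sigmaEquiv R ((cx Φ₀).X n) z + sigmaEquiv R ((cx Φ₀).X n) z' :=
    (sigmaEquiv R ((cx Φ₀).X n)).map_add z z'
  rw [h]
  exact map_add ((ewCxApp (linLift Φ₀) (ModuleCat.of A R)).hom.f n).hom _ _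

theorem gamFun_bijective (n : ι) : Function.Bijective (gamFun R Φ₀ n) := by
  have : IsIso ((ewCxApp (linLift Φ₀) (ModuleCat.of A R)).hom.f n) := inferInstance
  have h1 : Function.Bijective ((ewCxApp (linLift Φ₀) (ModuleCat.of A R)).hom.f n).hom :=
    (ConcreteCategory.isIso_iff_bijective _).mp inferInstance
  exact h1.comp (sigmaEquiv R ((cx Φ₀).X n)).bijective

/-- `γ` intertwines multiplication by `r` with `Φ₀(r ·)` -/
theorem gamFun_smul (n : ι) (r : R) (z : (bcCx (algebraMap A R) (cx Φ₀)).X n) :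
    gamFun R Φ₀ n (r • z) = ((Φ₀.map (mulB R r)).f n).hom (gamFun R Φ₀ n z) := by
  unfold gamFun
  have h1 : sigmaEquiv R ((cx Φ₀).X n) (r • z) =
      LinearMap.lTensor ((cx Φ₀).X n) (LinearMap.mulLeft A r) (sigmaEquiv R ((cx Φ₀).X n) z) := by
    have h := sigmaEquiv_smul_aux R ((cx Φ₀).X n) r (sigmaEquiv R ((cx Φ₀).X n) z)
    rw [LinearEquiv.symm_apply_apply] at h
    exact h
  rw [h1]
  have h2 := (ewCxIso (linLift Φ₀)).hom.naturality (mulB R r)
  have h3 := congrArg (fun φ => (φ.f n).hom (sigmaEquiv R ((cx Φ₀).X n) z)) h2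
  exact h3

/-- `γ` is a morphism of complexes -/
theorem gamFun_d (i j : ι) (z : (bcCx (algebraMap A R) (cx Φ₀)).X i) :
    gamFun R Φ₀ j (((bcCx (algebraMap A R) (cx Φ₀)).d i j).hom z) =
      ((Φ₀.obj (ModuleCat.of A R)).d i j).hom (gamFun R Φ₀ i z) := by
  unfold gamFun
  have h1 : sigmaEquiv R ((cx Φ₀).X j) (((bcCx (algebraMap A R) (cx Φ₀)).d i j).hom z) =
      LinearMap.rTensor R ((cx Φ₀).d i j).hom (sigmaEquiv R ((cx Φ₀).X i) z) :=
    sigmaEquiv_natural R ((cx Φ₀).d i j) z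
  rw [h1]
  have h2 := (ewCxApp (linLift Φ₀) (ModuleCat.of A R)).hom.comm i j
  have h3 := congrArg (fun φ => φ.hom (sigmaEquiv R ((cx Φ₀).X i) z)) h2
  exact h3.symm

/-- **Recognition of `R ⊗_A C`.** -/
theorem nonempty_iso_bcCx (K' : HomologicalComplex (ModuleCat.{u} R) c)
    (θ : ∀ n, K'.X n ≃+ (Φ₀.obj (ModuleCat.of A R)).X n)
    (hθd : ∀ (i j : ι) (x : K'.X i),
      θ j ((K'.d i j).hom x) = ((Φ₀.obj (ModuleCat.of A R)).d i j).hom (θ i x))
    (hθs : ∀ (r : R) (n : ι) (x : K'.X n),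
      θ n (r • x) = ((Φ₀.map (mulB R r)).f n).hom (θ n x)) :
    Nonempty (bcCx (algebraMap A R) (cx Φ₀) ≅ K') := by
  let lin : ∀ n, (bcCx (algebraMap A R) (cx Φ₀)).X n →ₗ[R] K'.X n := fun n =>
    { toFun := fun z => (θ n).symm (gamFun R Φ₀ n z)
      map_add' := fun z z' => by rw [gamFun_add, map_add]
      map_smul' := fun r z => by
        apply (θ n).injective
        rw [AddEquiv.apply_symm_apply, RingHom.id_apply, hθs, AddEquiv.apply_symm_apply, gamFun_smul] }
  have bij : ∀ n, Function.Bijective (lin n) := fun n =>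
    (θ n).symm.bijective.comp (gamFun_bijective R Φ₀ n)
  refine ⟨HomologicalComplex.Hom.isoOfComponents
    (fun n => (LinearEquiv.ofBijective (lin n) (bij n)).toModuleIso) ?_⟩
  intro i j _
  apply ModuleCat.hom_ext
  refine LinearMap.ext fun z => ?_
  change (K'.d i j).hom ((θ i).symm (gamFun R Φ₀ i z)) =
    (θ j).symm (gamFun R Φ₀ j (((bcCx (algebraMap A R) (cx Φ₀)).d i j).hom z))
  apply (θ j).injective
  rw [hθd, AddEquiv.apply_symm_apply, AddEquiv.apply_symm_apply, gamFun_d]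

end Groth.Agent.Lib.BcCxLiftH44
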