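import Groth.Agent.Lib.DStupid
import Groth.Agent.Lib.DSingleHom
import Mathlib.Algebra.Category.ModuleCat.Biproducts
import Mathlib.RingTheory.Finiteness.Projective

/-!
# Thick closure: properties of objects of `D(R)` containing `R[0]`

Namespace `Groth.Agent.Lib.DThick`.  For a property `P` of objects of a pretriangulated category
closed under isomorphisms, extensions and direct summands: zero objects, biproducts, retracts.
For `D(R)`: if moreover `P` is stable under shifts and holds for `R[0]`, it holds for every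
`M[-i]` with `M` a finite projective module, hence for every bounded complex of finite projective
modules (`prop_of_bounded_finite_projective`).
-/

set_option autoImplicit false
universe w v u
open CategoryTheory CategoryTheory.Limits CategoryTheory.Pretriangulated ZeroObject

namespace Groth.Agent.Lib.DThick

section General

variable {D : Type*} [Category D] [Preadditive D] [HasZeroObject D] [HasShift D ℤ]
  [∀ n : ℤ, (shiftFunctor D n).Additive] [Pretriangulated D]
  (P : ObjectProperty D) [P.IsClosedUnderIsomorphisms]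

include P in
lemma prop_of_isZero
    (hshift : ∀ (K : D) (n : ℤ), P K → P (K⟦n⟧))
    (hext : ∀ T ∈ distTriang D, P T.obj₁ → P T.obj₃ → P T.obj₂)
    (X : D) (hX : P X) {Z : D} (hZ : IsZero Z) : P Z := by
  have h0 : P (0 : D) := hext _ (contractible_distinguished₂ X) hX (hshift X 1 hX)
  exact P.prop_of_iso ((isZero_zero D).iso hZ) h0

omit [P.IsClosedUnderIsomorphisms] in
include P in
lemma prop_biprod
    (hext : ∀ T ∈ distTriang D, P T.obj₁ → P T.obj₃ → P T.obj₂)
    (X Y : D) (hX : P X) (hY : P Y) : P (X ⊞ Y) :=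
  hext _ (binaryBiproductTriangle_distinguished X Y) hX hY

include P in
lemma prop_of_retract
    (hsum : ∀ (X Y : D) [HasBinaryBiproduct X Y], P (X ⊞ Y) → P X)
    {A B : D} (i : A ⟶ B) (r : B ⟶ A) (hir : i ≫ r = 𝟙 A) (hB : P B) : P A := by
  obtain ⟨C, g, δ, hT⟩ := distinguished_cocone_triangle i
  have hmono : Mono i := SplitMono.mono ⟨r, hir⟩
  have h0 : (Triangle.mk i g δ).mor₃ = 0 := Triangle.mor₃_eq_zero_of_mono₁ _ hT hmono
  obtain ⟨e, -, -⟩ := exists_iso_binaryBiproduct_of_distTriang _ hT h0
  exact hsum A C (P.prop_of_iso e hB)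

end General

section Module

variable {R : Type u} [CommRing R] [HasDerivedCategory.{w} (ModuleCat.{u} R)]
  (P : ObjectProperty (DerivedCategory (ModuleCat.{u} R))) [P.IsClosedUnderIsomorphisms]

include P in
lemma prop_single_free
    (hR : P ((DerivedCategory.singleFunctor (ModuleCat.{u} R) 0).obj (ModuleCat.of R R)))
    (hshift : ∀ (K : DerivedCategory (ModuleCat.{u} R)) (n : ℤ), P K → P (K⟦n⟧))
    (hext : ∀ T ∈ distTriang (DerivedCategory (ModuleCat.{u} R)),
      P T.obj₁ → P T.obj₃ → P T.obj₂)
    (i : ℤ) (n : ℕ) :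
    P ((DerivedCategory.singleFunctor (ModuleCat.{u} R) i).obj (ModuleCat.of R (Fin n → R))) := by
  have hRi : P ((DerivedCategory.singleFunctor (ModuleCat.{u} R) i).obj (ModuleCat.of R R)) :=
    P.prop_of_iso ((Groth.Agent.Lib.DSplit.shiftSingleIso (C := ModuleCat.{u} R)
      (-i) i (by lia)).app _) (hshift _ (-i) hR)
  induction n with
  | zero =>
    refine prop_of_isZero P hshift hext _ hR (Functor.map_isZero _ ?_)
    exact ModuleCat.isZero_of_subsingleton _
  | succ n ih =>
    let F := DerivedCategory.singleFunctor (ModuleCat.{u} R) i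
    have : PreservesBinaryBiproducts F := preservesBinaryBiproducts_of_preservesBiproducts F
    have e : ModuleCat.of R (Fin (n + 1) → R) ≅
        (ModuleCat.of R R ⊞ ModuleCat.of R (Fin n → R) : ModuleCat.{u} R) :=
      (Fin.consLinearEquiv R (fun _ : Fin (n + 1) => R)).symm.toModuleIso ≪≫
        (ModuleCat.biprodIsoProd (ModuleCat.of R R) (ModuleCat.of R (Fin n → R))).symm
    refine P.prop_of_iso (F.mapIso e ≪≫ F.mapBiprod _ _).symm ?_
    exact prop_biprod P hext _ _ hRi ih

include P in
lemma prop_single_finite_projective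
    (hR : P ((DerivedCategory.singleFunctor (ModuleCat.{u} R) 0).obj (ModuleCat.of R R)))
    (hshift : ∀ (K : DerivedCategory (ModuleCat.{u} R)) (n : ℤ), P K → P (K⟦n⟧))
    (hext : ∀ T ∈ distTriang (DerivedCategory (ModuleCat.{u} R)),
      P T.obj₁ → P T.obj₃ → P T.obj₂)
    (hsum : ∀ (X Y : DerivedCategory (ModuleCat.{u} R)) [HasBinaryBiproduct X Y],
      P (X ⊞ Y) → P X)
    (i : ℤ) (M : ModuleCat.{u} R) [Module.Finite R M] [Module.Projective R M] :
    P ((DerivedCategory.singleFunctor (ModuleCat.{u} R) i).obj M) := by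
  obtain ⟨n, f, g, -, -, hfg⟩ := Module.Finite.exists_comp_eq_id_of_projective R M
  let F := DerivedCategory.singleFunctor (ModuleCat.{u} R) i
  refine prop_of_retract P hsum (F.map (ModuleCat.ofHom g : M ⟶ ModuleCat.of R (Fin n → R)))
    (F.map (ModuleCat.ofHom f)) ?_ (prop_single_free P hR hshift hext i n)
  rw [← F.map_comp, ← CategoryTheory.Functor.map_id]
  congr 1
  ext x
  exact congr($hfg x)

include P in
/-- A property of objects of `D(R)` closed under isomorphisms, shifts, extensions and summands
and containing `R[0]` contains all bounded complexes of finite projective modules. -/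
theorem prop_of_bounded_finite_projective
    (hR : P ((DerivedCategory.singleFunctor (ModuleCat.{u} R) 0).obj (ModuleCat.of R R)))
    (hshift : ∀ (K : DerivedCategory (ModuleCat.{u} R)) (n : ℤ), P K → P (K⟦n⟧))
    (hext : ∀ T ∈ distTriang (DerivedCategory (ModuleCat.{u} R)),
      P T.obj₁ → P T.obj₃ → P T.obj₂)
    (hsum : ∀ (X Y : DerivedCategory (ModuleCat.{u} R)) [HasBinaryBiproduct X Y],
      P (X ⊞ Y) → P X)
    (E : CochainComplex (ModuleCat.{u} R) ℤ) (a b : ℤ)
    (hE : ∀ i : ℤ, i < a ∨ b < i → IsZero (E.X i))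
    (hfp : ∀ i : ℤ, Module.Finite R (E.X i) ∧ Module.Projective R (E.X i)) :
    P (DerivedCategory.Q.obj E) := by
  refine Groth.Agent.Lib.DStupid.stupid_devissage P hext
    (fun Z hZ => prop_of_isZero P hshift hext _ hR hZ) E a b hE (fun i => ?_)
  obtain ⟨h1, h2⟩ := hfp i
  exact prop_single_finite_projective P hR hshift hext hsum i (E.X i)

end Module

end Groth.Agent.Lib.DThick
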