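import Groth.Agent.Lib.MixMain35
import Mathlib.Algebra.Homology.BifunctorShift
import Mathlib.CategoryTheory.Shift.Adjunction
import Mathlib.Algebra.Category.ModuleCat.Monoidal.Adjunction

/-!
# Base case of the dévissage for `RHom(A, -) ≅ - ⊗^L_R RHom(A, R)`: shifts of the unit (helper35)
-/

set_option autoImplicit false
set_option linter.style.haveILetI false
universe u
open CategoryTheory CategoryTheory.Limits Category MonoidalCategory TensorProduct
attribute [local instance] HasDerivedCategory.standard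

namespace Groth.Agent.Lib.MixBase35
open DerivedCategory Groth.Agent.Lib.KFlat35 DTen Groth.Agent.Lib.ProjFormula35 HomologicalComplex
  Groth.Agent.Lib.MixZig35 Groth.Agent.Lib.MixTau35

section Abstract

variable {R A : Type u} [CommRing R] [CommRing A] {φ : R →+* A} [HasRHomRel φ]

/-! ### Abstract adjunction lemmas -/

lemma isIso_adj_transfer {Y Y' : Dual.D A} {K K' : Dual.D R}
    (u : (DRing.restrictD φ).obj Y ⟶ K) (u' : (DRing.restrictD φ).obj Y' ⟶ K')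
    (a : Y ⟶ Y') [IsIso a] (k : K ⟶ K') [IsIso k]
    (h : (DRing.restrictD φ).map a ≫ u' = u ≫ k)
    (hu : IsIso ((relAdj φ).homEquiv _ _ u)) : IsIso ((relAdj φ).homEquiv _ _ u') := by
  have e : a ≫ (relAdj φ).homEquiv _ _ u' = (relAdj φ).homEquiv _ _ u ≫ (RHomRel φ).map k := by
    rw [← Adjunction.homEquiv_naturality_left, ← Adjunction.homEquiv_naturality_right, h]
  have e' : (relAdj φ).homEquiv _ _ u' = inv a ≫ (relAdj φ).homEquiv _ _ u ≫ (RHomRel φ).map k := by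
    rw [← e, IsIso.inv_hom_id_assoc]
  rw [e']
  infer_instance

lemma isIso_adj_shift {Y : Dual.D A} {K : Dual.D R}
    (u : (DRing.restrictD φ).obj Y ⟶ K) (m : ℤ)
    (hu : IsIso ((relAdj φ).homEquiv _ _ u)) :
    IsIso ((relAdj φ).homEquiv _ _
      (((DRing.restrictD φ).commShiftIso m).hom.app Y ≫ u⟦m⟧')) := by
  letI := (relAdj φ).rightAdjointCommShift ℤ
  haveI := (relAdj φ).commShift_of_leftAdjoint ℤ
  have nat := ((RHomRel φ).commShiftIso m).hom.naturality u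
  dsimp only [Functor.comp_map] at nat
  have key : ((relAdj φ).homEquiv _ _ u)⟦m⟧' =
      (relAdj φ).homEquiv _ _ (((DRing.restrictD φ).commShiftIso m).hom.app Y ≫ u⟦m⟧') ≫
        ((RHomRel φ).commShiftIso m).hom.app K := by
    rw [Adjunction.homEquiv_unit, Adjunction.homEquiv_unit, Functor.map_comp,
      Adjunction.shift_unit_app, Functor.map_comp, Category.assoc, Category.assoc, Category.assoc,
      Category.assoc, nat]
  have e' : (relAdj φ).homEquiv _ _ (((DRing.restrictD φ).commShiftIso m).hom.app Y ≫ u⟦m⟧') =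
      ((relAdj φ).homEquiv _ _ u)⟦m⟧' ≫ ((RHomRel φ).commShiftIso m).inv.app K := by
    rw [key, Category.assoc, Iso.hom_inv_id_app]
    exact (Category.comp_id _).symm
  rw [e']
  infer_instance

lemma isIso_adj_transfer' {Y Y' : Dual.D A} {K K' : Dual.D R}
    (u : (DRing.restrictD φ).obj Y ⟶ K) (u' : (DRing.restrictD φ).obj Y' ⟶ K')
    (a : Y' ⟶ Y) [IsIso a] (k : K' ⟶ K) [IsIso k]
    (h : (DRing.restrictD φ).map a ≫ u = u' ≫ k)
    (hu : IsIso ((relAdj φ).homEquiv _ _ u)) : IsIso ((relAdj φ).homEquiv _ _ u') := by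
  have e : a ≫ (relAdj φ).homEquiv _ _ u = (relAdj φ).homEquiv _ _ u' ≫ (RHomRel φ).map k := by
    rw [← Adjunction.homEquiv_naturality_left, ← Adjunction.homEquiv_naturality_right, h]
  have e' : (relAdj φ).homEquiv _ _ u' =
      a ≫ (relAdj φ).homEquiv _ _ u ≫ inv ((RHomRel φ).map k) := by
    rw [← Category.assoc, e, Category.assoc, IsIso.hom_inv_id, Category.comp_id]
  rw [e']
  infer_instance

end Abstract

section Chain

set_option backward.isDefEq.respectTransparency false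

/-- shift iso in the second variable, over a ring -/
noncomputable abbrev σ₂ {B : Type u} [CommRing B] (Y P : DRing.Cx B) (m : ℤ) :
    Y ⊗ P⟦m⟧ ≅ (Y ⊗ P)⟦m⟧ :=
  CochainComplex.mapBifunctorShift₂Iso Y P (curriedTensor (ModuleCat.{u} B)) m

lemma σ₂_naturality {B : Type u} [CommRing B] {Y Y' : DRing.Cx B} (f : Y ⟶ Y') (P : DRing.Cx B)
    (m : ℤ) : (f ▷ P⟦m⟧) ≫ (σ₂ Y' P m).hom = (σ₂ Y P m).hom ≫ (f ▷ P)⟦m⟧' := by
  have := NatTrans.shift_app_comm ((curriedTensor (ModuleCat.{u} B)).map₂CochainComplex.map f) m P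
  exact this.symm

lemma ι_σ₂ {B : Type u} [CommRing B] (Y P : DRing.Cx B) (m p q n : ℤ) (h : p + q = n) :
    ιTensorObj Y (P⟦m⟧) p q n h ≫ (σ₂ Y P m).hom.f n =
      (p * m).negOnePow • ιTensorObj Y P p (q + m) (n + m) (by omega) := by
  have := CochainComplex.ι_mapBifunctorShift₂Iso_hom_f Y P (curriedTensor (ModuleCat.{u} B)) m
    p q n h (q + m) (n + m) rfl rfl
  dsimp only [σ₂, ιTensorObj]
  erw [this]
  congr 1
  simp only [CochainComplex.shiftFunctorObjXIso, HomologicalComplex.XIsoOfEq, eqToIso_refl,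
    Iso.refl_hom, Iso.refl_inv, Category.comp_id]
  erw [CategoryTheory.Functor.map_id]
  exact Category.id_comp _

variable {R A : Type u} [CommRing R] [CommRing A] (φ : R →+* A)

/-- `(L ⊗_A ext (P⟦m⟧)) ≅ (L ⊗_A ext P)⟦m⟧` -/
noncomputable def aIso' (L : DRing.Cx A) (P : DRing.Cx R) (m : ℤ) :
    L ⊗ (extCx φ).obj (P⟦m⟧) ≅ (L ⊗ (extCx φ).obj P)⟦m⟧ :=
  asIso ((L ◁ (((extCx φ).commShiftIso m).app P).hom) ≫ (σ₂ L ((extCx φ).obj P) m).hom)

lemma pfCx_shift (L : DRing.Cx A) (P : DRing.Cx R) (m : ℤ) :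
    pfCx φ L (P⟦m⟧) ≫ (resCx φ).map (aIso' φ L P m).hom ≫
      ((resCx φ).commShiftIso m).hom.app (L ⊗ (extCx φ).obj P) =
    (σ₂ ((resCx φ).obj L) P m).hom ≫ (pfCx φ L P)⟦m⟧' := by
  apply HomologicalComplex.hom_ext
  intro n
  apply mapBifunctor.hom_ext
  intro p q h
  have h' : p + q = n := h
  change ιTensorObj ((resCx φ).obj L) (P⟦m⟧) p q n h' ≫ _ =
    ιTensorObj ((resCx φ).obj L) (P⟦m⟧) p q n h' ≫ _
  have hL : ιTensorObj L ((extCx φ).obj (P⟦m⟧)) p q n h' ≫ (aIso' φ L P m).hom.f n =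
      (p * m).negOnePow • ιTensorObj L ((extCx φ).obj P) p (q + m) (n + m) (by omega) := by
    dsimp only [aIso', asIso_hom]
    rw [HomologicalComplex.comp_f, ← Category.assoc, ι_whiskerLeft', Category.assoc]
    have e : L.X p ◁ ((((extCx φ).commShiftIso m).app P).hom).f q =
        𝟙 (L.X p ⊗ ((extCx φ).obj (P⟦m⟧)).X q) := MonoidalCategory.whiskerLeft_id _ _
    rw [e]
    exact (Category.id_comp _).trans (ι_σ₂ L ((extCx φ).obj P) m p q n h')
  have hC : ((resCx φ).map (aIso' φ L P m).hom).f n ≫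
      (((resCx φ).commShiftIso m).hom.app (L ⊗ (extCx φ).obj P)).f n =
        (resM φ).map ((aIso' φ L P m).hom.f n) := Category.comp_id _
  have hR : ((shiftFunctor (DRing.Cx R) m).map (pfCx φ L P)).f n = (pfCx φ L P).f (n + m) := rfl
  rw [HomologicalComplex.comp_f, HomologicalComplex.comp_f, HomologicalComplex.comp_f, hC, hR,
    ← Category.assoc, ι_pfCx, ← Category.assoc (ιTensorObj _ _ p q n h'), ι_σ₂, Category.assoc,
    ← Functor.map_comp, hL, Linear.units_smul_comp, ι_pfCx, Functor.map_units_smul,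
    Linear.comp_units_smul]
  rfl

/-- shifts of K-flat complexes are K-flat -/
lemma isKFlat_shift {B : Type u} [CommRing B] {P : DRing.Cx B} (hP : IsKFlat P) (m : ℤ) :
    IsKFlat (P⟦m⟧) := by
  intro L hL
  have h1 : (HomologicalComplex.tensorObj L P).Acyclic := hP L hL
  have h2 : ((HomologicalComplex.tensorObj L P)⟦m⟧).Acyclic := by
    rw [acyclic_iff_isZero_homology] at h1 ⊢
    intro i
    exact IsZero.of_iso (h1 (m + i))
      (((HomologicalComplex.homologyFunctor (ModuleCat.{u} B) (ComplexShape.up ℤ) 0).shiftIso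
        m i (m + i) rfl).app (HomologicalComplex.tensorObj L P))
  exact acyclic_of_iso (σ₂ L P m).symm h2

end Chain

section DataLevel

set_option backward.isDefEq.respectTransparency false

variable {R A : Type u} [CommRing R] [CommRing A] {φ : R →+* A} [HasRHomRel φ] (d : Data φ)

/-- `X (P⟦m⟧) ≅ (X P)⟦m⟧`, `A`-linearly -/
noncomputable def aIso (P : DRing.Cx R) (m : ℤ) : d.X (P⟦m⟧) ≅ (d.X P)⟦m⟧ :=
  braidCx ((extCx φ).obj (P⟦m⟧)) d.N ≪≫ aIso' φ d.N P m ≪≫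
    (shiftFunctor (DRing.Cx A) m).mapIso (braidCx ((extCx φ).obj P) d.N).symm

lemma pfSwap_shift (P : DRing.Cx R) (m : ℤ) :
    (resCx φ).map (aIso d P m).hom ≫ ((resCx φ).commShiftIso m).hom.app (d.X P) ≫
      (d.pfSwap P).hom⟦m⟧' =
    (d.pfSwap (P⟦m⟧)).hom ≫ (σ₂ ((resCx φ).obj d.N) P m).hom := by
  have nat : (resCx φ).map ((braidCx ((extCx φ).obj P) d.N).inv⟦m⟧') ≫
      ((resCx φ).commShiftIso m).hom.app (d.X P) =
      ((resCx φ).commShiftIso m).hom.app (d.N ⊗ (extCx φ).obj P) ≫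
        ((resCx φ).map (braidCx ((extCx φ).obj P) d.N).inv)⟦m⟧' :=
    ((resCx φ).commShiftIso m).hom.naturality (braidCx ((extCx φ).obj P) d.N).inv
  have key : (resCx φ).map (aIso' φ d.N P m).hom ≫
      ((resCx φ).commShiftIso m).hom.app (d.N ⊗ (extCx φ).obj P) ≫ (pfIso φ d.N P).inv⟦m⟧' =
      (pfIso φ d.N (P⟦m⟧)).inv ≫ (σ₂ ((resCx φ).obj d.N) P m).hom := by
    have h := pfCx_shift φ d.N P m
    rw [Iso.eq_inv_comp]
    change pfCx φ d.N (P⟦m⟧) ≫ _ = _
    rw [← Category.assoc, ← Category.assoc, Category.assoc (pfCx φ d.N (P⟦m⟧)), h, Category.assoc,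
      ← Functor.map_comp]
    change _ ≫ (shiftFunctor (DRing.Cx R) m).map ((pfIso φ d.N P).hom ≫ (pfIso φ d.N P).inv) = _
    rw [Iso.hom_inv_id, CategoryTheory.Functor.map_id, Category.comp_id]
  dsimp only [aIso, Data.pfSwap, Iso.trans_hom, Functor.mapIso_hom, Iso.symm_hom]
  rw [Functor.map_comp, Functor.map_comp, Functor.map_comp]
  simp only [Category.assoc]
  congr 1
  rw [← key]
  congr 1
  rw [← Category.assoc ((resCx φ).map _), nat, Category.assoc,
    ← Category.assoc _ _ ((pfIso φ d.N P).inv⟦m⟧'),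
    ← Functor.map_comp, ← Functor.map_comp, ← Functor.map_comp, Iso.inv_hom_id,
    CategoryTheory.Functor.map_id, Category.id_comp]

/-- the comparison `Q (P⟦m⟧) ≅ (Q P)⟦m⟧`, twisted by unitors -/
noncomputable def kIso (P : DRing.Cx R) (m : ℤ) : Q.obj (P⟦m⟧) ≅ (Q.obj P)⟦m⟧ :=
  Q.mapIso ((λ_ (P⟦m⟧)).symm ≪≫ σ₂ (𝟙_ (DRing.Cx R)) P m ≪≫
    (shiftFunctor (DRing.Cx R) m).mapIso (λ_ P)) ≪≫ (Q.commShiftIso m).app P

lemma kIso_hom (P : DRing.Cx R) (m : ℤ) :
    (kIso P m).hom = Q.map ((λ_ (P⟦m⟧)).inv ≫ (σ₂ (𝟙_ (DRing.Cx R)) P m).hom ≫ (λ_ P).hom⟦m⟧') ≫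
      (Q.commShiftIso m).hom.app P := rfl

lemma κ_shift (P : DRing.Cx R) (hP : IsKFlat P) (m : ℤ) :
    Q.map ((resCx φ).map (aIso d P m).hom ≫ ((resCx φ).commShiftIso m).hom.app (d.X P)) ≫
      (Q.commShiftIso m).hom.app ((resCx φ).obj (d.X P)) ≫ (d.κ P hP)⟦m⟧' =
    d.κ (P⟦m⟧) (isKFlat_shift hP m) ≫ (kIso P m).hom := by
  haveI := d.quasiIso_s_whiskerRight P hP
  haveI := d.quasiIso_s_whiskerRight (P⟦m⟧) (isKFlat_shift hP m)
  have q1 : Q.map ((d.pfSwap P).hom⟦m⟧') ≫ (Q.commShiftIso m).hom.app ((resCx φ).obj d.N ⊗ P) =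
      (Q.commShiftIso m).hom.app ((resCx φ).obj (d.X P)) ≫ (Q.map (d.pfSwap P).hom)⟦m⟧' :=
    (Q.commShiftIso m).hom.naturality _
  have q2 : Q.map ((d.s ▷ P)⟦m⟧') ≫ (Q.commShiftIso m).hom.app ((resCx φ).obj d.N ⊗ P) =
      (Q.commShiftIso m).hom.app (d.N' ⊗ P) ≫ (Q.map (d.s ▷ P))⟦m⟧' :=
    (Q.commShiftIso m).hom.naturality _
  have q3 : Q.map (((d.ε ▷ P) ≫ (λ_ P).hom)⟦m⟧') ≫ (Q.commShiftIso m).hom.app P =
      (Q.commShiftIso m).hom.app (d.N' ⊗ P) ≫ (Q.map ((d.ε ▷ P) ≫ (λ_ P).hom))⟦m⟧' :=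
    (Q.commShiftIso m).hom.naturality _
  have q2' : (Q.commShiftIso m).hom.app ((resCx φ).obj d.N ⊗ P) ≫ (inv (Q.map (d.s ▷ P)))⟦m⟧' =
      inv (Q.map ((d.s ▷ P)⟦m⟧')) ≫ (Q.commShiftIso m).hom.app (d.N' ⊗ P) := by
    rw [Functor.map_inv, IsIso.comp_inv_eq, Category.assoc, IsIso.eq_inv_comp, q2]
  have n1 := σ₂_naturality d.s P m
  have n2 := σ₂_naturality d.ε P m
  have n1' : inv (Q.map (d.s ▷ P⟦m⟧)) ≫ Q.map (σ₂ d.N' P m).hom =
      Q.map (σ₂ ((resCx φ).obj d.N) P m).hom ≫ inv (Q.map ((d.s ▷ P)⟦m⟧')) := by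
    rw [IsIso.inv_comp_eq, ← Category.assoc, IsIso.eq_comp_inv, ← Functor.map_comp,
      ← Functor.map_comp, n1]
  -- normal form of the left hand side
  have L : Q.map ((resCx φ).map (aIso d P m).hom ≫ ((resCx φ).commShiftIso m).hom.app (d.X P)) ≫
      (Q.commShiftIso m).hom.app ((resCx φ).obj (d.X P)) ≫ (d.κ P hP)⟦m⟧' =
      Q.map ((d.pfSwap (P⟦m⟧)).hom ≫ (σ₂ ((resCx φ).obj d.N) P m).hom) ≫
        inv (Q.map ((d.s ▷ P)⟦m⟧')) ≫ Q.map (((d.ε ▷ P) ≫ (λ_ P).hom)⟦m⟧') ≫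
          (Q.commShiftIso m).hom.app P := by
    dsimp only [Data.κ]
    rw [Functor.map_comp (shiftFunctor (Dual.D R) m), Functor.map_comp (shiftFunctor (Dual.D R) m),
      ← Category.assoc ((Q.commShiftIso m).hom.app _), ← q1, Category.assoc,
      ← Category.assoc ((Q.commShiftIso m).hom.app _), q2', Category.assoc, ← q3,
      ← Category.assoc (Q.map _) (Q.map _), ← Functor.map_comp, Category.assoc,
      pfSwap_shift]
  rw [L, kIso_hom]
  dsimp only [Data.κ]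
  rw [Functor.map_comp Q (d.pfSwap (P⟦m⟧)).hom, Category.assoc, Category.assoc, Category.assoc]
  congr 1
  rw [← Category.assoc (Q.map (σ₂ ((resCx φ).obj d.N) P m).hom), ← n1', Category.assoc]
  congr 1
  rw [← Category.assoc (Q.map _) (Q.map _), ← Functor.map_comp, ← Category.assoc (Q.map _) (Q.map _),
    ← Functor.map_comp]
  congr 2
  rw [Category.assoc, Iso.hom_inv_id_assoc, ← Category.assoc, n2, Category.assoc,
    ← Functor.map_comp]

/-- the evaluation `(Q (X P))|_R ⟶ Q P` -/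
noncomputable def u₀ (P : DRing.Cx R) (hP : IsKFlat P) :
    (DRing.restrictD φ).obj (Q.obj (d.X P)) ⟶ Q.obj P :=
  (resFactors φ).hom.app (d.X P) ≫ d.κ P hP

/-- `P` is good when the adjunct `Q (X P) ⟶ RHom(A, Q P)` of the evaluation is an isomorphism -/
def Good (P : DRing.Cx R) (hP : IsKFlat P) : Prop :=
  IsIso ((relAdj φ).homEquiv _ _ (u₀ d P hP))

omit [HasRHomRel φ] in
@[reassoc]
lemma resFactors_shift (Y : DRing.Cx A) (m : ℤ) :
    (DRing.restrictD φ).map ((Q.commShiftIso m).hom.app Y) ≫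
      ((DRing.restrictD φ).commShiftIso m).hom.app (Q.obj Y) ≫
        ((resFactors φ).hom.app Y)⟦m⟧' =
    (resFactors φ).hom.app (Y⟦m⟧) ≫ Q.map (((resCx φ).commShiftIso m).hom.app Y) ≫
      (Q.commShiftIso m).hom.app ((resCx φ).obj Y) := by
  have h := NatTrans.shift_app_comm (resFactors φ).hom m Y
  rw [Functor.commShiftIso_comp_hom_app, Functor.commShiftIso_comp_hom_app, Category.assoc] at h
  exact h

lemma good_shift (P : DRing.Cx R) (hP : IsKFlat P) (m : ℤ) (h : Good d P hP) :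
    Good d (P⟦m⟧) (isKFlat_shift hP m) := by
  have hu := isIso_adj_shift (u₀ d P hP) m h
  haveI : IsIso (Q.map (aIso d P m).hom ≫ (Q.commShiftIso m).hom.app (d.X P)) := inferInstance
  refine isIso_adj_transfer' _ (u₀ d (P⟦m⟧) (isKFlat_shift hP m))
    (Q.map (aIso d P m).hom ≫ (Q.commShiftIso m).hom.app (d.X P)) (kIso P m).hom ?_ hu
  have nat := (resFactors φ).hom.naturality (aIso d P m).hom
  dsimp only [Functor.comp_map] at nat
  dsimp only [u₀]
  simp only [Functor.map_comp, Category.assoc]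
  rw [resFactors_shift_assoc, ← Category.assoc ((DRing.restrictD φ).map _), nat, Category.assoc]
  congr 1
  rw [← κ_shift, Functor.map_comp, Category.assoc]

end DataLevel

section UnitLevel

set_option backward.isDefEq.respectTransparency false

variable {R A : Type u} [CommRing R] [CommRing A] (φ : R →+* A)

lemma pfM_naturality (M : ModuleCat.{u} A) {N N' : ModuleCat.{u} R} (g : N ⟶ N') :
    ((resM φ).obj M ◁ g) ≫ pfM φ M N' =
      pfM φ M N ≫ (resM φ).map (M ◁ (ModuleCat.extendScalars.{u, u, u} φ).map g) := by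
  apply ModuleCat.hom_ext
  apply TensorProduct.ext'
  intro m n
  rfl

lemma pfM_unit (M : ModuleCat.{u} A) :
    (ρ_ ((resM φ).obj M)).inv ≫ pfM φ M (𝟙_ (ModuleCat.{u} R)) =
      (resM φ).map ((ρ_ M).inv ≫
        (M ◁ Functor.LaxMonoidal.ε (ModuleCat.extendScalars.{u, u, u} φ))) := by
  apply ModuleCat.hom_ext
  ext m
  rfl

/-- `ext 𝟙_R ≅ 𝟙_A` on complexes -/
noncomputable def uIso : (extCx φ).obj (𝟙_ (DRing.Cx R)) ≅ 𝟙_ (DRing.Cx A) :=
  (HomologicalComplex.singleMapHomologicalComplex (ModuleCat.extendScalars.{u, u, u} φ)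
      (ComplexShape.up ℤ) 0).app (𝟙_ (ModuleCat.{u} R)) ≪≫
    (HomologicalComplex.single (ModuleCat.{u} A) (ComplexShape.up ℤ) 0).mapIso
      (Functor.Monoidal.εIso (ModuleCat.extendScalars.{u, u, u} φ)).symm

lemma uIso_inv_f_zero :
    (singleObjXSelf (ComplexShape.up ℤ) 0 (𝟙_ (ModuleCat.{u} A))).inv ≫ (uIso φ).inv.f 0 =
      Functor.LaxMonoidal.ε (ModuleCat.extendScalars.{u, u, u} φ) ≫
        (ModuleCat.extendScalars.{u, u, u} φ).map
          (singleObjXSelf (ComplexShape.up ℤ) 0 (𝟙_ (ModuleCat.{u} R))).inv := by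
  dsimp only [uIso, Iso.trans_inv, Functor.mapIso_inv, Iso.symm_inv, Iso.app_inv]
  rw [HomologicalComplex.comp_f, single_map_f_self, singleMapHomologicalComplex_inv_app_self]
  simp

lemma rightUnitor_inv_f {B : Type u} [CommRing B] (K : DRing.Cx B) (i : ℤ) :
    (ρ_ K).inv.f i = (ρ_ (K.X i)).inv ≫
      (K.X i ◁ (singleObjXSelf (ComplexShape.up ℤ) 0 (𝟙_ (ModuleCat.{u} B))).inv) ≫
        ιTensorObj K (𝟙_ (DRing.Cx B)) i 0 i (add_zero i) :=
  HomologicalComplex.rightUnitor'_inv K i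

lemma pfCx_unit_inv (L : DRing.Cx A) :
    (ρ_ ((resCx φ).obj L)).inv ≫ pfCx φ L (𝟙_ (DRing.Cx R)) =
      (resCx φ).map ((ρ_ L).inv ≫ (L ◁ (uIso φ).inv)) := by
  apply HomologicalComplex.hom_ext
  intro i
  have h1 : ιTensorObj L (𝟙_ (DRing.Cx A)) i 0 i (add_zero i) ≫ (L ◁ (uIso φ).inv).f i =
      (L.X i ◁ (uIso φ).inv.f 0) ≫
        ιTensorObj L ((extCx φ).obj (𝟙_ (DRing.Cx R))) i 0 i (add_zero i) :=
    ι_whiskerLeft' L (uIso φ).inv i 0 i (add_zero i)
  rw [HomologicalComplex.comp_f, rightUnitor_inv_f, Category.assoc, Category.assoc, ι_pfCx,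
    Functor.mapHomologicalComplex_map_f, HomologicalComplex.comp_f, rightUnitor_inv_f,
    Category.assoc, Category.assoc, h1]
  have h2 : (((resCx φ).obj L).X i ◁
        (singleObjXSelf (ComplexShape.up ℤ) 0 (𝟙_ (ModuleCat.{u} R))).inv) ≫
      pfM' φ L (𝟙_ (DRing.Cx R)) i 0 =
      pfM φ (L.X i) (𝟙_ (ModuleCat.{u} R)) ≫ (resM φ).map (L.X i ◁
        (ModuleCat.extendScalars.{u, u, u} φ).map
          (singleObjXSelf (ComplexShape.up ℤ) 0 (𝟙_ (ModuleCat.{u} R))).inv) :=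
    pfM_naturality φ (L.X i) _
  have h3 : (L.X i ◁ (singleObjXSelf (ComplexShape.up ℤ) 0 (𝟙_ (ModuleCat.{u} A))).inv) ≫
      (L.X i ◁ (uIso φ).inv.f 0) =
      (L.X i ◁ Functor.LaxMonoidal.ε (ModuleCat.extendScalars.{u, u, u} φ)) ≫
        (L.X i ◁ (ModuleCat.extendScalars.{u, u, u} φ).map
          (singleObjXSelf (ComplexShape.up ℤ) 0 (𝟙_ (ModuleCat.{u} R))).inv) := by
    rw [← MonoidalCategory.whiskerLeft_comp, uIso_inv_f_zero, MonoidalCategory.whiskerLeft_comp]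
  have h4 := pfM_unit φ (L.X i)
  rw [← Category.assoc (_ ◁ _), h2, ← Category.assoc (_ ◁ _) (_ ◁ _), h3]
  change _ = (resM φ).map _
  rw [← Category.assoc (ρ_ (L.X i)).inv, ← Category.assoc (ρ_ (L.X i)).inv,
    Category.assoc ((ρ_ (L.X i)).inv ≫ _), Functor.map_comp, ← h4, Functor.map_comp]
  simp only [Category.assoc]
  rfl

lemma pfCx_unit (L : DRing.Cx A) :
    pfCx φ L (𝟙_ (DRing.Cx R)) ≫ (resCx φ).map ((L ◁ (uIso φ).hom) ≫ (ρ_ L).hom) =
      (ρ_ ((resCx φ).obj L)).hom := by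
  have h := pfCx_unit_inv φ L
  rw [← cancel_epi (ρ_ ((resCx φ).obj L)).inv, Iso.inv_hom_id, ← Category.assoc, h,
    ← Functor.map_comp]
  have e : ((ρ_ L).inv ≫ (L ◁ (uIso φ).inv)) ≫ (L ◁ (uIso φ).hom) ≫ (ρ_ L).hom = 𝟙 _ := by
    rw [Category.assoc, ← Category.assoc (L ◁ (uIso φ).inv), ← MonoidalCategory.whiskerLeft_comp,
      Iso.inv_hom_id, MonoidalCategory.whiskerLeft_id, Category.id_comp, Iso.inv_hom_id]
  rw [e, CategoryTheory.Functor.map_id]

lemma isKFlat_unit : IsKFlat (𝟙_ (DRing.Cx R)) := fun L hL =>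
  acyclic_of_iso (ρ_ L).symm hL

end UnitLevel

section UnitData

set_option backward.isDefEq.respectTransparency false

variable {R A : Type u} [CommRing R] [CommRing A] {φ : R →+* A} [HasRHomRel φ] (d : Data φ)

/-- `X 𝟙 ≅ N` -/
noncomputable def a₀ : d.X (𝟙_ (DRing.Cx R)) ≅ d.N :=
  braidCx ((extCx φ).obj (𝟙_ (DRing.Cx R))) d.N ≪≫
    asIso ((d.N ◁ (uIso φ).hom) ≫ (ρ_ d.N).hom)

lemma resCx_a₀ :
    (resCx φ).map (a₀ d).hom =
      (d.pfSwap (𝟙_ (DRing.Cx R))).hom ≫ (ρ_ ((resCx φ).obj d.N)).hom := by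
  have h := pfCx_unit φ d.N
  have h' : (resCx φ).map ((d.N ◁ (uIso φ).hom) ≫ (ρ_ d.N).hom) =
      (pfIso φ d.N (𝟙_ (DRing.Cx R))).inv ≫ (ρ_ ((resCx φ).obj d.N)).hom := by
    rw [Iso.eq_inv_comp]
    exact h
  dsimp only [a₀, Data.pfSwap, Iso.trans_hom, Functor.mapIso_hom, Iso.symm_hom, asIso_hom]
  rw [Functor.map_comp, h', Category.assoc]

lemma κ_unit :
    d.κ (𝟙_ (DRing.Cx R)) isKFlat_unit = Q.map ((resCx φ).map (a₀ d).hom) ≫ d.ev' := by
  haveI := d.quasiIso_s_whiskerRight (𝟙_ (DRing.Cx R)) isKFlat_unit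
  have e1 : (d.ε ▷ 𝟙_ (DRing.Cx R)) ≫ (λ_ (𝟙_ (DRing.Cx R))).hom = (ρ_ d.N').hom ≫ d.ε := by
    rw [MonoidalCategory.unitors_equal, MonoidalCategory.rightUnitor_naturality]
  have e2 : (d.s ▷ 𝟙_ (DRing.Cx R)) ≫ (ρ_ ((resCx φ).obj d.N)).hom = (ρ_ d.N').hom ≫ d.s :=
    MonoidalCategory.rightUnitor_naturality d.s
  have e3 : inv (Q.map (d.s ▷ 𝟙_ (DRing.Cx R))) ≫ Q.map (ρ_ d.N').hom =
      Q.map (ρ_ ((resCx φ).obj d.N)).hom ≫ inv (Q.map d.s) := by
    rw [IsIso.inv_comp_eq, ← Category.assoc, IsIso.eq_comp_inv, ← Functor.map_comp,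
      ← Functor.map_comp, e2]
  dsimp only [Data.κ]
  rw [e1, Functor.map_comp Q (ρ_ d.N').hom, ← Category.assoc (inv _), e3, Category.assoc,
    d.Q_map_ε, IsIso.inv_hom_id_assoc, resCx_a₀, Functor.map_comp, Category.assoc]

lemma good_unit : Good d (𝟙_ (DRing.Cx R)) isKFlat_unit := by
  -- the reference pair `(Q N, ev)` is terminal
  have hu : IsIso ((relAdj φ).homEquiv _ _ ((resFactors φ).hom.app d.N ≫ d.ev')) := by
    have e : (resFactors φ).hom.app d.N ≫ d.ev' =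
        ((relAdj φ).homEquiv _ _).symm d.eM.hom := by
      dsimp only [Data.ev']
      rw [Iso.hom_inv_id_app_assoc, Adjunction.homEquiv_counit]
    rw [e, Equiv.apply_symm_apply]
    infer_instance
  haveI : IsIso (Q.map (a₀ d).hom) := inferInstance
  haveI : IsIso (𝟙 (Q.obj (𝟙_ (DRing.Cx R)))) := inferInstance
  refine isIso_adj_transfer' _ (u₀ d (𝟙_ (DRing.Cx R)) isKFlat_unit) (Q.map (a₀ d).hom)
    (𝟙 (Q.obj (𝟙_ (DRing.Cx R)))) ?_ hu
  have nat := (resFactors φ).hom.naturality (a₀ d).hom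
  dsimp only [Functor.comp_map] at nat
  dsimp only [u₀]
  rw [Category.comp_id, ← Category.assoc, nat, Category.assoc, κ_unit]

end UnitData

section Final

variable {R A : Type u} [CommRing R] [CommRing A] {φ : R →+* A} [HasRHomRel φ] [HasLTenMix φ]
  (d : Data φ)

lemma τ_app_Q (P : DRing.Cx R) (hP : IsKFlat P) :
    (τ d).app (Q.obj P) = (d.α P hP).hom ≫ (relAdj φ).homEquiv _ _ (u₀ d P hP) := by
  change (relAdj φ).homEquiv _ _ (c d (Q.obj P)) = _
  rw [c_Q d P hP, ← Adjunction.homEquiv_naturality_left]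
  rfl

lemma isIso_τ_app_Q (P : DRing.Cx R) (hP : IsKFlat P) (h : Good d P hP) :
    IsIso ((τ d).app (Q.obj P)) := by
  rw [τ_app_Q d P hP]
  haveI : IsIso ((relAdj φ).homEquiv _ _ (u₀ d P hP)) := h
  infer_instance

/-- the base case of the dévissage: `τ` is an isomorphism on all shifts of the unit -/
theorem isIso_τ_app_unit_shift (m : ℤ) : IsIso ((τ d).app ((unit R)⟦m⟧)) := by
  haveI := isIso_τ_app_Q d _ _ (good_shift d _ isKFlat_unit m (good_unit d))
  let e : (unit R)⟦m⟧ ≅ Q.obj ((𝟙_ (DRing.Cx R))⟦m⟧) := ((Q.commShiftIso m).app _).symm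
  have nat := (τ d).naturality e.hom
  have e' : (τ d).app ((unit R)⟦m⟧) =
      (F' φ).map e.hom ≫ (τ d).app (Q.obj ((𝟙_ (DRing.Cx R))⟦m⟧)) ≫
        inv ((RHomRel φ).map e.hom) := by
    rw [← Category.assoc, nat, Category.assoc, IsIso.hom_inv_id, Category.comp_id]
  rw [e']
  infer_instance

end Final

end Groth.Agent.Lib.MixBase35
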