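import Mathlib.CategoryTheory.Triangulated.Pretriangulated
import Mathlib.CategoryTheory.Triangulated.Rotate

/-!
# A five lemma for natural families of maps of Hom groups along distinguished triangles (helper35)

`C`, `D` pretriangulated.  A functor `Φ : C ⥤ D` is *weakly exact* if for every distinguished triangle
`T` the pair `(Φ T.mor₁, Φ T.mor₂)` extends to a distinguished triangle.  For two weakly exact functors
`Φ Ψ` and objects `Z₁ Z₂ : D`, a *natural family* consists of additive maps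
`θ K : (Z₁ ⟶ Φ K) →+ (Z₂ ⟶ Ψ K)` natural in `K`.  The objects `K` all of whose shifts have `θ` bijective
(`Good`) are closed under isomorphisms, shifts, extensions and retracts.
-/

set_option autoImplicit false
set_option linter.unusedSectionVars false

open CategoryTheory CategoryTheory.Limits CategoryTheory.Pretriangulated

namespace Groth.Agent.Lib.FiveLemmaTri35

variable {C D : Type*} [Category C] [Category D] [Preadditive C] [Preadditive D]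
  [HasZeroObject C] [HasZeroObject D] [HasShift C ℤ] [HasShift D ℤ]
  [∀ n : ℤ, (shiftFunctor C n).Additive] [∀ n : ℤ, (shiftFunctor D n).Additive]
  [Pretriangulated C] [Pretriangulated D]

/-- `Φ` sends the first two maps of a distinguished triangle to the first two maps of one. -/
def WeaklyExact (Φ : C ⥤ D) : Prop :=
  ∀ T ∈ distTriang C, ∃ δ : Φ.obj T.obj₃ ⟶ (Φ.obj T.obj₁)⟦(1 : ℤ)⟧,
    Triangle.mk (Φ.map T.mor₁) (Φ.map T.mor₂) δ ∈ distTriang D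

lemma WeaklyExact.exact {Φ : C ⥤ D} (hΦ : WeaklyExact Φ) (T : Triangle C) (hT : T ∈ distTriang C)
    {Z : D} (g : Z ⟶ Φ.obj T.obj₂) (hg : g ≫ Φ.map T.mor₂ = 0) :
    ∃ h : Z ⟶ Φ.obj T.obj₁, g = h ≫ Φ.map T.mor₁ := by
  obtain ⟨δ, hδ⟩ := hΦ T hT
  exact Triangle.coyoneda_exact₂ _ hδ g hg

lemma WeaklyExact.comp_zero {Φ : C ⥤ D} (hΦ : WeaklyExact Φ) (T : Triangle C)
    (hT : T ∈ distTriang C) : Φ.map T.mor₁ ≫ Φ.map T.mor₂ = 0 := by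
  obtain ⟨δ, hδ⟩ := hΦ T hT
  exact comp_distTriang_mor_zero₁₂ _ hδ

/-- A weakly exact functor preserving zero objects commutes with the shift by one on objects. -/
lemma WeaklyExact.nonempty_shift_one_iso {Φ : C ⥤ D} (hΦ : WeaklyExact Φ)
    (h0 : ∀ Z : C, IsZero Z → IsZero (Φ.obj Z)) (X : C) :
    Nonempty (Φ.obj (X⟦(1 : ℤ)⟧) ≅ (Φ.obj X)⟦(1 : ℤ)⟧) := by
  obtain ⟨δ, hδ⟩ := hΦ _ (contractible_distinguished₂ X)
  have hiso : IsIso δ := (Triangle.isZero₂_iff_isIso₃ _ hδ).1 (h0 _ (isZero_zero C))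
  exact ⟨@asIso _ _ _ _ δ hiso⟩

/-- A weakly exact functor preserving zero objects commutes with all shifts on objects. -/
lemma WeaklyExact.nonempty_shift_iso {Φ : C ⥤ D} (hΦ : WeaklyExact Φ)
    (h0 : ∀ Z : C, IsZero Z → IsZero (Φ.obj Z)) (X : C) (n : ℤ) :
    Nonempty (Φ.obj (X⟦n⟧) ≅ (Φ.obj X)⟦n⟧) := by
  induction n using Int.induction_on with
  | zero =>
    exact ⟨Φ.mapIso ((shiftFunctorZero C ℤ).app X) ≪≫ ((shiftFunctorZero D ℤ).app _).symm⟩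
  | succ k ih =>
    obtain ⟨e⟩ := ih
    obtain ⟨e1⟩ := hΦ.nonempty_shift_one_iso h0 (X⟦(k : ℤ)⟧)
    exact ⟨Φ.mapIso ((shiftFunctorAdd' C (k : ℤ) 1 (k + 1) rfl).app X) ≪≫ e1 ≪≫
      (shiftFunctor D (1 : ℤ)).mapIso e ≪≫
      ((shiftFunctorAdd' D (k : ℤ) 1 (k + 1) rfl).app _).symm⟩
  | pred k ih =>
    obtain ⟨e⟩ := ih
    obtain ⟨e1⟩ := hΦ.nonempty_shift_one_iso h0 (X⟦(-(k : ℤ) - 1)⟧)
    have h1 : (-(k : ℤ) - 1) + 1 = -(k : ℤ) := by omega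
    have h2 : -(k : ℤ) + (-1) = -(k : ℤ) - 1 := by omega
    -- `Φ(Y) ≅ Φ(Y)⟦1⟧⟦-1⟧ ≅ Φ(Y⟦1⟧)⟦-1⟧ ≅ Φ(X⟦-k⟧)⟦-1⟧ ≅ Φ(X)⟦-k⟧⟦-1⟧ ≅ Φ(X)⟦-k-1⟧`
    exact ⟨((shiftFunctorCompIsoId D (1 : ℤ) (-1) (by omega)).app _).symm ≪≫
      (shiftFunctor D (-1 : ℤ)).mapIso (e1.symm ≪≫
        Φ.mapIso ((shiftFunctorAdd' C (-(k : ℤ) - 1) 1 (-(k : ℤ)) h1).app X).symm ≪≫ e) ≪≫
      ((shiftFunctorAdd' D (-(k : ℤ)) (-1) (-(k : ℤ) - 1) h2).app _).symm⟩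

/-- A family of additive maps `Hom(Z₁, Φ K) → Hom(Z₂, Ψ K)`, natural in `K`. -/
structure NatFamily (Φ Ψ : C ⥤ D) (Z₁ Z₂ : D) where
  θ : ∀ K : C, (Z₁ ⟶ Φ.obj K) →+ (Z₂ ⟶ Ψ.obj K)
  nat : ∀ {K K' : C} (f : K ⟶ K') (g : Z₁ ⟶ Φ.obj K), θ K' (g ≫ Φ.map f) = θ K g ≫ Ψ.map f

namespace NatFamily

variable {Φ Ψ : C ⥤ D} {Z₁ Z₂ : D} (F : NatFamily Φ Ψ Z₁ Z₂)

lemma injective_of_retract {K B : C} (i : K ⟶ B) (r : B ⟶ K) (hir : i ≫ r = 𝟙 K)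
    (hB : Function.Injective (F.θ B)) : Function.Injective (F.θ K) := by
  rw [injective_iff_map_eq_zero]
  intro g hg
  have h1 : F.θ B (g ≫ Φ.map i) = 0 := by rw [F.nat, hg, zero_comp]
  have h2 : g ≫ Φ.map i = 0 := (injective_iff_map_eq_zero _).1 hB _ h1
  calc g = g ≫ Φ.map (i ≫ r) := by rw [hir, CategoryTheory.Functor.map_id, Category.comp_id]
    _ = (g ≫ Φ.map i) ≫ Φ.map r := by rw [Functor.map_comp, Category.assoc]
    _ = 0 := by rw [h2, zero_comp]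

lemma surjective_of_retract {K B : C} (i : K ⟶ B) (r : B ⟶ K) (hir : i ≫ r = 𝟙 K)
    (hB : Function.Surjective (F.θ B)) : Function.Surjective (F.θ K) := by
  intro h
  obtain ⟨g', hg'⟩ := hB (h ≫ Ψ.map i)
  refine ⟨g' ≫ Φ.map r, ?_⟩
  rw [F.nat, hg', Category.assoc, ← Functor.map_comp, hir, CategoryTheory.Functor.map_id,
    Category.comp_id]

lemma bijective_of_retract {K B : C} (i : K ⟶ B) (r : B ⟶ K) (hir : i ≫ r = 𝟙 K)
    (hB : Function.Bijective (F.θ B)) : Function.Bijective (F.θ K) :=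
  ⟨F.injective_of_retract i r hir hB.1, F.surjective_of_retract i r hir hB.2⟩

lemma bijective_of_iso {K K' : C} (e : K' ≅ K) (hK : Function.Bijective (F.θ K)) :
    Function.Bijective (F.θ K') :=
  F.bijective_of_retract e.hom e.inv e.hom_inv_id hK

/-- The five lemma. -/
theorem bijective_mid (hΦ : WeaklyExact Φ) (hΨ : WeaklyExact Ψ) (T : Triangle C)
    (hT : T ∈ distTriang C)
    (h0 : Function.Surjective (F.θ T.invRotate.obj₁))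
    (h1 : Function.Bijective (F.θ T.obj₁)) (h3 : Function.Bijective (F.θ T.obj₃))
    (h4 : Function.Injective (F.θ T.rotate.obj₃)) :
    Function.Bijective (F.θ T.obj₂) := by
  have hTi := inv_rot_of_distTriang _ hT
  have hTr := rot_of_distTriang _ hT
  have zΦi : Φ.map T.invRotate.mor₁ ≫ Φ.map T.mor₁ = 0 := hΦ.comp_zero T.invRotate hTi
  have zΨr : Ψ.map T.mor₂ ≫ Ψ.map T.mor₃ = 0 := hΨ.comp_zero T.rotate hTr
  constructor
  · rw [injective_iff_map_eq_zero]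
    intro a₃ ha₃
    -- `a₃ ≫ Φ mor₂ = 0`
    have e1 : a₃ ≫ Φ.map T.mor₂ = 0 := by
      apply (injective_iff_map_eq_zero _).1 h3.1
      rw [F.nat, ha₃, zero_comp]
    obtain ⟨a₂, rfl⟩ := hΦ.exact T hT a₃ e1
    -- `θ a₂ ≫ Ψ mor₁ = 0`
    have e2 : F.θ T.obj₁ a₂ ≫ Ψ.map T.mor₁ = 0 := by rw [← F.nat, ha₃]
    obtain ⟨b₁, hb₁⟩ := hΨ.exact T.invRotate hTi (F.θ T.obj₁ a₂) e2
    obtain ⟨a₁, rfl⟩ := h0 b₁
    have e3 : a₁ ≫ Φ.map T.invRotate.mor₁ = a₂ := by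
      apply h1.1
      exact (F.nat T.invRotate.mor₁ a₁).trans hb₁.symm
    have e4 : a₂ ≫ Φ.map T.mor₁ = a₁ ≫ Φ.map T.invRotate.mor₁ ≫ Φ.map T.mor₁ := by
      rw [← e3]
      exact Category.assoc _ _ _
    rw [e4, zΦi, comp_zero]
  · intro b₃
    obtain ⟨a₄, ha₄⟩ := h3.2 (b₃ ≫ Ψ.map T.mor₂)
    have e1 : a₄ ≫ Φ.map T.mor₃ = 0 := by
      apply (injective_iff_map_eq_zero _).1 h4
      refine (F.nat T.rotate.mor₂ a₄).trans ?_
      change F.θ T.obj₃ a₄ ≫ Ψ.map T.mor₃ = 0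
      rw [ha₄, Category.assoc, zΨr, comp_zero]
    obtain ⟨a₃', ha₃'⟩ := hΦ.exact T.rotate hTr a₄ e1
    obtain ⟨a₃, ha₃⟩ : ∃ a₃ : Z₁ ⟶ Φ.obj T.obj₂, a₄ = a₃ ≫ Φ.map T.mor₂ := ⟨a₃', ha₃'⟩
    have e2 : (b₃ - F.θ T.obj₂ a₃) ≫ Ψ.map T.mor₂ = 0 := by
      rw [Preadditive.sub_comp, ← F.nat, ← ha₃, ha₄, sub_self]
    obtain ⟨b₂, hb₂⟩ := hΨ.exact T hT _ e2
    obtain ⟨a₂, rfl⟩ := h1.2 b₂
    refine ⟨a₃ + a₂ ≫ Φ.map T.mor₁, ?_⟩
    rw [map_add, F.nat, ← hb₂]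
    abel

/-- All shifts of `K` (and everything isomorphic to them) have `θ` bijective. -/
def Good (K : C) : Prop :=
  ∀ (n : ℤ) (K' : C), Nonempty (K' ≅ K⟦n⟧) → Function.Bijective (F.θ K')

lemma Good.bijective {K : C} (h : F.Good K) : Function.Bijective (F.θ K) :=
  h 0 K ⟨(shiftFunctorZero C ℤ).symm.app K⟩

lemma good_of_forall_shift {K : C} (h : ∀ n : ℤ, Function.Bijective (F.θ (K⟦n⟧))) : F.Good K := by
  rintro n K' ⟨e⟩
  exact F.bijective_of_iso e (h n)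

lemma Good.of_iso_shift {K K₀ : C} (m : ℤ) (e : K ≅ K₀⟦m⟧) (h : F.Good K₀) : F.Good K := by
  rintro n K' ⟨e'⟩
  exact h (m + n) K' ⟨e' ≪≫ (shiftFunctor C n).mapIso e ≪≫ (shiftFunctorAdd C m n).symm.app K₀⟩

lemma Good.of_iso {K K₀ : C} (e : K ≅ K₀) (h : F.Good K₀) : F.Good K :=
  h.of_iso_shift F 0 (e ≪≫ (shiftFunctorZero C ℤ).symm.app K₀)

lemma Good.shift {K : C} (h : F.Good K) (m : ℤ) : F.Good (K⟦m⟧) :=
  h.of_iso_shift F m (Iso.refl _)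

lemma Good.of_retract {K B : C} (i : K ⟶ B) (r : B ⟶ K) (hir : i ≫ r = 𝟙 K) (h : F.Good B) :
    F.Good K := by
  rintro n K' ⟨e⟩
  refine F.bijective_of_retract (e.hom ≫ i⟦n⟧') (r⟦n⟧' ≫ e.inv) ?_ (h n _ ⟨Iso.refl _⟩)
  rw [Category.assoc, ← Category.assoc (i⟦n⟧'), ← Functor.map_comp, hir,
    CategoryTheory.Functor.map_id, Category.id_comp, e.hom_inv_id]

lemma Good.of_biprod {X Y : C} [HasBinaryBiproduct X Y] (h : F.Good (X ⊞ Y)) : F.Good X :=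
  h.of_retract F biprod.inl biprod.fst biprod.inl_fst

theorem Good.mid (hΦ : WeaklyExact Φ) (hΨ : WeaklyExact Ψ) (T : Triangle C)
    (hT : T ∈ distTriang C) (h1 : F.Good T.obj₁) (h3 : F.Good T.obj₃) : F.Good T.obj₂ := by
  apply F.good_of_forall_shift
  intro n
  have hTn := Triangle.shift_distinguished T hT n
  refine F.bijective_mid hΦ hΨ _ hTn ?_ ?_ ?_ ?_
  · exact (h3 (n + (-1)) _ ⟨(shiftFunctorAdd C n (-1)).symm.app T.obj₃⟩).2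
  · exact h1 n _ ⟨Iso.refl _⟩
  · exact h3 n _ ⟨Iso.refl _⟩
  · exact (h1 (n + 1) _ ⟨(shiftFunctorAdd C n 1).symm.app T.obj₁⟩).1

end NatFamily

end Groth.Agent.Lib.FiveLemmaTri35
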