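import Groth.Agent.Lib.HomCxPre25
import Mathlib.Algebra.Homology.HomotopyCategory.Pretriangulated
import Mathlib.Algebra.Homology.DerivedCategory.ShortExact

/-!
# `Hom•(-, J)` applied to a degreewise split short exact sequence (helper25)

* `shortExact_homCxPre`: for a short complex `S` of complexes with degreewise splitting cochains,
  `0 ⟶ Hom•(S.X₃, J) ⟶ Hom•(S.X₂, J) ⟶ Hom•(S.X₁, J) ⟶ 0` is short exact.
* `coneSC φ`: the short complex `L ⟶ cone φ ⟶ K⟦1⟧`, and `coneSC_op_shortExact`.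
-/

set_option autoImplicit false
universe u

open CategoryTheory Category Limits CochainComplex HomComplex

namespace Groth.Agent.Lib.HomTensor25

variable {A : Type u} [CommRing A]

/-- the short complex `Hom•(S.X₃, J) ⟶ Hom•(S.X₂, J) ⟶ Hom•(S.X₁, J)` -/
noncomputable def homCxPreSC (S : ShortComplex (DRing.Cx A)) (J : DRing.Cx A) :
    ShortComplex (DRing.Cx A) where
  X₁ := DRing.homCx S.X₃ J
  X₂ := DRing.homCx S.X₂ J
  X₃ := DRing.homCx S.X₁ J
  f := homCxPre S.g J
  g := homCxPre S.f J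
  zero := by rw [← homCxPre_comp, S.zero]; ext n z; simp [homCxPre, precompLin]; rfl

lemma shortExact_homCxPre (S : ShortComplex (DRing.Cx A)) (J : DRing.Cx A)
    (r : Cochain S.X₂ S.X₁ 0) (s : Cochain S.X₃ S.X₂ 0)
    (hr : (Cochain.ofHom S.f).comp r (add_zero 0) = Cochain.ofHom (𝟙 _))
    (hs : s.comp (Cochain.ofHom S.g) (add_zero 0) = Cochain.ofHom (𝟙 _))
    (hrs : r.comp (Cochain.ofHom S.f) (add_zero 0) + (Cochain.ofHom S.g).comp s (add_zero 0) =
      Cochain.ofHom (𝟙 _)) :
    (homCxPreSC S J).ShortExact := by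
  apply HomologicalComplex.shortExact_of_degreewise_shortExact
  intro n
  have hmono : Mono ((homCxPreSC S J).map (HomologicalComplex.eval _ _ n)).f := by
    rw [ModuleCat.mono_iff_injective]
    intro z z' h
    replace h : (Cochain.ofHom S.g).comp (z : Cochain S.X₃ J n) (zero_add n) =
      (Cochain.ofHom S.g).comp (z' : Cochain S.X₃ J n) (zero_add n) := h
    have h2 := congrArg (fun w => s.comp w (zero_add n)) h
    simp only [← Cochain.comp_assoc_of_first_is_zero_cochain, hs, Cochain.id_comp] at h2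
    exact h2
  have hepi : Epi ((homCxPreSC S J).map (HomologicalComplex.eval _ _ n)).g := by
    rw [ModuleCat.epi_iff_surjective]
    intro w
    refine ⟨r.comp (w : Cochain S.X₁ J n) (zero_add n), ?_⟩
    change (Cochain.ofHom S.f).comp (r.comp (w : Cochain S.X₁ J n) (zero_add n)) (zero_add n) = w
    rw [← Cochain.comp_assoc_of_first_is_zero_cochain, hr, Cochain.id_comp]
  refine ⟨?_⟩
  rw [ShortComplex.moduleCat_exact_iff]
  intro z hz
  replace hz : (Cochain.ofHom S.f).comp (z : Cochain S.X₂ J n) (zero_add n) = 0 := hz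
  refine ⟨s.comp (z : Cochain S.X₂ J n) (zero_add n), ?_⟩
  change (Cochain.ofHom S.g).comp (s.comp (z : Cochain S.X₂ J n) (zero_add n)) (zero_add n) = z
  have h1 : (Cochain.ofHom (𝟙 S.X₂)).comp (z : Cochain S.X₂ J n) (zero_add n) = z :=
    Cochain.id_comp _
  rw [← hrs, Cochain.add_comp, Cochain.comp_assoc_of_first_is_zero_cochain, hz,
    Cochain.comp_zero, zero_add, Cochain.comp_assoc_of_first_is_zero_cochain] at h1
  exact h1

section cone

variable {K L : DRing.Cx A} (φ : K ⟶ L)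

open mappingCone

/-- the map `cone φ ⟶ K⟦1⟧` -/
noncomputable def coneδ : mappingCone φ ⟶ K⟦(1 : ℤ)⟧ := (triangle φ).mor₃

/-- the short complex `L ⟶ cone φ ⟶ K⟦1⟧` -/
noncomputable def coneSC : ShortComplex (DRing.Cx A) where
  X₁ := L
  X₂ := mappingCone φ
  X₃ := K⟦(1 : ℤ)⟧
  f := inr φ
  g := coneδ φ
  zero := inr_triangleδ φ

/-- the degreewise section of `cone φ ⟶ K⟦1⟧` -/
noncomputable def coneSec : Cochain (K⟦(1 : ℤ)⟧) (mappingCone φ) 0 :=
  Cochain.ofHoms (fun n => -((K.shiftFunctorObjXIso 1 n (n + 1) rfl).hom ≫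
    (inl φ).v (n + 1) n (by omega)))

lemma inl_coneδ (n : ℤ) :
    (inl φ).v (n + 1) n (by omega) ≫ (coneδ φ).f n =
      -(K.shiftFunctorObjXIso 1 n (n + 1) rfl).inv :=
  inl_v_triangle_mor₃_f φ (n + 1) n (by omega)

lemma inr_coneδ (n : ℤ) : (inr φ).f n ≫ (coneδ φ).f n = 0 :=
  inr_f_triangle_mor₃_f φ n

lemma coneSec_comp :
    (coneSec φ).comp (Cochain.ofHom (coneδ φ)) (add_zero 0) = Cochain.ofHom (𝟙 _) := by
  apply Cochain.ext₀
  intro n
  simp only [coneSec, Cochain.comp_zero_cochain_v, Cochain.ofHoms_v, Cochain.ofHom_v,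
    Preadditive.neg_comp, Category.assoc, HomologicalComplex.id_f]
  rw [inl_coneδ, Preadditive.comp_neg, neg_neg, Iso.hom_inv_id]

lemma cone_id' :
    (snd φ).comp (Cochain.ofHom (inr φ)) (add_zero 0) +
      (Cochain.ofHom (coneδ φ)).comp (coneSec φ) (add_zero 0) = Cochain.ofHom (𝟙 _) := by
  rw [← mappingCone.id φ, add_comm]
  congr 1
  apply Cochain.ext₀
  intro n
  rw [ext_from_iff φ (n + 1) n rfl]
  simp only [coneSec, Cochain.comp_zero_cochain_v, Cochain.ofHoms_v, Cochain.ofHom_v,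
    Preadditive.neg_comp, Preadditive.comp_neg, Category.assoc,
    Cochain.comp_v _ _ (add_neg_cancel 1) n (n + 1) n rfl (by omega)]
  constructor
  · rw [← Category.assoc, inl_coneδ, Preadditive.neg_comp, neg_neg, Iso.inv_hom_id_assoc,
      inl_v_fst_v_assoc]
  · rw [← Category.assoc, inr_coneδ, zero_comp, neg_zero, inr_f_fst_v_assoc, zero_comp]

theorem coneSC_op_shortExact (J : DRing.Cx A) : (homCxPreSC (coneSC φ) J).ShortExact :=
  shortExact_homCxPre (coneSC φ) J (snd φ) (coneSec φ) (inr_snd φ) (coneSec_comp φ) (cone_id' φ)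

end cone

end Groth.Agent.Lib.HomTensor25
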