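import Mathlib.Algebra.Homology.HomotopyCategory.Acyclic
import Mathlib.Algebra.Homology.HomotopyCategory.MappingCone
import Mathlib.Algebra.Homology.HomotopyCategory.Triangulated
import Mathlib.Algebra.Homology.Localization
import Mathlib.Algebra.Category.ModuleCat.Abelian
import Mathlib.RingTheory.Flat.Basic
import Mathlib.Algebra.Category.ModuleCat.Biproducts

set_option autoImplicit false
universe u v

namespace Groth.Agent.Lib.ConeQuasiIso

open CategoryTheory CategoryTheory.Limits

section
variable {C : Type u} [Category.{v} C] [Abelian C]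

/-- A morphism of cochain complexes is a quasi-isomorphism iff its mapping cone is acyclic. -/
theorem quasiIso_iff_acyclic_mappingCone {K L : CochainComplex C ℤ} (φ : K ⟶ L) :
    QuasiIso φ ↔ (CochainComplex.mappingCone φ).Acyclic := by
  rw [← HomologicalComplex.mem_quasiIso_iff, ← HomotopyCategory.quotient_map_mem_quasiIso_iff,
    HomotopyCategory.quasiIso_eq_trW_subcategoryAcyclic,
    ← HomotopyCategory.quotient_obj_mem_subcategoryAcyclic_iff_acyclic]
  exact (HomotopyCategory.subcategoryAcyclic C).trW_iff_of_distinguished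
    (CochainComplex.mappingCone.triangleh φ)
    (HomotopyCategory.mappingCone_triangleh_distinguished φ)

end

open CategoryTheory CategoryTheory.Limits TensorProduct

variable {A : Type u} [CommRing A]

/-- A module which is a "biproduct" of two flat modules is flat. -/
theorem flat_of_decomp {K M N : Type v} [AddCommGroup K] [Module A K] [AddCommGroup M]
    [Module A M] [AddCommGroup N] [Module A N] [Module.Flat A M] [Module.Flat A N]
    (p₁ : K →ₗ[A] M) (p₂ : K →ₗ[A] N) (i₁ : M →ₗ[A] K) (i₂ : N →ₗ[A] K)
    (h : i₁ ∘ₗ p₁ + i₂ ∘ₗ p₂ = LinearMap.id) : Module.Flat A K := by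
  rw [Module.Flat.iff_lTensor_preserves_injective_linearMap]
  intro P P' _ _ _ _ g hg
  rw [injective_iff_map_eq_zero]
  intro x hx
  have h1 : (p₁.rTensor P) x = 0 := by
    have : (g.lTensor M) ((p₁.rTensor P) x) = 0 := by
      rw [← LinearMap.comp_apply, LinearMap.lTensor_comp_rTensor, ← LinearMap.rTensor_comp_lTensor,
        LinearMap.comp_apply, hx, map_zero]
    exact (injective_iff_map_eq_zero _).mp
      (Module.Flat.lTensor_preserves_injective_linearMap g hg) _ this
  have h2 : (p₂.rTensor P) x = 0 := by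
    have : (g.lTensor N) ((p₂.rTensor P) x) = 0 := by
      rw [← LinearMap.comp_apply, LinearMap.lTensor_comp_rTensor, ← LinearMap.rTensor_comp_lTensor,
        LinearMap.comp_apply, hx, map_zero]
    exact (injective_iff_map_eq_zero _).mp
      (Module.Flat.lTensor_preserves_injective_linearMap g hg) _ this
  have h3 : x = ((i₁ ∘ₗ p₁ + i₂ ∘ₗ p₂).rTensor P) x := by
    rw [h, LinearMap.rTensor_id, LinearMap.id_apply]
  rw [h3, LinearMap.rTensor_add, LinearMap.add_apply, LinearMap.rTensor_comp,
    LinearMap.rTensor_comp, LinearMap.comp_apply, LinearMap.comp_apply, h1, h2, map_zero,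
    map_zero, add_zero]

theorem flat_biprod (M N : ModuleCat.{u} A) [Module.Flat A M] [Module.Flat A N] :
    Module.Flat A (M ⊞ N : ModuleCat.{u} A) := by
  refine flat_of_decomp (biprod.fst : M ⊞ N ⟶ M).hom (biprod.snd : M ⊞ N ⟶ N).hom
    (biprod.inl : M ⟶ M ⊞ N).hom (biprod.inr : N ⟶ M ⊞ N).hom ?_
  have := congrArg ModuleCat.Hom.hom (biprod.total (X := M) (Y := N))
  rw [ModuleCat.hom_add, ModuleCat.hom_comp, ModuleCat.hom_comp, ModuleCat.hom_id] at this
  exact this

theorem flat_mappingCone_X {C D : CochainComplex (ModuleCat.{u} A) ℤ} (φ : C ⟶ D)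
    (hC : ∀ i, Module.Flat A (C.X i)) (hD : ∀ i, Module.Flat A (D.X i)) (i : ℤ) :
    Module.Flat A ((CochainComplex.mappingCone φ).X i) := by
  have := hC (i + 1)
  have := hD i
  have := flat_biprod (C.X (i + 1)) (D.X i)
  exact Module.Flat.of_linearEquiv
    (HomologicalComplex.homotopyCofiber.XIsoBiprod φ i (i + 1) rfl).toLinearEquiv

end Groth.Agent.Lib.ConeQuasiIso
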