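import Groth.Agent.Lib.FlatAmp3
import Mathlib.Algebra.Homology.HomologicalComplexBiprod

/-!
# Calculus of flat amplitude in `D(A)`, part 4: the criterion (`⇒`)

Namespace `Groth.Agent.Lib.FlatAmp`.

* `prop_of_acyclic_ext`: in an acyclic complex vanishing outside `[l, c]` whose terms other than
  the one in degree `l + 1` are in `P`, that term is in `P` (for `P` stable under kernels of
  epimorphisms and extensions).
* `prop_truncGE_bottom₂`: if `g : E' ⟶ E` is a quasi-isomorphism of bounded above complexes with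
  terms in `P` in degrees `> m` and `coker (E'^{m-1} ⟶ E'^m)` is in `P`, then so is
  `coker (E^{m-1} ⟶ E^m)`.
* `fl_opcycles_of_pa`: (criterion, `⇒`) if `E` is bounded above with flat terms in degrees `> a`
  and `Q E` has flat amplitude in `[a, b]`, then `coker (E^{a-1} ⟶ E^a)` is flat.
-/

set_option autoImplicit false
universe u

open CategoryTheory CategoryTheory.Limits Category

namespace Groth.Agent.Lib.FlatAmp

open Groth.Agent.Lib.DRingPCoh21 Groth.Agent.Lib.DRingPerfAmp Groth.Agent.Lib.PCohAmp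

section General

variable {C : Type*} [Category C] [Abelian C] (P : ObjectProperty C)
  [P.IsClosedUnderIsomorphisms] [P.ContainsZero]

open HomologicalComplex Groth.Agent.Lib.PCohTrunc Groth.Agent.Lib.PCohAcyclic

theorem prop_of_acyclic_ext
    (hst : ∀ (E F : C) (u : E ⟶ F), Epi u → P E → P F → P (kernel u))
    (hext : ∀ S : ShortComplex C, S.ShortExact → P S.X₁ → P S.X₃ → P S.X₂)
    (l m c : ℤ) (hlm : l + 1 = m) (K : CochainComplex C ℤ) (hex : ∀ i : ℤ, K.ExactAt i)
    (hvan : ∀ i : ℤ, i < l ∨ c < i → IsZero (K.X i)) (hP : ∀ i : ℤ, i ≠ m → P (K.X i)) :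
    P (K.X m) := by
  have hZ : P (K.cycles (m + 1)) :=
    prop_cycles' P hst (m + 1) c K (fun i hi => hP i (by lia)) (fun i hi => hvan i (Or.inr hi))
      (fun i _ => hex i) (m + 1) le_rfl
  have h1 := epi_toCycles_of_exactAt K l m hlm (hex _)
  have h2 := mono_toCycles_of_exactAt K (l - 1) l m (by lia) hlm (hex _)
    (hvan _ (Or.inl (by lia)))
  have : IsIso (K.toCycles l m) := isIso_of_mono_of_epi _
  have hZm : P (K.cycles m) := P.prop_of_iso (asIso (K.toCycles l m)) (hP l (by lia))
  have h3 := epi_toCycles_of_exactAt K m (m + 1) rfl (hex _)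
  let S : ShortComplex C := ShortComplex.mk (kernel.ι (K.toCycles m (m + 1)))
    (K.toCycles m (m + 1)) (kernel.condition _)
  have hS : S.ShortExact :=
    { exact := ShortComplex.exact_of_f_is_kernel _ (kernelIsKernel _)
      mono_f := (inferInstance : Mono (kernel.ι (K.toCycles m (m + 1))))
      epi_g := h3 }
  exact hext S hS (P.prop_of_iso (kernelToCyclesIso K m (m + 1) rfl).symm hZm) hZ

theorem prop_truncGE_bottom₂ (hsum : ∀ X Y : C, P X → P Y → P (X ⨯ Y))
    (hst : ∀ (E F : C) (u : E ⟶ F), Epi u → P E → P F → P (kernel u))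
    (hext : ∀ S : ShortComplex C, S.ShortExact → P S.X₁ → P S.X₃ → P S.X₂)
    (m c : ℤ) {E' E : CochainComplex C ℤ} (g : E' ⟶ E) [QuasiIso g]
    (hE' : ∀ i : ℤ, m < i → P (E'.X i)) (hvanE' : ∀ i : ℤ, c < i → IsZero (E'.X i))
    (hop' : P (E'.opcycles m))
    (hE : ∀ i : ℤ, m < i → P (E.X i)) (hvanE : ∀ i : ℤ, c < i → IsZero (E.X i)) :
    P (E.opcycles m) := by
  let φ := CochainComplex.truncGEMap g m
  have hφ : QuasiIso φ := by
    rw [CochainComplex.quasiIso_truncGEMap_iff]
    intro i _
    infer_instance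
  let K := CochainComplex.mappingCone φ
  have hPE' : ∀ i : ℤ, P ((E'.truncGE m).X i) := fun i => by
    rcases lt_trichotomy i m with hi | rfl | hi
    · exact P.prop_of_isZero ((E'.truncGE m).isZero_of_isStrictlyGE m i hi)
    · exact P.prop_of_iso (E'.truncGEXIsoOpcycles i).symm hop'
    · exact P.prop_of_iso (E'.truncGEXIso m i hi).symm (hE' i hi)
  have hK : P (K.X m) := by
    refine prop_of_acyclic_ext P hst hext (m - 1) m (max c m) (by lia) K
      (fun i => Groth.Agent.Lib.DTwoTerm.exactAt_mappingCone φ i) ?_ ?_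
    · intro i hi
      refine IsZero.of_iso ?_ (homotopyCofiber.XIsoBiprod φ i (i + 1) rfl)
      rw [biprod_isZero_iff]
      rcases hi with hi | hi
      · exact ⟨(E'.truncGE m).isZero_of_isStrictlyGE m (i + 1) (by lia),
          (E.truncGE m).isZero_of_isStrictlyGE m i (by lia)⟩
      · have h1 := le_max_left c m
        have h2 := le_max_right c m
        exact ⟨(hvanE' (i + 1) (by lia)).of_iso (E'.truncGEXIso m (i + 1) (by lia)),
          (hvanE i (by lia)).of_iso (E.truncGEXIso m i (by lia))⟩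
    · intro i hi
      refine P.prop_of_iso ((homotopyCofiber.XIsoBiprod φ i (i + 1) rfl) ≪≫
        biprod.isoProd _ _).symm (hsum _ _ (hPE' _) ?_)
      rcases lt_or_gt_of_ne hi with hi | hi
      · exact P.prop_of_isZero ((E.truncGE m).isZero_of_isStrictlyGE m i hi)
      · exact P.prop_of_iso (E.truncGEXIso m i hi).symm (hE i hi)
  have h2 : P ((E.truncGE m).X m) :=
    prop_of_biprod P hst _ _ (P.prop_of_iso (homotopyCofiber.XIsoBiprod φ m (m + 1) rfl) hK)
      (hPE' _)
  exact P.prop_of_iso (E.truncGEXIsoOpcycles m) h2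

end General

variable (A : Type u) [CommRing A]

variable {A} in
/-- `K^j / im(K^i) ≃ K.opcycles j` for `j = i + 1` -/
noncomputable def quotRangeEquivOpcycles (K : CochainComplex (ModuleCat.{u} A) ℤ) (i j : ℤ)
    (hij : i + 1 = j) : (K.X j ⧸ LinearMap.range (K.d i j).hom) ≃ₗ[A] K.opcycles j := by
  let S : ShortComplex (ModuleCat.{u} A) :=
    ShortComplex.mk (K.d i j) (K.pOpcycles j) (K.d_pOpcycles _ _)
  have hS : S.Exact := ShortComplex.exact_of_g_is_cokernel _
    (K.opcyclesIsCokernel i j (by simp; lia))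
  have hex : Function.Exact (K.d i j).hom (K.pOpcycles j).hom :=
    (ShortComplex.ShortExact.moduleCat_exact_iff_function_exact S).1 hS
  have hsurj : Function.Surjective (K.pOpcycles j).hom :=
    (ModuleCat.epi_iff_surjective _).1 inferInstance
  exact (Submodule.quotEquivOfEq _ _ (LinearMap.exact_iff.1 hex).symm).trans
    (LinearMap.quotKerEquivOfSurjective _ hsurj)

attribute [local instance] HasDerivedCategory.standard

/-- Criterion for flat amplitude (`⇒`): **the cokernel `E^a / im(E^{a-1})` is flat** when `E` is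
bounded above with flat terms in degrees `> a` and `Q E` has flat amplitude in `[a, b]`. -/
theorem fl_opcycles_of_pa (E : CochainComplex (ModuleCat.{u} A) ℤ) (a b c : ℤ)
    (hE : ∀ i : ℤ, a < i → FL A (E.X i)) (hc : ∀ i : ℤ, c < i → IsZero (E.X i))
    (h : PA (FL A) a b (DerivedCategory.Q.obj E)) : FL A (E.opcycles a) := by
  obtain ⟨F, hF1, hF2, ⟨e⟩⟩ := h
  obtain ⟨E₁, s₁, hE₁, hs₁⟩ := exists_resolution A (a - 1) E c
    (fun i hi => HomologicalComplex.ExactAt.of_isZero (hc i hi))
  have hs₁' : IsIso (DerivedCategory.Q.map s₁) := by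
    rw [DerivedCategory.isIso_Q_map_iff_quasiIso]
    exact hs₁
  obtain ⟨E', s, t, hE', hs, ht⟩ := exists_lift (PR A) (pr_prod A) (pr_quasiStable A)
    (pr_quasiLiftable A) (a - 1) E₁ hE₁ F (DerivedCategory.Q.map s₁ ≫ e.inv)
  have hs' : IsIso (DerivedCategory.Q.map s) := by
    rw [DerivedCategory.isIso_Q_map_iff_quasiIso]
    exact hs
  have ht' : QuasiIso t := by
    rw [← DerivedCategory.isIso_Q_map_iff_quasiIso, ht]
    infer_instance
  have hg : QuasiIso (s ≫ s₁) := inferInstance
  obtain ⟨⟨c', hc'⟩, hE'2⟩ := hE'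
  -- Step A
  have hopA : FL A (E'.opcycles a) := by
    have := prop_truncGE_bottom (FL A) (fl_prod A) (fl_kernel A) a (max (max c' b) a)
      (le_max_right _ _) t (fun i hi => pr_le_fl A _ (hE'2 i (by lia)))
      (fun i hi => hc' i (lt_of_le_of_lt ((le_max_left c' _).trans (le_max_left _ _)) hi)) hF1
      (fun i hi => hF2 i (hi.imp id
        (fun h => lt_of_le_of_lt ((le_max_right c' _).trans (le_max_left _ _)) h)))
    exact (FL A).prop_of_iso (E'.truncGEXIsoOpcycles a) this
  -- Step B
  exact prop_truncGE_bottom₂ (FL A) (fl_prod A) (fl_kernel A) (fl_ext A) a (max c c') (s ≫ s₁)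
    (fun i hi => pr_le_fl A _ (hE'2 i (by lia)))
    (fun i hi => hc' i (lt_of_le_of_lt (le_max_right c c') hi)) hopA hE
    (fun i hi => hc i (lt_of_le_of_lt (le_max_left c c') hi))

lemma fl_of_retract {M N : ModuleCat.{u} A} (s : M ⟶ N) (r : N ⟶ M) (hsr : s ≫ r = 𝟙 M)
    (hN : FL A N) : FL A M := by
  have : Module.Flat A N := hN
  exact Module.Flat.of_retract s.hom r.hom (by
    ext x
    have := congr($(hsr).hom x)
    simpa using this)

open DerivedCategory in
/-- flat amplitude passes to direct summands -/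
theorem pa_fl_of_biprod_left (a b : ℤ) (K L : DerivedCategory (ModuleCat.{u} A))
    [HasBinaryBiproduct K L] (h : PA (FL A) a b (K ⊞ L)) : PA (FL A) a b K := by
  by_cases hab : a ≤ b
  swap
  · have h0 : IsZero (K ⊞ L) := isZero_of_pa_of_lt A (by lia) h
    refine pa_of_isZero A a b ?_
    rw [IsZero.iff_id_eq_zero, ← biprod.inl_fst (X := K) (Y := L),
      h0.eq_of_tgt biprod.inl 0, zero_comp]
  have hK : ∀ i : ℤ, i < a ∨ b < i →
      IsZero ((DerivedCategory.homologyFunctor (ModuleCat.{u} A) i).obj K) := fun i hi =>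
    isZero_homology_of_retract biprod.inl biprod.fst biprod.inl_fst i (isZero_homology_of_pa h i hi)
  have hL : ∀ i : ℤ, i < a ∨ b < i →
      IsZero ((DerivedCategory.homologyFunctor (ModuleCat.{u} A) i).obj L) := fun i hi =>
    isZero_homology_of_retract biprod.inr biprod.snd biprod.inr_snd i (isZero_homology_of_pa h i hi)
  obtain ⟨EK, ⟨⟨cK, hcK⟩, hEK⟩, ⟨eK⟩⟩ := exists_pr_rep A K b (fun i hi => hK i (Or.inr hi)) (a - 1)
  obtain ⟨EL, ⟨⟨cL, hcL⟩, hEL⟩, ⟨eL⟩⟩ := exists_pr_rep A L b (fun i hi => hL i (Or.inr hi)) (a - 1)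
  have : PreservesBinaryBiproducts (DerivedCategory.Q (C := ModuleCat.{u} A)) :=
    preservesBinaryBiproducts_of_preservesBiproducts _
  have e : DerivedCategory.Q.obj (EK ⊞ EL) ≅ K ⊞ L :=
    (DerivedCategory.Q (C := ModuleCat.{u} A)).mapBiprod EK EL ≪≫ biprod.mapIso eK eL
  have hop : FL A ((EK ⊞ EL).opcycles a) := by
    refine fl_opcycles_of_pa A (EK ⊞ EL) a b (max cK cL) (fun i hi => ?_) (fun i hi => ?_)
      (pa_of_iso e.symm h)
    · exact (FL A).prop_of_iso ((HomologicalComplex.biprodXIso EK EL i) ≪≫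
        biprod.isoProd _ _).symm
        (fl_prod A _ _ (pr_le_fl A _ (hEK i (by lia))) (pr_le_fl A _ (hEL i (by lia))))
    · refine IsZero.of_iso ?_ (HomologicalComplex.biprodXIso EK EL i)
      rw [biprod_isZero_iff]
      exact ⟨hcK i (lt_of_le_of_lt (le_max_left _ _) hi),
        hcL i (lt_of_le_of_lt (le_max_right _ _) hi)⟩
  have hopK : FL A (EK.opcycles a) :=
    fl_of_retract A (HomologicalComplex.opcyclesMap (biprod.inl : EK ⟶ EK ⊞ EL) a)
      (HomologicalComplex.opcyclesMap (biprod.fst : EK ⊞ EL ⟶ EK) a)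
      (by rw [← HomologicalComplex.opcyclesMap_comp, biprod.inl_fst,
        HomologicalComplex.opcyclesMap_id]) hop
  have hex : ∀ i : ℤ, i < a ∨ b < i → EK.ExactAt i := fun i hi => by
    rw [HomologicalComplex.exactAt_iff_isZero_homology]
    exact (hK i hi).of_iso (((DerivedCategory.homologyFunctorFactors (ModuleCat.{u} A) i).app
      EK).symm ≪≫ (DerivedCategory.homologyFunctor (ModuleCat.{u} A) i).mapIso eK)
  exact pa_of_iso eK (pa_fl_of_opcycles A EK a b cK hab
    (fun i hi => pr_le_fl A _ (hEK i (by lia))) hcK hopK (fun i hi => hex i (Or.inl hi))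
    (fun i hi => hex i (Or.inr hi)))

theorem pa_fl_of_biprod_right (a b : ℤ) (K L : DerivedCategory (ModuleCat.{u} A))
    [HasBinaryBiproduct K L] (h : PA (FL A) a b (K ⊞ L)) : PA (FL A) a b L := by
  have : HasBinaryBiproduct L K := inferInstance
  exact pa_fl_of_biprod_left A a b L K (pa_of_iso (biprod.braiding K L) h)

end Groth.Agent.Lib.FlatAmp
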