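import Groth.Agent.Lib.LDerivedKProj
import Groth.Prelude.Def_DDual2
import Groth.Agent.Lib.ProjResolution

/-!
# `DRing.LBaseChange` and `DRing.LTensor` on K-projective complexes

`DRing.LBaseChange φ` and `DRing.LTensor A M` are abstract total left derived functors (their existence is a
hypothesis).  Using `Groth.Agent.Lib.LDerivedKProj.isIso_counit_app` we compute them on K-projective complexes:

* `lbcIso φ P₀ : (LBaseChange φ).obj (Q.obj P₀) ≅ Q.obj (P₀ ⊗_A B)` for `P₀` K-projective with `P₀ ⊗_A B`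
  K-projective (e.g. `P₀` bounded above with projective terms: `isKProjective_extendScalars`), natural in `P₀`
  (`lbcIso_hom_naturality`).
* `ltIso A M P₀ : (LTensor A M).obj (Q.obj P₀) ≅ Q.obj (P₀ ⊗_A M)` for `P₀` K-projective with `P₀ ⊗ M`
  K-projective, natural in `P₀`.
-/

set_option autoImplicit false
universe u

open CategoryTheory CategoryTheory.Limits Category MonoidalCategory

attribute [local instance] HasDerivedCategory.standard

namespace Groth.Agent.Lib.LBaseChangeKProj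

open DerivedCategory

section General

variable {A B : Type u} [CommRing A] [CommRing B]
  (G : ModuleCat.{u} A ⥤ ModuleCat.{u} B) [G.Additive]

/-- The functor `K(A) ⥤ D(B)` induced termwise by `G`. -/
noncomputable abbrev Kh : HomotopyCategory (ModuleCat.{u} A) (ComplexShape.up ℤ) ⥤
    DerivedCategory (ModuleCat.{u} B) :=
  G.mapHomotopyCategory (ComplexShape.up ℤ) ⋙ Qh

/-- `Kh G` on the class of a complex. -/
noncomputable def khObjIso (P₀ : CochainComplex (ModuleCat.{u} A) ℤ) :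
    (Kh G).obj ((HomotopyCategory.quotient _ _).obj P₀) ≅
      Q.obj ((G.mapHomologicalComplex (ComplexShape.up ℤ)).obj P₀) :=
  Qh.mapIso ((G.mapHomotopyCategoryFactors (ComplexShape.up ℤ)).app P₀) ≪≫
    (quotientCompQhIso (ModuleCat.{u} B)).app _

lemma khObjIso_hom_naturality {P₀ P₁ : CochainComplex (ModuleCat.{u} A) ℤ} (f : P₀ ⟶ P₁) :
    (Kh G).map ((HomotopyCategory.quotient _ _).map f) ≫ (khObjIso G P₁).hom =
      (khObjIso G P₀).hom ≫ Q.map ((G.mapHomologicalComplex (ComplexShape.up ℤ)).map f) := by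
  dsimp only [khObjIso, Kh, Functor.comp_map, Iso.trans_hom, Functor.mapIso_hom, Iso.app_hom]
  have h1 := (G.mapHomotopyCategoryFactors (ComplexShape.up ℤ)).hom.naturality f
  simp only [Functor.comp_map] at h1
  rw [← assoc, ← Functor.map_comp, h1, Functor.map_comp, assoc, assoc]
  congr 1

/-- An object of `D(B)` isomorphic to the class of a K-projective complex. -/
def HasKProjRep (N : DerivedCategory (ModuleCat.{u} B)) : Prop :=
  ∃ T : CochainComplex (ModuleCat.{u} B) ℤ, T.IsKProjective ∧ Nonempty (N ≅ Q.obj T)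

lemma hasKProjRep_Q (T : CochainComplex (ModuleCat.{u} B) ℤ) [T.IsKProjective] :
    HasKProjRep (Q.obj T) := ⟨T, inferInstance, ⟨Iso.refl _⟩⟩

lemma hasKProjRep_of_iso {N N' : DerivedCategory (ModuleCat.{u} B)} (e : N ≅ N')
    (h : HasKProjRep N) : HasKProjRep N' := by
  obtain ⟨T, hT, ⟨i⟩⟩ := h
  exact ⟨T, hT, ⟨e.symm ≪≫ i⟩⟩

lemma hasKProjRep_of_isLE (N : DerivedCategory (ModuleCat.{u} B)) (b : ℤ) [N.IsLE b] :
    HasKProjRep N := by
  obtain ⟨P, hPb, hP, ⟨e⟩⟩ := Groth.Agent.Lib.ProjResolution.exists_iso_Q_projective N b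
  exact ⟨P, CochainComplex.isKProjective_of_projective P b, ⟨e.symm⟩⟩

lemma hasKProjRep_Q_of_isStrictlyLE (X : CochainComplex (ModuleCat.{u} B) ℤ) (b : ℤ)
    [X.IsStrictlyLE b] : HasKProjRep (Q.obj X) :=
  hasKProjRep_of_isLE _ b

/-- additive functors preserve strict upper bounds -/
lemma isStrictlyLE_map (P₀ : CochainComplex (ModuleCat.{u} A) ℤ) (b : ℤ) [P₀.IsStrictlyLE b] :
    CochainComplex.IsStrictlyLE ((G.mapHomologicalComplex (ComplexShape.up ℤ)).obj P₀) b := by
  rw [CochainComplex.isStrictlyLE_iff]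
  intro i hi
  exact G.map_isZero (P₀.isZero_of_isStrictlyLE b i hi)

/-- Bounded above complexes of projectives: all hypotheses are automatic. -/
lemma hasKProjRep_map_of_isStrictlyLE (P₀ : CochainComplex (ModuleCat.{u} A) ℤ) (b : ℤ)
    [P₀.IsStrictlyLE b] :
    HasKProjRep (Q.obj ((G.mapHomologicalComplex (ComplexShape.up ℤ)).obj P₀)) := by
  have := isStrictlyLE_map G P₀ b
  exact hasKProjRep_Q_of_isStrictlyLE _ b

variable [(Kh G).HasLeftDerivedFunctor
  (HomotopyCategory.quasiIso (ModuleCat.{u} A) (ComplexShape.up ℤ))]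

/-- The abstract total left derived functor of `Kh G`. -/
noncomputable abbrev LG : DerivedCategory (ModuleCat.{u} A) ⥤ DerivedCategory (ModuleCat.{u} B) :=
  (Kh G).totalLeftDerived Qh (HomotopyCategory.quasiIso (ModuleCat.{u} A) (ComplexShape.up ℤ))

/-- Its counit. -/
noncomputable abbrev counit : Qh ⋙ LG G ⟶ Kh G :=
  (Kh G).totalLeftDerivedCounit Qh (HomotopyCategory.quasiIso (ModuleCat.{u} A) (ComplexShape.up ℤ))

instance : (LG G).IsRightKanExtension (counit G) :=
  Functor.IsLeftDerivedFunctor.isRightKanExtension _ _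
    (HomotopyCategory.quasiIso (ModuleCat.{u} A) (ComplexShape.up ℤ))

theorem isIso_counit_app (P₀ : CochainComplex (ModuleCat.{u} A) ℤ) [P₀.IsKProjective]
    (h : HasKProjRep (Q.obj ((G.mapHomologicalComplex (ComplexShape.up ℤ)).obj P₀))) :
    IsIso ((counit G).app ((HomotopyCategory.quotient _ _).obj P₀)) := by
  obtain ⟨T, hT, ⟨e⟩⟩ := h
  exact Groth.Agent.Lib.LDerivedKProj.isIso_counit_app (Kh G) (LG G) (counit G) P₀ T
    (khObjIso G P₀ ≪≫ e)

/-- The value of the abstract derived functor on a K-projective complex. -/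
noncomputable def lgIso (P₀ : CochainComplex (ModuleCat.{u} A) ℤ) [P₀.IsKProjective]
    (h : HasKProjRep (Q.obj ((G.mapHomologicalComplex (ComplexShape.up ℤ)).obj P₀))) :
    (LG G).obj (Q.obj P₀) ≅ Q.obj ((G.mapHomologicalComplex (ComplexShape.up ℤ)).obj P₀) :=
  have := isIso_counit_app G P₀ h
  (LG G).mapIso ((quotientCompQhIso (ModuleCat.{u} A)).app P₀).symm ≪≫
    asIso ((counit G).app ((HomotopyCategory.quotient _ _).obj P₀)) ≪≫ khObjIso G P₀

lemma lgIso_hom_naturality {P₀ P₁ : CochainComplex (ModuleCat.{u} A) ℤ} [P₀.IsKProjective]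
    [P₁.IsKProjective]
    (h₀ : HasKProjRep (Q.obj ((G.mapHomologicalComplex (ComplexShape.up ℤ)).obj P₀)))
    (h₁ : HasKProjRep (Q.obj ((G.mapHomologicalComplex (ComplexShape.up ℤ)).obj P₁)))
    (f : P₀ ⟶ P₁) :
    (LG G).map (Q.map f) ≫ (lgIso G P₁ h₁).hom =
      (lgIso G P₀ h₀).hom ≫ Q.map ((G.mapHomologicalComplex (ComplexShape.up ℤ)).map f) := by
  dsimp only [lgIso, Iso.trans_hom, Functor.mapIso_hom, Iso.symm_hom, Iso.app_inv, asIso_hom]
  have h1 : (LG G).map (Q.map f) ≫
      (LG G).map ((quotientCompQhIso (ModuleCat.{u} A)).inv.app P₁) =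
      (LG G).map ((quotientCompQhIso (ModuleCat.{u} A)).inv.app P₀) ≫
        (LG G).map (Qh.map ((HomotopyCategory.quotient _ _).map f)) := by
    rw [← Functor.map_comp, ← Functor.map_comp, quotientCompQhIso_inv_naturality]
  have h2 := (counit G).naturality ((HomotopyCategory.quotient _ _).map f)
  simp only [Functor.comp_map] at h2
  have h3 := khObjIso_hom_naturality G f
  simp only [Functor.comp_map] at h3
  rw [← assoc, h1, assoc, assoc, ← assoc ((LG G).map (Qh.map _)), h2, assoc, h3, assoc]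

end General

section BaseChange

variable {A B : Type u} [CommRing A] [CommRing B] (φ : A →+* B) [DRing.HasLBaseChange φ]

instance : (Kh (ModuleCat.extendScalars.{u, u, u} φ)).HasLeftDerivedFunctor
    (HomotopyCategory.quasiIso (ModuleCat.{u} A) (ComplexShape.up ℤ)) :=
  ‹DRing.HasLBaseChange φ›

/-- `K ⊗^L_A B` for `K` the class of a K-projective complex `P₀` is the class of `P₀ ⊗_A B`. -/
noncomputable def lbcIso (P₀ : CochainComplex (ModuleCat.{u} A) ℤ) [P₀.IsKProjective]
    (h : HasKProjRep (Q.obj (((ModuleCat.extendScalars.{u, u, u} φ).mapHomologicalComplex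
      (ComplexShape.up ℤ)).obj P₀))) :
    (DRing.LBaseChange φ).obj (Q.obj P₀) ≅
      Q.obj (((ModuleCat.extendScalars.{u, u, u} φ).mapHomologicalComplex
        (ComplexShape.up ℤ)).obj P₀) :=
  lgIso (ModuleCat.extendScalars.{u, u, u} φ) P₀ h

lemma lbcIso_hom_naturality {P₀ P₁ : CochainComplex (ModuleCat.{u} A) ℤ} [P₀.IsKProjective]
    [P₁.IsKProjective]
    (h₀ : HasKProjRep (Q.obj (((ModuleCat.extendScalars.{u, u, u} φ).mapHomologicalComplex
      (ComplexShape.up ℤ)).obj P₀)))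
    (h₁ : HasKProjRep (Q.obj (((ModuleCat.extendScalars.{u, u, u} φ).mapHomologicalComplex
      (ComplexShape.up ℤ)).obj P₁)))
    (f : P₀ ⟶ P₁) :
    (DRing.LBaseChange φ).map (Q.map f) ≫ (lbcIso φ P₁ h₁).hom =
      (lbcIso φ P₀ h₀).hom ≫ Q.map (((ModuleCat.extendScalars.{u, u, u} φ).mapHomologicalComplex
        (ComplexShape.up ℤ)).map f) :=
  lgIso_hom_naturality (ModuleCat.extendScalars.{u, u, u} φ) h₀ h₁ f

/-- Bounded above complex of projectives: `K ⊗^L_A B` is computed termwise. -/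
noncomputable def lbcIsoOfBdd (P₀ : CochainComplex (ModuleCat.{u} A) ℤ) (b : ℤ)
    [P₀.IsStrictlyLE b] [∀ i, Projective (P₀.X i)] :
    (DRing.LBaseChange φ).obj (Q.obj P₀) ≅
      Q.obj (((ModuleCat.extendScalars.{u, u, u} φ).mapHomologicalComplex
        (ComplexShape.up ℤ)).obj P₀) :=
  have := CochainComplex.isKProjective_of_projective P₀ b
  lbcIso φ P₀ (hasKProjRep_map_of_isStrictlyLE _ P₀ b)

lemma lbcIsoOfBdd_hom_naturality {P₀ P₁ : CochainComplex (ModuleCat.{u} A) ℤ} (b₀ b₁ : ℤ)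
    [P₀.IsStrictlyLE b₀] [∀ i, Projective (P₀.X i)] [P₁.IsStrictlyLE b₁] [∀ i, Projective (P₁.X i)]
    (f : P₀ ⟶ P₁) :
    (DRing.LBaseChange φ).map (Q.map f) ≫ (lbcIsoOfBdd φ P₁ b₁).hom =
      (lbcIsoOfBdd φ P₀ b₀).hom ≫ Q.map (((ModuleCat.extendScalars.{u, u, u} φ).mapHomologicalComplex
        (ComplexShape.up ℤ)).map f) := by
  have := CochainComplex.isKProjective_of_projective P₀ b₀
  have := CochainComplex.isKProjective_of_projective P₁ b₁
  exact lgIso_hom_naturality (ModuleCat.extendScalars.{u, u, u} φ)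
    (hasKProjRep_map_of_isStrictlyLE _ P₀ b₀) (hasKProjRep_map_of_isStrictlyLE _ P₁ b₁) f

end BaseChange

section Tensor

variable (A : Type u) [CommRing A] (M : ModuleCat.{u} A) [DRing.HasLTensor A M]

instance : (Kh (tensorRight M)).HasLeftDerivedFunctor
    (HomotopyCategory.quasiIso (ModuleCat.{u} A) (ComplexShape.up ℤ)) :=
  ‹DRing.HasLTensor A M›

/-- `K ⊗^L_A M` for `K` the class of a bounded above complex of projectives `P₀` is the class of
`P₀ ⊗_A M` (termwise). -/
noncomputable def ltIsoOfBdd (P₀ : CochainComplex (ModuleCat.{u} A) ℤ) (b : ℤ)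
    [P₀.IsStrictlyLE b] [∀ i, Projective (P₀.X i)] :
    (DRing.LTensor A M).obj (Q.obj P₀) ≅
      Q.obj (((tensorRight M).mapHomologicalComplex (ComplexShape.up ℤ)).obj P₀) :=
  have := CochainComplex.isKProjective_of_projective P₀ b
  lgIso (tensorRight M) P₀ (hasKProjRep_map_of_isStrictlyLE _ P₀ b)

lemma ltIsoOfBdd_hom_naturality {P₀ P₁ : CochainComplex (ModuleCat.{u} A) ℤ} (b₀ b₁ : ℤ)
    [P₀.IsStrictlyLE b₀] [∀ i, Projective (P₀.X i)] [P₁.IsStrictlyLE b₁] [∀ i, Projective (P₁.X i)]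
    (f : P₀ ⟶ P₁) :
    (DRing.LTensor A M).map (Q.map f) ≫ (ltIsoOfBdd A M P₁ b₁).hom =
      (ltIsoOfBdd A M P₀ b₀).hom ≫
        Q.map (((tensorRight M).mapHomologicalComplex (ComplexShape.up ℤ)).map f) := by
  have := CochainComplex.isKProjective_of_projective P₀ b₀
  have := CochainComplex.isKProjective_of_projective P₁ b₁
  exact lgIso_hom_naturality (tensorRight M) (hasKProjRep_map_of_isStrictlyLE _ P₀ b₀)
    (hasKProjRep_map_of_isStrictlyLE _ P₁ b₁) f

end Tensor

end Groth.Agent.Lib.LBaseChangeKProj
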