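import Groth.Agent.Lib.PCohLimit21

/-!
# SGA 6 I (punctual case): consequences of the infinite modification (helper21)

* `exists_strictPCAll_quasiIso`: a complex `G` with pseudo-coherent image in `D(C)` and acyclic in degrees
  `≥ m` receives a quasi-isomorphism from a strictly pseudo-coherent complex vanishing in degrees `≥ m`.
* `isPC_of_iso`, `isPC_Q_of_isStrictPCAll`, `exists_bound_homology`.
-/

set_option autoImplicit false
universe w v u

open CategoryTheory CategoryTheory.Limits HomologicalComplex CochainComplex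
open ZeroObject

namespace Groth.Agent.Lib.PCohLimit21

variable {C : Type u} [Category.{v} C] [Abelian C] (P : ObjectProperty C)
  [HasDerivedCategory.{w} C]

lemma isPC_of_iso {F G : DerivedCategory C} (e : F ≅ G) (hF : PCoh.IsPC P F) : PCoh.IsPC P G := by
  intro n
  obtain ⟨E, hE, ⟨a⟩⟩ := hF n
  exact ⟨E, hE, ⟨a ≪≫ e⟩⟩

lemma isPC_Q_of_isStrictPCAll {E : CochainComplex C ℤ} (hE : PCoh.IsStrictPCAll P E) :
    PCoh.IsPC P (DerivedCategory.Q.obj E) :=
  fun _ => ⟨E, ⟨hE.1, fun i _ => hE.2 i⟩, ⟨Iso.refl _⟩⟩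

omit [HasDerivedCategory C] in
lemma isZero_homology_of_isZero_X (K : CochainComplex C ℤ) (i : ℤ) (h : IsZero (K.X i)) :
    IsZero (K.homology i) :=
  (HomologicalComplex.ExactAt.of_isZero h).isZero_homology

variable [P.IsClosedUnderIsomorphisms] [P.ContainsZero]

include P in
omit [P.IsClosedUnderIsomorphisms] [P.ContainsZero] in
/-- a complex with pseudo-coherent image has bounded above cohomology -/
lemma exists_bound_homology (G : CochainComplex C ℤ) (hG : PCoh.IsPC P (DerivedCategory.Q.obj G)) :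
    ∃ m : ℤ, ∀ i : ℤ, m ≤ i → IsZero (G.homology i) := by
  obtain ⟨L, ⟨⟨b, hb⟩, -⟩, ⟨e⟩⟩ := hG 0
  refine ⟨b + 1, fun i hi => ?_⟩
  exact IsZero.of_iso (isZero_homology_of_isZero_X L i (hb i (by lia)))
    (homologyIsoOfQIso e i).symm

theorem exists_strictPCAll_quasiIso
    (hsum : ∀ X Y : C, P X → P Y → P (X ⨯ Y))
    (hqs : PCoh.IsQuasiStableUnderKernels P) (hql : PCoh.IsQuasiLiftable P)
    (G : CochainComplex C ℤ) (hG : PCoh.IsPC P (DerivedCategory.Q.obj G)) (m : ℤ)
    (hac : ∀ i : ℤ, m ≤ i → IsZero (G.homology i)) :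
    ∃ (E' : CochainComplex C ℤ) (t : E' ⟶ G), PCoh.IsStrictPCAll P E' ∧ QuasiIso t ∧
      ∀ i : ℤ, m ≤ i → IsZero (E'.X i) := by
  have hz : ∀ i : ℤ, IsZero ((0 : CochainComplex C ℤ).X i) := fun i =>
    (HomologicalComplex.eval C (ComplexShape.up ℤ) i).map_isZero (isZero_zero _)
  have hzh : ∀ i : ℤ, IsZero ((0 : CochainComplex C ℤ).homology i) := fun i =>
    isZero_homology_of_isZero_X _ i (hz i)
  have h0 : PCoh.IsStrictPCAll P (0 : CochainComplex C ℤ) :=
    ⟨⟨0, fun i _ => hz i⟩, fun i => P.prop_of_isZero (hz i)⟩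
  obtain ⟨E', v, t, -, hE', ht, -, hv⟩ := exists_resolution P hsum hqs hql G hG m
    (0 : CochainComplex C ℤ) h0 (0 : (0 : CochainComplex C ℤ) ⟶ G)
    (fun j hj => ⟨⟨0, (hzh j).eq_of_src _ _, (hac j hj.le).eq_of_src _ _⟩⟩)
    ⟨fun a b _ => (hac m le_rfl).eq_of_src a b⟩
  refine ⟨E', t, hE', ht, fun i hi => ?_⟩
  have := hv i hi
  exact IsZero.of_iso (hz i) (asIso (v.f i)).symm

end Groth.Agent.Lib.PCohLimit21
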