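import Mathlib.Algebra.Homology.DerivedCategory.KProjective
import Mathlib.Algebra.Homology.DerivedCategory.HomologySequence
import Mathlib.Algebra.Category.ModuleCat.Abelian
import Mathlib.Algebra.Category.ModuleCat.Biproducts
import Mathlib.Algebra.Category.ModuleCat.Projective

/-!
Objects of `D(R)` represented by complexes in a class `𝒞` of K-projective complexes which is stable
under shifts and mapping cones: two-out-of-three in distinguished triangles.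
-/

set_option autoImplicit false
universe u

open CategoryTheory CategoryTheory.Limits CategoryTheory.Pretriangulated

namespace Groth.Agent.Lib.H93ConeRep

attribute [local instance] HasDerivedCategory.standard

variable {R : Type u} [CommRing R]

/-- `K` is represented by a complex in the class `𝒞`. -/
def Rep (𝒞 : CochainComplex (ModuleCat.{u} R) ℤ → Prop) (K : DerivedCategory (ModuleCat.{u} R)) :
    Prop :=
  ∃ E, 𝒞 E ∧ Nonempty (DerivedCategory.Q.obj E ≅ K)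

/-- A class of K-projective complexes stable under shifts and mapping cones. -/
structure ConeClass (𝒞 : CochainComplex (ModuleCat.{u} R) ℤ → Prop) : Prop where
  kproj : ∀ E, 𝒞 E → E.IsKProjective
  shift : ∀ (E : CochainComplex (ModuleCat.{u} R) ℤ) (n : ℤ), 𝒞 E → 𝒞 (E⟦n⟧)
  cone : ∀ {E₁ E₂ : CochainComplex (ModuleCat.{u} R) ℤ} (φ : E₁ ⟶ E₂), 𝒞 E₁ → 𝒞 E₂ →
    𝒞 (CochainComplex.mappingCone φ)

variable {𝒞 : CochainComplex (ModuleCat.{u} R) ℤ → Prop}

lemma rep_of_iso {K L : DerivedCategory (ModuleCat.{u} R)} (e : K ≅ L) (hK : Rep 𝒞 K) :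
    Rep 𝒞 L := by
  obtain ⟨E, hE, ⟨i⟩⟩ := hK
  exact ⟨E, hE, ⟨i ≪≫ e⟩⟩

lemma rep_shift (h : ConeClass 𝒞) {K : DerivedCategory (ModuleCat.{u} R)} (n : ℤ)
    (hK : Rep 𝒞 K) : Rep 𝒞 (K⟦n⟧) := by
  obtain ⟨E, hE, ⟨i⟩⟩ := hK
  refine ⟨E⟦n⟧, h.shift E n hE, ⟨?_⟩⟩
  exact (DerivedCategory.Q.commShiftIso n).app E ≪≫ (shiftFunctor _ n).mapIso i

lemma rep_of_shift (h : ConeClass 𝒞) {K : DerivedCategory (ModuleCat.{u} R)} (n : ℤ)
    (hK : Rep 𝒞 (K⟦n⟧)) : Rep 𝒞 K := by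
  have := rep_shift h (-n) hK
  exact rep_of_iso ((shiftEquiv (DerivedCategory (ModuleCat.{u} R)) n).unitIso.symm.app K) this

/-- morphisms in the derived category out of a K-projective complex come from chain maps -/
lemma exists_map_eq {E₁ E₂ : CochainComplex (ModuleCat.{u} R) ℤ} [E₁.IsKProjective]
    (g : DerivedCategory.Q.obj E₁ ⟶ DerivedCategory.Q.obj E₂) :
    ∃ φ : E₁ ⟶ E₂, DerivedCategory.Q.map φ = g := by
  obtain ⟨ψ, hψ⟩ := (CochainComplex.IsKProjective.Qh_map_bijective E₁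
    ((HomotopyCategory.quotient _ _).obj E₂)).surjective
    ((DerivedCategory.quotientCompQhIso _).hom.app E₁ ≫ g ≫
      (DerivedCategory.quotientCompQhIso _).inv.app E₂)
  obtain ⟨φ, rfl⟩ := (HomotopyCategory.quotient _ _).map_surjective ψ
  refine ⟨φ, ?_⟩
  have := DerivedCategory.quotientCompQhIso_hom_naturality (C := ModuleCat.{u} R) φ
  rw [hψ] at this
  simp only [Category.assoc, Iso.inv_hom_id_app, Category.comp_id] at this
  exact ((cancel_epi _).mp this).symm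

theorem rep_obj₃ (h : ConeClass 𝒞) (T : Triangle (DerivedCategory (ModuleCat.{u} R)))
    (hT : T ∈ distTriang _) (h₁ : Rep 𝒞 T.obj₁) (h₂ : Rep 𝒞 T.obj₂) : Rep 𝒞 T.obj₃ := by
  obtain ⟨E₁, hE₁, ⟨e₁⟩⟩ := h₁
  obtain ⟨E₂, hE₂, ⟨e₂⟩⟩ := h₂
  have := h.kproj E₁ hE₁
  obtain ⟨φ, hφ⟩ := exists_map_eq (e₁.hom ≫ T.mor₁ ≫ e₂.inv)
  refine ⟨CochainComplex.mappingCone φ, h.cone φ hE₁ hE₂, ⟨?_⟩⟩
  have hdist := DerivedCategory.mappingCone_triangle_distinguished φ
  have comm : DerivedCategory.Q.map φ ≫ e₂.hom = e₁.hom ≫ T.mor₁ := by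
    rw [hφ]
    simp
  let e := isoTriangleOfIso₁₂ _ _ hdist hT e₁ e₂ comm
  exact Triangle.π₃.mapIso e

theorem rep_obj₁ (h : ConeClass 𝒞) (T : Triangle (DerivedCategory (ModuleCat.{u} R)))
    (hT : T ∈ distTriang _) (h₂ : Rep 𝒞 T.obj₂) (h₃ : Rep 𝒞 T.obj₃) : Rep 𝒞 T.obj₁ := by
  have := rep_obj₃ h T.rotate (rot_of_distTriang _ hT) h₂ h₃
  exact rep_of_shift h 1 this

theorem rep_obj₂ (h : ConeClass 𝒞) (T : Triangle (DerivedCategory (ModuleCat.{u} R)))
    (hT : T ∈ distTriang _) (h₁ : Rep 𝒞 T.obj₁) (h₃ : Rep 𝒞 T.obj₃) : Rep 𝒞 T.obj₂ := by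
  have := rep_obj₃ h T.rotate.rotate (rot_of_distTriang _ (rot_of_distTriang _ hT)) h₃
    (rep_shift h 1 h₁)
  exact rep_of_shift h 1 this


section Termwise

variable (P : ModuleCat.{u} R → Prop)

/-- bounded complexes with all terms in `P` -/
def BddTermwise (E : CochainComplex (ModuleCat.{u} R) ℤ) : Prop :=
  (∃ a b : ℤ, ∀ i : ℤ, i < a ∨ b < i → IsZero (E.X i)) ∧ ∀ i : ℤ, P (E.X i)

/-- bounded above complexes with all terms in `P` -/
def BddAboveTermwise (E : CochainComplex (ModuleCat.{u} R) ℤ) : Prop :=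
  (∃ b : ℤ, ∀ i : ℤ, b < i → IsZero (E.X i)) ∧ ∀ i : ℤ, P (E.X i)

variable {P}

lemma isKProjective_of_bddAbove (hproj : ∀ M, P M → Module.Projective R M)
    (E : CochainComplex (ModuleCat.{u} R) ℤ) (hE : BddAboveTermwise P E) : E.IsKProjective := by
  obtain ⟨⟨b, hb⟩, hP⟩ := hE
  have : E.IsStrictlyLE b := by
    rw [CochainComplex.isStrictlyLE_iff]
    exact hb
  have : ∀ n : ℤ, Projective (E.X n) := by
    intro n
    have := hproj _ (hP n)
    exact ModuleCat.projective_of_categoryTheory_projective (E.X n)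
  exact CochainComplex.isKProjective_of_projective E b

lemma cone_X_iso {E₁ E₂ : CochainComplex (ModuleCat.{u} R) ℤ} (φ : E₁ ⟶ E₂) (i : ℤ) :
    Nonempty ((CochainComplex.mappingCone φ).X i ≅ ModuleCat.of R (E₁.X (i + 1) × E₂.X i)) :=
  ⟨HomologicalComplex.homotopyCofiber.XIsoBiprod φ i (i + 1) rfl ≪≫
    ModuleCat.biprodIsoProd _ _⟩

lemma isZero_prod {M N : ModuleCat.{u} R} (hM : IsZero M) (hN : IsZero N) :
    IsZero (ModuleCat.of R (M × N)) := by
  rw [ModuleCat.isZero_iff_subsingleton] at hM hN ⊢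
  exact inferInstanceAs (Subsingleton (M × N))

theorem coneClass_bddAbove (hproj : ∀ M, P M → Module.Projective R M)
    (hiso : ∀ M N : ModuleCat.{u} R, (M ≅ N) → P M → P N)
    (hprod : ∀ M N : ModuleCat.{u} R, P M → P N → P (ModuleCat.of R (M × N))) :
    ConeClass (BddAboveTermwise P) where
  kproj := isKProjective_of_bddAbove hproj
  shift := by
    rintro E n ⟨⟨b, hb⟩, hP⟩
    refine ⟨⟨b - n, fun i hi => ?_⟩, fun i => ?_⟩
    · exact hb (i + n) (by omega)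
    · exact hP (i + n)
  cone := by
    rintro E₁ E₂ φ ⟨⟨b₁, hb₁⟩, hP₁⟩ ⟨⟨b₂, hb₂⟩, hP₂⟩
    refine ⟨⟨max b₁ b₂, fun i hi => ?_⟩, fun i => ?_⟩
    · obtain ⟨e⟩ := cone_X_iso φ i
      refine IsZero.of_iso (isZero_prod (hb₁ _ ?_) (hb₂ _ ?_)) e
      · have := le_max_left b₁ b₂; omega
      · have := le_max_right b₁ b₂; omega
    · obtain ⟨e⟩ := cone_X_iso φ i
      exact hiso _ _ e.symm (hprod _ _ (hP₁ _) (hP₂ _))

theorem coneClass_bdd (hproj : ∀ M, P M → Module.Projective R M)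
    (hiso : ∀ M N : ModuleCat.{u} R, (M ≅ N) → P M → P N)
    (hprod : ∀ M N : ModuleCat.{u} R, P M → P N → P (ModuleCat.of R (M × N))) :
    ConeClass (BddTermwise P) where
  kproj := by
    rintro E ⟨⟨a, b, hab⟩, hP⟩
    exact isKProjective_of_bddAbove hproj E ⟨⟨b, fun i hi => hab i (Or.inr hi)⟩, hP⟩
  shift := by
    rintro E n ⟨⟨a, b, hab⟩, hP⟩
    refine ⟨⟨a - n, b - n, fun i hi => ?_⟩, fun i => ?_⟩
    · exact hab (i + n) (by omega)
    · exact hP (i + n)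
  cone := by
    rintro E₁ E₂ φ ⟨⟨a₁, b₁, hb₁⟩, hP₁⟩ ⟨⟨a₂, b₂, hb₂⟩, hP₂⟩
    refine ⟨⟨min (a₁ - 1) a₂, max b₁ b₂, fun i hi => ?_⟩, fun i => ?_⟩
    · obtain ⟨e⟩ := cone_X_iso φ i
      refine IsZero.of_iso (isZero_prod (hb₁ _ ?_) (hb₂ _ ?_)) e
      · have := le_max_left b₁ b₂
        have := min_le_left (a₁ - 1) a₂
        omega
      · have := le_max_right b₁ b₂
        have := min_le_right (a₁ - 1) a₂
        omega
    · obtain ⟨e⟩ := cone_X_iso φ i
      exact hiso _ _ e.symm (hprod _ _ (hP₁ _) (hP₂ _))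

end Termwise

end Groth.Agent.Lib.H93ConeRep
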