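import Groth.Agent.Lib.DStupid
import Groth.Agent.Lib.ProjResolution
import Groth.Agent.Lib.H93ConeRep
import Groth.Agent.Lib.DRingPCoh21
import Groth.Agent.Lib.FlatBaseChangeD
import Groth.Prelude.Def_DDual2

/-!
# K-projective representatives of `m`-pseudo-coherent objects (helper21)

* `exists_projective_rep_of_isPseudoCoherent`: an `m`-pseudo-coherent object `K` of `D(A)` is represented by a bounded above
  complex `E'` all of whose terms are projective and whose terms in degrees `≥ m` are finite free.  (Such a complex is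
  K-projective, so that abstract left derived functors can be computed on it.)

Construction: `E` strictly `m`-pseudo-coherent, `σ_{≥ m} E → E → σ_{< m} E` the stupid truncation triangle
(`Lib/DStupid`), `P → σ_{< m} E` a projective resolution vanishing in degrees `≥ m` (`Lib/ProjResolution`), and `E'` the
mapping cone of a chain map `P[-1] → σ_{≥ m} E` representing the connecting morphism (`Lib/H93ConeRep.exists_map_eq`).
-/

set_option autoImplicit false
universe u

open CategoryTheory CategoryTheory.Limits CategoryTheory.Pretriangulated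

attribute [local instance] HasDerivedCategory.standard

namespace Groth.Agent.Lib.PCohProjRep21

open Groth.Agent.Lib.DStupid Groth.Agent.Lib.H93ConeRep Groth.Agent.Lib.DRingPCoh21

variable (A : Type u) [CommRing A]

lemma ff_of_iso_prod {M N₁ N₂ : ModuleCat.{u} A} (e : M ≅ ModuleCat.of A (N₁ × N₂))
    (h1 : IsZero N₁) (h2 : FF A N₂) : FF A M := by
  have : Subsingleton N₁ := ModuleCat.subsingleton_of_isZero h1
  obtain ⟨h3, h4⟩ := h2
  have h5 : Module.Finite A (N₁ × N₂) := inferInstance
  have h6 : Module.Free A (N₁ × N₂) := inferInstance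
  exact ⟨Module.Finite.equiv e.toLinearEquiv.symm, Module.Free.of_equiv e.toLinearEquiv.symm⟩

theorem exists_projective_rep_of_isPseudoCoherent (m : ℤ) (K : Dual.D A)
    (hK : DRing.IsPseudoCoherent A m K) :
    ∃ E' : CochainComplex (ModuleCat.{u} A) ℤ, (∃ b : ℤ, ∀ i : ℤ, b < i → IsZero (E'.X i)) ∧
      (∀ i : ℤ, Module.Projective A (E'.X i)) ∧ (∀ i : ℤ, m ≤ i → FF A (E'.X i)) ∧
      Nonempty (DerivedCategory.Q.obj E' ≅ K) := by
  obtain ⟨E, ⟨⟨b, hb⟩, hE⟩, ⟨e⟩⟩ := (isPseudoCoherent_iff A m K).1 hK
  have hT := tri_distinguished E (topFamily E m) (topFamily_le E m)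
  -- projective resolution of `σ_{< m} E`
  obtain ⟨P, hPb, hPp, ⟨eP⟩⟩ := Groth.Agent.Lib.ProjResolution.exists_projective_rep A
    (DerivedCategory.Q.obj (stupidLT E m)) (m - 1) (fun i hi => by
      have h1 : IsZero ((stupidLT E m).homology i) :=
        (HomologicalComplex.exactAt_iff_isZero_homology _ _).mp
          (HomologicalComplex.ExactAt.of_isZero (isZero_stupidLT_X_of_le E m i (by lia)))
      exact ModuleCat.subsingleton_of_isZero
        (h1.of_iso ((DerivedCategory.homologyFunctorFactors (ModuleCat.{u} A) i).app _)))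
  have hT' := inv_rot_of_distTriang _ hT
  let E₁ : CochainComplex (ModuleCat.{u} A) ℤ := P⟦(-1 : ℤ)⟧
  let e₁ : DerivedCategory.Q.obj E₁ ≅ (DerivedCategory.Q.obj (stupidLT E m))⟦(-1 : ℤ)⟧ :=
    (DerivedCategory.Q.commShiftIso (-1 : ℤ)).app P ≪≫ (shiftFunctor _ (-1 : ℤ)).mapIso eP
  have hE₁z : ∀ i : ℤ, m < i → IsZero (E₁.X i) := fun i hi => hPb (i + -1) (by lia)
  haveI : E₁.IsKProjective := by
    have h1 : E₁.IsStrictlyLE m := by
      rw [CochainComplex.isStrictlyLE_iff]
      exact hE₁z
    have h2 : ∀ n : ℤ, Projective (E₁.X n) := fun n => by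
      have : Module.Projective A (P.X (n + -1)) := hPp (n + -1)
      exact ModuleCat.projective_of_categoryTheory_projective (P.X (n + -1))
    exact CochainComplex.isKProjective_of_projective E₁ m
  obtain ⟨φ, hφ⟩ := exists_map_eq (E₁ := E₁) (E₂ := stupidGE E m)
    (e₁.hom ≫ (tri E (topFamily E m) (topFamily_le E m)).invRotate.mor₁)
  have hdist := DerivedCategory.mappingCone_triangle_distinguished φ
  have comm : DerivedCategory.Q.map φ ≫ (Iso.refl _).hom =
      e₁.hom ≫ (tri E (topFamily E m) (topFamily_le E m)).invRotate.mor₁ := by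
    rw [hφ]
    exact Category.comp_id _
  let et := isoTriangleOfIso₁₂ _ _ hdist hT' e₁ (Iso.refl _) comm
  refine ⟨CochainComplex.mappingCone φ, ⟨max b m, fun i hi => ?_⟩, fun i => ?_, fun i hi => ?_,
    ⟨Triangle.π₃.mapIso et ≪≫ e⟩⟩
  · obtain ⟨ec⟩ := cone_X_iso φ i
    refine IsZero.of_iso (isZero_prod (hE₁z _ ?_) ?_) ec
    · have := le_max_right b m; lia
    · exact isZero_stupidGE_X_of_isZero E m i (hb i (by have := le_max_left b m; lia))
  · obtain ⟨ec⟩ := cone_X_iso φ i
    have h1 : Module.Projective A (E₁.X (i + 1)) := hPp (i + 1 + -1)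
    have h2 : Module.Projective A ((stupidGE E m).X i) := by
      by_cases hi : m ≤ i
      · have := (hE i hi).2
        exact Module.Projective.of_equiv (stupidGEXIso E m i hi).toLinearEquiv.symm
      · have : Subsingleton ((stupidGE E m).X i) :=
          ModuleCat.subsingleton_of_isZero (isZero_stupidGE_X_of_lt E m i (by lia))
        infer_instance
    have h3 : Module.Projective A (E₁.X (i + 1) × (stupidGE E m).X i) := inferInstance
    exact Module.Projective.of_equiv ec.toLinearEquiv.symm
  · obtain ⟨ec⟩ := cone_X_iso φ i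
    refine ff_of_iso_prod A ec (hE₁z _ (by lia)) ?_
    exact (FF A).prop_of_iso (stupidGEXIso E m i hi).symm (hE i hi)

variable {A} {B : Type u} [CommRing B]

/-- termwise base change of a bounded above complex which is finite free in degrees `≥ m` is strictly `m`-pseudo-coherent -/
lemma isStrictPC_extendScalars (φ : A →+* B) (m : ℤ) (E : CochainComplex (ModuleCat.{u} A) ℤ)
    (hb : ∃ b : ℤ, ∀ i : ℤ, b < i → IsZero (E.X i)) (hE : ∀ i : ℤ, m ≤ i → FF A (E.X i)) :
    PCoh.IsStrictPC (FF B) m
      (((ModuleCat.extendScalars.{u, u, u} φ).mapHomologicalComplex (ComplexShape.up ℤ)).obj E) := by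
  letI := φ.toAlgebra
  obtain ⟨b, hb⟩ := hb
  refine ⟨⟨b, fun i hi => ?_⟩, fun i hi => ?_⟩
  · exact (Groth.Agent.Lib.FlatBaseChangeD.F A B).map_isZero (hb i hi)
  · obtain ⟨h1, h2⟩ := hE i hi
    exact ⟨Groth.Agent.Lib.FlatBaseChangeD.finite_obj (A := A) (B := B) (E.X i),
      Groth.Agent.Lib.FlatBaseChangeD.free_obj (A := A) (B := B) (E.X i)⟩

/-- **`m`-pseudo-coherence is preserved by derived base change**, given that `LBaseChange` is computed termwise on bounded
above complexes of projective modules (hypothesis `key`). -/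
theorem isPseudoCoherent_LBaseChange_of_key (φ : A →+* B) [DRing.HasLBaseChange φ]
    (key : ∀ P : CochainComplex (ModuleCat.{u} A) ℤ, (∃ b : ℤ, ∀ i : ℤ, b < i → IsZero (P.X i)) →
      (∀ i : ℤ, Module.Projective A (P.X i)) →
      Nonempty ((DRing.LBaseChange φ).obj (DerivedCategory.Q.obj P) ≅ DerivedCategory.Q.obj
        (((ModuleCat.extendScalars.{u, u, u} φ).mapHomologicalComplex (ComplexShape.up ℤ)).obj P)))
    (K : Dual.D A) (m : ℤ) (hK : DRing.IsPseudoCoherent A m K) :
    DRing.IsPseudoCoherent B m ((DRing.LBaseChange φ).obj K) := by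
  obtain ⟨E', hb, hp, hff, ⟨e⟩⟩ := exists_projective_rep_of_isPseudoCoherent A m K hK
  obtain ⟨e'⟩ := key E' hb hp
  rw [isPseudoCoherent_iff]
  exact ⟨_, isStrictPC_extendScalars φ m E' hb hff,
    ⟨e'.symm ≪≫ (DRing.LBaseChange φ).mapIso e⟩⟩

end Groth.Agent.Lib.PCohProjRep21
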