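import Groth.Agent.Lib.H78ProjRes
import Groth.Prelude.Def_DRing2
import Mathlib.CategoryTheory.Abelian.Projective.Ext

/-!
# Basic lemmas on `DRing.HasTorAmplitudeIn` (helper21)

* `hasTorAmplitudeIn_of_isZero`, `hasTorAmplitudeIn_mono`, `hasTorAmplitudeIn_of_iso`.
* `hasTorAmplitudeIn_inD_of_projectiveResolution`: a module with a projective resolution of length `≤ d` has
  tor amplitude in `[-d, 0]`.
-/

set_option autoImplicit false
universe u

open CategoryTheory CategoryTheory.Limits ZeroObject

attribute [local instance] HasDerivedCategory.standard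

namespace Groth.Agent.Lib.TorAmpBasic21

variable (R : Type u) [CommRing R]

lemma hasTorAmplitudeIn_of_iso {a b : ℤ} {K L : Dual.D R} (e : K ≅ L)
    (h : DRing.HasTorAmplitudeIn R a b K) : DRing.HasTorAmplitudeIn R a b L := by
  obtain ⟨E, h1, h2, ⟨e'⟩⟩ := h
  exact ⟨E, h1, h2, ⟨e' ≪≫ e⟩⟩

lemma hasTorAmplitudeIn_mono {a b a' b' : ℤ} (ha : a' ≤ a) (hb : b ≤ b') {K : Dual.D R}
    (h : DRing.HasTorAmplitudeIn R a b K) : DRing.HasTorAmplitudeIn R a' b' K := by
  obtain ⟨E, h1, h2, h3⟩ := h
  exact ⟨E, fun i hi => h1 i (by lia), h2, h3⟩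

lemma hasTorAmplitudeIn_of_isZero (a b : ℤ) {K : Dual.D R} (hK : IsZero K) :
    DRing.HasTorAmplitudeIn R a b K := by
  have h0 : ∀ i : ℤ, IsZero ((0 : DRing.Cx R).X i) := fun i =>
    (HomologicalComplex.eval (ModuleCat.{u} R) (ComplexShape.up ℤ) i).map_isZero (isZero_zero _)
  refine ⟨0, fun i _ => h0 i, fun i => ?_, ⟨IsZero.iso ?_ hK⟩⟩
  · have : Subsingleton ((0 : DRing.Cx R).X i) := ModuleCat.subsingleton_of_isZero (h0 i)
    infer_instance
  · exact (DerivedCategory.Q (C := ModuleCat.{u} R)).map_isZero (isZero_zero _)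

lemma hasTorAmplitudeIn_inD_of_subsingleton (a b : ℤ) (M : Type u) [AddCommGroup M] [Module R M]
    [Subsingleton M] : DRing.HasTorAmplitudeIn R a b (Dual.inD R M) :=
  hasTorAmplitudeIn_of_isZero R a b
    ((DerivedCategory.singleFunctor (ModuleCat.{u} R) 0).map_isZero
      (ModuleCat.isZero_of_subsingleton _))

/-- a module with a projective resolution of length `≤ d` has tor amplitude in `[-d, 0]` -/
theorem hasTorAmplitudeIn_inD_of_projectiveResolution (M : Type u) [AddCommGroup M] [Module R M]
    (d : ℕ) (P : ProjectiveResolution (ModuleCat.of R M))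
    (hP : ∀ i : ℕ, d < i → IsZero (P.complex.X i)) :
    DRing.HasTorAmplitudeIn R (-(d : ℤ)) 0 (Dual.inD R M) := by
  refine ⟨P.cochainComplex, fun i hi => ?_, fun i => ?_, ?_⟩
  · rcases hi with hi | hi
    · obtain ⟨k, rfl⟩ := Int.exists_eq_neg_ofNat (show i ≤ 0 by lia)
      exact (hP k (by lia)).of_iso (P.cochainComplexXIso (-k) k rfl)
    · exact CochainComplex.isZero_of_isStrictlyLE _ 0 i hi
  · by_cases hi : i ≤ 0
    · obtain ⟨k, rfl⟩ := Int.exists_eq_neg_ofNat hi
      let e := (P.cochainComplexXIso (-k) k rfl).toLinearEquiv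
      have h1 : Projective (P.complex.X k) := P.projective k
      have h2 : Module.Projective R (P.complex.X k) :=
        (IsProjective.iff_projective (R := R) (P := (P.complex.X k))).2 h1
      have : Module.Flat R (P.complex.X k) := inferInstance
      exact Module.Flat.of_linearEquiv e
    · have hz : IsZero (P.cochainComplex.X i) :=
        CochainComplex.isZero_of_isStrictlyLE _ 0 i (by lia)
      have : Subsingleton (P.cochainComplex.X i) := ModuleCat.subsingleton_of_isZero hz
      infer_instance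
  · have h : IsIso (DerivedCategory.Q.map P.π') := by
      rw [DerivedCategory.isIso_Q_map_iff_quasiIso]
      infer_instance
    exact ⟨@asIso _ _ _ _ (DerivedCategory.Q.map P.π') h ≪≫
      ((DerivedCategory.singleFunctorIsoCompQ (ModuleCat.{u} R) 0).app _).symm⟩

end Groth.Agent.Lib.TorAmpBasic21
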