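import Groth.Agent.Lib.FibreNak21
import Groth.Agent.Lib.LBaseChangeKProj
import Groth.Agent.Lib.PCohProjRep21
import Groth.Agent.Lib.FlatAmp4
import Groth.Agent.Lib.TorAmpBasic21
import Groth.Agent.Lib.DPerfBasic

/-!
# Fibrewise Nakayama in `D(R)` (helper21)

`I ≤ Jac R`.  If `K ∈ D(R)` is pseudo-coherent and `K ⊗^L R/I` has tor amplitude in `[a, b]` over `R/I`, then `K` has
finite projective amplitude in `[a, b]` (`main`); in particular `K` is perfect and of tor amplitude `[a, b]`.

* `exists_homotopy_of_iso`: K-projective complexes isomorphic in `D` are homotopy equivalent (one half).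
* `unit_surjective`, `mem_smul_top_of_unit_eq_zero`: the unit `M → (R/I) ⊗ M`.
* `exists_hbar`, `exists_lift_good`, `key`, `pa_of_pa_bc`, `main`.
-/

set_option autoImplicit false
universe u
open CategoryTheory CategoryTheory.Limits ChangeOfRings ZeroObject

namespace Groth.Agent.Lib.FibreNakD21

open Groth.Agent.Lib.DRingPCoh21 Groth.Agent.Lib.DRingPerfAmp Groth.Agent.Lib.PCohAmp

section KProj

variable {C : Type*} [Category C] [Abelian C] [HasDerivedCategory C]

theorem exists_homotopy_of_iso (K L : CochainComplex C ℤ) [K.IsKProjective] [L.IsKProjective]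
    (e : DerivedCategory.Q.obj K ≅ DerivedCategory.Q.obj L) :
    ∃ (f : K ⟶ L) (g : L ⟶ K), Nonempty (Homotopy (f ≫ g) (𝟙 K)) := by
  obtain ⟨f', hf'⟩ := (CochainComplex.IsKProjective.Qh_map_bijective K
    ((HomotopyCategory.quotient _ _).obj L)).surjective
    ((DerivedCategory.quotientCompQhIso C).hom.app K ≫ e.hom ≫
      (DerivedCategory.quotientCompQhIso C).inv.app L)
  obtain ⟨g', hg'⟩ := (CochainComplex.IsKProjective.Qh_map_bijective L
    ((HomotopyCategory.quotient _ _).obj K)).surjective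
    ((DerivedCategory.quotientCompQhIso C).hom.app L ≫ e.inv ≫
      (DerivedCategory.quotientCompQhIso C).inv.app K)
  have h1 : f' ≫ g' = 𝟙 _ :=
    (CochainComplex.IsKProjective.Qh_map_bijective K _).injective (by simp [hf', hg'])
  obtain ⟨f, rfl⟩ := (HomotopyCategory.quotient _ _).map_surjective f'
  obtain ⟨g, rfl⟩ := (HomotopyCategory.quotient _ _).map_surjective g'
  refine ⟨f, g, ⟨HomotopyCategory.homotopyOfEq _ _ ?_⟩⟩
  rw [CategoryTheory.Functor.map_comp, h1, CategoryTheory.Functor.map_id]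

end KProj

section Unit

variable {R S : Type u} [CommRing R] [CommRing S] (φ : R →+* S)

lemma unit_apply (M : ModuleCat.{u} R) (m : M) :
    ((ModuleCat.extendRestrictScalarsAdj.{u, u, u} φ).unit.app M).hom m = (1 : S) ⊗ₜ[R,φ] m := rfl

lemma unit_surjective (hφ : Function.Surjective φ) (M : ModuleCat.{u} R) :
    Function.Surjective ((ModuleCat.extendRestrictScalarsAdj.{u, u, u} φ).unit.app M).hom := by
  intro z
  change (ModuleCat.extendScalars.{u, u, u} φ).obj M at z
  induction z using TensorProduct.induction_on with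
  | zero => exact ⟨0, map_zero _⟩
  | tmul s m =>
    obtain ⟨r, rfl⟩ := hφ s
    refine ⟨r • m, ?_⟩
    rw [unit_apply]
    let _ : Module R S := Module.compHom S φ
    have h1 : (r • (1 : S)) = φ r := by
      change φ r * 1 = _
      rw [mul_one]
    rw [← h1]
    exact (TensorProduct.smul_tmul r (1 : S) m).symm
  | add x y hx hy =>
    obtain ⟨x', rfl⟩ := hx
    obtain ⟨y', rfl⟩ := hy
    exact ⟨x' + y', map_add _ _ _⟩

/-- the kernel of `M → (R/I) ⊗ M` is contained in `I M` -/
lemma mem_smul_top_of_unit_eq_zero (I : Ideal R) (M : ModuleCat.{u} R) (x : M)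
    (hx : ((ModuleCat.extendRestrictScalarsAdj.{u, u, u} (Ideal.Quotient.mk I)).unit.app M).hom x = 0) :
    x ∈ I • (⊤ : Submodule R M) := by
  let N : ModuleCat.{u} (R ⧸ I) := ModuleCat.of (R ⧸ I) (M ⧸ (I • (⊤ : Submodule R M)))
  let g : M ⟶ (ModuleCat.restrictScalars (Ideal.Quotient.mk I)).obj N :=
    ModuleCat.ofHom (Y := (ModuleCat.restrictScalars (Ideal.Quotient.mk I)).obj N)
      { toFun := fun m => (Submodule.Quotient.mk m : M ⧸ (I • (⊤ : Submodule R M)))
        map_add' := fun _ _ => rfl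
        map_smul' := fun r m => rfl }
  let g' := ((ModuleCat.extendRestrictScalarsAdj.{u, u, u} (Ideal.Quotient.mk I)).homEquiv M N).symm g
  have h1 : (ModuleCat.extendRestrictScalarsAdj.{u, u, u} (Ideal.Quotient.mk I)).homEquiv M N g' = g :=
    Equiv.apply_symm_apply _ _
  have h2 : g.hom x = g'.hom
      (((ModuleCat.extendRestrictScalarsAdj.{u, u, u} (Ideal.Quotient.mk I)).unit.app M).hom x) := by
    rw [← h1]
    rfl
  have h3 : g.hom x = 0 := h2.trans ((congrArg (⇑g'.hom) hx).trans (map_zero g'.hom))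
  exact (Submodule.Quotient.mk_eq_zero _).mp h3

lemma unit_naturality_apply {M N : ModuleCat.{u} R} (f : M ⟶ N) (x : M) :
    ((ModuleCat.extendRestrictScalarsAdj.{u, u, u} φ).unit.app N).hom (f.hom x) =
      ((ModuleCat.extendScalars.{u, u, u} φ).map f).hom
        (((ModuleCat.extendRestrictScalarsAdj.{u, u, u} φ).unit.app M).hom x) := rfl

end Unit

section Main

variable {R : Type u} [CommRing R] (I : Ideal R)

/-- termwise reduction mod `I` -/
noncomputable abbrev bc (E : CochainComplex (ModuleCat.{u} R) ℤ) : CochainComplex (ModuleCat.{u} (R ⧸ I)) ℤ :=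
  ((ModuleCat.extendScalars.{u, u, u} (Ideal.Quotient.mk I)).mapHomologicalComplex (ComplexShape.up ℤ)).obj E

variable {I}

attribute [local instance] HasDerivedCategory.standard

/-- lifting a homotopy mod `I` -/
theorem exists_lift_good (E : CochainComplex (ModuleCat.{u} R) ℤ) (hE : ∀ i, Module.Projective R (E.X i))
    (hbar : ∀ i j : ℤ, (bc I E).X i ⟶ (bc I E).X j) (G : ℤ → Prop)
    (hG : ∀ i, G i → ∀ (p n : ℤ), p + 1 = i → i + 1 = n → ∀ z : (bc I E).X i,
      ((bc I E).d p i).hom ((hbar i p).hom z) + (hbar n i).hom (((bc I E).d i n).hom z) = z) :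
    ∃ h : ∀ i j : ℤ, E.X i →ₗ[R] E.X j, ∀ i, G i →
      FibreNak21.Good I (fun i => E.X i) (fun i j => (E.d i j).hom) h i := by
  have hφ : Function.Surjective (Ideal.Quotient.mk I) := Ideal.Quotient.mk_surjective
  have hl : ∀ i j : ℤ, ∃ l : E.X i →ₗ[R] E.X j, ∀ x,
      ((ModuleCat.extendRestrictScalarsAdj.{u, u, u} (Ideal.Quotient.mk I)).unit.app (E.X j)).hom (l x) =
        (hbar i j).hom (((ModuleCat.extendRestrictScalarsAdj.{u, u, u} (Ideal.Quotient.mk I)).unit.app
          (E.X i)).hom x) := by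
    intro i j
    have := hE i
    obtain ⟨l, hl⟩ := Module.projective_lifting_property
      ((ModuleCat.extendRestrictScalarsAdj.{u, u, u} (Ideal.Quotient.mk I)).unit.app (E.X j)).hom
      (((ModuleCat.restrictScalars (Ideal.Quotient.mk I)).map (hbar i j)).hom ∘ₗ
        ((ModuleCat.extendRestrictScalarsAdj.{u, u, u} (Ideal.Quotient.mk I)).unit.app (E.X i)).hom)
      (unit_surjective _ hφ _)
    exact ⟨l, fun x => LinearMap.congr_fun hl x⟩
  choose h hh using hl
  refine ⟨h, fun i hi p n hp hn x => ?_⟩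
  apply mem_smul_top_of_unit_eq_zero
  rw [map_sub, map_add, unit_naturality_apply, hh, hh, unit_naturality_apply]
  rw [sub_eq_zero]
  exact hG i hi p n hp hn _

/-- a contracting homotopy mod `I` outside `[a, b]` -/
theorem exists_hbar (E : CochainComplex (ModuleCat.{u} R) ℤ) (c : ℤ) (hc : ∀ i, c < i → IsZero (E.X i))
    (hE : ∀ i, Module.Projective R (E.X i))
    (a b : ℤ) (F : CochainComplex (ModuleCat.{u} (R ⧸ I)) ℤ) (hF : ∀ i, i < a ∨ b < i → IsZero (F.X i))
    (hFp : ∀ i, Module.Projective (R ⧸ I) (F.X i))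
    (e : DerivedCategory.Q.obj F ≅ DerivedCategory.Q.obj (bc I E)) :
    ∃ hbar : ∀ i j : ℤ, (bc I E).X i ⟶ (bc I E).X j,
      ∀ i, (i < a ∨ b < i) → ∀ (p n : ℤ), p + 1 = i → i + 1 = n → ∀ z : (bc I E).X i,
      ((bc I E).d p i).hom ((hbar i p).hom z) + (hbar n i).hom (((bc I E).d i n).hom z) = z := by
  have h1 : (bc I E).IsStrictlyLE c := by
    rw [CochainComplex.isStrictlyLE_iff]
    intro i hi
    exact (ModuleCat.extendScalars.{u, u, u} (Ideal.Quotient.mk I)).map_isZero (hc i hi)
  have h2 : ∀ i, Projective ((bc I E).X i) := fun i => by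
    let _ := (Ideal.Quotient.mk I).toAlgebra
    have := hE i
    have : Module.Projective (R ⧸ I) ((bc I E).X i) :=
      Groth.Agent.Lib.FlatBaseChangeD.projective_obj (A := R) (B := R ⧸ I) (E.X i)
    exact ModuleCat.projective_of_categoryTheory_projective _
  have h3 : F.IsStrictlyLE b := by
    rw [CochainComplex.isStrictlyLE_iff]
    intro i hi
    exact hF i (Or.inr hi)
  have h4 : ∀ i, Projective (F.X i) := fun i => by
    have := hFp i
    exact ModuleCat.projective_of_categoryTheory_projective _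
  have := CochainComplex.isKProjective_of_projective (bc I E) c
  have := CochainComplex.isKProjective_of_projective F b
  obtain ⟨f, g, ⟨ho⟩⟩ := exists_homotopy_of_iso (bc I E) F e.symm
  refine ⟨fun i j => -(ho.hom i j), fun i hi p n hp hn z => ?_⟩
  have hz : (f ≫ g).f i = 0 := by
    rw [HomologicalComplex.comp_f, (hF i hi).eq_of_tgt (f.f i) 0, zero_comp]
  have hcomm := ho.comm i
  rw [hz, dNext_eq ho.hom (show (ComplexShape.up ℤ).Rel i n from hn),
    prevD_eq ho.hom (show (ComplexShape.up ℤ).Rel p i from hp), HomologicalComplex.id_f] at hcomm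
  have := congrArg (fun t => t.hom z) hcomm
  simp only [ModuleCat.hom_zero, LinearMap.zero_apply, ModuleCat.hom_add, ModuleCat.hom_comp,
    LinearMap.add_apply, LinearMap.coe_comp, Function.comp_apply, ModuleCat.hom_id, LinearMap.id_coe,
    id_eq] at this
  simp only [ModuleCat.hom_neg, LinearMap.neg_apply, map_neg]
  rw [← add_zero (-_ + -_), this]
  abel
  
/-- **Fibrewise Nakayama for complexes**: if `E` is a bounded above complex of finite projective modules and `E/IE` is
isomorphic in `D(R/I)` to a complex of projectives vanishing outside `[a, b]`, with `I ≤ Jac R`, then `E` is exact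
outside `[a, b]` and `coker (E^{a-1} → E^a)` is projective. -/
theorem key (hI : I ≤ Ideal.jacobson ⊥) (E : CochainComplex (ModuleCat.{u} R) ℤ) (c : ℤ)
    (hc : ∀ i, c < i → IsZero (E.X i))
    (hE : ∀ i, Module.Finite R (E.X i) ∧ Module.Projective R (E.X i))
    (a b : ℤ) (F : CochainComplex (ModuleCat.{u} (R ⧸ I)) ℤ) (hF : ∀ i, i < a ∨ b < i → IsZero (F.X i))
    (hFp : ∀ i, Module.Projective (R ⧸ I) (F.X i))
    (e : DerivedCategory.Q.obj F ≅ DerivedCategory.Q.obj (bc I E)) :
    (∀ i, i < a ∨ b < i → E.ExactAt i) ∧ Module.Projective R (E.opcycles a) := by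
  obtain ⟨hbar, hhbar⟩ := exists_hbar E c hc (fun i => (hE i).2) a b F hF hFp e
  obtain ⟨h, hh⟩ := exists_lift_good E (fun i => (hE i).2) hbar (fun i => i < a ∨ b < i) hhbar
  have hfin : ∀ i, Module.Finite R (E.X i) := fun i => (hE i).1
  have dd : ∀ (i j k : ℤ) (x : E.X i), (E.d j k).hom ((E.d i j).hom x) = 0 := fun i j k x => by
    have : (E.d i j ≫ E.d j k).hom x = 0 := by
      rw [E.d_comp_d]
      rfl
    simpa only [ModuleCat.hom_comp, LinearMap.comp_apply] using this
  constructor
  · intro i hi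
    rw [HomologicalComplex.exactAt_iff' E (i - 1) i (i + 1) (by simp) (by simp),
      ShortComplex.moduleCat_exact_iff]
    intro x hx
    rcases hi with hi | hi
    · exact FibreNak21.exact_lower (M := fun i => E.X i) (d := fun i j => (E.d i j).hom) hI dd
        (i - 2) (i - 1) i (i + 1) (by ring) (by ring) rfl
        (hh (i - 1) (Or.inl (by lia))) (hh i (Or.inl hi)) x hx
    · exact FibreNak21.exact_upper (M := fun i => E.X i) (d := fun i j => (E.d i j).hom) hI dd
        (i - 1) i (i + 1) (i + 2) (i + 3) (by ring) rfl (by ring) (by ring)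
        (hh i (Or.inr hi)) (hh (i + 1) (Or.inr (by lia))) (hh (i + 2) (Or.inr (by lia))) x hx
  · obtain ⟨pe, hpe1, hpe2⟩ := FibreNak21.exists_proj_range (M := fun i => E.X i)
      (d := fun i j => (E.d i j).hom) hI dd (a - 3) (a - 2) (a - 1) a (by ring) (by ring) (by ring)
      (hh (a - 2) (Or.inl (by lia))) (hh (a - 1) (Or.inl (by lia)))
    have := (hE a).2
    have hq := FibreNak21.projective_quot_range (E.d (a - 1) a).hom pe hpe1 hpe2
    exact Module.Projective.of_equiv (Groth.Agent.Lib.FlatAmp.quotRangeEquivOpcycles E (a - 1) a (by ring))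

/-- complex-level version: `E` bounded above finite free, `Q (E/IE)` of flat amplitude `[a, b]`. -/
theorem pa_of_pa_bc (hI : I ≤ Ideal.jacobson ⊥) (E : CochainComplex (ModuleCat.{u} R) ℤ) (c : ℤ)
    (hc : ∀ i, c < i → IsZero (E.X i)) (hE : ∀ i, FF R (E.X i)) (a b : ℤ)
    (h : PA (FL (R ⧸ I)) a b (DerivedCategory.Q.obj (bc I E))) :
    PA (FP R) a b (DerivedCategory.Q.obj E) := by
  have hE' : ∀ i, Module.Finite R (E.X i) ∧ Module.Projective R (E.X i) := fun i => ff_le_fp R _ (hE i)
  by_cases hab : a ≤ b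
  · have hpc : PCoh.IsStrictPC (FF (R ⧸ I)) (a - 1) (bc I E) :=
      Groth.Agent.Lib.PCohProjRep21.isStrictPC_extendScalars (Ideal.Quotient.mk I) (a - 1) E ⟨c, hc⟩
        (fun i _ => hE i)
    obtain ⟨F, hF1, hF2, ⟨e⟩⟩ := pa_fp_of_pc_of_flat (R ⧸ I) _ a b hab ⟨bc I E, hpc, ⟨Iso.refl _⟩⟩ h
    obtain ⟨hex, hop⟩ := key hI E c hc hE' a b F hF2 (fun i => (hF1 i).2) e
    have hfl : PA (FL R) a b (DerivedCategory.Q.obj E) :=
      Groth.Agent.Lib.FlatAmp.pa_fl_of_opcycles R E a b c hab (fun i _ => ff_le_fl R _ (hE i)) hc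
        (show Module.Flat R (E.opcycles a) from inferInstance)
        (fun i hi => hex i (Or.inl hi)) (fun i hi => hex i (Or.inr hi))
    exact pa_fp_of_pc_of_flat R _ a b hab ⟨E, ⟨⟨c, hc⟩, fun i _ => hE i⟩, ⟨Iso.refl _⟩⟩ hfl
  · have hz : IsZero (DerivedCategory.Q.obj (bc I E)) :=
      Groth.Agent.Lib.FlatAmp.isZero_of_pa_of_lt (R ⧸ I) (by lia) h
    have h0 : IsZero (0 : CochainComplex (ModuleCat.{u} (R ⧸ I)) ℤ) := isZero_zero _
    obtain ⟨hex, -⟩ := key hI E c hc hE' a b 0
      (fun i _ => (HomologicalComplex.eval _ _ i).map_isZero h0)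
      (fun i => by
        have : Subsingleton ((0 : CochainComplex (ModuleCat.{u} (R ⧸ I)) ℤ).X i) :=
          ModuleCat.subsingleton_of_isZero ((HomologicalComplex.eval _ _ i).map_isZero h0)
        infer_instance)
      ((DerivedCategory.Q.map_isZero h0).iso hz)
    have hex' : ∀ i : ℤ, IsZero ((DerivedCategory.homologyFunctor (ModuleCat.{u} R) i).obj
        (DerivedCategory.Q.obj E)) := fun i =>
      ((HomologicalComplex.exactAt_iff_isZero_homology _ _).mp (hex i (by lia))).of_iso
        ((DerivedCategory.homologyFunctorFactors (ModuleCat.{u} R) i).app E)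
    have h1 : (DerivedCategory.Q.obj E).IsLE 0 := by
      rw [DerivedCategory.isLE_iff]
      exact fun i _ => hex' i
    have h2 : (DerivedCategory.Q.obj E).IsGE 1 := by
      rw [DerivedCategory.isGE_iff]
      exact fun i _ => hex' i
    exact Groth.Agent.Lib.FlatAmp.pa_of_isZero R a b
      (DerivedCategory.TStructure.t.isZero (DerivedCategory.Q.obj E) 0 1 (by lia))

/-- **Main theorem**: `I ≤ Jac R`, `K` pseudo-coherent and `K ⊗^L R/I` of tor amplitude in `[a, b]` imply that `K` is
perfect of tor amplitude in `[a, b]`. -/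
theorem main (hI : I ≤ Ideal.jacobson ⊥) [DRing.HasLBaseChange (Ideal.Quotient.mk I)] (K : Dual.D R)
    (hK : DRing.IsPseudoCoherent' R K) (a b : ℤ)
    (h : DRing.HasTorAmplitudeIn (R ⧸ I) a b ((DRing.LBaseChange (Ideal.Quotient.mk I)).obj K)) :
    PA (FP R) a b K := by
  obtain ⟨E, c, hc, hE, ⟨eK⟩⟩ := hK
  have h1 : E.IsStrictlyLE c := by
    rw [CochainComplex.isStrictlyLE_iff]
    exact hc
  have h2 : ∀ i, Projective (E.X i) := fun i => by
    have := (hE i).1
    have := (hE i).2
    exact ModuleCat.projective_of_categoryTheory_projective _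
  let j : DerivedCategory.Q.obj (bc I E) ≅ (DRing.LBaseChange (Ideal.Quotient.mk I)).obj K :=
    (Groth.Agent.Lib.LBaseChangeKProj.lbcIsoOfBdd (Ideal.Quotient.mk I) E c).symm ≪≫
      (DRing.LBaseChange (Ideal.Quotient.mk I)).mapIso eK
  rw [Groth.Agent.Lib.FlatAmp.hasTorAmplitudeIn_iff_pa] at h
  exact pa_of_iso eK (pa_of_pa_bc hI E c hc hE a b (pa_of_iso j.symm h))

end Main

end Groth.Agent.Lib.FibreNakD21
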