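import Mathlib.Algebra.Homology.HomotopyCategory.KInjective
import Mathlib.CategoryTheory.Abelian.Exact
import Mathlib.Algebra.Homology.ShortComplex.ExactFunctor

/-!
A right adjoint whose left adjoint is exact sends K-injective complexes to K-injective complexes.
-/

set_option autoImplicit false
open CategoryTheory CategoryTheory.Limits

namespace Groth.Agent.Lib.KInjAdj

variable {C D : Type*} [Category* C] [Category* D] [Abelian C] [Abelian D]

lemma acyclic_map (L : D ⥤ C) [L.Additive] [PreservesFiniteLimits L] [PreservesFiniteColimits L]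
    (K : CochainComplex D ℤ) (hK : K.Acyclic) :
    ((L.mapHomologicalComplex (ComplexShape.up ℤ)).obj K).Acyclic := by
  intro n
  have h : (K.sc n).Exact := hK n
  exact h.map L

variable {L : D ⥤ C} {R : C ⥤ D} [L.Additive] [R.Additive] (adj : L ⊣ R)

/-- components of a map to `R(I)` with clean types -/
def comp' (K : CochainComplex D ℤ) (I : CochainComplex C ℤ)
    (f : K ⟶ (R.mapHomologicalComplex (ComplexShape.up ℤ)).obj I) (n : ℤ) :
    K.X n ⟶ R.obj (I.X n) := f.f n

lemma comp'_comm (K : CochainComplex D ℤ) (I : CochainComplex C ℤ)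
    (f : K ⟶ (R.mapHomologicalComplex (ComplexShape.up ℤ)).obj I) (i j : ℤ) :
    K.d i j ≫ comp' K I f j = comp' K I f i ≫ R.map (I.d i j) :=
  (f.comm i j).symm

/-- The adjoint of a morphism of complexes `K ⟶ R(I)`. -/
def adjHom (K : CochainComplex D ℤ) (I : CochainComplex C ℤ)
    (f : K ⟶ (R.mapHomologicalComplex (ComplexShape.up ℤ)).obj I) :
    (L.mapHomologicalComplex (ComplexShape.up ℤ)).obj K ⟶ I where
  f n := (L.map (comp' K I f n) ≫ adj.counit.app (I.X n) : L.obj (K.X n) ⟶ I.X n)
  comm' i j _ := by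
    change (L.map (comp' K I f i) ≫ adj.counit.app (I.X i)) ≫ I.d i j =
      L.map (K.d i j) ≫ L.map (comp' K I f j) ≫ adj.counit.app (I.X j)
    rw [← Category.assoc, ← L.map_comp, comp'_comm, L.map_comp, Category.assoc, Category.assoc]
    congr 1
    exact (adj.counit.naturality (I.d i j)).symm

lemma adjHom_f (K : CochainComplex D ℤ) (I : CochainComplex C ℤ)
    (f : K ⟶ (R.mapHomologicalComplex (ComplexShape.up ℤ)).obj I) (n : ℤ) :
    ((adjHom adj K I f).f n : L.obj (K.X n) ⟶ I.X n) =
      L.map (comp' K I f n) ≫ adj.counit.app (I.X n) := rfl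

/-- the unit with clean types -/
def unit' (X : D) : X ⟶ R.obj (L.obj X) := adj.unit.app X

omit [Abelian C] [Abelian D] [L.Additive] [R.Additive] in
lemma unit'_naturality {X Y : D} (g : X ⟶ Y) :
    g ≫ unit' adj Y = unit' adj X ≫ R.map (L.map g) := adj.unit.naturality g

omit [Abelian C] [Abelian D] [L.Additive] [R.Additive] in
lemma unit'_counit (X : C) : unit' adj (R.obj X) ≫ R.map (adj.counit.app X) = 𝟙 _ :=
  adj.right_triangle_components X

/-- homotopy components with clean types -/
def hh {K : CochainComplex D ℤ} {I : CochainComplex C ℤ}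
    {f : K ⟶ (R.mapHomologicalComplex (ComplexShape.up ℤ)).obj I}
    (h : Homotopy (adjHom adj K I f) 0) (i j : ℤ) : L.obj (K.X i) ⟶ I.X j := h.hom i j

lemma hh_zero {K : CochainComplex D ℤ} {I : CochainComplex C ℤ}
    {f : K ⟶ (R.mapHomologicalComplex (ComplexShape.up ℤ)).obj I}
    (h : Homotopy (adjHom adj K I f) 0) (i j : ℤ) (hij : ¬(ComplexShape.up ℤ).Rel j i) :
    hh adj h i j = 0 := h.zero i j hij

lemma hh_comm {K : CochainComplex D ℤ} {I : CochainComplex C ℤ}
    {f : K ⟶ (R.mapHomologicalComplex (ComplexShape.up ℤ)).obj I}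
    (h : Homotopy (adjHom adj K I f) 0) (i : ℤ) :
    L.map (comp' K I f i) ≫ adj.counit.app (I.X i) =
      L.map (K.d i ((ComplexShape.up ℤ).next i)) ≫ hh adj h ((ComplexShape.up ℤ).next i) i +
        hh adj h i ((ComplexShape.up ℤ).prev i) ≫ I.d ((ComplexShape.up ℤ).prev i) i := by
  have := h.comm i
  simp only [HomologicalComplex.zero_f, add_zero] at this
  exact this

/-- Transport a homotopy to zero back along the adjunction. -/
def adjHomotopy (K : CochainComplex D ℤ) (I : CochainComplex C ℤ)
    (f : K ⟶ (R.mapHomologicalComplex (ComplexShape.up ℤ)).obj I)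
    (h : Homotopy (adjHom adj K I f) 0) : Homotopy f 0 where
  hom i j := unit' adj (K.X i) ≫ R.map (hh adj h i j)
  zero i j hij := by
    change (unit' adj (K.X i) ≫ R.map (hh adj h i j) : K.X i ⟶ R.obj (I.X j)) = 0
    rw [hh_zero adj h i j hij, R.map_zero, comp_zero]
  comm i := by
    have h1 : comp' K I f i =
        unit' adj (K.X i) ≫ R.map (L.map (comp' K I f i) ≫ adj.counit.app (I.X i)) := by
      rw [R.map_comp, ← Category.assoc, ← unit'_naturality, Category.assoc, unit'_counit,
        Category.comp_id]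
    change comp' K I f i =
      K.d i ((ComplexShape.up ℤ).next i) ≫ (unit' adj (K.X ((ComplexShape.up ℤ).next i)) ≫
        R.map (hh adj h ((ComplexShape.up ℤ).next i) i)) +
      (unit' adj (K.X i) ≫ R.map (hh adj h i ((ComplexShape.up ℤ).prev i))) ≫
        R.map (I.d ((ComplexShape.up ℤ).prev i) i) + 0
    rw [add_zero, h1, hh_comm adj h i, R.map_add, Preadditive.comp_add, R.map_comp, R.map_comp]
    congr 1
    · rw [← Category.assoc, ← Category.assoc, unit'_naturality]
    · rw [Category.assoc]

include adj in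
theorem isKInjective_map [PreservesFiniteLimits L] [PreservesFiniteColimits L]
    (I : CochainComplex C ℤ) [I.IsKInjective] :
    CochainComplex.IsKInjective ((R.mapHomologicalComplex (ComplexShape.up ℤ)).obj I) where
  nonempty_homotopy_zero {K} f hK :=
    ⟨adjHomotopy adj K I f
      (CochainComplex.IsKInjective.homotopyZero (adjHom adj K I f) (acyclic_map L K hK))⟩

end Groth.Agent.Lib.KInjAdj
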