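import Groth.Agent.Lib.TFunFlat
import Groth.Agent.Lib.TildePullback

set_option autoImplicit false
universe u

namespace Groth.Agent.Lib.TFunCompare

open CategoryTheory CategoryTheory.Limits MonoidalCategory CohIII TensorProduct

variable {A : Type u} [CommRing A] (B : Type u) [CommRing B] [Algebra A B]

/-- Restriction of scalars along `A → B`. -/
noncomputable abbrev RB : ModuleCat.{u} B ⥤ ModuleCat.{u} A :=
  ModuleCat.restrictScalars (algebraMap A B)

/-- Extension of scalars along `A → B`. -/
noncomputable abbrev FB : ModuleCat.{u} A ⥤ ModuleCat.{u} B :=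
  ModuleCat.extendScalars (algebraMap A B)

/-- The `A`-linear equivalence `B ⊗ X ≃ X ⊗ B` on the underlying module of `FB X`. -/
noncomputable def sigmaEquiv (X : ModuleCat.{u} A) :
    ((RB (A := A) B).obj ((FB (A := A) B).obj X)) ≃ₗ[A] (X ⊗[A] B) :=
  AddEquiv.toLinearEquiv
    ((Groth.Agent.Lib.TildePullback.extendScalarsEquiv A B X).toAddEquiv.trans
      (TensorProduct.comm A B X).toAddEquiv) (by
    intro a z
    change (TensorProduct.comm A B X) ((Groth.Agent.Lib.TildePullback.extendScalarsEquiv A B X)
      (algebraMap A B a • (show (FB (A := A) B).obj X from z))) = a • (TensorProduct.comm A B X)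
        ((Groth.Agent.Lib.TildePullback.extendScalarsEquiv A B X) z)
    rw [map_smul, algebraMap_smul, map_smul])

theorem sigmaEquiv_tmul (X : ModuleCat.{u} A) (b : B) (x : X) :
    sigmaEquiv B X (b ⊗ₜ[A] x : (FB (A := A) B).obj X) = x ⊗ₜ[A] b := rfl

theorem sigmaEquiv_natural_aux {X Y : ModuleCat.{u} A} (d : X ⟶ Y) (w : X ⊗[A] B) :
    ((sigmaEquiv B Y).toLinearMap ∘ₗ ((RB (A := A) B).map ((FB (A := A) B).map d)).hom)
      ((sigmaEquiv B X).symm w) = LinearMap.rTensor B d.hom w := by
  induction w using TensorProduct.induction_on with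
  | zero => simp only [map_zero]
  | tmul x b => rfl
  | add w₁ w₂ h₁ h₂ => rw [map_add, map_add, map_add, h₁, h₂]

theorem sigmaEquiv_natural {X Y : ModuleCat.{u} A} (d : X ⟶ Y)
    (z : (RB (A := A) B).obj ((FB (A := A) B).obj X)) :
    sigmaEquiv B Y (((RB (A := A) B).map ((FB (A := A) B).map d)).hom z) =
      LinearMap.rTensor B d.hom (sigmaEquiv B X z) := by
  have h := sigmaEquiv_natural_aux B d (sigmaEquiv B X z)
  rw [LinearEquiv.symm_apply_apply] at h
  exact h

/-- `σ_X` as an isomorphism in `ModuleCat A`. -/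
noncomputable def sigma (X : ModuleCat.{u} A) :
    (RB (A := A) B).obj ((FB (A := A) B).obj X) ≅ (tensorRight (ModuleCat.of A B)).obj X :=
  (sigmaEquiv B X).toModuleIso

theorem sigma_naturality {X Y : ModuleCat.{u} A} (d : X ⟶ Y) :
    (RB (A := A) B).map ((FB (A := A) B).map d) ≫ (sigma B Y).hom =
      (sigma B X).hom ≫ (tensorRight (ModuleCat.of A B)).map d := by
  ext z
  exact sigmaEquiv_natural B d z

section homology

variable {ι : Type} {c : ComplexShape ι} (P : HomologicalComplex (ModuleCat.{u} A) c) (q : ι)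

instance : PreservesFiniteLimits (RB (A := A) B) := ⟨fun _ _ _ => ⟨fun {_} => inferInstance⟩⟩

instance : PreservesFiniteColimits (RB (A := A) B) := ⟨fun _ _ _ => ⟨fun {_} => inferInstance⟩⟩

instance : (RB (A := A) B).PreservesHomology := {}

/-- Termwise `σ` gives an isomorphism of short complexes. -/
noncomputable def scIso :
    ((bcCx (algebraMap A B) P).sc q).map (RB (A := A) B) ≅
      (tensorObj P (ModuleCat.of A B)).sc q :=
  ShortComplex.isoMk (sigma B _) (sigma B _) (sigma B _)
    (sigma_naturality B _).symm (sigma_naturality B _).symm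

/-- The underlying `A`-module of `H_q(B ⊗ P)` is `T_q(B) = H_q(P ⊗ B)`. -/
noncomputable def homologyCompare :
    (RB (A := A) B).obj ((bcCx (algebraMap A B) P).homology q) ≅
      (TFun P q).obj (ModuleCat.of A B) :=
  (((bcCx (algebraMap A B) P).sc q).mapHomologyIso (RB (A := A) B)).symm ≪≫
    ShortComplex.homologyMapIso (scIso B P q)

end homology

end Groth.Agent.Lib.TFunCompare
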