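import Groth.Agent.Lib.DerivedAdjunction
import Groth.Agent.Lib.KInjAdj
import Groth.Agent.Lib.TFunCompare
import Groth.Agent.Lib.FibreNakD21
import Mathlib.Algebra.Homology.HomotopyCategory.KProjective

/-!
# K-projective complexes and base change (helper21)

* `isKProjective_map_of_adj`: a left adjoint `L` (additive) whose right adjoint is exact sends K-projective
  complexes to K-projective complexes.  In particular `isKProjective_bcCx`: extension of scalars preserves
  K-projectivity.
* `isZero_homology_of_retract`: if `K` is a homotopy retract of `L` and `G` is additive then `H^q(G L) = 0`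
  implies `H^q(G K) = 0`.
* `tau`, `homologyRestrict`: the "cancel base change" isomorphism
  `restrict ((B ⊗_A X) ⊗_B M') ≅ X ⊗_A restrict M'` and its consequence
  `restrict (T_q(B ⊗_A F)(M')) ≅ T_q(F)(restrict M')` for `CohIII.TFun`.
* `isZero_TFun_restrict_of_iso`: the main consequence used for filtration arguments.
* `exists_iso_restrict`, `isZero_TFun_of_ker_pow`: for a surjection `A → B` and a termwise flat complex `F`,
  vanishing of `T_q(F)` on `B`-modules implies vanishing on all `A`-modules killed by a power of the kernel.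
-/

set_option autoImplicit false
universe u

open CategoryTheory CategoryTheory.Limits

namespace Groth.Agent.Lib.KProjBC21

section Abelian

variable {C D : Type*} [Category C] [Category D] [Abelian C] [Abelian D]
  {L : C ⥤ D} {G : D ⥤ C} [L.Additive] [G.Additive]

open Groth.Agent.Lib.DerivedAdjunction

omit [Abelian C] [Abelian D] [L.Additive] [G.Additive] in
lemma adj_aux (adj : L ⊣ G) {X : C} {Y : D} (φ : L.obj X ⟶ Y) :
    φ = L.map (adj.unit.app X) ≫ L.map (G.map φ) ≫ adj.counit.app Y := by
  have h1 := adj.homEquiv_unit (f := φ)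
  have h2 := adj.homEquiv_counit (g := adj.homEquiv X Y φ)
  rw [Equiv.symm_apply_apply] at h2
  rw [← Category.assoc, ← L.map_comp, ← h1, ← h2]

/-- A left adjoint whose right adjoint is exact preserves K-projective complexes. -/
theorem isKProjective_map_of_adj (adj : L ⊣ G) [PreservesFiniteLimits G] [PreservesFiniteColimits G]
    (K : CochainComplex C ℤ) [K.IsKProjective] :
    CochainComplex.IsKProjective ((L.mapHomologicalComplex (ComplexShape.up ℤ)).obj K) where
  nonempty_homotopy_zero {Z} f hZ := by
    let f' : K ⟶ (G.mapHomologicalComplex (ComplexShape.up ℤ)).obj Z :=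
      (unitHC adj (ComplexShape.up ℤ)).app K ≫ (G.mapHomologicalComplex (ComplexShape.up ℤ)).map f
    have hZ' : ((G.mapHomologicalComplex (ComplexShape.up ℤ)).obj Z).Acyclic :=
      Groth.Agent.Lib.KInjAdj.acyclic_map G Z hZ
    have h := CochainComplex.IsKProjective.homotopyZero f' hZ'
    have hf : f = (L.mapHomologicalComplex (ComplexShape.up ℤ)).map f' ≫
        (counitHC adj (ComplexShape.up ℤ)).app Z := by
      ext i
      simp only [f', HomologicalComplex.comp_f, Functor.mapHomologicalComplex_map_f, unitHC_app_f,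
        counitHC_app_f, Functor.map_comp, Category.assoc]
      exact adj_aux adj (f.f i)
    refine ⟨(Homotopy.ofEq hf).trans
      ((((L.mapHomotopy h)).compRight ((counitHC adj (ComplexShape.up ℤ)).app Z)).trans
        (Homotopy.ofEq ?_))⟩
    simp

/-- If `K` is a homotopy retract of `L`, then `H^q(G L) = 0` implies `H^q(G K) = 0`. -/
theorem isZero_homology_of_retract (T : C ⥤ D) [T.Additive] {K L' : CochainComplex C ℤ}
    (f : K ⟶ L') (g : L' ⟶ K) (ho : Homotopy (f ≫ g) (𝟙 K)) (q : ℤ)
    (h : IsZero (((T.mapHomologicalComplex (ComplexShape.up ℤ)).obj L').homology q)) :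
    IsZero (((T.mapHomologicalComplex (ComplexShape.up ℤ)).obj K).homology q) := by
  rw [IsZero.iff_id_eq_zero]
  have h1 := (T.mapHomotopy ho).homologyMap_eq q
  rw [CategoryTheory.Functor.map_comp, HomologicalComplex.homologyMap_comp,
    CategoryTheory.Functor.map_id, HomologicalComplex.homologyMap_id] at h1
  rw [← h1, h.eq_of_tgt (HomologicalComplex.homologyMap _ q) 0, zero_comp]

end Abelian

section Tau

open MonoidalCategory TensorProduct CohIII
open Groth.Agent.Lib.TFunCompare

variable {A : Type u} [CommRing A] (B : Type u) [CommRing B] [Algebra A B]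

/-- the underlying additive equivalence -/
noncomputable def tauAddEquiv (X : ModuleCat.{u} A) (M' : ModuleCat.{u} B) :
    (((FB (A := A) B).obj X) ⊗[B] M') ≃+ (X ⊗[A] ((RB (A := A) B).obj M')) :=
  letI : Module A M' := Module.compHom M' (algebraMap A B)
  haveI : IsScalarTower A B M' := ⟨fun a b m => by
    change (a • b) • m = (algebraMap A B a) • (b • m)
    rw [Algebra.smul_def, mul_smul]⟩
  ((TensorProduct.congr (Groth.Agent.Lib.TildePullback.extendScalarsEquiv A B X)
      (LinearEquiv.refl B M')).toAddEquiv.trans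
    ((TensorProduct.comm B _ _).toAddEquiv.trans
      ((AlgebraTensorModule.cancelBaseChange A B B M' X).toAddEquiv.trans
        (TensorProduct.comm A M' X).toAddEquiv)))

/-- the element `b ⊗ x` of `B ⊗_A X` -/
noncomputable def elF (X : ModuleCat.{u} A) (b : B) (x : X) : (FB (A := A) B).obj X :=
  (b ⊗ₜ[A] x : (FB (A := A) B).obj X)

/-- an element of `M'` seen in the restriction of scalars -/
noncomputable def elR (M' : ModuleCat.{u} B) (m : M') : (RB (A := A) B).obj M' := m

theorem tauAddEquiv_tmul (X : ModuleCat.{u} A) (M' : ModuleCat.{u} B) (b : B) (x : X) (m : M') :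
    tauAddEquiv B X M' (elF B X b x ⊗ₜ[B] m) = x ⊗ₜ[A] elR (A := A) B M' (b • m) := rfl

theorem tauAddEquiv_symm_tmul (X : ModuleCat.{u} A) (M' : ModuleCat.{u} B) (x : X) (m : M') :
    (tauAddEquiv B X M').symm (x ⊗ₜ[A] elR (A := A) B M' m) = elF B X 1 x ⊗ₜ[B] m := rfl

theorem tauAddEquiv_smul (X : ModuleCat.{u} A) (M' : ModuleCat.{u} B) (a : A)
    (z : ((FB (A := A) B).obj X) ⊗[B] M') :
    tauAddEquiv B X M' (algebraMap A B a • z) = a • tauAddEquiv B X M' z := by
  let _ : Module A M' := Module.compHom M' (algebraMap A B)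
  have : IsScalarTower A B M' := ⟨fun a b m => by
    change (a • b) • m = (algebraMap A B a) • (b • m)
    rw [Algebra.smul_def, mul_smul]⟩
  change (TensorProduct.comm A M' X) ((AlgebraTensorModule.cancelBaseChange A B B M' X)
    ((TensorProduct.comm B _ _) ((TensorProduct.congr
      (Groth.Agent.Lib.TildePullback.extendScalarsEquiv A B X) (LinearEquiv.refl B M'))
        (algebraMap A B a • z)))) = a • (TensorProduct.comm A M' X)
      ((AlgebraTensorModule.cancelBaseChange A B B M' X)
    ((TensorProduct.comm B _ _) ((TensorProduct.congr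
      (Groth.Agent.Lib.TildePullback.extendScalarsEquiv A B X) (LinearEquiv.refl B M')) z)))
  rw [map_smul, map_smul, map_smul, algebraMap_smul, map_smul]

/-- `restrict ((B ⊗_A X) ⊗_B M') ≃ X ⊗_A restrict M'` as an `A`-linear equivalence. -/
noncomputable def tauEquiv (X : ModuleCat.{u} A) (M' : ModuleCat.{u} B) :
    ((RB (A := A) B).obj ((tensorRight M').obj ((FB (A := A) B).obj X))) ≃ₗ[A]
      (X ⊗[A] ((RB (A := A) B).obj M')) :=
  AddEquiv.toLinearEquiv (tauAddEquiv B X M') (fun a z => tauAddEquiv_smul B X M' a z)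

theorem tauEquiv_apply (X : ModuleCat.{u} A) (M' : ModuleCat.{u} B)
    (z : ((FB (A := A) B).obj X) ⊗[B] M') :
    tauEquiv B X M' z = tauAddEquiv B X M' z := rfl

/-- `τ` as an isomorphism in `ModuleCat A`. -/
noncomputable def tau (X : ModuleCat.{u} A) (M' : ModuleCat.{u} B) :
    (RB (A := A) B).obj ((tensorRight M').obj ((FB (A := A) B).obj X)) ≅
      (tensorRight ((RB (A := A) B).obj M')).obj X :=
  (tauEquiv B X M').toModuleIso

theorem addHom_ext' {R M N P : Type*} [CommSemiring R] [AddCommMonoid M] [AddCommMonoid N]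
    [Module R M] [Module R N] [AddCommMonoid P] {f g : M ⊗[R] N →+ P}
    (h : ∀ m n, f (m ⊗ₜ n) = g (m ⊗ₜ n)) : f = g := by
  refine AddMonoidHom.ext fun z => ?_
  induction z using TensorProduct.induction_on with
  | zero => rw [map_zero, map_zero]
  | tmul m n => exact h m n
  | add x y hx hy => rw [map_add, map_add, hx, hy]

theorem tau_naturality_aux {X Y : ModuleCat.{u} A} (M' : ModuleCat.{u} B) (d : X ⟶ Y) :
    (tauAddEquiv B Y M').toAddMonoidHom.comp
        (((tensorRight M').map ((FB (A := A) B).map d)).hom.toAddMonoidHom) =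
      (LinearMap.rTensor ((RB (A := A) B).obj M') d.hom).toAddMonoidHom.comp
        (tauAddEquiv B X M').toAddMonoidHom := by
  refine addHom_ext' fun y m => ?_
  have hG : ((tauAddEquiv B Y M').toAddMonoidHom.comp
        (((tensorRight M').map ((FB (A := A) B).map d)).hom.toAddMonoidHom)).comp
        ((TensorProduct.mk B ((FB (A := A) B).obj X) M').flip m).toAddMonoidHom =
      ((LinearMap.rTensor ((RB (A := A) B).obj M') d.hom).toAddMonoidHom.comp
        (tauAddEquiv B X M').toAddMonoidHom).comp
        ((TensorProduct.mk B ((FB (A := A) B).obj X) M').flip m).toAddMonoidHom :=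
    addHom_ext' fun b x => rfl
  exact DFunLike.congr_fun hG y

theorem tau_naturality {X Y : ModuleCat.{u} A} (M' : ModuleCat.{u} B) (d : X ⟶ Y) :
    (RB (A := A) B).map ((tensorRight M').map ((FB (A := A) B).map d)) ≫ (tau B Y M').hom =
      (tau B X M').hom ≫ (tensorRight ((RB (A := A) B).obj M')).map d := by
  ext z
  exact DFunLike.congr_fun (tau_naturality_aux B M' d) z

section homology

variable {ι : Type} {c : ComplexShape ι} (F : HomologicalComplex (ModuleCat.{u} A) c)
  (M' : ModuleCat.{u} B) (q : ι)

/-- Termwise `τ` gives an isomorphism of short complexes. -/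
noncomputable def scIso' :
    ((tensorObj (bcCx (algebraMap A B) F) M').sc q).map (RB (A := A) B) ≅
      (tensorObj F ((RB (A := A) B).obj M')).sc q :=
  ShortComplex.isoMk (tau B _ M') (tau B _ M') (tau B _ M')
    (tau_naturality B M' _).symm (tau_naturality B M' _).symm

/-- `restrict (T_q(B ⊗_A F)(M')) ≅ T_q(F)(restrict M')`. -/
noncomputable def homologyRestrict :
    (RB (A := A) B).obj ((TFun (bcCx (algebraMap A B) F) q).obj M') ≅
      (TFun F q).obj ((RB (A := A) B).obj M') :=
  (((tensorObj (bcCx (algebraMap A B) F) M').sc q).mapHomologyIso (RB (A := A) B)).symm ≪≫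
    ShortComplex.homologyMapIso (scIso' B F M' q)

theorem isZero_TFun_restrict (h : IsZero ((TFun (bcCx (algebraMap A B) F) q).obj M')) :
    IsZero ((TFun F q).obj ((RB (A := A) B).obj M')) :=
  ((RB (A := A) B).map_isZero h).of_iso (homologyRestrict B F M' q).symm

end homology

end Tau

section Main

open MonoidalCategory CohIII
open Groth.Agent.Lib.TFunCompare

attribute [local instance] HasDerivedCategory.standard

variable {A B : Type u} [CommRing A] [CommRing B]

instance (φ : A →+* B) : PreservesFiniteLimits (ModuleCat.restrictScalars.{u} φ) :=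
  ⟨fun _ _ _ => ⟨fun {_} => inferInstance⟩⟩

instance (φ : A →+* B) : PreservesFiniteColimits (ModuleCat.restrictScalars.{u} φ) :=
  ⟨fun _ _ _ => ⟨fun {_} => inferInstance⟩⟩

/-- Extension of scalars preserves K-projective complexes. -/
theorem isKProjective_bcCx (φ : A →+* B) (F : CochainComplex (ModuleCat.{u} A) ℤ)
    [F.IsKProjective] : CochainComplex.IsKProjective (bcCx φ F) :=
  isKProjective_map_of_adj (ModuleCat.extendRestrictScalarsAdj.{u, u, u} φ) F

/-- If `F` is K-projective over `A`, `B ⊗_A F ≅ L` in `D(B)` with `L` K-projective, and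
`H^q(L ⊗_B M') = 0`, then `H^q(F ⊗_A M') = 0`. -/
theorem isZero_TFun_restrict_of_iso [Algebra A B] (F : CochainComplex (ModuleCat.{u} A) ℤ)
    [F.IsKProjective] (L : CochainComplex (ModuleCat.{u} B) ℤ) [L.IsKProjective]
    (e : DerivedCategory.Q.obj (bcCx (algebraMap A B) F) ≅ DerivedCategory.Q.obj L)
    (M' : ModuleCat.{u} B) (q : ℤ) (h : IsZero ((TFun L q).obj M')) :
    IsZero ((TFun F q).obj ((RB (A := A) B).obj M')) := by
  have := isKProjective_bcCx (algebraMap A B) F
  obtain ⟨f, g, ⟨ho⟩⟩ :=
    Groth.Agent.Lib.FibreNakD21.exists_homotopy_of_iso (bcCx (algebraMap A B) F) L e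
  exact isZero_TFun_restrict B F M' q (isZero_homology_of_retract (tensorRight M') f g ho q h)

end Main

section Filtration

open MonoidalCategory CohIII
open Groth.Agent.Lib.TFunCompare

variable {A : Type u} [CommRing A] (B : Type u) [CommRing B] [Algebra A B]

/-- A module killed by the kernel of a surjection `A → B` is the restriction of a `B`-module. -/
theorem exists_iso_restrict (hsurj : Function.Surjective (algebraMap A B)) (N : Type u)
    [AddCommGroup N] [Module A N]
    (hN : ∀ a ∈ RingHom.ker (algebraMap A B), ∀ x : N, a • x = 0) :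
    ∃ M' : ModuleCat.{u} B, Nonempty ((RB (A := A) B).obj M' ≅ ModuleCat.of A N) := by
  have hT : Module.IsTorsionBySet A N (RingHom.ker (algebraMap A B)) := fun x a => hN a a.2 x
  let _ : Module (A ⧸ RingHom.ker (algebraMap A B)) N := hT.module
  let ψ : B →+* A ⧸ RingHom.ker (algebraMap A B) :=
    (RingHom.quotientKerEquivOfSurjective hsurj).symm.toRingHom
  let _ : Module B N := Module.compHom N ψ
  have key : ∀ (a : A) (x : N), ψ (algebraMap A B a) • x = a • x := by
    intro a x
    have h1 : ψ (algebraMap A B a) = Ideal.Quotient.mk _ a :=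
      RingHom.quotientKerEquivOfSurjective_symm_apply hsurj a
    rw [h1]
    exact Module.IsTorsionBySet.mk_smul hT a x
  let e : ((RB (A := A) B).obj (ModuleCat.of B N)) ≃ₗ[A] N :=
    { toFun := fun x => x
      invFun := fun x => x
      map_add' := fun _ _ => rfl
      map_smul' := fun a x => key a x
      left_inv := fun _ => rfl
      right_inv := fun _ => rfl }
  exact ⟨ModuleCat.of B N, ⟨LinearEquiv.toModuleIso e⟩⟩

/-- Filtration by powers of the kernel: if `T_q(F)` vanishes on (restrictions of) `B`-modules, it vanishes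
on every `A`-module killed by a power of `ker (A → B)`. -/
theorem isZero_TFun_of_ker_pow (hsurj : Function.Surjective (algebraMap A B))
    (F : CochainComplex (ModuleCat.{u} A) ℤ) (hfl : ∀ i, Module.Flat A (F.X i)) (q : ℤ)
    (h0 : ∀ M' : ModuleCat.{u} B, IsZero ((TFun F q).obj ((RB (A := A) B).obj M')))
    (n : ℕ) : ∀ (N : Type u) [AddCommGroup N] [Module A N],
      (RingHom.ker (algebraMap A B)) ^ n • (⊤ : Submodule A N) = ⊥ →
      IsZero ((TFun F q).obj (ModuleCat.of A N)) := by
  induction n with
  | zero =>
    intro N _ _ hN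
    rw [pow_zero, Ideal.one_eq_top, Submodule.top_smul] at hN
    have : Subsingleton N := ⟨fun x y => by
      have hx : x ∈ (⊤ : Submodule A N) := Submodule.mem_top
      have hy : y ∈ (⊤ : Submodule A N) := Submodule.mem_top
      rw [hN, Submodule.mem_bot] at hx hy
      rw [hx, hy]⟩
    exact (TFun F q).map_isZero (ModuleCat.isZero_of_subsingleton _)
  | succ n ih =>
    intro N _ _ hN
    let N₁ : Submodule A N := (RingHom.ker (algebraMap A B)) ^ n • (⊤ : Submodule A N)
    have h1 : ∀ a ∈ RingHom.ker (algebraMap A B), ∀ x : N₁, a • x = 0 := by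
      intro a ha x
      have h2 : a • (x : N) ∈ (RingHom.ker (algebraMap A B)) • N₁ := Submodule.smul_mem_smul ha x.2
      rw [← Submodule.mul_smul, ← pow_succ', hN, Submodule.mem_bot] at h2
      exact Subtype.ext h2
    have h3 : (RingHom.ker (algebraMap A B)) ^ n • (⊤ : Submodule A (N ⧸ N₁)) = ⊥ := by
      rw [eq_bot_iff, Submodule.smul_le]
      intro r hr y _
      obtain ⟨x, rfl⟩ := N₁.mkQ_surjective y
      rw [Submodule.mem_bot, ← map_smul, Submodule.mkQ_apply, Submodule.Quotient.mk_eq_zero]
      exact Submodule.smul_mem_smul hr Submodule.mem_top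
    obtain ⟨M', ⟨e⟩⟩ := exists_iso_restrict B hsurj N₁ h1
    have h4 : IsZero ((TFun F q).obj (ModuleCat.of A N₁)) :=
      (h0 M').of_iso ((TFun F q).mapIso e.symm)
    have h5 := ih (N ⧸ N₁) h3
    let S : ShortComplex (ModuleCat.{u} A) :=
      ShortComplex.mk (ModuleCat.ofHom N₁.subtype) (ModuleCat.ofHom N₁.mkQ) (by
        ext x
        simp)
    have hS : S.ShortExact :=
      { exact := by
          rw [ShortComplex.ShortExact.moduleCat_exact_iff_function_exact]
          exact LinearMap.exact_subtype_mkQ N₁
        mono_f := (ModuleCat.mono_iff_injective _).2 N₁.injective_subtype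
        epi_g := (ModuleCat.epi_iff_surjective _).2 N₁.mkQ_surjective }
    have hex := Groth.Agent.Lib.TFun.exact₂ F hfl S hS q
    exact hex.isZero_of_both_zeros (h4.eq_of_src _ _) (h5.eq_of_tgt _ _)

end Filtration

end Groth.Agent.Lib.KProjBC21
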