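import Groth.Agent.Lib.SemiFree35
import Mathlib.Algebra.Homology.HomotopyCategory.KProjective
import Mathlib.Algebra.Homology.ShortComplex.Exact
import Mathlib.Algebra.Category.ModuleCat.Projective

/-!
# The semi-free resolution is K-projective (helper35)

The resolution `res M ⟶ M` of `Lib/SemiFree35` is K-projective: every map from `res M` to an acyclic
complex is null-homotopic. The null-homotopy is constructed stage by stage on the tower (extension
over a cone attaching projective cells with zero differential) and glued over the colimit.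
-/

set_option autoImplicit false

universe u

namespace Groth.Agent.Lib.SemiFreeKProj35

open CategoryTheory CategoryTheory.Limits CochainComplex HomComplex
open Groth.Agent.Lib.KFlat35 Groth.Agent.Lib.SemiFree35

section Step

variable {C : Type*} [Category C] [Abelian C]

/-- Extension of a null-homotopy over the cone of a map from a complex of projectives with zero
differential, when the target is acyclic. -/
theorem exists_extension_cochain {G K' L : CochainComplex C ℤ} (g : G ⟶ K')
    (hG : ∀ p q, G.d p q = 0) [∀ p, Projective (G.X p)] (hL : L.Acyclic)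
    (φ : mappingCone g ⟶ L) (h : Cochain K' L (-1))
    (hh : δ (-1) 0 h = Cochain.ofHom (mappingCone.inr g ≫ φ)) :
    ∃ h' : Cochain (mappingCone g) L (-1), δ (-1) 0 h' = Cochain.ofHom φ ∧
      (Cochain.ofHom (mappingCone.inr g)).comp h' (zero_add _) = h := by
  set ρ : Cochain G L (-1) := (mappingCone.inl g).comp (Cochain.ofHom φ) (add_zero _) -
    (Cochain.ofHom g).comp h (zero_add _) with hρ
  have hρ0 : δ (-1) 0 ρ = 0 := by
    rw [hρ, δ_sub, δ_comp_ofHom, mappingCone.δ_inl, δ_ofHom_comp, hh, ← Cochain.ofHom_comp,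
      ← Cochain.ofHom_comp, Category.assoc, sub_self]
  have key : ∀ p : ℤ, ∃ s : G.X p ⟶ L.X (p - 2),
      s ≫ L.d (p - 2) (p - 1) = ρ.v p (p - 1) (by omega) := by
    intro p
    have h1 : ρ.v p (p - 1) (by omega) ≫ L.d (p - 1) p = 0 := by
      have := Cochain.congr_v hρ0 p p (add_zero p)
      rw [δ_v (-1) 0 (by simp) ρ p p (add_zero p) (p - 1) (p + 1) rfl rfl, hG, zero_comp,
        smul_zero, add_zero, Cochain.zero_v] at this
      exact this
    have hex : (L.sc' (p - 2) (p - 1) p).Exact :=
      (L.exactAt_iff' (p - 2) (p - 1) p (by simp; omega) (by simp)).1 (hL (p - 1))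
    exact ⟨hex.liftFromProjective (ρ.v p (p - 1) (by omega)) h1,
      hex.liftFromProjective_comp _ _⟩
  choose s hs using key
  let α : Cochain G L (-2) :=
    Cochain.mk fun p q hpq => s p ≫ (L.XIsoOfEq (by omega : p - 2 = q)).hom
  have hα : δ (-2) (-1) α = ρ := by
    ext p q hpq
    obtain rfl : q = p - 1 := by omega
    rw [δ_v (-2) (-1) (by simp) α p (p - 1) hpq (p - 2) (p + 1) (by omega) rfl, hG, zero_comp,
      smul_zero, add_zero]
    simp [α, hs]
  refine ⟨mappingCone.descCochain g α h (by omega), ?_, mappingCone.inr_descCochain _ _ _ _⟩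
  rw [mappingCone.δ_descCochain g α h (by omega) 0 (by omega), hα, hh,
    mappingCone.ext_cochain_from_iff g (-1) 0 (by omega)]
  constructor <;> simp [hρ]

end Step

section Glue

variable {C : Type*} [Category C] [Abelian C] [HasColimitsOfShape ℕ C]

/-- A compatible family of null-homotopies on a sequence of complexes glues to a null-homotopy on
the colimit. -/
theorem exists_homotopy_of_compatible (F : ℕ ⥤ CochainComplex C ℤ) {c : Cocone F}
    (hc : IsColimit c) {L : CochainComplex C ℤ} (f : c.pt ⟶ L)
    (h : ∀ n, Cochain (F.obj n) L (-1))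
    (hh : ∀ n, δ (-1) 0 (h n) = Cochain.ofHom (c.ι.app n ≫ f))
    (hcomp : ∀ n, (Cochain.ofHom (F.map (homOfLE (n.le_add_right 1)))).comp (h (n + 1))
      (zero_add _) = h n) :
    Nonempty (Homotopy f 0) := by
  let ev := fun p : ℤ => HomologicalComplex.eval C (ComplexShape.up ℤ) p
  have hcp : ∀ p, IsColimit ((ev p).mapCocone c) := fun p => isColimitOfPreserves (ev p) hc
  let coc : ∀ (p q : ℤ) (_ : p + (-1) = q), Cocone (F ⋙ ev p) := fun p q hpq =>
    { pt := L.X q
      ι := NatTrans.ofSequence (fun n => (h n).v p q hpq) (fun n => by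
        have := Cochain.congr_v (hcomp n) p q hpq
        rw [Cochain.zero_cochain_comp_v, Cochain.ofHom_v] at this
        dsimp
        rw [Category.comp_id]
        exact this) }
  let H : Cochain c.pt L (-1) := Cochain.mk fun p q hpq => (hcp p).desc (coc p q hpq)
  have fac : ∀ (n : ℕ) (p q : ℤ) (hpq : p + (-1) = q),
      (c.ι.app n).f p ≫ H.v p q hpq = (h n).v p q hpq := fun n p q hpq =>
    (hcp p).fac (coc p q hpq) n
  have hH : δ (-1) 0 H = Cochain.ofHom f := by
    refine Cochain.ext₀ _ _ (fun p => ?_)
    apply (hcp p).hom_ext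
    intro n
    change (c.ι.app n).f p ≫ _ = (c.ι.app n).f p ≫ _
    have h1 := Cochain.congr_v (hh n) p p (add_zero p)
    rw [δ_v (-1) 0 (by simp) (h n) p p (add_zero p) (p - 1) (p + 1) rfl rfl,
      Cochain.ofHom_v] at h1
    have e : (c.ι.app n).f p ≫ c.pt.d p (p + 1) =
        (F.obj n).d p (p + 1) ≫ (c.ι.app n).f (p + 1) := (c.ι.app n).comm p (p + 1)
    rw [δ_v (-1) 0 (by simp) H p p (add_zero p) (p - 1) (p + 1) rfl rfl, Cochain.ofHom_v,
      Preadditive.comp_add, ← Category.assoc, fac, Linear.comp_units_smul, ← Category.assoc,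
      e, Category.assoc, fac]
    exact h1
  exact ⟨(Cochain.equivHomotopy f 0).symm ⟨H, by simp [hH]⟩⟩

end Glue

section Main

variable {R : Type u} [CommRing R] (M : CochainComplex (ModuleCat.{u} R) ℤ)

instance projective_cellCx_X (I : ℤ → Type u) (p : ℤ) :
    Projective ((cellCx (R := R) I).X p) :=
  (IsProjective.iff_projective (I p →₀ R)).1 inferInstance

/-- The semi-free resolution `res M` is K-projective. -/
theorem isKProjective_res : (res M).IsKProjective := by
  constructor
  intro L f₀ hL
  let F := seq M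
  let f : colimit F ⟶ L := f₀
  change Nonempty (Homotopy f 0)
  have hmap : ∀ n : ℕ, F.map (homOfLE (n.le_add_right 1)) = incl (stage M n).f n := fun n =>
    Functor.ofSequence_map_homOfLE_succ _ n
  have hw : ∀ n : ℕ, incl (stage M n).f n ≫ colimit.ι F (n + 1) = colimit.ι F n := fun n => by
    rw [← hmap]
    exact colimit.w F (homOfLE (n.le_add_right 1))
  have step : ∀ (n : ℕ) (h : {h : Cochain (F.obj n) L (-1) //
      δ (-1) 0 h = Cochain.ofHom (colimit.ι F n ≫ f)}),
      ∃ h' : Cochain (F.obj (n + 1)) L (-1),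
        δ (-1) 0 h' = Cochain.ofHom (colimit.ι F (n + 1) ≫ f) ∧
        (Cochain.ofHom (F.map (homOfLE (n.le_add_right 1)))).comp h' (zero_add _) = h.1 := by
    intro n h
    rw [hmap n]
    have e : mappingCone.inr (attachMap (stage M n).f n) ≫ colimit.ι F (n + 1) ≫ f =
        colimit.ι F n ≫ f := by
      rw [← Category.assoc]
      exact congrArg (· ≫ f) (hw n)
    exact exists_extension_cochain (attachMap (stage M n).f n) (fun _ _ => rfl) hL
      (colimit.ι F (n + 1) ≫ f) h.1 (h.2.trans (congrArg Cochain.ofHom e.symm))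
  have h0 : δ (-1) 0 (0 : Cochain (F.obj 0) L (-1)) = Cochain.ofHom (colimit.ι F 0 ≫ f) := by
    have : colimit.ι F 0 ≫ f = 0 := by
      ext p : 1
      exact (isZero_cellCx_X (R := R) (I := fun _ => PEmpty.{u + 1}) p).eq_of_src _ _
    rw [this, δ_zero, Cochain.ofHom_zero]
  let hs : ∀ n : ℕ, {h : Cochain (F.obj n) L (-1) //
      δ (-1) 0 h = Cochain.ofHom (colimit.ι F n ≫ f)} := fun n =>
    Nat.rec (motive := fun n => {h : Cochain (F.obj n) L (-1) //
      δ (-1) 0 h = Cochain.ofHom (colimit.ι F n ≫ f)}) ⟨0, h0⟩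
      (fun n h => ⟨(step n h).choose, (step n h).choose_spec.1⟩) n
  exact exists_homotopy_of_compatible F (colimit.isColimit F) f (fun n => (hs n).1)
    (fun n => (hs n).2) (fun n => (step n (hs n)).choose_spec.2)

/-- Every complex of `R`-modules admits a degreewise surjective quasi-isomorphism from a complex
which is K-projective, K-flat and has flat terms. -/
theorem exists_kprojective_resolution :
    ∃ (K : CochainComplex (ModuleCat.{u} R) ℤ) (f : K ⟶ M), K.IsKProjective ∧ IsKFlat K ∧
      (∀ i, Module.Flat R (K.X i)) ∧ QuasiIso f ∧ ∀ i, Function.Surjective (f.f i).hom :=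
  ⟨res M, resMap M, isKProjective_res M, res_spec M⟩

end Main

end Groth.Agent.Lib.SemiFreeKProj35
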