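import Groth.Prelude.Def_ega3
import Mathlib.Algebra.Homology.HomologySequence
import Mathlib.Algebra.Homology.HomologicalComplexAbelian
import Mathlib.RingTheory.Flat.CategoryTheory
import Mathlib.Algebra.Homology.ShortComplex.Linear

set_option autoImplicit false
universe u

namespace Groth.Agent.Lib.TFun

open CategoryTheory CategoryTheory.Limits MonoidalCategory CohIII

variable {A : Type u} [CommRing A] {ι : Type} {c : ComplexShape ι}

@[simp]
theorem tensorMap_f (P : HomologicalComplex (ModuleCat.{u} A) c) {M N : ModuleCat.{u} A}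
    (g : M ⟶ N) (i : ι) : (tensorMap P g).f i = P.X i ◁ g := rfl

theorem tensorMap_comp (P : HomologicalComplex (ModuleCat.{u} A) c) {M N K : ModuleCat.{u} A}
    (g : M ⟶ N) (h : N ⟶ K) : tensorMap P (g ≫ h) = tensorMap P g ≫ tensorMap P h := by
  ext i : 1
  simp
  rfl

theorem tensorMap_zero (P : HomologicalComplex (ModuleCat.{u} A) c) (M N : ModuleCat.{u} A) :
    tensorMap P (0 : M ⟶ N) = 0 := by
  ext i : 1
  simp
  rfl

theorem tensorMap_add (P : HomologicalComplex (ModuleCat.{u} A) c) {M N : ModuleCat.{u} A}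
    (g h : M ⟶ N) : tensorMap P (g + h) = tensorMap P g + tensorMap P h := by
  ext i : 1
  simp
  rfl

theorem tensorMap_smul (P : HomologicalComplex (ModuleCat.{u} A) c) {M N : ModuleCat.{u} A}
    (r : A) (g : M ⟶ N) : tensorMap P (r • g) = r • tensorMap P g := by
  ext i : 1
  simp
  rfl

/-- The short complex of complexes `P ⊗ S.X₁ ⟶ P ⊗ S.X₂ ⟶ P ⊗ S.X₃`. -/
noncomputable def tensorSC (P : HomologicalComplex (ModuleCat.{u} A) c)
    (S : ShortComplex (ModuleCat.{u} A)) : ShortComplex (HomologicalComplex (ModuleCat.{u} A) c) :=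
  ShortComplex.mk (tensorMap P S.f) (tensorMap P S.g)
    (by rw [← tensorMap_comp, S.zero, tensorMap_zero])

theorem tensorSC_shortExact (P : HomologicalComplex (ModuleCat.{u} A) c)
    (hP : ∀ i, Module.Flat A (P.X i)) (S : ShortComplex (ModuleCat.{u} A)) (hS : S.ShortExact) :
    (tensorSC P S).ShortExact := by
  apply HomologicalComplex.shortExact_of_degreewise_shortExact
  intro i
  have := hP i
  exact hS.map_of_exact (tensorLeft (P.X i))

theorem TFun_map (P : HomologicalComplex (ModuleCat.{u} A) c) (p : ι) {M N : ModuleCat.{u} A}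
    (g : M ⟶ N) : (TFun P p).map g = HomologicalComplex.homologyMap (tensorMap P g) p := rfl

theorem TFun_map_zero (P : HomologicalComplex (ModuleCat.{u} A) c) (p : ι) (M N : ModuleCat.{u} A) :
    (TFun P p).map (0 : M ⟶ N) = 0 := by
  rw [TFun_map, tensorMap_zero, HomologicalComplex.homologyMap_zero]
  rfl

theorem TFun_map_add (P : HomologicalComplex (ModuleCat.{u} A) c) (p : ι) {M N : ModuleCat.{u} A}
    (g h : M ⟶ N) : (TFun P p).map (g + h) = (TFun P p).map g + (TFun P p).map h := by
  rw [TFun_map, tensorMap_add, HomologicalComplex.homologyMap_add]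
  rfl

instance (P : HomologicalComplex (ModuleCat.{u} A) c) (p : ι) : (TFun P p).Additive where
  map_add := TFun_map_add P p _ _

theorem homologyMap_smul {K L : HomologicalComplex (ModuleCat.{u} A) c} (r : A) (φ : K ⟶ L) (p : ι) :
    HomologicalComplex.homologyMap (r • φ) p = r • HomologicalComplex.homologyMap φ p := by
  have h : (HomologicalComplex.shortComplexFunctor (ModuleCat.{u} A) c p).map (r • φ) =
      r • (HomologicalComplex.shortComplexFunctor (ModuleCat.{u} A) c p).map φ := by
    ext <;> rfl
  have h2 := ShortComplex.homologyMap_smul (R := A)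
    ((HomologicalComplex.shortComplexFunctor (ModuleCat.{u} A) c p).map φ) r
  unfold HomologicalComplex.homologyMap
  rw [h]
  exact h2

theorem TFun_map_smul (P : HomologicalComplex (ModuleCat.{u} A) c) (p : ι) {M N : ModuleCat.{u} A}
    (r : A) (g : M ⟶ N) : (TFun P p).map (r • g) = r • (TFun P p).map g := by
  rw [TFun_map, tensorMap_smul, homologyMap_smul]
  rfl

instance (P : HomologicalComplex (ModuleCat.{u} A) c) (p : ι) : (TFun P p).Linear A where
  map_smul := fun g r => TFun_map_smul P p r g

section LES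

variable (P : HomologicalComplex (ModuleCat.{u} A) c) (hP : ∀ i, Module.Flat A (P.X i))
  (S : ShortComplex (ModuleCat.{u} A)) (hS : S.ShortExact) (i j : ι) (hij : c.Rel i j)

/-- The connecting homomorphism `T_i(S.X₃) ⟶ T_j(S.X₁)`. -/
noncomputable def δ : (TFun P i).obj S.X₃ ⟶ (TFun P j).obj S.X₁ :=
  (tensorSC_shortExact P hP S hS).δ i j hij

theorem δ_comp : δ P hP S hS i j hij ≫ (TFun P j).map S.f = 0 :=
  (tensorSC_shortExact P hP S hS).δ_comp i j hij

theorem comp_δ : (TFun P i).map S.g ≫ δ P hP S hS i j hij = 0 :=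
  (tensorSC_shortExact P hP S hS).comp_δ i j hij

theorem exact₁ : (ShortComplex.mk _ _ (δ_comp P hP S hS i j hij)).Exact :=
  (tensorSC_shortExact P hP S hS).homology_exact₁ i j hij

include hP hS in
theorem exact₂ : (ShortComplex.mk ((TFun P i).map S.f) ((TFun P i).map S.g)
    (by rw [← Functor.map_comp, S.zero, TFun_map_zero])).Exact :=
  (tensorSC_shortExact P hP S hS).homology_exact₂ i

theorem exact₃ : (ShortComplex.mk _ _ (comp_δ P hP S hS i j hij)).Exact :=
  (tensorSC_shortExact P hP S hS).homology_exact₃ i j hij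

end LES

end Groth.Agent.Lib.TFun
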