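import Groth.Agent.Lib.TKfTri
import Groth.Agent.Lib.TFun
import Groth.Agent.Lib.KProjBC21
import Groth.Agent.Lib.SemiFreeKProj35
import Groth.Agent.Lib.LBaseChangeKProj
import Groth.Agent.Lib.TFunCompare
import Groth.Agent.Lib.ProjResolution
import Groth.Agent.Lib.ConeQuasiIso

/-!
# Derived Nakayama for derived complete complexes (helper25)

`homology_vanishing_of_LTensor`: if `K ∈ D(A)` is derived complete with respect to a finitely
generated ideal `I` and `K ⊗^L A/I` has no cohomology in degrees `> m`, then neither has `K`.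

Ingredients: `Van U F l` (vanishing of `H^q(F ⊗ N)`, `q ∈ U`, on modules killed by `l`), the
inductive step `van_cf` (pass from `F` to the cone of `f` on `F`, dropping `f` from the list),
`isZero_homology_kd`, and the Koszul form `isZero_H_of_kd` of derived Nakayama.
-/

set_option autoImplicit false
set_option linter.unusedSectionVars false
universe u

open CategoryTheory Limits MonoidalCategory CohIII

attribute [local instance] HasDerivedCategory.standard

namespace Groth.Agent.Lib.DerivedNak

variable {A : Type u} [CommRing A]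

/-- `N` is killed by all elements of `l`. -/
def Killed (l : List A) (N : ModuleCat.{u} A) : Prop := ∀ a ∈ l, ∀ x : N, a • x = 0

/-- `H^q(F ⊗ N) = 0` for `q ∈ U` and all `N` killed by `l`. -/
def Van (U : Set ℤ) (F : CochainComplex (ModuleCat.{u} A) ℤ) (l : List A) : Prop :=
  ∀ q ∈ U, ∀ N : ModuleCat.{u} A, Killed l N → IsZero ((TFun F q).obj N)

section step

variable (f : A) (N : ModuleCat.{u} A)

/-- multiplication by `f` on `N` -/
abbrev mulN : N →ₗ[A] N := f • LinearMap.id

/-- `fN` -/
abbrev fN : ModuleCat.{u} A := ModuleCat.of A (LinearMap.range (mulN f N))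

/-- `N → fN` -/
abbrev πN : N ⟶ fN f N := ModuleCat.ofHom (mulN f N).rangeRestrict

/-- `fN → N` -/
abbrev ιN : fN f N ⟶ N := ModuleCat.ofHom (LinearMap.range (mulN f N)).subtype

lemma π_ι : πN f N ≫ ιN f N = f • 𝟙 N := by
  ext x
  rfl

/-- `0 → N[f] → N → fN → 0` -/
noncomputable def S1 : ShortComplex (ModuleCat.{u} A) :=
  ShortComplex.mk (ModuleCat.ofHom (LinearMap.ker (mulN f N)).subtype)
    (πN f N) (by
      ext x
      exact x.2)

/-- `0 → fN → N → N/fN → 0` -/
noncomputable def S2 : ShortComplex (ModuleCat.{u} A) :=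
  ShortComplex.mk (ιN f N)
    (ModuleCat.ofHom (LinearMap.range (mulN f N)).mkQ) (by
      ext x
      simp)

lemma S1_shortExact : (S1 f N).ShortExact where
  exact := by
    rw [ShortComplex.ShortExact.moduleCat_exact_iff_function_exact]
    intro y
    constructor
    · intro hy
      refine ⟨⟨y, ?_⟩, rfl⟩
      have := congrArg Subtype.val hy
      exact this
    · rintro ⟨x, rfl⟩
      apply Subtype.ext
      exact x.2
  mono_f := (ModuleCat.mono_iff_injective _).2 (LinearMap.ker (mulN f N)).injective_subtype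
  epi_g := (ModuleCat.epi_iff_surjective _).2 (mulN f N).surjective_rangeRestrict

lemma S2_shortExact : (S2 f N).ShortExact where
  exact := by
    rw [ShortComplex.ShortExact.moduleCat_exact_iff_function_exact]
    exact LinearMap.exact_subtype_mkQ _
  mono_f := (ModuleCat.mono_iff_injective _).2 (LinearMap.range (mulN f N)).injective_subtype
  epi_g := (ModuleCat.epi_iff_surjective _).2 (LinearMap.range (mulN f N)).mkQ_surjective

variable {f N} (l : List A) (hN : Killed l N)
include hN

lemma killed_S1_X₁ : Killed (f :: l) (S1 f N).X₁ := by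
  intro a ha x
  apply Subtype.ext
  rcases List.mem_cons.mp ha with rfl | ha'
  · exact x.2
  · exact hN a ha' x.1

lemma killed_S2_X₃ : Killed (f :: l) (S2 f N).X₃ := by
  intro a ha x
  have key : ∀ x : N ⧸ LinearMap.range (mulN f N), a • x = 0 := by
    intro x
    obtain ⟨y, rfl⟩ := (LinearMap.range (mulN f N)).mkQ_surjective x
    rw [← map_smul]
    rcases List.mem_cons.mp ha with rfl | ha'
    · rw [Submodule.mkQ_apply, Submodule.Quotient.mk_eq_zero]
      exact ⟨y, rfl⟩
    · rw [hN a ha' y, map_zero]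
  exact key x

end step

section TFunStep

variable (F : CochainComplex (ModuleCat.{u} A) ℤ) (hfl : ∀ i, Module.Flat A (F.X i))
  (U : Set ℤ) (hU : ∀ q ∈ U, q + 1 ∈ U) (f : A) (l : List A) (hV : Van U F (f :: l))
  (N : ModuleCat.{u} A) (hN : Killed l N)

include hfl hU hV hN

lemma epi_TFun_smul (q : ℤ) (hq : q ∈ U) : Epi ((TFun F q).map (f • 𝟙 N)) := by
  rw [← π_ι, Functor.map_comp]
  have h1 : Epi ((TFun F q).map (πN f N)) := by
    have hex := Groth.Agent.Lib.TFun.exact₃ F hfl (S1 f N) (S1_shortExact f N) q (q + 1) rfl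
    exact hex.epi_f ((hV (q + 1) (hU q hq) _ (killed_S1_X₁ l hN)).eq_of_tgt _ _)
  have h2 : Epi ((TFun F q).map (ιN f N)) := by
    have hex := Groth.Agent.Lib.TFun.exact₂ F hfl (S2 f N) (S2_shortExact f N) q
    exact hex.epi_f ((hV q hq _ (killed_S2_X₃ l hN)).eq_of_tgt _ _)
  exact epi_comp _ _

lemma mono_TFun_smul (q : ℤ) (hq : q ∈ U) (hq' : q - 1 ∈ U) :
    Mono ((TFun F q).map (f • 𝟙 N)) := by
  rw [← π_ι, Functor.map_comp]
  have h1 : Mono ((TFun F q).map (πN f N)) := by
    have hex := Groth.Agent.Lib.TFun.exact₂ F hfl (S1 f N) (S1_shortExact f N) q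
    exact hex.mono_g ((hV q hq _ (killed_S1_X₁ l hN)).eq_of_src _ _)
  have h2 : Mono ((TFun F q).map (ιN f N)) := by
    have hex := Groth.Agent.Lib.TFun.exact₁ F hfl (S2 f N) (S2_shortExact f N) (q - 1) q
      (by simp)
    exact hex.mono_g ((hV (q - 1) hq' _ (killed_S2_X₃ l hN)).eq_of_src _ _)
  exact mono_comp _ _

end TFunStep

section natIso

variable {C D : Type*} [Category C] [Category D] {F G : C ⥤ D}

lemma epi_map_of_natIso (α : F ≅ G) {X Y : C} (g : X ⟶ Y) (h : Epi (F.map g)) :
    Epi (G.map g) := by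
  rw [← NatIso.naturality_1 α g]
  infer_instance

lemma mono_map_of_natIso (α : F ≅ G) {X Y : C} (g : X ⟶ Y) (h : Mono (F.map g)) :
    Mono (G.map g) := by
  rw [← NatIso.naturality_1 α g]
  infer_instance

end natIso

section cone

open Groth.Agent.Lib.TorsionOrthMod Groth.Agent.Lib.TKfAmp

variable (F : CochainComplex (ModuleCat.{u} A) ℤ) (f : A) (N : ModuleCat.{u} A)

lemma TFun_map_smul_id (q : ℤ) :
    (TFun F q).map (f • 𝟙 N) = f • 𝟙 _ := by
  rw [Functor.map_smul, CategoryTheory.Functor.map_id]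

lemma isZero_TFun_cf (q : ℤ) (hepi : Epi ((TFun F q).map (f • 𝟙 N)))
    (hmono : Mono ((TFun F (q + 1)).map (f • 𝟙 N))) :
    IsZero ((TFun (cf f F) q).obj N) := by
  let φ : tensorObj F N ⟶ tensorObj F N :=
    ((tensorRight N).mapHomologicalComplex (ComplexShape.up ℤ)).map (f • 𝟙 F)
  have hφ : φ = f • 𝟙 _ := by
    change ((tensorRight N).mapHomologicalComplex (ComplexShape.up ℤ)).map (f • 𝟙 F) = _
    rw [Functor.map_smul, CategoryTheory.Functor.map_id]
  have hφq : ∀ q : ℤ, HomologicalComplex.homologyMap φ q = (TFun F q).map (f • 𝟙 N) := by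
    intro q
    rw [TFun_map_smul_id, hφ]
    exact homologyMap_smul_id f (tensorObj F N) q
  let e : tensorObj (cf f F) N ≅ CochainComplex.mappingCone φ :=
    CochainComplex.mappingCone.mapHomologicalComplexIso (f • 𝟙 F) (tensorRight N)
  have hT := DerivedCategory.mappingCone_triangle_distinguished φ
  have hepi' : Epi ((H A q).map (DerivedCategory.Q.map φ)) := by
    have h1 : Epi ((HomologicalComplex.homologyFunctor (ModuleCat.{u} A) (ComplexShape.up ℤ) q).map
        φ) := by
      change Epi (HomologicalComplex.homologyMap φ q)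
      rw [hφq]; exact hepi
    exact epi_map_of_natIso (DerivedCategory.homologyFunctorFactors (ModuleCat.{u} A) q).symm φ h1
  have hmono' : Mono ((H A (q + 1)).map (DerivedCategory.Q.map φ)) := by
    have h1 : Mono ((HomologicalComplex.homologyFunctor (ModuleCat.{u} A) (ComplexShape.up ℤ)
        (q + 1)).map φ) := by
      change Mono (HomologicalComplex.homologyMap φ (q + 1))
      rw [hφq]; exact hmono
    exact mono_map_of_natIso
      (DerivedCategory.homologyFunctorFactors (ModuleCat.{u} A) (q + 1)).symm φ h1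
  have hz := Groth.Agent.Lib.TKfTri.isZero_H_obj₃ _ hT q hepi' hmono'
  have hz2 : IsZero ((CochainComplex.mappingCone φ).homology q) :=
    hz.of_iso ((DerivedCategory.homologyFunctorFactors (ModuleCat.{u} A) q).app _).symm
  exact hz2.of_iso ((HomologicalComplex.homologyFunctor _ _ q).mapIso e)

end cone

section kd

open Groth.Agent.Lib.TorsionOrthMod Groth.Agent.Lib.TKfAmp

variable (U : Set ℤ) (hU : ∀ q ∈ U, q + 1 ∈ U)

include hU in
lemma van_cf (F : CochainComplex (ModuleCat.{u} A) ℤ) (hfl : ∀ i, Module.Flat A (F.X i))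
    (f : A) (l : List A) (hV : Van U F (f :: l)) : Van U (cf f F) l := by
  intro q hq N hN
  apply isZero_TFun_cf
  · exact epi_TFun_smul F hfl U hU f l hV N hN q hq
  · exact mono_TFun_smul F hfl U hU f l hV N hN (q + 1) (hU q hq) (by simpa using hq)

lemma flat_cf (F : CochainComplex (ModuleCat.{u} A) ℤ) (hfl : ∀ i, Module.Flat A (F.X i))
    (f : A) : ∀ i, Module.Flat A ((cf f F).X i) :=
  fun i => Groth.Agent.Lib.ConeQuasiIso.flat_mappingCone_X _ hfl hfl i

/-- `F ⊗ A ≅ F` -/
noncomputable def tensorUnitIso (F : CochainComplex (ModuleCat.{u} A) ℤ) :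
    tensorObj F (𝟙_ (ModuleCat.{u} A)) ≅ F :=
  (NatIso.mapHomologicalComplex (rightUnitorNatIso (ModuleCat.{u} A)) (ComplexShape.up ℤ)).app F ≪≫
    (Functor.mapHomologicalComplexIdIso (ModuleCat.{u} A) (ComplexShape.up ℤ)).app F

lemma isZero_homology_of_van_nil (F : CochainComplex (ModuleCat.{u} A) ℤ) (hV : Van U F [])
    (q : ℤ) (hq : q ∈ U) : IsZero (F.homology q) := by
  have h1 := hV q hq (𝟙_ (ModuleCat.{u} A)) (fun a ha => by simp at ha)
  exact h1.of_iso ((HomologicalComplex.homologyFunctor _ _ q).mapIso (tensorUnitIso F)).symm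

include hU in
theorem isZero_homology_kd (l : List A) :
    ∀ (F : CochainComplex (ModuleCat.{u} A) ℤ), (∀ i, Module.Flat A (F.X i)) → Van U F l →
      ∀ q ∈ U, IsZero ((kd l F).homology q) := by
  induction l with
  | nil =>
    intro F _ hV q hq
    exact isZero_homology_of_van_nil U F hV q hq
  | cons f l ih =>
    intro F hfl hV q hq
    exact ih (cf f F) (flat_cf F hfl f) (van_cf U hU F hfl f l hV) q hq

/-- derived Nakayama, Koszul form: if `K` is derived complete with respect to all elements of `l`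
and the iterated cone `kd l K` has no cohomology in the degrees of `U`, then neither has `K`. -/
theorem isZero_H_of_kd (l : List A) :
    ∀ (F : CochainComplex (ModuleCat.{u} A) ℤ),
      (∀ f ∈ l, Groth.Agent.Lib.TKfMod.DC f (DerivedCategory.Q.obj F)) →
      (∀ q ∈ U, IsZero ((H A q).obj (DerivedCategory.Q.obj (kd l F)))) →
      ∀ q ∈ U, IsZero ((H A q).obj (DerivedCategory.Q.obj F)) := by
  induction l with
  | nil =>
    intro F _ h q hq
    exact h q hq
  | cons f l ih =>
    intro F hDC h q hq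
    have hT := DerivedCategory.mappingCone_triangle_distinguished (f • 𝟙 F)
    have hcf : ∀ g ∈ l, Groth.Agent.Lib.TKfMod.DC g (DerivedCategory.Q.obj (cf f F)) := by
      intro g hg
      have hg' := (Groth.Agent.Lib.TKfAdj.DC_iff_Cpl g _).mp (hDC g (List.mem_cons_of_mem f hg))
      exact (Groth.Agent.Lib.TKfAdj.DC_iff_Cpl g _).mpr
        (Groth.Agent.Lib.TKfCompl.Cpl.of_triangle₃ _ hT hg' hg')
    have h1 := ih (cf f F) hcf h q hq
    have hepi := Groth.Agent.Lib.TKfTri.epi_H_mor₁ _ hT q h1
    change Epi ((H A q).map (DerivedCategory.Q.map (f • 𝟙 F))) at hepi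
    rw [Functor.map_smul, CategoryTheory.Functor.map_id,
      Groth.Agent.Lib.TKfMod.homologyFunctor_map_smul_id] at hepi
    have hsc := Groth.Agent.Lib.TKfMod.isSeqComplete_HD f (DerivedCategory.Q.obj F)
      (hDC f List.mem_cons_self) q
    have hsurj : Function.Surjective
        (f • 𝟙 ((H A q).obj (DerivedCategory.Q.obj F)) : _ ⟶ _).hom :=
      (ModuleCat.epi_iff_surjective _).mp hepi
    have hz : ∀ m : (H A q).obj (DerivedCategory.Q.obj F), m = 0 := by
      apply Groth.Agent.Lib.SeqComplete.eq_zero_of_range_lsmul_eq_top hsc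
      rw [LinearMap.range_eq_top]
      intro y
      obtain ⟨x, hx⟩ := hsurj y
      exact ⟨x, hx⟩
    have : Subsingleton ((H A q).obj (DerivedCategory.Q.obj F)) :=
      ⟨fun a b => by rw [hz a, hz b]⟩
    exact ModuleCat.isZero_of_subsingleton _

end kd

section LTensor

open Groth.Agent.Lib.TorsionOrthMod Groth.Agent.Lib.TKfAmp

/-- From vanishing of the cohomology of `K ⊗^L A/I` in degrees `> m` to vanishing of
`H^q(F ⊗ N)` for all `A/I`-modules `N` (`F` a K-projective, termwise flat representative).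
(Adapted from helper21's proof of S7084.) -/
theorem isZero_TFun_restrict_of_LTensor (I : Ideal A)
    [DRing.HasLTensor A (ModuleCat.of A (A ⧸ I))]
    (F : CochainComplex (ModuleCat.{u} A) ℤ) [F.IsKProjective] (m : ℤ)
    (hK : ∀ q : ℤ, m < q → IsZero ((H A q).obj
      ((DRing.LTensor A (ModuleCat.of A (A ⧸ I))).obj (DerivedCategory.Q.obj F)))) :
    ∀ q : ℤ, m < q → ∀ M' : ModuleCat.{u} (A ⧸ I),
      IsZero ((TFun F q).obj ((Groth.Agent.Lib.TFunCompare.RB (A := A) (A ⧸ I)).obj M')) := by
  have hrep : ∀ (T : CochainComplex (ModuleCat.{u} A) ℤ),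
      Groth.Agent.Lib.LBaseChangeKProj.HasKProjRep (DerivedCategory.Q.obj T) := fun T => by
    obtain ⟨K', f', hK', -, -, hq', -⟩ :=
      Groth.Agent.Lib.SemiFreeKProj35.exists_kprojective_resolution T
    have : IsIso (DerivedCategory.Q.map f') := by
      rw [DerivedCategory.isIso_Q_map_iff_quasiIso]
      exact hq'
    exact ⟨K', hK', ⟨(asIso (DerivedCategory.Q.map f')).symm⟩⟩
  have trans : ∀ q : ℤ, (H A q).obj
        ((DRing.LTensor A (ModuleCat.of A (A ⧸ I))).obj (DerivedCategory.Q.obj F)) ≅
      (TFun F q).obj (ModuleCat.of A (A ⧸ I)) := by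
    intro q
    let j := Groth.Agent.Lib.LBaseChangeKProj.lgIso
      (MonoidalCategory.tensorRight (ModuleCat.of A (A ⧸ I))) F (hrep _)
    exact (DerivedCategory.homologyFunctor _ q).mapIso j ≪≫
      (DerivedCategory.homologyFunctorFactors _ q).app _
  have h1 : ∀ q : ℤ, m < q →
      IsZero ((CohIII.bcCx (algebraMap A (A ⧸ I)) F).homology q) := by
    intro q hq
    have h2 : IsZero ((TFun F q).obj (ModuleCat.of A (A ⧸ I))) := (hK q hq).of_iso (trans q).symm
    have h3 := h2.of_iso (Groth.Agent.Lib.TFunCompare.homologyCompare (A ⧸ I) F q)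
    have h4 : Subsingleton ((Groth.Agent.Lib.TFunCompare.RB (A := A) (A ⧸ I)).obj
        ((CohIII.bcCx (algebraMap A (A ⧸ I)) F).homology q)) :=
      ModuleCat.subsingleton_of_isZero h3
    have : Subsingleton ((CohIII.bcCx (algebraMap A (A ⧸ I)) F).homology q) := h4
    exact ModuleCat.isZero_of_subsingleton _
  have h2 : (DerivedCategory.Q.obj (CohIII.bcCx (algebraMap A (A ⧸ I)) F)).IsLE m := by
    rw [DerivedCategory.isLE_iff]
    intro q hq
    exact (h1 q hq).of_iso ((DerivedCategory.homologyFunctorFactors _ q).app _)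
  obtain ⟨L, hL0, hLp, ⟨e⟩⟩ := Groth.Agent.Lib.ProjResolution.exists_iso_Q_projective
    (DerivedCategory.Q.obj (CohIII.bcCx (algebraMap A (A ⧸ I)) F)) m
  have := CochainComplex.isKProjective_of_projective L m
  intro q hq M'
  refine Groth.Agent.Lib.KProjBC21.isZero_TFun_restrict_of_iso F L e.symm M' q ?_
  refine ShortComplex.isZero_homology_of_isZero_X₂ _ ?_
  exact (MonoidalCategory.tensorRight M').map_isZero (L.isZero_of_isStrictlyLE m q hq)

/-- Derived Nakayama: if `K` is derived complete with respect to the finitely generated ideal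
`I` and `K ⊗^L A/I` has no cohomology in degrees `> m`, then neither has `K`. -/
theorem homology_vanishing_of_LTensor (I : Ideal A) (s : Finset A)
    (hs : Ideal.span (s : Set A) = I) [DRing.HasLTensor A (ModuleCat.of A (A ⧸ I))]
    (K : Dual.D A) (hc : DRing.IsDerivedComplete I K) (m : ℤ)
    (hK : ∀ q : ℤ, m < q → IsZero ((H A q).obj
      ((DRing.LTensor A (ModuleCat.of A (A ⧸ I))).obj K))) :
    ∀ q : ℤ, m < q → IsZero ((H A q).obj K) := by
  let M₀ := (DerivedCategory.Q (C := ModuleCat.{u} A)).objPreimage K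
  let e₀ : DerivedCategory.Q.obj M₀ ≅ K :=
    (DerivedCategory.Q (C := ModuleCat.{u} A)).objObjPreimageIso K
  obtain ⟨F, f, hFp, -, hfl, hq, -⟩ :=
    Groth.Agent.Lib.SemiFreeKProj35.exists_kprojective_resolution M₀
  have hf : IsIso (DerivedCategory.Q.map f) := by
    rw [DerivedCategory.isIso_Q_map_iff_quasiIso]
    exact hq
  let eF : DerivedCategory.Q.obj F ≅ K := asIso (DerivedCategory.Q.map f) ≪≫ e₀
  have hK' : ∀ q : ℤ, m < q → IsZero ((H A q).obj
      ((DRing.LTensor A (ModuleCat.of A (A ⧸ I))).obj (DerivedCategory.Q.obj F))) := fun q hq =>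
    (hK q hq).of_iso ((H A q).mapIso ((DRing.LTensor A (ModuleCat.of A (A ⧸ I))).mapIso eF))
  have h3 := isZero_TFun_restrict_of_LTensor I F m hK'
  let U : Set ℤ := {q | m < q}
  have hU : ∀ q ∈ U, q + 1 ∈ U := fun q hq => by
    change m < q + 1
    have : m < q := hq
    omega
  have hV : Van U F s.toList := by
    intro q hq N hN
    have hker : RingHom.ker (algebraMap A (A ⧸ I)) = I := Ideal.mk_ker
    have hN' : ∀ a ∈ RingHom.ker (algebraMap A (A ⧸ I)), ∀ x : N, a • x = 0 := by
      rw [hker, ← hs]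
      intro a ha x
      have hle : Ideal.span (s : Set A) ≤ LinearMap.ker (LinearMap.toSpanSingleton A N x) := by
        rw [Ideal.span_le]
        intro b hb
        change b ∈ LinearMap.ker (LinearMap.toSpanSingleton A N x)
        rw [LinearMap.mem_ker, LinearMap.toSpanSingleton_apply]
        exact hN b (Finset.mem_toList.mpr hb) x
      have h7 := hle ha
      rw [LinearMap.mem_ker, LinearMap.toSpanSingleton_apply] at h7
      exact h7
    obtain ⟨M', ⟨e⟩⟩ := Groth.Agent.Lib.KProjBC21.exists_iso_restrict (A ⧸ I)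
      (Ideal.Quotient.mk_surjective (I := I)) N hN'
    exact (h3 q hq M').of_iso ((TFun F q).mapIso e.symm)
  have h4 := isZero_homology_kd U hU s.toList F hfl hV
  have h5 : ∀ q ∈ U, IsZero ((H A q).obj (DerivedCategory.Q.obj (kd s.toList F))) := fun q hq =>
    (h4 q hq).of_iso ((DerivedCategory.homologyFunctorFactors _ q).app _)
  have hcF : DRing.IsDerivedComplete I (DerivedCategory.Q.obj F) :=
    (DRing.IsDerivedComplete I).prop_of_iso eF.symm hc
  have hDC : ∀ f ∈ s.toList, Groth.Agent.Lib.TKfMod.DC f (DerivedCategory.Q.obj F) := by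
    intro f hf
    refine hcF f ?_
    rw [← hs]
    exact Ideal.subset_span (Finset.mem_toList.mp hf)
  have h6 := isZero_H_of_kd U s.toList F hDC h5
  intro q hq
  exact (h6 q hq).of_iso ((H A q).mapIso eF.symm)

/-- right t-exactness of `- ⊗^L N`. -/
theorem isZero_H_LTensor_of_isZero_H (N : ModuleCat.{u} A) [DRing.HasLTensor A N]
    (K : Dual.D A) (m : ℤ) (hK : ∀ q : ℤ, m < q → IsZero ((H A q).obj K)) :
    ∀ q : ℤ, m < q → IsZero ((H A q).obj ((DRing.LTensor A N).obj K)) := by
  have hle : K.IsLE m := by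
    rw [DerivedCategory.isLE_iff]
    exact hK
  obtain ⟨L, hL0, hLp, ⟨e⟩⟩ := Groth.Agent.Lib.ProjResolution.exists_iso_Q_projective K m
  have := CochainComplex.isKProjective_of_projective L m
  have hrep : ∀ (T : CochainComplex (ModuleCat.{u} A) ℤ),
      Groth.Agent.Lib.LBaseChangeKProj.HasKProjRep (DerivedCategory.Q.obj T) := fun T => by
    obtain ⟨K', f', hK', -, -, hq', -⟩ :=
      Groth.Agent.Lib.SemiFreeKProj35.exists_kprojective_resolution T
    have : IsIso (DerivedCategory.Q.map f') := by
      rw [DerivedCategory.isIso_Q_map_iff_quasiIso]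
      exact hq'
    exact ⟨K', hK', ⟨(asIso (DerivedCategory.Q.map f')).symm⟩⟩
  intro q hq
  let j := (DRing.LTensor A N).mapIso e.symm ≪≫
    Groth.Agent.Lib.LBaseChangeKProj.lgIso (MonoidalCategory.tensorRight N) L (hrep _)
  have hz : IsZero ((tensorObj L N).homology q) := by
    refine ShortComplex.isZero_homology_of_isZero_X₂ _ ?_
    exact (MonoidalCategory.tensorRight N).map_isZero (L.isZero_of_isStrictlyLE m q hq)
  exact hz.of_iso ((DerivedCategory.homologyFunctor _ q).mapIso j ≪≫
    (DerivedCategory.homologyFunctorFactors _ q).app _)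

/-- an object of `D(A)` all of whose cohomology vanishes is zero. -/
lemma isZero_of_forall_isZero_H (K : Dual.D A) (h : ∀ q : ℤ, IsZero ((H A q).obj K)) :
    IsZero K := by
  have : IsIso (0 : K ⟶ K) := by
    rw [DerivedCategory.isIso_iff]
    intro q
    exact ⟨⟨0, (h q).eq_of_src _ _, (h q).eq_of_src _ _⟩⟩
  rw [IsZero.iff_id_eq_zero]
  calc 𝟙 K = (0 : K ⟶ K) ≫ inv 0 := (IsIso.hom_inv_id _).symm
    _ = 0 := zero_comp

end LTensor

end Groth.Agent.Lib.DerivedNak
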