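import Groth.Agent.Lib.KInjMain31
import Groth.Agent.Lib.KInjDerived31
import Groth.Agent.Lib.LBaseChangeKProj
import Groth.Agent.Lib.DerivedNak
import Groth.Prelude.Def_DRing3
import Mathlib.Algebra.Category.ModuleCat.AB

/-!
# `RΓ_I` on `D(A)` via K-injective resolutions (helper25)

* `exists_kinj`: K-injective resolutions of complexes of modules (helper31's theorem).
* `rgIso I J : RΓ_I(Q J) ≅ Q(Γ_I J)` for `J` K-injective (`DRing.RgammaI` is an abstract total
  right derived functor).
* `isIso_quotient_map_of_quasiIso`, `quasiIso_map_of_isKInjective`: additive functors preserve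
  quasi-isomorphisms between K-injective complexes.
* `gammaI_map_smul`, `mapHC_gammaI_smul`, `exists_pow_smul_homology_gammaI`.
* `isZero_RgammaI_of_smul_bijective` (= S8933).
-/

set_option autoImplicit false
set_option linter.unusedSectionVars false
set_option linter.unusedTactic false
universe u

open CategoryTheory Limits

attribute [local instance] HasDerivedCategory.standard

namespace Groth.Agent.Lib.RGammaKInj

open Groth.Agent.Lib.TKfAmp

variable {A : Type u} [CommRing A] (I : Ideal A)

/-- every complex of modules has a K-injective resolution -/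
theorem exists_kinj (K : CochainComplex (ModuleCat.{u} A) ℤ) :
    ∃ (J : CochainComplex (ModuleCat.{u} A) ℤ) (f : K ⟶ J), J.IsKInjective ∧ QuasiIso f := by
  obtain ⟨J, f, h1, h2, -, -⟩ := Groth.Agent.KInjMain31.exists_kinjective_resolution K
  exact ⟨J, f, h1, h2⟩

instance : (DRing.gammaIKh I).HasPointwiseRightDerivedFunctor
    (HomotopyCategory.quasiIso (ModuleCat.{u} A) (ComplexShape.up ℤ)) :=
  Groth.Agent.KInjDerived31.hasPointwiseRightDerivedFunctor _ exists_kinj

section

variable [DRing.HasRgammaI I]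

/-- `RΓ_I` of the class of a K-injective complex is computed termwise. -/
noncomputable def rgIso (J : CochainComplex (ModuleCat.{u} A) ℤ) [J.IsKInjective] :
    (DRing.RgammaI I).obj (DerivedCategory.Q.obj J) ≅
      DerivedCategory.Q.obj (((DRing.gammaI I).mapHomologicalComplex (ComplexShape.up ℤ)).obj J) :=
  have := Groth.Agent.KInjDerived31.isIso_unit_app_of_isKInjective (DRing.gammaIKh I)
    (DRing.RgammaI I) ((DRing.gammaIKh I).totalRightDerivedUnit DerivedCategory.Qh
      (HomotopyCategory.quasiIso (ModuleCat.{u} A) (ComplexShape.up ℤ))) J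
  (DRing.RgammaI I).mapIso ((DerivedCategory.quotientCompQhIso (ModuleCat.{u} A)).app J).symm ≪≫
    (asIso (((DRing.gammaIKh I).totalRightDerivedUnit DerivedCategory.Qh
      (HomotopyCategory.quasiIso (ModuleCat.{u} A) (ComplexShape.up ℤ))).app
        ((HomotopyCategory.quotient _ _).obj J))).symm ≪≫
    Groth.Agent.Lib.LBaseChangeKProj.khObjIso (DRing.gammaI I) J

end

/-- a quasi-isomorphism between K-injective complexes becomes an isomorphism in `K(A)`. -/
lemma isIso_quotient_map_of_quasiIso {J₁ J₂ : CochainComplex (ModuleCat.{u} A) ℤ}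
    [J₁.IsKInjective] [J₂.IsKInjective] (φ : J₁ ⟶ J₂) [QuasiIso φ] :
    IsIso ((HomotopyCategory.quotient (ModuleCat.{u} A) (ComplexShape.up ℤ)).map φ) := by
  let q := HomotopyCategory.quotient (ModuleCat.{u} A) (ComplexShape.up ℤ)
  have hiso : IsIso (DerivedCategory.Qh.map (q.map φ)) := by
    have h1 : IsIso (DerivedCategory.Q.map φ) := inferInstance
    have e := (DerivedCategory.quotientCompQhIso (ModuleCat.{u} A)).hom.naturality φ
    have : DerivedCategory.Qh.map (q.map φ) =
        (DerivedCategory.quotientCompQhIso (ModuleCat.{u} A)).hom.app J₁ ≫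
          DerivedCategory.Q.map φ ≫
          (DerivedCategory.quotientCompQhIso (ModuleCat.{u} A)).inv.app J₂ := by
      rw [← Category.assoc, ← e]
      simp
      rfl
    rw [this]
    infer_instance
  have b1 := CochainComplex.IsKInjective.Qh_map_bijective (q.obj J₂) J₁
  have b2 := CochainComplex.IsKInjective.Qh_map_bijective (q.obj J₁) J₁
  have b3 := CochainComplex.IsKInjective.Qh_map_bijective (q.obj J₂) J₂
  obtain ⟨ψ, hψ⟩ := b1.2 (inv (DerivedCategory.Qh.map (q.map φ)))
  refine ⟨⟨ψ, ?_, ?_⟩⟩
  · apply b2.1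
    change DerivedCategory.Qh.map (q.map φ ≫ ψ) = DerivedCategory.Qh.map (𝟙 _)
    rw [Functor.map_comp]
    change _ ≫ DerivedCategory.Qh.map ψ = _ at ⊢
    rw [show DerivedCategory.Qh.map ψ = inv (DerivedCategory.Qh.map (q.map φ)) from hψ]
    simp
  · apply b3.1
    change DerivedCategory.Qh.map (ψ ≫ q.map φ) = DerivedCategory.Qh.map (𝟙 _)
    rw [Functor.map_comp]
    rw [show DerivedCategory.Qh.map ψ = inv (DerivedCategory.Qh.map (q.map φ)) from hψ]
    simp

/-- an additive functor sends quasi-isomorphisms between K-injectives to quasi-isomorphisms. -/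
lemma quasiIso_map_of_isKInjective (G : ModuleCat.{u} A ⥤ ModuleCat.{u} A) [G.Additive]
    {J₁ J₂ : CochainComplex (ModuleCat.{u} A) ℤ} [J₁.IsKInjective] [J₂.IsKInjective]
    (φ : J₁ ⟶ J₂) [QuasiIso φ] :
    QuasiIso ((G.mapHomologicalComplex (ComplexShape.up ℤ)).map φ) := by
  have h1 := isIso_quotient_map_of_quasiIso φ
  have h2 : IsIso ((G.mapHomotopyCategory (ComplexShape.up ℤ)).map
      ((HomotopyCategory.quotient (ModuleCat.{u} A) (ComplexShape.up ℤ)).map φ)) := inferInstance
  have e := (G.mapHomotopyCategoryFactors (ComplexShape.up ℤ)).hom.naturality φ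
  simp only [Functor.comp_map] at e
  have h3 : IsIso ((HomotopyCategory.quotient (ModuleCat.{u} A) (ComplexShape.up ℤ)).map
      ((G.mapHomologicalComplex (ComplexShape.up ℤ)).map φ)) := by
    have : (HomotopyCategory.quotient (ModuleCat.{u} A) (ComplexShape.up ℤ)).map
        ((G.mapHomologicalComplex (ComplexShape.up ℤ)).map φ) =
        (G.mapHomotopyCategoryFactors (ComplexShape.up ℤ)).inv.app J₁ ≫
          (G.mapHomotopyCategory (ComplexShape.up ℤ)).map
            ((HomotopyCategory.quotient (ModuleCat.{u} A) (ComplexShape.up ℤ)).map φ) ≫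
          (G.mapHomotopyCategoryFactors (ComplexShape.up ℤ)).hom.app J₂ := by
      rw [e]
      simp
    rw [this]
    infer_instance
  rw [← HomologicalComplex.mem_quasiIso_iff, ← HomotopyCategory.quotient_map_mem_quasiIso_iff]
  exact (HomotopyCategory.quasiIso (ModuleCat.{u} A) (ComplexShape.up ℤ)).of_isIso _

lemma gammaI_map_smul (a : A) (X : ModuleCat.{u} A) :
    (DRing.gammaI I).map (a • 𝟙 X) = a • 𝟙 ((DRing.gammaI I).obj X) := by
  ext x
  rfl

lemma mapHC_gammaI_smul (a : A) (J : CochainComplex (ModuleCat.{u} A) ℤ) :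
    ((DRing.gammaI I).mapHomologicalComplex (ComplexShape.up ℤ)).map (a • 𝟙 J) =
      a • 𝟙 (((DRing.gammaI I).mapHomologicalComplex (ComplexShape.up ℤ)).obj J) := by
  refine HomologicalComplex.hom_ext _ _ (fun n => ?_)
  exact gammaI_map_smul I a (J.X n)

/-- homology classes of `Γ_I J` are `I`-power torsion. -/
lemma exists_pow_smul_homology_gammaI (J : CochainComplex (ModuleCat.{u} A) ℤ) (q : ℤ) (f : A)
    (hf : f ∈ I)
    (x : (((DRing.gammaI I).mapHomologicalComplex (ComplexShape.up ℤ)).obj J).homology q) :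
    ∃ k : ℕ, f ^ k • x = 0 := by
  let L := ((DRing.gammaI I).mapHomologicalComplex (ComplexShape.up ℤ)).obj J
  have hsurj : Function.Surjective (L.homologyπ q).hom :=
    (ModuleCat.epi_iff_surjective _).mp inferInstance
  have hinj : Function.Injective (L.iCycles q).hom :=
    (ModuleCat.mono_iff_injective _).mp inferInstance
  obtain ⟨z, hz⟩ := hsurj x
  let y : DRing.torsionSub I (J.X q) := (L.iCycles q).hom z
  obtain ⟨n, hn⟩ := y.2
  refine ⟨n, ?_⟩
  have h1 : f ^ n • y = 0 := by
    apply Subtype.ext
    exact hn (f ^ n) (Ideal.pow_mem_pow hf n)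
  have h2 : f ^ n • z = 0 := by
    apply hinj
    rw [map_smul, map_zero]
    exact h1
  rw [← hz, ← map_smul, h2, map_zero]

section

variable [DRing.HasRgammaI I]

/-- `RΓ_I` kills complexes on which some `f ∈ I` acts bijectively. -/
theorem isZero_RgammaI_of_smul_bijective (K : CochainComplex (ModuleCat.{u} A) ℤ) (f : A)
    (hf : f ∈ I) (hK : ∀ n : ℤ, Function.Bijective (fun x : K.X n => f • x)) :
    IsZero ((DRing.RgammaI I).obj (DerivedCategory.Q.obj K)) := by
  obtain ⟨J, g, hJ, hg⟩ := exists_kinj K
  have hQg : IsIso (DerivedCategory.Q.map g) := inferInstance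
  set L := ((DRing.gammaI I).mapHomologicalComplex (ComplexShape.up ℤ)).obj J with hL
  have e : (DRing.RgammaI I).obj (DerivedCategory.Q.obj K) ≅ DerivedCategory.Q.obj L :=
    (DRing.RgammaI I).mapIso (asIso (DerivedCategory.Q.map g)) ≪≫ rgIso I J
  refine IsZero.of_iso ?_ e
  apply Groth.Agent.Lib.DerivedNak.isZero_of_forall_isZero_H
  intro q
  refine IsZero.of_iso ?_ ((DerivedCategory.homologyFunctorFactors (ModuleCat.{u} A) q).app L)
  change IsZero (L.homology q)
  -- `f` is a quasi-isomorphism on `J`
  have hKiso : IsIso (f • 𝟙 K) := by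
    have : ∀ n, IsIso ((f • 𝟙 K : K ⟶ K).f n) := by
      intro n
      exact (ConcreteCategory.isIso_iff_bijective _).mpr (hK n)
    exact HomologicalComplex.Hom.isIso_of_components _
  have hcomm : (f • 𝟙 K) ≫ g = g ≫ (f • 𝟙 J) := by
    rw [Linear.smul_comp, Linear.comp_smul, Category.id_comp, Category.comp_id]
  have hQJ : IsIso (DerivedCategory.Q.map (f • 𝟙 J)) := by
    have h1 : DerivedCategory.Q.map (f • 𝟙 J) =
        inv (DerivedCategory.Q.map g) ≫ DerivedCategory.Q.map (f • 𝟙 K) ≫
          DerivedCategory.Q.map g := by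
      rw [← Functor.map_comp, hcomm, Functor.map_comp, IsIso.inv_hom_id_assoc]
    rw [h1]
    infer_instance
  have hqi : QuasiIso (f • 𝟙 J) := by
    rw [← DerivedCategory.isIso_Q_map_iff_quasiIso]
    exact hQJ
  have hqi2 := quasiIso_map_of_isKInjective (DRing.gammaI I) (f • 𝟙 J)
  rw [mapHC_gammaI_smul] at hqi2
  have hiso : IsIso (HomologicalComplex.homologyMap (f • 𝟙 L) q) := by
    have := (quasiIso_iff (f • 𝟙 L)).mp hqi2 q
    exact (quasiIsoAt_iff_isIso_homologyMap _ _).mp this
  rw [Groth.Agent.Lib.TorsionOrthMod.homologyMap_smul_id] at hiso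
  have hinj : Function.Injective (fun x : L.homology q => f • x) :=
    ((ConcreteCategory.isIso_iff_bijective (f • 𝟙 (L.homology q))).mp hiso).1
  have hz : ∀ x : L.homology q, x = 0 := by
    intro x
    obtain ⟨k, hk⟩ := exists_pow_smul_homology_gammaI I J q f hf x
    induction k with
    | zero => simpa using hk
    | succ k ih =>
      apply ih
      apply hinj
      change f • (f ^ k • x) = f • 0
      rw [smul_zero, ← mul_smul, ← pow_succ', hk]
  have : Subsingleton (L.homology q) := ⟨fun a b => by rw [hz a, hz b]⟩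
  exact ModuleCat.isZero_of_subsingleton _

end

end Groth.Agent.Lib.RGammaKInj
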