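import Groth.Agent.Lib.RHomModelD25
import Groth.Agent.Lib.HomCxSESop25
import Groth.Agent.Lib.FiveLemmaTri35
import Groth.Agent.Lib.RGammaKInj

/-!
# Weak exactness of `RHom(-, L)` on `D(A)` (helper25)

`WeaklyExactOp Φ` for a contravariant functor; `weaklyExactOp_rhom L`: the functor `K ↦ RHom(K, L)`
sends the first two maps of a distinguished triangle to the first two maps of a distinguished
triangle; `weaklyExact_rhom_rhom L M`: `K ↦ RHom(RHom(K, L), M)` is weakly exact.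
-/

set_option autoImplicit false
set_option linter.unusedSectionVars false
set_option linter.style.haveILetI false
universe u

open CategoryTheory Category Limits MonoidalCategory CochainComplex HomComplex Pretriangulated
  Opposite

attribute [local instance] HasDerivedCategory.standard

namespace Groth.Agent.Lib.RHomModel25

open Groth.Agent.Lib.HomTensor25 DerivedCategory DTen Groth.Agent.Lib.FiveLemmaTri35

section General

variable {C : Type*} [Category C] [Preadditive C] [HasZeroObject C] [HasShift C ℤ]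
  [∀ n : ℤ, (CategoryTheory.shiftFunctor C n).Additive] [Pretriangulated C]

lemma exists_distinguished_of_iso {X Y Z X' Y' Z' : C} (f : X ⟶ Y) (g : Y ⟶ Z) (f' : X' ⟶ Y')
    (g' : Y' ⟶ Z') (a : X ≅ X') (b : Y ≅ Y') (c : Z ≅ Z') (h1 : f ≫ b.hom = a.hom ≫ f')
    (h2 : g ≫ c.hom = b.hom ≫ g')
    (h' : ∃ δ' : Z' ⟶ X'⟦(1 : ℤ)⟧, Triangle.mk f' g' δ' ∈ distTriang C) :
    ∃ δ : Z ⟶ X⟦(1 : ℤ)⟧, Triangle.mk f g δ ∈ distTriang C := by
  obtain ⟨δ', hδ'⟩ := h'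
  refine ⟨c.hom ≫ δ' ≫ (a.inv)⟦(1 : ℤ)⟧', ?_⟩
  refine isomorphic_distinguished _ hδ' _ (Triangle.isoMk _ _ a b c h1 h2 ?_)
  change (c.hom ≫ δ' ≫ (a.inv)⟦(1 : ℤ)⟧') ≫ (a.hom)⟦(1 : ℤ)⟧' = c.hom ≫ δ'
  rw [Category.assoc, Category.assoc, ← Functor.map_comp, Iso.inv_hom_id,
    CategoryTheory.Functor.map_id, Category.comp_id]

/-- contravariant weak exactness -/
def WeaklyExactOp (Φ : Cᵒᵖ ⥤ C) : Prop :=
  ∀ T ∈ distTriang C, ∃ δ : Φ.obj (op T.obj₁) ⟶ (Φ.obj (op T.obj₃))⟦(1 : ℤ)⟧,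
    Triangle.mk (Φ.map T.mor₂.op) (Φ.map T.mor₁.op) δ ∈ distTriang C

lemma WeaklyExactOp.of_iso {Φ Φ' : Cᵒᵖ ⥤ C} (e : Φ ≅ Φ') (h : WeaklyExactOp Φ') :
    WeaklyExactOp Φ := fun T hT =>
  exists_distinguished_of_iso _ _ _ _ (e.app _) (e.app _) (e.app _) (e.hom.naturality _)
    (e.hom.naturality _) (h T hT)

lemma weaklyExact_comp {Φ Φ' : Cᵒᵖ ⥤ C} (h : WeaklyExactOp Φ) (h' : WeaklyExactOp Φ') :
    WeaklyExact (Φ.rightOp ⋙ Φ') := fun T hT => by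
  obtain ⟨δ, hδ⟩ := h T hT
  exact h' _ hδ

end General

variable {A : Type u} [CommRing A] [HasLTen A] [HasRHom A]

/-- `K ↦ RHom(K, L)` as a contravariant functor -/
noncomputable abbrev rhomOp (L : Dual.D A) : (Dual.D A)ᵒᵖ ⥤ Dual.D A := (RHom A).flip.obj L

lemma rhomOp_map (L : Dual.D A) {K K' : Dual.D A} (g : K' ⟶ K) :
    (rhomOp L).map g.op = RHomMap g L := rfl

lemma key_square {P P' J : DRing.Cx A} [J.IsKInjective] (φ : P' ⟶ P) {Z Z' : Dual.D A}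
    (u : Q.obj P ⟶ Z) (u' : Q.obj P' ⟶ Z') (m : Z' ⟶ Z) (h : u' ≫ m = Q.map φ ≫ u) :
    (rhomOp (Q.obj J)).map m.op ≫ ((rhomOp (Q.obj J)).map u'.op ≫ (rhoIso P' J).inv) =
      ((rhomOp (Q.obj J)).map u.op ≫ (rhoIso P J).inv) ≫ Q.map (homCxPre φ J) := by
  rw [← Category.assoc, ← Functor.map_comp, ← op_comp, h, op_comp, Functor.map_comp,
    Category.assoc, Category.assoc]
  congr 1
  rw [Iso.comp_inv_eq, Category.assoc, Iso.eq_inv_comp]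
  exact rho_naturality φ J

theorem weaklyExactOp_rhom_Q (J : DRing.Cx A) [J.IsKInjective] :
    WeaklyExactOp (rhomOp (A := A) (Q.obj J)) := by
  intro T hT
  obtain ⟨X, Y, φ, ⟨e⟩⟩ := (DerivedCategory.mem_distTriang_iff _).1 (inv_rot_of_distTriang _ hT)
  let T₀ := (Q.mapTriangle.obj (mappingCone.triangle φ)).rotate
  let e' : T ≅ T₀ := (invRotCompRot.app T).symm ≪≫ (rotate _).mapIso e
  let i₁ : Q.obj Y ≅ T.obj₁ := Triangle.π₁.mapIso e'.symm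
  let i₂ : Q.obj (mappingCone φ) ≅ T.obj₂ := Triangle.π₂.mapIso e'.symm
  let i₃ : Q.obj (X⟦(1 : ℤ)⟧) ≅ T.obj₃ :=
    (Q.commShiftIso (1 : ℤ)).app X ≪≫ Triangle.π₃.mapIso e'.symm
  let u₁ : Q.obj Y ⟶ T.obj₁ := i₁.hom
  let u₂ : Q.obj (mappingCone φ) ⟶ T.obj₂ := i₂.hom
  let u₃ : Q.obj (X⟦(1 : ℤ)⟧) ⟶ T.obj₃ := i₃.hom
  haveI : IsIso u₁ := inferInstanceAs (IsIso i₁.hom)
  haveI : IsIso u₂ := inferInstanceAs (IsIso i₂.hom)
  haveI : IsIso u₃ := inferInstanceAs (IsIso i₃.hom)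
  have c₁ : u₁ ≫ T.mor₁ = Q.map (mappingCone.inr φ) ≫ u₂ := e'.inv.comm₁.symm
  have c₂ : u₂ ≫ T.mor₂ = Q.map (coneδ φ) ≫ u₃ := by
    refine e'.inv.comm₂.symm.trans ?_
    change (Q.map (mappingCone.triangle φ).mor₃ ≫ (Q.commShiftIso (1 : ℤ)).hom.app X) ≫
      e'.inv.hom₃ = Q.map (coneδ φ) ≫ (Q.commShiftIso (1 : ℤ)).hom.app X ≫ e'.inv.hom₃
    rw [Category.assoc]
    rfl
  have hS := coneSC_op_shortExact φ J
  refine exists_distinguished_of_iso _ _ (Q.map (homCxPreSC (coneSC φ) J).f)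
    (Q.map (homCxPreSC (coneSC φ) J).g)
    (asIso ((rhomOp (Q.obj J)).map u₃.op) ≪≫ (rhoIso (X⟦(1 : ℤ)⟧) J).symm)
    (asIso ((rhomOp (Q.obj J)).map u₂.op) ≪≫ (rhoIso (mappingCone φ) J).symm)
    (asIso ((rhomOp (Q.obj J)).map u₁.op) ≪≫ (rhoIso Y J).symm) ?_ ?_
    ⟨_, DerivedCategory.triangleOfSES_distinguished hS⟩
  · exact key_square (coneδ φ) u₃ u₂ T.mor₂ c₂
  · exact key_square (mappingCone.inr φ) u₂ u₁ T.mor₁ c₁

theorem weaklyExactOp_rhom (L : Dual.D A) : WeaklyExactOp (rhomOp L) := by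
  obtain ⟨X, ⟨e⟩⟩ : ∃ X : DRing.Cx A, Nonempty (Q.obj X ≅ L) := ⟨_, ⟨Q.objObjPreimageIso L⟩⟩
  obtain ⟨J, f, hJ, hf⟩ := Groth.Agent.Lib.RGammaKInj.exists_kinj X
  haveI := hJ
  have : IsIso (Q.map f) := by
    rw [DerivedCategory.isIso_Q_map_iff_quasiIso]; exact hf
  let eL : Q.obj J ≅ L := (asIso (Q.map f)).symm ≪≫ e
  exact (weaklyExactOp_rhom_Q J).of_iso ((RHom A).flip.mapIso eL.symm)

/-- `K ↦ RHom(RHom(K, L), M)` -/
noncomputable abbrev rhomRhom (L M : Dual.D A) : Dual.D A ⥤ Dual.D A :=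
  (rhomOp L).rightOp ⋙ rhomOp M

theorem weaklyExact_rhomRhom (L M : Dual.D A) : WeaklyExact (rhomRhom L M) :=
  weaklyExact_comp (weaklyExactOp_rhom L) (weaklyExactOp_rhom M)

end Groth.Agent.Lib.RHomModel25
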