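import Groth.Agent.Lib.RHomBC35
import Groth.Agent.Lib.RHomExact25
import Groth.Agent.Lib.DThick
import Groth.Agent.Lib.MixBase35
import Mathlib.CategoryTheory.Triangulated.Opposite.Pretriangulated
import Mathlib.CategoryTheory.Triangulated.Adjunction

/-!
# The base change map `bcRHom` (helper25)

* `LBase φ` is a triangulated functor (left adjoint of restriction).
* `bc_ev`: `(bcRHom ⊗ 1) ≫ ev' = inv mFlat ≫ LBase ev`.
* `bc_naturality`: naturality of `bcRHom φ K M` in `K`.
-/

set_option autoImplicit false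
set_option linter.unusedSectionVars false
set_option linter.style.haveILetI false
universe u

open CategoryTheory Category Limits MonoidalCategory Pretriangulated Opposite

attribute [local instance] HasDerivedCategory.standard

namespace Groth.Agent.Lib.BcRHom25

open DerivedCategory DTen Groth.Agent.Lib.RHomBC35 Groth.Agent.Lib.FiveLemmaTri35
  Groth.Agent.Lib.RHomModel25

section Tri

variable {R R' : Type u} [CommRing R] [CommRing R'] (φ : R →+* R') [HasLBase φ]

noncomputable instance commShiftLBase : (LBase φ).CommShift ℤ :=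
  (baseAdj φ).leftAdjointCommShift ℤ

instance commShiftBaseAdj : (baseAdj φ).CommShift ℤ :=
  (baseAdj φ).commShift_of_rightAdjoint ℤ

instance isTriangulatedLBase : (LBase φ).IsTriangulated :=
  (baseAdj φ).isTriangulated_leftAdjoint

lemma weaklyExact_LBase : WeaklyExact (LBase φ) := fun T hT =>
  ⟨_, (LBase φ).map_distinguished T hT⟩

end Tri

section BC

variable {R R' : Type u} [CommRing R] [CommRing R'] (φ : R →+* R')
  [HasLTen R] [HasLTen R'] [HasRHom R] [HasRHom R'] [HasLBase φ] [HasResTen φ] [ResLegIso φ]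

/-- `bcRHom` with the instance supplied by `isIso_rhomBC`. -/
noncomputable def bc (K M : Dual.D R) :
    (LBase φ).obj ((RHomR R K).obj M) ⟶ (RHomR R' ((LBase φ).obj K)).obj ((LBase φ).obj M) :=
  haveI := isIso_rhomBC φ K ((LBase φ).obj M)
  bcRHom φ K M

lemma bc_eq (K M : Dual.D R) [IsIso (rhomBC φ K ((LBase φ).obj M))] :
    bc φ K M = bcRHom φ K M := rfl

/-- naturality of `ev` in the second variable -/
lemma ev_naturality {A : Type u} [CommRing A] [HasLTen A] [HasRHom A] (K : Dual.D A)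
    {M M' : Dual.D A} (m : M ⟶ M') :
    (tensorRightD A K).map ((RHomR A K).map m) ≫ ev K M' = ev K M ≫ m :=
  (rhomAdj A K).counit.naturality m

/-- The key identity `(bcRHom ⊗ 1) ≫ ev' = inv mFlat ≫ LBase ev`. -/
lemma mFlat_bc_ev (K M : Dual.D R) :
    mFlat φ ((RHomR R K).obj M) K ≫
      (tensorRightD R' ((LBase φ).obj K)).map (bc φ K M) ≫
        ev ((LBase φ).obj K) ((LBase φ).obj M) = (LBase φ).map (ev K M) := by
  haveI := isIso_rhomBC φ K ((LBase φ).obj M)
  apply ((baseAdj φ).homEquiv _ _).injective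
  rw [Adjunction.homEquiv_unit, Adjunction.homEquiv_unit, Functor.map_comp, ← Category.assoc,
    unit_mFlat, ← core_eq φ K ((RHomR R K).obj M) ((LBase φ).obj M) (bc φ K M)]
  have h1 : (baseAdj φ).unit.app ((RHomR R K).obj M) ≫ (DRing.restrictD φ).map (bc φ K M) =
      (RHomR R K).map ((baseAdj φ).unit.app M) ≫ inv (rhomBC φ K ((LBase φ).obj M)) :=
    bcRHom_fac φ K M
  rw [h1, Functor.map_comp, Category.assoc, ← rhomBC_fac φ K ((LBase φ).obj M),
    ← Category.assoc ((tensorRightD R K).map (inv _)), ← Functor.map_comp, IsIso.inv_hom_id,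
    CategoryTheory.Functor.map_id, Category.id_comp, ev_naturality]
  exact ((baseAdj φ).unit.naturality (ev K M))

lemma mk_comp_mk' {A : Type u} [CommRing A] [HasLTen A] {X X' X'' Y Y' Y'' : Dual.D A}
    (f : X ⟶ X') (f' : X' ⟶ X'') (g : Y ⟶ Y') (g' : Y' ⟶ Y'') :
    (LTen₂ A).map (Prod.mkHom f g) ≫ (LTen₂ A).map (Prod.mkHom f' g') =
      (LTen₂ A).map (Prod.mkHom (f ≫ f') (g ≫ g')) := by
  rw [← Functor.map_comp]
  rfl

/-- Naturality of `bcRHom φ K M` in `K`. -/
lemma bc_naturality {K K₁ : Dual.D R} (u : K ⟶ K₁) (M : Dual.D R) :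
    (LBase φ).map (RHomMap u M) ≫ bc φ K M =
      bc φ K₁ M ≫ RHomMap ((LBase φ).map u) ((LBase φ).obj M) := by
  apply ((rhomAdj R' ((LBase φ).obj K)).homEquiv _ _).symm.injective
  rw [Adjunction.homEquiv_counit, Adjunction.homEquiv_counit]
  haveI := isIso_mFlat φ ((RHomR R K₁).obj M) K
  rw [← cancel_epi (mFlat φ ((RHomR R K₁).obj M) K)]
  -- left side
  have hL : mFlat φ ((RHomR R K₁).obj M) K ≫
      (tensorRightD R' ((LBase φ).obj K)).map ((LBase φ).map (RHomMap u M) ≫ bc φ K M) ≫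
        (rhomAdj R' ((LBase φ).obj K)).counit.app ((LBase φ).obj M) =
      (LBase φ).map ((LTen₂ R).map (Prod.mkHom (RHomMap u M) (𝟙 K)) ≫ ev K M) := by
    have nat := mFlat_naturality φ (RHomMap u M) (𝟙 K)
    rw [CategoryTheory.Functor.map_id] at nat
    rw [Functor.map_comp, Category.assoc, ← Category.assoc (mFlat φ _ K)]
    erw [← nat]
    rw [Category.assoc, Functor.map_comp]
    congr 1
    exact mFlat_bc_ev φ K M
  -- right side
  have hR : mFlat φ ((RHomR R K₁).obj M) K ≫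
      (tensorRightD R' ((LBase φ).obj K)).map
        (bc φ K₁ M ≫ RHomMap ((LBase φ).map u) ((LBase φ).obj M)) ≫
        (rhomAdj R' ((LBase φ).obj K)).counit.app ((LBase φ).obj M) =
      (LBase φ).map ((LTen₂ R).map (Prod.mkHom (𝟙 ((RHomR R K₁).obj M)) u) ≫ ev K₁ M) := by
    have nat := mFlat_naturality φ (𝟙 ((RHomR R K₁).obj M)) u
    rw [CategoryTheory.Functor.map_id] at nat
    have e1 : (tensorRightD R' ((LBase φ).obj K)).map
        (bc φ K₁ M ≫ RHomMap ((LBase φ).map u) ((LBase φ).obj M)) ≫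
        (rhomAdj R' ((LBase φ).obj K)).counit.app ((LBase φ).obj M) =
        (LTen₂ R').map (Prod.mkHom (𝟙 _) ((LBase φ).map u)) ≫
          (tensorRightD R' ((LBase φ).obj K₁)).map (bc φ K₁ M) ≫
            ev ((LBase φ).obj K₁) ((LBase φ).obj M) := by
      rw [Functor.map_comp, Category.assoc]
      have h := RHom_map_ev ((LBase φ).map u) ((LBase φ).obj M)
      erw [h]
      rw [tensorRightD_map', tensorRightD_map', ← Category.assoc, ← Category.assoc, mk_comp_mk',
        mk_comp_mk', Category.comp_id, Category.id_comp, Category.comp_id, Category.id_comp]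
    rw [e1, ← Category.assoc]
    erw [← nat]
    rw [Category.assoc, Functor.map_comp]
    congr 1
    exact mFlat_bc_ev φ K₁ M
  rw [hL, hR, RHom_map_ev]

end BC

section Op

open Pretriangulated.Opposite

variable {C D : Type*} [Category C] [Category D] [Preadditive C] [Preadditive D]
  [HasZeroObject C] [HasZeroObject D] [HasShift C ℤ] [HasShift D ℤ]
  [∀ n : ℤ, (CategoryTheory.shiftFunctor C n).Additive]
  [∀ n : ℤ, (CategoryTheory.shiftFunctor D n).Additive]
  [Pretriangulated C] [Pretriangulated D]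

/-- contravariant weak exactness, general target -/
def WeaklyExactOp₂ (Φ : Cᵒᵖ ⥤ D) : Prop :=
  ∀ T ∈ distTriang C, ∃ δ : Φ.obj (op T.obj₁) ⟶ (Φ.obj (op T.obj₃))⟦(1 : ℤ)⟧,
    Triangle.mk (Φ.map T.mor₂.op) (Φ.map T.mor₁.op) δ ∈ distTriang D

lemma WeaklyExactOp₂.rightOp {Φ : Cᵒᵖ ⥤ D} (h : WeaklyExactOp₂ Φ) :
    WeaklyExact (Φ.rightOp) := fun T hT => by
  obtain ⟨δ, hδ⟩ := h T hT
  exact ⟨_, op_distinguished _ hδ⟩

end Op

section WE

variable {R R' : Type u} [CommRing R] [CommRing R'] (φ : R →+* R')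
  [HasLTen R] [HasLTen R'] [HasRHom R] [HasRHom R'] [HasLBase φ]

/-- `K ↦ LBase (RHom(K, M))` -/
noncomputable abbrev srcF (M : Dual.D R) : (Dual.D R)ᵒᵖ ⥤ Dual.D R' := rhomOp M ⋙ LBase φ

/-- `K ↦ RHom'(LBase K, M')` -/
noncomputable abbrev tgtF (M' : Dual.D R') : (Dual.D R)ᵒᵖ ⥤ Dual.D R' :=
  (LBase φ).op ⋙ rhomOp M'

lemma weaklyExactOp₂_srcF (M : Dual.D R) : WeaklyExactOp₂ (srcF φ M) := fun T hT => by
  obtain ⟨δ, hδ⟩ := weaklyExactOp_rhom M T hT
  exact ⟨_, (LBase φ).map_distinguished _ hδ⟩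

lemma weaklyExactOp₂_tgtF (M' : Dual.D R') : WeaklyExactOp₂ (tgtF φ M') := fun T hT =>
  weaklyExactOp_rhom M' _ ((LBase φ).map_distinguished T hT)

end WE

section Fam

open Pretriangulated.Opposite

variable {R R' : Type u} [CommRing R] [CommRing R'] (φ : R →+* R')
  [HasLTen R] [HasLTen R'] [HasRHom R] [HasRHom R'] [HasLBase φ] [HasResTen φ] [ResLegIso φ]

/-- The family `Hom(RHom'(LBase K, LBase M), N) → Hom(LBase RHom(K, M), N)`, written in the opposite
category. -/
noncomputable def fam (N : Dual.D R') (M : Dual.D R) :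
    NatFamily (tgtF φ ((LBase φ).obj M)).rightOp (srcF φ M).rightOp (op N) (op N) where
  θ K :=
    { toFun := fun g => g ≫ (bc φ K M).op
      map_zero' := zero_comp
      map_add' := fun g g' => Preadditive.add_comp _ _ _ _ _ _ }
  nat {K K'} f g := by
    change (g ≫ _) ≫ (bc φ K' M).op = (g ≫ (bc φ K M).op) ≫ _
    rw [Category.assoc, Category.assoc]
    congr 1
    exact (congrArg Quiver.Hom.op (bc_naturality φ f M)).symm

lemma isIso_bc_of_bijective (K M : Dual.D R)
    (h : ∀ N : Dual.D R', Function.Bijective ((fam φ N M).θ K)) : IsIso (bc φ K M) := by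
  haveI : IsIso (bc φ K M).op := by
    rw [isIso_iff_yoneda_map_bijective]
    intro N
    exact h N.unop
  exact isIso_of_op _

lemma bijective_of_isIso_bc (K M : Dual.D R) (N : Dual.D R') (h : IsIso (bc φ K M)) :
    Function.Bijective ((fam φ N M).θ K) := by
  haveI := h
  constructor
  · intro g g' hg
    exact (cancel_mono (bc φ K M).op).1 hg
  · intro g
    exact ⟨g ≫ (inv (bc φ K M)).op, by
      change (g ≫ _) ≫ (bc φ K M).op = g
      have e : (inv (bc φ K M)).op ≫ (bc φ K M).op = 𝟙 _ := by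
        rw [← op_comp, IsIso.hom_inv_id, op_id]
      rw [Category.assoc]
      erw [e]
      exact Category.comp_id g⟩

/-- the dévissage property -/
def P (M : Dual.D R) : ObjectProperty (Dual.D R) := fun K => ∀ N : Dual.D R', (fam φ N M).Good K

instance (M : Dual.D R) : (P φ M).IsClosedUnderIsomorphisms where
  of_iso e h := fun N => (h N).of_iso _ e.symm

theorem P_of_isPerfect (M : Dual.D R) (hbase : ∀ n : ℤ, IsIso (bc φ ((unit R)⟦n⟧) M))
    (K : Dual.D R) (hK : DRing.IsPerfect R K) : P φ M K := by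
  obtain ⟨E, a, b, hE, hfp, ⟨e⟩⟩ := hK
  refine (P φ M).prop_of_iso e ?_
  refine Groth.Agent.Lib.DThick.prop_of_bounded_finite_projective (P φ M) ?_ ?_ ?_ ?_ E a b hE hfp
  · intro N
    apply NatFamily.good_of_forall_shift
    intro n
    exact bijective_of_isIso_bc φ _ M N (hbase n)
  · intro K n h N
    exact (h N).shift _ n
  · intro T hT h1 h3 N
    exact NatFamily.Good.mid _ (weaklyExactOp₂_tgtF φ _).rightOp (weaklyExactOp₂_srcF φ M).rightOp
      T hT (h1 N) (h3 N)
  · intro X Y _ h N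
    exact (h N).of_biprod _

theorem isIso_bc_of_isPerfect (M : Dual.D R) (hbase : ∀ n : ℤ, IsIso (bc φ ((unit R)⟦n⟧) M))
    (K : Dual.D R) (hK : DRing.IsPerfect R K) : IsIso (bc φ K M) :=
  isIso_bc_of_bijective φ K M (fun N => (P_of_isPerfect φ M hbase K hK N).bijective)

end Fam

section Base

variable {R R' : Type u} [CommRing R] [CommRing R'] (φ : R →+* R')
  [HasLTen R] [HasLTen R'] [HasRHom R] [HasRHom R'] [HasLBase φ] [HasResTen φ] [ResLegIso φ]

lemma isIso_ev_of_isEquivalence {A : Type u} [CommRing A] [HasLTen A] [HasRHom A] (U : Dual.D A)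
    [(tensorRightD A U).IsEquivalence] (L : Dual.D A) : IsIso (ev U L) :=
  inferInstanceAs (IsIso ((rhomAdj A U).counit.app L))

/-- `bcRHom φ U M` is an isomorphism when `- ⊗ U` and `- ⊗ LBase U` are equivalences. -/
lemma isIso_bc_of_isEquivalence (U : Dual.D R) [(tensorRightD R U).IsEquivalence]
    [(tensorRightD R' ((LBase φ).obj U)).IsEquivalence] (M : Dual.D R) : IsIso (bc φ U M) := by
  haveI := isIso_ev_of_isEquivalence U M
  haveI := isIso_ev_of_isEquivalence ((LBase φ).obj U) ((LBase φ).obj M)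
  haveI := isIso_mFlat φ ((RHomR R U).obj M) U
  have h := mFlat_bc_ev φ U M
  have h' : (tensorRightD R' ((LBase φ).obj U)).map (bc φ U M) =
      inv (mFlat φ ((RHomR R U).obj M) U) ≫ (LBase φ).map (ev U M) ≫
        inv (ev ((LBase φ).obj U) ((LBase φ).obj M)) := by
    rw [← h, Category.assoc, Category.assoc, IsIso.hom_inv_id, Category.comp_id,
      IsIso.inv_hom_id_assoc]
  haveI : IsIso ((tensorRightD R' ((LBase φ).obj U)).map (bc φ U M)) := by
    rw [h']
    infer_instance
  exact isIso_of_reflects_iso _ (tensorRightD R' ((LBase φ).obj U))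

end Base

section UnitShift

open Groth.Agent.Lib.MixBase35 Groth.Agent.Lib.KFlat35 Groth.Agent.Lib.DTenValues35

variable {A : Type u} [CommRing A]

instance isKProjective_unitCx : (𝟙_ (DRing.Cx A)).IsKProjective := by
  haveI : ∀ n : ℤ, Projective ((𝟙_ (DRing.Cx A)).X n) := by
    intro n
    by_cases hn : n = 0
    · subst hn
      haveI : Projective (𝟙_ (ModuleCat.{u} A)) :=
        ModuleCat.projective_of_free (M := ModuleCat.of A A) (Module.Basis.singleton Unit A)
      exact Projective.of_iso (HomologicalComplex.singleObjXSelf (ComplexShape.up ℤ) 0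
        (𝟙_ (ModuleCat.{u} A))).symm inferInstance
    · exact (HomologicalComplex.isZero_single_obj_X (ComplexShape.up ℤ) 0
        (𝟙_ (ModuleCat.{u} A)) n hn).projective
  haveI : (𝟙_ (DRing.Cx A)).IsStrictlyLE 0 :=
    inferInstanceAs (CochainComplex.IsStrictlyLE
      ((CochainComplex.singleFunctor (ModuleCat.{u} A) 0).obj (𝟙_ (ModuleCat.{u} A))) 0)
  exact CochainComplex.isKProjective_of_projective _ 0

/-- chain-level: `K ⊗ 𝟙⟦n⟧ ≅ K⟦n⟧` -/
noncomputable def chainIso (K : DRing.Cx A) (n : ℤ) : K ⊗ (𝟙_ (DRing.Cx A))⟦n⟧ ≅ K⟦n⟧ :=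
  σ₂ K (𝟙_ (DRing.Cx A)) n ≪≫ (CategoryTheory.shiftFunctor (DRing.Cx A) n).mapIso (ρ_ K)

lemma chainIso_naturality {K K' : DRing.Cx A} (f : K ⟶ K') (n : ℤ) :
    (f ▷ (𝟙_ (DRing.Cx A))⟦n⟧) ≫ (chainIso K' n).hom = (chainIso K n).hom ≫ f⟦n⟧' := by
  dsimp only [chainIso, Iso.trans_hom, Functor.mapIso_hom]
  rw [← Category.assoc, σ₂_naturality, Category.assoc, Category.assoc, ← Functor.map_comp,
    ← Functor.map_comp, MonoidalCategory.rightUnitor_naturality]

variable [HasLTen A]

/-- the shifted unit complex -/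
noncomputable abbrev Sn (A : Type u) [CommRing A] (n : ℤ) : DRing.Cx A := (𝟙_ (DRing.Cx A))⟦n⟧

lemma isKFlat_Sn (n : ℤ) : IsKFlat (Sn A n) := isKFlat_shift isKFlat_unit n

/-- `Q K ⊗^L Q(𝟙⟦n⟧) ≅ (Q K)⟦n⟧`, natural in the complex `K`. -/
noncomputable def shR₀ (n : ℤ) :
    DerivedCategory.Q ⋙ tensorRightD A (Q.obj (Sn A n)) ≅
      DerivedCategory.Q ⋙ CategoryTheory.shiftFunctor (Dual.D A) n :=
  NatIso.ofComponents (fun K =>
    haveI := isIso_ε_right K (Sn A n) (isKFlat_Sn n)
    asIso ((ε A).app (K, Sn A n)) ≪≫ Q.mapIso (chainIso K n) ≪≫ (Q.commShiftIso n).app K)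
    (fun {K K'} f => by
      have e := (ε A).naturality (Prod.mkHom f (𝟙 (Sn A n)))
      dsimp at e ⊢
      simp only [MonoidalCategory.whiskerLeft_id, Category.comp_id] at e
      rw [show 𝟙 (Q.obj (Sn A n)) = DerivedCategory.Q.map (𝟙 (Sn A n)) from
        (CategoryTheory.Functor.map_id _ _).symm, reassoc_of% e, Category.assoc, Category.assoc,
        ← Functor.map_comp_assoc, chainIso_naturality, Functor.map_comp_assoc]
      congr 2
      exact ((Q.commShiftIso n).hom.naturality f))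

/-- `- ⊗^L Q(𝟙⟦n⟧) ≅ shift n` -/
noncomputable def shR (n : ℤ) :
    tensorRightD A (Q.obj (Sn A n)) ≅ CategoryTheory.shiftFunctor (Dual.D A) n :=
  Localization.liftNatIso DerivedCategory.Q (qis A)
    (DerivedCategory.Q ⋙ tensorRightD A (Q.obj (Sn A n)))
    (DerivedCategory.Q ⋙ CategoryTheory.shiftFunctor (Dual.D A) n) _ _ (shR₀ n)

instance isEquivalence_tensorRightD_Sn (n : ℤ) :
    (tensorRightD A (Q.obj (Sn A n))).IsEquivalence :=
  Functor.isEquivalence_of_iso (shR n).symm

lemma isEquivalence_tensorRightD_of_iso {U U' : Dual.D A} (e : U ≅ U')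
    [(tensorRightD A U).IsEquivalence] : (tensorRightD A U').IsEquivalence :=
  Functor.isEquivalence_of_iso ((LTen A).flip.mapIso e)

instance isEquivalence_tensorRightD_unit_shift (n : ℤ) :
    (tensorRightD A ((unit A)⟦n⟧)).IsEquivalence := by
  haveI : (tensorRightD A (Q.obj (Sn A n))).IsEquivalence := isEquivalence_tensorRightD_Sn n
  exact isEquivalence_tensorRightD_of_iso (U := Q.obj (Sn A n))
    ((Q.commShiftIso n).app (𝟙_ (DRing.Cx A)))

end UnitShift

section Final

open Groth.Agent.Lib.MixBase35 Groth.Agent.Lib.DTenBase35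

variable {R R' : Type u} [CommRing R] [CommRing R'] (φ : R →+* R')
  [HasLTen R] [HasLTen R'] [HasRHom R] [HasRHom R'] [HasLBase φ] [HasResTen φ] [ResLegIso φ]

/-- `LBase (unit⟦n⟧) ≅ unit'⟦n⟧` -/
noncomputable def lbaseUnitShiftIso (n : ℤ) :
    (LBase φ).obj ((unit R)⟦n⟧) ≅ (unit R')⟦n⟧ :=
  haveI := isIso_baseCmp_of_kproj φ (𝟙_ (DRing.Cx R))
  ((LBase φ).commShiftIso n).app (unit R) ≪≫
    (CategoryTheory.shiftFunctor (Dual.D R') n).mapIso
      (asIso ((baseCmp φ).app (𝟙_ (DRing.Cx R))) ≪≫ Q.mapIso (uIso φ))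

theorem isIso_bc_unit_shift (n : ℤ) (M : Dual.D R) : IsIso (bc φ ((unit R)⟦n⟧) M) := by
  haveI : (tensorRightD R' ((LBase φ).obj ((unit R)⟦n⟧))).IsEquivalence :=
    isEquivalence_tensorRightD_of_iso (U := (unit R')⟦n⟧) (lbaseUnitShiftIso φ n).symm
  exact isIso_bc_of_isEquivalence φ _ M

/-- `bcRHom φ K M` is an isomorphism for `K` perfect. -/
theorem isIso_bcRHom_of_isPerfect (K M : Dual.D R) [IsIso (rhomBC φ K ((LBase φ).obj M))]
    (hK : DRing.IsPerfect R K) : IsIso (bcRHom φ K M) := by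
  rw [← bc_eq]
  exact isIso_bc_of_isPerfect φ M (fun n => isIso_bc_unit_shift φ n M) K hK

end Final

end Groth.Agent.Lib.BcRHom25
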