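import Mathlib.Algebra.Homology.DerivedCategory.ShortExact
import Mathlib.Algebra.Homology.DerivedCategory.TStructure
import Mathlib.Algebra.Homology.HomologicalComplexAbelian
import Mathlib.Algebra.Category.ModuleCat.Abelian
import Mathlib.Algebra.Homology.ShortComplex.ModuleCat

/-!
# Subcomplexes and quotient complexes of complexes of modules; stupid truncations

Namespace `Groth.Agent.Lib.DStupid`.

* `subCx K N h`, `quotCx K N h` for a family of submodules `N i ≤ K.X i` stable under the
  differential, with the short exact sequence `0 → subCx → K → quotCx → 0` (`ses`, `ses_shortExact`)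
  and the distinguished triangle `tri` in the derived category.
* `topFamily K b` : the family `⊤` in degrees `≥ b` and `⊥` in degrees `< b` (stupid truncation
  `σ_{≥ b} K → K → σ_{< b} K`).
* `stupid_devissage`: a property of objects of `D(R)` closed under isomorphisms and extensions,
  containing the zero objects and all `(K^i)[-i]`, holds for a bounded complex `K`.
-/

set_option autoImplicit false
universe w v u
open CategoryTheory CategoryTheory.Limits CategoryTheory.Pretriangulated

namespace Groth.Agent.Lib.DStupid

variable {R : Type u} [Ring R]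

section SubQuot

variable (K : CochainComplex (ModuleCat.{v} R) ℤ) (N : ∀ i : ℤ, Submodule R (K.X i))
  (h : ∀ i j : ℤ, N i ≤ (N j).comap (K.d i j).hom)

/-- the subcomplex given by a family of submodules stable under the differential -/
def subCx : CochainComplex (ModuleCat.{v} R) ℤ where
  X i := ModuleCat.of R (N i)
  d i j := ModuleCat.ofHom ((K.d i j).hom.restrict (h i j))
  shape i j hij := by
    ext x
    simp [K.shape i j hij]
  d_comp_d' i j k _ _ := by
    ext x
    have := congr($(K.d_comp_d i j k).hom x.1)
    simp only [ModuleCat.hom_comp, LinearMap.comp_apply, ModuleCat.hom_zero,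
      LinearMap.zero_apply] at this
    simp [this]

/-- the quotient complex by a family of submodules stable under the differential -/
def quotCx : CochainComplex (ModuleCat.{v} R) ℤ where
  X i := ModuleCat.of R (K.X i ⧸ N i)
  d i j := ModuleCat.ofHom ((N i).mapQ (N j) (K.d i j).hom (h i j))
  shape i j hij := by
    refine ModuleCat.hom_ext (LinearMap.ext fun m => ?_)
    obtain ⟨x, rfl⟩ := Submodule.mkQ_surjective _ m
    simp [K.shape i j hij]
  d_comp_d' i j k _ _ := by
    refine ModuleCat.hom_ext (LinearMap.ext fun m => ?_)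
    obtain ⟨x, rfl⟩ := Submodule.mkQ_surjective _ m
    have := congr($(K.d_comp_d i j k).hom x)
    simp only [ModuleCat.hom_comp, LinearMap.comp_apply, ModuleCat.hom_zero,
      LinearMap.zero_apply] at this
    simp [this]

/-- the inclusion of the subcomplex -/
def subι : subCx K N h ⟶ K where
  f i := ModuleCat.ofHom (N i).subtype
  comm' i j _ := by
    ext x
    rfl

/-- the projection to the quotient complex -/
def quotπ : K ⟶ quotCx K N h where
  f i := ModuleCat.ofHom (N i).mkQ
  comm' i j _ := by
    ext x
    rfl

/-- the short complex `subCx ⟶ K ⟶ quotCx` -/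
def ses : ShortComplex (CochainComplex (ModuleCat.{v} R) ℤ) :=
  ShortComplex.mk (subι K N h) (quotπ K N h) (by
    ext i x
    change (N i).mkQ ((N i).subtype x) = 0
    simp)

lemma ses_shortExact : (ses K N h).ShortExact := by
  apply HomologicalComplex.shortExact_of_degreewise_shortExact
  intro i
  have hmono : Mono ((ses K N h).map (HomologicalComplex.eval _ _ i)).f := by
    rw [ModuleCat.mono_iff_injective]
    exact (N i).injective_subtype
  have hepi : Epi ((ses K N h).map (HomologicalComplex.eval _ _ i)).g := by
    rw [ModuleCat.epi_iff_surjective]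
    exact (N i).mkQ_surjective
  refine ShortComplex.ShortExact.mk ?_
  rw [ShortComplex.moduleCat_exact_iff]
  intro x hx
  have hx' : (N i).mkQ x = 0 := hx
  rw [Submodule.mkQ_apply, Submodule.Quotient.mk_eq_zero] at hx'
  exact ⟨⟨x, hx'⟩, rfl⟩

variable [HasDerivedCategory.{w} (ModuleCat.{v} R)]

/-- the distinguished triangle `Q(subCx) ⟶ Q(K) ⟶ Q(quotCx) ⟶` -/
noncomputable def tri : Triangle (DerivedCategory (ModuleCat.{v} R)) :=
  DerivedCategory.triangleOfSES (ses_shortExact K N h)

lemma tri_distinguished : tri K N h ∈ distTriang (DerivedCategory (ModuleCat.{v} R)) :=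
  DerivedCategory.triangleOfSES_distinguished (ses_shortExact K N h)

end SubQuot

section Top

variable (K : CochainComplex (ModuleCat.{v} R) ℤ) (b : ℤ)

/-- `⊤` in degrees `≥ b`, `⊥` in degrees `< b`. -/
noncomputable def topFamily (i : ℤ) : Submodule R (K.X i) := if b ≤ i then ⊤ else ⊥

lemma topFamily_of_le (i : ℤ) (hi : b ≤ i) : topFamily K b i = ⊤ := if_pos hi

lemma topFamily_of_lt (i : ℤ) (hi : i < b) : topFamily K b i = ⊥ := if_neg (by lia)

lemma topFamily_le (i j : ℤ) : topFamily K b i ≤ (topFamily K b j).comap (K.d i j).hom := by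
  by_cases hij : i + 1 = j
  · by_cases hi : b ≤ i
    · rw [topFamily_of_le K b j (by lia)]
      simp
    · rw [topFamily_of_lt K b i (by lia)]
      exact bot_le
  · have : K.d i j = 0 := K.shape i j hij
    rw [this]
    intro x _
    simp

/-- `σ_{≥ b} K` -/
noncomputable abbrev stupidGE : CochainComplex (ModuleCat.{v} R) ℤ :=
  subCx K (topFamily K b) (topFamily_le K b)

/-- `σ_{< b} K` -/
noncomputable abbrev stupidLT : CochainComplex (ModuleCat.{v} R) ℤ :=
  quotCx K (topFamily K b) (topFamily_le K b)

lemma isZero_stupidGE_X_of_lt (i : ℤ) (hi : i < b) : IsZero ((stupidGE K b).X i) := by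
  have : Subsingleton (topFamily K b i) := by
    rw [topFamily_of_lt K b i hi]
    infer_instance
  exact ModuleCat.isZero_of_subsingleton (ModuleCat.of R (topFamily K b i))

lemma isZero_stupidGE_X_of_isZero (i : ℤ) (hi : IsZero (K.X i)) :
    IsZero ((stupidGE K b).X i) := by
  have : Subsingleton (K.X i) := ModuleCat.subsingleton_of_isZero hi
  have : Subsingleton (topFamily K b i) := inferInstance
  exact ModuleCat.isZero_of_subsingleton (ModuleCat.of R (topFamily K b i))

/-- `(σ_{≥ b} K)^i ≅ K^i` for `i ≥ b`. -/
noncomputable def stupidGEXIso (i : ℤ) (hi : b ≤ i) : (stupidGE K b).X i ≅ K.X i :=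
  (LinearEquiv.ofTop (topFamily K b i) (topFamily_of_le K b i hi)).toModuleIso

lemma isZero_stupidLT_X_of_le (i : ℤ) (hi : b ≤ i) : IsZero ((stupidLT K b).X i) := by
  have : Subsingleton (K.X i ⧸ topFamily K b i) := by
    rw [Submodule.Quotient.subsingleton_iff]
    exact topFamily_of_le K b i hi
  exact ModuleCat.isZero_of_subsingleton (ModuleCat.of R (K.X i ⧸ topFamily K b i))

lemma isZero_stupidLT_X_of_isZero (i : ℤ) (hi : IsZero (K.X i)) :
    IsZero ((stupidLT K b).X i) := by
  have : Subsingleton (K.X i) := ModuleCat.subsingleton_of_isZero hi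
  have : Subsingleton (K.X i ⧸ topFamily K b i) := inferInstance
  exact ModuleCat.isZero_of_subsingleton (ModuleCat.of R (K.X i ⧸ topFamily K b i))

/-- `(σ_{< b} K)^i ≅ K^i` for `i < b`. -/
noncomputable def stupidLTXIso (i : ℤ) (hi : i < b) : (stupidLT K b).X i ≅ K.X i :=
  (Submodule.quotEquivOfEqBot (topFamily K b i) (topFamily_of_lt K b i hi)).toModuleIso

end Top

section Single

/-- A complex whose terms vanish outside degree `b` is isomorphic to a single complex. -/
noncomputable def isoSingle (L : CochainComplex (ModuleCat.{v} R) ℤ) (b : ℤ)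
    (hL : ∀ i : ℤ, i ≠ b → IsZero (L.X i)) :
    L ≅ (HomologicalComplex.single _ (ComplexShape.up ℤ) b).obj (L.X b) where
  hom := HomologicalComplex.mkHomToSingle (𝟙 _) (fun i (hi : i + 1 = b) ↦
    (hL i (by lia)).eq_of_src _ _)
  inv := HomologicalComplex.mkHomFromSingle (𝟙 _) (fun i (hi : b + 1 = i) ↦
    (hL i (by lia)).eq_of_tgt _ _)
  hom_inv_id := by
    ext i : 1
    by_cases hi : i = b
    · subst hi
      simp
    · exact (hL i hi).eq_of_src _ _
  inv_hom_id := by
    apply HomologicalComplex.from_single_hom_ext
    simp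

variable [HasDerivedCategory.{w} (ModuleCat.{v} R)]

/-- In the derived category, a complex concentrated in degree `b` is `(L^b)[-b]`. -/
noncomputable def QIsoSingle (L : CochainComplex (ModuleCat.{v} R) ℤ) (b : ℤ)
    (hL : ∀ i : ℤ, i ≠ b → IsZero (L.X i)) :
    DerivedCategory.Q.obj L ≅ (DerivedCategory.singleFunctor (ModuleCat.{v} R) b).obj (L.X b) :=
  DerivedCategory.Q.mapIso (isoSingle L b hL) ≪≫
    ((DerivedCategory.singleFunctorIsoCompQ (ModuleCat.{v} R) b).app (L.X b)).symm

end Single

section Devissage

variable [HasDerivedCategory.{w} (ModuleCat.{v} R)]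

variable (W : ObjectProperty (DerivedCategory (ModuleCat.{v} R))) [W.IsClosedUnderIsomorphisms]

include W in
theorem stupid_devissage_aux
    (hext : ∀ T ∈ distTriang (DerivedCategory (ModuleCat.{v} R)), W T.obj₁ → W T.obj₃ → W T.obj₂)
    (hzero : ∀ Z : DerivedCategory (ModuleCat.{v} R), IsZero Z → W Z)
    (n : ℕ) : ∀ (K : CochainComplex (ModuleCat.{v} R) ℤ) (a : ℤ)
      (_ : ∀ i : ℤ, i < a ∨ a + n < i → IsZero (K.X i))
      (_ : ∀ i : ℤ, W ((DerivedCategory.singleFunctor (ModuleCat.{v} R) i).obj (K.X i))),
      W (DerivedCategory.Q.obj K) := by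
  induction n with
  | zero =>
    intro K a hK hW
    refine W.prop_of_iso (QIsoSingle K a (fun i hi => hK i ?_)).symm (hW a)
    rcases lt_or_gt_of_ne hi with h | h
    · exact Or.inl h
    · exact Or.inr (by simpa using h)
  | succ n ih =>
    intro K a hK hW
    let b : ℤ := a + (n + 1 : ℕ)
    have hT := tri_distinguished K (topFamily K b) (topFamily_le K b)
    refine hext _ hT ?_ ?_
    · -- the sub complex is concentrated in degree `b`
      change W (DerivedCategory.Q.obj (stupidGE K b))
      have hL : ∀ i : ℤ, i ≠ b → IsZero ((stupidGE K b).X i) := by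
        intro i hi
        rcases lt_or_gt_of_ne hi with h | h
        · exact isZero_stupidGE_X_of_lt K b i h
        · exact isZero_stupidGE_X_of_isZero K b i (hK i (Or.inr h))
      refine W.prop_of_iso (QIsoSingle _ b hL).symm ?_
      exact W.prop_of_iso ((DerivedCategory.singleFunctor (ModuleCat.{v} R) b).mapIso
        (stupidGEXIso K b b le_rfl).symm) (hW b)
    · change W (DerivedCategory.Q.obj (stupidLT K b))
      apply ih (stupidLT K b) a
      · intro i hi
        rcases hi with hi | hi
        · exact isZero_stupidLT_X_of_isZero K b i (hK i (Or.inl hi))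
        · exact isZero_stupidLT_X_of_le K b i (by dsimp [b]; lia)
      · intro i
        by_cases hi : i < b
        · exact W.prop_of_iso ((DerivedCategory.singleFunctor (ModuleCat.{v} R) i).mapIso
            (stupidLTXIso K b i hi).symm) (hW i)
        · exact hzero _ (Functor.map_isZero _ (isZero_stupidLT_X_of_le K b i (by lia)))

include W in
/-- Dévissage along the stupid filtration: a property of objects of `D(R)` which is closed under
isomorphisms and extensions and holds for zero objects and for every `(K^i)[-i]` holds for the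
bounded complex `K`. -/
theorem stupid_devissage
    (hext : ∀ T ∈ distTriang (DerivedCategory (ModuleCat.{v} R)), W T.obj₁ → W T.obj₃ → W T.obj₂)
    (hzero : ∀ Z : DerivedCategory (ModuleCat.{v} R), IsZero Z → W Z)
    (K : CochainComplex (ModuleCat.{v} R) ℤ) (a b : ℤ)
    (hK : ∀ i : ℤ, i < a ∨ b < i → IsZero (K.X i))
    (hW : ∀ i : ℤ, W ((DerivedCategory.singleFunctor (ModuleCat.{v} R) i).obj (K.X i))) :
    W (DerivedCategory.Q.obj K) := by
  apply stupid_devissage_aux W hext hzero (b - a).toNat K a _ hW
  intro i hi
  apply hK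
  rcases hi with hi | hi
  · exact Or.inl hi
  · by_cases hab : a ≤ b
    · right
      have : ((b - a).toNat : ℤ) = b - a := Int.toNat_of_nonneg (by lia)
      lia
    · by_cases h : i < a
      · exact Or.inl h
      · exact Or.inr (by lia)

end Devissage

end Groth.Agent.Lib.DStupid
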