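import Mathlib

/-!
# Elementwise criteria for cochain complexes of modules (helper25)

For `K L : CochainComplex (ModuleCat A) ℤ`:
* `exists_cycle` : an element killed by `d` lifts to `K.cycles`.
* `exists_of_homologyπ_eq_zero` : a cycle with zero class is a boundary.
* `quasiIso_of_elementwise` : elementwise criterion for a quasi-isomorphism.
* `exists_boundary_of_homology_eq_zero`, `homologyπ_smul`.
-/

set_option autoImplicit false
universe u

open CategoryTheory CategoryTheory.Limits

namespace Groth.Agent.Lib.ModCxElem25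

variable {A : Type u} [CommRing A]

lemma comp_apply_eq_zero {M N P : ModuleCat.{u} A} (f : M ⟶ N) (g : N ⟶ P) (h : f ≫ g = 0)
    (x : M) : g.hom (f.hom x) = 0 := by
  have := congrArg (fun φ => φ.hom x) h
  simpa only [ModuleCat.hom_comp, LinearMap.comp_apply, ModuleCat.hom_zero,
    LinearMap.zero_apply] using this

lemma comp_apply_eq {M N P : ModuleCat.{u} A} (f : M ⟶ N) (g : N ⟶ P) (k : M ⟶ P) (h : f ≫ g = k)
    (x : M) : g.hom (f.hom x) = k.hom x := by
  rw [← h]
  rfl

lemma comp_apply_eq_comp {M N N' P : ModuleCat.{u} A} (f : M ⟶ N) (g : N ⟶ P) (f' : M ⟶ N')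
    (g' : N' ⟶ P) (h : f ≫ g = f' ≫ g') (x : M) : g.hom (f.hom x) = g'.hom (f'.hom x) := by
  have := congrArg (fun φ => φ.hom x) h
  exact this

section

variable (K : CochainComplex (ModuleCat.{u} A) ℤ)

lemma d_d_apply (i j k : ℤ) (x : K.X i) : (K.d j k).hom ((K.d i j).hom x) = 0 :=
  comp_apply_eq_zero _ _ (K.d_comp_d i j k) x

lemma homologyπ_surjective (q : ℤ) : Function.Surjective (K.homologyπ q).hom :=
  (ModuleCat.epi_iff_surjective _).mp inferInstance

lemma iCycles_injective (q : ℤ) : Function.Injective (K.iCycles q).hom :=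
  (ModuleCat.mono_iff_injective _).mp inferInstance

lemma d_iCycles_apply (q r : ℤ) (z : K.cycles q) : (K.d q r).hom ((K.iCycles q).hom z) = 0 :=
  comp_apply_eq_zero _ _ (K.iCycles_d q r) z

/-- an element killed by the differential lifts to the cycles -/
lemma exists_cycle (q r : ℤ) (hqr : q + 1 = r) (x : K.X q) (hx : (K.d q r).hom x = 0) :
    ∃ z : K.cycles q, (K.iCycles q).hom z = x := by
  let k : ModuleCat.of A A ⟶ K.X q := ModuleCat.ofHom (LinearMap.toSpanSingleton A (K.X q) x)
  have hk : k ≫ K.d q r = 0 := by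
    ext
    simp [k, hx]
  refine ⟨(K.liftCycles k r (by simp [hqr]) hk).hom (1 : A), ?_⟩
  have := comp_apply_eq _ _ _ (K.liftCycles_i k r (by simp [hqr]) hk) (1 : A)
  rw [this]
  simp [k]

lemma toCycles_i_apply (p q : ℤ) (y : K.X p) :
    (K.iCycles q).hom ((K.toCycles p q).hom y) = (K.d p q).hom y :=
  comp_apply_eq _ _ _ (K.toCycles_i p q) y

/-- a cycle whose homology class vanishes is a boundary -/
lemma exists_of_homologyπ_eq_zero (p q : ℤ) (hpq : p + 1 = q) (z : K.cycles q)
    (hz : (K.homologyπ q).hom z = 0) : ∃ y : K.X p, (K.toCycles p q).hom y = z := by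
  have hcok := K.homologyIsCokernel p q (by simp [← hpq])
  let S : ShortComplex (ModuleCat.{u} A) :=
    ShortComplex.mk (K.toCycles p q) (K.homologyπ q) (K.toCycles_comp_homologyπ p q)
  have hS : S.Exact := ShortComplex.exact_of_g_is_cokernel S hcok
  rw [ShortComplex.moduleCat_exact_iff] at hS
  exact hS z hz

lemma homologyπ_toCycles_apply (p q : ℤ) (y : K.X p) :
    (K.homologyπ q).hom ((K.toCycles p q).hom y) = 0 :=
  comp_apply_eq_zero _ _ (K.toCycles_comp_homologyπ p q) y

/-- if the class of the cycle `x` vanishes, `x` is a boundary (element form) -/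
lemma exists_boundary_of_homologyπ_eq_zero (p q : ℤ) (hpq : p + 1 = q) (z : K.cycles q)
    (hz : (K.homologyπ q).hom z = 0) : ∃ y : K.X p, (K.d p q).hom y = (K.iCycles q).hom z := by
  obtain ⟨y, hy⟩ := exists_of_homologyπ_eq_zero K p q hpq z hz
  exact ⟨y, by rw [← toCycles_i_apply, hy]⟩

end

section

variable {K L : CochainComplex (ModuleCat.{u} A) ℤ} (φ : K ⟶ L)

lemma cyclesMap_i_apply (q : ℤ) (z : K.cycles q) :
    (L.iCycles q).hom ((HomologicalComplex.cyclesMap φ q).hom z) =
      (φ.f q).hom ((K.iCycles q).hom z) :=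
  comp_apply_eq_comp _ _ _ _ (HomologicalComplex.cyclesMap_i φ q) z

lemma homologyπ_naturality_apply (q : ℤ) (z : K.cycles q) :
    (HomologicalComplex.homologyMap φ q).hom ((K.homologyπ q).hom z) =
      (L.homologyπ q).hom ((HomologicalComplex.cyclesMap φ q).hom z) :=
  comp_apply_eq_comp _ _ _ _ (HomologicalComplex.homologyπ_naturality φ q) z

/-- **Elementwise criterion for quasi-isomorphisms** of complexes of modules. -/
theorem quasiIso_of_elementwise
    (hinj : ∀ (i j k : ℤ), i + 1 = j → j + 1 = k → ∀ x : K.X j, (K.d j k).hom x = 0 →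
      (∃ y : L.X i, (L.d i j).hom y = (φ.f j).hom x) → ∃ y' : K.X i, (K.d i j).hom y' = x)
    (hsurj : ∀ (i j k : ℤ), i + 1 = j → j + 1 = k → ∀ z : L.X j, (L.d j k).hom z = 0 →
      ∃ (x : K.X j) (w : L.X i), (K.d j k).hom x = 0 ∧ z - (L.d i j).hom w = (φ.f j).hom x) :
    QuasiIso φ := by
  rw [quasiIso_iff]
  intro q
  rw [quasiIsoAt_iff_isIso_homologyMap]
  rw [ConcreteCategory.isIso_iff_bijective]
  constructor
  · -- injectivity
    change Function.Injective (HomologicalComplex.homologyMap φ q).hom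
    intro h h' hh
    suffices hz : ∀ h : K.homology q, (HomologicalComplex.homologyMap φ q).hom h = 0 → h = 0 by
      have := hz (h - h') (by
        rw [map_sub]
        exact sub_eq_zero.mpr hh)
      exact sub_eq_zero.mp this
    intro h hh
    obtain ⟨z, rfl⟩ := homologyπ_surjective K q h
    rw [homologyπ_naturality_apply] at hh
    obtain ⟨y, hy⟩ := exists_boundary_of_homologyπ_eq_zero L (q - 1) q (by lia) _ hh
    rw [cyclesMap_i_apply] at hy
    obtain ⟨y', hy'⟩ := hinj (q - 1) q (q + 1) (by lia) rfl ((K.iCycles q).hom z)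
      (d_iCycles_apply K q (q + 1) z) ⟨y, hy⟩
    have : (K.toCycles (q - 1) q).hom y' = z := by
      apply iCycles_injective K q
      rw [toCycles_i_apply, hy']
    rw [← this, homologyπ_toCycles_apply]
  · -- surjectivity
    change Function.Surjective (HomologicalComplex.homologyMap φ q).hom
    intro h
    obtain ⟨z', rfl⟩ := homologyπ_surjective L q h
    obtain ⟨x, w, hx, hxw⟩ := hsurj (q - 1) q (q + 1) (by lia) rfl ((L.iCycles q).hom z')
      (d_iCycles_apply L q (q + 1) z')
    obtain ⟨zx, hzx⟩ := exists_cycle K q (q + 1) rfl x hx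
    refine ⟨(K.homologyπ q).hom zx, ?_⟩
    rw [homologyπ_naturality_apply]
    have : (HomologicalComplex.cyclesMap φ q).hom zx = z' - (L.toCycles (q - 1) q).hom w := by
      apply iCycles_injective L q
      rw [cyclesMap_i_apply, hzx, map_sub, toCycles_i_apply, ← hxw]
    rw [this, map_sub, homologyπ_toCycles_apply, sub_zero]

end

end Groth.Agent.Lib.ModCxElem25
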