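import Groth.Agent.Lib.RHomCx25
import Groth.Agent.Lib.ModCxElem25

/-!
# `Hom•(K, -)` and quasi-isomorphisms (helper25)

* `homCx_d_apply`, cocycle/coboundary translation for `DRing.homCx`.
* `quasiIso_homCxMap_of_isKProjective`: `Hom•(K, -)` preserves quasi-isomorphisms for `K` K-projective.
* `quasiIso_homCxMap_of_isKInjective`: `Hom•(K, f)` is a quasi-iso when `f` is a quasi-iso between
  K-injectives.
* `rhomIsoProj`: `RHom(K, Q L) ≅ Q(Hom•(K, L))` for `K` K-projective, any `L`.
-/

set_option autoImplicit false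
universe u

open CategoryTheory Limits CochainComplex HomComplex

attribute [local instance] HasDerivedCategory.standard

namespace Groth.Agent.Lib.RHomCx25

variable {A : Type u} [CommRing A] (K : DRing.Cx A)

lemma homCx_d_apply (L : DRing.Cx A) (i j : ℤ) (z : Cochain K L i) :
    ((DRing.homCx K L).d i j).hom z = δ i j z := rfl

lemma homCxMap_f_apply {L L' : DRing.Cx A} (f : L ⟶ L') (i : ℤ) (z : Cochain K L i) :
    ((DRing.homCxMap K f).f i).hom z = z.comp (Cochain.ofHom f) (add_zero i) := rfl

/-- Abstract criterion: `Hom•(K, f)` is a quasi-isomorphism as soon as composition with all shifts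
of `f` is bijective on morphisms out of `K` in the homotopy category. -/
theorem quasiIso_homCxMap_of_bijective {L L' : DRing.Cx A} (f : L ⟶ L')
    (hbij : ∀ n : ℤ, Function.Bijective
      (fun g : (HomotopyCategory.quotient (ModuleCat.{u} A) (ComplexShape.up ℤ)).obj K ⟶
          (HomotopyCategory.quotient (ModuleCat.{u} A) (ComplexShape.up ℤ)).obj (L⟦n⟧) =>
        g ≫ (HomotopyCategory.quotient (ModuleCat.{u} A) (ComplexShape.up ℤ)).map (f⟦n⟧'))) :
    QuasiIso (DRing.homCxMap K f) := by
  have key : ∀ (n : ℤ) (α : Cocycle K L n),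
      CohomologyClass.toHom (CohomologyClass.mk (α.postcomp f)) =
        CohomologyClass.toHom (CohomologyClass.mk α) ≫
          (HomotopyCategory.quotient (ModuleCat.{u} A) (ComplexShape.up ℤ)).map (f⟦n⟧') := by
    intro n α
    rw [CohomologyClass.toHom_mk, CohomologyClass.toHom_mk, Cocycle.equivHomShift_symm_postcomp,
      Functor.map_comp]
  apply Groth.Agent.Lib.ModCxElem25.quasiIso_of_elementwise
  · intro i j k hij hjk (x : Cochain K L j) hx hy
    obtain ⟨y, hy⟩ := hy
    let α : Cocycle K L j := Cocycle.mk (x : Cochain K L j) k hjk hx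
    have h1 : α.postcomp f ∈ coboundaries K L' j := by
      rw [mem_coboundaries_iff _ i hij]
      exact ⟨y, hy⟩
    have h2 : CohomologyClass.toHom (CohomologyClass.mk α) = 0 := by
      apply (hbij j).1
      change _ ≫ _ = 0 ≫ _
      rw [← key, zero_comp, CohomologyClass.toHom_mk_eq_zero_iff]
      exact h1
    rw [CohomologyClass.toHom_mk_eq_zero_iff, mem_coboundaries_iff _ i hij] at h2
    obtain ⟨β, hβ⟩ := h2
    exact ⟨β, hβ⟩
  · intro i j k hij hjk (z : Cochain K L' j) hz
    let β : Cocycle K L' j := Cocycle.mk (z : Cochain K L' j) k hjk hz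
    obtain ⟨g, hg⟩ := (hbij j).2 (CohomologyClass.toHom (CohomologyClass.mk β))
    obtain ⟨c, rfl⟩ := (CohomologyClass.toHom_bijective K L j).2 g
    obtain ⟨α, rfl⟩ := c.mk_surjective
    change _ ≫ _ = _ at hg
    rw [← key] at hg
    have h3 : CohomologyClass.mk (α.postcomp f - β) = 0 := by
      apply (CohomologyClass.toHom_bijective K L' j).1
      rw [CohomologyClass.mk_sub, map_sub, hg, sub_self, map_zero]
    rw [CohomologyClass.mk_eq_zero_iff, mem_coboundaries_iff _ i hij] at h3
    obtain ⟨w, hw⟩ := h3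
    refine ⟨(α : Cochain K L j), -w, ?_, ?_⟩
    · exact Cocycle.δ_eq_zero α k
    · change z - δ i j (-w) = (α : Cochain K L j).comp (Cochain.ofHom f) (add_zero j)
      rw [δ_neg, hw]
      change z - -((α : Cochain K L j).comp (Cochain.ofHom f) (add_zero j) - z) = _
      abel

lemma isIso_Qh_map_quotient_map {L L' : DRing.Cx A} (φ : L ⟶ L') [QuasiIso φ] :
    IsIso (DerivedCategory.Qh.map
      ((HomotopyCategory.quotient (ModuleCat.{u} A) (ComplexShape.up ℤ)).map φ)) := by
  apply Localization.inverts DerivedCategory.Qh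
    (HomotopyCategory.quasiIso (ModuleCat.{u} A) (ComplexShape.up ℤ))
  rw [HomotopyCategory.quotient_map_mem_quasiIso_iff, HomologicalComplex.mem_quasiIso_iff]
  infer_instance

lemma bijective_comp_of_Qh {X Y Y' : HomotopyCategory (ModuleCat.{u} A) (ComplexShape.up ℤ)}
    (φ : Y ⟶ Y') (hφ : IsIso (DerivedCategory.Qh.map φ))
    (b1 : Function.Bijective (DerivedCategory.Qh.map : (X ⟶ Y) → _))
    (b2 : Function.Bijective (DerivedCategory.Qh.map : (X ⟶ Y') → _)) :
    Function.Bijective (fun g : X ⟶ Y => g ≫ φ) := by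
  constructor
  · intro g g' h
    apply b1.1
    have := congrArg DerivedCategory.Qh.map h
    simp only [Functor.map_comp] at this
    exact (cancel_mono _).mp this
  · intro h
    obtain ⟨g, hg⟩ := b1.2 (DerivedCategory.Qh.map h ≫ inv (DerivedCategory.Qh.map φ))
    refine ⟨g, b2.1 ?_⟩
    change DerivedCategory.Qh.map (g ≫ φ) = _
    rw [Functor.map_comp, hg]
    simp

/-- `Hom•(K, -)` preserves quasi-isomorphisms for `K` K-projective. -/
theorem quasiIso_homCxMap_of_isKProjective [K.IsKProjective] {L L' : DRing.Cx A} (f : L ⟶ L')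
    [QuasiIso f] : QuasiIso (DRing.homCxMap K f) := by
  apply quasiIso_homCxMap_of_bijective
  intro n
  exact bijective_comp_of_Qh _ (isIso_Qh_map_quotient_map (f⟦n⟧'))
    (CochainComplex.IsKProjective.Qh_map_bijective K _)
    (CochainComplex.IsKProjective.Qh_map_bijective K _)

/-- `Hom•(K, f)` is a quasi-isomorphism for `f` a quasi-isomorphism between K-injectives. -/
theorem quasiIso_homCxMap_of_isKInjective {L L' : DRing.Cx A} [L.IsKInjective] [L'.IsKInjective]
    (f : L ⟶ L') [QuasiIso f] : QuasiIso (DRing.homCxMap K f) := by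
  apply quasiIso_homCxMap_of_bijective
  intro n
  have := Groth.Agent.Lib.RGammaKInj.isIso_quotient_map_of_quasiIso (f⟦n⟧')
  constructor
  · intro g g' h
    exact (cancel_mono _).mp h
  · intro h
    exact ⟨h ≫ inv ((HomotopyCategory.quotient (ModuleCat.{u} A) (ComplexShape.up ℤ)).map
      (f⟦n⟧')), by simp⟩

section

variable [DRing.HasRHomCx K]

/-- For `K` K-projective the unit `Q(Hom•(K, L)) ⟶ RHom(K, Q L)` is an isomorphism for every `L`. -/
theorem isIso_rhomUnit_app_of_isKProjective [K.IsKProjective] (L : DRing.Cx A) :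
    IsIso ((rhomUnit K).app L) := by
  obtain ⟨J, f, hJ, hf⟩ := Groth.Agent.Lib.RGammaKInj.exists_kinj L
  have h1 : IsIso (DerivedCategory.Q.map f) := by
    rw [DerivedCategory.isIso_Q_map_iff_quasiIso]; exact hf
  have h2 : IsIso (DerivedCategory.Q.map (DRing.homCxMap K f)) := by
    rw [DerivedCategory.isIso_Q_map_iff_quasiIso]
    exact quasiIso_homCxMap_of_isKProjective K f
  have nat := (rhomUnit K).naturality f
  have h3 : IsIso ((DRing.homCxQ K).map f) := h2
  have h4 : IsIso ((DerivedCategory.Q ⋙ DRing.RHomCx K).map f) := by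
    change IsIso ((DRing.RHomCx K).map (DerivedCategory.Q.map f))
    infer_instance
  have : (rhomUnit K).app L = (DRing.homCxQ K).map f ≫ (rhomUnit K).app J ≫
      inv ((DerivedCategory.Q ⋙ DRing.RHomCx K).map f) := by
    rw [← Category.assoc, nat]
    simp
  rw [this]
  infer_instance

/-- `RHom(K, Q L) ≅ Q(Hom•(K, L))` for `K` K-projective and any `L`. -/
noncomputable def rhomIsoProj [K.IsKProjective] (L : DRing.Cx A) :
    (DRing.RHomCx K).obj (DerivedCategory.Q.obj L) ≅ DerivedCategory.Q.obj (DRing.homCx K L) :=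
  have := isIso_rhomUnit_app_of_isKProjective K L
  (asIso ((rhomUnit K).app L)).symm

end

/-- a bounded above complex of projective modules is K-projective -/
theorem isKProjective_of_vanishesAbove (P : DRing.Cx A) (b : ℤ) (hb : DRing.VanishesAbove P b)
    (hP : ∀ i : ℤ, Module.Projective A (P.X i)) : P.IsKProjective := by
  have : P.IsStrictlyLE b := by
    rw [CochainComplex.isStrictlyLE_iff]
    intro i hi
    exact hb i hi
  have : ∀ n : ℤ, Projective (P.X n) := fun n =>
    (IsProjective.iff_projective (R := A) (P := P.X n)).mp (hP n)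
  exact CochainComplex.isKProjective_of_projective P b

end Groth.Agent.Lib.RHomCx25
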