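import Groth.Agent.Lib.EvalHomDev25
import Groth.Agent.Lib.RHomCxProj25
import Groth.Agent.Lib.DStupid
import Mathlib.Algebra.Homology.DerivedCategory.TStructure
import Mathlib.Algebra.Homology.DerivedCategory.DerivabilityStructureInjectives

/-!
# `evalHom K L M` for `K` pseudo-coherent, `L ∈ D^+`, `M` of finite injective dimension (helper25)
-/

set_option autoImplicit false
set_option linter.unusedSectionVars false
set_option linter.style.haveILetI false
universe u

open CategoryTheory CategoryTheory.Limits Category MonoidalCategory Pretriangulated Opposite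
  CochainComplex HomComplex

attribute [local instance] HasDerivedCategory.standard

namespace Groth.Agent.Lib.EvalHomPC25

open DTen DerivedCategory Groth.Agent.Lib.FiveLemmaTri35 Groth.Agent.Lib.RHomModel25
  Groth.Agent.Lib.EvalHomDev25 Groth.Agent.Lib.HomTensor25

variable {A : Type u} [CommRing A]

section Termwise

lemma isZero_homCx_X (P J : DRing.Cx A) (a : ℤ)
    (h : ∀ p : ℤ, IsZero (P.X p) ∨ IsZero (J.X (p + a))) : IsZero ((DRing.homCx P J).X a) := by
  have : Subsingleton (Cochain P J a) := by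
    refine ⟨fun z z' => ?_⟩
    apply Cochain.ext
    intro p q hpq
    obtain rfl : p + a = q := hpq
    rcases h p with h1 | h1
    · exact h1.eq_of_src _ _
    · exact h1.eq_of_tgt _ _
  exact ModuleCat.isZero_of_subsingleton (ModuleCat.of A (Cochain P J a))

lemma isZero_tensor_X (X Y : DRing.Cx A) (m : ℤ)
    (h : ∀ p q : ℤ, p + q = m → IsZero (X.X p) ∨ IsZero (Y.X q)) : IsZero ((T X Y).X m) := by
  rw [IsZero.iff_id_eq_zero]
  apply Groth.Agent.Lib.HomTensor25.hom_ext_tm
  intro i j hij x y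
  rcases h i j hij with h1 | h1
  · have : x = 0 := (ModuleCat.subsingleton_of_isZero h1).elim _ _
    subst this
    simp [tm]
  · have : y = 0 := (ModuleCat.subsingleton_of_isZero h1).elim _ _
    subst this
    simp [tm]

end Termwise

lemma isIso_homologyMap_mor₁ (T : Triangle (Dual.D A)) (hT : T ∈ distTriang (Dual.D A)) (j : ℤ)
    (h1 : IsZero ((homologyFunctor (ModuleCat.{u} A) j).obj T.obj₃))
    (h0 : IsZero ((homologyFunctor (ModuleCat.{u} A) (j - 1)).obj T.obj₃)) :
    IsIso ((homologyFunctor (ModuleCat.{u} A) j).map T.mor₁) := by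
  haveI : Epi ((homologyFunctor (ModuleCat.{u} A) j).map T.mor₁) :=
    (HomologySequence.epi_homologyMap_mor₁_iff T hT j).2 (h1.eq_of_tgt _ _)
  haveI : Mono ((homologyFunctor (ModuleCat.{u} A) j).map T.mor₁) :=
    (HomologySequence.mono_homologyMap_mor₁_iff T hT (j - 1) j (by omega)).2 (h0.eq_of_src _ _)
  exact isIso_of_mono_of_epi _

section Estimates

variable [HasLTen A] [HasLTen₃ A] [IsSymMonoidal A] [HasRHom A]

/-- `RHom(X, Y) ≅ Q Hom•(P, I)` for `X ≅ QP`, `Y ≅ QI`, `I` K-injective -/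
noncomputable def rhomModelIso {X Y : Dual.D A} (P I : DRing.Cx A) [I.IsKInjective]
    (eX : X ≅ Q.obj P) (eY : Y ≅ Q.obj I) :
    (RHomR A X).obj Y ≅ Q.obj (DRing.homCx P I) :=
  (RHomR A X).mapIso eY ≪≫ (rhomOp (Q.obj I)).mapIso eX.symm.op ≪≫ (rhoIso P I).symm

lemma isLE_of_iso_Q {X : Dual.D A} (Z : DRing.Cx A) (e : X ≅ Q.obj Z) (c : ℤ)
    (hZ : ∀ i : ℤ, c < i → IsZero (Z.X i)) : X.IsLE c := by
  haveI : Z.IsStrictlyLE c := by
    rw [CochainComplex.isStrictlyLE_iff]
    exact hZ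
  exact TStructure.t.isLE_of_iso e.symm c

lemma isLE_rhom {X Y : Dual.D A} (P I : DRing.Cx A) [I.IsKInjective]
    (eX : X ≅ Q.obj P) (eY : Y ≅ Q.obj I) (n d : ℤ) (hP : ∀ p : ℤ, p < n → IsZero (P.X p))
    (hI : ∀ r : ℤ, d < r → IsZero (I.X r)) : ((RHomR A X).obj Y).IsLE (d - n) := by
  refine isLE_of_iso_Q _ (rhomModelIso P I eX eY) _ ?_
  intro a ha
  apply isZero_homCx_X
  intro p
  by_cases hp : p < n
  · exact Or.inl (hP p hp)
  · exact Or.inr (hI _ (by omega))

lemma isLE_tensor (W K' : Dual.D A) (E' : DRing.Cx A) [E'.IsKProjective]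
    (hfl : Groth.Agent.Lib.KFlat35.IsKFlat E') (eK : K' ≅ Q.obj E') (w e : ℤ) [W.IsLE w]
    (hE' : ∀ q : ℤ, e < q → IsZero (E'.X q)) : ((LTen₂ A).obj (W, K')).IsLE (w + e) := by
  obtain ⟨W₁, hW₁, ⟨eW⟩⟩ := exists_iso_Q_obj_of_isLE W w
  haveI := Groth.Agent.Lib.DTenValues35.isIso_ε_right W₁ E' hfl
  let i : (LTen₂ A).obj (W, K') ≅ Q.obj (T W₁ E') :=
    (LTen₂ A).mapIso (Iso.prod eW eK) ≪≫ asIso ((ε A).app (W₁, E'))
  refine isLE_of_iso_Q _ i _ ?_
  intro m hm
  apply isZero_tensor_X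
  intro p q hpq
  by_cases hp : w < p
  · exact Or.inl (W₁.isZero_of_isStrictlyLE w p hp)
  · exact Or.inr (hE' q (by omega))

end Estimates

section Main

variable [HasLTen A] [HasLTen₃ A] [IsSymMonoidal A] [HasRHom A]

open Groth.Agent.Lib.DStupid

lemma finite_projective_of_isZero (X : ModuleCat.{u} A) (h : IsZero X) :
    Module.Finite A X ∧ Module.Projective A X := by
  haveI : Subsingleton X := ModuleCat.subsingleton_of_isZero h
  exact ⟨inferInstance, inferInstance⟩

lemma projective_flat_of_isZero (X : ModuleCat.{u} A) (h : IsZero X) :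
    Module.Projective A X ∧ Module.Flat A X := by
  haveI : Subsingleton X := ModuleCat.subsingleton_of_isZero h
  exact ⟨inferInstance, inferInstance⟩

theorem isIso_evalHom_Q (E : DRing.Cx A) (b : ℤ) (hEb : DRing.VanishesAbove E b)
    (hEf : DRing.TermwiseFiniteFree E) (L M : Dual.D A) (J I : DRing.Cx A) [J.IsKInjective]
    [I.IsKInjective] (eL : L ≅ Q.obj J) (eM : M ≅ Q.obj I) (n d : ℤ)
    (hJ : ∀ p : ℤ, p < n → IsZero (J.X p)) (hI : ∀ r : ℤ, d < r → IsZero (I.X r)) :
    IsIso (evalHom (Q.obj E) L M) := by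
  rw [DerivedCategory.isIso_iff]
  intro j
  let N : ℤ := d - n - j + 1
  let EN := stupidGE E (-N)
  let E' := stupidLT E (-N)
  let Tr := tri E (topFamily E (-N)) (topFamily_le E (-N))
  have hTr : Tr ∈ distTriang _ := tri_distinguished E _ (topFamily_le E (-N))
  -- the truncation is perfect
  have hperf : DRing.IsPerfect A (Q.obj EN) := by
    refine ⟨EN, -N, b, ?_, ?_, ⟨Iso.refl _⟩⟩
    · rintro i (hi | hi)
      · exact isZero_stupidGE_X_of_lt E (-N) i hi
      · exact isZero_stupidGE_X_of_isZero E (-N) i (hEb i hi)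
    · intro i
      by_cases hi : -N ≤ i
      · obtain ⟨h1, h2⟩ := hEf i
        let e := (stupidGEXIso E (-N) i hi).toLinearEquiv
        exact ⟨Module.Finite.equiv e.symm, Module.Projective.of_equiv e.symm⟩
      · exact finite_projective_of_isZero _ (isZero_stupidGE_X_of_lt E (-N) i (by omega))
  haveI := isIso_evalHom_of_isPerfect (Q.obj EN) L M hperf
  -- the quotient
  have hE'pf : ∀ i : ℤ, Module.Projective A (E'.X i) ∧ Module.Flat A (E'.X i) := by
    intro i
    by_cases hi : i < -N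
    · obtain ⟨h1, h2⟩ := hEf i
      let e := (stupidLTXIso E (-N) i hi).toLinearEquiv
      exact ⟨Module.Projective.of_equiv e.symm, Module.Flat.of_linearEquiv e⟩
    · exact projective_flat_of_isZero _ (isZero_stupidLT_X_of_le E (-N) i (by omega))
  have hE'0 : ∀ q : ℤ, -N - 1 < q → IsZero (E'.X q) := fun q hq =>
    isZero_stupidLT_X_of_le E (-N) q (by omega)
  haveI : E'.IsKProjective :=
    Groth.Agent.Lib.RHomCx25.isKProjective_of_vanishesAbove E' (-N - 1) hE'0 (fun i => (hE'pf i).1)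
  have hfl : Groth.Agent.Lib.KFlat35.IsKFlat E' :=
    isKFlat_of_flat E' (fun i => (hE'pf i).2) (-N - 1) hE'0
  let W := (RHomR A L).obj M
  haveI : W.IsLE (d - n) := isLE_rhom J I eL eM n d hJ hI
  -- vanishing for `Φ`
  haveI hΦ : ((LTen₂ A).obj (W, Q.obj E')).IsLE (d - n + (-N - 1)) :=
    isLE_tensor W (Q.obj E') E' hfl (Iso.refl _) (d - n) (-N - 1) hE'0
  -- vanishing for `Ψ`
  let eR : (RHomR A (Q.obj E')).obj L ≅ Q.obj (DRing.homCx E' J) :=
    rhomModelIso E' J (Iso.refl _) eL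
  haveI hΨ : ((RHomR A ((RHomR A (Q.obj E')).obj L)).obj M).IsLE (d - (n + N + 1)) := by
    refine isLE_rhom (DRing.homCx E' J) I eR eM (n + N + 1) d ?_ hI
    intro q hq
    apply isZero_homCx_X
    intro p
    by_cases hp : -N ≤ p
    · exact Or.inl (isZero_stupidLT_X_of_le E (-N) p hp)
    · exact Or.inr (hJ _ (by omega))
  obtain ⟨δ₁, hδ₁⟩ := weaklyExact_tensorLeft W Tr hTr
  obtain ⟨δ₂, hδ₂⟩ := weaklyExact_rhomRhom L M Tr hTr
  have i1 := isIso_homologyMap_mor₁ _ hδ₁ j
    (isZero_of_isLE ((LTen₂ A).obj (W, Q.obj E')) (d - n + (-N - 1)) j (by omega))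
    (isZero_of_isLE ((LTen₂ A).obj (W, Q.obj E')) (d - n + (-N - 1)) (j - 1) (by omega))
  have i2 := isIso_homologyMap_mor₁ _ hδ₂ j
    (isZero_of_isLE ((RHomR A ((RHomR A (Q.obj E')).obj L)).obj M) (d - (n + N + 1)) j (by omega))
    (isZero_of_isLE ((RHomR A ((RHomR A (Q.obj E')).obj L)).obj M) (d - (n + N + 1)) (j - 1)
      (by omega))
  have nat : ((LTen A).obj ((RHomR A L).obj M)).map Tr.mor₁ ≫ evalHom (Q.obj E) L M =
      evalHom (Q.obj EN) L M ≫ (rhomRhom L M).map Tr.mor₁ := evalHom_naturality Tr.mor₁ L M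
  have key : (homologyFunctor (ModuleCat.{u} A) j).map
      (((LTen A).obj ((RHomR A L).obj M)).map Tr.mor₁) ≫
        (homologyFunctor (ModuleCat.{u} A) j).map (evalHom (Q.obj E) L M) =
      (homologyFunctor (ModuleCat.{u} A) j).map (evalHom (Q.obj EN) L M) ≫
        (homologyFunctor (ModuleCat.{u} A) j).map ((rhomRhom L M).map Tr.mor₁) := by
    exact (Functor.map_comp _ _ _).symm.trans ((congrArg (fun t =>
      (homologyFunctor (ModuleCat.{u} A) j).map t) nat).trans (Functor.map_comp _ _ _))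
  have a1 : IsIso ((homologyFunctor (ModuleCat.{u} A) j).map (evalHom (Q.obj EN) L M)) :=
    inferInstance
  have a2 : IsIso ((homologyFunctor (ModuleCat.{u} A) j).map
      (((LTen A).obj ((RHomR A L).obj M)).map Tr.mor₁) ≫
        (homologyFunctor (ModuleCat.{u} A) j).map (evalHom (Q.obj E) L M)) := by
    rw [key]
    exact IsIso.comp_isIso' a1 i2
  haveI : IsIso ((homologyFunctor (ModuleCat.{u} A) j).map
      (((LTen A).obj ((RHomR A L).obj M)).map Tr.mor₁)) := i1
  exact @IsIso.of_isIso_comp_left _ _ _ _ _ ((homologyFunctor (ModuleCat.{u} A) j).map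
      (((LTen A).obj ((RHomR A L).obj M)).map Tr.mor₁)) _ i1 a2

end Main

section Final

variable [HasLTen A] [HasLTen₃ A] [IsSymMonoidal A] [HasRHom A]

/-- `evalHom K L M` is an isomorphism for `K` pseudo-coherent, `L ∈ D^{≥ n}`, `M` of finite
injective dimension. -/
theorem isIso_evalHom_of_isPseudoCoherent (K L M : Dual.D A) (hK : DRing.IsPseudoCoherent' A K)
    (n : ℤ) (hL : DerivedCategory.IsGE L n) (hM : DRing.HasFiniteInjDim A M) :
    IsIso (evalHom K L M) := by
  obtain ⟨E, b, hEb, hEf, ⟨eK⟩⟩ := hK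
  obtain ⟨c, d, I, hI, hIinj, ⟨eM⟩⟩ := hM
  haveI : I.IsStrictlyGE c :=
    (CochainComplex.isStrictlyGE_iff _ _).mpr (fun q hq => hI q (Or.inl hq))
  haveI : ∀ m, Injective (I.X m) := fun m =>
    (Module.injective_iff_injective_object A (I.X m)).mp (hIinj m)
  haveI : I.IsKInjective := CochainComplex.isKInjective_of_injective I c
  obtain ⟨L₀, hL₀, ⟨eL₀⟩⟩ := DerivedCategory.exists_iso_Q_obj_of_isGE L n
  obtain ⟨J, i, hi, hJinj, hJ⟩ :=
    CochainComplex.Plus.modelCategoryQuillen.exists_quasiIso_injective L₀ n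
  haveI : J.IsKInjective := CochainComplex.isKInjective_of_injective J n
  haveI : IsIso (Q.map i) := by
    rw [DerivedCategory.isIso_Q_map_iff_quasiIso]; exact hi
  let eL : L ≅ Q.obj J := eL₀ ≪≫ asIso (Q.map i)
  have a1 : IsIso (evalHom (Q.obj E) L M) := isIso_evalHom_Q E b hEb hEf L M J I eL eM.symm n d
    (fun p hp => J.isZero_of_isStrictlyGE n p hp) (fun r hr => hI r (Or.inr hr))
  -- transport along `eK : Q E ≅ K`
  have nat : ((LTen A).obj ((RHomR A L).obj M)).map eK.hom ≫ evalHom K L M =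
      evalHom (Q.obj E) L M ≫ (rhomRhom L M).map eK.hom := evalHom_naturality eK.hom L M
  have a2 : IsIso ((rhomRhom L M).map eK.hom) := inferInstance
  have a3 : IsIso (((LTen A).obj ((RHomR A L).obj M)).map eK.hom) := inferInstance
  have a4 : IsIso (((LTen A).obj ((RHomR A L).obj M)).map eK.hom ≫ evalHom K L M) := by
    rw [nat]
    exact IsIso.comp_isIso' a1 a2
  exact @IsIso.of_isIso_comp_left _ _ _ _ _ (((LTen A).obj ((RHomR A L).obj M)).map eK.hom) _ a3 a4

end Final

end Groth.Agent.Lib.EvalHomPC25
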