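import Groth.Agent.Lib.FlatCrit
import Groth.Prelude.Def_DRing2
import Mathlib.RingTheory.Flat.CategoryTheory
import Mathlib.Algebra.Homology.HomologySequence
import Mathlib.Algebra.Homology.HomologicalComplexAbelian
import Mathlib.Algebra.Category.ModuleCat.Monoidal.Symmetric
import Mathlib.Algebra.Category.ModuleCat.Monoidal.Closed
import Mathlib.CategoryTheory.Monoidal.Limits.Preserves

/-!
# Dimension shifting for Mathlib's `Tor` in the FIRST variable (helper21)

Mathlib's `Tor` on `ModuleCat R` left-derives `X ⊗ -` (resolves the second variable).  For a fixed projective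
resolution `P` of `N`, the complexes `X ⊗ P` depend exactly on `X` (the terms of `P` are flat), which gives the long
exact sequence in the first variable.  We only record the vanishing consequences:

* `subsingleton_tor_succ_of_flat`: `Tor_{p+1}(X, N) = 0` for flat `X`.
* `subsingleton_tor_succ_succ_iff`: for `0 → K → F → M → 0` with `F` flat, `Tor_{p+2}(M, N) = 0 ↔ Tor_{p+1}(K, N) = 0`.
* `flat_of_forall_subsingleton_tor_one`: `Tor_1(X, N) = 0` for all `N` implies `X` flat.
* `hasTorDimLE_zero_iff`, `hasTorDimLE_succ_iff`.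
-/

set_option autoImplicit false
universe u

open CategoryTheory CategoryTheory.Limits MonoidalCategory

namespace Groth.Agent.Lib.TorShift21

variable {R : Type u} [CommRing R]

instance (M : ModuleCat.{u} R) : PreservesFiniteColimits (tensorRight M) :=
  ⟨fun _ _ _ => ⟨fun {_} => inferInstance⟩⟩

/-- the complex `X ⊗ P` -/
noncomputable abbrev lt (X : ModuleCat.{u} R) (P : ChainComplex (ModuleCat.{u} R) ℕ) :
    ChainComplex (ModuleCat.{u} R) ℕ :=
  ((tensorLeft X).mapHomologicalComplex (ComplexShape.down ℕ)).obj P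

/-- the map `X ⊗ P ⟶ Y ⊗ P` -/
noncomputable abbrev ltMap {X Y : ModuleCat.{u} R} (f : X ⟶ Y) (P : ChainComplex (ModuleCat.{u} R) ℕ) :
    lt X P ⟶ lt Y P :=
  (NatTrans.mapHomologicalComplex ((tensoringLeft (ModuleCat.{u} R)).map f) (ComplexShape.down ℕ)).app P

/-- the short complex of complexes `X₁ ⊗ P ⟶ X₂ ⊗ P ⟶ X₃ ⊗ P` -/
noncomputable def ltSC (S : ShortComplex (ModuleCat.{u} R)) (P : ChainComplex (ModuleCat.{u} R) ℕ) :
    ShortComplex (ChainComplex (ModuleCat.{u} R) ℕ) :=
  ShortComplex.mk (ltMap S.f P) (ltMap S.g P) (by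
    ext i : 1
    simp only [HomologicalComplex.comp_f, NatTrans.mapHomologicalComplex_app_f,
      HomologicalComplex.zero_f]
    change (S.f ▷ P.X i) ≫ (S.g ▷ P.X i) = 0
    rw [← MonoidalCategory.comp_whiskerRight, S.zero, MonoidalPreadditive.zero_whiskerRight])

theorem ltSC_shortExact (S : ShortComplex (ModuleCat.{u} R)) (hS : S.ShortExact)
    (P : ChainComplex (ModuleCat.{u} R) ℕ) (hP : ∀ i, Module.Flat R (P.X i)) :
    (ltSC S P).ShortExact := by
  apply HomologicalComplex.shortExact_of_degreewise_shortExact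
  intro i
  have := hP i
  exact hS.map_of_exact (tensorRight (P.X i))

/-- vanishing transfer along the connecting homomorphism -/
theorem isZero_homology_iff (S : ShortComplex (ModuleCat.{u} R)) (hS : S.ShortExact)
    (P : ChainComplex (ModuleCat.{u} R) ℕ) (hP : ∀ i, Module.Flat R (P.X i)) (p : ℕ)
    (h1 : IsZero ((lt S.X₂ P).homology (p + 1))) (h2 : IsZero ((lt S.X₂ P).homology p)) :
    IsZero ((lt S.X₃ P).homology (p + 1)) ↔ IsZero ((lt S.X₁ P).homology p) := by
  have hSS := ltSC_shortExact S hS P hP
  have hrel : (ComplexShape.down ℕ).Rel (p + 1) p := by simp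
  have e1 := hSS.homology_exact₁ (p + 1) p hrel
  have e3 := hSS.homology_exact₃ (p + 1) p hrel
  constructor
  · intro h
    exact e1.isZero_of_both_isZero h h2
  · intro h
    exact e3.isZero_of_both_isZero h1 h

/-- `Tor_p(X, N)` computed with a projective resolution `P` of `N` -/
noncomputable def torIso (X : ModuleCat.{u} R) {N : ModuleCat.{u} R} (P : ProjectiveResolution N)
    (p : ℕ) :
    ((CategoryTheory.Tor (ModuleCat.{u} R) p).obj X).obj N ≅ (lt X P.complex).homology p :=
  P.isoLeftDerivedObj (tensorLeft X) p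

lemma flat_of_projective (X : ModuleCat.{u} R) [Projective X] : Module.Flat R X := by
  have : Module.Projective R X := (IsProjective.iff_projective (R := R) (P := X)).2 inferInstance
  infer_instance

lemma flat_X {N : ModuleCat.{u} R} (P : ProjectiveResolution N) (i : ℕ) :
    Module.Flat R (P.complex.X i) := flat_of_projective _

theorem isZero_homology_succ_of_flat (X : ModuleCat.{u} R) [Module.Flat R X] {N : ModuleCat.{u} R}
    (P : ProjectiveResolution N) (p : ℕ) : IsZero ((lt X P.complex).homology (p + 1)) := by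
  rw [← HomologicalComplex.exactAt_iff_isZero_homology,
    HomologicalComplex.exactAt_iff' _ (p + 2) (p + 1) p (by simp) (by simp)]
  exact (P.exact_succ p).map (tensorLeft X)

/-- exactness of `X ⊗ P_2 → X ⊗ P_1 → X ⊗ P_0` forces `X ⊗ im(P_1 → P_0) → X ⊗ P_0` to be injective -/
lemma lTensor_subtype_range_injective {A B C X : Type*} [AddCommGroup A] [Module R A]
    [AddCommGroup B] [Module R B] [AddCommGroup C] [Module R C] [AddCommGroup X] [Module R X]
    (f : A →ₗ[R] B) (g : B →ₗ[R] C) (hfg : Function.Exact f g)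
    (h : Function.Exact (f.lTensor X) (g.lTensor X)) :
    Function.Injective ((LinearMap.range g).subtype.lTensor X) := by
  rw [injective_iff_map_eq_zero]
  intro x hx
  obtain ⟨y, rfl⟩ := LinearMap.lTensor_surjective X (LinearMap.surjective_rangeRestrict g) x
  have hg : (LinearMap.range g).subtype ∘ₗ g.rangeRestrict = g := LinearMap.subtype_comp_codRestrict _ _ _
  have h1 : g.lTensor X y = 0 := by
    rw [← hx, ← LinearMap.comp_apply, ← LinearMap.lTensor_comp, hg]
  obtain ⟨w, rfl⟩ := (h y).1 h1
  have h0 : g.rangeRestrict ∘ₗ f = 0 := by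
    ext a
    exact hfg.apply_apply_eq_zero a
  rw [← LinearMap.comp_apply, ← LinearMap.lTensor_comp, h0, LinearMap.lTensor_zero,
    LinearMap.zero_apply]

open Groth.Agent.Lib.FlatCrit in
/-- `H_1(X ⊗ P) = 0` for a projective resolution `P` of `N` gives `Tor₁(X, N) = 0` in the sense of `FlatCrit` -/
theorem tor1Zero_of_isZero_homology_one (X : ModuleCat.{u} R) {N : ModuleCat.{u} R}
    (P : ProjectiveResolution N) (h : IsZero ((lt X P.complex).homology 1)) : Tor1Zero R X N := by
  rw [← HomologicalComplex.exactAt_iff_isZero_homology,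
    HomologicalComplex.exactAt_iff' _ 2 1 0 (by simp) (by simp),
    ShortComplex.ShortExact.moduleCat_exact_iff_function_exact] at h
  have h1 : Function.Exact (P.complex.d 2 1).hom (P.complex.d 1 0).hom :=
    (ShortComplex.ShortExact.moduleCat_exact_iff_function_exact _).1 (P.exact_succ 0)
  have h0 : Function.Exact (P.complex.d 1 0).hom (P.π.f 0).hom :=
    (ShortComplex.ShortExact.moduleCat_exact_iff_function_exact _).1 P.exact₀
  have hinj := lTensor_subtype_range_injective (X := X) _ _ h1 h
  have hsurj : Function.Surjective (P.π.f 0).hom :=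
    (ModuleCat.epi_iff_surjective _).1 inferInstance
  have : Module.Flat R (P.complex.X 0) := flat_X P 0
  have key : Tor1Zero R X (((ChainComplex.single₀ (ModuleCat.{u} R)).obj N).X 0) := by
    refine (tor1Zero_iff_lTensor_injective (N := X)
      (i := (LinearMap.range (P.complex.d 1 0).hom).subtype) (p := (P.π.f 0).hom)
      (Submodule.subtype_injective _) ?_ hsurj).2 hinj
    intro y
    rw [h0 y]
    constructor
    · rintro ⟨z, rfl⟩
      exact ⟨⟨_, z, rfl⟩, rfl⟩
    · rintro ⟨⟨_, z, rfl⟩, rfl⟩
      exact ⟨z, rfl⟩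
  exact key

open Groth.Agent.Lib.FlatCrit in
theorem flat_of_forall_tor1Zero' (X : Type u) [AddCommGroup X] [Module R X]
    (h : ∀ I : Ideal R, Tor1Zero R X (R ⧸ I)) : Module.Flat R X := by
  rw [Module.Flat.iff_lTensor_injective']
  intro I
  exact (tor1Zero_iff_lTensor_injective (N := X) (M := R ⧸ I) (i := I.subtype) (p := I.mkQ)
    (Submodule.subtype_injective _) (LinearMap.exact_subtype_mkQ I) (Submodule.mkQ_surjective I)).1
    (h I)

section TorDim

variable (R)

theorem subsingleton_tor_iff (M N : Type u) [AddCommGroup M] [Module R M] [AddCommGroup N]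
    [Module R N] (P : ProjectiveResolution (ModuleCat.of R N)) (p : ℕ) :
    Subsingleton (DRing.Tor R p M N) ↔ IsZero ((lt (ModuleCat.of R M) P.complex).homology p) := by
  constructor
  · intro h
    exact (ModuleCat.isZero_of_subsingleton _).of_iso (torIso (ModuleCat.of R M) P p).symm
  · intro h
    exact ModuleCat.subsingleton_of_isZero (h.of_iso (torIso (ModuleCat.of R M) P p))

theorem hasTorDimLE_zero_iff (M : Type u) [AddCommGroup M] [Module R M] :
    DRing.HasTorDimLE R 0 M ↔ Module.Flat R M := by
  constructor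
  · intro h
    refine flat_of_forall_tor1Zero' M (fun I => ?_)
    let P := projectiveResolution (ModuleCat.of R (R ⧸ I))
    exact tor1Zero_of_isZero_homology_one (ModuleCat.of R M) P
      ((subsingleton_tor_iff R M (R ⧸ I) P 1).1 (h (R ⧸ I) 1 Nat.zero_lt_one))
  · intro h N _ _ p hp
    obtain ⟨q, rfl⟩ : ∃ q, p = q + 1 := ⟨p - 1, by lia⟩
    let P := projectiveResolution (ModuleCat.of R N)
    exact (subsingleton_tor_iff R M N P (q + 1)).2
      (isZero_homology_succ_of_flat (ModuleCat.of R M) P q)

/-- dimension shifting: for `0 → K → F → M → 0` with `F` flat, `M` has tor dimension `≤ d + 1` iff `K` has tor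
dimension `≤ d` -/
theorem hasTorDimLE_succ_iff {K F M : Type u} [AddCommGroup K] [Module R K] [AddCommGroup F]
    [Module R F] [AddCommGroup M] [Module R M] [Module.Flat R F] (i : K →ₗ[R] F) (π : F →ₗ[R] M)
    (hi : Function.Injective i) (hiπ : Function.Exact i π) (hπ : Function.Surjective π) (d : ℕ) :
    DRing.HasTorDimLE R (d + 1) M ↔ DRing.HasTorDimLE R d K := by
  let S : ShortComplex (ModuleCat.{u} R) := ShortComplex.mk (ModuleCat.ofHom i) (ModuleCat.ofHom π)
    (by ext x; exact hiπ.apply_apply_eq_zero x)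
  have hS : S.ShortExact :=
    { exact := (ShortComplex.ShortExact.moduleCat_exact_iff_function_exact S).2 hiπ
      mono_f := (ModuleCat.mono_iff_injective _).2 hi
      epi_g := (ModuleCat.epi_iff_surjective _).2 hπ }
  have key : ∀ (N : Type u) [AddCommGroup N] [Module R N] (q : ℕ),
      Subsingleton (DRing.Tor R (q + 2) M N) ↔ Subsingleton (DRing.Tor R (q + 1) K N) := by
    intro N _ _ q
    let P := projectiveResolution (ModuleCat.of R N)
    rw [subsingleton_tor_iff R M N P, subsingleton_tor_iff R K N P]
    have hF : Module.Flat R S.X₂ := inferInstanceAs (Module.Flat R F)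
    exact isZero_homology_iff S hS P.complex (flat_X P) (q + 1)
      (isZero_homology_succ_of_flat S.X₂ P (q + 1)) (isZero_homology_succ_of_flat S.X₂ P q)
  constructor
  · intro h N _ _ p hp
    obtain ⟨q, rfl⟩ : ∃ q, p = q + 1 := ⟨p - 1, by lia⟩
    exact (key N q).1 (h N (q + 2) (by lia))
  · intro h N _ _ p hp
    obtain ⟨q, rfl⟩ : ∃ q, p = q + 2 := ⟨p - 2, by lia⟩
    exact (key N q).2 (h N (q + 1) (by lia))

end TorDim

end Groth.Agent.Lib.TorShift21
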