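import Groth.Agent.Lib.FlatAmp2
import Groth.Agent.Lib.TorShift21
import Mathlib.Algebra.Homology.DerivedCategory.SingleTriangle

/-!
# Tor dimension of a module (Mathlib's `Tor`) versus flat amplitude of `M[0]` (helper21)

* `ta_iff_pa`: `DRing.HasTorAmplitudeIn R a b K ↔ PA (FL R) a b K` (helper54's abstract form).
* `pa_fl_single_zero_iff`: `M[0]` has flat amplitude in `[0, 0]` iff `M` is flat.
* `pa_fl_single_succ_iff`: for `0 → K → F → M → 0` with `F` flat, `M[0]` has flat amplitude in `[-(d+1), 0]` iff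
  `K[0]` has flat amplitude in `[-d, 0]`.
* `hasTorDimLE_iff`: `Tor_p(M, N) = 0` for all `N`, `p > d` iff `M[0]` has flat amplitude in `[-d, 0]`.
-/

set_option autoImplicit false
universe u

open CategoryTheory CategoryTheory.Limits

attribute [local instance] HasDerivedCategory.standard

namespace Groth.Agent.Lib.TorAmpShift21

open Groth.Agent.Lib.PCohAmp Groth.Agent.Lib.DRingPerfAmp Groth.Agent.Lib.FlatAmp

variable (R : Type u) [CommRing R]

lemma ta_iff_pa (a b : ℤ) (K : Dual.D R) :
    DRing.HasTorAmplitudeIn R a b K ↔ PA (FL R) a b K := by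
  constructor
  · rintro ⟨E, h1, h2, h3⟩
    exact ⟨E, h2, h1, h3⟩
  · rintro ⟨E, h1, h2, h3⟩
    exact ⟨E, h2, h1, h3⟩

theorem pa_fl_single_zero_iff (M : ModuleCat.{u} R) :
    PA (FL R) 0 0 ((DerivedCategory.singleFunctor (ModuleCat.{u} R) 0).obj M) ↔ Module.Flat R M := by
  constructor
  · rintro ⟨E, h1, h2, ⟨e⟩⟩
    obtain ⟨e1⟩ := nonempty_homology_iso_of_concentrated E 0 h2
    have e2 : (DerivedCategory.homologyFunctor (ModuleCat.{u} R) 0).obj
        ((DerivedCategory.singleFunctor (ModuleCat.{u} R) 0).obj M) ≅ M :=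
      (DerivedCategory.singleFunctorCompHomologyFunctorIso (ModuleCat.{u} R) 0).app M
    have e3 : E.X 0 ≅ M :=
      e1.symm ≪≫ (DerivedCategory.homologyFunctor (ModuleCat.{u} R) 0).mapIso e ≪≫ e2
    exact (FL R).prop_of_iso e3 (h1 0)
  · intro h
    exact pa_single (P := FL R) M h 0

theorem pa_fl_single_succ_iff (S : ShortComplex (ModuleCat.{u} R)) (hS : S.ShortExact)
    (hF : Module.Flat R S.X₂) (d : ℕ) :
    PA (FL R) (-((d : ℤ) + 1)) 0 ((DerivedCategory.singleFunctor (ModuleCat.{u} R) 0).obj S.X₃) ↔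
      PA (FL R) (-(d : ℤ)) 0 ((DerivedCategory.singleFunctor (ModuleCat.{u} R) 0).obj S.X₁) := by
  have hT := hS.singleTriangle_distinguished
  have h2 : PA (FL R) 0 0 ((DerivedCategory.singleFunctor (ModuleCat.{u} R) 0).obj S.X₂) :=
    (pa_fl_single_zero_iff R S.X₂).2 hF
  constructor
  · intro h3
    have h1 : PA (FL R) (-((d : ℤ) + 1) + 1) (0 + 1) hS.singleTriangle.obj₁ :=
      pa_fl_fiber R _ _ hS.singleTriangle hT (pa_mono (by lia) (by lia) h2) h3
    have hz : ∀ i : ℤ, 0 < i → IsZero ((DerivedCategory.homologyFunctor (ModuleCat.{u} R) i).obj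
        ((DerivedCategory.singleFunctor (ModuleCat.{u} R) 0).obj S.X₁)) := fun i hi =>
      DerivedCategory.isZero_of_isLE ((DerivedCategory.singleFunctor (ModuleCat.{u} R) 0).obj S.X₁) 0 i hi
    have h4 := pa_trunc (fl_kernel R) (show -(d : ℤ) ≤ 0 by lia)
      (pa_mono (a' := -(d : ℤ)) (b' := 1) (by lia) (by lia) h1) hz
    exact pa_mono le_rfl (min_le_left _ _) h4
  · intro h1
    exact pa_fl_cone R _ _ hS.singleTriangle hT (pa_mono (by lia) (by lia) h1)
      (pa_mono (by lia) (by lia) h2)

/-- **Tor dimension versus flat amplitude**: `Tor_p^R(M, N) = 0` for all `N` and all `p > d` iff `M[0]` is isomorphic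
in `D(R)` to a complex of flat modules vanishing outside `[-d, 0]`. -/
theorem hasTorDimLE_iff (M : Type u) [AddCommGroup M] [Module R M] (d : ℕ) :
    DRing.HasTorDimLE R d M ↔ DRing.HasTorAmplitudeIn R (-(d : ℤ)) 0 (Dual.inD R M) := by
  induction d generalizing M with
  | zero =>
    rw [Groth.Agent.Lib.TorShift21.hasTorDimLE_zero_iff, ta_iff_pa]
    have : -((0 : ℕ) : ℤ) = 0 := by simp
    rw [this]
    exact (pa_fl_single_zero_iff R (ModuleCat.of R M)).symm
  | succ d ih =>
    let π : (M →₀ R) →ₗ[R] M := Groth.Agent.Lib.FlatCrit.pres R M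
    have hπ : Function.Surjective π := Groth.Agent.Lib.FlatCrit.pres_surjective R M
    have hex : Function.Exact (LinearMap.ker π).subtype π := LinearMap.exact_subtype_ker_map π
    have hinj : Function.Injective (LinearMap.ker π).subtype := Submodule.subtype_injective _
    have key := Groth.Agent.Lib.TorShift21.hasTorDimLE_succ_iff R (K := LinearMap.ker π)
      (F := M →₀ R) (M := M) (LinearMap.ker π).subtype π hinj hex hπ d
    rw [key, ih (LinearMap.ker π), ta_iff_pa, ta_iff_pa]
    let S : ShortComplex (ModuleCat.{u} R) :=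
      ShortComplex.mk (ModuleCat.ofHom (LinearMap.ker π).subtype) (ModuleCat.ofHom π)
        (ModuleCat.hom_ext (LinearMap.ext fun x => hex.apply_apply_eq_zero x))
    have hS : S.ShortExact :=
      { exact := (ShortComplex.ShortExact.moduleCat_exact_iff_function_exact S).2 hex
        mono_f := (ModuleCat.mono_iff_injective _).2 hinj
        epi_g := (ModuleCat.epi_iff_surjective _).2 hπ }
    have hF : Module.Flat R S.X₂ := inferInstanceAs (Module.Flat R (M →₀ R))
    have hd : -((d + 1 : ℕ) : ℤ) = -((d : ℤ) + 1) := by push_cast; ring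
    rw [hd]
    exact (pa_fl_single_succ_iff R S hS hF d).symm

end Groth.Agent.Lib.TorAmpShift21
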