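import Groth.Agent.Lib.BcRHom25
import Groth.Agent.Lib.EvalHomPC25
import Groth.Agent.Lib.TorAmpShift21

/-!
# `bcRHom` for pseudo-coherent `K`, bounded below `M`, finite tor dimension (helper25)
-/

set_option autoImplicit false
set_option linter.unusedSectionVars false
set_option linter.style.haveILetI false
universe u

open CategoryTheory Category Limits MonoidalCategory Pretriangulated Opposite

attribute [local instance] HasDerivedCategory.standard

namespace Groth.Agent.Lib.BcRHomPC25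

open DerivedCategory DTen Groth.Agent.Lib.RHomBC35 Groth.Agent.Lib.FiveLemmaTri35
  Groth.Agent.Lib.RHomModel25 Groth.Agent.Lib.BcRHom25 Groth.Agent.Lib.EvalHomPC25
  Groth.Agent.Lib.HomTensor25 Groth.Agent.Lib.KFlat35 Groth.Agent.Lib.DTenValues35
  Groth.Agent.Lib.DTenBase35

section GE

variable {A : Type u} [CommRing A]

lemma isGE_of_iso_Q {X : Dual.D A} (Z : DRing.Cx A) (e : X ≅ Q.obj Z) (c : ℤ)
    (hZ : ∀ i : ℤ, i < c → IsZero (Z.X i)) : X.IsGE c := by
  haveI : Z.IsStrictlyGE c := by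
    rw [CochainComplex.isStrictlyGE_iff]
    exact hZ
  exact TStructure.t.isGE_of_iso e.symm c

variable [HasLTen A]

/-- `Q F ⊗^L M ∈ D^{≥ a - d}` for `F` a bounded above flat complex vanishing below `-d` and
`M ∈ D^{≥ a}`. -/
lemma isGE_LTen₂_of_flat (F : DRing.Cx A) (d b : ℤ) (hF0 : ∀ i : ℤ, i < -d → IsZero (F.X i))
    (hFb : ∀ i : ℤ, b < i → IsZero (F.X i)) (hFf : ∀ i : ℤ, Module.Flat A (F.X i))
    (M : Dual.D A) (a : ℤ) [M.IsGE a] : ((LTen₂ A).obj (Q.obj F, M)).IsGE (a - d) := by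
  obtain ⟨P, hP, hPf, ⟨eM⟩⟩ := exists_good' M
  haveI := hP
  haveI := isIso_ε_right F P hPf
  haveI : (Q.obj P).IsGE a := TStructure.t.isGE_of_iso eM.symm a
  haveI hPge : P.IsGE a := (isGE_Q_obj_iff P a).1 inferInstance
  have hKF : IsKFlat F := Groth.Agent.Lib.HomTensor25.isKFlat_of_flat F hFf b hFb
  haveI : QuasiIso (F ◁ P.πTruncGE a) := quasiIso_whiskerLeft_of_isKFlat hKF _
  haveI : IsIso (Q.map (F ◁ P.πTruncGE a)) := by
    rw [DerivedCategory.isIso_Q_map_iff_quasiIso]; infer_instance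
  let i : (LTen₂ A).obj (Q.obj F, M) ≅ Q.obj (T F (P.truncGE a)) :=
    (LTen₂ A).mapIso (Iso.prod (Iso.refl _) eM.symm) ≪≫ asIso ((ε A).app (F, P)) ≪≫
      asIso (Q.map (F ◁ P.πTruncGE a))
  refine isGE_of_iso_Q _ i _ ?_
  intro m hm
  apply isZero_tensor_X
  intro p q hpq
  by_cases hp : p < -d
  · exact Or.inl (hF0 p hp)
  · exact Or.inr ((P.truncGE a).isZero_of_isStrictlyGE a q (by omega))

end GE

section Res

open Groth.Agent.Lib.ProjFormula35

variable {R R' : Type u} [CommRing R] [CommRing R'] (φ : R →+* R')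

lemma exactAt_of_resCx (X : DRing.Cx R') (k : ℤ) (h : ((resCx φ).obj X).ExactAt k) :
    X.ExactAt k := by
  obtain ⟨n, rfl⟩ : ∃ n, k = n + 1 := ⟨k - 1, by omega⟩
  rw [HomologicalComplex.exactAt_iff' _ n (n + 1) (n + 1 + 1) (by simp) (by simp)] at h ⊢
  rw [ShortComplex.ShortExact.moduleCat_exact_iff_function_exact] at h ⊢
  exact h

/-- restriction of scalars reflects `IsGE` -/
lemma isGE_of_restrictD (X : Dual.D R') (c : ℤ) (h : ((DRing.restrictD φ).obj X).IsGE c) :
    X.IsGE c := by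
  let Z := Q.objPreimage X
  let e : Q.obj Z ≅ X := Q.objObjPreimageIso X
  haveI : (Q.obj ((resCx φ).obj Z)).IsGE c :=
    TStructure.t.isGE_of_iso ((DRing.restrictD φ).mapIso e.symm ≪≫ (resFactors φ).app Z) c
  have h1 : ((resCx φ).obj Z).IsGE c := (isGE_Q_obj_iff _ c).1 inferInstance
  have h2 : Z.IsGE c := by
    rw [CochainComplex.isGE_iff] at h1 ⊢
    intro i hi
    exact exactAt_of_resCx φ Z i (h1 i hi)
  haveI : (Q.obj Z).IsGE c := (isGE_Q_obj_iff _ c).2 h2
  exact TStructure.t.isGE_of_iso e c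

variable [HasLTen R] [HasLBase φ]

/-- `(M ⊗^L_R R')|_R ≅ R'|_R ⊗^L_R M` -/
lemma nonempty_res_LBase_iso (M : Dual.D R) :
    Nonempty ((DRing.restrictD φ).obj ((LBase φ).obj M) ≅
      (LTen₂ R).obj (Q.obj ((resCx φ).obj (𝟙_ (DRing.Cx R'))), M)) := by
  obtain ⟨P, hP, hPf, ⟨eM⟩⟩ := exists_good' M
  haveI := hP
  haveI := isIso_ε_right ((resCx φ).obj (𝟙_ (DRing.Cx R'))) P hPf
  haveI := isIso_baseCmp_of_kproj φ P
  exact ⟨(DRing.restrictD φ).mapIso ((LBase φ).mapIso eM.symm ≪≫ asIso ((baseCmp φ).app P)) ≪≫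
    (resFactors φ).app ((extCx φ).obj P) ≪≫
    Q.mapIso ((resCx φ).mapIso (λ_ ((extCx φ).obj P)).symm) ≪≫
    Q.mapIso (pfIso φ (𝟙_ (DRing.Cx R')) P).symm ≪≫
    (asIso ((ε R).app ((resCx φ).obj (𝟙_ (DRing.Cx R')), P))).symm ≪≫
    (LTen₂ R).mapIso (Iso.prod (Iso.refl _) eM)⟩

/-- derived base change along a map of tor dimension `≤ d` lowers the cohomological lower bound by at
most `d`. -/
lemma isGE_LBase (d : ℤ)
    (hW : DRing.HasTorAmplitudeIn R (-d) 0 (Q.obj ((resCx φ).obj (𝟙_ (DRing.Cx R')))))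
    (M : Dual.D R) (a : ℤ) [M.IsGE a] : ((LBase φ).obj M).IsGE (a - d) := by
  obtain ⟨F, hFv, hFf, ⟨eF⟩⟩ := hW
  obtain ⟨i⟩ := nonempty_res_LBase_iso φ M
  haveI := isGE_LTen₂_of_flat F d 0 (fun i hi => hFv i (Or.inl hi)) (fun i hi => hFv i (Or.inr hi))
    hFf M a
  apply isGE_of_restrictD φ
  exact TStructure.t.isGE_of_iso
    ((LTen₂ R).mapIso (Iso.prod eF (Iso.refl M)) ≪≫ i.symm) (a - d)

end Res

section Estimates

variable {A : Type u} [CommRing A] [HasLTen A] [HasRHom A]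

/-- `RHom(X, Y) ≅ Q Hom•(P, I)` for `X ≅ QP`, `Y ≅ QI`, `I` K-injective -/
noncomputable def rhomModelIso' {X Y : Dual.D A} (P I : DRing.Cx A) [I.IsKInjective]
    (eX : X ≅ Q.obj P) (eY : Y ≅ Q.obj I) :
    (RHomR A X).obj Y ≅ Q.obj (DRing.homCx P I) :=
  (RHomR A X).mapIso eY ≪≫ (rhomOp (Q.obj I)).mapIso eX.symm.op ≪≫ (rhoIso P I).symm

lemma isGE_rhom {X Y : Dual.D A} (P I : DRing.Cx A) [I.IsKInjective]
    (eX : X ≅ Q.obj P) (eY : Y ≅ Q.obj I) (n c : ℤ) (hP : ∀ p : ℤ, c < p → IsZero (P.X p))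
    (hI : ∀ r : ℤ, r < n → IsZero (I.X r)) : ((RHomR A X).obj Y).IsGE (n - c) := by
  refine isGE_of_iso_Q _ (rhomModelIso' P I eX eY) _ ?_
  intro a ha
  apply isZero_homCx_X
  intro p
  by_cases hp : c < p
  · exact Or.inl (hP p hp)
  · exact Or.inr (hI _ (by omega))

/-- bounded below K-injective model -/
lemma exists_kinj_of_isGE (Y : Dual.D A) (n : ℤ) [Y.IsGE n] :
    ∃ (I : DRing.Cx A) (_ : I.IsKInjective) (_ : Y ≅ Q.obj I), ∀ r : ℤ, r < n → IsZero (I.X r) := by
  obtain ⟨L₀, hL₀, ⟨eL₀⟩⟩ := DerivedCategory.exists_iso_Q_obj_of_isGE Y n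
  obtain ⟨J, i, hi, hJinj, hJ⟩ :=
    CochainComplex.Plus.modelCategoryQuillen.exists_quasiIso_injective L₀ n
  haveI : J.IsKInjective := CochainComplex.isKInjective_of_injective J n
  haveI : IsIso (Q.map i) := by
    rw [DerivedCategory.isIso_Q_map_iff_quasiIso]; exact hi
  exact ⟨J, inferInstance, eL₀ ≪≫ asIso (Q.map i), fun r hr => J.isZero_of_isStrictlyGE n r hr⟩

lemma finite_projective_of_isZero' (X : ModuleCat.{u} A) (h : IsZero X) :
    Module.Finite A X ∧ Module.Projective A X := by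
  haveI : Subsingleton X := ModuleCat.subsingleton_of_isZero h
  exact ⟨inferInstance, inferInstance⟩

lemma isIso_homologyMap_mor₂ (T : Triangle (Dual.D A)) (hT : T ∈ distTriang (Dual.D A)) (j : ℤ)
    (h0 : IsZero ((homologyFunctor (ModuleCat.{u} A) j).obj T.obj₁))
    (h1 : IsZero ((homologyFunctor (ModuleCat.{u} A) (j + 1)).obj T.obj₁)) :
    IsIso ((homologyFunctor (ModuleCat.{u} A) j).map T.mor₂) := by
  haveI : Epi ((homologyFunctor (ModuleCat.{u} A) j).map T.mor₂) :=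
    (HomologySequence.epi_homologyMap_mor₂_iff T hT j (j + 1) rfl).2 (h1.eq_of_tgt _ _)
  haveI : Mono ((homologyFunctor (ModuleCat.{u} A) j).map T.mor₂) :=
    (HomologySequence.mono_homologyMap_mor₂_iff T hT j).2 (h0.eq_of_src _ _)
  exact isIso_of_mono_of_epi _

end Estimates

section Main

open Groth.Agent.Lib.DStupid

variable {R R' : Type u} [CommRing R] [CommRing R'] (φ : R →+* R')
  [HasLTen R] [HasLTen R'] [HasRHom R] [HasRHom R'] [HasLBase φ] [HasResTen φ] [ResLegIso φ]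

theorem isIso_bc_Q (E : DRing.Cx R) (b : ℤ) (hEb : DRing.VanishesAbove E b)
    (hEf : DRing.TermwiseFiniteFree E) (M : Dual.D R) (n : ℤ) [M.IsGE n] (d : ℤ)
    (hW : DRing.HasTorAmplitudeIn R (-d) 0 (Q.obj ((resCx φ).obj (𝟙_ (DRing.Cx R'))))) :
    IsIso (bc φ (Q.obj E) M) := by
  rw [DerivedCategory.isIso_iff]
  intro j
  let N : ℤ := j + d - n + 2
  let EN := stupidGE E (-N)
  let E' := stupidLT E (-N)
  let Tr := tri E (topFamily E (-N)) (topFamily_le E (-N))
  have hTr : Tr ∈ distTriang _ := tri_distinguished E _ (topFamily_le E (-N))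
  -- the truncation is perfect
  have hperf : DRing.IsPerfect R (Q.obj EN) := by
    refine ⟨EN, -N, b, ?_, ?_, ⟨Iso.refl _⟩⟩
    · rintro i (hi | hi)
      · exact isZero_stupidGE_X_of_lt E (-N) i hi
      · exact isZero_stupidGE_X_of_isZero E (-N) i (hEb i hi)
    · intro i
      by_cases hi : -N ≤ i
      · obtain ⟨h1, h2⟩ := hEf i
        let e := (stupidGEXIso E (-N) i hi).toLinearEquiv
        exact ⟨Module.Finite.equiv e.symm, Module.Projective.of_equiv e.symm⟩
      · exact finite_projective_of_isZero' _ (isZero_stupidGE_X_of_lt E (-N) i (by omega))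
  haveI := isIso_bc_of_isPerfect φ M (fun n => isIso_bc_unit_shift φ n M) (Q.obj EN) hperf
  -- the quotient
  have hE'p : ∀ i : ℤ, Module.Projective R (E'.X i) := by
    intro i
    by_cases hi : i < -N
    · obtain ⟨h1, h2⟩ := hEf i
      let e := (stupidLTXIso E (-N) i hi).toLinearEquiv
      exact Module.Projective.of_equiv e.symm
    · exact (finite_projective_of_isZero' _ (isZero_stupidLT_X_of_le E (-N) i (by omega))).2
  have hE'0 : ∀ q : ℤ, -N - 1 < q → IsZero (E'.X q) := fun q hq =>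
    isZero_stupidLT_X_of_le E (-N) q (by omega)
  haveI : E'.IsKProjective :=
    Groth.Agent.Lib.RHomCx25.isKProjective_of_vanishesAbove E' (-N - 1) hE'0 hE'p
  -- models
  obtain ⟨I, hI, eM, hI0⟩ := exists_kinj_of_isGE M n
  haveI := hI
  haveI hM' : ((LBase φ).obj M).IsGE (n - d) := isGE_LBase φ d hW M n
  obtain ⟨I', hI', eM', hI'0⟩ := exists_kinj_of_isGE ((LBase φ).obj M) (n - d)
  haveI := hI'
  -- vanishing for the source
  haveI h1 : ((RHomR R (Q.obj E')).obj M).IsGE (n - (-N - 1)) :=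
    isGE_rhom E' I (Iso.refl _) eM n (-N - 1) hE'0 hI0
  haveI hS : ((LBase φ).obj ((RHomR R (Q.obj E')).obj M)).IsGE (n - (-N - 1) - d) :=
    isGE_LBase φ d hW _ _
  -- vanishing for the target
  haveI := isIso_baseCmp_of_kproj φ E'
  let eE' : (LBase φ).obj (Q.obj E') ≅ Q.obj ((extCx φ).obj E') := asIso ((baseCmp φ).app E')
  have hext0 : ∀ q : ℤ, -N - 1 < q → IsZero (((extCx φ).obj E').X q) := fun q hq =>
    (ModuleCat.extendScalars.{u, u, u} φ).map_isZero (hE'0 q hq)
  haveI hT : ((RHomR R' ((LBase φ).obj (Q.obj E'))).obj ((LBase φ).obj M)).IsGE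
      (n - d - (-N - 1)) :=
    isGE_rhom ((extCx φ).obj E') I' eE' eM' (n - d) (-N - 1) hext0 hI'0
  obtain ⟨δ₁, hδ₁⟩ := weaklyExactOp₂_srcF φ M Tr hTr
  obtain ⟨δ₂, hδ₂⟩ := weaklyExactOp₂_tgtF φ ((LBase φ).obj M) Tr hTr
  have i1 := isIso_homologyMap_mor₂ _ hδ₁ j
    (isZero_of_isGE ((LBase φ).obj ((RHomR R (Q.obj E')).obj M)) (n - (-N - 1) - d) j
      (by dsimp only [N]; omega))
    (isZero_of_isGE ((LBase φ).obj ((RHomR R (Q.obj E')).obj M)) (n - (-N - 1) - d) (j + 1)
      (by dsimp only [N]; omega))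
  have i2 := isIso_homologyMap_mor₂ _ hδ₂ j
    (isZero_of_isGE ((RHomR R' ((LBase φ).obj (Q.obj E'))).obj ((LBase φ).obj M))
      (n - d - (-N - 1)) j (by dsimp only [N]; omega))
    (isZero_of_isGE ((RHomR R' ((LBase φ).obj (Q.obj E'))).obj ((LBase φ).obj M))
      (n - d - (-N - 1)) (j + 1) (by dsimp only [N]; omega))
  have nat : (LBase φ).map (RHomMap Tr.mor₁ M) ≫ bc φ (Q.obj EN) M =
      bc φ (Q.obj E) M ≫ RHomMap ((LBase φ).map Tr.mor₁) ((LBase φ).obj M) :=
    bc_naturality φ Tr.mor₁ M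
  have key : (homologyFunctor (ModuleCat.{u} R') j).map ((LBase φ).map (RHomMap Tr.mor₁ M)) ≫
        (homologyFunctor (ModuleCat.{u} R') j).map (bc φ (Q.obj EN) M) =
      (homologyFunctor (ModuleCat.{u} R') j).map (bc φ (Q.obj E) M) ≫
        (homologyFunctor (ModuleCat.{u} R') j).map
          (RHomMap ((LBase φ).map Tr.mor₁) ((LBase φ).obj M)) := by
    exact (Functor.map_comp _ _ _).symm.trans ((congrArg (fun t =>
      (homologyFunctor (ModuleCat.{u} R') j).map t) nat).trans (Functor.map_comp _ _ _))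
  have a1 : IsIso ((homologyFunctor (ModuleCat.{u} R') j).map (bc φ (Q.obj EN) M)) :=
    inferInstance
  have i1' : IsIso ((homologyFunctor (ModuleCat.{u} R') j).map
      ((LBase φ).map (RHomMap Tr.mor₁ M))) := i1
  have i2' : IsIso ((homologyFunctor (ModuleCat.{u} R') j).map
      (RHomMap ((LBase φ).map Tr.mor₁) ((LBase φ).obj M))) := i2
  have a2 : IsIso ((homologyFunctor (ModuleCat.{u} R') j).map (bc φ (Q.obj E) M) ≫
        (homologyFunctor (ModuleCat.{u} R') j).map
          (RHomMap ((LBase φ).map Tr.mor₁) ((LBase φ).obj M))) := by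
    rw [← key]
    exact IsIso.comp_isIso' i1' a1
  exact @IsIso.of_isIso_comp_right _ _ _ _ _ _ ((homologyFunctor (ModuleCat.{u} R') j).map
      (RHomMap ((LBase φ).map Tr.mor₁) ((LBase φ).obj M))) i2' a2

end Main

section Final

variable (R R' : Type u) [CommRing R] [CommRing R'] [Algebra R R']

/-- `R'` as an `R`-module is the restriction of the unit -/
noncomputable def resUnitIso :
    (ModuleCat.restrictScalars.{u} (algebraMap R R')).obj (𝟙_ (ModuleCat.{u} R')) ≅
      ModuleCat.of R R' := by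
  let N : ModuleCat.{u} R :=
    (ModuleCat.restrictScalars.{u} (algebraMap R R')).obj (ModuleCat.of R' R')
  let l : R' ≃ₗ[R] N :=
    { toFun := fun b => b
      invFun := fun b => b
      map_add' := fun _ _ => rfl
      map_smul' := fun a b => Algebra.smul_def a b
      left_inv := fun _ => rfl
      right_inv := fun _ => rfl }
  exact (LinearEquiv.toModuleIso (X₁ := R') (X₂ := N) l).symm

/-- `R'[0]` in `D(R)` is `Q` of the restricted unit complex -/
noncomputable def inDIso :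
    Dual.inD R R' ≅ Q.obj ((resCx (algebraMap R R')).obj (𝟙_ (DRing.Cx R'))) :=
  Q.mapIso ((HomologicalComplex.single (ModuleCat.{u} R) (ComplexShape.up ℤ) 0).mapIso
      (resUnitIso R R').symm ≪≫
    ((HomologicalComplex.singleMapHomologicalComplex
      (ModuleCat.restrictScalars.{u} (algebraMap R R')) (ComplexShape.up ℤ) 0).app
        (𝟙_ (ModuleCat.{u} R'))).symm)

lemma hasTorAmplitudeIn_resUnit (d : ℕ) (h : DRing.HasTorDimLE R d R') :
    DRing.HasTorAmplitudeIn R (-(d : ℤ)) 0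
      (Q.obj ((resCx (algebraMap R R')).obj (𝟙_ (DRing.Cx R')))) :=
  Groth.Agent.Lib.TorAmpBasic21.hasTorAmplitudeIn_of_iso R (inDIso R R')
    ((Groth.Agent.Lib.TorAmpShift21.hasTorDimLE_iff R R' d).1 h)

variable {R R'}
variable [HasLTen R] [HasLTen R'] [HasRHom R] [HasRHom R'] [HasLBase (algebraMap R R')]
  [HasResTen (algebraMap R R')] [ResLegIso (algebraMap R R')]

/-- `bcRHom` is an isomorphism for `K` pseudo-coherent, `M` bounded below and `R'` of finite tor
dimension over `R`. -/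
theorem isIso_bcRHom_of_isPseudoCoherent (K M : Dual.D R)
    [IsIso (rhomBC (algebraMap R R') K ((LBase (algebraMap R R')).obj M))]
    (hR' : DRing.HasFiniteTorDim R R') (hK : DRing.IsPseudoCoherent' R K) (n : ℤ)
    (hM : DerivedCategory.IsGE M n) : IsIso (bcRHom (algebraMap R R') K M) := by
  rw [← bc_eq]
  obtain ⟨d, hd⟩ := hR'
  obtain ⟨E, b, hEb, hEf, ⟨eK⟩⟩ := hK
  have hW := hasTorAmplitudeIn_resUnit R R' d hd
  have a1 : IsIso (bc (algebraMap R R') (Q.obj E) M) :=
    isIso_bc_Q (algebraMap R R') E b hEb hEf M n d hW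
  -- transport along `eK : Q E ≅ K`
  have nat := bc_naturality (algebraMap R R') eK.hom M
  have a2 : IsIso ((LBase (algebraMap R R')).map (RHomMap eK.hom M)) :=
    inferInstanceAs (IsIso ((LBase (algebraMap R R')).mapIso
      (((RHom R).mapIso eK.op).app M)).hom)
  have a3 : IsIso (RHomMap ((LBase (algebraMap R R')).map eK.hom)
      ((LBase (algebraMap R R')).obj M)) :=
    inferInstanceAs (IsIso (((RHom R').mapIso ((LBase (algebraMap R R')).mapIso eK).op).app
      ((LBase (algebraMap R R')).obj M)).hom)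
  have a4 : IsIso (bc (algebraMap R R') K M ≫
      RHomMap ((LBase (algebraMap R R')).map eK.hom) ((LBase (algebraMap R R')).obj M)) := by
    rw [← nat]
    exact IsIso.comp_isIso' a2 a1
  exact @IsIso.of_isIso_comp_right _ _ _ _ _ _ (RHomMap ((LBase (algebraMap R R')).map eK.hom)
      ((LBase (algebraMap R R')).obj M)) a3 a4

end Final

end Groth.Agent.Lib.BcRHomPC25
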