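import Groth.Prelude.Def_W4stkschemesremainderFib
import Mathlib.AlgebraicGeometry.Morphisms.Affine
import Mathlib.Algebra.Category.Ring.Constructions
import Mathlib.LinearAlgebra.Dimension.Constructions
import Mathlib.RingTheory.IsTensorProduct

set_option autoImplicit false
universe u

open CategoryTheory AlgebraicGeometry CategoryTheory.Limits TensorProduct

namespace Groth.Agent.Lib.BddFibBase

/-- Pure algebra: base change of a finite algebra over a field along a map of fields. -/
theorem finite_finrank_of_isPushout (K A k A' : Type u) [Field K] [CommRing A] [Field k] [CommRing A']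
    [Algebra K A] [Algebra K k] [Algebra A A'] [Algebra k A'] [Algebra K A']
    [IsScalarTower K A A'] [IsScalarTower K k A'] [Algebra.IsPushout K A k A']
    [Module.Finite K A] :
    Module.Finite k A' ∧ Module.finrank k A' = Module.finrank K A := by
  have h : Algebra.IsPushout K k A A' := Algebra.IsPushout.symm inferInstance
  let e : k ⊗[K] A ≃ₐ[k] A' := Algebra.IsPushout.equiv K k A A'
  refine ⟨Module.Finite.equiv e.toLinearEquiv, ?_⟩
  rw [← e.toLinearEquiv.finrank_eq, Module.finrank_baseChange]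

/-- `FiniteOfDegLE` is stable under base change along a morphism of spectra of fields. -/
theorem finiteOfDegLE_of_isPullback {K k : CommRingCat.{u}} (hK : IsField K) (hk : IsField k)
    {T T' : Scheme.{u}} (p : T ⟶ Spec K) (p' : T' ⟶ Spec k) (ψ : K ⟶ k) (g' : T' ⟶ T)
    (h : IsPullback g' p' p (Spec.map ψ)) (n : ℕ) (hp : BddFib.FiniteOfDegLE K p n) :
    BddFib.FiniteOfDegLE k p' n := by
  obtain ⟨haff, hfin, hrank⟩ := hp
  have haff' : IsAffine T' := IsAffine.of_isPullback h
  have push := isPushout_appTop_of_isPullback h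
  let φ : K ⟶ Γ(T, ⊤) := (Scheme.ΓSpecIso K).inv ≫ p.appTop
  let φ' : k ⟶ Γ(T', ⊤) := (Scheme.ΓSpecIso k).inv ≫ p'.appTop
  let γ : Γ(T, ⊤) ⟶ Γ(T', ⊤) := g'.appTop
  have push' : IsPushout φ ψ γ φ' := by
    refine push.of_iso (Scheme.ΓSpecIso K) (Iso.refl _) (Scheme.ΓSpecIso k) (Iso.refl _) ?_ ?_ ?_ ?_
    · simp [φ]
    · simp
    · simp [γ]
    · simp [φ']
  let _ : Field K := hK.toField
  let _ : Field k := hk.toField
  algebraize [φ.hom, ψ.hom, γ.hom, φ'.hom, γ.hom.comp φ.hom]
  have : IsScalarTower K k Γ(T', ⊤) := .of_algebraMap_eq' <| congr($(push'.1.1).hom)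
  have hpo : Algebra.IsPushout K Γ(T, ⊤) k Γ(T', ⊤) := CommRingCat.isPushout_iff_isPushout.mp push'
  have hfin' : Module.Finite K Γ(T, ⊤) := hfin
  obtain ⟨h1, h2⟩ := finite_finrank_of_isPushout K Γ(T, ⊤) k Γ(T', ⊤)
  refine ⟨haff', h1, ?_⟩
  exact h2.le.trans hrank

end Groth.Agent.Lib.BddFibBase
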