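import Groth.Agent.Lib.BddFibBase
import Mathlib.RingTheory.SimpleModule.Basic
import Mathlib.RingTheory.Artinian.Module
import Mathlib.LinearAlgebra.TensorProduct.RightExactness
import Mathlib.LinearAlgebra.Dimension.Free
import Mathlib.RingTheory.Finiteness.Finsupp
import Mathlib.FieldTheory.Tower
import Mathlib.LinearAlgebra.FiniteDimensional.Lemmas

set_option autoImplicit false
set_option linter.style.haveILetI false
universe u

open TensorProduct

namespace Groth.Agent.Lib.BddFibComp

section Algebra

variable (K B C : Type u) [Field K] [CommRing B] [CommRing C] [Algebra K B] [Algebra B C]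

/-- The simple module case. -/
theorem simple_case (n : ℕ)
    (h : ∀ q : Ideal B, q.IsMaximal → Module.Finite (B ⧸ q) ((B ⧸ q) ⊗[B] C) ∧
      Module.finrank (B ⧸ q) ((B ⧸ q) ⊗[B] C) ≤ n)
    (S : Type u) [AddCommGroup S] [Module B S] [Module K S] [IsScalarTower K B S]
    [Module.Finite K S] [IsSimpleModule B S] :
    Module.Finite K (S ⊗[B] C) ∧ Module.finrank K (S ⊗[B] C) ≤ n * Module.finrank K S := by
  obtain ⟨q, hq, ⟨e⟩⟩ := isSimpleModule_iff_quot_maximal.mp (‹IsSimpleModule B S›)
  haveI := hq
  letI : Field (B ⧸ q) := Ideal.Quotient.field q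
  obtain ⟨h1, h2⟩ := h q hq
  have eK : S ≃ₗ[K] (B ⧸ q) := e.restrictScalars K
  haveI : Module.Finite K (B ⧸ q) := Module.Finite.equiv eK
  let e1 : S ⊗[B] C ≃ₗ[B] (B ⧸ q) ⊗[B] C := TensorProduct.congr e (LinearEquiv.refl B C)
  have e1K : S ⊗[B] C ≃ₗ[K] (B ⧸ q) ⊗[B] C := e1.restrictScalars K
  haveI : Module.Finite K ((B ⧸ q) ⊗[B] C) := Module.Finite.trans (B ⧸ q) _
  refine ⟨Module.Finite.equiv e1K.symm, ?_⟩
  rw [e1K.finrank_eq, eK.finrank_eq, ← Module.finrank_mul_finrank K (B ⧸ q) ((B ⧸ q) ⊗[B] C),
    mul_comm]
  exact Nat.mul_le_mul_right _ h2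

/-- The general module case, by induction on the dimension. -/
theorem module_case (n : ℕ)
    (h : ∀ q : Ideal B, q.IsMaximal → Module.Finite (B ⧸ q) ((B ⧸ q) ⊗[B] C) ∧
      Module.finrank (B ⧸ q) ((B ⧸ q) ⊗[B] C) ≤ n) (d : ℕ) :
    ∀ (N : Type u) [AddCommGroup N] [Module B N] [Module K N] [IsScalarTower K B N]
      [Module.Finite K N], Module.finrank K N = d →
      Module.Finite K (N ⊗[B] C) ∧ Module.finrank K (N ⊗[B] C) ≤ n * d := by
  induction d using Nat.strong_induction_on with
  | _ d ih =>
    intro N _ _ _ _ _ hd
    by_cases hN : Subsingleton N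
    · haveI := hN
      haveI : Subsingleton (N ⊗[B] C) := inferInstance
      refine ⟨inferInstance, ?_⟩
      rw [Module.finrank_zero_of_subsingleton]
      exact Nat.zero_le _
    · rw [not_subsingleton_iff_nontrivial] at hN
      haveI := hN
      -- `N` is an Artinian `B`-module
      haveI : IsArtinian K N := inferInstance
      haveI : IsArtinian B N := isArtinian_of_tower K inferInstance
      obtain ⟨S, hS, -⟩ := (eq_bot_or_exists_atom_le (⊤ : Submodule B N)).resolve_left
        (by simp)
      haveI : IsSimpleModule B S := isSimpleModule_iff_isAtom.mpr hS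
      haveI : Module.Finite K S := Module.Finite.of_injective (S.subtype.restrictScalars K)
        S.subtype_injective
      obtain ⟨hS1, hS2⟩ := simple_case K B C n h S
      -- the quotient
      have hsum : Module.finrank K (N ⧸ S) + Module.finrank K S = Module.finrank K N := by
        have h1 := Submodule.finrank_quotient_add_finrank (S.restrictScalars K)
        have h2 : Module.finrank K (N ⧸ S.restrictScalars K) = Module.finrank K (N ⧸ S) :=
          (Submodule.Quotient.restrictScalarsEquiv K S).finrank_eq
        have h3 : Module.finrank K (S.restrictScalars K) = Module.finrank K S := rfl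
        omega
      have hSpos : 0 < Module.finrank K S := by
        haveI : Nontrivial S := IsSimpleModule.nontrivial B S
        exact Module.finrank_pos
      haveI : Module.Finite K (N ⧸ S) := Module.Finite.of_surjective (S.mkQ.restrictScalars K)
        S.mkQ_surjective
      obtain ⟨hQ1, hQ2⟩ := ih (Module.finrank K (N ⧸ S)) (by omega) (N ⧸ S) rfl
      -- exact sequence
      have hex : Function.Exact (LinearMap.rTensor C S.subtype) (LinearMap.rTensor C S.mkQ) :=
        rTensor_exact C (LinearMap.exact_subtype_mkQ S) S.mkQ_surjective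
      have hsurj : Function.Surjective (LinearMap.rTensor C S.mkQ) :=
        LinearMap.rTensor_surjective C S.mkQ_surjective
      let f' : S ⊗[B] C →ₗ[K] N ⊗[B] C := (LinearMap.rTensor C S.subtype).restrictScalars K
      let g' : N ⊗[B] C →ₗ[K] (N ⧸ S) ⊗[B] C := (LinearMap.rTensor C S.mkQ).restrictScalars K
      have hker : LinearMap.ker g' = LinearMap.range f' := by
        ext x
        exact hex x
      have hfr : Module.Finite K (LinearMap.range f') := Module.Finite.range f'
      have hfk : Module.Finite K (LinearMap.ker g') := by rw [hker]; exact hfr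
      have hfq : Module.Finite K ((N ⊗[B] C) ⧸ LinearMap.ker g') :=
        Module.Finite.equiv (g'.quotKerEquivOfSurjective hsurj).symm
      have hfin : Module.Finite K (N ⊗[B] C) := Module.Finite.of_submodule_quotient (LinearMap.ker g')
      refine ⟨hfin, ?_⟩
      have h1 := LinearMap.finrank_range_add_finrank_ker g'
      have h2 : Module.finrank K (LinearMap.range g') = Module.finrank K ((N ⧸ S) ⊗[B] C) := by
        have : LinearMap.range g' = ⊤ := LinearMap.range_eq_top.mpr hsurj
        rw [this, finrank_top]
      have h3 : Module.finrank K (LinearMap.ker g') ≤ Module.finrank K (S ⊗[B] C) := by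
        rw [hker]
        exact LinearMap.finrank_range_le f'
      calc Module.finrank K (N ⊗[B] C)
          = Module.finrank K ((N ⧸ S) ⊗[B] C) + Module.finrank K (LinearMap.ker g') := by
            rw [← h1, h2]
        _ ≤ n * Module.finrank K (N ⧸ S) + n * Module.finrank K S := by
            exact Nat.add_le_add hQ2 (h3.trans hS2)
        _ = n * d := by rw [← Nat.mul_add, hsum, hd]

/-- Pure algebra: if `B` is a finite algebra over a field `K` and `C` is a `B`-algebra all of whose
fibres over the maximal ideals of `B` have degree at most `n`, then `C` is finite over `K` of degree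
at most `n * [B : K]`. -/
theorem algebra_case [Algebra K C] [IsScalarTower K B C] [Module.Finite K B] (n : ℕ)
    (h : ∀ q : Ideal B, q.IsMaximal → Module.Finite (B ⧸ q) ((B ⧸ q) ⊗[B] C) ∧
      Module.finrank (B ⧸ q) ((B ⧸ q) ⊗[B] C) ≤ n) :
    Module.Finite K C ∧ Module.finrank K C ≤ n * Module.finrank K B := by
  obtain ⟨h1, h2⟩ := module_case K B C n h (Module.finrank K B) B rfl
  have e : B ⊗[B] C ≃ₗ[K] C := (TensorProduct.lid B C).restrictScalars K
  exact ⟨Module.Finite.equiv e, e.finrank_eq ▸ h2⟩

end Algebra

end Groth.Agent.Lib.BddFibComp
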