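import Groth.Agent.Lib.BddFibBase
import Groth.Agent.S7442
import Mathlib.LinearAlgebra.Dimension.Free

set_option autoImplicit false
universe u

open CategoryTheory AlgebraicGeometry CategoryTheory.Limits TensorProduct

namespace Groth.Agent.Lib.BddFibDescent

/-- Pure algebra: descent of finiteness and rank along a field extension. -/
theorem finite_finrank_descend (K A k A' : Type u) [Field K] [CommRing A] [Field k] [CommRing A']
    [Algebra K A] [Algebra K k] [Algebra A A'] [Algebra k A'] [Algebra K A']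
    [IsScalarTower K A A'] [IsScalarTower K k A'] [Algebra.IsPushout K A k A']
    [Module.Finite k A'] :
    Module.Finite K A ∧ Module.finrank K A = Module.finrank k A' := by
  have h : Algebra.IsPushout K k A A' := Algebra.IsPushout.symm inferInstance
  let e : k ⊗[K] A ≃ₐ[k] A' := Algebra.IsPushout.equiv K k A A'
  have hfin : Module.Finite k (k ⊗[K] A) := Module.Finite.equiv e.symm.toLinearEquiv
  have hA : Module.Finite K A := by
    rw [← Module.rank_lt_aleph0_iff]
    have h1 : Module.rank k (k ⊗[K] A) < Cardinal.aleph0 := Module.rank_lt_aleph0_iff.mpr hfin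
    rw [Module.rank_baseChange] at h1
    simpa using h1
  refine ⟨hA, ?_⟩
  rw [← e.toLinearEquiv.finrank_eq, Module.finrank_baseChange]

/-- `FiniteOfDegLE` descends along base change by a morphism of spectra of fields. -/
theorem finiteOfDegLE_descend {K k : CommRingCat.{u}} (hK : IsField K) (hk : IsField k)
    {T T' : Scheme.{u}} (p : T ⟶ Spec K) (p' : T' ⟶ Spec k) (ψ : K ⟶ k) (g' : T' ⟶ T)
    (h : IsPullback g' p' p (Spec.map ψ)) (n : ℕ) (hp' : BddFib.FiniteOfDegLE k p' n) :
    BddFib.FiniteOfDegLE K p n := by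
  obtain ⟨haff', hfin', hrank'⟩ := hp'
  let _ : Field K := hK.toField
  let _ : Field k := hk.toField
  -- `Spec.map ψ` is flat and surjective
  have hflat : Flat (Spec.map ψ) := by
    rw [Flat.SpecMap_iff]
    algebraize [ψ.hom]
    exact (RingHom.flat_algebraMap_iff).mpr inferInstance
  have hsurj : Surjective (Spec.map ψ) := by
    constructor
    intro x
    haveI : Nonempty (Spec k) := inferInstanceAs (Nonempty (PrimeSpectrum k))
    obtain ⟨y⟩ := ‹Nonempty (Spec k)›
    exact ⟨y, Subsingleton.elim (α := PrimeSpectrum K) _ _⟩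
  haveI : Flat g' := MorphismProperty.of_isPullback h.flip hflat
  haveI : Surjective g' := MorphismProperty.of_isPullback h.flip hsurj
  -- `T'` is finite discrete
  letI algT' : Algebra k Γ(T', ⊤) := BddFib.secAlgebra k p'
  haveI : Module.Finite k Γ(T', ⊤) := hfin'
  haveI : IsArtinianRing Γ(T', ⊤) := IsArtinianRing.of_finite k Γ(T', ⊤)
  haveI : Finite (PrimeSpectrum Γ(T', ⊤)) := inferInstance
  haveI : DiscreteTopology (PrimeSpectrum Γ(T', ⊤)) := inferInstance
  haveI : Finite T' := Finite.of_equiv _ T'.isoSpec.hom.homeomorph.symm.toEquiv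
  haveI : DiscreteTopology T' := T'.isoSpec.hom.homeomorph.symm.discreteTopology
  haveI : Finite T := Finite.of_surjective g' g'.surjective
  haveI : DiscreteTopology T :=
    Groth.Agent.S7442.discrete_of_generalizing g' g'.surjective (Flat.generalizingMap g')
  have haff : IsAffine T := inferInstance
  -- pushout of rings
  have push := isPushout_appTop_of_isPullback h
  let φ : K ⟶ Γ(T, ⊤) := (Scheme.ΓSpecIso K).inv ≫ p.appTop
  let φ' : k ⟶ Γ(T', ⊤) := (Scheme.ΓSpecIso k).inv ≫ p'.appTop
  let γ : Γ(T, ⊤) ⟶ Γ(T', ⊤) := g'.appTop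
  have push' : IsPushout φ ψ γ φ' := by
    refine push.of_iso (Scheme.ΓSpecIso K) (Iso.refl _) (Scheme.ΓSpecIso k) (Iso.refl _) ?_ ?_ ?_ ?_
    · simp [φ]
    · simp
    · simp [γ]
    · simp [φ']
  algebraize [φ.hom, ψ.hom, γ.hom, φ'.hom, γ.hom.comp φ.hom]
  have : IsScalarTower K k Γ(T', ⊤) := .of_algebraMap_eq' <| congr($(push'.1.1).hom)
  have hpo : Algebra.IsPushout K Γ(T, ⊤) k Γ(T', ⊤) := CommRingCat.isPushout_iff_isPushout.mp push'
  have hfin'' : Module.Finite k Γ(T', ⊤) := hfin'
  obtain ⟨h1, h2⟩ := finite_finrank_descend K Γ(T, ⊤) k Γ(T', ⊤)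
  refine ⟨haff, h1, ?_⟩
  exact h2.le.trans hrank'

end Groth.Agent.Lib.BddFibDescent
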