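import Mathlib.RingTheory.ZariskisMainTheorem
import Mathlib.RingTheory.Artinian.Ring
import Mathlib.RingTheory.TensorProduct.Pi
import Mathlib.LinearAlgebra.TensorProduct.Pi
import Mathlib.LinearAlgebra.Dimension.StrongRankCondition
import Mathlib.LinearAlgebra.Dimension.Free
import Mathlib.RingTheory.Finiteness.Cardinality

set_option autoImplicit false
set_option linter.style.haveILetI false
universe u

open TensorProduct

namespace Groth.Agent.Lib.BddFibQF

/-- A map out of an Artinian ring which becomes "a localization at one element" is surjective. -/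
theorem surjective_of_artinian {k B B' : Type*} [Field k] [CommRing B] [CommRing B']
    [Algebra k B] [Algebra k B'] [Module.Finite k B] (g : B →ₐ[k] B') (b : B)
    (hb : IsUnit (g b)) (h : ∀ x : B', ∃ (m : ℕ) (y : B), x * g b ^ m = g y) :
    Function.Surjective g := by
  haveI : IsArtinianRing B := IsArtinianRing.of_finite k B
  let F : ℕ →o (Ideal B)ᵒᵈ :=
    { toFun := fun m => OrderDual.toDual (Ideal.span {b ^ m})
      monotone' := by
        intro i j hij
        change Ideal.span {b ^ j} ≤ Ideal.span {b ^ i}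
        rw [Ideal.span_singleton_le_span_singleton]
        exact pow_dvd_pow b hij }
  obtain ⟨n, hn⟩ := IsArtinian.monotone_stabilizes F
  have h1 : Ideal.span {b ^ n} = Ideal.span {b ^ (n + 1)} := hn (n + 1) (Nat.le_succ n)
  have h2 : b ^ n ∈ Ideal.span {b ^ (n + 1)} := h1 ▸ Ideal.subset_span rfl
  obtain ⟨c, hc⟩ := Ideal.mem_span_singleton'.mp h2
  -- `g c * g b = 1`
  have h3 : g c * g b = 1 := by
    have : g c * g b * g b ^ n = 1 * g b ^ n := by
      rw [one_mul, mul_assoc, ← pow_succ', ← map_pow, ← map_pow, ← map_mul, hc]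
    exact (hb.pow n).mul_right_cancel this
  intro x
  obtain ⟨m, y, hy⟩ := h x
  refine ⟨y * c ^ m, ?_⟩
  rw [map_mul, map_pow, ← hy, mul_assoc, ← mul_pow, mul_comm (g b), h3, one_pow, mul_one]

section Alg

variable {R S A : Type u} [CommRing R] [CommRing S] [CommRing A] [Algebra R S] [Algebra S A]

/-- From the Zariski main theorem data: every element of the localization `A = S[1/r]` is a
fraction with numerator in the finite subalgebra `S'`. -/
theorem exists_mul_pow_eq (S' : Subalgebra R S) (r : S') [IsLocalization.Away r.1 A]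
    (hbij : Function.Bijective (Localization.awayMap S'.val.toRingHom r)) (a : A) :
    ∃ (m : ℕ) (s' : S'), a * algebraMap S A r.1 ^ m = algebraMap S A s'.1 := by
  haveI : IsLocalization.Away (S'.val.toRingHom r) A := ‹IsLocalization.Away r.1 A›
  let ν : Localization.Away (S'.val.toRingHom r) ≃ₐ[S] A :=
    IsLocalization.algEquiv (Submonoid.powers (S'.val.toRingHom r))
      (Localization.Away (S'.val.toRingHom r)) A
  let Θ : Localization.Away r →+* A :=
    ν.toAlgHom.toRingHom.comp (Localization.awayMap S'.val.toRingHom r)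
  have hΘsurj : Function.Surjective Θ := ν.surjective.comp hbij.2
  obtain ⟨w, hw⟩ := hΘsurj a
  obtain ⟨⟨s'', ⟨_, i, rfl⟩⟩, hs''⟩ := IsLocalization.surj (Submonoid.powers r) w
  refine ⟨i, s'', ?_⟩
  have h2 : ∀ y : S', Θ (algebraMap S' _ y) = algebraMap S A y.1 := by
    intro y
    have : Localization.awayMap S'.val.toRingHom r (algebraMap S' _ y) =
        algebraMap S (Localization.Away (S'.val.toRingHom r)) y.1 := by
      unfold Localization.awayMap IsLocalization.Away.map
      rw [IsLocalization.map_eq]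
      rfl
    change ν (Localization.awayMap S'.val.toRingHom r (algebraMap S' _ y)) = _
    rw [this, AlgEquiv.commutes]
  have hs3 : w * algebraMap S' (Localization.Away r) (r ^ i) =
      algebraMap S' (Localization.Away r) s'' := hs''
  have h1 : Θ (w * algebraMap S' _ (r ^ i)) = Θ (algebraMap S' _ s'') := by rw [hs3]
  rw [map_mul, hw, h2, h2] at h1
  rw [← h1]
  simp

/-- Fibre dimension bound from Zariski main theorem data. -/
theorem fibre_bound [Algebra R A] [IsScalarTower R S A] (S' : Subalgebra R S) (hS' : S'.toSubmodule.FG) (r : S')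
    [IsLocalization.Away r.1 A]
    (hbij : Function.Bijective (Localization.awayMap S'.val.toRingHom r)) :
    ∃ N : ℕ, ∀ (k : Type u) [Field k] [Algebra R k],
      Module.Finite k (k ⊗[R] A) ∧ Module.finrank k (k ⊗[R] A) ≤ N := by
  haveI : Module.Finite R S' := ⟨(Submodule.fg_top _).mpr hS'⟩
  obtain ⟨N, φ, hφ⟩ := Module.Finite.exists_fin' R S'
  refine ⟨N, fun k _ _ => ?_⟩
  let θ : S' →ₐ[R] A := (IsScalarTower.toAlgHom R S A).comp S'.val
  have hθ : ∀ y : S', θ y = algebraMap S A y.1 := fun y => rfl
  let g : k ⊗[R] S' →ₐ[k] k ⊗[R] A := Algebra.TensorProduct.map (AlgHom.id k k) θ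
  have hg : ∀ (c : k) (y : S'), g (c ⊗ₜ y) = c ⊗ₜ θ y := fun c y => by simp [g]
  let b : k ⊗[R] S' := 1 ⊗ₜ r
  have hgb : g b = 1 ⊗ₜ algebraMap S A r.1 := by rw [hg, hθ]
  have hunit : IsUnit (g b) := by
    rw [hgb]
    have : IsUnit (algebraMap S A r.1) := IsLocalization.Away.algebraMap_isUnit r.1
    exact this.map (Algebra.TensorProduct.includeRight : A →ₐ[R] k ⊗[R] A)
  have hfrac : ∀ x : k ⊗[R] A, ∃ (m : ℕ) (y : k ⊗[R] S'), x * g b ^ m = g y := by
    intro x
    induction x using TensorProduct.induction_on with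
    | zero => exact ⟨0, 0, by simp⟩
    | tmul c a =>
      obtain ⟨m, s', hs'⟩ := exists_mul_pow_eq S' r hbij a
      refine ⟨m, c ⊗ₜ s', ?_⟩
      rw [hgb, hg, hθ, Algebra.TensorProduct.tmul_pow, Algebra.TensorProduct.tmul_mul_tmul,
        one_pow, mul_one, hs']
    | add x₁ x₂ h₁ h₂ =>
      obtain ⟨m₁, y₁, e₁⟩ := h₁
      obtain ⟨m₂, y₂, e₂⟩ := h₂
      refine ⟨m₁ + m₂, y₁ * b ^ m₂ + y₂ * b ^ m₁, ?_⟩
      rw [map_add, map_mul, map_mul, map_pow, map_pow, ← e₁, ← e₂]
      ring
  have hsurj : Function.Surjective g := surjective_of_artinian g b hunit hfrac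
  -- dimension of `k ⊗ S'`
  let ψ : (Fin N → k) →ₗ[k] k ⊗[R] S' :=
    (LinearMap.baseChange k φ).comp (TensorProduct.piScalarRight R k k (Fin N)).symm.toLinearMap
  have hψ : Function.Surjective ψ := by
    have h1 : Function.Surjective (LinearMap.baseChange k φ) :=
      LinearMap.lTensor_surjective k hφ
    have h2 : Function.Surjective (TensorProduct.piScalarRight R k k (Fin N)).symm :=
      LinearEquiv.surjective _
    intro z
    obtain ⟨z₁, rfl⟩ := h1 z
    obtain ⟨z₂, rfl⟩ := h2 z₁
    exact ⟨z₂, rfl⟩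
  have hfinB : Module.Finite k (k ⊗[R] S') := inferInstance
  have hrankB : Module.finrank k (k ⊗[R] S') ≤ N := by
    have := LinearMap.finrank_le_finrank_of_surjective hψ
    simpa using this
  refine ⟨Module.Finite.of_surjective g.toLinearMap hsurj, ?_⟩
  exact (LinearMap.finrank_le_finrank_of_surjective (f := g.toLinearMap) hsurj).trans hrankB

end Alg

/-- Zariski's main theorem gives, around each prime of a quasi-finite algebra of finite type, a
principal open on which the fibre degrees are bounded. -/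
theorem exists_fibre_bound_of_quasiFiniteAt {R S : Type u} [CommRing R] [CommRing S] [Algebra R S]
    [Algebra.FiniteType R S] (p : Ideal S) [p.IsPrime] [Algebra.QuasiFiniteAt R p] :
    ∃ (r : S) (N : ℕ), r ∉ p ∧ ∀ (A : Type u) [CommRing A] [Algebra S A] [Algebra R A]
      [IsScalarTower R S A] [IsLocalization.Away r A] (k : Type u) [Field k] [Algebra R k],
      Module.Finite k (k ⊗[R] A) ∧ Module.finrank k (k ⊗[R] A) ≤ N := by
  obtain ⟨S', hS', r, hrp, hbij⟩ :=
    Algebra.QuasiFiniteAt.exists_fg_and_exists_notMem_and_awayMap_bijective (R := R) p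
  -- a uniform bound: use the model `A = Localization.Away r.1`
  haveI : Module.Finite R S' := ⟨(Submodule.fg_top _).mpr hS'⟩
  obtain ⟨N, hN⟩ := fibre_bound (A := Localization.Away r.1) S' hS' r hbij
  refine ⟨r.1, N, hrp, ?_⟩
  intro A _ _ _ _ _ k _ _
  let e : Localization.Away r.1 ≃ₐ[R] A :=
    (IsLocalization.algEquiv (Submonoid.powers r.1) (Localization.Away r.1) A).restrictScalars R
  let E : k ⊗[R] Localization.Away r.1 ≃ₐ[k] k ⊗[R] A :=
    Algebra.TensorProduct.congr AlgEquiv.refl e
  obtain ⟨h1, h2⟩ := hN k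
  exact ⟨Module.Finite.equiv E.toLinearEquiv, E.toLinearEquiv.finrank_eq ▸ h2⟩

end Groth.Agent.Lib.BddFibQF
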