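import Mathlib

/-!
# Bertini57a (helper57): algebraic vs purely transcendental linear disjointness; finiteness of the
algebraic part of a finitely generated field extension.
-/
set_option autoImplicit false
set_option linter.style.haveILetI false

namespace Groth.Agent.Lib.Bertini57a

open IntermediateField

section LD

variable {F Ω : Type*} [Field F] [Field Ω] [Algebra F Ω]

/-- Elements algebraic over `F` that are `F`-linearly independent stay linearly independent over the purely
transcendental extension `F(T)`. -/
theorem linearIndependent_adjoin_of_algebraicIndependent {ι : Type*} (T : ι → Ω)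
    (hT : AlgebraicIndependent F T) {κ : Type*} (e : κ → Ω) (he : ∀ i, IsAlgebraic F (e i))
    (hli : LinearIndependent F e) :
    LinearIndependent ↥(IntermediateField.adjoin F (Set.range T)) e := by
  classical
  -- the algebraic field generated by the `e i`
  let E' : IntermediateField F Ω := IntermediateField.adjoin F (Set.range e)
  haveI hE'alg : Algebra.IsAlgebraic F ↥E' := by
    apply IntermediateField.isAlgebraic_adjoin
    rintro _ ⟨i, rfl⟩
    exact (he i).isIntegral
  have hT' : AlgebraicIndependent ↥E' T := hT.extendScalars ↥E'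
  have heE : ∀ i, e i ∈ E' := fun i => IntermediateField.subset_adjoin F _ ⟨i, rfl⟩
  rw [linearIndependent_iff']
  intro s r hsum i hi
  -- write each coefficient as a fraction
  have hfrac : ∀ j : κ, ∃ P Q : MvPolynomial ι F, MvPolynomial.aeval T Q ≠ 0 ∧
      ((r j : ↥(IntermediateField.adjoin F (Set.range T))) : Ω) =
        MvPolynomial.aeval T P / MvPolynomial.aeval T Q := by
    intro j
    obtain ⟨P, Q, h⟩ := (IntermediateField.mem_adjoin_range_iff F T _).mp (r j).2
    by_cases hQ : MvPolynomial.aeval T Q = 0
    · refine ⟨0, 1, by simp, ?_⟩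
      rw [h, hQ, div_zero, map_zero, zero_div]
    · exact ⟨P, Q, hQ, h⟩
  choose P Q hQ hPQ using hfrac
  -- common denominator
  let D : MvPolynomial ι F := ∏ j ∈ s, Q j
  have hD : MvPolynomial.aeval T D ≠ 0 := by
    rw [map_prod]
    exact Finset.prod_ne_zero_iff.mpr (fun j _ => hQ j)
  let P' : κ → MvPolynomial ι F := fun j => P j * ∏ l ∈ s.erase j, Q l
  have hP' : ∀ j ∈ s, MvPolynomial.aeval T (P' j) =
      ((r j : ↥(IntermediateField.adjoin F (Set.range T))) : Ω) * MvPolynomial.aeval T D := by
    intro j hj
    have : D = Q j * ∏ l ∈ s.erase j, Q l := (Finset.mul_prod_erase s Q hj).symm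
    rw [this, hPQ j, map_mul, map_mul]
    field_simp [hQ j]
  -- the relation with polynomial coefficients
  have hrel : ∑ j ∈ s, MvPolynomial.aeval T (P' j) * e j = 0 := by
    have h1 : ∑ j ∈ s, MvPolynomial.aeval T (P' j) * e j =
        MvPolynomial.aeval T D * ∑ j ∈ s, (r j) • e j := by
      rw [Finset.mul_sum]
      apply Finset.sum_congr rfl
      intro j hj
      rw [hP' j hj, IntermediateField.smul_def, smul_eq_mul]
      ring
    rw [h1, hsum, mul_zero]
  -- the polynomial over `E'`
  let G : MvPolynomial ι ↥E' :=
    ∑ j ∈ s, MvPolynomial.C (⟨e j, heE j⟩ : ↥E') * (P' j).map (algebraMap F ↥E')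
  have hG : MvPolynomial.aeval T G = 0 := by
    simp only [G, map_sum, map_mul, MvPolynomial.aeval_C]
    rw [← hrel]
    apply Finset.sum_congr rfl
    intro j _
    rw [mul_comm]
    congr 1
    rw [MvPolynomial.aeval_map_algebraMap]
  have hG0 : G = 0 := by
    have := hT'
    rw [algebraicIndependent_iff_injective_aeval] at this
    exact this (by rw [hG, map_zero])
  -- coefficientwise
  have hcoef : ∀ μ : ι →₀ ℕ, ∀ j ∈ s, (P' j).coeff μ = 0 := by
    intro μ
    have h2 : G.coeff μ = 0 := by rw [hG0, MvPolynomial.coeff_zero]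
    simp only [G, MvPolynomial.coeff_sum, MvPolynomial.coeff_C_mul, MvPolynomial.coeff_map] at h2
    have h3 : ∑ j ∈ s, ((P' j).coeff μ) • e j = 0 := by
      have h4 := congrArg (fun z : ↥E' => (z : Ω)) h2
      simp only [AddSubmonoidClass.coe_finsetSum, ZeroMemClass.coe_zero, MulMemClass.coe_mul] at h4
      rw [← h4]
      apply Finset.sum_congr rfl
      intro j _
      rw [Algebra.smul_def, mul_comm]
      rfl
    exact linearIndependent_iff'.mp hli s (fun j => (P' j).coeff μ) h3
  have hP'0 : P' i = 0 := by
    ext μ
    rw [hcoef μ i hi, MvPolynomial.coeff_zero]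
  have h5 := hP' i hi
  rw [hP'0, map_zero] at h5
  have h6 : ((r i : ↥(IntermediateField.adjoin F (Set.range T))) : Ω) = 0 := by
    rcases mul_eq_zero.mp h5.symm with h | h
    · exact h
    · exact absurd h hD
  exact Subtype.ext h6

end LD

section Fin

variable {F Ω : Type*} [Field F] [Field Ω] [Algebra F Ω]

/-- In a finitely generated field extension `Ω/F`, every intermediate field algebraic over `F` is finite
over `F`. -/
theorem finiteDimensional_of_isAlgebraic_of_essFiniteType [Algebra.EssFiniteType F Ω]
    (E : IntermediateField F Ω) [Algebra.IsAlgebraic F ↥E] : FiniteDimensional F ↥E := by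
  classical
  obtain ⟨T, hT⟩ := exists_isTranscendenceBasis F Ω
  let Ft : IntermediateField F Ω := IntermediateField.adjoin F (Set.range ((↑) : T → Ω))
  haveI : Algebra.IsAlgebraic ↥Ft Ω := hT.isAlgebraic_field
  haveI : Algebra.EssFiniteType ↥Ft Ω := Algebra.EssFiniteType.of_comp F ↥Ft Ω
  haveI : Module.Finite ↥Ft Ω := Algebra.finite_of_essFiniteType_of_isAlgebraic
  by_contra hnfd
  obtain ⟨L, hLfin, hLt⟩ :=
    IntermediateField.exists_lt_finrank_of_infinite_dimensional hnfd (Module.finrank ↥Ft Ω)
  let b := Module.finBasis F ↥L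
  let e : Fin (Module.finrank F ↥L) → Ω := fun i => ((b i : ↥L) : ↥E)
  have he : ∀ i, IsAlgebraic F (e i) := by
    intro i
    have h1 : IsAlgebraic F (((b i : ↥L) : ↥E)) := Algebra.IsAlgebraic.isAlgebraic _
    exact h1.algebraMap (A := Ω)
  have hli : LinearIndependent F e := by
    have h1 : LinearIndependent F (fun i => (b i : ↥L)) := b.linearIndependent
    have h2 : LinearIndependent F (fun i => ((b i : ↥L) : ↥E)) :=
      h1.map' (L.val.toLinearMap) (LinearMap.ker_eq_bot.mpr L.val.injective)
    exact h2.map' (E.val.toLinearMap) (LinearMap.ker_eq_bot.mpr E.val.injective)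
  have hli' := linearIndependent_adjoin_of_algebraicIndependent ((↑) : T → Ω) hT.1 e he hli
  have hcard := hli'.fintype_card_le_finrank
  rw [Fintype.card_fin] at hcard
  exact absurd hcard (not_le.mpr hLt)

end Fin

end Groth.Agent.Lib.Bertini57a
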