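import Mathlib

set_option autoImplicit false
set_option linter.style.haveILetI false

namespace Groth.Agent.Lib.Bertini57b

open Polynomial

section Spec

universe u v
variable {L : Type u} {Ω : Type v} [Field L] [Field Ω] [Algebra L Ω]

/-- Specialization at `X = c` of rational functions in a transcendental `s` that are regular at `c`:
an abstract ring `O` (the local ring of the line at `c`) with an injective map to `Ω` and an evaluation
map to `L`. -/
theorem exists_specialization (s : Ω) (hs : Transcendental L s) (c : L) :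
    ∃ (O : Type u) (_ : CommRing O) (j : L[X] →+* O) (ι : O →+* Ω) (ev : O →+* L),
      Function.Injective ι ∧ (∀ f : L[X], ι (j f) = aeval s f) ∧ (∀ f : L[X], ev (j f) = f.eval c) ∧
      (∀ P Q : L[X], Q.eval c ≠ 0 → ∃ z : O, ι z = aeval s P / aeval s Q) := by
  classical
  have hinj : Function.Injective (aeval s : L[X] →ₐ[L] Ω) :=
    transcendental_iff_injective.mp hs
  let I : Ideal L[X] := Ideal.span {X - C c}
  haveI hI : I.IsPrime := by
    rw [Ideal.span_singleton_prime (X_sub_C_ne_zero c)]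
    exact prime_X_sub_C c
  have hmem : ∀ f : L[X], f ∈ I ↔ f.eval c = 0 := by
    intro f
    rw [Ideal.mem_span_singleton, dvd_iff_isRoot, IsRoot.def]
  let O := Localization.AtPrime I
  have hu1 : ∀ y : I.primeCompl, IsUnit ((aeval s : L[X] →ₐ[L] Ω).toRingHom y) := by
    intro y
    apply IsUnit.mk0
    intro h0
    have : (y : L[X]) = 0 := hinj (by rw [map_zero]; exact h0)
    exact y.2 (by rw [this]; exact I.zero_mem)
  have hu2 : ∀ y : I.primeCompl, IsUnit ((evalRingHom c) y) := by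
    intro y
    apply IsUnit.mk0
    intro h0
    exact y.2 ((hmem _).mpr h0)
  let ι : O →+* Ω := IsLocalization.lift (M := I.primeCompl) hu1
  let ev : O →+* L := IsLocalization.lift (M := I.primeCompl) hu2
  refine ⟨O, inferInstance, algebraMap L[X] O, ι, ev, ?_, ?_, ?_, ?_⟩
  · rw [IsLocalization.lift_injective_iff]
    intro x y
    rw [IsLocalization.eq_iff_exists I.primeCompl]
    constructor
    · rintro ⟨c', hc'⟩
      have hc0 : (c' : L[X]) ≠ 0 := fun h => c'.2 (by rw [h]; exact I.zero_mem)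
      exact congrArg _ (mul_left_cancel₀ hc0 hc')
    · intro h
      exact ⟨1, by rw [hinj h]⟩
  · intro f
    exact IsLocalization.lift_eq hu1 f
  · intro f
    exact IsLocalization.lift_eq hu2 f
  · intro P Q hQ
    have hQ' : Q ∈ I.primeCompl := fun h => hQ ((hmem _).mp h)
    refine ⟨IsLocalization.mk' O P ⟨Q, hQ'⟩, ?_⟩
    have hQs : (aeval s : L[X] →ₐ[L] Ω) Q ≠ 0 := by
      intro h0
      have : Q = 0 := hinj (by rw [map_zero]; exact h0)
      exact hQ (by rw [this, eval_zero])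
    rw [IsLocalization.lift_mk'_spec]
    show (aeval s) P = (aeval s) Q * ((aeval s) P / (aeval s) Q)
    rw [mul_div_cancel₀ _ hQs]

end Spec


section Clear

universe u v
variable {F : Type u} {Ω : Type v} [Field F] [Field Ω] [Algebra F Ω]

/-- The map `F[X] → F(s)`, `X ↦ s`. -/
noncomputable def phi (F : Type u) {Ω : Type v} [Field F] [Field Ω] [Algebra F Ω] (s : Ω) :
    F[X] →+* ↥(IntermediateField.adjoin F {s}) :=
  ((aeval (IntermediateField.AdjoinSimple.gen F s) : F[X] →ₐ[F] ↥(IntermediateField.adjoin F {s})) :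
    F[X] →+* ↥(IntermediateField.adjoin F {s}))

theorem coe_phi (s : Ω) (f : F[X]) : ((phi F s f : ↥(IntermediateField.adjoin F {s})) : Ω) = aeval s f := by
  have h := Polynomial.aeval_algebraMap_apply (A := ↥(IntermediateField.adjoin F {s})) Ω
    (IntermediateField.AdjoinSimple.gen F s) f
  rw [IntermediateField.AdjoinSimple.algebraMap_gen] at h
  exact h.symm

theorem phi_ne_zero (s : Ω) (f : F[X]) (h : aeval s f ≠ 0) : phi F s f ≠ 0 := by
  intro h0
  apply h
  rw [← coe_phi, h0]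
  rfl

/-- Clearing denominators of a polynomial with coefficients in `F(s)`. -/
theorem exists_clear_denominators (s : Ω) (q : Polynomial ↥(IntermediateField.adjoin F {s})) :
    ∃ (d : F[X]) (p : Polynomial F[X]), aeval s d ≠ 0 ∧ p.map (phi F s) = C (phi F s d) * q := by
  induction q using Polynomial.induction_on' with
  | add q₁ q₂ h₁ h₂ =>
    obtain ⟨d₁, p₁, hd₁, hp₁⟩ := h₁
    obtain ⟨d₂, p₂, hd₂, hp₂⟩ := h₂
    refine ⟨d₁ * d₂, C d₂ * p₁ + C d₁ * p₂, ?_, ?_⟩
    · rw [map_mul]; exact mul_ne_zero hd₁ hd₂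
    · rw [Polynomial.map_add, Polynomial.map_mul, Polynomial.map_mul, hp₁, hp₂, Polynomial.map_C,
        Polynomial.map_C, map_mul, map_mul]
      ring
  | monomial n a =>
    obtain ⟨P, Q, hPQ⟩ := (IntermediateField.mem_adjoin_simple_iff F _).mp a.2
    by_cases hQ : aeval s Q = 0
    · refine ⟨1, 0, by simp, ?_⟩
      have ha : a = 0 := by
        apply Subtype.ext
        rw [hPQ, hQ, div_zero]
        rfl
      rw [ha]
      simp
    · refine ⟨Q, monomial n P, hQ, ?_⟩
      rw [Polynomial.map_monomial, C_mul_monomial]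
      congr 1
      apply Subtype.ext
      rw [MulMemClass.coe_mul, coe_phi, coe_phi, hPQ, mul_div_cancel₀ _ hQ]

end Clear


section Main

universe u v
variable {F : Type u} {Ω : Type v} [Field F] [Field Ω] [Algebra F Ω]

theorem eval₂_map_phi (s θ : Ω) (p : Polynomial F[X]) :
    eval₂ (algebraMap ↥(IntermediateField.adjoin F {s}) Ω) θ (p.map (phi F s)) =
      eval₂ ((aeval s : F[X] →ₐ[F] Ω) : F[X] →+* Ω) θ p := by
  rw [eval₂_map]
  exact congrArg (fun g => eval₂ g θ p) (RingHom.ext fun f => coe_phi s f)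


/-- Separability certificate with polynomial coefficients. -/
theorem exists_certificate (s θ₁ : Ω) (hsF : Transcendental F s)
    (h₁ : IsSeparable ↥(IntermediateField.adjoin F {s}) θ₁) :
    ∃ (p U V : Polynomial F[X]) (e : F[X]), aeval s e ≠ 0 ∧ U * p + V * derivative p = C e ∧
      eval₂ ((aeval s : F[X] →ₐ[F] Ω) : F[X] →+* Ω) θ₁ p = 0 := by
  have hφinj : Function.Injective (phi F s) := by
    intro f g hfg
    have h1 : aeval s f = aeval s g := by rw [← coe_phi, ← coe_phi, hfg]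
    exact (transcendental_iff_injective.mp hsF) h1
  obtain ⟨a, b, hab⟩ := h₁
  obtain ⟨d, p, hd, hp⟩ := exists_clear_denominators s (minpoly ↥(IntermediateField.adjoin F {s}) θ₁)
  obtain ⟨da, pa, hda, hpa⟩ := exists_clear_denominators s a
  obtain ⟨db, pb, hdb, hpb⟩ := exists_clear_denominators s b
  refine ⟨p, C db * pa, C da * pb, da * db * d, ?_, ?_, ?_⟩
  · simp only [map_mul]
    exact mul_ne_zero (mul_ne_zero hda hdb) hd
  · apply Polynomial.map_injective (phi F s) hφinj
    have hder : (derivative p).map (phi F s) =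
        C (phi F s d) * derivative (minpoly ↥(IntermediateField.adjoin F {s}) θ₁) := by
      rw [← Polynomial.derivative_map, hp, Polynomial.derivative_C_mul]
    simp only [Polynomial.map_add, Polynomial.map_mul, Polynomial.map_C,
      hp, hpa, hpb, map_mul, hder]
    have : a * minpoly ↥(IntermediateField.adjoin F {s}) θ₁ +
        b * derivative (minpoly ↥(IntermediateField.adjoin F {s}) θ₁) = 1 := hab
    linear_combination (C ((phi F s) da) * C ((phi F s) db) * C ((phi F s) d)) * this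
  · rw [← eval₂_map_phi, hp, eval₂_mul, ← aeval_def, ← aeval_def, minpoly.aeval, mul_zero]

/-- `θ₂ ∈ F(s,t,θ₁)` with `θ₁` algebraic over `F(s)`: polynomial expression with cleared denominators. -/
theorem exists_poly_expr (s t θ₁ θ₂ : Ω)
    (h₁ : IsAlgebraic ↥(IntermediateField.adjoin F {s}) θ₁)
    (h21 : θ₂ ∈ IntermediateField.adjoin F {s, t, θ₁}) :
    ∃ (m : (↥(IntermediateField.adjoin F {t}))[X]) (B' : Polynomial (↥(IntermediateField.adjoin F {t}))[X]),
      aeval s m ≠ 0 ∧
      eval₂ ((aeval s : (↥(IntermediateField.adjoin F {t}))[X] →ₐ[↥(IntermediateField.adjoin F {t})] Ω) :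
        (↥(IntermediateField.adjoin F {t}))[X] →+* Ω) θ₁ B' = aeval s m * θ₂ := by
  let Ft : IntermediateField F Ω := IntermediateField.adjoin F {t}
  let Fs : IntermediateField F Ω := IntermediateField.adjoin F {s}
  have htFt : t ∈ Ft := IntermediateField.mem_adjoin_simple_self F t
  let Fst : IntermediateField ↥Ft Ω := IntermediateField.adjoin ↥Ft {s}
  haveI : IsScalarTower F ↥Fst Ω := IsScalarTower.of_algebraMap_eq (fun x => rfl)
  have hθ₁alg : IsAlgebraic ↥Fst θ₁ := by
    have hle : Fs ≤ Fst.restrictScalars F := by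
      rw [IntermediateField.adjoin_le_iff]
      rintro x rfl
      exact IntermediateField.mem_adjoin_simple_self ↥Ft _
    let ρ : ↥Fs →+* ↥Fst :=
      { toFun := fun x => ⟨x.1, hle x.2⟩
        map_one' := rfl
        map_mul' := fun _ _ => rfl
        map_zero' := rfl
        map_add' := fun _ _ => rfl }
    obtain ⟨q, hq0, hq⟩ := h₁
    refine ⟨q.map ρ, Polynomial.map_ne_zero hq0, ?_⟩
    rw [aeval_def, eval₂_map]
    have : (algebraMap ↥Fst Ω).comp ρ = algebraMap ↥Fs Ω := by
      ext x; rfl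
    rw [this, ← aeval_def, hq]
  obtain ⟨B, hB⟩ : ∃ B : (↥Fst)[X], aeval θ₁ B = θ₂ := by
    have hle : IntermediateField.adjoin F {s, t, θ₁} ≤
        (IntermediateField.adjoin ↥Fst {θ₁}).restrictScalars F := by
      rw [IntermediateField.adjoin_le_iff]
      rintro x (rfl | rfl | rfl)
      · exact (IntermediateField.adjoin ↥Fst {θ₁}).algebraMap_mem
          (⟨x, IntermediateField.mem_adjoin_simple_self ↥Ft x⟩ : ↥Fst)
      · exact (IntermediateField.adjoin ↥Fst {θ₁}).algebraMap_mem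
          (algebraMap ↥Ft ↥Fst ⟨x, htFt⟩)
      · exact IntermediateField.mem_adjoin_simple_self ↥Fst _
    have h1 : θ₂ ∈ (IntermediateField.adjoin ↥Fst {θ₁}).toSubalgebra := hle h21
    rw [IntermediateField.adjoin_simple_toSubalgebra_of_isAlgebraic hθ₁alg,
      Algebra.adjoin_singleton_eq_range_aeval] at h1
    exact h1
  obtain ⟨m, B', hm, hB'⟩ := exists_clear_denominators (F := ↥Ft) s B
  refine ⟨m, B', hm, ?_⟩
  rw [← eval₂_map_phi, hB', eval₂_mul, eval₂_C, ← aeval_def, hB]
  congr 1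
  exact coe_phi s m

/-- `θ₁ ∈ F(s,t,θ₂)` is a rational function in `s` over `L2 = F(t)(θ₂)`. -/
theorem exists_ratfunc_expr (s t θ₁ θ₂ : Ω)
    (h12 : θ₁ ∈ IntermediateField.adjoin F {s, t, θ₂}) :
    ∃ P Q : (↥(IntermediateField.adjoin ↥(IntermediateField.adjoin F {t}) {θ₂}))[X],
      aeval s Q ≠ 0 ∧ θ₁ = aeval s P / aeval s Q := by
  let Ft : IntermediateField F Ω := IntermediateField.adjoin F {t}
  let L2 : IntermediateField ↥Ft Ω := IntermediateField.adjoin ↥Ft {θ₂}
  haveI : IsScalarTower F ↥L2 Ω := IsScalarTower.of_algebraMap_eq (fun x => rfl)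
  have htFt : t ∈ Ft := IntermediateField.mem_adjoin_simple_self F t
  have hθ₂L : θ₂ ∈ L2 := IntermediateField.mem_adjoin_simple_self ↥Ft θ₂
  have ha : θ₁ ∈ IntermediateField.adjoin ↥L2 {s} := by
    have hle : IntermediateField.adjoin F {s, t, θ₂} ≤
        (IntermediateField.adjoin ↥L2 {s}).restrictScalars F := by
      rw [IntermediateField.adjoin_le_iff]
      rintro x (rfl | rfl | rfl)
      · exact IntermediateField.mem_adjoin_simple_self ↥L2 _
      · exact (IntermediateField.adjoin ↥L2 {s}).algebraMap_mem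
          (algebraMap ↥Ft ↥L2 ⟨x, htFt⟩)
      · exact (IntermediateField.adjoin ↥L2 {s}).algebraMap_mem (⟨x, hθ₂L⟩ : ↥L2)
    exact hle h12
  obtain ⟨P, Q, hPQ⟩ := (IntermediateField.mem_adjoin_simple_iff ↥L2 _).mp ha
  by_cases hQ : aeval s Q = 0
  · refine ⟨0, 1, by simp, ?_⟩
    rw [hPQ, hQ, div_zero, map_zero, zero_div]
  · exact ⟨P, Q, hQ, hPQ⟩

/-- **Two-direction lemma.** If `θ₁` is separable algebraic over `F(s)`, `θ₂` is algebraic over `F(t)`,
`s` is transcendental over `F(t)`, and `θ₁`, `θ₂` generate the same extension of `F(s,t)`, then (when `F` is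
infinite and separably closed in `Ω`) `θ₂ ∈ F(t)`. -/
theorem mem_adjoin_of_two_directions [Infinite F]
    (hsc : ∀ y : Ω, IsSeparable F y → y ∈ (algebraMap F Ω).range)
    (s t θ₁ θ₂ : Ω)
    (hs : Transcendental ↥(IntermediateField.adjoin F {t}) s)
    (h₁ : IsSeparable ↥(IntermediateField.adjoin F {s}) θ₁)
    (h₂ : IsAlgebraic ↥(IntermediateField.adjoin F {t}) θ₂)
    (h12 : θ₁ ∈ IntermediateField.adjoin F {s, t, θ₂})
    (h21 : θ₂ ∈ IntermediateField.adjoin F {s, t, θ₁}) :
    θ₂ ∈ IntermediateField.adjoin F {t} := by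
  classical
  let Ft : IntermediateField F Ω := IntermediateField.adjoin F {t}
  let L2 : IntermediateField ↥Ft Ω := IntermediateField.adjoin ↥Ft {θ₂}
  haveI : Algebra.IsAlgebraic ↥Ft ↥L2 := IntermediateField.isAlgebraic_adjoin_simple h₂.isIntegral
  haveI : IsScalarTower F ↥L2 Ω := IsScalarTower.of_algebraMap_eq (fun x => rfl)
  have hsL : Transcendental ↥L2 s := hs.extendScalars ↥L2
  have hsF : Transcendental F s := hs.restrictScalars (algebraMap F ↥Ft).injective
  have hθ₂L : θ₂ ∈ L2 := IntermediateField.mem_adjoin_simple_self ↥Ft θ₂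
  let θ₂' : ↥L2 := ⟨θ₂, hθ₂L⟩
  obtain ⟨P, Q, hQs, hPQ⟩ := exists_ratfunc_expr s t θ₁ θ₂ h12
  have hQ0 : Q ≠ 0 := fun h => hQs (by rw [h, map_zero])
  obtain ⟨p, U, V, e, he, hcert, hp0⟩ := exists_certificate s θ₁ hsF h₁
  obtain ⟨m, B', hm, hB'0⟩ := exists_poly_expr s t θ₁ θ₂ h₁.isIntegral.isAlgebraic h21
  have hm0 : m ≠ 0 := fun h => hm (by rw [h, map_zero])
  have he0 : e ≠ 0 := fun h => he (by rw [h, map_zero])
  have hs₀t : ∀ s₀ : F, algebraMap F ↥L2 s₀ = algebraMap ↥Ft ↥L2 (algebraMap F ↥Ft s₀) :=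
    fun s₀ => rfl
  -- choice of the specialization point
  obtain ⟨s₀, hs₀⟩ : ∃ s₀ : F, ((e.map (algebraMap F ↥L2)) * (m.map (algebraMap ↥Ft ↥L2)) * Q).eval
      (algebraMap F ↥L2 s₀) ≠ 0 := by
    by_contra hcon
    push Not at hcon
    have hPi : (e.map (algebraMap F ↥L2)) * (m.map (algebraMap ↥Ft ↥L2)) * Q ≠ 0 :=
      mul_ne_zero (mul_ne_zero (Polynomial.map_ne_zero he0) (Polynomial.map_ne_zero hm0)) hQ0
    apply hPi
    apply Polynomial.eq_zero_of_infinite_isRoot
    apply Set.Infinite.mono (s := Set.range (algebraMap F ↥L2))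
    · rintro _ ⟨x, rfl⟩
      exact hcon x
    · exact Set.infinite_range_of_injective (algebraMap F ↥L2).injective
  rw [eval_mul, eval_mul] at hs₀
  have hs₀e : e.eval s₀ ≠ 0 := by
    intro h0
    apply hs₀
    rw [Polynomial.eval_map, Polynomial.eval₂_at_apply, h0, map_zero, zero_mul, zero_mul]
  have hs₀m : m.eval (algebraMap F ↥Ft s₀) ≠ 0 := by
    intro h0
    apply hs₀
    rw [hs₀t, Polynomial.eval_map (algebraMap ↥Ft ↥L2), Polynomial.eval₂_at_apply, h0, map_zero,
      mul_zero, zero_mul]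
  have hs₀Q : Q.eval (algebraMap F ↥L2 s₀) ≠ 0 := fun h0 => hs₀ (by rw [h0, mul_zero])
  -- specialize
  obtain ⟨O, _, j, ι, ev, hιinj, hιj, hevj, hex⟩ :=
    exists_specialization (L := ↥L2) s hsL (algebraMap F ↥L2 s₀)
  obtain ⟨z₁, hz₁⟩ := hex P Q hs₀Q
  rw [← hPQ] at hz₁
  let jF : F[X] →+* O := j.comp (mapRingHom (algebraMap F ↥L2))
  let jT : (↥Ft)[X] →+* O := j.comp (mapRingHom (algebraMap ↥Ft ↥L2))
  have hιjF : ι.comp jF = ((aeval s : F[X] →ₐ[F] Ω) : F[X] →+* Ω) := by
    apply RingHom.ext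
    intro f
    show ι (j (f.map (algebraMap F ↥L2))) = aeval s f
    rw [hιj, Polynomial.aeval_map_algebraMap]
  have hιjT : ι.comp jT = ((aeval s : (↥Ft)[X] →ₐ[↥Ft] Ω) : (↥Ft)[X] →+* Ω) := by
    apply RingHom.ext
    intro f
    show ι (j (f.map (algebraMap ↥Ft ↥L2))) = aeval s f
    rw [hιj, Polynomial.aeval_map_algebraMap]
  have hevjF : ev.comp jF = (algebraMap F ↥L2).comp (evalRingHom s₀) := by
    apply RingHom.ext
    intro f
    show ev (j (f.map (algebraMap F ↥L2))) = algebraMap F ↥L2 (f.eval s₀)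
    rw [hevj, Polynomial.eval_map, Polynomial.eval₂_at_apply]
  have hevjT : ev.comp jT = (algebraMap ↥Ft ↥L2).comp (evalRingHom (algebraMap F ↥Ft s₀)) := by
    apply RingHom.ext
    intro f
    show ev (j (f.map (algebraMap ↥Ft ↥L2))) = algebraMap ↥Ft ↥L2 (f.eval (algebraMap F ↥Ft s₀))
    rw [hevj, hs₀t, Polynomial.eval_map, Polynomial.eval₂_at_apply]
  let β : ↥L2 := ev z₁
  -- key1
  have key1 : eval₂ jF z₁ p = 0 := by
    apply hιinj
    rw [Polynomial.hom_eval₂, hιjF, hz₁, hp0, map_zero]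
  have key1' : eval₂ ((algebraMap F ↥L2).comp (evalRingHom s₀)) β p = 0 := by
    have := congrArg ev key1
    rwa [Polynomial.hom_eval₂, hevjF, map_zero] at this
  let p₀ : F[X] := p.map (evalRingHom s₀)
  have hp₀β : aeval β p₀ = 0 := by
    rw [aeval_def, eval₂_map]; exact key1'
  have hp₀sep : p₀.Separable := by
    have h1 : U.map (evalRingHom s₀) * p₀ + V.map (evalRingHom s₀) * derivative p₀ =
        C (e.eval s₀) := by
      have := congrArg (Polynomial.map (evalRingHom s₀)) hcert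
      rw [Polynomial.map_add, Polynomial.map_mul, Polynomial.map_mul, Polynomial.map_C,
        ← Polynomial.derivative_map] at this
      exact this
    refine ⟨C (e.eval s₀)⁻¹ * U.map (evalRingHom s₀), C (e.eval s₀)⁻¹ * V.map (evalRingHom s₀), ?_⟩
    have h2 : C (e.eval s₀)⁻¹ * C (e.eval s₀) = (1 : F[X]) := by
      rw [← C_mul, inv_mul_cancel₀ hs₀e, C_1]
    rw [← h2, ← h1]
    ring
  have hβsep : IsSeparable F ((β : ↥L2) : Ω) := by
    have h0 : aeval ((β : ↥L2) : Ω) p₀ = 0 := by
      have := congrArg (algebraMap ↥L2 Ω) hp₀β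
      rwa [← Polynomial.aeval_algebraMap_apply, map_zero] at this
    exact hp₀sep.of_dvd (minpoly.dvd F _ h0)
  obtain ⟨b₀, hb₀⟩ := hsc _ hβsep
  have hβeq : β = algebraMap ↥Ft ↥L2 (algebraMap F ↥Ft b₀) := by
    apply Subtype.ext
    rw [← hb₀]
    rfl
  -- key2
  have key2 : eval₂ jT z₁ B' = jT m * j (C θ₂') := by
    apply hιinj
    rw [Polynomial.hom_eval₂, hιjT, hz₁, hB'0, map_mul, ← RingHom.comp_apply, hιjT, hιj, aeval_C]
    rfl
  have key2' : eval₂ ((algebraMap ↥Ft ↥L2).comp (evalRingHom (algebraMap F ↥Ft s₀))) β B' =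
      algebraMap ↥Ft ↥L2 (m.eval (algebraMap F ↥Ft s₀)) * θ₂' := by
    have := congrArg ev key2
    rw [Polynomial.hom_eval₂, hevjT, map_mul, ← RingHom.comp_apply, hevjT, hevj, eval_C] at this
    exact this
  rw [hβeq, ← eval₂_map, Polynomial.eval₂_at_apply] at key2'
  -- conclude
  set w : ↥Ft := ((B'.map (evalRingHom (algebraMap F ↥Ft s₀))).eval (algebraMap F ↥Ft b₀)) /
        (m.eval (algebraMap F ↥Ft s₀)) with hw
  have hfin : θ₂' = algebraMap ↥Ft ↥L2 w := by
    rw [hw, map_div₀, key2', mul_comm, mul_div_assoc, div_self, mul_one]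
    exact fun h => hs₀m ((algebraMap ↥Ft ↥L2).injective (by rw [h, map_zero]))
  have h3 : θ₂ = ((w : ↥Ft) : Ω) := congrArg (fun z : ↥L2 => (z : Ω)) hfin
  rw [h3]
  exact w.2

end Main

end Groth.Agent.Lib.Bertini57b
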