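import Groth.Agent.Lib.H71IrrBound
import Groth.Agent.Lib.H77GeomIrr

/-!
# H71IrrFibre: irreducible components of X_Ω versus fibres over generic points (helper71)

For f : X ⟶ Spec k, a field extension Ω/k and π : X_Ω ⟶ X:
* preimage_closure_singleton: π⁻¹(closure {ξ}) = closure (π⁻¹ {ξ});
* preimage_singleton_eq_range: π⁻¹ {ιx pt} is the image of Spec K ×_k Spec Ω for a K-point ιx;
* isIrreducible_preimage_closure / irreducibleSpace_fibre_of_isIrreducible_preimage: π⁻¹(closure {ξ}) is
  irreducible iff Spec κ(ξ) ×_k Spec Ω is;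
* finrank_eq_one_of_irreducibleSpace_tensor: L/k finite separable inside K with Spec (K ⊗ L) irreducible ⇒ L = k;
* isIrreducible_preimage_of_sepClosedIn (k separably closed in κ(ξ) ⇒ π⁻¹(closure {ξ}) irreducible for all Ω),
  not_isIrreducible_preimage_of_isSeparable (α ∈ κ(ξ) separable, not in k ⇒ not irreducible for Ω = k(α));
* imageComp : Irr(X_Ω) → Irr(X), surjective; not injective if some π⁻¹(Y) is not irreducible;
* exists_injective_over: the components of X_Ω over closure {ξ} inject into Spec k' ×_k Spec Ω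
  (k' = separable closure of k in K, for a K-point at ξ).
-/

set_option autoImplicit false
universe u
open CategoryTheory CategoryTheory.Limits AlgebraicGeometry TensorProduct

namespace Groth.Agent.Lib.H71IrrFibre

open Groth.Agent.Lib.FieldBC13

variable {k : Type u} [Field k] {X : Scheme.{u}} (f : X ⟶ Spec (CommRingCat.of k))
  (Ω : Type u) [Field Ω] [Algebra k Ω]

/-- The preimage in `X_Ω` of the closure of a point is the closure of the fibre over that point. -/
theorem preimage_closure_singleton (ξ : X) :
    (pullback.fst f (Spec.map (CommRingCat.ofHom (algebraMap k Ω)))) ⁻¹' (closure {ξ}) =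
      closure ((pullback.fst f (Spec.map (CommRingCat.ofHom (algebraMap k Ω)))) ⁻¹' {ξ}) := by
  apply subset_antisymm
  · intro p hp
    have h1 : ξ ⤳ (pullback.fst f (Spec.map (CommRingCat.ofHom (algebraMap k Ω)))) p :=
      specializes_iff_mem_closure.mpr hp
    obtain ⟨ζ, hζp, hζξ⟩ := generalizingMap_fst Ω f h1
    have hsub : ({ζ} : Set _) ⊆ (pullback.fst f (Spec.map (CommRingCat.ofHom (algebraMap k Ω)))) ⁻¹' {ξ} :=
      Set.singleton_subset_iff.mpr hζξ
    exact closure_mono hsub (specializes_iff_mem_closure.mp hζp)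
  · exact (isClosed_closure.preimage
      (pullback.fst f (Spec.map (CommRingCat.ofHom (algebraMap k Ω)))).continuous).closure_subset_iff.mpr
      (Set.preimage_mono subset_closure)

/-- The fibre of `X_Ω → X` over the image of a `K`-point is the image of `Spec K ×_k Spec Ω`. -/
theorem preimage_singleton_eq_range (K : Type u) [Field K] (ιx : Spec (CommRingCat.of K) ⟶ X) :
    (pullback.fst f (Spec.map (CommRingCat.ofHom (algebraMap k Ω)))) ⁻¹' {ιx (IsLocalRing.closedPoint K)} =
      Set.range (mapK Ω f (ιx ≫ f) ιx rfl) := by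
  have hpb := isPullback_mapK Ω f (ιx ≫ f) ιx rfl
  ext p
  constructor
  · intro hp
    obtain ⟨q, hq1, -⟩ := Scheme.exists_preimage_of_isPullback hpb p (IsLocalRing.closedPoint K) hp
    exact ⟨q, hq1⟩
  · rintro ⟨q, rfl⟩
    have h1 : (pullback.fst f (Spec.map (CommRingCat.ofHom (algebraMap k Ω))))
        (mapK Ω f (ιx ≫ f) ιx rfl q) = ιx (pullback.fst (ιx ≫ f) _ q) := by
      rw [← Scheme.Hom.comp_apply, hpb.w, Scheme.Hom.comp_apply]
    have h2 : pullback.fst (ιx ≫ f) (Spec.map (CommRingCat.ofHom (algebraMap k Ω))) q =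
        IsLocalRing.closedPoint K := Subsingleton.elim _ _
    rw [Set.mem_preimage, h1, h2]
    rfl

/-- If `Spec K ×_k Spec Ω` is irreducible, for a `K`-point at `ξ`, then the preimage of `closure {ξ}` in `X_Ω`
is irreducible. -/
theorem isIrreducible_preimage_closure (K : Type u) [Field K] (ιx : Spec (CommRingCat.of K) ⟶ X)
    [IrreducibleSpace ↥(pullback (ιx ≫ f) (Spec.map (CommRingCat.ofHom (algebraMap k Ω))))] :
    IsIrreducible ((pullback.fst f (Spec.map (CommRingCat.ofHom (algebraMap k Ω)))) ⁻¹'
      (closure {ιx (IsLocalRing.closedPoint K)})) := by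
  rw [preimage_closure_singleton, preimage_singleton_eq_range]
  rw [← Set.image_univ]
  exact ((IrreducibleSpace.isIrreducible_univ _).image _
    (mapK Ω f (ιx ≫ f) ιx rfl).continuous.continuousOn).closure

/-- If the preimage of `closure {ξ}` in `X_Ω` is irreducible, then so is the fibre `Spec κ(ξ) ×_k Spec Ω`. -/
theorem irreducibleSpace_fibre_of_isIrreducible_preimage (ξ : X)
    (h : IsIrreducible ((pullback.fst f (Spec.map (CommRingCat.ofHom (algebraMap k Ω)))) ⁻¹' (closure {ξ}))) :
    IrreducibleSpace ↥(pullback (X.fromSpecResidueField ξ ≫ f)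
      (Spec.map (CommRingCat.ofHom (algebraMap k Ω)))) := by
  set π := pullback.fst f (Spec.map (CommRingCat.ofHom (algebraMap k Ω))) with hπ
  have hSc : IsClosed (π ⁻¹' (closure {ξ})) := isClosed_closure.preimage π.continuous
  obtain ⟨η, hη⟩ := QuasiSober.sober h hSc
  obtain ⟨ζ, hζ⟩ := surjective_fst Ω f ξ
  have hζS : ζ ∈ π ⁻¹' (closure {ξ}) := by
    rw [Set.mem_preimage, hζ]; exact subset_closure rfl
  have hηS : η ∈ π ⁻¹' (closure {ξ}) := hη.mem
  have h1 : π η ⤳ ξ := by
    rw [← hζ]
    exact (hη.specializes hζS).map π.continuous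
  have h2 : ξ ⤳ π η := specializes_iff_mem_closure.mpr hηS
  have hπη : π η = ξ := (h1.antisymm h2).eq
  have hfib : IsIrreducible (π ⁻¹' {ξ}) := by
    refine ⟨⟨η, hπη⟩, ?_⟩
    rintro U V hU hV ⟨a, ha, haU⟩ ⟨b, hb, hbV⟩
    have haS : a ∈ π ⁻¹' (closure {ξ}) := by
      rw [Set.mem_preimage, ha]; exact subset_closure rfl
    have hbS : b ∈ π ⁻¹' (closure {ξ}) := by
      rw [Set.mem_preimage, hb]; exact subset_closure rfl
    exact ⟨η, hπη, (hη.specializes haS).mem_open hU haU, (hη.specializes hbS).mem_open hV hbV⟩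
  have h4 : IrreducibleSpace ↥(π ⁻¹' {ξ}) := Subtype.irreducibleSpace hfib
  have h5 : IrreducibleSpace ↥(π.fiber ξ) := (π.fiberHomeo ξ).irreducibleSpace_iff.mpr h4
  have h5' : IrreducibleSpace ↥(pullback π (X.fromSpecResidueField ξ)) := h5
  have h6 : IrreducibleSpace ↥(pullback (X.fromSpecResidueField ξ) π) :=
    Groth.Agent.Lib.H77GeomIrr.irreducibleSpace_of_iso (pullbackSymmetry π (X.fromSpecResidueField ξ))
  exact Groth.Agent.Lib.H77GeomIrr.irreducibleSpace_of_iso
    (pullbackRightPullbackFstIso f (Spec.map (CommRingCat.ofHom (algebraMap k Ω))) (X.fromSpecResidueField ξ))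


/-- If `L/k` is finite separable, embeds in `K`, and `Spec (K ⊗[k] L)` is irreducible, then `L = k`. -/
theorem finrank_eq_one_of_irreducibleSpace_tensor {k K : Type u} [Field k] [Field K] [Algebra k K]
    (L : Type u) [Field L] [Algebra k L] [FiniteDimensional k L] [Algebra.IsSeparable k L]
    (i : L →ₐ[k] K) (hirr : IrreducibleSpace (PrimeSpectrum (K ⊗[k] L))) : Module.finrank k L = 1 := by
  classical
  have hunr : Algebra.FormallyUnramified k L := Algebra.FormallyUnramified.of_isSeparable k L
  have hred : IsReduced (K ⊗[k] L) := Algebra.FormallyUnramified.isReduced_of_field K (K ⊗[k] L)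
  have hN := PrimeSpectrum.irreducibleSpace_iff_isPrime_nilradical.mp hirr
  rw [nilradical_eq_zero] at hN
  have hdom : IsDomain (K ⊗[k] L) := by
    haveI : (⊥ : Ideal (K ⊗[k] L)).IsPrime := hN
    exact IsDomain.of_bot_isPrime _
  let μ : K ⊗[k] L →ₐ[K] K :=
    Algebra.TensorProduct.lift (AlgHom.id K K) i (fun _ _ => Commute.all _ _)
  have hart : IsArtinianRing (K ⊗[k] L) := IsArtinianRing.of_finite K (K ⊗[k] L)
  have hfield : IsField (K ⊗[k] L) := IsArtinianRing.isField_of_isDomain _
  have hμinj : Function.Injective μ := by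
    letI := hfield.toField
    exact μ.toRingHom.injective
  have hfr : Module.finrank K (K ⊗[k] L) ≤ Module.finrank K K :=
    LinearMap.finrank_le_finrank_of_injective (f := μ.toLinearMap) hμinj
  rw [Module.finrank_baseChange, Module.finrank_self] at hfr
  exact le_antisymm hfr Module.finrank_pos


/-- **(5a)** If `k` is separably closed in `κ(ξ)`, the preimage of `closure {ξ}` in `X_Ω` is irreducible for every
field extension `Ω/k`. -/
theorem isIrreducible_preimage_of_sepClosedIn (ξ : X) (φ : k →+* X.residueField ξ)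
    (hφ : Spec.map (CommRingCat.ofHom φ) = X.fromSpecResidueField ξ ≫ f)
    (hsc : ∀ y : X.residueField ξ, (letI := φ.toAlgebra; IsSeparable k y) → y ∈ φ.range) :
    IsIrreducible ((pullback.fst f (Spec.map (CommRingCat.ofHom (algebraMap k Ω)))) ⁻¹' (closure {ξ})) := by
  letI := φ.toAlgebra
  have hgi : GeometricallyIrreducible (Spec.map (CommRingCat.ofHom (algebraMap k (X.residueField ξ)))) :=
    Groth.Agent.Lib.H71SepClosedIrr.geometricallyIrreducible_SpecMap_of_sepClosedIn hsc
  have hφ' : Spec.map (CommRingCat.ofHom (algebraMap k (X.residueField ξ))) =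
      X.fromSpecResidueField ξ ≫ f := hφ
  rw [hφ'] at hgi
  haveI : IrreducibleSpace ↥(pullback (X.fromSpecResidueField ξ ≫ f)
      (Spec.map (CommRingCat.ofHom (algebraMap k Ω)))) :=
    GeometricallyIrreducible.geometrically_irreducibleSpace _ _ _ (.of_hasPullback _ _)
  have h := isIrreducible_preimage_closure f Ω (X.residueField ξ) (X.fromSpecResidueField ξ)
  have hpt : (X.fromSpecResidueField ξ) (IsLocalRing.closedPoint (X.residueField ξ)) = ξ := by
    simp
  rwa [hpt] at h

/-- **(5b)** If `α ∈ κ(ξ)` is separable over `k` and not in `k`, the preimage of `closure {ξ}` in `X_{k(α)}` is not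
irreducible. -/
theorem not_isIrreducible_preimage_of_isSeparable (ξ : X) (φ : k →+* X.residueField ξ)
    (hφ : Spec.map (CommRingCat.ofHom φ) = X.fromSpecResidueField ξ ≫ f)
    (α : X.residueField ξ) (hα : letI := φ.toAlgebra; IsSeparable k α) (hα' : α ∉ φ.range) :
    letI := φ.toAlgebra
    ¬ IsIrreducible ((pullback.fst f (Spec.map (CommRingCat.ofHom
      (algebraMap k (IntermediateField.adjoin k {α}))))) ⁻¹' (closure {ξ})) := by
  letI := φ.toAlgebra
  intro h
  have h1 := irreducibleSpace_fibre_of_isIrreducible_preimage f (IntermediateField.adjoin k {α}) ξ h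
  have hφ' : Spec.map (CommRingCat.ofHom (algebraMap k (X.residueField ξ))) =
      X.fromSpecResidueField ξ ≫ f := hφ
  rw [← hφ'] at h1
  have h2 : IrreducibleSpace (PrimeSpectrum (X.residueField ξ ⊗[k] (IntermediateField.adjoin k {α}))) := by
    have : IrreducibleSpace ↥(Spec (CommRingCat.of (X.residueField ξ ⊗[k] (IntermediateField.adjoin k {α})))) :=
      Groth.Agent.Lib.H77GeomIrr.irreducibleSpace_of_iso
        (pullbackSpecIso k (X.residueField ξ) (IntermediateField.adjoin k {α}))
    exact this
  haveI : FiniteDimensional k (IntermediateField.adjoin k {α}) :=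
    IntermediateField.adjoin.finiteDimensional hα.isIntegral
  haveI : Algebra.IsSeparable k (IntermediateField.adjoin k {α}) :=
    (IntermediateField.isSeparable_adjoin_simple_iff_isSeparable k _).mpr hα
  have h3 := finrank_eq_one_of_irreducibleSpace_tensor (IntermediateField.adjoin k {α})
    (IntermediateField.val _) h2
  rw [IntermediateField.finrank_adjoin_simple_eq_one_iff, IntermediateField.mem_bot] at h3
  exact hα' h3


/-- The map `Irr(X_Ω) → Irr(X)`, `T ↦ π(T)`. -/
noncomputable def imageComp : ↥(irreducibleComponents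
      ↥(pullback f (Spec.map (CommRingCat.ofHom (algebraMap k Ω))))) → ↥(irreducibleComponents ↥X) :=
  fun T => ⟨(pullback.fst f (Spec.map (CommRingCat.ofHom (algebraMap k Ω)))) '' (T : Set _),
    Groth.Agent.Lib.H71IrredImage.image_mem_irreducibleComponents Ω f T T.2⟩

theorem imageComp_surjective : Function.Surjective (imageComp f Ω) := by
  rintro ⟨Z, hZ⟩
  obtain ⟨T, hT, hTZ⟩ := Groth.Agent.Lib.H71IrredImage.exists_irreducibleComponent_image_eq Ω f Z hZ
  exact ⟨⟨T, hT⟩, Subtype.ext hTZ⟩

/-- **(A)** If the preimage in `X_Ω` of an irreducible component `Y` of `X` is not irreducible, then two distinct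
irreducible components of `X_Ω` map onto `Y`. -/
theorem imageComp_not_injective (Y : Set X) (hY : Y ∈ irreducibleComponents ↥X)
    (hni : ¬ IsIrreducible ((pullback.fst f (Spec.map (CommRingCat.ofHom (algebraMap k Ω)))) ⁻¹' Y)) :
    ¬ Function.Injective (imageComp f Ω) := by
  intro hinj
  apply hni
  set π := pullback.fst f (Spec.map (CommRingCat.ofHom (algebraMap k Ω))) with hπ
  obtain ⟨T₁, hT₁⟩ := imageComp_surjective f Ω ⟨Y, hY⟩
  have hT₁Y : π '' (T₁ : Set _) = Y := congrArg Subtype.val hT₁
  have hYc : IsClosed Y := isClosed_of_mem_irreducibleComponents _ hY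
  have h0 := T₁.2
  have hT₁c := isClosed_of_mem_irreducibleComponents _ h0
  have hξ := hY.1.closure_genericPoint hYc
  have heq : π ⁻¹' Y = (T₁ : Set _) := by
    apply subset_antisymm
    · intro p hp
      have hp' : π p ∈ closure {hY.1.genericPoint} := by rw [hξ]; exact hp
      have h1 : hY.1.genericPoint ⤳ π p := specializes_iff_mem_closure.mpr hp'
      obtain ⟨ζ, hζp, hζξ⟩ := generalizingMap_fst Ω f h1
      obtain ⟨T, hT, hζT⟩ := exists_mem_irreducibleComponents_subset_of_isIrreducible _
        (isIrreducible_singleton (x := ζ))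
      have hTimg := Groth.Agent.Lib.H71IrredImage.image_mem_irreducibleComponents Ω f T hT
      have hYsub : Y ⊆ π '' T := by
        rw [← hξ]
        refine (isClosed_of_mem_irreducibleComponents _ hTimg).closure_subset_iff.mpr ?_
        rw [Set.singleton_subset_iff]
        exact ⟨ζ, hζT rfl, hζξ⟩
      have hTY : π '' T = Y := subset_antisymm (hY.2 hTimg.1 hYsub) hYsub
      have hTT₁ : (⟨T, hT⟩ : ↥(irreducibleComponents _)) = T₁ := by
        apply hinj
        rw [hT₁]
        exact Subtype.ext hTY
      have hζT₁ : ζ ∈ (T₁ : Set _) := by rw [← hTT₁]; exact hζT rfl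
      exact hT₁c.closure_subset_iff.mpr (Set.singleton_subset_iff.mpr hζT₁)
        (specializes_iff_mem_closure.mp hζp)
    · rw [← hT₁Y]
      exact Set.subset_preimage_image _ _
  rw [heq]
  exact T₁.2.1


/-- For a `K`-point `ιx` of `X` at `ξ`, the irreducible components of `X_Ω` lying over `closure {ξ}` inject into
the points of `Spec k' ×_k Spec Ω`, where `k'` is the separable closure of `k` in `K`. -/
theorem exists_injective_over (K : Type u) [Field K] [Algebra k K] (ιx : Spec (CommRingCat.of K) ⟶ X)
    (hι : ιx ≫ f = Spec.map (CommRingCat.ofHom (algebraMap k K))) :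
    ∃ τ : {T : ↥(irreducibleComponents ↥(pullback f (Spec.map (CommRingCat.ofHom (algebraMap k Ω))))) //
        (pullback.fst f (Spec.map (CommRingCat.ofHom (algebraMap k Ω)))) '' (T : Set _) ⊆
          closure {ιx (IsLocalRing.closedPoint K)}} →
      ↥(pullback (Spec.map (CommRingCat.ofHom (algebraMap k (separableClosure k K))))
        (Spec.map (CommRingCat.ofHom (algebraMap k Ω)))), Function.Injective τ := by
  have hab : Spec.map (CommRingCat.ofHom (algebraMap (separableClosure k K) K)) ≫
      Spec.map (CommRingCat.ofHom (algebraMap k (separableClosure k K))) = ιx ≫ f := by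
    rw [hι, ← Spec.map_comp, ← CommRingCat.ofHom_comp, ← IsScalarTower.algebraMap_eq]
  haveI hgi : GeometricallyIrreducible
      (Spec.map (CommRingCat.ofHom (algebraMap (separableClosure k K) K))) :=
    Groth.Agent.Lib.H71SepClosedIrr.geometricallyIrreducible_SpecMap_separableClosure k K
  have hpb₁ := isPullback_mapK Ω f (ιx ≫ f) ιx rfl
  have hpb₂ := isPullback_mapK Ω (Spec.map (CommRingCat.ofHom (algebraMap k (separableClosure k K))))
    (ιx ≫ f) (Spec.map (CommRingCat.ofHom (algebraMap (separableClosure k K) K))) hab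
  haveI hgi₂ : GeometricallyIrreducible (mapK Ω
      (Spec.map (CommRingCat.ofHom (algebraMap k (separableClosure k K))))
      (ιx ≫ f) (Spec.map (CommRingCat.ofHom (algebraMap (separableClosure k K) K))) hab) :=
    MorphismProperty.of_isPullback hpb₂.flip hgi
  haveI huo₂ : UniversallyOpen (mapK Ω
      (Spec.map (CommRingCat.ofHom (algebraMap k (separableClosure k K))))
      (ιx ≫ f) (Spec.map (CommRingCat.ofHom (algebraMap (separableClosure k K) K))) hab) :=
    MorphismProperty.of_isPullback hpb₂.flip
      (inferInstance : UniversallyOpen (Spec.map (CommRingCat.ofHom (algebraMap (separableClosure k K) K))))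
  have key : ∀ T : {T : ↥(irreducibleComponents ↥(pullback f (Spec.map (CommRingCat.ofHom (algebraMap k Ω))))) //
        (pullback.fst f (Spec.map (CommRingCat.ofHom (algebraMap k Ω)))) '' (T : Set _) ⊆
          closure {ιx (IsLocalRing.closedPoint K)}},
      ∃ p : ↥(pullback (ιx ≫ f) (Spec.map (CommRingCat.ofHom (algebraMap k Ω)))),
        closure {mapK Ω f (ιx ≫ f) ιx rfl p} = (T.1 : Set _) := by
    rintro ⟨⟨T, hT⟩, hTsub⟩
    have hTc : IsClosed T := isClosed_of_mem_irreducibleComponents _ hT
    have hη := hT.1.closure_genericPoint hTc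
    have h1 : ιx (IsLocalRing.closedPoint K) ⤳ pullback.fst f (Spec.map (CommRingCat.ofHom (algebraMap k Ω)))
        hT.1.genericPoint := by
      rw [specializes_iff_mem_closure]
      apply hTsub
      have hmem : hT.1.genericPoint ∈ closure {hT.1.genericPoint} := subset_closure rfl
      rw [hη] at hmem
      exact ⟨hT.1.genericPoint, hmem, rfl⟩
    obtain ⟨ζ, hζη, hζξ⟩ := generalizingMap_fst Ω f h1
    have hζT : closure {ζ} = T := by
      apply subset_antisymm
      · apply hT.2 isIrreducible_singleton.closure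
        rw [← hη]
        exact specializes_iff_closure_subset.mp hζη
      · rw [← hη]
        exact specializes_iff_closure_subset.mp hζη
    obtain ⟨p, hp1, -⟩ := Scheme.exists_preimage_of_isPullback hpb₁ ζ (IsLocalRing.closedPoint K) hζξ
    exact ⟨p, by rw [hp1]; exact hζT⟩
  choose p hp using key
  refine ⟨fun T => mapK Ω
      (Spec.map (CommRingCat.ofHom (algebraMap k (separableClosure k K))))
      (ιx ≫ f) (Spec.map (CommRingCat.ofHom (algebraMap (separableClosure k K) K))) hab (p T), ?_⟩
  intro T T' hTT'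
  simp only at hTT'
  have hS := (mapK Ω
      (Spec.map (CommRingCat.ofHom (algebraMap k (separableClosure k K))))
      (ιx ≫ f) (Spec.map (CommRingCat.ofHom (algebraMap (separableClosure k K) K))) hab).isIrreducible_preimage
      (Scheme.Hom.isOpenMap _) (isIrreducible_singleton (x := mapK Ω
      (Spec.map (CommRingCat.ofHom (algebraMap k (separableClosure k K))))
      (ιx ≫ f) (Spec.map (CommRingCat.ofHom (algebraMap (separableClosure k K) K))) hab (p T)))
  have himg := hS.image _ (mapK Ω f (ιx ≫ f) ιx rfl).continuous.continuousOn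
  obtain ⟨T'', hT'', hsub⟩ := exists_mem_irreducibleComponents_subset_of_isIrreducible _ himg
  have hT''c : IsClosed T'' := isClosed_of_mem_irreducibleComponents _ hT''
  have h1 : (T.1 : Set _) ⊆ T'' := by
    rw [← hp T]
    exact hT''c.closure_subset_iff.mpr (Set.singleton_subset_iff.mpr (hsub ⟨p T, rfl, rfl⟩))
  have h2 : (T'.1 : Set _) ⊆ T'' := by
    rw [← hp T']
    exact hT''c.closure_subset_iff.mpr (Set.singleton_subset_iff.mpr (hsub ⟨p T', hTT'.symm, rfl⟩))
  have e1 : (T.1 : Set _) = T'' := subset_antisymm h1 (T.1.2.2 hT''.1 h1)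
  have e2 : (T'.1 : Set _) = T'' := subset_antisymm h2 (T'.1.2.2 hT''.1 h2)
  exact Subtype.ext (Subtype.ext (e1.trans e2.symm))

end Groth.Agent.Lib.H71IrrFibre
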