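import Mathlib.RingTheory.Spectrum.Prime.Topology
import Mathlib.RingTheory.KrullDimension.Zero
import Mathlib.RingTheory.Ideal.MinimalPrime.Localization
import Mathlib.AlgebraicGeometry.Artinian
import Mathlib.Topology.Separation.Profinite

/-!
# Topology of zero-dimensional rings and schemes (helper42)

* `exists_notMem_isNilpotent_mul`: for a minimal prime `p` and `f ∈ p` there is `s ∉ p` with `s * f` nilpotent.
* `t2Space_primeSpectrum`: the prime spectrum of a ring of Krull dimension `≤ 0` is Hausdorff.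
* `krullDimLE_zero_of_isAffineOpen`, `t2Space_of_isAffineOpen`: affine opens of a scheme of dimension `≤ 0`.
* `isClosed_of_isCompact_of_isOpen`: in a quasi-separated scheme of dimension `≤ 0`, compact opens are closed.
* `totallySeparatedSpace`: such a scheme is totally separated (hence Hausdorff and totally disconnected).
-/

universe u

open TopologicalSpace AlgebraicGeometry

namespace Groth.Agent.Lib.DimZeroTop

theorem exists_notMem_isNilpotent_mul {R : Type*} [CommRing R] {p : Ideal R}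
    (hp : p ∈ minimalPrimes R) {f : R} (hf : f ∈ p) : ∃ s, s ∉ p ∧ IsNilpotent (s * f) := by
  have : p.IsPrime := hp.1.1
  have : Ring.KrullDimLE 0 (Localization.AtPrime p) :=
    Ring.KrullDimLE.of_isLocalization p hp (Localization.AtPrime p)
  have hmem : algebraMap R (Localization.AtPrime p) f ∈
      IsLocalRing.maximalIdeal (Localization.AtPrime p) :=
    (IsLocalization.AtPrime.to_map_mem_maximal_iff (Localization.AtPrime p) p f).mpr hf
  obtain ⟨n, hn⟩ := Ring.KrullDimLE.isNilpotent_iff_mem_maximalIdeal.mpr hmem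
  rw [← map_pow, IsLocalization.map_eq_zero_iff p.primeCompl] at hn
  obtain ⟨s, hs⟩ := hn
  refine ⟨s, s.2, n + 1, ?_⟩
  calc ((s : R) * f) ^ (n + 1) = (s : R) ^ n * f * ((s : R) * f ^ n) := by ring
    _ = 0 := by rw [hs, mul_zero]

theorem t2Space_primeSpectrum (R : Type*) [CommRing R] [Ring.KrullDimLE 0 R] :
    T2Space (PrimeSpectrum R) := by
  refine ⟨fun x y hxy => ?_⟩
  have hxmin : x.asIdeal ∈ minimalPrimes R := by
    rw [Ring.KrullDimLE.minimalPrimes_eq_setOfPred_isPrime]; exact x.2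
  have hymin : y.asIdeal ∈ minimalPrimes R := by
    rw [Ring.KrullDimLE.minimalPrimes_eq_setOfPred_isPrime]; exact y.2
  have hnle : ¬ x.asIdeal ≤ y.asIdeal := by
    intro hle
    have hge : y.asIdeal ≤ x.asIdeal := hymin.2 ⟨x.2, bot_le⟩ hle
    exact hxy (PrimeSpectrum.ext (le_antisymm hle hge))
  obtain ⟨f, hfx, hfy⟩ := Set.not_subset.mp hnle
  obtain ⟨s, hsx, hnil⟩ := exists_notMem_isNilpotent_mul hxmin hfx
  refine ⟨PrimeSpectrum.basicOpen s, PrimeSpectrum.basicOpen f, (PrimeSpectrum.basicOpen s).2,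
    (PrimeSpectrum.basicOpen f).2, hsx, hfy, ?_⟩
  rw [Set.disjoint_iff_inter_eq_empty, ← TopologicalSpace.Opens.coe_inf,
    ← PrimeSpectrum.basicOpen_mul, (PrimeSpectrum.basicOpen_eq_bot_iff _).mpr hnil]
  rfl

variable {X : Scheme.{u}}

theorem krullDimLE_zero_of_isAffineOpen (h : topologicalKrullDim X ≤ 0) {U : X.Opens}
    (hU : IsAffineOpen U) : Ring.KrullDimLE 0 Γ(X, U) := by
  rw [Ring.KrullDimLE, Order.krullDimLE_iff, ← ringKrullDim,
    Nat.cast_zero, ← PrimeSpectrum.topologicalKrullDim_eq_ringKrullDim Γ(X, U)]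
  change topologicalKrullDim (Spec Γ(X, U)) ≤ 0
  rw [← IsHomeomorph.topologicalKrullDim_eq _ hU.isoSpec.hom.homeomorph.isHomeomorph]
  exact (topologicalKrullDim_subspace_le X U).trans h

theorem t2Space_of_isAffineOpen (h : topologicalKrullDim X ≤ 0) {U : X.Opens}
    (hU : IsAffineOpen U) : T2Space (U : Set X) := by
  have := krullDimLE_zero_of_isAffineOpen h hU
  have : T2Space (Spec Γ(X, U)) := t2Space_primeSpectrum Γ(X, U)
  have h2 : T2Space (U : Scheme.{u}) := hU.isoSpec.hom.homeomorph.isEmbedding.t2Space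
  exact h2

theorem isClosed_of_isCompact_of_isOpen [QuasiSeparatedSpace X] (h : topologicalKrullDim X ≤ 0)
    {W : Set X} (hWo : IsOpen W) (hWc : IsCompact W) : IsClosed W := by
  rw [← isOpen_compl_iff, isOpen_iff_forall_mem_open]
  intro z hz
  obtain ⟨V, hV, hzV, -⟩ := exists_isAffineOpen_mem_and_subset (x := z) (U := ⊤) trivial
  have : T2Space (V : Set X) := t2Space_of_isAffineOpen h hV
  have hcap : IsCompact (W ∩ (V : Set X)) :=
    QuasiSeparatedSpace.inter_isCompact W V hWo hWc V.2 hV.isCompact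
  let K : Set (V : Set X) := Subtype.val ⁻¹' W
  have hK : IsCompact K := by
    rw [Subtype.isCompact_iff]
    have : Subtype.val '' K = W ∩ (V : Set X) := by
      ext a; constructor
      · rintro ⟨⟨b, hb⟩, hbK, rfl⟩; exact ⟨hbK, hb⟩
      · rintro ⟨ha1, ha2⟩; exact ⟨⟨a, ha2⟩, ha1, rfl⟩
    rw [this]; exact hcap
  have hKc : IsClosed K := hK.isClosed
  have hopen : IsOpen (Subtype.val '' Kᶜ : Set X) :=
    V.2.isOpenMap_subtype_val _ hKc.isOpen_compl
  refine ⟨Subtype.val '' Kᶜ, ?_, hopen, ⟨⟨z, hzV⟩, hz, rfl⟩⟩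
  rintro _ ⟨⟨b, hb⟩, hbK, rfl⟩
  exact hbK

theorem isTopologicalBasis_isClopen [QuasiSeparatedSpace X] (h : topologicalKrullDim X ≤ 0) :
    IsTopologicalBasis {s : Set X | IsClopen s} := by
  apply isTopologicalBasis_of_isOpen_of_nhds
  · rintro s hs; exact hs.isOpen
  · intro x O hxO hO
    obtain ⟨V, hV, hxV, hVO⟩ :=
      exists_isAffineOpen_mem_and_subset (x := x) (U := ⟨O, hO⟩) hxO
    exact ⟨V, ⟨isClosed_of_isCompact_of_isOpen h V.2 hV.isCompact, V.2⟩, hxV, hVO⟩

theorem totallySeparatedSpace [QuasiSeparatedSpace X] (h : topologicalKrullDim X ≤ 0) :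
    TotallySeparatedSpace X :=
  totallySeparatedSpace_of_t0_of_basis_clopen (isTopologicalBasis_isClopen h)

theorem t2Space [QuasiSeparatedSpace X] (h : topologicalKrullDim X ≤ 0) : T2Space X := by
  have hts := totallySeparatedSpace h
  refine ⟨fun x y hxy => ?_⟩
  obtain ⟨u, v, hu, hv, hxu, hyv, -, hd⟩ :=
    hts.isTotallySeparated_univ (Set.mem_univ x) (Set.mem_univ y) hxy
  exact ⟨u, v, hu, hv, hxu, hyv, hd⟩

end Groth.Agent.Lib.DimZeroTop
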