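import Groth.Agent.Lib.H71SepClosedIn
import Groth.Agent.Lib.DimZeroTop

/-!
# H71SepClosedIrr: a field extension K/k₀ with k₀ separably closed in K is geometrically irreducible
(Spec K ⟶ Spec k₀), in particular Spec K ⟶ Spec (separableClosure k K).
-/

set_option autoImplicit false
universe u
open CategoryTheory CategoryTheory.Limits AlgebraicGeometry TensorProduct

namespace Groth.Agent.Lib.H71SepClosedIrr

/-- A zero-dimensional ring with preconnected spectrum has at most one prime. -/
theorem subsingleton_primeSpectrum_of_preconnected (R : Type*) [CommRing R] [Ring.KrullDimLE 0 R]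
    [PreconnectedSpace (PrimeSpectrum R)] : Subsingleton (PrimeSpectrum R) := by
  haveI := Groth.Agent.Lib.DimZeroTop.t2Space_primeSpectrum R
  refine ⟨fun p q => ?_⟩
  by_contra hpq
  have hmin : ∀ x : PrimeSpectrum R, x.asIdeal ∈ minimalPrimes R := by
    intro x
    rw [Ring.KrullDimLE.minimalPrimes_eq_setOfPred_isPrime]; exact x.2
  have hnle : ¬ p.asIdeal ≤ q.asIdeal := by
    intro hle
    have hge : q.asIdeal ≤ p.asIdeal := (hmin q).2 ⟨p.2, bot_le⟩ hle
    exact hpq (PrimeSpectrum.ext (le_antisymm hle hge))
  obtain ⟨f, hfp, hfq⟩ := Set.not_subset.mp hnle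
  have hclopen : IsClopen ((PrimeSpectrum.basicOpen f : TopologicalSpace.Opens (PrimeSpectrum R)) :
      Set (PrimeSpectrum R)) :=
    ⟨(PrimeSpectrum.isCompact_basicOpen f).isClosed, (PrimeSpectrum.basicOpen f).2⟩
  rcases isClopen_iff.mp hclopen with h | h
  · have : q ∈ ((PrimeSpectrum.basicOpen f : TopologicalSpace.Opens (PrimeSpectrum R)) :
        Set (PrimeSpectrum R)) := hfq
    rw [h] at this
    exact this
  · have : p ∈ ((PrimeSpectrum.basicOpen f : TopologicalSpace.Opens (PrimeSpectrum R)) :
        Set (PrimeSpectrum R)) := by rw [h]; trivial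
    exact this hfp

/-- An algebra integral over a field is zero-dimensional. -/
theorem krullDimLE_zero_of_isIntegral (K R : Type*) [Field K] [CommRing R] [Algebra K R]
    [Algebra.IsIntegral K R] : Ring.KrullDimLE 0 R := by
  refine Ring.KrullDimLE.mk₀ fun I hI => ?_
  refine Ideal.isMaximal_of_isIntegral_of_isMaximal_comap (R := K) I ?_
  have hprime : (I.comap (algebraMap K R)).IsPrime := Ideal.comap_isPrime _ _
  have : I.comap (algebraMap K R) = ⊥ := by
    rcases Ideal.eq_bot_or_top (I.comap (algebraMap K R)) with h | h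
    · exact h
    · exact absurd h hprime.ne_top
  rw [this]
  exact Ideal.bot_isMaximal

/-- If `k₀` is separably closed in the field `K`, then `Spec K ⟶ Spec k₀` is geometrically irreducible. -/
theorem geometricallyIrreducible_SpecMap_of_sepClosedIn {k₀ K : Type u} [Field k₀] [Field K] [Algebra k₀ K]
    (hsc : ∀ y : K, IsSeparable k₀ y → y ∈ (algebraMap k₀ K).range) :
    GeometricallyIrreducible (Spec.map (CommRingCat.ofHom (algebraMap k₀ K))) := by
  have hgc := Groth.Agent.Lib.H71SepClosedIn.geometricallyConnected_SpecMap_of_sepClosedIn hsc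
  haveI hconn : ConnectedSpace ↥(pullback (Spec.map (CommRingCat.ofHom (algebraMap k₀ K)))
      (Spec.map (CommRingCat.ofHom (algebraMap k₀ (SeparableClosure k₀))))) :=
    (geometrically_iff_of_commRing_of_isClosedUnderIsomorphisms ..).mp
      hgc.geometrically_connectedSpace (SeparableClosure k₀)
  haveI : @Ring.KrullDimLE 0 (K ⊗[k₀] SeparableClosure k₀) CommRing.toCommSemiring :=
    krullDimLE_zero_of_isIntegral K _
  haveI hconn' : ConnectedSpace (PrimeSpectrum (K ⊗[k₀] SeparableClosure k₀)) :=
    (pullbackSpecIso k₀ K (SeparableClosure k₀)).hom.surjective.connectedSpace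
      (pullbackSpecIso k₀ K (SeparableClosure k₀)).hom.continuous
  haveI := subsingleton_primeSpectrum_of_preconnected (K ⊗[k₀] SeparableClosure k₀)
  haveI hirr' : IrreducibleSpace (PrimeSpectrum (K ⊗[k₀] SeparableClosure k₀)) := by
    haveI : Nonempty (PrimeSpectrum (K ⊗[k₀] SeparableClosure k₀)) := hconn'.toNonempty
    exact ⟨inferInstance⟩
  haveI : IrreducibleSpace ↥(pullback (Spec.map (CommRingCat.ofHom (algebraMap k₀ K)))
      (Spec.map (CommRingCat.ofHom (algebraMap k₀ (SeparableClosure k₀))))) :=
    (pullbackSpecIso k₀ K (SeparableClosure k₀)).hom.homeomorph.irreducibleSpace_iff.2 hirr'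
  exact Groth.Agent.Lib.H71SepClosedGeom.geometricallyIrreducible_of_irreducibleSpace_pullback
    (SeparableClosure k₀) _

/-- `Spec K ⟶ Spec (separableClosure k K)` is geometrically irreducible. -/
theorem geometricallyIrreducible_SpecMap_separableClosure (k K : Type u) [Field k] [Field K] [Algebra k K] :
    GeometricallyIrreducible
      (Spec.map (CommRingCat.ofHom (algebraMap (separableClosure k K) K))) := by
  apply geometricallyIrreducible_SpecMap_of_sepClosedIn
  intro y hy
  have hy' : IsSeparable k y := IsSeparable.of_algebra_isSeparable_of_isSeparable k hy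
  exact ⟨⟨y, mem_separableClosure_iff.mpr hy'⟩, rfl⟩

end Groth.Agent.Lib.H71SepClosedIrr
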