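import Mathlib
import Groth.Agent.Lib.H71GeomIrrRatFunc

/-!
# Bertini57c (helper57): `K/k` geometrically irreducible ⇒ `K(x_σ)/k(x_σ)` geometrically irreducible,
hence `k(x_σ)` separably closed in `K(x_σ)` (several variables; adapted from helper71's one-variable proof).
-/
set_option autoImplicit false
set_option linter.style.haveILetI false
universe u
open TensorProduct

namespace Groth.Agent.Lib.Bertini57c

section RatFunc

variable {k K : Type u} [Field k] [Field K] [Algebra k K] {σ : Type*}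
  (Ω : Type u) [Field Ω] [Algebra (MvPolynomial σ K) Ω] [IsFractionRing (MvPolynomial σ K) Ω]
  [Algebra K Ω] [Algebra k Ω] [IsScalarTower K (MvPolynomial σ K) Ω] [IsScalarTower k K Ω]

/-- The subfield `k(x_σ)` of `Ω = K(x_σ)`. -/
noncomputable def kx (k : Type u) {K : Type u} [Field k] [Field K] [Algebra k K] {σ : Type*}
    (Ω : Type u) [Field Ω] [Algebra (MvPolynomial σ K) Ω] [Algebra k Ω] : IntermediateField k Ω :=
  IntermediateField.adjoin k
    (Set.range (fun i : σ => algebraMap (MvPolynomial σ K) Ω (MvPolynomial.X i)))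

/-- If `K/k` is geometrically irreducible then so is `K(x)/k(x)` (ring form); abstract `kt = k(x)`. -/
theorem irreducibleSpace_mvRatFunc_aux
    (kt : Type u) [Field kt] [Algebra k kt] [Algebra kt Ω] [IsScalarTower k kt Ω]
    (xk : σ → kt)
    (hxk : ∀ i, algebraMap kt Ω (xk i) = algebraMap (MvPolynomial σ K) Ω (MvPolynomial.X i))
    (hgen : ∀ (Q : Type u) [Field Q] (f g : kt →+* Q),
      (∀ c : k, f (algebraMap k kt c) = g (algebraMap k kt c)) → (∀ i, f (xk i) = g (xk i)) → f = g)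
    (h : ∀ (k' : Type u) [Field k'] [Algebra k k'], IrreducibleSpace (PrimeSpectrum (k' ⊗[k] K)))
    (L : Type u) [Field L] [Algebra kt L] :
    IrreducibleSpace (PrimeSpectrum (L ⊗[kt] Ω)) := by
  classical
  letI : Algebra k L := ((algebraMap kt L).comp (algebraMap k kt)).toAlgebra
  haveI : IsScalarTower k kt L := IsScalarTower.of_algebraMap_eq (fun _ => rfl)
  have hCK : ∀ a : K, algebraMap (MvPolynomial σ K) Ω (MvPolynomial.C a) = algebraMap K Ω a := by
    intro a
    rw [IsScalarTower.algebraMap_apply K (MvPolynomial σ K) Ω, MvPolynomial.algebraMap_eq]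
  have hnil : (nilradical (L ⊗[k] K)).IsPrime :=
    PrimeSpectrum.irreducibleSpace_iff_isPrime_nilradical.mp (h L)
  -- the comparison map
  let φ : L ⊗[k] K →ₐ[k] L ⊗[kt] Ω :=
    (Algebra.TensorProduct.mapOfCompatibleSMul kt k k L Ω).comp
      (Algebra.TensorProduct.map (AlgHom.id k L) (IsScalarTower.toAlgHom k K Ω))
  have hφ : ∀ (l : L) (a : K), φ (l ⊗ₜ[k] a) = l ⊗ₜ[kt] (algebraMap K Ω a) := fun l a => rfl
  -- the variables
  let tL : σ → L := fun i => algebraMap kt L (xk i)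
  let ν : MvPolynomial σ K →+* L ⊗[k] K :=
    MvPolynomial.eval₂Hom
      (Algebra.TensorProduct.includeRight (R := k) (A := L) (B := K)).toRingHom
      (fun i => tL i ⊗ₜ[k] (1 : K))
  have hνC : ∀ a : K, ν (MvPolynomial.C a) = (1 : L) ⊗ₜ[k] a := by
    intro a
    simp only [ν, MvPolynomial.coe_eval₂Hom, MvPolynomial.eval₂_C]
    rfl
  have hνX : ∀ i, ν (MvPolynomial.X i) = tL i ⊗ₜ[k] (1 : K) := by
    intro i
    simp only [ν, MvPolynomial.coe_eval₂Hom, MvPolynomial.eval₂_X]
  have hφν : ∀ q : MvPolynomial σ K,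
      φ (ν q) = (1 : L) ⊗ₜ[kt] (algebraMap (MvPolynomial σ K) Ω q) := by
    intro q
    have : (φ.toRingHom.comp ν) = (Algebra.TensorProduct.includeRight (R := kt) (A := L)
        (B := Ω)).toRingHom.comp (algebraMap (MvPolynomial σ K) Ω) := by
      apply MvPolynomial.ringHom_ext
      · intro a
        simp only [RingHom.comp_apply]
        rw [hνC, hCK]
        exact hφ 1 a
      · intro i
        simp only [RingHom.comp_apply]
        rw [hνX]
        show φ (tL i ⊗ₜ[k] (1 : K)) =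
          (1 : L) ⊗ₜ[kt] (algebraMap (MvPolynomial σ K) Ω (MvPolynomial.X i))
        rw [hφ, map_one, ← hxk, Algebra.algebraMap_eq_smul_one (xk i),
          ← TensorProduct.smul_tmul, Algebra.smul_def, mul_one]
    exact DFunLike.congr_fun this q
  -- every element of `L ⊗[k(x)] K(x)` is a fraction `φ r / (1 ⊗ q)`
  have hfrac : ∀ z : L ⊗[kt] Ω, ∃ (r : L ⊗[k] K) (q : MvPolynomial σ K), q ≠ 0 ∧
      z * ((1 : L) ⊗ₜ[kt] (algebraMap (MvPolynomial σ K) Ω q)) = φ r := by
    intro z
    induction z with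
    | zero => exact ⟨0, 1, one_ne_zero, by rw [zero_mul, map_zero]⟩
    | tmul l z =>
      obtain ⟨a, q, hq, hz⟩ := IsFractionRing.div_surjective (A := MvPolynomial σ K) z
      have hq0 : q ≠ 0 := nonZeroDivisors.ne_zero hq
      have hq0' : algebraMap (MvPolynomial σ K) Ω q ≠ 0 := fun h0 =>
        hq0 ((IsFractionRing.injective (MvPolynomial σ K) Ω) (by rw [h0, map_zero]))
      refine ⟨(l ⊗ₜ[k] (1 : K)) * ν a, q, hq0, ?_⟩
      rw [map_mul, hφν, hφ, map_one, Algebra.TensorProduct.tmul_mul_tmul,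
        Algebra.TensorProduct.tmul_mul_tmul, mul_one, one_mul, ← hz, div_mul_cancel₀ _ hq0']
    | add z y hz hy =>
      obtain ⟨r₁, q₁, hq₁, h₁⟩ := hz
      obtain ⟨r₂, q₂, hq₂, h₂⟩ := hy
      refine ⟨r₁ * ν q₂ + r₂ * ν q₁, q₁ * q₂, mul_ne_zero hq₁ hq₂, ?_⟩
      have e1 : φ (r₁ * ν q₂ + r₂ * ν q₁) =
          φ r₁ * ((1 : L) ⊗ₜ[kt] (algebraMap (MvPolynomial σ K) Ω q₂)) +
            φ r₂ * ((1 : L) ⊗ₜ[kt] (algebraMap (MvPolynomial σ K) Ω q₁)) := by
        simp only [map_add, map_mul, hφν]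
      have e2 : (1 : L) ⊗ₜ[kt] (algebraMap (MvPolynomial σ K) Ω (q₁ * q₂)) =
          ((1 : L) ⊗ₜ[kt] (algebraMap (MvPolynomial σ K) Ω q₁)) *
            ((1 : L) ⊗ₜ[kt] (algebraMap (MvPolynomial σ K) Ω q₂)) := by
        rw [map_mul, Algebra.TensorProduct.tmul_mul_tmul, one_mul]
      rw [e1, e2, ← h₁, ← h₂]
      ring
  -- the field `Q`
  haveI : IsDomain ((L ⊗[k] K) ⧸ nilradical (L ⊗[k] K)) := Ideal.Quotient.isDomain _
  let Q := FractionRing ((L ⊗[k] K) ⧸ nilradical (L ⊗[k] K))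
  let can : L ⊗[k] K →+* Q :=
    (algebraMap ((L ⊗[k] K) ⧸ nilradical (L ⊗[k] K)) Q).comp
      (Ideal.Quotient.mk (nilradical (L ⊗[k] K)))
  have hcan : ∀ r, can r = 0 → IsNilpotent r := by
    intro r hr
    have h0 : Ideal.Quotient.mk (nilradical (L ⊗[k] K)) r = 0 :=
      (IsFractionRing.injective ((L ⊗[k] K) ⧸ nilradical (L ⊗[k] K)) Q)
        (by rw [map_zero]; exact hr)
    exact mem_nilradical.mp (Ideal.Quotient.eq_zero_iff_mem.mp h0)
  have hinjT : Function.Injective
      (Algebra.TensorProduct.includeRight (R := kt) (A := L) (B := Ω)) :=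
    Algebra.TensorProduct.includeRight_injective (algebraMap kt L).injective
  have hcanν : Function.Injective (can.comp ν) := by
    rw [injective_iff_map_eq_zero]
    intro q hq
    obtain ⟨n, hn⟩ := hcan _ hq
    have h1 : (1 : L) ⊗ₜ[kt] (algebraMap (MvPolynomial σ K) Ω (q ^ n)) = 0 := by
      rw [← hφν, map_pow, hn, map_zero]
    have h2 : algebraMap (MvPolynomial σ K) Ω (q ^ n) = 0 := hinjT (by rw [map_zero]; exact h1)
    have h3 : q ^ n = 0 := IsFractionRing.injective (MvPolynomial σ K) Ω (by rw [h2, map_zero])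
    exact eq_zero_of_pow_eq_zero h3
  let gK : Ω →+* Q := IsFractionRing.lift hcanν
  have hgK : ∀ q : MvPolynomial σ K, gK (algebraMap (MvPolynomial σ K) Ω q) = can (ν q) :=
    IsFractionRing.lift_algebraMap hcanν
  let fL : L →+* Q := can.comp
    (Algebra.TensorProduct.includeLeft (R := k) (S := k) (A := L) (B := K)).toRingHom
  have hfL : ∀ l : L, fL l = can (l ⊗ₜ[k] (1 : K)) := fun l => rfl
  letI : Algebra kt Q := (fL.comp (algebraMap kt L)).toAlgebra
  have hcomm_kt : gK.comp (algebraMap kt Ω) = fL.comp (algebraMap kt L) := by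
    apply hgen Q
    · intro c
      simp only [RingHom.comp_apply]
      have e0 : algebraMap kt Ω (algebraMap k kt c) =
          algebraMap (MvPolynomial σ K) Ω (MvPolynomial.C (algebraMap k K c)) := by
        rw [hCK, ← IsScalarTower.algebraMap_apply k K Ω, ← IsScalarTower.algebraMap_apply k kt Ω]
      rw [e0, hgK, hνC, hfL]
      congr 1
      have e1 : algebraMap kt L (algebraMap k kt c) = algebraMap k L c := rfl
      rw [e1, Algebra.algebraMap_eq_smul_one c, Algebra.algebraMap_eq_smul_one c,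
        TensorProduct.smul_tmul]
    · intro i
      simp only [RingHom.comp_apply]
      rw [hxk, hgK, hνX, hfL]
  let fL' : L →ₐ[kt] Q := { fL with commutes' := fun _ => rfl }
  let gK' : Ω →ₐ[kt] Q := { gK with commutes' := fun c => DFunLike.congr_fun hcomm_kt c }
  let Φ : L ⊗[kt] Ω →ₐ[kt] Q := Algebra.TensorProduct.productMap fL' gK'
  have hΦ : ∀ (l : L) (z : Ω), Φ (l ⊗ₜ[kt] z) = fL l * gK z := fun l z =>
    Algebra.TensorProduct.productMap_apply_tmul _ _ _ _
  have hΦφ : ∀ r, Φ (φ r) = can r := by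
    intro r
    induction r with
    | zero => rw [map_zero, map_zero, map_zero]
    | tmul l a =>
      rw [hφ, hΦ, ← hCK, hgK, hνC, hfL, ← map_mul, Algebra.TensorProduct.tmul_mul_tmul, mul_one,
        one_mul]
    | add x y hx hy => rw [map_add, map_add, map_add, hx, hy]
  -- conclusion
  rw [PrimeSpectrum.irreducibleSpace_iff_isPrime_nilradical]
  have hker : nilradical (L ⊗[kt] Ω) = RingHom.ker Φ.toRingHom := by
    ext z
    constructor
    · intro hz
      obtain ⟨n, hn⟩ := mem_nilradical.mp hz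
      have h1 : Φ z ^ n = 0 := by rw [← map_pow, hn, map_zero]
      exact RingHom.mem_ker.mpr (eq_zero_of_pow_eq_zero h1)
    · intro hz
      have hz0 : Φ z = 0 := RingHom.mem_ker.mp hz
      obtain ⟨r, q, hq, hzr⟩ := hfrac z
      have h1 : can r = 0 := by rw [← hΦφ, ← hzr, map_mul, hz0, zero_mul]
      obtain ⟨n, hn⟩ := hcan r h1
      have hq0' : algebraMap (MvPolynomial σ K) Ω q ≠ 0 := fun h0 =>
        hq ((IsFractionRing.injective (MvPolynomial σ K) Ω) (by rw [h0, map_zero]))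
      have hu : ((1 : L) ⊗ₜ[kt] (algebraMap (MvPolynomial σ K) Ω q)) *
          ((1 : L) ⊗ₜ[kt] (algebraMap (MvPolynomial σ K) Ω q)⁻¹) = 1 := by
        rw [Algebra.TensorProduct.tmul_mul_tmul, one_mul, mul_inv_cancel₀ hq0']
        rfl
      have h2 : (z * ((1 : L) ⊗ₜ[kt] (algebraMap (MvPolynomial σ K) Ω q))) ^ n = 0 := by
        rw [hzr, ← map_pow, hn, map_zero]
      refine mem_nilradical.mpr ⟨n, ?_⟩
      calc z ^ n = (z * ((1 : L) ⊗ₜ[kt] (algebraMap (MvPolynomial σ K) Ω q))) ^ n *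
            ((1 : L) ⊗ₜ[kt] (algebraMap (MvPolynomial σ K) Ω q)⁻¹) ^ n := by
            rw [← mul_pow, mul_assoc, hu, mul_one]
        _ = 0 := by rw [h2, zero_mul]
  rw [hker]
  exact RingHom.ker_isPrime _

/-- Two ring homs out of `k(S)` agreeing on `k` and on `S` are equal. -/
theorem ringHom_ext_adjoin {k Ω : Type*} [Field k] [Field Ω] [Algebra k Ω] (S : Set Ω)
    {Q : Type*} [Field Q] (f g : ↥(IntermediateField.adjoin k S) →+* Q)
    (hk : ∀ c : k, f (algebraMap k _ c) = g (algebraMap k _ c))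
    (hS : ∀ y (hy : y ∈ S), f ⟨y, IntermediateField.subset_adjoin k S hy⟩ =
      g ⟨y, IntermediateField.subset_adjoin k S hy⟩) : f = g := by
  apply RingHom.ext
  rintro ⟨z, hz⟩
  induction hz using IntermediateField.adjoin_induction with
  | mem y hy => exact hS y hy
  | algebraMap c => exact hk c
  | add a b ha hb iha ihb =>
    have : (⟨a + b, (IntermediateField.adjoin k S).add_mem ha hb⟩ :
        ↥(IntermediateField.adjoin k S)) = ⟨a, ha⟩ + ⟨b, hb⟩ := rfl
    rw [this, map_add, map_add, iha, ihb]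
  | inv a ha iha =>
    have : (⟨a⁻¹, (IntermediateField.adjoin k S).inv_mem ha⟩ :
        ↥(IntermediateField.adjoin k S)) = (⟨a, ha⟩ : ↥(IntermediateField.adjoin k S))⁻¹ := rfl
    rw [this, map_inv₀, map_inv₀, iha]
  | mul a b ha hb iha ihb =>
    have : (⟨a * b, (IntermediateField.adjoin k S).mul_mem ha hb⟩ :
        ↥(IntermediateField.adjoin k S)) = ⟨a, ha⟩ * ⟨b, hb⟩ := rfl
    rw [this, map_mul, map_mul, iha, ihb]

/-- If `K/k` is geometrically irreducible then so is `K(x)/k(x)` (ring form). -/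
theorem irreducibleSpace_mvRatFunc
    (h : ∀ (k' : Type u) [Field k'] [Algebra k k'], IrreducibleSpace (PrimeSpectrum (k' ⊗[k] K)))
    (L : Type u) [Field L] [Algebra ↥(kx k (K := K) (σ := σ) Ω) L] :
    IrreducibleSpace (PrimeSpectrum (L ⊗[↥(kx k (K := K) (σ := σ) Ω)] Ω)) := by
  refine irreducibleSpace_mvRatFunc_aux Ω ↥(kx k (K := K) (σ := σ) Ω)
    (fun i => ⟨algebraMap (MvPolynomial σ K) Ω (MvPolynomial.X i),
      IntermediateField.subset_adjoin k _ ⟨i, rfl⟩⟩) (fun i => rfl) ?_ h L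
  intro Q _ f g hk hx
  apply ringHom_ext_adjoin _ f g hk
  rintro _ ⟨i, rfl⟩
  exact hx i

/-- `k` separably closed in `K` (in the geometric form) implies `k(x)` separably closed in `K(x)`. -/
theorem sepClosedIn_mvRatFunc
    (h : ∀ (k' : Type u) [Field k'] [Algebra k k'], IrreducibleSpace (PrimeSpectrum (k' ⊗[k] K)))
    (y : Ω) (hy : IsSeparable ↥(kx k (K := K) (σ := σ) Ω) y) :
    y ∈ kx k (K := K) (σ := σ) Ω := by
  obtain ⟨z, hz⟩ := Groth.Agent.Lib.H71GeomIrrRatFunc.sepClosedIn_of_forall_irreducibleSpace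
    (k := ↥(kx k (K := K) (σ := σ) Ω)) (K := Ω)
    (fun L _ _ => irreducibleSpace_mvRatFunc Ω h L) y hy
  rw [← hz]
  exact z.2

end RatFunc

end Groth.Agent.Lib.Bertini57c
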