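import Mathlib
import Groth.Agent.Lib.Bertini57a
import Groth.Agent.Lib.Bertini57b

/-!
# Bertini57d (helper57): auxiliary lemmas for the Bertini field lemma (S7200):
transport of separability/transcendence along field endomorphisms, the substitution automorphisms
`x_l ↦ x_l + c_l ℓ^r`, the pigeonhole on simple separable subextensions, and a wrapper around the two-direction lemma.
-/
set_option autoImplicit false
set_option linter.style.haveILetI false
universe u

namespace Groth.Agent.Lib.Bertini57d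


section Generic

variable {Ω : Type*} [Field Ω]

/-- Transport of separability along a field endomorphism. -/
theorem isSeparable_map (σ : Ω →+* Ω) {E₁ E₂ : Type*} [Field E₁] [Field E₂] [Algebra E₁ Ω] [Algebra E₂ Ω]
    (ρ : E₁ →+* E₂) (hρ : ∀ w, algebraMap E₂ Ω (ρ w) = σ (algebraMap E₁ Ω w))
    (θ : Ω) (h : IsSeparable E₁ θ) : IsSeparable E₂ (σ θ) := by
  have h1 : ((minpoly E₁ θ).map ρ).Separable := Polynomial.Separable.map h
  have h2 : Polynomial.aeval (σ θ) ((minpoly E₁ θ).map ρ) = 0 := by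
    rw [Polynomial.aeval_def, Polynomial.eval₂_map]
    have : (algebraMap E₂ Ω).comp ρ = σ.comp (algebraMap E₁ Ω) := RingHom.ext hρ
    rw [this, ← Polynomial.hom_eval₂, ← Polynomial.aeval_def, minpoly.aeval, map_zero]
  exact h1.of_dvd (minpoly.dvd E₂ _ h2)

/-- Transport of transcendence along a field endomorphism, when `E₂ ⊆ σ(E₁)`. -/
theorem transcendental_map (σ : Ω →+* Ω) {E₁ E₂ : Type*} [Field E₁] [Field E₂] [Algebra E₁ Ω]
    [Algebra E₂ Ω]
    (hsub : ∀ e₂ : E₂, ∃ e₁ : E₁, σ (algebraMap E₁ Ω e₁) = algebraMap E₂ Ω e₂)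
    (z : Ω) (hz : Transcendental E₁ z) : Transcendental E₂ (σ z) := by
  classical
  intro halg
  obtain ⟨q₂, hq₂0, hq₂⟩ := halg
  choose f hf using hsub
  let q₁ : Polynomial E₁ := ∑ i ∈ q₂.support, Polynomial.monomial i (f (q₂.coeff i))
  apply hz
  refine ⟨q₁, ?_, ?_⟩
  · intro h0
    apply hq₂0
    ext i
    by_cases hi : i ∈ q₂.support
    · have h1 : q₁.coeff i = f (q₂.coeff i) := by
        simp only [q₁, Polynomial.finsetSum_coeff, Polynomial.coeff_monomial]
        rw [Finset.sum_eq_single i]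
        · simp
        · intro j _ hji
          simp [hji]
        · intro hni
          exact absurd hi hni
      rw [h0, Polynomial.coeff_zero] at h1
      have h2 := hf (q₂.coeff i)
      rw [← h1, map_zero, map_zero] at h2
      have : q₂.coeff i = 0 := (algebraMap E₂ Ω).injective (by rw [← h2, map_zero])
      rw [this, Polynomial.coeff_zero]
    · rw [Polynomial.notMem_support_iff.mp hi, Polynomial.coeff_zero]
  · apply σ.injective
    rw [map_zero, ← hq₂]
    simp only [q₁, map_sum, Polynomial.aeval_monomial, map_mul, map_pow, hf]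
    rw [Polynomial.aeval_def, Polynomial.eval₂_eq_sum, Polynomial.sum_def]

end Generic


section Sigma

open MvPolynomial

variable {K : Type u} [Field K] {ι : Type*}

/-- The substitution `X l ↦ X l + c' l * a`. -/
noncomputable def tau (c' : ι → K) (a : MvPolynomial ι K) : MvPolynomial ι K →ₐ[K] MvPolynomial ι K :=
  MvPolynomial.aeval (fun l => X l + C (c' l) * a)

@[simp] theorem tau_X (c' : ι → K) (a : MvPolynomial ι K) (l : ι) :
    tau c' a (X l) = X l + C (c' l) * a := by
  simp [tau]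

@[simp] theorem tau_C (c' : ι → K) (a : MvPolynomial ι K) (b : K) :
    tau c' a (C b) = C b := by
  simp [tau]

/-- The invariant linear form `c'_i X_j - c'_j X_i`. -/
noncomputable def ell (c' : ι → K) (i j : ι) : MvPolynomial ι K :=
  C (c' i) * X j - C (c' j) * X i

theorem tau_ell (c' : ι → K) (i j : ι) (a : MvPolynomial ι K) : tau c' a (ell c' i j) = ell c' i j := by
  simp only [ell, map_sub, map_mul, tau_C, tau_X]
  ring

theorem tau_ell_pow (c' : ι → K) (i j : ι) (a : MvPolynomial ι K) (r : ℕ) :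
    tau c' a (ell c' i j ^ r) = ell c' i j ^ r := by
  rw [map_pow, tau_ell]

theorem tau_neg_comp (c' : ι → K) (a : MvPolynomial ι K) (ha : tau c' (-a) a = a) :
    (tau c' (-a)).comp (tau c' a) = AlgHom.id K _ := by
  apply MvPolynomial.algHom_ext
  intro l
  simp only [AlgHom.comp_apply, tau_X, map_add, map_mul, tau_C, ha, AlgHom.id_apply]
  ring

theorem tau_injective (c' : ι → K) (a : MvPolynomial ι K) (ha : tau c' (-a) a = a) :
    Function.Injective (tau c' a) := by
  intro f g hfg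
  have := congrArg (tau c' (-a)) hfg
  rwa [← AlgHom.comp_apply, ← AlgHom.comp_apply, tau_neg_comp c' a ha] at this

theorem ell_pow_injective [DecidableEq ι] (c' : ι → K) (i j : ι) (hij : i ≠ j) (hci : c' i ≠ 0) :
    Function.Injective (fun r : ℕ => ell c' i j ^ r) := by
  intro r₁ r₂ h
  let φ : MvPolynomial ι K →ₐ[K] Polynomial K :=
    MvPolynomial.aeval (fun l => if l = j then Polynomial.X else 0)
  have hφ : φ (ell c' i j) = Polynomial.C (c' i) * Polynomial.X := by
    simp only [φ, ell, map_sub, map_mul, MvPolynomial.aeval_C, MvPolynomial.aeval_X, if_true,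
      if_neg hij, mul_zero, sub_zero]
    rfl
  have h1 := congrArg φ h
  simp only [map_pow, hφ] at h1
  have hdeg : ∀ r : ℕ, ((Polynomial.C (c' i) * Polynomial.X) ^ r).natDegree = r := by
    intro r
    rw [Polynomial.natDegree_pow, Polynomial.natDegree_C_mul_X _ hci, mul_one]
  have := congrArg Polynomial.natDegree h1
  rwa [hdeg, hdeg] at this

variable (Ω : Type*) [Field Ω] [Algebra (MvPolynomial ι K) Ω] [IsFractionRing (MvPolynomial ι K) Ω]
  [Algebra K Ω] [IsScalarTower K (MvPolynomial ι K) Ω]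

theorem comp_tau_injective (c' : ι → K) (i j : ι) (r : ℕ) :
    Function.Injective
      ((IsScalarTower.toAlgHom K (MvPolynomial ι K) Ω).comp (tau c' (ell c' i j ^ r))) := by
  intro f g hfg
  simp only [AlgHom.comp_apply, IsScalarTower.coe_toAlgHom'] at hfg
  exact tau_injective c' _ (tau_ell_pow c' i j _ r)
    (IsFractionRing.injective (MvPolynomial ι K) Ω hfg)

/-- The `K`-endomorphism of `Ω = K(x)` induced by `tau c' (ell^r)`. -/
noncomputable def sigma (c' : ι → K) (i j : ι) (r : ℕ) : Ω →ₐ[K] Ω :=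
  IsFractionRing.liftAlgHom (K := Ω) (comp_tau_injective Ω c' i j r)

theorem sigma_algebraMap (c' : ι → K) (i j : ι) (r : ℕ) (f : MvPolynomial ι K) :
    sigma Ω c' i j r (algebraMap (MvPolynomial ι K) Ω f) =
      algebraMap (MvPolynomial ι K) Ω (tau c' (ell c' i j ^ r) f) :=
  IsFractionRing.lift_algebraMap (comp_tau_injective Ω c' i j r) f

theorem sigma_x (c' : ι → K) (i j : ι) (r : ℕ) (l : ι) :
    sigma Ω c' i j r (algebraMap (MvPolynomial ι K) Ω (X l)) =
      algebraMap (MvPolynomial ι K) Ω (X l) +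
        algebraMap K Ω (c' l) * (algebraMap (MvPolynomial ι K) Ω (ell c' i j)) ^ r := by
  rw [sigma_algebraMap, tau_X, map_add, map_mul, map_pow,
    IsScalarTower.algebraMap_apply K (MvPolynomial ι K) Ω, MvPolynomial.algebraMap_eq]

theorem sigma_ell (c' : ι → K) (i j : ι) (r : ℕ) :
    sigma Ω c' i j r (algebraMap (MvPolynomial ι K) Ω (ell c' i j)) =
      algebraMap (MvPolynomial ι K) Ω (ell c' i j) := by
  rw [sigma_algebraMap, tau_ell]

end Sigma




section Pigeon

variable {F Ω : Type*} [Field F] [Field Ω] [Algebra F Ω]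

/-- In a finitely generated field extension, infinitely many separable algebraic elements generate only finitely
many distinct simple extensions. -/
theorem exists_ne_adjoin_eq [Algebra.EssFiniteType F Ω] (θs : ℕ → Ω)
    (hsep : ∀ r, IsSeparable F (θs r)) :
    ∃ r1 r2, r1 ≠ r2 ∧ IntermediateField.adjoin F {θs r1} = IntermediateField.adjoin F {θs r2} := by
  classical
  let S : IntermediateField F Ω := separableClosure F Ω
  haveI : FiniteDimensional F ↥S :=
    Groth.Agent.Lib.Bertini57a.finiteDimensional_of_isAlgebraic_of_essFiniteType S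
  haveI : Finite (IntermediateField F ↥S) := by
    obtain ⟨α, hα⟩ := Field.exists_primitive_element F ↥S
    exact Field.finite_intermediateField_of_exists_primitive_element F ↥S ⟨α, hα⟩
  have hle : ∀ r, IntermediateField.adjoin F {θs r} ≤ S := by
    intro r
    rw [IntermediateField.adjoin_le_iff]
    rintro _ rfl
    exact mem_separableClosure_iff.mpr (hsep r)
  let f : ℕ → IntermediateField F ↥S := fun r => IntermediateField.restrict (hle r)
  obtain ⟨r1, r2, hne, heq⟩ := Finite.exists_ne_map_eq_of_infinite f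
  refine ⟨r1, r2, hne, ?_⟩
  have := congrArg IntermediateField.lift heq
  simpa only [f, IntermediateField.lift_restrict] using this

end Pigeon

section Wrapper

variable {k Ω : Type*} [Field k] [Field Ω] [Algebra k Ω]

theorem xi_delta_mem (K0 : IntermediateField k Ω) (E : IntermediateField ↥K0 Ω)
    (ξ δ A₁ A₂ : Ω) (hA₁ : A₁ ∈ K0) (hA₂ : A₂ ∈ K0) (hA : A₁ ≠ A₂)
    (hs : ξ + A₁ * δ ∈ E) (ht : ξ + A₂ * δ ∈ E) : ξ ∈ E ∧ δ ∈ E := by
  have hK0 : ∀ a ∈ K0, a ∈ E := fun a ha => E.algebraMap_mem (⟨a, ha⟩ : ↥K0)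
  have hδ : δ ∈ E := by
    have hne : A₁ - A₂ ≠ 0 := sub_ne_zero.mpr hA
    have : δ = ((ξ + A₁ * δ) - (ξ + A₂ * δ)) / (A₁ - A₂) := by
      field_simp
      ring
    rw [this]
    exact div_mem (sub_mem hs ht) (sub_mem (hK0 _ hA₁) (hK0 _ hA₂))
  refine ⟨?_, hδ⟩
  have : ξ = (ξ + A₁ * δ) - A₁ * δ := by ring
  rw [this]
  exact sub_mem hs (mul_mem (hK0 _ hA₁) hδ)

theorem adjoin_K2_le (K0 : IntermediateField k Ω)
    (ξ δ A₁ A₂ θ' : Ω) (hA₁ : A₁ ∈ K0) (hA₂ : A₂ ∈ K0) (hA : A₁ ≠ A₂)
    (K2 : IntermediateField k Ω) (hK2 : K2 = IntermediateField.adjoin k ((K0 : Set Ω) ∪ {ξ, δ})) :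
    (IntermediateField.adjoin ↥K2 {θ'}).restrictScalars k ≤
      (IntermediateField.adjoin ↥K0 {ξ + A₁ * δ, ξ + A₂ * δ, θ'}).restrictScalars k := by
  set E : IntermediateField ↥K0 Ω :=
    IntermediateField.adjoin ↥K0 {ξ + A₁ * δ, ξ + A₂ * δ, θ'} with hE
  have hs_mem : ξ + A₁ * δ ∈ E := IntermediateField.subset_adjoin _ _ (by simp)
  have ht_mem : ξ + A₂ * δ ∈ E := IntermediateField.subset_adjoin _ _ (by simp)
  have hθ'_mem : θ' ∈ E := IntermediateField.subset_adjoin _ _ (by simp)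
  obtain ⟨hξ, hδ⟩ := xi_delta_mem K0 E ξ δ A₁ A₂ hA₁ hA₂ hA hs_mem ht_mem
  have hK0 : ∀ a ∈ K0, a ∈ E := fun a ha => E.algebraMap_mem (⟨a, ha⟩ : ↥K0)
  have hK2le : K2 ≤ E.restrictScalars k := by
    rw [hK2, IntermediateField.adjoin_le_iff]
    apply Set.union_subset
    · intro z hz
      exact hK0 z hz
    · intro z hz
      rcases hz with hz | hz
      · rw [hz]; exact hξ
      · rw [Set.mem_singleton_iff.mp hz]; exact hδ
  rw [IntermediateField.restrictScalars_adjoin, IntermediateField.adjoin_le_iff]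
  apply Set.union_subset
  · intro z hz
    exact hK2le hz
  · intro z hz
    rw [Set.mem_singleton_iff.mp hz]
    exact hθ'_mem

/-- Wrapper around the two-direction lemma in the form needed for the Bertini lemma. -/
theorem mem_of_adjoin_eq (K0 : IntermediateField k Ω) [Infinite ↥K0]
    (hsc : ∀ y : Ω, IsSeparable ↥K0 y → y ∈ K0)
    (ξ δ A₁ A₂ θ₁ θ₂ : Ω) (hA₁ : A₁ ∈ K0) (hA₂ : A₂ ∈ K0) (hA : A₁ ≠ A₂)
    (hs : Transcendental ↥(IntermediateField.adjoin ↥K0 {ξ + A₂ * δ}) (ξ + A₁ * δ))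
    (h₁ : IsSeparable ↥(IntermediateField.adjoin ↥K0 {ξ + A₁ * δ}) θ₁)
    (h₂ : IsAlgebraic ↥(IntermediateField.adjoin ↥K0 {ξ + A₂ * δ}) θ₂)
    (K2 : IntermediateField k Ω) (hK2 : K2 = IntermediateField.adjoin k ((K0 : Set Ω) ∪ {ξ, δ}))
    (heq : IntermediateField.adjoin ↥K2 {θ₁} = IntermediateField.adjoin ↥K2 {θ₂}) :
    θ₂ ∈ IntermediateField.adjoin ↥K0 {ξ + A₂ * δ} := by
  have hsc' : ∀ y : Ω, IsSeparable ↥K0 y → y ∈ (algebraMap ↥K0 Ω).range := by
    intro y hy
    exact ⟨⟨y, hsc y hy⟩, rfl⟩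
  have h12 : θ₁ ∈ IntermediateField.adjoin ↥K0 {ξ + A₁ * δ, ξ + A₂ * δ, θ₂} := by
    have : θ₁ ∈ IntermediateField.adjoin ↥K2 {θ₂} := by
      rw [← heq]; exact IntermediateField.mem_adjoin_simple_self _ _
    exact adjoin_K2_le K0 ξ δ A₁ A₂ θ₂ hA₁ hA₂ hA K2 hK2 this
  have h21 : θ₂ ∈ IntermediateField.adjoin ↥K0 {ξ + A₁ * δ, ξ + A₂ * δ, θ₁} := by
    have : θ₂ ∈ IntermediateField.adjoin ↥K2 {θ₁} := by
      rw [heq]; exact IntermediateField.mem_adjoin_simple_self _ _
    exact adjoin_K2_le K0 ξ δ A₁ A₂ θ₁ hA₁ hA₂ hA K2 hK2 this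
  exact Groth.Agent.Lib.Bertini57b.mem_adjoin_of_two_directions hsc' _ _ θ₁ θ₂ hs h₁ h₂ h12 h21

end Wrapper


end Groth.Agent.Lib.Bertini57d
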