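import Mathlib
import Groth.Agent.Lib.Bertini57c
import Groth.Agent.Lib.Bertini57d

/-!
# Bertini57e (helper57): the Bertini field lemma (Jouanolou / Stacks 0G4F), field-theoretic form.
-/
set_option autoImplicit false
set_option linter.style.haveILetI false
universe u
open TensorProduct

namespace Groth.Agent.Lib.Bertini57e

open MvPolynomial Groth.Agent.Lib.Bertini57d

section

variable {k K : Type u} [Field k] [Field K] [Algebra k K] {ι : Type} [Fintype ι]
  (Ω : Type u) [Field Ω] [Algebra (MvPolynomial ι K) Ω] [IsFractionRing (MvPolynomial ι K) Ω]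
  [Algebra K Ω] [Algebra k Ω] [IsScalarTower K (MvPolynomial ι K) Ω] [IsScalarTower k K Ω]

/-- the image set of the independent family minus the last element -/
theorem image_compl_last {Ω : Type*} (x : ι → Ω) (ξ δ : Ω) :
    (Sum.elim x ![ξ, δ]) '' ({Sum.inr 1}ᶜ : Set (ι ⊕ Fin 2)) = Set.range x ∪ {ξ} := by
  ext z
  constructor
  · rintro ⟨(i | a), ha, rfl⟩
    · exact Or.inl ⟨i, rfl⟩
    · fin_cases a
      · exact Or.inr rfl
      · exact absurd rfl ha
  · rintro (⟨i, rfl⟩ | hz)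
    · exact ⟨Sum.inl i, by simp, rfl⟩
    · rw [Set.mem_singleton_iff.mp hz]
      exact ⟨Sum.inr 0, by simp, rfl⟩

/-- There are at least two variables. -/
theorem exists_ne_of_algebraicIndependent [DecidableEq ι] (g : ι → K) (c : ι → k)
    (hind : AlgebraicIndependent k (Sum.elim (fun i : ι => algebraMap (MvPolynomial ι K) Ω (X i))
      ![∑ i, algebraMap K Ω (g i) * algebraMap (MvPolynomial ι K) Ω (X i),
        algebraMap K Ω (∑ i, c i • g i)])) (i : ι) : ∃ j, i ≠ j := by
  by_contra hcon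
  push Not at hcon
  have huniq : ∀ j, j = i := fun j => (hcon j).symm
  set x : ι → Ω := fun i => algebraMap (MvPolynomial ι K) Ω (X i) with hx
  have hξ : (∑ l, algebraMap K Ω (g l) * x l) = algebraMap K Ω (g i) * x i :=
    Fintype.sum_eq_single i (fun j hj => absurd (huniq j) hj)
  have hδ : algebraMap K Ω (∑ l, c l • g l) = algebraMap k Ω (c i) * algebraMap K Ω (g i) := by
    rw [Fintype.sum_eq_single i (fun j hj => absurd (huniq j) hj), Algebra.smul_def, map_mul,
      ← IsScalarTower.algebraMap_apply k K Ω]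
  let Q : MvPolynomial (ι ⊕ Fin 2) k := C (c i) * X (Sum.inr 0) - X (Sum.inr 1) * X (Sum.inl i)
  have hQ : MvPolynomial.aeval (Sum.elim x ![∑ l, algebraMap K Ω (g l) * x l,
      algebraMap K Ω (∑ l, c l • g l)]) Q = 0 := by
    simp only [Q, map_sub, map_mul, MvPolynomial.aeval_C, MvPolynomial.aeval_X, Sum.elim_inr,
      Sum.elim_inl, Matrix.cons_val_zero, Matrix.cons_val_one]
    rw [hξ, hδ]
    ring
  have hQ0 : Q = 0 := hind (by rw [hQ, map_zero])
  -- evaluate
  have h1 := congrArg (MvPolynomial.eval (fun s : ι ⊕ Fin 2 => Sum.elim (fun _ => (0 : k)) (fun _ => 1) s)) hQ0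
  simp only [Q, map_sub, map_mul, MvPolynomial.eval_C, MvPolynomial.eval_X, Sum.elim_inr,
    Sum.elim_inl, mul_one, mul_zero, sub_zero, map_zero] at h1
  -- so c i = 0 and δ = 0
  have hδ0 : algebraMap K Ω (∑ l, c l • g l) = 0 := by rw [hδ, h1, map_zero, zero_mul]
  have htr := hind.transcendental (Sum.inr 1)
  simp only [Sum.elim_inr, Matrix.cons_val_one] at htr
  apply htr
  show IsAlgebraic k (algebraMap K Ω (∑ i, c i • g i))
  rw [hδ0]
  exact isAlgebraic_zero

end

section Main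

variable (k K : Type u) [Field k] [Field K] [Algebra k K] (ι : Type) [Fintype ι] [DecidableEq ι]
  (Ω : Type u) [Field Ω] [Algebra (MvPolynomial ι K) Ω] [IsFractionRing (MvPolynomial ι K) Ω]
  [Algebra K Ω] [Algebra k Ω] [IsScalarTower K (MvPolynomial ι K) Ω] [IsScalarTower k K Ω]

/-- the variables -/
noncomputable def xv : ι → Ω :=
  fun l => algebraMap (MvPolynomial ι K) Ω (X l)

variable {K ι}

/-- the generic linear form -/
noncomputable def xi (g : ι → K) : Ω := ∑ l, algebraMap K Ω (g l) * xv K ι Ω l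

variable {k}

/-- the special member -/
noncomputable def de (g : ι → K) (c : ι → k) : Ω := algebraMap K Ω (∑ l, c l • g l)

variable (K)

/-- coefficients in `K` -/
noncomputable def cK (c : ι → k) : ι → K := fun l => algebraMap k K (c l)

/-- the invariant linear form in `Ω` -/
noncomputable def LL (c : ι → k) (i j : ι) : Ω :=
  algebraMap (MvPolynomial ι K) Ω (ell (cK K c) i j)

/-- the endomorphisms -/
noncomputable def sg (c : ι → k) (i j : ι) (r : ℕ) : Ω →ₐ[K] Ω := sigma Ω (cK K c) i j r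

variable (k ι)

/-- `k(x)` -/
noncomputable def K0 : IntermediateField k Ω := Groth.Agent.Lib.Bertini57c.kx k (K := K) (σ := ι) Ω

variable {K ι}

/-- `k(x, ξ)` -/
noncomputable def K1 (g : ι → K) : IntermediateField k Ω :=
  IntermediateField.adjoin k (Set.range (xv K ι Ω) ∪ {xi Ω g})

variable {k}
variable (g : ι → K) (c : ι → k) (i j : ι)

theorem sg_xv (r : ℕ) (l : ι) :
    sg K Ω c i j r (xv K ι Ω l) = xv K ι Ω l + algebraMap k Ω (c l) * LL K Ω c i j ^ r := by
  have := sigma_x Ω (cK K c) i j r l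
  rw [sg, xv, this, cK, ← IsScalarTower.algebraMap_apply k K Ω]
  rfl

theorem sg_LL (r : ℕ) : sg K Ω c i j r (LL K Ω c i j) = LL K Ω c i j :=
  sigma_ell Ω (cK K c) i j r

theorem sg_LL_pow (r r' : ℕ) : sg K Ω c i j r (LL K Ω c i j ^ r') = LL K Ω c i j ^ r' := by
  rw [map_pow, sg_LL]

theorem sg_de (r : ℕ) : sg K Ω c i j r (de Ω g c) = de Ω g c :=
  (sg K Ω c i j r).commutes _

theorem de_eq : de Ω g c = ∑ l, algebraMap K Ω (g l) * algebraMap k Ω (c l) := by
  rw [de, map_sum]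
  apply Finset.sum_congr rfl
  intro l _
  rw [Algebra.smul_def, map_mul, ← IsScalarTower.algebraMap_apply k K Ω, mul_comm]

theorem sg_xi (r : ℕ) :
    sg K Ω c i j r (xi Ω g) = xi Ω g + LL K Ω c i j ^ r * de Ω g c := by
  rw [xi, map_sum, de_eq, Finset.mul_sum, ← Finset.sum_add_distrib]
  apply Finset.sum_congr rfl
  intro l _
  rw [map_mul, sg_xv, (sg K Ω c i j r).commutes]
  ring

theorem xv_mem_K0 (l : ι) : xv K ι Ω l ∈ K0 k K ι Ω :=
  IntermediateField.subset_adjoin k _ ⟨l, rfl⟩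

theorem K0_le_K1 : K0 k K ι Ω ≤ K1 k Ω g :=
  IntermediateField.adjoin.mono k _ _ Set.subset_union_left

theorem xi_mem_K1 : xi Ω g ∈ K1 k Ω g :=
  IntermediateField.subset_adjoin k _ (Or.inr rfl)

theorem LL_eq : LL K Ω c i j =
    algebraMap k Ω (c i) * xv K ι Ω j - algebraMap k Ω (c j) * xv K ι Ω i := by
  simp only [LL, ell, map_sub, map_mul, cK, xv]
  rw [IsScalarTower.algebraMap_apply k K Ω (c i), IsScalarTower.algebraMap_apply k K Ω (c j),
    IsScalarTower.algebraMap_apply K (MvPolynomial ι K) Ω, IsScalarTower.algebraMap_apply K (MvPolynomial ι K) Ω,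
    MvPolynomial.algebraMap_eq]

theorem LL_mem_K0 : LL K Ω c i j ∈ K0 k K ι Ω := by
  rw [LL_eq]
  exact sub_mem (mul_mem ((K0 k K ι Ω).algebraMap_mem _) (xv_mem_K0 Ω j))
    (mul_mem ((K0 k K ι Ω).algebraMap_mem _) (xv_mem_K0 Ω i))

/-- `s_r = ξ + L^r δ` -/
noncomputable def sr (r : ℕ) : Ω := xi Ω g + LL K Ω c i j ^ r * de Ω g c

theorem sg_mem_of_mem_K1 (r : ℕ) (w : Ω) (hw : w ∈ K1 k Ω g) :
    sg K Ω c i j r w ∈ IntermediateField.adjoin ↥(K0 k K ι Ω) {sr Ω g c i j r} := by
  have hle : K1 k Ω g ≤ ((IntermediateField.adjoin ↥(K0 k K ι Ω)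
      {sr Ω g c i j r}).restrictScalars k).comap ((sg K Ω c i j r).restrictScalars k) := by
    rw [K1, IntermediateField.adjoin_le_iff]
    apply Set.union_subset
    · rintro _ ⟨l, rfl⟩
      show sg K Ω c i j r (xv K ι Ω l) ∈ IntermediateField.adjoin ↥(K0 k K ι Ω) {sr Ω g c i j r}
      rw [sg_xv]
      have : xv K ι Ω l + algebraMap k Ω (c l) * LL K Ω c i j ^ r ∈ K0 k K ι Ω :=
        add_mem (xv_mem_K0 Ω l) (mul_mem ((K0 k K ι Ω).algebraMap_mem _)
          (pow_mem (LL_mem_K0 Ω c i j) r))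
      exact (IntermediateField.adjoin ↥(K0 k K ι Ω) _).algebraMap_mem (⟨_, this⟩ : ↥(K0 k K ι Ω))
    · intro z hz
      rw [Set.mem_singleton_iff.mp hz]
      show sg K Ω c i j r (xi Ω g) ∈ IntermediateField.adjoin ↥(K0 k K ι Ω) {sr Ω g c i j r}
      rw [sg_xi]
      exact IntermediateField.mem_adjoin_simple_self _ _
  exact hle hw

theorem exists_preimage (r : ℕ) (e : Ω)
    (he : e ∈ IntermediateField.adjoin ↥(K0 k K ι Ω) {sr Ω g c i j r}) :
    ∃ w ∈ K1 k Ω g, sg K Ω c i j r w = e := by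
  have hle : (IntermediateField.adjoin ↥(K0 k K ι Ω) {sr Ω g c i j r}).restrictScalars k ≤
      (K1 k Ω g).map ((sg K Ω c i j r).restrictScalars k) := by
    rw [IntermediateField.restrictScalars_adjoin, IntermediateField.adjoin_le_iff]
    apply Set.union_subset
    · have h0 : K0 k K ι Ω ≤ (K1 k Ω g).map ((sg K Ω c i j r).restrictScalars k) := by
        rw [K0, Groth.Agent.Lib.Bertini57c.kx, IntermediateField.adjoin_le_iff]
        rintro _ ⟨l, rfl⟩
        refine ⟨xv K ι Ω l - algebraMap k Ω (c l) * LL K Ω c i j ^ r, ?_, ?_⟩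
        · exact K0_le_K1 Ω g (sub_mem (xv_mem_K0 Ω l) (mul_mem ((K0 k K ι Ω).algebraMap_mem _)
            (pow_mem (LL_mem_K0 Ω c i j) r)))
        · show sg K Ω c i j r (xv K ι Ω l - algebraMap k Ω (c l) * LL K Ω c i j ^ r) = xv K ι Ω l
          rw [map_sub, map_mul, sg_xv, sg_LL_pow,
            IsScalarTower.algebraMap_apply k K Ω, (sg K Ω c i j r).commutes]
          ring
      exact fun z hz => h0 hz
    · intro z hz
      rw [Set.mem_singleton_iff.mp hz]
      exact ⟨xi Ω g, xi_mem_K1 Ω g, sg_xi Ω g c i j r⟩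
  obtain ⟨w, hw, hwe⟩ := hle he
  exact ⟨w, hw, hwe⟩

theorem isSeparable_sg (r : ℕ) (θ : Ω) (hθ : IsSeparable ↥(K1 k Ω g) θ) :
    IsSeparable ↥(IntermediateField.adjoin ↥(K0 k K ι Ω) {sr Ω g c i j r}) (sg K Ω c i j r θ) := by
  let ρ : ↥(K1 k Ω g) →+* ↥(IntermediateField.adjoin ↥(K0 k K ι Ω) {sr Ω g c i j r}) :=
    { toFun := fun w => ⟨sg K Ω c i j r w.1, sg_mem_of_mem_K1 Ω g c i j r w.1 w.2⟩
      map_one' := Subtype.ext (map_one _)
      map_mul' := fun a b => Subtype.ext (map_mul _ _ _)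
      map_zero' := Subtype.ext (map_zero _)
      map_add' := fun a b => Subtype.ext (map_add _ _ _) }
  exact isSeparable_map (sg K Ω c i j r).toRingHom ρ (fun w => rfl) θ hθ

theorem sr_def (r : ℕ) : sr Ω g c i j r = xi Ω g + LL K Ω c i j ^ r * de Ω g c := rfl

/-- **Bertini field lemma** (Jouanolou; Stacks 0G4F): `k(x, ξ)` is separably closed in `K(x)`. -/
theorem bertini_field [Algebra.EssFiniteType k Ω]
    (hgi : ∀ (k' : Type u) [Field k'] [Algebra k k'], IrreducibleSpace (PrimeSpectrum (k' ⊗[k] K)))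
    (hind : AlgebraicIndependent k (Sum.elim (xv K ι Ω) ![xi Ω g, de Ω g c]))
    (θ : Ω) (hθ : IsSeparable ↥(K1 k Ω g) θ) : θ ∈ K1 k Ω g := by
  classical
  have hδtr : Transcendental ↥(K1 k Ω g) (de Ω g c) := by
    have := hind.transcendental_adjoin (s := {Sum.inr 1}ᶜ) (i := Sum.inr 1) (by simp)
    rw [image_compl_last] at this
    exact IntermediateField.transcendental_adjoin_iff.mpr this
  have hδ0 : de Ω g c ≠ 0 := fun h => hδtr (h ▸ isAlgebraic_zero)
  obtain ⟨i, hci⟩ : ∃ i, c i ≠ 0 := by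
    by_contra hcon
    push Not at hcon
    apply hδ0
    rw [de]
    simp [hcon]
  obtain ⟨j, hij⟩ := exists_ne_of_algebraicIndependent Ω g c hind i
  have hsc : ∀ y, IsSeparable ↥(K0 k K ι Ω) y → y ∈ K0 k K ι Ω := fun y hy =>
    Groth.Agent.Lib.Bertini57c.sepClosedIn_mvRatFunc Ω hgi y hy
  haveI : Infinite ↥(K0 k K ι Ω) := by
    have h1 : Transcendental k (xv K ι Ω i) := hind.transcendental (Sum.inl i)
    have h2 : Transcendental k (⟨xv K ι Ω i, xv_mem_K0 Ω i⟩ : ↥(K0 k K ι Ω)) :=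
      (transcendental_algebraMap_iff (algebraMap ↥(K0 k K ι Ω) Ω).injective).mp h1
    exact h2.infinite
  have hAinj : ∀ r1 r2 : ℕ, r1 ≠ r2 → LL K Ω c i j ^ r1 ≠ LL K Ω c i j ^ r2 := by
    intro r1 r2 hne h
    apply hne
    have hcKi : cK K c i ≠ 0 := by
      intro h0
      exact hci ((algebraMap k K).injective (by rw [map_zero]; exact h0))
    apply ell_pow_injective (cK K c) i j hij hcKi
    apply IsFractionRing.injective (MvPolynomial ι K) Ω
    simp only [map_pow]
    exact h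
  have hLmem : ∀ r : ℕ, LL K Ω c i j ^ r ∈ K0 k K ι Ω := fun r => pow_mem (LL_mem_K0 Ω c i j) r
  -- K2
  let K2 : IntermediateField k Ω :=
    IntermediateField.adjoin k (((K0 k K ι Ω : IntermediateField k Ω) : Set Ω) ∪ {xi Ω g, de Ω g c})
  haveI : Algebra.EssFiniteType ↥K2 Ω := Algebra.EssFiniteType.of_comp k ↥K2 Ω
  have hsep2 : ∀ r, IsSeparable ↥K2 (sg K Ω c i j r θ) := by
    intro r
    have h1 := isSeparable_sg Ω g c i j r θ hθ
    have hle : (IntermediateField.adjoin ↥(K0 k K ι Ω) {sr Ω g c i j r}).restrictScalars k ≤ K2 := by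
      rw [IntermediateField.restrictScalars_adjoin, IntermediateField.adjoin_le_iff]
      apply Set.union_subset
      · intro z hz
        exact IntermediateField.subset_adjoin k _ (Or.inl hz)
      · intro z hz
        rw [Set.mem_singleton_iff.mp hz, sr_def]
        exact add_mem (IntermediateField.subset_adjoin k _ (Or.inr (Or.inl rfl)))
          (mul_mem (IntermediateField.subset_adjoin k _ (Or.inl (hLmem r)))
            (IntermediateField.subset_adjoin k _ (Or.inr (Or.inr rfl))))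
    let ρ' : ↥(IntermediateField.adjoin ↥(K0 k K ι Ω) {sr Ω g c i j r}) →+* ↥K2 :=
      { toFun := fun w => ⟨w.1, hle w.2⟩
        map_one' := rfl
        map_mul' := fun _ _ => rfl
        map_zero' := rfl
        map_add' := fun _ _ => rfl }
    exact isSeparable_map (RingHom.id Ω) ρ' (fun w => rfl) _ h1
  obtain ⟨r1, r2, hne, heq⟩ := exists_ne_adjoin_eq (F := ↥K2) (fun r => sg K Ω c i j r θ) hsep2
  -- transcendence
  have hs : Transcendental ↥(IntermediateField.adjoin ↥(K0 k K ι Ω) {sr Ω g c i j r2})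
      (sr Ω g c i j r1) := by
    set B : Ω := LL K Ω c i j ^ r1 - LL K Ω c i j ^ r2 with hB
    have hB0 : B ≠ 0 := sub_ne_zero.mpr (hAinj r1 r2 hne)
    have hBmem : B⁻¹ ∈ K1 k Ω g :=
      inv_mem (K0_le_K1 Ω g (sub_mem (hLmem r1) (hLmem r2)))
    set z : Ω := xi Ω g + B * de Ω g c with hz
    have hztr : Transcendental ↥(K1 k Ω g) z := by
      intro halg
      apply hδtr
      have : de Ω g c = (z - xi Ω g) * B⁻¹ := by
        rw [hz]
        field_simp
        ring
      rw [this]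
      exact (halg.sub (isAlgebraic_algebraMap (⟨xi Ω g, xi_mem_K1 Ω g⟩ : ↥(K1 k Ω g)))).mul
        (isAlgebraic_algebraMap (⟨B⁻¹, hBmem⟩ : ↥(K1 k Ω g)))
    have hσz : (sg K Ω c i j r2).toRingHom z = sr Ω g c i j r1 := by
      show sg K Ω c i j r2 z = _
      rw [hz, hB, map_add, map_mul, map_sub, sg_xi, sg_LL_pow, sg_LL_pow, sg_de, sr_def]
      ring
    have := transcendental_map (sg K Ω c i j r2).toRingHom (E₁ := ↥(K1 k Ω g))
      (E₂ := ↥(IntermediateField.adjoin ↥(K0 k K ι Ω) {sr Ω g c i j r2}))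
      (fun e₂ => by
        obtain ⟨w, hw, hwe⟩ := exists_preimage Ω g c i j r2 e₂.1 e₂.2
        exact ⟨⟨w, hw⟩, hwe⟩) z hztr
    rwa [hσz] at this
  have hmem := mem_of_adjoin_eq (K0 k K ι Ω) hsc (xi Ω g) (de Ω g c) (LL K Ω c i j ^ r1)
    (LL K Ω c i j ^ r2) (sg K Ω c i j r1 θ) (sg K Ω c i j r2 θ) (hLmem r1) (hLmem r2)
    (hAinj r1 r2 hne) hs (isSeparable_sg Ω g c i j r1 θ hθ)
    (isSeparable_sg Ω g c i j r2 θ hθ).isIntegral.isAlgebraic K2 rfl heq
  obtain ⟨w, hw, hwe⟩ := exists_preimage Ω g c i j r2 _ hmem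
  have : w = θ := (sg K Ω c i j r2).toRingHom.injective hwe
  rw [← this]
  exact hw

end Main

end Groth.Agent.Lib.Bertini57e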