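import Mathlib.LinearAlgebra.Finsupp.SumProd
import Mathlib.LinearAlgebra.Finsupp.Pi
import Mathlib.LinearAlgebra.Finsupp.LSum
import Mathlib.LinearAlgebra.Finsupp.LinearCombination
import Mathlib.LinearAlgebra.FreeModule.Basic
import Mathlib.LinearAlgebra.Finsupp.VectorSpace
import Mathlib.Algebra.Module.Projective
import Mathlib.SetTheory.Cardinal.Arithmetic

set_option autoImplicit false
universe u

namespace Groth.Agent.Lib.Swindle

variable (R : Type*) [CommRing R]

/-- Finitely supported functions into a product split as a product. -/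
noncomputable def finsuppProdSplit (α : Type*) (M N : Type*)
    [AddCommGroup M] [Module R M] [AddCommGroup N] [Module R N] :
    (α →₀ M × N) ≃ₗ[R] (α →₀ M) × (α →₀ N) :=
  LinearEquiv.ofLinearMap
    ((Finsupp.mapRange.linearMap (LinearMap.fst R M N)).prod
      (Finsupp.mapRange.linearMap (LinearMap.snd R M N)))
    ((Finsupp.mapRange.linearMap (LinearMap.inl R M N)).coprod
      (Finsupp.mapRange.linearMap (LinearMap.inr R M N)))
    (by
      apply LinearMap.ext
      rintro ⟨g, h⟩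
      apply Prod.ext
      · ext a
        simp
      · ext a
        simp)
    (by
      apply LinearMap.ext
      intro f
      ext a
      · simp
      · simp)

/-- `M × (ℕ →₀ M) ≃ (ℕ →₀ M)` (Hilbert hotel). -/
noncomputable def shiftEquiv (M : Type*) [AddCommGroup M] [Module R M] :
    (M × (ℕ →₀ M)) ≃ₗ[R] (ℕ →₀ M) :=
  ((Finsupp.uniqueLinearEquiv R M (α := PUnit.{1}) PUnit.unit).symm.prodCongr
      (LinearEquiv.refl R (ℕ →₀ M))).trans
    ((Finsupp.sumFinsuppLEquivProdFinsupp R).symm.trans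
      (Finsupp.domLCongr ((Equiv.sumComm _ _).trans Equiv.natSumPUnitEquivNat)))

/-- Eilenberg swindle: if `P × Q ≃ F` then `P × F^(ℕ) ≃ F^(ℕ)`. -/
noncomputable def swindle {P Q F : Type*} [AddCommGroup P] [Module R P] [AddCommGroup Q]
    [Module R Q] [AddCommGroup F] [Module R F] (e : (P × Q) ≃ₗ[R] F) :
    (P × (ℕ →₀ F)) ≃ₗ[R] (ℕ →₀ F) :=
  let eF : (ℕ →₀ F) ≃ₗ[R] (ℕ →₀ P) × (ℕ →₀ Q) :=
    (Finsupp.mapRange.linearEquiv (α := ℕ) e.symm).trans (finsuppProdSplit R ℕ P Q)
  let e1 : (P × (ℕ →₀ F)) ≃ₗ[R] P × ((ℕ →₀ P) × (ℕ →₀ Q)) :=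
    (LinearEquiv.refl R P).prodCongr eF
  let e2 : (P × ((ℕ →₀ P) × (ℕ →₀ Q))) ≃ₗ[R] (P × (ℕ →₀ P)) × (ℕ →₀ Q) :=
    (LinearEquiv.prodAssoc R P (ℕ →₀ P) (ℕ →₀ Q)).symm
  let e3 : ((P × (ℕ →₀ P)) × (ℕ →₀ Q)) ≃ₗ[R] (ℕ →₀ P) × (ℕ →₀ Q) :=
    (shiftEquiv R P).prodCongr (LinearEquiv.refl R (ℕ →₀ Q))
  e1 ≪≫ₗ e2 ≪≫ₗ e3 ≪≫ₗ eF.symm

/-- A split surjection `π : F → P` (section `s`) gives `F ≃ P × ker π`. -/
noncomputable def splitEquiv {P F : Type*} [AddCommGroup P] [Module R P] [AddCommGroup F]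
    [Module R F] (π : F →ₗ[R] P) (s : P →ₗ[R] F) (h : π ∘ₗ s = LinearMap.id) :
    (P × LinearMap.ker π) ≃ₗ[R] F where
  toFun x := s x.1 + x.2
  map_add' x y := by simp only [Prod.fst_add, Prod.snd_add, map_add, Submodule.coe_add]; abel
  map_smul' r x := by simp
  invFun y := (π y, ⟨y - s (π y), by
    have := LinearMap.congr_fun h (π y)
    simp only [LinearMap.comp_apply, LinearMap.id_apply] at this
    simp [this]⟩)
  left_inv x := by
    have h1 := LinearMap.congr_fun h x.1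
    simp only [LinearMap.comp_apply, LinearMap.id_apply] at h1
    have h2 : π (x.2 : F) = 0 := x.2.2
    apply Prod.ext
    · simp [h1, h2]
    · apply Subtype.ext
      simp [h1, h2]
  right_inv y := by simp

/-- For a projective module `P`, `P × (ℕ × P →₀ R)` is free on `ℕ × P`. -/
noncomputable def projectiveSwindle (P : Type*) [AddCommGroup P] [Module R P]
    [Module.Projective R P] : (P × (ℕ × P →₀ R)) ≃ₗ[R] (ℕ × P →₀ R) :=
  let s := (Module.projective_def'.mp (inferInstance : Module.Projective R P)).choose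
  let hs := (Module.projective_def'.mp (inferInstance : Module.Projective R P)).choose_spec
  let e := splitEquiv R (Finsupp.linearCombination R id) s hs
  let c : (ℕ →₀ (P →₀ R)) ≃ₗ[R] (ℕ × P →₀ R) := (Finsupp.curryLinearEquiv R).symm
  ((LinearEquiv.refl R P).prodCongr c.symm) ≪≫ₗ
    swindle R (Q := LinearMap.ker (Finsupp.linearCombination R (id : P → P))) e ≪≫ₗ c

/-- If `ρ ∘ ψ = id` then `range ψ` and `ker ρ` are complementary. -/
theorem isCompl_range_ker_of_comp_eq_id {M N : Type*} [AddCommGroup M] [Module R M]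
    [AddCommGroup N] [Module R N] (ψ : M →ₗ[R] N) (ρ : N →ₗ[R] M) (h : ρ ∘ₗ ψ = LinearMap.id) :
    IsCompl (LinearMap.range ψ) (LinearMap.ker ρ) := by
  have h' : ∀ v, ρ (ψ v) = v := fun v ↦ LinearMap.congr_fun h v
  constructor
  · rw [Submodule.disjoint_def]
    rintro x ⟨v, rfl⟩ hx
    rw [LinearMap.mem_ker, h'] at hx
    rw [hx, map_zero]
  · rw [codisjoint_iff, eq_top_iff]
    intro x _
    have : x = ψ (ρ x) + (x - ψ (ρ x)) := by abel
    rw [this]
    refine Submodule.add_mem_sup ⟨_, rfl⟩ ?_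
    rw [LinearMap.mem_ker, map_sub, h', sub_self]

end Groth.Agent.Lib.Swindle
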