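import Mathlib
import Groth.Agent.Lib.Swindle

/-!
# Finitely generated submodules of free modules over Bézout domains are free
-/

namespace Groth.Agent.Lib.BezoutFree

open Groth.Agent.Lib.Swindle

/-- A principal ideal of a domain is a free module. -/
theorem free_of_isPrincipal {R : Type*} [CommRing R] [IsDomain R] (I : Ideal R)
    [I.IsPrincipal] : Module.Free R I := by
  by_cases hI : I = ⊥
  · subst hI
    exact Module.Free.of_subsingleton R _
  · exact Module.Free.of_equiv (Ideal.isoBaseOfIsPrincipal hI)

/-- Over a Bézout domain, a finitely generated module which embeds in `Rⁿ` is free. -/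
theorem free_of_injective_pi {R : Type*} [CommRing R] [IsDomain R] [IsBezout R] :
    ∀ (n : ℕ) (M : Type*) [AddCommGroup M] [Module R M] [Module.Finite R M]
      (f : M →ₗ[R] (Fin n → R)), Function.Injective f → Module.Free R M := by
  intro n
  induction n with
  | zero =>
    intro M _ _ _ f hf
    have : Subsingleton M := hf.subsingleton
    exact Module.Free.of_subsingleton R M
  | succ n ih =>
    intro M _ _ _ f hf
    let g : M →ₗ[R] R := (LinearMap.proj 0) ∘ₗ f
    let I : Ideal R := LinearMap.range g
    have hIfg : I.FG := by
      have : (⊤ : Submodule R M).FG := Module.Finite.fg_top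
      have h2 := this.map g
      rwa [Submodule.map_top] at h2
    have : I.IsPrincipal := IsBezout.isPrincipal_of_FG I hIfg
    have : Module.Free R I := free_of_isPrincipal I
    -- section of `g.rangeRestrict`
    obtain ⟨s, hs⟩ := Module.projective_lifting_property g.rangeRestrict LinearMap.id
      g.surjective_rangeRestrict
    have hcompl := isCompl_range_ker_of_comp_eq_id R s g.rangeRestrict hs
    have hsinj : Function.Injective s := by
      intro x y hxy
      have := congrArg g.rangeRestrict hxy
      rwa [← LinearMap.comp_apply, ← LinearMap.comp_apply, hs] at this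
    haveI : Module.Free R (LinearMap.range s) :=
      Module.Free.of_equiv (LinearEquiv.ofInjective s hsinj)
    -- the kernel is finite
    haveI : Module.Finite R (LinearMap.ker g.rangeRestrict) := by
      have e := Submodule.quotientEquivOfIsCompl _ _ hcompl
      exact Module.Finite.equiv e
    -- the kernel embeds in `Rⁿ`
    let f' : LinearMap.ker g.rangeRestrict →ₗ[R] (Fin n → R) :=
      (LinearMap.pi fun i : Fin n => LinearMap.proj (Fin.succ i)) ∘ₗ f ∘ₗ Submodule.subtype _
    have hf' : Function.Injective f' := by
      rw [← LinearMap.ker_eq_bot, LinearMap.ker_eq_bot']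
      rintro ⟨x, hx⟩ hx'
      have hx0 : g x = 0 := by
        have := LinearMap.mem_ker.mp hx
        exact congrArg Subtype.val this
      have : f x = 0 := by
        funext i
        refine Fin.cases ?_ (fun j => ?_) i
        · exact hx0
        · exact congrFun hx' j
      have : x = 0 := hf (by rw [this, map_zero])
      exact Subtype.ext this
    haveI : Module.Free R (LinearMap.ker g.rangeRestrict) := ih _ f' hf'
    exact Module.Free.of_equiv (Submodule.prodEquivOfIsCompl _ _ hcompl)

end Groth.Agent.Lib.BezoutFree

namespace Groth.Agent.Lib.BezoutFree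

/-- Over a Bézout domain, a finitely generated submodule of a free module is free. -/
theorem free_of_fg_submodule {R : Type*} [CommRing R] [IsDomain R] [IsBezout R]
    {F : Type*} [AddCommGroup F] [Module R F] [Module.Free R F] (N : Submodule R F) (hN : N.FG) :
    Module.Free R N := by
  classical
  have hfin : Module.Finite R N := Module.Finite.iff_fg.mpr hN
  obtain ⟨S, hS⟩ := hN
  let b := Module.Free.chooseBasis R F
  let s : Finset (Module.Free.ChooseBasisIndex R F) := S.biUnion fun x => (b.repr x).support
  have hsupp : ∀ x ∈ N, ∀ i, i ∉ s → b.repr x i = 0 := by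
    intro x hx
    rw [← hS] at hx
    induction hx using Submodule.span_induction with
    | mem x hx =>
      intro i hi
      by_contra h
      exact hi (Finset.mem_biUnion.mpr ⟨x, hx, Finsupp.mem_support_iff.mpr h⟩)
    | zero => intro i _; simp
    | add x y _ _ hx hy => intro i hi; simp [hx i hi, hy i hi]
    | smul c x _ hx => intro i hi; simp [hx i hi]
  let φ : F →ₗ[R] (s → R) :=
    (LinearMap.pi fun i : s => (Finsupp.lapply i.1)) ∘ₗ b.repr.toLinearMap
  let e := Fintype.equivFin s
  let f : N →ₗ[R] (Fin (Fintype.card s) → R) :=
    (LinearEquiv.funCongrLeft R R e.symm).toLinearMap ∘ₗ φ ∘ₗ N.subtype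
  refine free_of_injective_pi (Fintype.card s) N f ?_
  rw [← LinearMap.ker_eq_bot, LinearMap.ker_eq_bot']
  rintro ⟨x, hx⟩ hfx
  have h1 : φ x = 0 := by
    have : (LinearEquiv.funCongrLeft R R e.symm) (φ x) = 0 := hfx
    exact (LinearEquiv.map_eq_zero_iff _).mp this
  have h2 : b.repr x = 0 := by
    ext i
    by_cases hi : i ∈ s
    · exact congrFun h1 ⟨i, hi⟩
    · exact hsupp x hx i hi
  have : x = 0 := by simpa using h2
  exact Subtype.ext this

end Groth.Agent.Lib.BezoutFree
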