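import Mathlib
import Groth.Agent.Lib.BezoutFree

/-!
# Finitely presented torsion modules over Bézout domains (helper6)

Over a Bézout domain `R`, a finitely presented torsion module is a retract of a finite product of
cyclic modules `R/(r j)` with `r j ≠ 0` (Warfield), proved by an elementary local-global argument:
`RetractUpTo T s` says that `T` is a retract "up to multiplication by `s`" of such a product; the
set of such `s` is an ideal, and it is contained in no maximal ideal.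
-/

namespace Groth.Agent.Lib.BezoutCyclic6

universe u

open Submodule

section General

variable {R : Type u} [CommRing R]

/-- `T` is, up to multiplication by `s`, a retract of a finite product of cyclic modules
`R/(r j)` with `r j ≠ 0`. -/
def RetractUpTo (T : Type*) [AddCommGroup T] [Module R T] (s : R) : Prop :=
  ∃ (ι : Type) (_ : Fintype ι) (r : ι → R), (∀ j, r j ≠ 0) ∧
    ∃ (h : T →ₗ[R] (∀ j, R ⧸ Ideal.span {r j})) (g : (∀ j, R ⧸ Ideal.span {r j}) →ₗ[R] T),
      g ∘ₗ h = s • LinearMap.id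

variable {T T' T₁ T₂ : Type*} [AddCommGroup T] [Module R T] [AddCommGroup T'] [Module R T']
  [AddCommGroup T₁] [Module R T₁] [AddCommGroup T₂] [Module R T₂]

lemma RetractUpTo.zero : RetractUpTo (R := R) T 0 :=
  ⟨PEmpty, inferInstance, fun j => j.elim, fun j => j.elim, 0, 0, by simp⟩

lemma RetractUpTo.smul {s : R} (a : R) (hs : RetractUpTo T s) : RetractUpTo T (a * s) := by
  obtain ⟨ι, _, r, hr, h, g, hgh⟩ := hs
  refine ⟨ι, inferInstance, r, hr, a • h, g, ?_⟩
  rw [LinearMap.comp_smul, hgh, smul_smul]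

/-- The product of two families of cyclic modules as a family indexed by the sum. -/
noncomputable def sumEquiv {ι₁ ι₂ : Type} (r₁ : ι₁ → R) (r₂ : ι₂ → R) :
    (∀ j : ι₁ ⊕ ι₂, R ⧸ Ideal.span {Sum.elim r₁ r₂ j}) ≃ₗ[R]
      (∀ i, R ⧸ Ideal.span {r₁ i}) × (∀ i, R ⧸ Ideal.span {r₂ i}) :=
  LinearEquiv.sumPiEquivProdPi R ι₁ ι₂ (fun j => R ⧸ Ideal.span {Sum.elim r₁ r₂ j})

lemma RetractUpTo.add {s₁ s₂ : R} (h₁ : RetractUpTo T s₁) (h₂ : RetractUpTo T s₂) :
    RetractUpTo T (s₁ + s₂) := by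
  obtain ⟨ι₁, _, r₁, hr₁, h₁, g₁, hgh₁⟩ := h₁
  obtain ⟨ι₂, _, r₂, hr₂, h₂, g₂, hgh₂⟩ := h₂
  refine ⟨ι₁ ⊕ ι₂, inferInstance, Sum.elim r₁ r₂, ?_,
    (sumEquiv r₁ r₂).symm.toLinearMap ∘ₗ (h₁.prod h₂),
    (g₁.coprod g₂) ∘ₗ (sumEquiv r₁ r₂).toLinearMap, ?_⟩
  · rintro (j | j)
    · exact hr₁ j
    · exact hr₂ j
  · ext x
    have e₁ := LinearMap.congr_fun hgh₁ x
    have e₂ := LinearMap.congr_fun hgh₂ x
    simp only [LinearMap.coe_comp, Function.comp_apply, LinearMap.smul_apply, LinearMap.id_coe,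
      id_eq] at e₁ e₂
    have e₃ : (sumEquiv r₁ r₂) ((sumEquiv r₁ r₂).symm (h₁ x, h₂ x)) = (h₁ x, h₂ x) :=
      LinearEquiv.apply_symm_apply _ _
    show (g₁.coprod g₂) ((sumEquiv r₁ r₂) ((sumEquiv r₁ r₂).symm (h₁ x, h₂ x))) = (s₁ + s₂) • x
    rw [e₃, LinearMap.coprod_apply, e₁, e₂, add_smul]

lemma RetractUpTo.prod {s₁ s₂ : R} (h₁ : RetractUpTo T₁ s₁) (h₂ : RetractUpTo T₂ s₂) :
    RetractUpTo (T₁ × T₂) (s₁ * s₂) := by
  obtain ⟨ι₁, _, r₁, hr₁, h₁, g₁, hgh₁⟩ := h₁
  obtain ⟨ι₂, _, r₂, hr₂, h₂, g₂, hgh₂⟩ := h₂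
  refine ⟨ι₁ ⊕ ι₂, inferInstance, Sum.elim r₁ r₂, ?_,
    (sumEquiv r₁ r₂).symm.toLinearMap ∘ₗ ((s₂ • h₁).prodMap (s₁ • h₂)),
    (g₁.prodMap g₂) ∘ₗ (sumEquiv r₁ r₂).toLinearMap, ?_⟩
  · rintro (j | j)
    · exact hr₁ j
    · exact hr₂ j
  · ext x
    · have e₁ := LinearMap.congr_fun hgh₁ x
      simp only [LinearMap.coe_comp, Function.comp_apply, LinearMap.smul_apply, LinearMap.id_coe,
        id_eq] at e₁
      have e₃ : (sumEquiv r₁ r₂) ((sumEquiv r₁ r₂).symm (s₂ • h₁ x, s₁ • h₂ 0)) =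
          (s₂ • h₁ x, s₁ • h₂ 0) := LinearEquiv.apply_symm_apply _ _
      show ((g₁.prodMap g₂) ((sumEquiv r₁ r₂) ((sumEquiv r₁ r₂).symm
        (s₂ • h₁ x, s₁ • h₂ 0)))).1 = ((s₁ * s₂) • ((x, 0) : T₁ × T₂)).1
      rw [e₃, LinearMap.prodMap_apply, map_smul, e₁, smul_smul, mul_comm]
      rfl
    · have e₃ : (sumEquiv r₁ r₂) ((sumEquiv r₁ r₂).symm (s₂ • h₁ x, s₁ • h₂ 0)) =
          (s₂ • h₁ x, s₁ • h₂ 0) := LinearEquiv.apply_symm_apply _ _
      show ((g₁.prodMap g₂) ((sumEquiv r₁ r₂) ((sumEquiv r₁ r₂).symm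
        (s₂ • h₁ x, s₁ • h₂ 0)))).2 = ((s₁ * s₂) • ((x, 0) : T₁ × T₂)).2
      rw [e₃, LinearMap.prodMap_apply]
      simp
    · have e₃ : (sumEquiv r₁ r₂) ((sumEquiv r₁ r₂).symm (s₂ • h₁ 0, s₁ • h₂ x)) =
          (s₂ • h₁ 0, s₁ • h₂ x) := LinearEquiv.apply_symm_apply _ _
      show ((g₁.prodMap g₂) ((sumEquiv r₁ r₂) ((sumEquiv r₁ r₂).symm
        (s₂ • h₁ 0, s₁ • h₂ x)))).1 = ((s₁ * s₂) • ((0, x) : T₁ × T₂)).1
      rw [e₃, LinearMap.prodMap_apply]
      simp
    · have e₂ := LinearMap.congr_fun hgh₂ x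
      simp only [LinearMap.coe_comp, Function.comp_apply, LinearMap.smul_apply, LinearMap.id_coe,
        id_eq] at e₂
      have e₃ : (sumEquiv r₁ r₂) ((sumEquiv r₁ r₂).symm (s₂ • h₁ 0, s₁ • h₂ x)) =
          (s₂ • h₁ 0, s₁ • h₂ x) := LinearEquiv.apply_symm_apply _ _
      show ((g₁.prodMap g₂) ((sumEquiv r₁ r₂) ((sumEquiv r₁ r₂).symm
        (s₂ • h₁ 0, s₁ • h₂ x)))).2 = ((s₁ * s₂) • ((0, x) : T₁ × T₂)).2
      rw [e₃, LinearMap.prodMap_apply]
      show g₂ (s₁ • h₂ x) = (s₁ * s₂) • x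
      rw [map_smul, e₂, smul_smul]

lemma RetractUpTo.of_maps {s u : R} (hs : RetractUpTo T' s) (a : T' →ₗ[R] T) (b : T →ₗ[R] T')
    (hab : a ∘ₗ b = u • LinearMap.id) : RetractUpTo T (s * u) := by
  obtain ⟨ι, _, r, hr, h, g, hgh⟩ := hs
  refine ⟨ι, inferInstance, r, hr, h ∘ₗ b, a ∘ₗ g, ?_⟩
  ext x
  have e₁ := LinearMap.congr_fun hgh (b x)
  have e₂ := LinearMap.congr_fun hab x
  simp only [LinearMap.coe_comp, Function.comp_apply, LinearMap.smul_apply, LinearMap.id_coe,
    id_eq] at e₁ e₂ ⊢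
  rw [e₁, map_smul, e₂, smul_smul]

lemma RetractUpTo.of_equiv {s : R} (hs : RetractUpTo T' s) (e : T ≃ₗ[R] T') : RetractUpTo T s := by
  have := hs.of_maps (u := (1 : R)) e.symm.toLinearMap e.toLinearMap (by ext x; simp)
  simpa using this

lemma RetractUpTo.quotient_singleton {d : R} (hd : d ≠ 0) :
    RetractUpTo (R := R) (R ⧸ Ideal.span {d}) (1 : R) := by
  refine ⟨PUnit, inferInstance, fun _ => d, fun _ => hd,
    LinearMap.pi (fun _ => LinearMap.id), LinearMap.proj PUnit.unit, ?_⟩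
  ext x
  simp

end General

section Part1
open Submodule

variable {R : Type u} [CommRing R] [IsDomain R] [IsBezout R]

theorem exists_content_data {F : Type u} [AddCommGroup F] [Module R F] [Module.Free R F]
    [Module.Finite R F] (N : Submodule R F) (hN : N.FG) (hN0 : N ≠ ⊥) (m : Ideal R) (hm : m ≠ ⊤) :
    ∃ (d : R) (ℓ : F →ₗ[R] R) (b₀ y₀ w : F) (u : R), d ≠ 0 ∧ ℓ b₀ = 1 ∧ y₀ ∈ N ∧ u ∉ m ∧
      y₀ = d • w ∧ ℓ w = u ∧ ∀ z ∈ N, ∃ z₀ : F, z = d • z₀ := by
  classical
  obtain ⟨S, hS⟩ := hN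
  let b := Module.Free.chooseBasis R F
  -- the content ideal
  let I : Ideal R := Ideal.span
    ((fun p : Module.Free.ChooseBasisIndex R F × F => b.coord p.1 p.2) '' (Set.univ ×ˢ (S : Set F)))
  have hIfg : I.FG := by
    refine Submodule.fg_span ?_
    exact (Set.finite_univ.prod S.finite_toSet).image _
  have hIp : I.IsPrincipal := IsBezout.isPrincipal_of_FG I hIfg
  obtain ⟨d, hd⟩ : ∃ d, I = Ideal.span {d} := ⟨_, (Ideal.span_singleton_generator I).symm⟩
  -- all coordinates of elements of `N` lie in `I`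
  have hcoord : ∀ z ∈ N, ∀ k, b.coord k z ∈ I := by
    intro z hz k
    rw [← hS] at hz
    induction hz using Submodule.span_induction with
    | mem x hx => exact Ideal.subset_span ⟨(k, x), ⟨Set.mem_univ _, hx⟩, rfl⟩
    | zero => simp
    | add x y _ _ hx hy => rw [map_add]; exact I.add_mem hx hy
    | smul c x _ hx => rw [map_smul]; exact I.mul_mem_left c hx
  have hdiv : ∀ z ∈ N, ∀ k, ∃ c, b.coord k z = d * c := by
    intro z hz k
    have := hcoord z hz k
    rw [hd, Ideal.mem_span_singleton'] at this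
    obtain ⟨c, hc⟩ := this
    exact ⟨c, by rw [← hc, mul_comm]⟩
  have hdF : ∀ z ∈ N, ∃ z₀ : F, z = d • z₀ ∧ ∀ k, b.coord k z = d * b.coord k z₀ := by
    intro z hz
    choose c hc using hdiv z hz
    refine ⟨∑ k, c k • b k, ?_, ?_⟩
    · conv_lhs => rw [← b.sum_repr z]
      rw [Finset.smul_sum]
      refine Finset.sum_congr rfl fun k _ => ?_
      rw [smul_smul, ← hc k]
      rfl
    · intro k
      rw [hc k]
      congr 1
      simp [Finsupp.single_apply]
  -- `d ≠ 0`
  have hd0 : d ≠ 0 := by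
    rintro rfl
    apply hN0
    rw [eq_bot_iff]
    intro z hz
    obtain ⟨z₀, hz₀, -⟩ := hdF z hz
    rw [hz₀, zero_smul]
    exact Submodule.zero_mem _
  -- some coordinate of some generator is `d` times an element outside `m`
  have hex : ∃ y ∈ S, ∃ k, ∃ c, b.coord k y = d * c ∧ c ∉ m := by
    by_contra hcon
    push Not at hcon
    have hle : I ≤ Ideal.span {d} * m := by
      refine Ideal.span_le.mpr ?_
      rintro _ ⟨⟨k, y⟩, ⟨-, hy⟩, rfl⟩
      have hyN : y ∈ N := by rw [← hS]; exact Submodule.subset_span hy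
      obtain ⟨c, hc⟩ := hdiv y hyN k
      have hcm := hcon y hy k c hc
      show b.coord k y ∈ Ideal.span {d} * m
      rw [hc]
      exact Ideal.mul_mem_mul (Ideal.mem_span_singleton_self d) hcm
    have hdI : d ∈ I := by rw [hd]; exact Ideal.mem_span_singleton_self d
    have := hle hdI
    rw [Ideal.mem_span_singleton_mul] at this
    obtain ⟨μ, hμ, hμd⟩ := this
    have : d * (μ - 1) = 0 := by rw [mul_sub, hμd, mul_one, sub_self]
    have hμ1 : μ = 1 := by
      rcases mul_eq_zero.mp this with h | h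
      · exact absurd h hd0
      · exact sub_eq_zero.mp h
    apply hm
    rw [Ideal.eq_top_iff_one, ← hμ1]
    exact hμ
  obtain ⟨y₀, hy₀S, k₀, u, hu, hum⟩ := hex
  have hy₀N : y₀ ∈ N := by rw [← hS]; exact Submodule.subset_span hy₀S
  obtain ⟨w, hw, hwk⟩ := hdF y₀ hy₀N
  refine ⟨d, b.coord k₀, b k₀, y₀, w, u, hd0, ?_, hy₀N, hum, hw, ?_, fun z hz => ?_⟩
  · simp
  · have := hwk k₀
    rw [hu] at this
    exact (mul_left_cancel₀ hd0 this).symm
  · obtain ⟨z₀, hz₀, -⟩ := hdF z hz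
    exact ⟨z₀, hz₀⟩

end Part1

section Part2
open Submodule

variable {R : Type u} [CommRing R] [IsDomain R]

theorem retract_step {F : Type u} [AddCommGroup F] [Module R F]
    (N : Submodule R F) (m : Ideal R) [m.IsPrime]
    (d : R) (ℓ : F →ₗ[R] R) (y₀ w : F) (u : R) (hd : d ≠ 0) (hy₀ : y₀ ∈ N) (hu : u ∉ m)
    (hyw : y₀ = d • w) (hℓw : ℓ w = u) (hdF : ∀ z ∈ N, ∃ z₀ : F, z = d • z₀)
    (htors : ∀ x : F, ∃ c : R, c ≠ 0 ∧ c • x ∈ N)
    (IH : ∀ N' : Submodule R (LinearMap.ker ℓ), N'.FG → (∀ x, ∃ c : R, c ≠ 0 ∧ c • x ∈ N') →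
      ∃ s, s ∉ m ∧ RetractUpTo (LinearMap.ker ℓ ⧸ N') s) (hN : N.FG) :
    ∃ s, s ∉ m ∧ RetractUpTo (F ⧸ N) s := by
  have hu0 : u ≠ 0 := by
    rintro rfl
    exact hu m.zero_mem
  -- the projection to `ker ℓ`, up to `u`
  let β₀ : F →ₗ[R] F := u • LinearMap.id - (LinearMap.toSpanSingleton R F w) ∘ₗ ℓ
  have hβ₀ : ∀ x, β₀ x = u • x - ℓ x • w := fun x => by
    simp [β₀, LinearMap.toSpanSingleton_apply]
  let β₂ : F →ₗ[R] LinearMap.ker ℓ := LinearMap.codRestrict (LinearMap.ker ℓ) β₀ (fun x => by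
    rw [LinearMap.mem_ker, hβ₀, map_sub, map_smul, map_smul, hℓw, smul_eq_mul, smul_eq_mul,
      mul_comm, sub_self])
  have hβ₂ : ∀ x, ((β₂ x : LinearMap.ker ℓ) : F) = u • x - ℓ x • w := fun x => hβ₀ x
  let N'' : Submodule R (LinearMap.ker ℓ) := N.map β₂
  have hN''fg : N''.FG := hN.map β₂
  have htors'' : ∀ x : LinearMap.ker ℓ, ∃ c : R, c ≠ 0 ∧ c • x ∈ N'' := by
    intro x
    obtain ⟨c, hc0, hc⟩ := htors (x : F)
    refine ⟨u * c, mul_ne_zero hu0 hc0, ?_⟩
    refine ⟨c • (x : F), hc, ?_⟩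
    apply Subtype.ext
    rw [hβ₂]
    have hx : ℓ (x : F) = 0 := x.2
    rw [map_smul, hx, smul_zero, zero_smul, sub_zero, smul_smul]
    rfl
  obtain ⟨s', hs'm, hs'⟩ := IH N'' hN''fg htors''
  -- `ℓ` maps `N` into `(d)` and `ℓ z • w ∈ N`
  have hℓN : ∀ z ∈ N, ℓ z ∈ Ideal.span {d} ∧ ℓ z • w ∈ N := by
    intro z hz
    obtain ⟨z₀, rfl⟩ := hdF z hz
    refine ⟨?_, ?_⟩
    · rw [map_smul, smul_eq_mul]
      exact Ideal.mul_mem_right _ _ (Ideal.mem_span_singleton_self d)
    · rw [map_smul, smul_eq_mul, mul_comm, mul_smul, ← hyw]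
      exact N.smul_mem _ hy₀
  -- the maps between the quotients
  have h₁ : (Ideal.span {d} : Submodule R R) ≤
      LinearMap.ker (N.mkQ ∘ₗ LinearMap.toSpanSingleton R F w) := by
    refine Ideal.span_le.mpr ?_
    intro x hx
    have hx' : x = d := hx
    show (N.mkQ ∘ₗ LinearMap.toSpanSingleton R F w) x = 0
    rw [hx', LinearMap.comp_apply, LinearMap.toSpanSingleton_apply, ← hyw]
    exact (Submodule.Quotient.mk_eq_zero N).mpr hy₀
  have h₂ : N'' ≤ LinearMap.ker (N.mkQ ∘ₗ (LinearMap.ker ℓ).subtype) := by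
    rintro _ ⟨z, hz, rfl⟩
    rw [LinearMap.mem_ker, LinearMap.comp_apply, Submodule.subtype_apply, hβ₂]
    refine (Submodule.Quotient.mk_eq_zero N).mpr ?_
    exact N.sub_mem (N.smul_mem _ hz) (hℓN z hz).2
  let a : (R ⧸ Ideal.span {d}) × (LinearMap.ker ℓ ⧸ N'') →ₗ[R] F ⧸ N :=
    LinearMap.coprod (Submodule.liftQ (Ideal.span {d}) _ h₁) (Submodule.liftQ N'' _ h₂)
  have h₃ : N ≤ LinearMap.ker
      (LinearMap.prod ((Submodule.mkQ (Ideal.span {d} : Submodule R R)) ∘ₗ ℓ) (N''.mkQ ∘ₗ β₂)) := by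
    intro z hz
    rw [LinearMap.mem_ker]
    refine Prod.ext ?_ ?_
    · show (Submodule.mkQ (Ideal.span {d} : Submodule R R)) (ℓ z) = 0
      exact (Submodule.Quotient.mk_eq_zero _).mpr (hℓN z hz).1
    · show N''.mkQ (β₂ z) = 0
      exact (Submodule.Quotient.mk_eq_zero _).mpr (Submodule.mem_map_of_mem hz)
  let bq : F ⧸ N →ₗ[R] (R ⧸ Ideal.span {d}) × (LinearMap.ker ℓ ⧸ N'') :=
    Submodule.liftQ N _ h₃
  have hab : a ∘ₗ bq = u • LinearMap.id := by
    apply Submodule.linearMap_qext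
    ext x
    show a (bq (Submodule.Quotient.mk x)) = u • (Submodule.Quotient.mk x : F ⧸ N)
    have e1 : bq (Submodule.Quotient.mk x) =
        ((Submodule.mkQ (Ideal.span {d} : Submodule R R)) (ℓ x), N''.mkQ (β₂ x)) := rfl
    rw [e1]
    show Submodule.liftQ (Ideal.span {d}) _ h₁ ((Submodule.mkQ (Ideal.span {d} : Submodule R R)) (ℓ x))
      + Submodule.liftQ N'' _ h₂ (N''.mkQ (β₂ x)) = _
    rw [Submodule.mkQ_apply, Submodule.mkQ_apply, Submodule.liftQ_apply, Submodule.liftQ_apply,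
      LinearMap.comp_apply, LinearMap.comp_apply, Submodule.subtype_apply, hβ₂,
      LinearMap.toSpanSingleton_apply, ← map_add, add_sub_cancel, map_smul]
    rfl
  have hprod := (RetractUpTo.quotient_singleton (R := R) hd).prod hs'
  have hfin := hprod.of_maps a bq hab
  refine ⟨1 * s' * u, ?_, hfin⟩
  rw [one_mul]
  exact fun h => (Ideal.IsPrime.mem_or_mem inferInstance h).elim hs'm hu

end Part2

section Part3
open Submodule

section
variable {R : Type u} [CommRing R]
lemma RetractUpTo.of_subsingleton {T : Type*} [AddCommGroup T] [Module R T] [Subsingleton T]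
    (s : R) : RetractUpTo T s :=
  ⟨PEmpty, inferInstance, fun j => j.elim, fun j => j.elim, 0, 0,
    LinearMap.ext fun x => Subsingleton.elim _ _⟩
end

variable {R : Type u} [CommRing R] [IsDomain R] [IsBezout R]

theorem exists_retractUpTo_notMem (m : Ideal R) [m.IsPrime] :
    ∀ (n : ℕ) (F : Type u) [AddCommGroup F] [Module R F] [Module.Free R F] [Module.Finite R F],
      Module.finrank R F ≤ n → ∀ N : Submodule R F, N.FG →
      (∀ x : F, ∃ c : R, c ≠ 0 ∧ c • x ∈ N) → ∃ s, s ∉ m ∧ RetractUpTo (F ⧸ N) s := by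
  intro n
  induction n with
  | zero =>
    intro F _ _ _ _ hrk N hN htors
    by_cases hF : Subsingleton F
    · exact ⟨1, fun h => (Ideal.IsPrime.ne_top inferInstance) ((Ideal.eq_top_iff_one m).mpr h),
        RetractUpTo.of_subsingleton 1⟩
    · rw [not_subsingleton_iff_nontrivial] at hF
      have := Module.finrank_pos (R := R) (M := F)
      omega
  | succ n ih =>
    intro F _ _ _ _ hrk N hN htors
    by_cases hF : Subsingleton F
    · exact ⟨1, fun h => (Ideal.IsPrime.ne_top inferInstance) ((Ideal.eq_top_iff_one m).mpr h),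
        RetractUpTo.of_subsingleton 1⟩
    · rw [not_subsingleton_iff_nontrivial] at hF
      have hN0 : N ≠ ⊥ := by
        obtain ⟨x, hx⟩ := exists_ne (0 : F)
        obtain ⟨c, hc0, hc⟩ := htors x
        intro hbot
        rw [hbot, Submodule.mem_bot] at hc
        exact (smul_ne_zero hc0 hx) hc
      obtain ⟨d, ℓ, b₀, y₀, w, u, hd0, hℓb, hy₀, hum, hyw, hℓw, hdF⟩ :=
        exists_content_data N hN hN0 m (Ideal.IsPrime.ne_top inferInstance)
      refine retract_step N m d ℓ y₀ w u hd0 hy₀ hum hyw hℓw hdF htors ?_ hN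
      -- the induction hypothesis on `ker ℓ`
      have hfg : (LinearMap.ker ℓ).FG := by
        let π₀ : F →ₗ[R] F := LinearMap.id - (LinearMap.toSpanSingleton R F b₀) ∘ₗ ℓ
        have hker : LinearMap.ker ℓ = LinearMap.range π₀ := by
          ext x
          constructor
          · intro hx
            refine ⟨x, ?_⟩
            have hx' : ℓ x = 0 := hx
            simp [π₀, hx']
          · rintro ⟨x', rfl⟩
            simp [π₀, LinearMap.toSpanSingleton_apply, hℓb]
        rw [hker, LinearMap.range_eq_map]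
        exact (Module.Finite.fg_top).map π₀
      have : Module.Free R (LinearMap.ker ℓ) :=
        Groth.Agent.Lib.BezoutFree.free_of_fg_submodule _ hfg
      have : Module.Finite R (LinearMap.ker ℓ) := Module.Finite.iff_fg.mpr hfg
      have hsurj : Function.Surjective ℓ := fun a => ⟨a • b₀, by simp [hℓb]⟩
      have hrk' : Module.finrank R (LinearMap.ker ℓ) ≤ n := by
        have h1 := Submodule.finrank_quotient_add_finrank (LinearMap.ker ℓ)
        have h2 : Module.finrank R (F ⧸ LinearMap.ker ℓ) = 1 := by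
          rw [LinearEquiv.finrank_eq (ℓ.quotKerEquivOfSurjective hsurj), Module.finrank_self]
        omega
      intro N' hN' htors'
      exact ih (LinearMap.ker ℓ) hrk' N' hN' htors'

theorem retractUpTo_one {F : Type u} [AddCommGroup F] [Module R F] [Module.Free R F]
    [Module.Finite R F] (N : Submodule R F) (hN : N.FG)
    (htors : ∀ x : F, ∃ c : R, c ≠ 0 ∧ c • x ∈ N) : RetractUpTo (F ⧸ N) (1 : R) := by
  let 𝔞 : Ideal R :=
    { carrier := {s | RetractUpTo (F ⧸ N) s}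
      add_mem' := fun h₁ h₂ => h₁.add h₂
      zero_mem' := RetractUpTo.zero
      smul_mem' := fun a s hs => by
        have : RetractUpTo (F ⧸ N) (a * s) := RetractUpTo.smul a hs
        exact this }
  by_contra h
  have h𝔞 : 𝔞 ≠ ⊤ := fun htop => h ((Ideal.eq_top_iff_one 𝔞).mp htop)
  obtain ⟨m, hm, hle⟩ := Ideal.exists_le_maximal 𝔞 h𝔞
  have := hm.isPrime
  obtain ⟨s, hsm, hs⟩ := exists_retractUpTo_notMem m (Module.finrank R F) F le_rfl N hN htors
  exact hsm (hle hs)

theorem exists_retract_of_finitePresentation_torsion (T : Type u) [AddCommGroup T] [Module R T]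
    [Module.FinitePresentation R T] (htors : ∀ t : T, ∃ c : R, c ≠ 0 ∧ c • t = 0) :
    ∃ (n : ℕ) (f : Fin n → R), (∀ j, f j ≠ 0) ∧
      ∃ (i : T →ₗ[R] (∀ j : Fin n, R ⧸ Ideal.span {f j}))
        (p : (∀ j : Fin n, R ⧸ Ideal.span {f j}) →ₗ[R] T), p ∘ₗ i = LinearMap.id := by
  classical
  obtain ⟨n, K, e, hK⟩ := Module.FinitePresentation.exists_fin R T
  have htorsF : ∀ x : Fin n → R, ∃ c : R, c ≠ 0 ∧ c • x ∈ K := by
    intro x
    obtain ⟨c, hc0, hc⟩ := htors (e.symm (Submodule.Quotient.mk x))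
    refine ⟨c, hc0, ?_⟩
    have h2 : e (c • e.symm (Submodule.Quotient.mk x)) = 0 := by rw [hc, map_zero]
    rw [map_smul, LinearEquiv.apply_symm_apply, ← Submodule.Quotient.mk_smul] at h2
    exact (Submodule.Quotient.mk_eq_zero K).mp h2
  have h1 := (retractUpTo_one K hK htorsF).of_equiv e
  obtain ⟨ι, _, r, hr, h, g, hgh⟩ := h1
  let eι := Fintype.equivFin ι
  let E := LinearEquiv.piCongrLeft' R (fun i => R ⧸ Ideal.span {r i}) eι
  refine ⟨Fintype.card ι, fun j => r (eι.symm j), fun j => hr _, E.toLinearMap ∘ₗ h,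
    g ∘ₗ E.symm.toLinearMap, ?_⟩
  ext x
  have := LinearMap.congr_fun hgh x
  simp only [LinearMap.coe_comp, Function.comp_apply, LinearMap.smul_apply, LinearMap.id_coe,
    id_eq, one_smul] at this
  simp only [LinearMap.coe_comp, LinearEquiv.coe_coe, Function.comp_apply,
    LinearEquiv.symm_apply_apply, LinearMap.id_coe, id_eq]
  exact this

end Part3

section Part4
open Submodule Module

variable {R : Type u} [CommRing R] [IsDomain R] [IsBezout R]

/-- A finitely generated torsion-free module over a Bézout domain is free. -/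
theorem free_of_finite_torsionFree (Q : Type*) [AddCommGroup Q] [Module R Q] [Module.Finite R Q]
    [Module.IsTorsionFree R Q] : Module.Free R Q := by
  classical
  obtain ⟨n, s, hs⟩ := Module.Finite.exists_fin (R := R) (M := Q)
  obtain ⟨I, indepI, hI⟩ := exists_maximal_linearIndepOn R s
  let N : Submodule R Q := span R (Set.range (fun i : I => s i))
  have indepI' : LinearIndependent R (fun i : I => s i) := indepI
  let sI_basis : Basis I R N := Basis.span indepI'
  have hNfree : Module.Free R N := Module.Free.of_basis sI_basis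
  have hN : N = span R (s '' I) := by
    show span R (Set.range (fun i : I => s i)) = _
    congr 1
    ext x
    simp
  have exists_a : ∀ i, ∃ a : R, a ≠ 0 ∧ a • s i ∈ N := by
    intro i
    by_cases hi : i ∈ I
    · exact ⟨1, one_ne_zero, by rw [one_smul]; exact subset_span ⟨⟨i, hi⟩, rfl⟩⟩
    · obtain ⟨a, ha0, ha⟩ := hI i hi
      exact ⟨a, ha0, by rw [hN]; exact ha⟩
  choose a ha ha' using exists_a
  let A := ∏ i, a i
  have hA : A ≠ 0 := Finset.prod_ne_zero_iff.mpr fun i _ => ha i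
  let φ : Q →ₗ[R] Q := LinearMap.lsmul R Q A
  have hφ : Function.Injective φ := smul_right_injective Q hA
  have hrange : LinearMap.range φ ≤ N := by
    rw [LinearMap.range_eq_map, ← hs, Submodule.map_span_le]
    rintro _ ⟨i, rfl⟩
    show A • s i ∈ N
    have : A = (∏ j ∈ ({i} : Finset (Fin n))ᶜ, a j) * a i := Fintype.prod_eq_prod_compl_mul i a
    rw [this, mul_smul]
    exact N.smul_mem _ (ha' i)
  let K : Submodule R N := (LinearMap.range φ).comap N.subtype
  let e₁ : K ≃ₗ[R] LinearMap.range φ := Submodule.comapSubtypeEquivOfLe hrange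
  let e₂ : Q ≃ₗ[R] LinearMap.range φ := LinearEquiv.ofInjective φ hφ
  have hKfg : K.FG := by
    have : Module.Finite R K := Module.Finite.equiv (e₂.trans e₁.symm)
    exact Module.Finite.iff_fg.mp this
  have hKfree : Module.Free R K := Groth.Agent.Lib.BezoutFree.free_of_fg_submodule K hKfg
  exact Module.Free.of_equiv (e₁.trans e₂.symm)

/-- Over a Bézout domain, a finitely generated module is the product of a finite free module and
its torsion submodule; moreover the torsion submodule is a quotient of `M` by a finitely generated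
submodule. -/
theorem exists_equiv_prod_torsion (M : Type u) [AddCommGroup M] [Module R M] [Module.Finite R M] :
    ∃ (r : ℕ) (e : M ≃ₗ[R] ((Fin r → R) × Submodule.torsion R M)),
      (LinearMap.ker ((LinearMap.snd R (Fin r → R) (Submodule.torsion R M)) ∘ₗ e.toLinearMap)).FG := by
  classical
  let T := Submodule.torsion R M
  have hfree : Module.Free R (M ⧸ T) := free_of_finite_torsionFree (M ⧸ T)
  obtain ⟨σ, hσ⟩ := Module.projective_lifting_property T.mkQ LinearMap.id T.mkQ_surjective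
  -- `hσ : T.mkQ ∘ₗ σ = id`
  have hσ' : ∀ q : M ⧸ T, (Submodule.Quotient.mk (σ q) : M ⧸ T) = q := fun q =>
    LinearMap.congr_fun hσ q
  let b := Module.finBasis R (M ⧸ T)
  let r := Module.finrank R (M ⧸ T)
  let eQ : (M ⧸ T) ≃ₗ[R] (Fin r → R) := b.equivFun
  -- the projection onto the torsion part
  let p₀ : M →ₗ[R] M := LinearMap.id - σ ∘ₗ T.mkQ
  have hp₀ : ∀ x, p₀ x ∈ T := by
    intro x
    rw [← Submodule.ker_mkQ T, LinearMap.mem_ker]
    simp [p₀, hσ']
  let p : M →ₗ[R] T := LinearMap.codRestrict T p₀ hp₀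
  let fwd : M →ₗ[R] ((Fin r → R) × T) := LinearMap.prod (eQ.toLinearMap ∘ₗ T.mkQ) p
  let bwd : ((Fin r → R) × T) →ₗ[R] M := LinearMap.coprod (σ ∘ₗ eQ.symm.toLinearMap) T.subtype
  have h1 : bwd ∘ₗ fwd = LinearMap.id := by
    ext x
    simp [fwd, bwd, p, p₀]
  have hTσ : ∀ t : T, (Submodule.Quotient.mk (t : M) : M ⧸ T) = 0 :=
    fun t => (Submodule.Quotient.mk_eq_zero T).mpr t.2
  have h2 : fwd ∘ₗ bwd = LinearMap.id := by
    apply LinearMap.ext
    rintro ⟨v, t⟩
    apply Prod.ext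
    · simp [fwd, bwd, hσ', hTσ]
    · apply Subtype.ext
      simp [fwd, bwd, p, p₀, hσ', hTσ]
  let e : M ≃ₗ[R] ((Fin r → R) × T) := LinearEquiv.ofLinearMap fwd bwd h2 h1
  refine ⟨r, e, ?_⟩
  -- the kernel of the projection to `T` is the range of `σ`
  have hker : LinearMap.ker ((LinearMap.snd R (Fin r → R) T) ∘ₗ e.toLinearMap) =
      LinearMap.range σ := by
    ext x
    rw [LinearMap.mem_ker]
    show p x = 0 ↔ _
    constructor
    · intro hx
      have hx' : p₀ x = 0 := congrArg Subtype.val hx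
      refine ⟨T.mkQ x, ?_⟩
      have : x - σ (T.mkQ x) = 0 := by simpa [p₀] using hx'
      exact (sub_eq_zero.mp this).symm
    · rintro ⟨q, rfl⟩
      apply Subtype.ext
      simp [p, p₀, hσ']
  rw [hker, LinearMap.range_eq_map]
  exact (Module.Finite.fg_top).map σ

end Part4

section Part5
open Submodule Module

theorem main (R : Type u) [CommRing R] [IsDomain R] [IsBezout R]
    (M : Type u) [AddCommGroup M] [Module R M] [Module.FinitePresentation R M] :
    (∃ r : ℕ, Nonempty (M ≃ₗ[R] ((Fin r → R) × Submodule.torsion R M))) ∧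
      ∃ (n : ℕ) (f : Fin n → R), (∀ j, f j ≠ 0) ∧
        ∃ (i : Submodule.torsion R M →ₗ[R] ((j : Fin n) → R ⧸ Ideal.span {f j}))
          (p : ((j : Fin n) → R ⧸ Ideal.span {f j}) →ₗ[R] Submodule.torsion R M),
          p ∘ₗ i = LinearMap.id := by
  obtain ⟨r, e, hker⟩ := exists_equiv_prod_torsion (R := R) M
  refine ⟨⟨r, ⟨e⟩⟩, ?_⟩
  have hsurj : Function.Surjective
      ((LinearMap.snd R (Fin r → R) (Submodule.torsion R M)) ∘ₗ e.toLinearMap) := by
    intro t
    exact ⟨e.symm (0, t), by simp⟩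
  have hfp : Module.FinitePresentation R (Submodule.torsion R M) :=
    Module.finitePresentation_of_surjective _ hsurj hker
  refine exists_retract_of_finitePresentation_torsion (Submodule.torsion R M) ?_
  intro t
  obtain ⟨a, ha⟩ := (Submodule.mem_torsion_iff (t : M)).mp t.2
  refine ⟨a, nonZeroDivisors.ne_zero a.2, ?_⟩
  apply Subtype.ext
  exact ha

end Part5

end Groth.Agent.Lib.BezoutCyclic6
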