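import Mathlib

/-!
# Two-sided dependent recursion on `ℤ`
-/

set_option autoImplicit false
universe u

namespace Groth.Agent.Lib.BiRec66

/-- Two-sided dependent recursion on `ℤ` starting from a base point in degree `0`. -/
noncomputable def biSeq {T : ℤ → Type u} (R : ∀ i k, i + 1 = k → T i → T k → Prop) (t₀ : T 0)
    (up : ∀ i k (h : i + 1 = k) (x : T i), ∃ y : T k, R i k h x y)
    (down : ∀ i k (h : i + 1 = k) (y : T k), ∃ x : T i, R i k h x y) (i : ℤ) : T i :=
  if h0 : i = 0 then h0 ▸ t₀
  else if hp : 0 < i then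
    Classical.choose (up (i-1) i (by omega) (biSeq R t₀ up down (i-1)))
  else
    Classical.choose (down i (i+1) rfl (biSeq R t₀ up down (i+1)))
termination_by i.natAbs
decreasing_by all_goals omega

theorem exists_biSeq {T : ℤ → Type u} (R : ∀ i k, i + 1 = k → T i → T k → Prop) (t₀ : T 0)
    (up : ∀ i k (h : i + 1 = k) (x : T i), ∃ y : T k, R i k h x y)
    (down : ∀ i k (h : i + 1 = k) (y : T k), ∃ x : T i, R i k h x y) :
    ∃ S : ∀ i, T i, ∀ i k (h : i + 1 = k), R i k h (S i) (S k) := by
  refine ⟨biSeq R t₀ up down, ?_⟩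
  intro i k h
  by_cases hk : 0 < k
  · obtain rfl : i = k - 1 := by omega
    have h1 : biSeq R t₀ up down k =
        Classical.choose (up (k-1) k (by omega) (biSeq R t₀ up down (k-1))) := by
      conv_lhs => rw [biSeq]
      rw [dif_neg (by omega), dif_pos hk]
    rw [h1]
    exact Classical.choose_spec (up (k-1) k (by omega) (biSeq R t₀ up down (k-1)))
  · subst h
    have h1 : biSeq R t₀ up down i =
        Classical.choose (down i (i+1) rfl (biSeq R t₀ up down (i+1))) := by
      conv_lhs => rw [biSeq]
      rw [dif_neg (by omega), dif_neg (by omega)]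
    rw [h1]
    exact Classical.choose_spec (down i (i+1) rfl (biSeq R t₀ up down (i+1)))

end Groth.Agent.Lib.BiRec66
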