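import Mathlib.Algebra.Homology.Bifunctor
import Mathlib.Algebra.Homology.HomologicalComplexLimits
import Mathlib.CategoryTheory.Limits.FunctorCategory.Basic

/-!
# `mapBifunctor L -` preserves colimits (helper35)

For an additive bifunctor `F : C₁ ⥤ C₂ ⥤ D` such that every `F.obj X₁` preserves colimits of shape
`J`, and a cochain complex `L` in `C₁`, the functor `K ↦ mapBifunctor L K F` (total complex of
`F(Lᵖ, K^q)`) on cochain complexes preserves colimits of shape `J`.
-/

set_option autoImplicit false

open CategoryTheory Limits HomologicalComplex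

namespace Groth.Agent.Lib.BifunctorColim35

variable {C₁ C₂ D : Type*} [Category C₁] [Category C₂] [Category D]
  [HasZeroMorphisms C₁] [HasZeroMorphisms C₂] [Preadditive D]
  (F : C₁ ⥤ C₂ ⥤ D) [F.PreservesZeroMorphisms] [∀ X₁, (F.obj X₁).PreservesZeroMorphisms]
  [∀ (K₁ : CochainComplex C₁ ℤ) (K₂ : CochainComplex C₂ ℤ),
    HasMapBifunctor K₁ K₂ F (ComplexShape.up ℤ)]
  (J : Type*) [Category J] [HasColimitsOfShape J C₂] [HasColimitsOfShape J D]
  [∀ X₁, PreservesColimitsOfShape J (F.obj X₁)]
  (L : CochainComplex C₁ ℤ)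

/-- The index type of the summands of degree `n`. -/
abbrev Idx (n : ℤ) : Type :=
  (ComplexShape.π (ComplexShape.up ℤ) (ComplexShape.up ℤ) (ComplexShape.up ℤ)) ⁻¹' {n}

/-- The functor sending `K` to the family of summands `F(Lᵖ, K^q)`, `p + q = n`. -/
@[simps]
def summands (n : ℤ) : CochainComplex C₂ ℤ ⥤ (Discrete (Idx n) ⥤ D) where
  obj K := Discrete.functor (fun i : Idx n => (F.obj (L.X i.1.1)).obj (K.X i.1.2))
  map f := Discrete.natTrans (fun i => (F.obj (L.X i.as.1.1)).map (f.f i.as.1.2))
  map_id K := by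
    ext ⟨i⟩
    simp
  map_comp f g := by
    ext ⟨i⟩
    simp

instance (n : ℤ) : PreservesColimitsOfShape J (summands F L n) := by
  apply preservesColimitsOfShape_of_evaluation
  rintro ⟨i⟩
  let e : summands F L n ⋙ (evaluation _ _).obj ⟨i⟩ ≅
      HomologicalComplex.eval C₂ (ComplexShape.up ℤ) i.1.2 ⋙ F.obj (L.X i.1.1) :=
    NatIso.ofComponents (fun K => Iso.refl _) (by
      intro K K' f
      erw [Category.comp_id, Category.id_comp]
      rfl)
  exact preservesColimitsOfShape_of_natIso e.symm

variable [∀ n : ℤ, HasColimitsOfShape (Discrete (Idx n)) D]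

/-- The cocone on the summands with point `(mapBifunctor L K F).X n`. -/
noncomputable def summandsCocone (n : ℤ) (K : CochainComplex C₂ ℤ) :
    Cocone ((summands F L n).obj K) :=
  GradedObject.cofanMapObj
    (((F.mapBifunctorHomologicalComplex _ _).obj L).obj K).toGradedObject
    (ComplexShape.π (ComplexShape.up ℤ) (ComplexShape.up ℤ) (ComplexShape.up ℤ)) n

/-- It is a colimit cocone. -/
noncomputable def isColimitSummandsCocone (n : ℤ) (K : CochainComplex C₂ ℤ) :
    IsColimit (summandsCocone F L n K) :=
  GradedObject.isColimitCofanMapObj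
    (((F.mapBifunctorHomologicalComplex _ _).obj L).obj K).toGradedObject
    (ComplexShape.π (ComplexShape.up ℤ) (ComplexShape.up ℤ) (ComplexShape.up ℤ)) n

lemma summandsCocone_ι (n : ℤ) (K : CochainComplex C₂ ℤ) (p q : ℤ)
    (h : ComplexShape.π (ComplexShape.up ℤ) (ComplexShape.up ℤ) (ComplexShape.up ℤ) (p, q) = n) :
    (summandsCocone F L n K).ι.app ⟨⟨(p, q), h⟩⟩ =
      ιMapBifunctor L K F (ComplexShape.up ℤ) p q n h := rfl

/-- Degree `n` of `mapBifunctor L K F` is the coproduct of the summands. -/
noncomputable def evalIso (n : ℤ) :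
    (F.map₂CochainComplex.obj L) ⋙ HomologicalComplex.eval D (ComplexShape.up ℤ) n ≅
      summands F L n ⋙ colim :=
  NatIso.ofComponents (fun K =>
    (isColimitSummandsCocone F L n K).coconePointUniqueUpToIso
      (colimit.isColimit ((summands F L n).obj K))) (by
    intro K K' f
    apply HomologicalComplex.mapBifunctor.hom_ext
    intro p q h
    have h1 := HomologicalComplex.ι_mapBifunctorMap (𝟙 L) f F (ComplexShape.up ℤ) p q n h
    have h2 : ∀ (K : CochainComplex C₂ ℤ),
        ιMapBifunctor L K F (ComplexShape.up ℤ) p q n h ≫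
          ((isColimitSummandsCocone F L n K).coconePointUniqueUpToIso
            (colimit.isColimit ((summands F L n).obj K))).hom =
          colimit.ι ((summands F L n).obj K) ⟨⟨(p, q), h⟩⟩ := fun K => by
      rw [← summandsCocone_ι]
      exact IsColimit.comp_coconePointUniqueUpToIso_hom (isColimitSummandsCocone F L n K)
        (colimit.isColimit ((summands F L n).obj K)) ⟨⟨(p, q), h⟩⟩
    change ιMapBifunctor L K F (ComplexShape.up ℤ) p q n h ≫
        (mapBifunctorMap (𝟙 L) f F (ComplexShape.up ℤ)).f n ≫ _ =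
      ιMapBifunctor L K F (ComplexShape.up ℤ) p q n h ≫ _ ≫ colimMap ((summands F L n).map f)
    rw [reassoc_of% h1, h2 K', reassoc_of% (h2 K)]
    erw [ι_colimMap]
    simp
    rfl)

/-- `K ↦ mapBifunctor L K F` preserves colimits of shape `J`. -/
theorem preservesColimitsOfShape_map₂ :
    PreservesColimitsOfShape J (F.map₂CochainComplex.obj L) := by
  apply HomologicalComplex.preservesColimitsOfShape_of_eval
  intro n
  exact preservesColimitsOfShape_of_natIso (evalIso F L n).symm

end Groth.Agent.Lib.BifunctorColim35
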