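import Mathlib.Algebra.Homology.BifunctorShift
import Mathlib.Algebra.Homology.HomotopyCategory.MappingCone
import Mathlib.Algebra.Homology.Monoidal

set_option autoImplicit false

open CategoryTheory Category Limits HomologicalComplex CochainComplex.HomComplex

namespace Groth.Agent.Lib.BifunctorCone66

variable {C₁ C₂ D : Type*} [Category C₁] [Category C₂] [Category D]
  [Preadditive C₁] [Preadditive C₂] [Preadditive D]
  (F : C₁ ⥤ C₂ ⥤ D) [F.Additive] [∀ X₁, (F.obj X₁).Additive]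

section First

variable {K L N : CochainComplex C₁ ℤ} (M : CochainComplex C₂ ℤ)
  [CochainComplex.HasMapBifunctor K M F] [CochainComplex.HasMapBifunctor L M F]
  [CochainComplex.HasMapBifunctor N M F]

/-- The action of `mapBifunctor (-) M F` on cochains in the first variable. -/
noncomputable def map₁ {d : ℤ} (z : Cochain K L d) :
    Cochain (CochainComplex.mapBifunctor K M F) (CochainComplex.mapBifunctor L M F) d :=
  Cochain.mk (fun p q hpq => HomologicalComplex.mapBifunctorDesc (fun i₁ i₂ h =>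
    (F.map (z.v i₁ (i₁ + d) rfl)).app (M.X i₂) ≫
      CochainComplex.ιMapBifunctor L M F (i₁ + d) i₂ q (by
        have h' : i₁ + i₂ = p := h
        omega)))

@[reassoc]
lemma ι_map₁_v {d : ℤ} (z : Cochain K L d) (i₁ i₂ p : ℤ) (h : i₁ + i₂ = p) (q : ℤ)
    (hpq : p + d = q) (i₁' : ℤ) (hi₁' : i₁ + d = i₁') :
    CochainComplex.ιMapBifunctor K M F i₁ i₂ p h ≫ (map₁ F M z).v p q hpq =
      (F.map (z.v i₁ i₁' hi₁')).app (M.X i₂) ≫
        CochainComplex.ιMapBifunctor L M F i₁' i₂ q (by omega) := by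
  subst hi₁'
  simp [map₁]

@[simp]
lemma map₁_zero {d : ℤ} : map₁ F M (0 : Cochain K L d) = 0 := by
  ext p q hpq i₁ i₂ h
  have h' : i₁ + i₂ = p := h
  erw [ι_map₁_v F M _ i₁ i₂ p h' q hpq (i₁ + d) rfl]
  simp

@[simp]
lemma map₁_add {d : ℤ} (z z' : Cochain K L d) :
    map₁ F M (z + z') = map₁ F M z + map₁ F M z' := by
  ext p q hpq i₁ i₂ h
  have h' : i₁ + i₂ = p := h
  rw [Cochain.add_v, Preadditive.comp_add]
  erw [ι_map₁_v F M _ i₁ i₂ p h' q hpq (i₁ + d) rfl,
    ι_map₁_v F M _ i₁ i₂ p h' q hpq (i₁ + d) rfl,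
    ι_map₁_v F M _ i₁ i₂ p h' q hpq (i₁ + d) rfl]
  simp

@[simp]
lemma map₁_neg {d : ℤ} (z : Cochain K L d) :
    map₁ F M (-z) = -map₁ F M z := by
  ext p q hpq i₁ i₂ h
  have h' : i₁ + i₂ = p := h
  rw [Cochain.neg_v, Preadditive.comp_neg]
  erw [ι_map₁_v F M _ i₁ i₂ p h' q hpq (i₁ + d) rfl,
    ι_map₁_v F M _ i₁ i₂ p h' q hpq (i₁ + d) rfl]
  simp

lemma map₁_ofHom (f : K ⟶ L) :
    map₁ F M (Cochain.ofHom f) =
      Cochain.ofHom (HomologicalComplex.mapBifunctorMap f (𝟙 M) F (ComplexShape.up ℤ)) := by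
  ext p i₁ i₂ h
  have h' : i₁ + i₂ = p := h
  erw [ι_map₁_v F M _ i₁ i₂ p h' p (add_zero _) i₁ (add_zero _)]
  rw [Cochain.ofHom_v, Cochain.ofHom_v]
  erw [HomologicalComplex.ι_mapBifunctorMap]
  simp

lemma map₁_comp {d₁ d₂ d₁₂ : ℤ} (z₁ : Cochain K L d₁) (z₂ : Cochain L N d₂)
    (h : d₁ + d₂ = d₁₂) :
    map₁ F M (z₁.comp z₂ h) = (map₁ F M z₁).comp (map₁ F M z₂) h := by
  ext p q hpq i₁ i₂ hi
  have h' : i₁ + i₂ = p := hi
  rw [Cochain.comp_v _ _ h p (p + d₁) q rfl (by omega)]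
  erw [ι_map₁_v F M _ i₁ i₂ p h' q hpq (i₁ + d₁₂) rfl,
    ι_map₁_v_assoc F M _ i₁ i₂ p h' (p + d₁) rfl (i₁ + d₁) rfl,
    ι_map₁_v F M _ (i₁ + d₁) i₂ (p + d₁) (by omega) q (by omega) (i₁ + d₁₂) (by omega)]
  rw [Cochain.comp_v _ _ h i₁ (i₁ + d₁) (i₁ + d₁₂) rfl (by omega)]
  simp

@[reassoc]
lemma ι_d (K' : CochainComplex C₁ ℤ) [CochainComplex.HasMapBifunctor K' M F]
    (i₁ i₂ p : ℤ) (h : i₁ + i₂ = p) (q : ℤ) (hpq : p + 1 = q) :
    CochainComplex.ιMapBifunctor K' M F i₁ i₂ p h ≫ (CochainComplex.mapBifunctor K' M F).d p q =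
      (F.map (K'.d i₁ (i₁ + 1))).app (M.X i₂) ≫
        CochainComplex.ιMapBifunctor K' M F (i₁ + 1) i₂ q (by omega) +
      i₁.negOnePow • ((F.obj (K'.X i₁)).map (M.d i₂ (i₂ + 1)) ≫
        CochainComplex.ιMapBifunctor K' M F i₁ (i₂ + 1) q (by omega)) := by
  rw [HomologicalComplex.mapBifunctor.d_eq, Preadditive.comp_add]
  erw [HomologicalComplex.mapBifunctor.ι_D₁, HomologicalComplex.mapBifunctor.ι_D₂]
  rw [HomologicalComplex.mapBifunctor.d₁_eq K' M F (ComplexShape.up ℤ) (i₁' := i₁ + 1) rfl i₂ q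
      (by simp; omega),
    HomologicalComplex.mapBifunctor.d₂_eq K' M F (ComplexShape.up ℤ) i₁ (i₂' := i₂ + 1) rfl q
      (by simp; omega)]
  simp

lemma δ_map₁ {d e : ℤ} (z : Cochain K L d) :
    δ d e (map₁ F M z) = map₁ F M (δ d e z) := by
  by_cases hde : d + 1 = e
  · ext p q hpq i₁ i₂ h
    have h' : i₁ + i₂ = p := h
    rw [δ_v d e hde _ p q hpq (q - 1) (p + 1) rfl rfl]
    erw [ι_map₁_v F M _ i₁ i₂ p h' q hpq (i₁ + d + 1) (by omega)]
    rw [δ_v d e hde z i₁ (i₁ + d + 1) (by omega) (i₁ + d) (i₁ + 1) (by omega) rfl]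
    rw [Preadditive.comp_add, Linear.comp_units_smul]
    erw [ι_map₁_v_assoc F M z i₁ i₂ p h' (q - 1) (by omega) (i₁ + d) rfl,
      ι_d F M L (i₁ + d) i₂ (q - 1) (by omega) q (by omega),
      ι_d_assoc F M K i₁ i₂ p h' (p + 1) rfl]
    rw [Preadditive.add_comp, Linear.units_smul_comp, Category.assoc, Category.assoc]
    erw [ι_map₁_v F M z (i₁ + 1) i₂ (p + 1) (by omega) q (by omega) (i₁ + d + 1) (by omega),
      ι_map₁_v F M z i₁ (i₂ + 1) (p + 1) (by omega) q (by omega) (i₁ + d) rfl]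
    have hnat := (F.map (z.v i₁ (i₁ + d) rfl)).naturality (M.d i₂ (i₂ + 1))
    have hsign : e.negOnePow * i₁.negOnePow = -(i₁ + d).negOnePow := by
      subst hde
      rw [Int.negOnePow_add, Int.negOnePow_add, Int.negOnePow_one]
      simp [mul_comm]
    simp only [Functor.map_add, Functor.map_units_smul, Functor.map_comp, NatTrans.app_add,
      NatTrans.app_units_zsmul, NatTrans.comp_app, Preadditive.comp_add, Preadditive.add_comp,
      Linear.comp_units_smul, Linear.units_smul_comp, Category.assoc, smul_add, smul_smul]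
    rw [reassoc_of% hnat, hsign]
    simp only [Units.neg_smul]
    abel
  · rw [δ_shape _ _ hde, δ_shape _ _ hde, map₁_zero]

end First

section Second

variable (N : CochainComplex C₁ ℤ) {K L P : CochainComplex C₂ ℤ}
  [CochainComplex.HasMapBifunctor N K F] [CochainComplex.HasMapBifunctor N L F]
  [CochainComplex.HasMapBifunctor N P F]

/-- The action of `mapBifunctor N (-) F` on cochains in the second variable
(with the Koszul sign `(-1)^(i₁ * d)`). -/
noncomputable def map₂ {d : ℤ} (z : Cochain K L d) :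
    Cochain (CochainComplex.mapBifunctor N K F) (CochainComplex.mapBifunctor N L F) d :=
  Cochain.mk (fun p q hpq => HomologicalComplex.mapBifunctorDesc (fun i₁ i₂ h =>
    (i₁ * d).negOnePow • ((F.obj (N.X i₁)).map (z.v i₂ (i₂ + d) rfl) ≫
      CochainComplex.ιMapBifunctor N L F i₁ (i₂ + d) q (by
        have h' : i₁ + i₂ = p := h
        omega))))

@[reassoc]
lemma ι_map₂_v {d : ℤ} (z : Cochain K L d) (i₁ i₂ p : ℤ) (h : i₁ + i₂ = p) (q : ℤ)
    (hpq : p + d = q) (i₂' : ℤ) (hi₂' : i₂ + d = i₂') :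
    CochainComplex.ιMapBifunctor N K F i₁ i₂ p h ≫ (map₂ F N z).v p q hpq =
      (i₁ * d).negOnePow • ((F.obj (N.X i₁)).map (z.v i₂ i₂' hi₂') ≫
        CochainComplex.ιMapBifunctor N L F i₁ i₂' q (by omega)) := by
  subst hi₂'
  simp [map₂]

@[simp]
lemma map₂_zero {d : ℤ} : map₂ F N (0 : Cochain K L d) = 0 := by
  ext p q hpq i₁ i₂ h
  have h' : i₁ + i₂ = p := h
  erw [ι_map₂_v F N _ i₁ i₂ p h' q hpq (i₂ + d) rfl]
  simp

@[simp]
lemma map₂_add {d : ℤ} (z z' : Cochain K L d) :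
    map₂ F N (z + z') = map₂ F N z + map₂ F N z' := by
  ext p q hpq i₁ i₂ h
  have h' : i₁ + i₂ = p := h
  rw [Cochain.add_v, Preadditive.comp_add]
  erw [ι_map₂_v F N _ i₁ i₂ p h' q hpq (i₂ + d) rfl,
    ι_map₂_v F N _ i₁ i₂ p h' q hpq (i₂ + d) rfl,
    ι_map₂_v F N _ i₁ i₂ p h' q hpq (i₂ + d) rfl]
  simp

@[simp]
lemma map₂_neg {d : ℤ} (z : Cochain K L d) :
    map₂ F N (-z) = -map₂ F N z := by
  ext p q hpq i₁ i₂ h
  have h' : i₁ + i₂ = p := h
  rw [Cochain.neg_v, Preadditive.comp_neg]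
  erw [ι_map₂_v F N _ i₁ i₂ p h' q hpq (i₂ + d) rfl,
    ι_map₂_v F N _ i₁ i₂ p h' q hpq (i₂ + d) rfl]
  simp

lemma map₂_ofHom (f : K ⟶ L) :
    map₂ F N (Cochain.ofHom f) =
      Cochain.ofHom (HomologicalComplex.mapBifunctorMap (𝟙 N) f F (ComplexShape.up ℤ)) := by
  ext p i₁ i₂ h
  have h' : i₁ + i₂ = p := h
  erw [ι_map₂_v F N _ i₁ i₂ p h' p (add_zero _) i₂ (add_zero _)]
  rw [Cochain.ofHom_v, Cochain.ofHom_v]
  erw [HomologicalComplex.ι_mapBifunctorMap]
  simp

lemma map₂_comp {d₁ d₂ d₁₂ : ℤ} (z₁ : Cochain K L d₁) (z₂ : Cochain L P d₂)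
    (h : d₁ + d₂ = d₁₂) :
    map₂ F N (z₁.comp z₂ h) = (map₂ F N z₁).comp (map₂ F N z₂) h := by
  ext p q hpq i₁ i₂ hi
  have h' : i₁ + i₂ = p := hi
  rw [Cochain.comp_v _ _ h p (p + d₁) q rfl (by omega)]
  erw [ι_map₂_v F N _ i₁ i₂ p h' q hpq (i₂ + d₁₂) rfl,
    ι_map₂_v_assoc F N _ i₁ i₂ p h' (p + d₁) rfl (i₂ + d₁) rfl]
  rw [Linear.units_smul_comp, Category.assoc]
  erw [ι_map₂_v F N _ i₁ (i₂ + d₁) (p + d₁) (by omega) q (by omega) (i₂ + d₁₂) (by omega)]
  rw [Cochain.comp_v _ _ h i₂ (i₂ + d₁) (i₂ + d₁₂) rfl (by omega)]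
  subst h
  simp [smul_smul, mul_add, Int.negOnePow_add]

lemma δ_map₂ {d e : ℤ} (z : Cochain K L d) :
    δ d e (map₂ F N z) = map₂ F N (δ d e z) := by
  by_cases hde : d + 1 = e
  · ext p q hpq i₁ i₂ h
    have h' : i₁ + i₂ = p := h
    rw [δ_v d e hde _ p q hpq (q - 1) (p + 1) rfl rfl]
    erw [ι_map₂_v F N _ i₁ i₂ p h' q hpq (i₂ + d + 1) (by omega)]
    rw [δ_v d e hde z i₂ (i₂ + d + 1) (by omega) (i₂ + d) (i₂ + 1) (by omega) rfl]
    rw [Preadditive.comp_add, Linear.comp_units_smul]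
    erw [ι_map₂_v_assoc F N z i₁ i₂ p h' (q - 1) (by omega) (i₂ + d) rfl]
    rw [Linear.units_smul_comp, Category.assoc]
    erw [ι_d F L N i₁ (i₂ + d) (q - 1) (by omega) q (by omega),
      ι_d_assoc F K N i₁ i₂ p h' (p + 1) rfl]
    rw [Preadditive.add_comp, Linear.units_smul_comp, Category.assoc, Category.assoc]
    erw [ι_map₂_v F N z (i₁ + 1) i₂ (p + 1) (by omega) q (by omega) (i₂ + d) rfl,
      ι_map₂_v F N z i₁ (i₂ + 1) (p + 1) (by omega) q (by omega) (i₂ + d + 1) (by omega)]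
    have hnat := (F.map (N.d i₁ (i₁ + 1))).naturality (z.v i₂ (i₂ + d) rfl)
    have hs1 : e.negOnePow * ((i₁ + 1) * d).negOnePow = -(i₁ * d).negOnePow := by
      subst hde
      rw [add_mul, one_mul, Int.negOnePow_add, Int.negOnePow_add, Int.negOnePow_one]
      have h2 : d.negOnePow * d.negOnePow = 1 := Int.units_mul_self _
      calc d.negOnePow * -1 * ((i₁ * d).negOnePow * d.negOnePow)
          = -((d.negOnePow * d.negOnePow) * (i₁ * d).negOnePow) := by
            simp only [mul_neg, mul_one, neg_mul, neg_inj]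
            rw [mul_comm (i₁ * d).negOnePow, ← mul_assoc]
        _ = -(i₁ * d).negOnePow := by rw [h2, one_mul]
    have hs2 : (i₁ * e).negOnePow = (i₁ * d).negOnePow * i₁.negOnePow := by
      subst hde
      rw [mul_add, mul_one, Int.negOnePow_add]
    simp only [Functor.map_add, Functor.map_units_smul, Functor.map_comp, Preadditive.comp_add,
      Preadditive.add_comp, Linear.comp_units_smul, Linear.units_smul_comp, Category.assoc,
      smul_add, smul_smul]
    rw [← reassoc_of% hnat, hs1, hs2]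
    have hc : e.negOnePow * (i₁.negOnePow * (i₁ * d).negOnePow) =
        (i₁ * d).negOnePow * i₁.negOnePow * e.negOnePow := by
      rw [mul_comm e.negOnePow, mul_comm i₁.negOnePow]
    rw [hc, Units.neg_smul]
    abel
  · rw [δ_shape _ _ hde, δ_shape _ _ hde, map₂_zero]

end Second

section ConeFirst

open CochainComplex

variable {K L : CochainComplex C₁ ℤ} (φ : K ⟶ L) (M : CochainComplex C₂ ℤ)
  [HasHomotopyCofiber φ]
  [CochainComplex.HasMapBifunctor K M F] [CochainComplex.HasMapBifunctor L M F]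
  [CochainComplex.HasMapBifunctor (mappingCone φ) M F]
  [HasHomotopyCofiber (HomologicalComplex.mapBifunctorMap φ (𝟙 M) F (ComplexShape.up ℤ))]

lemma map₁_ofHom_comp {N : CochainComplex C₁ ℤ} [CochainComplex.HasMapBifunctor N M F]
    (f : K ⟶ L) (g : L ⟶ N) :
    HomologicalComplex.mapBifunctorMap (f ≫ g) (𝟙 M) F (ComplexShape.up ℤ) =
      HomologicalComplex.mapBifunctorMap f (𝟙 M) F (ComplexShape.up ℤ) ≫
        HomologicalComplex.mapBifunctorMap g (𝟙 M) F (ComplexShape.up ℤ) := by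
  apply Cochain.ofHom_injective
  rw [← map₁_ofHom, Cochain.ofHom_comp, map₁_comp, map₁_ofHom, map₁_ofHom, ← Cochain.ofHom_comp]

/-- The comparison map from the cone of `φ ⊗ M` to `cone φ ⊗ M`. -/
noncomputable def coneDesc₁ :
    mappingCone (HomologicalComplex.mapBifunctorMap φ (𝟙 M) F (ComplexShape.up ℤ)) ⟶
      CochainComplex.mapBifunctor (mappingCone φ) M F :=
  mappingCone.desc _ (map₁ F M (mappingCone.inl φ))
    (HomologicalComplex.mapBifunctorMap (mappingCone.inr φ) (𝟙 M) F (ComplexShape.up ℤ)) (by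
      rw [δ_map₁, mappingCone.δ_inl, map₁_ofHom, map₁_ofHom_comp])

/-- The comparison map from `cone φ ⊗ M` to the cone of `φ ⊗ M`. -/
noncomputable def coneLift₁ :
    CochainComplex.mapBifunctor (mappingCone φ) M F ⟶
      mappingCone (HomologicalComplex.mapBifunctorMap φ (𝟙 M) F (ComplexShape.up ℤ)) :=
  mappingCone.lift _
    (Cocycle.mk (map₁ F M (mappingCone.fst φ).1) 2 (by omega) (by
      rw [δ_map₁, Cocycle.δ_eq_zero, map₁_zero]))
    (map₁ F M (mappingCone.snd φ)) (by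
      rw [δ_map₁, mappingCone.δ_snd, map₁_neg, map₁_comp, map₁_ofHom]
      simp)

lemma map₁_ofHom_id : map₁ F M (Cochain.ofHom (𝟙 K)) = Cochain.ofHom (𝟙 _) := by
  rw [map₁_ofHom]
  congr 1
  ext n i₁ i₂ h
  simp

lemma coneLift₁_coneDesc₁ : coneLift₁ F φ M ≫ coneDesc₁ F φ M = 𝟙 _ := by
  apply Cochain.ofHom_injective
  rw [Cochain.ofHom_comp, coneLift₁, coneDesc₁, mappingCone.ofHom_lift, mappingCone.ofHom_desc,
    mappingCone.liftCochain_descCochain]
  dsimp only [Cocycle.mk]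
  rw [← map₁_ofHom, ← map₁_comp, ← map₁_comp, ← map₁_add, mappingCone.id, map₁_ofHom_id]

lemma map₁_v_comp {N : CochainComplex C₁ ℤ} [CochainComplex.HasMapBifunctor N M F]
    {d₁ d₂ d₁₂ : ℤ} (z₁ : Cochain K L d₁) (z₂ : Cochain L N d₂) (h : d₁ + d₂ = d₁₂)
    (p q r : ℤ) (hpq : p + d₁ = q) (hqr : q + d₂ = r) :
    (map₁ F M z₁).v p q hpq ≫ (map₁ F M z₂).v q r hqr =
      (map₁ F M (z₁.comp z₂ h)).v p r (by omega) := by
  rw [map₁_comp, Cochain.comp_v _ _ h p q r hpq hqr]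

lemma coneDesc₁_coneLift₁ : coneDesc₁ F φ M ≫ coneLift₁ F φ M = 𝟙 _ := by
  ext n : 2
  rw [mappingCone.ext_from_iff _ (n + 1) n rfl]
  constructor
  · rw [mappingCone.ext_to_iff _ n (n + 1) rfl]
    constructor
    · simp only [coneDesc₁, coneLift₁, HomologicalComplex.comp_f, HomologicalComplex.id_f,
        Category.assoc, mappingCone.inl_v_desc_f_assoc, mappingCone.lift_f_fst_v, Category.comp_id,
        Cocycle.mk_coe, mappingCone.inl_v_fst_v]
      rw [map₁_v_comp F M _ _ (neg_add_cancel 1), mappingCone.inl_fst, map₁_ofHom_id]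
      simp
    · simp only [coneDesc₁, coneLift₁, HomologicalComplex.comp_f, HomologicalComplex.id_f,
        Category.assoc, mappingCone.inl_v_desc_f_assoc, mappingCone.lift_f_snd_v, Category.comp_id,
        mappingCone.inl_v_snd_v]
      rw [map₁_v_comp F M _ _ (add_zero (-1)), mappingCone.inl_snd, map₁_zero]
      simp
  · rw [mappingCone.ext_to_iff _ n (n + 1) rfl]
    constructor
    · simp only [coneDesc₁, coneLift₁, HomologicalComplex.comp_f, HomologicalComplex.id_f,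
        Category.assoc, mappingCone.inr_f_desc_f_assoc, mappingCone.lift_f_fst_v, Category.comp_id,
        Cocycle.mk_coe, mappingCone.inr_f_fst_v]
      rw [← Cochain.ofHom_v, ← map₁_ofHom, map₁_v_comp F M _ _ (zero_add 1), mappingCone.inr_fst,
        map₁_zero]
      simp
    · simp only [coneDesc₁, coneLift₁, HomologicalComplex.comp_f, HomologicalComplex.id_f,
        Category.assoc, mappingCone.inr_f_desc_f_assoc, mappingCone.lift_f_snd_v, Category.comp_id,
        mappingCone.inr_f_snd_v]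
      rw [← Cochain.ofHom_v, ← map₁_ofHom, map₁_v_comp F M _ _ (zero_add 0), mappingCone.inr_snd,
        map₁_ofHom_id]
      simp

/-- `mapBifunctor (mappingCone φ) M F ≅ mappingCone (mapBifunctorMap φ (𝟙 M) F)`. -/
noncomputable def coneIso₁ :
    CochainComplex.mapBifunctor (mappingCone φ) M F ≅
      mappingCone (HomologicalComplex.mapBifunctorMap φ (𝟙 M) F (ComplexShape.up ℤ)) where
  hom := coneLift₁ F φ M
  inv := coneDesc₁ F φ M
  hom_inv_id := coneLift₁_coneDesc₁ F φ M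
  inv_hom_id := coneDesc₁_coneLift₁ F φ M

end ConeFirst

section ConeSecond

open CochainComplex

variable (N : CochainComplex C₁ ℤ) {K L : CochainComplex C₂ ℤ} (φ : K ⟶ L)
  [HasHomotopyCofiber φ]
  [CochainComplex.HasMapBifunctor N K F] [CochainComplex.HasMapBifunctor N L F]
  [CochainComplex.HasMapBifunctor N (mappingCone φ) F]
  [HasHomotopyCofiber (HomologicalComplex.mapBifunctorMap (𝟙 N) φ F (ComplexShape.up ℤ))]

lemma map₂_ofHom_comp {P : CochainComplex C₂ ℤ} [CochainComplex.HasMapBifunctor N P F]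
    (f : K ⟶ L) (g : L ⟶ P) :
    HomologicalComplex.mapBifunctorMap (𝟙 N) (f ≫ g) F (ComplexShape.up ℤ) =
      HomologicalComplex.mapBifunctorMap (𝟙 N) f F (ComplexShape.up ℤ) ≫
        HomologicalComplex.mapBifunctorMap (𝟙 N) g F (ComplexShape.up ℤ) := by
  apply Cochain.ofHom_injective
  rw [← map₂_ofHom, Cochain.ofHom_comp, map₂_comp, map₂_ofHom, map₂_ofHom, ← Cochain.ofHom_comp]

/-- The comparison map from the cone of `N ⊗ φ` to `N ⊗ cone φ`. -/
noncomputable def coneDesc₂ :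
    mappingCone (HomologicalComplex.mapBifunctorMap (𝟙 N) φ F (ComplexShape.up ℤ)) ⟶
      CochainComplex.mapBifunctor N (mappingCone φ) F :=
  mappingCone.desc _ (map₂ F N (mappingCone.inl φ))
    (HomologicalComplex.mapBifunctorMap (𝟙 N) (mappingCone.inr φ) F (ComplexShape.up ℤ)) (by
      rw [δ_map₂, mappingCone.δ_inl, map₂_ofHom, map₂_ofHom_comp])

/-- The comparison map from `N ⊗ cone φ` to the cone of `N ⊗ φ`. -/
noncomputable def coneLift₂ :
    CochainComplex.mapBifunctor N (mappingCone φ) F ⟶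
      mappingCone (HomologicalComplex.mapBifunctorMap (𝟙 N) φ F (ComplexShape.up ℤ)) :=
  mappingCone.lift _
    (Cocycle.mk (map₂ F N (mappingCone.fst φ).1) 2 (by omega) (by
      rw [δ_map₂, Cocycle.δ_eq_zero, map₂_zero]))
    (map₂ F N (mappingCone.snd φ)) (by
      rw [δ_map₂, mappingCone.δ_snd, map₂_neg, map₂_comp, map₂_ofHom]
      simp)

lemma map₂_ofHom_id : map₂ F N (Cochain.ofHom (𝟙 K)) = Cochain.ofHom (𝟙 _) := by
  rw [map₂_ofHom]
  congr 1
  ext n i₁ i₂ h
  simp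

lemma coneLift₂_coneDesc₂ : coneLift₂ F N φ ≫ coneDesc₂ F N φ = 𝟙 _ := by
  apply Cochain.ofHom_injective
  rw [Cochain.ofHom_comp, coneLift₂, coneDesc₂, mappingCone.ofHom_lift, mappingCone.ofHom_desc,
    mappingCone.liftCochain_descCochain]
  dsimp only [Cocycle.mk]
  rw [← map₂_ofHom, ← map₂_comp, ← map₂_comp, ← map₂_add, mappingCone.id, map₂_ofHom_id]

lemma map₂_v_comp {P : CochainComplex C₂ ℤ} [CochainComplex.HasMapBifunctor N P F]
    {d₁ d₂ d₁₂ : ℤ} (z₁ : Cochain K L d₁) (z₂ : Cochain L P d₂) (h : d₁ + d₂ = d₁₂)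
    (p q r : ℤ) (hpq : p + d₁ = q) (hqr : q + d₂ = r) :
    (map₂ F N z₁).v p q hpq ≫ (map₂ F N z₂).v q r hqr =
      (map₂ F N (z₁.comp z₂ h)).v p r (by omega) := by
  rw [map₂_comp, Cochain.comp_v _ _ h p q r hpq hqr]

lemma coneDesc₂_coneLift₂ : coneDesc₂ F N φ ≫ coneLift₂ F N φ = 𝟙 _ := by
  ext n : 2
  rw [mappingCone.ext_from_iff _ (n + 1) n rfl]
  constructor
  · rw [mappingCone.ext_to_iff _ n (n + 1) rfl]
    constructor
    · simp only [coneDesc₂, coneLift₂, HomologicalComplex.comp_f, HomologicalComplex.id_f,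
        Category.assoc, mappingCone.inl_v_desc_f_assoc, mappingCone.lift_f_fst_v, Category.comp_id,
        Cocycle.mk_coe, mappingCone.inl_v_fst_v]
      rw [map₂_v_comp F N _ _ (neg_add_cancel 1), mappingCone.inl_fst, map₂_ofHom_id]
      simp
    · simp only [coneDesc₂, coneLift₂, HomologicalComplex.comp_f, HomologicalComplex.id_f,
        Category.assoc, mappingCone.inl_v_desc_f_assoc, mappingCone.lift_f_snd_v, Category.comp_id,
        mappingCone.inl_v_snd_v]
      rw [map₂_v_comp F N _ _ (add_zero (-1)), mappingCone.inl_snd, map₂_zero]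
      simp
  · rw [mappingCone.ext_to_iff _ n (n + 1) rfl]
    constructor
    · simp only [coneDesc₂, coneLift₂, HomologicalComplex.comp_f, HomologicalComplex.id_f,
        Category.assoc, mappingCone.inr_f_desc_f_assoc, mappingCone.lift_f_fst_v, Category.comp_id,
        Cocycle.mk_coe, mappingCone.inr_f_fst_v]
      rw [← Cochain.ofHom_v, ← map₂_ofHom, map₂_v_comp F N _ _ (zero_add 1), mappingCone.inr_fst,
        map₂_zero]
      simp
    · simp only [coneDesc₂, coneLift₂, HomologicalComplex.comp_f, HomologicalComplex.id_f,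
        Category.assoc, mappingCone.inr_f_desc_f_assoc, mappingCone.lift_f_snd_v, Category.comp_id,
        mappingCone.inr_f_snd_v]
      rw [← Cochain.ofHom_v, ← map₂_ofHom, map₂_v_comp F N _ _ (zero_add 0), mappingCone.inr_snd,
        map₂_ofHom_id]
      simp

/-- `mapBifunctor N (mappingCone φ) F ≅ mappingCone (mapBifunctorMap (𝟙 N) φ F)`. -/
noncomputable def coneIso₂ :
    CochainComplex.mapBifunctor N (mappingCone φ) F ≅
      mappingCone (HomologicalComplex.mapBifunctorMap (𝟙 N) φ F (ComplexShape.up ℤ)) where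
  hom := coneLift₂ F N φ
  inv := coneDesc₂ F N φ
  hom_inv_id := coneLift₂_coneDesc₂ F N φ
  inv_hom_id := coneDesc₂_coneLift₂ F N φ

end ConeSecond

end Groth.Agent.Lib.BifunctorCone66
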