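import Mathlib
import Groth.Prelude.Def_BigSite
import Groth.Agent.Lib.EtLiftClosed

/-!
# Big-site covering sieves and almost cocontinuity of base change along closed immersions (helper34)

* `mem_J_of_forall`, `exists_of_mem_J`: covering sieves of `QuotSh.J (Scheme.precoverage P) S` are
  exactly the sieves containing `P`-morphisms through every point.
* `bot_mem_J_of_isEmpty`: the empty sieve covers objects with empty underlying scheme.
* `exists_lift`: étale neighbourhoods lift along closed immersions (scheme form of helper39's lemma).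
* `almostCocont`: base change along a closed immersion is almost cocontinuous for the big `P`-site
  whenever étale morphisms are `P` and `P`-morphisms have sections étale locally.
-/

set_option autoImplicit false
universe u
open CategoryTheory CategoryTheory.Limits AlgebraicGeometry

namespace Groth.Agent.Lib.BigCover34

variable (P : MorphismProperty Scheme.{u})

/-- a sieve containing P-morphisms through every point is covering -/
theorem mem_J_of_forall {S : Scheme.{u}} {T : Over S} (R : Sieve T)
    (h : ∀ x : T.left, ∃ (U : Scheme.{u}) (g : U ⟶ T.left), P g ∧ x ∈ Set.range g ∧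
      R (Over.homMk g : Over.mk (g ≫ T.hom) ⟶ T)) :
    R ∈ QuotSh.J (Scheme.precoverage P) S T := by
  choose U g hP hx hR using h
  rw [GrothendieckTopology.mem_over_iff]
  refine GrothendieckTopology.superset_covering _ ?_
    (Precoverage.generate_mem_toGrothendieck
      ((Scheme.ofArrows_mem_precoverage_iff P (X := U) (f := g)).2 ⟨fun x => ⟨x, hx x⟩, hP⟩))
  rw [Sieve.generate_le_iff]
  rintro _ _ ⟨x⟩
  exact (Sieve.overEquiv_iff _ _).2 (hR x)

/-- a covering sieve contains P-morphisms through every point -/
theorem exists_of_mem_J [P.IsStableUnderComposition] [P.IsStableUnderBaseChange]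
    [P.ContainsIdentities] [P.RespectsIso] [Scheme.IsJointlySurjectivePreserving P]
    {S : Scheme.{u}} {T : Over S} (R : Sieve T)
    (hR : R ∈ QuotSh.J (Scheme.precoverage P) S T) (x : T.left) :
    ∃ (U : Scheme.{u}) (g : U ⟶ T.left), P g ∧ x ∈ Set.range g ∧
      R (Over.homMk g : Over.mk (g ≫ T.hom) ⟶ T) := by
  rw [GrothendieckTopology.mem_over_iff,
    Precoverage.mem_toGrothendieck_iff_of_isStableUnderComposition] at hR
  obtain ⟨R₀, hR₀, hle⟩ := hR
  obtain ⟨U, g, hg, hx⟩ := ((Presieve.mem_comap_jointlySurjectivePrecoverage_iff _).1 hR₀.1) x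
  exact ⟨U, g, hR₀.2 hg, hx, (Sieve.overEquiv_iff _ _).1 (hle _ _ hg)⟩

/-- the empty sieve covers an object with empty underlying scheme -/
theorem bot_mem_J_of_isEmpty {S : Scheme.{u}} {T : Over S} (hT : IsEmpty T.left) :
    (⊥ : Sieve T) ∈ QuotSh.J (Scheme.precoverage P) S T :=
  mem_J_of_forall P _ fun x => (hT.false x).elim

/-- lifting étale neighbourhoods along a closed immersion -/
theorem exists_lift {Z V U : Scheme.{u}} (i : Z ⟶ V) [IsClosedImmersion i] (g : U ⟶ Z) [Etale g]
    (u : U) :
    ∃ (V' : Scheme.{u}) (v' : V' ⟶ V) (_ : Etale v') (h : pullback v' i ⟶ U) (p : ↥(pullback v' i)),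
      h ≫ g = pullback.snd v' i ∧ h p = u := by
  obtain ⟨W, h, p, hp⟩ := Groth.Agent.Lib.EtLiftClosed.exists_lift_etale_nbhd i (Scheme.Etale.mk g) u
  exact ⟨W.left, W.hom, W.prop, h.left, p, MorphismProperty.Over.w h, hp⟩

set_option backward.isDefEq.respectTransparency false in
theorem almostCocont {X Y : Scheme.{u}} (f : X ⟶ Y) [IsClosedImmersion f]
    [P.IsStableUnderComposition] [P.IsStableUnderBaseChange]
    [P.ContainsIdentities] [P.RespectsIso] [Scheme.IsJointlySurjectivePreserving P]
    (hEt : ∀ {A B : Scheme.{u}} (g : A ⟶ B), Etale g → P g)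
    (hsec : ∀ {A B : Scheme.{u}} (g : A ⟶ B), P g → ∀ b ∈ Set.range g,
      ∃ (B' : Scheme.{u}) (e : B' ⟶ B) (b' : B'), Etale e ∧ e b' = b ∧ ∃ h : B' ⟶ A, h ≫ g = e) :
    BigSite.IsAlmostCocontinuous (Over.pullback f) (QuotSh.J (Scheme.precoverage P) Y)
      (QuotSh.J (Scheme.precoverage P) X) := by
  intro V R hR
  let R' : Sieve V :=
    { arrows := fun W g => (⊥ : Sieve ((Over.pullback f).obj W)) ∈
          QuotSh.J (Scheme.precoverage P) X ((Over.pullback f).obj W) ∨ R ((Over.pullback f).map g)
      downward_closed := by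
        rintro W W' g (h | h) k
        · left
          have := (QuotSh.J (Scheme.precoverage P) X).pullback_stable ((Over.pullback f).map k) h
          rwa [Sieve.pullback_bot] at this
        · right
          rw [Functor.map_comp]
          exact R.downward_closed h _ }
  refine ⟨R', ?_, fun W g hg => hg⟩
  let i : pullback V.hom f ⟶ V.left := pullback.fst V.hom f
  have hi : IsClosedImmersion i := inferInstance
  apply mem_J_of_forall P R'
  intro y
  by_cases hy : y ∈ Set.range i
  · obtain ⟨x', rfl⟩ := hy
    obtain ⟨U, g, hPg, ⟨u, hu⟩, hRg⟩ := exists_of_mem_J P R hR x'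
    obtain ⟨B', e, b', he, heb, h, hhe⟩ := hsec g hPg x' ⟨u, hu⟩
    obtain ⟨V', v', hv', hh, p, hhp, hp⟩ := exists_lift i e b'
    refine ⟨V', v', hEt v' hv', ⟨pullback.fst v' i p, ?_⟩, Or.inr ?_⟩
    · have h1 := congr($(pullback.condition (f := v') (g := i)) p)
      simp only [Scheme.Hom.comp_apply] at h1
      rw [h1]
      have h2 := congr($hhp p)
      simp only [Scheme.Hom.comp_apply] at h2
      rw [← h2, hp]
      exact congrArg _ heb
    · let θ : pullback (v' ≫ V.hom) f ⟶ pullback v' i :=
        pullback.lift (pullback.fst _ _)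
          (pullback.lift (pullback.fst _ _ ≫ v') (pullback.snd _ _)
            (by rw [Category.assoc, pullback.condition])) (by simp [i])
      let k : (Over.pullback f).obj (Over.mk (v' ≫ V.hom)) ⟶
          Over.mk (g ≫ ((Over.pullback f).obj V).hom) :=
        Over.homMk (θ ≫ hh ≫ h) (by
          simp only [Over.mk_hom, Category.assoc]
          rw [reassoc_of% hhe, reassoc_of% hhp]
          simp [θ])
      have hk : (Over.pullback f).map (Over.homMk v' : Over.mk (v' ≫ V.hom) ⟶ V) =
          k ≫ (Over.homMk g : Over.mk (g ≫ ((Over.pullback f).obj V).hom) ⟶ _) := by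
        apply Over.OverMorphism.ext
        simp only [Over.comp_left, Over.homMk_left, k, Category.assoc]
        rw [hhe, hhp]
        apply pullback.hom_ext
        · simp [θ, i, Over.pullback]
        · simp [θ, i, Over.pullback]
      rw [hk]
      exact R.downward_closed hRg k
  · have hcl : IsClosed (Set.range i) := i.isClosedEmbedding.isClosed_range
    let O : V.left.Opens := ⟨(Set.range i)ᶜ, hcl.isOpen_compl⟩
    refine ⟨O, O.ι, hEt _ inferInstance, ⟨⟨y, hy⟩, rfl⟩, Or.inl ?_⟩
    apply bot_mem_J_of_isEmpty
    refine ⟨fun z => ?_⟩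
    let m : pullback (O.ι ≫ V.hom) f ⟶ pullback V.hom f :=
      pullback.lift (pullback.fst _ _ ≫ O.ι) (pullback.snd _ _)
        (by rw [Category.assoc, pullback.condition])
    have h1 : m ≫ i = pullback.fst _ _ ≫ O.ι := by simp [m, i]
    have h2 := congr($h1 z)
    simp only [Scheme.Hom.comp_apply] at h2
    have h3 : (O.ι (pullback.fst (O.ι ≫ V.hom) f z)) ∈ (O : Set V.left) :=
      (pullback.fst (O.ι ≫ V.hom) f z).2
    exact h3 ⟨m z, h2⟩

end Groth.Agent.Lib.BigCover34
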