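import Groth.Agent.S6358
import Groth.Agent.S6359
import Mathlib.RingTheory.Flat.EquationalCriterion
import Mathlib.Algebra.DirectSum.Module
import Mathlib.Algebra.Module.Projective
import Mathlib.LinearAlgebra.Isomorphisms

/-!
Countably generated flat Mittag-Leffler modules are projective.
-/

set_option autoImplicit false
universe u
open scoped TensorProduct

namespace Groth.Agent.Lib.CtblProjective

open TensorProduct CAlg

section
variable {R : Type u} [CommRing R] {M : Type u} [AddCommGroup M] [Module R M]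

/-- Mittag-Leffler: every map from a finite free module has a dominating factorization through a
finitely presented module. -/
lemma exists_dominating_factorization (hML : CAlg.IsMittagLeffler R M) {n : ℕ}
    (f : (Fin n → R) →ₗ[R] M) :
    ∃ (n' : ℕ) (K : Submodule R (Fin n' → R)) (g : (Fin n → R) →ₗ[R] (Fin n' → R) ⧸ K)
      (h : ((Fin n' → R) ⧸ K) →ₗ[R] M), K.FG ∧ h ∘ₗ g = f ∧
      ∀ (N : Type u) [AddCommGroup N] [Module R N],
        LinearMap.ker (f.rTensor N) ≤ LinearMap.ker (g.rTensor N) := by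
  by_contra hcon
  let I : Type u := Σ (n' : ℕ) (K : Submodule R (Fin n' → R)),
    {p : ((Fin n → R) →ₗ[R] ((Fin n' → R) ⧸ K)) × (((Fin n' → R) ⧸ K) →ₗ[R] M) //
      K.FG ∧ p.2 ∘ₗ p.1 = f}
  let Qf : I → Type u := fun α => (Fin α.1 → R) ⧸ α.2.1
  let gf : ∀ α : I, (Fin n → R) →ₗ[R] Qf α := fun α => α.2.2.1.1
  let hf : ∀ α : I, Qf α →ₗ[R] M := fun α => α.2.2.1.2
  have hfac : ∀ α : I, hf α ∘ₗ gf α = f := fun α => α.2.2.2.2
  have key : ∀ α : I, ∃ N : Groth.Agent.S6358.Bdl R, ∃ x : (Fin n → R) ⊗[R] N.N,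
      f.rTensor N.N x = 0 ∧ (gf α).rTensor N.N x ≠ 0 := by
    intro α
    by_contra hno
    apply hcon
    refine ⟨α.1, α.2.1, gf α, hf α, α.2.2.2.1, hfac α, ?_⟩
    intro N _ _ x hx
    rw [LinearMap.mem_ker] at hx ⊢
    by_contra hg
    exact hno ⟨⟨N⟩, x, hx, hg⟩
  choose Nα xα hxα using key
  have hfg : (⊤ : Submodule R (Fin n → R)).FG := by
    rw [← Module.finite_def]; infer_instance
  obtain ⟨X, hX⟩ := Groth.Agent.S6340.piRightHom_surjective_of_fg hfg I
    (fun α => (Nα α).N) (fun α => xα α)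
  have h0 : f.rTensor (∀ α, (Nα α).N) X = 0 := by
    apply hML I (fun α => (Nα α).N)
    funext α
    rw [Groth.Agent.S6338.piRightHom_naturality, hX, (hxα α).1]
    simp
  obtain ⟨n', K, g, h, hK, hgh, hgX⟩ :=
    Groth.Agent.S6358.exists_factor_of_rTensor_eq_zero f _ X h0
  let β : I := ⟨n', K, ⟨(g, h), hK, hgh⟩⟩
  apply (hxα β).2
  have := Groth.Agent.S6338.piRightHom_naturality R (gf β) I (fun α => (Nα α).N) X β
  rw [hX] at this
  rw [← this]
  show TensorProduct.piRightHom R R _ _ (g.rTensor _ X) β = 0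
  rw [hgX]
  simp

/-- one step of the telescope -/
lemma exists_step [Module.Flat R M] (hML : CAlg.IsMittagLeffler R M) {k : ℕ}
    (u : (Fin k → R) →ₗ[R] M) (x : M) :
    ∃ (k' : ℕ) (v : (Fin k → R) →ₗ[R] (Fin k' → R)) (u' : (Fin k' → R) →ₗ[R] M),
      u' ∘ₗ v = u ∧ x ∈ LinearMap.range u' ∧
      ∀ (N : Type u) [AddCommGroup N] [Module R N],
        LinearMap.ker (u.rTensor N) ≤ LinearMap.ker (v.rTensor N) := by
  obtain ⟨n', K, g, h, hK, hgh, hdom⟩ := exists_dominating_factorization hML u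
  have hfp : Module.FinitePresentation R ((Fin n' → R) ⧸ K) :=
    Module.finitePresentation_of_surjective K.mkQ K.mkQ_surjective
      (by rw [Submodule.ker_mkQ]; exact hK)
  obtain ⟨k₀, h₂, h₃, h23⟩ := Module.Flat.exists_factorization_of_finitePresentation h
  let e := Finsupp.linearEquivFunOnFinite R R (Fin k₀)
  -- F' = R^{k₀} × R, realised as functions on `Fin k₀ ⊕ Unit` is awkward; use `Fin (k₀ + 1)`
  let w : (Fin k → R) →ₗ[R] (Fin k₀ → R) := e.toLinearMap ∘ₗ h₂ ∘ₗ g
  let u₀ : (Fin k₀ → R) →ₗ[R] M := h₃ ∘ₗ e.symm.toLinearMap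
  have hu₀w : u₀ ∘ₗ w = u := by
    rw [← hgh, h23]
    ext c
    simp [u₀, w]
  -- extend by one coordinate
  let inc : (Fin k₀ → R) →ₗ[R] (Fin (k₀ + 1) → R) :=
    Fintype.linearCombination R
      (fun i : Fin k₀ => (Pi.single (Fin.castSucc i) 1 : Fin (k₀ + 1) → R))
  let z : Fin (k₀ + 1) → M := Fin.snoc (fun i : Fin k₀ => u₀ (Pi.single i 1)) x
  let u' : (Fin (k₀ + 1) → R) →ₗ[R] M := Fintype.linearCombination R z
  have hinc : ∀ i : Fin k₀, inc (Pi.single i 1) = Pi.single (Fin.castSucc i) 1 := by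
    intro i
    simp [inc, Fintype.linearCombination_apply, Pi.single_apply, Finset.sum_ite_eq']
  have hu'single : ∀ j : Fin (k₀ + 1), u' (Pi.single j 1) = z j := by
    intro j
    simp [u', Fintype.linearCombination_apply, Pi.single_apply, Finset.sum_ite_eq']
  have hu'inc : u' ∘ₗ inc = u₀ := by
    apply (Pi.basisFun R (Fin k₀)).ext
    intro i
    rw [Pi.basisFun_apply, LinearMap.comp_apply, hinc, hu'single]
    simp [z]
  refine ⟨k₀ + 1, inc ∘ₗ w, u', ?_, ?_, ?_⟩
  · rw [← LinearMap.comp_assoc, hu'inc, hu₀w]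
  · refine ⟨Pi.single (Fin.last k₀) 1, ?_⟩
    rw [hu'single]
    simp [z]
  · intro N _ _ y hy
    have h1 := hdom N hy
    rw [LinearMap.mem_ker] at h1 ⊢
    have : inc ∘ₗ w = (inc ∘ₗ e.toLinearMap ∘ₗ h₂) ∘ₗ g := by
      simp only [w, LinearMap.comp_assoc]
    rw [this, LinearMap.rTensor_comp, LinearMap.comp_apply, h1, map_zero]

end

open DirectSum

section telescope
variable {R : Type u} [CommRing R] {M : Type u} [AddCommGroup M] [Module R M]
variable (F : ℕ → Type u) [∀ n, AddCommGroup (F n)] [∀ n, Module R (F n)]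
  (v : ∀ n, F n →ₗ[R] F (n+1)) (u : ∀ n, F n →ₗ[R] M)
  (h : ∀ n, F (n+2) →ₗ[R] F (n+1))

/-- the correction maps -/
noncomputable def bmap : ∀ n, F (n+1) →ₗ[R] (⨁ n, F n)
  | 0 => 0
  | (n+1) => (bmap n - ((DirectSum.lof R ℕ F (n+2)) ∘ₗ v (n+1) - DirectSum.lof R ℕ F (n+1))) ∘ₗ h n

noncomputable def psi (n : ℕ) : F n →ₗ[R] (⨁ n, F n) :=
  (DirectSum.lof R ℕ F (n+1) + bmap F v h n) ∘ₗ v n

variable {F v u h}

lemma psi_succ_comp (hh : ∀ n, h n ∘ₗ v (n+1) ∘ₗ v n = v n) (n : ℕ) :
    psi F v h (n+1) ∘ₗ v n = psi F v h n := by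
  have e : bmap F v h (n+1) ∘ₗ v (n+1) ∘ₗ v n =
      (bmap F v h n - ((DirectSum.lof R ℕ F (n+2)) ∘ₗ v (n+1) - DirectSum.lof R ℕ F (n+1))) ∘ₗ v n := by
    show ((bmap F v h n - ((DirectSum.lof R ℕ F (n+2)) ∘ₗ v (n+1) - DirectSum.lof R ℕ F (n+1))) ∘ₗ h n)
      ∘ₗ v (n+1) ∘ₗ v n = _
    rw [LinearMap.comp_assoc, hh n]
  ext y
  have e' := LinearMap.congr_fun e y
  simp only [psi, LinearMap.comp_apply, LinearMap.add_apply, LinearMap.sub_apply] at e' ⊢
  rw [e']
  abel_nf

lemma toModule_comp_bmap (hu : ∀ n, u (n+1) ∘ₗ v n = u n) (n : ℕ) :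
    (DirectSum.toModule R ℕ M u) ∘ₗ bmap F v h n = 0 := by
  induction n with
  | zero => simp [bmap]
  | succ n ih =>
    show (DirectSum.toModule R ℕ M u) ∘ₗ ((bmap F v h n - ((DirectSum.lof R ℕ F (n+2)) ∘ₗ v (n+1) - DirectSum.lof R ℕ F (n+1))) ∘ₗ h n) = 0
    ext y
    have ih' := LinearMap.congr_fun ih (h n y)
    have hu' := LinearMap.congr_fun (hu (n+1)) (h n y)
    simp only [LinearMap.comp_apply, LinearMap.sub_apply, map_sub, DirectSum.toModule_lof,
      LinearMap.zero_apply] at ih' hu' ⊢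
    rw [ih', hu']
    simp

lemma toModule_comp_psi (hu : ∀ n, u (n+1) ∘ₗ v n = u n) (n : ℕ) :
    (DirectSum.toModule R ℕ M u) ∘ₗ psi F v h n = u n := by
  ext y
  have h1 := LinearMap.congr_fun (toModule_comp_bmap (h := h) hu n) (v n y)
  have hu' := LinearMap.congr_fun (hu n) y
  simp only [psi, LinearMap.comp_apply, LinearMap.add_apply, map_add, DirectSum.toModule_lof,
    LinearMap.zero_apply] at h1 hu' ⊢
  rw [h1, hu', add_zero]

theorem projective_of_telescope [∀ n, Module.Projective R (F n)]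
    (hu : ∀ n, u (n+1) ∘ₗ v n = u n)
    (hsurj : ∀ m : M, ∃ n y, u n y = m)
    (hker : ∀ n, LinearMap.ker (u n) ≤ LinearMap.ker (v n))
    (hh : ∀ n, h n ∘ₗ v (n+1) ∘ₗ v n = v n) : Module.Projective R M := by
  classical
  set U : (⨁ n, F n) →ₗ[R] M := DirectSum.toModule R ℕ M u with hU
  set Ψ : (⨁ n, F n) →ₗ[R] (⨁ n, F n) := DirectSum.toModule R ℕ _ (psi F v h) with hΨ
  have hUΨ : U ∘ₗ Ψ = U := by
    apply DirectSum.linearMap_ext
    intro n
    ext y
    have := LinearMap.congr_fun (toModule_comp_psi (h := h) hu n) y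
    simp only [LinearMap.comp_apply] at this
    simp only [hU, hΨ, LinearMap.comp_apply, DirectSum.toModule_lof]
    exact this
  have hpush : ∀ t : ⨁ n, F n, ∃ N₀ : ℕ, ∀ N, N₀ ≤ N → ∃ y : F N, Ψ t = psi F v h N y ∧ U t = u N y := by
    intro t
    induction t using DirectSum.induction_on with
    | zero => exact ⟨0, fun N _ => ⟨0, by simp⟩⟩
    | of n x =>
      refine ⟨n, fun N hN => ?_⟩
      induction N, hN using Nat.le_induction with
      | base =>
        refine ⟨x, ?_, ?_⟩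
        · show Ψ (DirectSum.lof R ℕ F n x) = _
          simp [hΨ, DirectSum.toModule_lof]
        · show U (DirectSum.lof R ℕ F n x) = _
          simp [hU, DirectSum.toModule_lof]
      | succ N hN ih =>
        obtain ⟨y, hy1, hy2⟩ := ih
        refine ⟨v N y, ?_, ?_⟩
        · rw [hy1, ← psi_succ_comp hh N]; rfl
        · rw [hy2, ← hu N]; rfl
    | add t t' iht iht' =>
      obtain ⟨N₁, h1⟩ := iht
      obtain ⟨N₂, h2⟩ := iht'
      refine ⟨max N₁ N₂, fun N hN => ?_⟩
      obtain ⟨y1, hy1, hy1'⟩ := h1 N (le_trans (le_max_left _ _) hN)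
      obtain ⟨y2, hy2, hy2'⟩ := h2 N (le_trans (le_max_right _ _) hN)
      exact ⟨y1 + y2, by rw [map_add, map_add, hy1, hy2], by rw [map_add, map_add, hy1', hy2']⟩
  have hkerU : LinearMap.ker U ≤ LinearMap.ker Ψ := by
    intro t ht
    rw [LinearMap.mem_ker] at ht ⊢
    obtain ⟨N₀, hN⟩ := hpush t
    obtain ⟨y, hy1, hy2⟩ := hN N₀ le_rfl
    rw [ht] at hy2
    have : v N₀ y = 0 := hker N₀ (by rw [LinearMap.mem_ker]; exact hy2.symm)
    rw [hy1, ← psi_succ_comp hh N₀, LinearMap.comp_apply, this, map_zero]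
  have hsurjU : Function.Surjective U := by
    intro m
    obtain ⟨n, y, hy⟩ := hsurj m
    exact ⟨DirectSum.lof R ℕ F n y, by simp [hU, DirectSum.toModule_lof, hy]⟩
  let s : M →ₗ[R] (⨁ n, F n) :=
    (Submodule.liftQ (LinearMap.ker U) Ψ hkerU) ∘ₗ (U.quotKerEquivOfSurjective hsurjU).symm.toLinearMap
  refine Module.Projective.of_split s U ?_
  ext m
  obtain ⟨t, rfl⟩ := hsurjU m
  have : (U.quotKerEquivOfSurjective hsurjU).symm (U t) = Submodule.Quotient.mk t := by
    rw [LinearEquiv.symm_apply_eq]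
    rfl
  simp only [s, LinearMap.comp_apply, LinearEquiv.coe_coe, this, Submodule.liftQ_apply,
    LinearMap.id_apply]
  exact LinearMap.congr_fun hUΨ t

end telescope

section main
variable {R : Type u} [CommRing R] {M : Type u} [AddCommGroup M] [Module R M]

variable (R M) in
/-- state of the telescope construction -/
structure St where
  k : ℕ
  u : (Fin k → R) →ₗ[R] M

variable [Module.Flat R M] (hML : CAlg.IsMittagLeffler R M)

noncomputable def St.nextK (s : St R M) (x : M) : ℕ := (exists_step hML s.u x).choose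

noncomputable def St.nextV (s : St R M) (x : M) :
    (Fin s.k → R) →ₗ[R] (Fin (s.nextK hML x) → R) :=
  (exists_step hML s.u x).choose_spec.choose

noncomputable def St.nextU (s : St R M) (x : M) : (Fin (s.nextK hML x) → R) →ₗ[R] M :=
  (exists_step hML s.u x).choose_spec.choose_spec.choose

lemma St.next_spec (s : St R M) (x : M) :
    s.nextU hML x ∘ₗ s.nextV hML x = s.u ∧ x ∈ LinearMap.range (s.nextU hML x) ∧
      ∀ (N : Type u) [AddCommGroup N] [Module R N],
        LinearMap.ker (s.u.rTensor N) ≤ LinearMap.ker ((s.nextV hML x).rTensor N) :=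
  (exists_step hML s.u x).choose_spec.choose_spec.choose_spec

noncomputable def St.next (s : St R M) (x : M) : St R M := ⟨s.nextK hML x, s.nextU hML x⟩

noncomputable def seq (x : ℕ → M) : ℕ → St R M
  | 0 => ⟨0, 0⟩
  | n+1 => (seq x n).next hML (x n)

include hML in
theorem projective_of_seq_span (x : ℕ → M) (hx : Submodule.span R (Set.range x) = ⊤) :
    Module.Projective R M := by
  let F : ℕ → Type u := fun n => Fin (seq hML x n).k → R
  let vv : ∀ n, F n →ₗ[R] F (n+1) := fun n => (seq hML x n).nextV hML (x n)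
  let uu : ∀ n, F n →ₗ[R] M := fun n => (seq hML x n).u
  have hu : ∀ n, uu (n+1) ∘ₗ vv n = uu n := fun n => ((seq hML x n).next_spec hML (x n)).1
  have hxr : ∀ n, x n ∈ LinearMap.range (uu (n+1)) := fun n => ((seq hML x n).next_spec hML (x n)).2.1
  have hdom : ∀ n (N : Type u) [AddCommGroup N] [Module R N],
      LinearMap.ker ((uu n).rTensor N) ≤ LinearMap.ker ((vv n).rTensor N) :=
    fun n => ((seq hML x n).next_spec hML (x n)).2.2
  -- surjectivity
  have hmono : Monotone (fun n => LinearMap.range (uu n)) := by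
    apply monotone_nat_of_le_succ
    intro n
    rintro _ ⟨y, rfl⟩
    exact ⟨vv n y, LinearMap.congr_fun (hu n) y⟩
  have hsurj : ∀ m : M, ∃ n y, uu n y = m := by
    intro m
    have hm : m ∈ ⨆ k, (⟨fun n => LinearMap.range (uu n), hmono⟩ : ℕ →o Submodule R M) k := by
      have : (⊤ : Submodule R M) ≤ ⨆ k, (⟨fun n => LinearMap.range (uu n), hmono⟩ : ℕ →o Submodule R M) k := by
        rw [← hx, Submodule.span_le]
        rintro _ ⟨n, rfl⟩
        exact Submodule.mem_iSup_of_mem (n+1) (hxr n)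
      exact this Submodule.mem_top
    obtain ⟨k, hk⟩ := (Submodule.mem_iSup_of_chain _ m).mp hm
    obtain ⟨y, hy⟩ := hk
    exact ⟨k, y, hy⟩
  -- kernel
  have hker : ∀ n, LinearMap.ker (uu n) ≤ LinearMap.ker (vv n) := by
    intro n y hy
    rw [LinearMap.mem_ker] at hy ⊢
    have h1 : (y ⊗ₜ[R] (1 : R)) ∈ LinearMap.ker ((uu n).rTensor R) := by
      rw [LinearMap.mem_ker, LinearMap.rTensor_tmul, hy, zero_tmul]
    have h2 := hdom n R h1
    rw [LinearMap.mem_ker, LinearMap.rTensor_tmul] at h2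
    have := congrArg (TensorProduct.rid R _) h2
    simpa using this
  -- the retractions
  have hex : ∀ n, ∃ h : F (n+2) →ₗ[R] F (n+1), vv n = h ∘ₗ (vv (n+1) ∘ₗ vv n) := by
    intro n
    have : Module.FinitePresentation R (F (n+2) ⧸ LinearMap.range (vv (n+1) ∘ₗ vv n)) := by
      apply Module.finitePresentation_of_surjective (LinearMap.range (vv (n+1) ∘ₗ vv n)).mkQ
        (Submodule.mkQ_surjective _)
      rw [Submodule.ker_mkQ]
      rw [← Module.Finite.iff_fg]
      infer_instance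
    refine (Groth.Agent.S6359.result R (vv (n+1) ∘ₗ vv n) (vv n)).mp ?_
    intro Q _ _ z hz
    apply hdom n Q
    rw [LinearMap.mem_ker] at hz ⊢
    have e : uu n = uu (n+2) ∘ₗ (vv (n+1) ∘ₗ vv n) := by
      rw [← LinearMap.comp_assoc, hu (n+1), hu n]
    rw [e, LinearMap.rTensor_comp, LinearMap.comp_apply, hz, map_zero]
  choose h hh using hex
  exact projective_of_telescope (F := F) (v := vv) (u := uu) (h := h) hu hsurj hker
    (fun n => (hh n).symm)

include hML in
theorem projective_of_countablyGenerated (hc : CAlg.IsCountablyGenerated R M) :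
    Module.Projective R M := by
  obtain ⟨s, hs, hspan⟩ := hc
  have hs' : (insert (0 : M) s).Countable := hs.insert 0
  obtain ⟨x, hx⟩ := hs'.exists_eq_range (Set.insert_nonempty 0 s)
  apply projective_of_seq_span hML x
  rw [← hx, eq_top_iff, ← hspan]
  exact Submodule.span_mono (Set.subset_insert 0 s)

end main

end Groth.Agent.Lib.CtblProjective
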