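import Mathlib
import Groth.Agent.S0582

/-!
# Bass: big projective modules are free (helper6)

Namespace `Groth.Agent.Lib.BigProj6`.  `R` is a commutative ring with `R / J(R)` Noetherian.

* `content B₀ y`, `exists_content_eq_top` : a "big" submodule of a free module contains an element whose
  coordinates outside any given finite set generate the unit ideal (Noetherian induction on radicals of
  content ideals modulo the Jacobson radical; no dimension hypothesis).
* `IsBig R P` : `P/mP` is not finitely generated for any maximal ideal `m`;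
  `isBig_of_not_finite` (from `P_m` not finite over `R_m`, using Kaplansky's theorem S0582),
  `IsBig.of_isCompl`.
* `exists_dual_pair`, `exists_dual_family` : functionals with value `1` vanishing on a finite set.
* `exists_unimodular_add` (= S7110), `exists_free_summand` (every element lies in a free direct summand
  of finite rank; gives S7111), `free_of_countable` (= S7112).
* `bass_unimodular`, `bass_summand`, `bass_free` : the statements with the hypotheses of S7110-S7112.
-/

set_option autoImplicit false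

namespace Groth.Agent.Lib.BigProj6

universe u


section Coords
variable {R : Type*} [CommRing R] {B : Type*}

/-- the ideal generated by the coordinates of `y` outside the finite set `B₀` -/
def content (B₀ : Finset B) (y : B →₀ R) : Ideal R := Ideal.span {r | ∃ c, c ∉ B₀ ∧ y c = r}

lemma coord_mem_content (B₀ : Finset B) (y : B →₀ R) {c : B} (hc : c ∉ B₀) :
    y c ∈ content B₀ y := Ideal.subset_span ⟨c, hc, rfl⟩

lemma jacobson_bot_le_of_isMaximal (m : Ideal R) (hm : m.IsMaximal) :
    (⊥ : Ideal R).jacobson ≤ m := by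
  intro x hx
  rw [Ideal.jacobson, Ideal.mem_sInf] at hx
  exact hx ⟨bot_le, hm⟩

/-- Key lemma: a "big" submodule of a free module (over a ring whose quotient by the Jacobson radical
is Noetherian) contains an element whose coordinates outside any given finite set generate the unit
ideal. -/
theorem exists_content_eq_top' (J : Ideal R) (hJ : ∀ m : Ideal R, m.IsMaximal → J ≤ m)
    [IsNoetherianRing (R ⧸ J)] (N : Submodule R (B →₀ R))
    (hbig : ∀ (m : Ideal R), m.IsMaximal → ∀ B' : Finset B, ∃ z ∈ N, ∃ c, c ∉ B' ∧ z c ∉ m)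
    (B₀ : Finset B) : ∃ y ∈ N, content B₀ y = ⊤ := by
  classical
  let μ : (B →₀ R) → Ideal (R ⧸ J) := fun y =>
    ((content B₀ y).map (Ideal.Quotient.mk J)).radical
  have hwf : WellFounded ((· > ·) : Ideal (R ⧸ J) → Ideal (R ⧸ J) → Prop) :=
    (isNoetherian_iff'.mp (inferInstanceAs (IsNoetherian (R ⧸ J) (R ⧸ J)))).wf
  obtain ⟨I₀, ⟨y₀, hy₀N, rfl⟩, hmax⟩ := hwf.has_min {I | ∃ y ∈ N, μ y = I} ⟨_, 0, N.zero_mem, rfl⟩
  refine ⟨y₀, hy₀N, ?_⟩
  by_contra hne
  obtain ⟨m, hm, hle⟩ := Ideal.exists_le_maximal _ hne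
  obtain ⟨z, hzN, c, hc, hzc⟩ := hbig m hm (B₀ ∪ y₀.support)
  have hcB₀ : c ∉ B₀ := fun h => hc (Finset.mem_union_left _ h)
  have hcy₀ : y₀ c = 0 := by
    by_contra h
    exact hc (Finset.mem_union_right _ (Finsupp.mem_support_iff.mpr h))
  obtain ⟨t, ht⟩ : ∃ t, t = z c := ⟨_, rfl⟩
  obtain ⟨y', hy'⟩ : ∃ y', y' = y₀ + t • z := ⟨_, rfl⟩
  have hy'N : y' ∈ N := hy' ▸ N.add_mem hy₀N (N.smul_mem _ hzN)
  have ht2 : t ^ 2 ∈ content B₀ y' := by
    have : y' c = t ^ 2 := by
      rw [hy', Finsupp.add_apply, Finsupp.smul_apply, hcy₀, zero_add, smul_eq_mul, ← ht, sq]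
    rw [← this]
    exact coord_mem_content B₀ y' hcB₀
  have hle1 : content B₀ y₀ ≤ (content B₀ y').radical := by
    rw [content, Ideal.span_le]
    rintro _ ⟨c', hc', rfl⟩
    refine ⟨2, ?_⟩
    have h1 : y₀ c' = y' c' - t * z c' := by
      rw [hy', Finsupp.add_apply, Finsupp.smul_apply, smul_eq_mul]; ring
    have h2 : (y₀ c') ^ 2 = y' c' * (y' c' - 2 * t * z c') + t ^ 2 * (z c') ^ 2 := by
      rw [h1]; ring
    rw [h2]
    exact Ideal.add_mem _ (Ideal.mul_mem_right _ _ (coord_mem_content B₀ y' hc'))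
      (Ideal.mul_mem_right _ _ ht2)
  have hμle : μ y₀ ≤ μ y' := by
    have h1 : (content B₀ y₀).map (Ideal.Quotient.mk J) ≤ μ y' :=
      (Ideal.map_mono hle1).trans (Ideal.map_radical_le _)
    have h2 := Ideal.radical_mono h1
    rwa [Ideal.radical_idem] at h2
  have htmem : Ideal.Quotient.mk J t ∈ μ y' := by
    refine ⟨2, ?_⟩
    rw [← map_pow]
    exact Ideal.mem_map_of_mem _ ht2
  have htnot : Ideal.Quotient.mk J t ∉ μ y₀ := by
    rintro ⟨n, hn⟩
    rw [← map_pow] at hn
    have h1 : t ^ n ∈ ((content B₀ y₀).map (Ideal.Quotient.mk J)).comap (Ideal.Quotient.mk J) := hn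
    rw [Ideal.comap_map_of_surjective _ Ideal.Quotient.mk_surjective, ← RingHom.ker_eq_comap_bot,
      Ideal.mk_ker] at h1
    have h2 : content B₀ y₀ ⊔ J ≤ m :=
      sup_le hle (hJ m hm)
    have h3 := h2 h1
    have := hm.isPrime.mem_of_pow_mem n h3
    rw [ht] at this
    exact hzc this
  have hlt : μ y₀ < μ y' := lt_of_le_of_ne hμle (fun h => htnot (h ▸ htmem))
  exact hmax (μ y') ⟨y', hy'N, rfl⟩ hlt

theorem exists_content_eq_top [IsNoetherianRing (R ⧸ (⊥ : Ideal R).jacobson)]
    (N : Submodule R (B →₀ R))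
    (hbig : ∀ (m : Ideal R), m.IsMaximal → ∀ B' : Finset B, ∃ z ∈ N, ∃ c, c ∉ B' ∧ z c ∉ m)
    (B₀ : Finset B) : ∃ y ∈ N, content B₀ y = ⊤ :=
  exists_content_eq_top' _ jacobson_bot_le_of_isMaximal N hbig B₀

end Coords



section Big

/-- `P/mP` is not finitely generated for any maximal ideal `m`. -/
def IsBig (R : Type*) [CommRing R] (P : Type*) [AddCommGroup P] [Module R P] : Prop :=
  ∀ m : Ideal R, m.IsMaximal → ∀ N : Submodule R P, N.FG → N ⊔ (m • ⊤ : Submodule R P) ≠ ⊤

/-- a free module over a local ring which is finitely generated modulo the maximal ideal is finite -/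
lemma finite_of_free_of_sup_smul_top {A : Type*} [CommRing A] [IsLocalRing A] {Q : Type*}
    [AddCommGroup Q] [Module A Q] [Module.Free A Q] (N : Submodule A Q) (hN : N.FG)
    (h : N ⊔ (IsLocalRing.maximalIdeal A • ⊤ : Submodule A Q) = ⊤) : Module.Finite A Q := by
  classical
  let k := IsLocalRing.ResidueField A
  let ι := Module.Free.ChooseBasisIndex A Q
  let b : Module.Basis ι A Q := Module.Free.chooseBasis A Q
  let θ : Q →ₗ[A] (ι →₀ k) :=
    (Finsupp.mapRange.linearMap (Algebra.linearMap A k)) ∘ₗ b.repr.toLinearMap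
  have hθsurj : Function.Surjective θ := by
    intro v
    have h1 : Function.Surjective (Finsupp.mapRange.linearMap (α := ι) (Algebra.linearMap A k)) :=
      Finsupp.mapRange_surjective _ (map_zero _) (IsLocalRing.residue_surjective)
    obtain ⟨w, hw⟩ := h1 v
    exact ⟨b.repr.symm w, by simp [θ, hw]⟩
  have hθm : (IsLocalRing.maximalIdeal A • ⊤ : Submodule A Q) ≤ LinearMap.ker θ := by
    rw [Submodule.smul_le]
    intro a ha q _
    rw [LinearMap.mem_ker, map_smul]
    ext i
    rw [Finsupp.smul_apply, Finsupp.zero_apply, Algebra.smul_def]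
    have : algebraMap A k a = 0 := (IsLocalRing.residue_eq_zero_iff a).mpr ha
    rw [this, zero_mul]
  have hmap : N.map θ = ⊤ := by
    have h1 : (⊤ : Submodule A Q).map θ = ⊤ := by
      rw [Submodule.map_top, LinearMap.range_eq_top]; exact hθsurj
    rw [← h, Submodule.map_sup] at h1
    have h2 : (IsLocalRing.maximalIdeal A • ⊤ : Submodule A Q).map θ = ⊥ :=
      LinearMap.le_ker_iff_map.mp hθm
    rwa [h2, sup_bot_eq] at h1
  have hfinA : Module.Finite A (ι →₀ k) := by
    rw [Module.finite_def, ← hmap]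
    exact hN.map θ
  have hfink : Module.Finite k (ι →₀ k) := Module.Finite.of_restrictScalars_finite A k _
  have hι : Finite ι := Module.Finite.finite_basis (Finsupp.basisSingleOne (R := k) (ι := ι))
  exact Module.Finite.of_basis b

/-- The hypothesis of Bass's theorem implies bigness. -/
theorem isBig_of_not_finite (R : Type u) [CommRing R] (P : Type u) [AddCommGroup P] [Module R P]
    [Module.Projective R P]
    (hP : ∀ (m : Ideal R) [m.IsMaximal],
      ¬ Module.Finite (Localization.AtPrime m) (LocalizedModule m.primeCompl P)) : IsBig R P := by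
  intro m hm N hN hsup
  have : Module.Free (Localization.AtPrime m) (LocalizedModule m.primeCompl P) :=
    Groth.Agent.S0582.result _ _
  apply hP m
  obtain ⟨G, hG⟩ := hN
  let f := LocalizedModule.mkLinearMap m.primeCompl P
  let N' : Submodule (Localization.AtPrime m) (LocalizedModule m.primeCompl P) :=
    Submodule.span _ (f '' (G : Set P))
  refine finite_of_free_of_sup_smul_top N' (Submodule.fg_span (G.finite_toSet.image _)) ?_
  rw [eq_top_iff]
  obtain ⟨L, hL⟩ : ∃ L : Submodule (Localization.AtPrime m) (LocalizedModule m.primeCompl P),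
    L = N' ⊔ (IsLocalRing.maximalIdeal (Localization.AtPrime m) • ⊤) := ⟨_, rfl⟩
  rw [← hL]
  have key : ∀ p : P, f p ∈ L := by
    have hle : (⊤ : Submodule R P) ≤ (L.restrictScalars R).comap f := by
      rw [← hsup, sup_le_iff]
      constructor
      · rw [← hG, Submodule.span_le]
        intro g hg
        show f g ∈ L
        rw [hL]
        exact Submodule.mem_sup_left (Submodule.subset_span ⟨g, hg, rfl⟩)
      · rw [Submodule.smul_le]
        intro a ha q _
        show f (a • q) ∈ L
        have hfa : f (a • q) = algebraMap R (Localization.AtPrime m) a • f q := by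
          rw [map_smul, algebraMap_smul]
        rw [hL, hfa]
        refine Submodule.mem_sup_right (Submodule.smul_mem_smul ?_ Submodule.mem_top)
        rw [IsLocalization.AtPrime.to_map_mem_maximal_iff (Localization.AtPrime m) m]
        exact ha
    intro p
    exact hle (Submodule.mem_top : p ∈ ⊤)
  intro x _
  obtain ⟨⟨p, s⟩, hps⟩ := IsLocalizedModule.surj m.primeCompl f x
  have h1 : f p ∈ L := key p
  have h2 : (s : R) • x = f p := hps
  have hunit : IsUnit (algebraMap R (Localization.AtPrime m) (s : R)) :=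
    IsLocalization.map_units _ s
  have h3 : algebraMap R (Localization.AtPrime m) (s : R) • x ∈ L := by
    rw [algebraMap_smul, h2]; exact h1
  have h4 := L.smul_mem (↑hunit.unit⁻¹ : Localization.AtPrime m) h3
  rwa [smul_smul, IsUnit.val_inv_mul, one_smul] at h4

end Big



section Dual
variable {R : Type*} [CommRing R] {P : Type*} [AddCommGroup P] [Module R P]

/-- In a big projective module, for every finite set `S` there are `φ ∈ P*`, `y ∈ P` with `φ y = 1`
and `φ` vanishing on `S`. -/
theorem exists_dual_pair [IsNoetherianRing (R ⧸ (⊥ : Ideal R).jacobson)] [Module.Projective R P]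
    (hbig : IsBig R P) (S : Finset P) :
    ∃ (φ : P →ₗ[R] R) (y : P), φ y = 1 ∧ ∀ x ∈ S, φ x = 0 := by
  classical
  obtain ⟨i, hi⟩ := (Module.projective_def' (R := R) (P := P)).mp inferInstance
  have hi' : ∀ x : P, Finsupp.linearCombination R id (i x) = x := fun x =>
    LinearMap.congr_fun hi x
  -- bigness of the image
  have hbig' : ∀ (m : Ideal R), m.IsMaximal → ∀ B' : Finset P,
      ∃ z ∈ LinearMap.range i, ∃ c, c ∉ B' ∧ z c ∉ m := by
    intro m hm B'
    by_contra hcon
    push Not at hcon
    apply hbig m hm (Submodule.span R (B' : Set P)) (Submodule.fg_span B'.finite_toSet)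
    rw [eq_top_iff]
    intro x _
    rw [← hi' x, Finsupp.linearCombination_apply, Finsupp.sum]
    refine Submodule.sum_mem _ fun c _ => ?_
    by_cases hc : c ∈ B'
    · exact Submodule.mem_sup_left (Submodule.smul_mem _ _ (Submodule.subset_span hc))
    · exact Submodule.mem_sup_right
        (Submodule.smul_mem_smul (hcon (i x) ⟨x, rfl⟩ c hc) Submodule.mem_top)
  obtain ⟨B₀, hB₀⟩ : ∃ B₀ : Finset P, B₀ = S.biUnion (fun x => (i x).support) := ⟨_, rfl⟩
  obtain ⟨_, ⟨y, rfl⟩, hy⟩ := exists_content_eq_top (LinearMap.range i) hbig' B₀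
  have key : ∀ r ∈ content B₀ (i y), ∃ φ : P →ₗ[R] R, φ y = r ∧ ∀ x ∈ S, φ x = 0 := by
    intro r hr
    rw [content] at hr
    induction hr using Submodule.span_induction with
    | mem r hr =>
      obtain ⟨c, hc, rfl⟩ := hr
      refine ⟨Finsupp.lapply c ∘ₗ i, rfl, fun x hx => ?_⟩
      rw [LinearMap.comp_apply, Finsupp.lapply_apply]
      by_contra hne
      apply hc
      rw [hB₀, Finset.mem_biUnion]
      exact ⟨x, hx, Finsupp.mem_support_iff.mpr hne⟩
    | zero => exact ⟨0, rfl, fun _ _ => rfl⟩
    | add a b _ _ ha hb =>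
      obtain ⟨φ₁, h1, h1'⟩ := ha
      obtain ⟨φ₂, h2, h2'⟩ := hb
      exact ⟨φ₁ + φ₂, by rw [LinearMap.add_apply, h1, h2],
        fun x hx => by rw [LinearMap.add_apply, h1' x hx, h2' x hx, add_zero]⟩
    | smul a b _ hb =>
      obtain ⟨φ₁, h1, h1'⟩ := hb
      exact ⟨a • φ₁, by rw [LinearMap.smul_apply, h1],
        fun x hx => by rw [LinearMap.smul_apply, h1' x hx, smul_zero]⟩
  obtain ⟨φ, h1, h2⟩ := key 1 (hy ▸ Submodule.mem_top)
  exact ⟨φ, y, h1, h2⟩

/-- Bass: unimodular element in a coset (statement S7110 for big projective modules). -/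
theorem exists_unimodular_add [IsNoetherianRing (R ⧸ (⊥ : Ideal R).jacobson)]
    [Module.Projective R P] (hbig : IsBig R P) (s : P) (M : Submodule R P)
    (hM : Submodule.span R {s} ⊔ M = ⊤) :
    ∃ m ∈ M, ∃ φ : P →ₗ[R] R, φ (s + m) = 1 := by
  classical
  obtain ⟨φ, y, h1, h2⟩ := exists_dual_pair hbig {s}
  have hs : φ s = 0 := h2 s (Finset.mem_singleton_self s)
  have hy : y ∈ Submodule.span R {s} ⊔ M := hM ▸ Submodule.mem_top
  obtain ⟨a, ha, m, hm, rfl⟩ := Submodule.mem_sup.mp hy
  obtain ⟨r, rfl⟩ := Submodule.mem_span_singleton.mp ha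
  refine ⟨m, hm, φ, ?_⟩
  rw [map_add, map_smul, hs, smul_zero, zero_add] at h1
  rw [map_add, hs, zero_add, h1]

end Dual



section Summand
variable {R : Type*} [CommRing R] {P : Type*} [AddCommGroup P] [Module R P]

/-- a family of `n` elements with dual functionals vanishing on a given finite set -/
theorem exists_dual_family [IsNoetherianRing (R ⧸ (⊥ : Ideal R).jacobson)] [Module.Projective R P]
    (hbig : IsBig R P) (S : Finset P) : ∀ n : ℕ, ∃ (y : Fin n → P) (ψ : Fin n → (P →ₗ[R] R)),
      (∀ i j, ψ i (y j) = if i = j then 1 else 0) ∧ ∀ i, ∀ x ∈ S, ψ i x = 0 := by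
  classical
  intro n
  induction n with
  | zero => exact ⟨Fin.elim0, Fin.elim0, fun i => i.elim0, fun i => i.elim0⟩
  | succ n ih =>
    obtain ⟨y, ψ, hδ, hS⟩ := ih
    obtain ⟨φ, y₀, h1, h2⟩ := exists_dual_pair hbig (S ∪ Finset.univ.image y)
    have hφy : ∀ j, φ (y j) = 0 := fun j =>
      h2 _ (Finset.mem_union_right _ (Finset.mem_image_of_mem _ (Finset.mem_univ j)))
    have hφS : ∀ x ∈ S, φ x = 0 := fun x hx => h2 _ (Finset.mem_union_left _ hx)
    obtain ⟨yn, hyn⟩ : ∃ yn, yn = y₀ - ∑ j, ψ j y₀ • y j := ⟨_, rfl⟩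
    have hφyn : φ yn = 1 := by
      rw [hyn, map_sub, map_sum, h1]
      simp [hφy]
    have hψyn : ∀ i, ψ i yn = 0 := by
      intro i
      rw [hyn, map_sub, map_sum]
      simp only [map_smul, smul_eq_mul, hδ, mul_ite, mul_one, mul_zero, Finset.sum_ite_eq,
        Finset.mem_univ, if_true, sub_self]
    refine ⟨Fin.snoc y yn, Fin.snoc ψ φ, ?_, ?_⟩
    · intro i j
      induction i using Fin.lastCases with
      | last =>
        induction j using Fin.lastCases with
        | last => simp [hφyn]
        | cast j =>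
          simp only [Fin.snoc_last, Fin.snoc_castSucc, hφy]
          rw [if_neg]
          exact (Fin.castSucc_lt_last j).ne'
      | cast i =>
        induction j using Fin.lastCases with
        | last =>
          simp only [Fin.snoc_last, Fin.snoc_castSucc, hψyn]
          rw [if_neg]
          exact (Fin.castSucc_lt_last i).ne
        | cast j =>
          simp only [Fin.snoc_castSucc, hδ, Fin.castSucc_inj]
    · intro i x hx
      induction i using Fin.lastCases with
      | last => simp [hφS x hx]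
      | cast i => simp [hS i x hx]

/-- `1 + f` for a square-zero endomorphism `f` -/
def unipotent (f : P →ₗ[R] P) (hf : ∀ x, f (f x) = 0) : P ≃ₗ[R] P :=
  LinearEquiv.ofLinearMap (LinearMap.id + f) (LinearMap.id - f)
    (by ext x; simp [hf]) (by ext x; simp [hf])

@[simp] lemma unipotent_apply (f : P →ₗ[R] P) (hf : ∀ x, f (f x) = 0) (x : P) :
    unipotent f hf x = x + f x := rfl

lemma isCompl_range_ker {V : Type*} [AddCommGroup V] [Module R V] (g : V →ₗ[R] P)
    (h : P →ₗ[R] V) (hgh : ∀ v, h (g v) = v) : IsCompl (LinearMap.range g) (LinearMap.ker h) := by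
  constructor
  · rw [Submodule.disjoint_def]
    rintro _ ⟨v, rfl⟩ hv
    rw [LinearMap.mem_ker, hgh] at hv
    rw [hv, map_zero]
  · rw [codisjoint_iff, eq_top_iff]
    intro m _
    have : m = g (h m) + (m - g (h m)) := by abel
    rw [this]
    refine Submodule.add_mem_sup ⟨_, rfl⟩ ?_
    rw [LinearMap.mem_ker, map_sub, hgh, sub_self]

/-- Every element of a big projective module lies in a free direct summand of finite rank. -/
theorem exists_free_summand [IsNoetherianRing (R ⧸ (⊥ : Ideal R).jacobson)]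
    [Module.Projective R P] (hbig : IsBig R P) (s : P) :
    ∃ (n : ℕ) (g : (Fin n → R) →ₗ[R] P) (h : P →ₗ[R] (Fin n → R)),
      (∀ v, h (g v) = v) ∧ s ∈ LinearMap.range g := by
  classical
  obtain ⟨i, hi⟩ := (Module.projective_def' (R := R) (P := P)).mp inferInstance
  have hi' : ∀ x : P, Finsupp.linearCombination R id (i x) = x := fun x =>
    LinearMap.congr_fun hi x
  obtain ⟨σ, hσ⟩ : ∃ σ : Finset P, σ = (i s).support := ⟨_, rfl⟩
  obtain ⟨n, hn⟩ : ∃ n, n = σ.card := ⟨_, rfl⟩
  let eσ : σ ≃ Fin n := hn ▸ σ.equivFin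
  let x : Fin n → P := fun k => ((eσ.symm k : σ) : P)
  let χ : Fin n → (P →ₗ[R] R) := fun k => Finsupp.lapply (x k) ∘ₗ i
  obtain ⟨y, ψ, hδ, hS⟩ := exists_dual_family hbig (insert s σ) n
  let Y : (Fin n → R) →ₗ[R] P := Fintype.linearCombination R y
  let X : (Fin n → R) →ₗ[R] P := Fintype.linearCombination R x
  let Ψ : P →ₗ[R] (Fin n → R) := LinearMap.pi ψ
  let Χ : P →ₗ[R] (Fin n → R) := LinearMap.pi χ
  have hΨY : ∀ v, Ψ (Y v) = v := by
    intro v
    funext k
    simp only [Ψ, Y, LinearMap.pi_apply, Fintype.linearCombination_apply, map_sum, map_smul,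
      smul_eq_mul, hδ, mul_ite, mul_one, mul_zero, Finset.sum_ite_eq, Finset.mem_univ, if_true]
  have hΨX : ∀ v, Ψ (X v) = 0 := by
    intro v
    funext k
    simp only [Ψ, X, LinearMap.pi_apply, Fintype.linearCombination_apply, map_sum, map_smul,
      smul_eq_mul, Pi.zero_apply]
    refine Finset.sum_eq_zero fun j _ => ?_
    rw [hS k (x j) (Finset.mem_insert_of_mem (eσ.symm j).2), mul_zero]
  have hΨs : Ψ s = 0 := by
    funext k
    exact hS k s (Finset.mem_insert_self _ _)
  have hXΧ : X (Χ s) = s := by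
    have h1 : X (Χ s) = ∑ c : σ, (i s) (c : P) • (c : P) := by
      simp only [X, Χ, Fintype.linearCombination_apply, LinearMap.pi_apply, χ,
        LinearMap.comp_apply, Finsupp.lapply_apply, x]
      exact Equiv.sum_comp eσ.symm (fun c : σ => (i s) (c : P) • (c : P))
    rw [h1, Finset.sum_coe_sort σ (fun c => (i s) c • c)]
    conv_rhs => rw [← hi' s, Finsupp.linearCombination_apply, Finsupp.sum, ← hσ]
    rfl
  -- the square-zero maps
  let q : P →ₗ[R] P := LinearMap.id - Y ∘ₗ Ψ
  have hqY : ∀ v, q (Y v) = 0 := by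
    intro v; simp [q, hΨY]
  have hqs : q s = s := by simp [q, hΨs]
  let T : P →ₗ[R] P := Y ∘ₗ Χ ∘ₗ q
  have hT : ∀ z, T (T z) = 0 := by
    intro z
    simp only [T, LinearMap.comp_apply, hqY, map_zero]
  let Sm : P →ₗ[R] P := -(X ∘ₗ Ψ)
  have hSm : ∀ z, Sm (Sm z) = 0 := by
    intro z
    simp only [Sm, LinearMap.neg_apply, LinearMap.comp_apply, map_neg, hΨX, map_zero, neg_zero]
  let e : P ≃ₗ[R] P := (unipotent T hT).trans (unipotent Sm hSm)
  have hes : e s = Y (Χ s) := by
    simp only [e, LinearEquiv.trans_apply, unipotent_apply, T, Sm, LinearMap.comp_apply, hqs,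
      LinearMap.neg_apply, map_add, hΨs, hΨY, map_zero, neg_zero, add_zero, hXΧ]
    abel
  refine ⟨n, e.symm.toLinearMap ∘ₗ Y, Ψ ∘ₗ e.toLinearMap, ?_, ?_⟩
  · intro v
    simp only [LinearMap.comp_apply, LinearEquiv.coe_coe, LinearEquiv.apply_symm_apply, hΨY]
  · refine ⟨Χ s, ?_⟩
    simp only [LinearMap.comp_apply, LinearEquiv.coe_coe, ← hes, LinearEquiv.symm_apply_apply]

end Summand



section Free
variable {R : Type*} [CommRing R] {P : Type*} [AddCommGroup P] [Module R P]

/-- bigness passes to a complement of a finitely generated submodule -/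
lemma IsBig.of_isCompl (hbig : IsBig R P) (K K' : Submodule R P) (hc : IsCompl K K')
    (hK : K.FG) : IsBig R K' := by
  intro m hm N hN hsup
  apply hbig m hm (K ⊔ N.map K'.subtype) (hK.sup (hN.map _))
  rw [eq_top_iff]
  intro p _
  have hp : p ∈ K ⊔ K' := hc.sup_eq_top ▸ Submodule.mem_top
  obtain ⟨k, hk, k', hk', rfl⟩ := Submodule.mem_sup.mp hp
  have h1 : (⟨k', hk'⟩ : K') ∈ N ⊔ (m • ⊤ : Submodule R K') := by
    rw [hsup]; exact Submodule.mem_top
  obtain ⟨n, hn, w, hw, hnw⟩ := Submodule.mem_sup.mp h1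
  have h2 : k' = (n : P) + (w : P) := by
    have := congrArg (fun z : K' => (z : P)) hnw
    simpa using this.symm
  rw [h2, ← add_assoc]
  refine Submodule.add_mem_sup
    (Submodule.add_mem_sup hk (Submodule.mem_map_of_mem hn)) ?_
  have h3 : (w : P) ∈ (m • ⊤ : Submodule R K').map K'.subtype := Submodule.mem_map_of_mem hw
  rw [Submodule.map_smul''] at h3
  exact Submodule.smul_mono le_rfl le_top h3

lemma projective_of_isCompl [Module.Projective R P] (K K' : Submodule R P) (hc : IsCompl K K') :
    Module.Projective R K' :=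
  Module.Projective.of_split K'.subtype (K'.projectionOnto K hc.symm)
    (by ext y; simp [Submodule.projectionOnto_apply_left])

/-- a stage of the construction: a finite linearly independent set spanning a direct summand -/
def IsStage (b : Set P) : Prop :=
  b.Finite ∧ LinearIndepOn R id b ∧ ∃ K' : Submodule R P, IsCompl (Submodule.span R b) K'

lemma isStage_empty : IsStage (R := R) (∅ : Set P) :=
  ⟨Set.finite_empty, linearIndepOn_empty R id, ⊤, by rw [Submodule.span_empty]; exact isCompl_bot_top⟩

theorem IsStage.extend [IsNoetherianRing (R ⧸ (⊥ : Ideal R).jacobson)] [Module.Projective R P]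
    (hbig : IsBig R P) {b : Set P} (hb : IsStage (R := R) b) (p : P) :
    ∃ b' : Set P, IsStage (R := R) b' ∧ b ⊆ b' ∧ p ∈ Submodule.span R b' := by
  classical
  obtain ⟨hfin, hli, K', hc⟩ := hb
  obtain ⟨K, hK⟩ : ∃ K : Submodule R P, K = Submodule.span R b := ⟨_, rfl⟩
  rw [← hK] at hc
  have hKfg : K.FG := hK ▸ Submodule.fg_span hfin
  have hbig' : IsBig R K' := hbig.of_isCompl K K' hc hKfg
  have hproj' : Module.Projective R K' := projective_of_isCompl K K' hc
  have hp : p ∈ K ⊔ K' := hc.sup_eq_top ▸ Submodule.mem_top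
  obtain ⟨k, hk, k', hk', rfl⟩ := Submodule.mem_sup.mp hp
  obtain ⟨n, g, h, hgh, ⟨v₀, hv₀⟩⟩ := exists_free_summand hbig' (⟨k', hk'⟩ : K')
  let G : (Fin n → R) →ₗ[R] P := K'.subtype ∘ₗ g
  have hGinj : Function.Injective G :=
    (Subtype.val_injective).comp (Function.LeftInverse.injective hgh)
  let c : Fin n → P := G ∘ (Pi.basisFun R (Fin n))
  have hcli : LinearIndependent R c :=
    (Pi.basisFun R (Fin n)).linearIndependent.map' G (LinearMap.ker_eq_bot.mpr hGinj)
  have hspanc : Submodule.span R (Set.range c) = LinearMap.range G := by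
    have : Set.range c = G '' Set.range (Pi.basisFun R (Fin n)) := by
      rw [← Set.range_comp]
    rw [this, ← Submodule.map_span, (Pi.basisFun R (Fin n)).span_eq, Submodule.map_top]
  have hrangeK' : LinearMap.range G ≤ K' := by
    rintro _ ⟨v, rfl⟩; exact (g v).2
  refine ⟨b ∪ Set.range c, ⟨hfin.union (Set.finite_range c), ?_, ?_⟩, Set.subset_union_left, ?_⟩
  · refine hli.id_union hcli.linearIndepOn_id ?_
    rw [← hK, hspanc]
    exact hc.disjoint.mono_right hrangeK'
  · -- complement
    let πK : P →ₗ[R] K := K.projectionOnto K' hc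
    let πK' : P →ₗ[R] K' := K'.projectionOnto K hc.symm
    let g₂ : (K × (Fin n → R)) →ₗ[R] P := K.subtype.coprod G
    let h₂ : P →ₗ[R] (K × (Fin n → R)) := πK.prod (h ∘ₗ πK')
    have hgh₂ : ∀ v, h₂ (g₂ v) = v := by
      rintro ⟨x, v⟩
      have h1 : πK (G v) = 0 :=
        Submodule.projectionOnto_apply_right hc ⟨G v, (g v).2⟩
      have h2 : πK' (x : P) = 0 := Submodule.projectionOnto_apply_right hc.symm x
      have h3 : πK' (G v) = g v := Submodule.projectionOnto_apply_left hc.symm (g v)
      have h4 : πK (x : P) = x := Submodule.projectionOnto_apply_left hc x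
      have h5 : g₂ (x, v) = (x : P) + G v := by
        simp only [g₂, LinearMap.coprod_apply, Submodule.subtype_apply]
      have h6 : ∀ z, h₂ z = (πK z, h (πK' z)) := fun z => rfl
      rw [h5, h6, map_add, map_add, h1, h2, h3, h4, add_zero, zero_add, hgh]
    have hrange : LinearMap.range g₂ = Submodule.span R (b ∪ Set.range c) := by
      rw [Submodule.span_union, ← hK, hspanc, LinearMap.range_coprod, Submodule.range_subtype]
    exact ⟨LinearMap.ker h₂, hrange ▸ isCompl_range_ker g₂ h₂ hgh₂⟩
  · rw [Submodule.span_union, ← hK, hspanc]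
    refine Submodule.add_mem_sup hk ⟨v₀, ?_⟩
    show ((g v₀ : K') : P) = k'
    rw [hv₀]

/-- **Bass**: a countably generated big projective module is free. -/
theorem free_of_countable [IsNoetherianRing (R ⧸ (⊥ : Ideal R).jacobson)] [Module.Projective R P]
    (hbig : IsBig R P) (f : ℕ → P) (hf : Submodule.span R (Set.range f) = ⊤) :
    Module.Free R P := by
  classical
  let step : {b : Set P // IsStage (R := R) b} → ℕ → {b : Set P // IsStage (R := R) b} :=
    fun b n => ⟨Classical.choose (b.2.extend hbig (f n)),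
      (Classical.choose_spec (b.2.extend hbig (f n))).1⟩
  have hstep1 : ∀ (b : {b : Set P // IsStage (R := R) b}) (n : ℕ),
      (b : Set P) ⊆ (step b n : Set P) := fun b n =>
    (Classical.choose_spec (b.2.extend hbig (f n))).2.1
  have hstep2 : ∀ (b : {b : Set P // IsStage (R := R) b}) (n : ℕ),
      f n ∈ Submodule.span R (step b n : Set P) := fun b n =>
    (Classical.choose_spec (b.2.extend hbig (f n))).2.2
  let seq : ℕ → {b : Set P // IsStage (R := R) b} := fun n =>
    Nat.rec ⟨∅, isStage_empty⟩ (fun n b => step b n) n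
  have hseq : ∀ n, seq (n + 1) = step (seq n) n := fun n => rfl
  have hmono : Monotone (fun n => (seq n).1) := by
    refine monotone_nat_of_le_succ fun n => ?_
    show (seq n).1 ⊆ (seq (n + 1)).1
    rw [hseq]; exact hstep1 _ _
  have hli : LinearIndepOn R id (⋃ n, (seq n).1) :=
    linearIndepOn_iUnion_of_directed (directed_of_isDirected_le hmono) fun n => (seq n).2.2.1
  have hspan : Submodule.span R (⋃ n, (seq n).1) = ⊤ := by
    rw [eq_top_iff, ← hf, Submodule.span_le]
    rintro _ ⟨n, rfl⟩
    have h1 := hstep2 (seq n) n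
    rw [← hseq] at h1
    exact Submodule.span_mono (Set.subset_iUnion (fun n => (seq n).1) (n + 1)) h1
  exact Module.Free.of_basis (Module.Basis.mk hli (by
    have : (Set.range fun x : ↥(⋃ n, (seq n).1) => id (x : P)) = ⋃ n, (seq n).1 := by
      simp only [id]; exact Subtype.range_coe
    rw [this]
    exact hspan.ge))

end Free



section Main
variable (R : Type u) [CommRing R] [IsNoetherianRing (R ⧸ (⊥ : Ideal R).jacobson)]
  (P : Type u) [AddCommGroup P] [Module R P] [Module.Projective R P]

/-- statement S7110 -/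
theorem bass_unimodular
    (hP : ∀ (m : Ideal R) [m.IsMaximal],
      ¬ Module.Finite (Localization.AtPrime m) (LocalizedModule m.primeCompl P))
    (s : P) (M : Submodule R P) (hM : Submodule.span R {s} ⊔ M = ⊤) :
    ∃ m ∈ M, ∃ φ : P →ₗ[R] R, φ (s + m) = 1 :=
  exists_unimodular_add (isBig_of_not_finite R P hP) s M hM

/-- statement S7111 (with a free summand) -/
theorem bass_summand
    (hP : ∀ (m : Ideal R) [m.IsMaximal],
      ¬ Module.Finite (Localization.AtPrime m) (LocalizedModule m.primeCompl P))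
    (s : P) :
    ∃ (K K' : Submodule R P), IsCompl K K' ∧ Module.Finite R K ∧ Module.Free R K ∧ s ∈ K := by
  obtain ⟨n, g, h, hgh, hs⟩ := exists_free_summand (isBig_of_not_finite R P hP) s
  have hinj : Function.Injective g := Function.LeftInverse.injective hgh
  let e : (Fin n → R) ≃ₗ[R] LinearMap.range g := LinearEquiv.ofInjective g hinj
  exact ⟨LinearMap.range g, LinearMap.ker h, isCompl_range_ker g h hgh, Module.Finite.equiv e,
    Module.Free.of_equiv e, hs⟩

/-- statement S7112 -/
theorem bass_free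
    (hP : ∀ (m : Ideal R) [m.IsMaximal],
      ¬ Module.Finite (Localization.AtPrime m) (LocalizedModule m.primeCompl P))
    (hc : ∃ s : Set P, s.Countable ∧ Submodule.span R s = ⊤) : Module.Free R P := by
  obtain ⟨C, hC, hspan⟩ := hc
  obtain ⟨f, hf⟩ : ∃ f : ℕ → P, C ⊆ Set.range f := by
    rcases C.eq_empty_or_nonempty with rfl | hne
    · exact ⟨fun _ => 0, Set.empty_subset _⟩
    · obtain ⟨f, rfl⟩ := hC.exists_eq_range hne
      exact ⟨f, le_rfl⟩
  refine free_of_countable (isBig_of_not_finite R P hP) f ?_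
  rw [eq_top_iff, ← hspan]
  exact Submodule.span_mono hf

end Main

end Groth.Agent.Lib.BigProj6
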