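import Groth.Prelude.Def_BigSite

set_option autoImplicit false
universe u
open CategoryTheory CategoryTheory.Limits AlgebraicGeometry
open BigSite

/-!
# Base change between big and small étale sites (helper95)

For a cartesian square `T' = S' ×_S T`: `i_g⁻¹ ∘ f_big,* ≅ f'_small,* ∘ i_{g'}⁻¹`.
-/

namespace Groth.Agent.Lib.BigSiteBC95

variable {S T S' T' : Scheme.{u}} (f : T ⟶ S) (g : S' ⟶ S) (g' : T' ⟶ T)
    (f' : T' ⟶ S') (hsq : IsPullback g' f' f g)

/-- `U ↦ (U ×_S T → T)` -/
noncomputable abbrev P₁ : S'.Etale ⥤ Over T := EtFppf.a S' ⋙ Over.map g ⋙ Over.pullback f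

/-- `U ↦ (U ×_{S'} T' → T' → T)` -/
noncomputable abbrev P₂ : S'.Etale ⥤ Over T := EtCoh.bc f' ⋙ EtFppf.a T' ⋙ Over.map g'

include hsq in
lemma isPullback_paste (U : S'.Etale) :
    IsPullback (pullback.fst U.hom f') (pullback.snd U.hom f' ≫ g') (U.hom ≫ g) f :=
  ((IsPullback.of_hasPullback U.hom f').flip.paste_horiz hsq).flip

/-- the comparison isomorphism -/
noncomputable def eApp (U : S'.Etale) : (P₁ f g).obj U ≅ (P₂ g' f').obj U :=
  Over.isoMk (isPullback_paste f g g' f' hsq U).isoPullback.symm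
    (isPullback_paste f g g' f' hsq U).isoPullback_inv_snd

lemma eApp_hom_left_fst (U : S'.Etale) :
    (eApp f g g' f' hsq U).hom.left ≫ pullback.fst U.hom f' =
      pullback.fst (U.hom ≫ g) f :=
  (isPullback_paste f g g' f' hsq U).isoPullback_inv_fst

lemma eApp_hom_left_snd (U : S'.Etale) :
    (eApp f g g' f' hsq U).hom.left ≫ pullback.snd U.hom f' ≫ g' =
      pullback.snd (U.hom ≫ g) f :=
  (isPullback_paste f g g' f' hsq U).isoPullback_inv_snd

lemma h1fst {U U' : S'.Etale} (φ : U ⟶ U') :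
    ((P₁ f g).map φ).left ≫ pullback.fst (U'.hom ≫ g) f = pullback.fst (U.hom ≫ g) f ≫ φ.left := by
  simp [P₁]
  exact pullback.lift_fst _ _ _

lemma h1snd {U U' : S'.Etale} (φ : U ⟶ U') :
    ((P₁ f g).map φ).left ≫ pullback.snd (U'.hom ≫ g) f = pullback.snd (U.hom ≫ g) f := by
  simp [P₁]
  exact pullback.lift_snd _ _ _

lemma h2fst {U U' : S'.Etale} (φ : U ⟶ U') :
    ((P₂ g' f').map φ).left ≫ pullback.fst U'.hom f' = pullback.fst U.hom f' ≫ φ.left :=
  (EtCoh.isPullback_bc_map f' φ).w

lemma h2snd {U U' : S'.Etale} (φ : U ⟶ U') :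
    ((P₂ g' f').map φ).left ≫ pullback.snd U'.hom f' = pullback.snd U.hom f' := by
  dsimp [P₂, EtCoh.bc]
  exact pullback.lift_snd _ _ _

/-- the natural isomorphism -/
noncomputable def e : P₁ f g ≅ P₂ g' f' :=
  NatIso.ofComponents (eApp f g g' f' hsq) (by
    intro U U' φ
    apply Over.OverMorphism.ext
    apply (isPullback_paste f g g' f' hsq U').hom_ext
    · have e1 := eApp_hom_left_fst f g g' f' hsq U'
      have e2 := eApp_hom_left_fst f g g' f' hsq U
      have e3 := h1fst f g φ
      have e4 := h2fst g' f' φ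
      exact (Category.assoc _ _ _).trans ((congrArg (((P₁ f g).map φ).left ≫ ·) e1).trans
        (e3.trans (((congrArg (· ≫ φ.left) e2).symm.trans (Category.assoc _ _ _)).trans
          ((congrArg ((eApp f g g' f' hsq U).hom.left ≫ ·) e4).symm.trans
            (Category.assoc _ _ _).symm))))
    · have e1 := eApp_hom_left_snd f g g' f' hsq U'
      have e2 := eApp_hom_left_snd f g g' f' hsq U
      have e3 := h1snd f g φ
      have e4 := h2snd g' f' φ
      have e5 : ((P₂ g' f').map φ).left ≫ pullback.snd U'.hom f' ≫ g' =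
          pullback.snd U.hom f' ≫ g' :=
        (Category.assoc _ _ _).symm.trans (congrArg (· ≫ g') e4)
      exact (Category.assoc _ _ _).trans ((congrArg (((P₁ f g).map φ).left ≫ ·) e1).trans
        (e3.trans (e2.symm.trans ((congrArg ((eApp f g g' f' hsq U).hom.left ≫ ·) e5).symm.trans
          (Category.assoc _ _ _).symm)))))

include hsq in
theorem main [EtCoh.BCCont f'] :
    Nonempty (BigSite.pushBig Scheme.etalePrecoverage f AddCommGrpCat.{u + 1} ⋙
        BigSite.resEtAlong Scheme.etalePrecoverage g ≅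
      BigSite.resEtAlong Scheme.etalePrecoverage g' ⋙ EtCoh.push f') := by
  have c0 : Functor.IsContinuous (Over.map g ⋙ Over.pullback f)
      (QuotSh.J Scheme.etalePrecoverage S') (QuotSh.J Scheme.etalePrecoverage T) :=
    Functor.isContinuous_comp _ _ _ (QuotSh.J Scheme.etalePrecoverage S) _
  have c1 : Functor.IsContinuous (P₁ f g) S'.smallEtaleTopology
      (QuotSh.J Scheme.etalePrecoverage T) :=
    Functor.isContinuous_comp _ _ _ (QuotSh.J Scheme.etalePrecoverage S') _
  have c2' : Functor.IsContinuous (EtFppf.a T' ⋙ Over.map g') T'.smallEtaleTopology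
      (QuotSh.J Scheme.etalePrecoverage T) :=
    Functor.isContinuous_comp _ _ _ (QuotSh.J Scheme.etalePrecoverage T') _
  have c2 : Functor.IsContinuous (P₂ g' f') S'.smallEtaleTopology
      (QuotSh.J Scheme.etalePrecoverage T) :=
    Functor.isContinuous_comp _ _ _ T'.smallEtaleTopology _
  exact ⟨Functor.sheafPushforwardContinuousIso (e f g g' f' hsq) AddCommGrpCat.{u + 1}
    S'.smallEtaleTopology (QuotSh.J Scheme.etalePrecoverage T)⟩

end Groth.Agent.Lib.BigSiteBC95
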