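import Groth.Prelude.Def_BigSite

set_option autoImplicit false
universe v' u' u
open CategoryTheory CategoryTheory.Limits AlgebraicGeometry
open BigSite

/-!
# Base change for big sites (helper95)

For a cartesian square `T' = S' ×_S T` and any precoverage `K`:
`g_big⁻¹ ∘ f_big,* ≅ f'_big,* ∘ g'_big⁻¹`.
-/

namespace Groth.Agent.Lib.BigSiteBC95b

variable {S T S' T' : Scheme.{u}} (f : T ⟶ S) (g : S' ⟶ S) (g' : T' ⟶ T)
    (f' : T' ⟶ S') (hsq : IsPullback g' f' f g)

/-- `W ↦ (W ×_S T → T)` -/
noncomputable abbrev P₁ : Over S' ⥤ Over T := Over.map g ⋙ Over.pullback f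

/-- `W ↦ (W ×_{S'} T' → T' → T)` -/
noncomputable abbrev P₂ : Over S' ⥤ Over T := Over.pullback f' ⋙ Over.map g'

include hsq in
lemma isPullback_paste (W : Over S') :
    IsPullback (pullback.fst W.hom f') (pullback.snd W.hom f' ≫ g') (W.hom ≫ g) f :=
  ((IsPullback.of_hasPullback W.hom f').flip.paste_horiz hsq).flip

/-- the comparison isomorphism -/
noncomputable def eApp (W : Over S') : (P₁ f g).obj W ≅ (P₂ g' f').obj W :=
  Over.isoMk (isPullback_paste f g g' f' hsq W).isoPullback.symm
    (isPullback_paste f g g' f' hsq W).isoPullback_inv_snd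

lemma eApp_hom_left_fst (W : Over S') :
    (eApp f g g' f' hsq W).hom.left ≫ pullback.fst W.hom f' =
      pullback.fst (W.hom ≫ g) f :=
  (isPullback_paste f g g' f' hsq W).isoPullback_inv_fst

lemma eApp_hom_left_snd (W : Over S') :
    (eApp f g g' f' hsq W).hom.left ≫ pullback.snd W.hom f' ≫ g' =
      pullback.snd (W.hom ≫ g) f :=
  (isPullback_paste f g g' f' hsq W).isoPullback_inv_snd

lemma h1fst {W W' : Over S'} (φ : W ⟶ W') :
    ((P₁ f g).map φ).left ≫ pullback.fst (W'.hom ≫ g) f = pullback.fst (W.hom ≫ g) f ≫ φ.left := by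
  simp [P₁]
  exact pullback.lift_fst _ _ _

lemma h1snd {W W' : Over S'} (φ : W ⟶ W') :
    ((P₁ f g).map φ).left ≫ pullback.snd (W'.hom ≫ g) f = pullback.snd (W.hom ≫ g) f := by
  simp [P₁]
  exact pullback.lift_snd _ _ _

lemma h2fst {W W' : Over S'} (φ : W ⟶ W') :
    ((P₂ g' f').map φ).left ≫ pullback.fst W'.hom f' = pullback.fst W.hom f' ≫ φ.left := by
  simp [P₂]
  exact pullback.lift_fst _ _ _

lemma h2snd {W W' : Over S'} (φ : W ⟶ W') :
    ((P₂ g' f').map φ).left ≫ pullback.snd W'.hom f' = pullback.snd W.hom f' := by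
  simp [P₂]
  exact pullback.lift_snd _ _ _

/-- the natural isomorphism -/
noncomputable def e : P₁ f g ≅ P₂ g' f' :=
  NatIso.ofComponents (eApp f g g' f' hsq) (by
    intro W W' φ
    apply Over.OverMorphism.ext
    apply (isPullback_paste f g g' f' hsq W').hom_ext
    · have e1 := eApp_hom_left_fst f g g' f' hsq W'
      have e2 := eApp_hom_left_fst f g g' f' hsq W
      have e3 := h1fst f g φ
      have e4 := h2fst g' f' φ
      exact (Category.assoc _ _ _).trans ((congrArg (((P₁ f g).map φ).left ≫ ·) e1).trans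
        (e3.trans (((congrArg (· ≫ φ.left) e2).symm.trans (Category.assoc _ _ _)).trans
          ((congrArg ((eApp f g g' f' hsq W).hom.left ≫ ·) e4).symm.trans
            (Category.assoc _ _ _).symm))))
    · have e1 := eApp_hom_left_snd f g g' f' hsq W'
      have e2 := eApp_hom_left_snd f g g' f' hsq W
      have e3 := h1snd f g φ
      have e4 := h2snd g' f' φ
      have e5 : ((P₂ g' f').map φ).left ≫ pullback.snd W'.hom f' ≫ g' =
          pullback.snd W.hom f' ≫ g' :=
        (Category.assoc _ _ _).symm.trans (congrArg (· ≫ g') e4)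
      exact (Category.assoc _ _ _).trans ((congrArg (((P₁ f g).map φ).left ≫ ·) e1).trans
        (e3.trans (e2.symm.trans ((congrArg ((eApp f g g' f' hsq W).hom.left ≫ ·) e5).symm.trans
          (Category.assoc _ _ _).symm)))))

include hsq in
theorem main (K : Precoverage Scheme.{u}) (A : Type u') [Category.{v'} A] :
    Nonempty (BigSite.pushBig K f A ⋙ BigSite.pullBig K g A ≅
      BigSite.pullBig K g' A ⋙ BigSite.pushBig K f' A) := by
  have c1 : Functor.IsContinuous (P₁ f g) (QuotSh.J K S') (QuotSh.J K T) :=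
    Functor.isContinuous_comp _ _ _ (QuotSh.J K S) _
  have c2 : Functor.IsContinuous (P₂ g' f') (QuotSh.J K S') (QuotSh.J K T) :=
    Functor.isContinuous_comp _ _ _ (QuotSh.J K T') _
  exact ⟨Functor.sheafPushforwardContinuousIso (e f g g' f' hsq) A
    (QuotSh.J K S') (QuotSh.J K T)⟩

end Groth.Agent.Lib.BigSiteBC95b
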