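import Mathlib.CategoryTheory.Functor.KanExtension.Adjunction
import Mathlib.CategoryTheory.Abelian.GrothendieckAxioms.Basic
import Mathlib.CategoryTheory.Limits.FunctorCategory.Basic
import Mathlib.CategoryTheory.Limits.Preserves.FunctorCategory

set_option autoImplicit false
open CategoryTheory CategoryTheory.Limits Opposite
universe v₁ v₂ v₃ u₁ u₂ u₃

namespace Groth.Agent.Lib.LanExact

variable {C : Type u₁} [Category.{v₁} C] {D : Type u₂} [Category.{v₂} D]
  {H : Type u₃} [Category.{v₃} H]

set_option backward.defeqAttrib.useBackward true in
set_option backward.isDefEq.respectTransparency false in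
/-- Evaluation of the left Kan extension functor at an object is the colimit over costructured
arrows (general universes). -/
noncomputable def lanEvalIso (L : C ⥤ D) (X : D)
    [∀ X : D, HasColimitsOfShape (CostructuredArrow L X) H] :
    L.lan ⋙ (evaluation D H).obj X ≅
      (Functor.whiskeringLeft _ _ H).obj (CostructuredArrow.proj L X) ⋙ colim :=
  NatIso.ofComponents (fun G =>
    IsColimit.coconePointUniqueUpToIso
    (Functor.isPointwiseLeftKanExtensionLeftKanExtensionUnit L G X)
    (colimit.isColimit _)) (fun {G₁ G₂} φ => by
      apply (Functor.isPointwiseLeftKanExtensionLeftKanExtensionUnit L G₁ X).hom_ext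
      intro T
      have h₁ := fun (G : C ⥤ H) => IsColimit.comp_coconePointUniqueUpToIso_hom
        (Functor.isPointwiseLeftKanExtensionLeftKanExtensionUnit L G X) (colimit.isColimit _) T
      have h₂ := congr_app (L.lanUnit.naturality φ) T.left
      dsimp at h₁ h₂ ⊢
      simp only [Category.assoc] at h₁ ⊢
      simp only [Functor.lan, Functor.lanUnit] at h₂ ⊢
      rw [reassoc_of% h₁, NatTrans.naturality_assoc, ← reassoc_of% h₂, h₁,
        ι_colimMap, Functor.whiskerLeft_app]
      rfl)

/-- If all the colimits over costructured arrows are exact, the left Kan extension functor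
preserves finite limits. -/
theorem preservesFiniteLimits_lan (L : C ⥤ D) [HasFiniteLimits H]
    [∀ X : D, HasColimitsOfShape (CostructuredArrow L X) H]
    [∀ X : D, HasExactColimitsOfShape (CostructuredArrow L X) H] :
    PreservesFiniteLimits (L.lan : (C ⥤ H) ⥤ (D ⥤ H)) := by
  constructor
  intro J _ _
  apply preservesLimitsOfShape_of_evaluation (L.lan : (C ⥤ H) ⥤ D ⥤ H) J
  intro X
  exact preservesLimitsOfShape_of_natIso (lanEvalIso L X).symm

end Groth.Agent.Lib.LanExact
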