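import Groth.Prelude.Def_BigSite
import Groth.Agent.Lib.LanExact

/-!
Exactness of the left adjoints `π_S⁻¹` (pullback from the small etale site to a big site) and
`f_big!` (extension by zero along `Over.map f`) on abelian sheaves; consequently restriction to the
small etale site and `f_big⁻¹` preserve injective abelian sheaves.
-/

set_option autoImplicit false
open CategoryTheory CategoryTheory.Limits AlgebraicGeometry Opposite
universe u

namespace Groth.Agent.Lib.BigSiteInj

instance ab5 : AB5OfSize.{u, u + 1} AddCommGrpCat.{u + 1} :=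
  AB5OfSize_shrink.{u, u + 1, u + 1, u + 1} _

instance ab4 : AB4OfSize.{u} AddCommGrpCat.{u + 1} := AB4OfSize_shrink.{u, u + 1} _

section Small

variable (S : Scheme.{u})

instance preservesFiniteLimits_a : PreservesFiniteLimits (EtFppf.a S) :=
  inferInstanceAs (PreservesFiniteLimits (MorphismProperty.Over.forget EtCoh.etaleMP.{u} ⊤ S))

instance flat_a : RepresentablyFlat (EtFppf.a S) := flat_of_preservesFiniteLimits _

instance hasExact_a (X : (Over S)ᵒᵖ) :
    HasExactColimitsOfShape (CostructuredArrow (EtFppf.a S).op X) AddCommGrpCat.{u + 1} :=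
  inferInstance

instance lanPres_a : PreservesFiniteLimits ((EtFppf.a S).op.lan :
    (S.Etaleᵒᵖ ⥤ AddCommGrpCat.{u + 1}) ⥤ ((Over S)ᵒᵖ ⥤ AddCommGrpCat.{u + 1})) :=
  Groth.Agent.Lib.LanExact.preservesFiniteLimits_lan _

variable (K : Precoverage Scheme.{u})

theorem preservesFiniteLimits_piEtPull [BigSite.AEtCont K S] :
    PreservesFiniteLimits (BigSite.piEtPull K S) := by
  have h1 : PreservesFiniteLimits ((EtFppf.a S).op.lan ⋙
      presheafToSheaf (QuotSh.J K S) AddCommGrpCat.{u + 1}) :=
    comp_preservesFiniteLimits _ _
  have h2 : PreservesFiniteLimits (Functor.sheafPullbackConstruction.sheafPullback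
      (EtFppf.a S) AddCommGrpCat.{u + 1} S.smallEtaleTopology (QuotSh.J K S)) := by
    apply comp_preservesFiniteLimits
  exact preservesFiniteLimits_of_natIso (Functor.sheafPullbackConstruction.sheafPullbackIso
    (EtFppf.a S) AddCommGrpCat.{u + 1} S.smallEtaleTopology (QuotSh.J K S)).symm

theorem injective_resEt [BigSite.AEtCont K S] (I : BigSite.Ab K S) [Injective I] :
    Injective ((BigSite.resEt K S).obj I) := by
  have := preservesFiniteLimits_piEtPull S K
  have : (BigSite.piEtPull K S).PreservesMonomorphisms := inferInstance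
  exact Injective.injective_of_adjoint (BigSite.piEtAdj K S) I

end Small

section Shriek

variable {T S : Scheme.{u}} (f : T ⟶ S)

/-- Lifts of the structure map of `W` through `f`. -/
def Lifts (W : Over S) : Type u := {φ : W.left ⟶ T // φ ≫ f = W.hom}

/-- The object over `T` attached to a lift. -/
def liftObj (W : Over S) (φ : Lifts f W) : Over T := Over.mk φ.1

@[simp] theorem liftObj_left (W : Over S) (φ : Lifts f W) : (liftObj f W φ).left = W.left := rfl
@[simp] theorem liftObj_hom (W : Over S) (φ : Lifts f W) : (liftObj f W φ).hom = φ.1 := rfl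

/-- `W` maps (isomorphically) to the image of its lift. -/
def toComp (W : Over S) (φ : Lifts f W) : W ⟶ (Over.map f).obj (liftObj f W φ) :=
  Over.homMk (𝟙 W.left) (by simp [φ.2])

@[simp] theorem toComp_left (W : Over S) (φ : Lifts f W) : (toComp f W φ).left = 𝟙 _ := rfl

/-- The functor from the discrete category of lifts to costructured arrows. -/
def ιW (W : Over S) : Discrete (Lifts f W) ⥤ CostructuredArrow (Over.map f).op (op W) :=
  Discrete.functor (fun φ => CostructuredArrow.mk (Y := op (liftObj f W φ)) (toComp f W φ).op)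

/-- the lift attached to a costructured arrow -/
def liftOf (W : Over S) (d : CostructuredArrow (Over.map f).op (op W)) : Lifts f W :=
  ⟨d.hom.unop.left ≫ d.left.unop.hom, by
    have := Over.w d.hom.unop
    simpa using this⟩

/-- the map over `T` underlying `toLift` -/
def toLiftAux (W : Over S) (d : CostructuredArrow (Over.map f).op (op W)) :
    liftObj f W (liftOf f W d) ⟶ d.left.unop :=
  Over.homMk (U := liftObj f W (liftOf f W d)) (V := d.left.unop) d.hom.unop.left rfl

@[simp] theorem toLiftAux_left (W : Over S) (d : CostructuredArrow (Over.map f).op (op W)) :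
    (toLiftAux f W d).left = d.hom.unop.left := rfl

/-- the canonical map from a costructured arrow to the image of its lift -/
def toLift (W : Over S) (d : CostructuredArrow (Over.map f).op (op W)) :
    d ⟶ (ιW f W).obj ⟨liftOf f W d⟩ :=
  CostructuredArrow.homMk (toLiftAux f W d).op
    (by
      apply Quiver.Hom.unop_inj
      apply Over.OverMorphism.ext
      simp only [ιW, Discrete.functor_obj_eq_as, CostructuredArrow.mk_left, Functor.op_obj,
        Functor.op_map, Quiver.Hom.unop_op, CostructuredArrow.mk_hom_eq_self, unop_comp]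
      exact Category.id_comp _)

theorem left_eq_of_hom (W : Over S) (d : CostructuredArrow (Over.map f).op (op W))
    (φ : Lifts f W) (m : d ⟶ (ιW f W).obj ⟨φ⟩) :
    m.left.unop.left = d.hom.unop.left := by
  have h := CostructuredArrow.w m
  have h' := congrArg (fun k => k.unop.left) h
  simp only [ιW, Discrete.functor_obj_eq_as, CostructuredArrow.mk_left, Functor.op_obj,
    Functor.op_map, Quiver.Hom.unop_op, CostructuredArrow.mk_hom_eq_self, unop_comp] at h'
  refine Eq.trans ?_ h'
  exact (Category.id_comp _).symm

theorem lift_eq_of_hom (W : Over S) (d : CostructuredArrow (Over.map f).op (op W))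
    (φ : Lifts f W) (m : d ⟶ (ιW f W).obj ⟨φ⟩) : φ = liftOf f W d := by
  apply Subtype.ext
  have h1 := left_eq_of_hom f W d φ m
  have h2 : m.left.unop.left ≫ d.left.unop.hom = φ.1 := Over.w m.left.unop
  rw [h1] at h2
  exact h2.symm

theorem hom_eq_toLift (W : Over S) (d : CostructuredArrow (Over.map f).op (op W))
    (m : d ⟶ (ιW f W).obj ⟨liftOf f W d⟩) : m = toLift f W d := by
  apply CostructuredArrow.hom_ext
  apply Quiver.Hom.unop_inj
  apply Over.OverMorphism.ext
  exact left_eq_of_hom f W d _ m

instance final_ιW (W : Over S) : (ιW f W).Final := by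
  constructor
  intro d
  have : Nonempty (StructuredArrow d (ιW f W)) := ⟨StructuredArrow.mk (toLift f W d)⟩
  apply zigzag_isConnected
  suffices ∀ a : StructuredArrow d (ιW f W), Zigzag (StructuredArrow.mk (toLift f W d)) a from
    fun a b => (this a).symm.trans (this b)
  rintro ⟨⟨⟩, ⟨φ⟩, m⟩
  obtain rfl : φ = liftOf f W d := lift_eq_of_hom f W d φ m
  obtain rfl : m = toLift f W d := hom_eq_toLift f W d m
  exact Zigzag.refl _

instance hasExact_map (W : (Over S)ᵒᵖ) :
    HasExactColimitsOfShape (CostructuredArrow (Over.map f).op W) AddCommGrpCat.{u + 1} :=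
  hasExactColimitsOfShape_of_final _ (ιW f W.unop)

instance lanPres_map : PreservesFiniteLimits ((Over.map f).op.lan :
    ((Over T)ᵒᵖ ⥤ AddCommGrpCat.{u + 1}) ⥤ ((Over S)ᵒᵖ ⥤ AddCommGrpCat.{u + 1})) :=
  Groth.Agent.Lib.LanExact.preservesFiniteLimits_lan _

variable (K : Precoverage Scheme.{u})

theorem preservesFiniteLimits_shriekAb : PreservesFiniteLimits (BigSite.shriekAb K f) := by
  have h1 : PreservesFiniteLimits ((Over.map f).op.lan ⋙
      presheafToSheaf (QuotSh.J K S) AddCommGrpCat.{u + 1}) :=
    comp_preservesFiniteLimits _ _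
  have h2 : PreservesFiniteLimits (Functor.sheafPullbackConstruction.sheafPullback
      (Over.map f) AddCommGrpCat.{u + 1} (QuotSh.J K T) (QuotSh.J K S)) := by
    apply comp_preservesFiniteLimits
  exact preservesFiniteLimits_of_natIso (Functor.sheafPullbackConstruction.sheafPullbackIso
    (Over.map f) AddCommGrpCat.{u + 1} (QuotSh.J K T) (QuotSh.J K S)).symm

theorem injective_pullBig (I : BigSite.Ab K S) [Injective I] :
    Injective ((BigSite.pullBig K f AddCommGrpCat.{u + 1}).obj I) := by
  have := preservesFiniteLimits_shriekAb f K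
  have : (BigSite.shriekAb K f).PreservesMonomorphisms := inferInstance
  exact Injective.injective_of_adjoint (BigSite.shriekAbAdj K f) I

theorem injective_resEtAlong [BigSite.AEtCont K T] (I : BigSite.Ab K S) [Injective I] :
    Injective ((BigSite.resEtAlong K f).obj I) := by
  have := injective_pullBig f K I
  exact injective_resEt T K ((BigSite.pullBig K f AddCommGrpCat.{u + 1}).obj I)

end Shriek

end Groth.Agent.Lib.BigSiteInj
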