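import Groth.Agent.Lib.SiteCohCompare
import Groth.Agent.Lib.BigSiteInj

/-!
# `(π_S⁻¹ F)|_{T_et} ≅ f⁻¹ F` and cohomology of `π_S⁻¹ F` over `T/S` (helper11)
-/

set_option autoImplicit false
open CategoryTheory CategoryTheory.Limits AlgebraicGeometry Opposite
universe u

namespace Groth.Agent.Lib.BigSiteEtPull

variable {T S : Scheme.{u}} (f : T ⟶ S)

/-- the etale precoverage -/
abbrev Ket : Precoverage Scheme.{u} := Scheme.etalePrecoverage.{u}

/-- The counit of `resEt ⊣ iEtPush` is an isomorphism (`a_T` is fully faithful). -/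
instance isIso_counit_iEtAdj (M : EtCoh.Ab T) :
    IsIso ((BigSite.iEtAdj Ket T).counit.app M) := by
  have : (EtFppf.a T).Full := inferInstanceAs (Scheme.Etale.forget T).Full
  have : (EtFppf.a T).Faithful := inferInstanceAs (Scheme.Etale.forget T).Faithful
  have h : IsIso ((sheafToPresheaf _ _).map ((BigSite.iEtAdj Ket T).counit.app M)) := by
    change IsIso ((BigSite.iEtAdj Ket T).counit.app M).hom
    rw [Functor.sheafAdjunctionCocontinuous_counit_app_hom, Functor.ranAdjunction_counit]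
    have h1 : (EtFppf.a T).op.Full := inferInstance
    have h2 : (EtFppf.a T).op.Faithful := inferInstance
    have h3 : (EtFppf.a T).op.HasPointwiseRightKanExtension M.obj := inferInstance
    have h4 : ∀ (F : (T.Etale)ᵒᵖ ⥤ AddCommGrpCat.{u+1}), (EtFppf.a T).op.HasRightKanExtension F :=
      inferInstance
    exact Functor.instIsIsoAppRanCounit_1 (EtFppf.a T).op M.obj
  exact isIso_of_reflects_iso _ (sheafToPresheaf _ _)

/-- `iEtPush_T ⋙ resEt_T ≅ 𝟭`. -/
noncomputable def iEtPushResEtIso :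
    BigSite.iEtPush Ket T ⋙ BigSite.resEt Ket T ≅ 𝟭 (EtCoh.Ab T) :=
  haveI : IsIso (BigSite.iEtAdj Ket T).counit := NatIso.isIso_of_isIso_app _
  asIso (BigSite.iEtAdj Ket T).counit

/-- `a_S ⋙ (− ×_S T) ≅ bc f ⋙ a_T`. -/
noncomputable def aPullbackIso :
    EtFppf.a S ⋙ Over.pullback f ≅ EtCoh.bc f ⋙ EtFppf.a T :=
  (MorphismProperty.Over.pullbackCompForgetIso (P := EtCoh.etaleMP) (Q := ⊤) f).symm

instance : (EtCoh.bc f ⋙ EtFppf.a T).IsContinuous S.smallEtaleTopology (QuotSh.J Ket T) :=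
  Functor.isContinuous_comp (EtCoh.bc f) (EtFppf.a T) S.smallEtaleTopology T.smallEtaleTopology
    (QuotSh.J Ket T)

/-- `pushBig f ⋙ resEt_S ≅ resEt_T ⋙ push f`. -/
noncomputable def pushBigResEtIso :
    BigSite.pushBig Ket f AddCommGrpCat.{u + 1} ⋙ BigSite.resEt Ket S ≅
      BigSite.resEt Ket T ⋙ EtCoh.push f :=
  Functor.sheafPushforwardContinuousComp' (F := EtFppf.a S) (G := Over.pullback f)
    (FG := EtCoh.bc f ⋙ EtFppf.a T) (aPullbackIso f) AddCommGrpCat.{u + 1}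
    S.smallEtaleTopology (QuotSh.J Ket S) (QuotSh.J Ket T) ≪≫
  (Functor.sheafPushforwardContinuousComp (EtCoh.bc f) (EtFppf.a T) AddCommGrpCat.{u + 1}
    S.smallEtaleTopology T.smallEtaleTopology (QuotSh.J Ket T)).symm

/-- the composite right adjoint is `push f` -/
noncomputable def rightIso :
    BigSite.iEtPush Ket T ⋙ (BigSite.pushBig Ket f AddCommGrpCat.{u + 1} ⋙ BigSite.resEt Ket S) ≅
      EtCoh.push f :=
  Functor.isoWhiskerLeft _ (pushBigResEtIso f) ≪≫ (Functor.associator _ _ _).symm ≪≫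
    Functor.isoWhiskerRight (iEtPushResEtIso (T := T)) _ ≪≫ Functor.leftUnitor _

/-- the composite adjunction -/
noncomputable def adjL :
    (BigSite.piEtPull Ket S ⋙ BigSite.pullBig Ket f AddCommGrpCat.{u + 1}) ⋙ BigSite.resEt Ket T ⊣
    BigSite.iEtPush Ket T ⋙ (BigSite.pushBig Ket f AddCommGrpCat.{u + 1} ⋙ BigSite.resEt Ket S) :=
  ((BigSite.piEtAdj Ket S).comp (BigSite.bigAdj Ket f AddCommGrpCat.{u + 1})).comp
    (BigSite.iEtAdj Ket T)

/-- `(π_S⁻¹ F)|_{T_et} ≅ f⁻¹ F`, functorially. -/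
noncomputable def resEtAlongPiEtPullIso :
    (BigSite.piEtPull Ket S ⋙ BigSite.pullBig Ket f AddCommGrpCat.{u + 1}) ⋙ BigSite.resEt Ket T ≅
      EtCoh.pull f :=
  Adjunction.leftAdjointUniq (adjL f) ((EtCoh.pullPushAdj f).ofNatIsoRight (rightIso f).symm)

universe w' w v₁ u₁ in
/-- Sheaf cohomology is invariant under isomorphism of sheaves. -/
noncomputable def HAddEquivOfIso {C : Type u₁} [Category.{v₁} C] {J : GrothendieckTopology C}
    [HasSheafify J AddCommGrpCat.{w}] [HasExt.{w'} (Sheaf J AddCommGrpCat.{w})]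
    {M M' : Sheaf J AddCommGrpCat.{w}} (e : M ≅ M') (n : ℕ) :
    Sheaf.H.{w'} M n ≃+ Sheaf.H.{w'} M' n :=
  ((Sheaf.functorH.{w'} J n).mapIso e).addCommGroupIsoToAddEquiv

/-- `H^n(big T, M) ≃ H^n(T_et, M|_{T_et})` for the etale topology. -/
theorem nonempty_H_resEt (M : BigSite.Ab Ket T) (p : ℕ) :
    Nonempty (EtCoh.H T ((BigSite.resEt Ket T).obj M) p ≃+ BigSite.H Ket T M p) := by
  have hL : PreservesFiniteLimits (BigSite.piEtPull Ket T) :=
    Groth.Agent.Lib.BigSiteInj.preservesFiniteLimits_piEtPull T Ket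
  have hG : PreservesFiniteColimits (BigSite.resEt Ket T) := by
    have : PreservesColimitsOfSize.{0, 0} (BigSite.resEt Ket T) :=
      (BigSite.iEtAdj Ket T).leftAdjoint_preservesColimits
    exact PreservesColimitsOfSize.preservesFiniteColimits _
  have hT : IsTerminal (MorphismProperty.Over.mk ⊤ (𝟙 T) (EtCoh.etaleMP.id_mem T)) :=
    MorphismProperty.Over.mkIdTerminal EtCoh.etaleMP T
  have hT' : IsTerminal ((EtFppf.a T).obj
      (MorphismProperty.Over.mk ⊤ (𝟙 T) (EtCoh.etaleMP.id_mem T))) :=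
    CategoryTheory.Over.mkIdTerminal
  exact Groth.Agent.Lib.SiteCohCompare.nonempty_H_addEquiv
    (BigSite.piEtAdj Ket T) hT hT' M p

theorem nonempty_HU_piEtPull (n : ℕ) (F : EtCoh.Ab S) :
    Nonempty (BigSite.HU Ket ((BigSite.piEtPull Ket S).obj F) n (Over.mk f) ≃+
      EtCoh.H T ((EtCoh.pull f).obj F) n) := by
  obtain ⟨e₁⟩ := nonempty_H_resEt
    ((BigSite.pullBig Ket f AddCommGrpCat.{u + 1}).obj ((BigSite.piEtPull Ket S).obj F)) n
  have e₂ := HAddEquivOfIso.{u + 1} ((resEtAlongPiEtPullIso f).app F) n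
  exact ⟨e₁.symm.trans e₂⟩

end Groth.Agent.Lib.BigSiteEtPull
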