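import Groth.Prelude.Def_BigSite
import Mathlib.CategoryTheory.Sites.Continuous
import Mathlib.CategoryTheory.Limits.Shapes.Pullback.IsPullback.Basic
import Mathlib.CategoryTheory.Comma.Over.Pullback

/-!
# The counit `f_big⁻¹ f_big,* F ⟶ F` is an isomorphism for a monomorphism `f` (helper11)
-/

set_option autoImplicit false
open CategoryTheory CategoryTheory.Limits Opposite
universe v₁ v₂ v₃ u₁ u₂ u₃

namespace Groth.Agent.Lib.BigSiteMonoCounit

section General

variable {C : Type u₁} [Category.{v₁} C] {D : Type u₂} [Category.{v₂} D]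
  {F : C ⥤ D} {G : D ⥤ C} (adj : F ⊣ G)
  (J : GrothendieckTopology C) (K : GrothendieckTopology D) [F.IsContinuous J K]
  [G.IsContinuous K J] (E : Type u₃) [Category.{v₃} E]

/-- If the unit of `F ⊣ G` is an isomorphism, so is the counit of the induced adjunction
`F^p ⊣ G^p` between sheaf categories. -/
theorem isIso_counit_app [∀ X, IsIso (adj.unit.app X)] (P : Sheaf J E) :
    IsIso ((adj.sheafPushforwardContinuous (E := E) J K).counit.app P) := by
  have h : IsIso ((sheafToPresheaf _ _).map
      ((adj.sheafPushforwardContinuous (E := E) J K).counit.app P)) := by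
    change IsIso ((adj.sheafPushforwardContinuous (E := E) J K).counit.app P).hom
    apply +allowSynthFailures NatIso.isIso_of_isIso_app
    intro U
    simp only [Adjunction.sheafPushforwardContinuous]
    rw [Adjunction.whiskerLeft_counit_app_app]
    have : IsIso (adj.op.counit.app U) := by
      change IsIso ((adj.unit.app U.unop).op)
      infer_instance
    exact Functor.map_isIso P.obj _
  exact isIso_of_reflects_iso _ (sheafToPresheaf _ _)

end General

section Over

variable {C : Type u₁} [Category.{v₁} C] [HasPullbacks C] {X Y : C} (f : X ⟶ Y) [Mono f]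

lemma isIso_lift {A : C} (a : A ⟶ X) (b : A ⟶ Y) (hb : a ≫ f = b)
    (h : 𝟙 A ≫ b = a ≫ f) :
    IsIso (pullback.lift (𝟙 A) a h : A ⟶ pullback b f) := by
  subst hb
  refine ⟨⟨pullback.fst _ _, pullback.lift_fst _ _ _, ?_⟩⟩
  apply pullback.hom_ext
  · rw [Category.assoc, pullback.lift_fst, Category.comp_id, Category.id_comp]
  · rw [← cancel_mono f, Category.assoc, Category.assoc, pullback.lift_snd_assoc, Category.id_comp]
    exact pullback.condition

instance isIso_unit_mapPullbackAdj (U : Over X) : IsIso ((Over.mapPullbackAdj f).unit.app U) := by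
  have h : IsIso ((Over.forget X).map ((Over.mapPullbackAdj f).unit.app U)) := by
    rw [Over.mapPullbackAdj_unit_app]
    exact isIso_lift f U.hom _ rfl _
  exact isIso_of_reflects_iso _ (Over.forget X)

end Over

end Groth.Agent.Lib.BigSiteMonoCounit
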