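import Groth.Agent.Lib.CohGrowthMultiHH
import Groth.Agent.Lib.InvEngineB

/-!
# Comparing the cohomology of `P` and `P ⊗ N` on an integral proper scheme (helper10)

`X` integral, proper over a field `k`, `dim X ≤ n`, `N : ι → X.Modules` a finite family of invertible
modules.  Then there is `D` such that for all `i`, all classes `c` of length `m` in the family and
all `j`:  `|h^i(c * cls (N j)) - h^i(c)| ≤ D * g n m`  (`exists_bound_step`), where
`h^i(c) = dim_k H^i(X, P)` for `P` of class `c` and `g 0 m = 0`, `g (n + 1) m = (m + 1) ^ n`.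

Proof: `InvEngine.exists_common_subsheaf` gives `G ⊆ O_X`, `G ⊆ N j` with cokernels supported on a
proper closed subset, whose twisted cohomology is `O(m^(n-1))` by `Lib/CohGrowthMultiHH`.
-/

set_option autoImplicit false
universe u
open CategoryTheory CategoryTheory.Limits AlgebraicGeometry CohB1
open Groth.Agent.Lib.OXModTensor Groth.Agent.Lib.TwistEquiv
open Groth.Agent.Lib.IsoCls13 Groth.Agent.Lib.CohGrowthMulti Groth.Agent.Lib.CohGrowthHH
open Groth.Agent.Lib.CohGrowthMultiHH
open Groth.Agent.Lib.CohGrowth (g)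

namespace Groth.Agent.Lib.CohTwistCompare

variable {X : Scheme.{u}}

theorem isInvertible_of_isInverseOf {L M : X.Modules} (hL : PicF.IsInvertible L)
    (h : ClSub.IsInverseOf L M) : PicF.IsInvertible M := by
  obtain ⟨M', hM', ⟨e'⟩⟩ := Groth.Agent.Lib.H78Dual.exists_tensor_inverse hL
  obtain ⟨e⟩ := h
  have h1 : cls M' * cls L = 1 := cls_eq_of_iso e'
  have h2 : cls L * cls M = 1 := cls_eq_of_iso e
  have h3 : cls M' = cls M := by
    calc cls M' = cls M' * (cls L * cls M) := by rw [h2, mul_one]
      _ = (cls M' * cls L) * cls M := (mul_assoc _ _ _).symm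
      _ = cls M := by rw [h1, one_mul]
  obtain ⟨e''⟩ := cls_eq_iff.1 h3
  exact Groth.Agent.Lib.H90Invertible.isInvertible_of_iso e'' hM'

theorem topologicalKrullDim_univ (T : Type*) [TopologicalSpace T] :
    topologicalKrullDim (Set.univ : Set T) = topologicalKrullDim T :=
  IsHomeomorph.topologicalKrullDim_eq (Homeomorph.Set.univ T) (Homeomorph.Set.univ T).isHomeomorph

/-- a coherent module on an integral scheme supported off a nonempty open has smaller dimension -/
theorem dim_support_add_one_le [IsIntegral X] {Q : X.Modules} (hQ : Coh.IsCoh Q) (U : X.Opens)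
    (hU : (U : Set X).Nonempty) (hs : CohB1.support Q ⊆ (U : Set X)ᶜ) :
    topologicalKrullDim ↥(CohB1.support Q) + 1 ≤ topologicalKrullDim X := by
  rw [← topologicalKrullDim_univ X]
  refine Groth.Agent.Lib.DimDrop.topologicalKrullDim_add_one_le_of_ssubset
    (Groth.Agent.Lib.ModStalk.isClosed_support_of_isFT Q hQ.2)
    (IrreducibleSpace.isIrreducible_univ X) (Set.subset_univ _) ?_
  intro h
  obtain ⟨x, hx⟩ := hU
  have : x ∈ CohB1.support Q := by rw [h]; trivial
  exact hs this hx

variable (k : Type u) [Field k]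
  [X.Over (Spec (CommRingCat.of k))] [IsProper (X ↘ Spec (CommRingCat.of k))]

/-- comparison along a monomorphism with small cokernel -/
theorem hc_compare_of_mono {c : Cls X} (hinv : PicF.IsInvertible (rep c))
    {A B : X.Modules} (f : A ⟶ B) [Mono f] (hA : Coh.IsCoh A) (hB : Coh.IsCoh B) (i : ℕ) (E : ℕ)
    (hE : ∀ i', hc k (cokernel f) i' c ≤ E) :
    hc k B i c ≤ hc k A i c + E ∧ hc k A i c ≤ hc k B i c + E := by
  have : A.IsQuasicoherent := hA.1
  have hQ : Coh.IsCoh (cokernel f) := Groth.Agent.Lib.H90OXModExact.isCoh_cokernel f hB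
  have hS := Groth.Agent.Lib.H90DevTwo.shortExact_cokernel f
  constructor
  · have := hc_mid_le k hinv hS hA hB hQ i
    have := hE i
    change hc k B i c ≤ hc k A i c + hc k (cokernel f) i c at *
    omega
  · cases i with
    | zero =>
      have := hc_left_zero_le k hinv hS hA hB
      change hc k A 0 c ≤ hc k B 0 c at this
      omega
    | succ i =>
      have := hc_left_succ_le k hinv hS hA hB hQ i
      have := hE i
      change hc k A (i + 1) c ≤ hc k (cokernel f) i c + hc k B (i + 1) c at *
      omega

variable [IsIntegral X] {ι : Type*} [Fintype ι] {N : ι → X.Modules}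
  (hN : ∀ j, PicF.IsInvertible (N j)) (n : ℕ) (hn : topologicalKrullDim X ≤ (n : WithBot ℕ∞))

include hN hn in
/-- **Step estimate.** -/
theorem exists_bound_step :
    ∃ D : ℕ, ∀ (i m : ℕ) (c : Cls X) (j : ι), Len N m c →
      hc k (Coh.structureModule X) i (c * cls (N j)) ≤
          hc k (Coh.structureModule X) i c + D * g n m ∧
        hc k (Coh.structureModule X) i c ≤
          hc k (Coh.structureModule X) i (c * cls (N j)) + D * g n m := by
  have hNoeth : AlgebraicGeometry.IsNoetherian X :=
    @AlgebraicGeometry.IsNoetherian.mk X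
      (LocallyOfFiniteType.isLocallyNoetherian (X ↘ Spec (CommRingCat.of k)))
      (Groth.Agent.Lib.EulerChar54.compactSpace_of_isProper k X)
  have hO : Coh.IsCoh (Coh.structureModule X) :=
    Groth.Agent.Lib.CohFinAmple.isCoh_structureModule X
  have hstep : ∀ j : ι, ∃ D : ℕ, ∀ (i m : ℕ) (c : Cls X), Len N m c →
      hc k (Coh.structureModule X) i (c * cls (N j)) ≤
          hc k (Coh.structureModule X) i c + D * g n m ∧
        hc k (Coh.structureModule X) i c ≤
          hc k (Coh.structureModule X) i (c * cls (N j)) + D * g n m := by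
    intro j
    obtain ⟨G, a, b, U, hG, ha, hb, hU, -, -, hsa, hsb⟩ :=
      Groth.Agent.Lib.InvEngine.exists_common_subsheaf X (N j) (hN j)
    have := ha
    have := hb
    have : G.IsQuasicoherent := hG.1
    have hNj : Coh.IsCoh (N j) := Groth.Agent.Lib.H90Invertible.isCoh_of_isInvertible (hN j)
    have hQa : Coh.IsCoh (cokernel a) := Groth.Agent.Lib.H90OXModExact.isCoh_cokernel a hO
    have hQb : Coh.IsCoh (cokernel b) := Groth.Agent.Lib.H90OXModExact.isCoh_cokernel b hNj
    obtain ⟨Da, hDa⟩ := exists_bound_hc_lt k hN (cokernel a) hQa n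
      ((dim_support_add_one_le hQa U hU hsa).trans hn)
    obtain ⟨Db, hDb⟩ := exists_bound_hc_lt k hN (cokernel b) hQb n
      ((dim_support_add_one_le hQb U hU hsb).trans hn)
    refine ⟨Da + Db, fun i m c hc' => ?_⟩
    have hinv := isInvertible_rep_of_len hN hc'
    obtain ⟨a1, a2⟩ := hc_compare_of_mono k hinv a hG hO i (Da * g n m)
      (fun i' => hDa i' m c hc')
    obtain ⟨b1, b2⟩ := hc_compare_of_mono k hinv b hG hNj i (Db * g n m)
      (fun i' => hDb i' m c hc')
    have e1 : hc k (Coh.structureModule X) i (c * cls (N j)) = hc k (N j) i c := by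
      rw [← hc_tensor]
      exact hc_congr k (leftUnitor _) i c
    rw [e1]
    have e4 : (Da + Db) * g n m = Da * g n m + Db * g n m := by ring
    constructor <;> omega
  choose Dj hDj using hstep
  refine ⟨Finset.univ.sum Dj, fun i m c j hc' => ?_⟩
  have hle : Dj j * g n m ≤ Finset.univ.sum Dj * g n m :=
    Nat.mul_le_mul_right _
      (Finset.single_le_sum (f := Dj) (fun _ _ => Nat.zero_le _) (Finset.mem_univ j))
  obtain ⟨h1, h2⟩ := hDj j i m c hc'
  constructor <;> omega

end Groth.Agent.Lib.CohTwistCompare
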