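import Mathlib.RingTheory.LocalRing.Module
import Mathlib.LinearAlgebra.Dimension.OrzechProperty
import Mathlib.LinearAlgebra.Dimension.Constructions

/-!
# Fibre rank of a module over a local ring

For a module `N` over a local ring `R` with residue field `κ`, the fibre rank is
`finrank κ (κ ⊗[R] N)`.

* `exists_span_eq_top_of_fibreRank`: a finite module is generated by `fibre rank` many elements.
* `linearIndependent_of_span_of_free`: a spanning family of `fibre rank` many elements of a free
  module is linearly independent.
* `mem_maximalIdeal_of_sum_smul_eq_zero`: any relation between a spanning family of `fibre rank`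
  many elements has coefficients in the maximal ideal.
-/

set_option autoImplicit false

open TensorProduct Module

namespace Groth.Agent.Lib.LocalRingRank

variable {R : Type*} [CommRing R] [IsLocalRing R] {N : Type*} [AddCommGroup N] [Module R N]

local notation "κ" => IsLocalRing.ResidueField R

/-- Nakayama: a finite module over a local ring is generated by as many elements as its fibre
rank. -/
theorem exists_span_eq_top_of_fibreRank [Module.Finite R N] {n : ℕ}
    (hn : finrank κ (κ ⊗[R] N) = n) :
    ∃ v : Fin n → N, Submodule.span R (Set.range v) = ⊤ := by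
  let w : Basis (Fin n) κ (κ ⊗[R] N) := Module.finBasisOfFinrankEq _ _ hn
  have hsurj : Function.Surjective (TensorProduct.mk R κ N 1) :=
    TensorProduct.mk_surjective R N κ Ideal.Quotient.mk_surjective
  choose v hv using fun i => hsurj (w i)
  exact ⟨v, IsLocalRing.span_eq_top_of_tmul_eq_basis v w hv⟩

/-- A spanning family of fibre-rank many elements of a free module over a local ring is linearly
independent. -/
theorem linearIndependent_of_span_of_free [Module.Free R N] {n : ℕ}
    (hn : finrank κ (κ ⊗[R] N) = n) (v : Fin n → N)
    (hv : Submodule.span R (Set.range v) = ⊤) : LinearIndependent R v := by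
  have h1 : finrank R N = n := by rw [← hn, Module.finrank_baseChange]
  exact linearIndependent_of_top_le_span_of_card_eq_finrank hv.ge (by simp [h1])

/-- The images in the fibre of a spanning family span the fibre. -/
theorem span_tmul_eq_top (n : ℕ) (v : Fin n → N)
    (hv : Submodule.span R (Set.range v) = ⊤) :
    Submodule.span κ (Set.range fun i => (1 : κ) ⊗ₜ[R] v i) = ⊤ := by
  rw [eq_top_iff]
  rintro z -
  obtain ⟨m, rfl⟩ := TensorProduct.mk_surjective R N κ Ideal.Quotient.mk_surjective z
  have hm : m ∈ Submodule.span R (Set.range v) := by rw [hv]; trivial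
  induction hm using Submodule.span_induction with
  | mem m h =>
    obtain ⟨i, rfl⟩ := h
    exact Submodule.subset_span ⟨i, rfl⟩
  | zero => rw [map_zero]; exact Submodule.zero_mem _
  | add a b _ _ ha hb => rw [map_add]; exact Submodule.add_mem _ ha hb
  | smul r m _ h =>
    have : (TensorProduct.mk R κ N 1) (r • m) =
        (IsLocalRing.residue R r) • (TensorProduct.mk R κ N 1) m := by
      simp only [TensorProduct.mk_apply, TensorProduct.smul_tmul', smul_eq_mul, mul_one]
      rw [← TensorProduct.smul_tmul]
      congr 1
      rw [Algebra.smul_def, mul_one]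
      rfl
    rw [this]
    exact Submodule.smul_mem _ _ h

/-- Any relation between a spanning family of fibre-rank many elements has coefficients in the
maximal ideal. -/
theorem mem_maximalIdeal_of_sum_smul_eq_zero {n : ℕ}
    (hn : finrank κ (κ ⊗[R] N) = n) (v : Fin n → N)
    (hv : Submodule.span R (Set.range v) = ⊤) (r : Fin n → R)
    (hr : ∑ i, r i • v i = 0) : ∀ i, r i ∈ IsLocalRing.maximalIdeal R := by
  have hspan := span_tmul_eq_top n v hv
  have hli : LinearIndependent κ (fun i => (1 : κ) ⊗ₜ[R] v i) :=
    linearIndependent_of_top_le_span_of_card_eq_finrank hspan.ge (by simp [hn])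
  have hsum : ∑ i, (IsLocalRing.residue R (r i)) • ((1 : κ) ⊗ₜ[R] v i) = 0 := by
    have h0 : (TensorProduct.mk R κ N 1) (∑ i, r i • v i) = 0 := by rw [hr, map_zero]
    rw [map_sum] at h0
    rw [← h0]
    refine Finset.sum_congr rfl (fun i _ => ?_)
    simp only [TensorProduct.mk_apply, TensorProduct.smul_tmul', smul_eq_mul, mul_one]
    rw [← TensorProduct.smul_tmul]
    congr 1
    rw [Algebra.smul_def, mul_one]
    rfl
  intro i
  have := Fintype.linearIndependent_iff.mp hli _ hsum i
  exact (IsLocalRing.residue_eq_zero_iff _).mp this

end Groth.Agent.Lib.LocalRingRank
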