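import Groth.Agent.Lib.LocFreeFP
import Groth.Agent.Lib.LocalRingRank

/-!
# Local freeness from finite type, free stalks / reducedness, and locally constant rank
-/

set_option autoImplicit false
universe u

open CategoryTheory CategoryTheory.Limits AlgebraicGeometry TopologicalSpace Opposite

namespace Groth.Agent.Lib.LocFreeRank

open Groth.Agent.Lib.ModStalk Groth.Agent.Lib.ModStalkLin Groth.Agent.Lib.FreeModSch
  Groth.Agent.Lib.FreeModStalk Groth.Agent.Lib.FinLocFree Groth.Agent.Lib.PerfectLocal
  Groth.Agent.Lib.LocFreeCrit Groth.Agent.Lib.RestrictStalk Groth.Agent.Lib.ModStalkIso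
  Groth.Agent.Lib.LocFreeFP

variable {X : Scheme.{u}}

section Translation

/-- Surjectivity of the stalk map of `ofSections N u` means that the germs of `u` span. -/
theorem surjective_stalkLin_ofSections_iff {N : X.Modules} {n : ℕ} (u : Fin n → Γ(N, ⊤)) (y : X) :
    Function.Surjective (stalkLin (ofSections N u) y) ↔
      Submodule.span (X.presheaf.stalk y)
        (Set.range fun i => N.presheaf.germ ⊤ y trivial (u i)) = ⊤ := by
  rw [← LinearMap.range_eq_top, LinearMap.range_eq_map, ← (stalkBasis (n := n) y).span_eq,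
    Submodule.map_span, ← Set.range_comp]
  have : (⇑(stalkLin (ofSections N u) y) ∘ ⇑(stalkBasis (n := n) y)) =
      fun i => N.presheaf.germ ⊤ y trivial (u i) := by
    funext i
    rw [Function.comp_apply, stalkBasis_apply, stalkLin_ofSections_basisGerm]
  rw [this]

variable (M : X.Modules) {W : X.Opens} {ι : Type*} (t : ι → Γ(M, W))

theorem image_top_le {V : X.Opens} (hVW : V ≤ W) : V.ι ''ᵁ ⊤ ≤ W := by
  rw [Scheme.Opens.ι_image_top]
  exact hVW

/-- Sections over `W` restricted to global sections of `M|_V`, for `V ≤ W`. -/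
noncomputable def sectionsOn {V : X.Opens} (hVW : V ≤ W) : ι → Γ(M.restrict V.ι, ⊤) :=
  fun i => M.presheaf.map (homOfLE (image_top_le hVW)).op (t i)

theorem restrictStalkAddEquiv_germ_sectionsOn {V : X.Opens} (hVW : V ≤ W) (y : V) (i : ι) :
    restrictStalkAddEquiv V.ι M y
      ((M.restrict V.ι).presheaf.germ ⊤ y trivial (sectionsOn M t hVW i)) =
      M.presheaf.germ W y.1 (hVW y.2) (t i) := by
  rw [restrictStalkAddEquiv_germ]
  exact TopCat.Presheaf.germ_res_apply M.presheaf (homOfLE (image_top_le hVW)) y.1 _ (t i)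

theorem span_sectionsOn_eq_top_iff {V : X.Opens} (hVW : V ≤ W) (y : V) :
    Submodule.span (V.toScheme.presheaf.stalk y)
        (Set.range fun i => (M.restrict V.ι).presheaf.germ ⊤ y trivial (sectionsOn M t hVW i)) = ⊤ ↔
      Submodule.span (X.presheaf.stalk y.1)
        (Set.range fun i => M.presheaf.germ W y.1 (hVW y.2) (t i)) = ⊤ := by
  rw [span_restrict_eq_top_iff V.ι M y]
  have : (fun i => restrictStalkAddEquiv V.ι M y
      ((M.restrict V.ι).presheaf.germ ⊤ y trivial (sectionsOn M t hVW i))) =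
      fun i => M.presheaf.germ W y.1 (hVW y.2) (t i) :=
    funext (restrictStalkAddEquiv_germ_sectionsOn M t hVW y)
  rw [this]
  rfl

theorem linearIndependent_sectionsOn_iff {V : X.Opens} (hVW : V ≤ W) (y : V) :
    LinearIndependent (V.toScheme.presheaf.stalk y)
        (fun i => (M.restrict V.ι).presheaf.germ ⊤ y trivial (sectionsOn M t hVW i)) ↔
      LinearIndependent (X.presheaf.stalk y.1)
        (fun i => M.presheaf.germ W y.1 (hVW y.2) (t i)) := by
  rw [linearIndependent_restrict_iff V.ι M y]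
  have : (fun i => restrictStalkAddEquiv V.ι M y
      ((M.restrict V.ι).presheaf.germ ⊤ y trivial (sectionsOn M t hVW i))) =
      fun i => M.presheaf.germ W y.1 (hVW y.2) (t i) :=
    funext (restrictStalkAddEquiv_germ_sectionsOn M t hVW y)
  rw [this]
  rfl

end Translation

section SpanOpen

open Groth.Agent.Lib.CohFinite in
/-- For a finite type module, if the germs of finitely many sections span the stalk at `x`, they
span the stalks at all points near `x`. -/
theorem exists_open_forall_span_eq_top (M : X.Modules) [M.IsFiniteType] {W : X.Opens} {n : ℕ}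
    (t : Fin n → Γ(M, W)) (x : X) (hxW : x ∈ W)
    (hx : Submodule.span (X.presheaf.stalk x)
      (Set.range fun i => M.presheaf.germ W x hxW (t i)) = ⊤) :
    ∃ (V : X.Opens) (hVW : V ≤ W), x ∈ V ∧ ∀ y : V,
      Submodule.span (X.presheaf.stalk y.1)
        (Set.range fun i => M.presheaf.germ W y.1 (hVW y.2) (t i)) = ⊤ := by
  obtain ⟨W1, hxW1, I, hI, s, hs⟩ := exists_sections_span_stalk M x
  let W2 : X.Opens := W ⊓ W1
  have hx2 : x ∈ W2 := ⟨hxW, hxW1⟩
  let e : I ≃ Fin (Nat.card I) := Finite.equivFin I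
  let s' : Fin (Nat.card I) → Γ(M, W1) := fun j => s (e.symm j)
  let p : FlatMod.freeMod W2 (Nat.card I) ⟶ M.restrict W2.ι :=
    ofSections _ (sectionsOn M s' (inf_le_right : W2 ≤ W1))
  have hp : Epi p := by
    apply epi_of_stalk_surjective
    intro y
    change Function.Surjective (stalkLin p y)
    rw [surjective_stalkLin_ofSections_iff, span_sectionsOn_eq_top_iff]
    rw [← hs y.1 y.2.2]
    congr 1
    exact e.symm.surjective.range_comp (fun k => M.presheaf.germ W1 y.1 y.2.2 (s k))
  let g : FlatMod.freeMod W2 n ⟶ M.restrict W2.ι :=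
    ofSections _ (sectionsOn M t (inf_le_left : W2 ≤ W))
  have hq : Epi (p ≫ cokernel.π g) := epi_comp _ _
  have hexact : ∀ y : W2, Function.Exact (stalkLin g y) (stalkLin (cokernel.π g) y) := fun y =>
    function_exact_stalkLin g (cokernel.π g) (cokernel.condition g)
      (ShortComplex.exact_cokernel g) y
  have hCx : Subsingleton ((cokernel g).presheaf.stalk ⟨x, hx2⟩) := by
    have hsurj : Function.Surjective (stalkLin g ⟨x, hx2⟩) := by
      rw [surjective_stalkLin_ofSections_iff, span_sectionsOn_eq_top_iff]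
      exact hx
    have key : ∀ c : (cokernel g).presheaf.stalk ⟨x, hx2⟩, c = 0 := by
      intro c
      obtain ⟨m, rfl⟩ := stalkLin_surjective_of_epi (cokernel.π g) ⟨x, hx2⟩ c
      obtain ⟨ζ, rfl⟩ := hsurj m
      exact (hexact ⟨x, hx2⟩ _).mpr ⟨ζ, rfl⟩
    exact ⟨fun a b => by rw [key a, key b]⟩
  obtain ⟨V, hxV, hzero⟩ := exists_isZero_restrict_of_epi (p ≫ cokernel.π g) ⟨x, hx2⟩ hCx
  refine ⟨W2.ι ''ᵁ V, (W2.ι_image_le V).trans inf_le_left, ⟨⟨x, hx2⟩, hxV, rfl⟩, ?_⟩
  rintro ⟨_, ⟨y, hyV, rfl⟩⟩
  have hCy : Subsingleton ((cokernel g).presheaf.stalk y) :=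
    subsingleton_stalk_of_isZero_restrict (cokernel g) V hzero y hyV
  have hsurj : Function.Surjective (stalkLin g y) := by
    intro m
    have h0 : stalkLin (cokernel.π g) y m = 0 := Subsingleton.elim _ _
    exact (hexact y m).mp h0
  rw [surjective_stalkLin_ofSections_iff, span_sectionsOn_eq_top_iff] at hsurj
  exact hsurj

end SpanOpen

section Assembly

open Groth.Agent.Lib.QCohStalk Groth.Agent.Lib.LocalRingRank

/-- The fibre rank of `M` at `x`: the dimension over the residue field of `κ(x) ⊗ M_x`. -/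
noncomputable abbrev fibreRank (M : X.Modules) (x : X) : ℕ :=
  Module.finrank (IsLocalRing.ResidueField (X.presheaf.stalk x))
    (TensorProduct (X.presheaf.stalk x) (IsLocalRing.ResidueField (X.presheaf.stalk x))
      (M.presheaf.stalk x))

/-- If the germs of `t` form a basis of every stalk over `V`, then `M|_V` is free. -/
theorem nonempty_iso_freeMod_of_forall_basis (M : X.Modules) {W V : X.Opens} (hVW : V ≤ W)
    {n : ℕ} (t : Fin n → Γ(M, W))
    (hli : ∀ y : V, LinearIndependent (X.presheaf.stalk y.1)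
      (fun i => M.presheaf.germ W y.1 (hVW y.2) (t i)))
    (hsp : ∀ y : V, Submodule.span (X.presheaf.stalk y.1)
      (Set.range fun i => M.presheaf.germ W y.1 (hVW y.2) (t i)) = ⊤) :
    Nonempty (M.restrict V.ι ≅ FlatMod.freeMod V n) := by
  let g := ofSections (M.restrict V.ι) (sectionsOn M t hVW)
  have : IsIso g := by
    apply isIso_of_stalk_bijective
    intro y
    change Function.Bijective (stalkLin g y)
    exact bijective_stalkLin_ofSections _ y
      ((linearIndependent_sectionsOn_iff M t hVW y).mpr (hli y))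
      ((span_sectionsOn_eq_top_iff M t hVW y).mpr (hsp y))
  exact ⟨(asIso g).symm⟩

open Groth.Agent.Lib.CohFinite in
/-- A finite type module is generated near `x` by `fibreRank M x` many sections. -/
theorem exists_sections_span_near (M : X.Modules) [M.IsFiniteType] (x : X) {n : ℕ}
    (hn : fibreRank M x = n) :
    ∃ (W : X.Opens) (_ : x ∈ W) (t : Fin n → Γ(M, W)), ∀ y : W,
      Submodule.span (X.presheaf.stalk y.1)
        (Set.range fun i => M.presheaf.germ W y.1 y.2 (t i)) = ⊤ := by
  have hfin := finite_stalk_of_isFiniteType M x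
  obtain ⟨v, hv⟩ := exists_span_eq_top_of_fibreRank (R := X.presheaf.stalk x)
    (N := M.presheaf.stalk x) hn
  choose U hxU s hs using fun i => TopCat.Presheaf.exists_germ_eq M.presheaf (v i)
  let W : X.Opens := ⨅ i, U i
  have hxW : x ∈ W := by
    rw [← SetLike.mem_coe, Opens.coe_iInf]
    exact Set.mem_iInter.mpr hxU
  let t : Fin n → Γ(M, W) := fun i => res M (iInf_le U i) (s i)
  have ht : (fun i => M.presheaf.germ W x hxW (t i)) = v := by
    funext i
    rw [germ_res, hs i]
  obtain ⟨V, hVW, hxV, hspan⟩ := exists_open_forall_span_eq_top M t x hxW (by rw [ht, hv])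
  refine ⟨V, hxV, fun i => res M hVW (t i), fun y => ?_⟩
  have : (fun i => M.presheaf.germ V y.1 y.2 (res M hVW (t i))) =
      fun i => M.presheaf.germ W y.1 (hVW y.2) (t i) := by
    funext i
    rw [germ_res]
  rw [this]
  exact hspan y

/-- **Local freeness from finite type, free stalks and locally constant rank.** -/
theorem isFinLocFree_of_isFT_of_free_of_rank (M : X.Modules) (hFT : CohB1.IsFT M)
    (hfree : ∀ x : X, Module.Free (X.presheaf.stalk x) (M.presheaf.stalk x))
    (hrank : IsLocallyConstant (fun x : X => fibreRank M x)) : FlatMod.IsFinLocFree M := by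
  haveI : M.IsFiniteType := hFT
  intro x
  obtain ⟨W, hxW, t, hspan⟩ := exists_sections_span_near M x (n := fibreRank M x) rfl
  obtain ⟨V0, hV0, hxV0, hconst⟩ := (IsLocallyConstant.iff_exists_open _).mp hrank x
  let V : X.Opens := W ⊓ ⟨V0, hV0⟩
  refine ⟨V, fibreRank M x, ⟨hxW, hxV0⟩, ?_⟩
  refine nonempty_iso_freeMod_of_forall_basis M (inf_le_left : V ≤ W) t (fun y => ?_)
    (fun y => hspan ⟨y.1, y.2.1⟩)
  have := hfree y.1
  exact linearIndependent_of_span_of_free (hconst y.1 y.2.2) _ (hspan ⟨y.1, y.2.1⟩)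

/-- Over a reduced scheme, spanning sections whose number is the (constant) fibre rank have
linearly independent germs. -/
theorem linearIndependent_germ_of_isReduced [IsReduced X] (M : X.Modules) {W : X.Opens} {n : ℕ}
    (t : Fin n → Γ(M, W))
    (hsp : ∀ z : W, Submodule.span (X.presheaf.stalk z.1)
      (Set.range fun i => M.presheaf.germ W z.1 z.2 (t i)) = ⊤)
    (hrank : ∀ z : W, fibreRank M z.1 = n) (y : W) :
    LinearIndependent (X.presheaf.stalk y.1) (fun i => M.presheaf.germ W y.1 y.2 (t i)) := by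
  rw [Fintype.linearIndependent_iff]
  intro c hc i0
  choose U hyU a ha using fun i => TopCat.Presheaf.exists_germ_eq X.presheaf (c i)
  let U0 : X.Opens := W ⊓ ⨅ i, U i
  have hyU0 : y.1 ∈ U0 := by
    refine ⟨y.2, ?_⟩
    change y.1 ∈ ((⨅ i, U i : X.Opens) : Set X)
    rw [Opens.coe_iInf]
    exact Set.mem_iInter.mpr hyU
  let a' : Fin n → Γ(X, U0) := fun i => resO X (inf_le_right.trans (iInf_le U i)) (a i)
  let t' : Fin n → Γ(M, U0) := fun i => res M inf_le_left (t i)
  let σ : Γ(M, U0) := ∑ i, a' i • t' i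
  have hgerm : ∀ (z : X) (hz : z ∈ U0), M.presheaf.germ U0 z hz σ =
      ∑ i, X.presheaf.germ U0 z hz (a' i) • M.presheaf.germ W z hz.1 (t i) := by
    intro z hz
    change (M.presheaf.germ U0 z hz).hom (∑ i, a' i • t' i) = _
    rw [map_sum]
    refine Finset.sum_congr rfl (fun i _ => ?_)
    change M.presheaf.germ U0 z hz (a' i • t' i) = _
    rw [germ_smul, germ_res]
  have hσy : M.presheaf.germ U0 y.1 hyU0 σ = M.presheaf.germ U0 y.1 hyU0 0 := by
    rw [hgerm, map_zero, ← hc]
    refine Finset.sum_congr rfl (fun i _ => ?_)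
    rw [germO_res, ha i]
  obtain ⟨U1, hyU1, i1, i2, hU1⟩ := TopCat.Presheaf.germ_eq M.presheaf y.1 hyU0 hyU0 σ 0 hσy
  have h10 : U1 ≤ U0 := i1.le
  have hσ1 : ∀ (z : X) (hz : z ∈ U1), M.presheaf.germ U0 z (h10 hz) σ = 0 := by
    intro z hz
    rw [← germ_res M h10 z hz σ]
    have : res M h10 σ = 0 := by
      change M.presheaf.map i1.op σ = 0
      rw [hU1, map_zero]
    rw [this, map_zero]
  have hmem : ∀ (z : X) (hz : z ∈ U1) (i : Fin n),
      X.presheaf.germ U0 z (h10 hz) (a' i) ∈ IsLocalRing.maximalIdeal (X.presheaf.stalk z) := by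
    intro z hz
    have hzW : z ∈ W := (h10 hz).1
    exact mem_maximalIdeal_of_sum_smul_eq_zero (hrank ⟨z, hzW⟩) _ (hsp ⟨z, hzW⟩) _
      ((hgerm z (h10 hz)).symm.trans (hσ1 z hz))
  let a'' : Γ(X, U1) := resO X h10 (a' i0)
  have hbot : X.basicOpen a'' = ⊥ := by
    rw [eq_bot_iff]
    intro z hz
    obtain ⟨hzU1, hunit⟩ := (Scheme.mem_basicOpen'' X a'' z).mp hz
    have h1 : X.presheaf.germ U1 z hzU1 a'' = X.presheaf.germ U0 z (h10 hzU1) (a' i0) :=
      germO_res X h10 z hzU1 (a' i0)
    rw [h1] at hunit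
    exact ((IsLocalRing.mem_maximalIdeal _).mp (hmem z hzU1 i0) hunit).elim
  have hzero : a'' = 0 := eq_zero_of_basicOpen_eq_bot a'' hbot
  have h2 : c i0 = X.presheaf.germ U1 y.1 hyU1 a'' := by
    rw [germO_res X h10 y.1 hyU1 (a' i0), germO_res, ha i0]
  rw [h2, hzero, map_zero]

/-- **Local freeness over a reduced scheme from finite type and locally constant rank.** -/
theorem isFinLocFree_of_isFT_of_rank_of_isReduced [IsReduced X] (M : X.Modules)
    (hFT : CohB1.IsFT M) (hrank : IsLocallyConstant (fun x : X => fibreRank M x)) :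
    FlatMod.IsFinLocFree M := by
  haveI : M.IsFiniteType := hFT
  intro x
  obtain ⟨W, hxW, t, hspan⟩ := exists_sections_span_near M x (n := fibreRank M x) rfl
  obtain ⟨V0, hV0, hxV0, hconst⟩ := (IsLocallyConstant.iff_exists_open _).mp hrank x
  let V : X.Opens := W ⊓ ⟨V0, hV0⟩
  let t' : Fin (fibreRank M x) → Γ(M, V) := fun i => res M inf_le_left (t i)
  have hspan' : ∀ z : V, Submodule.span (X.presheaf.stalk z.1)
      (Set.range fun i => M.presheaf.germ V z.1 z.2 (t' i)) = ⊤ := by
    intro z
    have : (fun i => M.presheaf.germ V z.1 z.2 (t' i)) =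
        fun i => M.presheaf.germ W z.1 z.2.1 (t i) := by
      funext i
      exact germ_res M inf_le_left z.1 z.2 (t i)
    rw [this]
    exact hspan ⟨z.1, z.2.1⟩
  refine ⟨V, fibreRank M x, ⟨hxW, hxV0⟩, ?_⟩
  exact nonempty_iso_freeMod_of_forall_basis M (le_refl V) t'
    (fun y => linearIndependent_germ_of_isReduced M t' hspan' (fun z => hconst z.1 z.2.2) y)
    hspan'

end Assembly

section Converse

/-- The rank of the stalk of a restricted module. -/
theorem finrank_restrict_eq {U : Scheme.{u}} (f : U ⟶ X) [IsOpenImmersion f] (M : X.Modules)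
    (y : U) :
    Module.finrank (U.presheaf.stalk y) ((M.restrict f).presheaf.stalk y) =
      Module.finrank (X.presheaf.stalk (f y)) (M.presheaf.stalk (f y)) := by
  have h := rank_eq_of_equiv_equiv (stalkRingEquiv f y).symm (restrictStalkAddEquiv f M y)
    (stalkRingEquiv f y).symm.bijective (restrictStalkAddEquiv_smul' f M y)
  unfold Module.finrank
  rw [h]

/-- On an open where `M` is free of rank `n`, the fibre rank is `n`. -/
theorem fibreRank_eq_of_restrict_iso {M : X.Modules} (U : X.Opens) {n : ℕ}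
    (e : M.restrict U.ι ≅ FlatMod.freeMod U n) (y : U) : fibreRank M y.1 = n := by
  have h1 : Module.Free (U.toScheme.presheaf.stalk y) ((M.restrict U.ι).presheaf.stalk y) :=
    Module.Free.of_equiv (stalkLinEquiv e y).symm
  have h2 : Module.Free (X.presheaf.stalk y.1) (M.presheaf.stalk y.1) :=
    (free_restrict_iff U.ι M y).mp h1
  have h3 : Module.finrank (X.presheaf.stalk y.1) (M.presheaf.stalk y.1) = n := by
    have h4 := finrank_restrict_eq U.ι M y
    have h5 : Module.finrank (U.toScheme.presheaf.stalk y)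
        ((FlatMod.freeMod U.toScheme n).presheaf.stalk y) = n := by
      rw [Module.finrank_eq_card_basis (stalkBasis (X := U.toScheme) (n := n) y),
        Fintype.card_fin]
    rw [(stalkLinEquiv e y).finrank_eq, h5] at h4
    exact h4.symm
  unfold fibreRank
  rw [Module.finrank_baseChange, h3]

/-- The fibre rank of a finite locally free module is locally constant. -/
theorem isLocallyConstant_fibreRank {M : X.Modules} (h : FlatMod.IsFinLocFree M) :
    IsLocallyConstant (fun x : X => fibreRank M x) := by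
  rw [IsLocallyConstant.iff_exists_open]
  intro x
  obtain ⟨U, n, hxU, ⟨e⟩⟩ := h x
  refine ⟨U, U.2, hxU, fun y hy => ?_⟩
  rw [fibreRank_eq_of_restrict_iso U e ⟨y, hy⟩, fibreRank_eq_of_restrict_iso U e ⟨x, hxU⟩]

end Converse

end Groth.Agent.Lib.LocFreeRank
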