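import Groth.Agent.Lib.SemilocalBasis
import Groth.Agent.Lib.LocFreeRank
import Groth.Agent.Lib.QCohFlat
import Groth.Agent.Lib.H90OXModFP
import Groth.Agent.Lib.H90InvertibleFP

/-!
# A locally free module of constant rank is free near any finite subset of an affine open
-/

set_option autoImplicit false
universe u

open CategoryTheory CategoryTheory.Limits AlgebraicGeometry TopologicalSpace Opposite Module

namespace Groth.Agent.Lib.SemilocalFree

open Groth.Agent.Lib.QCohStalk Groth.Agent.Lib.LocFreeRank Groth.Agent.Lib.SemilocalBasis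
  Groth.Agent.Lib.FreeModStalk Groth.Agent.Lib.RestrictStalk Groth.Agent.Lib.ModStalkIso
  Groth.Agent.Lib.FinLocFree Groth.Agent.Lib.ModStalkLin

section Algebra

/-- Two models of the localization of a module have the same rank. -/
theorem finrank_eq_of_isLocalizedModule {A : Type*} [CommRing A] {M : Type*} [AddCommGroup M]
    [Module A M] (S : Submonoid A)
    {R₁ M₁ : Type*} [CommRing R₁] [Algebra A R₁] [IsLocalization S R₁] [AddCommGroup M₁]
    [Module A M₁] [Module R₁ M₁] [IsScalarTower A R₁ M₁] (g₁ : M →ₗ[A] M₁) [IsLocalizedModule S g₁]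
    {R₂ M₂ : Type*} [CommRing R₂] [Algebra A R₂] [IsLocalization S R₂] [AddCommGroup M₂]
    [Module A M₂] [Module R₂ M₂] [IsScalarTower A R₂ M₂] (g₂ : M →ₗ[A] M₂) [IsLocalizedModule S g₂] :
    finrank R₁ M₁ = finrank R₂ M₂ := by
  let σ : R₁ ≃ₐ[A] R₂ := IsLocalization.algEquiv S R₁ R₂
  let j : M₁ ≃ₗ[A] M₂ := IsLocalizedModule.linearEquiv S g₁ g₂
  have hc : ∀ (a : R₁) (m : M₁), j.toAddEquiv (a • m) = σ a • j.toAddEquiv m := by
    intro a m
    obtain ⟨⟨x, s⟩, hxs⟩ := IsLocalization.surj S a
    have hunit : IsUnit (algebraMap A R₂ (s : A)) := IsLocalization.map_units R₂ s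
    have h1 : algebraMap A R₂ (s : A) • j (a • m) = x • j m := by
      rw [algebraMap_smul, ← map_smul, ← algebraMap_smul R₁ (s : A), smul_smul, mul_comm, hxs,
        algebraMap_smul, map_smul]
    have h2 : algebraMap A R₂ (s : A) • (σ a • j m) = x • j m := by
      rw [smul_smul, ← AlgEquiv.commutes σ, ← map_mul, mul_comm, hxs, AlgEquiv.commutes,
        algebraMap_smul]
    exact (hunit.smul_left_cancel).mp (h1.trans h2.symm)
  have := lift_rank_eq_of_equiv_equiv σ j.toAddEquiv σ.bijective hc
  unfold finrank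
  rw [← Cardinal.toNat_lift, this, Cardinal.toNat_lift]

end Algebra

variable {X : Scheme.{u}}

/-- On an open where `M` is free of rank `n`, the stalks have rank `n`. -/
theorem finrank_stalk_eq_of_restrict_iso {M : X.Modules} (U : X.Opens) {n : ℕ}
    (e : M.restrict U.ι ≅ FlatMod.freeMod U n) (y : U) :
    finrank (X.presheaf.stalk y.1) (M.presheaf.stalk y.1) = n := by
  have h4 := finrank_restrict_eq U.ι M y
  have h5 : finrank (U.toScheme.presheaf.stalk y)
      ((FlatMod.freeMod U.toScheme n).presheaf.stalk y) = n := by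
    rw [Module.finrank_eq_card_basis (stalkBasis (X := U.toScheme) (n := n) y), Fintype.card_fin]
  rw [(stalkLinEquiv e y).finrank_eq, h5] at h4
  exact h4.symm

/-- The rank at the prime of a point of an affine open of the module of sections is the rank of
the stalk. -/
theorem rankAtStalk_sections_eq (E : X.Modules) [E.IsQuasicoherent] {V : X.Opens}
    (hV : IsAffineOpen V) (z : V) :
    rankAtStalk (R := Γ(X, V)) Γ(E, V) (hV.primeIdealOf z) =
      finrank (X.presheaf.stalk z.1) (E.presheaf.stalk z.1) := by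
  letI := moduleSectionStalk E z
  have := isScalarTower_sectionStalk E z
  have := hV.isLocalization_stalk z
  have := isLocalizedModule_germ E hV z
  exact finrank_eq_of_isLocalizedModule (hV.primeIdealOf z).asIdeal.primeCompl
    (LocalizedModule.mkLinearMap (hV.primeIdealOf z).asIdeal.primeCompl Γ(E, V)) (germLinear E z)

theorem mem_basicOpen_iff_notMem_primeIdealOf {V : X.Opens} (hV : IsAffineOpen V) (z : V)
    (f : Γ(X, V)) : z.1 ∈ X.basicOpen f ↔ f ∉ (hV.primeIdealOf z).asIdeal := by
  have := hV.isLocalization_stalk z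
  rw [X.mem_basicOpen f z.1 z.2]
  exact IsLocalization.AtPrime.isUnit_to_map_iff (X.presheaf.stalk (z : X))
    (hV.primeIdealOf z).asIdeal f

/-- A basis away from `f` of the sections over an affine open gives bases of the stalks at the
points of `D(f)`. -/
theorem IsBasisAway.germ {E : X.Modules} [E.IsQuasicoherent] {V : X.Opens} (hV : IsAffineOpen V)
    {n : ℕ} {s : Fin n → Γ(E, V)} {f : Γ(X, V)} (hs : IsBasisAway s f) (z : V)
    (hz : z.1 ∈ X.basicOpen f) :
    LinearIndependent (X.presheaf.stalk z.1) (fun i => E.presheaf.germ V z.1 z.2 (s i)) ∧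
      Submodule.span (X.presheaf.stalk z.1)
        (Set.range fun i => E.presheaf.germ V z.1 z.2 (s i)) = ⊤ := by
  letI := moduleSectionStalk E z
  have := isScalarTower_sectionStalk E z
  have := hV.isLocalization_stalk z
  have := isLocalizedModule_germ E hV z
  have hfq : f ∉ (hV.primeIdealOf z).asIdeal :=
    (mem_basicOpen_iff_notMem_primeIdealOf hV z f).mp hz
  exact hs.linearIndependent_and_span (hV.primeIdealOf z).asIdeal hfq (germLinear E z)

/-- **A finite locally free module of constant rank is free near any finite subset of an affine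
open.** -/
theorem exists_open_free_of_finite (r : ℕ) (E : X.Modules) (hE : FlatMod.IsFinLocFreeOfRank r E)
    (Z : Set X) (hZ : Z.Finite) (V : X.Opens) (hV : IsAffineOpen V) (hZV : Z ⊆ V) :
    ∃ U : X.Opens, Z ⊆ U ∧ U ≤ V ∧ Nonempty (E.restrict U.ι ≅ FlatMod.freeMod (U : Scheme.{u}) r) := by
  have hE' : FlatMod.IsFinLocFree E := fun x => by
    obtain ⟨U, hxU, h⟩ := hE x
    exact ⟨U, r, hxU, h⟩
  haveI : SheafOfModules.IsFinitePresentation (R := X.ringCatSheaf) E :=
    Groth.Agent.Lib.H90Invertible.isFinitePresentation_of_isFinLocFree hE'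
  haveI : E.IsQuasicoherent := Groth.Agent.Lib.H90Invertible.isQuasicoherent_of_isFinLocFree hE'
  have hfp : Module.FinitePresentation Γ(X, V) Γ(E, V) :=
    Groth.Agent.Lib.H90OXModFP.finitePresentation_sections E hV
  have hflat : Module.Flat Γ(X, V) Γ(E, V) :=
    Groth.Agent.Lib.QCohFlat.flat_sections_of_flat_stalks E hV fun x => by
      have := Groth.Agent.Lib.LocFreeFP.free_stalk_of_isFinLocFree hE' x.1
      infer_instance
  have hrk : ∀ z : V, rankAtStalk (R := Γ(X, V)) Γ(E, V) (hV.primeIdealOf z) = r := by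
    intro z
    rw [rankAtStalk_sections_eq E hV z]
    obtain ⟨U, hzU, ⟨e⟩⟩ := hE z.1
    exact finrank_stalk_eq_of_restrict_iso U e ⟨z.1, hzU⟩
  classical
  let _ : Fintype Z := hZ.fintype
  let P : Finset (PrimeSpectrum Γ(X, V)) :=
    Finset.univ.image fun z : Z => hV.primeIdealOf ⟨z.1, hZV z.2⟩
  have hP : ∀ p ∈ P, rankAtStalk (R := Γ(X, V)) Γ(E, V) p = r := by
    intro p hp
    obtain ⟨z, -, rfl⟩ := Finset.mem_image.mp hp
    exact hrk _
  obtain ⟨s, f, hf, hs⟩ := exists_isBasisAway P Γ(E, V) r hP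
  have hUV : X.basicOpen f ≤ V := X.basicOpen_le f
  refine ⟨X.basicOpen f, fun z hz => ?_, hUV, ?_⟩
  · rw [SetLike.mem_coe, mem_basicOpen_iff_notMem_primeIdealOf hV ⟨z, hZV hz⟩]
    exact hf _ (Finset.mem_image.mpr ⟨⟨z, hz⟩, Finset.mem_univ _, rfl⟩)
  · exact nonempty_iso_freeMod_of_forall_basis E hUV s
      (fun y => (IsBasisAway.germ hV hs ⟨y.1, hUV y.2⟩ y.2).1)
      (fun y => (IsBasisAway.germ hV hs ⟨y.1, hUV y.2⟩ y.2).2)

end Groth.Agent.Lib.SemilocalFree
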