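import Groth.Agent.Lib.EulerChar54
import Groth.Agent.Lib.SemilocalFree
import Groth.Agent.Lib.CohFinite
import Groth.Agent.Lib.CohFinDevissageHyp

/-!
# Additivity of the degree for finite locally free modules (helper54; campaign K2a)

Namespace `Groth.Agent.Lib.DegAdd54`.  `H : ProperFinHyp.Hyp` is the statement of S0002.
* `finrank_add_of_exact` (algebra: ranks add in short exact sequences of finite free modules over a nontrivial
  commutative ring), `euler_eq_zero_of_isEmpty`,
* `deg_add` (= S7643): `deg E₂ = deg E₁ + deg E₃` for a short exact sequence of finite locally free modules of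
  constant ranks on a proper scheme over a field.
-/

set_option autoImplicit false
universe u
open CategoryTheory CategoryTheory.Limits AlgebraicGeometry

namespace Groth.Agent.Lib.DegAdd54

open Groth.Agent.Lib.EulerChar54 Groth.Agent.Lib.ProperFinHyp Groth.Agent.Lib.ModStalkLin

/-- rank additivity for short exact sequences of finite free modules -/
theorem finrank_add_of_exact {R : Type*} [CommRing R] [Nontrivial R] {M₁ M₂ M₃ : Type*}
    [AddCommGroup M₁] [AddCommGroup M₂] [AddCommGroup M₃] [Module R M₁] [Module R M₂] [Module R M₃]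
    [Module.Free R M₁] [Module.Finite R M₁] [Module.Free R M₃] [Module.Finite R M₃]
    (f : M₁ →ₗ[R] M₂) (g : M₂ →ₗ[R] M₃) (hf : Function.Injective f) (hfg : Function.Exact f g)
    (hg : Function.Surjective g) :
    Module.finrank R M₂ = Module.finrank R M₁ + Module.finrank R M₃ := by
  obtain ⟨l, hl⟩ := Module.projective_lifting_property g LinearMap.id hg
  have e := (hfg.splitSurjectiveEquiv hf ⟨l, hl⟩).1
  rw [e.finrank_eq, Module.finrank_prod]

theorem euler_eq_zero_of_isEmpty (k : Type u) [Field k] (X : Scheme.{u}) [X.Over (Spec (CommRingCat.of k))]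
    [IsEmpty X] (F : X.Modules) : Curv2.euler k X F = 0 := by
  unfold Curv2.euler
  apply finsum_eq_zero_of_forall_eq_zero
  intro i
  have := Groth.Agent.Lib.CohFinDevissageHyp.subsingleton_HH_of_isEmpty F i
  rw [Module.finrank_zero_of_subsingleton]
  simp

variable (H : Hyp.{u}) (k : Type u) [Field k] (X : Scheme.{u}) [X.Over (Spec (CommRingCat.of k))]
  [IsProper (X ↘ (Spec (CommRingCat.of k)))]

include H in
/-- additivity of the degree in short exact sequences of finite locally free modules of constant rank -/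
theorem deg_add (S : ShortComplex X.Modules) (hS : S.ShortExact)
    (n₁ n₂ n₃ : ℕ) (h₁ : FlatMod.IsFinLocFreeOfRank n₁ S.X₁) (h₂ : FlatMod.IsFinLocFreeOfRank n₂ S.X₂)
    (h₃ : FlatMod.IsFinLocFreeOfRank n₃ S.X₃) :
    Curv2.deg k X S.X₂ n₂ = Curv2.deg k X S.X₁ n₁ + Curv2.deg k X S.X₃ n₃ := by
  have lf : ∀ {n : ℕ} {M : X.Modules}, FlatMod.IsFinLocFreeOfRank n M → FlatMod.IsFinLocFree M :=
    fun h x => by
      obtain ⟨U, hxU, h'⟩ := h x
      exact ⟨U, _, hxU, h'⟩
  have c₁ := Groth.Agent.Lib.H90Invertible.isCoh_of_isFinLocFree (lf h₁)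
  have c₂ := Groth.Agent.Lib.H90Invertible.isCoh_of_isFinLocFree (lf h₂)
  have c₃ := Groth.Agent.Lib.H90Invertible.isCoh_of_isFinLocFree (lf h₃)
  unfold Curv2.deg
  rcases isEmpty_or_nonempty X with hX | ⟨⟨x⟩⟩
  · simp only [euler_eq_zero_of_isEmpty]
    simp
  · have hadd := euler_add H k X S hS c₁ c₂ c₃
    have hrank : n₂ = n₁ + n₃ := by
      obtain ⟨U₁, hx₁, ⟨e₁⟩⟩ := h₁ x
      obtain ⟨U₂, hx₂, ⟨e₂⟩⟩ := h₂ x
      obtain ⟨U₃, hx₃, ⟨e₃⟩⟩ := h₃ x
      have r₁ := Groth.Agent.Lib.SemilocalFree.finrank_stalk_eq_of_restrict_iso U₁ e₁ ⟨x, hx₁⟩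
      have r₂ := Groth.Agent.Lib.SemilocalFree.finrank_stalk_eq_of_restrict_iso U₂ e₂ ⟨x, hx₂⟩
      have r₃ := Groth.Agent.Lib.SemilocalFree.finrank_stalk_eq_of_restrict_iso U₃ e₃ ⟨x, hx₃⟩
      have f₁ := Groth.Agent.Lib.LocFreeFP.free_stalk_of_isFinLocFree (lf h₁) x
      have f₃ := Groth.Agent.Lib.LocFreeFP.free_stalk_of_isFinLocFree (lf h₃) x
      have g₁ := Groth.Agent.Lib.CohFinite.finite_stalk_of_isCoh _ c₁ x
      have g₃ := Groth.Agent.Lib.CohFinite.finite_stalk_of_isCoh _ c₃ x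
      obtain ⟨hinj, hex, hsurj⟩ := stalkLin_exact hS x
      have := finrank_add_of_exact _ _ hinj hex hsurj
      rw [← r₁, ← r₂, ← r₃]
      exact this
    rw [hadd, hrank]
    push_cast
    ring

end Groth.Agent.Lib.DegAdd54
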