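import Groth.Agent.Lib.ModStalkLin

/-!
# Stalks of the cokernel of a morphism of `O_X`-modules (helper63)

* `stalkLin_zero` : the stalk map of the zero morphism is zero.
* `stalkLin_cokernel_exact` : `F_x → G_x → (coker φ)_x` is exact; `stalkLin_cokernel_surjective`.
-/

set_option autoImplicit false
universe u
open CategoryTheory CategoryTheory.Limits AlgebraicGeometry TopologicalSpace Opposite

namespace Groth.Agent.Lib.ModStalkCoker

open Groth.Agent.Lib.ModStalkLin

variable {X : Scheme.{u}}

theorem stalkLin_zero (M N : X.Modules) (x : X) : stalkLin (0 : M ⟶ N) x = 0 := by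
  ext m
  obtain ⟨V, hxV, t, rfl⟩ := TopCat.Presheaf.exists_germ_eq M.presheaf m
  rw [stalkLin_germ, Scheme.Modules.Hom.zero_app, LinearMap.zero_apply]
  exact map_zero _

theorem stalkLin_comp_eq_zero {M N K : X.Modules} (φ : M ⟶ N) (ψ : N ⟶ K) (h : φ ≫ ψ = 0) (x : X)
    (m : M.presheaf.stalk x) : stalkLin ψ x (stalkLin φ x m) = 0 := by
  have := stalkLin_comp φ ψ x
  rw [h, stalkLin_zero] at this
  have h2 := LinearMap.congr_fun this m
  rw [LinearMap.zero_apply, LinearMap.comp_apply] at h2
  exact h2.symm

theorem stalkLin_cokernel_surjective {M N : X.Modules} (φ : M ⟶ N) (x : X) :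
    Function.Surjective (stalkLin (cokernel.π φ) x) :=
  stalkLin_surjective_of_epi _ x

theorem stalkLin_cokernel_exact {M N : X.Modules} (φ : M ⟶ N) (x : X) :
    Function.Exact (stalkLin φ x) (stalkLin (cokernel.π φ) x) := by
  intro g
  constructor
  · intro hg
    -- the short exact sequence `0 → ker π → N → coker φ → 0`
    let S : ShortComplex X.Modules :=
      ShortComplex.mk (kernel.ι (cokernel.π φ)) (cokernel.π φ) (kernel.condition _)
    have hS : S.ShortExact :=
      { exact := ShortComplex.exact_of_f_is_kernel S (kernelIsKernel (cokernel.π φ))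
        mono_f := inferInstanceAs (Mono (kernel.ι (cokernel.π φ)))
        epi_g := inferInstanceAs (Epi (cokernel.π φ)) }
    obtain ⟨-, hex, -⟩ := stalkLin_exact hS x
    obtain ⟨t, ht⟩ := (hex g).mp hg
    haveI : Epi (Abelian.factorThruImage φ) := inferInstance
    obtain ⟨f, hf⟩ := stalkLin_surjective_of_epi (Abelian.factorThruImage φ) x t
    refine ⟨f, ?_⟩
    have hfac : Abelian.factorThruImage φ ≫ kernel.ι (cokernel.π φ) = φ := Abelian.image.fac φ
    have h1 := stalkLin_comp (Abelian.factorThruImage φ) (kernel.ι (cokernel.π φ)) x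
    rw [hfac] at h1
    rw [h1, LinearMap.comp_apply, hf]
    exact ht
  · rintro ⟨f, rfl⟩
    exact stalkLin_comp_eq_zero φ (cokernel.π φ) (cokernel.condition φ) x f

end Groth.Agent.Lib.ModStalkCoker
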