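import Groth.Agent.Lib.InvMap54
import Groth.Agent.Lib.ModStalkCoker

/-!
# Cokernels of maps between invertible modules (helper54; campaign K2a)

Namespace `Groth.Agent.Lib.InvMap54` (continued).
* `not_mem_support_cokernel_iff`: `(coker φ)_y = 0 ↔ φ_y` surjective; `stalkLin_surjective_of_app_surjective`.
* `not_mem_support_cokernel_iff_mem_basicOpen`: in a chart `(V, n, l)`, for `y ∈ V`:
  `y ∉ supp (coker φ) ↔ y ∈ D(coef)`.
* `isClosed_singleton_of_dim_le_one` (topology: irreducible T0 space of dim ≤ 1, a point outside a nonempty open is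
  closed).
* `isClosed_singleton_of_mem_support_cokernel`: X integral of dim ≤ 1, `φ ≠ 0` map of invertible modules: the cokernel
  is supported at closed points.
* `mem_support_cokernel_of_not_mem_genLocus`: `x ∉ CohB1.genLocus L s → x ∈ supp (coker s)` (L invertible).
-/

set_option autoImplicit false
universe u
open CategoryTheory CategoryTheory.Limits AlgebraicGeometry Opposite TopologicalSpace
open Groth.Agent.Lib.H90Invertible Groth.Agent.Lib.StructureModule Groth.Agent.Lib.H78TensorGen
open Groth.Agent.Lib.H78SecCoord Groth.Agent.Lib.ModStalkLin Groth.Agent.Lib.ModStalkCoker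

namespace Groth.Agent.Lib.InvMap54

variable {X : Scheme.{u}} {N L : X.Modules}

/-- the stalk of the cokernel vanishes iff the stalk map is surjective -/
lemma not_mem_support_cokernel_iff (φ : N ⟶ L) (y : X) :
    y ∉ CohB1.support (cokernel φ) ↔ Function.Surjective (stalkLin φ y) := by
  change ¬ ¬ Subsingleton ((cokernel φ).presheaf.stalk y) ↔ _
  rw [not_not]
  constructor
  · intro h g
    have : stalkLin (cokernel.π φ) y g = 0 := Subsingleton.elim _ _
    exact (stalkLin_cokernel_exact φ y g).mp this
  · intro h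
    refine ⟨fun q q' => ?_⟩
    have hz : ∀ q : (cokernel φ).presheaf.stalk y, q = 0 := by
      intro q
      obtain ⟨g, rfl⟩ := stalkLin_cokernel_surjective φ y q
      obtain ⟨f, rfl⟩ := h g
      exact stalkLin_comp_eq_zero φ (cokernel.π φ) (cokernel.condition φ) y f
    rw [hz q, hz q']

/-- surjectivity on all small opens around `y` gives surjectivity on the stalk at `y` -/
lemma stalkLin_surjective_of_app_surjective (φ : N ⟶ L) (y : X) (D : X.Opens) (hy : y ∈ D)
    (h : ∀ W : X.Opens, W ≤ D → Function.Surjective (φ.app W)) :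
    Function.Surjective (stalkLin φ y) := by
  intro g
  obtain ⟨W, hyW, t, rfl⟩ := TopCat.Presheaf.exists_germ_eq L.presheaf g
  obtain ⟨u, hu⟩ := h (W ⊓ D) inf_le_right (rs L inf_le_left t)
  have hyWD : y ∈ W ⊓ D := ⟨hyW, hy⟩
  refine ⟨N.presheaf.germ (W ⊓ D) y hyWD u, ?_⟩
  rw [stalkLin_germ, hu]
  exact TopCat.Presheaf.germ_res_apply L.presheaf (homOfLE (inf_le_left : W ⊓ D ≤ W)) y hyWD t

section Local

variable {V : X.Opens} {n : Γ(N, V)} {l : Γ(L, V)} (hn : IsGen N V n) (hl : IsGen L V l) (φ : N ⟶ L)

include hn in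
lemma app_surjective_of_le_basicOpen {W : X.Opens} (hW : W ≤ V)
    (hWa : W ≤ X.basicOpen (coef hl φ n)) : Function.Surjective (φ.app W) := by
  intro t
  obtain ⟨b, hb⟩ := ((isUnit_map_iff hW (coef hl φ n)).2 hWa).exists_left_inv
  refine ⟨(coord hl hW t * b) • rs N hW n, ?_⟩
  rw [app_eq hn hl φ hW, coord_smul_gen, mul_assoc, hb, mul_one, coord_spec]

include hn in
/-- **key local lemma**: in a chart `(V, n, l)`, the cokernel of `φ` vanishes at `y ∈ V` iff the coefficient is
invertible at `y` -/
theorem not_mem_support_cokernel_iff_mem_basicOpen (y : X) (hy : y ∈ V) :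
    y ∉ CohB1.support (cokernel φ) ↔ y ∈ X.basicOpen (coef hl φ n) := by
  rw [not_mem_support_cokernel_iff]
  constructor
  · intro hsurj
    obtain ⟨f, hf⟩ := hsurj (L.presheaf.germ V y hy l)
    obtain ⟨W, hyW, t, rfl⟩ := TopCat.Presheaf.exists_germ_eq N.presheaf f
    rw [stalkLin_germ] at hf
    obtain ⟨W', hyW', iW, iV, e⟩ := TopCat.Presheaf.germ_eq L.presheaf y hyW hy _ _ hf
    have hW'V : W' ≤ V := iV.le
    have e' : φ.app W' (rs N iW.le t) = rs L hW'V l := by
      rw [app_rs]; exact e
    rw [app_eq hn hl φ hW'V] at e'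
    have h1 : coord hn hW'V (rs N iW.le t) * X.presheaf.map (homOfLE hW'V).op (coef hl φ n) = 1 := by
      apply (hl W' hW'V).1
      change _ • rs L hW'V l = (1 : Γ(X, W')) • rs L hW'V l
      rw [e', one_smul]
    have hu : IsUnit (X.presheaf.map (homOfLE hW'V).op (coef hl φ n)) :=
      IsUnit.of_mul_eq_one _ (by rw [mul_comm]; exact h1)
    exact (isUnit_map_iff hW'V _).1 hu hyW'
  · intro hya
    exact stalkLin_surjective_of_app_surjective φ y (V ⊓ X.basicOpen (coef hl φ n)) ⟨hy, hya⟩
      (fun W hW => app_surjective_of_le_basicOpen hn hl φ (hW.trans inf_le_left)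
        (hW.trans inf_le_right))

end Local

section Top


/-- in an irreducible T0 space of Krull dimension `≤ 1`, a point outside a nonempty open subset is closed -/
theorem isClosed_singleton_of_dim_le_one {α : Type*} [TopologicalSpace α] [T0Space α]
    [IrreducibleSpace α] (hdim : topologicalKrullDim α ≤ 1) (x : α) (D : Set α) (hD : IsOpen D)
    (hne : D.Nonempty) (hx : x ∉ D) : IsClosed ({x} : Set α) := by
  rw [← closure_eq_iff_isClosed]
  refine Set.Subset.antisymm ?_ subset_closure
  intro y hy
  let c0 : IrreducibleCloseds α := ⟨closure {y}, isIrreducible_singleton.closure, isClosed_closure⟩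
  let c1 : IrreducibleCloseds α := ⟨closure {x}, isIrreducible_singleton.closure, isClosed_closure⟩
  let c2 : IrreducibleCloseds α := ⟨Set.univ, IrreducibleSpace.isIrreducible_univ α, isClosed_univ⟩
  have h01 : c0 ≤ c1 := by
    change closure {y} ⊆ closure {x}
    exact closure_minimal (Set.singleton_subset_iff.mpr hy) isClosed_closure
  have h12 : c1 ≤ c2 := by
    change closure {x} ⊆ Set.univ
    exact Set.subset_univ _
  have h21 : ¬ c2 ≤ c1 := by
    intro h
    have h' : Set.univ ⊆ closure ({x} : Set α) := h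
    obtain ⟨d, hd⟩ := hne
    have hsub : closure ({x} : Set α) ⊆ Dᶜ :=
      closure_minimal (Set.singleton_subset_iff.mpr hx) hD.isClosed_compl
    exact hsub (h' (Set.mem_univ d)) hd
  rcases (Order.krullDim_le_one_iff (α := IrreducibleCloseds α)).mp hdim c1 with hmin | hmax
  · have h10 : c1 ≤ c0 := hmin h01
    have hxy : x ∈ closure ({y} : Set α) := h10 (subset_closure rfl)
    have h1 : y ⤳ x := specializes_iff_mem_closure.mpr hxy
    have h2 : x ⤳ y := specializes_iff_mem_closure.mpr hy
    exact (h1.antisymm h2).eq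
  · exact absurd (hmax h12) h21

end Top

section Global

variable (hN : PicF.IsInvertible N) (hL : PicF.IsInvertible L) (φ : N ⟶ L)

include hN hL in
/-- **G3**: on an integral scheme of dimension `≤ 1`, the cokernel of a nonzero map of invertible modules is
supported at closed points -/
theorem isClosed_singleton_of_mem_support_cokernel [IsIntegral X] (hdim : topologicalKrullDim X ≤ 1)
    (hφ : φ ≠ 0) (x : X) (hx : x ∈ CohB1.support (cokernel φ)) : IsClosed ({x} : Set X) := by
  obtain ⟨V, hxV, n, l, hn, hl⟩ := exists_gens hN hL x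
  have hc : coef hl φ n ≠ 0 := fun h0 => hφ (eq_zero_of_coef_eq_zero hN hL φ hn hl ⟨x, hxV⟩ h0)
  have hxa : x ∉ X.basicOpen (coef hl φ n) := fun h =>
    ((not_mem_support_cokernel_iff_mem_basicOpen hn hl φ x hxV).2 h) hx
  have hne : ((X.basicOpen (coef hl φ n) : X.Opens) : Set X).Nonempty := by
    rw [← Opens.ne_bot_iff_nonempty]
    intro h
    exact hc ((AlgebraicGeometry.basicOpen_eq_bot_iff _).1 h)
  exact isClosed_singleton_of_dim_le_one hdim x _ (X.basicOpen (coef hl φ n)).isOpen hne hxa

include hL in
/-- **G4**: a point outside the generating locus of a section lies in the support of its cokernel -/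
theorem mem_support_cokernel_of_not_mem_genLocus (s : Coh.structureModule X ⟶ L) (x : X)
    (hx : x ∉ CohB1.genLocus L s) : x ∈ CohB1.support (cokernel s) := by
  by_contra hxs
  obtain ⟨V, hxV, l, hl⟩ := (isInvertible_iff_exists_isGen L).1 hL x
  have h1 := (not_mem_support_cokernel_iff_mem_basicOpen (isGen_one V) hl s x hxV).1 hxs
  have h2 : coef hl s (toSec V 1) = coord hl le_rfl (rs L le_top (sec s)) := by
    unfold coef
    rw [app_toSec, one_smul]
  rw [h2, ← genLocus_inf_eq hl s] at h1
  exact hx h1.1

end Global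

end Groth.Agent.Lib.InvMap54
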