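import Groth.Agent.Lib.DegCurve54
import Groth.Agent.Lib.InvMap54b
import Groth.Agent.Lib.H90InvertibleFP

/-!
# Degrees of invertible modules on integral proper curves (helper54; campaign K2a)

Namespace `Groth.Agent.Lib.DegCurve54b`.  `H : ProperFinHyp.Hyp` is the statement of S0002.
For `X` integral, proper over a field `k`, of dimension one, and a NONZERO map `φ : N ⟶ L` of invertible modules:
`deg_le_and_isIso` (= S1521), `deg_nonneg` (= S1518), `deg_pos` (= S1519), `iso_structure_of_deg_le` (= S1520).
-/

set_option autoImplicit false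
universe u

open CategoryTheory CategoryTheory.Limits AlgebraicGeometry TopologicalSpace Opposite

namespace Groth.Agent.Lib.DegCurve54b

open Groth.Agent.Lib.EulerChar54 Groth.Agent.Lib.ProperFinHyp Groth.Agent.Lib.DegCurve54
open Groth.Agent.Lib.InvMap54 Groth.Agent.Lib.H90Invertible

theorem deg_structureModule (k : Type u) [Field k] (X : Scheme.{u}) [X.Over (Spec (CommRingCat.of k))] :
    Curv2.deg k X (Coh.structureModule X) 1 = 0 := by
  unfold Curv2.deg
  simp

variable (H : Hyp.{u}) (k : Type u) [Field k] (X : Scheme.{u}) [X.Over (Spec (CommRingCat.of k))]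
  [IsIntegral X] [IsProper (X ↘ (Spec (CommRingCat.of k)))] (hdim : topologicalKrullDim X = 1)
  {N L : X.Modules} (hN : PicF.IsInvertible N) (hL : PicF.IsInvertible L) (φ : N ⟶ L) (hφ : φ ≠ 0)

include H hdim hN hL hφ in
theorem deg_le_and_isIso :
    Curv2.deg k X N 1 ≤ Curv2.deg k X L 1 ∧ (Curv2.deg k X N 1 = Curv2.deg k X L 1 → IsIso φ) := by
  have hmono : Mono φ := mono_of_ne_zero hN hL φ hφ
  have hsupp := isClosed_singleton_of_mem_support_cokernel hN hL φ hdim.le hφ
  have hNc : Coh.IsCoh N := isCoh_of_isInvertible hN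
  have hLc : Coh.IsCoh L := isCoh_of_isInvertible hL
  exact ⟨deg_le H k X φ hNc hLc hsupp, fun h => isIso_of_deg_le H k X φ hNc hLc hsupp h.ge⟩

include H hdim hN hL hφ in
theorem deg_lt (x : X) (hx : x ∈ CohB1.support (cokernel φ)) :
    Curv2.deg k X N 1 < Curv2.deg k X L 1 := by
  have hmono : Mono φ := mono_of_ne_zero hN hL φ hφ
  have hsupp := isClosed_singleton_of_mem_support_cokernel hN hL φ hdim.le hφ
  exact deg_lt_of_mem_support H k X φ (isCoh_of_isInvertible hN) (isCoh_of_isInvertible hL) hsupp x hx

variable (s : Coh.structureModule X ⟶ L) (hs : s ≠ 0)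

include H hdim hL hs in
theorem deg_nonneg : 0 ≤ Curv2.deg k X L 1 := by
  rw [← deg_structureModule k X]
  exact (deg_le_and_isIso H k X hdim (isInvertible_structureModule X) hL s hs).1

include H hdim hL hs in
theorem deg_pos (x : X) (hx : x ∉ CohB1.genLocus L s) : 0 < Curv2.deg k X L 1 := by
  rw [← deg_structureModule k X]
  exact deg_lt H k X hdim (isInvertible_structureModule X) hL s hs x
    (mem_support_cokernel_of_not_mem_genLocus hL s x hx)

include H hdim hL hs in
theorem iso_structure_of_deg_le (hdeg : Curv2.deg k X L 1 ≤ 0) :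
    Nonempty (L ≅ Coh.structureModule X) := by
  have h := deg_le_and_isIso H k X hdim (isInvertible_structureModule X) hL s hs
  rw [deg_structureModule k X] at h
  have : IsIso s := h.2 (le_antisymm h.1 hdeg)
  exact ⟨(asIso s).symm⟩

end Groth.Agent.Lib.DegCurve54b
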