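import Groth.Agent.Lib.CurveVanishing54
import Groth.Agent.Lib.DegCurve54b

/-!
# Riemann–Roch on integral proper curves (helper54; campaign K2a)

Namespace `Groth.Agent.Lib.RiemannRoch54`.  `X` integral, proper over a field `k`, `topologicalKrullDim X ≤ 1`.
* `subsingleton_HH_add_two`: `H^{n+2}(X, F) = 0` for quasi-coherent `F` (from `Lib/CurveVanishing54`).
* `euler_eq_sub`: `χ(F) = h^0(F) - h^1(F)`.
* `riemann_roch`: `h^0(L) - h^1(L) = deg L + h^0(O) - g` (`deg = Curv2.deg · · · 1`, `g = Curv2.genus = h^1(O)`), any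
  quasi-coherent `L`.
* `exists_section_ne_zero`: `0 < h^0(L)` gives a nonzero `s : O ⟶ L`.
With `H : ProperFinHyp.Hyp` (= statement of S0002), `h^0(O) = 1`, genus `0`, `L` invertible:
* `iso_structure_of_genus_zero_of_deg_zero` (= S6540), `genus_zero_deg_pos` (= S1635).
KERNEL-SPEED NOTE: do arithmetic on `Module.finrank k (Coh.HH X _ _)` through auxiliary lemmas on abstract naturals
(`aux1`..`aux3`); rewriting + `lia` directly on these terms costs the kernel minutes.
-/

set_option autoImplicit false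
universe u
open CategoryTheory CategoryTheory.Limits AlgebraicGeometry Opposite TopologicalSpace

namespace Groth.Agent.Lib.RiemannRoch54

open Groth.Agent.Lib.EulerChar54 Groth.Agent.Lib.ProperFinHyp Groth.Agent.Lib.DegCurve54
open Groth.Agent.Lib.InvMap54 Groth.Agent.Lib.H90Invertible Groth.Agent.Lib.CohLES
open Groth.Agent.Lib.H78SecCoord Groth.Agent.Lib.EulerNat54

section NoHyp

variable (k : Type u) [Field k] (X : Scheme.{u}) [X.Over (Spec (CommRingCat.of k))]
  [IsIntegral X] [IsProper (X ↘ (Spec (CommRingCat.of k)))] (hdim : topologicalKrullDim X ≤ 1)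

include k hdim in
/-- quasi-coherent modules on an integral proper curve have no cohomology in degrees `≥ 2` -/
theorem subsingleton_HH_add_two (F : X.Modules) [F.IsQuasicoherent] (n : ℕ) :
    Subsingleton (Coh.HH X F (n + 2)) := by
  have : IsLocallyNoetherian X :=
    LocallyOfFiniteType.isLocallyNoetherian (X ↘ (Spec (CommRingCat.of k)))
  exact Groth.Agent.Lib.CurveVanishing54.subsingleton_HH_add_two
    (X ↘ (Spec (CommRingCat.of k))) hdim F n

include hdim in
/-- `χ(F) = h^0(F) - h^1(F)` on an integral proper curve -/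
theorem euler_eq_sub (F : X.Modules) [F.IsQuasicoherent] :
    Curv2.euler k X F =
      (Module.finrank k (Coh.HH X F 0) : ℤ) - (Module.finrank k (Coh.HH X F 1) : ℤ) := by
  rw [euler_eq_sum_range k X F 1 (fun i hi => by
    obtain ⟨n, rfl⟩ : ∃ n, i = n + 2 := ⟨i - 2, by lia⟩
    exact subsingleton_HH_add_two k X hdim F n)]
  simp [Finset.sum_range_succ, len_eq_finrank]
  ring

include hdim in
/-- **Riemann–Roch** on an integral proper curve over a field (the genus is `h^1(O)`) -/
theorem riemann_roch (L : X.Modules) [L.IsQuasicoherent] :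
    (Module.finrank k (Coh.HH X L 0) : ℤ) - (Module.finrank k (Coh.HH X L 1) : ℤ) =
      Curv2.deg k X L 1 + (Module.finrank k (Coh.HH X (Coh.structureModule X) 0) : ℤ) -
        (Curv2.genus k X : ℤ) := by
  have hO : (Coh.structureModule X).IsQuasicoherent :=
    (isCoh_of_isInvertible (isInvertible_structureModule X)).1
  unfold Curv2.deg Curv2.genus
  rw [euler_eq_sub k X hdim L, euler_eq_sub k X hdim (Coh.structureModule X)]
  push_cast
  ring

omit [IsIntegral X] [IsProper (X ↘ (Spec (CommRingCat.of k)))] in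
/-- a nonzero `H^0` gives a nonzero map from the structure sheaf -/
theorem exists_section_ne_zero (L : X.Modules) (h : 0 < Module.finrank k (Coh.HH X L 0)) :
    ∃ s : Coh.structureModule X ⟶ L, s ≠ 0 := by
  have hnt : Nontrivial (Coh.HH X L 0) := Module.nontrivial_of_finrank_pos (R := k) h
  obtain ⟨a, ha⟩ := exists_ne (0 : Coh.HH X L 0)
  refine ⟨ofSection (Groth.Agent.Lib.H4Twist.h0Equiv L a), fun hs => ha ?_⟩
  have h1 : sec (ofSection (Groth.Agent.Lib.H4Twist.h0Equiv L a)) = 0 := by
    rw [hs]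
    change (0 : Coh.structureModule X ⟶ L).app ⊤ _ = 0
    rw [Scheme.Modules.Hom.zero_app]
    rfl
  rw [sec_ofSection] at h1
  exact (Groth.Agent.Lib.H4Twist.h0Equiv L).map_eq_zero_iff.mp h1

end NoHyp

section WithHyp

lemma aux1 (a b : ℕ) (D : ℤ) (c g : ℕ) (hrr : (a : ℤ) - b = D + c - g) (hD : D = 0) (hc : c = 1)
    (hg : g = 0) : 0 < a := by lia

lemma aux2 (a b : ℕ) (D : ℤ) (c g d : ℕ) (hrr : (a : ℤ) - b = D + c - g) (hD : D = d) (hc : c = 1)
    (hg : g = 0) : 0 < a := by lia

lemma aux3 (a b : ℕ) (D : ℤ) (c g d : ℕ) (hrr : (a : ℤ) - b = D + c - g) (hD : D = d) (hc : c = 1)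
    (hg : g = 0) (hb : b = 0) : a = d + 1 := by lia

variable (H : Hyp.{u}) (k : Type u) [Field k] (X : Scheme.{u}) [X.Over (Spec (CommRingCat.of k))]
  [IsIntegral X] [IsProper (X ↘ (Spec (CommRingCat.of k)))] (hdim : topologicalKrullDim X = 1)
  (h0 : Module.finrank k (Coh.HH X (Coh.structureModule X) 0) = 1) (hg : Curv2.genus k X = 0)
  {L : X.Modules} (hL : PicF.IsInvertible L)

include H hdim h0 hg hL in
/-- genus zero, degree zero: trivial (= S6540) -/
theorem iso_structure_of_genus_zero_of_deg_zero (hdeg : Curv2.deg k X L 1 = 0) :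
    Nonempty (L ≅ Coh.structureModule X) := by
  have hq : L.IsQuasicoherent := (isCoh_of_isInvertible hL).1
  have hrr := riemann_roch k X hdim.le L
  have hpos : 0 < Module.finrank k (Coh.HH X L 0) := aux1 _ _ _ _ _ hrr hdeg h0 hg
  obtain ⟨s, hs⟩ := exists_section_ne_zero k X L hpos
  exact Groth.Agent.Lib.DegCurve54b.iso_structure_of_deg_le H k X hdim hL s hs hdeg.le

include H hdim h0 hg hL in
/-- genus zero, positive degree `d`: `h^0 = d + 1`, `h^1 = 0` (= S1635) -/
theorem genus_zero_deg_pos (d : ℕ) (hdeg : Curv2.deg k X L 1 = d) :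
    Module.finrank k (Coh.HH X L 0) = d + 1 ∧ Subsingleton (Coh.HH X L 1) := by
  have hLc : Coh.IsCoh L := isCoh_of_isInvertible hL
  have hq : L.IsQuasicoherent := hLc.1
  have hOinv := isInvertible_structureModule X
  have hOc : Coh.IsCoh (Coh.structureModule X) := isCoh_of_isInvertible hOinv
  have hrr := riemann_roch k X hdim.le L
  have hpos : 0 < Module.finrank k (Coh.HH X L 0) := aux2 _ _ _ _ _ d hrr hdeg h0 hg
  obtain ⟨s, hs⟩ := exists_section_ne_zero k X L hpos
  have hmono : Mono s := mono_of_ne_zero hOinv hL s hs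
  have hsupp := isClosed_singleton_of_mem_support_cokernel hOinv hL s hdim.le hs
  have : IsLocallyNoetherian X :=
    LocallyOfFiniteType.isLocallyNoetherian (X ↘ (Spec (CommRingCat.of k)))
  have hOq : (Coh.structureModule X).IsQuasicoherent := hOc.1
  have hQ : Coh.IsCoh (cokernel s) := Groth.Agent.Lib.H90OXModExact.isCoh_cokernel s hLc
  have hS : (ShortComplex.mk s (cokernel.π s) (cokernel.condition s)).ShortExact :=
    { exact := ShortComplex.exact_cokernel s }
  have hQ1 : Subsingleton (Coh.HH X (cokernel s) 1) :=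
    Groth.Agent.S0047.result X _ hQ hsupp 1 Nat.one_pos
  have hfin : Module.Finite k (Coh.HH X (Coh.structureModule X) 1) := H k X _ hOc 1
  have hO1 : Subsingleton (Coh.HH X (Coh.structureModule X) 1) :=
    Module.finrank_zero_iff.mp hg
  have hL1 : Subsingleton (Coh.HH X L 1) := by
    refine subsingleton_of_forall_eq 0 fun z => ?_
    obtain ⟨y, rfl⟩ := exact₂ hS 1 z (Subsingleton.elim _ _)
    rw [Subsingleton.elim y 0, map_zero]
  exact ⟨aux3 _ _ _ _ _ d hrr hdeg h0 hg Module.finrank_zero_of_subsingleton, hL1⟩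

end WithHyp

end Groth.Agent.Lib.RiemannRoch54
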