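import Groth.Agent.Lib.DegCurve54b
import Groth.Agent.Lib.DegAdd54
import Groth.Agent.Lib.RiemannRoch54

/-!
# Invertible submodules of modules on integral proper curves (helper54; campaign K6)

Namespace `Groth.Agent.Lib.CurveVB54`.  `H : ProperFinHyp.Hyp` is the statement of S0002.

* `deg_le_of_mono`: `deg M ≤ h^0(E) - χ(O)` for a quasi-coherent submodule `M` of a coherent `E` (S11826).
* `not_isZero_of_isInvertible`; `iso_or_comp_ne_zero`: for a short exact `0 → L → E → Q → 0` with `L` invertible and an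
  invertible submodule `j : N → E` with invertible cokernel: either `N = L` as subobjects or `j ≫ g ≠ 0`.
* `iso_or_deg_le` (S11827), `deg_eq_add_cokernel`, `exists_iso_of_destabilising` (S11816), `nonempty_biprod_iso` (S11830),
  `isIso_of_ne_zero_of_ne_zero`, `krullSchmidt_two` (S11829).
-/

set_option autoImplicit false
universe u

open CategoryTheory CategoryTheory.Limits AlgebraicGeometry TopologicalSpace Opposite

namespace Groth.Agent.Lib.CurveVB54

open Groth.Agent.Lib.EulerChar54 Groth.Agent.Lib.ProperFinHyp Groth.Agent.Lib.DegCurve54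
open Groth.Agent.Lib.InvMap54 Groth.Agent.Lib.H90Invertible Groth.Agent.Lib.CohLES

section Bound

lemma auxB (a b e : ℕ) (χ χO : ℤ) (h1 : χ = (a : ℤ) - b) (h2 : a ≤ e) :
    χ - ((1 : ℕ) : ℤ) * χO ≤ (e : ℤ) - χO := by
  push_cast
  lia

variable (H : Hyp.{u}) (k : Type u) [Field k] (X : Scheme.{u}) [X.Over (Spec (CommRingCat.of k))]
  [IsIntegral X] [IsProper (X ↘ (Spec (CommRingCat.of k)))] (hdim : topologicalKrullDim X ≤ 1)

include H hdim in
/-- the degree of a quasi-coherent submodule of a coherent module is bounded by `h^0(E) - χ(O)` -/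
theorem deg_le_of_mono {M E : X.Modules} [M.IsQuasicoherent] (hE : Coh.IsCoh E) (i : M ⟶ E) [Mono i] :
    Curv2.deg k X M 1 ≤ (Module.finrank k (Coh.HH X E 0) : ℤ) - Curv2.euler k X (Coh.structureModule X) := by
  have hS : (ShortComplex.mk i (cokernel.π i) (cokernel.condition i)).ShortExact :=
    { exact := ShortComplex.exact_cokernel i }
  have hinj : Function.Injective (mapₗ k i 0) := map_f_injective_zero hS
  have hfin : Module.Finite k (Coh.HH X E 0) := H k X _ hE 0
  have hle := LinearMap.finrank_le_finrank_of_injective hinj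
  have he := Groth.Agent.Lib.RiemannRoch54.euler_eq_sub k X hdim M
  exact auxB _ _ _ _ _ he hle

end Bound

section Sub

variable {X : Scheme.{u}} [IsIntegral X]

omit [IsIntegral X] in
/-- an invertible module on a nonempty scheme is not zero -/
theorem not_isZero_of_isInvertible [Nonempty X] {N : X.Modules} (hN : PicF.IsInvertible N) : ¬ IsZero N := by
  intro hz
  obtain ⟨x⟩ := ‹Nonempty X›
  obtain ⟨U, hxU, ⟨e⟩⟩ :=
    ((Groth.Agent.Lib.H90Invertible.isInvertible_iff_isFinLocFreeOfRank_one N).mp hN) x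
  have h1 := Groth.Agent.Lib.SemilocalFree.finrank_stalk_eq_of_restrict_iso U e ⟨x, hxU⟩
  have hz' : IsZero ((Groth.Agent.Lib.ModStalk.stalkFunctor x).obj N) :=
    (Groth.Agent.Lib.ModStalk.stalkFunctor x).map_isZero hz
  have hsub : Subsingleton (N.presheaf.stalk x) := AddCommGrpCat.subsingleton_of_isZero hz'
  rw [Module.finrank_zero_of_subsingleton] at h1
  exact zero_ne_one h1

/-- **dichotomy for saturated invertible submodules**: in a short exact sequence `0 → L → E → Q → 0` with `L` and `Q`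
invertible on an integral scheme, an invertible submodule `j : N → E` with invertible cokernel either coincides with `L`
or maps nontrivially to `Q` -/
theorem iso_or_comp_ne_zero (S : ShortComplex X.Modules) (hS : S.ShortExact)
    (hL : PicF.IsInvertible S.X₁)
    {N : X.Modules} (hN : PicF.IsInvertible N) (j : N ⟶ S.X₂) [Mono j] (hq : PicF.IsInvertible (cokernel j)) :
    (∃ φ : N ≅ S.X₁, φ.hom ≫ S.f = j) ∨ j ≫ S.g ≠ 0 := by
  by_cases h : j ≫ S.g = 0
  · left
    have := hS.mono_f
    -- `j` factors through `L`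
    let ψ : N ⟶ S.X₁ := hS.exact.lift j h
    have hψ : ψ ≫ S.f = j := hS.exact.lift_f j h
    have hψm : Mono ψ := mono_of_mono_fac hψ
    -- `L → E → E/N` is not mono, hence zero
    have hz : S.f ≫ cokernel.π j = 0 := by
      by_contra hne
      have hm : Mono (S.f ≫ cokernel.π j) := mono_of_ne_zero hL hq _ hne
      have h0 : ψ ≫ (S.f ≫ cokernel.π j) = 0 := by
        rw [← Category.assoc, hψ, cokernel.condition]
      have hψ0 : ψ = 0 := by
        rw [← cancel_mono (S.f ≫ cokernel.π j), h0, zero_comp]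
      have hj0 : j = 0 := by rw [← hψ, hψ0, zero_comp]
      exact not_isZero_of_isInvertible hN (IsZero.of_mono_eq_zero j hj0)
    -- so `L → E` factors through `N = ker (E → E/N)`
    have hSj : (ShortComplex.mk j (cokernel.π j) (cokernel.condition j)).ShortExact :=
      { exact := ShortComplex.exact_cokernel j }
    let θ : S.X₁ ⟶ N := hSj.exact.lift S.f hz
    have hθ : θ ≫ j = S.f := hSj.exact.lift_f S.f hz
    refine ⟨⟨ψ, θ, ?_, ?_⟩, hψ⟩
    · rw [← cancel_mono j, Category.assoc, hθ, hψ, Category.id_comp]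
    · rw [← cancel_mono S.f, Category.assoc, hψ, hθ, Category.id_comp]
  · exact Or.inr h

end Sub

section Deg

lemma auxD1 (e m m' q : ℤ) (hadd : e = m + q) (hle : m' ≤ q) (hd : e < 2 * m) (hd' : e < 2 * m') : False := by
  lia

lemma auxD2 (e l l' q : ℤ) (hadd : e = l + q) (hd : 2 * l = e) (hd' : 2 * l' = e) : l' = q := by lia

variable (H : Hyp.{u}) (k : Type u) [Field k] (X : Scheme.{u}) [X.Over (Spec (CommRingCat.of k))]
  [IsIntegral X] [IsProper (X ↘ (Spec (CommRingCat.of k)))] (hdim : topologicalKrullDim X = 1)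

include H hdim in
/-- S11827 -/
theorem iso_or_deg_le (S : ShortComplex X.Modules) (hS : S.ShortExact)
    (hL : PicF.IsInvertible S.X₁) (hM : PicF.IsInvertible S.X₃)
    {N : X.Modules} (hN : PicF.IsInvertible N) (j : N ⟶ S.X₂) [Mono j] (hq : PicF.IsInvertible (cokernel j)) :
    (∃ φ : N ≅ S.X₁, φ.hom ≫ S.f = j) ∨ Curv2.deg k X N 1 ≤ Curv2.deg k X S.X₃ 1 := by
  rcases iso_or_comp_ne_zero S hS hL hN j hq with h | h
  · exact Or.inl h
  · exact Or.inr (Groth.Agent.Lib.DegCurve54b.deg_le_and_isIso H k X hdim hN hM _ h).1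

omit [IsIntegral X] in
include H in
/-- additivity of degrees for an invertible submodule with invertible quotient of a rank two module -/
theorem deg_eq_add_cokernel {E M : X.Modules} (hE : FlatMod.IsFinLocFreeOfRank 2 E) (hM : PicF.IsInvertible M)
    (i : M ⟶ E) [Mono i] (hq : PicF.IsInvertible (cokernel i)) :
    Curv2.deg k X E 2 = Curv2.deg k X M 1 + Curv2.deg k X (cokernel i) 1 := by
  have hS : (ShortComplex.mk i (cokernel.π i) (cokernel.condition i)).ShortExact :=
    { exact := ShortComplex.exact_cokernel i }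
  exact Groth.Agent.Lib.DegAdd54.deg_add H k X _ hS 1 2 1
    ((isInvertible_iff_isFinLocFreeOfRank_one M).mp hM) hE
    ((isInvertible_iff_isFinLocFreeOfRank_one (cokernel i)).mp hq)

include H hdim in
/-- S11816: a destabilising saturated invertible submodule of a rank two module is unique -/
theorem exists_iso_of_destabilising {E M M' : X.Modules} (hE : FlatMod.IsFinLocFreeOfRank 2 E)
    (hM : PicF.IsInvertible M) (hM' : PicF.IsInvertible M')
    (i : M ⟶ E) (i' : M' ⟶ E) [Mono i] [Mono i']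
    (hq : PicF.IsInvertible (cokernel i)) (hq' : PicF.IsInvertible (cokernel i'))
    (hd : Curv2.deg k X E 2 < 2 * Curv2.deg k X M 1) (hd' : Curv2.deg k X E 2 < 2 * Curv2.deg k X M' 1) :
    ∃ φ : M ≅ M', φ.hom ≫ i' = i := by
  have hS : (ShortComplex.mk i (cokernel.π i) (cokernel.condition i)).ShortExact :=
    { exact := ShortComplex.exact_cokernel i }
  rcases iso_or_deg_le H k X hdim _ hS hM hq hM' i' hq' with ⟨φ, hφ⟩ | h
  · refine ⟨φ.symm, ?_⟩
    change φ.inv ≫ i' = i
    rw [← hφ]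
    change φ.inv ≫ φ.hom ≫ i = i
    rw [Iso.inv_hom_id_assoc]
  · exact (auxD1 _ _ _ _ (deg_eq_add_cokernel H k X hE hM i hq) h hd hd').elim

include H hdim in
/-- S11830 -/
theorem nonempty_biprod_iso {E L L' : X.Modules} (hE : FlatMod.IsFinLocFreeOfRank 2 E)
    (hL : PicF.IsInvertible L) (hL' : PicF.IsInvertible L')
    (i : L ⟶ E) (i' : L' ⟶ E) [Mono i] [Mono i']
    (hq : PicF.IsInvertible (cokernel i)) (hq' : PicF.IsInvertible (cokernel i'))
    (hd : 2 * Curv2.deg k X L 1 = Curv2.deg k X E 2) (hd' : 2 * Curv2.deg k X L' 1 = Curv2.deg k X E 2) :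
    Nonempty (L ⊞ cokernel i ≅ L' ⊞ cokernel i') := by
  have hS : (ShortComplex.mk i (cokernel.π i) (cokernel.condition i)).ShortExact :=
    { exact := ShortComplex.exact_cokernel i }
  have hS' : (ShortComplex.mk i' (cokernel.π i') (cokernel.condition i')).ShortExact :=
    { exact := ShortComplex.exact_cokernel i' }
  have key : ∀ (φ : L' ≅ L), φ.hom ≫ i = i' → Nonempty (L ⊞ cokernel i ≅ L' ⊞ cokernel i') := by
    intro φ hφ
    have h1 : i ≫ cokernel.π i' = 0 := by
      have : i = φ.inv ≫ i' := by rw [← hφ, Iso.inv_hom_id_assoc]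
      rw [this, Category.assoc, cokernel.condition, comp_zero]
    have h2 : i' ≫ cokernel.π i = 0 := by
      rw [← hφ, Category.assoc, cokernel.condition, comp_zero]
    let a : cokernel i ⟶ cokernel i' := cokernel.desc i (cokernel.π i') h1
    let b : cokernel i' ⟶ cokernel i := cokernel.desc i' (cokernel.π i) h2
    have hab : a ≫ b = 𝟙 _ := by
      rw [← cancel_epi (cokernel.π i)]
      simp [a, b]
    have hba : b ≫ a = 𝟙 _ := by
      rw [← cancel_epi (cokernel.π i')]
      simp [a, b]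
    exact ⟨biprod.mapIso φ.symm ⟨a, b, hab, hba⟩⟩
  rcases iso_or_comp_ne_zero _ hS hL hL' i' hq' with ⟨φ, hφ⟩ | h
  · exact key φ hφ
  rcases iso_or_comp_ne_zero _ hS' hL' hL i hq with ⟨φ, hφ⟩ | h'
  · exact key φ.symm (by
      change φ.inv ≫ i = i'
      rw [← hφ]
      change φ.inv ≫ φ.hom ≫ i' = i'
      rw [Iso.inv_hom_id_assoc])
  · -- both composites are nonzero maps of invertible modules of the same degree, hence isomorphisms
    have e1 := deg_eq_add_cokernel H k X hE hL i hq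
    have e2 := deg_eq_add_cokernel H k X hE hL' i' hq'
    have d1 : Curv2.deg k X L' 1 = Curv2.deg k X (cokernel i) 1 := auxD2 _ _ _ _ e1 hd hd'
    have d2 : Curv2.deg k X L 1 = Curv2.deg k X (cokernel i') 1 := auxD2 _ _ _ _ e2 hd' hd
    have I1 : IsIso (i' ≫ cokernel.π i) :=
      (Groth.Agent.Lib.DegCurve54b.deg_le_and_isIso H k X hdim hL' hq _ h).2 d1
    have I2 : IsIso (i ≫ cokernel.π i') :=
      (Groth.Agent.Lib.DegCurve54b.deg_le_and_isIso H k X hdim hL hq' _ h').2 d2
    exact ⟨biprod.mapIso (asIso (i ≫ cokernel.π i')) (asIso (i' ≫ cokernel.π i)).symm ≪≫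
      biprod.braiding _ _⟩

include H k hdim in
/-- a nonzero map between invertible modules admitting a nonzero map backwards is an isomorphism -/
theorem isIso_of_ne_zero_of_ne_zero {L M : X.Modules} (hL : PicF.IsInvertible L) (hM : PicF.IsInvertible M)
    (a : L ⟶ M) (a' : M ⟶ L) (ha : a ≠ 0) (ha' : a' ≠ 0) : IsIso a := by
  have h1 := Groth.Agent.Lib.DegCurve54b.deg_le_and_isIso H k X hdim hL hM a ha
  have h2 := Groth.Agent.Lib.DegCurve54b.deg_le_and_isIso H k X hdim hM hL a' ha'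
  exact h1.2 (le_antisymm h1.1 h2.1)

include H k hdim in
/-- S11829: Krull–Schmidt for sums of two invertible modules -/
theorem krullSchmidt_two {L₁ L₂ M₁ M₂ : X.Modules} (h₁ : PicF.IsInvertible L₁)
    (h₃ : PicF.IsInvertible M₁) (h₄ : PicF.IsInvertible M₂) (e : L₁ ⊞ L₂ ≅ M₁ ⊞ M₂) :
    (Nonempty (L₁ ≅ M₁) ∧ Nonempty (L₂ ≅ M₂)) ∨ (Nonempty (L₁ ≅ M₂) ∧ Nonempty (L₂ ≅ M₁)) := by
  have hid : (biprod.inl ≫ e.hom ≫ biprod.fst) ≫ (biprod.inl ≫ e.inv ≫ biprod.fst) +
      (biprod.inl ≫ e.hom ≫ biprod.snd) ≫ (biprod.inr ≫ e.inv ≫ biprod.fst) = 𝟙 L₁ := by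
    have : (biprod.inl ≫ e.hom) ≫ (biprod.fst ≫ biprod.inl + biprod.snd ≫ biprod.inr) ≫ (e.inv ≫ biprod.fst) =
        𝟙 L₁ := by
      rw [biprod.total]
      simp
    rw [← this]
    simp only [Preadditive.add_comp, Preadditive.comp_add, Category.assoc]
  have hne : 𝟙 L₁ ≠ 0 := fun h0 =>
    not_isZero_of_isInvertible h₁ ((IsZero.iff_id_eq_zero L₁).mpr h0)
  have hor : (biprod.inl ≫ e.hom ≫ biprod.fst) ≫ (biprod.inl ≫ e.inv ≫ biprod.fst) ≠ 0 ∨
      (biprod.inl ≫ e.hom ≫ biprod.snd) ≫ (biprod.inr ≫ e.inv ≫ biprod.fst) ≠ 0 := by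
    by_contra hcon
    rw [not_or, not_not, not_not] at hcon
    rw [hcon.1, hcon.2, add_zero] at hid
    exact hne hid.symm
  rcases hor with h | h
  · have ha : biprod.inl ≫ e.hom ≫ biprod.fst ≠ 0 := fun h0 => h (by rw [h0, zero_comp])
    have ha' : biprod.inl ≫ e.inv ≫ biprod.fst ≠ 0 := fun h0 => h (by rw [h0, comp_zero])
    have I : IsIso (biprod.inl ≫ e.hom ≫ biprod.fst) :=
      isIso_of_ne_zero_of_ne_zero H k X hdim h₁ h₃ _ _ ha ha'
    exact Or.inl ⟨⟨asIso (biprod.inl ≫ e.hom ≫ biprod.fst)⟩, ⟨Biprod.isoElim e⟩⟩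
  · have hb : biprod.inl ≫ e.hom ≫ biprod.snd ≠ 0 := fun h0 => h (by rw [h0, zero_comp])
    have hb' : biprod.inr ≫ e.inv ≫ biprod.fst ≠ 0 := fun h0 => h (by rw [h0, comp_zero])
    have I : IsIso (biprod.inl ≫ e.hom ≫ biprod.snd) :=
      isIso_of_ne_zero_of_ne_zero H k X hdim h₁ h₄ _ _ hb hb'
    have I' : IsIso (biprod.inl ≫ (e ≪≫ biprod.braiding M₁ M₂).hom ≫ biprod.fst) := by
      have : biprod.inl ≫ (e ≪≫ biprod.braiding M₁ M₂).hom ≫ biprod.fst =
          biprod.inl ≫ e.hom ≫ biprod.snd := by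
        simp
      rw [this]
      exact I
    exact Or.inr ⟨⟨asIso (biprod.inl ≫ e.hom ≫ biprod.snd)⟩,
      ⟨Biprod.isoElim (e ≪≫ biprod.braiding M₁ M₂)⟩⟩

end Deg

end Groth.Agent.Lib.CurveVB54
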