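/-
# helper78: Serre vanishing for an ample invertible module on a scheme proper over a Noetherian ring

* `exists_closedImmersion_pow` : `f : X ⟶ Spec R` proper, `L` ample ⇒ some `L^{⊗ d}`, `d > 0`, is `j^* O(1)` for a closed
  immersion `j : X ⟶ P^N_R`;
* `serre_vanishing_of_isAmple` : `R` Noetherian, `M` coherent ⇒ `H^p(X, M ⊗ L^{⊗ n}) = 0` for all `p > 0`, `n ≥ n₀`.
-/
import Groth.Agent.Lib.H78AtlasIso
import Groth.Agent.Lib.ProjOfAmpleH3
import Groth.Agent.Lib.SerreVanClosed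
import Groth.Agent.Lib.H90TwistBC

set_option autoImplicit false
set_option linter.style.haveILetI false
universe u
open CategoryTheory CategoryTheory.Limits AlgebraicGeometry TopologicalSpace Opposite
open Groth.Agent.Lib.VeryAmpleH3 Groth.Agent.Lib.ProjOfAmpleH3 Groth.Agent.Lib.OXModTensor Groth.Agent.Lib.CohLES

namespace Groth.Agent.Lib.H78SerreVan

attribute [local instance] ULift.algebra'

variable {R : Type u} [CommRing R] {X : Scheme.{u}} (f : X ⟶ Spec (CommRingCat.of R)) [IsProper f]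
  {L : X.Modules}

include f in
/-- ample on a scheme proper over `Spec R`: some positive power is the pullback of `O(1)` along a closed immersion into
`P^N_R` -/
theorem exists_closedImmersion_pow (hL : CohB1.IsAmple L) :
    ∃ (d N : ℕ) (j : X ⟶ CohB1.ProjSpace N R), 0 < d ∧ IsClosedImmersion j ∧
      Nonempty (CohB1.tensorPow L d ≅ (Scheme.Modules.pullback j).obj (Twist.twistProjSpace N R 1)) := by
  obtain ⟨n₀, hn₀⟩ := Groth.Agent.Lib.VeryAmplePowH3.exists_forall_isRelVeryAmplePn_tensorPow f hL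
  obtain ⟨N, i, himm, hif, ⟨φ⟩⟩ := hn₀ (n₀ + 1) (Nat.le_succ _)
  have hif' : i ≫ sndP N (Spec (CommRingCat.of R)) = f := hif
  haveI : UniversallyClosed (i ≫ sndP N (Spec (CommRingCat.of R))) := by rw [hif']; infer_instance
  haveI : UniversallyClosed i := UniversallyClosed.of_comp_of_isSeparated i (sndP N _)
  haveI : IsClosedImmersion i := IsClosedImmersion.of_isPreimmersion i i.isClosedMap.isClosed_range
  obtain ⟨j, hj⟩ : ∃ j : X ⟶ CohB1.ProjSpace N R, j = i ≫ (projSpaceIso N R).inv := ⟨_, rfl⟩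
  have hjc : IsClosedImmersion j := by rw [hj]; infer_instance
  refine ⟨n₀ + 1, N, j, Nat.succ_pos _, hjc, ?_⟩
  obtain ⟨e₁⟩ := Groth.Agent.Lib.H90ProjBC.nonempty_pullback_twist_iso N ZZ.{u} R 1
  have hβ : j ≫ Groth.Agent.Lib.H90ProjBC.β N ZZ.{u} R = i ≫ fstP N (Spec (CommRingCat.of R)) := by
    have h1 : (projSpaceIso N R).hom ≫ fstP N (Spec (CommRingCat.of R)) = Groth.Agent.Lib.H90ProjBC.β N ZZ.{u} R :=
      (isPullback_projSpace N R).isoPullback_hom_fst
    have h2 : (projSpaceIso N R).inv ≫ Groth.Agent.Lib.H90ProjBC.β N ZZ.{u} R =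
        fstP N (Spec (CommRingCat.of R)) := by
      rw [Iso.inv_comp_eq]; exact h1.symm
    rw [hj]
    exact (Category.assoc _ _ _).trans (congrArg (fun t => i ≫ t) h2)
  have e₁' : (Scheme.Modules.pullback (Groth.Agent.Lib.H90ProjBC.β N ZZ.{u} R)).obj
      (Twist.twistProjSpace N ZZ.{u} 1) ≅ Twist.twistProjSpace N R 1 := by
    have := e₁
    simpa using this
  refine ⟨φ ≪≫ ?_⟩
  exact (Scheme.Modules.pullbackComp i (fstP N (Spec (CommRingCat.of R)))).app (Twist.twistProjSpace N ZZ.{u} 1) ≪≫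
    (Scheme.Modules.pullbackCongr hβ.symm).app (Twist.twistProjSpace N ZZ.{u} 1) ≪≫
    ((Scheme.Modules.pullbackComp j (Groth.Agent.Lib.H90ProjBC.β N ZZ.{u} R)).app
      (Twist.twistProjSpace N ZZ.{u} 1)).symm ≪≫
    (Scheme.Modules.pullback j).mapIso e₁'

include f in
/-- **Serre vanishing** for an ample invertible module on a scheme proper over a Noetherian ring -/
theorem serre_vanishing_of_isAmple [IsNoetherianRing R] (hL : CohB1.IsAmple L) (M : X.Modules)
    (hM : Coh.IsCoh M) :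
    ∃ n₀ : ℕ, ∀ n, n₀ ≤ n → ∀ p : ℕ, 0 < p →
      Subsingleton (Coh.HH X (CohB1.tensorMod M (CohB1.tensorPow L n)) p) := by
  obtain ⟨d, N, j, hd, hj, ⟨ψ⟩⟩ := exists_closedImmersion_pow f hL
  haveI := hj
  have hLc : Coh.IsCoh L := Groth.Agent.Lib.H90Invertible.isCoh_of_isInvertible hL.1
  have hO1 : PicF.IsInvertible (Twist.twistProjSpace N R 1) :=
    Groth.Agent.Lib.H4Twist.isInvertible_twistProjSpace N R 1
  have isoPow : ∀ k : ℕ, Nonempty (CohB1.tensorPow L (d * k) ≅
      (Scheme.Modules.pullback j).obj (Twist.twistProjSpace N R (k : ℤ))) := by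
    intro k
    obtain ⟨e₂⟩ := Groth.Agent.Lib.H78AtlasIso.nonempty_pullback_tensorPow_iso j hO1 k
    obtain ⟨e₃⟩ := Groth.Agent.Lib.SerreVanPN.nonempty_powIso N R k
    exact ⟨(tensorPowMul L d k).symm ≪≫ tensorPowIso ψ k ≪≫ e₂.symm ≪≫ (Scheme.Modules.pullback j).mapIso e₃⟩
  have key : ∀ r : ℕ, ∃ k₀ : ℕ, ∀ k, k₀ ≤ k → ∀ p : ℕ, 0 < p →
      Subsingleton (Coh.HH X (CohB1.tensorMod (CohB1.tensorMod M (CohB1.tensorPow L r))
        (CohB1.tensorPow L (d * k))) p) := by
    intro r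
    obtain ⟨d₀, h⟩ := Groth.Agent.Lib.SerreVanClosed.serre_vanishing_of_finite N R j
      (CohB1.tensorMod M (CohB1.tensorPow L r))
      (Groth.Agent.Lib.CohFinAmple.isCoh_tensorMod hM (Groth.Agent.Lib.CohFinAmple.isCoh_tensorPow hLc r))
    refine ⟨d₀.toNat, fun k hk p hp => ?_⟩
    have hk' : d₀ ≤ (k : ℤ) := by
      have := Int.self_le_toNat d₀
      omega
    haveI := h (k : ℤ) hk' p hp
    obtain ⟨e⟩ := isoPow k
    exact subsingleton_of_iso (tensorModIso (Iso.refl (CohB1.tensorMod M (CohB1.tensorPow L r))) e) p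
  choose k₀ hk₀ using key
  refine ⟨d * (Finset.range d).sup k₀, fun n hn p hp => ?_⟩
  have hr : n % d < d := Nat.mod_lt _ hd
  have hk : (Finset.range d).sup k₀ ≤ n / d := (Nat.le_div_iff_mul_le hd).2 (by rw [mul_comm]; exact hn)
  haveI := hk₀ (n % d) (n / d) ((Finset.le_sup (Finset.mem_range.2 hr)).trans hk) p hp
  have e : CohB1.tensorMod M (CohB1.tensorPow L n) ≅
      CohB1.tensorMod (CohB1.tensorMod M (CohB1.tensorPow L (n % d))) (CohB1.tensorPow L (d * (n / d))) :=
    tensorModIso (Iso.refl M)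
      (eqToIso (by rw [Nat.mod_add_div]) ≪≫ tensorPowAdd L (n % d) (d * (n / d))) ≪≫ (associator _ _ _).symm
  exact subsingleton_of_iso e p

end Groth.Agent.Lib.H78SerreVan
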