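import Groth.Agent.Lib.CohSigmaNeg

/-!
# Classes and sections of arbitrary coproducts come from finite sub-coproducts (helper4)

* `exists_finset_H_sigma`   : on a qcqs space, every class of `H^p(X, ∐ A)` is a finite sum of images of classes
  of the summands;
* `exists_finset_HH_sigma`  : the same for `Coh.HH X (∐ P) p`, `P : ι → X.Modules`, `X` a qcqs scheme;
* `exists_finset_sec_sigma` : sections of `∐ A` over a quasi-compact open of a quasi-separated space with a basis
  of quasi-compact opens are finite sums of images of sections of the summands;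
* `exists_finset_sections_sigma` : the same for `Γ(∐ P, U)`, `P : ι → X.Modules`, `U` a quasi-compact open of a
  quasi-separated scheme.
-/

set_option autoImplicit false
universe u
open CategoryTheory CategoryTheory.Limits AlgebraicGeometry Opposite TopologicalSpace
open Groth.Agent.Lib.FiltColimTop

namespace Groth.Agent.Lib.CohSigmaFin

section Abstract

variable {C : Type*} [Category C] [Preadditive C]

/-- the identity of a finite coproduct is the sum of the "projection then inclusion" maps -/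
lemma exists_total {J : Type*} [Fintype J] (Y : J → C) [HasCoproduct Y] :
    ∃ π : ∀ j, (∐ Y) ⟶ Y j, ∑ j, π j ≫ Sigma.ι Y j = 𝟙 (∐ Y) := by
  classical
  have hc := biconeIsBilimitOfColimitCoconeOfIsColimit (coproductIsCoproduct Y)
  exact ⟨fun j => (Bicone.ofColimitCocone (coproductIsCoproduct Y)).π j, IsBilimit.total hc⟩

end Abstract

section Top

variable {X : TopCat.{u}}

/-- `Sheaf.H.map` of a finite sum of morphisms -/
lemma H_map_sum {A B : CohTop.Ab X} {J : Type*} [Fintype J] (φ : J → (A ⟶ B)) (p : ℕ)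
    (x : Sheaf.H A p) : Sheaf.H.map (∑ j, φ j) p x = ∑ j, Sheaf.H.map (φ j) p x := by
  simp only [Sheaf.H.map_apply]
  rw [Abelian.Ext.mk₀_sum, Abelian.Ext.comp_sum]

lemma H_map_comp {A B D : CohTop.Ab X} (φ : A ⟶ B) (ψ : B ⟶ D) (p : ℕ) (x : Sheaf.H A p) :
    Sheaf.H.map (φ ≫ ψ) p x = Sheaf.H.map ψ p (Sheaf.H.map φ p x) := by
  simp only [Sheaf.H.map_apply]
  rw [Abelian.Ext.comp_assoc_of_second_deg_zero, Abelian.Ext.mk₀_comp_mk₀]

lemma H_map_id {A : CohTop.Ab X} (p : ℕ) (x : Sheaf.H A p) : Sheaf.H.map (𝟙 A) p x = x := by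
  rw [Sheaf.H.map_apply, Abelian.Ext.comp_mk₀_id]

/-- every class of a finite coproduct is a sum of images of classes of the summands -/
lemma exists_fintype_H_sigma {J : Type u} [Fintype J] (A : J → CohTop.Ab X) (p : ℕ)
    (x : Sheaf.H (∐ A) p) :
    ∃ y : ∀ j, Sheaf.H (A j) p, x = ∑ j, Sheaf.H.map (Sigma.ι A j) p (y j) := by
  obtain ⟨π, hπ⟩ := exists_total A
  refine ⟨fun j => Sheaf.H.map (π j) p x, ?_⟩
  conv_lhs => rw [← H_map_id p x, ← hπ, H_map_sum]
  exact Finset.sum_congr rfl fun j _ => H_map_comp _ _ p x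

/-- **On a qcqs space, every class of `H^p(X, ∐ A)` comes from a finite sub-coproduct.** -/
theorem exists_finset_H_sigma [CompactSpace X] [QuasiSeparatedSpace X]
    (hb : Opens.IsBasis (qc X)) {ι : Type u} (A : ι → CohTop.Ab X) (p : ℕ)
    (x : Sheaf.H (∐ A) p) :
    ∃ (s : Finset ι) (y : ∀ i, Sheaf.H (A i) p),
      x = ∑ i ∈ s, Sheaf.H.map (Sigma.ι A i) p (y i) := by
  classical
  obtain ⟨S, z, hz⟩ := H_surj hb _ _
    (CoproductsFromFiniteFiltered.isColimitFiniteSubproductsCocone A) p x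
  let B : S → CohTop.Ab X := fun j => A j.1.as
  let leg : (∐ B) ⟶ ∐ A := Sigma.desc fun j : S => Sigma.ι A j.1.as
  have hleg : (CoproductsFromFiniteFiltered.finiteSubcoproductsCocone A).ι.app S = leg := rfl
  have hx : x = Sheaf.H.map leg p (z : Sheaf.H (∐ B) p) := hz.symm
  obtain ⟨w, hw⟩ := exists_fintype_H_sigma B p z
  refine ⟨S.image Discrete.as, fun i => if h : Discrete.mk i ∈ S then w ⟨⟨i⟩, h⟩ else 0, ?_⟩
  rw [hx, hw, map_sum, Finset.sum_image (fun a _ b _ h => Discrete.ext h),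
    ← Finset.sum_coe_sort S]
  refine Finset.sum_congr rfl fun j _ => ?_
  rw [← H_map_comp]
  have h1 : Sigma.ι B j ≫ leg = Sigma.ι A j.1.as := Sigma.ι_desc _ _
  rw [h1]
  have h2 : Discrete.mk j.1.as ∈ S := j.2
  congr 1
  change w j = if h : Discrete.mk j.1.as ∈ S then w ⟨⟨j.1.as⟩, h⟩ else 0
  rw [dif_pos h2]

/-- evaluation of a finite sum of morphisms of abelian sheaves on a section -/
lemma sec_sum {A B : CohTop.Ab X} {J : Type*} [Fintype J] (φ : J → (A ⟶ B)) (U : Opens X)
    (t : A.obj.obj (op U)) :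
    (∑ j, φ j).hom.app (op U) t = ∑ j, (φ j).hom.app (op U) t := by
  classical
  let ev : (A ⟶ B) →+ B.obj.obj (op U) :=
    { toFun := fun ψ => ψ.hom.app (op U) t
      map_zero' := rfl
      map_add' := fun _ _ => rfl }
  exact map_sum ev φ Finset.univ

/-- every section of a finite coproduct is a sum of images of sections of the summands -/
lemma exists_fintype_sec_sigma {J : Type u} [Fintype J] (A : J → CohTop.Ab X) (U : Opens X)
    (t : (∐ A).obj.obj (op U)) :
    ∃ y : ∀ j, (A j).obj.obj (op U), t = ∑ j, (Sigma.ι A j).hom.app (op U) (y j) := by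
  obtain ⟨π, hπ⟩ := exists_total A
  refine ⟨fun j => (π j).hom.app (op U) t, ?_⟩
  have h1 : t = (𝟙 (∐ A) : (∐ A) ⟶ ∐ A).hom.app (op U) t := rfl
  conv_lhs => rw [h1, ← hπ, sec_sum]
  rfl

/-- **Sections of `∐ A` over a quasi-compact open come from a finite sub-coproduct.** -/
theorem exists_finset_sec_sigma [QuasiSeparatedSpace X]
    (hb : Opens.IsBasis (qc X)) {ι : Type u} (A : ι → CohTop.Ab X) (U : Opens X)
    (hU : IsCompact (U : Set X)) (x : (∐ A).obj.obj (op U)) :
    ∃ (s : Finset ι) (y : ∀ i, (A i).obj.obj (op U)),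
      x = ∑ i ∈ s, (Sigma.ι A i).hom.app (op U) (y i) := by
  classical
  obtain ⟨S, z, hz⟩ := (secColim_top hb _ _
    (CoproductsFromFiniteFiltered.isColimitFiniteSubproductsCocone A) U hU).surj x
  let B : S → CohTop.Ab X := fun j => A j.1.as
  let leg : (∐ B) ⟶ ∐ A := Sigma.desc fun j : S => Sigma.ι A j.1.as
  have hleg : (CoproductsFromFiniteFiltered.finiteSubcoproductsCocone A).ι.app S = leg := rfl
  have hx : x = leg.hom.app (op U) (z : (∐ B).obj.obj (op U)) := hz.symm
  obtain ⟨w, hw⟩ := exists_fintype_sec_sigma B U z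
  refine ⟨S.image Discrete.as, fun i => if h : Discrete.mk i ∈ S then w ⟨⟨i⟩, h⟩ else 0, ?_⟩
  rw [hx, hw, map_sum, Finset.sum_image (fun a _ b _ h => Discrete.ext h),
    ← Finset.sum_coe_sort S]
  refine Finset.sum_congr rfl fun j _ => ?_
  have h1 : Sigma.ι B j ≫ leg = Sigma.ι A j.1.as := Sigma.ι_desc _ _
  have h2 : Discrete.mk j.1.as ∈ S := j.2
  have h3 : leg.hom.app (op U) ((Sigma.ι B j).hom.app (op U) (w j)) =
      (Sigma.ι B j ≫ leg).hom.app (op U) (w j) := rfl
  rw [h3, h1]
  congr 1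
  change w j = if h : Discrete.mk j.1.as ∈ S then w ⟨⟨j.1.as⟩, h⟩ else 0
  rw [dif_pos h2]

end Top

section Scheme

variable {X : Scheme.{u}}

/-- **Every class of `H^p(X, ∐ P)` on a qcqs scheme is a finite sum of images of classes of the
summands.** -/
theorem exists_finset_HH_sigma [CompactSpace X] [QuasiSeparatedSpace X] {ι : Type u}
    (P : ι → X.Modules) (p : ℕ) (x : Coh.HH X (∐ P) p) :
    ∃ (s : Finset ι) (y : ∀ i, Coh.HH X (P i) p),
      x = ∑ i ∈ s, Sheaf.H.map ((SheafOfModules.toSheaf _).map (Sigma.ι P i)) p (y i) := by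
  let e : Coh.toAb (∐ P) ≅ ∐ fun j => Coh.toAb (P j) :=
    PreservesCoproduct.iso (SheafOfModules.toSheaf X.ringCatSheaf) P
  have : CompactSpace X.toTopCat := ‹CompactSpace X›
  have : QuasiSeparatedSpace X.toTopCat := ‹QuasiSeparatedSpace X›
  obtain ⟨s, y, hy⟩ := exists_finset_H_sigma (X := X.toTopCat) (Groth.Agent.S0043.isBasis_qc X)
    (fun j => Coh.toAb (P j)) p (Sheaf.H.map e.hom p x)
  refine ⟨s, y, ?_⟩
  have h1 : x = Sheaf.H.map e.inv p (Sheaf.H.map e.hom p x) := by
    rw [← H_map_comp, e.hom_inv_id, H_map_id]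
  rw [h1, hy, map_sum]
  refine Finset.sum_congr rfl fun i _ => ?_
  rw [← H_map_comp]
  have h2 : Sigma.ι (fun j => Coh.toAb (P j)) i ≫ e.inv =
      (SheafOfModules.toSheaf X.ringCatSheaf).map (Sigma.ι P i) :=
    ι_comp_sigmaComparison _ _ _
  rw [h2]

/-- **Sections of `∐ P` over a quasi-compact open of a quasi-separated scheme are finite sums of
images of sections of the summands.** -/
theorem exists_finset_sections_sigma [QuasiSeparatedSpace X] {ι : Type u}
    (P : ι → X.Modules) (U : X.Opens) (hU : IsCompact (U : Set X)) (x : Γ(∐ P, U)) :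
    ∃ (s : Finset ι) (y : ∀ i, Γ(P i, U)), x = ∑ i ∈ s, (Sigma.ι P i).app U (y i) := by
  let e : Coh.toAb (∐ P) ≅ ∐ fun j => Coh.toAb (P j) :=
    PreservesCoproduct.iso (SheafOfModules.toSheaf X.ringCatSheaf) P
  have : QuasiSeparatedSpace X.toTopCat := ‹QuasiSeparatedSpace X›
  obtain ⟨s, y, hy⟩ := exists_finset_sec_sigma (X := X.toTopCat) (Groth.Agent.S0043.isBasis_qc X)
    (fun j => Coh.toAb (P j)) U hU (e.hom.hom.app (op U) x)
  refine ⟨s, y, ?_⟩
  have h1 : x = e.inv.hom.app (op U) (e.hom.hom.app (op U) x) := by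
    have h := congrArg (fun φ => φ.hom.app (op U)) e.hom_inv_id
    exact (ConcreteCategory.congr_hom h x).symm
  rw [h1, hy, map_sum]
  refine Finset.sum_congr rfl fun i _ => ?_
  have h2 : Sigma.ι (fun j => Coh.toAb (P j)) i ≫ e.inv =
      (SheafOfModules.toSheaf X.ringCatSheaf).map (Sigma.ι P i) :=
    ι_comp_sigmaComparison _ _ _
  have h3 : e.inv.hom.app (op U) ((Sigma.ι (fun j => Coh.toAb (P j)) i).hom.app (op U) (y i)) =
      (Sigma.ι (fun j => Coh.toAb (P j)) i ≫ e.inv).hom.app (op U) (y i) := rfl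
  rw [h3, h2]
  rfl

end Scheme

end Groth.Agent.Lib.CohSigmaFin
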