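import Groth.Agent.Lib.InvMap54b
import Groth.Agent.S0047
import Groth.Agent.S0012
import Groth.Agent.Lib.AffVan
import Groth.Agent.Lib.CohLESExact

/-!
# Vanishing of cohomology in degrees ≥ 2 on integral curves (helper54; campaign K2a)

Namespace `Groth.Agent.Lib.CurveVanishing54`.
* `not_mem_support_kernel_iff` (`(ker φ)_y = 0 ↔ φ_y` injective), `stalkLin_injective_of_app_injective`.
* `isFlasque_of_support_subset`, `subsingleton_HH_of_support_subset`: on a locally Noetherian scheme, ANY module whose
  support lies in a closed set of closed points is flasque, hence acyclic (generalises S0047, no finiteness needed).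
* `bijective_unit_app`: the unit `F ⟶ j_* j^* F` (`j = U.ι`) is bijective on sections over opens inside `U`.
* **`subsingleton_HH_add_two`**: `X` integral, locally Noetherian, `topologicalKrullDim X ≤ 1`, `p : X ⟶ S` separated
  with `S` affine, `F` quasi-coherent: `H^{n+2}(X, F) = 0`.  (Proof: `F → j_* j^* F` for a nonempty affine open `U`;
  kernel and cokernel live on the finitely many closed points outside `U`; `j` is affine, S0012 + affine vanishing.)
-/

set_option autoImplicit false
universe u
open CategoryTheory CategoryTheory.Limits AlgebraicGeometry Opposite TopologicalSpace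

namespace Groth.Agent.Lib.CurveVanishing54

open Groth.Agent.Lib.ModStalkLin Groth.Agent.Lib.ModStalk Groth.Agent.Lib.H78TensorGen
open Groth.Agent.Lib.InvMap54

variable {X : Scheme.{u}}

section Stalks

variable {N L : X.Modules}

/-- the stalk of the kernel vanishes iff the stalk map is injective -/
lemma not_mem_support_kernel_iff (φ : N ⟶ L) (y : X) :
    y ∉ CohB1.support (kernel φ) ↔ Function.Injective (stalkLin φ y) := by
  change ¬ ¬ Subsingleton ((kernel φ).presheaf.stalk y) ↔ _
  rw [not_not]
  have e : (stalkFunctor y).obj (kernel φ) ≅ kernel ((stalkFunctor y).map φ) :=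
    PreservesKernel.iso (stalkFunctor y) φ
  constructor
  · intro h
    have hz : IsZero ((stalkFunctor y).obj (kernel φ)) := by
      rw [AddCommGrpCat.isZero_iff_subsingleton]
      exact h
    have hz' : IsZero (kernel ((stalkFunctor y).map φ)) := hz.of_iso e.symm
    have : Mono ((stalkFunctor y).map φ) := Preadditive.mono_of_isZero_kernel _ hz'
    exact (AddCommGrpCat.mono_iff_injective _).mp this
  · intro h
    haveI : Mono ((stalkFunctor y).map φ) := (AddCommGrpCat.mono_iff_injective _).mpr h
    have h1 : IsZero (kernel ((stalkFunctor y).map φ)) := isZero_kernel_of_mono _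
    exact AddCommGrpCat.subsingleton_of_isZero (h1.of_iso e)

/-- injectivity on all small opens around `y` gives injectivity on the stalk at `y` -/
lemma stalkLin_injective_of_app_injective (φ : N ⟶ L) (y : X) (D : X.Opens) (hy : y ∈ D)
    (h : ∀ W : X.Opens, W ≤ D → Function.Injective (φ.app W)) :
    Function.Injective (stalkLin φ y) := by
  rw [injective_iff_map_eq_zero]
  intro g hg
  obtain ⟨W, hyW, t, rfl⟩ := TopCat.Presheaf.exists_germ_eq N.presheaf g
  rw [stalkLin_germ] at hg
  have h0 : L.presheaf.germ W y hyW (φ.app W t) = L.presheaf.germ W y hyW 0 := by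
    rw [hg, map_zero]
  obtain ⟨W', hyW', iW, iW₂, e⟩ := TopCat.Presheaf.germ_eq L.presheaf y hyW hyW _ _ h0
  have hyWD : y ∈ W' ⊓ D := ⟨hyW', hy⟩
  have hle : W' ⊓ D ≤ W := inf_le_left.trans iW.le
  have e2 : φ.app (W' ⊓ D) (rs N hle t) = 0 := by
    rw [Groth.Agent.Lib.H78SecCoord.app_rs, ← rs_rs L iW.le inf_le_left]
    have : rs L iW.le (φ.app W t) = 0 := by
      refine e.trans ?_
      exact map_zero _
    rw [this, rs_zero]
  have e3 : rs N hle t = 0 := h _ inf_le_right (by rw [e2, map_zero])
  rw [← TopCat.Presheaf.germ_res_apply N.presheaf (homOfLE hle) y hyWD t]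
  change N.presheaf.germ (W' ⊓ D) y hyWD (rs N hle t) = 0
  rw [e3, map_zero]

end Stalks

section Flasque

open Groth.Agent.S0047

/-- A module on a locally Noetherian scheme whose support lies in a closed set of closed points is flasque. -/
lemma isFlasque_of_support_subset [IsLocallyNoetherian X] (M : X.Modules) (Z : Set X) (hZ : IsClosed Z)
    (h0 : ∀ x ∈ Z, IsClosed ({x} : Set X)) (hM : CohB1.support M ⊆ Z) :
    TopCat.Sheaf.IsFlasque (Coh.toAb M) where
  epi {U V} i := by
    rw [AddCommGrpCat.epi_iff_surjective]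
    intro s
    obtain ⟨U⟩ := U
    obtain ⟨V⟩ := V
    have hVU : V ≤ U := leOfHom i.unop
    have hcl : IsClosed (Z ∩ V) := isClosed_of_subset hZ h0 Set.inter_subset_left
    let U' : X.Opens := U ⊓ ⟨(Z ∩ V)ᶜ, hcl.isOpen_compl⟩
    let cov : ULift.{u} Bool → X.Opens := fun b => bif b.down then V else U'
    let sf : ∀ b : ULift.{u} Bool, ToType ((Coh.toAb M).obj.obj (op (cov b))) := fun b =>
      match b with
      | ⟨true⟩ => s
      | ⟨false⟩ => 0
    have hvan : ∀ t : (Coh.toAb M).obj.obj (op (V ⊓ U')), t = 0 := fun t =>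
      eq_zero_of_disjoint_support M (V ⊓ U') (fun x (hx : x ∈ V ⊓ U') hxZ =>
        hx.2.2 ⟨hM hxZ, hx.1⟩) t
    have hvan' : ∀ t : (Coh.toAb M).obj.obj (op (U' ⊓ V)), t = 0 := fun t =>
      eq_zero_of_disjoint_support M (U' ⊓ V) (fun x (hx : x ∈ U' ⊓ V) hxZ =>
        hx.1.2 ⟨hM hxZ, hx.2⟩) t
    have hcompat : TopCat.Presheaf.IsCompatible (Coh.toAb M).obj cov sf := by
      rintro ⟨_ | _⟩ ⟨_ | _⟩
      · rfl
      · exact (hvan' _).trans (hvan' _).symm
      · exact (hvan _).trans (hvan _).symm
      · rfl
    have hcover : U ≤ iSup cov := by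
      intro x hx
      rw [Opens.mem_iSup]
      by_cases hxZ : x ∈ Z ∩ V
      · exact ⟨⟨true⟩, hxZ.2⟩
      · exact ⟨⟨false⟩, hx, hxZ⟩
    obtain ⟨t, ht, -⟩ := TopCat.Sheaf.existsUnique_gluing' (Coh.toAb M) cov U
      (fun b => homOfLE (by
        obtain ⟨_ | _⟩ := b
        · exact inf_le_left
        · exact hVU)) hcover sf hcompat
    exact ⟨t, ht ⟨true⟩⟩

lemma subsingleton_HH_of_support_subset [IsLocallyNoetherian X] (M : X.Modules) (Z : Set X)
    (hZ : IsClosed Z) (h0 : ∀ x ∈ Z, IsClosed ({x} : Set X)) (hM : CohB1.support M ⊆ Z) (n : ℕ) :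
    Subsingleton (Coh.HH X M (n + 1)) := by
  have := isFlasque_of_support_subset M Z hZ h0 hM
  exact Groth.Agent.Lib.FlasqueAcyclic.subsingleton_H (Coh.toAb M) n

end Flasque

section Main

open Groth.Agent.Lib.CohLES

/-- restriction along an equality of opens is bijective -/
lemma bijective_map_of_eq (F : X.Modules) {A B : X.Opens} (h : A ≤ B) (e : A = B) :
    Function.Bijective (F.presheaf.map (homOfLE h).op) := by
  subst e
  have : (homOfLE h).op = 𝟙 (op A) := rfl
  rw [this, F.presheaf.map_id]
  exact Function.bijective_id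

/-- the unit `F ⟶ j_* j^* F` for an open `U` is bijective on sections over opens inside `U` -/
lemma bijective_unit_app (F : X.Modules) (U : X.Opens) {W : X.Opens} (hW : W ≤ U) :
    Function.Bijective (((Scheme.Modules.restrictAdjunction U.ι).unit.app F).app W) := by
  rw [Scheme.Modules.restrictAdjunction_unit_app_app]
  apply bijective_map_of_eq
  rw [Scheme.Hom.image_preimage_eq_opensRange_inf, Scheme.Opens.opensRange_ι]
  exact inf_eq_right.mpr hW

variable [IsIntegral X] [IsLocallyNoetherian X] {S : Scheme.{u}} [IsAffine S] (p : X ⟶ S)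
  [IsSeparated p] (hdim : topologicalKrullDim X ≤ 1) (F : X.Modules) [hF : F.IsQuasicoherent]

include p hdim in
/-- **Vanishing on curves**: on an integral locally Noetherian scheme of dimension `≤ 1`, separated over an affine
base, quasi-coherent modules have no cohomology in degrees `≥ 2`. -/
theorem subsingleton_HH_add_two (n : ℕ) : Subsingleton (Coh.HH X F (n + 2)) := by
  obtain ⟨x⟩ : Nonempty X := inferInstance
  obtain ⟨U₀, hU₀, hxU₀, -⟩ := Opens.isBasis_iff_nbhd.1 X.isBasis_affineOpens
    (show x ∈ (⊤ : X.Opens) from trivial)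
  obtain ⟨U, hU, hxU⟩ : ∃ U : X.Opens, IsAffineOpen U ∧ x ∈ U := ⟨U₀, hU₀, hxU₀⟩
  have hUaff : IsAffine (U : Scheme.{u}) := hU
  have : IsAffineHom (U.ι ≫ p) := inferInstance
  have hj : IsAffineHom U.ι := IsAffineHom.of_comp U.ι p
  -- the pushforward of the restriction is acyclic
  let G : (U : Scheme.{u}).Modules := F.restrict U.ι
  have hG : G.IsQuasicoherent := Scheme.Modules.isQuasicoherent_restrictFunctor _ _
  let P : X.Modules := (Scheme.Modules.pushforward U.ι).obj G
  have hP : ∀ m : ℕ, Subsingleton (Coh.HH X P (m + 1)) := by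
    intro m
    obtain ⟨e⟩ := Groth.Agent.S0012.result U.ι G (m + 1)
    have := Groth.Agent.Lib.AffVan.subsingleton_HH_of_isAffine G hG m
    exact e.symm.subsingleton
  let η : F ⟶ P := (Scheme.Modules.restrictAdjunction U.ι).unit.app F
  -- the complement of `U` is a closed set of closed points
  have hZ : IsClosed ((U : Set X)ᶜ) := U.isOpen.isClosed_compl
  have h0 : ∀ y ∈ ((U : Set X)ᶜ), IsClosed ({y} : Set X) := fun y hy =>
    isClosed_singleton_of_dim_le_one hdim y U U.isOpen ⟨x, hxU⟩ hy
  have hK : CohB1.support (kernel η) ⊆ (U : Set X)ᶜ := by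
    intro y hy hyU
    exact ((not_mem_support_kernel_iff η y).2
      (stalkLin_injective_of_app_injective η y U hyU
        (fun W hW => (bijective_unit_app F U hW).1))) hy
  have hC : CohB1.support (cokernel η) ⊆ (U : Set X)ᶜ := by
    intro y hy hyU
    exact ((not_mem_support_cokernel_iff η y).2
      (stalkLin_surjective_of_app_surjective η y U hyU
        (fun W hW => (bijective_unit_app F U hW).2))) hy
  have hKv := subsingleton_HH_of_support_subset (kernel η) _ hZ h0 hK
  have hCv := subsingleton_HH_of_support_subset (cokernel η) _ hZ h0 hC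
  -- the two short exact sequences
  let S₁ : ShortComplex X.Modules :=
    ShortComplex.mk (kernel.ι η) (cokernel.π (kernel.ι η)) (cokernel.condition _)
  have hS₁ : S₁.ShortExact :=
    { exact := ShortComplex.exact_cokernel (kernel.ι η) }
  let S₂ : ShortComplex X.Modules :=
    ShortComplex.mk (kernel.ι (cokernel.π η)) (cokernel.π η) (kernel.condition _)
  have hS₂ : S₂.ShortExact :=
    { exact := ShortComplex.exact_kernel (cokernel.π η) }
  -- `H^{n+2}` of the image vanishes
  have hI : Subsingleton (Coh.HH X (Abelian.image η) (n + 2)) := by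
    refine subsingleton_of_forall_eq 0 fun z => ?_
    have := hP (n + 1)
    obtain ⟨y, rfl⟩ := exact₁ hS₂ (n + 1) z (Subsingleton.elim _ _)
    have := hCv n
    rw [Subsingleton.elim y 0, map_zero]
  have hI' : Subsingleton (Coh.HH X (Abelian.coimage η) (n + 2)) :=
    (mapEquiv (Abelian.coimageIsoImage η) (n + 2)).subsingleton
  refine subsingleton_of_forall_eq 0 fun z => ?_
  obtain ⟨y, rfl⟩ := exact₂ hS₁ (n + 2) z (Subsingleton.elim (α := Coh.HH X (Abelian.coimage η) (n + 2)) _ _)
  have := hKv (n + 1)
  rw [Subsingleton.elim y 0, map_zero]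

end Main

end Groth.Agent.Lib.CurveVanishing54
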