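import Groth.Agent.Lib.H43GVMain
import Groth.Prelude.Def_Coh
import Mathlib.AlgebraicGeometry.Noetherian

/-!
# Grothendieck vanishing for schemes (helper43, campaign K3.V)

`subsingleton_HH_of_dim_lt`: on a Noetherian scheme `X` with `dim X ≤ d`, `H^p(X, F) = 0` for every
`O_X`-module `F` and every `p > d` (`Coh.HH`).  Also the version for a scheme whose underlying space
is Noetherian (`subsingleton_HH_of_dim_lt'`), and for abelian sheaves (`Groth.Agent.Lib.H43GV`).
-/

set_option autoImplicit false
universe u

open CategoryTheory AlgebraicGeometry TopologicalSpace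

namespace Groth.Agent.Lib.GrothVanish

/-- Grothendieck vanishing for a scheme with Noetherian underlying space -/
theorem subsingleton_HH_of_dim_lt' (X : Scheme.{u}) [NoetherianSpace X] (d : ℕ)
    (hd : topologicalKrullDim X ≤ d) (F : X.Modules) (p : ℕ) (hp : d < p) :
    Subsingleton (Coh.HH X F p) := by
  have : NoetherianSpace X.toTopCat := ‹NoetherianSpace X›
  exact Groth.Agent.Lib.H43GV.subsingleton_H_of_dim_lt (X := X.toTopCat) d hd (Coh.toAb F) p hp

/-- **Grothendieck vanishing** for Noetherian schemes -/
theorem subsingleton_HH_of_dim_lt (X : Scheme.{u}) [IsNoetherian X] (d : ℕ)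
    (hd : topologicalKrullDim X ≤ d) (F : X.Modules) (p : ℕ) (hp : d < p) :
    Subsingleton (Coh.HH X F p) :=
  subsingleton_HH_of_dim_lt' X d hd F p hp

end Groth.Agent.Lib.GrothVanish
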