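import Groth.Agent.Lib.H4MulSurj
import Groth.Agent.Lib.H78GlobGen2
import Groth.Agent.Lib.FreeModSch
import Groth.Agent.Lib.TwistEquiv

/-!
# Global generation descends along twists when sections are products (helper4)

* `comp_eq_zero_of_forall_app_top` : a morphism out of a free module which kills all global sections after composition is `0`;
* `isGloballyGenerated_of_tensor` : if `L` is invertible (`L ⊗ L' ≅ O`), `M ⊗ L` is globally generated and every global
  section of `M ⊗ L` is a sum of pure tensors `s ⊗ f` of global sections, then `M` is globally generated;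
* `mem_closure_tmul` : on `P^n_R`, if `H^i(M(t - i)) = 0` for `t ≥ 0`, `1 ≤ i ≤ n`, every global section of `M(r)`, `r ≥ 0`, is a
  sum of pure tensors of global sections of `M` and `O(r)`.
-/

set_option autoImplicit false
universe u
open CategoryTheory CategoryTheory.Limits AlgebraicGeometry TopologicalSpace Opposite Twist
open Groth.Agent.Lib.H90Invertible Groth.Agent.Lib.StructureModule

namespace Groth.Agent.Lib.H4GlobGen

open Groth.Agent.Lib.OXModTensor Groth.Agent.Lib.H78TensorGen Groth.Agent.Lib.H78GlobGen2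
open Groth.Agent.Lib.H4KoszulPn

section General

variable {X : Scheme.{u}}

/-- a morphism out of a free module, followed by a morphism killing all global sections, is zero -/
theorem comp_eq_zero_of_forall_app_top {G H : X.Modules} {K : Type u}
    (p : (SheafOfModules.free K : X.Modules) ⟶ G) (ψ : G ⟶ H)
    (hψ : ∀ s : Γ(G, ⊤), ψ.app ⊤ s = 0) : p ≫ ψ = 0 := by
  refine Cofan.IsColimit.hom_ext (SheafOfModules.isColimitFreeCofan (R := X.ringCatSheaf) K) _ _ fun k => ?_
  refine Groth.Agent.Lib.FreeModSch.unit_hom_ext _ _ ?_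
  change Groth.Agent.Lib.FreeModSch.toSection ((SheafOfModules.ιFree k ≫ p) ≫ ψ) =
    Groth.Agent.Lib.FreeModSch.toSection ((SheafOfModules.ιFree k ≫ p) ≫ (0 : G ⟶ H))
  rw [Groth.Agent.Lib.FreeModSch.toSection_comp, Groth.Agent.Lib.FreeModSch.toSection_comp, hψ]
  rfl

/-- global sections are in the image of the evaluation morphism `free Γ(M, ⊤) ⟶ M` -/
lemma ofSections_id_app_top (M : X.Modules) (s : Γ(M, ⊤)) :
    (ofSections M (fun t : Γ(M, ⊤) => t)).app ⊤ ((ιF s).app ⊤ (toSec ⊤ 1)) = s := by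
  rw [ofSections_app, one_smul]
  exact rs_self M s

/-- **Descent of global generation along an invertible twist**: if `L ⊗ L' ≅ O_X`, `M ⊗ L` is globally generated and
every global section of `M ⊗ L` is a sum of pure tensors of global sections of `M` and `L`, then `M` is globally
generated. -/
theorem isGloballyGenerated_of_tensor {M L L' : X.Modules}
    (e : CohB1.tensorMod L L' ≅ Coh.structureModule X)
    (hgen : Curv2.IsGloballyGenerated (CohB1.tensorMod M L))
    (hsec : ∀ τ : Γ(CohB1.tensorMod M L, ⊤),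
      τ ∈ AddSubgroup.closure {x | ∃ (a : Γ(M, ⊤)) (b : Γ(L, ⊤)), x = tmul a b}) :
    Curv2.IsGloballyGenerated M := by
  refine ⟨Γ(M, ⊤), ofSections M (fun t : Γ(M, ⊤) => t), ?_⟩
  set ev := ofSections M (fun t : Γ(M, ⊤) => t) with hev
  refine Preadditive.epi_of_cokernel_zero ?_
  -- `π` kills global sections
  have h1 : ∀ s : Γ(M, ⊤), (cokernel.π ev).app ⊤ s = 0 := by
    intro s
    rw [← ofSections_id_app_top M s]
    change (ev ≫ cokernel.π ev).app ⊤ _ = 0
    rw [cokernel.condition]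
    rfl
  -- `π ⊗ L` kills global sections
  have h2 : ∀ τ : Γ(CohB1.tensorMod M L, ⊤), (tensorModMap (cokernel.π ev) (𝟙 L)).app ⊤ τ = 0 := by
    intro τ
    refine AddSubgroup.closure_induction (p := fun τ _ => (tensorModMap (cokernel.π ev) (𝟙 L)).app ⊤ τ = 0)
      ?_ ?_ ?_ ?_ (hsec τ)
    · rintro x ⟨a, b, rfl⟩
      rw [tensorModMap_tmul, h1]
      exact tmul_zero_left _
    · exact map_zero _
    · intro x y _ _ hx hy
      rw [map_add, hx, hy, add_zero]
    · intro x _ hx
      rw [map_neg, hx, neg_zero]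
  obtain ⟨K, p, hp⟩ := hgen
  have h3 : p ≫ tensorModMap (cokernel.π ev) (𝟙 L) = 0 := comp_eq_zero_of_forall_app_top p _ h2
  have hE := Groth.Agent.Lib.TwistEquiv.isEquivalence_tensorRightFunctor e
  have h4 : (Groth.Agent.Lib.TwistEquiv.tensorRightFunctor L).map (cokernel.π ev) = 0 := by
    refine (Groth.Agent.Lib.TwistEquiv.tensorRightFunctor_map L (cokernel.π ev)).trans ?_
    exact (cancel_epi p).1 (h3.trans comp_zero.symm)
  have h5 : (Groth.Agent.Lib.TwistEquiv.tensorRightFunctor L).map (cokernel.π ev) =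
      (Groth.Agent.Lib.TwistEquiv.tensorRightFunctor L).map 0 := by
    rw [h4, Functor.map_zero]
  exact (Groth.Agent.Lib.TwistEquiv.tensorRightFunctor L).map_injective h5

/-- if every global section of `A` is a sum of elements of `SA`, the morphisms `φ c` map `SA` into the subgroup generated by
`SB`, and `τ = ∑ (φ c)(s c)`, then `τ` is in the subgroup generated by `SB` -/
theorem mem_closure_of_eq_sum {A B : X.Modules} (SA : Set Γ(A, ⊤)) (SB : Set Γ(B, ⊤)) (r : ℕ)
    (φ : ℕ → (A ⟶ B))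
    (h : ∀ c, c < r → ∀ x ∈ SA, (φ c).app ⊤ x ∈ AddSubgroup.closure SB)
    (hA : ∀ x : Γ(A, ⊤), x ∈ AddSubgroup.closure SA)
    (τ : Γ(B, ⊤)) (s : ℕ → Γ(A, ⊤)) (hτ : τ = ∑ c ∈ Finset.range r, (φ c).app ⊤ (s c)) :
    τ ∈ AddSubgroup.closure SB := by
  rw [hτ]
  refine AddSubgroup.sum_mem _ fun c hc => ?_
  refine AddSubgroup.closure_induction
    (p := fun x _ => (φ c).app ⊤ x ∈ AddSubgroup.closure SB) ?_ ?_ ?_ ?_ (hA (s c))
  · intro x hx
    exact h c (Finset.mem_range.1 hc) x hx
  · rw [map_zero]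
    exact zero_mem _
  · intro x y _ _ hx hy
    rw [map_add]
    exact add_mem hx hy
  · intro x _ hx
    rw [map_neg]
    exact neg_mem hx

end General

section Pn

open Groth.Agent.Lib.H4MulSurj Groth.Agent.Lib.H4KoszulSurj Groth.Agent.Lib.H4Koszul

variable (n : ℕ) (R : Type u) [CommRing R] (M : (CohB1.ProjSpace n R).Modules)

/-- the set of pure tensors of global sections of `M` and `O(t)` -/
def pureSet (t : ℤ) : Set Γ(CohB1.tensorMod M (Twist.twistProjSpace n R t), ⊤) :=
  {x | ∃ (a : Γ(M, ⊤)) (b : Γ(Twist.twistProjSpace n R t, ⊤)), x = tmul a b}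

theorem mem_closure_tmul_zero (τ : Γ(CohB1.tensorMod M (Twist.twistProjSpace n R 0), ⊤)) :
    τ ∈ AddSubgroup.closure (pureSet n R M 0) := by
  have hb := tmul_gen_bijective M
    (Groth.Agent.Lib.H4Twist.isGen_oneSec (𝒜 := CohB1.polyGrading n R) ⊤) (le_refl ⊤)
  obtain ⟨σ, hσ⟩ := hb.2 τ
  exact AddSubgroup.subset_closure ⟨σ, _, hσ.symm⟩

lemma x'_app_tmul_mem (c : ℕ) (hc : c < n + 1) (t₀ t : ℤ) (ht : t₀ + 1 = t) (a : Γ(M, ⊤))
    (b : Γ(Twist.twistProjSpace n R t₀, ⊤)) :
    (mulXHom n R M c t₀ t ht).app ⊤ (tmul a b) ∈ AddSubgroup.closure (pureSet n R M t) := by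
  rw [mulXHom_app_tmul n R M c hc t₀ t ht a b]
  exact AddSubgroup.subset_closure ⟨a, _, rfl⟩

theorem mem_closure_tmul_succ (t₀ t : ℤ) (ht : t₀ + 1 = t)
    (hv : ∀ l : ℕ, 2 ≤ l → l ≤ n + 1 → Subsingleton (Coh.HH (CohB1.ProjSpace n R)
      (CohB1.tensorMod M (Twist.twistProjSpace n R (t - l))) (l - 1)))
    (ih : ∀ τ : Γ(CohB1.tensorMod M (Twist.twistProjSpace n R t₀), ⊤),
      τ ∈ AddSubgroup.closure (pureSet n R M t₀))
    (τ : Γ(CohB1.tensorMod M (Twist.twistProjSpace n R t), ⊤)) :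
    τ ∈ AddSubgroup.closure (pureSet n R M t) := by
  obtain ⟨s, hs⟩ := exists_sum_mulXHom n R M t₀ t ht hv τ
  refine mem_closure_of_eq_sum (A := CohB1.tensorMod M (Twist.twistProjSpace n R t₀))
    (B := CohB1.tensorMod M (Twist.twistProjSpace n R t)) (pureSet n R M t₀) (pureSet n R M t) (n + 1)
    (fun c => mulXHom n R M c t₀ t ht) ?_ ih τ s hs
  rintro c hc x ⟨a, b, rfl⟩
  exact x'_app_tmul_mem n R M c hc t₀ t ht a b

/-- on `P^n_R`, if `H^i(M(t - i)) = 0` for all `t ≥ 0` and `1 ≤ i ≤ n`, then every global section of `M(r)`, `r ≥ 0`, is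
a sum of pure tensors of global sections of `M` and of `O(r)` -/
theorem mem_closure_tmul
    (hv : ∀ (t i : ℕ), 1 ≤ i → i ≤ n → Subsingleton (Coh.HH (CohB1.ProjSpace n R)
      (CohB1.tensorMod M (Twist.twistProjSpace n R ((t : ℤ) - i))) i)) :
    ∀ (r : ℕ) (τ : Γ(CohB1.tensorMod M (Twist.twistProjSpace n R (r : ℤ)), ⊤)),
      τ ∈ AddSubgroup.closure (pureSet n R M r)
  | 0 => by
    rw [Nat.cast_zero]
    exact mem_closure_tmul_zero n R M
  | r + 1 => by
    refine mem_closure_tmul_succ n R M r _ (by push_cast; ring) (fun l hl2 hln => ?_)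
      (mem_closure_tmul hv r)
    have := hv r (l - 1) (by omega) (by omega)
    exact Groth.Agent.Lib.H4Regularity.subsingleton_HH_congr n R M
      (by rw [Nat.cast_sub (by omega)]; push_cast; ring) rfl this

end Pn

end Groth.Agent.Lib.H4GlobGen
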