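import Groth.Agent.Lib.H4TwistGamma
import Groth.Agent.Lib.CohLESExact
import Groth.Agent.Lib.FreeModSch

/-!
# Naturality of `H^0 = Γ` and lifting of global sections (helper4)

* `h0Equiv_map` : `h0Equiv N (H^0(φ) x) = φ(h0Equiv M x)`;
* `exists_section_lift` : for a short exact sequence `0 → M' → M → M'' → 0` with `H^1(M') = 0`, every global section of
  `M''` lifts to `M`;
* `exists_splitting_of_H1` : a short exact sequence `0 → M' → M → O_X → 0` with `H^1(X, M') = 0` splits.
-/

set_option autoImplicit false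
universe u
open CategoryTheory AlgebraicGeometry TopologicalSpace Opposite

namespace Groth.Agent.Lib.H4Twist

variable {X : Scheme.{u}}

theorem h0Equiv_map {M N : X.Modules} (φ : M ⟶ N) (x : Coh.HH X M 0) :
    h0Equiv N (Groth.Agent.Lib.CohLES.map φ 0 x) = φ.app ⊤ (h0Equiv M x) := by
  change Sheaf.H.equiv₀ (Coh.toAb N) _ (Sheaf.H.map ((Groth.Agent.Lib.CohLES.toAbF X).map φ) 0 x) = _
  rw [← Sheaf.H.equiv₀_naturality]
  rfl

/-- Global sections lift along an epimorphism whose kernel has vanishing `H^1`. -/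
theorem exists_section_lift {S : ShortComplex X.Modules} (hS : S.ShortExact)
    [Subsingleton (Coh.HH X S.X₁ 1)] (t : Γ(S.X₃, ⊤)) : ∃ s : Γ(S.X₂, ⊤), S.g.app ⊤ s = t := by
  obtain ⟨x, hx⟩ := Groth.Agent.Lib.CohLES.map_g_surjective hS 0 ((h0Equiv S.X₃).symm t)
  refine ⟨h0Equiv S.X₂ x, ?_⟩
  rw [← h0Equiv_map, hx, AddEquiv.apply_symm_apply]

open Groth.Agent.Lib.FreeModSch in
/-- A short exact sequence `0 → M' → M → O_X → 0` with `H^1(X, M') = 0` splits. -/
theorem exists_splitting_of_H1 {M' M : X.Modules} (i : M' ⟶ M) (p : M ⟶ Coh.structureModule X)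
    (w : i ≫ p = 0) (hex : (ShortComplex.mk i p w).ShortExact) [h : Subsingleton (Coh.HH X M' 1)] :
    ∃ s : Coh.structureModule X ⟶ M, s ≫ p = 𝟙 _ := by
  have : Subsingleton (Coh.HH X (ShortComplex.mk i p w).X₁ 1) := h
  obtain ⟨t, ht⟩ := exists_section_lift hex (toSection (𝟙 (Coh.structureModule X)))
  refine ⟨ofSection M t, unit_hom_ext _ _ ?_⟩
  rw [toSection_comp, toSection_ofSection]
  exact ht

end Groth.Agent.Lib.H4Twist
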