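import Groth.Agent.Lib.PerfectLocal
import Groth.Agent.Lib.ModPullback

/-!
# Finite locally free modules: biproducts and pullbacks
-/

set_option autoImplicit false
universe u

open CategoryTheory CategoryTheory.Limits AlgebraicGeometry

namespace Groth.Agent.Lib.FinLocFree2

open Groth.Agent.Lib.FreeModSch Groth.Agent.Lib.FinLocFree Groth.Agent.Lib.PerfectLocal

section Abstract

variable {C : Type*} [Category C] [Preadditive C] [HasBinaryBiproducts C] [HasFiniteCoproducts C]

/-- `A^n ⊕ A^m ≅ A^{n+m}` for finite copowers. -/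
noncomputable def copowerAddIso (A : C) (n m : ℕ) :
    (∐ fun _ : Fin n => A) ⊞ (∐ fun _ : Fin m => A) ≅ ∐ fun _ : Fin (n + m) => A where
  hom := biprod.desc (Sigma.desc fun i => Sigma.ι (fun _ : Fin (n + m) => A) (Fin.castAdd m i))
    (Sigma.desc fun j => Sigma.ι (fun _ : Fin (n + m) => A) (Fin.natAdd n j))
  inv := Sigma.desc fun k => Fin.addCases (motive := fun _ => A ⟶ _)
    (fun i => Sigma.ι (fun _ : Fin n => A) i ≫ biprod.inl)
    (fun j => Sigma.ι (fun _ : Fin m => A) j ≫ biprod.inr) k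
  hom_inv_id := by
    apply biprod.hom_ext'
    · apply Sigma.hom_ext
      intro i
      simp
    · apply Sigma.hom_ext
      intro j
      simp
  inv_hom_id := by
    apply Sigma.hom_ext
    intro k
    refine Fin.addCases (fun i => ?_) (fun j => ?_) k
    · simp
    · simp

end Abstract


section Scheme

variable {X Y : Scheme.{u}}

/-- A biproduct of finite locally free modules is finite locally free. -/
theorem isFinLocFree_biprod {M N : X.Modules} (hM : FlatMod.IsFinLocFree M)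
    (hN : FlatMod.IsFinLocFree N) : FlatMod.IsFinLocFree (M ⊞ N) := by
  intro x
  obtain ⟨V₁, hx₁, n₁, h₁⟩ := exists_forall_restrict_iso_freeMod hM x
  obtain ⟨V₂, hx₂, n₂, h₂⟩ := exists_forall_restrict_iso_freeMod hN x
  obtain ⟨e₁⟩ := h₁ (V₁ ⊓ V₂).ι (by rw [Scheme.Opens.opensRange_ι]; exact inf_le_left)
  obtain ⟨e₂⟩ := h₂ (V₁ ⊓ V₂).ι (by rw [Scheme.Opens.opensRange_ι]; exact inf_le_right)
  have : PreservesBinaryBiproducts (Scheme.Modules.restrictFunctor (V₁ ⊓ V₂).ι) :=
    preservesBinaryBiproducts_of_preservesBiproducts _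
  exact ⟨V₁ ⊓ V₂, n₁ + n₂, ⟨hx₁, hx₂⟩,
    ⟨(Scheme.Modules.restrictFunctor (V₁ ⊓ V₂).ι).mapBiprod M N ≪≫ biprod.mapIso e₁ e₂ ≪≫
      copowerAddIso _ n₁ n₂⟩⟩

/-- The pullback of a free module is free. -/
noncomputable def pullbackFreeModIso (f : X ⟶ Y) (n : ℕ) :
    (Scheme.Modules.pullback f).obj (FlatMod.freeMod Y n) ≅ FlatMod.freeMod X n :=
  PreservesCoproduct.iso (Scheme.Modules.pullback f) (fun _ : Fin n => Coh.structureModule Y) ≪≫
    Sigma.mapIso (fun _ => (ModPullback.pullbackUnitIso f).symm)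

/-- The pullback of a finite locally free module is finite locally free. -/
theorem isFinLocFree_pullback (f : X ⟶ Y) {M : Y.Modules} (hM : FlatMod.IsFinLocFree M) :
    FlatMod.IsFinLocFree ((Scheme.Modules.pullback f).obj M) := by
  intro x
  obtain ⟨U, n, hxU, ⟨e⟩⟩ := hM (f x)
  exact ⟨f ⁻¹ᵁ U, n, hxU, ⟨ModPullback.restrictPullbackIso f U M ≪≫
    (Scheme.Modules.pullback (f ∣_ U)).mapIso e ≪≫ pullbackFreeModIso (f ∣_ U) n⟩⟩

end Scheme

end Groth.Agent.Lib.FinLocFree2
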