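import Groth.Agent.Lib.LocFreeFP
import Groth.Agent.Lib.PerfectLocal
import Groth.Agent.Lib.H90OXModAffineFT
import Groth.Agent.Lib.H90InvertibleFP
import Groth.Agent.Lib.FinLocFree2

/-!
# Flexible local criteria for `O_X`-modules (covers by arbitrary open immersions)

* `rangeLift`, `restrictRangeIso`: an open immersion `j : Y ⟶ X` versus its range.
* `isFinLocFree_of_forall_restrict`, `isFT_of_forall_exists_epi`, `isFP_of_forall_exists_cokernel`.
* quotients of finite locally free modules are of finite type; cokernels of maps between finite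
  locally free modules are finitely presented (with local data).
-/

set_option autoImplicit false
universe u

open CategoryTheory CategoryTheory.Limits AlgebraicGeometry

namespace Groth.Agent.Lib.LocalFlex

open Groth.Agent.Lib.PerfectLocal Groth.Agent.Lib.FinLocFree Groth.Agent.Lib.LocFreeCrit
  Groth.Agent.Lib.RestrictExact

variable {X Y : Scheme.{u}}

/-- The isomorphism from the range of an open immersion to its source. -/
noncomputable def rangeLift (j : Y ⟶ X) [IsOpenImmersion j] : (j.opensRange : Scheme.{u}) ⟶ Y :=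
  j.isoOpensRange.inv

instance (j : Y ⟶ X) [IsOpenImmersion j] : IsIso (rangeLift j) := by
  unfold rangeLift; infer_instance

lemma rangeLift_fac (j : Y ⟶ X) [IsOpenImmersion j] : rangeLift j ≫ j = j.opensRange.ι :=
  j.isoOpensRange_inv_comp

/-- Restricting to the range of `j` is restricting along `j` and then along `rangeLift j`. -/
noncomputable def restrictRangeIso (j : Y ⟶ X) [IsOpenImmersion j] (M : X.Modules) :
    (M.restrict j).restrict (rangeLift j) ≅ M.restrict j.opensRange.ι :=
  (restrictFactorIso (rangeLift j) j j.opensRange.ι (rangeLift_fac j)).app M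

/-- Finite local freeness can be checked on a cover by arbitrary open immersions. -/
theorem isFinLocFree_of_forall_restrict (M : X.Modules)
    (h : ∀ x : X, ∃ (Y : Scheme.{u}) (j : Y ⟶ X) (_ : IsOpenImmersion j),
      x ∈ Set.range j ∧ FlatMod.IsFinLocFree (M.restrict j)) : FlatMod.IsFinLocFree M := by
  apply isFinLocFree_of_forall_locFreeAt
  intro x
  obtain ⟨Y, j, _, hx, hM⟩ := h x
  have h1 : FlatMod.IsFinLocFree (M.restrict j.opensRange.ι) :=
    isFinLocFree_of_iso (restrictRangeIso j M) (isFinLocFree_restrict (rangeLift j) hM)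
  obtain ⟨U, n, hxU, ⟨e⟩⟩ := h1 ⟨x, hx⟩
  exact ⟨n, LocFreeAt.of_restrict j.opensRange hx (locFreeAt_of_restrict_iso U hxU e)⟩

/-- Finite type can be checked on a cover by arbitrary open immersions, with explicit
epimorphisms from finite free modules. -/
theorem isFT_of_forall_exists_epi (M : X.Modules)
    (h : ∀ x : X, ∃ (Y : Scheme.{u}) (j : Y ⟶ X) (_ : IsOpenImmersion j) (n : ℕ)
      (p : FlatMod.freeMod Y n ⟶ M.restrict j), x ∈ Set.range j ∧ Epi p) : CohB1.IsFT M := by
  choose Y j hj n p hx hp using h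
  let U : X → X.Opens := fun x => (j x).opensRange
  have hU : ⨆ x, U x = ⊤ := by
    rw [eq_top_iff]
    intro x _
    exact TopologicalSpace.Opens.mem_iSup.mpr ⟨x, hx x⟩
  let p' : ∀ x, FlatMod.freeMod (U x : Scheme.{u}) (n x) ⟶ M.restrict (U x).ι := fun x =>
    (restrictFreeModIso (rangeLift (j x)) (n x)).inv ≫
      (Scheme.Modules.restrictFunctor (rangeLift (j x))).map (p x) ≫ (restrictRangeIso (j x) M).hom
  have hp' : ∀ x, Epi (p' x) := fun x => by
    have := hp x
    have : Epi ((Scheme.Modules.restrictFunctor (rangeLift (j x))).map (p x)) := inferInstance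
    exact epi_comp _ _
  let G : ∀ x, (M.restrict (U x).ι).GeneratingSections := fun x =>
    @generatingSectionsOfEpi _ _ _ (p' x) (hp' x)
  have hG : ∀ x, (G x).IsFiniteType := fun x =>
    @isFiniteType_generatingSectionsOfEpi _ _ _ (p' x) (hp' x)
  exact Groth.Agent.Lib.H90OXModAffineFT.isFiniteType_of_cover M U hU G

set_option backward.isDefEq.respectTransparency false in
/-- Finite presentation can be checked on a cover by arbitrary open immersions. -/
theorem isFP_of_forall_exists_presentation (M : X.Modules)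
    (h : ∀ x : X, ∃ (Y : Scheme.{u}) (j : Y ⟶ X) (_ : IsOpenImmersion j),
      x ∈ Set.range j ∧ ∃ P : (M.restrict j).Presentation, P.IsFinite) : CohB1.IsFP M := by
  choose Y j hj hx P hP using h
  let U : X → X.Opens := fun x => (j x).opensRange
  have hU : ⨆ x, U x = ⊤ := by
    rw [eq_top_iff]
    intro x _
    exact TopologicalSpace.Opens.mem_iSup.mpr ⟨x, hx x⟩
  let P' : ∀ x, (M.restrict (U x).ι).Presentation := fun x =>
    (Scheme.Modules.presentationRestrict (rangeLift (j x)) (P x)).ofIsIso
      (restrictRangeIso (j x) M).hom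
  have hP' : ∀ x, (P' x).IsFinite := fun x => by
    have := hP x
    have := Groth.Agent.Lib.H90OXModAffine.isFinite_presentationRestrict (rangeLift (j x)) (P x)
    exact inferInstanceAs (((Scheme.Modules.presentationRestrict (rangeLift (j x)) (P x)).ofIsIso
      (restrictRangeIso (j x) M).hom).IsFinite)
  exact Groth.Agent.Lib.H90Invertible.isFinitePresentation_of_cover M U hU P'

set_option backward.isDefEq.respectTransparency false in
/-- A cokernel of a map between finite free modules has a finite presentation. -/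
theorem exists_finite_presentation_of_cokernel_iso {M : X.Modules} {a b : ℕ}
    (f : FlatMod.freeMod X a ⟶ FlatMod.freeMod X b) (e : cokernel f ≅ M) :
    ∃ P : M.Presentation, P.IsFinite := by
  let f' : freeU X a ⟶ freeU X b := (freeIsoFreeMod X a).hom ≫ f ≫ (freeIsoFreeMod X b).inv
  let g : freeU X b ⟶ M := (freeIsoFreeMod X b).hom ≫ cokernel.π f ≫ e.hom
  have H : f' ≫ g = 0 := by
    simp only [f', g, Category.assoc, Iso.inv_hom_id_assoc, cokernel.condition_assoc, zero_comp,
      comp_zero]
  have H' : IsColimit (CokernelCofork.ofπ g H) :=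
    IsCokernel.ofIso f (cokernelIsCokernel f) (CokernelCofork.ofπ g H) (freeIsoFreeMod X a).symm
      (freeIsoFreeMod X b).symm e (by simp [f']) (by simp [g])
  refine ⟨SheafOfModules.presentationOfIsCokernelFree f' g H H', ?_⟩
  exact { isFiniteType_generators := ⟨inferInstanceAs (Finite (ULift.{u} (Fin b)))⟩
          isFiniteType_relations := ⟨inferInstanceAs (Finite (ULift.{u} (Fin a)))⟩ }

/-- Locally, a quotient of a finite locally free module is a quotient of a finite free module. -/
theorem exists_epi_of_isFinLocFree {M N : X.Modules} (hM : FlatMod.IsFinLocFree M) (p : M ⟶ N)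
    [Epi p] (x : X) :
    ∃ W : X.Opens, x ∈ W ∧ ∃ (n : ℕ) (q : FlatMod.freeMod (W : Scheme.{u}) n ⟶ N.restrict W.ι),
      Epi q := by
  obtain ⟨W, n, hxW, ⟨e⟩⟩ := hM x
  refine ⟨W, hxW, n, e.inv ≫ (Scheme.Modules.restrictFunctor W.ι).map p, ?_⟩
  have : Epi ((Scheme.Modules.restrictFunctor W.ι).map p) := inferInstance
  exact epi_comp _ _

/-- A quotient of a finite locally free module is of finite type. -/
theorem isFT_of_epi_of_isFinLocFree {M N : X.Modules} (hM : FlatMod.IsFinLocFree M) (p : M ⟶ N)
    [Epi p] : CohB1.IsFT N := by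
  apply isFT_of_forall_exists_epi
  intro x
  obtain ⟨W, hxW, n, q, hq⟩ := exists_epi_of_isFinLocFree hM p x
  exact ⟨W, W.ι, inferInstance, n, q, ⟨⟨x, hxW⟩, rfl⟩, hq⟩

/-- Locally, the cokernel of a map between finite locally free modules is the cokernel of a map
between finite free modules. -/
theorem exists_cokernel_iso_of_isFinLocFree {M N : X.Modules} (hM : FlatMod.IsFinLocFree M)
    (hN : FlatMod.IsFinLocFree N) (φ : M ⟶ N) (x : X) :
    ∃ W : X.Opens, x ∈ W ∧ ∃ (a b : ℕ)
      (f : FlatMod.freeMod (W : Scheme.{u}) a ⟶ FlatMod.freeMod (W : Scheme.{u}) b),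
      Nonempty (cokernel f ≅ (cokernel φ).restrict W.ι) := by
  obtain ⟨W₁, hx₁, a, h₁⟩ := exists_forall_restrict_iso_freeMod hM x
  obtain ⟨W₂, hx₂, b, h₂⟩ := exists_forall_restrict_iso_freeMod hN x
  obtain ⟨eM⟩ := h₁ (W₁ ⊓ W₂).ι (by rw [Scheme.Opens.opensRange_ι]; exact inf_le_left)
  obtain ⟨eN⟩ := h₂ (W₁ ⊓ W₂).ι (by rw [Scheme.Opens.opensRange_ι]; exact inf_le_right)
  let R := Scheme.Modules.restrictFunctor (W₁ ⊓ W₂).ι
  refine ⟨W₁ ⊓ W₂, ⟨hx₁, hx₂⟩, a, b, eM.inv ≫ R.map φ ≫ eN.hom, ⟨?_⟩⟩
  exact cokernel.mapIso _ (R.map φ) eM.symm eN.symm (by simp) ≪≫ (PreservesCokernel.iso R φ).symm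

/-- The cokernel of a map between finite locally free modules is finitely presented. -/
theorem isFP_cokernel_of_isFinLocFree {M N : X.Modules} (hM : FlatMod.IsFinLocFree M)
    (hN : FlatMod.IsFinLocFree N) (φ : M ⟶ N) : CohB1.IsFP (cokernel φ) := by
  apply isFP_of_forall_exists_presentation
  intro x
  obtain ⟨W, hxW, a, b, f, ⟨e⟩⟩ := exists_cokernel_iso_of_isFinLocFree hM hN φ x
  exact ⟨W, W.ι, inferInstance, ⟨⟨x, hxW⟩, rfl⟩, exists_finite_presentation_of_cokernel_iso f e⟩

end Groth.Agent.Lib.LocalFlex
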