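/-
helper66: presheaves of modules on a space: if `f : P ⟶ P'` induces injective linear maps on stalks and `Q` has
flat stalks, then `f ▷ Q` is locally injective (equational criterion of flatness on stalks, lifting
finitely many equations to a neighbourhood).  Reuses helper42's `OXModTensorW`.
-/
import Groth.Agent.Lib.OXModTensorW
import Mathlib.Algebra.Category.ModuleCat.Stalk
import Mathlib.RingTheory.Flat.Basic

universe u
open CategoryTheory MonoidalCategory Opposite TopologicalSpace TensorProduct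

namespace Groth.Agent.Lib.StalkFlatTensor66

open Groth.Agent.Lib.OXModTensorW

variable {X : TopCat.{u}} {R : X.Presheaf CommRingCat.{u}}

/-- germ of a section of a presheaf of modules -/
noncomputable def gm (P : PM R) {U : Opens X} (x : X) (hx : x ∈ U) (s : P.obj (op U)) :
    TopCat.Presheaf.stalk (X := X) (C := Ab.{u}) P.presheaf x :=
  TopCat.Presheaf.germ P.presheaf U x hx s

/-- germ of a function -/
noncomputable def gr {U : Opens X} (x : X) (hx : x ∈ U) (r : R.obj (op U)) : R.stalk x :=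
  TopCat.Presheaf.germ R U x hx r

variable {P Q : PM R}

lemma gm_zero {U : Opens X} (x : X) (hx : x ∈ U) : gm P x hx (0 : P.obj (op U)) = 0 :=
  map_zero (TopCat.Presheaf.germ P.presheaf U x hx).hom

lemma gm_add {U : Opens X} (x : X) (hx : x ∈ U) (s t : P.obj (op U)) :
    gm P x hx (s + t) = gm P x hx s + gm P x hx t :=
  map_add (TopCat.Presheaf.germ P.presheaf U x hx).hom s t

lemma gm_sum {ι : Type*} (S : Finset ι) {U : Opens X} (x : X) (hx : x ∈ U) (s : ι → P.obj (op U)) :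
    gm P x hx (∑ i ∈ S, s i) = ∑ i ∈ S, gm P x hx (s i) :=
  map_sum (TopCat.Presheaf.germ P.presheaf U x hx).hom s S

lemma gm_smul {U : Opens X} (x : X) (hx : x ∈ U) (r : R.obj (op U)) (s : P.obj (op U)) :
    gm P x hx (r • s) = gr x hx r • gm P x hx s :=
  PresheafOfModules.germ_smul P x U hx r s

lemma gm_res {U V : Opens X} (h : V ≤ U) (x : X) (hx : x ∈ V) (s : P.obj (op U)) :
    gm P x hx (res P h s) = gm P x (h hx) s :=
  TopCat.Presheaf.germ_res_apply P.presheaf (homOfLE h) x hx s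

lemma gr_res {U V : Opens X} (h : V ≤ U) (x : X) (hx : x ∈ V) (r : R.obj (op U)) :
    gr x hx (resR h r) = gr x (h hx) r :=
  TopCat.Presheaf.germ_res_apply R (homOfLE h) x hx r

lemma exists_gm_eq (x : X) (t : TopCat.Presheaf.stalk (X := X) (C := Ab.{u}) P.presheaf x) :
    ∃ (U : Opens X) (hx : x ∈ U) (s : P.obj (op U)), gm P x hx s = t :=
  TopCat.Presheaf.exists_germ_eq P.presheaf t

lemma exists_gr_eq (x : X) (t : R.stalk x) :
    ∃ (U : Opens X) (hx : x ∈ U) (r : R.obj (op U)), gr x hx r = t :=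
  TopCat.Presheaf.exists_germ_eq R t

lemma exists_res_eq_of_gm_eq {U : Opens X} (x : X) (hx : x ∈ U) (s t : P.obj (op U))
    (h : gm P x hx s = gm P x hx t) :
    ∃ (W : Opens X) (hW : W ≤ U), x ∈ W ∧ res P hW s = res P hW t := by
  obtain ⟨W, hxW, iU, iV, hW⟩ := TopCat.Presheaf.germ_eq P.presheaf x hx hx s t h
  exact ⟨W, iU.le, hxW, hW⟩


/-- the stalk of a presheaf of modules, as a type with its module structure -/
abbrev St (P : PM R) (x : X) : Type u := TopCat.Presheaf.stalk (X := X) (C := Ab.{u}) P.presheaf x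

/-- the canonical additive map `P(U) ⊗_{R(U)} Q(U) → P_x ⊗_{R_x} Q_x` -/
noncomputable def toStalkTensor (P Q : PM R) {U : Opens X} (x : X) (hx : x ∈ U) :
    (↑(P.obj (op U)) ⊗[↑(R.obj (op U))] ↑(Q.obj (op U))) →+ (St P x ⊗[↑(R.stalk x)] St Q x) :=
  TensorProduct.liftAddHom
    (AddMonoidHom.mk' (fun p => AddMonoidHom.mk' (fun q => gm P x hx p ⊗ₜ[↑(R.stalk x)] gm Q x hx q)
        (fun q q' => by rw [gm_add, tmul_add]))
      (fun p p' => by
        ext q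
        change gm P x hx (p + p') ⊗ₜ[↑(R.stalk x)] gm Q x hx q = _
        rw [gm_add, add_tmul]
        rfl))
    (fun r p q => by
      change gm P x hx (r • p) ⊗ₜ[↑(R.stalk x)] gm Q x hx q =
        gm P x hx p ⊗ₜ[↑(R.stalk x)] gm Q x hx (r • q)
      rw [gm_smul, gm_smul, smul_tmul])

lemma toStalkTensor_tmul (P Q : PM R) {U : Opens X} (x : X) (hx : x ∈ U)
    (p : P.obj (op U)) (q : Q.obj (op U)) :
    toStalkTensor P Q x hx (p ⊗ₜ q) = gm P x hx p ⊗ₜ[↑(R.stalk x)] gm Q x hx q := rfl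


theorem locInj_whiskerRight_of_flat {P P' : PM R} (f : P ⟶ P') (Q : PM R)
    (fx : ∀ x : X, St P x →ₗ[↑(R.stalk x)] St P' x)
    (hfx : ∀ (x : X) (U : Opens X) (hx : x ∈ U) (s : P.obj (op U)),
      fx x (gm P x hx s) = gm P' x hx (f.app (op U) s))
    (hinj : ∀ x, Function.Injective (fx x))
    (hQ : ∀ x : X, Module.Flat ↑(R.stalk x) (St Q x)) : LocInj (f ▷ Q) := by
  classical
  intro U t ht x hx
  obtain ⟨S, hS⟩ := TensorProduct.exists_finset (R := ↑(R.obj (op U))) (M := ↑(P.obj (op U)))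
    (N := ↑(Q.obj (op U))) t
  let p : S → P.obj (op U) := fun i => i.1.1
  let q : S → Q.obj (op U) := fun i => i.1.2
  have htsum : t = ∑ i : S, (p i ⊗ₜ q i : ↑((P ⊗ Q).obj (op U))) :=
    hS.trans (Finset.sum_coe_sort S (fun i => i.1 ⊗ₜ[↑(R.obj (op U))] i.2)).symm
  have h0 : (∑ i : S, (f.app (op U) (p i)) ⊗ₜ[↑(R.obj (op U))] q i :
      ↑(P'.obj (op U)) ⊗[↑(R.obj (op U))] ↑(Q.obj (op U))) = 0 :=
    (whiskerRight_app_tsum f Q p q).symm.trans
      ((congrArg (fun s => (f ▷ Q).app (op U) s) htsum.symm).trans ht)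
  -- pass to stalks
  have h1 : ∑ i : S, gm P' x hx (f.app (op U) (p i)) ⊗ₜ[↑(R.stalk x)] gm Q x hx (q i) = 0 := by
    have := congrArg (toStalkTensor P' Q x hx) h0
    rw [map_sum, map_zero] at this
    exact this
  have h2 : ∑ i : S, gm P x hx (p i) ⊗ₜ[↑(R.stalk x)] gm Q x hx (q i) = 0 := by
    have hflat := hQ x
    apply Module.Flat.rTensor_preserves_injective_linearMap (M := St Q x) (fx x) (hinj x)
    rw [map_sum, map_zero]
    simp only [LinearMap.rTensor_tmul, hfx]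
    exact h1
  obtain ⟨κ, _, g, k, a, y, h₁, h₂⟩ := exists_vanishesTrivially_of_sum_tmul_eq_zero
    (A := ↑(R.stalk x)) (fun i => gm P x hx (p i)) (fun i => gm Q x hx (q i)) h2
  -- lift `g`
  obtain ⟨V₁, hV₁U, hxV₁, hV₁⟩ := exists_common_nhd U x hx
    (fun (l : κ) V => ∀ hxV : x ∈ V, ∃ pt : P.obj (op V), gm P x hxV pt = g l)
    (by
      intro l V V' hV' hΦ hxV'
      obtain ⟨pt, hpt⟩ := hΦ (hV' hxV')
      exact ⟨res P hV' pt, by rw [gm_res, hpt]⟩)
    (fun l => by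
      obtain ⟨U', hx', s, hs⟩ := exists_gm_eq (P := P) x (g l)
      refine ⟨U ⊓ U', inf_le_left, ⟨hx, hx'⟩, fun hxV => ⟨res P inf_le_right s, ?_⟩⟩
      rw [gm_res, hs])
  -- lift `a`
  obtain ⟨V₂, hV₂V₁, hxV₂, hV₂⟩ := exists_common_nhd V₁ x hxV₁
    (fun (lj : (S ⊕ κ) × Fin k) V => ∀ hxV : x ∈ V, ∃ r : R.obj (op V), gr x hxV r = a lj.1 lj.2)
    (by
      intro l V V' hV' hΦ hxV'
      obtain ⟨r, hr⟩ := hΦ (hV' hxV')
      exact ⟨resR hV' r, by rw [gr_res, hr]⟩)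
    (fun lj => by
      obtain ⟨U', hx', r, hr⟩ := exists_gr_eq (R := R) x (a lj.1 lj.2)
      refine ⟨V₁ ⊓ U', inf_le_left, ⟨hxV₁, hx'⟩, fun hxV => ⟨resR inf_le_right r, ?_⟩⟩
      rw [gr_res, hr])
  -- lift `y`
  obtain ⟨V₀, hV₀V₂, hxV₀, hV₃⟩ := exists_common_nhd V₂ x hxV₂
    (fun (j : Fin k) V => ∀ hxV : x ∈ V, ∃ yt : Q.obj (op V), gm Q x hxV yt = y j)
    (by
      intro l V V' hV' hΦ hxV'
      obtain ⟨yt, hyt⟩ := hΦ (hV' hxV')
      exact ⟨res Q hV' yt, by rw [gm_res, hyt]⟩)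
    (fun j => by
      obtain ⟨U', hx', s, hs⟩ := exists_gm_eq (P := Q) x (y j)
      refine ⟨V₂ ⊓ U', inf_le_left, ⟨hxV₂, hx'⟩, fun hxV => ⟨res Q inf_le_right s, ?_⟩⟩
      rw [gm_res, hs])
  have hV₀U : V₀ ≤ U := hV₀V₂.trans (hV₂V₁.trans hV₁U)
  -- all data on `V₀`
  have hpt' : ∀ l : κ, ∃ pt : P.obj (op V₀), gm P x hxV₀ pt = g l := fun l => by
    obtain ⟨pt, hpt⟩ := hV₁ l hxV₁
    exact ⟨res P (hV₀V₂.trans hV₂V₁) pt, by rw [gm_res, hpt]⟩
  have hr' : ∀ (l : S ⊕ κ) (j : Fin k), ∃ r : R.obj (op V₀), gr x hxV₀ r = a l j := fun l j => by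
    obtain ⟨r, hr⟩ := hV₂ (l, j) hxV₂
    exact ⟨resR hV₀V₂ r, by rw [gr_res, hr]⟩
  have hy' : ∀ j : Fin k, ∃ yt : Q.obj (op V₀), gm Q x hxV₀ yt = y j := fun j => hV₃ j hxV₀
  choose pt hpt using hpt'
  choose at' hat using hr'
  choose yt hyt using hy'
  let m₀ : S ⊕ κ → P.obj (op V₀) := Sum.elim (fun i => res P hV₀U (p i)) pt
  let n₀ : S ⊕ κ → Q.obj (op V₀) := Sum.elim (fun i => res Q hV₀U (q i)) (fun _ => 0)
  have hm₀ : ∀ l, gm P x hxV₀ (m₀ l) = Sum.elim (fun i => gm P x hx (p i)) g l := by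
    rintro (i | l)
    · exact gm_res hV₀U x hxV₀ (p i)
    · exact hpt l
  have hn₀ : ∀ l, gm Q x hxV₀ (n₀ l) =
      Sum.elim (fun i => gm Q x hx (q i)) (fun _ => (0 : St Q x)) l := by
    rintro (i | l)
    · exact gm_res hV₀U x hxV₀ (q i)
    · exact gm_zero x hxV₀
  -- the equations hold on a smaller neighbourhood
  have E1 : ∀ l, gm Q x hxV₀ (n₀ l) = gm Q x hxV₀ (∑ j, at' l j • yt j) := by
    intro l
    rw [hn₀, h₁ l, gm_sum]
    refine Finset.sum_congr rfl fun j _ => ?_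
    rw [gm_smul, hat, hyt]
  have E2 : ∀ j, gm P x hxV₀ (∑ l, at' l j • m₀ l) = gm P x hxV₀ 0 := by
    intro j
    rw [gm_zero, gm_sum, ← h₂ j]
    refine Finset.sum_congr rfl fun l _ => ?_
    rw [gm_smul, hat, hm₀]
  obtain ⟨W₁, hW₁V₀, hxW₁, hW₁⟩ := exists_common_nhd V₀ x hxV₀
    (fun (l : S ⊕ κ) W => ∃ (h : W ≤ V₀), res Q h (n₀ l) = res Q h (∑ j, at' l j • yt j))
    (by
      rintro l W W' hW' ⟨h, hz⟩
      exact ⟨hW'.trans h, by rw [← res_res h hW', hz, res_res]⟩)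
    (fun l => by
      obtain ⟨W, hWV, hxW, hW⟩ := exists_res_eq_of_gm_eq x hxV₀ _ _ (E1 l)
      exact ⟨W, hWV, hxW, hWV, hW⟩)
  obtain ⟨W, hWW₁, hxW, hW₂⟩ := exists_common_nhd W₁ x hxW₁
    (fun (j : Fin k) W => ∃ (h : W ≤ V₀), res P h (∑ l, at' l j • m₀ l) = 0)
    (by
      rintro j W W' hW' ⟨h, hz⟩
      exact ⟨hW'.trans h, by rw [← res_res h hW', hz, res_zero]⟩)
    (fun j => by
      obtain ⟨W, hWV, hxW, hW⟩ := exists_res_eq_of_gm_eq x hxV₀ _ _ (E2 j)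
      rw [res_zero] at hW
      exact ⟨W ⊓ W₁, inf_le_right, ⟨hxW, hxW₁⟩, inf_le_left.trans hWV,
        by rw [← res_res hWV inf_le_left, hW, res_zero]⟩)
  have hWV₀ : W ≤ V₀ := hWW₁.trans hW₁V₀
  refine ⟨W, hWV₀.trans hV₀U, hxW, ?_⟩
  let mW : S ⊕ κ → P.obj (op W) := fun l => res P hWV₀ (m₀ l)
  let nW : S ⊕ κ → Q.obj (op W) := fun l => res Q hWV₀ (n₀ l)
  have hvan : VanishesTrivially (↑(R.obj (op W))) mW nW := by
    refine ⟨k, fun l j => resR hWV₀ (at' l j), fun j => res Q hWV₀ (yt j), fun l => ?_, fun j => ?_⟩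
    · obtain ⟨h, hz⟩ := hW₁ l
      have := congrArg (res Q hWW₁) hz
      rw [res_res, res_res, res_sum] at this
      refine this.trans ?_
      exact Finset.sum_congr rfl fun j _ => res_smul _ _ _
    · obtain ⟨h, hz⟩ := hW₂ j
      rw [res_sum] at hz
      refine Eq.trans ?_ hz
      exact Finset.sum_congr rfl fun l _ => (res_smul _ _ _).symm
  have hsum := sum_tmul_eq_zero_of_vanishesTrivially _ hvan
  rw [Fintype.sum_sum_type] at hsum
  have hκ : ∑ l : κ, mW (Sum.inr l) ⊗ₜ[↑(R.obj (op W))] nW (Sum.inr l) = 0 := by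
    refine Finset.sum_eq_zero fun l _ => ?_
    change _ ⊗ₜ res Q _ 0 = _
    rw [res_zero, tmul_zero]
  rw [hκ, add_zero] at hsum
  rw [htsum]
  refine (res_tsum _ p q).trans (Eq.trans ?_ hsum)
  refine Finset.sum_congr rfl fun i _ => ?_
  change _ = res P hWV₀ (res P hV₀U (p i)) ⊗ₜ res Q hWV₀ (res Q hV₀U (q i))
  rw [res_res, res_res]

end Groth.Agent.Lib.StalkFlatTensor66
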