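/-
helper81: stalk of the presheaf tensor product on a ringed space (PM R, helper42/helper66 API): exists_res_tsum_eq_zero
(equational criterion lifted to a neighbourhood), TS, resT, toStalkTensor_res, stalkTensorHom (+_gm, _gm_tmul, injective, surjective, _smul),
stalkTensorEquiv P Q x : (P ⊗ Q)_x ≃ₗ[R_x] P_x ⊗ Q_x, stalkTensorEquiv_gm_tmul.
-/
import Groth.Agent.Lib.StalkFlatTensor66

set_option autoImplicit false
universe u
open CategoryTheory CategoryTheory.Limits MonoidalCategory Opposite TopologicalSpace TensorProduct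

namespace Groth.Agent.Lib.StalkTensor81

open Groth.Agent.Lib.OXModTensorW Groth.Agent.Lib.StalkFlatTensor66

variable {X : TopCat.{u}} {R : X.Presheaf CommRingCat.{u}} (P Q : PM R)

/-- if a finite sum of pure tensors of germs vanishes in the tensor product of stalks, the sum of pure tensors
of sections vanishes on a neighbourhood -/
theorem exists_res_tsum_eq_zero {ι : Type*} [Fintype ι] {U : Opens X} (x : X) (hx : x ∈ U)
    (p : ι → P.obj (op U)) (q : ι → Q.obj (op U))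
    (h2 : ∑ i, gm P x hx (p i) ⊗ₜ[↑(R.stalk x)] gm Q x hx (q i) = 0) :
    ∃ (W : Opens X) (hW : W ≤ U), x ∈ W ∧
      (∑ i, res P hW (p i) ⊗ₜ[↑(R.obj (op W))] res Q hW (q i) :
        ↑(P.obj (op W)) ⊗[↑(R.obj (op W))] ↑(Q.obj (op W))) = 0 := by
  classical
  obtain ⟨κ, _, g, k, a, y, h₁, h₂⟩ := exists_vanishesTrivially_of_sum_tmul_eq_zero
    (A := ↑(R.stalk x)) (fun i => gm P x hx (p i)) (fun i => gm Q x hx (q i)) h2
  -- lift `g`
  obtain ⟨V₁, hV₁U, hxV₁, hV₁⟩ := exists_common_nhd U x hx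
    (fun (l : κ) V => ∀ hxV : x ∈ V, ∃ pt : P.obj (op V), gm P x hxV pt = g l)
    (by
      intro l V V' hV' hΦ hxV'
      obtain ⟨pt, hpt⟩ := hΦ (hV' hxV')
      exact ⟨res P hV' pt, by rw [gm_res, hpt]⟩)
    (fun l => by
      obtain ⟨U', hx', s, hs⟩ := exists_gm_eq (P := P) x (g l)
      refine ⟨U ⊓ U', inf_le_left, ⟨hx, hx'⟩, fun hxV => ⟨res P inf_le_right s, ?_⟩⟩
      rw [gm_res, hs])
  -- lift `a`
  obtain ⟨V₂, hV₂V₁, hxV₂, hV₂⟩ := exists_common_nhd V₁ x hxV₁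
    (fun (lj : (ι ⊕ κ) × Fin k) V => ∀ hxV : x ∈ V, ∃ r : R.obj (op V), gr x hxV r = a lj.1 lj.2)
    (by
      intro l V V' hV' hΦ hxV'
      obtain ⟨r, hr⟩ := hΦ (hV' hxV')
      exact ⟨resR hV' r, by rw [gr_res, hr]⟩)
    (fun lj => by
      obtain ⟨U', hx', r, hr⟩ := exists_gr_eq (R := R) x (a lj.1 lj.2)
      refine ⟨V₁ ⊓ U', inf_le_left, ⟨hxV₁, hx'⟩, fun hxV => ⟨resR inf_le_right r, ?_⟩⟩
      rw [gr_res, hr])
  -- lift `y`
  obtain ⟨V₀, hV₀V₂, hxV₀, hV₃⟩ := exists_common_nhd V₂ x hxV₂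
    (fun (j : Fin k) V => ∀ hxV : x ∈ V, ∃ yt : Q.obj (op V), gm Q x hxV yt = y j)
    (by
      intro l V V' hV' hΦ hxV'
      obtain ⟨yt, hyt⟩ := hΦ (hV' hxV')
      exact ⟨res Q hV' yt, by rw [gm_res, hyt]⟩)
    (fun j => by
      obtain ⟨U', hx', s, hs⟩ := exists_gm_eq (P := Q) x (y j)
      refine ⟨V₂ ⊓ U', inf_le_left, ⟨hxV₂, hx'⟩, fun hxV => ⟨res Q inf_le_right s, ?_⟩⟩
      rw [gm_res, hs])
  have hV₀U : V₀ ≤ U := hV₀V₂.trans (hV₂V₁.trans hV₁U)
  -- all data on `V₀`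
  have hpt' : ∀ l : κ, ∃ pt : P.obj (op V₀), gm P x hxV₀ pt = g l := fun l => by
    obtain ⟨pt, hpt⟩ := hV₁ l hxV₁
    exact ⟨res P (hV₀V₂.trans hV₂V₁) pt, by rw [gm_res, hpt]⟩
  have hr' : ∀ (l : ι ⊕ κ) (j : Fin k), ∃ r : R.obj (op V₀), gr x hxV₀ r = a l j := fun l j => by
    obtain ⟨r, hr⟩ := hV₂ (l, j) hxV₂
    exact ⟨resR hV₀V₂ r, by rw [gr_res, hr]⟩
  have hy' : ∀ j : Fin k, ∃ yt : Q.obj (op V₀), gm Q x hxV₀ yt = y j := fun j => hV₃ j hxV₀
  choose pt hpt using hpt'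
  choose at' hat using hr'
  choose yt hyt using hy'
  let m₀ : ι ⊕ κ → P.obj (op V₀) := Sum.elim (fun i => res P hV₀U (p i)) pt
  let n₀ : ι ⊕ κ → Q.obj (op V₀) := Sum.elim (fun i => res Q hV₀U (q i)) (fun _ => 0)
  have hm₀ : ∀ l, gm P x hxV₀ (m₀ l) = Sum.elim (fun i => gm P x hx (p i)) g l := by
    rintro (i | l)
    · exact gm_res hV₀U x hxV₀ (p i)
    · exact hpt l
  have hn₀ : ∀ l, gm Q x hxV₀ (n₀ l) =
      Sum.elim (fun i => gm Q x hx (q i)) (fun _ => (0 : St Q x)) l := by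
    rintro (i | l)
    · exact gm_res hV₀U x hxV₀ (q i)
    · exact gm_zero x hxV₀
  -- the equations hold on a smaller neighbourhood
  have E1 : ∀ l, gm Q x hxV₀ (n₀ l) = gm Q x hxV₀ (∑ j, at' l j • yt j) := by
    intro l
    rw [hn₀, h₁ l, gm_sum]
    refine Finset.sum_congr rfl fun j _ => ?_
    rw [gm_smul, hat, hyt]
  have E2 : ∀ j, gm P x hxV₀ (∑ l, at' l j • m₀ l) = gm P x hxV₀ 0 := by
    intro j
    rw [gm_zero, gm_sum, ← h₂ j]
    refine Finset.sum_congr rfl fun l _ => ?_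
    rw [gm_smul, hat, hm₀]
  obtain ⟨W₁, hW₁V₀, hxW₁, hW₁⟩ := exists_common_nhd V₀ x hxV₀
    (fun (l : ι ⊕ κ) W => ∃ (h : W ≤ V₀), res Q h (n₀ l) = res Q h (∑ j, at' l j • yt j))
    (by
      rintro l W W' hW' ⟨h, hz⟩
      exact ⟨hW'.trans h, by rw [← res_res h hW', hz, res_res]⟩)
    (fun l => by
      obtain ⟨W, hWV, hxW, hW⟩ := exists_res_eq_of_gm_eq x hxV₀ _ _ (E1 l)
      exact ⟨W, hWV, hxW, hWV, hW⟩)
  obtain ⟨W, hWW₁, hxW, hW₂⟩ := exists_common_nhd W₁ x hxW₁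
    (fun (j : Fin k) W => ∃ (h : W ≤ V₀), res P h (∑ l, at' l j • m₀ l) = 0)
    (by
      rintro j W W' hW' ⟨h, hz⟩
      exact ⟨hW'.trans h, by rw [← res_res h hW', hz, res_zero]⟩)
    (fun j => by
      obtain ⟨W, hWV, hxW, hW⟩ := exists_res_eq_of_gm_eq x hxV₀ _ _ (E2 j)
      rw [res_zero] at hW
      exact ⟨W ⊓ W₁, inf_le_right, ⟨hxW, hxW₁⟩, inf_le_left.trans hWV,
        by rw [← res_res hWV inf_le_left, hW, res_zero]⟩)
  have hWV₀ : W ≤ V₀ := hWW₁.trans hW₁V₀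
  refine ⟨W, hWV₀.trans hV₀U, hxW, ?_⟩
  let mW : ι ⊕ κ → P.obj (op W) := fun l => res P hWV₀ (m₀ l)
  let nW : ι ⊕ κ → Q.obj (op W) := fun l => res Q hWV₀ (n₀ l)
  have hvan : VanishesTrivially (↑(R.obj (op W))) mW nW := by
    refine ⟨k, fun l j => resR hWV₀ (at' l j), fun j => res Q hWV₀ (yt j), fun l => ?_, fun j => ?_⟩
    · obtain ⟨h, hz⟩ := hW₁ l
      have := congrArg (res Q hWW₁) hz
      rw [res_res, res_res, res_sum] at this
      refine this.trans ?_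
      exact Finset.sum_congr rfl fun j _ => res_smul _ _ _
    · obtain ⟨h, hz⟩ := hW₂ j
      rw [res_sum] at hz
      refine Eq.trans ?_ hz
      exact Finset.sum_congr rfl fun l _ => (res_smul _ _ _).symm
  have hsum := sum_tmul_eq_zero_of_vanishesTrivially _ hvan
  rw [Fintype.sum_sum_type] at hsum
  have hκ : ∑ l : κ, mW (Sum.inr l) ⊗ₜ[↑(R.obj (op W))] nW (Sum.inr l) = 0 := by
    refine Finset.sum_eq_zero fun l _ => ?_
    change _ ⊗ₜ res Q _ 0 = _
    rw [res_zero, tmul_zero]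
  rw [hκ, add_zero] at hsum
  refine Eq.trans ?_ hsum
  refine Finset.sum_congr rfl fun i _ => ?_
  change _ = res P hWV₀ (res P hV₀U (p i)) ⊗ₜ res Q hWV₀ (res Q hV₀U (q i))
  rw [res_res, res_res]

end Groth.Agent.Lib.StalkTensor81

namespace Groth.Agent.Lib.StalkTensor81

open Groth.Agent.Lib.OXModTensorW Groth.Agent.Lib.StalkFlatTensor66

variable {X : TopCat.{u}} {R : X.Presheaf CommRingCat.{u}} (P Q : PM R)

/-- sections of the presheaf tensor product, as a tensor product -/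
abbrev TS (U : Opens X) : Type u := ↑(P.obj (op U)) ⊗[↑(R.obj (op U))] ↑(Q.obj (op U))

/-- restriction on the tensor product presheaf, typed on tensor products -/
noncomputable def resT {U V : Opens X} (h : V ≤ U) : TS P Q U →+ TS P Q V :=
  ((P ⊗ Q).presheaf.map (homOfLE h).op).hom

theorem resT_tmul {U V : Opens X} (h : V ≤ U) (p : P.obj (op U)) (q : Q.obj (op U)) :
    resT P Q h (p ⊗ₜ q) = res P h p ⊗ₜ res Q h q :=
  res_tmul h p q

theorem toStalkTensor_res {U V : Opens X} (h : V ≤ U) (x : X) (hx : x ∈ V) (t : TS P Q U) :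
    toStalkTensor P Q x hx (resT P Q h t) = toStalkTensor P Q x (h hx) t := by
  induction t using TensorProduct.induction_on with
  | zero => rw [map_zero, map_zero, map_zero]
  | tmul p q =>
    rw [resT_tmul, toStalkTensor_tmul, toStalkTensor_tmul, gm_res, gm_res]
  | add a b ha hb => rw [map_add, map_add, map_add, ha, hb]

/-- the cocone defining the comparison map -/
noncomputable def stalkTensorCocone (x : X) : Cocone ((OpenNhds.inclusion x).op ⋙ (P ⊗ Q).presheaf) where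
  pt := AddCommGrpCat.of (St P x ⊗[↑(R.stalk x)] St Q x)
  ι :=
    { app := fun U => AddCommGrpCat.ofHom (toStalkTensor P Q x U.unop.2)
      naturality := fun U V f => by
        ext t
        exact toStalkTensor_res P Q (leOfHom f.unop) x V.unop.2 t }

/-- the comparison map `(P ⊗ Q)_x → P_x ⊗ Q_x` -/
noncomputable def stalkTensorHom (x : X) : St (P ⊗ Q) x →+ (St P x ⊗[↑(R.stalk x)] St Q x) :=
  (colimit.desc ((OpenNhds.inclusion x).op ⋙ (P ⊗ Q).presheaf) (stalkTensorCocone P Q x)).hom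

theorem stalkTensorHom_gm {U : Opens X} (x : X) (hx : x ∈ U) (t : TS P Q U) :
    stalkTensorHom P Q x (gm (P ⊗ Q) x hx t) = toStalkTensor P Q x hx t := by
  have := colimit.ι_desc (stalkTensorCocone P Q x) (op ⟨U, hx⟩)
  exact ConcreteCategory.congr_hom this t

theorem stalkTensorHom_gm_tmul {U : Opens X} (x : X) (hx : x ∈ U) (p : P.obj (op U))
    (q : Q.obj (op U)) :
    stalkTensorHom P Q x (gm (P ⊗ Q) x hx (p ⊗ₜ q : TS P Q U)) =
      gm P x hx p ⊗ₜ[↑(R.stalk x)] gm Q x hx q :=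
  stalkTensorHom_gm P Q x hx _

theorem stalkTensorHom_surjective (x : X) : Function.Surjective (stalkTensorHom P Q x) := by
  intro z
  induction z using TensorProduct.induction_on with
  | zero => exact ⟨0, map_zero _⟩
  | tmul a b =>
    obtain ⟨U, hxU, p, rfl⟩ := exists_gm_eq (P := P) x a
    obtain ⟨V, hxV, q, rfl⟩ := exists_gm_eq (P := Q) x b
    have hxW : x ∈ U ⊓ V := ⟨hxU, hxV⟩
    refine ⟨gm (P ⊗ Q) x hxW
      ((res P inf_le_left p ⊗ₜ res Q inf_le_right q : TS P Q (U ⊓ V))), ?_⟩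
    rw [stalkTensorHom_gm_tmul, gm_res, gm_res]
  | add a b ha hb =>
    obtain ⟨a', rfl⟩ := ha
    obtain ⟨b', rfl⟩ := hb
    exact ⟨a' + b', map_add _ _ _⟩

theorem stalkTensorHom_injective (x : X) : Function.Injective (stalkTensorHom P Q x) := by
  classical
  rw [injective_iff_map_eq_zero]
  intro z hz
  obtain ⟨U, hxU, t, rfl⟩ := exists_gm_eq (P := P ⊗ Q) x z
  obtain ⟨S, hS⟩ := TensorProduct.exists_finset (R := ↑(R.obj (op U))) (M := ↑(P.obj (op U)))
    (N := ↑(Q.obj (op U))) t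
  let p : S → P.obj (op U) := fun i => i.1.1
  let q : S → Q.obj (op U) := fun i => i.1.2
  have htsum : (t : TS P Q U) = ∑ i : S, (p i ⊗ₜ q i : TS P Q U) :=
    hS.trans (Finset.sum_coe_sort S (fun i => i.1 ⊗ₜ[↑(R.obj (op U))] i.2)).symm
  have h2 : ∑ i : S, gm P x hxU (p i) ⊗ₜ[↑(R.stalk x)] gm Q x hxU (q i) = 0 := by
    have hz' : toStalkTensor P Q x hxU t = 0 := (stalkTensorHom_gm P Q x hxU t).symm.trans hz
    rw [htsum, map_sum] at hz'
    exact hz'
  obtain ⟨W, hWU, hxW, hW⟩ := exists_res_tsum_eq_zero P Q x hxU p q h2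
  have h3 : resT P Q hWU t = 0 := by
    rw [htsum, map_sum]
    refine Eq.trans ?_ hW
    exact Finset.sum_congr rfl fun i _ => resT_tmul P Q hWU (p i) (q i)
  have h4 := gm_res (P := P ⊗ Q) hWU x hxW t
  rw [← h4]
  change gm (P ⊗ Q) x hxW (resT P Q hWU t) = 0
  rw [h3]
  exact gm_zero x hxW

end Groth.Agent.Lib.StalkTensor81

namespace Groth.Agent.Lib.StalkTensor81

open Groth.Agent.Lib.OXModTensorW Groth.Agent.Lib.StalkFlatTensor66

variable {X : TopCat.{u}} {R : X.Presheaf CommRingCat.{u}} (P Q : PM R)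

theorem toStalkTensor_smul {U : Opens X} (x : X) (hx : x ∈ U) (r : R.obj (op U)) (t : TS P Q U) :
    toStalkTensor P Q x hx (r • t) = gr x hx r • toStalkTensor P Q x hx t := by
  induction t using TensorProduct.induction_on with
  | zero => rw [smul_zero, map_zero, smul_zero]
  | tmul p q =>
    rw [TensorProduct.smul_tmul', toStalkTensor_tmul, toStalkTensor_tmul, gm_smul,
      TensorProduct.smul_tmul']
  | add a b ha hb => rw [smul_add, map_add, map_add, ha, hb, smul_add]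

theorem stalkTensorHom_smul (x : X) (r : R.stalk x) (z : St (P ⊗ Q) x) :
    stalkTensorHom P Q x (r • z) = r • stalkTensorHom P Q x z := by
  obtain ⟨U, hxU, r', rfl⟩ := exists_gr_eq (R := R) x r
  obtain ⟨V, hxV, t, rfl⟩ := exists_gm_eq (P := P ⊗ Q) x z
  have hxW : x ∈ U ⊓ V := ⟨hxU, hxV⟩
  rw [← gr_res (inf_le_left : U ⊓ V ≤ U) x hxW r', ← gm_res (inf_le_right : U ⊓ V ≤ V) x hxW t,
    ← gm_smul]
  erw [stalkTensorHom_gm, stalkTensorHom_gm]
  exact toStalkTensor_smul P Q x hxW _ _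

/-- the stalk of the presheaf tensor product is the tensor product of the stalks -/
noncomputable def stalkTensorEquiv (x : X) :
    St (P ⊗ Q) x ≃ₗ[↑(R.stalk x)] (St P x ⊗[↑(R.stalk x)] St Q x) :=
  LinearEquiv.ofBijective
    { toFun := stalkTensorHom P Q x
      map_add' := map_add _
      map_smul' := stalkTensorHom_smul P Q x }
    ⟨stalkTensorHom_injective P Q x, stalkTensorHom_surjective P Q x⟩

theorem stalkTensorEquiv_gm_tmul {U : Opens X} (x : X) (hx : x ∈ U) (p : P.obj (op U))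
    (q : Q.obj (op U)) :
    stalkTensorEquiv P Q x (gm (P ⊗ Q) x hx (p ⊗ₜ q : TS P Q U)) =
      gm P x hx p ⊗ₜ[↑(R.stalk x)] gm Q x hx q :=
  stalkTensorHom_gm_tmul P Q x hx p q

end Groth.Agent.Lib.StalkTensor81
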