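/-
helper81: scheme level: unitStalk (stalk map of the sheafification unit of the presheaf tensor product; bijective, linear),
tensorStalkEquiv M N x : (CohB1.tensorMod M N)_x ≃ₗ[O_x] M_x ⊗ N_x, tensorStalkEquiv_germ_tmul (germ of H78TensorGen.tmul m n ↦ germ m ⊗ germ n).
-/
import Groth.Agent.Lib.StalkTensor81
import Groth.Agent.Lib.H78TensorGen
import Groth.Agent.Lib.ModStalkLin
import Groth.Agent.Lib.QCohStalk

set_option autoImplicit false
universe u
open CategoryTheory CategoryTheory.Limits MonoidalCategory Opposite TopologicalSpace TensorProduct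
  AlgebraicGeometry

namespace Groth.Agent.Lib.StalkTensor81

open Groth.Agent.Lib.OXModTensorW Groth.Agent.Lib.StalkFlatTensor66 Groth.Agent.Lib.H78TensorGen
  Groth.Agent.Lib.ModStalkLin

variable {X : Scheme.{u}} (M N : X.Modules) (x : X)

/-- the presheaf tensor product of two `O_X`-modules, typed as a `PM` -/
noncomputable abbrev tp : PM (T := X) X.presheaf := CohB1.tensorPre M N

/-- the stalk of the presheaf tensor product of two `O_X`-modules -/
abbrev PreSt : Type u := St (X := X.toTopCat) (R := X.presheaf) (tp M N) x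

/-- the map induced on stalks by the sheafification unit of the presheaf tensor product -/
noncomputable def unitStalk : PreSt M N x →+ (CohB1.tensorMod M N).presheaf.stalk x :=
  ((TopCat.Presheaf.stalkFunctor Ab x).map ((PresheafOfModules.toPresheaf _).map (unitT M N))).hom

theorem unitStalk_gm (U : X.Opens) (hx : x ∈ U) (p : (tpre M N).obj (op U)) :
    unitStalk M N x (gm (X := X.toTopCat) (R := X.presheaf) (tp M N) x hx p) =
      (CohB1.tensorMod M N).presheaf.germ U x hx (((unitT M N).app (op U)).hom p) :=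
  TopCat.Presheaf.stalkFunctor_map_germ_apply U x hx
    ((PresheafOfModules.toPresheaf _).map (unitT M N)) p

end Groth.Agent.Lib.StalkTensor81

namespace Groth.Agent.Lib.StalkTensor81

open Groth.Agent.Lib.OXModTensorW Groth.Agent.Lib.StalkFlatTensor66 Groth.Agent.Lib.H78TensorGen
  Groth.Agent.Lib.ModStalkLin

variable {X : Scheme.{u}} (M N : X.Modules) (x : X)

theorem unitStalk_injective : Function.Injective (unitStalk M N x) := by
  rw [injective_iff_map_eq_zero]
  intro z hz
  obtain ⟨U, hxU, p, rfl⟩ := exists_gm_eq (X := X.toTopCat) (R := X.presheaf)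
    (P := tp M N) x z
  rw [unitStalk_gm] at hz
  have h0 : (CohB1.tensorMod M N).presheaf.germ U x hxU (((unitT M N).app (op U)).hom p) =
      (CohB1.tensorMod M N).presheaf.germ U x hxU 0 := by rw [hz, map_zero]
  obtain ⟨W, hxW, iU, iV, hW⟩ := TopCat.Presheaf.germ_eq (CohB1.tensorMod M N).presheaf x hxU hxU _ _ h0
  rw [map_zero] at hW
  -- unit (p|_W) = 0
  have h1 : ((unitT M N).app (op W)).hom ((tpre M N).map iU.op p) =
      ((unitT M N).app (op W)).hom 0 := by
    rw [map_zero]
    exact (PresheafOfModules.naturality_apply (unitT M N) iU.op p).trans hW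
  obtain ⟨W', hW'W, hxW', hW'⟩ := local_inj M N _ _ h1 x hxW
  rw [map_zero] at hW'
  have h2 := gm_res (X := X.toTopCat) (R := X.presheaf) (P := tp M N)
    (hW'W.trans iU.le) x hxW' p
  rw [← h2]
  have h3 : res (R := X.presheaf) (tp M N) (hW'W.trans iU.le) p = 0 := by
    rw [← res_res (R := X.presheaf) (P := tp M N) iU.le hW'W p]
    exact hW'
  rw [h3]
  exact gm_zero x hxW'

end Groth.Agent.Lib.StalkTensor81

namespace Groth.Agent.Lib.StalkTensor81

open Groth.Agent.Lib.OXModTensorW Groth.Agent.Lib.StalkFlatTensor66 Groth.Agent.Lib.H78TensorGen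
  Groth.Agent.Lib.ModStalkLin

variable {X : Scheme.{u}} (M N : X.Modules) (x : X)

theorem unitStalk_surjective : Function.Surjective (unitStalk M N x) := by
  intro z
  obtain ⟨V, hxV, q, rfl⟩ := TopCat.Presheaf.exists_germ_eq (CohB1.tensorMod M N).presheaf z
  obtain ⟨W, hWV, hxW, p, hp⟩ := exists_local_rep M N q x hxV
  refine ⟨gm (X := X.toTopCat) (R := X.presheaf) (tp M N) x hxW p, ?_⟩
  rw [unitStalk_gm, hp]
  exact TopCat.Presheaf.germ_res_apply (CohB1.tensorMod M N).presheaf (homOfLE hWV) x hxW q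

theorem unitStalk_smul_gm (U : X.Opens) (hx : x ∈ U) (r : Γ(X, U)) (t : (tpre M N).obj (op U)) :
    unitStalk M N x (gr (X := X.toTopCat) (R := X.presheaf) x hx r •
        gm (X := X.toTopCat) (R := X.presheaf) (tp M N) x hx t) =
      gr (X := X.toTopCat) (R := X.presheaf) x hx r •
        unitStalk M N x (gm (X := X.toTopCat) (R := X.presheaf) (tp M N) x hx t) := by
  rw [← gm_smul, unitStalk_gm, unitStalk_gm]
  erw [unitT_smul r t]
  exact Groth.Agent.Lib.QCohStalk.germ_smul (CohB1.tensorMod M N) U x hx r _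

theorem unitStalk_smul (r : X.presheaf.stalk x) (z : PreSt M N x) :
    unitStalk M N x (r • z) = r • unitStalk M N x z := by
  obtain ⟨U, hxU, r', rfl⟩ := exists_gr_eq (X := X.toTopCat) (R := X.presheaf) x r
  obtain ⟨V, hxV, t, rfl⟩ := exists_gm_eq (X := X.toTopCat) (R := X.presheaf)
    (P := tp M N) x z
  have hxW : x ∈ U ⊓ V := ⟨hxU, hxV⟩
  rw [← gr_res (X := X.toTopCat) (R := X.presheaf) (inf_le_left : U ⊓ V ≤ U) x hxW r',
    ← gm_res (X := X.toTopCat) (R := X.presheaf) (P := tp M N)
      (inf_le_right : U ⊓ V ≤ V) x hxW t]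
  exact unitStalk_smul_gm M N x (U ⊓ V) hxW _ _

/-- the stalk of the tensor product of two `O_X`-modules is the tensor product of the stalks -/
noncomputable def tensorStalkEquiv :
    (CohB1.tensorMod M N).presheaf.stalk x ≃ₗ[X.presheaf.stalk x]
      (M.presheaf.stalk x ⊗[X.presheaf.stalk x] N.presheaf.stalk x) :=
  (LinearEquiv.ofBijective
    ({ toFun := unitStalk M N x
       map_add' := map_add _
       map_smul' := unitStalk_smul M N x } :
      PreSt M N x →ₗ[X.presheaf.stalk x] (CohB1.tensorMod M N).presheaf.stalk x)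
    ⟨unitStalk_injective M N x, unitStalk_surjective M N x⟩).symm.trans
  (stalkTensorEquiv (X := X.toTopCat) (R := X.presheaf) (CohB1.toPMod M) (CohB1.toPMod N) x)

theorem tensorStalkEquiv_germ_tmul (U : X.Opens) (hx : x ∈ U) (m : Γ(M, U)) (n : Γ(N, U)) :
    tensorStalkEquiv M N x ((CohB1.tensorMod M N).presheaf.germ U x hx (tmul m n)) =
      M.presheaf.germ U x hx m ⊗ₜ[X.presheaf.stalk x] N.presheaf.germ U x hx n := by
  have h1 : (CohB1.tensorMod M N).presheaf.germ U x hx (tmul m n) =
      unitStalk M N x (gm (X := X.toTopCat) (R := X.presheaf) (tp M N) x hx (ptmul m n)) :=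
    (unitStalk_gm M N x U hx (ptmul m n)).symm
  rw [h1]
  change stalkTensorEquiv (X := X.toTopCat) (R := X.presheaf) (CohB1.toPMod M) (CohB1.toPMod N) x
    ((LinearEquiv.ofBijective _ _).symm (unitStalk M N x _)) = _
  erw [LinearEquiv.symm_apply_apply]
  exact stalkTensorEquiv_gm_tmul (X := X.toTopCat) (R := X.presheaf) (CohB1.toPMod M)
    (CohB1.toPMod N) x hx m n

end Groth.Agent.Lib.StalkTensor81
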