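import Mathlib
import Groth.Agent.Lib.CohLESExact
import Groth.Agent.Lib.GrothVanish
import Groth.Agent.Lib.CohSigmaFin
import Groth.Agent.Lib.H4H0Nat
import Groth.Agent.Lib.H4GlobGen
import Groth.Agent.Lib.TwistEquiv
import Groth.Agent.Lib.CurveVanishing54
import Groth.Agent.Lib.StalkTensor81B
import Groth.Agent.Lib.LocalFlex
import Groth.Agent.Lib.ModStalk

/-!
# `H¹` and global generation on Noetherian schemes of dimension `≤ 1` (helper90)

Namespace `Groth.Agent.Lib.H90CurveH1`.

* `subsingleton_H1_of_epi`, `subsingleton_H1_of_rightExact`: `H¹` is right exact on a Noetherian scheme of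
  dimension `≤ 1` (Grothendieck vanishing).
* `subsingleton_HH_sigma`, `subsingleton_HH_free`: cohomology of coproducts.
* `isGloballyGenerated_iff`: `F` is globally generated iff every morphism out of `F` killing all global
  sections is zero; closure of global generation under quotients, coproducts, extensions (with `H¹(sub) = 0`),
  tensor products; flasque modules are globally generated.
* `subsingleton_H1_tensorMod_of_isGloballyGenerated`: `G` globally generated, `H¹(M) = 0 ⟹ H¹(G ⊗ M) = 0`.
-/

set_option autoImplicit false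
universe u
open CategoryTheory CategoryTheory.Limits AlgebraicGeometry TopologicalSpace Opposite

namespace Groth.Agent.Lib.H90CurveH1

open Groth.Agent.Lib.CohLES

section H1

variable {X : Scheme.{u}} [IsNoetherian X] (hdim : topologicalKrullDim X ≤ 1)

include hdim in
/-- `H¹` of a quotient vanishes if `H¹` vanishes (dimension `≤ 1`). -/
theorem subsingleton_H1_of_epi {F G : X.Modules} (p : F ⟶ G) [Epi p]
    (h : Subsingleton (Coh.HH X F 1)) : Subsingleton (Coh.HH X G 1) := by
  let S : ShortComplex X.Modules := ShortComplex.mk (kernel.ι p) p (kernel.condition p)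
  have hS : S.ShortExact :=
    { exact := ShortComplex.exact_of_f_is_kernel _ (kernelIsKernel p)
      mono_f := by dsimp [S]; infer_instance
      epi_g := by dsimp [S]; infer_instance }
  have h2 : Subsingleton (Coh.HH X S.X₁ (1 + 1)) :=
    Groth.Agent.Lib.GrothVanish.subsingleton_HH_of_dim_lt X 1 (by exact_mod_cast hdim) _ 2 (by norm_num)
  have h1 : Subsingleton (Coh.HH X S.X₂ 1) := h
  exact subsingleton_right hS 1

include hdim in
/-- `H¹` of the middle term of a right exact sequence vanishes if it does for the outer terms. -/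
theorem subsingleton_H1_of_rightExact (S : ShortComplex X.Modules) (hS : S.Exact) [Epi S.g]
    (h₁ : Subsingleton (Coh.HH X S.X₁ 1)) (h₃ : Subsingleton (Coh.HH X S.X₃ 1)) :
    Subsingleton (Coh.HH X S.X₂ 1) := by
  let T : ShortComplex X.Modules := ShortComplex.mk (kernel.ι S.g) S.g (kernel.condition S.g)
  have hT : T.ShortExact :=
    { exact := ShortComplex.exact_of_f_is_kernel _ (kernelIsKernel S.g)
      mono_f := by dsimp [T]; infer_instance
      epi_g := by dsimp [T]; infer_instance }
  have hepi : Epi (kernel.lift S.g S.f S.zero) := by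
    have := hS.epi_toCycles
    have h1 : S.toCycles = kernel.lift S.g S.f S.zero ≫ (S.cyclesIsoKernel).inv := by
      rw [← cancel_mono S.cyclesIsoKernel.hom, Category.assoc, Iso.inv_hom_id, Category.comp_id,
        ← cancel_mono (kernel.ι S.g)]
      simp
    rw [h1] at this
    have h2 : kernel.lift S.g S.f S.zero =
        (kernel.lift S.g S.f S.zero ≫ S.cyclesIsoKernel.inv) ≫ S.cyclesIsoKernel.hom := by
      rw [Category.assoc, Iso.inv_hom_id, Category.comp_id]
    rw [h2]
    infer_instance
  have hK : Subsingleton (Coh.HH X T.X₁ 1) := subsingleton_H1_of_epi hdim (kernel.lift S.g S.f S.zero) h₁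
  have h3 : Subsingleton (Coh.HH X T.X₃ 1) := h₃
  exact subsingleton_mid hT 1

end H1

section Sigma

variable {X : Scheme.{u}} [CompactSpace X] [QuasiSeparatedSpace X]

/-- cohomology of a coproduct vanishes if it does for all summands (qcqs scheme) -/
theorem subsingleton_HH_sigma {ι : Type u} (P : ι → X.Modules) (p : ℕ)
    (h : ∀ i, Subsingleton (Coh.HH X (P i) p)) : Subsingleton (Coh.HH X (∐ P) p) := by
  refine subsingleton_of_forall_eq 0 fun x => ?_
  obtain ⟨s, y, hy⟩ := Groth.Agent.Lib.CohSigmaFin.exists_finset_HH_sigma P p x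
  rw [hy]
  refine Finset.sum_eq_zero fun i _ => ?_
  have := h i
  rw [Subsingleton.elim (y i) 0, map_zero]

/-- cohomology of a free module vanishes if it does for the structure sheaf -/
theorem subsingleton_HH_free (ι : Type u) (p : ℕ)
    (h : Subsingleton (Coh.HH X (Coh.structureModule X) p)) :
    Subsingleton (Coh.HH X (SheafOfModules.free ι : X.Modules) p) :=
  subsingleton_HH_sigma (fun _ : ι => Coh.structureModule X) p (fun _ => h)

end Sigma

section GG

variable {X : Scheme.{u}}

open Groth.Agent.Lib.H78GlobGen2 Groth.Agent.Lib.H4GlobGen Groth.Agent.Lib.H78TensorGen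
  Groth.Agent.Lib.H78SecCoord

/-- a morphism is zero iff it kills all sections -/
lemma hom_eq_zero_of_forall {F H : X.Modules} (ψ : F ⟶ H)
    (h : ∀ (U : X.Opens) (s : Γ(F, U)), ψ.app U s = 0) : ψ = 0 := by
  refine Scheme.Modules.hom_ext _ _ fun U => ?_
  ext s
  exact h U s

/-- **criterion for global generation**: `F` is globally generated iff every morphism out of `F` which
kills all global sections is zero. -/
theorem isGloballyGenerated_iff (F : X.Modules) :
    Curv2.IsGloballyGenerated F ↔
      ∀ (H : X.Modules) (ψ : F ⟶ H), (∀ s : Γ(F, ⊤), ψ.app ⊤ s = 0) → ψ = 0 := by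
  constructor
  · rintro ⟨K, p, hp⟩ H ψ hψ
    have := comp_eq_zero_of_forall_app_top p ψ hψ
    exact (cancel_epi p).1 (this.trans comp_zero.symm)
  · intro h
    obtain ⟨ev, hev⟩ : ∃ ev : freeM X Γ(F, ⊤) ⟶ F, ev = ofSections F (fun t => t) := ⟨_, rfl⟩
    refine ⟨Γ(F, ⊤), ev, Preadditive.epi_of_cokernel_zero (h _ _ ?_)⟩
    intro s
    rw [← ofSections_id_app_top F s, ← hev]
    change (ev ≫ cokernel.π ev).app ⊤ _ = 0
    rw [cokernel.condition]
    rfl

theorem isGloballyGenerated_of_epi {F G : X.Modules} (p : F ⟶ G) [hp : Epi p]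
    (h : Curv2.IsGloballyGenerated F) : Curv2.IsGloballyGenerated G := by
  obtain ⟨K, q, hq⟩ := h
  exact ⟨K, q ≫ p, epi_comp' hq hp⟩

theorem isGloballyGenerated_of_iso {F G : X.Modules} (e : F ≅ G)
    (h : Curv2.IsGloballyGenerated F) : Curv2.IsGloballyGenerated G :=
  isGloballyGenerated_of_epi e.hom h

theorem isGloballyGenerated_free (ι : Type u) :
    Curv2.IsGloballyGenerated (SheafOfModules.free ι : X.Modules) := ⟨ι, 𝟙 _, inferInstance⟩

theorem isGloballyGenerated_structureModule :
    Curv2.IsGloballyGenerated (Coh.structureModule X) := by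
  rw [isGloballyGenerated_iff]
  intro H ψ hψ
  refine Groth.Agent.Lib.FreeModSch.unit_hom_ext _ _ ?_
  have h1 : Groth.Agent.Lib.FreeModSch.toSection ψ =
      ψ.app ⊤ (Groth.Agent.Lib.FreeModSch.toSection (𝟙 (Coh.structureModule X))) := by
    rw [← Groth.Agent.Lib.FreeModSch.toSection_comp, Category.id_comp]
  have h2 : Groth.Agent.Lib.FreeModSch.toSection (0 : Coh.structureModule X ⟶ H) =
      (0 : Coh.structureModule X ⟶ H).app ⊤
        (Groth.Agent.Lib.FreeModSch.toSection (𝟙 (Coh.structureModule X))) := by
    rw [← Groth.Agent.Lib.FreeModSch.toSection_comp, Category.id_comp]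
  rw [h1, h2, hψ]
  rfl

/-- a coproduct of globally generated modules is globally generated -/
theorem isGloballyGenerated_sigma {ι : Type u} (P : ι → X.Modules)
    (h : ∀ i, Curv2.IsGloballyGenerated (P i)) : Curv2.IsGloballyGenerated (∐ P) := by
  rw [isGloballyGenerated_iff]
  intro H ψ hψ
  refine Sigma.hom_ext _ _ fun i => ?_
  rw [comp_zero]
  exact (isGloballyGenerated_iff (P i)).1 (h i) H _ fun s => hψ ((Sigma.ι P i).app ⊤ s)

/-- a flasque module is globally generated -/
theorem isGloballyGenerated_of_isFlasque (M : X.Modules)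
    (hM : TopCat.Sheaf.IsFlasque (Coh.toAb M)) : Curv2.IsGloballyGenerated M := by
  rw [isGloballyGenerated_iff]
  intro H ψ hψ
  refine hom_eq_zero_of_forall ψ fun U s => ?_
  have hepi : Epi ((Coh.toAb M).obj.map (homOfLE (le_top : U ≤ ⊤)).op) := hM.epi _
  rw [AddCommGrpCat.epi_iff_surjective] at hepi
  obtain ⟨t, ht⟩ : ∃ t : Γ(M, ⊤), rs M le_top t = s := hepi s
  rw [← ht, app_rs, hψ t]
  exact map_zero _

/-- **extensions**: if `0 → A → B → C → 0` is exact, `A` and `C` are globally generated and global
sections of `C` lift to `B`, then `B` is globally generated. -/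
theorem isGloballyGenerated_of_shortExact' (S : ShortComplex X.Modules) (hS : S.ShortExact)
    (h₁ : Curv2.IsGloballyGenerated S.X₁) (h₃ : Curv2.IsGloballyGenerated S.X₃)
    (hlift : ∀ t : Γ(S.X₃, ⊤), ∃ s : Γ(S.X₂, ⊤), S.g.app ⊤ s = t) :
    Curv2.IsGloballyGenerated S.X₂ := by
  rw [isGloballyGenerated_iff]
  intro H ψ hψ
  have h1 : S.f ≫ ψ = 0 :=
    (isGloballyGenerated_iff S.X₁).1 h₁ H _ fun s => hψ (S.f.app ⊤ s)
  have := hS.epi_g
  -- `ψ` factors through `g`
  let ψ' : S.X₃ ⟶ H := hS.gIsCokernel.desc (CokernelCofork.ofπ ψ h1)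
  have hψ' : S.g ≫ ψ' = ψ := hS.gIsCokernel.fac (CokernelCofork.ofπ ψ h1) WalkingParallelPair.one
  have h3 : ψ' = 0 := by
    refine (isGloballyGenerated_iff S.X₃).1 h₃ H _ fun t => ?_
    obtain ⟨s, rfl⟩ := hlift t
    change (S.g ≫ ψ').app ⊤ s = 0
    rw [hψ']
    exact hψ s
  rw [← hψ', h3, comp_zero]

/-- **extensions**: if `0 → A → B → C → 0` is exact, `A` and `C` are globally generated and `H¹(A) = 0`,
then `B` is globally generated. -/
theorem isGloballyGenerated_of_shortExact (S : ShortComplex X.Modules) (hS : S.ShortExact)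
    (h₁ : Curv2.IsGloballyGenerated S.X₁) (h₃ : Curv2.IsGloballyGenerated S.X₃)
    (hH : Subsingleton (Coh.HH X S.X₁ 1)) : Curv2.IsGloballyGenerated S.X₂ :=
  isGloballyGenerated_of_shortExact' S hS h₁ h₃ fun t =>
    Groth.Agent.Lib.H4Twist.exists_section_lift hS t

end GG

section Tensor

variable {X : Scheme.{u}}

open Groth.Agent.Lib.TwistEquiv Groth.Agent.Lib.OXModTensor CohB1

instance additive_tensorRightFunctor (M : X.Modules) : (tensorRightFunctor M).Additive := by
  haveI := preservesBinaryBiproducts_of_preservesBinaryCoproducts (tensorRightFunctor M)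
  exact Functor.additive_of_preservesBinaryBiproducts _

/-- `- ⊗ M` is right exact -/
theorem rightExact_map_tensorRight (M : X.Modules) (S : ShortComplex X.Modules) (hS : S.Exact)
    [hg : Epi S.g] :
    (S.map (tensorRightFunctor M)).Exact ∧ Epi ((tensorRightFunctor M).map S.g) := by
  have h0 := ((Functor.preservesFiniteColimits_tfae (tensorRightFunctor M)).out 3 1 rfl rfl).mp
    inferInstance
  exact h0 S ⟨hS, hg⟩

/-- `- ⊗ M` preserves epimorphisms -/
theorem epi_map_tensorRight (M : X.Modules) {F G : X.Modules} (p : F ⟶ G) [hp : Epi p] :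
    Epi ((tensorRightFunctor M).map p) := by
  haveI : PreservesFiniteColimits (tensorRightFunctor M) := inferInstance
  haveI : (tensorRightFunctor M).PreservesEpimorphisms := inferInstance
  exact @Functor.map_epi _ _ _ _ (tensorRightFunctor M) _ _ _ p hp

/-- `(free ι) ⊗ M ≅ ∐_ι M` -/
noncomputable def freeTensorIso (ι : Type u) (M : X.Modules) :
    tensorMod (SheafOfModules.free ι : X.Modules) M ≅ ∐ fun _ : ι => M :=
  PreservesCoproduct.iso (tensorRightFunctor M) (fun _ : ι => Coh.structureModule X) ≪≫
    Sigma.mapIso (fun _ => leftUnitor M)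

/-- the tensor product of globally generated modules is globally generated -/
theorem isGloballyGenerated_tensorMod {E F : X.Modules} (hE : Curv2.IsGloballyGenerated E)
    (hF : Curv2.IsGloballyGenerated F) : Curv2.IsGloballyGenerated (tensorMod E F) := by
  obtain ⟨K, p, hp⟩ := hE
  have hp' := epi_map_tensorRight F p (hp := hp)
  refine isGloballyGenerated_of_epi ((tensorRightFunctor F).map p) (hp := hp') ?_
  exact isGloballyGenerated_of_iso (freeTensorIso K F).symm (isGloballyGenerated_sigma _ fun _ => hF)

/-- tensor powers of a globally generated module are globally generated -/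
theorem isGloballyGenerated_tensorPow {E : X.Modules} (hE : Curv2.IsGloballyGenerated E) :
    ∀ n : ℕ, Curv2.IsGloballyGenerated (tensorPow E n)
  | 0 => isGloballyGenerated_structureModule
  | n + 1 => isGloballyGenerated_tensorMod (isGloballyGenerated_tensorPow hE n) hE

variable [IsNoetherian X] (hdim : topologicalKrullDim X ≤ 1)

include hdim in
/-- on a Noetherian scheme of dimension `≤ 1`: `G` globally generated and `H¹(M) = 0` imply `H¹(G ⊗ M) = 0` -/
theorem subsingleton_H1_tensorMod_of_isGloballyGenerated {G M : X.Modules}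
    (hG : Curv2.IsGloballyGenerated G) (hM : Subsingleton (Coh.HH X M 1)) :
    Subsingleton (Coh.HH X (tensorMod G M) 1) := by
  obtain ⟨K, p, hp⟩ := hG
  have hp' := epi_map_tensorRight M p (hp := hp)
  refine @subsingleton_H1_of_epi _ _ hdim _ _ ((tensorRightFunctor M).map p) hp' ?_
  have h1 : Subsingleton (Coh.HH X (∐ fun _ : K => M) 1) := subsingleton_HH_sigma _ 1 fun _ => hM
  exact (mapEquiv (freeTensorIso K M) 1).toEquiv.subsingleton

include hdim in
/-- on a Noetherian scheme of dimension `≤ 1` with `H¹(O) = 0`, globally generated modules have `H¹ = 0` -/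
theorem subsingleton_H1_of_isGloballyGenerated {G : X.Modules}
    (hG : Curv2.IsGloballyGenerated G) (hO : Subsingleton (Coh.HH X (Coh.structureModule X) 1)) :
    Subsingleton (Coh.HH X G 1) := by
  obtain ⟨K, p, hp⟩ := hG
  exact @subsingleton_H1_of_epi _ _ hdim _ _ p hp (subsingleton_HH_free K 1 hO)

end Tensor

section Torsion

variable {X : Scheme.{u}}

open Groth.Agent.Lib.TwistEquiv Groth.Agent.Lib.OXModTensor CohB1

/-- `Supp (Q ⊗ M) ⊆ Supp Q` (no hypotheses on `Q`, `M`) -/
theorem support_tensorMod_subset_left (Q M : X.Modules) :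
    CohB1.support (tensorMod Q M) ⊆ CohB1.support Q := by
  intro x hx hQ
  apply hx
  have hQ' : Subsingleton (Q.presheaf.stalk x) := hQ
  have : Subsingleton (TensorProduct (X.presheaf.stalk x) (Q.presheaf.stalk x) (M.presheaf.stalk x)) := by
    refine subsingleton_of_forall_eq 0 fun z => ?_
    induction z using TensorProduct.induction_on with
    | zero => rfl
    | tmul a b => rw [Subsingleton.elim a 0, TensorProduct.zero_tmul]
    | add a b ha hb => rw [ha, hb, add_zero]
  exact (Groth.Agent.Lib.StalkTensor81.tensorStalkEquiv Q M x).toEquiv.subsingleton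

variable [IsNoetherian X] (hdim : topologicalKrullDim X ≤ 1)

include hdim in
/-- **morphisms with torsion cokernel** on a Noetherian scheme of dimension `≤ 1` with `H¹(O) = 0`: if
`φ : E₁ ⟶ E₂` has a finite type cokernel supported at closed points, `E₁` is globally generated and
`H¹(E₁ ⊗ M) = 0`, then `E₂` is globally generated and `H¹(E₂ ⊗ M) = 0`. -/
theorem isGloballyGenerated_and_H1_of_torsion_cokernel
    (hO : Subsingleton (Coh.HH X (Coh.structureModule X) 1)) {E₁ E₂ : X.Modules} (φ : E₁ ⟶ E₂)
    (hFT : CohB1.IsFT (cokernel φ))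
    (htors : ∀ x ∈ CohB1.support (cokernel φ), IsClosed ({x} : Set X)) (M : X.Modules)
    (hgg : Curv2.IsGloballyGenerated E₁) (hH : Subsingleton (Coh.HH X (tensorMod E₁ M) 1)) :
    Curv2.IsGloballyGenerated E₂ ∧ Subsingleton (Coh.HH X (tensorMod E₂ M) 1) := by
  have hZ : IsClosed (CohB1.support (cokernel φ)) :=
    Groth.Agent.Lib.ModStalk.isClosed_support_of_isFT _ hFT
  have hfl : TopCat.Sheaf.IsFlasque (Coh.toAb (cokernel φ)) :=
    Groth.Agent.Lib.CurveVanishing54.isFlasque_of_support_subset _ _ hZ htors subset_rfl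
  have hQgg : Curv2.IsGloballyGenerated (cokernel φ) := isGloballyGenerated_of_isFlasque _ hfl
  have hQM : Subsingleton (Coh.HH X (tensorMod (cokernel φ) M) (0 + 1)) :=
    Groth.Agent.Lib.CurveVanishing54.subsingleton_HH_of_support_subset _ _ hZ htors
      (support_tensorMod_subset_left _ M) 0
  constructor
  · -- `0 → im φ → E₂ → coker φ → 0`
    let S : ShortComplex X.Modules :=
      ShortComplex.mk (kernel.ι (cokernel.π φ)) (cokernel.π φ) (kernel.condition _)
    have hS : S.ShortExact :=
      { exact := ShortComplex.exact_of_f_is_kernel _ (kernelIsKernel (cokernel.π φ))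
        mono_f := by dsimp [S]; infer_instance
        epi_g := by dsimp [S]; infer_instance }
    have hepi : Epi (Abelian.factorThruImage φ) := inferInstance
    have hI : Curv2.IsGloballyGenerated S.X₁ :=
      isGloballyGenerated_of_epi (Abelian.factorThruImage φ) (hp := hepi) hgg
    exact isGloballyGenerated_of_shortExact S hS hI hQgg
      (subsingleton_H1_of_isGloballyGenerated hdim hI hO)
  · let T : ShortComplex X.Modules := ShortComplex.mk φ (cokernel.π φ) (cokernel.condition φ)
    have hT : T.Exact := ShortComplex.exact_of_g_is_cokernel _ (cokernelIsCokernel φ)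
    have hg : Epi T.g := by dsimp [T]; infer_instance
    obtain ⟨hex, hepi⟩ := rightExact_map_tensorRight M T hT (hg := hg)
    exact @subsingleton_H1_of_rightExact _ _ hdim (T.map (tensorRightFunctor M)) hex hepi hH hQM

end Torsion

end Groth.Agent.Lib.H90CurveH1
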