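import Mathlib.Topology.KrullDimension
import Mathlib.Topology.NoetherianSpace

/-!
# Grothendieck vanishing, part 4 (helper43): dimension of a proper closed subset of an
irreducible space

`topologicalKrullDim_add_one_le_of_isClosed_ne_univ`: if `X` is irreducible and `Y ⊊ X` is closed,
then `dim Y + 1 ≤ dim X`; `topologicalKrullDim_lt_of_isClosed_ne_univ`: hence `dim X < n + 1` implies
`dim Y < n`.
-/

set_option autoImplicit false

open TopologicalSpace Order Topology

namespace Groth.Agent.Lib.H43GV

variable {X : Type*} [TopologicalSpace X]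

theorem topologicalKrullDim_add_one_le_of_isClosed_ne_univ [IrreducibleSpace X] (Y : Set X)
    (hY : IsClosed Y) (hne : Y ≠ Set.univ) :
    topologicalKrullDim Y + 1 ≤ topologicalKrullDim X := by
  unfold topologicalKrullDim
  by_cases hE : IsEmpty (IrreducibleCloseds Y)
  · rw [krullDim_eq_bot, WithBot.bot_add]
    exact bot_le
  · rw [not_isEmpty_iff] at hE
    have hind : IsInducing (Subtype.val : Y → X) := IsInducing.subtypeVal
    let top : IrreducibleCloseds X := ⟨Set.univ, (IrreducibleSpace.isIrreducible_univ X), isClosed_univ⟩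
    let f : WithTop (IrreducibleCloseds Y) → IrreducibleCloseds X := fun a =>
      WithTop.recTopCoe top (fun z => IrreducibleCloseds.map Subtype.val hind.continuous z) a
    have hf : StrictMono f := by
      intro a b hab
      induction a using WithTop.recTopCoe with
      | top => exact absurd hab (not_top_lt)
      | coe a =>
        induction b using WithTop.recTopCoe with
        | top =>
          change IrreducibleCloseds.map Subtype.val hind.continuous a < top
          refine lt_of_le_of_ne (fun x _ => Set.mem_univ x) ?_
          intro h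
          apply hne
          have h1 : (IrreducibleCloseds.map Subtype.val hind.continuous a : Set X) = Set.univ :=
            congrArg (fun z : IrreducibleCloseds X => (z : Set X)) h
          rw [IrreducibleCloseds.coe_map] at h1
          have h2 : closure (Subtype.val '' (a : Set Y)) ⊆ Y := by
            apply closure_minimal _ hY
            rintro _ ⟨y, -, rfl⟩
            exact y.2
          exact Set.eq_univ_of_univ_subset (h1 ▸ h2)
        | coe b =>
          change IrreducibleCloseds.map Subtype.val hind.continuous a <
            IrreducibleCloseds.map Subtype.val hind.continuous b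
          exact IrreducibleCloseds.map_strictMono_of_isInducing hind (WithTop.coe_lt_coe.1 hab)
    have h1 := krullDim_le_of_strictMono f hf
    rwa [krullDim_WithTop] at h1

theorem topologicalKrullDim_lt_of_isClosed_ne_univ [IrreducibleSpace X] (Y : Set X)
    (hY : IsClosed Y) (hne : Y ≠ Set.univ) (n : ℕ)
    (hX : topologicalKrullDim X < ((n + 1 : ℕ) : WithBot ℕ∞)) :
    topologicalKrullDim Y < (n : WithBot ℕ∞) := by
  have h1 := topologicalKrullDim_add_one_le_of_isClosed_ne_univ Y hY hne
  have h2 : topologicalKrullDim Y + 1 < ((n + 1 : ℕ) : WithBot ℕ∞) := lt_of_le_of_lt h1 hX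
  generalize topologicalKrullDim Y = a at h2 ⊢
  induction a using WithBot.recBotCoe with
  | bot => exact WithBot.bot_lt_coe _
  | coe a =>
    induction a using ENat.recTopCoe with
    | top =>
      exfalso
      have : ((⊤ : ℕ∞) : WithBot ℕ∞) + 1 = ((⊤ : ℕ∞) : WithBot ℕ∞) := by
        rw [← WithBot.coe_one, ← WithBot.coe_add]
        rfl
      rw [this] at h2
      have h3 : ((n + 1 : ℕ) : WithBot ℕ∞) = (((n + 1 : ℕ) : ℕ∞) : WithBot ℕ∞) := rfl
      rw [h3, WithBot.coe_lt_coe] at h2
      exact absurd h2 (not_lt.2 le_top)
    | coe a =>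
      have h3 : ((n + 1 : ℕ) : WithBot ℕ∞) = (((n + 1 : ℕ) : ℕ∞) : WithBot ℕ∞) := rfl
      have h4 : ((a : ℕ∞) : WithBot ℕ∞) + 1 = (((a + 1 : ℕ) : ℕ∞) : WithBot ℕ∞) := by
        rw [← WithBot.coe_one, ← WithBot.coe_add]
        rfl
      rw [h3, h4, WithBot.coe_lt_coe, Nat.cast_lt] at h2
      have h5 : (n : WithBot ℕ∞) = ((n : ℕ∞) : WithBot ℕ∞) := rfl
      rw [h5, WithBot.coe_lt_coe, Nat.cast_lt]
      omega

end Groth.Agent.Lib.H43GV
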