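import Mathlib

set_option autoImplicit false
set_option linter.unusedSectionVars false
set_option linter.unusedSimpArgs false
universe u

namespace Groth.Agent.Lib.H15SheafLocal

open CategoryTheory TopologicalSpace Opposite Topology CategoryTheory.Limits

variable (A : Type (u + 1)) [Category.{u} A] {FA : A → A → Type u} {CA : A → Type u}
variable [∀ X Y, FunLike (FA X Y) (CA X) (CA Y)] [ConcreteCategory.{u} A FA] [HasColimits A]
variable [HasLimits A] [PreservesLimits (CategoryTheory.forget A)]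
variable [PreservesFilteredColimits (CategoryTheory.forget A)]
variable [(CategoryTheory.forget A).ReflectsIsomorphisms]

section agree

variable {A}
variable {X : TopCat.{u}} (F : TopCat.Presheaf A X)

lemma res_res {U V W : Opens X} (h1 : V ≤ U) (h2 : W ≤ V) (a : ToType (F.obj (op U))) :
    F.map (homOfLE h2).op (F.map (homOfLE h1).op a) = F.map (homOfLE (h2.trans h1)).op a := by
  rw [← ConcreteCategory.comp_apply, ← F.map_comp]
  rfl

/-- two sections agree near `x`. -/
def AgreeAt {U V : Opens X} (a : ToType (F.obj (op U))) (b : ToType (F.obj (op V))) (x : X) : Prop :=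
  ∃ (W : Opens X) (_ : x ∈ W) (hU : W ≤ U) (hV : W ≤ V),
    F.map (homOfLE hU).op a = F.map (homOfLE hV).op b

variable {F}

lemma AgreeAt.refl {U : Opens X} (a : ToType (F.obj (op U))) {x : X} (hx : x ∈ U) :
    AgreeAt F a a x :=
  ⟨U, hx, le_rfl, le_rfl, rfl⟩

lemma AgreeAt.symm {U V : Opens X} {a : ToType (F.obj (op U))} {b : ToType (F.obj (op V))} {x : X}
    (h : AgreeAt F a b x) : AgreeAt F b a x := by
  obtain ⟨W, hx, hU, hV, e⟩ := h
  exact ⟨W, hx, hV, hU, e.symm⟩

lemma AgreeAt.trans {U V V' : Opens X} {a : ToType (F.obj (op U))} {b : ToType (F.obj (op V))}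
    {c : ToType (F.obj (op V'))}
    {x : X} (h : AgreeAt F a b x) (h' : AgreeAt F b c x) : AgreeAt F a c x := by
  obtain ⟨W, hx, hU, hV, e⟩ := h
  obtain ⟨W', hx', hU', hV', e'⟩ := h'
  refine ⟨W ⊓ W', ⟨hx, hx'⟩, inf_le_left.trans hU, inf_le_right.trans hV', ?_⟩
  have e1 := congrArg (F.map (homOfLE (inf_le_left : W ⊓ W' ≤ W)).op) e
  have e2 := congrArg (F.map (homOfLE (inf_le_right : W ⊓ W' ≤ W')).op) e'
  rw [res_res, res_res] at e1 e2
  exact e1.trans e2

lemma isOpen_setOf_agreeAt {U V : Opens X} (a : ToType (F.obj (op U))) (b : ToType (F.obj (op V))) :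
    IsOpen {x | AgreeAt F a b x} := by
  rw [isOpen_iff_forall_mem_open]
  rintro x ⟨W, hx, hU, hV, e⟩
  exact ⟨W, fun y hy => ⟨W, hy, hU, hV, e⟩, W.2, hx⟩

lemma AgreeAt.res_left {U U' V : Opens X} {a : ToType (F.obj (op U))} {b : ToType (F.obj (op V))}
    (hU' : U' ≤ U) {x : X} (hx : x ∈ U') (h : AgreeAt F a b x) :
    AgreeAt F (F.map (homOfLE hU').op a) b x := by
  obtain ⟨W, hxW, hU, hV, e⟩ := h
  refine ⟨W ⊓ U', ⟨hxW, hx⟩, inf_le_right, inf_le_left.trans hV, ?_⟩
  have e1 := congrArg (F.map (homOfLE (inf_le_left : W ⊓ U' ≤ W)).op) e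
  rw [res_res, res_res] at e1
  rw [res_res]
  exact e1

end agree

section sheaf

variable {A}
variable {X : TopCat.{u}} (F : TopCat.Sheaf A X)

/-- sections that agree near every point of `W` have equal restrictions to `W`. -/
lemma res_eq_of_agreeAt {U V W : Opens X} (a : ToType (F.obj.obj (op U)))
    (b : ToType (F.obj.obj (op V)))
    (hU : W ≤ U) (hV : W ≤ V) (h : ∀ x ∈ W, AgreeAt F.obj a b x) :
    F.obj.map (homOfLE hU).op a = F.obj.map (homOfLE hV).op b := by
  choose! N hxN hNU hNV hN using h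
  refine TopCat.Sheaf.eq_of_locally_eq' F (fun x : W => N x.1 ⊓ W) W
    (fun x => homOfLE inf_le_right) ?_ _ _ ?_
  · intro x hx
    exact Opens.mem_iSup.2 ⟨⟨x, hx⟩, hxN x hx, hx⟩
  · intro x
    have e1 := congrArg (F.obj.map (homOfLE (inf_le_left : N x.1 ⊓ W ≤ N x.1)).op) (hN x.1 x.2)
    rw [res_res, res_res] at e1
    rw [res_res, res_res]
    exact e1

end sheaf

section sep

variable {X : Type u} [TopologicalSpace X] {C : Set X}
  (hsep : ∀ x ∈ C, ∀ y ∈ C, x ≠ y →
    ∃ U V : Set X, IsOpen U ∧ IsOpen V ∧ x ∈ U ∧ y ∈ V ∧ Disjoint U V)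

include hsep in
lemma sep_point_compact {x : X} (hx : x ∈ C) {D : Set X} (hD : IsCompact D) (hDC : D ⊆ C)
    (hxD : x ∉ D) : SeparatedNhds {x} D := by
  refine hD.induction_on (p := fun S => SeparatedNhds {x} S) (SeparatedNhds.empty_right _)
    (fun s t hst ht => ht.mono subset_rfl hst) (fun s t hs ht => hs.union_right ht) ?_
  intro y hy
  have hne : x ≠ y := fun h => hxD (h ▸ hy)
  obtain ⟨U, V, hU, hV, hxU, hyV, hUV⟩ := hsep x hx y (hDC hy) hne
  exact ⟨V, mem_nhdsWithin_of_mem_nhds (hV.mem_nhds hyV),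
    U, V, hU, hV, Set.singleton_subset_iff.2 hxU, subset_rfl, hUV⟩

include hsep in
lemma sep_compact_compact {D1 D2 : Set X} (h1 : IsCompact D1) (h2 : IsCompact D2)
    (h1C : D1 ⊆ C) (h2C : D2 ⊆ C) (hd : Disjoint D1 D2) : SeparatedNhds D1 D2 := by
  refine h1.induction_on (p := fun S => SeparatedNhds S D2) (SeparatedNhds.empty_left _)
    (fun s t hst ht => ht.mono hst subset_rfl) (fun s t hs ht => hs.union_left ht) ?_
  intro x hx
  have hx2 : x ∉ D2 := fun h => Set.disjoint_left.1 hd hx h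
  obtain ⟨U, V, hU, hV, hxU, hDV, hUV⟩ := sep_point_compact hsep (h1C hx) h2 h2C hx2
  exact ⟨U, mem_nhdsWithin_of_mem_nhds (hU.mem_nhds (hxU rfl)),
    U, V, hU, hV, subset_rfl, hDV, hUV⟩

end sep

section glue

variable {A}
variable {X : TopCat.{u}} (F : TopCat.Sheaf A X)

/-- gluing two sections agreeing on the overlap. -/
lemma glue_two {U1 U2 : Opens X} (a1 : ToType (F.obj.obj (op U1))) (a2 : ToType (F.obj.obj (op U2)))
    (h : F.obj.map (homOfLE (inf_le_left : U1 ⊓ U2 ≤ U1)).op a1 =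
      F.obj.map (homOfLE (inf_le_right : U1 ⊓ U2 ≤ U2)).op a2) :
    ∃ t : ToType (F.obj.obj (op (U1 ⊔ U2))),
      F.obj.map (homOfLE (le_sup_left : U1 ≤ U1 ⊔ U2)).op t = a1 ∧
      F.obj.map (homOfLE (le_sup_right : U2 ≤ U1 ⊔ U2)).op t = a2 := by
  let Wf : Bool → Opens X := fun b => cond b U1 U2
  let sf : ∀ b, ToType (F.obj.obj (op (Wf b))) := fun b => match b with
    | true => a1
    | false => a2
  have hle : ∀ b, Wf b ≤ U1 ⊔ U2 := fun b => match b with
    | true => le_sup_left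
    | false => le_sup_right
  have hcompat : TopCat.Presheaf.IsCompatible F.obj Wf sf := by
    intro b c
    match b, c with
    | true, true => rfl
    | false, false => rfl
    | true, false => exact h
    | false, true =>
      have h' := congrArg (F.obj.map (homOfLE (le_of_eq (inf_comm U2 U1))).op) h
      rw [res_res, res_res] at h'
      exact h'.symm
  have hcover : U1 ⊔ U2 ≤ iSup Wf := by
    rw [sup_le_iff]
    exact ⟨le_iSup Wf true, le_iSup Wf false⟩
  obtain ⟨t, ht, -⟩ := TopCat.Sheaf.existsUnique_gluing' F Wf (U1 ⊔ U2) (fun b => homOfLE (hle b))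
    hcover sf hcompat
  exact ⟨t, ht true, ht false⟩

/-- sections over the empty open. -/
lemma exists_section_bot : Nonempty (ToType (F.obj.obj (op (⊥ : Opens X)))) := by
  obtain ⟨t, -, -⟩ := TopCat.Sheaf.existsUnique_gluing' F (fun i : PEmpty.{1} => i.elim) ⊥
    (fun i => i.elim) (by simp) (fun i => i.elim) (fun i => i.elim)
  exact ⟨t⟩

variable (C : Set X) (hC : IsCompact C)
  (hsep : ∀ x ∈ C, ∀ y ∈ C, x ≠ y →
    ∃ U V : Set X, IsOpen U ∧ IsOpen V ∧ x ∈ U ∧ y ∈ V ∧ Disjoint U V)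
  {K : Type*} (U : K → Opens X) (hcov : C ⊆ ⋃ k, (U k : Set X))
  (s : ∀ k, ToType (F.obj.obj (op (U k))))
  (hs : ∀ k l, ∀ z ∈ C, z ∈ U k → z ∈ U l → AgreeAt F.obj (s k) (s l) z)

/-- the gluing predicate. -/
def GlueP (S : Set X) : Prop :=
  ∃ S' : Set X, IsCompact S' ∧ S' ⊆ C ∧ S ⊆ S' ∧ ∃ (W : Opens X) (_ : S' ⊆ (W : Set X))
    (t : ToType (F.obj.obj (op W))), ∀ k, ∀ z ∈ S', z ∈ U k → AgreeAt F.obj t (s k) z

include hsep hcov in
lemma glueP_union {S1 S2 : Set X} (h1 : GlueP F C U s S1) (h2 : GlueP F C U s S2) :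
    GlueP F C U s (S1 ∪ S2) := by
  obtain ⟨S1', hS1c, hS1C, hS1, W1, hSW1, t1, ht1⟩ := h1
  obtain ⟨S2', hS2c, hS2C, hS2, W2, hSW2, t2, ht2⟩ := h2
  let E : Set X := {x | AgreeAt F.obj t1 t2 x}
  have hE : IsOpen E := isOpen_setOf_agreeAt _ _
  have hD1 : IsCompact (S1' ∩ Eᶜ) := hS1c.inter_right hE.isClosed_compl
  have hD2 : IsCompact (S2' ∩ Eᶜ) := hS2c.inter_right hE.isClosed_compl
  have hdisj : Disjoint (S1' ∩ Eᶜ) (S2' ∩ Eᶜ) := by
    rw [Set.disjoint_left]
    rintro z ⟨hz1, hzE⟩ ⟨hz2, -⟩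
    obtain ⟨k, hk⟩ := Set.mem_iUnion.1 (hcov (hS1C hz1))
    exact hzE ((ht1 k z hz1 hk).trans (ht2 k z hz2 hk).symm)
  obtain ⟨O1, O2, hO1, hO2, hDO1, hDO2, hOO⟩ := sep_compact_compact hsep hD1 hD2
    (Set.inter_subset_left.trans hS1C) (Set.inter_subset_left.trans hS2C) hdisj
  let W1' : Opens X := W1 ⊓ ⟨O1 ∪ E, hO1.union hE⟩
  let W2' : Opens X := W2 ⊓ ⟨O2 ∪ E, hO2.union hE⟩
  have hS1W : S1' ⊆ (W1' : Set X) := fun z hz => ⟨hSW1 hz, by
    by_cases h : z ∈ E
    · exact Or.inr h
    · exact Or.inl (hDO1 ⟨hz, h⟩)⟩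
  have hS2W : S2' ⊆ (W2' : Set X) := fun z hz => ⟨hSW2 hz, by
    by_cases h : z ∈ E
    · exact Or.inr h
    · exact Or.inl (hDO2 ⟨hz, h⟩)⟩
  have hWW : ∀ x ∈ W1' ⊓ W2', AgreeAt F.obj t1 t2 x := by
    rintro x ⟨⟨-, h1⟩, ⟨-, h2⟩⟩
    rcases h1 with h1 | h1
    · rcases h2 with h2 | h2
      · exact (Set.disjoint_left.1 hOO h1 h2).elim
      · exact h2
    · exact h1
  have hW1 : W1' ≤ W1 := inf_le_left
  have hW2 : W2' ≤ W2 := inf_le_left
  obtain ⟨t, ht1', ht2'⟩ := glue_two F (F.obj.map (homOfLE hW1).op t1) (F.obj.map (homOfLE hW2).op t2)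
    (by
      rw [res_res, res_res]
      exact res_eq_of_agreeAt F t1 t2 _ _ hWW)
  refine ⟨S1' ∪ S2', hS1c.union hS2c, Set.union_subset hS1C hS2C, Set.union_subset_union hS1 hS2,
    W1' ⊔ W2', ?_, t, ?_⟩
  · exact Set.union_subset (hS1W.trans (show W1' ≤ W1' ⊔ W2' from le_sup_left))
      (hS2W.trans (show W2' ≤ W1' ⊔ W2' from le_sup_right))
  · intro k z hz hzk
    rcases hz with hz | hz
    · have : AgreeAt F.obj t t1 z := ⟨W1', hS1W hz, le_sup_left, hW1, ht1'⟩
      exact this.trans (ht1 k z hz hzk)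
    · have : AgreeAt F.obj t t2 z := ⟨W2', hS2W hz, le_sup_right, hW2, ht2'⟩
      exact this.trans (ht2 k z hz hzk)

include hC hsep hcov hs in
/-- gluing of local sections agreeing along a compact set with separated points. -/
theorem exists_glue_compact :
    ∃ (W : Opens X) (_ : C ⊆ (W : Set X)) (t : ToType (F.obj.obj (op W))),
      ∀ k, ∀ z ∈ C, z ∈ U k → AgreeAt F.obj t (s k) z := by
  have key : GlueP F C U s C := by
    refine hC.induction_on (p := GlueP F C U s) ?_ ?_ ?_ ?_
    · obtain ⟨t⟩ := exists_section_bot F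
      exact ⟨∅, isCompact_empty, Set.empty_subset _, subset_rfl, ⊥, Set.empty_subset _, t,
        fun k z hz => hz.elim⟩
    · rintro S T hST ⟨S', h1, h2, h3, h4⟩
      exact ⟨S', h1, h2, hST.trans h3, h4⟩
    · intro S T hS hT
      exact glueP_union F C hsep U hcov s hS hT
    · intro x hx
      obtain ⟨k, hk⟩ := Set.mem_iUnion.1 (hcov hx)
      have hcomp : IsCompact (C ∩ ((U k : Set X))ᶜ) := hC.inter_right (U k).2.isClosed_compl
      have hx' : x ∉ C ∩ ((U k : Set X))ᶜ := fun h => h.2 hk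
      obtain ⟨O1, O2, hO1, hO2, hxO1, hDO2, hOO⟩ :=
        sep_point_compact hsep hx hcomp Set.inter_subset_left hx'
      refine ⟨C ∩ O1, ?_, C ∩ O2ᶜ, hC.inter_right hO2.isClosed_compl, Set.inter_subset_left, ?_,
        U k, ?_, s k, ?_⟩
      · exact Filter.inter_mem self_mem_nhdsWithin
          (mem_nhdsWithin_of_mem_nhds (hO1.mem_nhds (hxO1 rfl)))
      · intro z hz
        exact ⟨hz.1, fun h => Set.disjoint_left.1 hOO hz.2 h⟩
      · intro z hz
        by_contra h
        exact hz.2 (hDO2 ⟨hz.1, h⟩)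
      · intro l z hz hzl
        have hzk : z ∈ U k := by
          by_contra h
          exact hz.2 (hDO2 ⟨hz.1, h⟩)
        exact hs k l z hz.1 hzk hzl
  obtain ⟨S', -, hS'C, hCS', W, hW, t, ht⟩ := key
  exact ⟨W, hCS'.trans hW, t, fun k z hz hzk => ht k z (hCS' hz) hzk⟩

end glue

section pb

variable {Y X : TopCat.{u}} (f : Y ⟶ X) (F : TopCat.Sheaf A X)

/-- the constructed adjunction. -/
noncomputable abbrev adj2 :=
  Functor.sheafPullbackConstruction.sheafAdjunctionContinuous (Opens.map f) A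
    (Opens.grothendieckTopology X) (Opens.grothendieckTopology Y)

/-- the presheaf pullback. -/
noncomputable abbrev Ppb : TopCat.Presheaf A Y := (TopCat.Presheaf.pullback A f).obj F.obj

lemma unit2_hom :
    ((adj2 A f).unit.app F).hom =
      (TopCat.Presheaf.pullbackPushforwardAdjunction A f).unit.app F.obj ≫
        (TopCat.Presheaf.pushforward A f).map
          (toSheafify (Opens.grothendieckTopology Y) (Ppb A f F)) := by
  have := Adjunction.map_restrictFullyFaithful_unit_app
    (((Opens.map f).op.lanAdjunction A).comp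
      (sheafificationAdjunction (Opens.grothendieckTopology Y) A))
    (fullyFaithfulSheafToPresheaf (Opens.grothendieckTopology X) A)
    (Functor.FullyFaithful.id _)
    (L := Functor.sheafPullbackConstruction.sheafPullback (Opens.map f) A
      (Opens.grothendieckTopology X) (Opens.grothendieckTopology Y))
    (R := (Opens.map f).sheafPushforwardContinuous A
      (Opens.grothendieckTopology X) (Opens.grothendieckTopology Y))
    (Iso.refl _) (Iso.refl _) F
  refine this.trans ?_
  simp only [Adjunction.comp_unit_app, Iso.refl_hom, NatTrans.id_app,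
    sheafificationAdjunction_unit_app]
  erw [CategoryTheory.Functor.map_id, Category.comp_id, Category.comp_id]
  rfl

/-- the presheaf-level unit. -/
noncomputable abbrev unitP : F.obj ⟶ (TopCat.Presheaf.pushforward A f).obj (Ppb A f F) :=
  (TopCat.Presheaf.pullbackPushforwardAdjunction A f).unit.app F.obj

lemma unit2_app (U : Opens X) (a : ToType (F.obj.obj (op U))) :
    ((adj2 A f).unit.app F).hom.app (op U) a =
      (toSheafify (Opens.grothendieckTopology Y) (Ppb A f F)).app (op ((Opens.map f).obj U))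
        ((unitP A f F).app (op U) a) := by
  rw [unit2_hom, NatTrans.comp_app]
  exact ConcreteCategory.comp_apply _ _ _

/-- (L1') every section of the presheaf pullback is locally a unit image. -/
lemma Ppb_locally_unit (V : Opens Y) (p : ToType ((Ppb A f F).obj (op V))) (y : Y) (hy : y ∈ V) :
    ∃ (U : Opens X) (a : ToType (F.obj.obj (op U))) (V' : Opens Y) (_ : y ∈ V') (h1 : V' ≤ V)
      (h2 : V' ≤ (Opens.map f).obj U),
      (Ppb A f F).map (homOfLE h1).op p = (Ppb A f F).map (homOfLE h2).op ((unitP A f F).app (op U) a) := by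
  obtain ⟨U, hU, a, ha⟩ := TopCat.Presheaf.exists_germ_eq F.obj
    ((TopCat.Presheaf.stalkPullbackInv A f F.obj y) (TopCat.Presheaf.germ (Ppb A f F) V y hy p))
  have h1 : (TopCat.Presheaf.stalkPullbackHom A f F.obj y) (TopCat.Presheaf.germ F.obj U (f y) hU a) =
      TopCat.Presheaf.germ (Ppb A f F) V y hy p := by
    rw [ha]
    have := ConcreteCategory.congr_hom (TopCat.Presheaf.stalkPullbackIso A f F.obj y).inv_hom_id
      (TopCat.Presheaf.germ (Ppb A f F) V y hy p)
    rw [ConcreteCategory.comp_apply, ConcreteCategory.id_apply] at this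
    exact this
  have h2 : (TopCat.Presheaf.stalkPullbackHom A f F.obj y) (TopCat.Presheaf.germ F.obj U (f y) hU a) =
      TopCat.Presheaf.germ (Ppb A f F) ((Opens.map f).obj U) y hU ((unitP A f F).app (op U) a) :=
by
    have := ConcreteCategory.congr_hom (TopCat.Presheaf.germ_stalkPullbackHom A f F.obj y U hU) a
    rw [ConcreteCategory.comp_apply, ConcreteCategory.comp_apply] at this
    exact this
  obtain ⟨W, hyW, iU, iV, e⟩ := TopCat.Presheaf.germ_eq (Ppb A f F) y hy hU _ _ (h1.symm.trans h2)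
  exact ⟨U, a, W, hyW, iU.le, iV.le, e⟩

/-- (L2') unit images with the same germ come from sections agreeing near `f y`. -/
lemma agreeAt_of_unitP_eq (U U' : Opens X) (a : ToType (F.obj.obj (op U))) (b : ToType (F.obj.obj (op U')))
    (y : Y) (V' : Opens Y) (hy : y ∈ V') (h1 : V' ≤ (Opens.map f).obj U)
    (h2 : V' ≤ (Opens.map f).obj U')
    (e : (Ppb A f F).map (homOfLE h1).op ((unitP A f F).app (op U) a) =
      (Ppb A f F).map (homOfLE h2).op ((unitP A f F).app (op U') b)) :
    AgreeAt F.obj a b (f y) := by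
  have hU : f y ∈ U := h1 hy
  have hU' : f y ∈ U' := h2 hy
  have g1 : (TopCat.Presheaf.stalkPullbackHom A f F.obj y)
      (TopCat.Presheaf.germ F.obj U (f y) hU a) =
      TopCat.Presheaf.germ (Ppb A f F) ((Opens.map f).obj U) y hU ((unitP A f F).app (op U) a) := by
    have := ConcreteCategory.congr_hom
      (TopCat.Presheaf.germ_stalkPullbackHom A f F.obj y U hU) a
    rw [ConcreteCategory.comp_apply, ConcreteCategory.comp_apply] at this
    exact this
  have g2 : (TopCat.Presheaf.stalkPullbackHom A f F.obj y)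
      (TopCat.Presheaf.germ F.obj U' (f y) hU' b) =
      TopCat.Presheaf.germ (Ppb A f F) ((Opens.map f).obj U') y hU' ((unitP A f F).app (op U') b) := by
    have := ConcreteCategory.congr_hom
      (TopCat.Presheaf.germ_stalkPullbackHom A f F.obj y U' hU') b
    rw [ConcreteCategory.comp_apply, ConcreteCategory.comp_apply] at this
    exact this
  have g3 : TopCat.Presheaf.germ (Ppb A f F) ((Opens.map f).obj U) y hU ((unitP A f F).app (op U) a) =
      TopCat.Presheaf.germ (Ppb A f F) ((Opens.map f).obj U') y hU' ((unitP A f F).app (op U') b) := by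
    rw [← TopCat.Presheaf.germ_res_apply (Ppb A f F) (homOfLE h1) y hy,
      ← TopCat.Presheaf.germ_res_apply (Ppb A f F) (homOfLE h2) y hy, e]
  have g4 : TopCat.Presheaf.germ F.obj U (f y) hU a = TopCat.Presheaf.germ F.obj U' (f y) hU' b := by
    have hinj : Function.Injective (TopCat.Presheaf.stalkPullbackHom A f F.obj y) := by
      intro α β hαβ
      have h1 := ConcreteCategory.congr_hom
        (TopCat.Presheaf.stalkPullbackIso A f F.obj y).hom_inv_id α
      have h2 := ConcreteCategory.congr_hom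
        (TopCat.Presheaf.stalkPullbackIso A f F.obj y).hom_inv_id β
      rw [ConcreteCategory.comp_apply, ConcreteCategory.id_apply] at h1 h2
      rw [← h1, ← h2]
      exact congrArg _ hαβ
    exact hinj (g1.trans (g3.trans g2.symm))
  obtain ⟨W, hW, iU, iV, e'⟩ := TopCat.Presheaf.germ_eq F.obj (f y) hU hU' _ _ g4
  exact ⟨W, hW, iU.le, iV.le, e'⟩

/-- the constructed pullback sheaf. -/
noncomputable abbrev G2 : TopCat.Sheaf A Y :=
  (Functor.sheafPullbackConstruction.sheafPullback (Opens.map f) A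
    (Opens.grothendieckTopology X) (Opens.grothendieckTopology Y)).obj F

/-- the sheafified presheaf. -/
noncomputable abbrev S2 : TopCat.Presheaf A Y :=
  sheafify (Opens.grothendieckTopology Y) (Ppb A f F)

/-- sheafification map. -/
noncomputable abbrev ts : Ppb A f F ⟶ S2 A f F :=
  toSheafify (Opens.grothendieckTopology Y) (Ppb A f F)

lemma ts_res {V V' : Opens Y} (h : V' ≤ V) (p : ToType ((Ppb A f F).obj (op V))) :
    (ts A f F).app (op V') ((Ppb A f F).map (homOfLE h).op p) =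
      (S2 A f F).map (homOfLE h).op ((ts A f F).app (op V) p) :=
  NatTrans.naturality_apply (ts A f F) (homOfLE h).op p

/-- (a2) local surjectivity of the unit of the constructed adjunction. -/
lemma unit2_locally_surj (V : Opens Y) (t : ToType ((G2 A f F).obj.obj (op V))) (y : Y) (hy : y ∈ V) :
    ∃ (U : Opens X) (a : ToType (F.obj.obj (op U))) (V' : Opens Y) (_ : y ∈ V') (h1 : V' ≤ V)
      (h2 : V' ≤ (Opens.map f).obj U),
      (G2 A f F).obj.map (homOfLE h1).op t =
        (G2 A f F).obj.map (homOfLE h2).op (((adj2 A f).unit.app F).hom.app (op U) a) := by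
  have hs := Presheaf.imageSieve_mem (Opens.grothendieckTopology Y) (ts A f F) (U := op V) t
  obtain ⟨W, i, ⟨p, hp⟩, hyW⟩ := hs y hy
  obtain ⟨U, a, V', hyV', h1, h2, e⟩ := Ppb_locally_unit A f F W p y hyW
  refine ⟨U, a, V', hyV', h1.trans i.le, h2, ?_⟩
  have hp' : (ts A f F).app (op W) p = (S2 A f F).map (homOfLE i.le).op t := hp
  have key : (S2 A f F).map (homOfLE (h1.trans i.le)).op t =
      (S2 A f F).map (homOfLE h2).op ((ts A f F).app _ ((unitP A f F).app (op U) a)) := by
    rw [← ts_res, ← e, ts_res, hp', res_res]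
  rw [unit2_app]
  exact key

/-- (b2) local injectivity of the unit of the constructed adjunction. -/
lemma unit2_locally_inj (U U' : Opens X) (a : ToType (F.obj.obj (op U))) (b : ToType (F.obj.obj (op U')))
    (y : Y) (V' : Opens Y) (hy : y ∈ V') (h1 : V' ≤ (Opens.map f).obj U)
    (h2 : V' ≤ (Opens.map f).obj U')
    (e : (G2 A f F).obj.map (homOfLE h1).op (((adj2 A f).unit.app F).hom.app (op U) a) =
      (G2 A f F).obj.map (homOfLE h2).op (((adj2 A f).unit.app F).hom.app (op U') b)) :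
    AgreeAt F.obj a b (f y) := by
  rw [unit2_app, unit2_app] at e
  have e' : (S2 A f F).map (homOfLE h1).op ((ts A f F).app _ ((unitP A f F).app (op U) a)) =
      (S2 A f F).map (homOfLE h2).op ((ts A f F).app _ ((unitP A f F).app (op U') b)) := e
  rw [← ts_res, ← ts_res] at e'
  have hs := Presheaf.equalizerSieve_mem (Opens.grothendieckTopology Y) (ts A f F) _ _ e'
  obtain ⟨W, i, hW, hyW⟩ := hs y hy
  have hW' : (Ppb A f F).map (homOfLE i.le).op
        ((Ppb A f F).map (homOfLE h1).op ((unitP A f F).app (op U) a)) =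
      (Ppb A f F).map (homOfLE i.le).op
        ((Ppb A f F).map (homOfLE h2).op ((unitP A f F).app (op U') b)) := hW
  rw [res_res, res_res] at hW'
  exact agreeAt_of_unitP_eq A f F U U' a b y W hyW _ _ hW'

end pb

section unit1

variable {Y X : TopCat.{u}} (f : Y ⟶ X) (F : TopCat.Sheaf A X)

/-- Mathlib's pullback sheaf. -/
noncomputable abbrev G1 : TopCat.Sheaf A Y := (TopCat.Sheaf.pullback A f).obj F

/-- Mathlib's adjunction. -/
noncomputable abbrev adj1 := TopCat.Sheaf.pullbackPushforwardAdjunction A f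

/-- comparison iso between the two left adjoints. -/
noncomputable def cmp : G1 A f F ≅ G2 A f F :=
  (Adjunction.leftAdjointUniq (adj1 A f) (adj2 A f)).app F

lemma cmp_unit (U : Opens X) (a : ToType (F.obj.obj (op U))) :
    (cmp A f F).hom.hom.app (op ((Opens.map f).obj U))
      (((adj1 A f).unit.app F).hom.app (op U) a) =
      ((adj2 A f).unit.app F).hom.app (op U) a := by
  have hcomp : (adj1 A f).unit.app F ≫ (TopCat.Sheaf.pushforward A f).map (cmp A f F).hom =
      (adj2 A f).unit.app F :=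
    Adjunction.unit_leftAdjointUniq_hom_app (adj1 A f) (adj2 A f) F
  rw [← hcomp]
  exact (ConcreteCategory.comp_apply (((adj1 A f).unit.app F).hom.app (op U))
    (((TopCat.Sheaf.pushforward A f).map (cmp A f F).hom).hom.app (op U)) a).symm

lemma cmp_res {V V' : Opens Y} (h : V' ≤ V) (t : ToType ((G1 A f F).obj.obj (op V))) :
    (cmp A f F).hom.hom.app (op V') ((G1 A f F).obj.map (homOfLE h).op t) =
      (G2 A f F).obj.map (homOfLE h).op ((cmp A f F).hom.hom.app (op V) t) :=
  NatTrans.naturality_apply (cmp A f F).hom.hom (homOfLE h).op t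

lemma cmp_inj (V : Opens Y) : Function.Injective ((cmp A f F).hom.hom.app (op V)) := by
  intro a b hab
  have key : ∀ c, (cmp A f F).inv.hom.app (op V) ((cmp A f F).hom.hom.app (op V) c) = c := by
    intro c
    have h1 : (cmp A f F).hom.hom.app (op V) ≫ (cmp A f F).inv.hom.app (op V) = 𝟙 _ := by
      rw [← NatTrans.comp_app, ObjectProperty.isoHom_inv_id_hom]
      rfl
    have h2 := ConcreteCategory.congr_hom h1 c
    rw [ConcreteCategory.comp_apply, ConcreteCategory.id_apply] at h2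
    exact h2
  rw [← key a, ← key b, hab]

/-- (a1) local surjectivity of the unit of Mathlib's adjunction. -/
lemma unit_locally_surj (V : Opens Y) (t : ToType ((G1 A f F).obj.obj (op V))) (y : Y) (hy : y ∈ V) :
    ∃ (U : Opens X) (a : ToType (F.obj.obj (op U))) (V' : Opens Y) (_ : y ∈ V') (h1 : V' ≤ V)
      (h2 : V' ≤ (Opens.map f).obj U),
      (G1 A f F).obj.map (homOfLE h1).op t =
        (G1 A f F).obj.map (homOfLE h2).op (((adj1 A f).unit.app F).hom.app (op U) a) := by
  obtain ⟨U, a, V', hyV', h1, h2, e⟩ :=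
    unit2_locally_surj A f F V ((cmp A f F).hom.hom.app (op V) t) y hy
  refine ⟨U, a, V', hyV', h1, h2, cmp_inj A f F V' ?_⟩
  rw [cmp_res, cmp_res, cmp_unit]
  exact e

/-- (b1) local injectivity of the unit of Mathlib's adjunction. -/
lemma unit_locally_inj (U U' : Opens X) (a : ToType (F.obj.obj (op U)))
    (b : ToType (F.obj.obj (op U')))
    (y : Y) (V' : Opens Y) (hy : y ∈ V') (h1 : V' ≤ (Opens.map f).obj U)
    (h2 : V' ≤ (Opens.map f).obj U')
    (e : (G1 A f F).obj.map (homOfLE h1).op (((adj1 A f).unit.app F).hom.app (op U) a) =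
      (G1 A f F).obj.map (homOfLE h2).op (((adj1 A f).unit.app F).hom.app (op U') b)) :
    AgreeAt F.obj a b (f y) := by
  have e' := congrArg ((cmp A f F).hom.hom.app (op V')) e
  rw [cmp_res, cmp_res, cmp_unit, cmp_unit] at e'
  exact unit2_locally_inj A f F U U' a b y V' hy h1 h2 e'

end unit1

section lociso

variable {A}

/-- a family of maps `F(U) → G(f⁻¹U)` that is locally bijective (i.e. exhibits `G` as `f⁻¹F`). -/
structure LocIso {Y X : TopCat.{u}} (f : Y ⟶ X) (F : TopCat.Sheaf A X) (G : TopCat.Sheaf A Y) where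
  /-- the maps on sections -/
  φ : ∀ U : Opens X, ToType (F.obj.obj (op U)) → ToType (G.obj.obj (op ((Opens.map f).obj U)))
  nat : ∀ {U U' : Opens X} (h : U' ≤ U) (a : ToType (F.obj.obj (op U))),
    φ U' (F.obj.map (homOfLE h).op a) = G.obj.map (homOfLE ((Opens.map f).monotone h)).op (φ U a)
  surj : ∀ (V : Opens Y) (t : ToType (G.obj.obj (op V))) (y : Y) (_ : y ∈ V),
    ∃ (U : Opens X) (a : ToType (F.obj.obj (op U))) (V' : Opens Y) (_ : y ∈ V') (h1 : V' ≤ V)
      (h2 : V' ≤ (Opens.map f).obj U),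
      G.obj.map (homOfLE h1).op t = G.obj.map (homOfLE h2).op (φ U a)
  inj : ∀ (U U' : Opens X) (a : ToType (F.obj.obj (op U))) (b : ToType (F.obj.obj (op U'))) (y : Y)
    (V' : Opens Y) (_ : y ∈ V') (h1 : V' ≤ (Opens.map f).obj U) (h2 : V' ≤ (Opens.map f).obj U'),
    G.obj.map (homOfLE h1).op (φ U a) = G.obj.map (homOfLE h2).op (φ U' b) →
      AgreeAt F.obj a b (f y)

variable (A) in
/-- the unit of Mathlib's adjunction is a `LocIso`. -/
noncomputable def LocIso.ofUnit {Y X : TopCat.{u}} (f : Y ⟶ X) (F : TopCat.Sheaf A X) :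
    LocIso f F ((TopCat.Sheaf.pullback A f).obj F) where
  φ U a := ((adj1 A f).unit.app F).hom.app (op U) a
  nat h a := NatTrans.naturality_apply ((adj1 A f).unit.app F).hom (homOfLE h).op a
  surj V t y hy := unit_locally_surj A f F V t y hy
  inj U U' a b y V' hy h1 h2 e := unit_locally_inj A f F U U' a b y V' hy h1 h2 e

/-- composition of `LocIso`s. -/
def LocIso.comp {Z Y X : TopCat.{u}} {g : Z ⟶ Y} {f : Y ⟶ X} {F : TopCat.Sheaf A X}
    {G : TopCat.Sheaf A Y} {H : TopCat.Sheaf A Z} (L : LocIso f F G) (M : LocIso g G H) :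
    LocIso (g ≫ f) F H where
  φ U a := M.φ ((Opens.map f).obj U) (L.φ U a)
  nat {U U'} h a := by
    rw [L.nat h a, M.nat ((Opens.map f).monotone h)]
    rfl
  surj V t z hz := by
    obtain ⟨W, b, V', hzV', h1, h2, e⟩ := M.surj V t z hz
    obtain ⟨U, a, W', hW', k1, k2, e'⟩ := L.surj W b (g z) (h2 hzV')
    have hV'' : V' ⊓ (Opens.map g).obj W' ≤ V' := inf_le_left
    have hV''W' : V' ⊓ (Opens.map g).obj W' ≤ (Opens.map g).obj W' := inf_le_right
    refine ⟨U, a, V' ⊓ (Opens.map g).obj W', ⟨hzV', hW'⟩, hV''.trans h1,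
      hV''W'.trans ((Opens.map g).monotone k2), ?_⟩
    have e1 := congrArg (H.obj.map (homOfLE hV'').op) e
    rw [res_res, res_res] at e1
    have e2 := congrArg (M.φ W') e'
    rw [M.nat k1, M.nat k2] at e2
    have e3 := congrArg (H.obj.map (homOfLE hV''W').op) e2
    rw [res_res, res_res] at e3
    exact e1.trans e3
  inj U U' a b z V' hz h1 h2 e := by
    obtain ⟨W, hW, k1, k2, e'⟩ := M.inj _ _ (L.φ U a) (L.φ U' b) z V' hz h1 h2 e
    exact L.inj U U' a b (g z) W hW k1 k2 e'

variable {Y X : TopCat.{u}} {f : Y ⟶ X} {F : TopCat.Sheaf A X} {G : TopCat.Sheaf A Y}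
  (L : LocIso f F G)

include L in
/-- softness: sections of `f⁻¹F` over a compact "relatively Hausdorff" subspace extend to
global sections of `F` as soon as sections of `F` over opens extend. -/
theorem LocIso.surjective_top (hf : Topology.IsInducing f) [CompactSpace Y]
    (hsep : ∀ x ∈ Set.range f, ∀ y ∈ Set.range f, x ≠ y →
      ∃ U V : Set X, IsOpen U ∧ IsOpen V ∧ x ∈ U ∧ y ∈ V ∧ Disjoint U V)
    (hfl : ∀ W : Opens X, Function.Surjective (F.obj.map (homOfLE (le_top : W ≤ ⊤)).op)) :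
    Function.Surjective (L.φ ⊤) := by
  intro s
  have hloc : ∀ y : Y, ∃ (U : Opens X) (_ : f y ∈ U) (a : ToType (F.obj.obj (op U))),
      G.obj.map (homOfLE (le_top : (Opens.map f).obj U ≤ (Opens.map f).obj ⊤)).op s = L.φ U a := by
    intro y
    obtain ⟨U, a, V', hyV', h1, h2, e⟩ := L.surj ((Opens.map f).obj ⊤) s y trivial
    obtain ⟨O, hO, hOV'⟩ := hf.isOpen_iff.1 V'.2
    have hyO : f y ∈ O := by
      have : y ∈ f ⁻¹' O := by rw [hOV']; exact hyV'
      exact this
    let U'' : Opens X := U ⊓ ⟨O, hO⟩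
    have hU''U : U'' ≤ U := inf_le_left
    have hU''V' : (Opens.map f).obj U'' ≤ V' := by
      intro w hw
      have : w ∈ f ⁻¹' O := hw.2
      rw [hOV'] at this
      exact this
    refine ⟨U'', ⟨h2 hyV', hyO⟩, F.obj.map (homOfLE hU''U).op a, ?_⟩
    rw [L.nat]
    have e1 := congrArg (G.obj.map (homOfLE hU''V').op) e
    rw [res_res, res_res] at e1
    exact e1
  choose U hyU a haU using hloc
  have hcomp : IsCompact (Set.range f) := isCompact_range f.hom.continuous
  have hcov : Set.range f ⊆ ⋃ y, (U y : Set X) := by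
    rintro _ ⟨y, rfl⟩
    exact Set.mem_iUnion.2 ⟨y, hyU y⟩
  have hs : ∀ k l : Y, ∀ z ∈ Set.range f, z ∈ U k → z ∈ U l → AgreeAt F.obj (a k) (a l) z := by
    rintro k l _ ⟨y0, rfl⟩ hzk hzl
    exact L.inj (U k) (U l) (a k) (a l) y0 ((Opens.map f).obj (U k ⊓ U l)) ⟨hzk, hzl⟩
      ((Opens.map f).monotone inf_le_left) ((Opens.map f).monotone inf_le_right)
      (by rw [← haU k, ← haU l, res_res, res_res])
  obtain ⟨W, hW, t, ht⟩ := exists_glue_compact F (Set.range f) hcomp hsep U hcov a hs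
  obtain ⟨t', ht'⟩ := hfl W t
  refine ⟨t', ?_⟩
  have hloc2 : ∀ y : Y, ∃ (N : Opens X) (_ : f y ∈ N),
      G.obj.map (homOfLE (le_top : (Opens.map f).obj N ≤ (Opens.map f).obj ⊤)).op (L.φ ⊤ t') =
      G.obj.map (homOfLE (le_top : (Opens.map f).obj N ≤ (Opens.map f).obj ⊤)).op s := by
    intro y
    obtain ⟨N, hN, hNW, hNU, e⟩ := ht y (f y) ⟨y, rfl⟩ (hyU y)
    refine ⟨N, hN, ?_⟩
    have s0 : F.obj.map (homOfLE (le_top : N ≤ ⊤)).op t' = F.obj.map (homOfLE hNU).op (a y) := by
      rw [← e, ← ht', res_res]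
    have s1 : G.obj.map (homOfLE (le_top : (Opens.map f).obj N ≤ (Opens.map f).obj ⊤)).op
        (L.φ ⊤ t') = L.φ N (F.obj.map (homOfLE hNU).op (a y)) := by
      rw [← s0]
      exact (L.nat (le_top : N ≤ ⊤) t').symm
    rw [s1, L.nat hNU, ← haU y, res_res]
  choose N hN hNe using hloc2
  refine TopCat.Sheaf.eq_of_locally_eq' G (fun y : Y => (Opens.map f).obj (N y))
    ((Opens.map f).obj ⊤) (fun y => homOfLE le_top) ?_ _ _ ?_
  · intro y _
    exact Opens.mem_iSup.2 ⟨y, hN y⟩
  · intro y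
    exact hNe y

end lociso

section soft

/-- a flasque abelian sheaf restricted to a compact subspace `K` with separated points is soft. -/
theorem flasque_soft {X : TopCat.{u}} {K : Set X} (hK : IsCompact K)
    (hsep : ∀ x ∈ K, ∀ y ∈ K, x ≠ y →
      ∃ U V : Set X, IsOpen U ∧ IsOpen V ∧ x ∈ U ∧ y ∈ V ∧ Disjoint U V)
    (F : TopCat.Sheaf AddCommGrpCat.{u} X) [TopCat.Sheaf.IsFlasque F] {B : Set K}
    (hB : IsClosed B) :
    Function.Surjective
      ((((TopCat.Sheaf.pullbackPushforwardAdjunction AddCommGrpCat.{u}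
        (TopCat.ofHom ⟨((↑) : B → K), continuous_subtype_val⟩ : TopCat.of B ⟶ TopCat.of K)).unit.app
        ((TopCat.Sheaf.pullback AddCommGrpCat.{u}
          (TopCat.ofHom ⟨((↑) : K → X), continuous_subtype_val⟩ : TopCat.of K ⟶ X)).obj F)).hom.app
        (op ⊤)).hom) := by
  let iK : TopCat.of K ⟶ X := TopCat.ofHom ⟨((↑) : K → X), continuous_subtype_val⟩
  let iB : TopCat.of B ⟶ TopCat.of K := TopCat.ofHom ⟨((↑) : B → K), continuous_subtype_val⟩
  let L := LocIso.ofUnit AddCommGrpCat.{u} iK F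
  let M := LocIso.ofUnit AddCommGrpCat.{u} iB ((TopCat.Sheaf.pullback AddCommGrpCat.{u} iK).obj F)
  have hKc : CompactSpace K := isCompact_iff_compactSpace.1 hK
  have hBc : CompactSpace (TopCat.of B) := isCompact_iff_compactSpace.1 hB.isCompact
  have hind : Topology.IsInducing (iB ≫ iK) :=
    Topology.IsInducing.subtypeVal.comp Topology.IsInducing.subtypeVal
  have hsep' : ∀ x ∈ Set.range (iB ≫ iK), ∀ y ∈ Set.range (iB ≫ iK), x ≠ y →
      ∃ U V : Set X, IsOpen U ∧ IsOpen V ∧ x ∈ U ∧ y ∈ V ∧ Disjoint U V := by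
    rintro _ ⟨x, rfl⟩ _ ⟨y, rfl⟩ hxy
    exact hsep _ x.1.2 _ y.1.2 hxy
  have hfl : ∀ W : Opens X, Function.Surjective (F.obj.map (homOfLE (le_top : W ≤ ⊤)).op) := by
    intro W
    exact (AddCommGrpCat.epi_iff_surjective _).1
      (TopCat.Presheaf.IsFlasque.epi (F := F.obj) (homOfLE (le_top : W ≤ ⊤)).op)
  intro s
  obtain ⟨t, ht⟩ := (L.comp M).surjective_top hind hsep' hfl s
  exact ⟨L.φ ⊤ t, ht⟩

end soft

end Groth.Agent.Lib.H15SheafLocal
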