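import Mathlib
import Groth.Agent.Lib.H15SheafLocal
import Groth.Prelude.Def_CohCx

set_option autoImplicit false
set_option linter.unusedSectionVars false
universe u

namespace Groth.Agent.Lib.H15ClosedSupp

open CategoryTheory TopologicalSpace Opposite Topology CategoryTheory.Limits
open Groth.Agent.Lib.H15SheafLocal

variable (A : Type (u + 1)) [Category.{u} A] {FA : A → A → Type u} {CA : A → Type u}
variable [∀ X Y, FunLike (FA X Y) (CA X) (CA Y)] [ConcreteCategory.{u} A FA] [HasColimits A]
variable [HasLimits A] [PreservesLimits (CategoryTheory.forget A)]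
variable [PreservesFilteredColimits (CategoryTheory.forget A)]
variable [(CategoryTheory.forget A).ReflectsIsomorphisms]

section general

variable {A}
variable {X : TopCat.{u}} (F : TopCat.Sheaf A X)

lemma subsingleton_section_bot : Subsingleton (ToType (F.obj.obj (op (⊥ : Opens X)))) := by
  refine ⟨fun a b => ?_⟩
  exact TopCat.Sheaf.eq_of_locally_eq' F (fun i : PEmpty.{1} => i.elim) ⊥ (fun i => i.elim)
    (by simp) a b (fun i => i.elim)

lemma subsingleton_section_of_eq_bot {V : Opens X} (h : V = ⊥) :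
    Subsingleton (ToType (F.obj.obj (op V))) := by
  subst h
  exact subsingleton_section_bot F

lemma isIso_of_bijective_app {F G : TopCat.Sheaf A X} (f : F ⟶ G)
    (h : ∀ V : Opens X, Function.Bijective (f.hom.app (op V))) : IsIso f := by
  have h1 : ∀ V : (Opens X)ᵒᵖ, IsIso (f.hom.app V) := fun V =>
    (ConcreteCategory.isIso_iff_bijective _).2 (h V.unop)
  have h2 : IsIso f.hom := NatIso.isIso_of_isIso_app _
  exact (ObjectProperty.isIso_hom_iff f).1 h2

end general

section counit

variable {Z X : TopCat.{u}} (i : Z ⟶ X) (B : TopCat.Sheaf A Z)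

/-- right triangle identity on sections. -/
lemma counit_unit_apply (V : Opens X) (t : ToType (B.obj.obj (op ((Opens.map i).obj V)))) :
    ((adj1 A i).counit.app B).hom.app (op ((Opens.map i).obj V))
      (((adj1 A i).unit.app ((TopCat.Sheaf.pushforward A i).obj B)).hom.app (op V) t) = t := by
  have h := (adj1 A i).right_triangle_components B
  have h1 := congrArg (fun φ => φ.hom.app (op V)) h
  have h2 := ConcreteCategory.congr_hom h1 t
  refine ((ConcreteCategory.comp_apply
    (((adj1 A i).unit.app ((TopCat.Sheaf.pushforward A i).obj B)).hom.app (op V))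
    (((adj1 A i).counit.app B).hom.app (op ((Opens.map i).obj V))) t).symm.trans h2).trans ?_
  exact ConcreteCategory.id_apply (X := B.obj.obj (op ((Opens.map i).obj V))) t

lemma counit_res {W W' : Opens Z} (h : W' ≤ W)
    (s : ToType (((TopCat.Sheaf.pullback A i).obj ((TopCat.Sheaf.pushforward A i).obj B)).obj.obj
      (op W))) :
    ((adj1 A i).counit.app B).hom.app (op W')
      (((TopCat.Sheaf.pullback A i).obj ((TopCat.Sheaf.pushforward A i).obj B)).obj.map
        (homOfLE h).op s) =
      B.obj.map (homOfLE h).op (((adj1 A i).counit.app B).hom.app (op W) s) :=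
  NatTrans.naturality_apply ((adj1 A i).counit.app B).hom (homOfLE h).op s

/-- for an inducing map `i`, the counit `i⁻¹ i_* B ⟶ B` is an isomorphism. -/
theorem isIso_counit_of_isInducing (hi : Topology.IsInducing i) :
    IsIso ((adj1 A i).counit.app B) := by
  apply isIso_of_bijective_app
  intro W
  let F := (TopCat.Sheaf.pushforward A i).obj B
  let G := (TopCat.Sheaf.pullback A i).obj F
  let L := LocIso.ofUnit A i F
  constructor
  · intro s s' hss'
    have hloc : ∀ z : W, ∃ (W' : Opens Z) (_ : z.1 ∈ W') (h : W' ≤ W),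
        G.obj.map (homOfLE h).op s = G.obj.map (homOfLE h).op s' := by
      rintro ⟨z, hz⟩
      obtain ⟨V1, a1, W1, hz1, h1, k1, e1⟩ := L.surj W s z hz
      obtain ⟨V2, a2, W2, hz2, h2, k2, e2⟩ := L.surj W s' z hz
      obtain ⟨O, hO, hOW⟩ := hi.isOpen_iff.1 (W1 ⊓ W2).2
      have hzO : i z ∈ O := by
        have : z ∈ i ⁻¹' O := by rw [hOW]; exact ⟨hz1, hz2⟩
        exact this
      let V' : Opens X := V1 ⊓ V2 ⊓ ⟨O, hO⟩
      have hV'1 : V' ≤ V1 := inf_le_left.trans inf_le_left
      have hV'2 : V' ≤ V2 := inf_le_left.trans inf_le_right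
      have hV'W : (Opens.map i).obj V' ≤ W1 ⊓ W2 := by
        intro w hw
        have : w ∈ i ⁻¹' O := hw.2
        rw [hOW] at this
        exact this
      have hV'W1 : (Opens.map i).obj V' ≤ W1 := hV'W.trans inf_le_left
      have hV'W2 : (Opens.map i).obj V' ≤ W2 := hV'W.trans inf_le_right
      have hzV' : z ∈ (Opens.map i).obj V' := ⟨⟨k1 hz1, k2 hz2⟩, hzO⟩
      have es : G.obj.map (homOfLE (hV'W1.trans h1)).op s =
          L.φ V' (F.obj.map (homOfLE hV'1).op a1) := by
        rw [L.nat]
        have := congrArg (G.obj.map (homOfLE hV'W1).op) e1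
        rw [res_res, res_res] at this
        exact this
      have es' : G.obj.map (homOfLE (hV'W2.trans h2)).op s' =
          L.φ V' (F.obj.map (homOfLE hV'2).op a2) := by
        rw [L.nat]
        have := congrArg (G.obj.map (homOfLE hV'W2).op) e2
        rw [res_res, res_res] at this
        exact this
      have ea : F.obj.map (homOfLE hV'1).op a1 = F.obj.map (homOfLE hV'2).op a2 := by
        have t1 := counit_unit_apply A i B V' (F.obj.map (homOfLE hV'1).op a1)
        have t2 := counit_unit_apply A i B V' (F.obj.map (homOfLE hV'2).op a2)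
        have u1 := counit_res A i B (hV'W1.trans h1) s
        have u2 := counit_res A i B (hV'W2.trans h2) s'
        rw [← t1, ← t2]
        change ((adj1 A i).counit.app B).hom.app _ (L.φ V' _) =
          ((adj1 A i).counit.app B).hom.app _ (L.φ V' _)
        rw [← es, ← es']
        exact u1.trans ((congrArg _ hss').trans u2.symm)
      refine ⟨(Opens.map i).obj V', hzV', hV'W1.trans h1, ?_⟩
      rw [es, ea]
      exact es'.symm
    choose W' hzW' hW'W hW' using hloc
    refine TopCat.Sheaf.eq_of_locally_eq' G W' W (fun z => homOfLE (hW'W z)) ?_ _ _ hW'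
    intro z hz
    exact Opens.mem_iSup.2 ⟨⟨z, hz⟩, hzW' ⟨z, hz⟩⟩
  · obtain ⟨O, hO, hOW⟩ := hi.isOpen_iff.1 W.2
    have hW : W = (Opens.map i).obj ⟨O, hO⟩ := Opens.ext hOW.symm
    subst hW
    intro t
    exact ⟨_, counit_unit_apply A i B ⟨O, hO⟩ t⟩

end counit

section unit

variable {Z X : TopCat.{u}} (i : Z ⟶ X) (K : TopCat.Sheaf A X)

/-- for an inducing map `i` with closed range and a sheaf `K` whose sections over opens disjoint
from the range are trivial, the unit `K ⟶ i_* i⁻¹ K` is an isomorphism. -/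
theorem isIso_unit_of_supported (hi : Topology.IsInducing i) (hcl : IsClosed (Set.range i))
    (h0 : ∀ V : Opens X, Disjoint (V : Set X) (Set.range i) →
      Subsingleton (ToType (K.obj.obj (op V))))
    (hne : ∀ V : Opens X, Nonempty (ToType (K.obj.obj (op V)))) :
    IsIso ((adj1 A i).unit.app K) := by
  apply isIso_of_bijective_app
  intro V
  let G := (TopCat.Sheaf.pullback A i).obj K
  let L := LocIso.ofUnit A i K
  let C : Opens X := ⟨(Set.range i)ᶜ, hcl.isOpen_compl⟩
  have hoff : ∀ {V1 V2 : Opens X} (a : ToType (K.obj.obj (op V1))) (b : ToType (K.obj.obj (op V2)))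
      (x : X), x ∈ V1 → x ∈ V2 → x ∉ Set.range i → AgreeAt K.obj a b x := by
    intro V1 V2 a b x h1 h2 hx
    have hsub : Subsingleton (ToType (K.obj.obj (op (V1 ⊓ V2 ⊓ C)))) :=
      h0 (V1 ⊓ V2 ⊓ C) (Set.disjoint_left.2 fun y hy hy' => hy.2 hy')
    exact ⟨V1 ⊓ V2 ⊓ C, ⟨⟨h1, h2⟩, hx⟩, inf_le_left.trans inf_le_left,
      inf_le_left.trans inf_le_right, Subsingleton.elim _ _⟩
  constructor
  · intro a b hab
    have hab' : L.φ V a = L.φ V b := hab
    have hag : ∀ x ∈ V, AgreeAt K.obj a b x := by
      intro x hx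
      by_cases hxr : x ∈ Set.range i
      · obtain ⟨z, rfl⟩ := hxr
        exact L.inj V V a b z ((Opens.map i).obj V) hx le_rfl le_rfl (by rw [hab'])
      · exact hoff a b x hx hx hxr
    have h1 := res_eq_of_agreeAt K a b le_rfl le_rfl hag
    have hid : (homOfLE (le_refl V)).op = 𝟙 (op V) := rfl
    rw [hid, K.obj.map_id, ConcreteCategory.id_apply, ConcreteCategory.id_apply] at h1
    exact h1
  · intro t
    have hloc : ∀ z : (Opens.map i).obj V, ∃ (Vz : Opens X) (_ : i z.1 ∈ Vz) (hVz : Vz ≤ V)
        (a : ToType (K.obj.obj (op Vz))),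
        G.obj.map (homOfLE ((Opens.map i).monotone hVz)).op t = L.φ Vz a := by
      rintro ⟨z, hz⟩
      obtain ⟨V1, a, W', hzW', h1, h2, e⟩ := L.surj ((Opens.map i).obj V) t z hz
      obtain ⟨O, hO, hOW⟩ := hi.isOpen_iff.1 W'.2
      have hzO : i z ∈ O := by
        have : z ∈ i ⁻¹' O := by rw [hOW]; exact hzW'
        exact this
      have hV1 : V1 ⊓ V ⊓ ⟨O, hO⟩ ≤ V1 := inf_le_left.trans inf_le_left
      have hVV : V1 ⊓ V ⊓ ⟨O, hO⟩ ≤ V := inf_le_left.trans inf_le_right
      have hVW' : (Opens.map i).obj (V1 ⊓ V ⊓ ⟨O, hO⟩) ≤ W' := by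
        intro w hw
        have : w ∈ i ⁻¹' O := hw.2
        rw [hOW] at this
        exact this
      refine ⟨V1 ⊓ V ⊓ ⟨O, hO⟩, ⟨⟨h2 hzW', hz⟩, hzO⟩, hVV, K.obj.map (homOfLE hV1).op a, ?_⟩
      rw [L.nat]
      have e1 := congrArg (G.obj.map (homOfLE hVW').op) e
      rw [res_res, res_res] at e1
      exact e1
    choose Vz hzVz hVzV a ha using hloc
    obtain ⟨a0⟩ := hne (V ⊓ C)
    let Vf : Option ((Opens.map i).obj V) → Opens X := fun p => match p with
      | none => V ⊓ C
      | some z => Vz z
    let sf : ∀ p, ToType (K.obj.obj (op (Vf p))) := fun p => match p with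
      | none => a0
      | some z => a z
    have hVf : ∀ p, Vf p ≤ V := fun p => match p with
      | none => inf_le_left
      | some z => hVzV z
    have hag : ∀ p q x, x ∈ Vf p → x ∈ Vf q → AgreeAt K.obj (sf p) (sf q) x := by
      intro p q x hp hq
      by_cases hxr : x ∈ Set.range i
      · obtain ⟨w, rfl⟩ := hxr
        match p, q with
        | none, _ => exact (hp.2 ⟨w, rfl⟩).elim
        | some z, none => exact (hq.2 ⟨w, rfl⟩).elim
        | some z, some z' =>
          exact L.inj (Vz z) (Vz z') (a z) (a z') w ((Opens.map i).obj (Vz z ⊓ Vz z')) ⟨hp, hq⟩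
            ((Opens.map i).monotone inf_le_left) ((Opens.map i).monotone inf_le_right)
            (by rw [← ha z, ← ha z', res_res, res_res])
      · exact hoff _ _ x hp hq hxr
    have hcompat : TopCat.Presheaf.IsCompatible K.obj Vf sf := by
      intro p q
      exact res_eq_of_agreeAt K (sf p) (sf q) inf_le_left inf_le_right
        (fun x hx => hag p q x hx.1 hx.2)
    have hcover : V ≤ iSup Vf := by
      intro x hx
      by_cases hxr : x ∈ Set.range i
      · obtain ⟨z, rfl⟩ := hxr
        exact Opens.mem_iSup.2 ⟨some ⟨z, hx⟩, hzVz ⟨z, hx⟩⟩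
      · exact Opens.mem_iSup.2 ⟨none, ⟨hx, hxr⟩⟩
    obtain ⟨s, hs, -⟩ := TopCat.Sheaf.existsUnique_gluing' K Vf V (fun p => homOfLE (hVf p)) hcover
      sf hcompat
    refine ⟨s, ?_⟩
    refine TopCat.Sheaf.eq_of_locally_eq' G
      (fun z : (Opens.map i).obj V => (Opens.map i).obj (Vz z)) ((Opens.map i).obj V)
      (fun z => homOfLE ((Opens.map i).monotone (hVzV z))) ?_ _ _ ?_
    · intro z hz
      exact Opens.mem_iSup.2 ⟨⟨z, hz⟩, hzVz ⟨z, hz⟩⟩
    · intro z
      have h1 : G.obj.map (homOfLE ((Opens.map i).monotone (hVzV z))).op (L.φ V s) =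
          L.φ (Vz z) (K.obj.map (homOfLE (hVzV z)).op s) := (L.nat (hVzV z) s).symm
      have h2 : K.obj.map (homOfLE (hVzV z)).op s = a z := hs (some z)
      rw [h2] at h1
      exact h1.trans (ha z).symm

end unit


section abstractInj

variable {C D : Type*} [Category C] [Category D] [HasZeroMorphisms C]
  {L : C ⥤ D} {R : D ⥤ C} (adj : L ⊣ R)

/-- abstract form of "`i^!` preserves injectives". -/
theorem injective_L_kernel {I J' : C} [Injective I] (η' : I ⟶ J')
    [HasKernel η']
    (ha : ∀ B : D, IsIso (adj.counit.app B))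
    (hb : IsIso (adj.unit.app (kernel η')))
    (hc : ∀ (B : D) (h2 : R.obj B ⟶ I), h2 ≫ η' = 0) :
    Injective (L.obj (kernel η')) := by
  have hlim : PreservesLimitsOfSize.{0, 0} R := adj.rightAdjoint_preservesLimits
  have hRm : R.PreservesMonomorphisms := inferInstance
  constructor
  intro A B g f hf
  let g1 : R.obj A ⟶ kernel η' := R.map g ≫ inv (adj.unit.app (kernel η'))
  let g2 : R.obj A ⟶ I := g1 ≫ kernel.ι η'
  let h2 := Injective.factorThru g2 (R.map f)
  have hh2 : R.map f ≫ h2 = g2 := Injective.comp_factorThru _ _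
  have hz : h2 ≫ η' = 0 := hc B h2
  let h1 : R.obj B ⟶ kernel η' := kernel.lift η' h2 hz
  have hh1 : R.map f ≫ h1 = g1 := by
    apply (cancel_mono (kernel.ι η')).1
    rw [Category.assoc, kernel.lift_ι]
    exact hh2
  refine ⟨inv (adj.counit.app B) ≫ L.map h1, ?_⟩
  have n1 : f ≫ inv (adj.counit.app B) = inv (adj.counit.app A) ≫ L.map (R.map f) := by
    rw [IsIso.comp_inv_eq, Category.assoc]
    have := adj.counit_naturality f
    rw [this, IsIso.inv_hom_id_assoc]
  have n2 : inv (adj.counit.app A) ≫ L.map (R.map g) =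
      g ≫ inv (adj.counit.app (L.obj (kernel η'))) := by
    rw [IsIso.inv_comp_eq, ← Category.assoc, IsIso.eq_comp_inv]
    exact adj.counit_naturality g
  have n3 : inv (adj.counit.app (L.obj (kernel η'))) ≫
      L.map (inv (adj.unit.app (kernel η'))) = 𝟙 (L.obj (kernel η')) := by
    rw [Functor.map_inv, ← IsIso.inv_comp]
    apply IsIso.inv_eq_of_hom_inv_id
    exact (Category.comp_id _).trans (adj.left_triangle_components (kernel η'))
  calc f ≫ inv (adj.counit.app B) ≫ L.map h1
      = (f ≫ inv (adj.counit.app B)) ≫ L.map h1 := (Category.assoc _ _ _).symm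
    _ = inv (adj.counit.app A) ≫ L.map (R.map f ≫ h1) := by
        rw [n1, Category.assoc, ← Functor.map_comp]
    _ = inv (adj.counit.app A) ≫ L.map (R.map g) ≫
          L.map (inv (adj.unit.app (kernel η'))) := by
        rw [hh1, Functor.map_comp]
    _ = g ≫ inv (adj.counit.app (L.obj (kernel η'))) ≫
          L.map (inv (adj.unit.app (kernel η'))) := by
        rw [← Category.assoc, n2, Category.assoc]
    _ = g := by rw [n3]; exact Category.comp_id g

end abstractInj

section HZ

variable {X : TopCat.{u}}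

lemma mono_app_injective {F G : CohTop.Ab X} (f : F ⟶ G) [Mono f] (V : Opens X) :
    Function.Injective (f.hom.app (op V)) := by
  have h1 : Mono f.hom := (Sheaf.Hom.mono_iff_presheaf_mono _ _ f).1 inferInstance
  have h2 : Mono (f.hom.app (op V)) := (NatTrans.mono_iff_mono_app f.hom).1 h1 (op V)
  exact (AddCommGrpCat.mono_iff_injective _).1 h2

lemma subsingleton_sectSupp (U : Opens X) (I : CohTop.Ab X) (V : Opens X) (hV : V ≤ U) :
    Subsingleton ((CohCx.sectSupp U I).obj.obj (op V)) := by
  let j := CohCx.incl U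
  let ηj := (TopCat.Sheaf.pullbackPushforwardAdjunction AddCommGrpCat.{u} j).unit.app I
  let ι : CohCx.sectSupp U I ⟶ I := kernel.ι ηj
  have hι : ι ≫ ηj = 0 := kernel.condition ηj
  let L := LocIso.ofUnit AddCommGrpCat.{u} j I
  have key : ∀ s : (CohCx.sectSupp U I).obj.obj (op V), ι.hom.app (op V) s = 0 := by
    intro s
    have h1 : ηj.hom.app (op V) (ι.hom.app (op V) s) = 0 := by
      have e1 := congrArg (fun φ => φ.hom.app (op V)) hι
      have e2 := ConcreteCategory.congr_hom e1 s
      exact e2
    have h2 : L.φ V (ι.hom.app (op V) s) = L.φ V 0 := by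
      refine h1.trans ?_
      exact (map_zero (ηj.hom.app (op V)).hom).symm
    have hag : ∀ x ∈ V, AgreeAt I.obj (ι.hom.app (op V) s) (0 : I.obj.obj (op V)) x := fun x hx =>
      L.inj V V _ _ ⟨x, hV hx⟩ ((Opens.map j).obj V) hx le_rfl le_rfl (by rw [h2])
    have h3 := res_eq_of_agreeAt I _ _ le_rfl le_rfl hag
    have hid : (homOfLE (le_refl V)).op = 𝟙 (op V) := rfl
    rw [hid, I.obj.map_id, ConcreteCategory.id_apply, ConcreteCategory.id_apply] at h3
    exact h3
  refine ⟨fun s s' => ?_⟩
  have hm : Mono ι := inferInstanceAs (Mono (kernel.ι ηj))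
  apply mono_app_injective ι V
  rw [key s, key s']

lemma comp_unit_eq_zero (U : Opens X) (I : CohTop.Ab X)
    (B : CohTop.Ab (TopCat.of ((U : Set X)ᶜ : Set X)))
    (h2 : (CohTop.push (CohCx.inclCompl U)).obj B ⟶ I) :
    h2 ≫ (TopCat.Sheaf.pullbackPushforwardAdjunction AddCommGrpCat.{u} (CohCx.incl U)).unit.app I =
      0 := by
  let i := CohCx.inclCompl U
  let j := CohCx.incl U
  let φ := h2 ≫ (TopCat.Sheaf.pullbackPushforwardAdjunction AddCommGrpCat.{u} j).unit.app I
  let J := (CohTop.pull j).obj I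
  have key : ∀ (V : Opens X) (t : ((CohTop.push i).obj B).obj.obj (op V)),
      φ.hom.app (op V) t = 0 := by
    intro V t
    have hV' : V ⊓ U ≤ V := inf_le_left
    have hnat := NatTrans.naturality_apply φ.hom (homOfLE hV').op t
    have hbot : (Opens.map i).obj (V ⊓ U) = ⊥ := by
      apply Opens.ext
      apply Set.eq_empty_of_forall_notMem
      intro z hz
      exact z.2 hz.2
    have hsub : Subsingleton (B.obj.obj (op ((Opens.map i).obj (V ⊓ U)))) :=
      subsingleton_section_of_eq_bot B hbot
    have ht0 : ((CohTop.push i).obj B).obj.map (homOfLE hV').op t = 0 :=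
      @Subsingleton.elim _ hsub _ _
    rw [ht0] at hnat
    have hz : J.obj.map (homOfLE ((Opens.map j).monotone hV')).op (φ.hom.app (op V) t) = 0 := by
      refine hnat.symm.trans ?_
      exact map_zero (φ.hom.app (op (V ⊓ U))).hom
    have hle : (Opens.map j).obj V ≤ (Opens.map j).obj (V ⊓ U) := fun y hy => ⟨hy, y.2⟩
    have h3 := congrArg (J.obj.map (homOfLE hle).op) hz
    rw [res_res] at h3
    have hid : (homOfLE (le_refl ((Opens.map j).obj V))).op = 𝟙 (op ((Opens.map j).obj V)) := rfl
    rw [hid, J.obj.map_id, ConcreteCategory.id_apply] at h3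
    exact h3.trans (map_zero (J.obj.map (homOfLE hle).op).hom)
  apply ObjectProperty.hom_ext
  apply NatTrans.ext
  funext V
  apply AddCommGrpCat.hom_ext
  apply AddMonoidHom.ext
  intro t
  exact key V.unop t

theorem HZ_injective (U : Opens X) (I : CohTop.Ab X) [Injective I] :
    Injective (CohCx.HZ U I) := by
  let i := CohCx.inclCompl U
  have hi : Topology.IsInducing i := Topology.IsInducing.subtypeVal
  have hrange : Set.range i = (U : Set X)ᶜ := Subtype.range_coe
  have hcl : IsClosed (Set.range i) := by rw [hrange]; exact U.2.isClosed_compl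
  exact injective_L_kernel (C := CohTop.Ab X) (D := CohTop.Ab (TopCat.of ((U : Set X)ᶜ : Set X)))
    (L := CohTop.pull i) (R := CohTop.push i) (I := I)
    (J' := (CohTop.push (CohCx.incl U)).obj ((CohTop.pull (CohCx.incl U)).obj I))
    (TopCat.Sheaf.pullbackPushforwardAdjunction AddCommGrpCat.{u} i)
    ((TopCat.Sheaf.pullbackPushforwardAdjunction AddCommGrpCat.{u} (CohCx.incl U)).unit.app I)
    (fun B => isIso_counit_of_isInducing AddCommGrpCat.{u} i B hi)
    (isIso_unit_of_supported AddCommGrpCat.{u} i (CohCx.sectSupp U I) hi hcl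
      (fun V hV => subsingleton_sectSupp U I V (by
        intro x hx
        by_contra hxU
        exact Set.disjoint_left.1 hV hx (by rw [hrange]; exact hxU)))
      (fun V => ⟨0⟩))
    (fun B h2 => comp_unit_eq_zero U I B h2)

end HZ

end Groth.Agent.Lib.H15ClosedSupp
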