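import Groth.Agent.Lib.H43GVBasic
import Groth.Agent.Lib.H15ClosedSupp
import Groth.Agent.Lib.OpenShriek
import Groth.Agent.S0459

/-!
# Grothendieck vanishing, part 3 (helper43): supports

* `SuppIn G Z`: the abelian sheaf `G` has no nonzero sections over opens disjoint from `Z`.
* `suppIn_compl_of_isZero_restr`: if `G|_V = 0` then `G` is supported in the complement of `V`.
* `vanGE_of_suppIn_closed`: if `G` is supported in the closed set `Z` and all abelian sheaves on
  the space `Z` have vanishing cohomology in degrees `≥ m`, so has `G` (closed pushforward, S0459).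
* `exists_ses_of_closed_cover`: if `G` is supported in `Z ⊆ Z₁ ∪ Z₂` (closed sets), there is a short
  exact sequence `0 → K → G → C → 0` with `K` supported in `Z ∩ Z₂` and `C` in `Z ∩ Z₁`.
-/

set_option autoImplicit false
universe u

open CategoryTheory CategoryTheory.Limits TopologicalSpace Opposite Abelian

namespace Groth.Agent.Lib.H43GV

open Groth.Agent.Lib

variable {X : TopCat.{u}}

/-- `G` has no nonzero sections over opens disjoint from `Z` -/
def SuppIn (G : CohTop.Ab X) (Z : Set X) : Prop :=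
  ∀ V : Opens X, Disjoint (V : Set X) Z → Subsingleton (ToType (G.obj.obj (op V)))

lemma SuppIn.mono_set {G : CohTop.Ab X} {Z Z' : Set X} (h : SuppIn G Z) (hZ : Z ⊆ Z') :
    SuppIn G Z' := fun V hV => h V (hV.mono_right hZ)

lemma SuppIn.of_mono {G G' : CohTop.Ab X} {Z : Set X} (h : SuppIn G Z) (f : G' ⟶ G) [Mono f] :
    SuppIn G' Z := by
  intro V hV
  have := h V hV
  exact (H15ClosedSupp.mono_app_injective f V).subsingleton

lemma suppIn_univ (G : CohTop.Ab X) : SuppIn G Set.univ := by
  intro V hV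
  apply H15ClosedSupp.subsingleton_section_of_eq_bot (A := AddCommGrpCat.{u}) G
  ext x
  simp only [Opens.coe_bot, Set.mem_empty_iff_false, iff_false]
  exact fun hx => Set.disjoint_left.1 hV hx trivial

lemma subsingleton_sections_of_isZero {Y : TopCat.{u}} {G : CohTop.Ab Y} (h : IsZero G)
    (V : Opens Y) : Subsingleton (ToType (G.obj.obj (op V))) := by
  have h1 : 𝟙 G = 0 := h.eq_of_src _ _
  have key : ∀ s : ToType (G.obj.obj (op V)), s = 0 := by
    intro s
    have h2 := congrArg (fun φ : G ⟶ G => φ.hom.app (op V)) h1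
    have h3 := ConcreteCategory.congr_hom h2 s
    simpa using h3
  exact ⟨fun a b => by rw [key a, key b]⟩

lemma isZero_of_forall_subsingleton {G : CohTop.Ab X}
    (h : ∀ V : Opens X, Subsingleton (ToType (G.obj.obj (op V)))) : IsZero G := by
  rw [IsZero.iff_id_eq_zero]
  apply Sheaf.hom_ext
  ext V s
  obtain ⟨V⟩ := V
  have := h V
  exact Subsingleton.elim _ _

lemma isZero_of_suppIn_empty {G : CohTop.Ab X} (h : SuppIn G ∅) : IsZero G :=
  isZero_of_forall_subsingleton (fun V => h V (Set.disjoint_empty _))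

lemma isZero_of_isEmpty [IsEmpty X] (G : CohTop.Ab X) : IsZero G := by
  apply isZero_of_forall_subsingleton
  intro V
  apply H15ClosedSupp.subsingleton_section_of_eq_bot (A := AddCommGrpCat.{u}) G
  ext x
  exact isEmptyElim x

/-- if the restriction of `Q` to the open `V` vanishes, `Q` is supported in the complement -/
lemma suppIn_compl_of_isZero_restr (V : Opens X) (Q : CohTop.Ab X)
    (h : IsZero ((CohTop.restrFunctor V).obj Q)) : SuppIn Q (V : Set X)ᶜ := by
  intro W hW
  have hWV : W ≤ V := by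
    intro x hx
    by_contra hxV
    exact Set.disjoint_left.1 hW hx hxV
  let W' : Opens (TopCat.of V) := (Opens.map (OpenShriek.ι V)).obj W
  have h1 : Subsingleton (ToType (((CohTop.restrFunctor V).obj Q).obj.obj (op W'))) :=
    subsingleton_sections_of_isZero h W'
  have hW' : (OpenShriek.jF V).obj W' = W := by
    apply le_antisymm
    · rintro x ⟨w, hw, rfl⟩
      exact hw
    · exact OpenShriek.le_jF_preimage V hWV
  have h2 : Subsingleton (ToType (Q.obj.obj (op ((OpenShriek.jF V).obj W')))) := h1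
  rw [hW'] at h2
  exact h2

/-- closed pushforward: vanishing on the closed subspace `Z` implies vanishing for sheaves on `X`
supported in `Z` -/
theorem vanGE_of_suppIn_closed (Z : Set X) (hZ : IsClosed Z) (G : CohTop.Ab X) (hG : SuppIn G Z)
    (m : ℕ) (h : ∀ G' : CohTop.Ab (TopCat.of Z), VanGE m G') : VanGE m G := by
  let i : TopCat.of Z ⟶ X := TopCat.ofHom ⟨Subtype.val, continuous_subtype_val⟩
  have hi : Topology.IsClosedEmbedding i := hZ.isClosedEmbedding_subtypeVal
  have hr : Set.range i = Z := Subtype.range_coe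
  have hiso : IsIso ((TopCat.Sheaf.pullbackPushforwardAdjunction AddCommGrpCat.{u} i).unit.app G) :=
    H15ClosedSupp.isIso_unit_of_supported AddCommGrpCat.{u} i G hi.isInducing (by rw [hr]; exact hZ)
      (fun V hV => hG V (by rw [← hr]; exact hV)) (fun V => ⟨0⟩)
  let e : G ≅ (CohTop.push i).obj ((CohTop.pull i).obj G) :=
    @asIso _ _ _ _ ((TopCat.Sheaf.pullbackPushforwardAdjunction AddCommGrpCat.{u} i).unit.app G) hiso
  refine vanGE_of_iso e.symm ?_
  intro p hp
  obtain ⟨φ⟩ := Groth.Agent.S0459.result i hi ((CohTop.pull i).obj G) p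
  have := h ((CohTop.pull i).obj G) p hp
  exact φ.symm.toEquiv.subsingleton

end Groth.Agent.Lib.H43GV

namespace Groth.Agent.Lib.H43GV

open Groth.Agent.Lib

variable {X : TopCat.{u}}

/-- `W ∩ U`, as the image in `X` of the preimage of `W` in `U` -/
abbrev rOpen (U W : Opens X) : Opens X := (OpenShriek.jF U).obj ((Opens.map (OpenShriek.ι U)).obj W)

lemma mem_rOpen (U W : Opens X) (x : X) : x ∈ rOpen U W ↔ x ∈ W ∧ x ∈ U := by
  constructor
  · rintro ⟨w, hw, rfl⟩
    exact ⟨hw, w.2⟩
  · rintro ⟨hW, hU⟩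
    exact ⟨⟨x, hU⟩, hW, rfl⟩

lemma rOpen_le (U W : Opens X) : rOpen U W ≤ W := fun x hx => ((mem_rOpen U W x).1 hx).1

lemma le_rOpen (U W : Opens X) (h : W ≤ U) : W ≤ rOpen U W :=
  fun x hx => (mem_rOpen U W x).2 ⟨hx, h hx⟩

/-- `j_* j^* G` for the open `U` -/
noncomputable abbrev resPush (U : Opens X) (G : CohTop.Ab X) : CohTop.Ab X :=
  (CohTop.push (OpenShriek.ι U)).obj ((CohTop.restrFunctor U).obj G)

/-- the restriction map `G ⟶ j_* j^* G` -/
noncomputable def toResPush (U : Opens X) (G : CohTop.Ab X) : G ⟶ resPush U G :=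
  ⟨{ app := fun W => G.obj.map (homOfLE (rOpen_le U W.unop)).op
     naturality := by
      intro W W₂ f
      change G.obj.map f ≫ G.obj.map _ = G.obj.map _ ≫ G.obj.map _
      rw [← G.obj.map_comp, ← G.obj.map_comp]
      rfl }⟩

lemma toResPush_app (U : Opens X) (G : CohTop.Ab X) (W : Opens X) :
    (toResPush U G).hom.app (op W) = G.obj.map (homOfLE (rOpen_le U W)).op := rfl

lemma toResPush_app_injective (U : Opens X) (G : CohTop.Ab X) (W : Opens X) (h : W ≤ U) :
    Function.Injective ((toResPush U G).hom.app (op W)) := by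
  have h2 : G.obj.map (homOfLE (rOpen_le U W)).op ≫ G.obj.map (homOfLE (le_rOpen U W h)).op =
      𝟙 (G.obj.obj (op W)) := by
    rw [← G.obj.map_comp]
    have : (homOfLE (rOpen_le U W)).op ≫ (homOfLE (le_rOpen U W h)).op = 𝟙 (op W) :=
      Subsingleton.elim _ _
    rw [this, G.obj.map_id]
  have h1 : ∀ s, G.obj.map (homOfLE (le_rOpen U W h)).op ((toResPush U G).hom.app (op W) s) = s := by
    intro s
    exact ConcreteCategory.congr_hom h2 s
  exact Function.LeftInverse.injective h1

lemma suppIn_resPush (U : Opens X) (G : CohTop.Ab X) (Z Z' : Set X) (hG : SuppIn G Z)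
    (h : ∀ x, x ∈ U → x ∈ Z → x ∈ Z') : SuppIn (resPush U G) Z' := by
  intro V hV
  have h1 : Disjoint ((rOpen U V : Opens X) : Set X) Z := by
    rw [Set.disjoint_left]
    intro x hx hxZ
    obtain ⟨hxV, hxU⟩ := (mem_rOpen U V x).1 hx
    exact Set.disjoint_left.1 hV hxV (h x hxU hxZ)
  exact hG (rOpen U V) h1

/-- the short exact sequence attached to a cover of the support by two closed sets -/
theorem exists_ses_of_cover (G : CohTop.Ab X) (Z Z₁ Z₂ : Set X) (hZ : IsClosed Z)
    (hZ₂ : IsClosed Z₂) (hG : SuppIn G Z) (hcov : Z ⊆ Z₁ ∪ Z₂) :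
    ∃ (K C : CohTop.Ab X) (f : K ⟶ G) (g : G ⟶ C) (w : f ≫ g = 0),
      (ShortComplex.mk f g w).ShortExact ∧ SuppIn K (Z ∩ Z₂) ∧ SuppIn C (Z ∩ Z₁) := by
  let U : Opens X := ⟨(Z ∩ Z₂)ᶜ, (hZ.inter hZ₂).isOpen_compl⟩
  let η := toResPush U G
  refine ⟨kernel η, Abelian.coimage η, kernel.ι η, Abelian.coimage.π η,
    cokernel.condition (kernel.ι η), ?_, ?_, ?_⟩
  · exact
      { exact := ShortComplex.exact_cokernel (kernel.ι η)
        mono_f := inferInstanceAs (Mono (kernel.ι η))
        epi_g := inferInstanceAs (Epi (cokernel.π (kernel.ι η))) }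
  · intro V hV
    have hVU : V ≤ U := by
      intro x hx hx'
      exact Set.disjoint_left.1 hV hx hx'
    refine ⟨fun a b => ?_⟩
    have key : ∀ s : ToType ((kernel η).obj.obj (op V)), s = 0 := by
      intro s
      apply H15ClosedSupp.mono_app_injective (kernel.ι η) V
      rw [map_zero]
      apply toResPush_app_injective U G V hVU
      rw [map_zero]
      have h1 := congrArg (fun φ => φ.hom.app (op V)) (kernel.condition η)
      exact ConcreteCategory.congr_hom h1 s
    rw [key a, key b]
  · have h1 : SuppIn (resPush U G) (Z ∩ Z₁) := by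
      apply suppIn_resPush U G Z (Z ∩ Z₁) hG
      intro x hxU hxZ
      refine ⟨hxZ, ?_⟩
      rcases hcov hxZ with h | h
      · exact h
      · exact absurd (⟨hxZ, h⟩ : x ∈ Z ∩ Z₂) hxU
    exact h1.of_mono (Abelian.factorThruCoimage η)

end Groth.Agent.Lib.H43GV
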