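import Groth.Agent.Lib.H43GVDev
import Groth.Agent.Lib.H43GVSupp
import Groth.Agent.Lib.H43GVDim
import Groth.Agent.Lib.HBridge
import Groth.Agent.S0457
import Groth.Agent.S0926

/-!
# Grothendieck vanishing, part 5 (helper43): the theorem

`Groth.Agent.Lib.H43GV.main`: for a Noetherian space `X` with `dim X < n` and every abelian sheaf
`F`, `H^p(X, F) = 0` for all `p ≥ n` (Hartshorne III.2.7).
-/

set_option autoImplicit false
universe u

open CategoryTheory CategoryTheory.Limits TopologicalSpace Opposite Abelian

namespace Groth.Agent.Lib.H43GV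

open Groth.Agent.Lib Groth.Agent.Lib.FlasqueAcyclic

section Abstract

variable {C : Type*} [Category C]

/-- in a pullback square of two monomorphisms defining the same subobject, both projections are
isomorphisms -/
lemma isIso_fst_of_isPullback_of_mk_eq {P A B M : C} {fst : P ⟶ A} {snd : P ⟶ B} {a : A ⟶ M}
    {b : B ⟶ M} [Mono a] [Mono b] (h : IsPullback fst snd a b)
    (hab : Subobject.mk a = Subobject.mk b) : IsIso fst := by
  let θ : A ⟶ B := Subobject.ofMkLEMk a b hab.le
  have hθ : θ ≫ b = a := Subobject.ofMkLEMk_comp hab.le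
  refine ⟨h.lift (𝟙 A) θ (by rw [Category.id_comp, hθ]), ?_, h.lift_fst _ _ _⟩
  apply h.hom_ext
  · rw [Category.assoc, h.lift_fst, Category.comp_id, Category.id_comp]
  · rw [Category.assoc, h.lift_snd, Category.id_comp, ← cancel_mono b, Category.assoc, hθ, h.w]

lemma isIso_snd_of_isPullback_of_mk_eq {P A B M : C} {fst : P ⟶ A} {snd : P ⟶ B} {a : A ⟶ M}
    {b : B ⟶ M} [Mono a] [Mono b] (h : IsPullback fst snd a b)
    (hab : Subobject.mk a = Subobject.mk b) : IsIso snd :=
  isIso_fst_of_isPullback_of_mk_eq h.flip hab.symm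

end Abstract

variable {X : TopCat.{u}}

/-- multiplication by a nonzero integer on the constant sheaf `ℤ` is a monomorphism -/
lemma mono_zsmul_const {d : ℤ} (hd : d ≠ 0) :
    Mono (d • 𝟙 (CohTop.const X (ULift.{u} ℤ))) := by
  let P : (Opens X)ᵒᵖ ⥤ AddCommGrpCat.{u} :=
    (Functor.const _).obj (AddCommGrpCat.of (ULift.{u} ℤ))
  have h1 : Mono (d • 𝟙 P) := by
    have : ∀ V, Mono ((d • 𝟙 P).app V) := by
      intro V
      rw [NatTrans.app_zsmul, AddCommGrpCat.mono_iff_injective]
      intro a b hab
      have h2 : d • a = d • b := hab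
      have h3 : d * a.down = d * b.down := congrArg ULift.down h2
      exact ULift.ext _ _ (mul_left_cancel₀ hd h3)
    exact NatTrans.mono_of_mono_app _
  have h2 : (presheafToSheaf (Opens.grothendieckTopology X) AddCommGrpCat.{u}).map (d • 𝟙 P) =
      d • 𝟙 ((presheafToSheaf (Opens.grothendieckTopology X) AddCommGrpCat.{u}).obj P) := by
    rw [Functor.map_zsmul, CategoryTheory.Functor.map_id]
  have h3 : Mono ((presheafToSheaf (Opens.grothendieckTopology X) AddCommGrpCat.{u}).map
      (d • 𝟙 P)) := inferInstance
  rw [h2] at h3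
  exact h3

section Restr

variable (V : Opens X)

lemma isZero_restr_kernel {A B : CohTop.Ab X} (a : A ⟶ B)
    (ha : IsIso ((CohTop.restrFunctor V).map a)) :
    IsZero ((CohTop.restrFunctor V).obj (kernel a)) := by
  have h1 : (CohTop.restrFunctor V).map (kernel.ι a) ≫ (CohTop.restrFunctor V).map a = 0 := by
    rw [← Functor.map_comp, kernel.condition, Functor.map_zero]
  have h2 : (CohTop.restrFunctor V).map (kernel.ι a) = 0 :=
    (cancel_mono ((CohTop.restrFunctor V).map a)).1 (by rw [h1, zero_comp])
  exact IsZero.of_mono_eq_zero _ h2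

lemma isZero_restr_cokernel {A B : CohTop.Ab X} (a : A ⟶ B)
    (ha : IsIso ((CohTop.restrFunctor V).map a)) :
    IsZero ((CohTop.restrFunctor V).obj (cokernel a)) := by
  have h1 : (CohTop.restrFunctor V).map a ≫ (CohTop.restrFunctor V).map (cokernel.π a) = 0 := by
    rw [← Functor.map_comp, cokernel.condition, Functor.map_zero]
  have h2 : (CohTop.restrFunctor V).map (cokernel.π a) = 0 :=
    (cancel_epi ((CohTop.restrFunctor V).map a)).1 (by rw [h1, comp_zero])
  exact IsZero.of_epi_eq_zero _ h2

/-- a morphism which is an isomorphism over `V` does not change the vanishing of cohomology in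
degrees `> n`, if sheaves supported off `V` have no cohomology in degrees `≥ n` -/
lemma vanGE_iff_of_isIso_restr (n : ℕ)
    (hV : ∀ G : CohTop.Ab X, SuppIn G (V : Set X)ᶜ → VanGE n G)
    {A B : CohTop.Ab X} (a : A ⟶ B) (ha : IsIso ((CohTop.restrFunctor V).map a)) :
    VanGE (n + 1) A ↔ VanGE (n + 1) B := by
  have hK : VanGE n (kernel a) :=
    hV _ (suppIn_compl_of_isZero_restr V _ (isZero_restr_kernel V a ha))
  have hC : VanGE n (cokernel a) :=
    hV _ (suppIn_compl_of_isZero_restr V _ (isZero_restr_cokernel V a ha))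
  let S₁ : ShortComplex (CohTop.Ab X) :=
    ShortComplex.mk (kernel.ι a) (Abelian.coimage.π a) (cokernel.condition _)
  have hS₁ : S₁.ShortExact :=
    { exact := ShortComplex.exact_cokernel (kernel.ι a)
      mono_f := inferInstanceAs (Mono (kernel.ι a))
      epi_g := inferInstanceAs (Epi (cokernel.π (kernel.ι a))) }
  let S₂ : ShortComplex (CohTop.Ab X) :=
    ShortComplex.mk (Abelian.image.ι a) (cokernel.π a) (kernel.condition _)
  have hS₂ : S₂.ShortExact :=
    { exact := ShortComplex.exact_kernel (cokernel.π a)
      mono_f := inferInstanceAs (Mono (kernel.ι (cokernel.π a)))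
      epi_g := inferInstanceAs (Epi (cokernel.π a)) }
  let e : Abelian.coimage a ≅ Abelian.image a := Abelian.coimageIsoImage a
  constructor
  · intro hA
    have h1 : VanGE (n + 1) (Abelian.coimage a) :=
      vanGE_X₃ hS₁ hA (hK.mono (by omega))
    have h2 : VanGE (n + 1) (Abelian.image a) := vanGE_of_iso e h1
    exact vanGE_X₂ hS₂ h2 (hC.mono (by omega))
  · intro hB
    have h1 : VanGE (n + 1) (Abelian.image a) := vanGE_X₁ hS₂ hB hC
    have h2 : VanGE (n + 1) (Abelian.coimage a) := vanGE_of_iso e.symm h1
    exact vanGE_X₂ hS₁ (hK.mono (by omega)) h2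

end Restr

section Irreducible

variable [IrreducibleSpace X] (n : ℕ)
  (hIH : ∀ V : Opens X, V ≠ ⊥ → ∀ G : CohTop.Ab X, SuppIn G (V : Set X)ᶜ → VanGE n G)

include hIH

/-- subsheaves of the constant sheaf `ℤ` on an irreducible space -/
theorem vanGE_of_mono_const (R : CohTop.Ab X) (ι : R ⟶ CohTop.const X (ULift.{u} ℤ)) [Mono ι] :
    VanGE (n + 1) R := by
  obtain ⟨V, d, hV, himg⟩ := Groth.Agent.S0926.result R ι
  by_cases hd : d = 0
  · subst hd
    have h0 : (CohTop.restrFunctor V).map ((0 : ℤ) • 𝟙 (CohTop.const X (ULift.{u} ℤ))) = 0 := by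
      rw [zero_smul, Functor.map_zero]
    rw [h0, imageSubobject_zero] at himg
    have h1 : (imageSubobject ((CohTop.restrFunctor V).map ι)).Factors
        ((CohTop.restrFunctor V).map ι) := by
      have := imageSubobject_factors_comp_self (f := (CohTop.restrFunctor V).map ι) (𝟙 _)
      rwa [Category.id_comp] at this
    rw [himg] at h1
    have h2 : (CohTop.restrFunctor V).map ι = 0 := (Subobject.bot_factors_iff_zero _).1 h1
    have hz : IsZero ((CohTop.restrFunctor V).obj R) := IsZero.of_mono_eq_zero _ h2
    exact (hIH V hV R (suppIn_compl_of_isZero_restr V R hz)).mono (Nat.le_succ n)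
  · have hδ : Mono (d • 𝟙 (CohTop.const X (ULift.{u} ℤ))) := mono_zsmul_const hd
    let δ := d • 𝟙 (CohTop.const X (ULift.{u} ℤ))
    have hP : IsPullback (pullback.fst ι δ) (pullback.snd ι δ) ι δ := IsPullback.of_hasPullback ι δ
    have hρP := hP.map (CohTop.restrFunctor V)
    have hsub : Subobject.mk ((CohTop.restrFunctor V).map ι) =
        Subobject.mk ((CohTop.restrFunctor V).map δ) := by
      rw [← imageSubobject_mono, ← imageSubobject_mono]
      exact himg
    have h1 := isIso_fst_of_isPullback_of_mk_eq hρP hsub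
    have h2 := isIso_snd_of_isPullback_of_mk_eq hρP hsub
    have hconst : VanGE (n + 1) (CohTop.const X (ULift.{u} ℤ)) := by
      intro p hp
      obtain ⟨p', rfl⟩ : ∃ p', p = p' + 1 := ⟨p - 1, by omega⟩
      exact Groth.Agent.S0457.result (ULift.{u} ℤ) p'
    have hPv : VanGE (n + 1) (pullback ι δ) :=
      (vanGE_iff_of_isIso_restr V n (hIH V hV) (pullback.snd ι δ) h2).2 hconst
    exact (vanGE_iff_of_isIso_restr V n (hIH V hV) (pullback.fst ι δ) h1).1 hPv

/-- quotients of the free sheaves on an irreducible space -/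
theorem vanGE_quotient_freeSh (U : Opens X) (Q : CohTop.Ab X) (q : freeSh U ⟶ Q) [Epi q] :
    VanGE (n + 1) Q := by
  let emb : freeSh U ⟶ CohTop.const X (ULift.{u} ℤ) :=
    freeShMap (homOfLE (le_top : U ≤ ⊤)) ≫ (HBridge.constIso X).hom
  have hemb : Mono emb := mono_comp _ _
  let S : ShortComplex (CohTop.Ab X) := ShortComplex.mk (kernel.ι q) q (kernel.condition q)
  have hS : S.ShortExact :=
    { exact := ShortComplex.exact_kernel q
      mono_f := inferInstanceAs (Mono (kernel.ι q))
      epi_g := inferInstanceAs (Epi q) }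
  have h1 : VanGE (n + 1) (freeSh U) := vanGE_of_mono_const n hIH (freeSh U) emb
  have h2 : VanGE (n + 1) (kernel q) := vanGE_of_mono_const n hIH (kernel q) (kernel.ι q ≫ emb)
  exact vanGE_X₃ hS h1 (h2.mono (Nat.le_succ _))

/-- the irreducible case -/
theorem vanGE_of_irreducible [NoetherianSpace X] (F : CohTop.Ab X) : VanGE (n + 1) F :=
  devissage (VanGE (n + 1)) (fun _ hF => vanGE_of_isZero hF)
    (fun _ hS h1 h3 => vanGE_X₂ hS h1 h3)
    (fun U Q q _ => vanGE_quotient_freeSh n hIH U Q q)
    (fun _ _ _ D c hc h => vanGE_colimit D c hc h) F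

end Irreducible

section Main

lemma isEmpty_of_topologicalKrullDim_lt_zero {Y : Type*} [TopologicalSpace Y]
    (h : topologicalKrullDim Y < ((0 : ℕ) : WithBot ℕ∞)) : IsEmpty Y := by
  by_contra hne
  rw [not_isEmpty_iff] at hne
  obtain ⟨y⟩ := hne
  have : Nonempty (IrreducibleCloseds Y) :=
    ⟨⟨closure {y}, isIrreducible_singleton.closure, isClosed_closure⟩⟩
  have h0 : (0 : WithBot ℕ∞) ≤ topologicalKrullDim Y := Order.krullDim_nonneg
  exact absurd h (not_lt.2 h0)

/-- **Grothendieck vanishing**: on a Noetherian space of dimension `< n`, abelian sheaves have no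
cohomology in degrees `≥ n`. -/
theorem main : ∀ (n : ℕ) (X : TopCat.{u}) [NoetherianSpace X],
    topologicalKrullDim X < (n : WithBot ℕ∞) → ∀ F : CohTop.Ab X, VanGE n F
  | 0, X, _, hX, F => by
      have := isEmpty_of_topologicalKrullDim_lt_zero hX
      exact vanGE_of_isZero (isZero_of_isEmpty F)
  | n + 1, X, _, hX, F => by
      have ih := main n
      -- the irreducible case
      have hirr : ∀ (Z : TopCat.{u}) [NoetherianSpace Z] [IrreducibleSpace Z],
          topologicalKrullDim Z < ((n + 1 : ℕ) : WithBot ℕ∞) → ∀ F : CohTop.Ab Z,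
            VanGE (n + 1) F := by
        intro Z _ _ hZ F
        apply vanGE_of_irreducible n _ F
        intro V hV G hG
        have hne : ((V : Set Z)ᶜ : Set Z) ≠ Set.univ := by
          intro h
          apply hV
          ext z
          simp only [Opens.coe_bot, Set.mem_empty_iff_false, iff_false]
          intro hz
          have : z ∈ ((V : Set Z)ᶜ : Set Z) := h ▸ Set.mem_univ z
          exact this hz
        apply vanGE_of_suppIn_closed ((V : Set Z)ᶜ) V.isOpen.isClosed_compl G hG n
        intro G'
        have : NoetherianSpace (TopCat.of ((V : Set Z)ᶜ : Set Z)) :=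
          inferInstanceAs (NoetherianSpace ((V : Set Z)ᶜ : Set Z))
        exact ih (TopCat.of ((V : Set Z)ᶜ : Set Z))
          (topologicalKrullDim_lt_of_isClosed_ne_univ _ V.isOpen.isClosed_compl hne n hZ) G'
      -- Noetherian induction on the support
      have key : ∀ Z : Closeds X, ∀ G : CohTop.Ab X, SuppIn G (Z : Set X) → VanGE (n + 1) G := by
        intro Z
        induction Z using WellFoundedLT.induction with
        | ind Z IH =>
          intro G hG
          by_cases hirrZ : IsIrreducible (Z : Set X)
          · have : IrreducibleSpace (TopCat.of (Z : Set X)) := Subtype.irreducibleSpace hirrZ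
            have : NoetherianSpace (TopCat.of (Z : Set X)) :=
              inferInstanceAs (NoetherianSpace (Z : Set X))
            apply vanGE_of_suppIn_closed (Z : Set X) Z.isClosed G hG (n + 1)
            intro G'
            exact hirr (TopCat.of (Z : Set X))
              (lt_of_le_of_lt (topologicalKrullDim_subspace_le X (Z : Set X)) hX) G'
          · by_cases hne : (Z : Set X).Nonempty
            · have hpre : ¬ IsPreirreducible (Z : Set X) := fun h => hirrZ ⟨hne, h⟩
              simp only [isPreirreducible_iff_isClosed_union_isClosed, not_forall, not_or] at hpre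
              obtain ⟨Z₁, Z₂, hZ₁, hZ₂, hcov, h1, h2⟩ := hpre
              obtain ⟨K, C, f, g, w, hS, hK, hC⟩ :=
                exists_ses_of_cover G (Z : Set X) Z₁ Z₂ Z.isClosed hZ₂ hG hcov
              have hlt₂ : (⟨(Z : Set X) ∩ Z₂, Z.isClosed.inter hZ₂⟩ : Closeds X) < Z := by
                refine lt_of_le_of_ne (fun x hx => hx.1) ?_
                intro h
                apply h2
                intro x hx
                have h' : (Z : Set X) ∩ Z₂ = (Z : Set X) :=
                  congrArg (fun W : Closeds X => (W : Set X)) h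
                have : x ∈ (Z : Set X) ∩ Z₂ := by rw [h']; exact hx
                exact this.2
              have hlt₁ : (⟨(Z : Set X) ∩ Z₁, Z.isClosed.inter hZ₁⟩ : Closeds X) < Z := by
                refine lt_of_le_of_ne (fun x hx => hx.1) ?_
                intro h
                apply h1
                intro x hx
                have h' : (Z : Set X) ∩ Z₁ = (Z : Set X) :=
                  congrArg (fun W : Closeds X => (W : Set X)) h
                have : x ∈ (Z : Set X) ∩ Z₁ := by rw [h']; exact hx
                exact this.2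
              have hK' : VanGE (n + 1) K := IH _ hlt₂ K hK
              have hC' : VanGE (n + 1) C := IH _ hlt₁ C hC
              exact vanGE_X₂ hS hK' hC'
            · rw [Set.not_nonempty_iff_eq_empty] at hne
              exact vanGE_of_isZero (isZero_of_suppIn_empty (hne ▸ hG))
      exact key ⊤ F (suppIn_univ F)

/-- **Grothendieck vanishing** (Hartshorne III.2.7), in the form of S0458. -/
theorem subsingleton_H_of_dim_lt {X : TopCat.{u}} [NoetherianSpace X] (d : ℕ)
    (hd : topologicalKrullDim X ≤ d) (F : CohTop.Ab X) (p : ℕ) (hp : d < p) :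
    Subsingleton (CohTop.H F p) := by
  have h1 : topologicalKrullDim X < ((d + 1 : ℕ) : WithBot ℕ∞) := by
    refine lt_of_le_of_lt hd ?_
    exact_mod_cast Nat.lt_succ_self d
  exact main (d + 1) X h1 F p hp

end Main

end Groth.Agent.Lib.H43GV
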