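/-
Groth.Agent.Lib.SuppVanish49 (helper49)

Grothendieck vanishing for modules with small support: on a scheme `X` with Noetherian underlying space, if the
support of the `O_X`-module `G` is contained in a closed subset `Z` of Krull dimension `≤ d`, then
`H^p(X, G) = 0` for `p > d` (`subsingleton_HH_of_support_dim_le`).  Uses helper43's Grothendieck vanishing
(`H43GV.subsingleton_H_of_dim_lt`) and closed push-forward (`H43GV.vanGE_of_suppIn_closed`).
-/
import Groth.Agent.Lib.H43GVMain
import Groth.Agent.Lib.GrothVanish

set_option autoImplicit false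
universe u
open CategoryTheory CategoryTheory.Limits AlgebraicGeometry TopologicalSpace Opposite

namespace Groth.Agent.Lib.SuppVanish49

variable {X : Scheme.{u}}

/-- a module whose support lies in `Z` has no sections over opens disjoint from `Z` -/
theorem suppIn_toAb (G : X.Modules) (Z : Set X) (h : CohB1.support G ⊆ Z) :
    Groth.Agent.Lib.H43GV.SuppIn (X := X.toTopCat) (Coh.toAb G) Z := by
  intro V hV
  refine ⟨fun s t => ?_⟩
  refine TopCat.Presheaf.section_ext (C := AddCommGrpCat.{u}) (X := X.toTopCat)
    ⟨(Coh.toAb G).obj, (Coh.toAb G).property⟩ V s t fun x hx => ?_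
  have hxZ : x ∉ CohB1.support G := fun hx' => (Set.disjoint_left.1 hV hx) (h hx')
  have hsub : Subsingleton (G.presheaf.stalk x) := not_not.mp hxZ
  exact @Subsingleton.elim _ hsub _ _

/-- **Grothendieck vanishing for modules with small support** -/
theorem subsingleton_HH_of_support_dim_le [NoetherianSpace X] (G : X.Modules) (Z : Set X)
    (hZ : IsClosed Z) (hsupp : CohB1.support G ⊆ Z) (d : ℕ) (hd : topologicalKrullDim Z ≤ d)
    (p : ℕ) (hp : d < p) : Subsingleton (Coh.HH X G p) := by
  have : NoetherianSpace X.toTopCat := ‹NoetherianSpace X›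
  have hN : NoetherianSpace (TopCat.of Z) := NoetherianSpace.set Z
  have hvan := Groth.Agent.Lib.H43GV.vanGE_of_suppIn_closed (X := X.toTopCat) Z hZ (Coh.toAb G)
    (suppIn_toAb G Z hsupp) (d + 1)
    (fun G' p hp => Groth.Agent.Lib.H43GV.subsingleton_H_of_dim_lt (X := TopCat.of Z) d hd G' p
      (by omega))
  exact hvan p (by omega)

end Groth.Agent.Lib.SuppVanish49
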