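import Groth.Agent.Lib.SubCls
import Groth.Agent.Lib.AmpleVol13
import Groth.Agent.Lib.H78AmpleOps
import Groth.Agent.Lib.SurfSec13
import Groth.Agent.Lib.CurveVB54
import Groth.Agent.Lib.SuppVanish49
import Groth.Agent.Lib.H78SerreVan
import Groth.Agent.Lib.AsympCohBasic
import Groth.Agent.Lib.H90CurveH1
import Groth.Agent.Lib.CohTwistCompare
import Groth.Agent.Lib.IdealMod

/-!
# Big invertible modules: positive volume implies big (helper10)

`X` an integral scheme proper over a field `k`, of dimension `d`, carrying an ample invertible module;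
`L` invertible.  Kodaira's lemma (`exists_bound_of_not_subC`): if no positive power of `L` contains a
given invertible module `A` with a nonzero section, then `h^0(L^m) = O(m^(d-1))`.  Consequently, if
`limsup h^0(L^m) / m^d > 0` then `A ⊂ L^m0` for some `m0 ≥ 1`, and then
`h^0(L^m) ≥ c * m^d` for `m ≫ 0` (`exists_lower`).
-/

set_option autoImplicit false
universe u
open CategoryTheory CategoryTheory.Limits AlgebraicGeometry CohB1
open Groth.Agent.Lib.OXModTensor Groth.Agent.Lib.TwistEquiv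
open Groth.Agent.Lib.IsoCls13 Groth.Agent.Lib.CohGrowthHH Groth.Agent.Lib.CohGrowthMultiHH
open Groth.Agent.Lib.CohGrowthMulti Groth.Agent.Lib.SubCls Groth.Agent.Lib.CohGrowth
open scoped ENNReal

namespace Groth.Agent.Lib.BigVol

section Arith

theorem g_mul_le (d m : ℕ) (hm : 1 ≤ m) : g d m * m ≤ 2 ^ d * m ^ d := by
  cases d with
  | zero => simp [g]
  | succ r =>
    simp only [g]
    have h1 : (m + 1) ^ r ≤ (2 * m) ^ r := Nat.pow_le_pow_left (by omega) r
    calc (m + 1) ^ r * m ≤ (2 * m) ^ r * m := Nat.mul_le_mul_right m h1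
      _ = 2 ^ r * m ^ (r + 1) := by rw [mul_pow, pow_succ]; ring
      _ ≤ 2 ^ (r + 1) * m ^ (r + 1) :=
        Nat.mul_le_mul_right _ (Nat.pow_le_pow_right (by norm_num) (Nat.le_succ r))

/-- a function bounded by `C * g d m` has `limsup h m / m ^ d = 0` -/
theorem limsup_eq_zero_of_bound (d : ℕ) (h : ℕ → ℕ) (C : ℕ)
    (hC : ∀ m, 1 ≤ m → h m ≤ C * g d m) :
    Filter.limsup (fun m : ℕ => (h m : ℝ≥0∞) / (m : ℝ≥0∞) ^ d) Filter.atTop = 0 := by
  refine le_antisymm ?_ bot_le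
  have hev : ∀ᶠ m : ℕ in Filter.atTop, (h m : ℝ≥0∞) / (m : ℝ≥0∞) ^ d ≤
      ((C * 2 ^ d : ℕ) : ℝ≥0∞) * (m : ℝ≥0∞)⁻¹ := by
    filter_upwards [Filter.eventually_ge_atTop 1] with m hm
    have hm0 : (m : ℝ≥0∞) ≠ 0 := by
      have : m ≠ 0 := by omega
      exact_mod_cast this
    have hmt : (m : ℝ≥0∞) ≠ ⊤ := ENNReal.natCast_ne_top m
    have hnat : h m * m ≤ C * 2 ^ d * m ^ d := by
      calc h m * m ≤ C * g d m * m := Nat.mul_le_mul_right m (hC m hm)
        _ = C * (g d m * m) := by ring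
        _ ≤ C * (2 ^ d * m ^ d) := Nat.mul_le_mul_left C (g_mul_le d m hm)
        _ = C * 2 ^ d * m ^ d := by ring
    have hcast : (h m : ℝ≥0∞) * (m : ℝ≥0∞) ≤ ((C * 2 ^ d : ℕ) : ℝ≥0∞) * (m : ℝ≥0∞) ^ d := by
      exact_mod_cast hnat
    refine ENNReal.div_le_of_le_mul ?_
    calc (h m : ℝ≥0∞) = (h m : ℝ≥0∞) * (m : ℝ≥0∞) * (m : ℝ≥0∞)⁻¹ := by
          rw [mul_assoc, ENNReal.mul_inv_cancel hm0 hmt, mul_one]
      _ ≤ ((C * 2 ^ d : ℕ) : ℝ≥0∞) * (m : ℝ≥0∞) ^ d * (m : ℝ≥0∞)⁻¹ := by gcongr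
      _ = ((C * 2 ^ d : ℕ) : ℝ≥0∞) * (m : ℝ≥0∞)⁻¹ * (m : ℝ≥0∞) ^ d := by ring
  have hlim : Filter.Tendsto (fun m : ℕ => ((C * 2 ^ d : ℕ) : ℝ≥0∞) * (m : ℝ≥0∞)⁻¹) Filter.atTop
      (nhds 0) := by
    have := ENNReal.Tendsto.const_mul (a := ((C * 2 ^ d : ℕ) : ℝ≥0∞))
      ENNReal.tendsto_inv_nat_nhds_zero (Or.inr (ENNReal.natCast_ne_top _))
    simpa using this
  calc Filter.limsup (fun m : ℕ => (h m : ℝ≥0∞) / (m : ℝ≥0∞) ^ d) Filter.atTop
      ≤ Filter.limsup (fun m : ℕ => ((C * 2 ^ d : ℕ) : ℝ≥0∞) * (m : ℝ≥0∞)⁻¹) Filter.atTop :=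
        Filter.limsup_le_limsup hev
    _ = 0 := hlim.limsup_eq

/-- a lower bound `a * m ^ d ≤ b * h m` for `m ≫ 0` makes `liminf h m / m ^ d` positive -/
theorem liminf_pos_of_lower (d : ℕ) (h : ℕ → ℕ) (a b M : ℕ) (ha : 0 < a) (hb : 0 < b)
    (hl : ∀ m, M ≤ m → a * m ^ d ≤ b * h m) :
    0 < Filter.liminf (fun m : ℕ => (h m : ℝ≥0∞) / (m : ℝ≥0∞) ^ d) Filter.atTop := by
  have hb0 : (b : ℝ≥0∞) ≠ 0 := by
    have : b ≠ 0 := by omega
    exact_mod_cast this
  have hbt : (b : ℝ≥0∞) ≠ ⊤ := ENNReal.natCast_ne_top b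
  have ha0 : (a : ℝ≥0∞) ≠ 0 := by
    have : a ≠ 0 := by omega
    exact_mod_cast this
  have hpos : (0 : ℝ≥0∞) < (a : ℝ≥0∞) / (b : ℝ≥0∞) := ENNReal.div_pos ha0 hbt
  refine lt_of_lt_of_le hpos (Filter.le_liminf_of_le (by isBoundedDefault) ?_)
  filter_upwards [Filter.eventually_ge_atTop (M + 1)] with m hm
  have hm0 : ((m : ℝ≥0∞) ^ d) ≠ 0 := by
    have : m ≠ 0 := by omega
    exact pow_ne_zero d (by exact_mod_cast this)
  have hmt : ((m : ℝ≥0∞) ^ d) ≠ ⊤ := ENNReal.pow_ne_top (ENNReal.natCast_ne_top m)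
  rw [ENNReal.le_div_iff_mul_le (Or.inl hm0) (Or.inl hmt)]
  have hcast : (a : ℝ≥0∞) * (m : ℝ≥0∞) ^ d ≤ (b : ℝ≥0∞) * (h m : ℝ≥0∞) := by
    exact_mod_cast hl m (by omega)
  rw [ENNReal.div_eq_inv_mul, mul_assoc]
  calc (b : ℝ≥0∞)⁻¹ * ((a : ℝ≥0∞) * (m : ℝ≥0∞) ^ d) ≤ (b : ℝ≥0∞)⁻¹ * ((b : ℝ≥0∞) * (h m : ℝ≥0∞)) := by
        gcongr
    _ = (h m : ℝ≥0∞) := by rw [← mul_assoc, ENNReal.inv_mul_cancel hb0 hbt, one_mul]

open Polynomial in
/-- a polynomial of degree `≤ d` with positive `d`-th coefficient `c` is `≥ c/2 * q^d` for `q ≫ 0` -/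
theorem exists_poly_lower (p : ℚ[X]) (d : ℕ) (hp : p.natDegree ≤ d) (hpos : 0 < p.coeff d) :
    ∃ N : ℕ, ∀ q : ℕ, N ≤ q → p.coeff d / 2 * (q : ℚ) ^ d ≤ p.eval (q : ℚ) := by
  set c := p.coeff d with hc
  set S := ∑ j ∈ Finset.range d, |p.coeff j| with hS
  have hS0 : 0 ≤ S := Finset.sum_nonneg fun _ _ => abs_nonneg _
  obtain ⟨N, hN⟩ := exists_nat_ge (S * 2 ^ d / c)
  refine ⟨max 1 N, fun q hq => ?_⟩
  have hq1 : 1 ≤ q := le_of_max_le_left hq
  have hqN : N ≤ q := le_of_max_le_right hq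
  have hq1' : (1 : ℚ) ≤ q := by exact_mod_cast hq1
  have hqN' : (N : ℚ) ≤ q := by exact_mod_cast hqN
  have habs := Groth.Agent.Lib.AmpleVol13.abs_eval_sub_le p d hp q
  have hlow : c * (q : ℚ) ^ d - S * ((q : ℚ) + 1) ^ (d - 1) ≤ p.eval (q : ℚ) := by
    have := (abs_le.1 habs).1
    linarith
  have hcq : S * 2 ^ d ≤ c * q := by
    have h1 : S * 2 ^ d / c ≤ q := hN.trans hqN'
    rwa [div_le_iff₀ hpos, mul_comm (q : ℚ) c] at h1
  have hkey : S * ((q : ℚ) + 1) ^ (d - 1) ≤ c / 2 * (q : ℚ) ^ d := by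
    cases d with
    | zero =>
      have : S = 0 := by rw [hS]; simp
      rw [this]
      simp only [zero_mul, pow_zero, mul_one]
      linarith
    | succ r =>
      simp only [Nat.add_sub_cancel]
      have h2 : ((q : ℚ) + 1) ^ r ≤ (2 * (q : ℚ)) ^ r :=
        pow_le_pow_left₀ (by linarith) (by linarith) r
      have hqr : (0 : ℚ) ≤ (q : ℚ) ^ r := pow_nonneg (by linarith) r
      calc S * ((q : ℚ) + 1) ^ r ≤ S * (2 * (q : ℚ)) ^ r := mul_le_mul_of_nonneg_left h2 hS0
        _ = (S * 2 ^ r) * (q : ℚ) ^ r := by rw [mul_pow]; ring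
        _ ≤ (c / 2 * q) * (q : ℚ) ^ r := by
          refine mul_le_mul_of_nonneg_right ?_ hqr
          rw [pow_succ] at hcq
          linarith
        _ = c / 2 * (q : ℚ) ^ (r + 1) := by rw [pow_succ]; ring
  linarith

end Arith

section Geometry

variable {X : Scheme.{u}}

theorem len_pow (L : X.Modules) (m : ℕ) : Len (fun _ : Unit => L) m (cls L ^ m) := by
  have h1 : Len (fun _ : Unit => L) 1 (1 * cls L) := Len.mul () Len.one
  have := h1.pow m
  simpa using this

/-- an invertible module with a nonzero section, on an integral scheme, contains `O_X` -/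
theorem subC_one_of_section [IsIntegral X] {P : X.Modules} (hP : PicF.IsInvertible P)
    (s : Coh.structureModule X ⟶ P) (hs : s ≠ 0) : SubC 1 (cls P) := by
  haveI := Groth.Agent.Lib.H90InvMono.mono_of_ne_zero
    (Groth.Agent.Lib.H90Invertible.isInvertible_structureModule X) hP s hs
  have := subC_of_mono s
  rwa [cls_one] at this

/-- an invertible module with nontrivial `H^0`, on an integral scheme, contains `O_X` -/
theorem subC_one_of_nontrivial [IsIntegral X] {P : X.Modules} (hP : PicF.IsInvertible P)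
    (hnt : Nontrivial (Coh.HH X P 0)) : SubC 1 (cls P) := by
  obtain ⟨s, hs⟩ := Groth.Agent.Lib.SurfSec13.exists_section_ne_zero P hnt
  exact subC_one_of_section hP s hs

/-- an invertible globally generated module on an integral scheme contains `O_X` -/
theorem subC_one_of_gg [IsIntegral X] {P : X.Modules} (hP : PicF.IsInvertible P)
    (hg : Curv2.IsGloballyGenerated P) : SubC 1 (cls P) :=
  subC_one_of_nontrivial hP
    (Groth.Agent.Lib.HilbPoly48.nontrivial_H0_of_isGloballyGenerated hg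
      (Groth.Agent.Lib.CurveVB54.not_isZero_of_isInvertible hP))

variable (k : Type u) [Field k]
  [X.Over (Spec (CommRingCat.of k))] [IsProper (X ↘ Spec (CommRingCat.of k))]

/-- **Kodaira's lemma**, contrapositive form. -/
theorem exists_bound_of_not_subC [IsIntegral X] (d : ℕ) (hd : topologicalKrullDim X = d)
    {A L : X.Modules} (hA : PicF.IsInvertible A) (hL : PicF.IsInvertible L)
    (s : Coh.structureModule X ⟶ A) (hs : s ≠ 0)
    (hno : ∀ m : ℕ, 1 ≤ m → ¬ SubC (cls A) (cls L ^ m)) :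
    ∃ C : ℕ, ∀ m : ℕ, 1 ≤ m → hc k (Coh.structureModule X) 0 (cls L ^ m) ≤ C * g d m := by
  have hLN := Groth.Agent.Lib.EulerLE48.isLocallyNoetherian k X
  have hO := Groth.Agent.Lib.H90Invertible.isInvertible_structureModule X
  obtain ⟨A', hA', ⟨e⟩⟩ := Groth.Agent.Lib.H78Dual.exists_tensor_inverse hA
  haveI := Groth.Agent.Lib.H90InvMono.mono_of_ne_zero hO hA s hs
  haveI := mono_tensorLeft hA' s
  let t : A' ⟶ Coh.structureModule X := (rightUnitor A').inv ≫ tensorModMap (𝟙 A') s ≫ e.hom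
  haveI hmt : Mono t := by
    have : Mono (tensorModMap (𝟙 A') s ≫ e.hom) := mono_comp _ _
    exact mono_comp _ _
  have ht : t ≠ 0 := fun h0 =>
    Groth.Agent.Lib.CurveVB54.not_isZero_of_isInvertible hA' (IsZero.of_mono_eq_zero t h0)
  have hdim := Groth.Agent.Lib.SurfSec13.dim_support_cokernel_add_one_le hA' hO t ht
  rw [hd] at hdim
  have hcohA' := Groth.Agent.Lib.H90Invertible.isCoh_of_isInvertible hA'
  have hcohO := Groth.Agent.Lib.H90Invertible.isCoh_of_isInvertible hO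
  haveI : A'.IsQuasicoherent := hcohA'.1
  have hcohQ : Coh.IsCoh (cokernel t) := Groth.Agent.Lib.H90OXModExact.isCoh_cokernel t hcohO
  obtain ⟨C, hC⟩ := exists_bound_hc_lt k (N := fun _ : Unit => L) (fun _ => hL) (cokernel t) hcohQ d
    hdim
  refine ⟨C, fun m hm => ?_⟩
  have hlen := len_pow L m
  have hinv : PicF.IsInvertible (rep (cls L ^ m)) := isInvertible_rep_of_len (fun _ => hL) hlen
  have hmid := hc_mid_le k hinv (S := ShortComplex.mk t (cokernel.π t) (cokernel.condition t))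
    (Groth.Agent.Lib.H90DevTwo.shortExact_cokernel t) hcohA' hcohO hcohQ 0
  have hzero : hc k A' 0 (cls L ^ m) = 0 := by
    by_contra hne
    have hpos : 0 < Module.finrank k (Coh.HH X (tensorMod A' (rep (cls L ^ m))) 0) :=
      Nat.pos_of_ne_zero hne
    have hnt : Nontrivial (Coh.HH X (tensorMod A' (rep (cls L ^ m))) 0) :=
      Module.nontrivial_of_finrank_pos hpos
    have h1 := subC_one_of_nontrivial
      (Groth.Agent.Lib.OXModRestrict.isInvertible_tensorMod hA' hinv) hnt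
    rw [cls_tensorMod, cls_rep] at h1
    have h2 := (SubC.refl (cls A)).mul h1 invC_one (invC_cls hA)
    have hAA' : cls A * cls A' = 1 := by
      rw [mul_comm, ← cls_tensorMod, cls_eq_of_iso e, cls_one]
    rw [mul_one, ← mul_assoc, hAA', one_mul] at h2
    exact hno m hm h2
  have := hC 0 m _ hlen
  change hc k (Coh.structureModule X) 0 (cls L ^ m) ≤ hc k A' 0 (cls L ^ m) +
    hc k (cokernel t) 0 (cls L ^ m) at hmid
  omega

/-- the number of sections of powers of an ample module grows like `q ^ d` -/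
theorem exists_ample_lower (d : ℕ) (hd : topologicalKrullDim X = d) {A : X.Modules}
    (hA : CohB1.IsAmple A) :
    ∃ a b N : ℕ, 0 < a ∧ 0 < b ∧
      ∀ q, N ≤ q → a * q ^ d ≤ b * hc k (Coh.structureModule X) 0 (cls A ^ q) := by
  have := Groth.Agent.Lib.EulerLE48.isLocallyNoetherian k X
  have H : ProperFinHyp.Hyp.{u} := Groth.Agent.Lib.SnapCoeff13.properFinHyp
  have hOcoh : Coh.IsCoh (Coh.structureModule X) :=
    Groth.Agent.Lib.CohFinAmple.isCoh_structureModule X
  have hsupp : topologicalKrullDim (CohB1.support (Coh.structureModule X)) = d := by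
    rw [Groth.Agent.Lib.AmpleVol13.dim_support_structureModule]; exact hd
  obtain ⟨p, hpd, hp⟩ := Groth.Agent.Lib.HilbPoly48.exists_isHilbPoly k X H hA.1 hOcoh d hsupp.le
  have hpos : 0 < p.coeff d := Groth.Agent.Lib.HilbPoly48.coeff_pos H k X hA hOcoh d hsupp hp
  obtain ⟨N0, hN0⟩ := Groth.Agent.Lib.HilbPoly48.exists_eval_eq_finrank k X hA hOcoh hp
  have hfin : ∀ m : ℕ,
      Module.finrank k (Coh.HH X (ShStab.twist X A (Coh.structureModule X) m) 0) =
        hc k (Coh.structureModule X) 0 (cls A ^ m) := by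
    intro m
    have h : cls (ShStab.twist X A (Coh.structureModule X) m) = cls A ^ m := by
      unfold ShStab.twist
      rw [cls_tensorMod, cls_one, one_mul, cls_tensorPow]
    rw [← h, hc_structure_cls]
  obtain ⟨N1, hN1⟩ := exists_poly_lower p d hpd hpos
  set ε : ℚ := p.coeff d / 2 with hε
  have hεpos : 0 < ε := by rw [hε]; linarith
  have hnum : 0 < ε.num := Rat.num_pos.2 hεpos
  refine ⟨ε.num.toNat, ε.den, max N0 N1, by omega, ε.den_pos, fun q hq => ?_⟩
  have h1 : ε * (q : ℚ) ^ d ≤ (hc k (Coh.structureModule X) 0 (cls A ^ q) : ℚ) := by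
    rw [← hfin, ← hN0 q (le_of_max_le_left hq)]
    exact hN1 q (le_of_max_le_right hq)
  have h2 : (ε.num.toNat : ℚ) = ε * ε.den := by
    have h3 : ((ε.num.toNat : ℤ) : ℚ) = (ε.num : ℚ) := by rw [Int.toNat_of_nonneg hnum.le]
    rw [Rat.mul_den_eq_num, ← h3]
    norm_cast
  have hden : (0 : ℚ) ≤ ε.den := Nat.cast_nonneg _
  have h4 : (ε.num.toNat : ℚ) * (q : ℚ) ^ d ≤
      (ε.den : ℚ) * (hc k (Coh.structureModule X) 0 (cls A ^ q) : ℚ) := by
    rw [h2]
    calc ε * ε.den * (q : ℚ) ^ d = ε.den * (ε * (q : ℚ) ^ d) := by ring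
      _ ≤ _ := mul_le_mul_of_nonneg_left h1 hden
  exact_mod_cast h4

/-- if a positive power of `L` contains an ample module, `h^0(L^m)` grows like `m ^ d` -/
theorem exists_lower [IsIntegral X] (d : ℕ) (hd : topologicalKrullDim X = d) {A L : X.Modules}
    (hA : CohB1.IsAmple A) (hL : PicF.IsInvertible L) (m0 : ℕ) (hm0 : 1 ≤ m0)
    (hsub : SubC (cls A) (cls L ^ m0)) :
    ∃ a b M : ℕ, 0 < a ∧ 0 < b ∧
      ∀ m, M ≤ m → a * m ^ d ≤ b * hc k (Coh.structureModule X) 0 (cls L ^ m) := by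
  haveI : CompactSpace X := hA.2.1
  have hInvA := invC_cls hA.1
  have hInvL := invC_cls hL
  have hB : ∀ n : ℕ, ∃ q0, ∀ s < n, ∀ q, q0 ≤ q → SubC 1 (cls L ^ s * cls A ^ q) := by
    intro n
    induction n with
    | zero => exact ⟨0, fun s hs => absurd hs (Nat.not_lt_zero s)⟩
    | succ n ih =>
      obtain ⟨q1, h1⟩ := ih
      obtain ⟨n0, hn0⟩ := Groth.Agent.Lib.H78GlobGen2.isGloballyGenerated_twist hA (tensorPow L n)
        (Groth.Agent.Lib.H90Invertible.isCoh_of_isInvertible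
          (Groth.Agent.Lib.OXModRestrict.isInvertible_tensorPow hL n))
      refine ⟨max q1 n0, fun s hs q hq => ?_⟩
      rcases Nat.lt_succ_iff_lt_or_eq.1 hs with h | rfl
      · exact h1 s h q (le_of_max_le_left hq)
      · have := subC_one_of_gg (Groth.Agent.Lib.OXModRestrict.isInvertible_tensorMod
          (Groth.Agent.Lib.OXModRestrict.isInvertible_tensorPow hL s)
          (Groth.Agent.Lib.OXModRestrict.isInvertible_tensorPow hA.1 q))
          (hn0 q (le_of_max_le_right hq))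
        rwa [cls_tensorMod, cls_tensorPow, cls_tensorPow] at this
  obtain ⟨q0, hq0⟩ := hB m0
  have hpow : ∀ q, SubC (cls A ^ q) (cls L ^ (m0 * q)) := fun q => by
    rw [pow_mul]
    exact hsub.pow hInvA (hInvL.pow m0) q
  have hr : ∀ s < m0, SubC 1 (cls L ^ (s + m0 * q0)) := fun s hs => by
    have h1 := hq0 s hs q0 le_rfl
    have h2 := (SubC.refl (cls L ^ s)).mul (hpow q0) (hInvA.pow q0) (hInvL.pow s)
    rw [← pow_add] at h2
    exact h1.trans h2
  obtain ⟨a, b, N1, ha, hb, hN1⟩ := exists_ample_lower k d hd hA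
  have hm0' : 0 < m0 := hm0
  refine ⟨a, (2 * m0) ^ d * b, m0 * (2 * q0 + 1 + N1), ha,
    Nat.mul_pos (Nat.pow_pos (by omega)) hb, fun m hm => ?_⟩
  have hQ : 2 * q0 + 1 + N1 ≤ m / m0 :=
    (Nat.le_div_iff_mul_le hm0').2 (by rw [mul_comm]; exact hm)
  have hs : m % m0 < m0 := Nat.mod_lt _ hm0'
  have hmeq : m = m0 * (m / m0) + m % m0 := (Nat.div_add_mod m m0).symm
  obtain ⟨q', hq'⟩ : ∃ q', m / m0 = q' + q0 := ⟨m / m0 - q0, by omega⟩
  have hm' : m = m0 * q' + (m % m0 + m0 * q0) := by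
    conv_lhs => rw [hmeq, hq']
    ring
  have hsub' : SubC (cls A ^ q') (cls L ^ m) := by
    have := (hpow q').mul (hr _ hs) invC_one (hInvL.pow _)
    rw [mul_one, ← pow_add, ← hm'] at this
    exact this
  have hle := hsub'.h0_le k (hInvA.pow q') (hInvL.pow m)
  have hA' := hN1 q' (by omega)
  have h2 : m ≤ 2 * m0 * q' := by
    have h3 : m0 * (q' + q0 + 1) ≤ m0 * (2 * q') := Nat.mul_le_mul_left _ (by omega)
    have h4 : m < m0 * (q' + q0 + 1) := by
      rw [hmeq, hq']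
      have : m0 * (q' + q0 + 1) = m0 * (q' + q0) + m0 := by ring
      omega
    calc m ≤ m0 * (2 * q') := by omega
      _ = 2 * m0 * q' := by ring
  calc a * m ^ d ≤ a * (2 * m0 * q') ^ d := Nat.mul_le_mul_left a (Nat.pow_le_pow_left h2 d)
    _ = (2 * m0) ^ d * (a * q' ^ d) := by rw [mul_pow]; ring
    _ ≤ (2 * m0) ^ d * (b * hc k (Coh.structureModule X) 0 (cls A ^ q')) :=
      Nat.mul_le_mul_left _ hA'
    _ ≤ (2 * m0) ^ d * (b * hc k (Coh.structureModule X) 0 (cls L ^ m)) :=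
      Nat.mul_le_mul_left _ (Nat.mul_le_mul_left _ hle)
    _ = (2 * m0) ^ d * b * hc k (Coh.structureModule X) 0 (cls L ^ m) := by ring

/-- **Positive volume implies big.** -/
theorem liminf_pos_of_limsup_pos [IsIntegral X] (hproj : ∃ A : X.Modules, CohB1.IsAmple A) (d : ℕ)
    (hd : topologicalKrullDim X = d) (L : X.Modules) (hL : PicF.IsInvertible L)
    (hpos : 0 < Filter.limsup (fun m : ℕ =>
      (Module.finrank k (Coh.HH X (CohB1.tensorPow L m) 0) : ℝ≥0∞) / (m : ℝ≥0∞) ^ d) Filter.atTop) :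
    0 < Filter.liminf (fun m : ℕ =>
      (Module.finrank k (Coh.HH X (CohB1.tensorPow L m) 0) : ℝ≥0∞) / (m : ℝ≥0∞) ^ d) Filter.atTop := by
  have hfun : (fun m : ℕ => (Module.finrank k (Coh.HH X (CohB1.tensorPow L m) 0) : ℝ≥0∞) /
      (m : ℝ≥0∞) ^ d) = fun m : ℕ =>
        ((hc k (Coh.structureModule X) 0 (cls L ^ m) : ℕ) : ℝ≥0∞) / (m : ℝ≥0∞) ^ d := by
    funext m
    rw [← cls_tensorPow, hc_structure_cls]
  rw [hfun] at hpos ⊢
  obtain ⟨A0, hA0⟩ := hproj
  haveI : CompactSpace X := hA0.2.1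
  obtain ⟨n0, hn0⟩ := Groth.Agent.Lib.H78GlobGen2.isGloballyGenerated_twist hA0
    (Coh.structureModule X) (Groth.Agent.Lib.CohFinAmple.isCoh_structureModule X)
  have hA : CohB1.IsAmple (tensorPow A0 (n0 + 1)) :=
    (Groth.Agent.Lib.H78AmpleOps.isAmple_tensorPow_iff hA0.1 (Nat.succ_pos n0)).1 hA0
  have hgg : Curv2.IsGloballyGenerated (tensorPow A0 (n0 + 1)) := by
    have h1 := hn0 (n0 + 1) (Nat.le_succ n0)
    obtain ⟨K, q, hq⟩ := h1
    exact ⟨K, q ≫ (leftUnitor _).hom, epi_comp' hq (IsIso.epi_of_iso _)⟩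
  obtain ⟨s, hs⟩ := Groth.Agent.Lib.SurfSec13.exists_section_ne_zero _
    (Groth.Agent.Lib.HilbPoly48.nontrivial_H0_of_isGloballyGenerated hgg
      (Groth.Agent.Lib.CurveVB54.not_isZero_of_isInvertible hA.1))
  by_cases hex : ∃ m0 : ℕ, 1 ≤ m0 ∧ SubC (cls (tensorPow A0 (n0 + 1))) (cls L ^ m0)
  · obtain ⟨m0, hm0, hsub⟩ := hex
    obtain ⟨a, b, M, ha, hb, hl⟩ := exists_lower k d hd hA hL m0 hm0 hsub
    exact liminf_pos_of_lower d _ a b M ha hb hl
  · exfalso
    have hno : ∀ m : ℕ, 1 ≤ m → ¬ SubC (cls (tensorPow A0 (n0 + 1))) (cls L ^ m) :=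
      fun m hm h => hex ⟨m, hm, h⟩
    obtain ⟨C, hC⟩ := exists_bound_of_not_subC k d hd hA.1 hL s hs hno
    rw [limsup_eq_zero_of_bound d _ C hC] at hpos
    exact lt_irrefl _ hpos

end Geometry

section Top

variable {X : Scheme.{u}} (k : Type u) [Field k]
  [X.Over (Spec (CommRingCat.of k))] [IsProper (X ↘ Spec (CommRingCat.of k))]

/-- the top cohomology decreases along inclusions of invertible modules -/
theorem SubC.hn_le [IsIntegral X] (n : ℕ) (hn : topologicalKrullDim X = n) {c c' : Cls X}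
    (h : SubC c c') (hi : InvC c) (hi' : InvC c') :
    hc k (Coh.structureModule X) n c' ≤ hc k (Coh.structureModule X) n c := by
  have hLN := Groth.Agent.Lib.EulerLE48.isLocallyNoetherian k X
  haveI : CompactSpace X := Groth.Agent.Lib.EulerChar54.compactSpace_of_isProper k X
  haveI : AlgebraicGeometry.IsNoetherian X := { }
  obtain ⟨j, hj⟩ := h
  have hj0 : j ≠ 0 := fun h0 =>
    Groth.Agent.Lib.CurveVB54.not_isZero_of_isInvertible hi (IsZero.of_mono_eq_zero j h0)
  have hdim := Groth.Agent.Lib.SurfSec13.dim_support_cokernel_add_one_le hi hi' j hj0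
  rw [hn] at hdim
  have hc1 := Groth.Agent.Lib.H90Invertible.isCoh_of_isInvertible hi
  have hc2 := Groth.Agent.Lib.H90Invertible.isCoh_of_isInvertible hi'
  haveI : (rep c).IsQuasicoherent := hc1.1
  have hcQ : Coh.IsCoh (cokernel j) := Groth.Agent.Lib.H90OXModExact.isCoh_cokernel j hc2
  rw [hc_structure, hc_structure]
  have hmid := hh_mid_le k (S := ShortComplex.mk j (cokernel.π j) (cokernel.condition j))
    (Groth.Agent.Lib.H90DevTwo.shortExact_cokernel j) hc1 hc2 hcQ n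
  have hzero : hh k X (cokernel j) n = 0 := by
    cases n with
    | zero =>
      have h1 := Groth.Agent.Lib.CohGrowth.eq_empty_of_topologicalKrullDim_eq_bot _
        (Groth.Agent.Lib.CohGrowth.eq_bot_of_add_one_le_zero hdim)
      have hz : IsZero (cokernel j) := by
        apply Groth.Agent.Lib.ModPullback.isZero_of_forall_subsingleton_stalk
        intro y
        by_contra hy
        have : y ∈ CohB1.support (cokernel j) := hy
        rw [h1] at this
        exact this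
      exact hh_of_isZero k hz 0
    | succ n =>
      have := Groth.Agent.Lib.SuppVanish49.subsingleton_HH_of_support_dim_le (cokernel j)
        (CohB1.support (cokernel j))
        (Groth.Agent.Lib.ModStalk.isClosed_support_of_isFT _ hcQ.2) (le_refl _) n
        (Groth.Agent.Lib.CohGrowth.le_of_add_one_le_succ hdim) (n + 1) (Nat.lt_succ_self n)
      exact Module.finrank_zero_of_subsingleton
  change hh k X (rep c') n ≤ hh k X (rep c) n + hh k X (cokernel j) n at hmid
  omega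

/-- if a positive power of `L` contains an ample module and `dim X ≥ 1`, the top cohomology of the
powers of `L` eventually vanishes -/
theorem exists_top_vanishing [IsIntegral X] (n : ℕ) (hn : topologicalKrullDim X = n) (hn1 : 1 ≤ n)
    {A L : X.Modules} (hA : CohB1.IsAmple A) (hL : PicF.IsInvertible L) (m0 : ℕ) (hm0 : 1 ≤ m0)
    (hsub : SubC (cls A) (cls L ^ m0)) :
    ∃ M : ℕ, ∀ m, M ≤ m → hc k (Coh.structureModule X) n (cls L ^ m) = 0 := by
  have hLN := Groth.Agent.Lib.EulerLE48.isLocallyNoetherian k X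
  have hInvA := invC_cls hA.1
  have hInvL := invC_cls hL
  have hpow : ∀ q, SubC (cls A ^ q) (cls L ^ (m0 * q)) := fun q => by
    rw [pow_mul]
    exact hsub.pow hInvA (hInvL.pow m0) q
  have hB : ∀ t : ℕ, ∃ q0, ∀ s < t, ∀ q, q0 ≤ q →
      hc k (Coh.structureModule X) n (cls A ^ q * cls L ^ s) = 0 := by
    intro t
    induction t with
    | zero => exact ⟨0, fun s hs => absurd hs (Nat.not_lt_zero s)⟩
    | succ t ih =>
      obtain ⟨q1, h1⟩ := ih
      haveI : IsNoetherianRing k := inferInstance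
      obtain ⟨q2, h2⟩ := Groth.Agent.Lib.H78SerreVan.serre_vanishing_of_isAmple
        (X ↘ Spec (CommRingCat.of k)) hA (tensorPow L t)
        (Groth.Agent.Lib.H90Invertible.isCoh_of_isInvertible
          (Groth.Agent.Lib.OXModRestrict.isInvertible_tensorPow hL t))
      refine ⟨max q1 q2, fun s hs q hq => ?_⟩
      rcases Nat.lt_succ_iff_lt_or_eq.1 hs with h | rfl
      · exact h1 s h q (le_of_max_le_left hq)
      · have := h2 q (le_of_max_le_right hq) n hn1
        have e : hc k (Coh.structureModule X) n (cls A ^ q * cls L ^ s) =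
            hh k X (tensorMod (tensorPow L s) (tensorPow A q)) n := by
          rw [← hc_structure_cls, cls_tensorMod, cls_tensorPow, cls_tensorPow, mul_comm]
        rw [e]
        exact Module.finrank_zero_of_subsingleton
  obtain ⟨q0, hq0⟩ := hB m0
  have hm0' : 0 < m0 := hm0
  refine ⟨m0 * q0, fun m hm => ?_⟩
  have hQ : q0 ≤ m / m0 := (Nat.le_div_iff_mul_le hm0').2 (by rw [mul_comm]; exact hm)
  have hs : m % m0 < m0 := Nat.mod_lt _ hm0'
  have hmeq : m0 * (m / m0) + m % m0 = m := Nat.div_add_mod m m0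
  have hsub' : SubC (cls A ^ (m / m0) * cls L ^ (m % m0)) (cls L ^ m) := by
    have := (hpow (m / m0)).mul (SubC.refl (cls L ^ (m % m0))) (hInvL.pow _) (hInvL.pow _)
    rwa [← pow_add, hmeq] at this
  have hle := SubC.hn_le k n hn hsub' ((hInvA.pow _).mul (hInvL.pow _)) (hInvL.pow m)
  rw [hq0 _ hs _ hQ] at hle
  exact Nat.le_zero.1 hle

end Top

section Real

/-- a sequence with `a m ≤ C * g n m` for `m ≥ 1` (`n ≥ 1`) has normalised upper limit `0` -/
theorem limsup_real_eq_zero_of_bound (n : ℕ) (hn1 : 1 ≤ n) (a : ℕ → ℕ) (C : ℕ)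
    (h : ∀ m, 1 ≤ m → a m ≤ C * g n m) :
    Filter.limsup (fun m : ℕ => (a m : ℝ) * (n.factorial : ℝ) / (m : ℝ) ^ n) Filter.atTop = 0 := by
  have hg0 : g n 0 = 1 := by
    obtain ⟨n', rfl⟩ : ∃ n', n = n' + 1 := ⟨n - 1, by omega⟩
    simp [g]
  have hall : ∀ m, a m ≤ (C + a 0) * g n m := by
    intro m
    rcases Nat.eq_zero_or_pos m with rfl | hm
    · rw [hg0, mul_one]; exact Nat.le_add_left _ _
    · exact (h m hm).trans (Nat.mul_le_mul_right _ (Nat.le_add_right C (a 0)))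
  have key := Groth.Agent.Lib.AsympCohBasic.limsup_eq_of_bounds n (C + a 0) (C + a 0) a (fun _ => 0)
    (fun m => (hall m).trans (Nat.mul_le_mul_left _ (g_le n m))) (fun m => Nat.zero_le _)
    (fun m => by simpa using hall m) (fun m => Nat.zero_le _)
  rw [key]
  simp

end Real

section Real2

/-- a sequence bounded by `C * g d m` cannot eventually exceed `c * m ^ d`, `c > 0` -/
theorem not_eventually_lt_of_bound (d : ℕ) (h : ℕ → ℕ) (C : ℕ)
    (hC : ∀ m, 1 ≤ m → h m ≤ C * g d m) (c : ℝ) (hc : 0 < c) :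
    ¬ ∀ᶠ n : ℕ in Filter.atTop, c * (n : ℝ) ^ d < (h n : ℝ) := by
  intro hev
  obtain ⟨N, hN⟩ := Filter.eventually_atTop.1 hev
  obtain ⟨K, hK⟩ := exists_nat_ge ((C : ℝ) * 2 ^ d / c)
  set m := max N (max 1 K) with hm
  have hm1 : 1 ≤ m := le_trans (le_max_left 1 K) (le_max_right N _)
  have hmK : K ≤ m := le_trans (le_max_right 1 K) (le_max_right N _)
  have h1 := hN m (le_max_left _ _)
  have h2 : (h m : ℝ) ≤ (C : ℝ) * (g d m : ℝ) := by exact_mod_cast hC m hm1
  have h3 : ((g d m : ℕ) : ℝ) * (m : ℝ) ≤ 2 ^ d * (m : ℝ) ^ d := by exact_mod_cast g_mul_le d m hm1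
  have hm0 : (0 : ℝ) < (m : ℝ) := by exact_mod_cast hm1
  have hmd : (0 : ℝ) < (m : ℝ) ^ d := pow_pos hm0 d
  have h4 : (C : ℝ) * 2 ^ d ≤ c * (m : ℝ) := by
    have : (C : ℝ) * 2 ^ d / c ≤ (m : ℝ) := hK.trans (by exact_mod_cast hmK)
    rwa [div_le_iff₀ hc, mul_comm (m : ℝ) c] at this
  have h5 : c * (m : ℝ) ^ d * (m : ℝ) < (C : ℝ) * 2 ^ d * (m : ℝ) ^ d := by
    calc c * (m : ℝ) ^ d * (m : ℝ) < (h m : ℝ) * (m : ℝ) := mul_lt_mul_of_pos_right h1 hm0
      _ ≤ (C : ℝ) * (g d m : ℝ) * (m : ℝ) := mul_le_mul_of_nonneg_right h2 hm0.le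
      _ = (C : ℝ) * ((g d m : ℝ) * (m : ℝ)) := by ring
      _ ≤ (C : ℝ) * (2 ^ d * (m : ℝ) ^ d) := mul_le_mul_of_nonneg_left h3 (Nat.cast_nonneg C)
      _ = (C : ℝ) * 2 ^ d * (m : ℝ) ^ d := by ring
  have h6 : c * (m : ℝ) < (C : ℝ) * 2 ^ d := by
    have : c * (m : ℝ) * (m : ℝ) ^ d < (C : ℝ) * 2 ^ d * (m : ℝ) ^ d := by
      calc c * (m : ℝ) * (m : ℝ) ^ d = c * (m : ℝ) ^ d * (m : ℝ) := by ring
        _ < _ := h5
    exact lt_of_mul_lt_mul_right this hmd.le
  linarith

/-- a lower bound `a * m ^ d ≤ b * h m` gives `c * m ^ d < h m` eventually, for some `c > 0` -/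
theorem eventually_lt_of_lower (d : ℕ) (h : ℕ → ℕ) (a b M : ℕ) (ha : 0 < a) (hb : 0 < b)
    (hl : ∀ m, M ≤ m → a * m ^ d ≤ b * h m) :
    ∃ c : ℝ, 0 < c ∧ ∀ᶠ n : ℕ in Filter.atTop, c * (n : ℝ) ^ d < (h n : ℝ) := by
  have ha' : (0 : ℝ) < (a : ℝ) := by exact_mod_cast ha
  have hb' : (0 : ℝ) < (b : ℝ) := by exact_mod_cast hb
  refine ⟨(a : ℝ) / (2 * (b : ℝ)), by positivity, ?_⟩
  filter_upwards [Filter.eventually_ge_atTop (max M 1)] with n hn
  have hn1 : 1 ≤ n := le_trans (le_max_right M 1) hn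
  have h1 : (a : ℝ) * (n : ℝ) ^ d ≤ (b : ℝ) * (h n : ℝ) := by
    exact_mod_cast hl n (le_trans (le_max_left M 1) hn)
  have hn0 : (0 : ℝ) < (n : ℝ) ^ d := pow_pos (by exact_mod_cast hn1) d
  have h2 : (0 : ℝ) < (a : ℝ) * (n : ℝ) ^ d := mul_pos ha' hn0
  rw [div_mul_eq_mul_div, div_lt_iff₀ (by positivity)]
  nlinarith

end Real2

section Geometry2

variable {X : Scheme.{u}}

/-- on an integral scheme with an ample module there is an ample module with a nonzero section -/
theorem exists_ample_with_section [IsIntegral X] (hproj : ∃ A : X.Modules, CohB1.IsAmple A) :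
    ∃ A : X.Modules, CohB1.IsAmple A ∧ ∃ s : Coh.structureModule X ⟶ A, s ≠ 0 := by
  obtain ⟨A0, hA0⟩ := hproj
  haveI : CompactSpace X := hA0.2.1
  obtain ⟨n0, hn0⟩ := Groth.Agent.Lib.H78GlobGen2.isGloballyGenerated_twist hA0
    (Coh.structureModule X) (Groth.Agent.Lib.CohFinAmple.isCoh_structureModule X)
  have hA : CohB1.IsAmple (tensorPow A0 (n0 + 1)) :=
    (Groth.Agent.Lib.H78AmpleOps.isAmple_tensorPow_iff hA0.1 (Nat.succ_pos n0)).1 hA0
  have hgg : Curv2.IsGloballyGenerated (tensorPow A0 (n0 + 1)) := by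
    have h1 := hn0 (n0 + 1) (Nat.le_succ n0)
    obtain ⟨K, q, hq⟩ := h1
    exact ⟨K, q ≫ (leftUnitor _).hom, epi_comp' hq (IsIso.epi_of_iso _)⟩
  obtain ⟨s, hs⟩ := Groth.Agent.Lib.SurfSec13.exists_section_ne_zero _
    (Groth.Agent.Lib.HilbPoly48.nontrivial_H0_of_isGloballyGenerated hgg
      (Groth.Agent.Lib.CurveVB54.not_isZero_of_isInvertible hA.1))
  exact ⟨_, hA, s, hs⟩

variable (k : Type u) [Field k]
  [X.Over (Spec (CommRingCat.of k))] [IsProper (X ↘ Spec (CommRingCat.of k))]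

/-- **Big implies vanishing top asymptotic cohomology** (`dim X ≥ 1`). -/
theorem hhat_top_eq_zero_of_big [IsIntegral X] (hproj : ∃ A : X.Modules, CohB1.IsAmple A) (n : ℕ)
    (hn : topologicalKrullDim X = n) (hn1 : 1 ≤ n) (L : X.Modules) (hL : PicF.IsInvertible L)
    (hbig : 0 < W4c5asymptcohfn.hhat k X n 0 L) : W4c5asymptcohfn.hhat k X n n L = 0 := by
  obtain ⟨A, hA, s, hs⟩ := exists_ample_with_section hproj
  have hfun : ∀ i m : ℕ, Module.finrank k (Coh.HH X (CohB1.tensorPow L m) i) =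
      hc k (Coh.structureModule X) i (cls L ^ m) := by
    intro i m
    rw [← cls_tensorPow, hc_structure_cls]
  by_cases hex : ∃ m0 : ℕ, 1 ≤ m0 ∧ SubC (cls A) (cls L ^ m0)
  · obtain ⟨m0, hm0, hsub⟩ := hex
    obtain ⟨M, hM⟩ := exists_top_vanishing k n hn hn1 hA hL m0 hm0 hsub
    unfold W4c5asymptcohfn.hhat
    have hev : (fun m : ℕ => (Module.finrank k (Coh.HH X (CohB1.tensorPow L m) n) : ℝ) *
        (n.factorial : ℝ) / (m : ℝ) ^ n) =ᶠ[Filter.atTop] fun _ => (0 : ℝ) := by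
      filter_upwards [Filter.eventually_ge_atTop M] with m hm
      rw [hfun n m, hM m hm]
      simp
    rw [Filter.limsup_congr hev]
    exact Filter.limsup_const 0
  · exfalso
    have hno : ∀ m : ℕ, 1 ≤ m → ¬ SubC (cls A) (cls L ^ m) := fun m hm h => hex ⟨m, hm, h⟩
    obtain ⟨C, hC⟩ := exists_bound_of_not_subC k n hn hA.1 hL s hs hno
    have h0 := limsup_real_eq_zero_of_bound n hn1
      (fun m => Module.finrank k (Coh.HH X (CohB1.tensorPow L m) 0)) C
      (fun m hm => by rw [hfun 0 m]; exact hC m hm)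
    unfold W4c5asymptcohfn.hhat at hbig
    rw [h0] at hbig
    exact lt_irrefl _ hbig

end Geometry2

section Geometry3

variable {X : Scheme.{u}} (k : Type u) [Field k]
  [X.Over (Spec (CommRingCat.of k))] [IsProper (X ↘ Spec (CommRingCat.of k))]

/-- **Kodaira's lemma**: a big invertible module has a positive power containing a given ample one -/
theorem exists_subC_of_big [IsIntegral X] (d : ℕ) (hd : topologicalKrullDim X = d) {A L : X.Modules}
    (hA : CohB1.IsAmple A) (hL : PicF.IsInvertible L)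
    (hbig : ∃ c : ℝ, 0 < c ∧ ∀ᶠ n : ℕ in Filter.atTop,
      c * (n : ℝ) ^ d < (Module.finrank k (Coh.HH X (CohB1.tensorPow L n) 0) : ℝ)) :
    ∃ m0 : ℕ, 1 ≤ m0 ∧ SubC (cls A) (cls L ^ m0) := by
  haveI : CompactSpace X := hA.2.1
  have hO := Groth.Agent.Lib.H90Invertible.isInvertible_structureModule X
  obtain ⟨n0, hn0⟩ := Groth.Agent.Lib.H78GlobGen2.isGloballyGenerated_twist hA
    (Coh.structureModule X) (Groth.Agent.Lib.CohFinAmple.isCoh_structureModule X)
  have hsec : ∀ n, n0 ≤ n → SubC 1 (cls A ^ n) := by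
    intro n hn
    have := subC_one_of_gg (Groth.Agent.Lib.OXModRestrict.isInvertible_tensorMod hO
      (Groth.Agent.Lib.OXModRestrict.isInvertible_tensorPow hA.1 n)) (hn0 n hn)
    rwa [cls_tensorMod, cls_one, one_mul, cls_tensorPow] at this
  have hInvA := invC_cls hA.1
  have h1 : SubC (cls A) (cls A ^ (n0 + 2)) := by
    have := (SubC.refl (cls A)).mul (hsec (n0 + 1) (Nat.le_succ n0)) invC_one hInvA
    rwa [mul_one, ← pow_succ'] at this
  have hAN : PicF.IsInvertible (tensorPow A (n0 + 2)) :=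
    Groth.Agent.Lib.OXModRestrict.isInvertible_tensorPow hA.1 (n0 + 2)
  have h2 := hsec (n0 + 2) (by omega)
  rw [← cls_one, ← cls_tensorPow] at h2
  obtain ⟨j, hj⟩ := h2.exists_mono
  have hj0 : j ≠ 0 := fun h0 =>
    Groth.Agent.Lib.CurveVB54.not_isZero_of_isInvertible hO (IsZero.of_mono_eq_zero j h0)
  by_contra hno
  have hno' : ∀ m : ℕ, 1 ≤ m → ¬ SubC (cls (tensorPow A (n0 + 2))) (cls L ^ m) := by
    intro m hm h
    apply hno
    refine ⟨m, hm, h1.trans ?_⟩
    rwa [cls_tensorPow] at h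
  obtain ⟨C, hC⟩ := exists_bound_of_not_subC k d hd hAN hL j hj0 hno'
  obtain ⟨c, hcpos, hev⟩ := hbig
  refine not_eventually_lt_of_bound d (fun m => hc k (Coh.structureModule X) 0 (cls L ^ m)) C hC c
    hcpos ?_
  filter_upwards [hev] with n hn
  rwa [← cls_tensorPow, hc_structure_cls]

/-- `H^0(X, O_X) ≠ 0` on a nonempty scheme -/
theorem nontrivial_H0_structureModule [Nonempty X] : Nontrivial (Coh.HH X (Coh.structureModule X) 0) :=
  Groth.Agent.Lib.HilbPoly48.nontrivial_H0_of_isGloballyGenerated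
    Groth.Agent.Lib.H90CurveH1.isGloballyGenerated_structureModule
    (Groth.Agent.Lib.CurveVB54.not_isZero_of_isInvertible
      (Groth.Agent.Lib.H90Invertible.isInvertible_structureModule X))

include k in
/-- a module of an invertible class containing `O_X` has a nonzero section -/
theorem nontrivial_H0_of_subC_one [IsIntegral X] {P : X.Modules} (hP : PicF.IsInvertible P)
    (h : SubC 1 (cls P)) : Nontrivial (Coh.HH X P 0) := by
  have hle := h.h0_le k invC_one (invC_cls hP)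
  rw [← cls_one, hc_structure_cls, hc_structure_cls] at hle
  haveI := nontrivial_H0_structureModule (X := X)
  haveI := finite_HH k X (Coh.structureModule X)
    (Groth.Agent.Lib.CohFinAmple.isCoh_structureModule X) 0
  have hpos : 0 < Module.finrank k (Coh.HH X (Coh.structureModule X) 0) := Module.finrank_pos
  exact Module.nontrivial_of_finrank_pos (R := k) (lt_of_lt_of_le hpos hle)

/-- **Characterisation of big invertible modules** (Kodaira's lemma, both directions). -/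
theorem big_iff_forall_ample [IsIntegral X] (A₀ : X.Modules) (hA₀ : CohB1.IsAmple A₀) (d : ℕ)
    (hdim : topologicalKrullDim X = d) (L : X.Modules) (hL : PicF.IsInvertible L) :
    (∃ c : ℝ, 0 < c ∧ ∀ᶠ n : ℕ in Filter.atTop,
        c * (n : ℝ) ^ d < (Module.finrank k (Coh.HH X (CohB1.tensorPow L n) 0) : ℝ)) ↔
      ∀ (A A' : X.Modules), CohB1.IsAmple A → ClSub.IsInverseOf A' A →
        ∃ m : ℕ, 0 < m ∧ Nontrivial (Coh.HH X (CohB1.tensorMod A' (CohB1.tensorPow L m)) 0) := by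
  have hInvL := invC_cls hL
  constructor
  · intro hbig A A' hA hinv
    obtain ⟨m0, hm0, hsub⟩ := exists_subC_of_big k d hdim hA hL hbig
    obtain ⟨e⟩ := hinv
    have hA' : PicF.IsInvertible A' :=
      Groth.Agent.Lib.CohTwistCompare.isInvertible_of_isInverseOf hA.1 ⟨braiding _ _ ≪≫ e⟩
    have h1 := (SubC.refl (cls A')).mul hsub (invC_cls hA.1) (invC_cls hA')
    have haa : cls A' * cls A = 1 := by rw [← cls_tensorMod, cls_eq_of_iso e, cls_one]
    rw [haa, ← cls_tensorPow, ← cls_tensorMod] at h1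
    exact ⟨m0, hm0, nontrivial_H0_of_subC_one k
      (Groth.Agent.Lib.OXModRestrict.isInvertible_tensorMod hA'
        (Groth.Agent.Lib.OXModRestrict.isInvertible_tensorPow hL m0)) h1⟩
  · intro h
    obtain ⟨A', hA', ⟨e⟩⟩ := Groth.Agent.Lib.H78Dual.exists_tensor_inverse hA₀.1
    obtain ⟨m, hm, hnt⟩ := h A₀ A' hA₀ ⟨e⟩
    have h1 := subC_one_of_nontrivial (Groth.Agent.Lib.OXModRestrict.isInvertible_tensorMod hA'
      (Groth.Agent.Lib.OXModRestrict.isInvertible_tensorPow hL m)) hnt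
    rw [cls_tensorMod, cls_tensorPow] at h1
    have h2 := (SubC.refl (cls A₀)).mul h1 invC_one (invC_cls hA₀.1)
    have haa : cls A₀ * cls A' = 1 := by
      rw [mul_comm, ← cls_tensorMod, cls_eq_of_iso e, cls_one]
    rw [mul_one, ← mul_assoc, haa, one_mul] at h2
    obtain ⟨a, b, M, ha, hb, hl⟩ := exists_lower k d hdim hA₀ hL m hm h2
    obtain ⟨c, hcpos, hev⟩ := eventually_lt_of_lower d _ a b M ha hb hl
    refine ⟨c, hcpos, ?_⟩
    filter_upwards [hev] with n hn
    rwa [← cls_tensorPow, hc_structure_cls] at hn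

end Geometry3

section Geometry4

variable {X : Scheme.{u}} (k : Type u) [Field k]
  [X.Over (Spec (CommRingCat.of k))] [IsProper (X ↘ Spec (CommRingCat.of k))]

theorem add_one_le_of_lt_nat {x : WithBot ℕ∞} {d : ℕ} (h : x < (d : WithBot ℕ∞)) :
    x + 1 ≤ (d : WithBot ℕ∞) := by
  induction x using WithBot.recBotCoe with
  | bot => simp
  | coe y =>
    have h1 : y < (d : ℕ∞) := by exact_mod_cast h
    have hy : y ≠ ⊤ := ne_top_of_lt h1
    lift y to ℕ using hy
    have h2 : y < d := by exact_mod_cast h1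
    have h3 : y + 1 ≤ d := h2
    exact_mod_cast h3

/-- a big invertible module has sections of some positive power vanishing on a given closed
subscheme of smaller dimension -/
theorem exists_sections_idealMod (d : ℕ) (hdim : topologicalKrullDim X = d) (L : X.Modules)
    (hL : PicF.IsInvertible L)
    (hbig : ∃ c : ℝ, 0 < c ∧ ∀ᶠ n : ℕ in Filter.atTop,
      c * (n : ℝ) ^ d < (Module.finrank k (Coh.HH X (CohB1.tensorPow L n) 0) : ℝ))
    (Z : X.IdealSheafData) (hZ : topologicalKrullDim (Z.support : Set X) < d) :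
    ∃ m : ℕ, 0 < m ∧
      Nontrivial (Coh.HH X (CohB1.tensorMod (ClSub.idealMod Z) (CohB1.tensorPow L m)) 0) := by
  have hLN := Groth.Agent.Lib.EulerLE48.isLocallyNoetherian k X
  have hS := Groth.Agent.Lib.IdealMod.idealMod_shortExact Z
  have hcohQ : Coh.IsCoh (ClSub.quotMod Z) := Groth.Agent.Lib.SnapCoeff13.isCoh_quotMod Z
  have hcohO : Coh.IsCoh (Coh.structureModule X) :=
    Groth.Agent.Lib.CohFinAmple.isCoh_structureModule X
  haveI : (ClSub.quotMod Z).IsQuasicoherent := hcohQ.1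
  have hcohI : Coh.IsCoh (ClSub.idealMod Z) :=
    Groth.Agent.Lib.H90OXModExact.isCoh_kernel (ClSub.toSubscheme Z) hcohO
  have hdQ : topologicalKrullDim ↥(CohB1.support (ClSub.quotMod Z)) + 1 ≤ (d : WithBot ℕ∞) :=
    add_one_le_of_lt_nat (lt_of_le_of_lt (Groth.Agent.Lib.SnapCoeff13.dim_support_quotMod_le Z) hZ)
  obtain ⟨C, hC⟩ := exists_bound_hc_lt k (N := fun _ : Unit => L) (fun _ => hL) (ClSub.quotMod Z)
    hcohQ d hdQ
  by_contra hno
  push Not at hno
  obtain ⟨c, hcpos, hev⟩ := hbig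
  refine not_eventually_lt_of_bound d (fun m => hc k (Coh.structureModule X) 0 (cls L ^ m)) C ?_ c
    hcpos ?_
  · intro m hm
    have hlen := len_pow L m
    have hinv : PicF.IsInvertible (rep (cls L ^ m)) := isInvertible_rep_of_len (fun _ => hL) hlen
    have hmid := hc_mid_le k hinv hS hcohI hcohO hcohQ 0
    have hzero : hc k (ClSub.idealMod Z) 0 (cls L ^ m) = 0 := by
      rw [← cls_tensorPow, hc_cls]
      have := hno m hm
      exact Module.finrank_zero_of_subsingleton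
    have := hC 0 m _ hlen
    change hc k (Coh.structureModule X) 0 (cls L ^ m) ≤ hc k (ClSub.idealMod Z) 0 (cls L ^ m) +
      hc k (ClSub.quotMod Z) 0 (cls L ^ m) at hmid
    change hc k (Coh.structureModule X) 0 (cls L ^ m) ≤ C * g d m
    omega
  · filter_upwards [hev] with n hn
    rwa [← cls_tensorPow, hc_structure_cls]

end Geometry4

end Groth.Agent.Lib.BigVol
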