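import Mathlib.CategoryTheory.Abelian.RightDerived
import Mathlib.Algebra.Homology.ShortComplex.ExactFunctor

/-!
The higher right derived functors of an exact functor vanish.
-/

set_option autoImplicit false
open CategoryTheory CategoryTheory.Limits

namespace Groth.Agent.Lib.RightDerivedExact

variable {C D : Type*} [Category* C] [Category* D] [Abelian C] [Abelian D] [HasInjectiveResolutions C]

theorem isZero_rightDerived_succ (F : C ⥤ D) [F.Additive] [PreservesFiniteLimits F]
    [PreservesFiniteColimits F] (n : ℕ) (X : C) :
    IsZero ((F.rightDerived (n + 1)).obj X) := by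
  let I : InjectiveResolution X := Classical.choice (HasInjectiveResolution.out (Z := X))
  refine IsZero.of_iso ?_ (I.isoRightDerivedObj F (n + 1))
  erw [← HomologicalComplex.exactAt_iff_isZero_homology]
  have h : (I.cocomplex.sc (n + 1)).Exact := I.cocomplex_exactAt_succ n
  exact h.map F

end Groth.Agent.Lib.RightDerivedExact
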