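import Groth.Agent.Lib.ExtAdjunction
import Groth.Agent.Lib.RightDerivedExact
import Mathlib.CategoryTheory.Sites.SheafCohomology.Basic
import Mathlib.CategoryTheory.Sites.ConstantSheaf
import Mathlib.CategoryTheory.Sites.Pullback
import Mathlib.CategoryTheory.Sites.Abelian

/-!
# Comparison of cohomology along a continuous functor with exact adjoint pair (helper11)

`u : C ⥤ D` continuous, `G = u^p : Sh(D,Ab) ⥤ Sh(C,Ab)` (restriction), `L ⊣ G` with `L` left exact
and `G` right exact; `T` terminal in `C` with `u T` terminal in `D`.  Then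
`H^p(C, G M) ≃+ H^p(D, M)` for all abelian sheaves `M` on `D`.
-/

set_option autoImplicit false
open CategoryTheory CategoryTheory.Limits Opposite Abelian
universe w' w v₁ v₂ u₁ u₂

namespace Groth.Agent.Lib.SiteCohCompare

variable {C : Type u₁} [Category.{v₁} C] {D : Type u₂} [Category.{v₂} D]
  (J : GrothendieckTopology C) (K : GrothendieckTopology D) (F : C ⥤ D) [F.IsContinuous J K]
  [HasSheafify J AddCommGrpCat.{w}] [HasSheafify K AddCommGrpCat.{w}]

instance additive_pushforward :
    (F.sheafPushforwardContinuous AddCommGrpCat.{w} J K).Additive where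

variable {J K F}
variable {L : Sheaf J AddCommGrpCat.{w} ⥤ Sheaf K AddCommGrpCat.{w}}
  (adj : L ⊣ F.sheafPushforwardContinuous AddCommGrpCat.{w} J K)
  {T : C} (hT : IsTerminal T) (hT' : IsTerminal (F.obj T))

/-- The left adjoint of restriction sends constant sheaves to constant sheaves, if the
terminal object is preserved. -/
noncomputable def constIso :
    constantSheaf J AddCommGrpCat.{w} ⋙ L ≅ constantSheaf K AddCommGrpCat.{w} :=
  Adjunction.leftAdjointUniq ((constantSheafAdj J AddCommGrpCat.{w} hT).comp adj)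
    ((constantSheafAdj K AddCommGrpCat.{w} hT').ofNatIsoRight (Iso.refl _))

/-- Ext groups are invariant under isomorphism in the first variable. -/
noncomputable def extAddEquivOfIso {A : Type*} [Category A] [Abelian A] [HasExt.{w'} A]
    {X X' : A} (e : X ≅ X') (Y : A) (n : ℕ) : Ext.{w'} X' Y n ≃+ Ext.{w'} X Y n :=
  (((extFunctor n).mapIso e.op).app Y).addCommGroupIsoToAddEquiv

include adj hT hT' in
theorem nonempty_H_addEquiv [HasExt.{w'} (Sheaf J AddCommGrpCat.{w})]
    [HasExt.{w'} (Sheaf K AddCommGrpCat.{w})]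
    [HasInjectiveResolutions (Sheaf K AddCommGrpCat.{w})]
    [PreservesFiniteLimits L]
    [PreservesFiniteColimits (F.sheafPushforwardContinuous AddCommGrpCat.{w} J K)]
    (M : Sheaf K AddCommGrpCat.{w}) (p : ℕ) :
    Nonempty (Sheaf.H.{w'} ((F.sheafPushforwardContinuous AddCommGrpCat.{w} J K).obj M) p ≃+
      Sheaf.H.{w'} M p) := by
  have : PreservesFiniteLimits (F.sheafPushforwardContinuous AddCommGrpCat.{w} J K) := by
    have : PreservesLimitsOfSize.{0, 0}
        (F.sheafPushforwardContinuous AddCommGrpCat.{w} J K) := adj.rightAdjoint_preservesLimits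
    exact PreservesLimitsOfSize.preservesFiniteLimits _
  obtain ⟨e⟩ := Groth.Agent.Lib.ExtAdjunction.nonempty_extAddEquiv.{w'} adj M
    (fun q => Groth.Agent.Lib.RightDerivedExact.isZero_rightDerived_succ _ q M)
    ((constantSheaf J AddCommGrpCat.{w}).obj (AddCommGrpCat.of (ULift ℤ))) p
  have e' := extAddEquivOfIso.{w'} ((constIso adj hT hT').app (AddCommGrpCat.of (ULift ℤ))) M p
  exact ⟨e.symm.trans e'.symm⟩

end Groth.Agent.Lib.SiteCohCompare
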