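import Groth.Prelude.Def_BigSite
import Groth.Agent.Lib.BigSiteInj
import Groth.Agent.Lib.SiteCohCompare

set_option autoImplicit false
open CategoryTheory CategoryTheory.Limits AlgebraicGeometry Opposite
universe u

namespace Groth.Agent.Lib.BigZar65

variable (X : Scheme.{u})

/-- morphisms into the image of `zarIncl` are unique. -/
lemma hom_ext_zarIncl {T : Over X} {U : X.Opens} (g h : T ⟶ (BigSite.zarIncl X).obj U) : g = h := by
  apply Over.OverMorphism.ext
  have h1 : g.left ≫ U.ι = T.hom := Over.w g
  have h2 : h.left ≫ U.ι = T.hom := Over.w h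
  exact (cancel_mono U.ι).1 (h1.trans h2.symm)

/-- the range of the structure morphism is contained in `U` if there is a morphism to `zarIncl U`. -/
lemma range_le {T : Over X} {U : X.Opens} (g : T ⟶ (BigSite.zarIncl X).obj U) :
    Set.range T.hom ⊆ (U : Set X) := by
  rintro _ ⟨t, rfl⟩
  have h1 : g.left ≫ U.ι = T.hom := Over.w g
  rw [← h1]
  exact (g.left t).2

/-- the lift of the structure morphism through `U`. -/
noncomputable def liftU (T : Over X) (U : X.Opens) (h : Set.range T.hom ⊆ (U : Set X)) :
    T.left ⟶ (U : Scheme.{u}) :=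
  IsOpenImmersion.lift (Scheme.Opens.ι U) (T.hom : T.left ⟶ X)
    (by rw [Scheme.Opens.range_ι]; exact h)

lemma liftU_ι (T : Over X) (U : X.Opens) (h : Set.range T.hom ⊆ (U : Set X)) :
    liftU X T U h ≫ Scheme.Opens.ι U = T.hom :=
  IsOpenImmersion.lift_fac _ _ _

/-- a morphism to `zarIncl U` from the range condition. -/
noncomputable def toZarIncl (T : Over X) (U : X.Opens) (h : Set.range T.hom ⊆ (U : Set X)) :
    T ⟶ (BigSite.zarIncl X).obj U :=
  Over.homMk (U := T) (V := (BigSite.zarIncl X).obj U) (liftU X T U h) (liftU_ι X T U h)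

instance (T : Over X) : IsCofiltered (StructuredArrow T (BigSite.zarIncl X)) where
  cone_objs A B := by
    have hA := range_le X A.hom
    have hB := range_le X B.hom
    refine ⟨StructuredArrow.mk (toZarIncl X T (A.right ⊓ B.right) (fun x hx => ⟨hA hx, hB hx⟩)),
      StructuredArrow.homMk (homOfLE inf_le_left) (hom_ext_zarIncl X _ _),
      StructuredArrow.homMk (homOfLE inf_le_right) (hom_ext_zarIncl X _ _), trivial⟩
  cone_maps A B f g := by
    refine ⟨A, 𝟙 A, ?_⟩
    have : f = g := by
      apply StructuredArrow.ext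
      exact Subsingleton.elim _ _
    rw [this]
  nonempty := ⟨StructuredArrow.mk (toZarIncl X T ⊤ (fun x _ => trivial))⟩

instance flat_zarIncl : RepresentablyFlat (BigSite.zarIncl X) := ⟨inferInstance⟩

instance ab5uu : AB5OfSize.{u, u} AddCommGrpCat.{u + 1} :=
  AB5OfSize_shrink.{u, u, u + 1, u + 1} _

open Groth.Agent.Lib.BigSiteInj in
instance hasExact_zarIncl (T : (Over X)ᵒᵖ) :
    HasExactColimitsOfShape (CostructuredArrow (BigSite.zarIncl X).op T) AddCommGrpCat.{u + 1} :=
  inferInstance

open Groth.Agent.Lib.BigSiteInj in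
instance lanPres_zarIncl : PreservesFiniteLimits ((BigSite.zarIncl X).op.lan :
    (X.Opensᵒᵖ ⥤ AddCommGrpCat.{u + 1}) ⥤ ((Over X)ᵒᵖ ⥤ AddCommGrpCat.{u + 1})) :=
  Groth.Agent.Lib.LanExact.preservesFiniteLimits_lan _

variable (K : Precoverage Scheme.{u})

theorem preservesFiniteLimits_piZarPull [BigSite.ZarCont K X] :
    PreservesFiniteLimits (BigSite.piZarPull K X) := by
  have h1 : PreservesFiniteLimits ((BigSite.zarIncl X).op.lan ⋙
      presheafToSheaf (QuotSh.J K X) AddCommGrpCat.{u + 1}) :=
    comp_preservesFiniteLimits _ _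
  have h2 : PreservesFiniteLimits (Functor.sheafPullbackConstruction.sheafPullback
      (BigSite.zarIncl X) AddCommGrpCat.{u + 1} (Opens.grothendieckTopology X) (QuotSh.J K X)) := by
    apply comp_preservesFiniteLimits
  exact preservesFiniteLimits_of_natIso (Functor.sheafPullbackConstruction.sheafPullbackIso
    (BigSite.zarIncl X) AddCommGrpCat.{u + 1} (Opens.grothendieckTopology X) (QuotSh.J K X)).symm

/-- every Zariski covering sieve of an open `U` (in the big Zariski site over `X`) contains the
inclusions of an open cover of `U`. -/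
theorem zarIncl_isCocontinuous :
    (BigSite.zarIncl X).IsCocontinuous (Opens.grothendieckTopology X)
      (QuotSh.J Scheme.zariskiPrecoverage X) where
  cover_lift := by
    intro U S hS
    rw [GrothendieckTopology.mem_over_iff,
      Precoverage.mem_toGrothendieck_iff_of_isStableUnderComposition] at hS
    obtain ⟨R, hR, hle⟩ := hS
    rw [Precoverage.mem_iff_exists_zeroHypercover] at hR
    obtain ⟨E, rfl⟩ := hR
    have hE := E.mem₀
    rw [Scheme.ofArrows_mem_precoverage_iff] at hE
    obtain ⟨hsurj, himm⟩ := hE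
    intro x hx
    obtain ⟨i, y, hy⟩ := hsurj ⟨x, hx⟩
    have := himm i
    let g : E.X i ⟶ (U : Scheme.{u}) := E.f i
    have hg : IsOpenImmersion g := himm i
    let j : E.X i ⟶ X := g ≫ Scheme.Opens.ι U
    have hj : IsOpenImmersion j := inferInstance
    let V : X.Opens := j.opensRange
    have hVU : V ≤ U := by
      rintro _ ⟨z, rfl⟩
      exact (E.f i z).2
    have hxV : x ∈ V := ⟨y, by
      change (Scheme.Opens.ι U) ((E.f i) y) = x
      rw [hy]
      rfl⟩
    refine ⟨V, homOfLE hVU, ?_, hxV⟩
    have h1 : (Sieve.overEquiv ((BigSite.zarIncl X).obj U) S).arrows (E.f i) := hle _ _ (Presieve.ofArrows.mk i)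
    rw [Sieve.overEquiv_iff] at h1
    let e : (BigSite.zarIncl X).obj V ⟶ Over.mk (E.f i ≫ ((BigSite.zarIncl X).obj U).hom) :=
      Over.homMk (j.isoOpensRange.inv) (by
        change j.isoOpensRange.inv ≫ j = Scheme.Opens.ι V
        exact Scheme.Hom.isoOpensRange_inv_comp j)
    have h2 := S.downward_closed h1 e
    change S.arrows ((BigSite.zarIncl X).map (homOfLE hVU))
    rwa [hom_ext_zarIncl X ((BigSite.zarIncl X).map (homOfLE hVU)) (e ≫ Over.homMk (E.f i))]

/-- `zarIncl ⊤` is terminal in `Over X`. -/
noncomputable def isTerminalZarInclTop : IsTerminal ((BigSite.zarIncl X).obj ⊤) :=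
  IsTerminal.ofUniqueHom (fun T => toZarIncl X T ⊤ (fun _ _ => trivial))
    (fun T m => hom_ext_zarIncl X _ _)

theorem preservesFiniteColimits_resZar [BigSite.ZarCont Scheme.zariskiPrecoverage X] :
    PreservesFiniteColimits (BigSite.resZar Scheme.zariskiPrecoverage X) := by
  have := zarIncl_isCocontinuous X
  have : PreservesColimitsOfSize.{0, 0} (BigSite.resZar Scheme.zariskiPrecoverage X) :=
    ((BigSite.zarIncl X).sheafAdjunctionCocontinuous AddCommGrpCat.{u + 1}
      (Opens.grothendieckTopology X)
      (QuotSh.J Scheme.zariskiPrecoverage X)).leftAdjoint_preservesColimits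
  exact PreservesColimitsOfSize.preservesFiniteColimits _

theorem nonempty_H_resZar_addEquiv [BigSite.ZarCont Scheme.zariskiPrecoverage X]
    (F : BigSite.Ab Scheme.zariskiPrecoverage X) (p : ℕ) :
    Nonempty (EtZar.H ((BigSite.resZar Scheme.zariskiPrecoverage X).obj F) p ≃+
      BigSite.H Scheme.zariskiPrecoverage X F p) := by
  have hL : PreservesFiniteLimits (BigSite.piZarPull Scheme.zariskiPrecoverage X) :=
    preservesFiniteLimits_piZarPull X Scheme.zariskiPrecoverage
  have hG := preservesFiniteColimits_resZar X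
  have hT : IsTerminal (⊤ : X.Opens) := isTerminalTop
  exact Groth.Agent.Lib.SiteCohCompare.nonempty_H_addEquiv
    (BigSite.piZarAdj Scheme.zariskiPrecoverage X) hT (isTerminalZarInclTop X) F p

end Groth.Agent.Lib.BigZar65
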