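import Groth.Agent.Lib.Pfaff75

/-!
# Sub-Pfaffians of alternating matrices of binary linear forms (helper75)
-/

set_option autoImplicit false

open W4c3degenlocivb MvPolynomial

namespace Groth.Agent.Lib.PfaffSpan75

open Groth.Agent.Lib.Pfaff75

variable {A B : Type*} [CommRing A] [CommRing B]

/-- matrix of binary linear forms with coefficient array `c` -/
noncomputable def Nmat {n : ℕ} (c : Fin n → Fin n → Fin 2 → A) :
    Matrix (Fin n) (Fin n) (MvPolynomial (Fin 2) A) :=
  Matrix.of fun a b => ∑ l : Fin 2, C (c a b l) * X l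

theorem Nmat_apply {n : ℕ} (c : Fin n → Fin n → Fin 2 → A) (a b : Fin n) :
    Nmat c a b = ∑ l : Fin 2, C (c a b l) * X l := rfl

theorem Nmat_map {n : ℕ} (f : A →+* B) (c : Fin n → Fin n → Fin 2 → A) :
    (Nmat c).map (MvPolynomial.map f) = Nmat (fun a b l => f (c a b l)) := by
  ext a b
  simp [Nmat_apply]

theorem Nmat_isHomogeneous {n : ℕ} (c : Fin n → Fin n → Fin 2 → A) (a b : Fin n) :
    (Nmat c a b).IsHomogeneous 1 := by
  rw [Nmat_apply]
  apply IsHomogeneous.sum
  intro l _
  exact isHomogeneous_C_mul_X _ _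

/-- the `i`-th principal sub-Pfaffian -/
noncomputable def subPf {r : ℕ} (c : Fin (2 * r + 1) → Fin (2 * r + 1) → Fin 2 → A)
    (i : Fin (2 * r + 1)) : MvPolynomial (Fin 2) A :=
  pf (2 * r) ((Nmat c).submatrix i.succAbove i.succAbove)

theorem subPf_map {r : ℕ} (f : A →+* B) (c : Fin (2 * r + 1) → Fin (2 * r + 1) → Fin 2 → A)
    (i : Fin (2 * r + 1)) :
    MvPolynomial.map f (subPf c i) = subPf (fun a b l => f (c a b l)) i := by
  unfold subPf
  rw [← pf_map, ← Nmat_map]
  rfl

theorem subPf_isHomogeneous {r : ℕ} (c : Fin (2 * r + 1) → Fin (2 * r + 1) → Fin 2 → A)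
    (i : Fin (2 * r + 1)) : (subPf c i).IsHomogeneous r :=
  pf_isHomogeneous r _ (fun _ _ => Nmat_isHomogeneous c _ _)

/-- exponent of `y0^t y1^(r-t)` -/
noncomputable def mon (r t : ℕ) : Fin 2 →₀ ℕ := Finsupp.single 0 t + Finsupp.single 1 (r - t)

theorem mon_zero (r t : ℕ) : mon r t 0 = t := by simp [mon]

theorem mon_one (r t : ℕ) : mon r t 1 = r - t := by simp [mon]

theorem mon_degree {r t : ℕ} (h : t ≤ r) : (mon r t).degree = r := by
  rw [Finsupp.degree_eq_sum, Fin.sum_univ_two, mon_zero, mon_one]
  omega

theorem mon_injective (r : ℕ) : Function.Injective (mon r) := by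
  intro s t h
  have := congrArg (fun d => d 0) h
  simpa [mon_zero] using this

theorem eq_mon_of_degree {r : ℕ} (d : Fin 2 →₀ ℕ) (h : d.degree = r) : d = mon r (d 0) := by
  rw [Finsupp.degree_eq_sum, Fin.sum_univ_two] at h
  ext i
  fin_cases i
  · simp [mon_zero]
  · simp only [Fin.mk_one, Fin.isValue, mon_one]; omega

theorem eq_sum_monomial_of_isHomogeneous {r : ℕ} {p : MvPolynomial (Fin 2) A}
    (hp : p.IsHomogeneous r) :
    p = ∑ t : Fin (r + 1), monomial (mon r t) (coeff (mon r t) p) := by
  classical
  ext d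
  rw [coeff_sum]
  simp only [coeff_monomial]
  by_cases hd : d.degree = r
  · have hd0 : d 0 < r + 1 := by
      rw [Finsupp.degree_eq_sum, Fin.sum_univ_two] at hd; omega
    rw [Finset.sum_eq_single (⟨d 0, hd0⟩ : Fin (r + 1))]
    · rw [if_pos (eq_mon_of_degree d hd).symm, ← eq_mon_of_degree d hd]
    · intro t _ ht
      rw [if_neg]
      intro h
      apply ht
      apply Fin.ext
      have := congrArg (fun e => e 0) h
      simpa [mon_zero] using this
    · intro h; exact absurd (Finset.mem_univ _) h
  · rw [hp.coeff_eq_zero hd]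
    symm
    apply Finset.sum_eq_zero
    intro t _
    rw [if_neg]
    intro h
    apply hd
    rw [← h]
    exact mon_degree (Nat.lt_succ_iff.mp t.isLt)

section field

variable {k : Type*} [Field k]

theorem span_eq_of_det_ne_zero (r : ℕ) {ι : Type*} (P : ι → MvPolynomial (Fin 2) k)
    (hP : ∀ i, (P i).IsHomogeneous r) (idx : Fin (r + 1) → ι)
    (hdet : (Matrix.of fun s t : Fin (r + 1) => coeff (mon r t) (P (idx s))).det ≠ 0) :
    Submodule.span k (Set.range P) = homogeneousSubmodule (Fin 2) k r := by
  classical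
  set Q : Matrix (Fin (r + 1)) (Fin (r + 1)) k :=
    Matrix.of fun s t : Fin (r + 1) => coeff (mon r t) (P (idx s)) with hQ
  have hunit : IsUnit Q.det := isUnit_iff_ne_zero.mpr hdet
  have hinv : Q⁻¹ * Q = 1 := Matrix.nonsing_inv_mul Q hunit
  apply le_antisymm
  · rw [Submodule.span_le]
    rintro _ ⟨i, rfl⟩
    exact (mem_homogeneousSubmodule _ _).mpr (hP i)
  · intro p hp
    have hp' : p.IsHomogeneous r := (mem_homogeneousSubmodule _ _).mp hp
    -- each monomial lies in the span
    have hmon : ∀ t : Fin (r + 1), monomial (mon r t) (1 : k) ∈ Submodule.span k (Set.range P) := by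
      intro t
      have : monomial (mon r t) (1 : k) = ∑ s : Fin (r + 1), Q⁻¹ t s • P (idx s) := by
        have h1 : ∀ s : Fin (r + 1), P (idx s) = ∑ t' : Fin (r + 1), monomial (mon r t') (Q s t') := by
          intro s
          exact eq_sum_monomial_of_isHomogeneous (hP (idx s))
        calc monomial (mon r t) (1 : k)
            = ∑ t' : Fin (r + 1), monomial (mon r t') ((1 : Matrix _ _ k) t t') := by
              rw [Finset.sum_eq_single t]
              · simp
              · intro t' _ ht'
                rw [Matrix.one_apply_ne' ht', monomial_zero]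
              · intro h; exact absurd (Finset.mem_univ _) h
          _ = ∑ t' : Fin (r + 1), monomial (mon r t') (∑ s, Q⁻¹ t s * Q s t') := by
              rw [← hinv]; rfl
          _ = ∑ s : Fin (r + 1), ∑ t' : Fin (r + 1), Q⁻¹ t s • monomial (mon r t') (Q s t') := by
              rw [Finset.sum_comm]
              refine Finset.sum_congr rfl fun t' _ => ?_
              rw [map_sum]
              refine Finset.sum_congr rfl fun s _ => ?_
              rw [smul_monomial, smul_eq_mul]
          _ = ∑ s : Fin (r + 1), Q⁻¹ t s • P (idx s) := by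
              refine Finset.sum_congr rfl fun s _ => ?_
              rw [← Finset.smul_sum, ← h1 s]
      rw [this]
      exact Submodule.sum_mem _ fun s _ => Submodule.smul_mem _ _ (Submodule.subset_span ⟨idx s, rfl⟩)
    rw [eq_sum_monomial_of_isHomogeneous hp']
    refine Submodule.sum_mem _ fun t _ => ?_
    have : monomial (mon r t) (coeff (mon r t) p) = coeff (mon r t) p • monomial (mon r t) (1 : k) := by
      rw [smul_monomial, smul_eq_mul, mul_one]
    rw [this]
    exact Submodule.smul_mem _ _ (hmon t)

end field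

end Groth.Agent.Lib.PfaffSpan75
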