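import Groth.Agent.S16515
import Groth.Agent.Lib.PfaffSpan75

/-!
# Binary forms: factoring a cubic over an algebraically closed field, multiples of a form

helper75.  Used for S19809 (trisecants of a rational quintic in P^3).
-/

set_option autoImplicit false

namespace Groth.Agent.Lib.BinaryForms75

open MvPolynomial Module
open Groth.Agent.Lib.PfaffSpan75
open Groth.Agent.S16515 (finrank_homog mulForms mulForms_apply)

universe u

section basic

variable {K : Type u} [Field K]

theorem monomial_mon (r t : ℕ) (a : K) :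
    monomial (mon r t) a = C a * X 0 ^ t * X 1 ^ (r - t) := by
  unfold mon
  rw [monomial_single_add, ← C_mul_X_pow_eq_monomial]
  ring

/-- explicit expansion of a binary cubic -/
theorem cubic_eq {g : MvPolynomial (Fin 2) K} (hg : g.IsHomogeneous 3) :
    g = C (coeff (mon 3 0) g) * X 1 ^ 3 + C (coeff (mon 3 1) g) * X 0 * X 1 ^ 2
      + C (coeff (mon 3 2) g) * X 0 ^ 2 * X 1 + C (coeff (mon 3 3) g) * X 0 ^ 3 := by
  conv_lhs => rw [eq_sum_monomial_of_isHomogeneous hg]
  rw [Fin.sum_univ_four]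
  simp only [monomial_mon]
  simp

theorem hom_CXX (a : K) (i j : Fin 2) :
    (C a * X i * X j : MvPolynomial (Fin 2) K).IsHomogeneous 2 := by
  have h := (isHomogeneous_C_mul_X (σ := Fin 2) a i).mul (isHomogeneous_X K j)
  exact h

theorem hom_CXsq (a : K) (i : Fin 2) :
    (C a * X i ^ 2 : MvPolynomial (Fin 2) K).IsHomogeneous 2 := by
  have h := (isHomogeneous_C (Fin 2) a).mul ((isHomogeneous_X K i).pow 2)
  simpa using h

instance finiteDimensional_homog (m : ℕ) :
    FiniteDimensional K (homogeneousSubmodule (Fin 2) K m) :=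
  Module.finite_of_finrank_pos (by rw [finrank_homog]; omega)

/-- multiples of a nonzero form `g` by forms of degree `m` form a space of dimension `m+1`. -/
theorem finrank_map_mulLeft {g : MvPolynomial (Fin 2) K} (hg : g ≠ 0) (m : ℕ) :
    finrank K ((homogeneousSubmodule (Fin 2) K m).map (LinearMap.mulLeft K g)) = m + 1 := by
  have hinj : Function.Injective (LinearMap.mulLeft K g) := by
    intro a b hab
    exact mul_left_cancel₀ hg hab
  rw [← finrank_homog K m]
  exact (Submodule.equivMapOfInjective _ hinj _).finrank_eq.symm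

instance finite_map_mulLeft (g : MvPolynomial (Fin 2) K) (m : ℕ) :
    Module.Finite K ((homogeneousSubmodule (Fin 2) K m).map (LinearMap.mulLeft K g)) :=
  Module.Finite.map _ _

end basic

section factor

variable {K : Type u} [Field K] [IsAlgClosed K]

/-- over an algebraically closed field, every binary cubic has a linear factor. -/
theorem factor_cubic {g : MvPolynomial (Fin 2) K} (hg : g.IsHomogeneous 3) :
    ∃ l q : MvPolynomial (Fin 2) K, l.IsHomogeneous 1 ∧ q.IsHomogeneous 2 ∧ g = l * q := by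
  set a0 := coeff (mon 3 0) g with ha0
  set a1 := coeff (mon 3 1) g with ha1
  set a2 := coeff (mon 3 2) g with ha2
  set a3 := coeff (mon 3 3) g with ha3
  have hgeq := cubic_eq hg
  rw [← ha0, ← ha1, ← ha2, ← ha3] at hgeq
  have hX0 : (X 0 : MvPolynomial (Fin 2) K).IsHomogeneous 1 := isHomogeneous_X _ _
  have hX1 : (X 1 : MvPolynomial (Fin 2) K).IsHomogeneous 1 := isHomogeneous_X _ _
  by_cases h3 : a3 = 0
  · refine ⟨X 1, C a0 * X 1 ^ 2 + C a1 * X 0 * X 1 + C a2 * X 0 ^ 2, hX1, ?_, ?_⟩
    · exact IsHomogeneous.add (IsHomogeneous.add (hom_CXsq _ _) (hom_CXX _ _ _)) (hom_CXsq _ _)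
    · rw [hgeq, h3]
      simp only [map_zero, zero_mul, add_zero]
      ring
  · -- a root of `a3 X^3 + a2 X^2 + a1 X + a0`
    let P : Polynomial K := Polynomial.C a3 * Polynomial.X ^ 3 + Polynomial.C a2 * Polynomial.X ^ 2
      + Polynomial.C a1 * Polynomial.X + Polynomial.C a0
    have hdeg : P.degree = 3 := Polynomial.degree_cubic h3
    obtain ⟨r, hr⟩ := IsAlgClosed.exists_root P (by rw [hdeg]; norm_num)
    have hr' : a0 = -(a3 * r ^ 3 + a2 * r ^ 2 + a1 * r) := by
      have h0 : P.eval r = 0 := hr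
      simp only [P, Polynomial.eval_add, Polynomial.eval_mul, Polynomial.eval_C,
        Polynomial.eval_pow, Polynomial.eval_X] at h0
      linear_combination h0
    refine ⟨X 0 - C r * X 1,
      C a3 * X 0 ^ 2 + C (a2 + r * a3) * X 0 * X 1 + C (a1 + r * a2 + r ^ 2 * a3) * X 1 ^ 2,
      ?_, ?_, ?_⟩
    · exact IsHomogeneous.sub hX0 (isHomogeneous_C_mul_X r 1)
    · exact IsHomogeneous.add (IsHomogeneous.add (hom_CXsq _ _) (hom_CXX _ _ _)) (hom_CXsq _ _)
    · rw [hgeq, hr']
      simp only [map_add, map_mul, map_neg, map_pow]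
      ring

end factor

section pencil

variable {K : Type u} [Field K]

/-- a codimension-2 subspace of the quintics is cut out by two functionals -/
theorem exists_pencil (V : Submodule K (MvPolynomial (Fin 2) K))
    (hV : V ≤ homogeneousSubmodule (Fin 2) K 5) (hdim : finrank K V = 4) :
    ∃ p1 p2 : homogeneousSubmodule (Fin 2) K 5 →ₗ[K] K,
      ∀ F : homogeneousSubmodule (Fin 2) K 5, F.1 ∈ V ↔ p1 F = 0 ∧ p2 F = 0 := by
  let S5 := homogeneousSubmodule (Fin 2) K 5
  let V' : Submodule K S5 := V.comap S5.subtype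
  have hV' : finrank K V' = 4 := (Submodule.comapSubtypeEquivOfLe hV).finrank_eq.trans hdim
  have hQ : finrank K (S5 ⧸ V') = 2 := by
    have := Submodule.finrank_quotient_add_finrank V'
    rw [finrank_homog, hV'] at this
    omega
  let eQ : (S5 ⧸ V') ≃ₗ[K] (Fin 2 → K) :=
    LinearEquiv.ofFinrankEq _ _ (by rw [hQ, Module.finrank_fin_fun])
  refine ⟨(LinearMap.proj 0) ∘ₗ eQ.toLinearMap ∘ₗ V'.mkQ,
    (LinearMap.proj 1) ∘ₗ eQ.toLinearMap ∘ₗ V'.mkQ, fun F => ?_⟩
  have h1 : F.1 ∈ V ↔ eQ (V'.mkQ F) = 0 := by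
    rw [LinearEquiv.map_eq_zero_iff, Submodule.mkQ_apply, Submodule.Quotient.mk_eq_zero]
    rfl
  rw [h1]
  constructor
  · intro h
    have h' : eQ (Submodule.Quotient.mk F) = 0 := h
    constructor
    · show eQ (Submodule.Quotient.mk F) 0 = 0
      rw [h']; rfl
    · show eQ (Submodule.Quotient.mk F) 1 = 0
      rw [h']; rfl
  · rintro ⟨h0, h1⟩
    ext i
    fin_cases i
    · exact h0
    · exact h1

/-- every functional on quintics kills `g · S_2` for some nonzero cubic `g` -/
theorem exists_cubic_ker (lam : homogeneousSubmodule (Fin 2) K 5 →ₗ[K] K) :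
    ∃ g : homogeneousSubmodule (Fin 2) K 3, g ≠ 0 ∧
      ∀ h : homogeneousSubmodule (Fin 2) K 2, lam (mulForms K 3 2 5 rfl g h) = 0 := by
  let B : homogeneousSubmodule (Fin 2) K 3 →ₗ[K] homogeneousSubmodule (Fin 2) K 2 →ₗ[K] K :=
    (mulForms K 3 2 5 rfl).compr₂ lam
  have hlt : finrank K (homogeneousSubmodule (Fin 2) K 2 →ₗ[K] K) <
      finrank K (homogeneousSubmodule (Fin 2) K 3) := by
    rw [Module.finrank_linearMap, finrank_homog, finrank_homog, Module.finrank_self]
    norm_num
  obtain ⟨g, hgker, hg0⟩ := Submodule.exists_mem_ne_zero_of_ne_bot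
    (LinearMap.ker_ne_bot_of_finrank_lt (f := B) hlt)
  refine ⟨g, hg0, fun h => ?_⟩
  have := LinearMap.congr_fun (LinearMap.mem_ker.1 hgker) h
  exact this

theorem two_le_finrank_inf (V : Submodule K (MvPolynomial (Fin 2) K)) [Module.Finite K V]
    (p1 p2 : homogeneousSubmodule (Fin 2) K 5 →ₗ[K] K)
    (hp : ∀ F : homogeneousSubmodule (Fin 2) K 5, F.1 ∈ V ↔ p1 F = 0 ∧ p2 F = 0)
    (c : K) (g : homogeneousSubmodule (Fin 2) K 3) (hg0 : g ≠ 0)
    (hker : ∀ h : homogeneousSubmodule (Fin 2) K 2,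
      (p1 + c • p2) (mulForms K 3 2 5 rfl g h) = 0) :
    2 ≤ finrank K
      ↥(V ⊓ (homogeneousSubmodule (Fin 2) K 2).map (LinearMap.mulLeft K g.1)) := by
  let φ : homogeneousSubmodule (Fin 2) K 2 →ₗ[K] K := p2 ∘ₗ (mulForms K 3 2 5 rfl g)
  have hk : 2 ≤ finrank K (LinearMap.ker φ) := by
    have h1 := LinearMap.finrank_range_add_finrank_ker φ
    have h2 : finrank K (LinearMap.range φ) ≤ 1 := by
      have := Submodule.finrank_le (LinearMap.range φ)
      rwa [Module.finrank_self] at this
    rw [finrank_homog] at h1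
    omega
  have hmem : ∀ h : LinearMap.ker φ, g.1 * h.1.1 ∈
      V ⊓ (homogeneousSubmodule (Fin 2) K 2).map (LinearMap.mulLeft K g.1) := by
    intro h
    refine ⟨?_, h.1.1, h.1.2, rfl⟩
    have h2 : p2 (mulForms K 3 2 5 rfl g h.1) = 0 := h.2
    have h1 : p1 (mulForms K 3 2 5 rfl g h.1) = 0 := by
      have := hker h.1
      simp only [LinearMap.add_apply, LinearMap.smul_apply, h2, smul_zero, add_zero] at this
      exact this
    exact (hp (mulForms K 3 2 5 rfl g h.1)).2 ⟨h1, h2⟩
  let ψ : LinearMap.ker φ →ₗ[K]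
      ↥(V ⊓ (homogeneousSubmodule (Fin 2) K 2).map (LinearMap.mulLeft K g.1)) :=
    { toFun := fun h => ⟨g.1 * h.1.1, hmem h⟩
      map_add' := fun a b => Subtype.ext (by simp [mul_add])
      map_smul' := fun a b => Subtype.ext (by simp) }
  have hg0' : g.1 ≠ 0 := fun h => hg0 (Subtype.ext h)
  have hψ : Function.Injective ψ := by
    intro a b hab
    have h1 : g.1 * a.1.1 = g.1 * b.1.1 := congrArg Subtype.val hab
    exact Subtype.ext (Subtype.ext (mul_left_cancel₀ hg0' h1))
  exact hk.trans (LinearMap.finrank_le_finrank_of_injective hψ)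

end pencil

section noCubic

variable {K : Type u} [Field K] [IsAlgClosed K]

/-- A 4-dimensional space `V` of quintics separating length-2 subschemes contains no
`g · S_2` with `g` a nonzero cubic. -/
theorem no_cubic_mul_le (V : Submodule K (MvPolynomial (Fin 2) K))
    (hV : V ≤ homogeneousSubmodule (Fin 2) K 5) (hdim : finrank K V = 4)
    (hsep : ∀ e ∈ homogeneousSubmodule (Fin 2) K 2, e ≠ 0 →
      ∀ F ∈ homogeneousSubmodule (Fin 2) K 5, ∃ v ∈ V,
        ∃ h ∈ homogeneousSubmodule (Fin 2) K 3, F = v + e * h)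
    {g : MvPolynomial (Fin 2) K} (hg : g ∈ homogeneousSubmodule (Fin 2) K 3) (hg0 : g ≠ 0)
    (hmul : ∀ h ∈ homogeneousSubmodule (Fin 2) K 2, g * h ∈ V) : False := by
  obtain ⟨l, q, hl, hq, rfl⟩ := factor_cubic ((mem_homogeneousSubmodule _ _).1 hg)
  have hq0 : q ≠ 0 := right_ne_zero_of_mul hg0
  have : Module.Finite K V := Module.finite_of_finrank_pos (by omega)
  set W := (homogeneousSubmodule (Fin 2) K 3).map (LinearMap.mulLeft K q) with hW
  have hWdim : finrank K W = 4 := finrank_map_mulLeft hq0 3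
  have hsup : V ⊔ W = homogeneousSubmodule (Fin 2) K 5 := by
    apply le_antisymm
    · refine sup_le hV ?_
      rintro _ ⟨h, hh, rfl⟩
      exact hq.mul hh
    · intro F hF
      obtain ⟨v, hv, h, hh, rfl⟩ := hsep q hq hq0 F hF
      exact Submodule.add_mem _ (Submodule.mem_sup_left hv)
        (Submodule.mem_sup_right ⟨h, hh, rfl⟩)
  have hinf : finrank K ↥(V ⊓ W) = 2 := by
    have := Submodule.finrank_sup_add_finrank_inf_eq V W
    rw [hsup, finrank_homog, hdim, hWdim] at this
    omega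
  have hle : (homogeneousSubmodule (Fin 2) K 2).map (LinearMap.mulLeft K (l * q)) ≤ V ⊓ W := by
    rintro _ ⟨h, hh, rfl⟩
    refine ⟨hmul h hh, l * h, hl.mul hh, ?_⟩
    simp only [LinearMap.mulLeft_apply]
    ring
  have h3 := finrank_map_mulLeft hg0 2
  have := Submodule.finrank_mono hle
  omega

end noCubic

end Groth.Agent.Lib.BinaryForms75
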