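import Mathlib.Data.Nat.Choose.Sum
import Mathlib.Algebra.BigOperators.Fin

/-!
# The binomial basis `m ↦ C(m + j, j)` of integer-valued polynomials (helper13; Mathlib only)

* `binom_coeff_eq_zero` / `binom_coeff_unique` : the functions `m ↦ C(m+j, j)`, `j ≤ r`, are linearly independent over `ℤ`
  (as functions on `ℕ`, even on `[N, ∞)`).
* `sum_sub_succ_mul_choose` : `Σ_{j ≤ r} (b_j - b_{j+1}) C(m+j, j) = Σ_{i ≤ r} C(m+i-1, i) b_i - b_{r+1} C(m+r, r)`.
-/

set_option autoImplicit false
open Finset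

namespace Groth.Agent.Lib.BinomBasis13

theorem binom_coeff_eq_zero_aux : ∀ (r : ℕ) (a : ℕ → ℤ) (N : ℕ),
    (∀ m : ℕ, N ≤ m → ∑ j ∈ range (r + 1), a j * ((m + j).choose j : ℤ) = 0) →
      ∀ j, j ≤ r → a j = 0
  | 0, a, N, h => by
    intro j hj
    obtain rfl : j = 0 := by omega
    have := h N le_rfl
    simpa using this
  | r + 1, a, N, h => by
    have h' : ∀ m : ℕ, N + 1 ≤ m →
        ∑ j ∈ range (r + 1), a (j + 1) * ((m + j).choose j : ℤ) = 0 := by
      intro m hm
      obtain ⟨m', rfl⟩ : ∃ m', m = m' + 1 := ⟨m - 1, by omega⟩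
      have h1 := h (m' + 1) (by omega)
      have h0 := h m' (by omega)
      rw [Finset.sum_range_succ'] at h1 h0
      have hdiff : ∑ j ∈ range (r + 1), a (j + 1) * ((m' + 1 + (j + 1)).choose (j + 1) : ℤ) -
          ∑ j ∈ range (r + 1), a (j + 1) * ((m' + (j + 1)).choose (j + 1) : ℤ) = 0 := by
        simp only [add_zero, Nat.choose_zero_right, Nat.cast_one, mul_one] at h1 h0
        linarith
      rw [← Finset.sum_sub_distrib] at hdiff
      rw [← hdiff]
      refine Finset.sum_congr rfl fun j _ => ?_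
      have hp : (m' + 1 + (j + 1)).choose (j + 1) =
          (m' + 1 + j).choose j + (m' + (j + 1)).choose (j + 1) := by
        have : m' + 1 + (j + 1) = (m' + 1 + j) + 1 := by ring
        rw [this, Nat.choose_succ_succ]
        congr 2
        omega
      rw [hp]
      push_cast
      ring
    have ih := binom_coeff_eq_zero_aux r (fun j => a (j + 1)) (N + 1) h'
    intro j hj
    rcases Nat.eq_zero_or_pos j with rfl | hpos
    · have h0 := h N le_rfl
      rw [Finset.sum_range_succ'] at h0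
      have hz : ∑ j ∈ range (r + 1), a (j + 1) * ((N + (j + 1)).choose (j + 1) : ℤ) = 0 := by
        refine Finset.sum_eq_zero fun j hj => ?_
        rw [ih j (by have := Finset.mem_range.1 hj; omega), zero_mul]
      rw [hz] at h0
      simpa using h0
    · obtain ⟨j', rfl⟩ : ∃ j', j = j' + 1 := ⟨j - 1, by omega⟩
      exact ih j' (by omega)

/-- The functions `m ↦ C(m + j, j)`, `j ≤ r`, are linearly independent over `ℤ`. -/
theorem binom_coeff_unique (r : ℕ) (a b : Fin (r + 1) → ℤ)
    (h : ∀ m : ℕ, ∑ j : Fin (r + 1), a j * ((m + j).choose j : ℤ) =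
      ∑ j : Fin (r + 1), b j * ((m + j).choose j : ℤ)) : a = b := by
  let c : ℕ → ℤ := fun j => if hj : j < r + 1 then a ⟨j, hj⟩ - b ⟨j, hj⟩ else 0
  have hc : ∀ m : ℕ, 0 ≤ m → ∑ j ∈ range (r + 1), c j * ((m + j).choose j : ℤ) = 0 := by
    intro m _
    rw [← Fin.sum_univ_eq_sum_range (fun j => c j * ((m + j).choose j : ℤ)) (r + 1)]
    have : ∀ j : Fin (r + 1), c j = a j - b j := fun j => by
      have hj : (j : ℕ) < r + 1 := j.2
      simp only [c, hj, dif_pos]
    simp_rw [this, sub_mul]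
    rw [Finset.sum_sub_distrib, h m, sub_self]
  funext j
  have := binom_coeff_eq_zero_aux r c 0 hc j (Nat.lt_succ_iff.1 j.2)
  simp only [c, j.2, dif_pos] at this
  linarith

/-- re-basing from `C(m + i - 1, i)` to `C(m + j, j)` -/
theorem sum_sub_succ_mul_choose (b : ℕ → ℤ) (m : ℕ) : ∀ r : ℕ,
    ∑ j ∈ range (r + 1), (b j - b (j + 1)) * ((m + j).choose j : ℤ) =
      ∑ i ∈ range (r + 1), ((m + i - 1).choose i : ℤ) * b i - b (r + 1) * ((m + r).choose r : ℤ)
  | 0 => by simp
  | r + 1 => by
    rw [Finset.sum_range_succ, sum_sub_succ_mul_choose b m r, Finset.sum_range_succ _ (r + 1)]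
    have hp : (m + (r + 1)).choose (r + 1) = (m + r).choose r + (m + r).choose (r + 1) := by
      have : m + (r + 1) = (m + r) + 1 := by ring
      rw [this, Nat.choose_succ_succ]
    have h2 : m + (r + 1) - 1 = m + r := by omega
    rw [h2, hp]
    push_cast
    ring

end Groth.Agent.Lib.BinomBasis13
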