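import Groth.Agent.Lib.CurveSerreVan54
import Groth.Agent.Lib.CechPushAffine
import Groth.Agent.Lib.H90OXModPushFinite
import Groth.Agent.Lib.H8DenseDim
import Groth.Agent.Lib.DimOneTop42
import Groth.Agent.Lib.EulerLE48
import Groth.Prelude.Def_ClSub2

/-!
# Genus under finite birational-type morphisms of curves (helper54; campaign K6)

Namespace `Groth.Agent.Lib.CurveFinite54`.

* `isClosed_singleton_of_not_mem_dense`: on a locally Noetherian scheme of dimension `≤ 1`, a point outside a dense open
  is closed.
* `stalkLin_surjective_of_basis`.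
* `genus_le_of_finite` (S1566).
-/

set_option autoImplicit false
universe u
open CategoryTheory CategoryTheory.Limits AlgebraicGeometry Opposite TopologicalSpace

namespace Groth.Agent.Lib.CurveFinite54

open Groth.Agent.Lib.ProperFinHyp Groth.Agent.Lib.H90Invertible Groth.Agent.Lib.CohLES
open Groth.Agent.Lib.CurveSerreVan54 Groth.Agent.Lib.ModStalkLin Groth.Agent.Lib.InvMap54
open Groth.Agent.Lib.EulerLE48 Groth.Agent.Lib.H78SecCoord Groth.Agent.Lib.H78TensorGen
open Groth.Agent.Lib.StructureModule Groth.Agent.Lib.ModStalkCoker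

section Top

variable {X : Scheme.{u}} [IsLocallyNoetherian X]

/-- on a locally Noetherian scheme of dimension `≤ 1`, the points outside a dense open are closed -/
theorem isClosed_singleton_of_not_mem_dense (hdim : topologicalKrullDim X ≤ 1) (U : Set X) (hU : IsOpen U)
    (hd : Dense U) (x : X) (hx : x ∉ U) : IsClosed ({x} : Set X) := by
  apply Groth.Agent.Lib.DimOneTop42.isClosed_singleton_of_notMem_genericPoints hdim
  intro hgen
  apply hx
  apply Groth.Agent.Lib.H8DenseDim.mem_of_dense_of_maximal U hU hd
  intro ξ' hξ'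
  -- `closure {x}` is an irreducible component, hence maximal
  have h1 : closure ({x} : Set X) ⊆ closure ({ξ'} : Set X) :=
    closure_minimal (Set.singleton_subset_iff.mpr (specializes_iff_mem_closure.mp hξ')) isClosed_closure
  have h2 : closure ({ξ'} : Set X) ⊆ closure ({x} : Set X) :=
    hgen.2 isIrreducible_singleton.closure h1
  have h3 : x ⤳ ξ' := specializes_iff_mem_closure.mpr (h2 (subset_closure rfl))
  exact (hξ'.antisymm h3).eq

end Top

section Stalk

variable {X : Scheme.{u}} {N L : X.Modules}

/-- surjectivity on a neighbourhood basis of `y` gives surjectivity on the stalk at `y` -/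
lemma stalkLin_surjective_of_basis (φ : N ⟶ L) (y : X)
    (h : ∀ W : X.Opens, y ∈ W → ∃ W' : X.Opens, W' ≤ W ∧ y ∈ W' ∧ Function.Surjective (φ.app W')) :
    Function.Surjective (stalkLin φ y) := by
  intro g
  obtain ⟨W, hyW, t, rfl⟩ := TopCat.Presheaf.exists_germ_eq L.presheaf g
  obtain ⟨W', hW', hyW', hsurj⟩ := h W hyW
  obtain ⟨u, hu⟩ := hsurj (rs L hW' t)
  refine ⟨N.presheaf.germ W' y hyW' u, ?_⟩
  rw [stalkLin_germ, hu]
  exact TopCat.Presheaf.germ_res_apply L.presheaf (homOfLE hW') y hyW' t

end Stalk

section Unit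

variable {X Y : Scheme.{u}} (f : Y ⟶ X)

theorem unitToPush_app (W : X.Opens) (s : Γ(X, W)) :
    (ClSub.unitToPush f).app W (toSec W s) = (f.app W).hom s := rfl

/-- a morphism which is a closed immersion over `U` is surjective on sections over affine opens inside `U` -/
theorem app_surjective_of_le (U : X.Opens) [IsClosedImmersion (f ∣_ U)] (W : X.Opens) (hW : IsAffineOpen W)
    (hWU : W ≤ U) : Function.Surjective (f.app W).hom := by
  have hWeq : U.ι ''ᵁ (U.ι ⁻¹ᵁ W) = W := by
    rw [Scheme.Hom.image_preimage_eq_opensRange_inf, Scheme.Opens.opensRange_ι]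
    exact inf_eq_right.mpr hWU
  have hV : IsAffineOpen (U.ι ⁻¹ᵁ W) := by
    rw [← Scheme.Hom.isAffineOpen_iff_of_isOpenImmersion U.ι, hWeq]
    exact hW
  have h1 : Function.Surjective ((f ∣_ U).app (U.ι ⁻¹ᵁ W)).hom :=
    Scheme.Hom.app_surjective (f ∣_ U) _ hV
  rw [morphismRestrict_app] at h1
  have h2 : Function.Surjective (f.app (U.ι ''ᵁ (U.ι ⁻¹ᵁ W))).hom := by
    intro t
    obtain ⟨s, hs⟩ := h1 ((Y.presheaf.map (eqToHom (image_morphismRestrict_preimage f U (U.ι ⁻¹ᵁ W))).op).hom t)
    refine ⟨s, ?_⟩
    have hinj : Function.Injective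
        (Y.presheaf.map (eqToHom (image_morphismRestrict_preimage f U (U.ι ⁻¹ᵁ W))).op).hom :=
      ((ConcreteCategory.bijective_of_isIso _)).1
    exact hinj hs
  exact hWeq ▸ h2

end Unit

section Main

variable (H : Hyp.{u}) (V : VanHyp.{u}) (k : Type u) [Field k] (X Y : Scheme.{u})
  [X.Over (Spec (CommRingCat.of k))] [Y.Over (Spec (CommRingCat.of k))]
  [IsProper (X ↘ (Spec (CommRingCat.of k)))] (hdim : topologicalKrullDim X ≤ 1)
  (f : Y ⟶ X) [IsFinite f] (hf : f ≫ (X ↘ (Spec (CommRingCat.of k))) = Y ↘ (Spec (CommRingCat.of k)))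
  (U : X.Opens) (hU : Dense (U : Set X)) (hfU : IsClosedImmersion (f ∣_ U))

include H V hdim hf hU hfU in
/-- **S1566**: a finite morphism to a proper curve which is a closed immersion over a dense open does not increase
the genus -/
theorem genus_le_of_finite : Curv2.genus k Y ≤ Curv2.genus k X := by
  have hXN : IsNoetherian X := isNoetherian k X
  have hXl : IsLocallyNoetherian X := inferInstance
  have hYl : IsLocallyNoetherian Y := by
    have : LocallyOfFiniteType (Y ↘ (Spec (CommRingCat.of k))) := by
      rw [← hf]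
      infer_instance
    exact LocallyOfFiniteType.isLocallyNoetherian (Y ↘ (Spec (CommRingCat.of k)))
  have hOX : Coh.IsCoh (Coh.structureModule X) := isCoh_of_isInvertible (isInvertible_structureModule X)
  have hOY : Coh.IsCoh (Coh.structureModule Y) := isCoh_of_isInvertible (isInvertible_structureModule Y)
  have hOYq : (Coh.structureModule Y).IsQuasicoherent := hOY.1
  have hP : Coh.IsCoh ((Scheme.Modules.pushforward f).obj (Coh.structureModule Y)) :=
    Groth.Agent.Lib.H90OXModPushFinite.isCoh_pushforward f _ hOY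
  have hH2 : ∀ K : X.Modules, K.IsQuasicoherent → Subsingleton (Coh.HH X K 2) := fun K _ =>
    V X 1 (by simpa using hdim) K 2 (by norm_num)
  -- the cokernel of the unit is supported at closed points
  have hsupp : ∀ x ∈ CohB1.support (cokernel (ClSub.unitToPush f)), IsClosed ({x} : Set X) := by
    intro x hx
    refine isClosed_singleton_of_not_mem_dense hdim (U : Set X) U.isOpen hU x fun hxU => ?_
    refine ((not_mem_support_cokernel_iff (ClSub.unitToPush f) x).mpr ?_) hx
    refine stalkLin_surjective_of_basis _ x fun W hxW => ?_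
    obtain ⟨W', hW', hxW', hle⟩ := Opens.isBasis_iff_nbhd.1 X.isBasis_affineOpens
      (show x ∈ W ⊓ U from ⟨hxW, hxU⟩)
    refine ⟨W', hle.trans inf_le_left, hxW', fun t => ?_⟩
    obtain ⟨s, hs⟩ := app_surjective_of_le f U W' hW' (hle.trans inf_le_right) t
    exact ⟨toSec W' s, (unitToPush_app f W' s).trans hs⟩
  have hsurj : Function.Surjective (mapₗ k (ClSub.unitToPush f) 1) :=
    map_one_surjective_of_support_cokernel hH2 _ hOX hP (Iso.refl _) hsupp
  have hfin : Module.Finite k (Coh.HH X (Coh.structureModule X) 1) := H k X _ hOX 1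
  have hover : f.IsOver (Spec (CommRingCat.of k)) := ⟨hf⟩
  have hsep : X.IsSeparated := ⟨by
    rw [← terminal.comp_from (X ↘ (Spec (CommRingCat.of k)))]
    infer_instance⟩
  have haff : IsAffineHom (pullback.diagonal (terminal.from X)) := by
    have : IsClosedImmersion (pullback.diagonal (terminal.from X)) :=
      IsSeparated.isClosedImmersion_diagonal
    infer_instance
  obtain ⟨e⟩ := Groth.Agent.Lib.CechPushAffine.nonempty_linearEquiv_push_of_isAffineHom k f
    (Coh.structureModule Y) 1
  unfold Curv2.genus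
  rw [e.finrank_eq]
  exact LinearMap.finrank_le_finrank_of_surjective hsurj

end Main

end Groth.Agent.Lib.CurveFinite54
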