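import Groth.Agent.Lib.EulerChar54
import Groth.Agent.S0047
import Groth.Agent.Lib.H4TwistGamma
import Groth.Agent.Lib.H90QCohLocalization
import Groth.Agent.Lib.H90OXModExact

/-!
# Degrees on proper schemes over a field via Euler characteristics (helper54; campaign K2a)

Namespace `Groth.Agent.Lib.DegCurve54`.  `H : ProperFinHyp.Hyp` is the statement of S0002.

For a MONOMORPHISM `φ : N ⟶ L` of coherent modules on a proper `k`-scheme whose cokernel is supported at closed
points (`hsupp`):
* `euler_eq_add_finrank_cokernel`: `χ(L) = χ(N) + dim_k H^0(coker φ)`;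
* `deg_sub_deg`: `deg L - deg N = dim_k H^0(coker φ)` (`Curv2.deg · · · 1`), `deg_le`;
* `isIso_of_deg_le`: `deg L ≤ deg N ⇒ IsIso φ`;
* `deg_lt_of_mem_support`: a point in the support of the cokernel forces `deg N < deg L`.
Also `isZero_of_isFlasque_of_subsingleton`: a module with flasque underlying sheaf and `H^0 = 0` is zero.
-/

set_option autoImplicit false
universe u

open CategoryTheory CategoryTheory.Limits AlgebraicGeometry TopologicalSpace Opposite

namespace Groth.Agent.Lib.DegCurve54

open Groth.Agent.Lib.EulerChar54 Groth.Agent.Lib.ProperFinHyp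

/-- a module with flasque underlying sheaf and no global sections is zero -/
theorem isZero_of_isFlasque_of_subsingleton {X : Scheme.{u}} (F : X.Modules)
    (hfl : TopCat.Sheaf.IsFlasque (Coh.toAb F)) (h0 : Subsingleton (Coh.HH X F 0)) : IsZero F := by
  have hΓ : Subsingleton Γ(F, ⊤) := (Groth.Agent.Lib.H4Twist.h0Equiv F).symm.subsingleton
  apply Groth.Agent.Lib.H90QCohLocalization.isZero_of_subsingleton_sections
  intro V
  have hepi : Epi ((Coh.toAb F).obj.map (homOfLE (le_top : V ≤ ⊤)).op) := hfl.epi _
  rw [AddCommGrpCat.epi_iff_surjective] at hepi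
  have : Subsingleton ((Coh.toAb F).obj.obj (op ⊤)) := hΓ
  exact hepi.subsingleton

section Main

variable (H : Hyp.{u}) (k : Type u) [Field k] (X : Scheme.{u}) [X.Over (Spec (CommRingCat.of k))]
  [IsProper (X ↘ (Spec (CommRingCat.of k)))]
  {N L : X.Modules} (φ : N ⟶ L) [Mono φ] (hN : Coh.IsCoh N) (hL : Coh.IsCoh L)
  (hsupp : ∀ x ∈ CohB1.support (cokernel φ), IsClosed ({x} : Set X))

include H hN hL hsupp in
/-- `χ(L) = χ(N) + dim H^0(L/N)` for a subobject `N ⊆ L` with quotient supported at closed points. -/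
theorem euler_eq_add_finrank_cokernel :
    Curv2.euler k X L = Curv2.euler k X N + Module.finrank k (Coh.HH X (cokernel φ) 0) := by
  have : IsLocallyNoetherian X :=
    LocallyOfFiniteType.isLocallyNoetherian (X ↘ (Spec (CommRingCat.of k)))
  have : N.IsQuasicoherent := hN.1
  have hQ : Coh.IsCoh (cokernel φ) := Groth.Agent.Lib.H90OXModExact.isCoh_cokernel φ hL
  have hS : (ShortComplex.mk φ (cokernel.π φ) (cokernel.condition φ)).ShortExact :=
    { exact := ShortComplex.exact_cokernel φ }
  have h := euler_add H k X _ hS hN hL hQ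
  rw [euler_eq_finrank_zero k X (cokernel φ)
    (fun i hi => Groth.Agent.S0047.result X _ hQ hsupp i hi)] at h
  exact h

include H hN hL hsupp in
theorem deg_sub_deg :
    Curv2.deg k X L 1 - Curv2.deg k X N 1 = Module.finrank k (Coh.HH X (cokernel φ) 0) := by
  unfold Curv2.deg
  rw [euler_eq_add_finrank_cokernel H k X φ hN hL hsupp]
  ring

include H hN hL hsupp in
theorem deg_le : Curv2.deg k X N 1 ≤ Curv2.deg k X L 1 := by
  have h := deg_sub_deg H k X φ hN hL hsupp
  have : (0 : ℤ) ≤ Module.finrank k (Coh.HH X (cokernel φ) 0) := Int.natCast_nonneg _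
  lia

include H hN hL hsupp in
/-- if the degrees agree (or `deg L ≤ deg N`), the inclusion is an isomorphism -/
theorem isIso_of_deg_le (h : Curv2.deg k X L 1 ≤ Curv2.deg k X N 1) : IsIso φ := by
  have : IsLocallyNoetherian X :=
    LocallyOfFiniteType.isLocallyNoetherian (X ↘ (Spec (CommRingCat.of k)))
  have : N.IsQuasicoherent := hN.1
  have hQ : Coh.IsCoh (cokernel φ) := Groth.Agent.Lib.H90OXModExact.isCoh_cokernel φ hL
  have h1 := deg_sub_deg H k X φ hN hL hsupp
  have h0 : Module.finrank k (Coh.HH X (cokernel φ) 0) = 0 := by lia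
  have hfin : Module.Finite k (Coh.HH X (cokernel φ) 0) := H k X _ hQ 0
  have hsub : Subsingleton (Coh.HH X (cokernel φ) 0) := Module.finrank_zero_iff.mp h0
  have hZ : IsZero (cokernel φ) := isZero_of_isFlasque_of_subsingleton _
    (Groth.Agent.S0047.isFlasque_toAb _ hQ hsupp) hsub
  have : Epi φ := Preadditive.epi_of_isZero_cokernel φ hZ
  exact isIso_of_mono_of_epi φ

include H hN hL hsupp in
/-- if the quotient is nonzero at some point, the degree goes up strictly -/
theorem deg_lt_of_mem_support (x : X) (hx : x ∈ CohB1.support (cokernel φ)) :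
    Curv2.deg k X N 1 < Curv2.deg k X L 1 := by
  by_contra hle
  have := isIso_of_deg_le H k X φ hN hL hsupp (not_lt.mp hle)
  have hZ : IsZero (cokernel φ) := isZero_cokernel_of_epi φ
  have hz : IsZero ((Groth.Agent.Lib.ModStalk.stalkFunctor x).obj (cokernel φ)) :=
    (Groth.Agent.Lib.ModStalk.stalkFunctor x).map_isZero hZ
  exact hx (AddCommGrpCat.subsingleton_of_isZero hz)

end Main

end Groth.Agent.Lib.DegCurve54
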