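import Groth.Agent.Lib.DegPull48b
import Groth.Agent.Lib.CurveFinite54
import Groth.Agent.Lib.QCohBiproduct
import Groth.Agent.Lib.DegCurve54
import Groth.Agent.Lib.H8DenseDim
import Groth.Agent.Lib.H4TwistGamma
import Groth.Agent.Lib.CohLESLinear

/-!
# A birational proper morphism onto a reduced curve with `H⁰` surjective and equal genus is an isomorphism
(helper48; = S1603)

* `app_injective_of_isReduced`: `f^♯` is injective on every open when `f` is an isomorphism over a dense open of a reduced
  scheme.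
* `isIso_of_isAffineHom_of_app_bijective`: an affine morphism with `f^♯` bijective on all opens is an isomorphism.
* `euler_eq_sub_of_van`: `χ(F) = h⁰(F) - h¹(F)` in dimension `≤ 1` (from Grothendieck vanishing, hypothesis form).
* `finrank_HH_zero_le_of_appTop_surjective`.
* `isIso_of_birational_of_genus_eq` (= S1603).
-/

set_option autoImplicit false
universe u
open CategoryTheory CategoryTheory.Limits AlgebraicGeometry Opposite TopologicalSpace

namespace Groth.Agent.Lib.BirIso48

open Groth.Agent.Lib.CurveDeg48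

section Inj

variable {X X' : Scheme.{u}} [IsReduced X] (f : X' ⟶ X) (U : X.Opens) (hU : Dense (U : Set X))
  [IsIso (f ∣_ U)]

include hU in
theorem app_injective_of_isReduced (W : X.Opens) : Function.Injective (f.app W) := by
  have hinj : Function.Injective (f.app W).hom := by
    rw [injective_iff_map_eq_zero]
    intro s hs
    -- the restriction of `s` to `W ⊓ U` vanishes
    have h1 : X.presheaf.map (homOfLE (inf_le_left : W ⊓ U ≤ W)).op s = 0 := by
      apply (app_bijective_of_isIso_restrict f U (W ⊓ U) inf_le_right).1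
      have hnat := ConcreteCategory.congr_hom
        (f.naturality (homOfLE (inf_le_left : W ⊓ U ≤ W)).op) s
      rw [ConcreteCategory.comp_apply, ConcreteCategory.comp_apply] at hnat
      change (f.app (W ⊓ U)).hom _ = (f.app (W ⊓ U)).hom 0
      rw [map_zero]
      refine hnat.trans ?_
      have : (f.app W).hom s = 0 := hs
      change (X'.presheaf.map _).hom ((f.app W).hom s) = 0
      rw [this, map_zero]
    have h2 : X.basicOpen s = ⊥ := by
      by_contra hne
      have hne' : ((X.basicOpen s : X.Opens) : Set X).Nonempty := by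
        rw [Set.nonempty_iff_ne_empty]
        intro h
        exact hne (Opens.ext h)
      obtain ⟨x, hx1, hx2⟩ := hU.inter_open_nonempty _ (X.basicOpen s).isOpen hne'
      have hxW : x ∈ W := X.basicOpen_le s hx1
      have h3 : X.basicOpen (X.presheaf.map (homOfLE (inf_le_left : W ⊓ U ≤ W)).op s) =
          (W ⊓ U) ⊓ X.basicOpen s := X.basicOpen_res s _
      rw [h1, Scheme.basicOpen_zero] at h3
      have : x ∈ ((W ⊓ U) ⊓ X.basicOpen s : X.Opens) := ⟨⟨hxW, hx2⟩, hx1⟩
      rw [← h3] at this
      exact this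
    exact (basicOpen_eq_bot_iff s).mp h2
  exact hinj

end Inj

section AffIso

theorem isIso_of_isAffineHom_of_app_bijective {X Y : Scheme.{u}} (f : X ⟶ Y) [IsAffineHom f]
    (h : ∀ W : Y.Opens, Function.Bijective (f.app W)) : IsIso f := by
  refine HasAffineProperty.of_iSup_eq_top (P := MorphismProperty.isomorphisms Scheme)
    (fun i : Y.affineOpens => i) (iSup_affineOpens_eq_top Y) (fun i => ⟨?_, ?_⟩)
  · exact IsAffineHom.isAffine_preimage _ i.2
  · simp only [Scheme.Hom.appTop, morphismRestrict_app]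
    have h1 : IsIso (f.app (i.1.ι ''ᵁ ⊤)) := (ConcreteCategory.isIso_iff_bijective _).mpr (h _)
    have h2 : IsIso (X.presheaf.map (eqToHom (image_morphismRestrict_preimage f i.1 ⊤)).op) :=
      inferInstance
    exact IsIso.comp_isIso' h1 h2

end AffIso

section Euler

open Groth.Agent.Lib.EulerChar54 Groth.Agent.Lib.EulerNat54

variable (V : Groth.Agent.Lib.EulerLE48.VanHyp.{u}) (k : Type u) [Field k] (X : Scheme.{u})
  [X.Over (Spec (CommRingCat.of k))] [IsNoetherian X]

include V in
theorem euler_eq_sub_of_van (hdim : topologicalKrullDim X ≤ 1) (F : X.Modules) :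
    Curv2.euler k X F =
      (Module.finrank k (Coh.HH X F 0) : ℤ) - (Module.finrank k (Coh.HH X F 1) : ℤ) := by
  rw [euler_eq_sum_range k X F 1 (fun i hi => V X 1 (by simpa using hdim) F i hi)]
  simp [Finset.sum_range_succ, len_eq_finrank]
  ring

end Euler

section H0

open Groth.Agent.Lib.H4Twist Groth.Agent.Lib.CohLES

variable (H : Groth.Agent.Lib.ProperFinHyp.Hyp.{u}) (k : Type u) [Field k] (X X' : Scheme.{u})
  [X.Over (Spec (CommRingCat.of k))] [X'.Over (Spec (CommRingCat.of k))]
  [IsProper (X ↘ (Spec (CommRingCat.of k)))]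
  (f : X' ⟶ X) (hf : f ≫ (X ↘ (Spec (CommRingCat.of k))) = X' ↘ (Spec (CommRingCat.of k)))

/-- `H⁰(X, O_X) ≃ₗ[k] Γ(X, ⊤)` -/
noncomputable def h0LinearEquiv (Y : Scheme.{u}) [Y.Over (Spec (CommRingCat.of k))] :
    letI : Algebra k Γ(Y, ⊤) := (Coh.toGlobal (Y ↘ Spec (CommRingCat.of k))).toAlgebra
    Coh.HH Y (Coh.structureModule Y) 0 ≃ₗ[k] Γ(Y, ⊤) :=
  letI : Algebra k Γ(Y, ⊤) := (Coh.toGlobal (Y ↘ Spec (CommRingCat.of k))).toAlgebra
  { (h0Equiv (Coh.structureModule Y) : Coh.HH Y (Coh.structureModule Y) 0 ≃+ Γ(Y, ⊤)) with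
    map_smul' := by
      intro c x
      rw [smul_over_def]
      exact h0Equiv_smul (Coh.structureModule Y) _ x }

include H hf in
theorem finrank_HH_zero_le_of_appTop_surjective (h0 : Function.Surjective (f.app ⊤).hom) :
    Module.finrank k (Coh.HH X' (Coh.structureModule X') 0) ≤
      Module.finrank k (Coh.HH X (Coh.structureModule X) 0) := by
  let _ : Algebra k Γ(X, ⊤) := (Coh.toGlobal (X ↘ Spec (CommRingCat.of k))).toAlgebra
  let _ : Algebra k Γ(X', ⊤) := (Coh.toGlobal (X' ↘ Spec (CommRingCat.of k))).toAlgebra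
  have hOX := Groth.Agent.Lib.CohFinAmple.isCoh_structureModule X
  have : Module.Finite k (Coh.HH X (Coh.structureModule X) 0) := H k X _ hOX 0
  let φ : Γ(X, ⊤) →ₗ[k] Γ(X', ⊤) :=
    { toFun := (f.app ⊤).hom
      map_add' := map_add _
      map_smul' := by
        intro c s
        rw [Algebra.smul_def, Algebra.smul_def, map_mul]
        congr 1
        change (f.app ⊤).hom (Coh.toGlobal (X ↘ Spec (CommRingCat.of k)) c) =
          Coh.toGlobal (X' ↘ Spec (CommRingCat.of k)) c
        unfold Coh.toGlobal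
        rw [← hf]
        rfl }
  have hφ : Function.Surjective φ := h0
  let ψ : Coh.HH X (Coh.structureModule X) 0 →ₗ[k] Coh.HH X' (Coh.structureModule X') 0 :=
    ((h0LinearEquiv k X').symm.toLinearMap ∘ₗ φ) ∘ₗ (h0LinearEquiv k X).toLinearMap
  have hψ : Function.Surjective ψ :=
    ((h0LinearEquiv k X').symm.surjective.comp hφ).comp (h0LinearEquiv k X).surjective
  exact LinearMap.finrank_le_finrank_of_surjective hψ

end H0

section Main

open Groth.Agent.Lib.InvMap54 Groth.Agent.Lib.CurveVanishing54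

theorem aux_count (t a a' g g' : ℕ) (χP χO χO' : ℤ) (h1 : χP = χO + t) (h2 : χP = χO')
    (h3 : χO = (a : ℤ) - g) (h4 : χO' = (a' : ℤ) - g') (h5 : a' ≤ a) (h6 : g' = g) : t = 0 := by
  omega

variable (H : Groth.Agent.Lib.ProperFinHyp.Hyp.{u}) (V : Groth.Agent.Lib.EulerLE48.VanHyp.{u})
  (k : Type u) [Field k] (X X' : Scheme.{u})
  [X.Over (Spec (CommRingCat.of k))] [X'.Over (Spec (CommRingCat.of k))]
  [IsProper (X ↘ (Spec (CommRingCat.of k)))] [IsReduced X]
  (hdim : topologicalKrullDim X ≤ 1)
  (f : X' ⟶ X) [IsProper f] (hf : f ≫ (X ↘ (Spec (CommRingCat.of k))) = X' ↘ (Spec (CommRingCat.of k)))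
  (U : X.Opens) (hU : Dense (U : Set X)) (hU' : Dense ((f ⁻¹ᵁ U : X'.Opens) : Set X')) [IsIso (f ∣_ U)]

include H V hdim hf hU hU' in
/-- **S1603** -/
theorem isIso_of_birational_of_genus_eq (h0 : Function.Surjective (f.app ⊤).hom)
    (h1 : Curv2.genus k X' = Curv2.genus k X) : IsIso f := by
  haveI hP' : IsProper (X' ↘ (Spec (CommRingCat.of k))) := by
    rw [← hf]
    infer_instance
  haveI := Groth.Agent.Lib.EulerLE48.isNoetherian k X
  haveI := Groth.Agent.Lib.EulerLE48.isNoetherian k X'
  haveI : IsLocallyNoetherian X := Groth.Agent.Lib.EulerLE48.isLocallyNoetherian k X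
  haveI : IsLocallyNoetherian X' := Groth.Agent.Lib.EulerLE48.isLocallyNoetherian k X'
  -- `dim X' ≤ 1`
  have hdim' : topologicalKrullDim X' ≤ 1 := by
    rw [← Groth.Agent.Lib.H8DenseDim.dim_dense_open k X' ((f ⁻¹ᵁ U : X'.Opens) : Set X')
      (f ⁻¹ᵁ U).isOpen hU']
    have hhomeo : IsHomeomorph (f ∣_ U) := (Scheme.homeoOfIso (asIso (f ∣_ U))).isHomeomorph
    have h1 := IsHomeomorph.topologicalKrullDim_eq (f ∣_ U) hhomeo
    have h2 : topologicalKrullDim ↥(U : Set X) ≤ topologicalKrullDim X :=
      topologicalKrullDim_subspace_le X (U : Set X)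
    exact (le_of_eq h1).trans (h2.trans hdim)
  haveI := isFinite_of_isIso_over_dense k X X' hdim' f hf U hU'
  haveI hmono : Mono (ClSub.unitToPush f) :=
    Groth.Agent.Lib.QCohBiproduct.mono_of_injective_app (ClSub.unitToPush f)
      (fun W => app_injective_of_isReduced f U hU W)
  have hOX := Groth.Agent.Lib.CohFinAmple.isCoh_structureModule X
  have hOX' := Groth.Agent.Lib.CohFinAmple.isCoh_structureModule X'
  haveI := hOX'.1
  haveI := hOX.1
  have hP : Coh.IsCoh ((Scheme.Modules.pushforward f).obj (Coh.structureModule X')) :=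
    Groth.Agent.Lib.H90OXModPushFinite.isCoh_pushforward f _ hOX'
  obtain ⟨-, hC⟩ := support_kernel_cokernel_unitToPush_subset (X := X) (X' := X') f U
  have hcl : ∀ x ∈ (U : Set X)ᶜ, IsClosed ({x} : Set X) := fun x hx =>
    Groth.Agent.Lib.CurveFinite54.isClosed_singleton_of_not_mem_dense hdim (U : Set X) U.isOpen hU x hx
  have hsupp : ∀ x ∈ CohB1.support (cokernel (ClSub.unitToPush f)), IsClosed ({x} : Set X) :=
    fun x hx => hcl x (hC hx)
  have e1 := Groth.Agent.Lib.DegCurve54.euler_eq_add_finrank_cokernel H k X (ClSub.unitToPush f)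
    hOX hP hsupp
  have e2 := euler_pushforward_eq k X X' f hf (Coh.structureModule X')
  have e3 := euler_eq_sub_of_van V k X hdim (Coh.structureModule X)
  have e4 := euler_eq_sub_of_van V k X' hdim' (Coh.structureModule X')
  have e5 := finrank_HH_zero_le_of_appTop_surjective H k X X' f hf h0
  have ht : Module.finrank k (Coh.HH X (cokernel (ClSub.unitToPush f)) 0) = 0 :=
    aux_count _ _ _ _ _ _ _ _ e1 e2 e3 e4 e5 h1
  have hTc : Coh.IsCoh (cokernel (ClSub.unitToPush f)) :=
    Groth.Agent.Lib.H90OXModExact.isCoh_cokernel _ hP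
  haveI : Module.Finite k (Coh.HH X (cokernel (ClSub.unitToPush f)) 0) := H k X _ hTc 0
  have hsub : Subsingleton (Coh.HH X (cokernel (ClSub.unitToPush f)) 0) :=
    Module.finrank_zero_iff.mp ht
  have hfl := isFlasque_of_support_subset (cokernel (ClSub.unitToPush f)) ((U : Set X)ᶜ)
    U.isOpen.isClosed_compl hcl hC
  have hz : IsZero (cokernel (ClSub.unitToPush f)) :=
    Groth.Agent.Lib.DegCurve54.isZero_of_isFlasque_of_subsingleton _ hfl hsub
  haveI : Epi (ClSub.unitToPush f) := Preadditive.epi_of_isZero_cokernel _ hz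
  haveI : IsIso (ClSub.unitToPush f) := isIso_of_mono_of_epi _
  apply isIso_of_isAffineHom_of_app_bijective
  intro W
  have hbij : Function.Bijective ((ClSub.unitToPush f).app W) :=
    ConcreteCategory.bijective_of_isIso ((ClSub.unitToPush f).app W)
  exact hbij

end Main

end Groth.Agent.Lib.BirIso48
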