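import Mathlib.AlgebraicGeometry.Morphisms.SchemeTheoreticallyDominant
import Groth.Prelude.Def_W4c6modpairsegaMP
import Groth.Agent.Lib.IdealComap
import Groth.Agent.Lib.RelCartier

/-!
# Effective Cartier ideal sheaves: flat pull-back, interior, scheme-theoretic density (helper96)

* `isEffCartierIdeal_comap_of_flat`: the inverse image of an effective Cartier ideal sheaf along a flat
  morphism is effective Cartier.
* `interior_comap`: the interior of `I.comap f` is the preimage of the interior of `I`.
* `interior_mono`: `I ≤ J → interior I ≤ interior J`... (supports are antitone).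
* `isSchemeTheoreticallyDominant_interior_ι`: the complement of an effective Cartier divisor is
  scheme-theoretically dense.
* `isIso_imageι`: the scheme-theoretic image of a scheme-theoretically dominant morphism is everything.
-/

set_option autoImplicit false
universe u
open CategoryTheory CategoryTheory.Limits AlgebraicGeometry TopologicalSpace

namespace Groth.Agent.Lib.EffCartier96

variable {X Y : Scheme.{u}}

/-- Local generator of an effective Cartier ideal on an arbitrarily small affine neighbourhood. -/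
theorem exists_generator_le (I : Y.IdealSheafData) (hI : BlowUp.IsEffCartierIdeal I) (y : Y)
    (V : Y.Opens) (hy : y ∈ V) :
    ∃ W : Y.affineOpens, y ∈ W.1 ∧ W.1 ≤ V ∧ ∃ a : Γ(Y, W.1), a ∈ nonZeroDivisors Γ(Y, W.1) ∧
      I.ideal W = Ideal.span {a} := by
  obtain ⟨U, hyU, a, ha, hIa⟩ := hI y
  obtain ⟨_, ⟨W, hW, rfl⟩, hyW, hWle⟩ :=
    Y.isBasis_affineOpens.exists_subset_of_mem_open (show y ∈ (U.1 ⊓ V : Y.Opens) from ⟨hyU, hy⟩)
      (U.1 ⊓ V).2
  have hWU : (⟨W, hW⟩ : Y.affineOpens) ≤ U := fun z hz => (hWle hz).1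
  obtain ⟨h1, h2⟩ := Groth.Agent.Lib.RelCartier.cartier_restrict I hWU a ha hIa
  exact ⟨⟨W, hW⟩, hyW, fun z hz => (hWle hz).2, _, h1, h2⟩

/-- The inverse image of an effective Cartier ideal sheaf along a flat morphism is effective Cartier. -/
theorem isEffCartierIdeal_comap_of_flat (I : Y.IdealSheafData) (hI : BlowUp.IsEffCartierIdeal I)
    (f : X ⟶ Y) [Flat f] : BlowUp.IsEffCartierIdeal (I.comap f) := by
  intro x
  obtain ⟨U, hxU, a, ha, hIa⟩ := hI (f x)
  obtain ⟨_, ⟨W, hW, rfl⟩, hxW, hWle⟩ :=
    X.isBasis_affineOpens.exists_subset_of_mem_open (show x ∈ f ⁻¹ᵁ U.1 from hxU) (f ⁻¹ᵁ U.1).2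
  refine ⟨⟨W, hW⟩, hxW, (f.appLE U.1 W hWle).hom a, ?_, ?_⟩
  · exact Groth.Agent.Lib.RelCartier.map_mem_nonZeroDivisors_of_flat _
      (Flat.flat_appLE f U.2 hW hWle) a ha
  · rw [Groth.Agent.Lib.IdealComap.ideal_comap I f U.1 U.2 W hW hWle]
    change Ideal.map _ (I.ideal U) = _
    rw [hIa, Ideal.map_span, Set.image_singleton]

theorem interior_comap (I : Y.IdealSheafData) (f : X ⟶ Y) :
    ModPair.interior (I.comap f) = f ⁻¹ᵁ ModPair.interior I := by
  ext x
  simp only [ModPair.interior, Scheme.IdealSheafData.support_comap]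
  rfl

theorem interior_mono {I J : Y.IdealSheafData} (h : I ≤ J) : ModPair.interior I ≤ ModPair.interior J := by
  intro x hx hxJ
  exact hx (Scheme.IdealSheafData.gc.monotone_l h hxJ)

/-- A morphism all of whose maps on sections over affine opens are injective is
scheme-theoretically dominant. -/
theorem isSchemeTheoreticallyDominant_of_app_injective (f : X ⟶ Y)
    (h : ∀ U : Y.affineOpens, Function.Injective (f.app U.1)) : IsSchemeTheoreticallyDominant f := by
  rw [isSchemeTheoreticallyDominant_iff, eq_bot_iff]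
  intro U
  refine (f.ideal_ker_le U).trans ?_
  rw [(RingHom.injective_iff_ker_eq_bot _).mp (h U)]
  simp

/-- The complement of an effective Cartier divisor is scheme-theoretically dense. -/
theorem isSchemeTheoreticallyDominant_interior_ι (I : Y.IdealSheafData)
    (hI : BlowUp.IsEffCartierIdeal I) : IsSchemeTheoreticallyDominant (ModPair.interior I).ι := by
  apply isSchemeTheoreticallyDominant_of_app_injective
  intro V
  rw [injective_iff_map_eq_zero]
  intro s hs
  refine Y.IsSheaf.section_ext fun y hy => ?_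
  obtain ⟨W, hyW, hWV, a, ha, hIa⟩ := exists_generator_le I hI y V.1 hy
  refine ⟨W.1, hWV, hyW, ?_⟩
  rw [map_zero]
  -- the basic open of `a` lies in the interior
  have hD : Y.basicOpen a ≤ (ModPair.interior I).ι ''ᵁ ((ModPair.interior I).ι ⁻¹ᵁ V.1) := by
    intro z hz
    have hzW : z ∈ W.1 := Y.basicOpen_le a hz
    have hzI : z ∈ ModPair.interior I := by
      intro hzs
      have := (Scheme.IdealSheafData.mem_support_iff_of_mem (I := I) (U := W) hzW).mp hzs
      rw [hIa, Scheme.mem_zeroLocus_iff] at this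
      exact this a (Ideal.subset_span rfl) hz
    rw [Scheme.Hom.image_preimage_eq_opensRange_inf, Scheme.Opens.opensRange_ι]
    exact ⟨hzI, hWV hzW⟩
  -- hence `s` vanishes on `D(a)`
  have hs' : Y.presheaf.map (homOfLE ((Y.basicOpen_le a).trans hWV)).op s = 0 := by
    have hle : (ModPair.interior I).ι ''ᵁ ((ModPair.interior I).ι ⁻¹ᵁ V.1) ≤ V.1 :=
      Set.image_preimage_subset _ _
    have hs2 : Y.presheaf.map (homOfLE hle).op s = 0 := hs
    have : Y.presheaf.map (homOfLE ((Y.basicOpen_le a).trans hWV)).op =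
        Y.presheaf.map (homOfLE hle).op ≫ Y.presheaf.map (homOfLE hD).op := by
      rw [← Functor.map_comp]; rfl
    rw [this, CommRingCat.comp_apply, hs2, map_zero]
  -- so `a ^ n * s|_W = 0`
  have hloc := W.2.isLocalization_basicOpen a
  have h0 : algebraMap Γ(Y, W.1) Γ(Y, Y.basicOpen a) (Y.presheaf.map (homOfLE hWV).op s) = 0 := by
    have : Y.presheaf.map (homOfLE ((Y.basicOpen_le a).trans hWV)).op =
        Y.presheaf.map (homOfLE hWV).op ≫ Y.presheaf.map (homOfLE (Y.basicOpen_le a)).op := by
      rw [← Functor.map_comp]; rfl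
    rw [this, CommRingCat.comp_apply] at hs'
    exact hs'
  obtain ⟨⟨_, n, rfl⟩, hn⟩ := (IsLocalization.map_eq_zero_iff (Submonoid.powers a) _ _).mp h0
  exact (pow_mem ha n).2 _ (by rw [mul_comm]; exact hn) |> fun h => by simpa using h

/-- The scheme-theoretic image of a scheme-theoretically dominant morphism is the whole target. -/
theorem isIso_imageι (f : X ⟶ Y) [IsSchemeTheoreticallyDominant f] : IsIso f.imageι := by
  have h : f.ker = ⊥ := f.ker_eq_bot
  change IsIso f.ker.subschemeι
  rw [h]
  infer_instance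

end Groth.Agent.Lib.EffCartier96
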