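import Groth.Agent.Lib.ModPairClosure68
import Groth.Agent.Lib.EffCartier96
import Mathlib.AlgebraicGeometry.Morphisms.IsIso
import Mathlib.AlgebraicGeometry.Morphisms.OpenImmersion

/-!
# Tools for ambient products of modulus pairs (helper68)

* `le_ker_of_dominant`: if `w : W' ⟶ W` is scheme-theoretically dominant and `w ≫ h = k ≫ j`
  then `j.ker ≤ h.ker` (so `h` factors through the scheme-theoretic image of `j`).
* `interior_le_preimage_of_isAmbient`, `interior_eq_preimage_of_isMinimal`.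
* `isSchemeTheoreticallyDominant_of_range_toImage_subset`: an open of the scheme-theoretic image
  of a quasi-compact `j` containing the image of `j` is scheme-theoretically dense.
* `exists_lift_mprod`: the universal property of `ModPair.mprod` with respect to modulus pairs.
-/

set_option autoImplicit false
universe u
open CategoryTheory CategoryTheory.Limits AlgebraicGeometry TopologicalSpace

namespace Groth.Agent.Lib.ModPairProd68

open Groth.Agent.Lib.ModPairClosure68

theorem le_ker_of_dominant {O P W W' : Scheme.{u}} (j : O ⟶ P) (h : W ⟶ P) (w : W' ⟶ W)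
    [IsSchemeTheoreticallyDominant w] (k : W' ⟶ O) (hk : w ≫ h = k ≫ j) : j.ker ≤ h.ker := by
  have h1 : j.ker ≤ (k ≫ j).ker := Scheme.Hom.le_ker_comp k j
  rw [← hk, Scheme.Hom.ker_comp, IsSchemeTheoreticallyDominant.ker_eq_bot w,
    Scheme.IdealSheafData.map_bot] at h1
  exact h1

theorem interior_le_preimage_of_isAmbient {X Y : Scheme.{u}} (I : X.IdealSheafData)
    (J : Y.IdealSheafData) (f : X ⟶ Y) (hf : ModPair.IsAmbient I J f) :
    ModPair.interior I ≤ f ⁻¹ᵁ ModPair.interior J := by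
  intro x hx hJ
  apply hx
  have h1 : (J.comap f).support ≤ I.support := Scheme.IdealSheafData.support_antitone hf
  apply h1
  rw [Scheme.IdealSheafData.support_comap]
  exact hJ

theorem interior_eq_preimage_of_isMinimal {X Y : Scheme.{u}} (I : X.IdealSheafData)
    (J : Y.IdealSheafData) (f : X ⟶ Y) (hf : ModPair.IsMinimal I J f) :
    ModPair.interior I = f ⁻¹ᵁ ModPair.interior J := by
  have hf' : I = J.comap f := hf
  ext x
  show x ∉ I.support ↔ f.base x ∉ J.support
  rw [hf', Scheme.IdealSheafData.support_comap]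
  rfl

theorem isSchemeTheoreticallyDominant_of_range_toImage_subset {O P : Scheme.{u}} (j : O ⟶ P)
    [QuasiCompact j] (V : j.image.Opens) (hV : Set.range j.toImage.base ⊆ V) :
    IsSchemeTheoreticallyDominant V.ι := by
  have hsub' : Set.range j.toImage.base ⊆ Set.range V.ι.base := by simpa using hV
  have hfac : j.toImage = IsOpenImmersion.lift V.ι j.toImage hsub' ≫ V.ι :=
    (IsOpenImmersion.lift_fac _ _ _).symm
  constructor
  have h1 := Scheme.Hom.le_ker_comp (IsOpenImmersion.lift V.ι j.toImage hsub') V.ι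
  rw [← hfac, ker_toImage_eq_bot j] at h1
  exact le_bot_iff.mp h1

/-- The universal property of the ambient product `ModPair.mprod` for modulus pairs: a pair of
ambient morphisms from an effective Cartier pair factors uniquely through `mprod`. -/
theorem existsUnique_lift_mprod {X S T W : Scheme.{u}} (f : X ⟶ S) (g : T ⟶ S)
    (I : X.IdealSheafData) (J : T.IdealSheafData) (IW : W.IdealSheafData)
    (hW : BlowUp.IsEffCartierIdeal IW) (b : W ⟶ X) (a : W ⟶ T)
    (hb : ModPair.IsAmbient IW I b) (ha : ModPair.IsAmbient IW J a) (hab : b ≫ f = a ≫ g) :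
    ∃! c : W ⟶ ModPair.mprod f g I J,
      c ≫ ModPair.mprodι f g I J ≫ pullback.fst f g = b ∧
        c ≫ ModPair.mprodι f g I J ≫ pullback.snd f g = a := by
  set O := ModPair.prodInterior f g I J with hO
  let h : W ⟶ pullback f g := pullback.lift b a hab
  have hdom : IsSchemeTheoreticallyDominant (ModPair.interior IW).ι :=
    Groth.Agent.Lib.EffCartier96.isSchemeTheoreticallyDominant_interior_ι IW hW
  have hsub : Set.range ((ModPair.interior IW).ι ≫ h).base ⊆ Set.range O.ι.base := by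
    rintro _ ⟨z, rfl⟩
    rw [Scheme.Opens.range_ι]
    have hz : z.1 ∈ ModPair.interior IW := z.2
    refine ⟨?_, ?_⟩
    · show (pullback.fst f g).base ((((ModPair.interior IW).ι ≫ h)).base z) ∈ ModPair.interior I
      rw [← Scheme.Hom.comp_apply, Category.assoc, pullback.lift_fst]
      exact interior_le_preimage_of_isAmbient IW I b hb hz
    · show (pullback.snd f g).base ((((ModPair.interior IW).ι ≫ h)).base z) ∈ ModPair.interior J
      rw [← Scheme.Hom.comp_apply, Category.assoc, pullback.lift_snd]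
      exact interior_le_preimage_of_isAmbient IW J a ha hz
  let k := IsOpenImmersion.lift O.ι ((ModPair.interior IW).ι ≫ h) hsub
  have hk : (ModPair.interior IW).ι ≫ h = k ≫ O.ι := (IsOpenImmersion.lift_fac _ _ _).symm
  have hker : (ModPair.mprodι f g I J).ker ≤ h.ker := by
    have h1 : (ModPair.mprodι f g I J).ker = O.ι.ker := by
      show O.ι.imageι.ker = O.ι.ker
      rw [Scheme.Hom.imageι, Scheme.IdealSheafData.ker_subschemeι]
    rw [h1]
    exact le_ker_of_dominant O.ι h (ModPair.interior IW).ι k hk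
  refine ⟨IsClosedImmersion.lift (ModPair.mprodι f g I J) h hker, ⟨?_, ?_⟩, ?_⟩
  · rw [← Category.assoc, IsClosedImmersion.lift_fac, pullback.lift_fst]
  · rw [← Category.assoc, IsClosedImmersion.lift_fac, pullback.lift_snd]
  · rintro c ⟨hc1, hc2⟩
    rw [← cancel_mono (ModPair.mprodι f g I J), IsClosedImmersion.lift_fac]
    apply pullback.hom_ext
    · rw [Category.assoc, hc1, pullback.lift_fst]
    · rw [Category.assoc, hc2, pullback.lift_snd]

/-- Lifting an open immersion into the preimage of an open. -/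
theorem exists_lift_preimage {X P V : Scheme.{u}} (p : P ⟶ X) (U : X.Opens) (c : V ⟶ P)
    [IsOpenImmersion c] (hc : ∀ v : V, p.base (c.base v) ∈ U) :
    ∃ i : V ⟶ (p ⁻¹ᵁ U : Scheme.{u}), IsOpenImmersion i ∧ i ≫ (p ⁻¹ᵁ U).ι = c := by
  have hsub : Set.range c.base ⊆ Set.range (p ⁻¹ᵁ U).ι.base := by
    rintro _ ⟨v, rfl⟩
    simpa using hc v
  refine ⟨IsOpenImmersion.lift (p ⁻¹ᵁ U).ι c hsub, ?_, IsOpenImmersion.lift_fac _ _ _⟩
  have : IsOpenImmersion (IsOpenImmersion.lift (p ⁻¹ᵁ U).ι c hsub ≫ (p ⁻¹ᵁ U).ι) := by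
    rw [IsOpenImmersion.lift_fac]; infer_instance
  exact IsOpenImmersion.of_comp _ (p ⁻¹ᵁ U).ι

/-- If `s` is an isomorphism over the open `U`, so is its base change over the preimage of `U`. -/
theorem isIso_snd_morphismRestrict {X S T : Scheme.{u}} (s : X ⟶ S) (g : T ⟶ S) (U : S.Opens)
    [IsIso (s ∣_ U)] : IsIso (pullback.snd s g ∣_ (g ⁻¹ᵁ U)) := by
  have hA := isPullback_morphismRestrict (pullback.snd s g) (g ⁻¹ᵁ U)
  have hB : IsPullback (pullback.snd s g) (pullback.fst s g) g s :=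
    (IsPullback.of_hasPullback s g).flip
  have hbig := hA.paste_vert hB
  have hC := isPullback_morphismRestrict s U
  have hsub : Set.range ((pullback.snd s g ⁻¹ᵁ (g ⁻¹ᵁ U)).ι ≫ pullback.fst s g).base ⊆
      Set.range (s ⁻¹ᵁ U).ι.base := by
    rintro _ ⟨z, rfl⟩
    rw [Scheme.Opens.range_ι]
    show s.base (((pullback.snd s g ⁻¹ᵁ (g ⁻¹ᵁ U)).ι ≫ pullback.fst s g).base z) ∈ U
    rw [← Scheme.Hom.comp_apply, Category.assoc, pullback.condition, ← Category.assoc,
      Scheme.Hom.comp_apply]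
    exact z.2
  let v := IsOpenImmersion.lift (s ⁻¹ᵁ U).ι
    ((pullback.snd s g ⁻¹ᵁ (g ⁻¹ᵁ U)).ι ≫ pullback.fst s g) hsub
  have hv : v ≫ (s ⁻¹ᵁ U).ι = (pullback.snd s g ⁻¹ᵁ (g ⁻¹ᵁ U)).ι ≫ pullback.fst s g :=
    IsOpenImmersion.lift_fac _ _ _
  have hg : (g ∣_ U) ≫ U.ι = (g ⁻¹ᵁ U).ι ≫ g := morphismRestrict_ι g U
  rw [← hv, ← hg] at hbig
  have htop : IsPullback (pullback.snd s g ∣_ (g ⁻¹ᵁ U)) v (g ∣_ U) (s ∣_ U) := by
    refine IsPullback.of_bot hbig ?_ hC
    rw [← cancel_mono U.ι, Category.assoc, Category.assoc, morphismRestrict_ι s U]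
    exact hbig.w.trans (Category.assoc _ _ _)
  exact htop.isIso_fst_of_isIso

/-- A criterion for a morphism to be an isomorphism over an open `U`: there is an open chart
`c : O ⟶ Y` with image `q⁻¹(U)` such that `c ≫ q` is an open immersion with image `U`. -/
theorem isIso_morphismRestrict_of_chart {Y T O : Scheme.{u}} (q : Y ⟶ T) (U : T.Opens)
    (c : O ⟶ Y) [IsOpenImmersion c] [IsOpenImmersion (c ≫ q)]
    (hc : Set.range c.base = q.base ⁻¹' (U : Set T))
    (hcq : Set.range (c ≫ q).base = (U : Set T)) : IsIso (q ∣_ U) := by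
  obtain ⟨i, hi, hif⟩ := exists_lift_preimage q U c (by
    intro v
    have : c.base v ∈ q.base ⁻¹' (U : Set T) := hc ▸ ⟨v, rfl⟩
    exact this)
  set φ := (q ⁻¹ᵁ U).ι ≫ q with hφ
  have hiφ : i ≫ φ = c ≫ q := by rw [hφ, ← Category.assoc, hif]
  have hpts : ∀ y : (q ⁻¹ᵁ U : Scheme.{u}), ∃ o, i.base o = y := by
    intro y
    have hy : y.1 ∈ q.base ⁻¹' (U : Set T) := y.2
    rw [← hc] at hy
    obtain ⟨o, ho⟩ := hy
    refine ⟨o, ?_⟩
    apply (q ⁻¹ᵁ U).ι.isOpenEmbedding.injective
    rw [← Scheme.Hom.comp_apply, hif]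
    exact ho
  have hcqinj : Function.Injective (c ≫ q).base := (c ≫ q).isOpenEmbedding.injective
  have hφi : ∀ o, φ.base (i.base o) = (c ≫ q).base o := by
    intro o
    rw [← Scheme.Hom.comp_apply, hiφ]
  have hφinj : Function.Injective φ.base := by
    intro y y' hyy
    obtain ⟨o, rfl⟩ := hpts y
    obtain ⟨o', rfl⟩ := hpts y'
    rw [hφi, hφi] at hyy
    rw [hcqinj hyy]
  have hφoi : IsOpenImmersion φ := by
    apply IsOpenImmersion.of_forall_source_exists φ hφinj
    intro y
    obtain ⟨o, rfl⟩ := hpts y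
    exact ⟨_, i, hi, ⟨o, rfl⟩, by rw [hiφ]; infer_instance⟩
  have hres : (q ∣_ U) ≫ U.ι = φ := morphismRestrict_ι q U
  have hoi : IsOpenImmersion (q ∣_ U) := by
    have : IsOpenImmersion ((q ∣_ U) ≫ U.ι) := by rw [hres]; exact hφoi
    exact IsOpenImmersion.of_comp _ U.ι
  rw [isIso_iff_isOpenImmersion_and_surjective]
  refine ⟨hoi, ⟨fun u => ?_⟩⟩
  have hu : u.1 ∈ Set.range (c ≫ q).base := by rw [hcq]; exact u.2
  obtain ⟨o, ho⟩ := hu
  refine ⟨i.base o, ?_⟩
  apply U.ι.isOpenEmbedding.injective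
  rw [← Scheme.Hom.comp_apply, hres, hφi, ho]
  rfl

end Groth.Agent.Lib.ModPairProd68
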