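import Mathlib.AlgebraicGeometry.Gluing
import Mathlib.AlgebraicGeometry.Restrict
import Mathlib.AlgebraicGeometry.Cover.Open

/-!
# Gluing morphisms along an open cover, with compatibility checked locally

`existsUnique_glue`: for an open cover `𝒰` of `X` and morphisms `g i : 𝒰.X i ⟶ Z`, if any two points
`x : 𝒰.X i`, `x' : 𝒰.X i'` with the same image in `X` admit a common "refinement" `W` (an open
immersion `a : W ⟶ 𝒰.X i` hitting `x`, and `b : W ⟶ 𝒰.X i'`, with `a ≫ 𝒰.f i = b ≫ 𝒰.f i'`) on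
which `g i` and `g i'` agree, then the `g i` glue uniquely to `h : X ⟶ Z`.
-/

set_option autoImplicit false

universe u

open CategoryTheory CategoryTheory.Limits AlgebraicGeometry TopologicalSpace

namespace Groth.Agent.Lib.ImmersionGlue

variable {X Z : Scheme.{u}}

/-- Two morphisms that agree on open immersions whose ranges cover `X` are equal. -/
theorem hom_ext_of_forall_isOpenImmersion (f g : X ⟶ Z)
    (H : ∀ x : X, ∃ (W : Scheme.{u}) (j : W ⟶ X), IsOpenImmersion j ∧ x ∈ Set.range j ∧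
      j ≫ f = j ≫ g) : f = g := by
  refine Scheme.hom_ext_of_forall _ _ fun x => ?_
  obtain ⟨W, j, hj, hx, e⟩ := H x
  refine ⟨j.opensRange, hx, ?_⟩
  rw [← cancel_epi j.isoOpensRange.hom, ← Category.assoc, ← Category.assoc,
    Scheme.Hom.isoOpensRange_hom_ι, e]

theorem fst_comp_eq_snd_comp (𝒰 : Scheme.OpenCover.{u} X) (g : ∀ i, 𝒰.X i ⟶ Z)
    (hg : ∀ (i i' : 𝒰.I₀) (x : 𝒰.X i) (x' : 𝒰.X i'), 𝒰.f i x = 𝒰.f i' x' →
      ∃ (W : Scheme.{u}) (a : W ⟶ 𝒰.X i) (b : W ⟶ 𝒰.X i'), IsOpenImmersion a ∧ x ∈ Set.range a ∧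
        a ≫ 𝒰.f i = b ≫ 𝒰.f i' ∧ a ≫ g i = b ≫ g i') (i i' : 𝒰.I₀) :
    pullback.fst (𝒰.f i) (𝒰.f i') ≫ g i = pullback.snd (𝒰.f i) (𝒰.f i') ≫ g i' := by
  refine hom_ext_of_forall_isOpenImmersion _ _ fun z => ?_
  have hz : 𝒰.f i (pullback.fst (𝒰.f i) (𝒰.f i') z) = 𝒰.f i' (pullback.snd (𝒰.f i) (𝒰.f i') z) := by
    rw [← Scheme.Hom.comp_apply, ← Scheme.Hom.comp_apply, pullback.condition]
  obtain ⟨W, a, b, ha, ⟨w, hw⟩, hab, hgab⟩ := hg i i' _ _ hz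
  let l : W ⟶ pullback (𝒰.f i) (𝒰.f i') := pullback.lift a b hab
  have hl : IsOpenImmersion (l ≫ pullback.fst (𝒰.f i) (𝒰.f i')) := by
    rw [pullback.lift_fst]; exact ha
  have hl' : IsOpenImmersion l := IsOpenImmersion.of_comp l (pullback.fst (𝒰.f i) (𝒰.f i'))
  refine ⟨W, l, hl', ⟨w, ?_⟩, ?_⟩
  · apply (pullback.fst (𝒰.f i) (𝒰.f i')).isOpenEmbedding.injective
    rw [← Scheme.Hom.comp_apply, pullback.lift_fst, hw]
  · rw [pullback.lift_fst_assoc, pullback.lift_snd_assoc, hgab]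

/-- Gluing morphisms along an open cover, compatibility being checked on local refinements. -/
theorem existsUnique_glue (𝒰 : Scheme.OpenCover.{u} X) (g : ∀ i, 𝒰.X i ⟶ Z)
    (hg : ∀ (i i' : 𝒰.I₀) (x : 𝒰.X i) (x' : 𝒰.X i'), 𝒰.f i x = 𝒰.f i' x' →
      ∃ (W : Scheme.{u}) (a : W ⟶ 𝒰.X i) (b : W ⟶ 𝒰.X i'), IsOpenImmersion a ∧ x ∈ Set.range a ∧
        a ≫ 𝒰.f i = b ≫ 𝒰.f i' ∧ a ≫ g i = b ≫ g i') :
    ∃! h : X ⟶ Z, ∀ i, 𝒰.f i ≫ h = g i := by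
  have compat := fst_comp_eq_snd_comp 𝒰 g hg
  refine ⟨𝒰.glueMorphisms g compat, fun i => 𝒰.ι_glueMorphisms g compat i, ?_⟩
  intro h' hh'
  refine 𝒰.hom_ext _ _ fun i => ?_
  rw [hh' i, 𝒰.ι_glueMorphisms g compat i]

end Groth.Agent.Lib.ImmersionGlue
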