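import Mathlib

/-!
# Domain of definition of finitely many sections (helper68)

`P` a scheme, `U' ≤ N₀` opens with `U'` schematically dense in `N₀` (`DenseIn`: `U'.ι.app O` is injective
for `O ≤ N₀`), `γ j ∈ Γ(U', ⊤)`.  `dom N₀ U' γ` is the largest open of `N₀` to which all `γ j` extend
(`dom_mem`).
-/

set_option autoImplicit false

universe u

open CategoryTheory AlgebraicGeometry TopologicalSpace Opposite

namespace Groth.Agent.Lib.QDomDom68

variable {P : Scheme.{u}}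

theorem res_res {X : Scheme.{u}} {A B C : X.Opens} (h1 : B ≤ A) (h2 : C ≤ B) (s : Γ(X, A)) :
    X.presheaf.map (homOfLE h2).op (X.presheaf.map (homOfLE h1).op s) =
      X.presheaf.map (homOfLE (h2.trans h1)).op s := by
  rw [← CommRingCat.comp_apply, ← Functor.map_comp]
  rfl

/-- Naturality of `f.app` with respect to restriction, elementwise. -/
theorem app_res {X Y : Scheme.{u}} (f : X ⟶ Y) {A B : Y.Opens} (h : B ≤ A) (s : Γ(Y, A)) :
    f.app B (Y.presheaf.map (homOfLE h).op s) =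
      X.presheaf.map (homOfLE (show f ⁻¹ᵁ B ≤ f ⁻¹ᵁ A from fun _ hx => h hx)).op (f.app A s) := by
  have := f.naturality (homOfLE h).op
  have h2 := congrArg (fun φ => φ.hom s) this
  simp only [CommRingCat.comp_apply] at h2
  exact h2

/-- `U'` is schematically dense inside `N₀`. -/
def DenseIn (N₀ U' : P.Opens) : Prop :=
  ∀ O : P.Opens, O ≤ N₀ → Function.Injective (U'.ι.app O)

variable (N₀ U' : P.Opens) {ι : Type*} (γ : ι → Γ(U', ⊤))

/-- The set of opens of `N₀` to which all the sections `γ j` extend. -/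
def ExtSet : Set P.Opens :=
  {O | O ≤ N₀ ∧ ∀ j, ∃ ξ : Γ(P, O),
    U'.ι.app O ξ = (U' : Scheme.{u}).presheaf.map (homOfLE (le_top : U'.ι ⁻¹ᵁ O ≤ ⊤)).op (γ j)}

/-- The domain of definition of the `γ j` inside `N₀`. -/
def dom : P.Opens := sSup (ExtSet N₀ U' γ)

theorem dom_le : dom N₀ U' γ ≤ N₀ := sSup_le fun _ hO => hO.1

theorem le_dom_of_mem {O : P.Opens} (h : O ∈ ExtSet N₀ U' γ) : O ≤ dom N₀ U' γ := le_sSup h

theorem self_mem (h : U' ≤ N₀) : U' ∈ ExtSet N₀ U' γ := by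
  refine ⟨h, fun j => ?_⟩
  have hiso : IsIso (U'.ι.app U') := by
    rw [Scheme.Opens.ι_app_self]
    exact Functor.map_isIso P.presheaf (eqToHom _).op
  refine ⟨inv (U'.ι.app U') ((U' : Scheme.{u}).presheaf.map
    (homOfLE (le_top : U'.ι ⁻¹ᵁ U' ≤ ⊤)).op (γ j)), ?_⟩
  rw [← CommRingCat.comp_apply, IsIso.inv_hom_id]
  rfl

theorem le_dom (h : U' ≤ N₀) : U' ≤ dom N₀ U' γ := le_dom_of_mem N₀ U' γ (self_mem N₀ U' γ h)

variable {N₀ U' γ}

theorem dom_mem (hd : DenseIn N₀ U') : dom N₀ U' γ ∈ ExtSet N₀ U' γ := by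
  classical
  refine ⟨dom_le N₀ U' γ, fun j => ?_⟩
  let I := {O : P.Opens // O ∈ ExtSet N₀ U' γ}
  let Uf : I → P.Opens := fun i => i.1
  let sf : ∀ i : I, Γ(P, Uf i) := fun i => (i.2.2 j).choose
  have hsf : ∀ i : I, U'.ι.app (Uf i) (sf i) =
      (U' : Scheme.{u}).presheaf.map (homOfLE (le_top : U'.ι ⁻¹ᵁ (Uf i) ≤ ⊤)).op (γ j) := fun i =>
    (i.2.2 j).choose_spec
  have hcompat : TopCat.Presheaf.IsCompatible P.presheaf Uf sf := by
    intro i i'
    have hle : Uf i ⊓ Uf i' ≤ N₀ := inf_le_left.trans i.2.1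
    apply hd (Uf i ⊓ Uf i') hle
    change U'.ι.app _ (P.presheaf.map (homOfLE (inf_le_left : Uf i ⊓ Uf i' ≤ Uf i)).op (sf i)) =
      U'.ι.app _ (P.presheaf.map (homOfLE (inf_le_right : Uf i ⊓ Uf i' ≤ Uf i')).op (sf i'))
    rw [app_res, app_res, hsf, hsf, res_res, res_res]
  have hcover : dom N₀ U' γ ≤ iSup Uf := by
    rw [dom, sSup_eq_iSup']
  obtain ⟨ξ, hξ, -⟩ := P.sheaf.existsUnique_gluing' Uf (dom N₀ U' γ)
    (fun i => homOfLE (le_dom_of_mem N₀ U' γ i.2)) hcover sf hcompat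
  refine ⟨ξ, ?_⟩
  refine (U' : Scheme.{u}).IsSheaf.section_ext fun x hx => ?_
  have hxW : U'.ι x ∈ dom N₀ U' γ := hx
  rw [dom, sSup_eq_iSup'] at hxW
  obtain ⟨i, hxi⟩ := Opens.mem_iSup.mp hxW
  have hle : U'.ι ⁻¹ᵁ (Uf i) ≤ U'.ι ⁻¹ᵁ (dom N₀ U' γ) := fun _ hy =>
    le_dom_of_mem N₀ U' γ i.2 hy
  refine ⟨U'.ι ⁻¹ᵁ (Uf i), hle, hxi, ?_⟩
  have h1 : P.presheaf.map (homOfLE (le_dom_of_mem N₀ U' γ i.2)).op ξ = sf i := hξ i
  have h2 := app_res U'.ι (le_dom_of_mem N₀ U' γ i.2) ξ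
  rw [h1, hsf] at h2
  rw [res_res]
  exact h2.symm

end Groth.Agent.Lib.QDomDom68
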