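import Mathlib
import Groth.Agent.Lib.QDomDom68

/-!
# Denominators (helper68)

`exists_denominators`: for a compact open `U₀` of an affine open `T` and finitely many sections `γ j` of `U₀`,
there are finitely many `e k ∈ Γ(X, T)` whose basic opens cover `U₀` and `d j k ∈ Γ(X, T)` with
`e k · γ j = d j k` on `U₀`.
-/

set_option autoImplicit false

universe u

open CategoryTheory AlgebraicGeometry TopologicalSpace Opposite

namespace Groth.Agent.Lib.QDomDenom68

open Groth.Agent.Lib.QDomDom68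

variable {X : Scheme.{u}} {T : X.Opens} (hT : IsAffineOpen T) {U₀ : X.Opens} (hU₀T : U₀ ≤ T)
include hT

/-- Clearing denominators of one section along one basic open. -/
theorem exists_pow_mul_eq (hU₀ : IsCompact (U₀ : Set X)) (h : Γ(X, T)) (hh : X.basicOpen h ≤ U₀)
    (c : Γ(X, U₀)) :
    ∃ (n : ℕ) (a : Γ(X, T)), (X.presheaf.map (homOfLE hU₀T).op h) ^ n * c =
      X.presheaf.map (homOfLE hU₀T).op a := by
  obtain ⟨n, y, hy⟩ := exists_eq_pow_mul_of_isAffineOpen X T hT h (X.presheaf.map (homOfLE hh).op c)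
  dsimp only [TopCat.Presheaf.restrictOpenCommRingCat_apply] at hy
  set r := X.presheaf.map (homOfLE hU₀T).op with hr
  let z : Γ(X, U₀) := r y - r h ^ n * c
  have hle : X.basicOpen (r h) ≤ X.basicOpen h := by
    rw [hr, Scheme.basicOpen_res]; exact inf_le_right
  have H : X.presheaf.map (homOfLE (X.basicOpen_le (r h))).op z = 0 := by
    have h1 : X.presheaf.map (homOfLE (X.basicOpen_le (r h))).op z =
        X.presheaf.map (homOfLE hle).op (X.presheaf.map (homOfLE hh).op z) := by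
      rw [res_res]
    rw [h1]
    have h2 : X.presheaf.map (homOfLE hh).op z = 0 := by
      simp only [z, map_sub, map_mul, map_pow, hr]
      rw [res_res, res_res, sub_eq_zero]
      exact hy
    rw [h2, map_zero]
  obtain ⟨m, hm⟩ := exists_pow_mul_eq_zero_of_res_basicOpen_eq_zero_of_isCompact X hU₀ z (r h) H
  refine ⟨m + n, h ^ m * y, ?_⟩
  rw [map_mul, map_pow, pow_add, mul_assoc]
  have : r h ^ m * (r y - r h ^ n * c) = 0 := hm
  rw [mul_sub, sub_eq_zero] at this
  exact this.symm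

theorem exists_denominators (hU₀ : IsCompact (U₀ : Set X)) {ι : Type*} [Fintype ι]
    (γ : ι → Γ(U₀, ⊤)) :
    ∃ (κ : Type u) (_ : Fintype κ) (e : κ → Γ(X, T)) (d : ι → κ → Γ(X, T)),
      U₀ = ⨆ k, X.basicOpen (e k) ∧
      ∀ j k, U₀.ι.appLE T ⊤ (fun x _ => hU₀T x.2) (e k) * γ j =
        U₀.ι.appLE T ⊤ (fun x _ => hU₀T x.2) (d j k) := by
  classical
  -- cover by basic opens
  have hbas : ∀ x : U₀, ∃ f : Γ(X, T), X.basicOpen f ≤ U₀ ∧ (x : X) ∈ X.basicOpen f := fun x =>
    hT.exists_basicOpen_le x (hU₀T x.2)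
  choose f hfle hfmem using hbas
  obtain ⟨K, hK⟩ := hU₀.elim_finite_subcover (fun x : U₀ => (X.basicOpen (f x) : Set X))
    (fun x => (X.basicOpen (f x)).2) (fun x hx => Set.mem_iUnion.mpr ⟨⟨x, hx⟩, hfmem ⟨x, hx⟩⟩)
  set r := X.presheaf.map (homOfLE hU₀T).op with hr
  let c : ι → Γ(X, U₀) := fun j => U₀.topIso.hom (γ j)
  have hex : ∀ (j : ι) (k : K), ∃ (n : ℕ) (a : Γ(X, T)), r (f k.1) ^ n * c j = r a := fun j k =>
    exists_pow_mul_eq hT hU₀T hU₀ (f k.1) (hfle k.1) (c j)
  choose n a ha using hex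
  let nn : K → ℕ := fun k => ∑ j, n j k
  have hn : ∀ j k, n j k ≤ nn k := fun j k =>
    Finset.single_le_sum (f := fun j => n j k) (fun _ _ => Nat.zero_le _) (Finset.mem_univ j)
  refine ⟨K, inferInstance, fun k => f k.1 ^ (nn k + 1),
    fun j k => f k.1 ^ (nn k + 1 - n j k) * a j k, ?_, ?_⟩
  · apply le_antisymm
    · intro x hx
      have := hK hx
      simp only [Set.mem_iUnion] at this
      obtain ⟨k, hk, hxk⟩ := this
      refine Opens.mem_iSup.mpr ⟨⟨k, hk⟩, ?_⟩
      change x ∈ X.basicOpen (f k ^ (nn ⟨k, hk⟩ + 1))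
      rw [Scheme.basicOpen_pow _ _ (Nat.succ_pos _)]
      exact hxk
    · refine iSup_le fun k => ?_
      change X.basicOpen (f k.1 ^ (nn k + 1)) ≤ U₀
      rw [Scheme.basicOpen_pow _ _ (Nat.succ_pos _)]
      exact hfle k.1
  · intro j k
    have key : ∀ y : Γ(X, T), U₀.ι.appLE T ⊤ (fun x _ => hU₀T x.2) y = U₀.topIso.inv (r y) := by
      intro y
      rw [Scheme.Opens.ι_appLE]
      simp only [Scheme.Opens.topIso_inv]
      rw [hr, ← CommRingCat.comp_apply]
      exact congrArg (fun φ : Γ(X, T) ⟶ Γ(U₀, ⊤) => φ.hom y)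
        (X.presheaf.map_comp (homOfLE hU₀T).op _)
    have hγ : γ j = U₀.topIso.inv (c j) := by
      simp only [c]
      rw [← CommRingCat.comp_apply, Iso.hom_inv_id]
      rfl
    rw [key, key, hγ, ← map_mul]
    congr 1
    rw [map_mul, map_pow, map_pow, ← ha j k, ← mul_assoc, ← pow_add,
      Nat.sub_add_cancel ((hn j k).trans (Nat.le_succ _))]

end Groth.Agent.Lib.QDomDenom68
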