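import Mathlib

/-!
# Ring-level core of the extension of quasi-dominations (helper68)

`local_core`: let `R → L` be a ring map, `e_k, d_{jk} ∈ R`, `γ_j ∈ L` with `e_k γ_j = d_{jk}` in `L`.
If the ideals `(e_k)_k = (s)` and `(e_k, d_{jk}) = (r)` are principal, generated by nonzerodivisors, and
`s` is a unit of `L`, then `s = r t`, `t γ_j` comes from `R` and `t (α₀ + ∑ α_j γ_j) = 1` for suitable
`α ∈ R`.
-/

set_option autoImplicit false

namespace Groth.Agent.Lib.QDomRing68

theorem local_core {R L : Type*} [CommRing R] [CommRing L] (φ : R →+* L)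
    {κ ι : Type*} [Fintype κ] [Fintype ι] (e : κ → R) (d : ι → κ → R) (γ : ι → L)
    (s r : R) (hs : s ∈ nonZeroDivisors R) (hr : r ∈ nonZeroDivisors R)
    (hI : Ideal.span (Set.range e) = Ideal.span {s})
    (hJ : Ideal.span (Set.range e ∪ Set.range (fun p : ι × κ => d p.1 p.2)) = Ideal.span {r})
    (hsL : IsUnit (φ s))
    (hrel : ∀ j k, φ (e k) * γ j = φ (d j k)) :
    ∃ t : R, s = r * t ∧ (∀ j, ∃ ρ : R, φ t * γ j = φ ρ) ∧
      ∃ (α₀ : R) (α : ι → R), φ t * (φ α₀ + ∑ j, φ (α j) * γ j) = 1 := by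
  classical
  -- `s ∈ (r)`
  have hsJ : s ∈ Ideal.span {r} := by
    rw [← hJ]
    have : s ∈ Ideal.span (Set.range e) := by rw [hI]; exact Ideal.mem_span_singleton_self s
    exact Ideal.span_mono Set.subset_union_left this
  obtain ⟨t, ht⟩ := Ideal.mem_span_singleton'.mp hsJ
  -- ht : t * r = s
  have hst : s = r * t := by rw [← ht, mul_comm]
  -- `e k = s * c k`
  have hc : ∀ k, ∃ c : R, c * s = e k := fun k => by
    have : e k ∈ Ideal.span {s} := by rw [← hI]; exact Ideal.subset_span ⟨k, rfl⟩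
    exact Ideal.mem_span_singleton'.mp this
  choose c hc using hc
  -- `d j k = r * u j k`
  have hu : ∀ j k, ∃ u : R, u * r = d j k := fun j k => by
    have : d j k ∈ Ideal.span {r} := by
      rw [← hJ]; exact Ideal.subset_span (Or.inr ⟨(j, k), rfl⟩)
    exact Ideal.mem_span_singleton'.mp this
  choose u hu using hu
  -- `s = ∑ λ k * e k`
  have hsI : s ∈ Ideal.span (Set.range e) := by rw [hI]; exact Ideal.mem_span_singleton_self s
  obtain ⟨lam, hlam⟩ := (Ideal.mem_span_range_iff_exists_fun).mp hsI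
  have h1 : ∑ k, lam k * c k = 1 := by
    have h2 : ((∑ k, lam k * c k) - 1) * s = 0 := by
      rw [sub_mul, one_mul, Finset.sum_mul]
      have : ∀ k, lam k * c k * s = lam k * e k := fun k => by rw [mul_assoc, hc]
      rw [Finset.sum_congr rfl fun k _ => this k, hlam, sub_self]
    exact sub_eq_zero.mp (mem_nonZeroDivisors_iff_right.mp hs _ h2)
  -- `r = ∑ μ k * e k + ∑ ν (j,k) * d j k`
  have hrJ : r ∈ Ideal.span (Set.range (Sum.elim e (fun p : ι × κ => d p.1 p.2))) := by
    rw [Set.Sum.elim_range, hJ]; exact Ideal.mem_span_singleton_self r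
  obtain ⟨w, hw⟩ := (Ideal.mem_span_range_iff_exists_fun).mp hrJ
  rw [Fintype.sum_sum_type] at hw
  simp only [Sum.elim_inl, Sum.elim_inr] at hw
  have h2 : t * (∑ k, w (Sum.inl k) * c k) + ∑ p : ι × κ, w (Sum.inr p) * u p.1 p.2 = 1 := by
    have : (t * (∑ k, w (Sum.inl k) * c k) + ∑ p : ι × κ, w (Sum.inr p) * u p.1 p.2 - 1) * r = 0 := by
      rw [sub_mul, add_mul, one_mul, Finset.mul_sum, Finset.sum_mul, Finset.sum_mul]
      have e1 : ∀ k, t * (w (Sum.inl k) * c k) * r = w (Sum.inl k) * e k := fun k => by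
        rw [← hc k, ← ht]; ring
      have e2 : ∀ p : ι × κ, w (Sum.inr p) * u p.1 p.2 * r = w (Sum.inr p) * d p.1 p.2 := fun p => by
        rw [mul_assoc, hu]
      rw [Finset.sum_congr rfl fun k _ => e1 k, Finset.sum_congr rfl fun p _ => e2 p, hw, sub_self]
    exact sub_eq_zero.mp (mem_nonZeroDivisors_iff_right.mp hr _ this)
  -- units in `L`
  have hrt : IsUnit (φ r * φ t) := by rw [← map_mul, ← hst]; exact hsL
  have hrL : IsUnit (φ r) := isUnit_of_mul_isUnit_left hrt
  -- `φ t * φ (c k) * γ j = φ (u j k)`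
  have h3 : ∀ j k, φ t * φ (c k) * γ j = φ (u j k) := by
    intro j k
    apply hrL.mul_left_cancel
    have := hrel j k
    rw [← hc k, ← hu j k, ← ht] at this
    simp only [map_mul] at this
    linear_combination this
  refine ⟨t, hst, fun j => ⟨∑ k, lam k * u j k, ?_⟩, ∑ k, w (Sum.inl k) * c k,
    fun j => ∑ k, w (Sum.inr (j, k)) * c k, ?_⟩
  · calc φ t * γ j = φ t * (φ (∑ k, lam k * c k) * γ j) := by rw [h1, map_one, one_mul]
      _ = ∑ k, φ (lam k) * (φ t * φ (c k) * γ j) := by
        rw [map_sum, Finset.sum_mul, Finset.mul_sum]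
        refine Finset.sum_congr rfl fun k _ => ?_
        rw [map_mul]; ring
      _ = φ (∑ k, lam k * u j k) := by
        rw [map_sum]
        refine Finset.sum_congr rfl fun k _ => ?_
        rw [h3, map_mul]
  · have h4 := congrArg φ h2
    rw [map_add, map_mul, map_one, map_sum, map_sum] at h4
    rw [← h4, mul_add, Finset.mul_sum]
    congr 1
    · rw [map_sum]
    · rw [Fintype.sum_prod_type]
      refine Finset.sum_congr rfl fun j _ => ?_
      rw [map_sum, Finset.sum_mul, Finset.mul_sum]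
      refine Finset.sum_congr rfl fun k _ => ?_
      rw [map_mul, map_mul, ← h3 j k]; ring

end Groth.Agent.Lib.QDomRing68
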