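import Mathlib
import Groth.Prelude.Def_BlowUp2
import Groth.Agent.Lib.QDomRing68
import Groth.Agent.Lib.QDomDom68
import Groth.Agent.Lib.EffCartier96
import Groth.Agent.Lib.IdealComap
import Groth.Agent.Lib.RelCartier

/-!
# Good neighbourhoods on a blow-up (helper68)

* `denseIn_of_effCartier`: the complement of the support of an effective Cartier ideal is schematically
  dense (in the form `QDomDom68.DenseIn`).
* `exists_good`: if the inverse images of the "denominator ideals" `(e_k)` and `(e_k, d_{jk})` are effective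
  Cartier on `P`, every point of `q⁻¹ T` has a neighbourhood with the data needed by `QDomLocal68`.
-/

set_option autoImplicit false

universe u

open CategoryTheory AlgebraicGeometry TopologicalSpace Opposite

namespace Groth.Agent.Lib.QDomGood68

open Groth.Agent.Lib.QDomDom68

theorem denseIn_of_effCartier {P : Scheme.{u}} (I : P.IdealSheafData) (hI : BlowUp.IsEffCartierIdeal I)
    (N₀ U' : P.Opens) (hU' : ∀ x ∈ N₀, x ∉ I.support → x ∈ U') : DenseIn N₀ U' := by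
  intro O hO
  rw [injective_iff_map_eq_zero]
  intro c hc
  refine P.IsSheaf.section_ext fun y hy => ?_
  obtain ⟨N, hyN, hNO, a, ha, hIa⟩ :=
    Groth.Agent.Lib.EffCartier96.exists_generator_le I hI y O hy
  refine ⟨N.1, hNO, hyN, ?_⟩
  rw [map_zero]
  have hD : P.basicOpen a ≤ U'.ι ''ᵁ (U'.ι ⁻¹ᵁ O) := by
    intro z hz
    have hzN : z ∈ N.1 := P.basicOpen_le a hz
    have hzU : z ∈ U' := by
      apply hU' z (hO (hNO hzN))
      intro hzs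
      have := (Scheme.IdealSheafData.mem_support_iff_of_mem (I := I) (U := N) hzN).mp hzs
      rw [hIa, Scheme.mem_zeroLocus_iff] at this
      exact this a (Ideal.subset_span rfl) hz
    exact ⟨⟨z, hzU⟩, hNO hzN, rfl⟩
  have hc' : P.presheaf.map (homOfLE ((P.basicOpen_le a).trans hNO)).op c = 0 := by
    have hc2 : P.presheaf.map (homOfLE (show U'.ι ''ᵁ (U'.ι ⁻¹ᵁ O) ≤ O from
        Set.image_preimage_subset _ _)).op c = 0 := hc
    have := congrArg (P.presheaf.map (homOfLE hD).op) hc2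
    rw [res_res, map_zero] at this
    exact this
  have hloc := N.2.isLocalization_basicOpen a
  have h0 : algebraMap Γ(P, N.1) Γ(P, P.basicOpen a) (P.presheaf.map (homOfLE hNO).op c) = 0 := by
    change P.presheaf.map (homOfLE (P.basicOpen_le a)).op (P.presheaf.map (homOfLE hNO).op c) = 0
    rw [res_res]
    exact hc'
  obtain ⟨⟨_, n, rfl⟩, hn⟩ := (IsLocalization.map_eq_zero_iff (Submonoid.powers a) _ _).mp h0
  exact (pow_mem ha n).2 _ (by rw [mul_comm]; exact hn)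

section Good

variable {P X : Scheme.{u}} (q : P ⟶ X) {T : X.Opens} (hT : IsAffineOpen T) {U₀ : X.Opens}
  (hU₀T : U₀ ≤ T) {κ ι : Type*} [Fintype κ] [Fintype ι] (e : κ → Γ(X, T)) (d : ι → κ → Γ(X, T))
  (γ : ι → Γ(U₀, ⊤))

/-- The pulled back sections on `q⁻¹ U₀`. -/
noncomputable abbrev pullSec (j : ι) : Γ((q ⁻¹ᵁ U₀ : P.Opens), ⊤) := (q ∣_ U₀).appTop (γ j)

theorem exists_good (hcov : U₀ ≤ ⨆ k, X.basicOpen (e k))
    (hrel : ∀ j k, U₀.ι.appLE T ⊤ (fun x _ => hU₀T x.2) (e k) * γ j =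
      U₀.ι.appLE T ⊤ (fun x _ => hU₀T x.2) (d j k))
    (𝓘 𝓙 : X.IdealSheafData) (h𝓘 : 𝓘.ideal ⟨T, hT⟩ = Ideal.span (Set.range e))
    (h𝓙 : 𝓙.ideal ⟨T, hT⟩ = Ideal.span (Set.range e ∪ Set.range fun p : ι × κ => d p.1 p.2))
    (hI : BlowUp.IsEffCartierIdeal (𝓘.comap q)) (hJ : BlowUp.IsEffCartierIdeal (𝓙.comap q))
    (x : P) (hx : x ∈ q ⁻¹ᵁ T) :
    ∃ N : P.Opens, x ∈ N ∧ N ≤ q ⁻¹ᵁ T ∧ ∃ (t α₀ : Γ(P, N)) (ρ α : ι → Γ(P, N)),
      (∀ j, (q ⁻¹ᵁ U₀).ι.app N t * ((q ⁻¹ᵁ U₀ : P.Opens) : Scheme.{u}).presheaf.map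
          (homOfLE (le_top : (q ⁻¹ᵁ U₀).ι ⁻¹ᵁ N ≤ ⊤)).op (pullSec q γ j) =
        (q ⁻¹ᵁ U₀).ι.app N (ρ j)) ∧
      (q ⁻¹ᵁ U₀).ι.app N t * ((q ⁻¹ᵁ U₀).ι.app N α₀ + ∑ j, (q ⁻¹ᵁ U₀).ι.app N (α j) *
        ((q ⁻¹ᵁ U₀ : P.Opens) : Scheme.{u}).presheaf.map
          (homOfLE (le_top : (q ⁻¹ᵁ U₀).ι ⁻¹ᵁ N ≤ ⊤)).op (pullSec q γ j)) = 1 := by
  classical
  set U' : P.Opens := q ⁻¹ᵁ U₀ with hU'
  -- affine neighbourhood with principal generators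
  obtain ⟨N₁, hxN₁, hN₁T, s₁, hs₁, hIs₁⟩ :=
    Groth.Agent.Lib.EffCartier96.exists_generator_le (𝓘.comap q) hI x (q ⁻¹ᵁ T) hx
  obtain ⟨N, hxN, hNN₁, r, hr, hJr⟩ :=
    Groth.Agent.Lib.EffCartier96.exists_generator_le (𝓙.comap q) hJ x N₁.1 hxN₁
  have hNN₁' : N ≤ N₁ := hNN₁
  obtain ⟨hs, hIs⟩ := Groth.Agent.Lib.RelCartier.cartier_restrict (𝓘.comap q) hNN₁' s₁ hs₁ hIs₁
  set s : Γ(P, N.1) := P.presheaf.map (homOfLE hNN₁').op s₁ with hsdef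
  have hNT : N.1 ≤ q ⁻¹ᵁ T := hNN₁.trans hN₁T
  set β : Γ(X, T) →+* Γ(P, N.1) := (q.appLE T N.1 hNT).hom with hβ
  have hI' : Ideal.span (Set.range (β ∘ e)) = Ideal.span {s} := by
    rw [← hIs, Groth.Agent.Lib.IdealComap.ideal_comap 𝓘 q T hT N.1 N.2 hNT, h𝓘, Ideal.map_span,
      Set.range_comp]
  have hJ' : Ideal.span (Set.range (β ∘ e) ∪
      Set.range (fun p : ι × κ => (fun j k => β (d j k)) p.1 p.2)) = Ideal.span {r} := by
    rw [← hJr, Groth.Agent.Lib.IdealComap.ideal_comap 𝓙 q T hT N.1 N.2 hNT, h𝓙, Ideal.map_span,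
      Set.image_union, ← Set.range_comp, ← Set.range_comp]
    rfl
  -- the target ring
  set M : (U' : Scheme.{u}).Opens := U'.ι ⁻¹ᵁ N.1 with hM
  set φ : Γ(P, N.1) →+* Γ((U' : Scheme.{u}), M) := (U'.ι.app N.1).hom with hφ
  let γ'' : ι → Γ((U' : Scheme.{u}), M) := fun j =>
    (U' : Scheme.{u}).presheaf.map (homOfLE (le_top : M ≤ ⊤)).op (pullSec q γ j)
  -- key identity: `res ∘ (q ∣_ U₀)^* ∘ (U₀.ι)^* = φ ∘ β`
  have hkey : ∀ y : Γ(X, T), (U' : Scheme.{u}).presheaf.map (homOfLE (le_top : M ≤ ⊤)).op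
      ((q ∣_ U₀).appTop (U₀.ι.appLE T ⊤ (fun x _ => hU₀T x.2) y)) = φ (β y) := by
    intro y
    have e1 : (⊤ : (U₀ : Scheme.{u}).Opens) ≤ U₀.ι ⁻¹ᵁ T := fun x _ => hU₀T x.2
    have e2 : M ≤ (q ∣_ U₀) ⁻¹ᵁ ⊤ := le_top
    have e3 : M ≤ ((q ∣_ U₀) ≫ U₀.ι) ⁻¹ᵁ T := fun z hz => e1 (e2 hz)
    have h1 : (U₀.ι.appLE T ⊤ e1 ≫ (q ∣_ U₀).appLE ⊤ M e2) = ((q ∣_ U₀) ≫ U₀.ι).appLE T M e3 :=
      Scheme.Hom.appLE_comp_appLE _ _ _ _ _ _ _
    have h2 : ((q ∣_ U₀) ≫ U₀.ι) = U'.ι ≫ q := morphismRestrict_ι q U₀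
    have e4 : M ≤ (U'.ι ≫ q) ⁻¹ᵁ T := h2 ▸ e3
    have h3 : ((q ∣_ U₀) ≫ U₀.ι).appLE T M e3 = (U'.ι ≫ q).appLE T M e4 := by
      congr 1
    have h4 : q.appLE T N.1 hNT ≫ U'.ι.appLE N.1 M le_rfl = (U'.ι ≫ q).appLE T M e4 :=
      Scheme.Hom.appLE_comp_appLE _ _ _ _ _ _ _
    have h5 : (q ∣_ U₀).appLE ⊤ M e2 = (q ∣_ U₀).appTop ≫
        (U' : Scheme.{u}).presheaf.map (homOfLE (le_top : M ≤ ⊤)).op := by
      rw [Scheme.Hom.appLE]; rfl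
    have h6 := congrArg (fun ξ => ξ.hom y) (h1.trans (h3.trans h4.symm))
    simp only [h5, CommRingCat.hom_comp, RingHom.comp_apply] at h6
    rw [h6, Scheme.Hom.appLE_eq_app]
  have hrel' : ∀ j k, φ ((β ∘ e) k) * γ'' j = φ (β (d j k)) := by
    intro j k
    have := congrArg (fun ξ => (U' : Scheme.{u}).presheaf.map (homOfLE (le_top : M ≤ ⊤)).op
      ((q ∣_ U₀).appTop ξ)) (hrel j k)
    simp only [map_mul] at this
    rw [hkey, hkey] at this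
    exact this
  -- `s` is a unit on `M`
  have hsL : IsUnit (φ s) := by
    apply (U' : Scheme.{u}).toRingedSpace.isUnit_of_isUnit_germ M
    intro x' hx'
    have hqx : q (U'.ι x') ∈ U₀ := x'.2
    obtain ⟨k, hk⟩ := Opens.mem_iSup.mp (hcov hqx)
    have hc : (β ∘ e) k ∈ Ideal.span {s} := by
      rw [← hI']; exact Ideal.subset_span ⟨k, rfl⟩
    obtain ⟨c, hc⟩ := Ideal.mem_span_singleton'.mp hc
    have e4 : M ≤ (U'.ι ≫ q) ⁻¹ᵁ T := fun z hz => hNT hz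
    have hv : φ ((β ∘ e) k) = (U'.ι ≫ q).appLE T M e4 (e k) := by
      have h4 : q.appLE T N.1 hNT ≫ U'.ι.appLE N.1 M le_rfl = (U'.ι ≫ q).appLE T M e4 :=
        Scheme.Hom.appLE_comp_appLE _ _ _ _ _ _ _
      rw [← h4, Scheme.Hom.appLE_eq_app]
      rfl
    have hmem : x' ∈ (U' : Scheme.{u}).basicOpen (φ ((β ∘ e) k)) := by
      rw [hv, Scheme.basicOpen_appLE]
      exact ⟨hx', hk⟩
    rw [Scheme.mem_basicOpen _ _ _ hx'] at hmem
    rw [← hc, map_mul, map_mul] at hmem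
    exact isUnit_of_mul_isUnit_right hmem
  obtain ⟨t, -, hρ, α₀, α, hα⟩ := Groth.Agent.Lib.QDomRing68.local_core φ (β ∘ e)
    (fun j k => β (d j k)) γ'' s r hs hr hI' hJ' hsL hrel'
  choose ρ hρ using hρ
  exact ⟨N.1, hxN, hNT, t, α₀, ρ, α, hρ, hα⟩

end Good

end Groth.Agent.Lib.QDomGood68
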