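import Mathlib
import Groth.Prelude.Def_BlowUp2
import Groth.Agent.Lib.IdealExt68
import Groth.Agent.Lib.BlowUpAdm68
import Groth.Agent.Lib.BlowUpGlue68
import Groth.Agent.Lib.QDomGood68

/-!
# Extending an ideal from an affine open, admissibly (helper68)

* `exists_ideal_ext`: a finitely generated ideal `I` of `Γ(X, T)` (`T` affine open) which becomes the unit ideal
  on the affine opens of `T ⊓ V` extends to a finite type ideal sheaf on `X` with support disjoint from `V`.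
* `isEffCartier_comap_of_isBlowUp_mul_left/right`: on a blow-up of a product, the inverse image of each factor
  is effective Cartier.
-/

set_option autoImplicit false

universe u

open CategoryTheory AlgebraicGeometry TopologicalSpace Opposite

namespace Groth.Agent.Lib.QDomIdeal68

open Groth.Agent.Lib.IdealExt68

variable {X : Scheme.{u}}

theorem exists_ideal_ext [CompactSpace X] [QuasiSeparatedSpace X] (V : X.Opens)
    (hV : IsCompact (V : Set X)) (T : X.affineOpens) (I : Ideal Γ(X, T.1)) (hI : I.FG)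
    (h : ∀ (D : X.affineOpens) (hD : D.1 ≤ T.1), D.1 ≤ V →
      I.map (X.presheaf.map (homOfLE hD).op).hom = ⊤) :
    ∃ 𝓙 : X.IdealSheafData, BlowUp.IsAdmissibleFor V 𝓙 ∧ 𝓙.ideal T = I := by
  classical
  set 𝔞 := closureIdeal T I with h𝔞
  -- on affine opens of `V` the closure ideal is trivial
  have htop : ∀ W : X.affineOpens, W.1 ≤ V → 𝔞.ideal W = ⊤ := by
    intro W hW
    rw [eq_top_iff]
    have := ideal_le_closureIdeal T I (⊤ : X.IdealSheafData) W (fun D hD => by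
      have hDT : D ≤ T := fun y hy => (hD hy).2
      rw [closureIdeal_ideal_of_le T I D hDT]
      have := h D hDT (fun y hy => hW (hD hy).1)
      exact le_top.trans this.symm.le)
    simpa using this
  have hO : IsCompact ((T.1 ⊔ V : X.Opens) : Set X) := by
    have : ((T.1 ⊔ V : X.Opens) : Set X) = (T.1 : Set X) ∪ V := rfl
    rw [this]; exact T.2.isCompact.union hV
  have hfg : ∀ W : X.affineOpens, W.1 ≤ T.1 ⊔ V → (𝔞.ideal W).FG := by
    intro W hW
    apply fg_of_forall_exists_basicOpen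
    intro x hx
    rcases hW hx with hxT | hxV
    · obtain ⟨f, hfT, hxf⟩ := W.2.exists_basicOpen_le (V := T.1) ⟨x, hxT⟩ hx
      refine ⟨f, hxf, ?_⟩
      rw [closureIdeal_ideal_of_le T I (X.affineBasicOpen f) hfT]
      exact hI.map _
    · obtain ⟨f, hfV, hxf⟩ := W.2.exists_basicOpen_le (V := V) ⟨x, hxV⟩ hx
      refine ⟨f, hxf, ?_⟩
      rw [htop (X.affineBasicOpen f) hfV]
      exact ⟨{1}, by simp⟩
  obtain ⟨𝓙, -, h2, h3⟩ := exists_finiteType_le 𝔞 (T.1 ⊔ V) hO hfg
  refine ⟨𝓙, ⟨h3, ?_⟩, ?_⟩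
  · apply disjoint_support_of_forall_ideal_eq_top
    intro W hW
    rw [h2 W (hW.trans le_sup_right)]
    exact htop W hW
  · rw [h2 T le_sup_left]
    exact closureIdeal_ideal_self T I

/-- On a blow-up of `𝓘 * 𝓡`, the inverse image of `𝓘` is effective Cartier. -/
theorem isEffCartier_comap_of_isBlowUp_mul_left {X' : Scheme.{u}} (𝓘 𝓡 : X.IdealSheafData)
    (c : X' ⟶ X) (hc : BlowUp.IsBlowUp c (𝓘 * 𝓡)) : BlowUp.IsEffCartierIdeal (𝓘.comap c) := by
  obtain ⟨X₁, b₁, hb₁⟩ := Groth.Agent.Lib.BlowUpGlue68.exists_isBlowUp X 𝓘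
  obtain ⟨g, hg, hgb⟩ := Groth.Agent.Lib.BlowUpAdm68.exists_factor_of_isBlowUp_mul 𝓘 𝓡 b₁ hb₁ c hc
  rw [← hg, Scheme.IdealSheafData.comap_comp]
  exact Groth.Agent.Lib.BlowUpUniv.isEffCartier_comap_of_isBlowUp hgb _ hb₁.1

theorem isEffCartier_comap_of_isBlowUp_mul_right {X' : Scheme.{u}} (𝓘 𝓡 : X.IdealSheafData)
    (c : X' ⟶ X) (hc : BlowUp.IsBlowUp c (𝓡 * 𝓘)) : BlowUp.IsEffCartierIdeal (𝓘.comap c) := by
  rw [mul_comm] at hc
  exact isEffCartier_comap_of_isBlowUp_mul_left 𝓘 𝓡 c hc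

/-- On a blow-up of a finite product, the inverse image of each factor is effective Cartier. -/
theorem isEffCartier_comap_of_isBlowUp_prod {X' : Scheme.{u}} {Λ : Type*} [DecidableEq Λ] (s : Finset Λ)
    (𝓘 : Λ → X.IdealSheafData) (c : X' ⟶ X) (hc : BlowUp.IsBlowUp c (∏ l ∈ s, 𝓘 l)) (l : Λ)
    (hl : l ∈ s) : BlowUp.IsEffCartierIdeal ((𝓘 l).comap c) := by
  rw [← Finset.mul_prod_erase s 𝓘 hl] at hc
  exact isEffCartier_comap_of_isBlowUp_mul_left _ _ c hc

end Groth.Agent.Lib.QDomIdeal68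

namespace Groth.Agent.Lib.QDomIdeal68

open Groth.Agent.Lib.QDomDom68 in
/-- The complement of the support of an effective Cartier ideal is dense. -/
theorem dense_compl_support_of_effCartier {P : Scheme.{u}} (I : P.IdealSheafData)
    (hI : BlowUp.IsEffCartierIdeal I) : Dense ((I.support : Set P)ᶜ) := by
  let C' : P.Opens := I.support.compl
  have hd : DenseIn (⊤ : P.Opens) C' :=
    Groth.Agent.Lib.QDomGood68.denseIn_of_effCartier I hI ⊤ C' (fun x _ hx => hx)
  rw [dense_iff_inter_open]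
  intro O hO hne
  by_contra hcon
  rw [Set.not_nonempty_iff_eq_empty] at hcon
  let O' : P.Opens := ⟨O, hO⟩
  have hbot : C'.ι ⁻¹ᵁ O' = ⊥ := by
    ext z
    simp only [Opens.coe_bot, Set.mem_empty_iff_false, iff_false]
    intro hz
    have : z.1 ∈ O ∩ (I.support : Set P)ᶜ := ⟨hz, z.2⟩
    rw [hcon] at this
    exact this
  have hinj := hd O' le_top
  have hsub : Subsingleton Γ((C' : Scheme.{u}), C'.ι ⁻¹ᵁ O') := by
    rw [hbot]
    infer_instance
  have h10 : (1 : Γ(P, O')) = 0 := hinj (Subsingleton.elim _ _)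
  have h1 : P.basicOpen (1 : Γ(P, O')) = O' := P.basicOpen_of_isUnit isUnit_one
  rw [h10, Scheme.basicOpen_zero] at h1
  obtain ⟨z, hz⟩ := hne
  have : z ∈ (⊥ : P.Opens) := h1 ▸ (show z ∈ O' from hz)
  exact this

/-- The preimage of a dense open disjoint from the centre is dense in the blow-up. -/
theorem dense_preimage_of_isBlowUp {X X' : Scheme.{u}} {𝓘 : X.IdealSheafData} {b : X' ⟶ X}
    (hb : BlowUp.IsBlowUp b 𝓘) (U : X.Opens) (hU : Dense (U : Set X)) :
    Dense ((b ⁻¹ᵁ U : X'.Opens) : Set X') := by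
  have hiso := Groth.Agent.Lib.BlowUpUniv.isIso_morphismRestrict_compl hb
  set C : X.Opens := 𝓘.support.compl with hC
  have hdC := dense_compl_support_of_effCartier (𝓘.comap b) hb.1
  rw [dense_iff_inter_open]
  intro O hO hne
  obtain ⟨x, hxO, hxC⟩ := hdC.inter_open_nonempty O hO hne
  have hxC' : x ∈ b ⁻¹ᵁ C := by
    intro h
    apply hxC
    rw [Scheme.IdealSheafData.support_comap]
    exact h
  -- the open subset of `C` corresponding to `O`
  let A : Set (C : Scheme.{u}) := (b ∣_ C) '' ((b ⁻¹ᵁ C).ι ⁻¹' O)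
  have hAo : IsOpen A :=
    (b ∣_ C).homeomorph.isOpenMap _ (hO.preimage (b ⁻¹ᵁ C).ι.continuous)
  have hAne : A.Nonempty := ⟨_, ⟨⟨x, hxC'⟩, hxO, rfl⟩⟩
  have hAo' : IsOpen (C.ι '' A) := C.ι.isOpenEmbedding.isOpenMap _ hAo
  obtain ⟨u, huA, huU⟩ := hU.inter_open_nonempty _ hAo' (hAne.image _)
  obtain ⟨a, ⟨o', ho', rfl⟩, rfl⟩ := huA
  refine ⟨(b ⁻¹ᵁ C).ι o', ho', ?_⟩
  change b ((b ⁻¹ᵁ C).ι o') ∈ U
  rw [← Scheme.Hom.comp_apply, ← morphismRestrict_ι, Scheme.Hom.comp_apply]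
  exact huU

end Groth.Agent.Lib.QDomIdeal68
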