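import Mathlib
import Groth.Agent.Lib.QDomDom68
import Groth.Agent.Lib.AffAlgH3
import Groth.Agent.Lib.EffCartier96

/-!
# Local extension of a morphism to an affine target (helper68)

Setting: `P` a scheme, `U' ≤ N₀` opens with `U'` schematically dense in `N₀`, `Y₀` an affine open of a
scheme `Y`, `ψ : Γ(Y, Y₀) ⟶ Γ(U', ⊤)` (so `f'' = U'.toSpecΓ ≫ Spec.map ψ ≫ fromSpec : U' ⟶ Y`),
`g j ∈ Γ(Y, Y₀)` generating together with a set `A₀` of sections whose images extend to `N₀`.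

* `exists_extension`: `f''` extends to the domain of definition `W` of the sections `ψ (g j)`.
* `basicOpen_le_dom`: a criterion for a basic open to lie in `W`.
-/

set_option autoImplicit false

universe u

open CategoryTheory AlgebraicGeometry TopologicalSpace Opposite

namespace Groth.Agent.Lib.QDomLocal68

open Groth.Agent.Lib.QDomDom68

/-- Lifting a ring homomorphism through an injective one whose range contains its range. -/
theorem exists_lift_ringHom {A B C : Type*} [CommRing A] [CommRing B] [CommRing C] (ρ : A →+* C)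
    (ψ : B →+* C) (hρ : Function.Injective ρ) (h : ∀ b, ∃ a, ρ a = ψ b) :
    ∃ χ : B →+* A, ρ.comp χ = ψ := by
  choose a ha using h
  refine ⟨{ toFun := a, map_one' := ?_, map_mul' := ?_, map_zero' := ?_, map_add' := ?_ }, ?_⟩
  · apply hρ; rw [ha, map_one, map_one]
  · intro x y; apply hρ; rw [ha, map_mul, map_mul, ha, ha]
  · apply hρ; rw [ha, map_zero, map_zero]
  · intro x y; apply hρ; rw [ha, map_add, map_add, ha, ha]
  · ext b; exact ha b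

/-- The comorphism of `Z.toSpecΓ ≫ Spec.map ψ ≫ fromSpec` on the affine open is `ψ`. -/
theorem appLE_toSpecΓ_comp {Z Y : Scheme.{u}} {Y₀ : Y.Opens} (hY₀ : IsAffineOpen Y₀)
    (ψ : Γ(Y, Y₀) ⟶ Γ(Z, ⊤)) (e : (⊤ : Z.Opens) ≤ (Z.toSpecΓ ≫ Spec.map ψ ≫ hY₀.fromSpec) ⁻¹ᵁ Y₀) :
    (Z.toSpecΓ ≫ Spec.map ψ ≫ hY₀.fromSpec).appLE Y₀ ⊤ e = ψ := by
  have h1 := Groth.Agent.Lib.AffAlgH3.ι_comp_eq (Z.toSpecΓ ≫ Spec.map ψ ≫ hY₀.fromSpec) hY₀ ⊤ e
  apply Groth.Agent.Lib.AffAlgH3.eq_of_toSpecΓ_comp_eq hY₀ (⊤ : Z.Opens)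
  rw [← h1, Scheme.Opens.toSpecΓ_top, Category.assoc]

theorem range_toSpecΓ_comp_le {Z Y : Scheme.{u}} {Y₀ : Y.Opens} (hY₀ : IsAffineOpen Y₀)
    (ψ : Γ(Y, Y₀) ⟶ Γ(Z, ⊤)) :
    (⊤ : Z.Opens) ≤ (Z.toSpecΓ ≫ Spec.map ψ ≫ hY₀.fromSpec) ⁻¹ᵁ Y₀ := by
  intro z _
  change (Z.toSpecΓ ≫ Spec.map ψ ≫ hY₀.fromSpec) z ∈ Y₀
  rw [← Category.assoc, Scheme.Hom.comp_apply]
  have := hY₀.range_fromSpec
  rw [← SetLike.mem_coe, ← this]
  exact ⟨_, rfl⟩

section Ext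

variable {P : Scheme.{u}} {N₀ U' : P.Opens} (hU' : U' ≤ N₀)
variable {B : CommRingCat.{u}} (ψ : B ⟶ Γ(U', ⊤)) {ι : Type*} (g : ι → B)

/-- Restriction `Γ(P, W) ⟶ Γ(U', ⊤)` for `U' ≤ W`. -/
noncomputable abbrev resTo (W : P.Opens) (h : U' ≤ W) : Γ(P, W) ⟶ Γ(U', ⊤) :=
  U'.ι.appLE W ⊤ (fun _ _ => h (Subtype.property _))

theorem resTo_injective (hd : DenseIn N₀ U') {W : P.Opens} (h : U' ≤ W) (hW : W ≤ N₀) :
    Function.Injective (resTo (U' := U') W h) := by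
  intro a b hab
  apply hd W hW
  have h1 : ∀ c : Γ(P, W), U'.ι.app W c = (U' : Scheme.{u}).presheaf.map
      (homOfLE (le_top : U'.ι ⁻¹ᵁ W ≤ ⊤)).op (resTo (U' := U') W h c) := by
    intro c
    rw [resTo, Scheme.Hom.appLE, CommRingCat.comp_apply, res_res]
    have : (U' : Scheme.{u}).presheaf.map (homOfLE (le_refl (U'.ι ⁻¹ᵁ W))).op = 𝟙 _ := by
      rw [← (U' : Scheme.{u}).presheaf.map_id]; rfl
    rw [this]; rfl
  rw [h1, h1, hab]

/-- The condition defining `ExtSet`, in terms of `resTo`, for opens containing `U'`. -/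
theorem resTo_eq_of_mem {W : P.Opens} (h : U' ≤ W) (ξ : Γ(P, W)) (c : Γ(U', ⊤))
    (hξ : U'.ι.app W ξ = (U' : Scheme.{u}).presheaf.map (homOfLE (le_top : U'.ι ⁻¹ᵁ W ≤ ⊤)).op c) :
    resTo (U' := U') W h ξ = c := by
  have htop : (⊤ : (U' : Scheme.{u}).Opens) ≤ U'.ι ⁻¹ᵁ W := fun x _ => h x.2
  rw [resTo, Scheme.Hom.appLE, CommRingCat.comp_apply, hξ]
  change (U' : Scheme.{u}).presheaf.map (homOfLE htop).op _ = c
  rw [res_res]
  have : (U' : Scheme.{u}).presheaf.map (homOfLE (le_refl (⊤ : (U' : Scheme.{u}).Opens))).op = 𝟙 _ := by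
    rw [← (U' : Scheme.{u}).presheaf.map_id]; rfl
  rw [this]; rfl

/-- **Extension.** If `B` is generated as a ring by the `g j` and a set `A₀` of elements whose images under `ψ`
extend to `N₀`, then `ψ` lifts to the domain of definition of the `ψ (g j)`. -/
theorem exists_lift (hd : DenseIn N₀ U') (A₀ : Set B) (hgen : Subring.closure (Set.range g ∪ A₀) = ⊤)
    (hA₀ : ∀ β ∈ A₀, ∃ ξ : Γ(P, N₀), resTo (U' := U') N₀ hU' ξ = ψ β) :
    ∃ χ : B ⟶ Γ(P, dom N₀ U' (fun j => ψ (g j))),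
      χ ≫ resTo (U' := U') _ (le_dom N₀ U' _ hU') = ψ := by
  set W := dom N₀ U' (fun j => ψ (g j)) with hW
  have hUW : U' ≤ W := le_dom N₀ U' _ hU'
  have hWN : W ≤ N₀ := dom_le N₀ U' _
  have hinj := resTo_injective hd hUW hWN
  -- the subring of elements that extend
  let S : Subring B := (resTo (U' := U') W hUW).hom.range.comap ψ.hom
  have hS : S = ⊤ := by
    rw [eq_top_iff, ← hgen, Subring.closure_le]
    rintro β (⟨j, rfl⟩ | hβ)
    · obtain ⟨ξ, hξ⟩ := (dom_mem hd (γ := fun j => ψ (g j))).2 j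
      exact ⟨ξ, resTo_eq_of_mem hUW ξ _ hξ⟩
    · obtain ⟨ξ, hξ⟩ := hA₀ β hβ
      refine ⟨P.presheaf.map (homOfLE hWN).op ξ, ?_⟩
      rw [← hξ]
      change (P.presheaf.map (homOfLE hWN).op ≫ U'.ι.appLE W ⊤ _) ξ = _
      rw [Scheme.Hom.map_appLE]
  have hall : ∀ β : B, ∃ a, (resTo (U' := U') W hUW).hom a = ψ.hom β := fun β => by
    have : β ∈ S := by rw [hS]; trivial
    exact this
  obtain ⟨χ, hχ⟩ := exists_lift_ringHom _ _ hinj hall
  refine ⟨CommRingCat.ofHom χ, ?_⟩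
  ext β
  exact congrArg (fun φ => φ β) hχ

/-- A basic open `D(t)` of `N ≤ N₀` lies in the domain of definition as soon as `t · γ_j` extends to `N`. -/
theorem basicOpen_le_dom {N : P.Opens} (hN : N ≤ N₀) (t : Γ(P, N)) (ρ : ι → Γ(P, N))
    (h : ∀ j, U'.ι.app N t * (U' : Scheme.{u}).presheaf.map
      (homOfLE (le_top : U'.ι ⁻¹ᵁ N ≤ ⊤)).op (ψ (g j)) = U'.ι.app N (ρ j)) :
    P.basicOpen t ≤ dom N₀ U' (fun j => ψ (g j)) := by
  apply le_dom_of_mem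
  have hO : P.basicOpen t ≤ N := P.basicOpen_le t
  refine ⟨hO.trans hN, fun j => ?_⟩
  have hu : IsUnit (P.presheaf.map (homOfLE hO).op t) := P.toRingedSpace.isUnit_res_basicOpen t
  refine ⟨P.presheaf.map (homOfLE hO).op (ρ j) * ↑(hu.unit⁻¹), ?_⟩
  have hle : U'.ι ⁻¹ᵁ (P.basicOpen t) ≤ U'.ι ⁻¹ᵁ N := fun _ hx => hO hx
  have h1 := congrArg ((U' : Scheme.{u}).presheaf.map (homOfLE hle).op) (h j)
  rw [map_mul, ← app_res U'.ι hO t, ← app_res U'.ι hO (ρ j), res_res] at h1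
  have h2 : U'.ι.app (P.basicOpen t) (P.presheaf.map (homOfLE hO).op t) *
      U'.ι.app (P.basicOpen t) ↑(hu.unit⁻¹) = 1 := by
    rw [← map_mul, ← map_one (U'.ι.app (P.basicOpen t)).hom]
    congr 1
    exact hu.mul_val_inv
  rw [map_mul, ← h1]
  calc _ = (U' : Scheme.{u}).presheaf.map (homOfLE le_top).op (ψ (g j)) *
        (U'.ι.app (P.basicOpen t) (P.presheaf.map (homOfLE hO).op t) *
          U'.ι.app (P.basicOpen t) ↑(hu.unit⁻¹)) := by ring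
    _ = _ := by rw [h2, mul_one]

end Ext

theorem appLE_congr_hom {X Y : Scheme.{u}} {f f' : X ⟶ Y} (h : f = f') (U : Y.Opens) (V : X.Opens)
    (e : V ≤ f ⁻¹ᵁ U) : f.appLE U V e = f'.appLE U V (h ▸ e) := by
  subst h; rfl

section Closure

variable {P S Y : Scheme.{u}} {N₀ U' : P.Opens}
variable (pP : P ⟶ S) (pY : Y ⟶ S) {Y₀ : Y.Opens} (hY₀ : IsAffineOpen Y₀)
variable (ψ : Γ(Y, Y₀) ⟶ Γ(U', ⊤)) {ι : Type*} [Fintype ι] (g : ι → Γ(Y, Y₀))
variable {W : P.Opens} (hUW : U' ≤ W)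
variable (χ : Γ(Y, Y₀) ⟶ Γ(P, W))

/-- The extended morphism. -/
noncomputable abbrev extHom : (W : Scheme.{u}) ⟶ Y := W.toSpecΓ ≫ Spec.map χ ≫ hY₀.fromSpec

/-- The original morphism on `U'`. -/
noncomputable abbrev origHom : (U' : Scheme.{u}) ⟶ Y :=
  (U' : Scheme.{u}).toSpecΓ ≫ Spec.map ψ ≫ hY₀.fromSpec

theorem extHom_mem (w : (W : Scheme.{u})) : extHom hY₀ χ w ∈ Y₀ := by
  change (W.toSpecΓ ≫ Spec.map χ ≫ hY₀.fromSpec) w ∈ Y₀
  rw [← Category.assoc, Scheme.Hom.comp_apply]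
  have := hY₀.range_fromSpec
  rw [← SetLike.mem_coe, ← this]
  exact ⟨_, rfl⟩

theorem homOfLE_extHom (hχ : χ ≫ resTo (U' := U') W hUW = ψ) :
    P.homOfLE hUW ≫ extHom hY₀ χ = origHom hY₀ ψ := by
  have h1 : P.presheaf.map (homOfLE hUW).op ≫ U'.topIso.inv = resTo (U' := U') W hUW := by
    rw [resTo, Scheme.Opens.ι_appLE]
    simp only [Scheme.Opens.topIso_inv]
    exact (P.presheaf.map_comp (homOfLE hUW).op _).symm
  rw [extHom, origHom, ← hχ, ← h1,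
    ← Scheme.Opens.toSpecΓ_SpecMap_presheaf_map_assoc U' W hUW, Scheme.Opens.toSpecΓ]
  simp only [Category.assoc, Spec.map_comp]

/-- Restriction from an open `W ≤ N₀` to an open `U''` containing `W ⊓ U'` is injective on sections. -/
theorem homOfLE_app_injective' {P : Scheme.{u}} {N₀ U' W U'' : P.Opens} (hd : DenseIn N₀ U')
    (hWN : W ≤ N₀) (h1 : U'' ≤ W) (h2 : W ⊓ U' ≤ U'') (M : (W : Scheme.{u}).Opens) :
    Function.Injective ((P.homOfLE h1).app M) := by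
  intro c c' h
  apply hd (W.ι ''ᵁ M) ((W.ι_image_le M).trans hWN)
  have hle : U'.ι ''ᵁ (U'.ι ⁻¹ᵁ (W.ι ''ᵁ M)) ≤ U''.ι ''ᵁ ((P.homOfLE h1) ⁻¹ᵁ M) := by
    rintro _ ⟨x, hx, rfl⟩
    obtain ⟨w, hw, hwx⟩ := hx
    have hxW : x.1 ∈ W := by
      have : w.1 = x.1 := hwx
      rw [← this]; exact w.2
    have hxU'' : x.1 ∈ U'' := h2 ⟨hxW, x.2⟩
    refine ⟨⟨x.1, hxU''⟩, ?_, rfl⟩
    change P.homOfLE h1 ⟨x.1, hxU''⟩ ∈ M
    have : P.homOfLE h1 ⟨x.1, hxU''⟩ = w := by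
      apply Subtype.ext
      rw [Scheme.homOfLE_apply]
      exact hwx.symm
    rw [this]; exact hw
  have key : ∀ c : Γ(P, W.ι ''ᵁ M), U'.ι.app (W.ι ''ᵁ M) c =
      P.presheaf.map (homOfLE hle).op ((P.homOfLE h1).app M c) := by
    intro c
    rw [Scheme.homOfLE_app, Scheme.Opens.ι_app]
    exact (res_res (X := P) _ _ c).symm
  rw [key, key, h]

theorem homOfLE_app_injective (hd : DenseIn N₀ U') (hWN : W ≤ N₀) (M : (W : Scheme.{u}).Opens) :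
    Function.Injective ((P.homOfLE hUW).app M) :=
  homOfLE_app_injective' hd hWN hUW inf_le_right M

/-- The inclusion of an open `U''` containing `W ⊓ U'` into `W ≤ N₀` is scheme-theoretically dominant. -/
theorem isSchemeTheoreticallyDominant_homOfLE {P : Scheme.{u}} {N₀ U' W U'' : P.Opens}
    (hd : DenseIn N₀ U') (hWN : W ≤ N₀) (h1 : U'' ≤ W) (h2 : W ⊓ U' ≤ U'') :
    IsSchemeTheoreticallyDominant (P.homOfLE h1) :=
  Groth.Agent.Lib.EffCartier96.isSchemeTheoreticallyDominant_of_app_injective _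
    (fun D => homOfLE_app_injective' hd hWN h1 h2 D.1)

open Limits in
/-- **Key closure lemma.**  Near a point where `t (α₀ + ∑ α_j γ_j) = 1` on `U'`, the closure of the graph of
the extended morphism only meets the locus `t ≠ 0`. -/
theorem mem_basicOpen_of_mem_closure (hd : DenseIn N₀ U') (hWN : W ≤ N₀)
    (hχ : χ ≫ resTo (U' := U') W hUW = ψ) (hft : W.ι ≫ pP = extHom hY₀ χ ≫ pY)
    {N : P.Opens} (t α₀ : Γ(P, N)) (α : ι → Γ(P, N))
    (hF : U'.ι.app N t * (U'.ι.app N α₀ + ∑ j, U'.ι.app N (α j) *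
      (U' : Scheme.{u}).presheaf.map (homOfLE (le_top : U'.ι ⁻¹ᵁ N ≤ ⊤)).op (ψ (g j))) = 1)
    (ζ : ↑(pullback pP pY))
    (hζ : ζ ∈ closure (Set.range (pullback.lift W.ι (extHom hY₀ χ) hft)))
    (h1 : pullback.fst pP pY ζ ∈ N) (h2 : pullback.snd pP pY ζ ∈ Y₀) :
    pullback.fst pP pY ζ ∈ P.basicOpen t := by
  classical
  let Q : Scheme.{u} := pullback pP pY
  let pr₁ : Q ⟶ P := pullback.fst pP pY
  let pr₂ : Q ⟶ Y := pullback.snd pP pY
  let σ : (W : Scheme.{u}) ⟶ Q := pullback.lift W.ι (extHom hY₀ χ) hft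
  change (ζ : Q) ∈ closure (Set.range σ) at hζ
  change pr₁ ζ ∈ N at h1
  change pr₂ ζ ∈ Y₀ at h2
  change pr₁ ζ ∈ P.basicOpen t
  have hσ1 : σ ≫ pr₁ = W.ι := pullback.lift_fst _ _ _
  have hσ2 : σ ≫ pr₂ = extHom hY₀ χ := pullback.lift_snd _ _ _
  let Ω : Q.Opens := pr₁ ⁻¹ᵁ N ⊓ pr₂ ⁻¹ᵁ Y₀
  let a : Γ(P, N) ⟶ Γ(Q, Ω) := pr₁.appLE N Ω inf_le_left
  let b : Γ(Y, Y₀) ⟶ Γ(Q, Ω) := pr₂.appLE Y₀ Ω inf_le_right
  let G : Γ(Q, Ω) := a α₀ + ∑ j, a (α j) * b (g j)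
  let F : Γ(Q, Ω) := a t * G - 1
  -- Step 1: `σ^* F = 0` over `W ∩ N`
  let M : (W : Scheme.{u}).Opens := W.ι ⁻¹ᵁ N
  have hM : M ≤ σ ⁻¹ᵁ Ω := by
    intro w hw
    refine ⟨?_, ?_⟩
    · change pr₁ (σ w) ∈ N
      rw [← Scheme.Hom.comp_apply, hσ1]; exact hw
    · change pr₂ (σ w) ∈ Y₀
      rw [← Scheme.Hom.comp_apply, hσ2]; exact extHom_mem hY₀ χ w
  have hz : σ.appLE Ω M hM F = 0 := by
    apply homOfLE_app_injective hUW hd hWN M
    rw [map_zero]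
    let j : (U' : Scheme.{u}) ⟶ (W : Scheme.{u}) := P.homOfLE hUW
    change j.app M (σ.appLE Ω M hM F) = 0
    have hjσ1 : (j ≫ σ) ≫ pr₁ = U'.ι := by
      rw [Category.assoc, hσ1, Scheme.homOfLE_ι]
    have hjσ2 : (j ≫ σ) ≫ pr₂ = origHom hY₀ ψ := by
      rw [Category.assoc, hσ2, homOfLE_extHom hY₀ ψ hUW χ hχ]
    have e2 : j ⁻¹ᵁ M ≤ U'.ι ⁻¹ᵁ N := by
      intro x hx
      have : W.ι (j x) ∈ N := hx
      rw [← Scheme.Hom.comp_apply, Scheme.homOfLE_ι] at this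
      exact this
    have eΩ : j ⁻¹ᵁ M ≤ (j ≫ σ) ⁻¹ᵁ Ω := fun x hx => hM hx
    have h3 : j.app M (σ.appLE Ω M hM F) = (j ≫ σ).appLE Ω (j ⁻¹ᵁ M) eΩ F := by
      rw [← CommRingCat.comp_apply, Scheme.Hom.app_eq_appLE, Scheme.Hom.appLE_comp_appLE]
    rw [h3]
    -- the two composites
    have ha : ∀ x : Γ(P, N), (j ≫ σ).appLE Ω (j ⁻¹ᵁ M) eΩ (a x) =
        (U' : Scheme.{u}).presheaf.map (homOfLE e2).op (U'.ι.app N x) := by
      intro x
      change ((pr₁.appLE N Ω inf_le_left) ≫ (j ≫ σ).appLE Ω (j ⁻¹ᵁ M) eΩ) x = _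
      rw [Scheme.Hom.appLE_comp_appLE, appLE_congr_hom hjσ1, Scheme.Hom.appLE]
      rfl
    have hb : ∀ y : Γ(Y, Y₀), (j ≫ σ).appLE Ω (j ⁻¹ᵁ M) eΩ (b y) =
        (U' : Scheme.{u}).presheaf.map (homOfLE (le_top : j ⁻¹ᵁ M ≤ ⊤)).op (ψ y) := by
      intro y
      change ((pr₂.appLE Y₀ Ω inf_le_right) ≫ (j ≫ σ).appLE Ω (j ⁻¹ᵁ M) eΩ) y = _
      rw [Scheme.Hom.appLE_comp_appLE, appLE_congr_hom hjσ2]
      have h4 := Scheme.Hom.appLE_map (origHom hY₀ ψ) (U := Y₀) (V := ⊤)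
        (range_toSpecΓ_comp_le hY₀ ψ) (homOfLE (le_top : j ⁻¹ᵁ M ≤ ⊤)).op
      rw [appLE_toSpecΓ_comp hY₀ ψ] at h4
      rw [← h4, CommRingCat.comp_apply]
    have hF' := congrArg ((U' : Scheme.{u}).presheaf.map (homOfLE e2).op) hF
    simp only [map_mul, map_add, map_sum, map_one] at hF'
    simp only [F, G, map_sub, map_mul, map_add, map_sum, map_one, ha, hb]
    rw [sub_eq_zero, ← hF']
    congr 2
    refine Finset.sum_congr rfl fun i _ => ?_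
    rw [res_res]
  -- Step 2: the graph avoids `D(F)`
  have hB : ∀ w : (W : Scheme.{u}), w ∈ M → σ w ∉ Q.basicOpen F := by
    intro w hw hFw
    have : w ∈ (W : Scheme.{u}).basicOpen (σ.appLE Ω M hM F) := by
      rw [Scheme.basicOpen_appLE]
      exact ⟨hw, hFw⟩
    rw [hz, Scheme.basicOpen_zero] at this
    exact this
  -- Step 3: so does its closure inside `Ω`
  have hζΩ : ζ ∈ Ω := ⟨h1, h2⟩
  have hC : ζ ∉ Q.basicOpen F := by
    intro hζF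
    obtain ⟨_, hmem, ⟨w, rfl⟩⟩ := mem_closure_iff.mp hζ _ (Q.basicOpen F).2 hζF
    have hwΩ : σ w ∈ Ω := Q.basicOpen_le F hmem
    have hwM : w ∈ M := by
      have : pr₁ (σ w) ∈ N := hwΩ.1
      rw [← Scheme.Hom.comp_apply, hσ1] at this
      exact this
    exact hB w hwM hmem
  -- Step 4: where `t` vanishes, `F` is a unit
  by_contra hnt
  apply hC
  have hat : ζ ∉ Q.basicOpen (a t) := by
    intro h
    rw [Scheme.basicOpen_appLE] at h
    exact hnt h.2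
  rw [Scheme.mem_basicOpen Q F ζ hζΩ]
  have hloc : (Q.presheaf.germ Ω ζ hζΩ (a t)) ∈ nonunits (Q.presheaf.stalk ζ) :=
    (Scheme.mem_basicOpen Q (a t) ζ hζΩ).not.mp hat
  have hmul : Q.presheaf.germ Ω ζ hζΩ (a t) * Q.presheaf.germ Ω ζ hζΩ G ∈
      nonunits (Q.presheaf.stalk ζ) := by
    rw [← IsLocalRing.mem_maximalIdeal] at hloc ⊢
    exact Ideal.mul_mem_right _ _ hloc
  have hu := IsLocalRing.isUnit_one_sub_self_of_mem_nonunits _ hmul
  have : Q.presheaf.germ Ω ζ hζΩ F =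
      -(1 - Q.presheaf.germ Ω ζ hζΩ (a t) * Q.presheaf.germ Ω ζ hζΩ G) := by
    simp only [F, map_sub, map_mul, map_one]; ring
  rw [this]
  exact hu.neg

end Closure

open Limits in
/-- The graph of a morphism `W ⟶ Y` to a separated `S`-scheme is closed in the part of `P ×_S Y` over `W`. -/
theorem mem_range_of_mem_closure_of_mem {P S Y : Scheme.{u}} (pP : P ⟶ S) (pY : Y ⟶ S) [IsSeparated pY]
    (W : P.Opens) (ft : (W : Scheme.{u}) ⟶ Y) (hft : W.ι ≫ pP = ft ≫ pY)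
    (ζ : ↑(pullback pP pY)) (hζ : ζ ∈ closure (Set.range (pullback.lift W.ι ft hft)))
    (hW : pullback.fst pP pY ζ ∈ W) : ζ ∈ Set.range (pullback.lift W.ι ft hft) := by
  let Q : Scheme.{u} := pullback pP pY
  let pr₁ : Q ⟶ P := pullback.fst pP pY
  let σ : (W : Scheme.{u}) ⟶ Q := pullback.lift W.ι ft hft
  have hσ1 : σ ≫ pr₁ = W.ι := pullback.lift_fst _ _ _
  let QW : Q.Opens := pr₁ ⁻¹ᵁ W
  have hr : Set.range σ ⊆ Set.range QW.ι := by
    rintro _ ⟨w, rfl⟩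
    rw [Scheme.Opens.range_ι]
    change pr₁ (σ w) ∈ W
    rw [← Scheme.Hom.comp_apply, hσ1]
    exact w.2
  let σ' : (W : Scheme.{u}) ⟶ (QW : Scheme.{u}) := IsOpenImmersion.lift QW.ι σ hr
  have hσ' : σ' ≫ QW.ι = σ := IsOpenImmersion.lift_fac _ _ _
  have hid : σ' ≫ (pr₁ ∣_ W) = 𝟙 _ := by
    rw [← cancel_mono W.ι, Category.assoc, morphismRestrict_ι, ← Category.assoc, hσ', hσ1,
      Category.id_comp]
  have hcl : IsClosedImmersion σ' := by
    have : IsClosedImmersion (σ' ≫ (pr₁ ∣_ W)) := by rw [hid]; infer_instance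
    exact IsClosedImmersion.of_comp σ' (pr₁ ∣_ W)
  have hclosed : IsClosed (Set.range σ') := σ'.isClosedEmbedding.isClosed_range
  have hrange : Set.range σ = QW.ι '' Set.range σ' := by
    rw [← Set.range_comp]
    change _ = Set.range (σ' ≫ QW.ι)
    rw [hσ']
  let ζ' : (QW : Scheme.{u}) := ⟨ζ, hW⟩
  have hζ' : ζ' ∈ closure (Set.range σ') := by
    rw [QW.ι.isOpenEmbedding.isInducing.closure_eq_preimage_closure_image]
    change QW.ι ζ' ∈ closure (QW.ι '' Set.range σ')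
    rw [← hrange]
    exact hζ
  rw [hclosed.closure_eq] at hζ'
  obtain ⟨w, hw⟩ := hζ'
  refine ⟨w, ?_⟩
  change σ w = ζ
  rw [← hσ', Scheme.Hom.comp_apply, hw]
  rfl

end Groth.Agent.Lib.QDomLocal68
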