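import Mathlib
import Groth.Prelude.Def_BlowUp2
import Groth.Agent.Lib.QDomLocal68
import Groth.Agent.Lib.QDomGood68

/-!
# Local extension on one piece after blowing up (helper68)

`exists_local_extension`: after a morphism `q : P ⟶ X` making the inverse images of the denominator ideals
`(e_k)` and `(e_k, d_{jk})` effective Cartier, the morphism `f₀ : U₀ ⟶ Y₀ ⊆ Y` (with `U₀ ⊆ T` affine) extends to an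
open `W` of `q⁻¹ T` with graph closed in `q⁻¹ T ×_S Y₀`.
-/

set_option autoImplicit false

universe u

open CategoryTheory AlgebraicGeometry TopologicalSpace Opposite

namespace Groth.Agent.Lib.QDomPiece68

open Groth.Agent.Lib.QDomDom68 Groth.Agent.Lib.QDomLocal68 Groth.Agent.Lib.QDomGood68

/-- Morphisms into an affine open are determined by their comorphism. -/
theorem hom_ext_of_appLE {Z Y : Scheme.{u}} {Y₀ : Y.Opens} (hY₀ : IsAffineOpen Y₀) (f₁ f₂ : Z ⟶ Y)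
    (e₁ : (⊤ : Z.Opens) ≤ f₁ ⁻¹ᵁ Y₀) (e₂ : (⊤ : Z.Opens) ≤ f₂ ⁻¹ᵁ Y₀)
    (h : f₁.appLE Y₀ ⊤ e₁ = f₂.appLE Y₀ ⊤ e₂) : f₁ = f₂ := by
  have h1 := Groth.Agent.Lib.AffAlgH3.ι_comp_eq f₁ hY₀ ⊤ e₁
  have h2 := Groth.Agent.Lib.AffAlgH3.ι_comp_eq f₂ hY₀ ⊤ e₂
  rw [h] at h1
  have h3 : (⊤ : Z.Opens).ι ≫ f₁ = (⊤ : Z.Opens).ι ≫ f₂ := h1.trans h2.symm
  have h4 := congrArg (fun φ => Z.topIso.inv ≫ φ) h3
  simpa only [← Category.assoc, Scheme.toIso_inv_ι, Category.id_comp] using h4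

open Limits in
theorem exists_local_extension
    {P X S Y : Scheme.{u}} (q : P ⟶ X) (pX : X ⟶ S) (pY : Y ⟶ S) [IsSeparated pY]
    (pP : P ⟶ S) (hpP : pP = q ≫ pX)
    {T : X.Opens} (hT : IsAffineOpen T) {U₀ : X.Opens} (hU₀T : U₀ ≤ T)
    {S₀ : S.Opens} (hS₀ : IsAffineOpen S₀) (hTS : T ≤ pX ⁻¹ᵁ S₀)
    {Y₀ : Y.Opens} (hY₀ : IsAffineOpen Y₀) (hYS : Y₀ ≤ pY ⁻¹ᵁ S₀)
    (f₀ : (U₀ : Scheme.{u}) ⟶ Y) (hf₀ : U₀.ι ≫ pX = f₀ ≫ pY) (hf₀Y : (⊤ : (U₀ : Scheme.{u}).Opens) ≤ f₀ ⁻¹ᵁ Y₀)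
    {ι κ : Type*} [Fintype ι] [Fintype κ] (g : ι → Γ(Y, Y₀))
    (hgen : Subring.closure (Set.range g ∪ Set.range (pY.appLE S₀ Y₀ hYS).hom) = ⊤)
    (e : κ → Γ(X, T)) (d : ι → κ → Γ(X, T))
    (hcov : U₀ = ⨆ k, X.basicOpen (e k))
    (hrel : ∀ j k, U₀.ι.appLE T ⊤ (fun x _ => hU₀T x.2) (e k) * f₀.appLE Y₀ ⊤ hf₀Y (g j) =
      U₀.ι.appLE T ⊤ (fun x _ => hU₀T x.2) (d j k))
    (𝓘 𝓙 : X.IdealSheafData) (h𝓘 : 𝓘.ideal ⟨T, hT⟩ = Ideal.span (Set.range e))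
    (h𝓙 : 𝓙.ideal ⟨T, hT⟩ = Ideal.span (Set.range e ∪ Set.range fun p : ι × κ => d p.1 p.2))
    (hI : BlowUp.IsEffCartierIdeal (𝓘.comap q)) (hJ : BlowUp.IsEffCartierIdeal (𝓙.comap q)) :
    ∃ (W : P.Opens) (hUW : q ⁻¹ᵁ U₀ ≤ W) (_ : W ≤ q ⁻¹ᵁ T) (ft : (W : Scheme.{u}) ⟶ Y)
      (hft : W.ι ≫ pP = ft ≫ pY),
      P.homOfLE hUW ≫ ft = (q ∣_ U₀) ≫ f₀ ∧ (∀ w, ft w ∈ Y₀) ∧
      ∀ ζ ∈ closure (Set.range (pullback.lift W.ι ft hft)),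
        pullback.fst pP pY ζ ∈ q ⁻¹ᵁ T → pullback.snd pP pY ζ ∈ Y₀ →
        ζ ∈ Set.range (pullback.lift W.ι ft hft) := by
  classical
  subst hpP
  set U' : P.Opens := q ⁻¹ᵁ U₀ with hU'def
  set N₀ : P.Opens := q ⁻¹ᵁ T with hN₀def
  have hU' : U' ≤ N₀ := fun x hx => hU₀T hx
  let ψX : Γ(Y, Y₀) ⟶ Γ(U₀, ⊤) := f₀.appLE Y₀ ⊤ hf₀Y
  let ψ : Γ(Y, Y₀) ⟶ Γ(U', ⊤) := ψX ≫ (q ∣_ U₀).appTop
  -- schematic density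
  have hd : DenseIn N₀ U' := by
    apply denseIn_of_effCartier (𝓘.comap q) hI
    intro x hxN hxs
    rw [Scheme.IdealSheafData.support_comap] at hxs
    have hqx : q x ∈ T := hxN
    have h1 : q x ∉ 𝓘.support := hxs
    rw [Scheme.IdealSheafData.mem_support_iff_of_mem (I := 𝓘) (U := ⟨T, hT⟩) hqx, h𝓘,
      Scheme.zeroLocus_span, Scheme.mem_zeroLocus_iff] at h1
    push Not at h1
    obtain ⟨_, ⟨k, rfl⟩, hk⟩ := h1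
    change q x ∈ U₀
    rw [hcov]
    exact Opens.mem_iSup.mpr ⟨k, hk⟩
  -- the base sections extend
  have hcomm : (q ∣_ U₀) ≫ f₀ ≫ pY = U'.ι ≫ q ≫ pX := by
    rw [← hf₀, ← Category.assoc, morphismRestrict_ι, Category.assoc]
  have hNS : N₀ ≤ (q ≫ pX) ⁻¹ᵁ S₀ := fun x hx => hTS hx
  have hA₀ : ∀ β ∈ Set.range (pY.appLE S₀ Y₀ hYS).hom,
      ∃ ξ : Γ(P, N₀), resTo (U' := U') N₀ hU' ξ = ψ β := by
    rintro _ ⟨r₀, rfl⟩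
    refine ⟨(q ≫ pX).appLE S₀ N₀ hNS r₀, ?_⟩
    have e1 : (⊤ : (U' : Scheme.{u}).Opens) ≤ (U'.ι ≫ q ≫ pX) ⁻¹ᵁ S₀ := fun x _ => hNS (hU' x.2)
    have h1 : (q ≫ pX).appLE S₀ N₀ hNS ≫ resTo (U' := U') N₀ hU' =
        (U'.ι ≫ q ≫ pX).appLE S₀ ⊤ e1 := Scheme.Hom.appLE_comp_appLE _ _ _ _ _ _ _
    have e2 : (⊤ : (U' : Scheme.{u}).Opens) ≤ ((q ∣_ U₀) ≫ f₀ ≫ pY) ⁻¹ᵁ S₀ := hcomm ▸ e1
    have h2 : pY.appLE S₀ Y₀ hYS ≫ ψ = ((q ∣_ U₀) ≫ f₀ ≫ pY).appLE S₀ ⊤ e2 := by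
      have e3 : (⊤ : (U₀ : Scheme.{u}).Opens) ≤ (f₀ ≫ pY) ⁻¹ᵁ S₀ := fun x _ => hYS (hf₀Y (Set.mem_univ x))
      have h3 : pY.appLE S₀ Y₀ hYS ≫ ψX = (f₀ ≫ pY).appLE S₀ ⊤ e3 :=
        Scheme.Hom.appLE_comp_appLE _ _ _ _ _ _ _
      have h4 : (f₀ ≫ pY).appLE S₀ ⊤ e3 ≫ (q ∣_ U₀).appLE ⊤ ⊤ le_top =
          ((q ∣_ U₀) ≫ f₀ ≫ pY).appLE S₀ ⊤ e2 := Scheme.Hom.appLE_comp_appLE _ _ _ _ _ _ _
      have h6 : (q ∣_ U₀).appLE ⊤ ⊤ le_top = (q ∣_ U₀).appTop :=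
        Scheme.Hom.appLE_eq_app (q ∣_ U₀)
      rw [← h4, ← h3, Category.assoc, h6]
    have h5 : (U'.ι ≫ q ≫ pX).appLE S₀ ⊤ e1 = ((q ∣_ U₀) ≫ f₀ ≫ pY).appLE S₀ ⊤ e2 :=
      (appLE_congr_hom hcomm S₀ ⊤ e2).symm
    have := congrArg (fun φ => φ.hom r₀) (h1.trans (h5.trans h2.symm))
    simpa using this
  let W : P.Opens := dom N₀ U' (fun j => ψ (g j))
  have hUW : U' ≤ W := le_dom N₀ U' _ hU'
  obtain ⟨χ, hχ⟩ : ∃ χ : Γ(Y, Y₀) ⟶ Γ(P, W), χ ≫ resTo (U' := U') W hUW = ψ :=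
    exists_lift hU' ψ g hd _ hgen hA₀
  have hWN : W ≤ N₀ := dom_le N₀ U' _
  -- the original morphism
  have horig : origHom hY₀ ψ = (q ∣_ U₀) ≫ f₀ := by
    have e₂ : (⊤ : (U' : Scheme.{u}).Opens) ≤ ((q ∣_ U₀) ≫ f₀) ⁻¹ᵁ Y₀ := fun x _ =>
      hf₀Y (Set.mem_univ _)
    apply hom_ext_of_appLE hY₀ _ _ (range_toSpecΓ_comp_le hY₀ ψ) e₂
    rw [appLE_toSpecΓ_comp hY₀ ψ]
    have h6 : (q ∣_ U₀).appLE ⊤ ⊤ le_top = (q ∣_ U₀).appTop :=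
      Scheme.Hom.appLE_eq_app (q ∣_ U₀)
    have h7 : f₀.appLE Y₀ ⊤ hf₀Y ≫ (q ∣_ U₀).appLE ⊤ ⊤ le_top = ((q ∣_ U₀) ≫ f₀).appLE Y₀ ⊤ e₂ :=
      Scheme.Hom.appLE_comp_appLE _ _ _ _ _ _ _
    rw [← h7, h6]
  -- compatibility with the structure morphisms
  have hft : W.ι ≫ q ≫ pX = extHom hY₀ χ ≫ pY := by
    have e1 : (⊤ : (W : Scheme.{u}).Opens) ≤ (W.ι ≫ q ≫ pX) ⁻¹ᵁ S₀ := fun x _ => hNS (hWN x.2)
    have e2 : (⊤ : (W : Scheme.{u}).Opens) ≤ (extHom hY₀ χ ≫ pY) ⁻¹ᵁ S₀ := fun x _ =>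
      hYS (extHom_mem hY₀ χ x)
    have hj : P.homOfLE hUW ≫ (W.ι ≫ q ≫ pX) = P.homOfLE hUW ≫ (extHom hY₀ χ ≫ pY) := by
      rw [Scheme.homOfLE_ι_assoc, ← Category.assoc (P.homOfLE hUW), homOfLE_extHom hY₀ ψ hUW χ hχ,
        horig, Category.assoc, hcomm]
    apply hom_ext_of_appLE hS₀ _ _ e1 e2
    ext r₀
    have hinj : Function.Injective ((P.homOfLE hUW).appTop) :=
      homOfLE_app_injective hUW hd hWN ⊤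
    apply hinj
    have key : ∀ (A : (W : Scheme.{u}) ⟶ S) (eA : (⊤ : (W : Scheme.{u}).Opens) ≤ A ⁻¹ᵁ S₀),
        A.appLE S₀ ⊤ eA ≫ (P.homOfLE hUW).appTop =
          (P.homOfLE hUW ≫ A).appLE S₀ ⊤ (fun x _ => eA (Set.mem_univ _)) := by
      intro A eA
      have h6 : (P.homOfLE hUW).appLE ⊤ ⊤ le_top = (P.homOfLE hUW).appTop :=
        Scheme.Hom.appLE_eq_app (P.homOfLE hUW)
      rw [← h6]
      exact Scheme.Hom.appLE_comp_appLE _ _ _ _ _ _ _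
    have k1 := congrArg (fun φ => φ.hom r₀) (key _ e1)
    have k2 := congrArg (fun φ => φ.hom r₀) (key _ e2)
    simp only [CommRingCat.hom_comp, RingHom.comp_apply] at k1 k2
    rw [k1, k2, appLE_congr_hom hj]
  refine ⟨W, hUW, hWN, extHom hY₀ χ, hft, (homOfLE_extHom hY₀ ψ hUW χ hχ).trans horig,
    extHom_mem hY₀ χ, ?_⟩
  intro ζ hζ h1 h2
  obtain ⟨N, hxN, hNT, t, α₀, ρ, α, hρ, hα⟩ := exists_good q hT hU₀T e d (fun j => ψX (g j))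
    (le_of_eq hcov) hrel 𝓘 𝓙 h𝓘 h𝓙 hI hJ (pullback.fst (q ≫ pX) pY ζ) h1
  have hbo : P.basicOpen t ≤ W := basicOpen_le_dom ψ g hNT t ρ hρ
  have hmem := mem_basicOpen_of_mem_closure (q ≫ pX) pY hY₀ ψ g hUW χ hd hWN hχ hft t α₀ α hα ζ hζ
    hxN h2
  exact mem_range_of_mem_closure_of_mem _ _ W _ hft ζ hζ (hbo hmem)

end Groth.Agent.Lib.QDomPiece68
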