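import Groth.Agent.Lib.EffCartier96
import Groth.Prelude.Def_CInt
import Mathlib.AlgebraicGeometry.Morphisms.Separated

/-!
# Schematically dense opens (helper68)

* `isSchemeTheoreticallyDominant_ι`: if `U` is schematically dense in the sense of the Prelude
  (`CInt.IsSchematicallyDense U`) then the open immersion `U.ι` is scheme-theoretically dominant (Mathlib).
* `isSchematicallyDense_mono`: a larger open than a schematically dense open is schematically dense.
* `ext_of_isSchemeTheoreticallyDominant_of_isSeparated`: two morphisms `X ⟶ Y` over `Z` with `Y ⟶ Z` separated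
  which agree after composing with a scheme-theoretically dominant `ι : W ⟶ X` are equal (no reducedness needed).
* `ext_of_isSchematicallyDense_of_isSeparated`: the same for agreement on a schematically dense open.
-/

set_option autoImplicit false
universe u

open CategoryTheory CategoryTheory.Limits AlgebraicGeometry Opposite TopologicalSpace

namespace Groth.Agent.Lib.SchDense68

variable {W X Y Z : Scheme.{u}}

theorem isSchematicallyDense_mono {U U' : X.Opens} (h : U ≤ U') (hU : CInt.IsSchematicallyDense U) :
    CInt.IsSchematicallyDense U' := by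
  intro V
  have h1 := hU V
  rw [injective_iff_map_eq_zero] at h1 ⊢
  intro s hs
  apply h1
  have : X.presheaf.map (homOfLE (inf_le_left : V ⊓ U ≤ V)).op =
      X.presheaf.map (homOfLE (inf_le_left : V ⊓ U' ≤ V)).op ≫
        X.presheaf.map (homOfLE (inf_le_inf_left V h)).op := by
    rw [← Functor.map_comp]; rfl
  rw [this, CommRingCat.comp_apply, hs, map_zero]

/-- A schematically dense open (Prelude) has scheme-theoretically dominant inclusion (Mathlib). -/
theorem isSchemeTheoreticallyDominant_ι (U : X.Opens) (hU : CInt.IsSchematicallyDense U) :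
    IsSchemeTheoreticallyDominant U.ι := by
  apply Groth.Agent.Lib.EffCartier96.isSchemeTheoreticallyDominant_of_app_injective
  intro V
  have h1 := hU V.1
  rw [injective_iff_map_eq_zero] at h1 ⊢
  intro s hs
  apply h1
  have hle : V.1 ⊓ U ≤ U.ι ''ᵁ (U.ι ⁻¹ᵁ V.1) := by
    rw [Scheme.Hom.image_preimage_eq_opensRange_inf, Scheme.Opens.opensRange_ι, inf_comm]
  have hle' : U.ι ''ᵁ (U.ι ⁻¹ᵁ V.1) ≤ V.1 := Set.image_preimage_subset _ _
  have hs2 : X.presheaf.map (homOfLE hle').op s = 0 := hs
  have : X.presheaf.map (homOfLE (inf_le_left : V.1 ⊓ U ≤ V.1)).op =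
      X.presheaf.map (homOfLE hle').op ≫ X.presheaf.map (homOfLE hle).op := by
    rw [← Functor.map_comp]; rfl
  rw [this, CommRingCat.comp_apply, hs2, map_zero]

/-- A closed immersion with trivial kernel is an isomorphism. -/
theorem isIso_of_isClosedImmersion_of_ker_eq_bot (e : X ⟶ Y) [IsClosedImmersion e] (h : e.ker = ⊥) :
    IsIso e :=
  IsClosedImmersion.isIso_of_ker_eq e (𝟙 Y) e (Category.comp_id e)
    (h.trans (Scheme.Hom.ker_eq_bot_of_isIso (𝟙 Y)).symm)

/-- Two morphisms `X ⟶ Y` over `Z` (with `Y ⟶ Z` separated) that agree after composing with a scheme-theoretically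
dominant morphism are equal. -/
theorem ext_of_isSchemeTheoreticallyDominant_of_isSeparated {f g : X ⟶ Y}
    (s : Y ⟶ Z) [IsSeparated s] (h : f ≫ s = g ≫ s)
    (ι : W ⟶ X) [IsSchemeTheoreticallyDominant ι] (hU : ι ≫ f = ι ≫ g) : f = g := by
  let X' : Over Z := Over.mk (f ≫ s)
  let Y' : Over Z := Over.mk s
  let U' : Over Z := Over.mk (ι ≫ f ≫ s)
  let f' : X' ⟶ Y' := Over.homMk f
  let g' : X' ⟶ Y' := Over.homMk g
  let ι' : U' ⟶ X' := Over.homMk ι
  have : IsSeparated Y'.hom := ‹_›
  have hl : ι' ≫ f' = ι' ≫ g' := by ext1; exact hU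
  have hfac : (equalizer.lift ι' hl).left ≫ (equalizer.ι f' g').left = ι := by
    rw [← Over.comp_left, equalizer.lift_ι]
    rfl
  have hker : (equalizer.ι f' g').left.ker = ⊥ := by
    have h1 := Scheme.Hom.le_ker_comp (equalizer.lift ι' hl).left (equalizer.ι f' g').left
    rw [hfac, ι.ker_eq_bot] at h1
    exact le_bot_iff.mp h1
  have := isIso_of_isClosedImmersion_of_ker_eq_bot (equalizer.ι f' g').left hker
  rw [← cancel_epi (equalizer.ι f' g').left]
  exact congr($(equalizer.condition f' g').left)

/-- Two morphisms `X ⟶ Y` over `Z` (with `Y ⟶ Z` separated) that agree on a schematically dense open are equal. -/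
theorem ext_of_isSchematicallyDense_of_isSeparated {f g : X ⟶ Y}
    (s : Y ⟶ Z) [IsSeparated s] (h : f ≫ s = g ≫ s)
    (U : X.Opens) (hU : CInt.IsSchematicallyDense U) (hfg : U.ι ≫ f = U.ι ≫ g) : f = g := by
  have := isSchemeTheoreticallyDominant_ι U hU
  exact ext_of_isSchemeTheoreticallyDominant_of_isSeparated s h U.ι hfg

end Groth.Agent.Lib.SchDense68
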