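import Mathlib
import Groth.Prelude.Def_BlowUp2
import Groth.Agent.Lib.QDomPiece68
import Groth.Agent.Lib.QDomDenom68
import Groth.Agent.Lib.QDomIdeal68
import Groth.Agent.Lib.ImmersionGlue
import Groth.Agent.Lib.SchDense68

/-!
# Extension of quasi-dominations: the core gluing argument (helper68)

`core`: given a finite family of "pieces" `(T l, Y₀ l, S₀ l)` (affine opens of `X`, `Y`, `S`) adapted to
`f : U ⟶ Y` and covering the closure of its graph, there is a `V`-admissible blow-up of `X` on which `f`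
extends to a dense open with closed graph.
-/

set_option autoImplicit false

universe u

open CategoryTheory AlgebraicGeometry TopologicalSpace Opposite Limits

namespace Groth.Agent.Lib.QDomCore68

open Groth.Agent.Lib.QDomDom68 Groth.Agent.Lib.QDomLocal68 Groth.Agent.Lib.QDomGood68
  Groth.Agent.Lib.QDomPiece68 Groth.Agent.Lib.QDomIdeal68

/-- Generators and denominators for one piece. -/
theorem exists_piece_data {S X Y : Scheme.{u}} (pY : Y ⟶ S) [LocallyOfFiniteType pY]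
    {T : X.Opens} (hT : IsAffineOpen T) {U₀ : X.Opens} (hU₀T : U₀ ≤ T) (hU₀ : IsCompact (U₀ : Set X))
    {Y₀ : Y.Opens} (hY₀ : IsAffineOpen Y₀) {S₀ : S.Opens} (hS₀ : IsAffineOpen S₀)
    (hYS : Y₀ ≤ pY ⁻¹ᵁ S₀) (f₀ : (U₀ : Scheme.{u}) ⟶ Y)
    (hf₀Y : (⊤ : (U₀ : Scheme.{u}).Opens) ≤ f₀ ⁻¹ᵁ Y₀) :
    ∃ (ι κ : Type u) (_ : Fintype ι) (_ : Fintype κ) (g : ι → Γ(Y, Y₀)) (e : κ → Γ(X, T))
      (d : ι → κ → Γ(X, T)),
      Subring.closure (Set.range g ∪ Set.range (pY.appLE S₀ Y₀ hYS).hom) = ⊤ ∧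
      U₀ = ⨆ k, X.basicOpen (e k) ∧
      ∀ j k, U₀.ι.appLE T ⊤ (fun x _ => hU₀T x.2) (e k) * f₀.appLE Y₀ ⊤ hf₀Y (g j) =
        U₀.ι.appLE T ⊤ (fun x _ => hU₀T x.2) (d j k) := by
  classical
  have hft := pY.finiteType_appLE hS₀ hY₀ hYS
  let _ := (pY.appLE S₀ Y₀ hYS).hom.toAlgebra
  obtain ⟨s, hs⟩ := (show Algebra.FiniteType Γ(S, S₀) Γ(Y, Y₀) from hft).out
  have hgen : Subring.closure (Set.range (fun j : s => (j.1 : Γ(Y, Y₀))) ∪
      Set.range (pY.appLE S₀ Y₀ hYS).hom) = ⊤ := by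
    have h1 := Algebra.adjoin_eq_ring_closure (R := Γ(S, S₀)) (s : Set Γ(Y, Y₀))
    rw [hs] at h1
    rw [Set.union_comm, Subtype.range_coe_subtype]
    exact h1.symm
  obtain ⟨κ, instκ, e, d, hcov, hrel⟩ :=
    Groth.Agent.Lib.QDomDenom68.exists_denominators hT hU₀T hU₀
      (fun j : s => f₀.appLE Y₀ ⊤ hf₀Y (j.1 : Γ(Y, Y₀)))
  exact ⟨s, κ, inferInstance, instκ, fun j => j.1, e, d, hgen, hcov, hrel⟩

/-- Compatibility of `morphismRestrict` with inclusions of opens. -/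
theorem morphismRestrict_homOfLE {X' X : Scheme.{u}} (q : X' ⟶ X) {U₀ U : X.Opens} (h : U₀ ≤ U) :
    (q ∣_ U₀) ≫ X.homOfLE h =
      X'.homOfLE (show q ⁻¹ᵁ U₀ ≤ q ⁻¹ᵁ U from fun _ hx => h hx) ≫ (q ∣_ U) := by
  rw [← cancel_mono U.ι, Category.assoc, Category.assoc, Scheme.homOfLE_ι, morphismRestrict_ι,
    morphismRestrict_ι, Scheme.homOfLE_ι_assoc]

/-- The denominator ideal becomes trivial on affine opens inside `U₀`. -/
theorem map_span_eq_top {X : Scheme.{u}} {T : X.Opens} {κ : Type*} (e : κ → Γ(X, T))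
    (s : Set Γ(X, T)) (hs : Set.range e ⊆ s)
    (D : X.affineOpens) (hD : D.1 ≤ T) (hDU : D.1 ≤ ⨆ k, X.basicOpen (e k)) :
    (Ideal.span s).map (X.presheaf.map (homOfLE hD).op).hom = ⊤ := by
  rw [eq_top_iff, Ideal.map_span]
  have h1 : Ideal.span (Set.range fun k => (X.presheaf.map (homOfLE hD).op).hom (e k)) = ⊤ := by
    rw [← D.2.self_le_iSup_basicOpen_iff]
    intro x hx
    obtain ⟨k, hk⟩ := Opens.mem_iSup.mp (hDU hx)
    refine Opens.mem_iSup.mpr ⟨⟨_, ⟨k, rfl⟩⟩, ?_⟩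
    change x ∈ X.basicOpen ((X.presheaf.map (homOfLE hD).op).hom (e k))
    rw [Scheme.basicOpen_res]
    exact ⟨hx, hk⟩
  rw [← h1]
  apply Ideal.span_mono
  rintro _ ⟨k, rfl⟩
  exact ⟨e k, hs ⟨k, rfl⟩, rfl⟩

/-- Gluing morphisms defined on a family of opens of `X` to their union. -/
theorem exists_glue_opens {X Z : Scheme.{u}} {J : Type u} (Wl : J → X.Opens)
    (g : ∀ l, (Wl l : Scheme.{u}) ⟶ Z)
    (hg : ∀ i i', X.homOfLE (inf_le_left : Wl i ⊓ Wl i' ≤ Wl i) ≫ g i =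
      X.homOfLE (inf_le_right : Wl i ⊓ Wl i' ≤ Wl i') ≫ g i') :
    ∃ h : ((⨆ l, Wl l : X.Opens) : Scheme.{u}) ⟶ Z, ∀ l, X.homOfLE (le_iSup Wl l) ≫ h = g l := by
  have key := Groth.Agent.Lib.ImmersionGlue.existsUnique_glue (Scheme.Opens.iSupOpenCover Wl) g ?_
  · obtain ⟨h, hh, -⟩ := key
    exact ⟨h, hh⟩
  · intro (i : J) (i' : J) (x : Wl i) (x' : Wl i') hxx'
    change X.homOfLE (le_iSup Wl i) x = X.homOfLE (le_iSup Wl i') x' at hxx'
    have hx' : x.1 ∈ Wl i' := by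
      have h1 := congrArg Subtype.val hxx'
      rw [Scheme.homOfLE_apply, Scheme.homOfLE_apply] at h1
      rw [h1]
      exact x'.2
    let a : ((Wl i ⊓ Wl i' : X.Opens) : Scheme.{u}) ⟶ (Wl i : Scheme.{u}) := X.homOfLE inf_le_left
    let b : ((Wl i ⊓ Wl i' : X.Opens) : Scheme.{u}) ⟶ (Wl i' : Scheme.{u}) := X.homOfLE inf_le_right
    have ha : IsOpenImmersion a := inferInstance
    have hxa : x ∈ Set.range a := ⟨⟨x.1, x.2, hx'⟩, by
      apply Subtype.ext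
      rw [Scheme.homOfLE_apply]⟩
    have hab : a ≫ X.homOfLE (le_iSup Wl i) = b ≫ X.homOfLE (le_iSup Wl i') := by
      rw [Scheme.homOfLE_homOfLE, Scheme.homOfLE_homOfLE]
    exact ⟨_, a, b, ha, hxa, hab, hg i i'⟩

/-- Morphisms out of a union of opens are determined by their restrictions. -/
theorem hom_ext_iSup {X Z : Scheme.{u}} {J : Type u} (Wl : J → X.Opens)
    (h₁ h₂ : ((⨆ l, Wl l : X.Opens) : Scheme.{u}) ⟶ Z)
    (h : ∀ l, X.homOfLE (le_iSup Wl l) ≫ h₁ = X.homOfLE (le_iSup Wl l) ≫ h₂) : h₁ = h₂ :=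
  (Scheme.Opens.iSupOpenCover Wl).hom_ext _ _ h

theorem core {S X Y : Scheme.{u}} [CompactSpace X] [QuasiSeparatedSpace X]
    (pX : X ⟶ S) (pY : Y ⟶ S) [IsSeparated pY] [LocallyOfFiniteType pY]
    (U V : X.Opens) (hU : IsCompact (U : Set X)) (hV : IsCompact (V : Set X))
    (hUd : Dense (U : Set X))
    (f : (U : Scheme.{u}) ⟶ Y) (hf : U.ι ≫ pX = f ≫ pY)
    {Λ : Type u} [Fintype Λ]
    (T : Λ → X.Opens) (hT : ∀ l, IsAffineOpen (T l))
    (Y₀ : Λ → Y.Opens) (hY₀ : ∀ l, IsAffineOpen (Y₀ l))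
    (S₀ : Λ → S.Opens) (hS₀ : ∀ l, IsAffineOpen (S₀ l))
    (hTS : ∀ l, T l ≤ pX ⁻¹ᵁ S₀ l) (hYS : ∀ l, Y₀ l ≤ pY ⁻¹ᵁ S₀ l)
    (hTV : ∀ l, T l ⊓ V ≤ U)
    (hfY : ∀ l (x : (U : Scheme.{u})), x.1 ∈ T l → f x ∈ Y₀ l)
    (hcover : ∀ ζ ∈ closure (Set.range (pullback.lift U.ι f hf)),
      ∃ l, pullback.fst pX pY ζ ∈ T l ∧ pullback.snd pX pY ζ ∈ Y₀ l) :
    ∃ (𝓘 : X.IdealSheafData) (Xt : Scheme.{u}) (q : Xt ⟶ X),
      BlowUp.IsBlowUp q 𝓘 ∧ BlowUp.IsAdmissibleFor V 𝓘 ∧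
      ∃ (W : Xt.Opens) (hle : q ⁻¹ᵁ U ≤ W) (ft : (W : Scheme.{u}) ⟶ Y)
        (hft : W.ι ≫ q ≫ pX = ft ≫ pY),
        Dense (W : Set Xt) ∧ Xt.homOfLE hle ≫ ft = (q ∣_ U) ≫ f ∧
        IsClosed (Set.range (pullback.lift W.ι ft hft)) := by
  classical
  -- the pieces
  let U₀ : Λ → X.Opens := fun l => T l ⊓ U
  have hU₀T : ∀ l, U₀ l ≤ T l := fun l => inf_le_left
  have hU₀U : ∀ l, U₀ l ≤ U := fun l => inf_le_right
  have hU₀c : ∀ l, IsCompact (U₀ l : Set X) := fun l =>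
    QuasiSeparatedSpace.inter_isCompact _ _ (T l).2 (hT l).isCompact U.2 hU
  let f₀ : ∀ l, (U₀ l : Scheme.{u}) ⟶ Y := fun l => X.homOfLE (hU₀U l) ≫ f
  have hf₀ : ∀ l, (U₀ l).ι ≫ pX = f₀ l ≫ pY := fun l => by
    rw [Category.assoc, ← hf, Scheme.homOfLE_ι_assoc]
  have hf₀Y : ∀ l, (⊤ : (U₀ l : Scheme.{u}).Opens) ≤ f₀ l ⁻¹ᵁ Y₀ l := fun l x _ => by
    change f (X.homOfLE (hU₀U l) x) ∈ Y₀ l
    apply hfY l
    rw [Scheme.homOfLE_apply]
    exact x.2.1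
  have hdata := fun l => exists_piece_data pY (hT l) (hU₀T l) (hU₀c l) (hY₀ l) (hS₀ l) (hYS l)
    (f₀ l) (hf₀Y l)
  choose ι κ instι instκ g e d hgen hcov hrel using hdata
  -- the ideals
  let I : ∀ l, Ideal Γ(X, T l) := fun l => Ideal.span (Set.range (e l))
  let J : ∀ l, Ideal Γ(X, T l) := fun l =>
    Ideal.span (Set.range (e l) ∪ Set.range fun p : ι l × κ l => d l p.1 p.2)
  have hIfg : ∀ l, (I l).FG := fun l => by
    let _ := instκ l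
    exact ⟨(Set.finite_range (e l)).toFinset, by simp [I]⟩
  have hJfg : ∀ l, (J l).FG := fun l => by
    let _ := instκ l
    let _ := instι l
    exact ⟨((Set.finite_range (e l)).union
      (Set.finite_range fun p : ι l × κ l => d l p.1 p.2)).toFinset, by simp [J]⟩
  have hDle : ∀ l (D : X.affineOpens), D.1 ≤ T l → D.1 ≤ V → D.1 ≤ ⨆ k, X.basicOpen (e l k) :=
    fun l D hD hDV => by
      rw [← hcov l]
      exact fun x hx => ⟨hD hx, hTV l ⟨hD hx, hDV hx⟩⟩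
  have hIext := fun l => exists_ideal_ext V hV ⟨T l, hT l⟩ (I l) (hIfg l)
    (fun D hD hDV => map_span_eq_top (e l) _ le_rfl D hD (hDle l D hD hDV))
  have hJext := fun l => exists_ideal_ext V hV ⟨T l, hT l⟩ (J l) (hJfg l)
    (fun D hD hDV => map_span_eq_top (e l) _ Set.subset_union_left D hD (hDle l D hD hDV))
  choose 𝓘' h𝓘'adm h𝓘' using hIext
  choose 𝓙' h𝓙'adm h𝓙' using hJext
  -- the blow-up
  let F : Λ × Bool → X.IdealSheafData := fun p => if p.2 then 𝓘' p.1 else 𝓙' p.1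
  let 𝓚 : X.IdealSheafData := ∏ p ∈ (Finset.univ : Finset (Λ × Bool)), F p
  have h𝓚adm : BlowUp.IsAdmissibleFor V 𝓚 := by
    apply Groth.Agent.Lib.BlowUpAdm68.isAdmissibleFor_prod
    rintro ⟨l, b⟩ -
    cases b
    · exact h𝓙'adm l
    · exact h𝓘'adm l
  obtain ⟨Xt, q, hq⟩ := Groth.Agent.Lib.BlowUpGlue68.exists_isBlowUp X 𝓚
  have hI : ∀ l, BlowUp.IsEffCartierIdeal ((𝓘' l).comap q) := fun l =>
    isEffCartier_comap_of_isBlowUp_prod Finset.univ F q hq (l, true) (Finset.mem_univ _)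
  have hJ : ∀ l, BlowUp.IsEffCartierIdeal ((𝓙' l).comap q) := fun l =>
    isEffCartier_comap_of_isBlowUp_prod Finset.univ F q hq (l, false) (Finset.mem_univ _)
  refine ⟨𝓚, Xt, q, hq, h𝓚adm, ?_⟩
  -- the local extensions
  have hloc := fun l => @exists_local_extension Xt X S Y q pX pY _ (q ≫ pX) rfl (T l) (hT l) (U₀ l)
    (hU₀T l) (S₀ l) (hS₀ l) (hTS l) (Y₀ l) (hY₀ l) (hYS l) (f₀ l) (hf₀ l) (hf₀Y l) (ι l) (κ l)
    (instι l) (instκ l) (g l) (hgen l) (e l) (d l) (hcov l) (hrel l) (𝓘' l) (𝓙' l) (h𝓘' l) (h𝓙' l)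
    (hI l) (hJ l)
  choose Wl hUW hWT ftl hftl hext hmem hcl using hloc
  -- key compatibility on opens inside `q⁻¹(U₀ l)`
  have hpre : ∀ l, q ⁻¹ᵁ U₀ l ≤ q ⁻¹ᵁ U := fun l _ hx => hU₀U l hx
  have hkey : ∀ l (A : Xt.Opens) (hA : A ≤ q ⁻¹ᵁ U₀ l),
      Xt.homOfLE (hA.trans (hUW l)) ≫ ftl l = Xt.homOfLE (hA.trans (hpre l)) ≫ (q ∣_ U) ≫ f := by
    intro l A hA
    rw [← Scheme.homOfLE_homOfLE Xt hA (hUW l), Category.assoc, hext l]
    change _ ≫ (q ∣_ U₀ l) ≫ X.homOfLE (hU₀U l) ≫ f = _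
    rw [← Category.assoc (q ∣_ U₀ l), morphismRestrict_homOfLE q (hU₀U l), Category.assoc,
      Scheme.homOfLE_homOfLE_assoc]
  -- schematic density
  have hdl : ∀ l, DenseIn (q ⁻¹ᵁ T l) (q ⁻¹ᵁ U₀ l) := by
    intro l
    apply denseIn_of_effCartier ((𝓘' l).comap q) (hI l)
    intro x hxN hxs
    rw [Scheme.IdealSheafData.support_comap] at hxs
    have hqx : q x ∈ T l := hxN
    have h1 : q x ∉ (𝓘' l).support := hxs
    rw [Scheme.IdealSheafData.mem_support_iff_of_mem (I := 𝓘' l) (U := ⟨T l, hT l⟩) hqx, h𝓘' l,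
      Scheme.zeroLocus_span, Scheme.mem_zeroLocus_iff] at h1
    push Not at h1
    obtain ⟨_, ⟨k, rfl⟩, hk⟩ := h1
    change q x ∈ U₀ l
    rw [hcov l]
    exact Opens.mem_iSup.mpr ⟨k, hk⟩
  -- gluing
  let W : Xt.Opens := ⨆ l, Wl l
  have hcompat : ∀ (i i' : Λ), Xt.homOfLE (inf_le_left : Wl i ⊓ Wl i' ≤ Wl i) ≫ ftl i =
      Xt.homOfLE (inf_le_right : Wl i ⊓ Wl i' ≤ Wl i') ≫ ftl i' := by
    intro i i'
    let O : Xt.Opens := Wl i ⊓ Wl i'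
    let U'' : Xt.Opens := O ⊓ q ⁻¹ᵁ U₀ i
    have hU''O : U'' ≤ O := inf_le_left
    have hOT : O ≤ q ⁻¹ᵁ T i := inf_le_left.trans (hWT i)
    have := isSchemeTheoreticallyDominant_homOfLE (hdl i) hOT hU''O le_rfl
    have hA : U'' ≤ q ⁻¹ᵁ U₀ i := inf_le_right
    have hA' : U'' ≤ q ⁻¹ᵁ U₀ i' := fun x hx => ⟨hWT i' hx.1.2, (hA hx).2⟩
    refine Groth.Agent.Lib.SchDense68.ext_of_isSchemeTheoreticallyDominant_of_isSeparated pY ?_
      (Xt.homOfLE hU''O) ?_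
    · rw [Category.assoc, Category.assoc, ← hftl i, ← hftl i', Scheme.homOfLE_ι_assoc,
        Scheme.homOfLE_ι_assoc]
    · rw [← Category.assoc, ← Category.assoc, Scheme.homOfLE_homOfLE, Scheme.homOfLE_homOfLE]
      exact (hkey i U'' hA).trans (hkey i' U'' hA').symm
  obtain ⟨ft, hftl'⟩ := exists_glue_opens Wl ftl hcompat
  have hft : W.ι ≫ q ≫ pX = ft ≫ pY := by
    apply hom_ext_iSup Wl
    intro l
    rw [← Category.assoc (Xt.homOfLE (le_iSup Wl l)) ft, hftl' l, ← hftl l, Scheme.homOfLE_ι_assoc]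
  have hmemU₀ : ∀ x : Xt, q x ∈ U → ∃ l, x ∈ q ⁻¹ᵁ U₀ l := by
    intro x hx
    obtain ⟨l, hl, -⟩ := hcover (pullback.lift U.ι f hf ⟨q x, hx⟩) (subset_closure ⟨_, rfl⟩)
    refine ⟨l, ?_, hx⟩
    have h1 : pullback.fst pX pY (pullback.lift U.ι f hf ⟨q x, hx⟩) = q x := by
      rw [← Scheme.Hom.comp_apply, pullback.lift_fst]
      rfl
    rw [h1] at hl
    exact hl
  have hle : q ⁻¹ᵁ U ≤ W := by
    intro x hx
    obtain ⟨l, hl⟩ := hmemU₀ x hx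
    exact Opens.mem_iSup.mpr ⟨l, hUW l hl⟩
  have hWd : Dense (W : Set Xt) := (dense_preimage_of_isBlowUp hq U hUd).mono hle
  have hextend : Xt.homOfLE hle ≫ ft = (q ∣_ U) ≫ f := by
    apply Groth.Agent.Lib.ImmersionGlue.hom_ext_of_forall_isOpenImmersion
    intro x
    obtain ⟨l, hl⟩ := hmemU₀ x.1 x.2
    refine ⟨(q ⁻¹ᵁ U₀ l : Xt.Opens), Xt.homOfLE (hpre l), inferInstance, ⟨⟨x.1, hl⟩, ?_⟩, ?_⟩
    · apply Subtype.ext
      rw [Scheme.homOfLE_apply]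
    · rw [← Category.assoc, Scheme.homOfLE_homOfLE, ← hkey l _ le_rfl, ← hftl' l, ← Category.assoc,
        Scheme.homOfLE_homOfLE]
  refine ⟨W, hle, ft, hft, hWd, hextend, ?_⟩
  -- closedness of the graph
  let σ : (W : Scheme.{u}) ⟶ pullback (q ≫ pX) pY := pullback.lift W.ι ft hft
  let γ : (U : Scheme.{u}) ⟶ pullback pX pY := pullback.lift U.ι f hf
  let μ : pullback (q ≫ pX) pY ⟶ pullback pX pY :=
    pullback.lift (pullback.fst (q ≫ pX) pY ≫ q) (pullback.snd (q ≫ pX) pY)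
      (by rw [Category.assoc, pullback.condition])
  have hμ : Xt.homOfLE hle ≫ σ ≫ μ = (q ∣_ U) ≫ γ := by
    apply pullback.hom_ext
    · simp only [σ, μ, γ, Category.assoc, pullback.lift_fst, pullback.lift_fst_assoc,
        Scheme.homOfLE_ι_assoc, morphismRestrict_ι]
    · simp only [σ, μ, γ, Category.assoc, pullback.lift_snd, hextend]
  change IsClosed (Set.range σ)
  rw [← closure_subset_iff_isClosed]
  intro ζ hζ
  let D : Set (W : Scheme.{u}) := W.ι ⁻¹' ((q ⁻¹ᵁ U : Xt.Opens) : Set Xt)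
  have hD : Dense D :=
    (dense_preimage_of_isBlowUp hq U hUd).preimage W.ι.isOpenEmbedding.isOpenMap
  have h1 : Set.range σ ⊆ closure (σ '' D) := by
    rw [← Set.image_univ, ← hD.closure_eq]
    exact image_closure_subset_closure_image σ.continuous
  have hζ1 : ζ ∈ closure (σ '' D) := closure_minimal h1 isClosed_closure hζ
  have hμD : μ '' (σ '' D) ⊆ Set.range γ := by
    rintro _ ⟨_, ⟨w, hw, rfl⟩, rfl⟩
    refine ⟨(q ∣_ U) ⟨w.1, hw⟩, ?_⟩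
    have h2 : Xt.homOfLE hle ⟨w.1, hw⟩ = w := by
      apply Subtype.ext
      rw [Scheme.homOfLE_apply]
    rw [← Scheme.Hom.comp_apply, ← hμ, Scheme.Hom.comp_apply, Scheme.Hom.comp_apply, h2]
  have hζ2 : μ ζ ∈ closure (Set.range γ) :=
    closure_mono hμD (image_closure_subset_closure_image μ.continuous ⟨ζ, hζ1, rfl⟩)
  obtain ⟨l, hl1, hl2⟩ := hcover (μ ζ) hζ2
  have hfst : pullback.fst pX pY (μ ζ) = q (pullback.fst (q ≫ pX) pY ζ) := by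
    rw [← Scheme.Hom.comp_apply, ← Scheme.Hom.comp_apply, pullback.lift_fst]
  have hsnd : pullback.snd pX pY (μ ζ) = pullback.snd (q ≫ pX) pY ζ := by
    rw [← Scheme.Hom.comp_apply, pullback.lift_snd]
  rw [hfst] at hl1
  rw [hsnd] at hl2
  let σl : (Wl l : Scheme.{u}) ⟶ pullback (q ≫ pX) pY := pullback.lift (Wl l).ι (ftl l) (hftl l)
  have hσl : Xt.homOfLE (le_iSup Wl l) ≫ σ = σl := by
    apply pullback.hom_ext
    · simp only [σ, σl, Category.assoc, pullback.lift_fst]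
      exact Scheme.homOfLE_ι _ _
    · simp only [σ, σl, Category.assoc, pullback.lift_snd, hftl' l]
  let Ω : Set ↥(pullback (q ≫ pX) pY) :=
    (pullback.fst (q ≫ pX) pY) ⁻¹' ((q ⁻¹ᵁ T l : Xt.Opens) : Set Xt)
  have hΩ : IsOpen Ω := (q ⁻¹ᵁ T l).2.preimage (pullback.fst (q ≫ pX) pY).continuous
  have hζ3 : ζ ∈ closure (Ω ∩ σ '' D) := hΩ.inter_closure ⟨hl1, hζ1⟩
  have hsub : Ω ∩ σ '' D ⊆ Set.range σl := by
    rintro _ ⟨hΩw, w, hw, rfl⟩
    have hw1 : pullback.fst (q ≫ pX) pY (σ w) = w.1 := by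
      rw [← Scheme.Hom.comp_apply, pullback.lift_fst]
      rfl
    have hwT : w.1 ∈ q ⁻¹ᵁ T l := by
      rw [← hw1]
      exact hΩw
    have hwl : w.1 ∈ Wl l := hUW l ⟨hwT, hw⟩
    refine ⟨⟨w.1, hwl⟩, ?_⟩
    have h2 : Xt.homOfLE (le_iSup Wl l) ⟨w.1, hwl⟩ = w := by
      apply Subtype.ext
      rw [Scheme.homOfLE_apply]
    rw [← hσl, Scheme.Hom.comp_apply, h2]
  obtain ⟨wl, hwl⟩ := hcl l ζ (closure_mono hsub hζ3) hl1 hl2
  refine ⟨Xt.homOfLE (le_iSup Wl l) wl, ?_⟩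
  rw [← Scheme.Hom.comp_apply, hσl]
  exact hwl

end Groth.Agent.Lib.QDomCore68
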