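import Mathlib
import Groth.Prelude.Def_BlowUp2
import Groth.Agent.S17392
import Groth.Agent.Lib.QDomCore68
import Groth.Agent.Lib.BlowUpProper68

/-!
# Separation step for extending quasi-dominations (helper68)

After a `V`-admissible blow-up `c : X' ⟶ X`, the closure of the graph of `f' = (c ∣_ U) ≫ f` in `X' ×_S Y` is
covered by finitely many "pieces" `T × Y₀` with `T ⊆ X'`, `Y₀ ⊆ Y` affine opens such that `T ∩ c⁻¹V ⊆ c⁻¹U`
and `f'(T ∩ c⁻¹U) ⊆ Y₀`.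
-/

set_option autoImplicit false

universe u

open CategoryTheory AlgebraicGeometry TopologicalSpace Opposite Limits

namespace Groth.Agent.Lib.QDomSep68

/-- A finite cover of `Y` by affine opens each mapping into an affine open of `S`. -/
theorem exists_affine_cover_pair {S Y : Scheme.{u}} [CompactSpace Y] (pY : Y ⟶ S) :
    ∃ (I : Type u) (_ : Fintype I) (Y₀ : I → Y.Opens) (S₀ : I → S.Opens),
      (∀ i, IsAffineOpen (Y₀ i)) ∧ (∀ i, IsAffineOpen (S₀ i)) ∧ (∀ i, Y₀ i ≤ pY ⁻¹ᵁ S₀ i) ∧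
      ∀ y : Y, ∃ i, y ∈ Y₀ i := by
  classical
  have h : ∀ y : Y, ∃ (Yy : Y.Opens) (Sy : S.Opens), IsAffineOpen Yy ∧ IsAffineOpen Sy ∧
      Yy ≤ pY ⁻¹ᵁ Sy ∧ y ∈ Yy := by
    intro y
    obtain ⟨Sy, hSy, hyS, -⟩ := (Opens.isBasis_iff_nbhd.mp (Scheme.isBasis_affineOpens S))
      (show pY y ∈ (⊤ : S.Opens) from trivial)
    obtain ⟨Yy, hYy, hyY, hle⟩ := (Opens.isBasis_iff_nbhd.mp (Scheme.isBasis_affineOpens Y))
      (show y ∈ pY ⁻¹ᵁ Sy from hyS)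
    exact ⟨Yy, Sy, hYy, hSy, hle, hyY⟩
  choose Yy Sy hYy hSy hle hmem using h
  obtain ⟨t, ht⟩ := isCompact_univ.elim_finite_subcover (fun y => (Yy y : Set Y))
    (fun y => (Yy y).2) (fun y _ => Set.mem_iUnion.mpr ⟨y, hmem y⟩)
  refine ⟨↥t, inferInstance, fun i => Yy i.1, fun i => Sy i.1, fun i => hYy _, fun i => hSy _,
    fun i => hle _, fun y => ?_⟩
  obtain ⟨i, hi, hy⟩ := Set.mem_iUnion₂.mp (ht (Set.mem_univ y))
  exact ⟨⟨i, hi⟩, hy⟩

/-- The separation property of `S17392` is inherited by morphisms factoring through the blow-up. -/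
theorem star_of_factor {X₁ X₂ X₁' X₁'' : Scheme.{u}} (q : X₂ ⟶ X₁) (c₁ : X₁' ⟶ X₁)
    (d : X₁'' ⟶ X₁') (c : X₁'' ⟶ X₁) (hc : d ≫ c₁ = c) (A : Set X₁) (B Z₂ : Set X₂)
    (h : (fun z => (pullback.snd q c₁) z) ⁻¹' closure ((fun x => c₁ x) ⁻¹' A) ∩
        closure ((fun z => (pullback.fst q c₁) z) ⁻¹' B) ⊆ (fun z => (pullback.fst q c₁) z) ⁻¹' Z₂) :
    (fun z => (pullback.snd q c) z) ⁻¹' closure ((fun x => c x) ⁻¹' A) ∩
        closure ((fun z => (pullback.fst q c) z) ⁻¹' B) ⊆ (fun z => (pullback.fst q c) z) ⁻¹' Z₂ := by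
  subst hc
  let m : pullback q (d ≫ c₁) ⟶ pullback q c₁ :=
    pullback.lift (pullback.fst _ _) (pullback.snd _ _ ≫ d) (by rw [Category.assoc, pullback.condition])
  have hm1 : m ≫ pullback.fst q c₁ = pullback.fst _ _ := pullback.lift_fst _ _ _
  have hm2 : m ≫ pullback.snd q c₁ = pullback.snd _ _ ≫ d := pullback.lift_snd _ _ _
  rintro z ⟨hz1, hz2⟩
  have h1 : m z ∈ (fun z => (pullback.snd q c₁) z) ⁻¹' closure ((fun x => c₁ x) ⁻¹' A) := by
    change pullback.snd q c₁ (m z) ∈ closure ((fun x => c₁ x) ⁻¹' A)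
    rw [← Scheme.Hom.comp_apply, hm2, Scheme.Hom.comp_apply]
    have hsub : (fun x => (d ≫ c₁) x) ⁻¹' A ⊆ d ⁻¹' ((fun x => c₁ x) ⁻¹' A) := fun x hx => by
      change c₁ (d x) ∈ A
      rw [← Scheme.Hom.comp_apply]
      exact hx
    exact closure_mono (Set.image_subset_iff.mpr hsub)
      (image_closure_subset_closure_image d.continuous ⟨_, hz1, rfl⟩)
  have h2 : m z ∈ closure ((fun z => (pullback.fst q c₁) z) ⁻¹' B) := by
    have hsub : (fun z => (pullback.fst q (d ≫ c₁)) z) ⁻¹' B ⊆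
        m ⁻¹' ((fun z => (pullback.fst q c₁) z) ⁻¹' B) := by
      intro w hw
      change pullback.fst q c₁ (m w) ∈ B
      rw [← Scheme.Hom.comp_apply, hm1]
      exact hw
    exact closure_mono (Set.image_subset_iff.mpr hsub)
      (image_closure_subset_closure_image m.continuous ⟨_, hz2, rfl⟩)
  have h3 := h ⟨h1, h2⟩
  change pullback.fst q c₁ (m z) ∈ Z₂ at h3
  rw [← Scheme.Hom.comp_apply, hm1] at h3
  exact h3

section Theta

variable {S X Y Z X' : Scheme.{u}} (pX : X ⟶ S) (pY : Y ⟶ S) (j : Z ⟶ pullback pX pY) (c : X' ⟶ X)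

/-- The comparison morphism `Z ×_X X' ⟶ X' ×_S Y` for `Z ⟶ X ×_S Y`. -/
noncomputable def theta : pullback (j ≫ pullback.fst pX pY) c ⟶ pullback (c ≫ pX) pY :=
  pullback.lift (pullback.snd _ _) (pullback.fst _ _ ≫ j ≫ pullback.snd pX pY) (by
    rw [← Category.assoc (pullback.snd _ _), ← pullback.condition]
    simp only [Category.assoc]
    rw [pullback.condition])

theorem theta_fst : theta pX pY j c ≫ pullback.fst _ _ = pullback.snd _ _ :=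
  pullback.lift_fst _ _ _

theorem theta_snd :
    theta pX pY j c ≫ pullback.snd _ _ = pullback.fst _ _ ≫ j ≫ pullback.snd pX pY :=
  pullback.lift_snd _ _ _

/-- The base change morphism `X' ×_S Y ⟶ X ×_S Y`. -/
noncomputable def mu : pullback (c ≫ pX) pY ⟶ pullback pX pY :=
  pullback.lift (pullback.fst _ _ ≫ c) (pullback.snd _ _) (by
    rw [Category.assoc, pullback.condition])

theorem isPullback_mu :
    IsPullback (mu pX pY c) (pullback.fst (c ≫ pX) pY) (pullback.fst pX pY) c := by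
  refine IsPullback.of_right (h₁₂ := pullback.snd pX pY) (v₁₃ := pY) (h₂₂ := pX) ?_ ?_
    (IsPullback.of_hasPullback pX pY).flip
  · have h1 : mu pX pY c ≫ pullback.snd pX pY = pullback.snd (c ≫ pX) pY := pullback.lift_snd _ _ _
    rw [h1]
    exact (IsPullback.of_hasPullback (c ≫ pX) pY).flip
  · exact pullback.lift_fst _ _ _

theorem isPullback_theta :
    IsPullback (pullback.fst (j ≫ pullback.fst pX pY) c) (theta pX pY j c) j (mu pX pY c) := by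
  refine IsPullback.of_bot (v₂₁ := pullback.fst (c ≫ pX) pY) (v₂₂ := pullback.fst pX pY) (h₃₁ := c)
    ?_ ?_ (isPullback_mu pX pY c)
  · rw [theta_fst]
    exact IsPullback.of_hasPullback _ _
  · apply pullback.hom_ext
    · rw [Category.assoc, Category.assoc, pullback.condition]
      simp only [mu, pullback.lift_fst]
      rw [← Category.assoc, theta_fst]
    · rw [Category.assoc, Category.assoc]
      simp only [mu, pullback.lift_snd]
      rw [theta_snd]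

theorem isClosedImmersion_theta [IsClosedImmersion j] : IsClosedImmersion (theta pX pY j c) :=
  MorphismProperty.of_isPullback (P := @IsClosedImmersion) (isPullback_theta pX pY j c) ‹_›

end Theta

/-- **Separation ideal for one affine open `Y₁` of `Y`** (via `S17392`). -/
theorem exists_sep_ideal {S X Y : Scheme.{u}} [QuasiSeparatedSpace S]
    [CompactSpace X] [QuasiSeparatedSpace X] [CompactSpace Y] [QuasiSeparatedSpace Y]
    (pX : X ⟶ S) (pY : Y ⟶ S) [IsSeparated pY]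
    (U V : X.Opens) (hUV : U ≤ V) (hU : IsCompact (U : Set X)) (hV : IsCompact (V : Set X))
    (f : (U : Scheme.{u}) ⟶ Y) (hf : U.ι ≫ pX = f ≫ pY)
    (hcl : closure (Set.range (pullback.lift U.ι f hf)) ∩
        ((pullback.fst pX pY) ⁻¹ᵁ V : Set ↥(pullback pX pY)) ⊆ Set.range (pullback.lift U.ι f hf))
    (Y₁ : Y.Opens) (hY₁ : IsCompact (Y₁ : Set Y)) :
    ∃ 𝓔 : X.IdealSheafData, BlowUp.IsAdmissibleFor V 𝓔 ∧
      ∀ (X₁ X' : Scheme.{u}) (c₁ : X₁ ⟶ X) (d : X' ⟶ X₁) (c : X' ⟶ X), BlowUp.IsBlowUp c₁ 𝓔 →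
        d ≫ c₁ = c →
        ∀ (f' : ((c ⁻¹ᵁ U : X'.Opens) : Scheme.{u}) ⟶ Y) (_ : f' = (c ∣_ U) ≫ f)
          (hf' : (c ⁻¹ᵁ U).ι ≫ c ≫ pX = f' ≫ pY),
        ∀ ζ ∈ closure (Set.range (pullback.lift (c ⁻¹ᵁ U).ι f' hf')),
          pullback.fst (c ≫ pX) pY ζ ∈ closure ((fun x => c x) ⁻¹'
            (((U.ι ''ᵁ (f ⁻¹ᵁ Y₁) : X.Opens) : Set X)ᶜ ∩ (V : Set X))) →
          pullback.snd (c ≫ pX) pY ζ ∉ Y₁ := by
  classical
  have : QuasiCompact pY := inferInstance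
  have : CompactSpace ↥(pullback pX pY) :=
    QuasiCompact.compactSpace_of_compactSpace (pullback.fst pX pY)
  have : QuasiSeparatedSpace ↥(pullback pX pY) :=
    quasiSeparatedSpace_of_quasiSeparated (pullback.fst pX pY)
  let γ : (U : Scheme.{u}) ⟶ pullback pX pY := pullback.lift U.ι f hf
  have : CompactSpace (U : Scheme.{u}) := isCompact_iff_compactSpace.mp hU
  have : QuasiCompact γ := inferInstance
  have : IsImmersion γ := by
    have : IsImmersion (γ ≫ pullback.fst pX pY) := by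
      rw [pullback.lift_fst]
      infer_instance
    exact IsImmersion.of_comp γ (pullback.fst pX pY)
  let Z : Scheme.{u} := γ.image
  let j : Z ⟶ pullback pX pY := γ.imageι
  let t : (U : Scheme.{u}) ⟶ Z := γ.toImage
  have ht : t ≫ j = γ := γ.toImage_imageι
  have : IsOpenImmersion t := inferInstance
  have : CompactSpace Z := QuasiCompact.compactSpace_of_compactSpace j
  have : QuasiSeparatedSpace Z := quasiSeparatedSpace_of_quasiSeparated j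
  let q₂ : Z ⟶ X := j ≫ pullback.fst pX pY
  have htq : t ≫ q₂ = U.ι := by
    rw [← Category.assoc, ht, pullback.lift_fst]
  let UZ : Z.Opens := t.opensRange
  have hUZ : UZ ≤ q₂ ⁻¹ᵁ V := by
    rintro _ ⟨u, rfl⟩
    change q₂ (t u) ∈ V
    rw [← Scheme.Hom.comp_apply, htq]
    exact hUV u.2
  have : IsOpenImmersion (UZ.ι ≫ q₂) := by
    have h1 : UZ.ι = t.isoOpensRange.inv ≫ t := by
      rw [Iso.eq_inv_comp, Scheme.Hom.isoOpensRange_hom_ι]
    rw [h1, Category.assoc, htq]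
    infer_instance
  let U₁ : X.Opens := U.ι ''ᵁ (f ⁻¹ᵁ Y₁)
  let Z₁ : Set X := (U₁ : Set X)ᶜ
  have hZ₁ : IsClosed Z₁ := U₁.2.isClosed_compl
  have hZ₁c : IsCompact Z₁ᶜ := by
    rw [compl_compl]
    have : QuasiCompact f := inferInstance
    have h1 : IsCompact ((f ⁻¹ᵁ Y₁ : (U : Scheme.{u}).Opens) : Set (U : Scheme.{u})) :=
      QuasiCompact.isCompact_preimage (f := f) _ Y₁.2 hY₁
    exact h1.image U.ι.continuous
  let g₂ : Z ⟶ Y := j ≫ pullback.snd pX pY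
  let Z₂ : Set Z := ((g₂ ⁻¹ᵁ Y₁ : Z.Opens) : Set Z)ᶜ
  have hZ₂ : IsClosed Z₂ := (g₂ ⁻¹ᵁ Y₁).2.isClosed_compl
  have hZ₂c : IsCompact Z₂ᶜ := by
    rw [compl_compl]
    exact QuasiCompact.isCompact_preimage (f := g₂) _ Y₁.2 hY₁
  have hYZ : (fun x => q₂ x) ⁻¹' (Z₁ ∩ (V : Set X)) ⊆ Z₂ := by
    rintro z ⟨hz1, hzV⟩ hz2
    have hjz : j z ∈ closure (Set.range γ) := by
      have h1 : Set.range j = closure (Set.range γ) := by
        rw [Scheme.IdealSheafData.range_subschemeι, Scheme.Hom.support_ker]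
      rw [← h1]
      exact ⟨z, rfl⟩
    obtain ⟨u, hu⟩ := hcl ⟨hjz, hzV⟩
    have hu' : γ u = j z := hu
    apply hz1
    refine ⟨u, ?_, ?_⟩
    · change f u ∈ Y₁
      have h2 : f u = g₂ z := by
        change _ = (j ≫ pullback.snd pX pY) z
        rw [Scheme.Hom.comp_apply, ← hu', ← Scheme.Hom.comp_apply, pullback.lift_snd]
      rw [h2]
      exact hz2
    · change U.ι u = (j ≫ pullback.fst pX pY) z
      rw [Scheme.Hom.comp_apply, ← hu', ← Scheme.Hom.comp_apply, pullback.lift_fst]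
  obtain ⟨𝓔, h𝓔ft, h𝓔supp, h𝓔⟩ :=
    Groth.Agent.S17392.result q₂ V hV UZ hUZ Z₁ hZ₁ hZ₁c Z₂ hZ₂ hZ₂c hYZ
  refine ⟨𝓔, ⟨h𝓔ft, ?_⟩, ?_⟩
  · rw [Set.disjoint_left]
    intro x hx hxV
    exact (h𝓔supp hx).2 hxV
  intro X₁ X' c₁ d c hc₁ hdc f' hf'f hf' ζ hζ hζA
  have hstar := star_of_factor q₂ c₁ d c hdc (Z₁ ∩ (V : Set X)) (UZ : Set Z) Z₂ (h𝓔 X₁ c₁ hc₁)
  let θ : pullback q₂ c ⟶ pullback (c ≫ pX) pY := theta pX pY j c
  have hθ : IsClosedImmersion θ := isClosedImmersion_theta pX pY j c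
  let δ : ((c ⁻¹ᵁ U : X'.Opens) : Scheme.{u}) ⟶ pullback q₂ c :=
    pullback.lift ((c ∣_ U) ≫ t) (c ⁻¹ᵁ U).ι (by rw [Category.assoc, htq, morphismRestrict_ι])
  have hδθ : δ ≫ θ = pullback.lift (c ⁻¹ᵁ U).ι f' hf' := by
    apply pullback.hom_ext
    · rw [Category.assoc, theta_fst, pullback.lift_snd, pullback.lift_fst]
    · rw [Category.assoc, theta_snd, pullback.lift_fst_assoc, pullback.lift_snd, Category.assoc,
        ← Category.assoc t, ht, pullback.lift_snd, hf'f]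
  have hrange : Set.range (pullback.lift (c ⁻¹ᵁ U).ι f' hf') ⊆
      θ '' ((fun z => (pullback.fst q₂ c) z) ⁻¹' (UZ : Set Z)) := by
    rintro _ ⟨u, rfl⟩
    refine ⟨δ u, ?_, ?_⟩
    · change pullback.fst q₂ c (δ u) ∈ UZ
      rw [← Scheme.Hom.comp_apply, pullback.lift_fst, Scheme.Hom.comp_apply]
      exact ⟨_, rfl⟩
    · rw [← Scheme.Hom.comp_apply, hδθ]
  have hζ' : ζ ∈ θ '' closure ((fun z => (pullback.fst q₂ c) z) ⁻¹' (UZ : Set Z)) := by
    rw [← θ.isClosedEmbedding.closure_image_eq]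
    exact closure_mono hrange hζ
  obtain ⟨z', hz', rfl⟩ := hζ'
  have h1 : pullback.fst (c ≫ pX) pY (θ z') = pullback.snd q₂ c z' := by
    rw [← Scheme.Hom.comp_apply, theta_fst]
  have h2 : pullback.snd (c ≫ pX) pY (θ z') = g₂ (pullback.fst q₂ c z') := by
    rw [← Scheme.Hom.comp_apply, theta_snd, Scheme.Hom.comp_apply]
  rw [h1] at hζA
  rw [h2]
  exact hstar ⟨hζA, hz'⟩

/-- **The pieces.**  After a suitable `V`-admissible blow-up `c`, the closure of the graph of `(c ∣_ U) ≫ f` is covered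
by finitely many products of affine opens adapted to `f`. -/
theorem exists_pieces {S X Y : Scheme.{u}} [QuasiSeparatedSpace S]
    [CompactSpace X] [QuasiSeparatedSpace X] [CompactSpace Y] [QuasiSeparatedSpace Y]
    (pX : X ⟶ S) (pY : Y ⟶ S) [IsSeparated pY]
    (U V : X.Opens) (hUV : U ≤ V) (hU : IsCompact (U : Set X)) (hV : IsCompact (V : Set X))
    (f : (U : Scheme.{u}) ⟶ Y) (hf : U.ι ≫ pX = f ≫ pY)
    (hcl : closure (Set.range (pullback.lift U.ι f hf)) ∩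
        ((pullback.fst pX pY) ⁻¹ᵁ V : Set ↥(pullback pX pY)) ⊆ Set.range (pullback.lift U.ι f hf)) :
    ∃ 𝓔 : X.IdealSheafData, BlowUp.IsAdmissibleFor V 𝓔 ∧
      ∀ (X' : Scheme.{u}) (c : X' ⟶ X), BlowUp.IsBlowUp c 𝓔 →
        ∀ (f' : ((c ⁻¹ᵁ U : X'.Opens) : Scheme.{u}) ⟶ Y) (_ : f' = (c ∣_ U) ≫ f)
          (hf' : (c ⁻¹ᵁ U).ι ≫ c ≫ pX = f' ≫ pY),
        ∃ (Λ : Type u) (_ : Fintype Λ) (T : Λ → X'.Opens) (Y₀ : Λ → Y.Opens) (S₀ : Λ → S.Opens),
          (∀ l, IsAffineOpen (T l)) ∧ (∀ l, IsAffineOpen (Y₀ l)) ∧ (∀ l, IsAffineOpen (S₀ l)) ∧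
          (∀ l, T l ≤ (c ≫ pX) ⁻¹ᵁ S₀ l) ∧ (∀ l, Y₀ l ≤ pY ⁻¹ᵁ S₀ l) ∧
          (∀ l, T l ⊓ c ⁻¹ᵁ V ≤ c ⁻¹ᵁ U) ∧
          (∀ l (x : ((c ⁻¹ᵁ U : X'.Opens) : Scheme.{u})), x.1 ∈ T l → f' x ∈ Y₀ l) ∧
          ∀ ζ ∈ closure (Set.range (pullback.lift (c ⁻¹ᵁ U).ι f' hf')),
            ∃ l, pullback.fst (c ≫ pX) pY ζ ∈ T l ∧ pullback.snd (c ≫ pX) pY ζ ∈ Y₀ l := by
  classical
  obtain ⟨I, _, Yi, Si, hYi, hSi, hYS, hcov⟩ := exists_affine_cover_pair pY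
  have hsep := fun i => exists_sep_ideal pX pY U V hUV hU hV f hf hcl (Yi i) (hYi i).isCompact
  choose 𝓔i h𝓔adm h𝓔 using hsep
  let 𝓔 : X.IdealSheafData := ∏ i ∈ (Finset.univ : Finset I), 𝓔i i
  have h𝓔admAll : BlowUp.IsAdmissibleFor V 𝓔 :=
    Groth.Agent.Lib.BlowUpAdm68.isAdmissibleFor_prod V _ _ (fun i _ => h𝓔adm i)
  refine ⟨𝓔, h𝓔admAll, ?_⟩
  intro X' c hc f' hf'f hf'
  have hproper : IsProper c :=
    Groth.Agent.Lib.BlowUpProper68.isProper_of_isBlowUp_of_isFiniteTypeIdeal c 𝓔 hc h𝓔admAll.1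
  have : CompactSpace X' := QuasiCompact.compactSpace_of_compactSpace c
  have : QuasiCompact pY := inferInstance
  have : CompactSpace ↥(pullback (c ≫ pX) pY) :=
    QuasiCompact.compactSpace_of_compactSpace (pullback.fst (c ≫ pX) pY)
  let A : I → Set X := fun i => ((U.ι ''ᵁ (f ⁻¹ᵁ Yi i) : X.Opens) : Set X)ᶜ ∩ (V : Set X)
  have hstar : ∀ i, ∀ ζ ∈ closure (Set.range (pullback.lift (c ⁻¹ᵁ U).ι f' hf')),
      pullback.fst (c ≫ pX) pY ζ ∈ closure ((fun x => c x) ⁻¹' A i) →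
      pullback.snd (c ≫ pX) pY ζ ∉ Yi i := by
    intro i
    obtain ⟨Xi, ci, hci⟩ := Groth.Agent.Lib.BlowUpGlue68.exists_isBlowUp X (𝓔i i)
    have hprod : 𝓔 = 𝓔i i * ∏ j ∈ Finset.univ.erase i, 𝓔i j :=
      (Finset.mul_prod_erase _ _ (Finset.mem_univ i)).symm
    obtain ⟨d, hd, -⟩ := Groth.Agent.Lib.BlowUpAdm68.exists_factor_of_isBlowUp_mul (𝓔i i) _ ci hci c
      (hprod ▸ hc)
    exact h𝓔 i Xi X' ci d c hci hd f' hf'f hf'
  have hkeyfact : ∀ i (x : X'), x ∉ closure ((fun x => c x) ⁻¹' A i) → c x ∈ V →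
      ∃ u : (U : Scheme.{u}), f u ∈ Yi i ∧ U.ι u = c x := by
    intro i x hx hxV
    have h1 : c x ∉ A i := fun h => hx (subset_closure h)
    have h2 : c x ∈ ((U.ι ''ᵁ (f ⁻¹ᵁ Yi i) : X.Opens) : Set X) := by
      by_contra h
      exact h1 ⟨h, hxV⟩
    obtain ⟨u, hu, hux⟩ := h2
    exact ⟨u, hu, hux⟩
  let K : Set ↥(pullback (c ≫ pX) pY) := closure (Set.range (pullback.lift (c ⁻¹ᵁ U).ι f' hf'))
  have hK : IsCompact K := isClosed_closure.isCompact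
  have hloc : ∀ ζ ∈ K, ∃ (i : I) (T : X'.Opens), IsAffineOpen T ∧ T ≤ (c ≫ pX) ⁻¹ᵁ Si i ∧
      (∀ x ∈ T, x ∉ closure ((fun x => c x) ⁻¹' A i)) ∧
      pullback.fst (c ≫ pX) pY ζ ∈ T ∧ pullback.snd (c ≫ pX) pY ζ ∈ Yi i := by
    intro ζ hζ
    obtain ⟨i, hi⟩ := hcov (pullback.snd (c ≫ pX) pY ζ)
    have h1 : pullback.fst (c ≫ pX) pY ζ ∉ closure ((fun x => c x) ⁻¹' A i) :=
      fun h => hstar i ζ hζ h hi
    have h2 : pullback.fst (c ≫ pX) pY ζ ∈ (c ≫ pX) ⁻¹ᵁ Si i := by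
      change (c ≫ pX) (pullback.fst (c ≫ pX) pY ζ) ∈ Si i
      rw [← Scheme.Hom.comp_apply, pullback.condition, Scheme.Hom.comp_apply]
      exact hYS i hi
    let O : X'.Opens := ⟨(closure ((fun x => c x) ⁻¹' A i))ᶜ, isClosed_closure.isOpen_compl⟩ ⊓
      (c ≫ pX) ⁻¹ᵁ Si i
    obtain ⟨T, hT, hxT, hTO⟩ := (Opens.isBasis_iff_nbhd.mp (Scheme.isBasis_affineOpens X'))
      (show pullback.fst (c ≫ pX) pY ζ ∈ O from ⟨h1, h2⟩)
    exact ⟨i, T, hT, fun x hx => (hTO hx).2, fun x hx => (hTO hx).1, hxT, hi⟩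
  choose iζ Tζ hTaff hTS hTdisj hTmem hYmem using hloc
  obtain ⟨t, ht⟩ := hK.elim_nhds_subcover'
    (fun ζ hζ => (pullback.fst (c ≫ pX) pY) ⁻¹' (Tζ ζ hζ : Set X') ∩
      (pullback.snd (c ≫ pX) pY) ⁻¹' (Yi (iζ ζ hζ) : Set Y))
    (fun ζ hζ => IsOpen.mem_nhds
      (((Tζ ζ hζ).2.preimage (pullback.fst (c ≫ pX) pY).continuous).inter
        ((Yi (iζ ζ hζ)).2.preimage (pullback.snd (c ≫ pX) pY).continuous))
      ⟨hTmem ζ hζ, hYmem ζ hζ⟩)
  refine ⟨↥t, inferInstance, fun l => Tζ l.1.1 l.1.2, fun l => Yi (iζ l.1.1 l.1.2),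
    fun l => Si (iζ l.1.1 l.1.2), fun l => hTaff _ _, fun l => hYi _, fun l => hSi _,
    fun l => hTS _ _, fun l => hYS _, ?_, ?_, ?_⟩
  · rintro l x ⟨hxT, hxV⟩
    obtain ⟨u, -, hux⟩ := hkeyfact _ x (hTdisj _ _ x hxT) hxV
    change c x ∈ U
    rw [← hux]
    exact u.2
  · intro l x hxT
    obtain ⟨u, hu, hux⟩ := hkeyfact _ x.1 (hTdisj _ _ x.1 hxT) (hUV x.2)
    have h1 : (c ∣_ U) x = u := by
      apply U.ι.isOpenEmbedding.injective
      rw [hux, ← Scheme.Hom.comp_apply, morphismRestrict_ι]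
      rfl
    rw [hf'f, Scheme.Hom.comp_apply, h1]
    exact hu
  · intro ζ hζ
    obtain ⟨l, hl, hζl⟩ := Set.mem_iUnion₂.mp (ht hζ)
    exact ⟨⟨l, hl⟩, hζl.1, hζl.2⟩

end Groth.Agent.Lib.QDomSep68
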