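import Mathlib
import Groth.Prelude.Def_BlowUp2
import Groth.Agent.Lib.QDomSep68
import Groth.Agent.Lib.BlowUpComp68

/-!
# Extending quasi-dominations after an admissible blow-up (helper68)

`main`: Conrad, *Deligne's notes on Nagata compactifications*, Theorem 2.4 (= Lütkebohmert / Raynaud–Gruson style
extension of a quasi-domination): `f : U ⟶ Y` with graph closed over `V ⊇ U` extends, after a `V`-admissible blow-up
of `X`, to a dense open with closed graph.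
-/

set_option autoImplicit false

universe u

open CategoryTheory AlgebraicGeometry TopologicalSpace Opposite Limits

namespace Groth.Agent.Lib.QDomMain68

theorem isClosed_range_lift_congr {S Xt Y W : Scheme.{u}} (pY : Y ⟶ S) (a b : Xt ⟶ S) (hab : a = b)
    (w : W ⟶ Xt) (ft : W ⟶ Y) (ha : w ≫ a = ft ≫ pY) (hb : w ≫ b = ft ≫ pY)
    (h : IsClosed (Set.range (pullback.lift w ft ha))) :
    IsClosed (Set.range (pullback.lift w ft hb)) := by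
  subst hab
  exact h

theorem main
    {S X Y : Scheme.{u}} [QuasiSeparatedSpace S]
    [CompactSpace X] [QuasiSeparatedSpace X] [CompactSpace Y] [QuasiSeparatedSpace Y]
    (pX : X ⟶ S) (pY : Y ⟶ S) [IsSeparated pY] [LocallyOfFiniteType pY]
    (U V : X.Opens) (hUV : U ≤ V) (hU : IsCompact (U : Set X)) (hV : IsCompact (V : Set X))
    (hUd : Dense (U : Set X))
    (f : (U : Scheme.{u}) ⟶ Y) (hf : U.ι ≫ pX = f ≫ pY)
    (hcl : closure (Set.range (pullback.lift U.ι f hf)) ∩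
        ((pullback.fst pX pY) ⁻¹ᵁ V : Set ↥(pullback pX pY)) ⊆ Set.range (pullback.lift U.ι f hf)) :
    ∃ (𝓘 : X.IdealSheafData) (Xt : Scheme.{u}) (q : Xt ⟶ X),
      BlowUp.IsBlowUp q 𝓘 ∧ BlowUp.IsAdmissibleFor V 𝓘 ∧
      ∃ (W : Xt.Opens) (hle : q ⁻¹ᵁ U ≤ W) (ft : (W : Scheme.{u}) ⟶ Y)
        (hft : W.ι ≫ q ≫ pX = ft ≫ pY),
        Dense (W : Set Xt) ∧ Xt.homOfLE hle ≫ ft = (q ∣_ U) ≫ f ∧
        IsClosed (Set.range (pullback.lift W.ι ft hft)) := by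
  classical
  obtain ⟨𝓔, h𝓔adm, hpieces⟩ :=
    Groth.Agent.Lib.QDomSep68.exists_pieces pX pY U V hUV hU hV f hf hcl
  obtain ⟨X', c, hc⟩ := Groth.Agent.Lib.BlowUpGlue68.exists_isBlowUp X 𝓔
  have hproper : IsProper c :=
    Groth.Agent.Lib.BlowUpProper68.isProper_of_isBlowUp_of_isFiniteTypeIdeal c 𝓔 hc h𝓔adm.1
  have : CompactSpace X' := QuasiCompact.compactSpace_of_compactSpace c
  have : QuasiSeparatedSpace X' := quasiSeparatedSpace_of_quasiSeparated c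
  have hf' : (c ⁻¹ᵁ U).ι ≫ c ≫ pX = ((c ∣_ U) ≫ f) ≫ pY := by
    rw [Category.assoc, ← hf, morphismRestrict_ι_assoc]
  obtain ⟨Λ, _, T, Y₀, S₀, hT, hY₀, hS₀, hTS, hYS, hTV, hfY, hcover⟩ :=
    hpieces X' c hc ((c ∣_ U) ≫ f) rfl hf'
  have hU'c : IsCompact ((c ⁻¹ᵁ U : X'.Opens) : Set X') :=
    QuasiCompact.isCompact_preimage (f := c) _ U.2 hU
  have hV'c : IsCompact ((c ⁻¹ᵁ V : X'.Opens) : Set X') :=
    QuasiCompact.isCompact_preimage (f := c) _ V.2 hV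
  have hU'd : Dense ((c ⁻¹ᵁ U : X'.Opens) : Set X') :=
    Groth.Agent.Lib.QDomIdeal68.dense_preimage_of_isBlowUp hc U hUd
  obtain ⟨𝓘', Xt, q', hq', h𝓘'adm, W, hle, ft, hft, hWd, hext, hclosed⟩ :=
    Groth.Agent.Lib.QDomCore68.core (c ≫ pX) pY (c ⁻¹ᵁ U) (c ⁻¹ᵁ V) hU'c hV'c hU'd ((c ∣_ U) ≫ f) hf'
      T hT Y₀ hY₀ S₀ hS₀ hTS hYS hTV hfY hcover
  obtain ⟨𝓚, h𝓚ft, h𝓚supp, h𝓚⟩ :=
    Groth.Agent.Lib.BlowUpComp68.exists_isBlowUp_comp h𝓔adm.1 hc 𝓘' h𝓘'adm.1 q' hq'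
  have hft' : W.ι ≫ (q' ≫ c) ≫ pX = ft ≫ pY := by
    rw [Category.assoc]
    exact hft
  refine ⟨𝓚, Xt, q' ≫ c, h𝓚, ⟨h𝓚ft, ?_⟩, W, hle, ft, hft', hWd, ?_, ?_⟩
  · rw [h𝓚supp, Set.disjoint_left]
    rintro x (hx | ⟨x', hx', rfl⟩) hxV
    · exact Set.disjoint_left.mp h𝓔adm.2 hx hxV
    · exact Set.disjoint_left.mp h𝓘'adm.2 hx' hxV
  · have h1 : (q' ≫ c) ∣_ U = (q' ∣_ (c ⁻¹ᵁ U)) ≫ (c ∣_ U) := morphismRestrict_comp q' c U
    exact hext.trans ((Category.assoc _ _ _).symm.trans (congrArg (fun φ => φ ≫ f) h1.symm))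
  · exact isClosed_range_lift_congr pY _ _ (Category.assoc _ _ _).symm W.ι ft hft hft' hclosed

end Groth.Agent.Lib.QDomMain68
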