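import Mathlib
import Groth.Prelude.Def_BlowUp2
import Groth.Agent.Lib.QDomMain68
import Groth.Agent.Lib.IdealExt68

/-!
# Extending morphisms defined on a quasi-compact open after an admissible blow-up (helper68)

* `graph_closed_over_self`: the graph of an `S`-morphism `f : U ⟶ Y` (`Y` separated over `S`) is closed in `U ×_S Y`.
* `main_self`: the case `U = V` of `QDomMain68.main`, without density assumption on `U`.
* `exists_extension_of_isProper`: if moreover `Y ⟶ S` is proper, `f` extends to the whole blow-up.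
-/

set_option autoImplicit false

universe u

open CategoryTheory AlgebraicGeometry TopologicalSpace Opposite Limits

namespace Groth.Agent.Lib.QDomSelf68

open Groth.Agent.Lib.QDomSep68 in
/-- The graph of an `S`-morphism `U ⟶ Y` into a separated `S`-scheme is closed in `U ×_S Y ⊆ X ×_S Y`. -/
theorem graph_closed_over_self {S X Y : Scheme.{u}} (pX : X ⟶ S) (pY : Y ⟶ S) [IsSeparated pY]
    (U : X.Opens) (f : (U : Scheme.{u}) ⟶ Y) (hf : U.ι ≫ pX = f ≫ pY) :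
    closure (Set.range (pullback.lift U.ι f hf)) ∩
      ((pullback.fst pX pY) ⁻¹ᵁ U : Set ↥(pullback pX pY)) ⊆ Set.range (pullback.lift U.ι f hf) := by
  let Γ : (U : Scheme.{u}) ⟶ pullback (U.ι ≫ pX) pY := pullback.lift (𝟙 _) f (by rw [Category.id_comp, hf])
  have hΓ : IsClosedImmersion Γ := by
    have : IsClosedImmersion (Γ ≫ pullback.fst (U.ι ≫ pX) pY) := by
      rw [pullback.lift_fst]
      infer_instance
    exact IsClosedImmersion.of_comp Γ (pullback.fst (U.ι ≫ pX) pY)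
  let ν : pullback (U.ι ≫ pX) pY ⟶ pullback pX pY := mu pX pY U.ι
  have hpb := isPullback_mu pX pY U.ι
  have hν : IsOpenImmersion ν := MorphismProperty.of_isPullback (P := @IsOpenImmersion) hpb.flip
    (inferInstance : IsOpenImmersion U.ι)
  have hΓν : Γ ≫ ν = pullback.lift U.ι f hf := by
    apply pullback.hom_ext
    · simp only [Γ, ν, mu, Category.assoc, pullback.lift_fst, pullback.lift_fst_assoc,
        Category.id_comp]
    · simp only [Γ, ν, mu, Category.assoc, pullback.lift_snd]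
  have hrange : Set.range ν = ((pullback.fst pX pY) ⁻¹ᵁ U : Set ↥(pullback pX pY)) := by
    ext ζ
    constructor
    · rintro ⟨ξ, rfl⟩
      change pullback.fst pX pY (ν ξ) ∈ U
      rw [← Scheme.Hom.comp_apply, hpb.w, Scheme.Hom.comp_apply]
      exact (pullback.fst (U.ι ≫ pX) pY ξ).2
    · intro hζ
      obtain ⟨ξ, h1, -⟩ := Scheme.exists_preimage_of_isPullback hpb ζ ⟨_, hζ⟩ rfl
      exact ⟨ξ, h1⟩
  rintro ζ ⟨hζ1, hζ2⟩
  rw [← hrange] at hζ2
  obtain ⟨ξ, rfl⟩ := hζ2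
  rw [← hΓν] at hζ1 ⊢
  have h1 : ξ ∈ closure (Set.range Γ) := by
    rw [ν.isOpenEmbedding.isInducing.closure_eq_preimage_closure_image]
    change ν ξ ∈ closure (ν '' Set.range Γ)
    rw [← Set.range_comp]
    exact hζ1
  rw [Γ.isClosedEmbedding.isClosed_range.closure_eq] at h1
  obtain ⟨u, rfl⟩ := h1
  exact ⟨u, rfl⟩

/-- The case `U = V` of `QDomMain68.main`; no density assumption is needed (blow up first an ideal with
support the complement of `U`).  The centre has support exactly the complement of `U`. -/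
theorem main_self_support {S X Y : Scheme.{u}} [QuasiSeparatedSpace S]
    [CompactSpace X] [QuasiSeparatedSpace X] [CompactSpace Y] [QuasiSeparatedSpace Y]
    (pX : X ⟶ S) (pY : Y ⟶ S) [IsSeparated pY] [LocallyOfFiniteType pY]
    (U : X.Opens) (hU : IsCompact (U : Set X))
    (f : (U : Scheme.{u}) ⟶ Y) (hf : U.ι ≫ pX = f ≫ pY) :
    ∃ (𝓘 : X.IdealSheafData) (Xt : Scheme.{u}) (q : Xt ⟶ X),
      BlowUp.IsBlowUp q 𝓘 ∧ BlowUp.IsAdmissibleFor U 𝓘 ∧ (𝓘.support : Set X) = (U : Set X)ᶜ ∧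
      ∃ (W : Xt.Opens) (hle : q ⁻¹ᵁ U ≤ W) (ft : (W : Scheme.{u}) ⟶ Y)
        (hft : W.ι ≫ q ≫ pX = ft ≫ pY),
        Dense (W : Set Xt) ∧ Xt.homOfLE hle ≫ ft = (q ∣_ U) ≫ f ∧
        IsClosed (Set.range (pullback.lift W.ι ft hft)) := by
  classical
  obtain ⟨𝓘₀, h𝓘₀ft, h𝓘₀supp⟩ := Groth.Agent.Lib.IdealExt68.exists_finiteType_support_eq U hU
  have h𝓘₀adm : BlowUp.IsAdmissibleFor U 𝓘₀ := ⟨h𝓘₀ft, by
    rw [h𝓘₀supp]
    exact disjoint_compl_left⟩
  obtain ⟨X', c, hc⟩ := Groth.Agent.Lib.BlowUpGlue68.exists_isBlowUp X 𝓘₀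
  have hproper : IsProper c :=
    Groth.Agent.Lib.BlowUpProper68.isProper_of_isBlowUp_of_isFiniteTypeIdeal c 𝓘₀ hc h𝓘₀adm.1
  have : CompactSpace X' := QuasiCompact.compactSpace_of_compactSpace c
  have : QuasiSeparatedSpace X' := quasiSeparatedSpace_of_quasiSeparated c
  have hf' : (c ⁻¹ᵁ U).ι ≫ c ≫ pX = ((c ∣_ U) ≫ f) ≫ pY := by
    rw [Category.assoc, ← hf, morphismRestrict_ι_assoc]
  have hU'c : IsCompact ((c ⁻¹ᵁ U : X'.Opens) : Set X') :=
    QuasiCompact.isCompact_preimage (f := c) _ U.2 hU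
  have hU'd : Dense ((c ⁻¹ᵁ U : X'.Opens) : Set X') := by
    have h1 := Groth.Agent.Lib.QDomIdeal68.dense_compl_support_of_effCartier (𝓘₀.comap c) hc.1
    apply h1.mono
    intro x hx
    rw [Scheme.IdealSheafData.support_comap] at hx
    by_contra h
    apply hx
    change c x ∈ (𝓘₀.support : Set X)
    rw [h𝓘₀supp]
    exact h
  obtain ⟨𝓘', Xt, q', hq', h𝓘'adm, W, hle, ft, hft, hWd, hext, hclosed⟩ :=
    Groth.Agent.Lib.QDomMain68.main (c ≫ pX) pY (c ⁻¹ᵁ U) (c ⁻¹ᵁ U) le_rfl hU'c hU'c hU'd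
      ((c ∣_ U) ≫ f) hf' (graph_closed_over_self (c ≫ pX) pY (c ⁻¹ᵁ U) ((c ∣_ U) ≫ f) hf')
  obtain ⟨𝓚, h𝓚ft, h𝓚supp, h𝓚⟩ :=
    Groth.Agent.Lib.BlowUpComp68.exists_isBlowUp_comp h𝓘₀adm.1 hc 𝓘' h𝓘'adm.1 q' hq'
  have hft' : W.ι ≫ (q' ≫ c) ≫ pX = ft ≫ pY := by
    rw [Category.assoc]
    exact hft
  refine ⟨𝓚, Xt, q' ≫ c, h𝓚, ⟨h𝓚ft, ?_⟩, ?_, W, hle, ft, hft', hWd, ?_, ?_⟩
  · rw [h𝓚supp, Set.disjoint_left]
    rintro x (hx | ⟨x', hx', rfl⟩) hxV
    · exact Set.disjoint_left.mp h𝓘₀adm.2 hx hxV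
    · exact Set.disjoint_left.mp h𝓘'adm.2 hx' hxV
  · rw [h𝓚supp, h𝓘₀supp]
    apply Set.union_eq_self_of_subset_right
    rintro _ ⟨x', hx', rfl⟩ hxU
    exact Set.disjoint_left.mp h𝓘'adm.2 hx' hxU
  · have h1 : (q' ≫ c) ∣_ U = (q' ∣_ (c ⁻¹ᵁ U)) ≫ (c ∣_ U) := morphismRestrict_comp q' c U
    exact hext.trans ((Category.assoc _ _ _).symm.trans (congrArg (fun φ => φ ≫ f) h1.symm))
  · exact Groth.Agent.Lib.QDomMain68.isClosed_range_lift_congr pY _ _ (Category.assoc _ _ _).symm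
      W.ι ft hft hft' hclosed

/-- The case `U = V` of `QDomMain68.main`; no density assumption is needed. -/
theorem main_self {S X Y : Scheme.{u}} [QuasiSeparatedSpace S]
    [CompactSpace X] [QuasiSeparatedSpace X] [CompactSpace Y] [QuasiSeparatedSpace Y]
    (pX : X ⟶ S) (pY : Y ⟶ S) [IsSeparated pY] [LocallyOfFiniteType pY]
    (U : X.Opens) (hU : IsCompact (U : Set X))
    (f : (U : Scheme.{u}) ⟶ Y) (hf : U.ι ≫ pX = f ≫ pY) :
    ∃ (𝓘 : X.IdealSheafData) (Xt : Scheme.{u}) (q : Xt ⟶ X),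
      BlowUp.IsBlowUp q 𝓘 ∧ BlowUp.IsAdmissibleFor U 𝓘 ∧
      ∃ (W : Xt.Opens) (hle : q ⁻¹ᵁ U ≤ W) (ft : (W : Scheme.{u}) ⟶ Y)
        (hft : W.ι ≫ q ≫ pX = ft ≫ pY),
        Dense (W : Set Xt) ∧ Xt.homOfLE hle ≫ ft = (q ∣_ U) ≫ f ∧
        IsClosed (Set.range (pullback.lift W.ι ft hft)) := by
  obtain ⟨𝓘, Xt, q, hq, hadm, -, h⟩ := main_self_support pX pY U hU f hf
  exact ⟨𝓘, Xt, q, hq, hadm, h⟩

/-- If `Y ⟶ S` is proper, a morphism `f : U ⟶ Y` over `S` extends to the whole of a `U`-admissible blow-up of `X`. -/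
theorem exists_extension_of_isProper {S X Y : Scheme.{u}} [QuasiSeparatedSpace S]
    [CompactSpace X] [QuasiSeparatedSpace X] [CompactSpace Y] [QuasiSeparatedSpace Y]
    (pX : X ⟶ S) (pY : Y ⟶ S) [IsProper pY]
    (U : X.Opens) (hU : IsCompact (U : Set X))
    (f : (U : Scheme.{u}) ⟶ Y) (hf : U.ι ≫ pX = f ≫ pY) :
    ∃ (𝓘 : X.IdealSheafData) (Xt : Scheme.{u}) (q : Xt ⟶ X),
      BlowUp.IsBlowUp q 𝓘 ∧ BlowUp.IsAdmissibleFor U 𝓘 ∧
      ∃ h : Xt ⟶ Y, q ≫ pX = h ≫ pY ∧ (q ⁻¹ᵁ U).ι ≫ h = (q ∣_ U) ≫ f := by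
  obtain ⟨𝓘, Xt, q, hq, hadm, W, hle, ft, hft, hWd, hext, hclosed⟩ :=
    main_self pX pY U hU f hf
  have hWtop : W = ⊤ := by
    have hcm : IsClosedMap (pullback.fst (q ≫ pX) pY) := (pullback.fst (q ≫ pX) pY).isClosedMap
    have h1 : (pullback.fst (q ≫ pX) pY) '' (Set.range (pullback.lift W.ι ft hft)) =
        (W : Set Xt) := by
      ext x
      constructor
      · rintro ⟨_, ⟨w, rfl⟩, rfl⟩
        rw [← Scheme.Hom.comp_apply, pullback.lift_fst]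
        exact w.2
      · intro hx
        refine ⟨_, ⟨⟨x, hx⟩, rfl⟩, ?_⟩
        rw [← Scheme.Hom.comp_apply, pullback.lift_fst]
        rfl
    have h2 : IsClosed (W : Set Xt) := h1 ▸ hcm _ hclosed
    have h3 : (W : Set Xt) = Set.univ := by
      rw [← h2.closure_eq]
      exact hWd.closure_eq
    exact SetLike.coe_injective h3
  subst hWtop
  refine ⟨𝓘, Xt, q, hq, hadm, Xt.topIso.inv ≫ ft, ?_, ?_⟩
  · rw [Category.assoc, ← hft, Scheme.toIso_inv_ι_assoc]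
  · rw [← hext, ← Scheme.homOfLE_ι Xt hle, Category.assoc, Scheme.ι_toIso_inv_assoc]

end Groth.Agent.Lib.QDomSelf68
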