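import Mathlib
import Groth.Prelude.Def_BlowUp2
import Groth.Agent.Lib.QDomSelf68
import Groth.Agent.Lib.ModPairProd68
import Groth.Agent.Lib.EffCartier96

/-!
# A morphism that is an isomorphism over `U` becomes an open immersion after a `U`-admissible blow-up (helper68)

`exists_blowUp_graph`: for `φ : X ⟶ S` separated of finite type, an isomorphism over the quasi-compact open `U`,
there are a `U`-admissible blow-up `b : S' ⟶ S` with centre `𝓘` of support `S ∖ U`, an open `W ⊆ S'` and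
`ft : W ⟶ X` over `S` whose graph `W ⟶ X ×_S S'` is a closed immersion, such that `ft` is a blow-up of `X`
in `𝓘.comap φ` (the strict transform of `X` is `W`, open in `S'`).
-/

set_option autoImplicit false

universe u

open CategoryTheory AlgebraicGeometry TopologicalSpace Opposite Limits

namespace Groth.Agent.Lib.StrictOpen68

theorem exists_blowUp_graph {X S : Scheme.{u}} [CompactSpace S] [QuasiSeparatedSpace S]
    (φ : X ⟶ S) [IsSeparated φ] [LocallyOfFiniteType φ] [QuasiCompact φ] (U : S.Opens)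
    (hU : IsCompact (U : Set S)) [IsIso (φ ∣_ U)] :
    ∃ (𝓘 : S.IdealSheafData) (S' : Scheme.{u}) (b : S' ⟶ S), BlowUp.IsBlowUp b 𝓘 ∧
      BlowUp.IsAdmissibleFor U 𝓘 ∧ (𝓘.support : Set S) = (U : Set S)ᶜ ∧
      ∃ (W : S'.Opens) (_ : b ⁻¹ᵁ U ≤ W) (ft : (W : Scheme.{u}) ⟶ X) (hft : ft ≫ φ = W.ι ≫ b),
        Dense (W : Set S') ∧ IsClosedImmersion (pullback.lift ft W.ι hft) ∧
        BlowUp.IsBlowUp ft (𝓘.comap φ) := by
  have : CompactSpace X := QuasiCompact.compactSpace_of_compactSpace φ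
  have : QuasiSeparatedSpace X := quasiSeparatedSpace_of_quasiSeparated φ
  let s : (U : Scheme.{u}) ⟶ X := inv (φ ∣_ U) ≫ (φ ⁻¹ᵁ U).ι
  have hs : s ≫ φ = U.ι := by
    rw [Category.assoc, ← morphismRestrict_ι, IsIso.inv_hom_id_assoc]
  have hf : U.ι ≫ 𝟙 S = s ≫ φ := by
    rw [Category.comp_id, hs]
  obtain ⟨𝓘, S', b, hb, hadm, hsupp, W, hle, ft, hft, hWd, hext, hclosed⟩ :=
    Groth.Agent.Lib.QDomSelf68.main_self_support (𝟙 S) φ U hU s hf
  have hft' : W.ι ≫ b = ft ≫ φ := by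
    rw [← hft, Category.comp_id]
  refine ⟨𝓘, S', b, hb, hadm, hsupp, W, hle, ft, hft'.symm, hWd, ?_⟩
  -- the graph
  let Γ : (W : Scheme.{u}) ⟶ pullback φ b := pullback.lift ft W.ι hft'.symm
  have hΓ1 : Γ ≫ pullback.fst φ b = ft := pullback.lift_fst _ _ _
  have hΓ2 : Γ ≫ pullback.snd φ b = W.ι := pullback.lift_snd _ _ _
  have hΓcl : IsClosedImmersion Γ := by
    have himm : IsImmersion Γ := by
      have : IsImmersion (Γ ≫ pullback.snd φ b) := by
        rw [hΓ2]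
        infer_instance
      exact IsImmersion.of_comp Γ (pullback.snd φ b)
    apply IsClosedImmersion.of_isPreimmersion
    let e := pullbackSymmetry φ b
    have hclosed' : IsClosed (Set.range (pullback.lift W.ι ft hft')) :=
      Groth.Agent.Lib.QDomMain68.isClosed_range_lift_congr φ _ _ (Category.comp_id b) W.ι ft
        hft hft' hclosed
    have hΓe : Γ = pullback.lift W.ι ft hft' ≫ e.inv := by
      apply pullback.hom_ext
      · rw [hΓ1, Category.assoc, pullbackSymmetry_inv_comp_fst, pullback.lift_snd]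
      · rw [hΓ2, Category.assoc, pullbackSymmetry_inv_comp_snd, pullback.lift_fst]
    rw [hΓe, Scheme.Hom.comp_base, TopCat.coe_comp, Set.range_comp]
    exact e.inv.isClosedEmbedding.isClosedMap _ hclosed'
  refine ⟨hΓcl, ?_, ?_⟩
  · -- effective Cartier
    rw [← Scheme.IdealSheafData.comap_comp, ← hft', Scheme.IdealSheafData.comap_comp]
    exact Groth.Agent.Lib.EffCartier96.isEffCartierIdeal_comap_of_flat _ hb.1 W.ι
  -- universal property
  -- the interior of `X ×_S S'`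
  let D₀ : (pullback φ b).Opens := pullback.snd φ b ⁻¹ᵁ (b ⁻¹ᵁ U)
  let ρ : (D₀ : Scheme.{u}) ⟶ W := (pullback.snd φ b ∣_ (b ⁻¹ᵁ U)) ≫ S'.homOfLE hle
  have hρW : ρ ≫ W.ι = D₀.ι ≫ pullback.snd φ b := by
    rw [Category.assoc, Scheme.homOfLE_ι, morphismRestrict_ι]
  have hD₀φ : Set.range (D₀.ι ≫ pullback.fst φ b) ⊆ Set.range (φ ⁻¹ᵁ U).ι := by
    rintro _ ⟨z, rfl⟩
    rw [Scheme.Opens.range_ι]
    change φ ((D₀.ι ≫ pullback.fst φ b) z) ∈ U
    rw [← Scheme.Hom.comp_apply, Category.assoc, pullback.condition, Scheme.Hom.comp_apply,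
      Scheme.Hom.comp_apply]
    exact z.2
  let g' : (D₀ : Scheme.{u}) ⟶ (φ ⁻¹ᵁ U : X.Opens) :=
    IsOpenImmersion.lift (φ ⁻¹ᵁ U).ι (D₀.ι ≫ pullback.fst φ b) hD₀φ
  have hg' : g' ≫ (φ ⁻¹ᵁ U).ι = D₀.ι ≫ pullback.fst φ b := IsOpenImmersion.lift_fac _ _ _
  have hg'φ : g' ≫ (φ ∣_ U) = (pullback.snd φ b ∣_ (b ⁻¹ᵁ U)) ≫ (b ∣_ U) := by
    rw [← cancel_mono U.ι, Category.assoc, Category.assoc, morphismRestrict_ι, reassoc_of% hg',
      morphismRestrict_ι, morphismRestrict_ι_assoc, pullback.condition]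
  have hρ : ρ ≫ Γ = D₀.ι := by
    apply pullback.hom_ext
    · rw [Category.assoc, hΓ1, Category.assoc, hext, ← hg',
        ← Category.assoc (pullback.snd φ b ∣_ (b ⁻¹ᵁ U)), ← hg'φ, Category.assoc,
        IsIso.hom_inv_id_assoc]
    · rw [Category.assoc, hΓ2, hρW]
  intro T t hT
  rw [← Scheme.IdealSheafData.comap_comp] at hT
  obtain ⟨m, hm, hmuniq⟩ := hb.2 T (t ≫ φ) hT
  let τ : T ⟶ pullback φ b := pullback.lift t m hm.symm
  have hτ1 : τ ≫ pullback.fst φ b = t := pullback.lift_fst _ _ _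
  have hτ2 : τ ≫ pullback.snd φ b = m := pullback.lift_snd _ _ _
  let To : T.Opens := ModPair.interior (𝓘.comap (t ≫ φ))
  have hTdom : IsSchemeTheoreticallyDominant To.ι :=
    Groth.Agent.Lib.EffCartier96.isSchemeTheoreticallyDominant_interior_ι _ hT
  have hrange : Set.range (To.ι ≫ τ) ⊆ Set.range D₀.ι := by
    rintro _ ⟨z, rfl⟩
    rw [Scheme.Opens.range_ι]
    change b (pullback.snd φ b ((To.ι ≫ τ) z)) ∈ U
    rw [← Scheme.Hom.comp_apply, ← Scheme.Hom.comp_apply, Category.assoc, reassoc_of% hτ2, hm]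
    by_contra h
    apply z.2
    rw [Scheme.IdealSheafData.support_comap]
    change (t ≫ φ) z.1 ∈ (𝓘.support : Set S)
    rw [hsupp]
    exact h
  let τ₀ : (To : Scheme.{u}) ⟶ D₀ := IsOpenImmersion.lift D₀.ι (To.ι ≫ τ) hrange
  have hτ₀ : τ₀ ≫ D₀.ι = To.ι ≫ τ := IsOpenImmersion.lift_fac _ _ _
  have hker : Γ.ker ≤ τ.ker :=
    Groth.Agent.Lib.ModPairProd68.le_ker_of_dominant Γ τ To.ι (τ₀ ≫ ρ) (by
      rw [Category.assoc, hρ, hτ₀])
  let n : T ⟶ W := IsClosedImmersion.lift Γ τ hker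
  have hn : n ≫ Γ = τ := IsClosedImmersion.lift_fac _ _ _
  refine ⟨n, ?_, ?_⟩
  · change n ≫ ft = t
    rw [← hΓ1, reassoc_of% hn, hτ1]
  · intro n' hn'
    change n' ≫ ft = t at hn'
    rw [← cancel_mono W.ι]
    have h1 : n' ≫ W.ι = m := hmuniq _ (by
      change (n' ≫ W.ι) ≫ b = t ≫ φ
      rw [Category.assoc, hft', reassoc_of% hn'])
    have h2 : n ≫ W.ι = m := by
      rw [← hΓ2, reassoc_of% hn, hτ2]
    rw [h1, h2]

end Groth.Agent.Lib.StrictOpen68
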