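import Groth.Agent.Lib.BlowUpUniv

/-!
# Blowing up via its universal property, part 2 (helper24)

* `isEffCartier_comap_of_flat`: pullback of an effective Cartier ideal along a flat morphism
* `isBlowUp_of_isPullback_of_flat`: flat base change of a blowing up is a blowing up
-/

set_option autoImplicit false
universe u
open CategoryTheory CategoryTheory.Limits AlgebraicGeometry TopologicalSpace

namespace Groth.Agent.Lib.BlowUpUniv

open Groth.Agent.Lib.RelCartier

/-- The pullback of an effective Cartier ideal along a flat morphism is effective Cartier. -/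
theorem isEffCartier_comap_of_flat {X Y : Scheme.{u}} (c : Y ⟶ X) [Flat c] (𝓚 : X.IdealSheafData)
    (hK : BlowUp.IsEffCartierIdeal 𝓚) : BlowUp.IsEffCartierIdeal (𝓚.comap c) := by
  intro y
  obtain ⟨U, hxU, t, ht, hKt⟩ := hK (c y)
  have hyW : y ∈ c ⁻¹ᵁ U.1 := hxU
  obtain ⟨_, ⟨V, hV, rfl⟩, hyV, hVW⟩ :=
    Y.isBasis_affineOpens.exists_subset_of_mem_open hyW (c ⁻¹ᵁ U.1).2
  have e : V ≤ c ⁻¹ᵁ U.1 := hVW
  refine ⟨⟨V, hV⟩, hyV, (c.appLE U.1 V e).hom t, ?_, ?_⟩
  · exact map_mem_nonZeroDivisors_of_flat _ (Flat.flat_appLE c U.2 hV e) t ht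
  · rw [Groth.Agent.Lib.IdealComap.ideal_comap 𝓚 c U.1 U.2 V hV e, hKt, Ideal.map_span,
      Set.image_singleton]

/-- Flat base change of a blowing up is a blowing up (any pullback square). -/
theorem isBlowUp_of_isPullback_of_flat {X₁ X₂ X₂' P : Scheme.{u}} (g : X₁ ⟶ X₂) [Flat g]
    (𝓘 : X₂.IdealSheafData) (b : X₂' ⟶ X₂) (hb : BlowUp.IsBlowUp b 𝓘)
    (fst : P ⟶ X₁) (snd : P ⟶ X₂') (hP : IsPullback fst snd g b) :
    BlowUp.IsBlowUp fst (𝓘.comap g) := by
  haveI : Flat snd := MorphismProperty.of_isPullback (P := @Flat) hP ‹Flat g›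
  refine ⟨?_, ?_⟩
  · rw [← Scheme.IdealSheafData.comap_comp, hP.w, Scheme.IdealSheafData.comap_comp]
    exact isEffCartier_comap_of_flat snd _ hb.1
  · intro T k hk
    rw [← Scheme.IdealSheafData.comap_comp] at hk
    obtain ⟨h, hh, hhuniq⟩ := hb.2 T (k ≫ g) hk
    refine ⟨hP.lift k h hh.symm, hP.lift_fst _ _ _, ?_⟩
    intro m hm
    change m ≫ fst = k at hm
    apply hP.hom_ext
    · rw [hP.lift_fst]; exact hm
    · rw [hP.lift_snd]
      apply hhuniq
      change (m ≫ snd) ≫ b = k ≫ g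
      rw [Category.assoc, ← hP.w, ← Category.assoc, hm]

end Groth.Agent.Lib.BlowUpUniv
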