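import Mathlib
import Groth.Prelude.Def_BlowUp2
import Groth.Agent.S8857
import Groth.Agent.Lib.StrictOpen68
import Groth.Agent.Lib.BlowUpComp68
import Groth.Agent.Lib.BlowUpAdm68
import Groth.Agent.Lib.BlowUpProper68

/-!
# Turning a birational morphism into an open immersion by blowing up source and target (helper68)

`exists_openImmersion_of_blowUp`: second stage of Conrad's Lemma (Deligne's notes on Nagata compactifications):
if `ft : W ⟶ X` (`W` open in a blow-up `Y'` of `Y`) is a blow-up of `X` in `𝓙'.comap π`, then for any further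
finite type ideal `𝓐` on `X`, the blow-up of `X` in `𝓙'.comap π * 𝓐` is open in a blow-up of `Y`.
-/

set_option autoImplicit false

universe u

open CategoryTheory AlgebraicGeometry TopologicalSpace Opposite Limits

namespace Groth.Agent.Lib.BiratOpen68

theorem exists_openImmersion_of_blowUp {X Y : Scheme.{u}} [CompactSpace X]
    [CompactSpace Y] [QuasiSeparatedSpace Y] (π : X ⟶ Y)
    (𝓙' : Y.IdealSheafData) (h𝓙'ft : BlowUp.IsFiniteTypeIdeal 𝓙') {Y' : Scheme.{u}} (c' : Y' ⟶ Y)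
    (hc' : BlowUp.IsBlowUp c' 𝓙')
    (W : Y'.Opens) (ft : (W : Scheme.{u}) ⟶ X) (hft : ft ≫ π = W.ι ≫ c')
    (hftb : BlowUp.IsBlowUp ft (𝓙'.comap π))
    (V : Y.Opens) (hV : IsCompact (V : Set Y)) (h𝓙'V : Disjoint (𝓙'.support : Set Y) (V : Set Y))
    (𝓐 : X.IdealSheafData) (h𝓐ft : BlowUp.IsFiniteTypeIdeal 𝓐)
    (h𝓐 : Disjoint (𝓐.support : Set X) ((π ⁻¹ᵁ V : X.Opens) : Set X))
    {Xt : Scheme.{u}} (b : Xt ⟶ X) (hb : BlowUp.IsBlowUp b (𝓙'.comap π * 𝓐)) :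
    ∃ (𝓙 : Y.IdealSheafData) (Yt : Scheme.{u}) (c : Yt ⟶ Y) (j : Xt ⟶ Yt),
      BlowUp.IsBlowUp c 𝓙 ∧ BlowUp.IsFiniteTypeIdeal 𝓙 ∧
      Disjoint (𝓙.support : Set Y) (V : Set Y) ∧ IsOpenImmersion j ∧ j ≫ c = b ≫ π := by
  -- `Y'` is qcqs
  have hc'proper : IsProper c' :=
    Groth.Agent.Lib.BlowUpProper68.isProper_of_isBlowUp_of_isFiniteTypeIdeal c' 𝓙' hc' h𝓙'ft
  have : CompactSpace Y' := QuasiCompact.compactSpace_of_compactSpace c'
  have : QuasiSeparatedSpace Y' := quasiSeparatedSpace_of_quasiSeparated c'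
  -- `W` is quasi-compact
  have hftproper : IsProper ft :=
    Groth.Agent.Lib.BlowUpProper68.isProper_of_isBlowUp_of_isFiniteTypeIdeal ft _ hftb
      (Groth.Agent.Lib.BlowUpAdm68.isFiniteTypeIdeal_comap π 𝓙' h𝓙'ft)
  have : CompactSpace (W : Scheme.{u}) := QuasiCompact.compactSpace_of_compactSpace ft
  have hWc : IsCompact (W : Set Y') := isCompact_iff_compactSpace.mpr ‹_›
  have hV'c : IsCompact ((c' ⁻¹ᵁ V : Y'.Opens) : Set Y') :=
    QuasiCompact.isCompact_preimage (f := c') _ V.2 hV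
  -- the factorisation of `b`
  obtain ⟨g, hg, hgb⟩ := Groth.Agent.Lib.BlowUpAdm68.exists_factor_of_isBlowUp_mul (𝓙'.comap π) 𝓐 ft
    hftb b hb
  -- the ideal on `W`
  have h𝓚adm : BlowUp.IsAdmissibleFor (W.ι ⁻¹ᵁ (c' ⁻¹ᵁ V)) (𝓐.comap ft) := by
    refine ⟨Groth.Agent.Lib.BlowUpAdm68.isFiniteTypeIdeal_comap ft 𝓐 h𝓐ft, ?_⟩
    rw [Set.disjoint_left]
    intro w hw hwV
    rw [Scheme.IdealSheafData.support_comap] at hw
    refine Set.disjoint_left.mp h𝓐 hw ?_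
    change π (ft w) ∈ V
    rw [← Scheme.Hom.comp_apply, hft]
    exact hwV
  obtain ⟨𝓙'', h𝓙''adm, -, h𝓙''⟩ :=
    Groth.Agent.S8857.result Y' (c' ⁻¹ᵁ V) W hV'c hWc (𝓐.comap ft) h𝓚adm
  obtain ⟨Yt, d, hd⟩ := Groth.Agent.Lib.BlowUpGlue68.exists_isBlowUp Y' 𝓙''
  obtain ⟨e, he⟩ := Groth.Agent.Lib.BlowUpGlue68.exists_iso_of_isBlowUp (𝓐.comap ft) g (d ∣_ W) hgb
    (h𝓙'' Yt d hd)
  obtain ⟨𝓙, h𝓙ft, h𝓙supp, h𝓙⟩ :=
    Groth.Agent.Lib.BlowUpComp68.exists_isBlowUp_comp h𝓙'ft hc' 𝓙'' h𝓙''adm.1 d hd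
  refine ⟨𝓙, Yt, d ≫ c', e.hom ≫ (d ⁻¹ᵁ W).ι, h𝓙, h𝓙ft, ?_, inferInstance, ?_⟩
  · rw [h𝓙supp, Set.disjoint_left]
    rintro y (hy | ⟨y', hy', rfl⟩) hyV
    · exact Set.disjoint_left.mp h𝓙'V hy hyV
    · exact Set.disjoint_left.mp h𝓙''adm.2 hy' hyV
  · rw [Category.assoc, ← Category.assoc (d ⁻¹ᵁ W).ι, ← morphismRestrict_ι, Category.assoc,
      ← hft, reassoc_of% he, reassoc_of% hg]

end Groth.Agent.Lib.BiratOpen68
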