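import Mathlib.Algebra.Polynomial.Laurent
import Mathlib.LinearAlgebra.Matrix.NonsingularInverse
import Mathlib.LinearAlgebra.Matrix.ToLinearEquiv
import Mathlib.Algebra.Polynomial.Reverse
import Mathlib.Algebra.Polynomial.RingDivision
import Mathlib.RingTheory.Polynomial.Basic
import Mathlib.LinearAlgebra.Matrix.RowCol
import Mathlib.Order.Fin.Tuple
import Mathlib.Data.Fin.Tuple.Sort

/-!
# Birkhoff factorization over a field (helper25)

`birkhoff`: every `A ∈ GL_n(k[T,T⁻¹])` factors as `P · diag(T^{d_i}) · Q⁻` with `P, Q ∈ GL_n(k[T])`,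
`Q⁻ = Q(T⁻¹)` and `d` antitone.  Proof: clear denominators, row-reduce the polynomial matrix by
unimodular row operations (`exists_rowReduced`: leading row-coefficient matrix invertible), then
reverse the rows.
-/

set_option autoImplicit false
universe u
open Polynomial LaurentPolynomial Matrix

namespace Groth.Agent.Lib.Birkhoff

variable {k : Type u} [Field k]

/-- A polynomial which becomes a unit in the Laurent polynomial ring and has nonzero constant
term is a unit. -/
theorem isUnit_of_isUnit_toLaurent (p : k[X]) (hu : IsUnit (toLaurent p)) (h0 : p.coeff 0 ≠ 0) :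
    IsUnit p := by
  obtain ⟨u, hu'⟩ := hu.exists_right_inv
  obtain ⟨a, q, hq⟩ := exists_T_pow u
  have h1 : p * q = X ^ a := by
    apply toLaurent_injective
    rw [map_mul, hq, ← mul_assoc, hu', one_mul, toLaurent_X_pow]
  clear hq hu'
  induction a generalizing q with
  | zero =>
    rw [pow_zero] at h1
    exact IsUnit.of_mul_eq_one _ h1
  | succ a ih =>
    have hdvd : X ∣ p * q := ⟨X ^ a, by rw [h1, pow_succ, mul_comm]⟩
    rcases (prime_X (R := k)).dvd_or_dvd hdvd with h | h
    · exact absurd (X_dvd_iff.mp h) h0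
    · obtain ⟨q', rfl⟩ := h
      refine ih q' ?_
      have h2 : (p * q') * X = X ^ a * X := by
        rw [← pow_succ, ← h1]
        ring
      exact mul_right_cancel₀ X_ne_zero h2

/-- `rev N p = X^N p(1/X)` for `natDegree p ≤ N`. -/
noncomputable def rev (N : ℕ) (p : k[X]) : k[X] := p.reverse * X ^ (N - p.natDegree)

theorem toLaurent_rev (N : ℕ) (p : k[X]) (h : p.natDegree ≤ N) :
    toLaurent (rev N p) = invert (toLaurent p) * T N := by
  rw [rev, map_mul, toLaurent_reverse, toLaurent_X_pow, mul_assoc, ← T_add]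
  congr 2
  push_cast [Nat.cast_sub h]
  omega

theorem coeff_zero_rev (N : ℕ) (p : k[X]) (h : p.natDegree ≤ N) :
    (rev N p).coeff 0 = p.coeff N := by
  rw [rev]
  rcases h.eq_or_lt with h | h
  · rw [← h, Nat.sub_self, pow_zero, mul_one, coeff_zero_reverse]
    rfl
  · rw [coeff_eq_zero_of_natDegree_lt h]
    obtain ⟨e, he⟩ : ∃ e, N - p.natDegree = e + 1 := ⟨N - p.natDegree - 1, by omega⟩
    rw [he, pow_succ, ← mul_assoc, coeff_zero_eq_eval_zero, eval_mul, eval_X, mul_zero]

section rowreduce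

variable {n : ℕ}

/-- The row degree of a polynomial matrix. -/
def rowDeg (C : Matrix (Fin n) (Fin n) k[X]) (i : Fin n) : ℕ :=
  Finset.univ.sup (fun j => (C i j).natDegree)

lemma natDegree_le_rowDeg (C : Matrix (Fin n) (Fin n) k[X]) (i j : Fin n) :
    (C i j).natDegree ≤ rowDeg C i :=
  Finset.le_sup (f := fun j => (C i j).natDegree) (Finset.mem_univ j)

lemma rowDeg_lt {C : Matrix (Fin n) (Fin n) k[X]} {i : Fin n} {N : ℕ} (hN : 0 < N)
    (h : ∀ j, (C i j).natDegree < N) : rowDeg C i < N :=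
  (Finset.sup_lt_iff hN).mpr (fun j _ => h j)

/-- The matrix of leading row coefficients. -/
def lc (C : Matrix (Fin n) (Fin n) k[X]) : Matrix (Fin n) (Fin n) k :=
  fun i j => (C i j).coeff (rowDeg C i)

/-- The sum of the row degrees. -/
def mu (C : Matrix (Fin n) (Fin n) k[X]) : ℕ := ∑ i, rowDeg C i

lemma eq_zero_or_natDegree_lt {p : k[X]} {N : ℕ} (h1 : p.natDegree ≤ N) (h2 : p.coeff N = 0) :
    p = 0 ∨ p.natDegree < N := by
  by_cases hp : p = 0
  · exact Or.inl hp
  · right
    rcases h1.eq_or_lt with h | h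
    · exfalso
      rw [← h] at h2
      exact hp (leadingCoeff_eq_zero.mp h2)
    · exact h

theorem exists_step (C : Matrix (Fin n) (Fin n) k[X]) (hC : C.det ≠ 0) (hlc : (lc C).det = 0) :
    ∃ E : Matrix (Fin n) (Fin n) k[X], IsUnit E ∧ mu (E * C) < mu C := by
  classical
  obtain ⟨v, hv0, hv⟩ := Matrix.exists_vecMul_eq_zero_iff.mpr hlc
  let s : Finset (Fin n) := Finset.univ.filter (fun i => v i ≠ 0)
  have hs : s.Nonempty := by
    obtain ⟨i, hi⟩ := Function.ne_iff.mp hv0
    exact ⟨i, Finset.mem_filter.mpr ⟨Finset.mem_univ i, hi⟩⟩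
  obtain ⟨i₀, hi₀s, hmax⟩ := Finset.exists_max_image s (rowDeg C) hs
  have hvi₀ : v i₀ ≠ 0 := (Finset.mem_filter.mp hi₀s).2
  let w : Fin n → k[X] := fun i => Polynomial.C (v i) * X ^ (rowDeg C i₀ - rowDeg C i)
  let E : Matrix (Fin n) (Fin n) k[X] := Matrix.updateRow 1 i₀ w
  have hw : w = ∑ l, w l • (1 : Matrix (Fin n) (Fin n) k[X]) l := by
    ext j
    simp [Finset.sum_apply, Matrix.one_apply]
  have hEdet : E.det = Polynomial.C (v i₀) := by
    change (Matrix.updateRow 1 i₀ w).det = _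
    rw [hw, Matrix.det_updateRow_sum, Matrix.det_one, smul_eq_mul, mul_one]
    change Polynomial.C (v i₀) * X ^ (rowDeg C i₀ - rowDeg C i₀) = _
    rw [Nat.sub_self, pow_zero, mul_one]
  have hEunit : IsUnit E := by
    rw [Matrix.isUnit_iff_isUnit_det, hEdet]
    exact Polynomial.isUnit_C.mpr (IsUnit.mk0 _ hvi₀)
  have hEC : E * C = Matrix.updateRow C i₀ (w ᵥ* C) := by
    change Matrix.updateRow 1 i₀ w * C = _
    rw [Matrix.updateRow_mul, one_mul]
  -- the new row
  have hdeg : ∀ j, ((w ᵥ* C) j).natDegree ≤ rowDeg C i₀ := by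
    intro j
    rw [Matrix.vecMul, dotProduct]
    refine natDegree_sum_le_of_forall_le _ _ (fun l _ => ?_)
    by_cases hl : v l = 0
    · simp [w, hl]
    · have hls : l ∈ s := Finset.mem_filter.mpr ⟨Finset.mem_univ l, hl⟩
      have hle := hmax l hls
      calc (w l * C l j).natDegree ≤ (w l).natDegree + (C l j).natDegree := natDegree_mul_le
        _ ≤ (rowDeg C i₀ - rowDeg C l) + rowDeg C l :=
          add_le_add (natDegree_C_mul_X_pow_le _ _) (natDegree_le_rowDeg C l j)
        _ = rowDeg C i₀ := Nat.sub_add_cancel hle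
  have hcoeff : ∀ j, ((w ᵥ* C) j).coeff (rowDeg C i₀) = 0 := by
    intro j
    have h1 : ((w ᵥ* C) j).coeff (rowDeg C i₀) = ∑ l, v l * lc C l j := by
      rw [Matrix.vecMul, dotProduct, finsetSum_coeff]
      refine Finset.sum_congr rfl (fun l _ => ?_)
      by_cases hl : v l = 0
      · simp [w, hl]
      · have hls : l ∈ s := Finset.mem_filter.mpr ⟨Finset.mem_univ l, hl⟩
        have hle := hmax l hls
        change (Polynomial.C (v l) * X ^ (rowDeg C i₀ - rowDeg C l) * C l j).coeff (rowDeg C i₀) = _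
        rw [mul_assoc, coeff_C_mul, coeff_X_pow_mul', if_pos (Nat.sub_le _ _),
          Nat.sub_sub_self hle]
        rfl
    rw [h1]
    have := congrFun hv j
    rw [Matrix.vecMul, dotProduct] at this
    exact this
  have hrow_ne : ∀ i, i ≠ i₀ → rowDeg (E * C) i = rowDeg C i := by
    intro i hi
    rw [hEC]
    unfold rowDeg
    refine Finset.sup_congr rfl (fun j _ => ?_)
    rw [Matrix.updateRow_ne hi]
  have hdet : (E * C).det ≠ 0 := by
    rw [Matrix.det_mul, hEdet]
    exact mul_ne_zero (by rwa [Ne, Polynomial.C_eq_zero]) hC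
  have hpos : 0 < rowDeg C i₀ := by
    by_contra h0
    have h0' : rowDeg C i₀ = 0 := by omega
    apply hdet
    refine Matrix.det_eq_zero_of_row_eq_zero i₀ (fun j => ?_)
    rw [hEC, Matrix.updateRow_self]
    rcases eq_zero_or_natDegree_lt (hdeg j) (hcoeff j) with h | h
    · exact h
    · omega
  have hrow_lt : rowDeg (E * C) i₀ < rowDeg C i₀ := by
    refine rowDeg_lt hpos (fun j => ?_)
    rw [hEC, Matrix.updateRow_self]
    rcases eq_zero_or_natDegree_lt (hdeg j) (hcoeff j) with h | h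
    · rw [h, natDegree_zero]
      exact hpos
    · exact h
  refine ⟨E, hEunit, ?_⟩
  unfold mu
  refine Finset.sum_lt_sum (fun i _ => ?_) ⟨i₀, Finset.mem_univ _, hrow_lt⟩
  by_cases hi : i = i₀
  · rw [hi]
    exact hrow_lt.le
  · exact (hrow_ne i hi).le

theorem exists_rowReduced : ∀ (m : ℕ) (C : Matrix (Fin n) (Fin n) k[X]), mu C = m → C.det ≠ 0 →
    ∃ U : Matrix (Fin n) (Fin n) k[X], IsUnit U ∧ (lc (U * C)).det ≠ 0 := by
  intro m
  induction m using Nat.strong_induction_on with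
  | _ m ih =>
    intro C hm hC
    by_cases hlc : (lc C).det = 0
    · obtain ⟨E, hE, hlt⟩ := exists_step C hC hlc
      have hdet : (E * C).det ≠ 0 := by
        rw [Matrix.det_mul]
        have := (Matrix.isUnit_iff_isUnit_det E).mp hE
        exact mul_ne_zero this.ne_zero hC
      obtain ⟨U, hU, hUlc⟩ := ih (mu (E * C)) (hm ▸ hlt) (E * C) rfl hdet
      exact ⟨U * E, hU.mul hE, by rwa [mul_assoc]⟩
    · exact ⟨1, isUnit_one, by rwa [one_mul]⟩

end rowreduce

section main

variable {n : ℕ}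

/-- Clearing denominators of a matrix of Laurent polynomials. -/
theorem exists_clear (A : Matrix (Fin n) (Fin n) k[T;T⁻¹]) :
    ∃ (N : ℕ) (A₀ : Matrix (Fin n) (Fin n) k[X]), A₀.map toLaurent = (T (N : ℤ) : k[T;T⁻¹]) • A := by
  choose nn f hf using fun i j => exists_T_pow (A i j)
  let N : ℕ := Finset.univ.sup (fun p : Fin n × Fin n => nn p.1 p.2)
  have hN : ∀ i j, nn i j ≤ N := fun i j =>
    Finset.le_sup (f := fun p : Fin n × Fin n => nn p.1 p.2) (Finset.mem_univ (i, j))
  refine ⟨N, fun i j => f i j * X ^ (N - nn i j), ?_⟩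
  ext i j
  rw [Matrix.map_apply, Matrix.smul_apply, map_mul, hf, toLaurent_X_pow, mul_assoc, ← T_add,
    smul_eq_mul, mul_comm]
  push_cast [Nat.cast_sub (hN i j)]
  rw [add_sub_cancel]

theorem birkhoff_unsorted (A : Matrix (Fin n) (Fin n) k[T;T⁻¹]) (hA : IsUnit A) :
    ∃ (P Q : Matrix (Fin n) (Fin n) k[X]) (d : Fin n → ℤ), IsUnit P ∧ IsUnit Q ∧
      A = P.map toLaurent * Matrix.diagonal (fun i => (T (d i) : k[T;T⁻¹])) *
        (Q.map toLaurent).map invert := by
  obtain ⟨N, A₀, hA₀⟩ := exists_clear A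
  have hdetA : IsUnit A.det := (Matrix.isUnit_iff_isUnit_det A).mp hA
  have hdetA₀L : toLaurent A₀.det = (T (N : ℤ) : k[T;T⁻¹]) ^ Fintype.card (Fin n) * A.det := by
    have h1 : toLaurent A₀.det = (A₀.map toLaurent).det := by
      rw [RingHom.map_det]
      rfl
    rw [h1, hA₀, Matrix.det_smul]
  have hdetA₀u : IsUnit (toLaurent A₀.det) := by
    rw [hdetA₀L]
    exact ((isUnit_T _).pow _).mul hdetA
  have hdetA₀ : A₀.det ≠ 0 := by
    intro h0
    rw [h0, map_zero] at hdetA₀u
    exact not_isUnit_zero hdetA₀u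
  obtain ⟨U, hU, hlc⟩ := exists_rowReduced (mu A₀) A₀ rfl hdetA₀
  obtain ⟨u, rfl⟩ := hU
  set C : Matrix (Fin n) (Fin n) k[X] := (u : Matrix (Fin n) (Fin n) k[X]) * A₀ with hC
  let d : Fin n → ℕ := rowDeg C
  let Q : Matrix (Fin n) (Fin n) k[X] := fun i j => rev (d i) (C i j)
  have hQ1 : ∀ i j, toLaurent (C i j) = T (d i : ℤ) * invert (toLaurent (Q i j)) := by
    intro i j
    have h1 := toLaurent_rev (d i) (C i j) (natDegree_le_rowDeg C i j)
    change toLaurent (Q i j) = _ at h1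
    rw [h1, map_mul, involutive_invert, invert_T, ← mul_assoc, mul_comm (T (d i : ℤ)),
      mul_assoc, ← T_add, add_neg_cancel, T_zero, mul_one]
  have hCmap : C.map toLaurent = Matrix.diagonal (fun i => (T (d i : ℤ) : k[T;T⁻¹])) *
      (Q.map toLaurent).map invert := by
    ext i j
    rw [Matrix.diagonal_mul, Matrix.map_apply, hQ1]
    rfl
  -- Q is a unit
  have hQdet0 : Q.det.coeff 0 ≠ 0 := by
    have h1 : Q.det.coeff 0 = (lc C).det := by
      rw [coeff_zero_eq_eval_zero, ← coe_evalRingHom, RingHom.map_det]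
      congr 1
      ext i j
      change eval 0 (rev (d i) (C i j)) = (C i j).coeff (rowDeg C i)
      rw [← coeff_zero_eq_eval_zero, coeff_zero_rev _ _ (natDegree_le_rowDeg C i j)]
    rw [h1]
    exact hlc
  have hCdet : IsUnit (toLaurent C.det) := by
    rw [hC, Matrix.det_mul, map_mul]
    have h2 : IsUnit (u : Matrix (Fin n) (Fin n) k[X]).det :=
      (Matrix.isUnit_iff_isUnit_det _).mp u.isUnit
    exact (h2.map toLaurent).mul hdetA₀u
  have hQdetu : IsUnit (toLaurent Q.det) := by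
    have h1 : toLaurent C.det = (C.map toLaurent).det := by
      rw [RingHom.map_det]
      rfl
    have h2 : ((Q.map toLaurent).map invert).det = invert (toLaurent Q.det) := by
      have h3 : toLaurent Q.det = (Q.map toLaurent).det := by
        rw [RingHom.map_det]
        rfl
      rw [h3]
      exact (RingHom.map_det (invert : k[T;T⁻¹] ≃ₐ[k] k[T;T⁻¹]).toRingEquiv.toRingHom
        (Q.map toLaurent)).symm
    rw [h1, hCmap, Matrix.det_mul, h2] at hCdet
    have h4 : IsUnit (invert (toLaurent Q.det)) := isUnit_of_mul_isUnit_right hCdet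
    have h5 := h4.map (invert : k[T;T⁻¹] ≃ₐ[k] k[T;T⁻¹])
    rwa [involutive_invert] at h5
  have hQunit : IsUnit Q :=
    (Matrix.isUnit_iff_isUnit_det Q).mpr (isUnit_of_isUnit_toLaurent _ hQdetu hQdet0)
  -- assemble
  let P : Matrix (Fin n) (Fin n) k[X] := ((u⁻¹ : (Matrix (Fin n) (Fin n) k[X])ˣ) : Matrix _ _ _)
  have hPC : P * C = A₀ := by
    rw [hC, ← mul_assoc]
    change ((u⁻¹ : (Matrix (Fin n) (Fin n) k[X])ˣ) : Matrix _ _ _) * (u : Matrix _ _ _) * A₀ = A₀
    rw [Units.inv_mul, one_mul]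
  refine ⟨P, Q, fun i => (d i : ℤ) - N, (u⁻¹).isUnit, hQunit, ?_⟩
  have h6 : (T (N : ℤ) : k[T;T⁻¹]) • A = P.map toLaurent * (Matrix.diagonal (fun i =>
      (T (d i : ℤ) : k[T;T⁻¹])) * (Q.map toLaurent).map invert) := by
    rw [← hCmap, ← hA₀, ← hPC, Matrix.map_mul]
  have h7 : A = (T (-(N : ℤ)) : k[T;T⁻¹]) • ((T (N : ℤ) : k[T;T⁻¹]) • A) := by
    rw [smul_smul, ← T_add, neg_add_cancel, T_zero, one_smul]
  rw [h7, h6, ← Matrix.mul_smul, ← Matrix.smul_mul, mul_assoc]
  congr 2
  ext i j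
  rw [Matrix.smul_apply, Matrix.diagonal_apply, Matrix.diagonal_apply]
  split_ifs
  · rw [smul_eq_mul, ← T_add, neg_add_eq_sub]
  · rw [smul_zero]

theorem birkhoff (A : Matrix (Fin n) (Fin n) k[T;T⁻¹]) (hA : IsUnit A) :
    ∃ (P Q : Matrix (Fin n) (Fin n) k[X]) (d : Fin n → ℤ), IsUnit P ∧ IsUnit Q ∧ Antitone d ∧
      A = P.map toLaurent * Matrix.diagonal (fun i => (T (d i) : k[T;T⁻¹])) *
        (Q.map toLaurent).map invert := by
  obtain ⟨P, Q, d, hP, hQ, hA'⟩ := birkhoff_unsorted A hA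
  let σ : Equiv.Perm (Fin n) := Tuple.sort (fun i => -d i)
  have hmono : Monotone ((fun i => -d i) ∘ σ) := Tuple.monotone_sort _
  refine ⟨P.submatrix (Equiv.refl _) σ, Q.submatrix σ (Equiv.refl _), d ∘ σ,
    (Matrix.isUnit_submatrix_equiv _ _).mpr hP, (Matrix.isUnit_submatrix_equiv _ _).mpr hQ, ?_, ?_⟩
  · intro i j hij
    have := hmono hij
    simp only [Function.comp_apply, neg_le_neg_iff] at this
    exact this
  · have h1 : (P.submatrix (Equiv.refl _) σ).map toLaurent =
        (P.map toLaurent).submatrix (Equiv.refl _) σ := rfl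
    have h2 : ((Q.submatrix σ (Equiv.refl _)).map toLaurent).map invert =
        ((Q.map toLaurent).map invert).submatrix σ (Equiv.refl _) := rfl
    have h3 : Matrix.diagonal (fun i => (T ((d ∘ σ) i) : k[T;T⁻¹])) =
        (Matrix.diagonal (fun i => (T (d i) : k[T;T⁻¹]))).submatrix σ σ := by
      rw [Matrix.submatrix_diagonal_equiv]
      rfl
    rw [h1, h2, h3, Matrix.submatrix_mul_equiv, Matrix.submatrix_mul_equiv, ← hA']
    rfl

end main

end Groth.Agent.Lib.Birkhoff
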