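import Groth.Agent.Lib.PlSMT11

/-!
# Standard monomial theory, part 12: masked generic matrices and the least Plücker coordinate

For a generic matrix with some entries set to zero, the diagonal leading terms show that the standard monomials
whose diagonals avoid the zeros stay linearly independent.  Applied to the interval `[ι', w]` this shows that
the least Plücker coordinate is a prime element of `S/J(w)`.
-/

set_option autoImplicit false
set_option linter.unusedSectionVars false
set_option linter.unusedSimpArgs false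
universe u
open Finset MvPolynomial W4bk4grassmannian Groth.Agent.Lib.ReesBasis

noncomputable section

namespace Groth.Agent.Lib.PlSMT

variable {d n : ℕ}

section Masked
variable (K : Type u) [CommRing K] (m : Fin n → Fin d → Prop) [∀ a t, Decidable (m a t)]

/-- The generic matrix with the entries outside the mask `m` set to zero. -/
def genM : Matrix (Fin n) (Fin d) (MvPolynomial (Fin n × Fin d) K) :=
  Matrix.of fun a t => if m a t then X (a, t) else 0

/-- Evaluation of Plücker polynomials at the minors of the masked generic matrix. -/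
def evalM : PlRing K d n →ₐ[K] MvPolynomial (Fin n × Fin d) K :=
  MvPolynomial.aeval fun θ : Idx d n => ((genM K m).submatrix θ.1 id).det

lemma evalM_X (θ : Idx d n) : evalM K m (X θ) = ((genM K m).submatrix θ.1 id).det := by
  unfold evalM; rw [aeval_X]

lemma LF_entryM (a : Fin n) (t : Fin d) :
    LF (Phi K (genM K m a t)) (genM K m a t) (omega (a, t)) := by
  rw [genM, Matrix.of_apply]
  split_ifs with h
  · rw [Phi, aeval_X]
    exact LF.CX _ _
  · rw [map_zero]
    exact LF.zero _

lemma LF_minorM (θ : Idx d n) :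
    LF (Phi K (((genM K m).submatrix θ.1 id).det)) (∏ t, genM K m (θ.1 t) t) (fwt θ) := by
  classical
  rw [Matrix.det_apply, map_sum]
  have hterm : ∀ σ ∈ (Finset.univ : Finset (Equiv.Perm (Fin d))),
      LF (Phi K (Equiv.Perm.sign σ • ∏ t, ((genM K m).submatrix θ.1 id) (σ t) t))
        (if σ = 1 then ∏ t, genM K m (θ.1 t) t else 0) (fwt θ) := by
    intro σ _
    have h1 : Phi K (Equiv.Perm.sign σ • ∏ t, ((genM K m).submatrix θ.1 id) (σ t) t) =
        Equiv.Perm.sign σ • ∏ t, Phi K (genM K m (θ.1 (σ t)) t) := by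
      rw [Units.smul_def, Units.smul_def, map_zsmul, map_prod]
      rfl
    rw [h1]
    have h2 : LF (∏ t, Phi K (genM K m (θ.1 (σ t)) t)) (∏ t, genM K m (θ.1 (σ t)) t)
        (∑ t : Fin d, omega (θ.1 (σ t), t)) :=
      LF.prod _ _ _ _ fun t _ => LF_entryM K m _ t
    by_cases hσ : σ = 1
    · subst hσ
      rw [if_pos rfl, Equiv.Perm.sign_one, one_smul]
      exact h2
    · rw [if_neg hσ]
      have h3 : ∑ t : Fin d, omega (θ.1 (σ t), t) < fwt θ := sum_perm_lt θ σ hσ
      have h4 := (h2.of_lt h3).zsmul (Equiv.Perm.sign σ)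
      rwa [smul_zero] at h4
  have := LF.sum _ _ _ _ hterm
  rwa [Finset.sum_ite_eq' Finset.univ (1 : Equiv.Perm (Fin d)), if_pos (Finset.mem_univ _)] at this

lemma LF_monomialM (e : Idx d n →₀ ℕ) :
    LF (Phi K (evalM K m (monomial e 1)))
      (e.prod fun θ k => (∏ t, genM K m (θ.1 t) t) ^ k) (FWt e) := by
  have h1 : Phi K (evalM K m (monomial e 1)) =
      ∏ θ ∈ e.support, (Phi K (((genM K m).submatrix θ.1 id).det)) ^ (e θ) := by
    rw [evalM, aeval_monomial, map_one, one_mul, Finsupp.prod, map_prod]
    refine Finset.prod_congr rfl fun θ _ => ?_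
    rw [map_pow]
  rw [h1]
  exact LF.prod _ _ _ _ fun θ _ => (LF_minorM K m θ).pow (e θ)

lemma diag_eqM {θ : Idx d n} (h : ∀ t, m (θ.1 t) t) :
    ∏ t, genM K m (θ.1 t) t = monomial (rowv θ) 1 := by
  unfold rowv
  rw [monomial_sum_one]
  refine Finset.prod_congr rfl fun t _ => ?_
  rw [genM, Matrix.of_apply, if_pos (h t)]
  rfl

lemma LF_monomial_stdM (e : Idx d n →₀ ℕ) (he : ∀ θ ∈ e.support, ∀ t, m (θ.1 t) t) :
    LF (Phi K (evalM K m (monomial e 1))) (monomial (Ev e) 1) (FWt e) := by
  have h := LF_monomialM K m e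
  have h2 : (e.prod fun θ k => (∏ t, genM K m (θ.1 t) t) ^ k) = monomial (Ev e) (1 : K) := by
    unfold Ev
    rw [monomial_finsupp_sum_index, map_one, one_mul]
    refine Finset.prod_congr rfl fun θ hθ => ?_
    show (∏ t, genM K m (θ.1 t) t) ^ (e θ) = monomial (e θ • rowv θ) 1
    rw [diag_eqM K m (he θ hθ), monomial_pow, one_pow]
  rwa [h2] at h

/-- Independence: a polynomial supported on chain monomials whose diagonals lie in the mask, vanishing at the
minors of the masked generic matrix, is zero. -/
theorem eq_zero_of_evalM_eq_zero (hd : 0 < d) (G : PlRing K d n)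
    (hG : ∀ e ∈ G.support, IsChain (· ≤ ·) (e.support : Set (Idx d n)) ∧
      ∀ θ ∈ e.support, ∀ t, m (θ.1 t) t)
    (h0 : evalM K m G = 0) : G = 0 := by
  classical
  by_contra hne
  have hSne : G.support.Nonempty := MvPolynomial.support_nonempty.2 hne
  obtain ⟨e₀, he₀, hmax⟩ := Finset.exists_max_image G.support FWt hSne
  set W := FWt e₀ with hW
  have hexp : Phi K (evalM K m G) =
      ∑ e ∈ G.support, MvPolynomial.coeff e G • Phi K (evalM K m (monomial e 1)) := by
    conv_lhs => rw [G.as_sum]
    rw [map_sum, map_sum]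
    refine Finset.sum_congr rfl fun e _ => ?_
    have : monomial e (MvPolynomial.coeff e G) = MvPolynomial.coeff e G • monomial e (1 : K) := by
      rw [smul_monomial, smul_eq_mul, mul_one]
    rw [this, map_smul, map_smul]
  have hcoeff : (Phi K (evalM K m G)).coeff W =
      ∑ e ∈ G.support, if FWt e = W then monomial (Ev e) (MvPolynomial.coeff e G) else 0 := by
    rw [hexp, Polynomial.finsetSum_coeff]
    refine Finset.sum_congr rfl fun e he => ?_
    have hLF := LF_monomial_stdM K m e (hG e he).2
    rw [Polynomial.coeff_smul]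
    split_ifs with hWe
    · rw [← hWe, hLF.2, smul_monomial, smul_eq_mul, mul_one]
    · have hlt : FWt e < W := lt_of_le_of_ne (hmax e he) hWe
      rw [Polynomial.coeff_eq_zero_of_natDegree_lt (lt_of_le_of_lt hLF.1 hlt), smul_zero]
  have hzero : (Phi K (evalM K m G)).coeff W = 0 := by rw [h0, map_zero, Polynomial.coeff_zero]
  rw [hcoeff] at hzero
  have h2 := congrArg (MvPolynomial.coeff (Ev e₀)) hzero
  rw [MvPolynomial.coeff_sum, MvPolynomial.coeff_zero, Finset.sum_eq_single e₀] at h2
  · rw [if_pos rfl, MvPolynomial.coeff_monomial, if_pos rfl] at h2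
    exact (MvPolynomial.mem_support_iff.1 he₀) h2
  · intro e he hne'
    split_ifs with hWe
    · rw [MvPolynomial.coeff_monomial, if_neg]
      intro hEE
      exact hne' (Ev_injOn_chain hd e.degree e e₀ le_rfl (hG e he).1 (hG e₀ he₀).1 hEE)
    · rw [MvPolynomial.coeff_zero]
  · intro h; exact absurd he₀ h

end Masked

section Interval

/-- The mask of the interval `[v, w]`: column `t` has variables in the rows `v t ≤ a ≤ w t`. -/
def maskI (v w : Idx d n) : Fin n → Fin d → Prop := fun a t => v.1 t ≤ a ∧ a ≤ w.1 t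

instance (v w : Idx d n) (a : Fin n) (t : Fin d) : Decidable (maskI v w a t) := by
  unfold maskI; infer_instance

variable (K : Type u) [CommRing K]

/-- Specialisation of the generic echelon matrix: the entries above the rows `v t` are set to zero. -/
def specI (v : Idx d n) :
    MvPolynomial (Fin n × Fin d) K →ₐ[K] MvPolynomial (Fin n × Fin d) K :=
  MvPolynomial.aeval fun p : Fin n × Fin d => if v.1 p.2 ≤ p.1 then X p else 0

lemma specI_comp_evalG (v w : Idx d n) :
    (specI K v).comp (evalG K w) = evalM K (maskI v w) := by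
  apply MvPolynomial.algHom_ext
  intro θ
  rw [AlgHom.comp_apply, evalG_X, evalM_X]
  show (specI K v).toRingHom _ = _
  rw [RingHom.map_det]
  congr 1
  refine Matrix.ext fun s c => ?_
  rw [RingHom.mapMatrix_apply, Matrix.map_apply, Matrix.submatrix_apply, Matrix.submatrix_apply, id,
    genEch, genM, Matrix.of_apply, Matrix.of_apply]
  show (specI K v) _ = _
  unfold maskI
  by_cases h1 : θ.1 s ≤ w.1 c
  · rw [if_pos h1, specI, aeval_X]
    by_cases h2 : v.1 c ≤ θ.1 s
    · rw [if_pos h2, if_pos ⟨h2, h1⟩]
    · rw [if_neg h2, if_neg (fun h => h2 h.1)]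
  · rw [if_neg h1, map_zero, if_neg (fun h => h1 h.2)]

lemma minor_genM_eq_zero_of_not_ge (v w θ : Idx d n) (h : ¬ v ≤ θ) :
    ((genM K (maskI v w)).submatrix θ.1 id).det = 0 := by
  have hex : ∃ t : Fin d, θ.1 t < v.1 t := by
    by_contra hcon
    exact h (fun t => not_lt.1 (fun hlt => hcon ⟨t, hlt⟩))
  obtain ⟨t, ht⟩ := hex
  rw [← Matrix.det_transpose]
  apply det_eq_zero_of_block _ t
  intro s c hs hc
  rw [Matrix.transpose_apply, Matrix.submatrix_apply, id, genM, Matrix.of_apply, if_neg]
  unfold maskI
  intro hm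
  have h1 : θ.1 c ≤ θ.1 t := θ.2.monotone hc
  have h2 : v.1 t ≤ v.1 s := v.2.monotone hs
  exact absurd (lt_of_le_of_lt (le_trans hm.1 h1) ht) (not_lt.2 h2)

/-- The unique cover `(0, …, d-2, d)` of the least element. -/
def wbot' (hd : 0 < d) (hdn : d < n) : Idx d n :=
  ⟨fun t => if t.val = d - 1 then ⟨d, hdn⟩ else ⟨t.val, lt_trans t.isLt hdn⟩, by
    intro a b hab
    have hab' : a.val < b.val := hab
    have hb := b.isLt
    have ha : ¬ a.val = d - 1 := by omega
    simp only [ha, if_false]
    split_ifs with hb'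
    · rw [Fin.lt_def]; show a.val < d; omega
    · rw [Fin.lt_def]; exact hab'⟩

lemma wbot'_le (hd : 0 < d) (hdn : d < n) (θ : Idx d n) (hθ : θ ≠ wbot hdn.le) :
    wbot' hd hdn ≤ θ := by
  intro t
  unfold wbot'
  simp only
  split_ifs with ht
  · rw [Fin.le_def]
    show d ≤ (θ.1 t).val
    by_contra hlt
    rw [not_le] at hlt
    apply hθ
    apply Subtype.ext
    funext s
    apply Fin.ext
    show (θ.1 s).val = s.val
    have h1 := le_val θ s
    have h2 := strictMono_add_le θ (t.val - s.val) s t (by have := s.isLt; omega)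
    omega
  · rw [Fin.le_def]
    exact le_val θ t

lemma not_wbot'_le_wbot (hd : 0 < d) (hdn : d < n) : ¬ wbot' hd hdn ≤ wbot hdn.le := by
  intro h
  have := h ⟨d - 1, by omega⟩
  unfold wbot' wbot at this
  simp only [if_true] at this
  rw [Fin.le_def] at this
  simp only at this
  omega

end Interval

section Prime
variable (K : Type u) [Field K] [Infinite K] (hd : 0 < d) (hdn : d < n) (w : Idx d n)

include hd in
/-- The least Plücker coordinate is a prime element of `S/J(w)`. -/
theorem prime_mk_X_wbot :
    Prime (Ideal.Quotient.mk (schubertVanishing K d n w) (X (wbot hdn.le))) := by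
  classical
  set ι := wbot (n := n) hdn.le with hι
  set ι' := wbot' hd hdn with hι'
  set x := Ideal.Quotient.mk (schubertVanishing K d n w) (X ι) with hx
  have hιw : ι ≤ w := wbot_le hdn.le w
  have hx0 : x ≠ 0 := by
    have := (linearIndependent_stdVec K hd w).ne_zero ⟨Finsupp.single ι 1, isStdOn_single w ⟨ι, hιw⟩⟩
    exact this
  -- evaluation at the masked matrix, on the quotient
  have hker : ∀ f ∈ schubertVanishing K d n w, (evalM K (maskI ι' w)).toRingHom f = 0 := by
    intro f hf
    show evalM K (maskI ι' w) f = 0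
    rw [← specI_comp_evalG, AlgHom.comp_apply, evalG_eq_zero_of_mem K w f hf, map_zero]
  set φ : SchB K w →+* MvPolynomial (Fin n × Fin d) K :=
    Ideal.Quotient.lift (schubertVanishing K d n w) (evalM K (maskI ι' w)).toRingHom hker with hφ
  have hφmk : ∀ f, φ (Ideal.Quotient.mk _ f) = evalM K (maskI ι' w) f := fun f => rfl
  have hXι : evalM K (maskI ι' w) (X ι) = 0 := by
    rw [evalM_X]
    exact minor_genM_eq_zero_of_not_ge K ι' w ι (not_wbot'_le_wbot hd hdn)
  have hkerφ : RingHom.ker φ = Ideal.span {x} := by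
    apply le_antisymm
    · intro b hb
      obtain ⟨f, rfl⟩ := Ideal.Quotient.mk_surjective b
      rw [RingHom.mem_ker, hφmk] at hb
      obtain ⟨G, hG, hfG⟩ := exists_std_rep K (schubertVanishing K d n w)
        (plIdealTop_le_schubertVanishing K w) (fun θ => θ ≤ w)
        (fun θ hθ => X_mem_schubertVanishing K hθ) f
      set G₁ : PlRing K d n := ∑ e ∈ G.support.filter (fun e => ι ∉ e.support),
        monomial e (coeff e G) with hG₁
      set G₂ : PlRing K d n := ∑ e ∈ G.support.filter (fun e => ¬ ι ∉ e.support),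
        monomial e (coeff e G) with hG₂
      have hsplit : G = G₁ + G₂ := by
        conv_lhs => rw [G.as_sum]
        rw [hG₁, hG₂, Finset.sum_filter_add_sum_filter_not]
      have hG₂dvd : ∃ q : PlRing K d n, G₂ = X ι * q := by
        refine ⟨∑ e ∈ G.support.filter (fun e => ¬ ι ∉ e.support),
          monomial (e - Finsupp.single ι 1) (coeff e G), ?_⟩
        rw [hG₂, Finset.mul_sum]
        refine Finset.sum_congr rfl fun e he => ?_
        have hmem : ι ∈ e.support := not_not.1 (Finset.mem_filter.1 he).2
        have h1 : 1 ≤ e ι := Nat.one_le_iff_ne_zero.2 (Finsupp.mem_support_iff.1 hmem)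
        have hs : Finsupp.single ι 1 + (e - Finsupp.single ι 1) = e := by
          refine Finsupp.ext fun θ' => ?_
          by_cases hθ' : θ' = ι
          · subst hθ'
            simp only [Finsupp.coe_add, Pi.add_apply, Finsupp.single_eq_same, Finsupp.coe_tsub,
              Pi.sub_apply]
            omega
          · simp only [Finsupp.coe_add, Pi.add_apply, Finsupp.coe_tsub, Pi.sub_apply,
              Finsupp.single_eq_of_ne hθ']
            omega
        rw [MvPolynomial.X, MvPolynomial.monomial_mul, one_mul, hs]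
      obtain ⟨q, hq⟩ := hG₂dvd
      have hG₁0 : evalM K (maskI ι' w) G₁ = 0 := by
        have h1 : evalM K (maskI ι' w) (f - G) = 0 := hker _ hfG
        have h2 : evalM K (maskI ι' w) G₂ = 0 := by rw [hq, map_mul, hXι, zero_mul]
        rw [map_sub, hb, zero_sub, neg_eq_zero, hsplit, map_add, h2, add_zero] at h1
        exact h1
      have hG₁z : G₁ = 0 := by
        apply eq_zero_of_evalM_eq_zero K (maskI ι' w) hd G₁ _ hG₁0
        intro e he
        have h1 := MvPolynomial.support_sum he
        rw [Finset.mem_biUnion] at h1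
        obtain ⟨e', he', hl⟩ := h1
        have := MvPolynomial.support_monomial_subset hl
        rw [Finset.mem_singleton] at this
        subst this
        rw [Finset.mem_filter] at he'
        refine ⟨(hG e he'.1).1, fun θ hθ t => ?_⟩
        have hθι : θ ≠ ι := fun h => he'.2 (h ▸ hθ)
        exact ⟨wbot'_le hd hdn θ hθι t, (hG e he'.1).2 θ hθ t⟩
      have hmk : Ideal.Quotient.mk (schubertVanishing K d n w) f =
          x * Ideal.Quotient.mk (schubertVanishing K d n w) q := by
        rw [hx, ← map_mul, ← hq, Ideal.Quotient.eq]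
        have : f - G₂ = f - G := by rw [hsplit, hG₁z, zero_add]
        rw [this]; exact hfG
      rw [hmk]
      exact Ideal.mul_mem_right _ _ (Ideal.subset_span rfl)
    · rw [Ideal.span_le, Set.singleton_subset_iff]
      show x ∈ RingHom.ker φ
      rw [RingHom.mem_ker, hx, hφmk, hXι]
  have hprime : (Ideal.span {x}).IsPrime := by
    rw [← hkerφ]
    exact RingHom.ker_isPrime φ
  exact (Ideal.span_singleton_prime hx0).1 hprime

end Prime

end Groth.Agent.Lib.PlSMT
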