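import Groth.Agent.Lib.BitabComb
import Groth.Agent.Lib.PlSMT12

/-!
# Standard bitableaux basis of determinantal rings

The coordinate ring of `m × n` matrices modulo the `t`-minors is identified, through the minors of the
matrix `[I_n ; J Z]` (`J` the reversal of rows), with the opposite cell of a Schubert variety in `G(n, n + m)`.
Standard monomial theory for Schubert varieties then gives the standard bitableaux basis.
-/

set_option autoImplicit false
set_option linter.unusedSectionVars false
set_option linter.unusedSimpArgs false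
universe u
open Finset MvPolynomial W4bk4grassmannian

noncomputable section

namespace Groth.Agent.Lib.Bitab
open Groth.Agent.Lib.PlSMT Groth.Agent.Lib.CellMinors Groth.Agent.Lib.PlQuadric

section Basic
variable (K : Type u) [CommRing K] (m n : ℕ)

/-- Reversal of the rows of the generic matrix. -/
def rho : MvPolynomial (Fin m × Fin n) K →ₐ[K] MvPolynomial (Fin m × Fin n) K :=
  MvPolynomial.rename (Prod.map Fin.rev id)

lemma rho_X (i : Fin m) (j : Fin n) : rho K m n (X (i, j)) = X (Fin.rev i, j) := by
  unfold rho; rw [rename_X]; rfl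

lemma rho_rho (f : MvPolynomial (Fin m × Fin n) K) : rho K m n (rho K m n f) = f := by
  unfold rho
  rw [rename_rename]
  have : (Prod.map Fin.rev id ∘ Prod.map Fin.rev id : Fin m × Fin n → Fin m × Fin n) = id := by
    funext p
    obtain ⟨i, j⟩ := p
    simp [Prod.map]
  rw [this, rename_id]
  rfl

/-- The matrix `[I_n ; J Z]`. -/
def cellRev : Matrix (Fin (n + m)) (Fin n) (MvPolynomial (Fin m × Fin n) K) :=
  (cellMatrix K n m).map (rho K m n)

/-- Plücker coordinates of `[I_n ; J Z]`. -/
def Psi : PlRing K n (n + m) →ₐ[K] MvPolynomial (Fin m × Fin n) K :=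
  MvPolynomial.aeval fun θ : Idx n (n + m) => ((cellRev K m n).submatrix θ.1 id).det

lemma Psi_X (θ : Idx n (n + m)) : Psi K m n (X θ) = ((cellRev K m n).submatrix θ.1 id).det := by
  unfold Psi; rw [aeval_X]

lemma Psi_coord (a : Fin n → Fin (n + m)) :
    Psi K m n (coord K n (n + m) a) = ((cellRev K m n).submatrix a id).det :=
  aeval_coord K (cellRev K m n) a

lemma det_cellRev_submatrix (a : Fin n → Fin (n + m)) :
    ((cellRev K m n).submatrix a id).det = rho K m n (((cellMatrix K n m).submatrix a id).det) := by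
  rw [AlgHom.map_det]
  rfl

lemma rho_det_genMatrix {t : ℕ} (f : Fin t → Fin m) (g : Fin t → Fin n) :
    rho K m n (((genMatrix K m n).submatrix f g).det) =
      ((genMatrix K m n).submatrix (Fin.rev ∘ f) g).det := by
  rw [AlgHom.map_det]
  congr 1
  ext s c
  simp [genMatrix, rho_X]

lemma Psi_coord_blockRows {t : ℕ} (f : Fin t → Fin m) {g : Fin t → Fin n}
    (hg : Function.Injective g) :
    Psi K m n (coord K n (n + m) (blockRows n m f g)) =
      ((genMatrix K m n).submatrix (Fin.rev ∘ f) g).det := by
  rw [Psi_coord, det_cellRev_submatrix, det_blockRows K n m f g hg, rho_det_genMatrix]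

lemma Psi_coord_rowsOf (M : MinorIdx m n) :
    Psi K m n (coord K n (n + m) (rowsOf M)) = minorOf K M := by
  unfold rowsOf
  rw [Psi_coord_blockRows K m n _ M.2.2.2.injective]
  unfold minorOf
  congr 2
  funext k
  simp

/-- The sign relating `X (ψ M)` and the signed coordinate of the unsorted rows. -/
def sgn (M : MinorIdx m n) : K := (-1) ^ invCount n (n + m) (rowsOf M)

lemma sgn_mul_sgn (M : MinorIdx m n) : sgn K m n M * sgn K m n M = 1 := by
  unfold sgn
  rw [← pow_add, ← two_mul, pow_mul]
  simp

lemma Psi_X_psi (M : MinorIdx m n) : Psi K m n (X (psi M)) = sgn K m n M • minorOf K M := by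
  have h1 := Psi_coord_rowsOf K m n M
  rw [coord_of_card K (card_image_rowsOf M), map_mul, map_pow, map_neg, map_one] at h1
  have h2 : Psi K m n (X (psi M)) =
      (-1 : MvPolynomial (Fin m × Fin n) K) ^ invCount n (n + m) (rowsOf M) *
        ((-1) ^ invCount n (n + m) (rowsOf M) * Psi K m n (X (psi M))) := by
    rw [← mul_assoc, ← pow_add, ← two_mul, pow_mul]
    simp
  rw [h2]
  have h3 : (-1 : MvPolynomial (Fin m × Fin n) K) ^ invCount n (n + m) (rowsOf M) *
      Psi K m n (X (psi M)) = minorOf K M := h1
  rw [h3, sgn, Algebra.smul_def]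
  simp

lemma Psi_X_wbot : Psi K m n (X (wbot (Nat.le_add_right n m))) = 1 := by
  rw [Psi_X, det_cellRev_submatrix]
  have : (cellMatrix K n m).submatrix (wbot (Nat.le_add_right n m)).1 id = 1 := by
    ext s c
    simp [cellMatrix, wbot, Matrix.one_apply, Fin.ext_iff]
  rw [this, Matrix.det_one, map_one]

lemma plIdealTop_le_ker_Psi :
    plIdealTop (d := n) (n := n + m) K ≤ RingHom.ker (Psi K m n).toRingHom := by
  unfold plIdealTop
  rw [Ideal.span_le]
  rintro f ⟨i, j, r, -, rfl⟩
  exact aeval_shuffleRel K (cellRev K m n) i j r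

lemma Psi_surjective : Function.Surjective (Psi K m n) := by
  intro f
  have hrange : (Psi K m n).range = ⊤ := by
    rw [eq_top_iff, ← MvPolynomial.adjoin_range_X]
    apply Algebra.adjoin_le
    rintro _ ⟨⟨i, j⟩, rfl⟩
    refine ⟨coord K n (n + m) (rowsOf (⟨0, ⟨fun _ => i, fun a b h => absurd h (by
      rw [Fin.lt_def]; omega)⟩, ⟨fun _ => j, fun a b h => absurd h (by rw [Fin.lt_def]; omega)⟩⟩ :
        MinorIdx m n)), ?_⟩
    show Psi K m n _ = _
    rw [Psi_coord_rowsOf]
    unfold minorOf
    simp [genMatrix]
  have : f ∈ (Psi K m n).range := by rw [hrange]; exact Algebra.mem_top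
  exact this

end Basic


section Span
variable (K : Type u) [CommRing K] (m n t : ℕ)

/-- The index type of standard bitableaux with minors of size at most `t - 1`. -/
abbrev BT : Type := Σ k : ℕ, {c : Fin k → MinorIdx m n //
  (∀ i, (c i).1 + 1 ≤ t - 1) ∧ ∀ i j, i < j → MinorGE (c i) (c j)}

/-- The class of a standard bitableau in the determinantal ring. -/
def bvec (c : BT m n t) :
    MvPolynomial (Fin m × Fin n) K ⧸ CAlgX.minorIdeal (genMatrix K m n) t :=
  Ideal.Quotient.mk (CAlgX.minorIdeal (genMatrix K m n) t)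
    (Finset.univ.prod fun i => minorOf K (c.2.1 i))

variable (ht : 1 ≤ t) (htm : t ≤ m + 1) (htn : t ≤ n + 1)

include ht in
/-- A standard monomial in Plücker coordinates below `w_t` maps to a signed standard bitableau. -/
lemma exists_bitab_of_chain : ∀ (k : ℕ) (c : Fin k → Idx n (n + m)), Antitone c →
    (∀ i, c i ≤ wt t htm htn) →
    ∃ (k' : ℕ) (c' : Fin k' → MinorIdx m n) (ε : K), (∀ i, (c' i).1 + 1 ≤ t - 1) ∧
      (∀ i j, i < j → MinorGE (c' i) (c' j)) ∧ (∀ i, ∃ j, psi (c' i) = c j) ∧
      Psi K m n (chainMon K c) = ε • ∏ i, minorOf K (c' i) := by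
  intro k
  induction k with
  | zero =>
    intro c _ _
    refine ⟨0, Fin.elim0, 1, fun i => i.elim0, fun i => i.elim0, fun i => i.elim0, ?_⟩
    rw [chainMon_zero]
    simp
  | succ k ih =>
    intro c hc hw
    obtain ⟨k', c', ε', h1, h2, h3, h4⟩ := ih (Fin.tail c)
      (fun a b hab => hc (Fin.succ_le_succ_iff.2 hab)) (fun i => hw _)
    have hmon : chainMon K c = X (c 0) * chainMon K (Fin.tail c) := by
      conv_lhs => rw [← Fin.cons_self_tail c]
      rw [chainMon_cons]
    by_cases h0 : c 0 = wbot (Nat.le_add_right n m)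
    · refine ⟨k', c', ε', h1, h2, fun i => ?_, ?_⟩
      · obtain ⟨j, hj⟩ := h3 i
        exact ⟨j.succ, hj⟩
      · rw [hmon, map_mul, h0, Psi_X_wbot, one_mul, h4]
    · obtain ⟨M, hM⟩ := exists_psi_eq (c 0) h0
      have hMt : M.1 + 1 ≤ t - 1 := by
        have := (le_wt_iff t ht htm htn (c 0)).1 (hw 0)
        rwa [← hM, hiT_psi] at this
      refine ⟨k' + 1, Fin.snoc c' M, ε' * sgn K m n M, ?_, ?_, ?_, ?_⟩
      · intro i
        induction i using Fin.lastCases with
        | last => rw [Fin.snoc_last]; exact hMt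
        | cast i' => rw [Fin.snoc_castSucc]; exact h1 i'
      · intro i j hij
        induction j using Fin.lastCases with
        | last =>
          induction i using Fin.lastCases with
          | last => exact absurd hij (lt_irrefl _)
          | cast i' =>
            rw [Fin.snoc_last, Fin.snoc_castSucc, ← psi_le_iff, hM]
            obtain ⟨j₀, hj₀⟩ := h3 i'
            rw [hj₀]
            exact hc (Fin.zero_le _)
        | cast j' =>
          induction i using Fin.lastCases with
          | last =>
            exact absurd hij (not_lt.2 (Fin.le_last _))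
          | cast i' =>
            rw [Fin.snoc_castSucc, Fin.snoc_castSucc]
            exact h2 i' j' (Fin.castSucc_lt_castSucc_iff.1 hij)
      · intro i
        induction i using Fin.lastCases with
        | last => exact ⟨0, by rw [Fin.snoc_last, hM]⟩
        | cast i' =>
          obtain ⟨j, hj⟩ := h3 i'
          exact ⟨j.succ, by rw [Fin.snoc_castSucc]; exact hj⟩
      · rw [hmon, map_mul, ← hM, Psi_X_psi, h4, Fin.prod_univ_castSucc]
        simp only [Fin.snoc_castSucc, Fin.snoc_last, Algebra.smul_def, map_mul]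
        ring


lemma minorOf_mem_minorIdeal (M : MinorIdx m n) (h : t ≤ M.1 + 1) :
    minorOf K M ∈ CAlgX.minorIdeal (genMatrix K m n) t := by
  apply minorIdeal_antitone (genMatrix K m n) h
  unfold minorOf CAlgX.minorIdeal
  exact Ideal.subset_span ⟨(M.2.1.1, M.2.2.1), rfl⟩

include ht htm htn in
/-- The image of every standard monomial lies in the span of the standard bitableaux. -/
lemma mk_Psi_chainMon_mem {k : ℕ} (c : Fin k → Idx n (n + m)) (hc : Antitone c) :
    Ideal.Quotient.mk (CAlgX.minorIdeal (genMatrix K m n) t) (Psi K m n (chainMon K c)) ∈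
      Submodule.span K (Set.range (bvec K m n t)) := by
  by_cases hw : ∀ i, c i ≤ wt t htm htn
  · obtain ⟨k', c', ε, h1, h2, -, h4⟩ := exists_bitab_of_chain K m n t ht htm htn k c hc hw
    rw [h4]
    have : Ideal.Quotient.mk (CAlgX.minorIdeal (genMatrix K m n) t) (ε • ∏ i, minorOf K (c' i)) =
        ε • bvec K m n t ⟨k', c', h1, h2⟩ := by
      unfold bvec
      rw [Algebra.smul_def, Algebra.smul_def, map_mul]
      rfl
    rw [this]
    exact Submodule.smul_mem _ _ (Submodule.subset_span ⟨_, rfl⟩)
  · push Not at hw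
    obtain ⟨i, hi⟩ := hw
    have hne : c i ≠ wbot (Nat.le_add_right n m) := by
      intro h
      exact hi (h ▸ wbot_le _ _)
    obtain ⟨M, hM⟩ := exists_psi_eq (c i) hne
    have hMt : t ≤ M.1 + 1 := by
      have := (le_wt_iff t ht htm htn (c i)).not.1 hi
      rw [← hM, hiT_psi] at this
      omega
    have hmem : Psi K m n (chainMon K c) ∈ CAlgX.minorIdeal (genMatrix K m n) t := by
      unfold chainMon
      rw [map_prod]
      apply Ideal.mem_of_dvd _ (Finset.dvd_prod_of_mem (fun k => Psi K m n (X (c k)))
        (Finset.mem_univ i))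
      rw [← hM, Psi_X_psi, Algebra.smul_def]
      exact Ideal.mul_mem_left _ _ (minorOf_mem_minorIdeal K m n t M hMt)
    rw [Ideal.Quotient.eq_zero_iff_mem.2 hmem]
    exact Submodule.zero_mem _

include ht htm htn in
/-- The standard bitableaux span the determinantal ring. -/
theorem span_bitab : Submodule.span K (Set.range (bvec K m n t)) = ⊤ := by
  rw [eq_top_iff]
  rintro r -
  obtain ⟨f', rfl⟩ := Ideal.Quotient.mk_surjective r
  obtain ⟨f, rfl⟩ := Psi_surjective K m n f'
  set It := CAlgX.minorIdeal (genMatrix K m n) t with hIt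
  let φ : PlRing K n (n + m) →ₐ[K] (MvPolynomial (Fin m × Fin n) K ⧸ It) :=
    (Ideal.Quotient.mkₐ K It).comp (Psi K m n)
  set I : Ideal (PlRing K n (n + m)) := RingHom.ker φ.toRingHom with hI
  have hItop : plIdealTop (d := n) (n := n + m) K ≤ I := by
    intro x hx
    have h1 := plIdealTop_le_ker_Psi K m n hx
    rw [RingHom.mem_ker] at h1
    rw [hI, RingHom.mem_ker]
    show Ideal.Quotient.mk It (Psi K m n x) = 0
    have h2 : Psi K m n x = 0 := h1
    rw [h2, map_zero]
  have hspan := span_std_eq_top K I hItop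
  have hmem : Ideal.Quotient.mk I f ∈ Submodule.span K (Set.range
      fun c : (Σ k : ℕ, {c : Fin k → Idx n (n + m) // Antitone c}) =>
        Ideal.Quotient.mk I (chainMon K c.2.1)) := by
    rw [hspan]; trivial
  let L : (PlRing K n (n + m) ⧸ I) →ₗ[K] (MvPolynomial (Fin m × Fin n) K ⧸ It) :=
    (Ideal.Quotient.liftₐ I φ (fun a ha => ha)).toLinearMap
  have hL : ∀ x, L (Ideal.Quotient.mk I x) = Ideal.Quotient.mk It (Psi K m n x) := fun x => rfl
  have h1 := Submodule.mem_map_of_mem (f := L) hmem
  rw [Submodule.map_span, hL] at h1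
  refine Submodule.span_le.2 ?_ h1
  rintro _ ⟨_, ⟨c, rfl⟩, rfl⟩
  rw [hL]
  exact mk_Psi_chainMon_mem K m n t ht htm htn c.2.1 c.2.2

end Span


section Seq
variable (K : Type u) [CommRing K] (m n t : ℕ)

/-- The reversed sequence of Plücker indices of a bitableau; it is antitone. -/
def thetaSeq (c : BT m n t) : Fin c.1 → Idx n (n + m) := fun i => psi (c.2.1 (Fin.rev i))

lemma thetaSeq_antitone (c : BT m n t) : Antitone (thetaSeq m n t c) := by
  intro i j hij
  rcases eq_or_lt_of_le hij with h | h
  · rw [h]
  · exact (psi_le_iff _ _).2 (c.2.2.2 _ _ (Fin.rev_lt_rev.2 h))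

lemma thetaSeq_le_wt (ht : 1 ≤ t) (htm : t ≤ m + 1) (htn : t ≤ n + 1) (c : BT m n t) (i : Fin c.1) :
    thetaSeq m n t c i ≤ wt t htm htn := by
  rw [le_wt_iff t ht htm htn]
  unfold thetaSeq
  rw [hiT_psi]
  exact c.2.2.1 _

lemma thetaSeq_ne_wbot (c : BT m n t) (i : Fin c.1) :
    thetaSeq m n t c i ≠ wbot (Nat.le_add_right n m) := psi_ne_wbot _

/-- The sign of a bitableau. -/
def epsOf (c : BT m n t) : K := ∏ i, sgn K m n (c.2.1 i)

lemma epsOf_mul_self (c : BT m n t) : epsOf K m n t c * epsOf K m n t c = 1 := by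
  unfold epsOf
  rw [← Finset.prod_mul_distrib]
  exact Finset.prod_eq_one fun i _ => sgn_mul_sgn K m n _

lemma Psi_chainMon_thetaSeq (c : BT m n t) :
    Psi K m n (chainMon K (thetaSeq m n t c)) =
      epsOf K m n t c • ∏ i, minorOf K (c.2.1 i) := by
  unfold chainMon thetaSeq epsOf
  rw [map_prod]
  have h1 : ∀ i : Fin c.1, Psi K m n (X (psi (c.2.1 (Fin.rev i)))) =
      (fun j => sgn K m n (c.2.1 j) • minorOf K (c.2.1 j)) (Fin.revPerm i) := by
    intro i
    rw [Psi_X_psi]
    rfl
  rw [Finset.prod_congr rfl fun i _ => h1 i,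
    Equiv.prod_comp Fin.revPerm (fun j => sgn K m n (c.2.1 j) • minorOf K (c.2.1 j))]
  simp only [Algebra.smul_def]
  rw [Finset.prod_mul_distrib, map_prod]

lemma bt_eq_of_expo_eq (c c' : BT m n t)
    (h : expo (thetaSeq m n t c) = expo (thetaSeq m n t c')) : c = c' := by
  have h1 := sigma_eq_of_expo_eq (thetaSeq_antitone m n t c) (thetaSeq_antitone m n t c') h
  obtain ⟨k, cc, hc⟩ := c
  obtain ⟨k', cc', hc'⟩ := c'
  have hk : k = k' := congrArg Sigma.fst h1
  subst hk
  have h2 : thetaSeq m n t ⟨k, cc, hc⟩ = thetaSeq m n t ⟨k, cc', hc'⟩ :=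
    eq_of_heq (Sigma.mk.inj_iff.1 h1).2
  have h3 : cc = cc' := by
    funext i
    apply psi_injective
    have := congrFun h2 (Fin.rev i)
    unfold thetaSeq at this
    simp only [Fin.rev_rev] at this
    exact this
  subst h3
  rfl

end Seq


section Points
variable (K : Type u) [Field K] (m n : ℕ)

/-- The point of the opposite cell attached to a normalised matrix. -/
def zOf (A' : Matrix (Fin (n + m)) (Fin n) K) : Fin m × Fin n → K :=
  fun p => A' (Fin.natAdd n (Fin.rev p.1)) p.2

lemma map_cellRev (A' : Matrix (Fin (n + m)) (Fin n) K)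
    (htop : A'.submatrix (wbot (Nat.le_add_right n m)).1 id = 1) :
    (cellRev K m n).map (MvPolynomial.eval (zOf K m n A')) = A' := by
  ext x j
  rw [Matrix.map_apply, cellRev, Matrix.map_apply, cellMatrix, Matrix.of_apply]
  by_cases h : x.val < n
  · rw [dif_pos h]
    have h1 : A' x j = (1 : Matrix (Fin n) (Fin n) K) ⟨x.val, h⟩ j := by
      rw [← htop, Matrix.submatrix_apply]
      rfl
    rw [h1, Matrix.one_apply]
    by_cases h2 : x.val = j.val
    · rw [if_pos h2, if_pos (Fin.ext h2), map_one, map_one]
    · rw [if_neg h2, if_neg (fun h3 => h2 (congrArg Fin.val h3)), map_zero, map_zero]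
  · rw [dif_neg h, rho_X, eval_X, zOf]
    simp only [Fin.rev_rev]
    congr 1
    apply Fin.ext
    simp only [Fin.val_natAdd]
    omega

lemma evalMinors_eq_eval_Psi (A' : Matrix (Fin (n + m)) (Fin n) K)
    (htop : A'.submatrix (wbot (Nat.le_add_right n m)).1 id = 1) (f : PlRing K n (n + m)) :
    evalMinors K n (n + m) A' f = MvPolynomial.eval (zOf K m n A') (Psi K m n f) := by
  have h : evalMinors K n (n + m) A' =
      (MvPolynomial.aeval (zOf K m n A') : MvPolynomial (Fin m × Fin n) K →ₐ[K] K).comp
        (Psi K m n) := by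
    apply MvPolynomial.algHom_ext
    intro θ
    rw [AlgHom.comp_apply, Psi_X, evalMinors, aeval_X, AlgHom.map_det]
    congr 1
    conv_lhs => rw [← map_cellRev K m n A' htop]
    rfl
  rw [h, AlgHom.comp_apply, MvPolynomial.aeval_eq_eval]

lemma submatrix_mul_right {p : ℕ} (A : Matrix (Fin (n + m)) (Fin n) K) (B : Matrix (Fin n) (Fin n) K)
    (θ : Fin p → Fin (n + m)) : (A * B).submatrix θ id = A.submatrix θ id * B := by
  ext s c
  simp [Matrix.mul_apply]

end Points


section Norm
variable (K : Type u) [Field K] (m n t : ℕ)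

/-- Normalisation of a matrix with invertible top block: `A * A_top⁻¹ = [I ; Z]`. -/
def normA (A : Matrix (Fin (n + m)) (Fin n) K) : Matrix (Fin (n + m)) (Fin n) K :=
  A * (A.submatrix (wbot (Nat.le_add_right n m)).1 id)⁻¹

lemma normA_top (A : Matrix (Fin (n + m)) (Fin n) K)
    (hδ : (A.submatrix (wbot (Nat.le_add_right n m)).1 id).det ≠ 0) :
    (normA K m n A).submatrix (wbot (Nat.le_add_right n m)).1 id = 1 := by
  rw [normA, submatrix_mul_right, Matrix.mul_nonsing_inv _ (isUnit_iff_ne_zero.2 hδ)]

lemma det_submatrix_eq (A : Matrix (Fin (n + m)) (Fin n) K)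
    (hδ : (A.submatrix (wbot (Nat.le_add_right n m)).1 id).det ≠ 0) (θ : Fin n → Fin (n + m)) :
    (A.submatrix θ id).det = (A.submatrix (wbot (Nat.le_add_right n m)).1 id).det *
      ((normA K m n A).submatrix θ id).det := by
  rw [normA, submatrix_mul_right, Matrix.det_mul, Matrix.det_nonsing_inv, Ring.inverse_eq_inv']
  field_simp

variable (ht : 1 ≤ t) (htm : t ≤ m + 1) (htn : t ≤ n + 1)

include ht in
/-- The `t`-minors vanish at the point of the opposite cell attached to a point of the Schubert variety. -/
lemma eval_minorIdeal_eq_zero (A : Matrix (Fin (n + m)) (Fin n) K)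
    (hA : ∀ φ : Idx n (n + m), ¬ φ ≤ wt t htm htn → (A.submatrix φ.1 id).det = 0)
    (hδ : (A.submatrix (wbot (Nat.le_add_right n m)).1 id).det ≠ 0)
    (Φ : MvPolynomial (Fin m × Fin n) K) (hΦ : Φ ∈ CAlgX.minorIdeal (genMatrix K m n) t) :
    MvPolynomial.eval (zOf K m n (normA K m n A)) Φ = 0 := by
  have hle : CAlgX.minorIdeal (genMatrix K m n) t ≤
      RingHom.ker (MvPolynomial.eval (zOf K m n (normA K m n A))) := by
    unfold CAlgX.minorIdeal
    rw [Ideal.span_le]
    rintro _ ⟨⟨f, g⟩, rfl⟩
    rw [SetLike.mem_coe, RingHom.mem_ker]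
    simp only
    by_cases hg : Function.Injective g
    · have h1 : ((genMatrix K m n).submatrix f g).det =
          Psi K m n (coord K n (n + m) (blockRows n m (Fin.rev ∘ f) g)) := by
        rw [Psi_coord_blockRows K m n _ hg]
        congr 2
        funext k
        simp
      rw [h1, ← evalMinors_eq_eval_Psi K m n _ (normA_top K m n A hδ)]
      by_cases hcard : (Finset.univ.image (blockRows n m (Fin.rev ∘ f) g)).card = n
      · rw [coord_of_card K hcard, map_mul]
        have h2 : evalMinors K n (n + m) (normA K m n A)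
            (X (sortIdx n (n + m) (blockRows n m (Fin.rev ∘ f) g) hcard)) = 0 := by
          rw [evalMinors, aeval_X]
          have h3 := det_submatrix_eq K m n A hδ
            (sortIdx n (n + m) (blockRows n m (Fin.rev ∘ f) g) hcard).1
          rw [hA] at h3
          · rcases mul_eq_zero.1 h3.symm with h4 | h4
            · exact absurd h4 hδ
            · exact h4
          · rw [le_wt_iff t ht htm htn, hiT_sortIdx, hiT_blockRows _ hg]
            omega
        rw [h2, mul_zero]
      · rw [coord_of_not_card K hcard, map_zero]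
    · have : ¬ ∀ a b, g a = g b → a = b := hg
      push Not at this
      obtain ⟨a, b, hab, hne⟩ := this
      rw [Matrix.det_zero_of_column_eq hne (fun k => by simp [hab]), map_zero]
  exact hle hΦ

end Norm


section Indep
variable (K : Type u) [Field K] [Infinite K] (m n t : ℕ) (hn : 0 < n) (ht : 1 ≤ t)
  (htm : t ≤ m + 1) (htn : t ≤ n + 1)

/-- The exponent vector of the homogenised standard monomial of a bitableau. -/
def ehOf (D : ℕ) (c : BT m n t) : Idx n (n + m) →₀ ℕ :=
  Finsupp.single (wbot (Nat.le_add_right n m)) (D - c.1) + expo (thetaSeq m n t c)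

lemma expo_thetaSeq_wbot (c : BT m n t) :
    expo (thetaSeq m n t c) (wbot (Nat.le_add_right n m)) = 0 := by
  rw [← Finsupp.notMem_support_iff, mem_support_expo]
  rintro ⟨k, hk⟩
  exact thetaSeq_ne_wbot m n t c k hk

lemma ehOf_injective (D : ℕ) (c c' : BT m n t)
    (h : ehOf m n t D c = ehOf m n t D c') : c = c' := by
  have h1 := congrArg (fun e : Idx n (n + m) →₀ ℕ => e (wbot (Nat.le_add_right n m))) h
  simp only [ehOf, Finsupp.coe_add, Pi.add_apply, Finsupp.single_eq_same, expo_thetaSeq_wbot,
    add_zero] at h1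
  unfold ehOf at h
  rw [h1] at h
  exact bt_eq_of_expo_eq m n t c c' (add_left_cancel h)

include ht in
lemma isStdOn_ehOf (D : ℕ) (c : BT m n t) : IsStdOn (wt t htm htn) (ehOf m n t D c) := by
  classical
  have hsupp : ∀ θ ∈ (ehOf m n t D c).support,
      θ = wbot (Nat.le_add_right n m) ∨ θ ∈ (expo (thetaSeq m n t c)).support := by
    intro θ hθ
    have := Finsupp.support_add hθ
    rw [Finset.mem_union] at this
    rcases this with h | h
    · left
      have := Finsupp.support_single_subset h
      exact Finset.mem_singleton.1 this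
    · right; exact h
  have hstd := isStdOn_expo (thetaSeq_antitone m n t c) (thetaSeq_le_wt m n t ht htm htn c)
  constructor
  · intro x hx y hy hxy
    rcases hsupp x hx with rfl | hx'
    · exact Or.inl (wbot_le _ _)
    · rcases hsupp y hy with rfl | hy'
      · exact Or.inr (wbot_le _ _)
      · exact hstd.1 hx' hy' hxy
  · intro θ hθ
    rcases hsupp θ hθ with rfl | hθ'
    · exact wbot_le _ _
    · exact hstd.2 θ hθ'

lemma monomial_ehOf (D : ℕ) (c : BT m n t) :
    (X (wbot (Nat.le_add_right n m)) ^ (D - c.1) * chainMon K (thetaSeq m n t c) :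
      PlRing K n (n + m)) = monomial (ehOf m n t D c) 1 := by
  rw [chainMon_eq_monomial, X_pow_eq_monomial, monomial_mul, one_mul]
  rfl

include hn ht htm htn in
/-- The standard bitableaux are linearly independent in the determinantal ring. -/
theorem indep_bitab : LinearIndependent K (bvec K m n t) := by
  classical
  rw [linearIndependent_iff']
  intro s g hg c₀ hc₀
  set ι := wbot (Nat.le_add_right n m) with hι
  set w := wt t htm htn with hw
  have hΦ : ∑ c ∈ s, g c • ∏ i, minorOf K (c.2.1 i) ∈ CAlgX.minorIdeal (genMatrix K m n) t := by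
    rw [← Ideal.Quotient.eq_zero_iff_mem, map_sum, ← hg]
    refine Finset.sum_congr rfl fun c _ => ?_
    unfold bvec
    rw [Algebra.smul_def, Algebra.smul_def, map_mul]
    rfl
  set D := s.sup (fun c => c.1) with hD
  have hDle : ∀ c ∈ s, c.1 ≤ D := fun c hc => Finset.le_sup (f := fun c : BT m n t => c.1) hc
  set F : PlRing K n (n + m) := ∑ c ∈ s, (g c * epsOf K m n t c) •
    (X ι ^ (D - c.1) * chainMon K (thetaSeq m n t c)) with hF
  have hFmon : F = ∑ c ∈ s, monomial (ehOf m n t D c) (g c * epsOf K m n t c) := by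
    rw [hF]
    refine Finset.sum_congr rfl fun c _ => ?_
    rw [monomial_ehOf, smul_monomial, smul_eq_mul, mul_one]
  -- `X ι * F` vanishes on the Schubert variety
  have hXF : X ι * F ∈ schubertVanishing K n (n + m) w := by
    unfold schubertVanishing
    rw [Ideal.mem_iInf]
    intro A
    rw [Ideal.mem_iInf]
    intro hA
    rw [RingHom.mem_ker]
    show evalMinors K n (n + m) A (X ι * F) = 0
    rw [map_mul]
    have hXι : evalMinors K n (n + m) A (X ι) = (A.submatrix ι.1 id).det := by
      rw [evalMinors, aeval_X]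
    by_cases hδ : (A.submatrix ι.1 id).det = 0
    · rw [hXι, hδ, zero_mul]
    · have hterm : ∀ c ∈ s, evalMinors K n (n + m) A
          ((g c * epsOf K m n t c) • (X ι ^ (D - c.1) * chainMon K (thetaSeq m n t c))) =
          (A.submatrix ι.1 id).det ^ D * MvPolynomial.eval (zOf K m n (normA K m n A))
            (g c • ∏ i, minorOf K (c.2.1 i)) := by
        intro c hc
        have h1 : evalMinors K n (n + m) A (chainMon K (thetaSeq m n t c)) =
            (A.submatrix ι.1 id).det ^ c.1 *
              evalMinors K n (n + m) (normA K m n A) (chainMon K (thetaSeq m n t c)) := by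
          unfold chainMon
          rw [map_prod, map_prod]
          have : ∀ i : Fin c.1, evalMinors K n (n + m) A (X (thetaSeq m n t c i)) =
              (A.submatrix ι.1 id).det * evalMinors K n (n + m) (normA K m n A)
                (X (thetaSeq m n t c i)) := by
            intro i
            rw [evalMinors, aeval_X, evalMinors, aeval_X]
            exact det_submatrix_eq K m n A hδ _
          rw [Finset.prod_congr rfl fun i _ => this i, Finset.prod_mul_distrib,
            Finset.prod_const, Finset.card_univ, Fintype.card_fin]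
        rw [map_smul, map_mul, map_pow, hXι, h1,
          evalMinors_eq_eval_Psi K m n _ (normA_top K m n A hδ), Psi_chainMon_thetaSeq,
          smul_eq_mul, Algebra.smul_def, Algebra.smul_def, map_mul, map_mul,
          MvPolynomial.algebraMap_eq, eval_C, eval_C]
        have hpow : (A.submatrix ι.1 id).det ^ D =
            (A.submatrix ι.1 id).det ^ (D - c.1) * (A.submatrix ι.1 id).det ^ c.1 := by
          rw [← pow_add, Nat.sub_add_cancel (hDle c hc)]
        have heps := epsOf_mul_self K m n t c
        rw [hpow]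
        calc g c * epsOf K m n t c * ((A.submatrix ι.1 id).det ^ (D - c.1) *
              ((A.submatrix ι.1 id).det ^ c.1 * (epsOf K m n t c *
                (MvPolynomial.eval (zOf K m n (normA K m n A))) (∏ i, minorOf K (c.2.1 i))))) =
            (epsOf K m n t c * epsOf K m n t c) * ((A.submatrix ι.1 id).det ^ (D - c.1) *
              (A.submatrix ι.1 id).det ^ c.1 * (g c *
                (MvPolynomial.eval (zOf K m n (normA K m n A))) (∏ i, minorOf K (c.2.1 i)))) := by
              ring
          _ = _ := by rw [heps, one_mul]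
      rw [hF, map_sum, Finset.sum_congr rfl hterm, ← Finset.mul_sum, ← map_sum,
        eval_minorIdeal_eq_zero K m n t ht htm htn A hA hδ _ hΦ, mul_zero, mul_zero]
  -- primality
  have hdom := isDomain_schB K hn w
  have hprime : (schubertVanishing K n (n + m) w).IsPrime :=
    (Ideal.Quotient.isDomain_iff_prime _).1 hdom
  have hXι : (X ι : PlRing K n (n + m)) ∉ schubertVanishing K n (n + m) w := by
    intro h
    have h0 := eq_zero_of_mem_schubert_of_std K hn w (X ι) h (by
      intro e he
      rw [MvPolynomial.support_X, Finset.mem_singleton] at he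
      rw [he]
      exact isStdOn_single w ⟨ι, wbot_le _ _⟩)
    exact MvPolynomial.X_ne_zero ι h0
  have hFmem : F ∈ schubertVanishing K n (n + m) w := (hprime.mem_or_mem hXF).resolve_left hXι
  have hFzero : F = 0 := by
    apply eq_zero_of_mem_schubert_of_std K hn w F hFmem
    intro e he
    rw [hFmon] at he
    have h1 := MvPolynomial.support_sum he
    rw [Finset.mem_biUnion] at h1
    obtain ⟨c, -, hl⟩ := h1
    have := MvPolynomial.support_monomial_subset hl
    rw [Finset.mem_singleton] at this
    rw [this]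
    exact isStdOn_ehOf m n t ht htm htn D c
  have hcoeff : coeff (ehOf m n t D c₀) F = g c₀ * epsOf K m n t c₀ := by
    rw [hFmon, MvPolynomial.coeff_sum]
    simp only [MvPolynomial.coeff_monomial]
    rw [Finset.sum_eq_single c₀]
    · rw [if_pos rfl]
    · intro c hc hne
      rw [if_neg]
      intro h
      exact hne (ehOf_injective m n t D c c₀ h)
    · intro h; exact absurd hc₀ h
  rw [hFzero, MvPolynomial.coeff_zero] at hcoeff
  have : g c₀ * (epsOf K m n t c₀ * epsOf K m n t c₀) = 0 := by
    rw [← mul_assoc, ← hcoeff, zero_mul]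
  rwa [epsOf_mul_self, mul_one] at this

end Indep

end Groth.Agent.Lib.Bitab
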