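import Groth.Agent.Lib.PlSMT2

/-!
# The Plücker quadrics cut out the Grassmannian (set-theoretically)

* `det_quadric`: the determinantal identity behind the quadrics (any commutative ring).
* `br q a`: the value at `q` of the signed coordinate of an arbitrary tuple `a`.
* `exists_matrix`, `uniqueness`: the two halves of the converse over a field.
-/

set_option autoImplicit false
universe u
open Finset MvPolynomial W4bk4grassmannian

namespace Groth.Agent.Lib.PlQuadric
open Groth.Agent.Lib.PlSMT

section CommRing
variable {R : Type u} [CommRing R] {e n : ℕ}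

/-- Laplace expansion along the last row of the minor on the rows `(i', x)`. -/
lemma det_snoc (A : Matrix (Fin n) (Fin (e + 1)) R) (i' : Fin e → Fin n) (x : Fin n) :
    (A.submatrix (Fin.snoc i' x : Fin (e + 1) → Fin n) id).det =
      ∑ c : Fin (e + 1), (-1 : R) ^ (e + c.val) * A x c * (A.submatrix i' c.succAbove).det := by
  rw [Matrix.det_succ_row _ (Fin.last e)]
  refine Finset.sum_congr rfl fun c _ => ?_
  have e1 : (A.submatrix (Fin.snoc i' x : Fin (e + 1) → Fin n) id) (Fin.last e) c = A x c := by
    simp [Matrix.submatrix_apply]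
  have e2 : (A.submatrix (Fin.snoc i' x : Fin (e + 1) → Fin n) id).submatrix (Fin.last e).succAbove
      c.succAbove = A.submatrix i' c.succAbove := by
    ext s t
    simp [Matrix.submatrix_apply, Fin.succAbove_last]
  rw [e1, e2]
  rfl

/-- The alternating sum over the rows `j'` against a fixed column vanishes: a determinant with a
repeated column. -/
lemma sum_col_det (A : Matrix (Fin n) (Fin (e + 1)) R) (j' : Fin (e + 2) → Fin n) (c : Fin (e + 1)) :
    ∑ h : Fin (e + 2), (-1 : R) ^ h.val * A (j' h) c * (A.submatrix (j' ∘ h.succAbove) id).det = 0 := by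
  have h1 := Matrix.det_succ_column_zero (A.submatrix j' (Fin.cons c id : Fin (e + 2) → Fin (e + 1)))
  rw [Matrix.det_zero_of_column_eq (i := 0) (j := c.succ) (Fin.succ_ne_zero c).symm
    (by intro k; simp [Matrix.submatrix_apply])] at h1
  rw [h1]
  refine Finset.sum_congr rfl fun h _ => ?_
  have e2 : (A.submatrix j' (Fin.cons c id : Fin (e + 2) → Fin (e + 1))).submatrix h.succAbove Fin.succ
      = A.submatrix (j' ∘ h.succAbove) id := by
    ext s t
    simp [Matrix.submatrix_apply]
  rw [e2]
  simp [Matrix.submatrix_apply]

/-- The determinantal identity behind the Plücker quadrics. -/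
theorem det_quadric (A : Matrix (Fin n) (Fin (e + 1)) R) (i' : Fin e → Fin n)
    (j' : Fin (e + 2) → Fin n) :
    ∑ h : Fin (e + 2), (-1 : R) ^ (h.val + 1) *
      (A.submatrix (Fin.snoc i' (j' h) : Fin (e + 1) → Fin n) id).det *
        (A.submatrix (j' ∘ h.succAbove) id).det = 0 := by
  simp_rw [det_snoc, Finset.mul_sum, Finset.sum_mul]
  rw [Finset.sum_comm]
  refine Finset.sum_eq_zero fun c _ => ?_
  have := sum_col_det A j' c
  have h2 : ∀ h : Fin (e + 2), (-1 : R) ^ (h.val + 1) * ((-1) ^ (e + c.val) * A (j' h) c *
      (A.submatrix i' c.succAbove).det) * (A.submatrix (j' ∘ h.succAbove) id).det =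
      (-(-1 : R) ^ (e + c.val) * (A.submatrix i' c.succAbove).det) *
        ((-1 : R) ^ h.val * A (j' h) c * (A.submatrix (j' ∘ h.succAbove) id).det) := by
    intro h; ring
  rw [Finset.sum_congr rfl fun h _ => h2 h, ← Finset.mul_sum, this, mul_zero]

end CommRing


section Br
variable {K : Type u} [CommRing K] {d n : ℕ}

/-- The value at `q` of the signed coordinate of an arbitrary tuple. -/
noncomputable def br (q : Idx d n → K) (a : Fin d → Fin n) : K := eval q (coord K d n a)

lemma br_idx (q : Idx d n → K) (θ : Idx d n) : br q θ.1 = q θ := by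
  rw [br, coord_idx, eval_X]

lemma br_of_not_card (q : Idx d n → K) {a : Fin d → Fin n}
    (h : ¬ (Finset.univ.image a).card = d) : br q a = 0 := by
  rw [br, coord_of_not_card K h, map_zero]

lemma br_of_not_injective (q : Idx d n → K) {a : Fin d → Fin n} (h : ¬ Function.Injective a) :
    br q a = 0 :=
  br_of_not_card q fun hc => h (injective_of_card_image hc)

lemma br_of_card (q : Idx d n → K) {a : Fin d → Fin n} (h : (Finset.univ.image a).card = d) :
    br q a = (-1) ^ invCount d n a * q (sortIdx d n a h) := by
  rw [br, coord_of_card K h]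
  simp

lemma idx_eq_of_image {θ φ : Idx d n} (h : Finset.univ.image θ.1 = Finset.univ.image φ.1) :
    θ = φ := by
  have hc := card_image_idx θ
  rw [← sortIdx_of_strictMono θ hc]
  apply Subtype.ext
  exact (Finset.orderEmbOfFin_unique hc
    (fun x => by rw [h]; exact Finset.mem_image_of_mem _ (Finset.mem_univ x)) φ.2).symm

lemma br_of_image (q : Idx d n → K) {a : Fin d → Fin n} {θ : Idx d n}
    (h : Finset.univ.image a = Finset.univ.image θ.1) :
    br q a = (-1) ^ invCount d n a * q θ := by
  have hc : (Finset.univ.image a).card = d := by rw [h]; exact card_image_idx θ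
  rw [br_of_card q hc]
  congr 2
  apply idx_eq_of_image
  rw [image_sortIdx, h]

lemma br_minors (A : Matrix (Fin n) (Fin d) K) (a : Fin d → Fin n) :
    br (fun θ : Idx d n => (A.submatrix θ.1 id).det) a = (A.submatrix a id).det := by
  have := aeval_coord K A a
  rwa [MvPolynomial.aeval_eq_eval] at this

variable {e : ℕ}

lemma eval_quadric (q : Idx (e + 1) n → K) (i' : Idx e n) (j' : Idx (e + 2) n) :
    eval q (quadric K i' j') = ∑ h : Fin (e + 2), (-1 : K) ^ (h.val + 1) *
      br q (Fin.snoc i'.1 (j'.1 h)) * br q (j'.1 ∘ h.succAbove) := by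
  simp [quadric, br, map_sum]

/-- The minors of a matrix satisfy the Plücker quadrics. -/
theorem eval_quadric_minors (A : Matrix (Fin n) (Fin (e + 1)) K) (i' : Idx e n)
    (j' : Idx (e + 2) n) :
    eval (fun θ : Idx (e + 1) n => (A.submatrix θ.1 id).det) (quadric K i' j') = 0 := by
  rw [eval_quadric]
  simp_rw [br_minors]
  exact det_quadric A i'.1 j'.1

end Br


section Field
variable {K : Type u} [Field K] {e n : ℕ}

/-- A matrix whose minors agree with `q` at `θ₀` and at all its neighbours. -/
theorem exists_matrix (q : Idx (e + 1) n → K) (θ₀ : Idx (e + 1) n) (hc : q θ₀ ≠ 0) :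
    ∃ A : Matrix (Fin n) (Fin (e + 1)) K, ∀ (t : Fin (e + 1)) (a : Fin n),
      (A.submatrix (Function.update θ₀.1 t a) id).det = br q (Function.update θ₀.1 t a) := by
  classical
  let B : Matrix (Fin n) (Fin (e + 1)) K :=
    Matrix.of fun a t => br q (Function.update θ₀.1 t a) / q θ₀
  let D : Fin (e + 1) → K := fun t => if t = 0 then q θ₀ else 1
  refine ⟨Matrix.of fun a t => D t * B a t, fun t a => ?_⟩
  have hB : ∀ s t', B (θ₀.1 s) t' = (1 : Matrix (Fin (e + 1)) (Fin (e + 1)) K) s t' := by
    intro s t'
    by_cases hst : s = t'
    · subst hst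
      rw [Matrix.one_apply_eq]
      show br q (Function.update θ₀.1 s (θ₀.1 s)) / q θ₀ = 1
      rw [Function.update_eq_self, br_idx, div_self hc]
    · rw [Matrix.one_apply_ne hst]
      show br q (Function.update θ₀.1 t' (θ₀.1 s)) / q θ₀ = 0
      rw [br_of_not_injective, zero_div]
      intro hinj
      apply hst
      apply hinj
      rw [Function.update_of_ne hst, Function.update_self]
  have h1 : (Matrix.of fun a t => D t * B a t).submatrix (Function.update θ₀.1 t a) id =
      Matrix.of fun s t' => D t' * (B.submatrix (Function.update θ₀.1 t a) id) s t' := by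
    ext s t'
    simp
  have hD : ∏ t, D t = q θ₀ := by simp [D]
  have h2 : B.submatrix (Function.update θ₀.1 t a) id =
      (1 : Matrix (Fin (e + 1)) (Fin (e + 1)) K).updateRow t (B a) := by
    ext s t'
    by_cases hs : s = t
    · subst hs
      simp
    · simp [Matrix.updateRow_ne hs, Function.update_of_ne hs, hB]
  rw [h1, Matrix.det_mul_row, hD, h2, ← Matrix.cramer_transpose_apply, Matrix.transpose_one,
    Matrix.cramer_one]
  show q θ₀ * (br q (Function.update θ₀.1 t a) / q θ₀) = _
  field_simp


/-- Two solutions of the Plücker quadrics that agree at `θ₀` (where they are nonzero) and at all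
its neighbours are equal. -/
theorem uniqueness (q p : Idx (e + 1) n → K)
    (hq : ∀ (i' : Idx e n) (j' : Idx (e + 2) n), eval q (quadric K i' j') = 0)
    (hp : ∀ (i' : Idx e n) (j' : Idx (e + 2) n), eval p (quadric K i' j') = 0)
    (θ₀ : Idx (e + 1) n) (hc : q θ₀ ≠ 0)
    (h0 : ∀ (t : Fin (e + 1)) (a : Fin n),
      br q (Function.update θ₀.1 t a) = br p (Function.update θ₀.1 t a)) :
    q = p := by
  classical
  obtain ⟨T₀, hT₀⟩ : ∃ T₀ : Finset (Fin n), T₀ = Finset.univ.image θ₀.1 := ⟨_, rfl⟩
  have hT₀c : T₀.card = e + 1 := by rw [hT₀]; exact card_image_idx θ₀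
  have hmemT₀ : ∀ s, θ₀.1 s ∈ T₀ := fun s => by
    rw [hT₀]; exact Finset.mem_image_of_mem _ (Finset.mem_univ s)
  have congr_br : ∀ k : ℕ,
      (∀ θ : Idx (e + 1) n, ((Finset.univ.image θ.1) \ T₀).card ≤ k → q θ = p θ) →
      ∀ a : Fin (e + 1) → Fin n, ((Finset.univ.image a) \ T₀).card ≤ k → br q a = br p a := by
    intro k hk a ha
    by_cases h : (Finset.univ.image a).card = e + 1
    · rw [br_of_card q h, br_of_card p h, hk _ (by rwa [image_sortIdx])]
    · rw [br_of_not_card q h, br_of_not_card p h]
  have hθ₀ : q θ₀ = p θ₀ := by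
    have := h0 0 (θ₀.1 0)
    rwa [Function.update_eq_self, br_idx, br_idx] at this
  have eq_of_sub : ∀ φ : Idx (e + 1) n, Finset.univ.image φ.1 ⊆ T₀ → φ = θ₀ := by
    intro φ hφ
    apply idx_eq_of_image
    rw [← hT₀]
    exact Finset.eq_of_subset_of_card_le hφ (by rw [hT₀c, card_image_idx φ])
  have main : ∀ k : ℕ, ∀ θ : Idx (e + 1) n, ((Finset.univ.image θ.1) \ T₀).card ≤ k →
      q θ = p θ := by
    intro k
    induction k with
    | zero =>
      intro θ hθ
      have : Finset.univ.image θ.1 ⊆ T₀ := by
        rw [← Finset.sdiff_eq_empty_iff_subset, ← Finset.card_eq_zero]; omega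
      rw [eq_of_sub θ this]; exact hθ₀
    | succ k ih =>
      intro θ hθ
      by_cases hle : ((Finset.univ.image θ.1) \ T₀).card ≤ k
      · exact ih θ hle
      have hcard : ((Finset.univ.image θ.1) \ T₀).card = k + 1 := by omega
      rcases Nat.eq_zero_or_pos k with hk0 | hkpos
      · -- `k = 0`: neighbours of `θ₀`
        subst hk0
        obtain ⟨u, hu⟩ := Finset.card_eq_one.1 hcard
        have hcard' : (T₀ \ Finset.univ.image θ.1).card = 1 := by
          rw [Finset.card_sdiff_comm (by rw [hT₀c, card_image_idx θ]), hcard]
        obtain ⟨v, hv⟩ := Finset.card_eq_one.1 hcard'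
        have hvmem : v ∈ T₀ \ Finset.univ.image θ.1 := by
          rw [hv]; exact Finset.mem_singleton_self v
        rw [Finset.mem_sdiff] at hvmem
        obtain ⟨t, -, ht⟩ : ∃ t, t ∈ Finset.univ ∧ θ₀.1 t = v := by
          have := hvmem.1
          rw [hT₀] at this
          exact Finset.mem_image.1 this
        have hum : u ∈ Finset.univ.image θ.1 \ T₀ := by
          rw [hu]; exact Finset.mem_singleton_self u
        rw [Finset.mem_sdiff] at hum
        have him : Finset.univ.image (Function.update θ₀.1 t u) = Finset.univ.image θ.1 := by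
          apply Finset.Subset.antisymm
          · intro x hx
            obtain ⟨s, -, rfl⟩ := Finset.mem_image.1 hx
            by_cases hs : s = t
            · subst hs; rw [Function.update_self]; exact hum.1
            · rw [Function.update_of_ne hs]
              by_contra hcon
              have : θ₀.1 s ∈ T₀ \ Finset.univ.image θ.1 :=
                Finset.mem_sdiff.2 ⟨hmemT₀ s, hcon⟩
              rw [hv, Finset.mem_singleton, ← ht] at this
              exact hs (θ₀.2.injective this)
          · intro x hx
            by_cases hxT : x ∈ T₀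
            · obtain ⟨s, -, rfl⟩ : ∃ s, s ∈ Finset.univ ∧ θ₀.1 s = x := by
                rw [hT₀] at hxT
                exact Finset.mem_image.1 hxT
              have hs : s ≠ t := by
                rintro rfl
                rw [ht] at hx; exact hvmem.2 hx
              exact Finset.mem_image.2 ⟨s, Finset.mem_univ _, Function.update_of_ne hs _ _⟩
            · have : x ∈ Finset.univ.image θ.1 \ T₀ := Finset.mem_sdiff.2 ⟨hx, hxT⟩
              rw [hu, Finset.mem_singleton] at this
              subst this
              exact Finset.mem_image.2 ⟨t, Finset.mem_univ _, Function.update_self _ _ _⟩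
        have h1 := h0 t u
        rw [br_of_image q him, br_of_image p him] at h1
        exact ((isUnit_one.neg).pow _).mul_left_cancel h1
      · -- `k ≥ 1`: use the quadric of `(θ ∖ u, θ₀ ∪ u)`
        have hne : (Finset.univ.image θ.1 \ T₀).Nonempty := by rw [← Finset.card_pos]; omega
        obtain ⟨u, hu⟩ := hne
        have hu' := Finset.mem_sdiff.1 hu
        obtain ⟨s₀, -, hs₀⟩ := Finset.mem_image.1 hu'.1
        let i' : Idx e n := ⟨θ.1 ∘ s₀.succAbove, θ.2.comp (Fin.strictMono_succAbove s₀)⟩
        have hJ : (insert u T₀).card = e + 2 := by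
          rw [Finset.card_insert_of_notMem hu'.2, hT₀c]
        let j' : Idx (e + 2) n :=
          ⟨fun h => (insert u T₀).orderEmbOfFin hJ h, (Finset.orderEmbOfFin _ hJ).strictMono⟩
        have hj'mem : ∀ h, j'.1 h ∈ insert u T₀ := fun h => Finset.orderEmbOfFin_mem _ hJ h
        obtain ⟨h₀, hh₀⟩ : ∃ h₀, j'.1 h₀ = u := by
          have : u ∈ Set.range ((insert u T₀).orderEmbOfFin hJ) := by
            rw [Finset.range_orderEmbOfFin]; exact Finset.mem_coe.2 (Finset.mem_insert_self u T₀)
          exact this
        have hj'T : ∀ i : Fin (e + 1), j'.1 (h₀.succAbove i) ∈ T₀ := by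
          intro i
          have h1 := hj'mem (h₀.succAbove i)
          rw [Finset.mem_insert] at h1
          rcases h1 with h1 | h1
          · exfalso
            rw [← hh₀] at h1
            exact Fin.succAbove_ne h₀ i (j'.2.injective h1)
          · exact h1
        have e1 := hq i' j'
        have e2 := hp i' j'
        rw [eval_quadric, Fin.sum_univ_succAbove _ h₀] at e1 e2
        have hterms : ∀ i : Fin (e + 1),
            br q (Fin.snoc i'.1 (j'.1 (h₀.succAbove i))) =
              br p (Fin.snoc i'.1 (j'.1 (h₀.succAbove i))) ∧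
            br q (j'.1 ∘ (h₀.succAbove i).succAbove) =
              br p (j'.1 ∘ (h₀.succAbove i).succAbove) := by
          intro i
          constructor
          · apply congr_br k ih
            have hsub : Finset.univ.image
                (Fin.snoc i'.1 (j'.1 (h₀.succAbove i)) : Fin (e + 1) → Fin n) \ T₀ ⊆
                (Finset.univ.image θ.1 \ T₀).erase u := by
              intro y hy
              rw [Finset.mem_sdiff] at hy
              obtain ⟨s, -, hsy⟩ := Finset.mem_image.1 hy.1
              induction s using Fin.lastCases with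
              | last =>
                rw [Fin.snoc_last] at hsy
                rw [← hsy] at hy
                exact absurd (hj'T i) hy.2
              | cast s =>
                rw [Fin.snoc_castSucc] at hsy
                refine Finset.mem_erase.2 ⟨?_, Finset.mem_sdiff.2 ⟨?_, hy.2⟩⟩
                · rw [← hsy, ← hs₀]
                  intro hcon
                  exact Fin.succAbove_ne s₀ s (θ.2.injective hcon)
                · rw [← hsy]
                  exact Finset.mem_image_of_mem _ (Finset.mem_univ _)
            calc _ ≤ ((Finset.univ.image θ.1 \ T₀).erase u).card := Finset.card_le_card hsub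
              _ = k := by rw [Finset.card_erase_of_mem hu, hcard]; rfl
          · apply congr_br k ih
            have hsub : Finset.univ.image (j'.1 ∘ (h₀.succAbove i).succAbove) \ T₀ ⊆ {u} := by
              intro y hy
              rw [Finset.mem_sdiff] at hy
              obtain ⟨s, -, rfl⟩ := Finset.mem_image.1 hy.1
              have := hj'mem ((h₀.succAbove i).succAbove s)
              rw [Finset.mem_insert] at this
              rcases this with h | h
              · exact Finset.mem_singleton.2 h
              · exact absurd h hy.2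
            calc _ ≤ ({u} : Finset (Fin n)).card := Finset.card_le_card hsub
              _ = 1 := Finset.card_singleton u
              _ ≤ k := hkpos
        have hsum : ∑ i : Fin (e + 1), (-1 : K) ^ ((h₀.succAbove i).val + 1) *
              br q (Fin.snoc i'.1 (j'.1 (h₀.succAbove i))) *
              br q (j'.1 ∘ (h₀.succAbove i).succAbove) =
            ∑ i : Fin (e + 1), (-1 : K) ^ ((h₀.succAbove i).val + 1) *
              br p (Fin.snoc i'.1 (j'.1 (h₀.succAbove i))) *
              br p (j'.1 ∘ (h₀.succAbove i).succAbove) :=
          Finset.sum_congr rfl fun i _ => by rw [(hterms i).1, (hterms i).2]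
        rw [hsum] at e1
        have h3 := add_right_cancel (e1.trans e2.symm)
        let φ : Idx (e + 1) n := ⟨j'.1 ∘ h₀.succAbove, j'.2.comp (Fin.strictMono_succAbove h₀)⟩
        have hφ : φ = θ₀ := eq_of_sub φ (by
          intro y hy
          obtain ⟨s, -, rfl⟩ := Finset.mem_image.1 hy
          exact hj'T s)
        have h4 : br q (j'.1 ∘ h₀.succAbove) = q θ₀ := by
          show br q φ.1 = q θ₀
          rw [br_idx, hφ]
        have h5 : br p (j'.1 ∘ h₀.succAbove) = q θ₀ := by
          show br p φ.1 = q θ₀
          rw [br_idx, hφ, hθ₀]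
        rw [hh₀, h4, h5] at h3
        have h6 : br q (Fin.snoc i'.1 u) = br p (Fin.snoc i'.1 u) :=
          mul_left_cancel₀ (pow_ne_zero _ (neg_ne_zero.2 one_ne_zero)) (mul_right_cancel₀ hc h3)
        have him : Finset.univ.image (Fin.snoc i'.1 u : Fin (e + 1) → Fin n) =
            Finset.univ.image θ.1 := by
          apply Finset.Subset.antisymm
          · intro y hy
            obtain ⟨s, -, rfl⟩ := Finset.mem_image.1 hy
            induction s using Fin.lastCases with
            | last => rw [Fin.snoc_last]; exact hu'.1
            | cast s => rw [Fin.snoc_castSucc]; exact Finset.mem_image_of_mem _ (Finset.mem_univ _)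
          · intro y hy
            obtain ⟨s, -, rfl⟩ := Finset.mem_image.1 hy
            by_cases hs : s = s₀
            · subst hs
              rw [hs₀]
              exact Finset.mem_image.2 ⟨Fin.last e, Finset.mem_univ _, Fin.snoc_last _ _⟩
            · obtain ⟨i, rfl⟩ := Fin.exists_succAbove_eq hs
              exact Finset.mem_image.2 ⟨i.castSucc, Finset.mem_univ _, Fin.snoc_castSucc _ _ _⟩
        rw [br_of_image q him, br_of_image p him] at h6
        exact ((isUnit_one.neg).pow _).mul_left_cancel h6
  funext θ
  exact main _ θ le_rfl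

end Field

end Groth.Agent.Lib.PlQuadric
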