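import Groth.Agent.Lib.PlSMT10
import Groth.Agent.Lib.FTDim
import Groth.Agent.S11268

/-!
# Standard monomial theory, part 11: the dimension of the cone over a Schubert variety

`S/J(w)` is a domain (it embeds in a polynomial ring through the generic echelon matrix); its dimension is
`codeg w + 1`: the lower bound by descending along Schubert divisors, the upper bound because the sums of the
Plücker coordinates of fixed rank generate an ideal primary to the irrelevant ideal.
-/

set_option autoImplicit false
set_option linter.unusedSectionVars false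
set_option linter.unusedSimpArgs false
universe u
open Finset MvPolynomial W4bk4grassmannian Groth.Agent.Lib.ReesBasis

noncomputable section

namespace Groth.Agent.Lib.PlSMT

variable {d n : ℕ} (K : Type u) [Field K] [Infinite K] (hd : 0 < d) (w : Idx d n)

/-- Evaluation at the generic echelon matrix, on the quotient. -/
def evalGbar : SchB K w →+* MvPolynomial (Fin n × Fin d) K :=
  Ideal.Quotient.lift (schubertVanishing K d n w) (evalG K w).toRingHom
    (fun f hf => evalG_eq_zero_of_mem K w f hf)

include hd in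
lemma evalGbar_injective : Function.Injective (evalGbar K w) := by
  rw [injective_iff_map_eq_zero]
  intro y hy
  obtain ⟨f, rfl⟩ := Ideal.Quotient.mk_surjective y
  have hf0 : evalG K w f = 0 := hy
  obtain ⟨G, hG, hfG⟩ := exists_std_rep K (schubertVanishing K d n w)
    (plIdealTop_le_schubertVanishing K w) (fun θ => θ ≤ w)
    (fun θ hθ => X_mem_schubertVanishing K hθ) f
  have hG0 : evalG K w G = 0 := by
    have := evalG_eq_zero_of_mem K w (f - G) hfG
    rw [map_sub, hf0, zero_sub, neg_eq_zero] at this
    exact this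
  have hGz : G = 0 := by
    apply eq_zero_of_evalG_eq_zero K hd (G.support.sup Finsupp.degree) w G _ hG0
    intro e he
    exact ⟨hG e he, Finset.le_sup (f := Finsupp.degree) he⟩
  rw [hGz, sub_zero] at hfG
  exact Ideal.Quotient.eq_zero_iff_mem.2 hfG

include hd in
lemma isDomain_schB : IsDomain (SchB K w) :=
  Function.Injective.isDomain (evalGbar K w) (evalGbar_injective K hd w)

lemma mk_X_self_ne_zero :
    Ideal.Quotient.mk (schubertVanishing K d n w) (X w) ≠ 0 := by
  intro h
  have h1 : evalGbar K w (Ideal.Quotient.mk (schubertVanishing K d n w) (X w)) = 0 := by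
    rw [h, map_zero]
  have h2 : evalG K w (X w) = 0 := h1
  rw [evalG_X] at h2
  exact minor_genEch_self_ne_zero K w h2

/-! ### `codeg` is strictly monotone -/

lemma le_val (θ : Idx d n) (t : Fin d) : t.val ≤ (θ.1 t).val := by
  have hd : 0 < d := lt_of_le_of_lt (Nat.zero_le _) t.isLt
  have := strictMono_add_le θ t.val ⟨0, hd⟩ t (by simp)
  omega

lemma codeg_le_of_le {θ θ' : Idx d n} (h : θ ≤ θ') : codeg θ ≤ codeg θ' := by
  unfold codeg
  refine Finset.sum_le_sum fun t _ => ?_
  have : (θ.1 t).val ≤ (θ'.1 t).val := h t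
  omega

lemma codeg_lt_of_lt {θ θ' : Idx d n} (h : θ < θ') : codeg θ < codeg θ' := by
  unfold codeg
  have hne : ∃ t, θ.1 t < θ'.1 t := by
    by_contra hcon
    push Not at hcon
    exact h.ne (le_antisymm h.le hcon)
  obtain ⟨t, ht⟩ := hne
  apply Finset.sum_lt_sum
  · intro s _
    have : (θ.1 s).val ≤ (θ'.1 s).val := h.le s
    omega
  · refine ⟨t, Finset.mem_univ _, ?_⟩
    have h1 : (θ.1 t).val < (θ'.1 t).val := ht
    have h2 := le_val θ t
    omega

/-! ### The augmentation -/

/-- The value at the vertex of the cone. -/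
def aug : SchB K w →+* K :=
  Ideal.Quotient.lift (schubertVanishing K d n w) (constantCoeff : PlRing K d n →+* K)
    (fun f hf => by
      rw [constantCoeff_eq]
      exact coeff_zero_of_evalG_eq_zero K hd w f (evalG_eq_zero_of_mem K w f hf))

lemma aug_mk (f : PlRing K d n) :
    aug K hd w (Ideal.Quotient.mk (schubertVanishing K d n w) f) = constantCoeff f := rfl

lemma aug_surjective : Function.Surjective (aug K hd w) := by
  intro a
  refine ⟨Ideal.Quotient.mk _ (C a), ?_⟩
  rw [aug_mk, constantCoeff_C]

/-! ### The lower bound -/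

/-- The least element of `I(d,n)`. -/
def wbot (hdn : d ≤ n) : Idx d n :=
  ⟨fun t => ⟨t.val, lt_of_lt_of_le t.isLt hdn⟩, fun _ _ h => h⟩

lemma wbot_le (hdn : d ≤ n) (θ : Idx d n) : wbot hdn ≤ θ := fun t => le_val θ t

lemma codeg_wbot (hdn : d ≤ n) : codeg (wbot hdn) = 0 := by
  unfold codeg wbot
  simp

include hd in
lemma le_of_idx (w : Idx d n) : d ≤ n := by
  have h1 := le_val w ⟨d - 1, by omega⟩
  have h2 := (w.1 ⟨d - 1, by omega⟩).isLt
  simp only at h1
  omega

include hd in
theorem codeg_succ_le_dim : ∀ (c : ℕ) (w : Idx d n), codeg w = c →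
    ((c + 1 : ℕ) : WithBot ℕ∞) ≤ ringKrullDim (SchB K w) := by
  intro c
  induction c with
  | zero =>
    intro w _
    haveI := isDomain_schB K hd w
    have hx : Ideal.Quotient.mk (schubertVanishing K d n w) (X w) ∈ nonZeroDivisors (SchB K w) :=
      mem_nonZeroDivisors_of_ne_zero (mk_X_self_ne_zero K w)
    have h1 := ringKrullDim_quotient_succ_le_of_nonZeroDivisor hx
    -- the quotient surjects onto `K`
    let q : (SchB K w ⧸ Ideal.span {Ideal.Quotient.mk (schubertVanishing K d n w) (X w)}) →+* K :=
      Ideal.Quotient.lift _ (aug K hd w) (by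
        intro a ha
        obtain ⟨b, rfl⟩ := Ideal.mem_span_singleton'.1 ha
        rw [map_mul, aug_mk, constantCoeff_X, mul_zero])
    have hq : Function.Surjective q := by
      intro a
      obtain ⟨b, hb⟩ := aug_surjective K hd w a
      exact ⟨Ideal.Quotient.mk _ b, hb⟩
    have h2 : ringKrullDim K ≤ ringKrullDim (SchB K w ⧸ Ideal.span
        {Ideal.Quotient.mk (schubertVanishing K d n w) (X w)}) :=
      ringKrullDim_le_of_surjective (q : _ →+* K) hq
    rw [ringKrullDim_eq_zero_of_field] at h2
    calc ((0 + 1 : ℕ) : WithBot ℕ∞) = 0 + 1 := by simp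
      _ ≤ ringKrullDim (SchB K w ⧸ Ideal.span
            {Ideal.Quotient.mk (schubertVanishing K d n w) (X w)}) + 1 := by gcongr
      _ ≤ ringKrullDim (SchB K w) := h1
  | succ c ih =>
    intro w hw
    haveI := isDomain_schB K hd w
    have hdn : d ≤ n := le_of_idx hd w
    have hlt : wbot hdn < w := by
      refine lt_of_le_of_ne (wbot_le hdn w) ?_
      intro h
      rw [← h, codeg_wbot] at hw
      omega
    obtain ⟨φ, hφ, -⟩ := Groth.Agent.S11268.result d n (wbot hdn) w hlt
    obtain ⟨hφw, hφc⟩ := hφ
    have hφc' : codeg φ = c := by omega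
    have ihφ := ih φ hφc'
    have hx : Ideal.Quotient.mk (schubertVanishing K d n w) (X w) ∈ nonZeroDivisors (SchB K w) :=
      mem_nonZeroDivisors_of_ne_zero (mk_X_self_ne_zero K w)
    have h1 := ringKrullDim_quotient_succ_le_of_nonZeroDivisor hx
    have hXw : (X w : PlRing K d n) ∈ schubertVanishing K d n φ :=
      X_mem_schubertVanishing K (fun h => absurd (lt_of_lt_of_le hφw h) (lt_irrefl _))
    let q : (SchB K w ⧸ Ideal.span {Ideal.Quotient.mk (schubertVanishing K d n w) (X w)}) →+*
        SchB K φ :=
      Ideal.Quotient.lift _ (Ideal.Quotient.factor (schubertVanishing_mono K hφw.le)) (by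
        intro a ha
        obtain ⟨b, rfl⟩ := Ideal.mem_span_singleton'.1 ha
        rw [map_mul, Ideal.Quotient.factor_mk, Ideal.Quotient.eq_zero_iff_mem.2 hXw, mul_zero])
    have hq : Function.Surjective q := by
      intro a
      obtain ⟨f, rfl⟩ := Ideal.Quotient.mk_surjective a
      exact ⟨Ideal.Quotient.mk _ (Ideal.Quotient.mk _ f), rfl⟩
    have h2 : ringKrullDim (SchB K φ) ≤ ringKrullDim (SchB K w ⧸ Ideal.span
        {Ideal.Quotient.mk (schubertVanishing K d n w) (X w)}) :=
      ringKrullDim_le_of_surjective (q : _ →+* SchB K φ) hq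
    calc ((c + 1 + 1 : ℕ) : WithBot ℕ∞) = ((c + 1 : ℕ) : WithBot ℕ∞) + 1 := by push_cast; rfl
      _ ≤ ringKrullDim (SchB K φ) + 1 := by gcongr
      _ ≤ ringKrullDim (SchB K w ⧸ Ideal.span
            {Ideal.Quotient.mk (schubertVanishing K d n w) (X w)}) + 1 := by gcongr
      _ ≤ ringKrullDim (SchB K w) := h1

/-! ### The upper bound -/

/-- The sum of the Plücker coordinates of rank `k` on `X(w)`. -/
def rankSum (k : ℕ) : SchB K w :=
  by classical exact ∑ θ ∈ (Finset.univ : Finset (Idx d n)).filter (fun θ => θ ≤ w ∧ codeg θ = k),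
    Ideal.Quotient.mk (schubertVanishing K d n w) (X θ)

include hd in
/-- A prime containing the rank sums contains every Plücker coordinate. -/
theorem mk_X_mem_of_rankSum_mem (q : Ideal (SchB K w)) [hq : q.IsPrime]
    (hy : ∀ k, k ≤ codeg w → rankSum K w k ∈ q) :
    ∀ (N : ℕ) (θ : Idx d n), codeg θ = N →
      Ideal.Quotient.mk (schubertVanishing K d n w) (X θ) ∈ q := by
  classical
  intro N
  induction N using Nat.strong_induction_on with
  | _ N IH =>
  intro θ hθN
  by_cases hθw : θ ≤ w
  · have hdn : d ≤ n := le_of_idx hd w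
    set x := Ideal.Quotient.mk (schubertVanishing K d n w) (X θ) with hx
    set T := (Finset.univ : Finset (Idx d n)).filter (fun θ' => θ' ≤ w ∧ codeg θ' = N) with hT
    have hθT : θ ∈ T := Finset.mem_filter.2 ⟨Finset.mem_univ _, hθw, hθN⟩
    have hyN : rankSum K w N ∈ q := hy N (hθN ▸ codeg_le_of_le hθw)
    have hsum : rankSum K w N = x + ∑ θ' ∈ T.erase θ,
        Ideal.Quotient.mk (schubertVanishing K d n w) (X θ') := by
      unfold rankSum
      rw [← Finset.add_sum_erase T _ hθT]
    have hcross : ∀ θ' ∈ T.erase θ,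
        x * Ideal.Quotient.mk (schubertVanishing K d n w) (X θ') ∈ q := by
      intro θ' hθ'
      have hne : θ' ≠ θ := Finset.ne_of_mem_erase hθ'
      have hθ'T := Finset.mem_filter.1 (Finset.mem_of_mem_erase hθ')
      have h1 : ¬ θ ≤ θ' := by
        intro h
        have := codeg_lt_of_lt (lt_of_le_of_ne h (Ne.symm hne))
        omega
      have h2 : ¬ θ' ≤ θ := by
        intro h
        have := codeg_lt_of_lt (lt_of_le_of_ne h hne)
        omega
      obtain ⟨g, hg, hrel⟩ := straightening_shape K hd hdn θ θ' h1 h2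
      have hinf_le : W4bk4grassmannian.inf θ θ' ≤ θ := fun t => min_le_left _ _
      have hinf_lt : W4bk4grassmannian.inf θ θ' < θ := by
        refine lt_of_le_of_ne hinf_le ?_
        intro h
        apply h1
        intro t
        have : (W4bk4grassmannian.inf θ θ').1 t = θ.1 t := by rw [h]
        have h3 : min (θ.1 t) (θ'.1 t) = θ.1 t := this
        exact min_eq_left_iff.1 h3
      have hlow : ∀ β : Idx d n, β ≤ W4bk4grassmannian.inf θ θ' →
          Ideal.Quotient.mk (schubertVanishing K d n w) (X β) ∈ q := by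
        intro β hβ
        have hβlt : β < θ := lt_of_le_of_lt hβ hinf_lt
        exact IH (codeg β) (hθN ▸ codeg_lt_of_lt hβlt) β rfl
      have hgq : Ideal.Quotient.mk (schubertVanishing K d n w) g ∈ q := by
        have hle : Submodule.span K {f : PlRing K d n | ∃ α β : Idx d n,
            β ≤ α ∧ W4bk4grassmannian.sup θ θ' < α ∧ β < W4bk4grassmannian.inf θ θ' ∧
              f = X α * X β} ≤
            (Submodule.restrictScalars K (Ideal.comap
              (Ideal.Quotient.mk (schubertVanishing K d n w)) q)) := by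
          rw [Submodule.span_le]
          rintro _ ⟨α, β, -, -, hβ, rfl⟩
          show Ideal.Quotient.mk (schubertVanishing K d n w) (X α * X β) ∈ q
          rw [map_mul]
          exact Ideal.mul_mem_left _ _ (hlow β hβ.le)
        exact hle hg
      have hrel' : Ideal.Quotient.mk (schubertVanishing K d n w) (X θ * X θ') =
          Ideal.Quotient.mk (schubertVanishing K d n w)
            (X (W4bk4grassmannian.sup θ θ') * X (W4bk4grassmannian.inf θ θ')) +
          Ideal.Quotient.mk (schubertVanishing K d n w) g := by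
        rw [← map_add, Ideal.Quotient.eq]
        have := vanishing_le_schubert K w hrel
        have e : X θ * X θ' - (X (W4bk4grassmannian.sup θ θ') * X (W4bk4grassmannian.inf θ θ') + g) =
            X θ * X θ' - X (W4bk4grassmannian.sup θ θ') * X (W4bk4grassmannian.inf θ θ') - g := by
          ring
        rw [e]; exact this
      rw [hx, ← map_mul, hrel']
      refine Ideal.add_mem _ ?_ hgq
      rw [map_mul]
      exact Ideal.mul_mem_left _ _ (hlow _ le_rfl)
    have hsq : x ^ 2 ∈ q := by
      have h1 : x ^ 2 = x * rankSum K w N - ∑ θ' ∈ T.erase θ,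
          x * Ideal.Quotient.mk (schubertVanishing K d n w) (X θ') := by
        rw [hsum, mul_add, Finset.mul_sum]; ring
      rw [h1]
      exact Ideal.sub_mem _ (Ideal.mul_mem_left _ _ hyN) (Ideal.sum_mem _ hcross)
    exact hq.mem_of_pow_mem 2 hsq
  · rw [Ideal.Quotient.eq_zero_iff_mem.2 (X_mem_schubertVanishing K hθw)]
    exact Ideal.zero_mem _

include hd in
theorem dim_le_codeg_succ :
    ringKrullDim (SchB K w) ≤ ((codeg w + 1 : ℕ) : WithBot ℕ∞) := by
  classical
  haveI := isDomain_schB K hd w
  obtain ⟨n₀, hdim, hmax⟩ := Groth.Agent.Lib.FTDim.exists_ringKrullDim_eq K (SchB K w)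
  set m : Ideal (SchB K w) := RingHom.ker (aug K hd w) with hm
  have hmmax : m.IsMaximal := RingHom.ker_isMaximal_of_surjective _ (aug_surjective K hd w)
  set s : Finset (SchB K w) := (Finset.range (codeg w + 1)).image (rankSum K w) with hs
  have hsm : Ideal.span (s : Set (SchB K w)) ≤ m := by
    rw [Ideal.span_le]
    intro y hy
    rw [hs, Finset.coe_image] at hy
    obtain ⟨k, -, rfl⟩ := hy
    show rankSum K w k ∈ RingHom.ker (aug K hd w)
    rw [RingHom.mem_ker]
    unfold rankSum
    rw [map_sum]
    refine Finset.sum_eq_zero fun θ _ => ?_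
    rw [aug_mk, constantCoeff_X]
  have hmin : m ∈ (Ideal.span (s : Set (SchB K w))).minimalPrimes := by
    refine ⟨⟨hmmax.isPrime, hsm⟩, ?_⟩
    rintro q ⟨hqp, hqs⟩ -
    haveI := hqp
    have hyq : ∀ k, k ≤ codeg w → rankSum K w k ∈ q := by
      intro k hk
      apply hqs
      apply Ideal.subset_span
      rw [hs, Finset.coe_image]
      exact ⟨k, Finset.mem_coe.2 (Finset.mem_range.2 (by omega)), rfl⟩
    have hX : ∀ θ : Idx d n, Ideal.Quotient.mk (schubertVanishing K d n w) (X θ) ∈ q :=
      fun θ => mk_X_mem_of_rankSum_mem K hd w q hyq (codeg θ) θ rfl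
    intro b hb
    obtain ⟨f, rfl⟩ := Ideal.Quotient.mk_surjective b
    have hf0 : constantCoeff f = 0 := hb
    have hsum := f.as_sum
    rw [hsum, map_sum]
    refine Ideal.sum_mem _ fun e he => ?_
    have hene : e ≠ 0 := by
      rintro rfl
      rw [MvPolynomial.mem_support_iff, ← constantCoeff_eq] at he
      exact he hf0
    obtain ⟨θ, hθ⟩ := Finsupp.support_nonempty_iff.2 hene
    have h1 : 1 ≤ e θ := Nat.one_le_iff_ne_zero.2 (Finsupp.mem_support_iff.1 hθ)
    have hsplit : Finsupp.single θ 1 + (e - Finsupp.single θ 1) = e := by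
      refine Finsupp.ext fun θ' => ?_
      by_cases hθ' : θ' = θ
      · subst hθ'
        simp only [Finsupp.coe_add, Pi.add_apply, Finsupp.single_eq_same, Finsupp.coe_tsub,
          Pi.sub_apply]
        omega
      · simp only [Finsupp.coe_add, Pi.add_apply, Finsupp.coe_tsub, Pi.sub_apply,
          Finsupp.single_eq_of_ne hθ']
        omega
    have : monomial e (coeff e f) = X θ * monomial (e - Finsupp.single θ 1) (coeff e f) := by
      rw [MvPolynomial.X, MvPolynomial.monomial_mul, one_mul, hsplit]
    rw [this, map_mul]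
    exact Ideal.mul_mem_right _ _ (hX θ)
  have hht := Ideal.height_le_card_of_mem_minimalPrimes_span_finset hmin
  rw [hmax m hmmax] at hht
  have hcard : s.card ≤ codeg w + 1 := by
    rw [hs]
    exact le_trans Finset.card_image_le (by rw [Finset.card_range])
  have hn₀ : n₀ ≤ codeg w + 1 := by
    have : (n₀ : ℕ∞) ≤ ((codeg w + 1 : ℕ) : ℕ∞) := le_trans hht (by exact_mod_cast hcard)
    exact_mod_cast this
  rw [hdim]
  exact_mod_cast hn₀

include hd in
/-- The cone over the Schubert variety `X(w)` has dimension `codeg w + 1`. -/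
theorem ringKrullDim_schB :
    ringKrullDim (SchB K w) = ((codeg w + 1 : ℕ) : WithBot ℕ∞) :=
  le_antisymm (dim_le_codeg_succ K hd w) (codeg_succ_le_dim K hd (codeg w) w rfl)

end Groth.Agent.Lib.PlSMT
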