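import Groth.Agent.Lib.CellMinors
import Groth.Agent.Lib.PlQuadric
import Groth.Agent.Lib.PlSMT11

/-!
# Combinatorics of bitableaux: minors of `Z` versus Plücker indices of `[I ; Z]`

The map `ψ` from minor indices `[A | B]` of an `m × n` matrix to `I(n, n + m)`, sending `[A | B]` to the
rows `([n] ∖ B) ∪ (n + rev A)`, is an order anti-isomorphism onto the indices other than the least one.
Orders are compared through counting functions.
-/

set_option autoImplicit false
set_option linter.unusedSectionVars false
set_option linter.unusedSimpArgs false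
universe u
open Finset W4bk4grassmannian

namespace Groth.Agent.Lib.Bitab
open Groth.Agent.Lib.PlSMT Groth.Agent.Lib.CellMinors Groth.Agent.Lib.PlQuadric

section Cnt
variable {p p' N : ℕ}

/-- Number of entries of a tuple that are at most `x`. -/
def cnt (σ : Fin p → Fin N) (x : Fin N) : ℕ := (Finset.univ.filter fun j => σ j ≤ x).card

/-- Number of entries of a tuple that are less than `x`. -/
def cntlt (σ : Fin p → Fin N) (x : Fin N) : ℕ := (Finset.univ.filter fun j => σ j < x).card

lemma cnt_le (σ : Fin p → Fin N) (x : Fin N) : cnt σ x ≤ p := by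
  unfold cnt
  exact (Finset.card_filter_le _ _).trans (by simp)

lemma cnt_self {σ : Fin p → Fin N} (hσ : StrictMono σ) (j : Fin p) : cnt σ (σ j) = j.val + 1 := by
  unfold cnt
  have : Finset.univ.filter (fun j' => σ j' ≤ σ j) = Finset.Iic j := by
    ext j'; simp [hσ.le_iff_le]
  rw [this, Fin.card_Iic]

lemma cnt_le_of_lt {σ : Fin p → Fin N} (hσ : StrictMono σ) (j : Fin p) (x : Fin N)
    (h : x < σ j) : cnt σ x ≤ j.val := by
  unfold cnt
  have hsub : Finset.univ.filter (fun j' => σ j' ≤ x) ⊆ Finset.Iio j := by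
    intro j' hj'
    rw [Finset.mem_filter] at hj'
    rw [Finset.mem_Iio]
    by_contra hcon
    rw [not_lt] at hcon
    exact absurd (lt_of_lt_of_le h (hσ.monotone hcon)) (not_lt.2 hj'.2)
  calc _ ≤ (Finset.Iio j).card := Finset.card_le_card hsub
    _ = j.val := Fin.card_Iio j

/-- Entrywise comparison of increasing tuples (of possibly different lengths) through counting. -/
theorem le_iff_cnt {σ : Fin p → Fin N} {σ' : Fin p' → Fin N} (hσ : StrictMono σ)
    (hσ' : StrictMono σ') :
    (p' ≤ p ∧ ∀ (j : Fin p) (j' : Fin p'), j.val = j'.val → σ j ≤ σ' j') ↔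
      ∀ x, cnt σ' x ≤ cnt σ x := by
  constructor
  · rintro ⟨hpp, h⟩ x
    unfold cnt
    apply Finset.card_le_card_of_injOn (Fin.castLE hpp)
    · intro j' hj'
      rw [Finset.mem_coe, Finset.mem_filter] at hj' ⊢
      exact ⟨Finset.mem_univ _, le_trans (h (Fin.castLE hpp j') j' rfl) hj'.2⟩
    · intro a _ b _ hab
      exact Fin.castLE_injective hpp hab
  · intro h
    have hpp : p' ≤ p := by
      rcases Nat.eq_zero_or_pos p' with h0 | hpos
      · omega
      · have h1 := h (σ' ⟨p' - 1, by omega⟩)
        rw [cnt_self hσ'] at h1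
        have h2 := cnt_le σ (σ' ⟨p' - 1, by omega⟩)
        simp only at h1
        omega
    refine ⟨hpp, fun j j' hjj => ?_⟩
    by_contra hcon
    rw [not_le] at hcon
    have h1 := h (σ' j')
    rw [cnt_self hσ'] at h1
    have h2 := cnt_le_of_lt hσ j (σ' j') hcon
    omega

lemma idx_le_iff_cnt {d : ℕ} (θ θ' : Idx d N) : θ ≤ θ' ↔ ∀ x, cnt θ'.1 x ≤ cnt θ.1 x := by
  rw [← le_iff_cnt θ.2 θ'.2]
  constructor
  · intro h
    refine ⟨le_rfl, fun j j' hjj => ?_⟩
    have : j = j' := Fin.ext hjj
    subst this
    exact h j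
  · rintro ⟨-, h⟩ j
    exact h j j rfl

lemma cnt_eq_card_image {σ : Fin p → Fin N} (hσ : Function.Injective σ) (x : Fin N) :
    cnt σ x = ((Finset.univ.image σ).filter fun y => y ≤ x).card := by
  unfold cnt
  rw [Finset.filter_image, Finset.card_image_of_injective _ hσ]

lemma cnt_sortIdx {d : ℕ} (a : Fin d → Fin N) (h : (Finset.univ.image a).card = d) (x : Fin N) :
    cnt (sortIdx d N a h).1 x = cnt a x := by
  rw [cnt_eq_card_image (sortIdx d N a h).2.injective, cnt_eq_card_image (injective_of_card_image h),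
    image_sortIdx]

lemma cntlt_zero (σ : Fin p → Fin N) (x : Fin N) (hx : x.val = 0) : cntlt σ x = 0 := by
  unfold cntlt
  rw [Finset.card_eq_zero, Finset.filter_eq_empty_iff]
  intro j _
  rw [Fin.lt_def]
  omega

lemma cntlt_succ (σ : Fin p → Fin N) (x y : Fin N) (hxy : y.val = x.val + 1) :
    cntlt σ y = cnt σ x := by
  unfold cntlt cnt
  congr 1
  ext j
  simp only [Finset.mem_filter, Finset.mem_univ, true_and, Fin.lt_def, Fin.le_def]
  omega

lemma cnt_last (σ : Fin p → Fin N) (x : Fin N) (hx : x.val + 1 = N) : cnt σ x = p := by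
  unfold cnt
  rw [Finset.filter_true_of_mem]
  · simp
  · intro j _
    rw [Fin.le_def]
    have := (σ j).isLt
    omega

end Cnt


section Block
variable {m n t : ℕ} (f : Fin t → Fin m) (g : Fin t → Fin n)

lemma blockRows_lt {g : Fin t → Fin n} (j : Fin n) (hj : ¬ ∃ k, g k = j) :
    (blockRows n m f g j).val = j.val := by
  rw [blockRows_apply' n m f g j hj]; rfl

lemma blockRows_ge {g : Fin t → Fin n} (hg : Function.Injective g) (k : Fin t) :
    (blockRows n m f g (g k)).val = n + (f k).val := by
  rw [blockRows_apply n m f hg k]; rfl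

lemma blockRows_injective {g : Fin t → Fin n} (hf : Function.Injective f)
    (hg : Function.Injective g) : Function.Injective (blockRows n m f g) := by
  intro j j' h
  have hv := congrArg Fin.val h
  by_cases hj : ∃ k, g k = j
  · obtain ⟨k, rfl⟩ := hj
    by_cases hj' : ∃ k', g k' = j'
    · obtain ⟨k', rfl⟩ := hj'
      rw [blockRows_ge f hg, blockRows_ge f hg] at hv
      have : f k = f k' := Fin.ext (by omega)
      rw [hf this]
    · rw [blockRows_ge f hg, blockRows_lt f j' hj'] at hv
      have := j'.isLt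
      omega
  · by_cases hj' : ∃ k', g k' = j'
    · obtain ⟨k', rfl⟩ := hj'
      rw [blockRows_lt f j hj, blockRows_ge f hg] at hv
      have := j.isLt
      omega
    · rw [blockRows_lt f j hj, blockRows_lt f j' hj'] at hv
      exact Fin.ext hv

lemma card_le_of_inj {g : Fin t → Fin n} (hg : Function.Injective g) : t ≤ n := by
  simpa using Fintype.card_le_of_injective g hg

/-- Counting the rows of `blockRows` below an identity row. -/
lemma cnt_blockRows_castAdd {g : Fin t → Fin n} (hg : Function.Injective g) (i : Fin n) :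
    cnt (blockRows n m f g) (Fin.castAdd m i) + cnt g i = i.val + 1 := by
  classical
  have h1 : Finset.univ.filter (fun j => blockRows n m f g j ≤ Fin.castAdd m i) =
      (Finset.Iic i).filter (fun j => ¬ ∃ k, g k = j) := by
    ext j
    simp only [Finset.mem_filter, Finset.mem_univ, true_and, Finset.mem_Iic]
    by_cases hj : ∃ k, g k = j
    · obtain ⟨k, rfl⟩ := hj
      constructor
      · intro h
        rw [Fin.le_def, blockRows_ge f hg] at h
        have := i.isLt
        simp only [Fin.val_castAdd] at h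
        omega
      · intro h
        exact absurd ⟨k, rfl⟩ h.2
    · rw [Fin.le_def, blockRows_lt f j hj]
      simp only [Fin.val_castAdd]
      constructor
      · intro h; exact ⟨h, hj⟩
      · intro h; exact h.1
  have h2 : (Finset.univ.filter fun k => g k ≤ i).image g =
      (Finset.Iic i).filter (fun j => ∃ k, g k = j) := by
    ext j
    simp only [Finset.mem_image, Finset.mem_filter, Finset.mem_univ, true_and, Finset.mem_Iic]
    constructor
    · rintro ⟨k, hk, rfl⟩
      exact ⟨hk, k, rfl⟩
    · rintro ⟨hj, k, rfl⟩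
      exact ⟨k, hj, rfl⟩
  have h3 : cnt g i = ((Finset.Iic i).filter (fun j => ∃ k, g k = j)).card := by
    rw [← h2, Finset.card_image_of_injective _ hg]; rfl
  unfold cnt at *
  rw [h1, h3, add_comm, Finset.card_filter_add_card_filter_not, Fin.card_Iic]

/-- Counting the rows of `blockRows` below a row of `Z`. -/
lemma cnt_blockRows_natAdd {g : Fin t → Fin n} (hg : Function.Injective g) (y : Fin m) :
    cnt (blockRows n m f g) (Fin.natAdd n y) + t = n + cnt f y := by
  classical
  have h1 : Finset.univ.filter (fun j => blockRows n m f g j ≤ Fin.natAdd n y) =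
      (Finset.univ \ Finset.univ.image g) ∪ (Finset.univ.filter fun k => f k ≤ y).image g := by
    ext j
    simp only [Finset.mem_filter, Finset.mem_univ, true_and, Finset.mem_union, Finset.mem_sdiff,
      Finset.mem_image, not_exists, not_and]
    by_cases hj : ∃ k, g k = j
    · obtain ⟨k, rfl⟩ := hj
      rw [Fin.le_def, blockRows_ge f hg]
      simp only [Fin.val_natAdd]
      constructor
      · intro h
        right
        exact ⟨k, by rw [Fin.le_def]; omega, rfl⟩
      · rintro (h | ⟨k', hk', hkk⟩)
        · exact absurd rfl (h k)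
        · rw [hg hkk] at hk'
          rw [Fin.le_def] at hk'
          omega
    · rw [Fin.le_def, blockRows_lt f j hj]
      simp only [Fin.val_natAdd]
      have := j.isLt
      constructor
      · intro _
        left
        intro k hk
        exact hj ⟨k, hk⟩
      · intro _; omega
  have hdisj : Disjoint (Finset.univ \ Finset.univ.image g)
      ((Finset.univ.filter fun k => f k ≤ y).image g) := by
    rw [Finset.disjoint_left]
    intro j hj hj'
    rw [Finset.mem_sdiff] at hj
    apply hj.2
    obtain ⟨k, -, rfl⟩ := Finset.mem_image.1 hj'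
    exact Finset.mem_image_of_mem _ (Finset.mem_univ k)
  have htn := card_le_of_inj hg
  unfold cnt at *
  rw [h1, Finset.card_union_of_disjoint hdisj, Finset.card_univ_sdiff,
    Finset.card_image_of_injective _ hg, Finset.card_image_of_injective _ hg]
  simp only [Fintype.card_fin, Finset.card_univ]
  omega

end Block


section Psi
variable {m n : ℕ}

/-- The (unsorted) row tuple of `[I_n ; Z]` attached to the minor `[A | B]`: the identity rows `B` are replaced by
the rows `rev A` of `Z`. -/
noncomputable def rowsOf (M : MinorIdx m n) : Fin n → Fin (n + m) :=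
  blockRows n m (Fin.rev ∘ M.2.1.1) M.2.2.1

lemma rowsOf_injective (M : MinorIdx m n) : Function.Injective (rowsOf M) :=
  blockRows_injective _ (Fin.rev_injective.comp M.2.1.2.injective) M.2.2.2.injective

lemma card_image_rowsOf (M : MinorIdx m n) : (Finset.univ.image (rowsOf M)).card = n :=
  card_image_of_injective' (rowsOf_injective M)

/-- The Plücker index of `[I_n ; Z]` attached to a minor of `Z`. -/
noncomputable def psi (M : MinorIdx m n) : Idx n (n + m) :=
  sortIdx n (n + m) (rowsOf M) (card_image_rowsOf M)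

lemma cnt_psi (M : MinorIdx m n) (x : Fin (n + m)) : cnt (psi M).1 x = cnt (rowsOf M) x :=
  cnt_sortIdx _ _ _

lemma cnt_psi_castAdd (M : MinorIdx m n) (i : Fin n) :
    cnt (psi M).1 (Fin.castAdd m i) + cnt M.2.2.1 i = i.val + 1 := by
  rw [cnt_psi]
  exact cnt_blockRows_castAdd _ M.2.2.2.injective i

lemma cnt_rev_comp {t : ℕ} (A : Fin t → Fin m) (y : Fin m) :
    cnt (Fin.rev ∘ A) y + cntlt A (Fin.rev y) = t := by
  classical
  unfold cnt cntlt
  have h1 : Finset.univ.filter (fun k => (Fin.rev ∘ A) k ≤ y) =
      Finset.univ.filter (fun k => ¬ A k < Fin.rev y) := by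
    ext k
    simp only [Finset.mem_filter, Finset.mem_univ, true_and, Function.comp_apply, not_lt]
    exact Fin.rev_le_iff
  rw [h1, add_comm, Finset.card_filter_add_card_filter_not]
  simp

lemma cnt_psi_natAdd (M : MinorIdx m n) (y : Fin m) :
    cnt (psi M).1 (Fin.natAdd n y) + cntlt M.2.1.1 (Fin.rev y) = n := by
  rw [cnt_psi]
  have h1 := cnt_blockRows_natAdd (Fin.rev ∘ M.2.1.1) M.2.2.2.injective y
  have h2 := cnt_rev_comp M.2.1.1 y
  unfold rowsOf
  omega

lemma minorGE_iff_cnt (M M' : MinorIdx m n) :
    MinorGE M M' ↔ (∀ x, cnt M.2.1.1 x ≤ cnt M'.2.1.1 x) ∧ (∀ x, cnt M.2.2.1 x ≤ cnt M'.2.2.1 x) := by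
  rw [← le_iff_cnt M'.2.1.2 M.2.1.2, ← le_iff_cnt M'.2.2.2 M.2.2.2]
  unfold MinorGE
  constructor
  · rintro ⟨h1, h2⟩
    exact ⟨⟨by omega, fun j j' hjj => (h2 j' j hjj.symm).1⟩,
      ⟨by omega, fun j j' hjj => (h2 j' j hjj.symm).2⟩⟩
  · rintro ⟨⟨h1, h2⟩, ⟨-, h3⟩⟩
    exact ⟨by omega, fun j j' hjj => ⟨h2 j' j hjj.symm, h3 j' j hjj.symm⟩⟩

/-- `ψ` is an order anti-isomorphism onto its image. -/
theorem psi_le_iff (M M' : MinorIdx m n) : psi M ≤ psi M' ↔ MinorGE M M' := by
  rw [idx_le_iff_cnt, minorGE_iff_cnt]
  have hn : 0 < n := lt_of_le_of_lt (Nat.zero_le _) (M.2.2.1 0).isLt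
  constructor
  · intro h
    have hcols : ∀ x, cnt M.2.2.1 x ≤ cnt M'.2.2.1 x := by
      intro i
      have h1 := cnt_psi_castAdd M i
      have h2 := cnt_psi_castAdd M' i
      have h3 := h (Fin.castAdd m i)
      omega
    refine ⟨fun z => ?_, hcols⟩
    by_cases hz : z.val + 1 < m
    · have h1 := cnt_psi_natAdd M (Fin.rev ⟨z.val + 1, hz⟩)
      have h2 := cnt_psi_natAdd M' (Fin.rev ⟨z.val + 1, hz⟩)
      have h3 := h (Fin.natAdd n (Fin.rev ⟨z.val + 1, hz⟩))
      rw [Fin.rev_rev, cntlt_succ _ z ⟨z.val + 1, hz⟩ rfl] at h1 h2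
      omega
    · have hzm : z.val + 1 = m := by have := z.isLt; omega
      rw [cnt_last _ z hzm, cnt_last _ z hzm]
      have h1 := hcols ⟨n - 1, by omega⟩
      rw [cnt_last _ _ (by simp; omega), cnt_last _ _ (by simp; omega)] at h1
      exact h1
  · rintro ⟨hrows, hcols⟩ x
    refine Fin.addCases (fun i => ?_) (fun y => ?_) x
    · have h1 := cnt_psi_castAdd M i
      have h2 := cnt_psi_castAdd M' i
      have h3 := hcols i
      omega
    · have h1 := cnt_psi_natAdd M y
      have h2 := cnt_psi_natAdd M' y
      have h3 : cntlt M.2.1.1 (Fin.rev y) ≤ cntlt M'.2.1.1 (Fin.rev y) := by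
        rcases Nat.eq_zero_or_pos (Fin.rev y).val with h0 | hpos
        · rw [cntlt_zero _ _ h0, cntlt_zero _ _ h0]
        · have hlt : (Fin.rev y).val - 1 < m := by have := (Fin.rev y).isLt; omega
          have hsucc : (Fin.rev y).val = (⟨(Fin.rev y).val - 1, hlt⟩ : Fin m).val + 1 := by
            show (Fin.rev y).val = (Fin.rev y).val - 1 + 1
            omega
          rw [cntlt_succ _ ⟨(Fin.rev y).val - 1, hlt⟩ (Fin.rev y) hsucc,
            cntlt_succ _ ⟨(Fin.rev y).val - 1, hlt⟩ (Fin.rev y) hsucc]
          exact hrows _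
      omega

lemma minorGE_antisymm {M M' : MinorIdx m n} (h : MinorGE M M') (h' : MinorGE M' M) : M = M' := by
  obtain ⟨s, A, B⟩ := M
  obtain ⟨s', A', B'⟩ := M'
  have hs : s = s' := le_antisymm h.1 h'.1
  subst hs
  have hA : A = A' := by
    apply Subtype.ext
    funext j
    exact le_antisymm (h'.2 j j rfl).1 (h.2 j j rfl).1
  have hB : B = B' := by
    apply Subtype.ext
    funext j
    exact le_antisymm (h'.2 j j rfl).2 (h.2 j j rfl).2
  rw [hA, hB]

lemma minorGE_refl (M : MinorIdx m n) : MinorGE M M := by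
  refine ⟨le_rfl, fun j j' hjj => ?_⟩
  have : j = j' := Fin.ext hjj
  subst this
  exact ⟨le_rfl, le_rfl⟩

theorem psi_injective : Function.Injective (psi (m := m) (n := n)) := by
  intro M M' h
  exact minorGE_antisymm ((psi_le_iff M M').1 (le_of_eq h)) ((psi_le_iff M' M).1 (le_of_eq h.symm))

end Psi


section Hi
variable {m n : ℕ}

/-- Number of rows of a tuple lying in the block `Z`. -/
def hiT {d : ℕ} (a : Fin d → Fin (n + m)) : ℕ := (Finset.univ.filter fun k => n ≤ (a k).val).card

lemma hiT_eq_card_image {d : ℕ} {a : Fin d → Fin (n + m)} (ha : Function.Injective a) :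
    hiT a = ((Finset.univ.image a).filter fun y => n ≤ y.val).card := by
  unfold hiT
  rw [Finset.filter_image, Finset.card_image_of_injective _ ha]

lemma hiT_sortIdx {d : ℕ} (a : Fin d → Fin (n + m)) (h : (Finset.univ.image a).card = d) :
    hiT (sortIdx d (n + m) a h).1 = hiT a := by
  rw [hiT_eq_card_image (sortIdx d (n + m) a h).2.injective,
    hiT_eq_card_image (injective_of_card_image h), image_sortIdx]

lemma hiT_blockRows {t : ℕ} (f : Fin t → Fin m) {g : Fin t → Fin n} (hg : Function.Injective g) :
    hiT (blockRows n m f g) = t := by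
  classical
  unfold hiT
  have : Finset.univ.filter (fun j => n ≤ (blockRows n m f g j).val) = Finset.univ.image g := by
    ext j
    simp only [Finset.mem_filter, Finset.mem_univ, true_and, Finset.mem_image]
    constructor
    · intro h
      by_contra hj
      rw [blockRows_lt f j hj] at h
      have := j.isLt
      omega
    · rintro ⟨k, rfl⟩
      rw [blockRows_ge f hg]
      omega
  rw [this, Finset.card_image_of_injective _ hg]
  simp

lemma hiT_psi (M : MinorIdx m n) : hiT (psi M).1 = M.1 + 1 := by
  unfold psi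
  rw [hiT_sortIdx]
  exact hiT_blockRows _ M.2.2.2.injective

lemma hiT_wbot : hiT (wbot (Nat.le_add_right n m)).1 = 0 := by
  unfold hiT
  rw [Finset.card_eq_zero, Finset.filter_eq_empty_iff]
  intro k _
  show ¬ n ≤ k.val
  have := k.isLt
  omega

lemma psi_ne_wbot (M : MinorIdx m n) : psi M ≠ wbot (Nat.le_add_right n m) := by
  intro h
  have h1 := hiT_psi M
  rw [h, hiT_wbot] at h1
  omega

lemma mem_image_blockRows_castAdd {t : ℕ} (f : Fin t → Fin m) {g : Fin t → Fin n}
    (hg : Function.Injective g) (j : Fin n) :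
    Fin.castAdd m j ∈ Finset.univ.image (blockRows n m f g) ↔ ¬ ∃ k, g k = j := by
  rw [Finset.mem_image]
  constructor
  · rintro ⟨j', -, hj'⟩ ⟨k, rfl⟩
    have hv := congrArg Fin.val hj'
    by_cases h : ∃ k', g k' = j'
    · obtain ⟨k', rfl⟩ := h
      rw [blockRows_ge f hg] at hv
      simp only [Fin.val_castAdd] at hv
      have := (g k).isLt
      omega
    · rw [blockRows_lt f j' h] at hv
      simp only [Fin.val_castAdd] at hv
      exact h ⟨k, (Fin.ext hv).symm⟩
  · intro h
    exact ⟨j, Finset.mem_univ _, blockRows_apply' n m f g j h⟩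

lemma mem_image_blockRows_natAdd {t : ℕ} (f : Fin t → Fin m) {g : Fin t → Fin n}
    (hg : Function.Injective g) (a : Fin m) :
    Fin.natAdd n a ∈ Finset.univ.image (blockRows n m f g) ↔ ∃ k, f k = a := by
  rw [Finset.mem_image]
  constructor
  · rintro ⟨j', -, hj'⟩
    have hv := congrArg Fin.val hj'
    by_cases h : ∃ k', g k' = j'
    · obtain ⟨k', rfl⟩ := h
      rw [blockRows_ge f hg] at hv
      simp only [Fin.val_natAdd] at hv
      exact ⟨k', Fin.ext (by omega)⟩
    · rw [blockRows_lt f j' h] at hv
      simp only [Fin.val_natAdd] at hv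
      have := j'.isLt
      omega
  · rintro ⟨k, rfl⟩
    exact ⟨g k, Finset.mem_univ _, blockRows_apply n m f hg k⟩

/-- Every index other than the least one comes from a minor. -/
theorem exists_psi_eq (θ : Idx n (n + m)) (hθ : θ ≠ wbot (Nat.le_add_right n m)) :
    ∃ M : MinorIdx m n, psi M = θ := by
  classical
  set L : Finset (Fin n) := Finset.univ.filter (fun j => Fin.castAdd m j ∈ Finset.univ.image θ.1)
    with hL
  set H : Finset (Fin m) := Finset.univ.filter (fun a => Fin.natAdd n a ∈ Finset.univ.image θ.1)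
    with hH
  have himg : Finset.univ.image θ.1 = L.image (Fin.castAdd m) ∪ H.image (Fin.natAdd n) := by
    ext x
    refine Fin.addCases (fun j => ?_) (fun a => ?_) x
    · simp only [Finset.mem_union, Finset.mem_image]
      constructor
      · intro h
        left
        exact ⟨j, by rw [hL, Finset.mem_filter]; exact ⟨Finset.mem_univ _, Finset.mem_image.2 h⟩, rfl⟩
      · rintro (⟨j', hj', hjj⟩ | ⟨a, -, ha⟩)
        · rw [Fin.castAdd_injective n m hjj] at hj'
          rw [hL, Finset.mem_filter] at hj'
          exact Finset.mem_image.1 hj'.2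
        · have := congrArg Fin.val ha
          simp only [Fin.val_natAdd, Fin.val_castAdd] at this
          have := j.isLt
          omega
    · simp only [Finset.mem_union, Finset.mem_image]
      constructor
      · intro h
        right
        exact ⟨a, by rw [hH, Finset.mem_filter]; exact ⟨Finset.mem_univ _, Finset.mem_image.2 h⟩, rfl⟩
      · rintro (⟨j, -, hj⟩ | ⟨a', ha', haa⟩)
        · have := congrArg Fin.val hj
          simp only [Fin.val_natAdd, Fin.val_castAdd] at this
          have := j.isLt
          omega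
        · rw [Fin.natAdd_injective m n haa] at ha'
          rw [hH, Finset.mem_filter] at ha'
          exact Finset.mem_image.1 ha'.2
  have hdisj : Disjoint (L.image (Fin.castAdd m)) (H.image (Fin.natAdd n)) := by
    rw [Finset.disjoint_left]
    intro x hx hx'
    obtain ⟨j, -, rfl⟩ := Finset.mem_image.1 hx
    obtain ⟨a, -, ha⟩ := Finset.mem_image.1 hx'
    have := congrArg Fin.val ha
    simp only [Fin.val_natAdd, Fin.val_castAdd] at this
    have := j.isLt
    omega
  have hcard : L.card + H.card = n := by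
    have h1 := card_image_idx θ
    rw [himg, Finset.card_union_of_disjoint hdisj,
      Finset.card_image_of_injective _ (Fin.castAdd_injective n m),
      Finset.card_image_of_injective _ (Fin.natAdd_injective m n)] at h1
    exact h1
  have hHpos : 0 < H.card := by
    rw [Nat.pos_iff_ne_zero]
    intro h0
    apply hθ
    apply idx_eq_of_image
    apply Finset.eq_of_subset_of_card_le
    · intro x hx
      rw [himg, Finset.card_eq_zero.1 h0, Finset.image_empty, Finset.union_empty] at hx
      obtain ⟨j, -, rfl⟩ := Finset.mem_image.1 hx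
      exact Finset.mem_image.2 ⟨j, Finset.mem_univ _, Fin.ext rfl⟩
    · rw [card_image_idx, card_image_idx]
  obtain ⟨s, hs⟩ : ∃ s, H.card = s + 1 := ⟨H.card - 1, by omega⟩
  have hA : (H.image Fin.rev).card = s + 1 := by
    rw [Finset.card_image_of_injective _ Fin.rev_injective, hs]
  have hB : (Finset.univ \ L).card = s + 1 := by
    rw [Finset.card_univ_sdiff, Fintype.card_fin]
    omega
  refine ⟨⟨s, ⟨fun k => (H.image Fin.rev).orderEmbOfFin hA k,
    ((H.image Fin.rev).orderEmbOfFin hA).strictMono⟩,
    ⟨fun k => (Finset.univ \ L).orderEmbOfFin hB k,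
      ((Finset.univ \ L).orderEmbOfFin hB).strictMono⟩⟩, ?_⟩
  apply idx_eq_of_image
  unfold psi
  rw [image_sortIdx]
  ext x
  have hginj : Function.Injective fun k => (Finset.univ \ L).orderEmbOfFin hB k :=
    ((Finset.univ \ L).orderEmbOfFin hB).injective
  refine Fin.addCases (fun j => ?_) (fun a => ?_) x
  · unfold rowsOf
    rw [mem_image_blockRows_castAdd _ hginj]
    have hrange : (∃ k, (Finset.univ \ L).orderEmbOfFin hB k = j) ↔ j ∈ Finset.univ \ L := by
      have := Finset.range_orderEmbOfFin (Finset.univ \ L) hB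
      rw [← Finset.mem_coe, ← this]
      rfl
    rw [hrange, Finset.mem_sdiff, hL, Finset.mem_filter]
    simp
  · unfold rowsOf
    rw [mem_image_blockRows_natAdd _ hginj]
    have hrange : ∀ b, (∃ k, (H.image Fin.rev).orderEmbOfFin hA k = b) ↔ b ∈ H.image Fin.rev := by
      intro b
      have := Finset.range_orderEmbOfFin (H.image Fin.rev) hA
      rw [← Finset.mem_coe, ← this]
      rfl
    have h2 : (∃ k, (Fin.rev ∘ fun k => (H.image Fin.rev).orderEmbOfFin hA k) k = a) ↔ a ∈ H := by
      constructor
      · rintro ⟨k, hk⟩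
        have h3 := (hrange _).1 ⟨k, rfl⟩
        obtain ⟨b, hb, hbk⟩ := Finset.mem_image.1 h3
        simp only [Function.comp_apply] at hk
        rw [← hbk, Fin.rev_rev] at hk
        rwa [← hk]
      · intro ha
        obtain ⟨k, hk⟩ := (hrange (Fin.rev a)).2 (Finset.mem_image_of_mem _ ha)
        exact ⟨k, by simp only [Function.comp_apply]; rw [hk, Fin.rev_rev]⟩
    simp only
    rw [h2, hH, Finset.mem_filter]
    simp

end Hi


section Wt
variable {m n : ℕ}

/-- The least minor (for `⪰`) of size `t - 1`: rows and columns `0, …, t - 2`. -/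
def Mmax (t : ℕ) (h2 : 2 ≤ t) (htm : t ≤ m + 1) (htn : t ≤ n + 1) : MinorIdx m n :=
  ⟨t - 2, ⟨fun j => ⟨j.val, by have := j.isLt; omega⟩, fun _ _ h => h⟩,
    ⟨fun j => ⟨j.val, by have := j.isLt; omega⟩, fun _ _ h => h⟩⟩

/-- The index of the Schubert variety whose opposite cell is the determinantal variety of `t`-minors. -/
noncomputable def wt (t : ℕ) (htm : t ≤ m + 1) (htn : t ≤ n + 1) : Idx n (n + m) :=
  if h2 : 2 ≤ t then psi (Mmax t h2 htm htn) else wbot (Nat.le_add_right n m)

theorem le_wt_iff (t : ℕ) (ht : 1 ≤ t) (htm : t ≤ m + 1) (htn : t ≤ n + 1) (θ : Idx n (n + m)) :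
    θ ≤ wt t htm htn ↔ hiT θ.1 ≤ t - 1 := by
  by_cases hθ : θ = wbot (Nat.le_add_right n m)
  · subst hθ
    rw [hiT_wbot]
    exact ⟨fun _ => Nat.zero_le _, fun _ => wbot_le _ _⟩
  · obtain ⟨M, rfl⟩ := exists_psi_eq θ hθ
    rw [hiT_psi]
    unfold wt
    split_ifs with h2
    · rw [psi_le_iff]
      constructor
      · intro h
        have := h.1
        show M.1 + 1 ≤ t - 1
        have h3 : (Mmax t h2 htm htn).1 = t - 2 := rfl
        omega
      · intro h
        refine ⟨by show M.1 ≤ t - 2; omega, fun j j' hjj => ⟨?_, ?_⟩⟩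
        · rw [Fin.le_def]
          show j'.val ≤ _
          have := le_val M.2.1 j
          omega
        · rw [Fin.le_def]
          show j'.val ≤ _
          have := le_val M.2.2 j
          omega
    · constructor
      · intro h
        exact absurd (le_antisymm h (wbot_le _ _)) (psi_ne_wbot M)
      · intro h
        omega

end Wt

end Groth.Agent.Lib.Bitab
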