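import Mathlib

/-!
# Rank factorisation from vanishing minors

A matrix over a field all of whose `(n + 1) × (n + 1)` minors vanish is a product of an `m × n` and an
`n × q` matrix.  Proof by induction on `n` through the Schur complement at a nonzero entry.
-/

set_option autoImplicit false
universe u
open Matrix

namespace Groth.Agent.Lib.RankFactor

variable {K : Type u} [Field K] {m q : ℕ}

/-- All minors of size `n + 1` (indexed by arbitrary finite types of that cardinality) vanish. -/
def MinorsVanish (n : ℕ) (z : Matrix (Fin m) (Fin q) K) : Prop :=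
  ∀ (ι : Type) [Fintype ι] [DecidableEq ι], Fintype.card ι = n + 1 →
    ∀ (f : ι → Fin m) (g : ι → Fin q), (z.submatrix f g).det = 0

lemma minorsVanish_of_fin (n : ℕ) (z : Matrix (Fin m) (Fin q) K)
    (h : ∀ (f : Fin (n + 1) → Fin m) (g : Fin (n + 1) → Fin q), (z.submatrix f g).det = 0) :
    MinorsVanish n z := by
  intro ι _ _ hcard f g
  let e : ι ≃ Fin (n + 1) := Fintype.equivFinOfCardEq hcard
  have h1 := h (f ∘ e.symm) (g ∘ e.symm)
  have h2 : (z.submatrix f g) = (z.submatrix (f ∘ e.symm) (g ∘ e.symm)).submatrix e e := by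
    ext i j
    simp
  rw [h2, Matrix.det_submatrix_equiv_self, h1]

/-- The Schur complement step: minors of the Schur complement are bordered minors. -/
lemma minorsVanish_schur (n : ℕ) (z : Matrix (Fin m) (Fin q) K) (a : Fin m) (b : Fin q)
    (hp : z a b ≠ 0) (h : MinorsVanish (n + 1) z) :
    MinorsVanish n (Matrix.of fun i j => z i j - z i b * (z a b)⁻¹ * z a j) := by
  intro ι _ _ hcard f g
  have h1 := h (Unit ⊕ ι) (by rw [Fintype.card_sum, Fintype.card_unit, hcard]; omega)
    (Sum.elim (fun _ => a) f) (Sum.elim (fun _ => b) g)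
  have h2 : z.submatrix (Sum.elim (fun _ => a) f) (Sum.elim (fun _ => b) g) =
      Matrix.fromBlocks (Matrix.of fun (_ _ : Unit) => z a b)
        (Matrix.of fun (_ : Unit) (j : ι) => z a (g j))
        (Matrix.of fun (i : ι) (_ : Unit) => z (f i) b) (z.submatrix f g) := by
    ext i j
    rcases i with i | i <;> rcases j with j | j <;> rfl
  letI : Invertible (Matrix.of fun (_ _ : Unit) => z a b) :=
    ⟨Matrix.of fun (_ _ : Unit) => (z a b)⁻¹, by
      ext i j
      simp [Matrix.mul_apply, Matrix.one_apply, inv_mul_cancel₀ hp], by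
      ext i j
      simp [Matrix.mul_apply, Matrix.one_apply, mul_inv_cancel₀ hp]⟩
  rw [h2, Matrix.det_fromBlocks₁₁] at h1
  have h3 : (Matrix.of fun (_ _ : Unit) => z a b).det = z a b := by
    rw [Matrix.det_unique]; rfl
  rw [h3] at h1
  have h4 := (mul_eq_zero.1 h1).resolve_left hp
  rw [← h4]
  congr 1
  ext i j
  simp only [Matrix.submatrix_apply, Matrix.of_apply, Matrix.sub_apply, Matrix.mul_apply,
    Finset.univ_unique, Finset.sum_singleton]
  rfl

/-- Rank factorisation. -/
theorem exists_factor : ∀ (n : ℕ) (z : Matrix (Fin m) (Fin q) K), MinorsVanish n z →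
    ∃ (U : Matrix (Fin m) (Fin n) K) (W : Matrix (Fin n) (Fin q) K), z = U * W := by
  intro n
  induction n with
  | zero =>
    intro z h
    refine ⟨0, 0, ?_⟩
    ext i j
    have h1 := h (Fin 1) (by simp) (fun _ => i) (fun _ => j)
    rw [Matrix.det_unique] at h1
    simpa using h1
  | succ n ih =>
    intro z h
    by_cases hz : z = 0
    · exact ⟨0, 0, by rw [hz]; simp⟩
    · have : ∃ a b, z a b ≠ 0 := by
        by_contra hcon
        push Not at hcon
        apply hz
        ext i j
        exact hcon i j
      obtain ⟨a, b, hp⟩ := this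
      obtain ⟨U', W', hUW⟩ := ih _ (minorsVanish_schur n z a b hp h)
      refine ⟨Matrix.of fun i k => Fin.snoc (α := fun _ => K) (U' i) (z i b) k,
        Matrix.of fun k j => Fin.snoc (α := fun _ => K) (fun k' => W' k' j) ((z a b)⁻¹ * z a j) k, ?_⟩
      ext i j
      rw [Matrix.mul_apply, Fin.sum_univ_castSucc]
      simp only [Matrix.of_apply, Fin.snoc_castSucc, Fin.snoc_last]
      have h5 := congrFun (congrFun hUW i) j
      rw [Matrix.of_apply, Matrix.mul_apply] at h5
      rw [← h5]
      ring

end Groth.Agent.Lib.RankFactor
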