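import Groth.Agent.Lib.BitabAlg
import Groth.Agent.Lib.RankFactor

/-!
# Second fundamental theorem for `GL_n` acting on pairs of matrices

The kernel of the comorphism of `(U, W) ↦ U W` is the ideal of `(n + 1)`-minors: the standard bitableaux
with minors of size at most `n` stay independent after composing with the product map, because every
matrix of rank at most `n` is a product.
-/

set_option autoImplicit false
set_option linter.unusedSectionVars false
set_option linter.unusedSimpArgs false
universe u
open Finset MvPolynomial W4bk4grassmannian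

noncomputable section

namespace Groth.Agent.Lib.Bitab
open Groth.Agent.Lib.PlSMT Groth.Agent.Lib.CellMinors Groth.Agent.Lib.PlQuadric

section Det
variable {R : Type u} [CommRing R]

/-- A product of an `(n+1) × n` and an `n × (n+1)` matrix has determinant zero. -/
lemma det_mul_of_lt {n : ℕ} (P : Matrix (Fin (n + 1)) (Fin n) R) (Q : Matrix (Fin n) (Fin (n + 1)) R) :
    (P * Q).det = 0 := by
  have h : P * Q =
      (Matrix.of fun (s c : Fin (n + 1)) => Fin.snoc (α := fun _ => R) (P s) 0 c) *
      (Matrix.of fun (c s' : Fin (n + 1)) => Fin.snoc (α := fun _ => R) (fun c' => Q c' s') 0 c) := by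
    ext s s'
    rw [Matrix.mul_apply, Matrix.mul_apply, Fin.sum_univ_castSucc]
    simp
  rw [h, Matrix.det_mul, Matrix.det_eq_zero_of_column_eq_zero (Fin.last n) (fun s => by simp),
    zero_mul]

lemma minorIdeal_eq_bot_of_lt_rows {r d k : ℕ} (N : Matrix (Fin r) (Fin d) R) (h : r < k) :
    CAlgX.minorIdeal N k = ⊥ := by
  unfold CAlgX.minorIdeal
  rw [Ideal.span_eq_bot]
  rintro _ ⟨⟨f, g⟩, rfl⟩
  obtain ⟨a, b, hne, hab⟩ := Fintype.exists_ne_map_eq_of_card_lt f (by simpa using h)
  exact Matrix.det_zero_of_row_eq hne (by ext c; simp [hab])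

lemma minorIdeal_eq_bot_of_lt_cols {r d k : ℕ} (N : Matrix (Fin r) (Fin d) R) (h : d < k) :
    CAlgX.minorIdeal N k = ⊥ := by
  unfold CAlgX.minorIdeal
  rw [Ideal.span_eq_bot]
  rintro _ ⟨⟨f, g⟩, rfl⟩
  obtain ⟨a, b, hne, hab⟩ := Fintype.exists_ne_map_eq_of_card_lt g (by simpa using h)
  exact Matrix.det_zero_of_column_eq hne (fun c => by simp [hab])

end Det

section Pairing
variable (K : Type u) [CommRing K] (n m q : ℕ)

lemma pairingMap_det {k : ℕ} (f : Fin k → Fin m) (g : Fin k → Fin q) :
    pairingMap K n m q (((genMatrix K m q).submatrix f g).det) =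
      ((Matrix.of fun (s : Fin k) (c : Fin n) => (X (Sum.inl (f s, c)) : PairRing K n m q)) *
        (Matrix.of fun (c : Fin n) (s' : Fin k) => (X (Sum.inr (c, g s')) : PairRing K n m q))).det := by
  rw [AlgHom.map_det]
  congr 1
  ext s s'
  simp [pairingMap, genMatrix, Matrix.mul_apply]

lemma minorIdeal_le_ker_pairingMap :
    CAlgX.minorIdeal (genMatrix K m q) (n + 1) ≤ RingHom.ker (pairingMap K n m q).toRingHom := by
  unfold CAlgX.minorIdeal
  rw [Ideal.span_le]
  rintro _ ⟨⟨f, g⟩, rfl⟩
  rw [SetLike.mem_coe, RingHom.mem_ker]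
  show pairingMap K n m q _ = 0
  rw [pairingMap_det, det_mul_of_lt]

lemma eval_pairingMap (U₀ : Matrix (Fin m) (Fin n) K) (W₀ : Matrix (Fin n) (Fin q) K)
    (Φ : MvPolynomial (Fin m × Fin q) K) :
    MvPolynomial.eval (Sum.elim (fun p : Fin m × Fin n => U₀ p.1 p.2)
      (fun p : Fin n × Fin q => W₀ p.1 p.2)) (pairingMap K n m q Φ) =
      MvPolynomial.eval (fun p : Fin m × Fin q => (U₀ * W₀) p.1 p.2) Φ := by
  have h : ((MvPolynomial.aeval (Sum.elim (fun p : Fin m × Fin n => U₀ p.1 p.2)
      (fun p : Fin n × Fin q => W₀ p.1 p.2)) : PairRing K n m q →ₐ[K] K).comp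
      (pairingMap K n m q)) =
      MvPolynomial.aeval (fun p : Fin m × Fin q => (U₀ * W₀) p.1 p.2) := by
    apply MvPolynomial.algHom_ext
    intro p
    simp [pairingMap, Matrix.mul_apply]
  have := congrArg (fun φ : MvPolynomial (Fin m × Fin q) K →ₐ[K] K => φ Φ) h
  simpa [MvPolynomial.aeval_eq_eval] using this

end Pairing


section Core
variable (K : Type u) [Field K] [Infinite K] (m n t : ℕ) (hn : 0 < n) (ht : 1 ≤ t)
  (htm : t ≤ m + 1) (htn : t ≤ n + 1)

include hn ht htm htn in
/-- Independence of standard bitableaux from pointwise vanishing: a combination of standard bitableaux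
(minors of size `< t`) vanishing at every matrix whose `t`-minors vanish has zero coefficients. -/
theorem indep_core (s : Finset (BT m n t)) (g : BT m n t → K)
    (hH : ∀ z : Fin m × Fin n → K,
      (∀ (f : Fin t → Fin m) (g' : Fin t → Fin n),
        MvPolynomial.eval z (((genMatrix K m n).submatrix f g').det) = 0) →
      MvPolynomial.eval z (∑ c ∈ s, g c • ∏ i, minorOf K (c.2.1 i)) = 0) :
    ∀ c ∈ s, g c = 0 := by
  classical
  intro c₀ hc₀
  set ι := wbot (Nat.le_add_right n m) with hι
  set w := wt t htm htn with hw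
  set D := s.sup (fun c => c.1) with hD
  have hDle : ∀ c ∈ s, c.1 ≤ D := fun c hc => Finset.le_sup (f := fun c : BT m n t => c.1) hc
  set F : PlRing K n (n + m) := ∑ c ∈ s, (g c * epsOf K m n t c) •
    (X ι ^ (D - c.1) * chainMon K (thetaSeq m n t c)) with hF
  have hFmon : F = ∑ c ∈ s, monomial (ehOf m n t D c) (g c * epsOf K m n t c) := by
    rw [hF]
    refine Finset.sum_congr rfl fun c _ => ?_
    rw [monomial_ehOf, smul_monomial, smul_eq_mul, mul_one]
  have hXF : X ι * F ∈ schubertVanishing K n (n + m) w := by
    unfold schubertVanishing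
    rw [Ideal.mem_iInf]
    intro A
    rw [Ideal.mem_iInf]
    intro hA
    rw [RingHom.mem_ker]
    show evalMinors K n (n + m) A (X ι * F) = 0
    rw [map_mul]
    have hXι : evalMinors K n (n + m) A (X ι) = (A.submatrix ι.1 id).det := by
      rw [evalMinors, aeval_X]
    by_cases hδ : (A.submatrix ι.1 id).det = 0
    · rw [hXι, hδ, zero_mul]
    · have hterm : ∀ c ∈ s, evalMinors K n (n + m) A
          ((g c * epsOf K m n t c) • (X ι ^ (D - c.1) * chainMon K (thetaSeq m n t c))) =
          (A.submatrix ι.1 id).det ^ D * MvPolynomial.eval (zOf K m n (normA K m n A))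
            (g c • ∏ i, minorOf K (c.2.1 i)) := by
        intro c hc
        have h1 : evalMinors K n (n + m) A (chainMon K (thetaSeq m n t c)) =
            (A.submatrix ι.1 id).det ^ c.1 *
              evalMinors K n (n + m) (normA K m n A) (chainMon K (thetaSeq m n t c)) := by
          unfold chainMon
          rw [map_prod, map_prod]
          have : ∀ i : Fin c.1, evalMinors K n (n + m) A (X (thetaSeq m n t c i)) =
              (A.submatrix ι.1 id).det * evalMinors K n (n + m) (normA K m n A)
                (X (thetaSeq m n t c i)) := by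
            intro i
            rw [evalMinors, aeval_X, evalMinors, aeval_X]
            exact det_submatrix_eq K m n A hδ _
          rw [Finset.prod_congr rfl fun i _ => this i, Finset.prod_mul_distrib,
            Finset.prod_const, Finset.card_univ, Fintype.card_fin]
        rw [map_smul, map_mul, map_pow, hXι, h1,
          evalMinors_eq_eval_Psi K m n _ (normA_top K m n A hδ), Psi_chainMon_thetaSeq,
          smul_eq_mul, Algebra.smul_def, Algebra.smul_def, map_mul, map_mul,
          MvPolynomial.algebraMap_eq, eval_C, eval_C]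
        have hpow : (A.submatrix ι.1 id).det ^ D =
            (A.submatrix ι.1 id).det ^ (D - c.1) * (A.submatrix ι.1 id).det ^ c.1 := by
          rw [← pow_add, Nat.sub_add_cancel (hDle c hc)]
        have heps := epsOf_mul_self K m n t c
        rw [hpow]
        calc g c * epsOf K m n t c * ((A.submatrix ι.1 id).det ^ (D - c.1) *
              ((A.submatrix ι.1 id).det ^ c.1 * (epsOf K m n t c *
                (MvPolynomial.eval (zOf K m n (normA K m n A))) (∏ i, minorOf K (c.2.1 i))))) =
            (epsOf K m n t c * epsOf K m n t c) * ((A.submatrix ι.1 id).det ^ (D - c.1) *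
              (A.submatrix ι.1 id).det ^ c.1 * (g c *
                (MvPolynomial.eval (zOf K m n (normA K m n A))) (∏ i, minorOf K (c.2.1 i)))) := by
              ring
          _ = _ := by rw [heps, one_mul]
      have hvan : ∀ (f : Fin t → Fin m) (g' : Fin t → Fin n),
          MvPolynomial.eval (zOf K m n (normA K m n A))
            (((genMatrix K m n).submatrix f g').det) = 0 := by
        intro f g'
        apply eval_minorIdeal_eq_zero K m n t ht htm htn A hA hδ
        unfold CAlgX.minorIdeal
        exact Ideal.subset_span ⟨(f, g'), rfl⟩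
      rw [hF, map_sum, Finset.sum_congr rfl hterm, ← Finset.mul_sum, ← map_sum,
        hH _ hvan, mul_zero, mul_zero]
  have hdom := isDomain_schB K hn w
  have hprime : (schubertVanishing K n (n + m) w).IsPrime :=
    (Ideal.Quotient.isDomain_iff_prime _).1 hdom
  have hXι : (X ι : PlRing K n (n + m)) ∉ schubertVanishing K n (n + m) w := by
    intro h
    have h0 := eq_zero_of_mem_schubert_of_std K hn w (X ι) h (by
      intro e he
      rw [MvPolynomial.support_X, Finset.mem_singleton] at he
      rw [he]
      exact isStdOn_single w ⟨ι, wbot_le _ _⟩)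
    exact MvPolynomial.X_ne_zero ι h0
  have hFmem : F ∈ schubertVanishing K n (n + m) w := (hprime.mem_or_mem hXF).resolve_left hXι
  have hFzero : F = 0 := by
    apply eq_zero_of_mem_schubert_of_std K hn w F hFmem
    intro e he
    rw [hFmon] at he
    have h1 := MvPolynomial.support_sum he
    rw [Finset.mem_biUnion] at h1
    obtain ⟨c, -, hl⟩ := h1
    have := MvPolynomial.support_monomial_subset hl
    rw [Finset.mem_singleton] at this
    rw [this]
    exact isStdOn_ehOf m n t ht htm htn D c
  have hcoeff : coeff (ehOf m n t D c₀) F = g c₀ * epsOf K m n t c₀ := by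
    rw [hFmon, MvPolynomial.coeff_sum]
    simp only [MvPolynomial.coeff_monomial]
    rw [Finset.sum_eq_single c₀]
    · rw [if_pos rfl]
    · intro c hc hne
      rw [if_neg]
      intro h
      exact hne (ehOf_injective m n t D c c₀ h)
    · intro h; exact absurd hc₀ h
  rw [hFzero, MvPolynomial.coeff_zero] at hcoeff
  have : g c₀ * (epsOf K m n t c₀ * epsOf K m n t c₀) = 0 := by
    rw [← mul_assoc, ← hcoeff, zero_mul]
  rwa [epsOf_mul_self, mul_one] at this

end Core


section SFT
variable (K : Type u) [Field K] [Infinite K] (m n q : ℕ)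

open Groth.Agent.Lib.RankFactor in
/-- Second fundamental theorem: the kernel of the product comorphism is the ideal of `(n+1)`-minors. -/
theorem ker_pairingMap :
    RingHom.ker (pairingMap K n m q).toRingHom = CAlgX.minorIdeal (genMatrix K m q) (n + 1) := by
  classical
  apply le_antisymm _ (minorIdeal_le_ker_pairingMap K n m q)
  rcases Nat.eq_zero_or_pos q with hq | hq
  · subst hq
    intro f hf
    rw [RingHom.mem_ker] at hf
    have hf' : pairingMap K n m 0 f = 0 := hf
    have : IsEmpty (Fin m × Fin 0) := ⟨fun p => p.2.elim0⟩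
    rw [MvPolynomial.eq_C_of_isEmpty f] at hf' ⊢
    rw [pairingMap, MvPolynomial.aeval_C, MvPolynomial.algebraMap_eq, MvPolynomial.C_eq_zero] at hf'
    rw [hf', map_zero]
    exact Ideal.zero_mem _
  · set t := min (n + 1) (min m q + 1) with htdef
    have ht : 1 ≤ t := by rw [htdef]; omega
    have htm : t ≤ m + 1 := by rw [htdef]; omega
    have htq : t ≤ q + 1 := by rw [htdef]; omega
    have htn1 : t ≤ n + 1 := by rw [htdef]; omega
    have hIt : CAlgX.minorIdeal (genMatrix K m q) t = CAlgX.minorIdeal (genMatrix K m q) (n + 1) := by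
      by_cases h : n + 1 ≤ min m q + 1
      · rw [htdef, min_eq_left h]
      · rcases le_total m q with hmq | hmq
        · rw [minorIdeal_eq_bot_of_lt_rows _ (by rw [htdef]; omega : m < t),
            minorIdeal_eq_bot_of_lt_rows _ (by omega : m < n + 1)]
        · rw [minorIdeal_eq_bot_of_lt_cols _ (by rw [htdef]; omega : q < t),
            minorIdeal_eq_bot_of_lt_cols _ (by omega : q < n + 1)]
    intro f hf
    have hspan := span_bitab K m q t ht htm htq
    have hmem : Ideal.Quotient.mk (CAlgX.minorIdeal (genMatrix K m q) t) f ∈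
        Submodule.span K (Set.range (bvec K m q t)) := by rw [hspan]; trivial
    obtain ⟨l, hl⟩ := Finsupp.mem_span_range_iff_exists_finsupp.1 hmem
    set Φ : MvPolynomial (Fin m × Fin q) K := ∑ c ∈ l.support, l c • ∏ i, minorOf K (c.2.1 i)
      with hΦdef
    have hΦ : f - Φ ∈ CAlgX.minorIdeal (genMatrix K m q) t := by
      rw [← Ideal.Quotient.eq, ← hl, hΦdef, map_sum]
      unfold Finsupp.sum
      refine Finset.sum_congr rfl fun c _ => ?_
      show l c • bvec K m q t c = _
      unfold bvec
      rw [Algebra.smul_def, Algebra.smul_def, map_mul]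
      rfl
    have hΦker : pairingMap K n m q Φ = 0 := by
      have h1 : pairingMap K n m q (f - Φ) = 0 :=
        minorIdeal_le_ker_pairingMap K n m q (hIt ▸ hΦ)
      have h2 : pairingMap K n m q f = 0 := hf
      rw [map_sub, h2, zero_sub, neg_eq_zero] at h1
      exact h1
    have hH : ∀ z : Fin m × Fin q → K,
        (∀ (f : Fin t → Fin m) (g' : Fin t → Fin q),
          MvPolynomial.eval z (((genMatrix K m q).submatrix f g').det) = 0) →
        MvPolynomial.eval z (∑ c ∈ l.support, l c • ∏ i, minorOf K (c.2.1 i)) = 0 := by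
      intro z hz
      set Z₀ : Matrix (Fin m) (Fin q) K := Matrix.of fun i j => z (i, j) with hZ₀
      have hdet : ∀ {k : ℕ} (f : Fin k → Fin m) (g' : Fin k → Fin q),
          MvPolynomial.eval z (((genMatrix K m q).submatrix f g').det) = (Z₀.submatrix f g').det := by
        intro k f g'
        rw [RingHom.map_det]
        congr 1
        ext s c
        simp [genMatrix, hZ₀]
      have h1 : CAlgX.minorIdeal Z₀ t = ⊥ := by
        unfold CAlgX.minorIdeal
        rw [Ideal.span_eq_bot]
        rintro _ ⟨⟨f, g'⟩, rfl⟩
        show (Z₀.submatrix f g').det = 0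
        rw [← hdet]
        exact hz f g'
      have h2 : CAlgX.minorIdeal Z₀ (n + 1) = ⊥ :=
        le_bot_iff.1 (h1 ▸ minorIdeal_antitone Z₀ htn1)
      have h3 : MinorsVanish n Z₀ := minorsVanish_of_fin n Z₀ (fun f g' => by
        have : (Z₀.submatrix f g').det ∈ CAlgX.minorIdeal Z₀ (n + 1) :=
          Ideal.subset_span ⟨(f, g'), rfl⟩
        rw [h2] at this
        exact this)
      obtain ⟨U₀, W₀, hUW⟩ := exists_factor n Z₀ h3
      have hz' : z = fun p : Fin m × Fin q => (U₀ * W₀) p.1 p.2 := by
        funext p
        rw [← hUW]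
        rfl
      rw [hz', ← eval_pairingMap, hΦker, map_zero]
    have hzero := indep_core K m q t hq ht htm htq l.support (fun c => l c) hH
    have hΦ0 : Φ = 0 := by
      rw [hΦdef]
      refine Finset.sum_eq_zero fun c hc => ?_
      rw [hzero c hc, zero_smul]
    rw [hΦ0, sub_zero, hIt] at hΦ
    exact hΦ

end SFT

end Groth.Agent.Lib.Bitab
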