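import Groth.Agent.Lib.ExtReal31

/-!
# Blended extensions exist iff the Yoneda product of the two extension classes vanishes (helper31)
-/

set_option autoImplicit false

universe w v u

open CategoryTheory Limits Abelian

namespace Groth.Agent.Blended31

variable {C : Type u} [Category.{v} C] [Abelian C] [HasExt.{w} C]
  {P F R E Q : C} (a : P ⟶ F) (b : F ⟶ R) (wF : a ≫ b = 0)
  (hF : (ShortComplex.mk a b wF).ShortExact) (c : R ⟶ E) (d : E ⟶ Q) (wE : c ≫ d = 0)
  (hE : (ShortComplex.mk c d wE).ShortExact)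

include hF hE in
/-- If a blended extension exists, the Yoneda product vanishes. -/
lemma comp_eq_zero_of_blended {X : C} (i : F ⟶ X) (p : X ⟶ E) (h1 : i ≫ p = b ≫ c)
    (w : i ≫ (p ≫ d) = 0) (hX : (ShortComplex.mk i (p ≫ d) w).ShortExact) :
    hE.extClass.comp hF.extClass (rfl : 1 + 1 = 2) = 0 := by
  let ψ : ShortComplex.mk i (p ≫ d) w ⟶ ShortComplex.mk c d wE :=
    { τ₁ := b
      τ₂ := p
      τ₃ := 𝟙 _
      comm₁₂ := h1.symm
      comm₂₃ := by
        dsimp
        rw [Category.comp_id] }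
  have h := ShortComplex.ShortExact.extClass_naturality hX hE ψ
  dsimp [ψ] at h
  rw [Ext.mk₀_id_comp] at h
  rw [← h, Ext.comp_assoc_of_second_deg_zero]
  have h2 : (Ext.mk₀ b).comp hF.extClass (zero_add 1) = 0 := hF.comp_extClass
  rw [h2, Ext.comp_zero]

include hF hE in
/-- If the Yoneda product vanishes, a blended extension exists. -/
lemma exists_blended (h0 : hE.extClass.comp hF.extClass (rfl : 1 + 1 = 2) = 0) :
    ∃ (X : C) (i : F ⟶ X) (p : X ⟶ E), i ≫ p = b ≫ c ∧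
      (∃ w : (a ≫ i) ≫ p = 0, (ShortComplex.mk (a ≫ i) p w).ShortExact) ∧
      (∃ w : i ≫ (p ≫ d) = 0, (ShortComplex.mk i (p ≫ d) w).ShortExact) := by
  have := hF.mono_f
  have := hF.epi_g
  have := hE.mono_f
  have := hE.epi_g
  dsimp only at *
  -- Step 1: lift the class of `E` to `Ext¹(Q, F)` and realize it
  obtain ⟨x₂, hx₂⟩ := Ext.covariant_sequence_exact₃ Q hF hE.extClass rfl h0
  obtain ⟨X, i, q, w, hX, rfl⟩ := ExtReal31.exists_shortExact_extClass_eq x₂
  have := hX.mono_f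
  have := hX.epi_g
  dsimp only at *
  -- Step 2: lift `q` to `p₀ : X ⟶ E`
  have hq : (Ext.mk₀ q).comp hE.extClass (zero_add 1) = 0 := by
    rw [← hx₂, ← Ext.comp_assoc_of_third_deg_zero]
    have h2 : (Ext.mk₀ q).comp hX.extClass (zero_add 1) = 0 := hX.comp_extClass
    rw [h2, Ext.zero_comp]
  obtain ⟨y, hy⟩ := Ext.covariant_sequence_exact₃ X hE (Ext.mk₀ q) (zero_add 1) hq
  obtain ⟨p₀, rfl⟩ := (Ext.mk₀_bijective _ _).surjective y
  have hp₀ : p₀ ≫ d = q := by
    apply (Ext.mk₀_bijective _ _).injective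
    rw [← Ext.mk₀_comp_mk₀]
    exact hy
  -- Step 3: `i ≫ p₀ = β ≫ c`
  have h3 : (i ≫ p₀) ≫ d = 0 := by rw [Category.assoc, hp₀, w]
  let β : F ⟶ R := hE.exact.lift (i ≫ p₀) h3
  have hβ : β ≫ c = i ≫ p₀ := hE.exact.lift_f _ _
  -- Step 4: `(b - β)_*` kills the class of `X`
  let ψ : ShortComplex.mk i q w ⟶ ShortComplex.mk c d wE :=
    { τ₁ := β
      τ₂ := p₀
      τ₃ := 𝟙 _
      comm₁₂ := hβ
      comm₂₃ := by
        dsimp
        rw [Category.comp_id, hp₀] }
  have h4 := ShortComplex.ShortExact.extClass_naturality hX hE ψ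
  dsimp [ψ] at h4
  rw [Ext.mk₀_id_comp] at h4
  have h5 : hX.extClass.comp (Ext.mk₀ (b - β)) (add_zero 1) = 0 := by
    rw [sub_eq_add_neg, Ext.mk₀_add, Ext.comp_add, Ext.mk₀_neg, Ext.comp_neg, h4, hx₂,
      add_neg_cancel]
  -- Step 5: `t : X ⟶ R` with `i ≫ t = b - β`
  obtain ⟨z, hz⟩ := Ext.contravariant_sequence_exact₁ hX R (Ext.mk₀ (b - β)) (add_zero 1) h5
  obtain ⟨t, rfl⟩ := (Ext.mk₀_bijective _ _).surjective z
  have ht : i ≫ t = b - β := by
    apply (Ext.mk₀_bijective _ _).injective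
    rw [← Ext.mk₀_comp_mk₀]
    exact hz
  -- the blended extension
  have hpd : (p₀ + t ≫ c) ≫ d = q := by
    rw [Preadditive.add_comp, Category.assoc, wE, comp_zero, add_zero, hp₀]
  have hip : i ≫ (p₀ + t ≫ c) = b ≫ c := by
    rw [Preadditive.comp_add, ← Category.assoc, ht, Preadditive.sub_comp, hβ]
    abel
  refine ⟨X, i, p₀ + t ≫ c, hip, ?_, ?_⟩
  · have w' : (a ≫ i) ≫ (p₀ + t ≫ c) = 0 := by
      rw [Category.assoc, hip, ← Category.assoc, wF, zero_comp]
    refine ⟨w', ?_⟩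
    have hmono : Mono (a ≫ i) := mono_comp _ _
    have hepi : Epi (p₀ + t ≫ c) := by
      rw [epi_iff_surjective_up_to_refinements]
      intro T e
      obtain ⟨T₁, π₁, _, x, hx⟩ := surjective_up_to_refinements_of_epi q (e ≫ d)
      have h6 : (π₁ ≫ e - x ≫ (p₀ + t ≫ c)) ≫ d = 0 := by
        rw [Preadditive.sub_comp, Category.assoc, Category.assoc, hpd, hx, sub_self]
      obtain ⟨T₂, π₂, _, r, hr⟩ := hE.exact.exact_up_to_refinements _ h6
      dsimp only at hr
      obtain ⟨T₃, π₃, _, f, hf⟩ := surjective_up_to_refinements_of_epi b r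
      refine ⟨T₃, π₃ ≫ π₂ ≫ π₁, inferInstance, f ≫ i + π₃ ≫ π₂ ≫ x, ?_⟩
      have e1 : (f ≫ i) ≫ (p₀ + t ≫ c) = π₃ ≫ π₂ ≫ (π₁ ≫ e - x ≫ (p₀ + t ≫ c)) := by
        rw [Category.assoc, hip, ← Category.assoc, ← hf, Category.assoc, ← hr]
      rw [Preadditive.add_comp, e1]
      simp only [Preadditive.comp_sub, Category.assoc]
      abel
    have hex : (ShortComplex.mk (a ≫ i) (p₀ + t ≫ c) w').Exact := by
      rw [ShortComplex.exact_iff_exact_up_to_refinements]
      intro T x hx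
      dsimp only at x hx ⊢
      have h7 : x ≫ q = 0 := by rw [← hpd, ← Category.assoc, hx, zero_comp]
      obtain ⟨T₁, π₁, _, y, hy⟩ := hX.exact.exact_up_to_refinements x h7
      dsimp only at y hy
      have h8 : (y ≫ b) ≫ c = 0 := by
        rw [Category.assoc, ← hip, ← Category.assoc, ← hy, Category.assoc, hx, comp_zero]
      have h9 : y ≫ b = 0 := by rw [← cancel_mono c, h8, zero_comp]
      obtain ⟨T₂, π₂, _, z, hz⟩ := hF.exact.exact_up_to_refinements y h9
      dsimp only at z hz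
      refine ⟨T₂, π₂ ≫ π₁, inferInstance, z, ?_⟩
      rw [Category.assoc, hy, ← Category.assoc, hz, Category.assoc]
    exact { exact := hex, mono_f := hmono, epi_g := hepi }
  · have key : ∀ (q' : X ⟶ Q), q' = q → ∃ w : i ≫ q' = 0, (ShortComplex.mk i q' w).ShortExact := by
      rintro _ rfl
      exact ⟨w, hX⟩
    exact key _ hpd

end Groth.Agent.Blended31
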