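import Groth.Prelude.Def_BlowUp2
import Mathlib.RingTheory.Localization.Away.Basic
import Mathlib.RingTheory.Ideal.Maps
import Mathlib.RingTheory.Ideal.Operations

/-!
# The affine blow-up algebra `A[I/π]` (helper82)

* `frac π y n = y / π ^ n` in `Localization.Away π`, with its arithmetic.
* `mem_affineAlgebra_iff`: for `π ∈ I`, `x ∈ A[I/π] ↔ ∃ n, ∃ y ∈ I ^ n, x = y / π ^ n`.
* `frac_eq_zero_iff`, `awayMap_frac`.
-/

set_option autoImplicit false

universe u

namespace Groth.Agent.Lib.BlowUpAffine82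

variable {A : Type u} [CommRing A] (I : Ideal A) (π : A)

/-- The fraction `y / π ^ n`. -/
noncomputable def frac (y : A) (n : ℕ) : Localization.Away π :=
  IsLocalization.mk' (Localization.Away π) y (⟨π ^ n, n, rfl⟩ : Submonoid.powers π)

theorem frac_mul_pow (y : A) (n : ℕ) :
    frac π y n * algebraMap A (Localization.Away π) (π ^ n) = algebraMap A _ y :=
  IsLocalization.mk'_spec _ _ _

theorem isUnit_algebraMap_pow (n : ℕ) : IsUnit (algebraMap A (Localization.Away π) (π ^ n)) :=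
  IsLocalization.map_units (Localization.Away π) (⟨π ^ n, n, rfl⟩ : Submonoid.powers π)

theorem eq_frac_iff (x : Localization.Away π) (y : A) (n : ℕ) :
    x = frac π y n ↔ x * algebraMap A (Localization.Away π) (π ^ n) = algebraMap A _ y := by
  rw [eq_comm, frac, IsLocalization.mk'_eq_iff_eq_mul, eq_comm]

theorem frac_zero (y : A) : frac π y 0 = algebraMap A _ y := by
  rw [eq_comm, eq_frac_iff, pow_zero, map_one, mul_one]

theorem frac_mul (y₁ y₂ : A) (n₁ n₂ : ℕ) :
    frac π y₁ n₁ * frac π y₂ n₂ = frac π (y₁ * y₂) (n₁ + n₂) := by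
  rw [eq_frac_iff, pow_add, map_mul, map_mul, ← frac_mul_pow π y₁ n₁, ← frac_mul_pow π y₂ n₂]
  ring

theorem frac_add (y₁ y₂ : A) (n₁ n₂ : ℕ) :
    frac π y₁ n₁ + frac π y₂ n₂ = frac π (π ^ n₂ * y₁ + π ^ n₁ * y₂) (n₁ + n₂) := by
  rw [eq_frac_iff, pow_add, map_mul, map_add, map_mul, map_mul, ← frac_mul_pow π y₁ n₁,
    ← frac_mul_pow π y₂ n₂]
  ring

theorem frac_mul_algebraMap (y c : A) (n : ℕ) :
    frac π (y * c) n = frac π y n * algebraMap A (Localization.Away π) c := by
  rw [eq_comm, eq_frac_iff, map_mul, ← frac_mul_pow π y n]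
  ring

theorem frac_eq_zero_iff (y : A) (n : ℕ) : frac π y n = 0 ↔ ∃ m : ℕ, π ^ m * y = 0 := by
  rw [frac, IsLocalization.mk'_eq_zero_iff]
  constructor
  · rintro ⟨⟨_, m, rfl⟩, hm⟩
    exact ⟨m, hm⟩
  · rintro ⟨m, hm⟩
    exact ⟨⟨π ^ m, m, rfl⟩, hm⟩

theorem awayMap_frac {B : Type u} [CommRing B] (f : A →+* B) (y : A) (n : ℕ) :
    Localization.awayMap f π (frac π y n) = frac (f π) (f y) n := by
  rw [eq_frac_iff, ← map_pow]
  have h1 : algebraMap B (Localization.Away (f π)) (f (π ^ n)) =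
      Localization.awayMap f π (algebraMap A _ (π ^ n)) := (IsLocalization.map_eq _ _).symm
  have h2 : algebraMap B (Localization.Away (f π)) (f y) =
      Localization.awayMap f π (algebraMap A _ y) := (IsLocalization.map_eq _ _).symm
  rw [h1, h2, ← map_mul, frac_mul_pow]

variable {I π}

theorem frac_mem (hπ : π ∈ I) : ∀ (n : ℕ) (y : A), y ∈ I ^ n →
    frac π y n ∈ BlowUp.affineAlgebra A I π := by
  intro n
  induction n with
  | zero =>
    intro y _
    rw [frac_zero]
    exact Subalgebra.algebraMap_mem _ y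
  | succ n ih =>
    intro y hy
    rw [pow_succ] at hy
    refine Submodule.mul_induction_on hy ?_ ?_
    · intro b hb a ha
      have : frac π (b * a) (n + 1) = frac π b n * frac π a 1 := (frac_mul π b a n 1).symm
      rw [this]
      refine Subalgebra.mul_mem _ (ih b hb) ?_
      apply Algebra.subset_adjoin
      refine ⟨a, ha, ?_⟩
      rw [frac]
      congr 1
      exact Subtype.ext (pow_one π)
    · intro y z hy hz
      have : frac π (y + z) (n + 1) = frac π y (n + 1) + frac π z (n + 1) := by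
        rw [eq_comm, eq_frac_iff, add_mul, frac_mul_pow, frac_mul_pow, map_add]
      rw [this]
      exact Subalgebra.add_mem _ hy hz

theorem mem_affineAlgebra_iff (hπ : π ∈ I) (x : Localization.Away π) :
    x ∈ BlowUp.affineAlgebra A I π ↔ ∃ (n : ℕ) (y : A), y ∈ I ^ n ∧ x = frac π y n := by
  constructor
  · intro hx
    rw [BlowUp.affineAlgebra] at hx
    induction hx using Algebra.adjoin_induction with
    | mem x hx =>
      obtain ⟨a, ha, rfl⟩ := hx
      refine ⟨1, a, by rwa [pow_one], ?_⟩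
      rw [frac]
      congr 1
      exact Subtype.ext (pow_one π).symm
    | algebraMap r =>
      exact ⟨0, r, by simp, (frac_zero π r).symm⟩
    | add x y _ _ hx hy =>
      obtain ⟨n₁, y₁, hy₁, rfl⟩ := hx
      obtain ⟨n₂, y₂, hy₂, rfl⟩ := hy
      refine ⟨n₁ + n₂, π ^ n₂ * y₁ + π ^ n₁ * y₂, ?_, frac_add π y₁ y₂ n₁ n₂⟩
      apply Ideal.add_mem
      · rw [add_comm n₁ n₂, pow_add]
        exact Ideal.mul_mem_mul (Ideal.pow_mem_pow hπ n₂) hy₁
      · rw [pow_add]
        exact Ideal.mul_mem_mul (Ideal.pow_mem_pow hπ n₁) hy₂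
    | mul x y _ _ hx hy =>
      obtain ⟨n₁, y₁, hy₁, rfl⟩ := hx
      obtain ⟨n₂, y₂, hy₂, rfl⟩ := hy
      refine ⟨n₁ + n₂, y₁ * y₂, ?_, frac_mul π y₁ y₂ n₁ n₂⟩
      rw [pow_add]
      exact Ideal.mul_mem_mul hy₁ hy₂
  · rintro ⟨n, y, hy, rfl⟩
    exact frac_mem hπ n y hy

end Groth.Agent.Lib.BlowUpAffine82
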