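import Groth.Agent.Lib.BlowUpProper68
import Groth.Agent.Lib.BlowUpAffine82

/-!
# Global generation on a blowing up of an affine scheme (helper68)

For `b : Y ⟶ Spec A` a blowing up in a finitely generated ideal `I` and `𝓙` an ideal sheaf of finite
type on `Y`, the ideal `𝓙 * 𝓔 ^ D` (`𝓔` the exceptional ideal) is, for `D` large, generated by images
of elements of `A` (the exceptional ideal is relatively ample).
-/

set_option autoImplicit false
universe u
open CategoryTheory CategoryTheory.Limits AlgebraicGeometry TopologicalSpace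

namespace Groth.Agent.Lib.BlowUpAmple68

open Groth.Agent.Lib.SectionDiv Groth.Agent.Lib.BlowUpAffine Groth.Agent.Lib.AffineBlowupAlg
open Groth.Agent.Lib.RelCartier Groth.Agent.Lib.BlowUpUniv Groth.Agent.Lib.AffineBlowupChart
open Groth.Agent.Lib.BlowUpProperAlg68 Groth.Agent.Lib.BlowUpProper68

variable {A : Type u} [CommRing A] {I : Ideal A} {Y : Scheme.{u}}
  {b : Y ⟶ Spec (CommRingCat.of A)}

/-- Elements of `A[I/a]` have the form `x / a ^ d` with `x ∈ I ^ d`. -/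
theorem exists_pow_mul_eq (a : A) (ha : a ∈ I) (z : Bl I a) :
    ∃ (d : ℕ) (x : A), x ∈ I ^ d ∧ algebraMap A (Bl I a) a ^ d * z = algebraMap A (Bl I a) x := by
  obtain ⟨d, x, hx, hz⟩ := (Groth.Agent.Lib.BlowUpAffine82.mem_affineAlgebra_iff (π := a) ha z.1).mp z.2
  refine ⟨d, x, hx, Subtype.ext ?_⟩
  change (algebraMap A (Localization.Away a) a) ^ d * z.1 = algebraMap A (Localization.Away a) x
  rw [hz, mul_comm, ← map_pow, Groth.Agent.Lib.BlowUpAffine82.frac_mul_pow]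

/-- The sections over the chart of `a ∈ I` are `A[I/a]`, compatibly with the maps from `A`. -/
theorem exists_chartRingEquiv (hb : BlowUp.IsBlowUp b (Curv2.idealSheaf A I)) (a : A) (ha : a ∈ I) :
    IsAffineOpen (chartOpen I b a) ∧
    ∃ Ψ : Bl I a ≃+* Γ(Y, chartOpen I b a),
      ∀ x : A, Ψ (algebraMap A (Bl I a) x) = rho A b (chartOpen I b a) x := by
  set O : Y.Opens := chartOpen I b a with hO
  obtain ⟨e, he⟩ : ∃ e : (O : Scheme.{u}) ≅ Spec (CommRingCat.of (Bl I a)),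
      e.hom ≫ chartStr I a = O.ι ≫ b := exists_chartIso hb a ha
  have haff : IsAffineOpen O := IsAffine.of_isIso e.hom
  refine ⟨haff, ?_⟩
  have h1 : rho A (O.ι ≫ b) ⊤ = (O.ι.appLE O ⊤ O.ι_preimage_self.ge).hom.comp (rho A b O) :=
    rho_comp O.ι b O ⊤ O.ι_preimage_self.ge
  have h2 : rho A (e.hom ≫ chartStr I a) ⊤ =
      (e.hom.appLE ⊤ ⊤ le_top).hom.comp (rho A (chartStr I a) ⊤) :=
    rho_comp e.hom (chartStr I a) ⊤ ⊤ le_top
  have h3 : rho A (chartStr I a) ⊤ =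
      (Scheme.ΓSpecIso (CommRingCat.of (Bl I a))).inv.hom.comp (algebraMap A (Bl I a)) := by
    unfold rho
    rw [gamma_SpecMap, res_top, RingHom.id_comp]
  rw [he] at h2
  let α : Γ(Y, O) ≅ Γ(O.toScheme, ⊤) := asIso (O.ι.appLE O ⊤ O.ι_preimage_self.ge)
  have hiso : IsIso (e.hom.appLE ⊤ ⊤ le_top) := by
    have h : IsIso (e.hom.app ⊤) := inferInstance
    rwa [Scheme.Hom.app_eq_appLE] at h
  let β : CommRingCat.of (Bl I a) ≅ Γ(O.toScheme, ⊤) :=
    (Scheme.ΓSpecIso (CommRingCat.of (Bl I a))).symm ≪≫ asIso (e.hom.appLE ⊤ ⊤ le_top)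
  refine ⟨(β ≪≫ α.symm).commRingCatIsoToRingEquiv, fun x => ?_⟩
  have h4 := congrArg (fun f => f x) (h1.symm.trans h2)
  simp only [RingHom.comp_apply, h3] at h4
  change α.inv.hom ((e.hom.appLE ⊤ ⊤ le_top).hom
    ((Scheme.ΓSpecIso (CommRingCat.of (Bl I a))).inv.hom (algebraMap A (Bl I a) x))) = _
  rw [← h4]
  change (α.hom ≫ α.inv).hom _ = _
  rw [α.hom_inv_id]
  rfl

section chart

variable (hb : BlowUp.IsBlowUp b (Curv2.idealSheaf A I)) (a : A) (ha : a ∈ I)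

include hb ha

theorem isAffineOpen_chartOpen : IsAffineOpen (chartOpen I b a) :=
  (exists_chartRingEquiv hb a ha).1

theorem isGood_chartOpen : IsGood A I b a (chartOpen I b a) := by
  obtain ⟨-, Ψ, hΨ⟩ := exists_chartRingEquiv hb a ha
  have h1 : rho A b (chartOpen I b a) = (Ψ : Bl I a →+* _).comp (algebraMap A (Bl I a)) := by
    ext x
    exact (hΨ x).symm
  unfold IsGood
  rw [h1, ← Ideal.map_map, map_eq_span I a ha, Ideal.map_span, Set.image_singleton]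
  rfl

theorem rho_chartOpen_mem_nonZeroDivisors :
    rho A b (chartOpen I b a) a ∈ nonZeroDivisors Γ(Y, chartOpen I b a) := by
  obtain ⟨-, Ψ, hΨ⟩ := exists_chartRingEquiv hb a ha
  rw [← hΨ a, mem_nonZeroDivisors_iff_right]
  intro x hx
  have h1 : Ψ.symm x * algebraMap A (Bl I a) a = 0 := by
    apply Ψ.injective
    rw [map_mul, Ψ.apply_symm_apply, hx, map_zero]
  have h2 := (mem_nonZeroDivisors_iff_right.mp (algebraMap_mem_nonZeroDivisors I a)) _ h1
  rw [← Ψ.apply_symm_apply x, h2, map_zero]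

theorem exists_pow_mul_eq_rho (y : Γ(Y, chartOpen I b a)) :
    ∃ (d : ℕ) (x : A), x ∈ I ^ d ∧
      rho A b (chartOpen I b a) a ^ d * y = rho A b (chartOpen I b a) x := by
  obtain ⟨-, Ψ, hΨ⟩ := exists_chartRingEquiv hb a ha
  obtain ⟨d, x, hx, hz⟩ := exists_pow_mul_eq a ha (Ψ.symm y)
  refine ⟨d, x, hx, ?_⟩
  have := congrArg Ψ hz
  rwa [map_mul, map_pow, Ψ.apply_symm_apply, hΨ, hΨ] at this

omit ha in
/-- The overlap of two charts contains a basic open of the second one. -/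
theorem basicOpen_le_chartOpen (a' : A) (ha' : a' ∈ I) (t : Γ(Y, chartOpen I b a'))
    (ht : rho A b (chartOpen I b a') a = t * rho A b (chartOpen I b a') a') :
    Y.basicOpen t ≤ chartOpen I b a := by
  have hgood := isGood_chartOpen hb a' ha'
  exact le_chartOpen I
    (Y.affineBasicOpen (U := ⟨chartOpen I b a', isAffineOpen_chartOpen hb a' ha'⟩) t)
    (isGood_basicOpen I ⟨chartOpen I b a', isAffineOpen_chartOpen hb a' ha'⟩ _ t hgood ht)

end chart

/-- The ring-theoretic heart of global generation. -/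
theorem ring_key {C Ct : Type*} [CommRing C] [CommRing Ct] [Algebra C Ct] (t : C)
    [IsLocalization.Away t Ct] (κ : C) (hκ : κ ∈ nonZeroDivisors C) (J : Ideal C) (x' : C) (d : ℕ)
    (yt : Ct) (hy : yt ∈ J.map (algebraMap C Ct))
    (heq : algebraMap C Ct (t * κ) ^ d * yt = algebraMap C Ct (x' * κ ^ d)) :
    ∃ D₁ : ℕ, ∀ D : ℕ, D₁ ≤ D → d ≤ D ∧
      ∃ z ∈ J, (t * κ) ^ (D - d) * (x' * κ ^ d) = z * κ ^ D := by
  obtain ⟨⟨⟨z₀, hz₀⟩, ⟨_, N, rfl⟩⟩, hzN⟩ :=
    (IsLocalization.mem_map_algebraMap_iff (Submonoid.powers t) _).1 hy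
  simp only at hzN
  have h1 : algebraMap C Ct ((t * κ) ^ d * z₀) = algebraMap C Ct (x' * κ ^ d * t ^ N) := by
    rw [map_mul, ← hzN, map_pow, ← mul_assoc, heq, map_mul (algebraMap C Ct) (x' * κ ^ d)]
  rw [IsLocalization.eq_iff_exists (Submonoid.powers t)] at h1
  obtain ⟨⟨_, M, rfl⟩, hM⟩ := h1
  simp only at hM
  have h2 : t ^ (M + d) * z₀ = t ^ (M + N) * x' := by
    have h3 : (t ^ (M + d) * z₀ - t ^ (M + N) * x') * κ ^ d = 0 := by
      have : (t ^ (M + d) * z₀ - t ^ (M + N) * x') * κ ^ d =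
          t ^ M * ((t * κ) ^ d * z₀) - t ^ M * (x' * κ ^ d * t ^ N) := by
        rw [mul_pow]; ring
      rw [this, hM, sub_self]
    exact sub_eq_zero.mp (mem_nonZeroDivisors_iff_right.mp (pow_mem hκ d) _ h3)
  refine ⟨d + N + M, fun D hD => ⟨by omega, ?_⟩⟩
  obtain ⟨k, rfl⟩ := Nat.exists_eq_add_of_le hD
  refine ⟨t ^ (k + M + d) * z₀, J.mul_mem_left _ hz₀, ?_⟩
  have e1 : d + N + M + k - d = N + M + k := by omega
  rw [e1]
  have e2 : t ^ (k + M + d) * z₀ = t ^ k * (t ^ (M + d) * z₀) := by ring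
  rw [e2, h2]
  ring

section bound

variable (hb : BlowUp.IsBlowUp b (Curv2.idealSheaf A I)) (𝓙 : Y.IdealSheafData)

include hb

/-- A section `y = x / a ^ d` of `𝓙` over the chart of `a`, multiplied by `a ^ D` for `D` large, is
the restriction of an element of `A` which lies in `𝓙 * 𝓔 ^ D` over the chart of `a'`. -/
theorem exists_bound (a : A) (ha : a ∈ I) (a' : A) (ha' : a' ∈ I)
    (y : Γ(Y, chartOpen I b a))
    (hy : y ∈ 𝓙.ideal ⟨chartOpen I b a, isAffineOpen_chartOpen hb a ha⟩)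
    (d : ℕ) (x : A) (hx : x ∈ I ^ d)
    (hxy : rho A b (chartOpen I b a) a ^ d * y = rho A b (chartOpen I b a) x) :
    ∃ D₁ : ℕ, ∀ D : ℕ, D₁ ≤ D → d ≤ D ∧
      rho A b (chartOpen I b a') (a ^ (D - d) * x) ∈
        (𝓙 * ((Curv2.idealSheaf A I).comap b) ^ D).ideal
          ⟨chartOpen I b a', isAffineOpen_chartOpen hb a' ha'⟩ := by
  let Oa : Y.affineOpens := ⟨(chartOpen I b a), isAffineOpen_chartOpen hb a ha⟩
  let Oa' : Y.affineOpens := ⟨(chartOpen I b a'), isAffineOpen_chartOpen hb a' ha'⟩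
  set κ := rho A b (chartOpen I b a') a' with hκdef
  have hκ : κ ∈ nonZeroDivisors Γ(Y, (chartOpen I b a')) := rho_chartOpen_mem_nonZeroDivisors hb a' ha'
  have hgood' : I.map (rho A b (chartOpen I b a')) = Ideal.span {κ} := isGood_chartOpen hb a' ha'
  obtain ⟨t, ht⟩ : ∃ t, t * κ = rho A b (chartOpen I b a') a := by
    apply Ideal.mem_span_singleton'.mp
    rw [← hgood']
    exact Ideal.mem_map_of_mem _ ha
  obtain ⟨x', hx'⟩ : ∃ x', x' * κ ^ d = rho A b (chartOpen I b a') x := by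
    apply Ideal.mem_span_singleton'.mp
    rw [← Ideal.span_singleton_pow, ← hgood', ← Ideal.map_pow]
    exact Ideal.mem_map_of_mem _ hx
  have hle : Y.basicOpen t ≤ (chartOpen I b a) := basicOpen_le_chartOpen hb a a' ha' t ht.symm
  have hle' : Y.basicOpen t ≤ (chartOpen I b a') := Y.basicOpen_le t
  have hloc : IsLocalization.Away t Γ(Y, Y.basicOpen t) := Oa'.2.isLocalization_basicOpen t
  set yt := (Y.presheaf.map (homOfLE hle).op).hom y with hyt
  have hy' : yt ∈ (𝓙.ideal Oa').map (algebraMap Γ(Y, (chartOpen I b a')) Γ(Y, Y.basicOpen t)) := by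
    have h1 : yt ∈ 𝓙.ideal (Y.affineBasicOpen (U := Oa') t) :=
      𝓙.ideal_le_comap_ideal (U := Y.affineBasicOpen (U := Oa') t) (V := Oa) hle hy
    rw [← 𝓙.map_ideal_basicOpen Oa' t] at h1
    exact h1
  have heq : algebraMap Γ(Y, (chartOpen I b a')) Γ(Y, Y.basicOpen t) (t * κ) ^ d * yt =
      algebraMap Γ(Y, (chartOpen I b a')) Γ(Y, Y.basicOpen t) (x' * κ ^ d) := by
    have e1 : algebraMap Γ(Y, (chartOpen I b a')) Γ(Y, Y.basicOpen t) (t * κ) =
        (Y.presheaf.map (homOfLE hle).op).hom (rho A b (chartOpen I b a) a) := by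
      rw [ht]
      have h1 := congrArg (fun f => f a) (rho_restrict (A := A) b hle')
      have h2 := congrArg (fun f => f a) (rho_restrict (A := A) b hle)
      simp only [RingHom.comp_apply] at h1 h2
      exact h1.symm.trans h2
    have e2 : algebraMap Γ(Y, (chartOpen I b a')) Γ(Y, Y.basicOpen t) (x' * κ ^ d) =
        (Y.presheaf.map (homOfLE hle).op).hom (rho A b (chartOpen I b a) x) := by
      rw [hx']
      have h1 := congrArg (fun f => f x) (rho_restrict (A := A) b hle')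
      have h2 := congrArg (fun f => f x) (rho_restrict (A := A) b hle)
      simp only [RingHom.comp_apply] at h1 h2
      exact h1.symm.trans h2
    rw [e1, e2, ← hxy, map_mul, map_pow]
  obtain ⟨D₁, hD₁⟩ := ring_key t κ hκ (𝓙.ideal Oa') x' d yt hy' heq
  refine ⟨D₁, fun D hD => ?_⟩
  obtain ⟨hdD, z, hz, hzeq⟩ := hD₁ D hD
  refine ⟨hdD, ?_⟩
  have e3 : rho A b (chartOpen I b a') (a ^ (D - d) * x) = z * κ ^ D := by
    rw [map_mul, map_pow, ← ht, ← hx', hzeq]
  rw [e3, Scheme.IdealSheafData.ideal_mul, Pi.mul_apply, Scheme.IdealSheafData.ideal_pow,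
    Pi.pow_apply]
  have e4 : ((Curv2.idealSheaf A I).comap b).ideal Oa' = Ideal.span {κ} := by
    rw [ideal_eq_map_rho]
    exact hgood'
  change z * κ ^ D ∈ 𝓙.ideal Oa' * (((Curv2.idealSheaf A I).comap b).ideal Oa') ^ D
  rw [e4]
  exact Ideal.mul_mem_mul hz (Ideal.pow_mem_pow (Ideal.mem_span_singleton_self κ) D)

/-- Simultaneous version of `exists_bound` over finitely many charts. -/
theorem exists_bound_finset (a : A) (ha : a ∈ I) (S : Finset A) (hS : ∀ a' ∈ S, a' ∈ I)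
    (y : Γ(Y, chartOpen I b a))
    (hy : y ∈ 𝓙.ideal ⟨chartOpen I b a, isAffineOpen_chartOpen hb a ha⟩) :
    ∃ D₁ : ℕ, ∀ D : ℕ, D₁ ≤ D → ∃ s : A,
      rho A b (chartOpen I b a) s = rho A b (chartOpen I b a) a ^ D * y ∧
      ∀ a' ∈ S, ∀ h : IsAffineOpen (chartOpen I b a'),
        rho A b (chartOpen I b a') s ∈
          (𝓙 * ((Curv2.idealSheaf A I).comap b) ^ D).ideal ⟨chartOpen I b a', h⟩ := by
  classical
  obtain ⟨d, x, hx, hxy⟩ := exists_pow_mul_eq_rho hb a ha y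
  have H : ∀ a' : A, ∃ D₁ : ℕ, a' ∈ S → ∀ D : ℕ, D₁ ≤ D → d ≤ D ∧
      ∀ h : IsAffineOpen (chartOpen I b a'), rho A b (chartOpen I b a') (a ^ (D - d) * x) ∈
        (𝓙 * ((Curv2.idealSheaf A I).comap b) ^ D).ideal ⟨chartOpen I b a', h⟩ := by
    intro a'
    by_cases ha' : a' ∈ S
    · obtain ⟨D₁, hD₁⟩ := exists_bound hb 𝓙 a ha a' (hS a' ha') y hy d x hx hxy
      exact ⟨D₁, fun _ D hD => ⟨(hD₁ D hD).1, fun _ => (hD₁ D hD).2⟩⟩
    · exact ⟨0, fun h => absurd h ha'⟩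
  choose D₁ hD₁ using H
  refine ⟨max d (S.sup D₁), fun D hD => ⟨a ^ (D - d) * x, ?_, ?_⟩⟩
  · have hdD : d ≤ D := (le_max_left _ _).trans hD
    rw [map_mul, map_pow, ← hxy, ← mul_assoc, ← pow_add, Nat.sub_add_cancel hdD]
  · intro a' ha' h
    exact (hD₁ a' ha' D ((Finset.le_sup ha').trans ((le_max_right _ _).trans hD))).2 h

/-- Over the chart of `a`, the ideal `𝓙 * 𝓔 ^ D` is generated, for `D` large, by elements of `A` lying
in `𝓙 * 𝓔 ^ D` over all the charts of the elements of `S`. -/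
theorem exists_bound_chart (a : A) (ha : a ∈ I) (S : Finset A) (hS : ∀ a' ∈ S, a' ∈ I)
    (hfg : (𝓙.ideal ⟨chartOpen I b a, isAffineOpen_chartOpen hb a ha⟩).FG) :
    ∃ D₁ : ℕ, ∀ D : ℕ, D₁ ≤ D →
      (𝓙 * ((Curv2.idealSheaf A I).comap b) ^ D).ideal
          ⟨chartOpen I b a, isAffineOpen_chartOpen hb a ha⟩ ≤
        Ideal.span (rho A b (chartOpen I b a) '' {s : A | ∀ a' ∈ S,
          ∀ h : IsAffineOpen (chartOpen I b a'), rho A b (chartOpen I b a') s ∈
            (𝓙 * ((Curv2.idealSheaf A I).comap b) ^ D).ideal ⟨chartOpen I b a', h⟩}) := by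
  classical
  obtain ⟨G, hG⟩ := hfg
  have H : ∀ y : Γ(Y, chartOpen I b a), ∃ D₁ : ℕ, y ∈ G → ∀ D : ℕ, D₁ ≤ D → ∃ s : A,
      rho A b (chartOpen I b a) s = rho A b (chartOpen I b a) a ^ D * y ∧
      ∀ a' ∈ S, ∀ h : IsAffineOpen (chartOpen I b a'),
        rho A b (chartOpen I b a') s ∈
          (𝓙 * ((Curv2.idealSheaf A I).comap b) ^ D).ideal ⟨chartOpen I b a', h⟩ := by
    intro y
    by_cases hyG : y ∈ G
    · have hy : y ∈ 𝓙.ideal ⟨chartOpen I b a, isAffineOpen_chartOpen hb a ha⟩ := by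
        rw [← hG]; exact Ideal.subset_span hyG
      obtain ⟨D₁, hD₁⟩ := exists_bound_finset hb 𝓙 a ha S hS y hy
      exact ⟨D₁, fun _ => hD₁⟩
    · exact ⟨0, fun h => absurd h hyG⟩
  choose D₁ hD₁ using H
  refine ⟨G.sup D₁, fun D hD => ?_⟩
  set κ := rho A b (chartOpen I b a) a with hκ
  set T : Ideal Γ(Y, chartOpen I b a) :=
    Ideal.span (rho A b (chartOpen I b a) '' {s : A | ∀ a' ∈ S,
      ∀ h : IsAffineOpen (chartOpen I b a'), rho A b (chartOpen I b a') s ∈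
        (𝓙 * ((Curv2.idealSheaf A I).comap b) ^ D).ideal ⟨chartOpen I b a', h⟩}) with hT
  have e4 : ((Curv2.idealSheaf A I).comap b).ideal
      ⟨chartOpen I b a, isAffineOpen_chartOpen hb a ha⟩ = Ideal.span {κ} := by
    rw [ideal_eq_map_rho]
    exact isGood_chartOpen hb a ha
  rw [Scheme.IdealSheafData.ideal_mul, Pi.mul_apply, Scheme.IdealSheafData.ideal_pow,
    Pi.pow_apply, e4, Ideal.span_singleton_pow, Ideal.mul_le]
  have key : ∀ r ∈ 𝓙.ideal ⟨chartOpen I b a, isAffineOpen_chartOpen hb a ha⟩, κ ^ D * r ∈ T := by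
    intro r hr
    rw [← hG] at hr
    refine Submodule.span_induction (p := fun r _ => κ ^ D * r ∈ T) ?_ ?_ ?_ ?_ hr
    · intro y hyG
      obtain ⟨s, hs1, hs2⟩ := hD₁ y hyG D ((Finset.le_sup hyG).trans hD)
      rw [← hs1]
      exact Ideal.subset_span ⟨s, hs2, rfl⟩
    · rw [mul_zero]; exact T.zero_mem
    · intro r₁ r₂ _ _ h₁ h₂
      rw [mul_add]; exact T.add_mem h₁ h₂
    · intro c r₁ _ h₁
      rw [smul_eq_mul, mul_left_comm]; exact T.mul_mem_left c h₁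
  intro r hr c hc
  obtain ⟨c', rfl⟩ := Ideal.mem_span_singleton'.mp hc
  have := T.mul_mem_left c' (key r hr)
  convert this using 1
  ring

/-- **Global generation.** For `D` large, `𝓙 * 𝓔 ^ D` is locally generated by elements of `A` that
lie locally in `𝓙 * 𝓔 ^ D`. -/
theorem exists_pow_generated (hI : I.FG) (h𝓙 : BlowUp.IsFiniteTypeIdeal 𝓙) :
    ∃ D₀ : ℕ, ∀ D : ℕ, D₀ ≤ D → ∀ y : Y, ∃ W : Y.affineOpens, y ∈ W.1 ∧
      (𝓙 * ((Curv2.idealSheaf A I).comap b) ^ D).ideal W ≤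
        Ideal.span (rho A b W.1 '' {s : A | ∀ y' : Y, ∃ W' : Y.affineOpens, y' ∈ W'.1 ∧
          rho A b W'.1 s ∈ (𝓙 * ((Curv2.idealSheaf A I).comap b) ^ D).ideal W'}) := by
  classical
  obtain ⟨S, hS⟩ := hI
  have hSI : ∀ a' ∈ S, a' ∈ I := fun a' ha' => hS ▸ Ideal.subset_span ha'
  have H : ∀ a : A, ∃ D₁ : ℕ, ∀ ha : a ∈ S, ∀ D : ℕ, D₁ ≤ D →
      (𝓙 * ((Curv2.idealSheaf A I).comap b) ^ D).ideal
          ⟨chartOpen I b a, isAffineOpen_chartOpen hb a (hSI a ha)⟩ ≤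
        Ideal.span (rho A b (chartOpen I b a) '' {s : A | ∀ a' ∈ S,
          ∀ h : IsAffineOpen (chartOpen I b a'), rho A b (chartOpen I b a') s ∈
            (𝓙 * ((Curv2.idealSheaf A I).comap b) ^ D).ideal ⟨chartOpen I b a', h⟩}) := by
    intro a
    by_cases ha : a ∈ S
    · obtain ⟨D₁, hD₁⟩ := exists_bound_chart hb 𝓙 a (hSI a ha) S hSI (h𝓙 _)
      exact ⟨D₁, fun _ => hD₁⟩
    · exact ⟨0, fun h => absurd h ha⟩
  choose D₁ hD₁ using H
  refine ⟨S.sup D₁, fun D hD y => ?_⟩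
  obtain ⟨a, haS, hya⟩ := exists_mem_chartOpen_of_span (S : Set A) hS hb.1 y
  refine ⟨⟨chartOpen I b a, isAffineOpen_chartOpen hb a (hSI a haS)⟩, hya, ?_⟩
  refine (hD₁ a haS D ((Finset.le_sup haS).trans hD)).trans (Ideal.span_mono ?_)
  apply Set.image_mono
  intro s hs y'
  obtain ⟨a', ha'S, hy'a'⟩ := exists_mem_chartOpen_of_span (S : Set A) hS hb.1 y'
  exact ⟨⟨chartOpen I b a', isAffineOpen_chartOpen hb a' (hSI a' ha'S)⟩, hy'a',
    hs a' ha'S _⟩

end bound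

end Groth.Agent.Lib.BlowUpAmple68
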