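import Groth.Agent.S2913
import Mathlib.AlgebraicGeometry.Gluing
import Mathlib.AlgebraicGeometry.Restrict
import Mathlib.AlgebraicGeometry.AffineScheme
import Mathlib.AlgebraicGeometry.Morphisms.UnderlyingMap

/-!
# Descending morphisms of schemes along a "quotient-like" morphism (helper45)

Let `g : S' ⟶ S` be a morphism of schemes which is a topological quotient map and injective on
sections over every open.  A morphism `h : S' ⟶ Z` which is constant on the fibres of `g` and such
that pullbacks along `h` of sections of `O_Z` lie in the image of `O_S` descends uniquely to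
`S ⟶ Z`.  (Used for quotients by finite groups and for effective epimorphisms.)
-/

set_option autoImplicit false
universe u

namespace Groth.Agent.Lib.DescendMor45

open AlgebraicGeometry CategoryTheory CategoryTheory.Limits

/-- factor a ring hom through an injective ring hom containing its range -/
theorem exists_ringHom_of_range_subset {A B C : Type*} [CommRing A] [CommRing B] [CommRing C]
    (ι : B →+* A) (hι : Function.Injective ι) (ψ : C →+* A) (h : ∀ c, ψ c ∈ Set.range ι) :
    ∃ φ : C →+* B, ι.comp φ = ψ := by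
  have hbij : Function.Bijective ι.rangeRestrict :=
    ⟨fun a b hab => hι (congrArg Subtype.val hab), ι.rangeRestrict_surjective⟩
  let e := RingEquiv.ofBijective ι.rangeRestrict hbij
  refine ⟨e.symm.toRingHom.comp (ψ.codRestrict ι.range (fun c => h c)), ?_⟩
  ext c
  have : ι.rangeRestrict (e.symm (ψ.codRestrict ι.range (fun c => h c) c)) =
      ψ.codRestrict ι.range (fun c => h c) c := e.apply_symm_apply _
  exact congrArg Subtype.val this

/-- glue morphisms defined on the members of a cover by opens -/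
theorem exists_glue_opens {S Z : Scheme.{u}} {ι : Type*} (U : ι → S.Opens)
    (hU : TopologicalSpace.IsOpenCover U) (a : ∀ i, (U i).toScheme ⟶ Z)
    (hcompat : ∀ i j, S.homOfLE (inf_le_left : U i ⊓ U j ≤ U i) ≫ a i =
      S.homOfLE (inf_le_right : U i ⊓ U j ≤ U j) ≫ a j) :
    ∃ h' : S ⟶ Z, ∀ i, (U i).ι ≫ h' = a i := by
  let 𝒰 := S.openCoverOfIsOpenCover U hU
  refine ⟨𝒰.glueMorphisms a ?_, fun i => 𝒰.ι_glueMorphisms a _ i⟩
  intro (i : ι) (j : ι)
  have P := isPullback_opens_inf (U i) (U j)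
  change pullback.fst (U i).ι (U j).ι ≫ a i = pullback.snd (U i).ι (U j).ι ≫ a j
  rw [← cancel_epi P.isoPullback.hom, P.isoPullback_hom_fst_assoc,
    P.isoPullback_hom_snd_assoc]
  exact hcompat i j

/-- the restriction over an open of a surjective morphism which is injective on sections is an
epimorphism -/
theorem epi_morphismRestrict {S' S : Scheme.{u}} (g : S' ⟶ S) (hsurj : Function.Surjective g)
    (hinj : ∀ U : S.Opens, Function.Injective (g.app U).hom) (T : S.Opens) : Epi (g ∣_ T) := by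
  have : Surjective (g ∣_ T) := ⟨by
    rintro ⟨y, hy⟩
    obtain ⟨x, rfl⟩ := hsurj y
    exact ⟨⟨x, hy⟩, Subtype.ext (morphismRestrict_base_coe g T _)⟩⟩
  apply Groth.Agent.S2913.result
  intro V
  rw [morphismRestrict_app]
  have h2 : Function.Injective
      (S'.presheaf.map (eqToHom (image_morphismRestrict_preimage g T V)).op).hom := by
    have : IsIso (S'.presheaf.map (eqToHom (image_morphismRestrict_preimage g T V)).op) :=
      inferInstance
    exact ((ConcreteCategory.isIso_iff_bijective _).mp this).1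
  exact h2.comp (hinj _)

section Descend

variable {S' S Z : Scheme.{u}} (g : S' ⟶ S) (h : S' ⟶ Z)

/-- the image under `g` of the preimage under `h` of an open of `Z` -/
def imageOpen (hq : Topology.IsQuotientMap g)
    (hfib : ∀ x x' : S', g x = g x' → h x = h x') (W : Z.Opens) : S.Opens :=
  ⟨g '' (h ⁻¹' W), by
    rw [← hq.isOpen_preimage]
    have : g ⁻¹' (g '' (h ⁻¹' W)) = h ⁻¹' W := by
      ext x
      constructor
      · rintro ⟨x', hx', hxx'⟩
        change h x ∈ W
        rw [← hfib x' x hxx']; exact hx'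
      · intro hx; exact ⟨x, hx, rfl⟩
    rw [this]
    exact W.2.preimage h.continuous⟩

lemma preimage_imageOpen (hq : Topology.IsQuotientMap g)
    (hfib : ∀ x x' : S', g x = g x' → h x = h x') (W : Z.Opens) :
    g ⁻¹ᵁ (imageOpen g h hq hfib W) = h ⁻¹ᵁ W := by
  ext x
  constructor
  · rintro ⟨x', hx', hxx'⟩
    change h x ∈ W
    rw [← hfib x' x hxx']; exact hx'
  · intro hx; exact ⟨x, hx, rfl⟩

/-- **Descent of morphisms** along a topological quotient map which is injective on sections. -/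
theorem exists_descend (hq : Topology.IsQuotientMap g)
    (hinj : ∀ U : S.Opens, Function.Injective (g.app U).hom)
    (hfib : ∀ x x' : S', g x = g x' → h x = h x')
    (hsec : ∀ (U : S.Opens) (W : Z.Opens) (e : g ⁻¹ᵁ U ≤ h ⁻¹ᵁ W) (s : Γ(Z, W)),
      (h.appLE W (g ⁻¹ᵁ U) e).hom s ∈ Set.range (g.app U).hom) :
    ∃ h' : S ⟶ Z, g ≫ h' = h := by
  let UW : Z.affineOpens → S.Opens := fun W => imageOpen g h hq hfib W.1
  have hpre : ∀ W : Z.affineOpens, g ⁻¹ᵁ (UW W) = h ⁻¹ᵁ W.1 :=
    fun W => preimage_imageOpen g h hq hfib W.1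
  have hmem : ∀ x : S', ∃ W : Z.affineOpens, g x ∈ UW W := by
    intro x
    obtain ⟨_, ⟨W, hW, rfl⟩, hxW, -⟩ :=
      Z.isBasis_affineOpens.exists_subset_of_mem_open (Set.mem_univ (h x)) isOpen_univ
    exact ⟨⟨W, hW⟩, x, hxW, rfl⟩
  have hcover : TopologicalSpace.IsOpenCover UW := by
    rw [TopologicalSpace.IsOpenCover, eq_top_iff]
    intro y _
    obtain ⟨x, rfl⟩ := hq.surjective y
    obtain ⟨W, hW⟩ := hmem x
    exact TopologicalSpace.Opens.mem_iSup.mpr ⟨W, hW⟩
  -- ring maps
  have hφ : ∀ W : Z.affineOpens, ∃ φ : Γ(Z, W.1) →+* Γ(S, UW W),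
      (g.app (UW W)).hom.comp φ = (h.appLE W.1 (g ⁻¹ᵁ UW W) (hpre W).le).hom :=
    fun W => exists_ringHom_of_range_subset _ (hinj _) _
      (fun s => hsec (UW W) W.1 (hpre W).le s)
  choose φ hφ using hφ
  let a : ∀ W : Z.affineOpens, (UW W).toScheme ⟶ Z := fun W =>
    (UW W).toSpecΓ ≫ Spec.map (CommRingCat.ofHom (φ W)) ≫ W.2.fromSpec
  have ha : ∀ W, (g ∣_ UW W) ≫ a W = (g ⁻¹ᵁ UW W).ι ≫ h := by
    intro W
    dsimp only [a]
    rw [← Scheme.Opens.toSpecΓ_naturality_assoc, ← Spec.map_comp_assoc]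
    have h1 : CommRingCat.ofHom (φ W) ≫ g.app (UW W) =
        h.appLE W.1 (g ⁻¹ᵁ UW W) (hpre W).le := by
      ext s
      exact congrArg (fun ψ => ψ s) (hφ W)
    rw [h1, Scheme.Opens.toSpecΓ_SpecMap_appLE_assoc, IsAffineOpen.toSpecΓ_fromSpec,
      Scheme.Hom.resLE_comp_ι]
  have hcompat : ∀ W W' : Z.affineOpens,
      S.homOfLE (inf_le_left : UW W ⊓ UW W' ≤ UW W) ≫ a W =
        S.homOfLE (inf_le_right : UW W ⊓ UW W' ≤ UW W') ≫ a W' := by
    intro W W'
    have := epi_morphismRestrict g hq.surjective hinj (UW W ⊓ UW W')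
    rw [← cancel_epi (g ∣_ (UW W ⊓ UW W')), morphismRestrict_homOfLE_assoc,
      morphismRestrict_homOfLE_assoc, ha, ha, Scheme.homOfLE_ι_assoc, Scheme.homOfLE_ι_assoc]
  obtain ⟨h', hh'⟩ := exists_glue_opens UW hcover a hcompat
  refine ⟨h', ?_⟩
  apply Scheme.hom_ext_of_forall
  intro x
  obtain ⟨W, hW⟩ := hmem x
  refine ⟨g ⁻¹ᵁ UW W, hW, ?_⟩
  rw [← morphismRestrict_ι_assoc, hh', ha]

end Descend

end Groth.Agent.Lib.DescendMor45
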