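import Groth.Agent.Lib.EffCartier68
import Groth.Agent.Lib.SchDense68
import Mathlib.AlgebraicGeometry.Morphisms.Immersion
import Mathlib.AlgebraicGeometry.Limits

/-!
# Closures of closed subschemes of the interior of a modulus pair (helper68)

* `ker_toImage_eq_bot`: `g.toImage.ker = ⊥` for quasi-compact `g` (same proof as helper34's
  `Lib/LocImm3`).
* `closure_props`: for `(S, I)` effective Cartier with interior `U`, `g : V ⟶ U` a closed immersion
  and `h = g ≫ U.ι`: `h` is a quasi-compact immersion, `h.toImage` is an open immersion with range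
  `h.imageι ⁻¹' U`, `I.comap h.imageι` is effective Cartier and `range h.imageι = closure (range h)`.
* `isEffCartierIdeal_of_forall_exists_isOpenImmersion`: being effective Cartier is local on the
  source.
-/

set_option autoImplicit false
universe u
open CategoryTheory CategoryTheory.Limits AlgebraicGeometry TopologicalSpace

namespace Groth.Agent.Lib.ModPairClosure68

theorem ker_toImage_eq_bot {X Y : Scheme.{u}} (g : X ⟶ Y) [QuasiCompact g] : g.toImage.ker = ⊥ := by
  refine Scheme.IdealSheafData.ext_of_iSup_eq_top (fun U : Y.affineOpens =>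
    (⟨g.imageι ⁻¹ᵁ U.1, U.2.preimage g.imageι⟩ : g.image.affineOpens)) ?_ ?_
  · rw [eq_top_iff]
    intro z _
    have hz : g.imageι z ∈ (⊤ : Y.Opens) := trivial
    rw [← iSup_affineOpens_eq_top Y] at hz
    obtain ⟨U, hU⟩ := TopologicalSpace.Opens.mem_iSup.1 hz
    exact TopologicalSpace.Opens.mem_iSup.2 ⟨U, hU⟩
  · intro U
    rw [Scheme.Hom.ker_apply]
    simp only [Scheme.IdealSheafData.ideal_bot, Pi.bot_apply]
    exact (RingHom.injective_iff_ker_eq_bot _).1 (g.toImage_app_injective U)

variable {S : Scheme.{u}} (I : S.IdealSheafData) (hI : BlowUp.IsEffCartierIdeal I)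

include hI in
theorem quasiCompact_comp_ι {V : Scheme.{u}} (g : V ⟶ (ModPair.interior I : Scheme.{u}))
    [IsClosedImmersion g] : QuasiCompact (g ≫ (ModPair.interior I).ι) := by
  have hqcU : QuasiCompact (ModPair.interior I).ι :=
    Groth.Agent.Lib.EffCartier68.quasiCompact_interior_ι I hI
  infer_instance

include hI in
/-- The closure in `S` of a closed subscheme `V` of the interior `U` of `(S, I)`. -/
theorem closure_props {V : Scheme.{u}} (g : V ⟶ (ModPair.interior I : Scheme.{u}))
    [IsClosedImmersion g] (h : V ⟶ S) (hh : h = g ≫ (ModPair.interior I).ι) :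
    QuasiCompact h ∧ IsOpenImmersion h.toImage ∧
      BlowUp.IsEffCartierIdeal (I.comap h.imageι) ∧
      Set.range h.toImage.base = h.imageι.base ⁻¹' (ModPair.interior I : Set S) ∧
      Set.range h.imageι.base = closure (Set.range h.base) := by
  have hqc : QuasiCompact h := hh ▸ quasiCompact_comp_ι I hI g
  have himm : IsImmersion h := by rw [hh]; infer_instance
  have hmemU : ∀ v : V, h.base v ∈ ModPair.interior I := by
    intro v
    have : h.base v = (ModPair.interior I).ι.base (g.base v) := by
      rw [hh, Scheme.Hom.comp_apply]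
    rw [this]
    exact (g.base v).2
  have hsub : Set.range h.toImage.base ⊆ h.imageι.base ⁻¹' (ModPair.interior I : Set S) := by
    rintro _ ⟨v, rfl⟩
    simp only [Set.mem_preimage, SetLike.mem_coe]
    rw [← Scheme.Hom.comp_apply, h.toImage_imageι]
    exact hmemU v
  refine ⟨hqc, inferInstance, ?_, ?_, ?_⟩
  · -- effective Cartier on the closure
    have hsub' : Set.range h.toImage.base ⊆
        Set.range (h.imageι ⁻¹ᵁ ModPair.interior I).ι.base := by
      simpa using hsub
    have hfac : h.toImage =
        IsOpenImmersion.lift (h.imageι ⁻¹ᵁ ModPair.interior I).ι h.toImage hsub' ≫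
          (h.imageι ⁻¹ᵁ ModPair.interior I).ι :=
      (IsOpenImmersion.lift_fac _ _ _).symm
    have hdom : IsSchemeTheoreticallyDominant (h.imageι ⁻¹ᵁ ModPair.interior I).ι := by
      constructor
      have h1 := Scheme.Hom.le_ker_comp
        (IsOpenImmersion.lift (h.imageι ⁻¹ᵁ ModPair.interior I).ι h.toImage hsub')
        (h.imageι ⁻¹ᵁ ModPair.interior I).ι
      rw [← hfac] at h1
      have h2 : h.toImage.ker = ⊥ := ker_toImage_eq_bot h
      rw [h2] at h1
      exact le_bot_iff.mp h1
    exact Groth.Agent.Lib.EffCartier68.isEffCartierIdeal_comap_of_dominant I hI h.imageι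
  · -- range of toImage
    apply Set.Subset.antisymm hsub
    intro p hp
    have hpb := IsImmersion.isPullback_toImage_liftCoborder h
    have hp' : h.imageι.base p ∈ ModPair.interior I := hp
    have hcob : h.imageι.base p ∈ coborder (Set.range h.base) := by
      rw [coborder_eq_union_closure_compl]
      by_cases hc : h.imageι.base p ∈ closure (Set.range h.base)
      · left
        have hgcl : IsClosed (Set.range g.base) := g.isClosedEmbedding.isClosed_range
        have hind : Topology.IsInducing (ModPair.interior I).ι.base :=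
          (ModPair.interior I).ι.isOpenEmbedding.isInducing
        have hrange : Set.range h.base = (ModPair.interior I).ι.base '' Set.range g.base := by
          rw [hh, Scheme.Hom.comp_base, TopCat.coe_comp, Set.range_comp]
        have hu : (⟨h.imageι.base p, hp'⟩ : ModPair.interior I) ∈
            closure (Set.range g.base) := by
          rw [hind.closure_eq_preimage_closure_image, ← hrange]
          exact hc
        rw [hgcl.closure_eq] at hu
        obtain ⟨v, hv⟩ := hu
        refine ⟨v, ?_⟩
        have h5 : h.base v = (ModPair.interior I).ι.base (g.base v) := by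
          rw [hh, Scheme.Hom.comp_apply]
        rw [h5, hv]
        rfl
      · right
        exact hc
    obtain ⟨v, hv, -⟩ := Scheme.exists_preimage_of_isPullback hpb p
      (⟨h.imageι.base p, hcob⟩ : h.coborderRange) rfl
    exact ⟨v, hv⟩
  · -- range of imageι
    have h1 : Set.range h.imageι.base = h.ker.support := h.ker.range_subschemeι
    rw [h1, Scheme.Hom.support_ker]

/-- Being the ideal sheaf of an effective Cartier divisor is local on the scheme. -/
theorem isEffCartierIdeal_of_forall_exists_isOpenImmersion {Y : Scheme.{u}} (J : Y.IdealSheafData)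
    (h : ∀ y : Y, ∃ (W : Scheme.{u}) (j : W ⟶ Y) (_ : IsOpenImmersion j),
      y ∈ Set.range j.base ∧ BlowUp.IsEffCartierIdeal (J.comap j)) :
    BlowUp.IsEffCartierIdeal J := by
  intro y
  obtain ⟨W, j, hj, ⟨y', rfl⟩, hJ⟩ := h y
  obtain ⟨V', hyV', a', ha', hJa'⟩ := hJ y'
  have hV : IsAffineOpen (j ''ᵁ V'.1) := V'.2.image_of_isOpenImmersion j
  let e : Γ(W, V'.1) ≃+* Γ(Y, j ''ᵁ V'.1) := (j.appIso V'.1).symm.commRingCatIsoToRingEquiv
  refine ⟨⟨j ''ᵁ V'.1, hV⟩, ⟨y', hyV', rfl⟩, e a', ?_, ?_⟩
  · have h1 : a' = e.symm (e a') := (e.symm_apply_apply a').symm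
    rw [h1] at ha'
    exact mem_nonZeroDivisors_of_injective (f := e.symm) e.symm.injective ha'
  · have h1 := Scheme.IdealSheafData.ideal_comap_of_isOpenImmersion J j V'
    rw [hJa'] at h1
    have h2 : J.ideal ⟨j ''ᵁ V'.1, hV⟩ = Ideal.map (e : Γ(W, V'.1) →+* Γ(Y, j ''ᵁ V'.1))
        (Ideal.span {a'}) := by
      rw [h1]
      exact (Ideal.map_comap_of_surjective (e : Γ(W, V'.1) →+* Γ(Y, j ''ᵁ V'.1))
        e.surjective _).symm
    rw [h2, Ideal.map_span, Set.image_singleton]
    rfl

end Groth.Agent.Lib.ModPairClosure68
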