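import Groth.Agent.Lib.BlowUpProper68
import Groth.Agent.Lib.ModPairClosure68
import Groth.Agent.Lib.DescendMor45

/-!
# A chart criterion for blowing ups of affine schemes (helper68)

`isBlowUp_of_chartData`: a morphism `b : P ⟶ Spec A` which is covered by open immersions
`j a : Spec A[I/a] ⟶ P` over `Spec A` (`a ∈ I`), such that `j a'` maps `D(a/a')` into the image of
`j a`, is a blowing up of `Spec A` in `I` (`BlowUp.IsBlowUp`).  This is the gluing half of the
existence of blow-ups; the charts of `Proj` of the Rees algebra satisfy it (`Lib/BlowUpExistProj68`).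
-/

set_option autoImplicit false
universe u
open CategoryTheory CategoryTheory.Limits AlgebraicGeometry TopologicalSpace

namespace Groth.Agent.Lib.BlowUpExist68

open Groth.Agent.Lib.SectionDiv Groth.Agent.Lib.BlowUpAffine Groth.Agent.Lib.AffineBlowupAlg
open Groth.Agent.Lib.RelCartier Groth.Agent.Lib.BlowUpUniv Groth.Agent.Lib.AffineBlowupChart
open Groth.Agent.Lib.BlowUpProper68

variable {A : Type u} [CommRing A] (I : Ideal A)

/-- On the chart `Spec A[I/a']`, the locus where `a` generates the exceptional ideal is contained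
in `D(a/a')`. -/
theorem gen_notMem_of_mem_chartOpen (a' : A) (ha' : a' ∈ I) (a : A) (ha : a ∈ I)
    (z : Spec (CommRingCat.of (Bl I a'))) (hz : z ∈ chartOpen I (chartStr I a') a) :
    gen I a' a ha ∉ z.asIdeal := by
  obtain ⟨V, hzV, hVgood⟩ := (mem_chartOpen_iff I).mp hz
  have hcart : BlowUp.IsEffCartierIdeal ((Curv2.idealSheaf A I).comap (chartStr I a')) :=
    isEffCartier_chartStr I a' ha'
  have hgood' : ∀ y : Spec (CommRingCat.of (Bl I a')),
      ∃ W : (Spec (CommRingCat.of (Bl I a'))).affineOpens, y ∈ W.1 ∧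
        IsGood A I (chartStr I a') a' W.1 :=
    fun y => ⟨⟨⊤, isAffineOpen_top _⟩, trivial, isGood_Spec I a' ha'⟩
  obtain ⟨W, hzW, hWV, hWgood', hWnzd⟩ :=
    exists_good_nzd (I := I) (chartStr I a') a' hcart hgood' z V.1 hzV
  have hWgood : IsGood A I (chartStr I a') a W.1 := isGood_restrict (I := I) _ a hWV hVgood
  set ρB : Bl I a' →+* Γ(Spec (CommRingCat.of (Bl I a')), W.1) :=
    (res W.1).comp (Scheme.ΓSpecIso (CommRingCat.of (Bl I a'))).inv.hom with hρB
  have hρ : rho A (chartStr I a') W.1 = ρB.comp (algebraMap A (Bl I a')) := by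
    unfold rho chartStr
    rw [gamma_SpecMap, hρB, RingHom.comp_assoc]
  have hu : rho A (chartStr I a') W.1 a = ρB (gen I a' a ha) * rho A (chartStr I a') W.1 a' := by
    rw [hρ]
    change ρB (algebraMap A (Bl I a') a) = ρB (gen I a' a ha) * ρB (algebraMap A (Bl I a') a')
    rw [← map_mul, gen_mul]
  have hspan : Ideal.span {rho A (chartStr I a') W.1 a'} =
      Ideal.span {rho A (chartStr I a') W.1 a} := by
    unfold IsGood at hWgood hWgood'
    rw [← hWgood', hWgood]
  have h2 : rho A (chartStr I a') W.1 a' ∈ Ideal.span {rho A (chartStr I a') W.1 a} :=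
    hspan ▸ Ideal.mem_span_singleton_self _
  obtain ⟨v, hv⟩ := Ideal.mem_span_singleton'.mp h2
  have hunit : IsUnit (ρB (gen I a' a ha)) := by
    have h3 : (v * ρB (gen I a' a ha) - 1) * rho A (chartStr I a') W.1 a' = 0 := by
      rw [sub_mul, one_mul, mul_assoc, ← hu, hv, sub_self]
    have h4 := (mem_nonZeroDivisors_iff_right.mp hWnzd) _ h3
    exact IsUnit.of_mul_eq_one v (by rw [mul_comm]; exact sub_eq_zero.mp h4)
  have h5 : (Spec (CommRingCat.of (Bl I a'))).basicOpen (ρB (gen I a' a ha)) = W.1 :=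
    Scheme.basicOpen_of_isUnit _ hunit
  have h6 : (Spec (CommRingCat.of (Bl I a'))).basicOpen (ρB (gen I a' a ha)) ≤
      (Spec (CommRingCat.of (Bl I a'))).basicOpen
        ((Scheme.ΓSpecIso (CommRingCat.of (Bl I a'))).inv.hom (gen I a' a ha)) := by
    have : ρB (gen I a' a ha) = ((Spec (CommRingCat.of (Bl I a'))).presheaf.map
        (homOfLE (le_top : W.1 ≤ ⊤)).op).hom
        ((Scheme.ΓSpecIso (CommRingCat.of (Bl I a'))).inv.hom (gen I a' a ha)) := rfl
    rw [this, Scheme.basicOpen_res]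
    exact inf_le_right
  have h7 : z ∈ (Spec (CommRingCat.of (Bl I a'))).basicOpen
      ((Scheme.ΓSpecIso (CommRingCat.of (Bl I a'))).inv.hom (gen I a' a ha)) := by
    apply h6
    rw [h5]
    exact hzW
  rw [basicOpen_eq_of_affine] at h7
  exact h7

/-- The chart locus pulls back along open immersions. -/
theorem mem_chartOpen_comp {Z P : Scheme.{u}} (j : Z ⟶ P) (b : P ⟶ Spec (CommRingCat.of A)) (a : A)
    (z : Z) (hz : j z ∈ chartOpen I b a) : z ∈ chartOpen I (j ≫ b) a := by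
  obtain ⟨V, hzV, hVgood⟩ := (mem_chartOpen_iff I).mp hz
  have hzW : z ∈ j ⁻¹ᵁ V.1 := hzV
  obtain ⟨_, ⟨W, hW, rfl⟩, hzWW, hWsub⟩ :=
    Z.isBasis_affineOpens.exists_subset_of_mem_open hzW (j ⁻¹ᵁ V.1).2
  exact (mem_chartOpen_iff I).mpr ⟨⟨W, hW⟩, hzWW, isGood_of_le I j b a V.1 W hWsub hVgood⟩

/-- The part of a morphism over the chart locus of `a` satisfies the hypotheses of the universal
property of `Spec A[I/a]`. -/
theorem chart_hyps {Y : Scheme.{u}} (g : Y ⟶ Spec (CommRingCat.of A))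
    (hcart : BlowUp.IsEffCartierIdeal ((Curv2.idealSheaf A I).comap g)) (a : A) :
    BlowUp.IsEffCartierIdeal ((Curv2.idealSheaf A I).comap ((chartOpen I g a).ι ≫ g)) ∧
      ∀ y : ((chartOpen I g a : Y.Opens) : Scheme.{u}),
        ∃ W : ((chartOpen I g a : Y.Opens) : Scheme.{u}).affineOpens, y ∈ W.1 ∧
          IsGood A I ((chartOpen I g a).ι ≫ g) a W.1 := by
  refine ⟨?_, ?_⟩
  · rw [Scheme.IdealSheafData.comap_comp]
    exact isEffCartier_comap_of_flat _ _ hcart
  · intro y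
    have hy : y ∈ chartOpen I ((chartOpen I g a).ι ≫ g) a :=
      mem_chartOpen_comp I (chartOpen I g a).ι g a y y.2
    exact (mem_chartOpen_iff I).mp hy

/-- Chart data for `b : P ⟶ Spec A`: open immersions from the affine blow-up charts covering `P`,
compatible on overlaps. -/
structure ChartData {P : Scheme.{u}} (b : P ⟶ Spec (CommRingCat.of A)) where
  /-- the charts -/
  j : ∀ a : I, Spec (CommRingCat.of (Bl I a.1)) ⟶ P
  isOpenImmersion : ∀ a, IsOpenImmersion (j a)
  fac : ∀ a, j a ≫ b = chartStr I a.1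
  cover : ∀ p : P, ∃ a : I, p ∈ Set.range (j a)
  overlap : ∀ (a a' : I) (z : Spec (CommRingCat.of (Bl I a'.1))),
    gen I a'.1 a.1 a.2 ∉ z.asIdeal → j a' z ∈ Set.range (j a)

variable {I} {P : Scheme.{u}} {b : P ⟶ Spec (CommRingCat.of A)} (D : ChartData I b)

include D

theorem ChartData.isEffCartier :
    BlowUp.IsEffCartierIdeal ((Curv2.idealSheaf A I).comap b) := by
  apply Groth.Agent.Lib.ModPairClosure68.isEffCartierIdeal_of_forall_exists_isOpenImmersion
  intro p
  obtain ⟨a, hp⟩ := D.cover p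
  refine ⟨_, D.j a, D.isOpenImmersion a, hp, ?_⟩
  rw [← Scheme.IdealSheafData.comap_comp, D.fac a]
  exact isEffCartier_chartStr I a.1 a.2

theorem ChartData.chartOpen_le (a : I) (p : P) (hp : p ∈ chartOpen I b a.1) :
    p ∈ Set.range (D.j a) := by
  obtain ⟨a', z, rfl⟩ := D.cover p
  apply D.overlap a a' z
  apply gen_notMem_of_mem_chartOpen I a'.1 a'.2 a.1 a.2 z
  rw [← D.fac a']
  exact mem_chartOpen_comp I (D.j a') b a.1 z hp

/-- Uniqueness of lifts. -/
theorem ChartData.hom_ext {Y : Scheme.{u}} (g : Y ⟶ Spec (CommRingCat.of A))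
    (hcart : BlowUp.IsEffCartierIdeal ((Curv2.idealSheaf A I).comap g))
    (h h' : Y ⟶ P) (hh : h ≫ b = g) (hh' : h' ≫ b = g) : h = h' := by
  apply Scheme.hom_ext_of_forall
  intro y
  obtain ⟨a, ha, hy⟩ := exists_mem_chartOpen I hcart y
  refine ⟨chartOpen I g a, hy, ?_⟩
  obtain ⟨hcartO, hgoodO⟩ := chart_hyps I g hcart a
  have := D.isOpenImmersion ⟨a, ha⟩
  have key : ∀ k : ((chartOpen I g a : Y.Opens) : Scheme.{u}) ⟶ P,
      k ≫ b = (chartOpen I g a).ι ≫ g →
      ∃ k₀ : ((chartOpen I g a : Y.Opens) : Scheme.{u}) ⟶ Spec (CommRingCat.of (Bl I a)),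
        k₀ ≫ D.j ⟨a, ha⟩ = k ∧ k₀ ≫ chartStr I a = (chartOpen I g a).ι ≫ g := by
    intro k hk
    have hrange : Set.range k ⊆ Set.range (D.j ⟨a, ha⟩) := by
      rintro _ ⟨w, rfl⟩
      apply D.chartOpen_le ⟨a, ha⟩
      exact mem_chartOpen_of_isGood I ha D.isEffCartier k (hk ▸ hcartO) (hk ▸ hgoodO) w
    refine ⟨IsOpenImmersion.lift (D.j ⟨a, ha⟩) k hrange, IsOpenImmersion.lift_fac _ _ _, ?_⟩
    rw [← D.fac ⟨a, ha⟩, ← Category.assoc, IsOpenImmersion.lift_fac, hk]
  obtain ⟨k₀, hk₀, hk₀'⟩ := key ((chartOpen I g a).ι ≫ h) (by rw [Category.assoc, hh])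
  obtain ⟨k₁, hk₁, hk₁'⟩ := key ((chartOpen I g a).ι ≫ h') (by rw [Category.assoc, hh'])
  obtain ⟨m, -, hm⟩ := existsUnique_hom (I := I) ((chartOpen I g a).ι ≫ g) a hcartO hgoodO
  rw [← hk₀, ← hk₁, hm k₀ hk₀', hm k₁ hk₁']

/-- A morphism to `Spec A` covered compatibly by the affine blow-up charts is a blowing up. -/
theorem isBlowUp_of_chartData : BlowUp.IsBlowUp b (Curv2.idealSheaf A I) := by
  refine ⟨D.isEffCartier, ?_⟩
  intro Y g hcart
  -- the local lifts
  have hloc : ∀ a : I, ∃ ha : ((chartOpen I g a.1 : Y.Opens) : Scheme.{u}) ⟶ P,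
      ha ≫ b = (chartOpen I g a.1).ι ≫ g := by
    intro a
    obtain ⟨hcartO, hgoodO⟩ := chart_hyps I g hcart a.1
    obtain ⟨m, hm, -⟩ := existsUnique_hom (I := I) ((chartOpen I g a.1).ι ≫ g) a.1 hcartO hgoodO
    exact ⟨m ≫ D.j a, by rw [Category.assoc, D.fac a]; exact hm⟩
  choose hl hhl using hloc
  have hcover : TopologicalSpace.IsOpenCover (fun a : I => chartOpen I g a.1) := by
    rw [TopologicalSpace.IsOpenCover, eq_top_iff]
    intro y _
    obtain ⟨a, ha, hy⟩ := exists_mem_chartOpen I hcart y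
    exact Opens.mem_iSup.mpr ⟨⟨a, ha⟩, hy⟩
  obtain ⟨h, hh⟩ := Groth.Agent.Lib.DescendMor45.exists_glue_opens
    (fun a : I => chartOpen I g a.1) hcover hl (by
      intro a a'
      apply D.hom_ext (((chartOpen I g a.1) ⊓ (chartOpen I g a'.1)).ι ≫ g)
      · rw [Scheme.IdealSheafData.comap_comp]
        exact isEffCartier_comap_of_flat _ _ hcart
      · rw [Category.assoc, hhl a, ← Category.assoc, Scheme.homOfLE_ι]
      · rw [Category.assoc, hhl a', ← Category.assoc, Scheme.homOfLE_ι])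
  have hhb : h ≫ b = g := by
    apply Scheme.hom_ext_of_forall
    intro y
    obtain ⟨a, ha, hy⟩ := exists_mem_chartOpen I hcart y
    refine ⟨chartOpen I g a, hy, ?_⟩
    rw [← Category.assoc, hh ⟨a, ha⟩, hhl ⟨a, ha⟩]
  exact ⟨h, hhb, fun h' hh' => D.hom_ext g hcart h' h hh' hhb⟩

end Groth.Agent.Lib.BlowUpExist68
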