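import Groth.Prelude.Def_Rees
import Groth.Prelude.Def_BlowUp2
import Groth.Agent.Lib.GradedHomH3
import Groth.Agent.Lib.BlowUpAffine82
import Groth.Agent.Lib.AffineBlowupAlg

/-!
# The degree-zero localizations of the Rees algebra are the affine blow-up algebras (helper68)

For an ideal `I` of `A` and `a ∈ I`, with `𝒜 = Rees.deg (reesAlgebra I)` the grading of the Rees
algebra by the exponent of `X` and `mono I a ha = a·X` the degree-one element attached to `a`:

* `ev I a : reesAlgebra I →+* A_a`, evaluation at `X = 1/a`; `theta I a ha : (R(I)_(aX))₀ →+* A_a`;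
* `equivBl I a ha : Away 𝒜 (a·X) ≃+* A[I/a]` (helper24's `Bl I a`), compatible with the maps from `A`
  (`equivBl_str`) and sending the fraction `a'·X / a·X` to `gen I a a'` (`equivBl_isLocalizationElem`);
* `adjoin_mono_eq_top`: the Rees algebra is generated over `A` by the `a·X`, `a ∈ I`;
  `exists_mono_notMem`: every point of `Proj` avoids some `a·X`.
-/

set_option autoImplicit false

universe u

open Polynomial HomogeneousLocalization

namespace Groth.Agent.Lib.ReesAway68

open Groth.Agent.Lib.AwayLiftH3 Groth.Agent.Lib.BlowUpAffine82 Groth.Agent.Lib.AffineBlowupAlg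

variable {A : Type u} [CommRing A] (I : Ideal A)

/-- The degree-one element `a·X` of the Rees algebra. -/
noncomputable def mono (a : A) (ha : a ∈ I) : ↥(reesAlgebra I) :=
  ⟨monomial 1 a, reesAlgebra.monomial_mem.mpr (by simpa using ha)⟩

theorem coe_mono (a : A) (ha : a ∈ I) : ((mono I a ha : ↥(reesAlgebra I)) : A[X]) = monomial 1 a := rfl

theorem mono_mem (a : A) (ha : a ∈ I) : mono I a ha ∈ Rees.deg (reesAlgebra I) 1 := by
  rw [Rees.mem_deg_iff]
  intro m hm
  rw [coe_mono, coeff_monomial, if_neg (Ne.symm hm)]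

/-- An element of degree `n` is the monomial of its `n`-th coefficient. -/
theorem coe_eq_monomial_of_mem_deg {n : ℕ} {y : ↥(reesAlgebra I)}
    (hy : y ∈ Rees.deg (reesAlgebra I) n) : (y : A[X]) = monomial n ((y : A[X]).coeff n) := by
  rw [Rees.mem_deg_iff] at hy
  ext m
  rw [coeff_monomial]
  split_ifs with h
  · rw [h]
  · exact hy m (Ne.symm h)

theorem coeff_mem_pow (y : ↥(reesAlgebra I)) (n : ℕ) : (y : A[X]).coeff n ∈ I ^ n :=
  (mem_reesAlgebra_iff I _).mp y.2 n

/-- The monomial `c·Xⁿ`, `c ∈ Iⁿ`, as an element of the Rees algebra. -/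
noncomputable def monoN (n : ℕ) (c : A) (hc : c ∈ I ^ n) : ↥(reesAlgebra I) :=
  ⟨monomial n c, reesAlgebra.monomial_mem.mpr hc⟩

theorem monoN_mem (n : ℕ) (c : A) (hc : c ∈ I ^ n) :
    monoN I n c hc ∈ Rees.deg (reesAlgebra I) n := by
  rw [Rees.mem_deg_iff]
  intro m hm
  change (monomial n c).coeff m = 0
  rw [coeff_monomial, if_neg (Ne.symm hm)]

/-- Evaluation of the Rees algebra at `X = 1/a`. -/
noncomputable def ev (a : A) : ↥(reesAlgebra I) →+* Localization.Away a :=
  (Polynomial.eval₂RingHom (algebraMap A (Localization.Away a))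
    (IsLocalization.Away.invSelf a)).comp (reesAlgebra I).val.toRingHom

theorem ev_apply (a : A) (y : ↥(reesAlgebra I)) :
    ev I a y = (y : A[X]).eval₂ (algebraMap A (Localization.Away a))
      (IsLocalization.Away.invSelf a) := rfl

theorem ev_of_mem_deg (a : A) {n : ℕ} {y : ↥(reesAlgebra I)}
    (hy : y ∈ Rees.deg (reesAlgebra I) n) : ev I a y = frac a ((y : A[X]).coeff n) n := by
  rw [eq_frac_iff, ev_apply, coe_eq_monomial_of_mem_deg I hy, eval₂_monomial, coeff_monomial,
    if_pos rfl, map_pow, mul_assoc, ← mul_pow, mul_comm (IsLocalization.Away.invSelf a),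
    IsLocalization.Away.mul_invSelf, one_pow, mul_one]

theorem ev_mono (a : A) (ha : a ∈ I) : ev I a (mono I a ha) = 1 := by
  rw [ev_apply, coe_mono, eval₂_monomial, pow_one, IsLocalization.Away.mul_invSelf]

theorem ev_algebraMap (a r : A) : ev I a (algebraMap A ↥(reesAlgebra I) r) = algebraMap A _ r := by
  rw [ev_apply]
  change (algebraMap A A[X] r).eval₂ _ _ = _
  rw [Polynomial.algebraMap_apply, Algebra.algebraMap_self_apply, eval₂_C]

/-- The ring map `(R(I)_(aX))₀ → A_a`. -/
noncomputable def theta (a : A) (ha : a ∈ I) :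
    Away (Rees.deg (reesAlgebra I)) (mono I a ha) →+* Localization.Away a :=
  awayLift (Rees.deg (reesAlgebra I)) (mono I a ha) (ev I a) (by rw [ev_mono]; exact isUnit_one)

theorem theta_mk (a : A) (ha : a ∈ I) (n : ℕ) (y : ↥(reesAlgebra I))
    (hy : y ∈ Rees.deg (reesAlgebra I) (n • 1)) :
    theta I a ha (Away.mk _ (mono_mem I a ha) n y hy) = ev I a y := by
  have h := awayLift_mk_mul (ev I a) (by rw [ev_mono]; exact isUnit_one) (mono_mem I a ha) n y hy
  have e : ev I a (mono I a ha) ^ n = 1 := by rw [ev_mono, one_pow]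
  rw [e, mul_one] at h
  exact h

theorem theta_mk_frac (a : A) (ha : a ∈ I) (n : ℕ) (y : ↥(reesAlgebra I))
    (hy : y ∈ Rees.deg (reesAlgebra I) (n • 1)) :
    theta I a ha (Away.mk _ (mono_mem I a ha) n y hy) = frac a ((y : A[X]).coeff n) n := by
  rw [theta_mk]
  have hy' : y ∈ Rees.deg (reesAlgebra I) n := by simpa using hy
  exact ev_of_mem_deg I a hy'

/-- The structure map `A → (R(I)_(aX))₀`. -/
noncomputable def str (a : A) (ha : a ∈ I) :
    A →+* Away (Rees.deg (reesAlgebra I)) (mono I a ha) :=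
  (fromZeroRingHom (Rees.deg (reesAlgebra I)) _).comp
    (algebraMap A (Rees.deg (reesAlgebra I) 0))

theorem theta_str (a : A) (ha : a ∈ I) (r : A) :
    theta I a ha (str I a ha r) = algebraMap A _ r := by
  have h := awayLift_fromZero (𝒜 := Rees.deg (reesAlgebra I)) (f := mono I a ha) (ev I a)
    (by rw [ev_mono]; exact isUnit_one) (algebraMap A (Rees.deg (reesAlgebra I) 0) r)
  rw [← ev_algebraMap I a r]
  exact h

theorem theta_injective (a : A) (ha : a ∈ I) : Function.Injective (theta I a ha) := by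
  rw [injective_iff_map_eq_zero]
  intro z hz
  obtain ⟨n, y, hy, rfl⟩ := Away.mk_surjective _ (mono_mem I a ha) z
  rw [theta_mk_frac, frac_eq_zero_iff] at hz
  obtain ⟨m, hm⟩ := hz
  apply HomogeneousLocalization.val_injective
  rw [Away.val_mk, HomogeneousLocalization.val_zero, Localization.mk_eq_mk',
    IsLocalization.mk'_eq_zero_iff]
  refine ⟨⟨mono I a ha ^ m, m, rfl⟩, ?_⟩
  have hy' : y ∈ Rees.deg (reesAlgebra I) n := by simpa using hy
  apply Subtype.ext
  change ((mono I a ha : ↥(reesAlgebra I)) : A[X]) ^ m * (y : A[X]) = 0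
  rw [coe_mono, coe_eq_monomial_of_mem_deg I hy', monomial_pow, monomial_mul_monomial, hm,
    monomial_zero_right]

theorem theta_mem (a : A) (ha : a ∈ I)
    (z : Away (Rees.deg (reesAlgebra I)) (mono I a ha)) :
    theta I a ha z ∈ BlowUp.affineAlgebra A I a := by
  obtain ⟨n, y, hy, rfl⟩ := Away.mk_surjective _ (mono_mem I a ha) z
  rw [theta_mk_frac]
  exact frac_mem ha n _ (coeff_mem_pow I y n)

theorem exists_theta_eq (a : A) (ha : a ∈ I) (x : Localization.Away a)
    (hx : x ∈ BlowUp.affineAlgebra A I a) : ∃ z, theta I a ha z = x := by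
  obtain ⟨n, c, hc, rfl⟩ := (mem_affineAlgebra_iff ha x).mp hx
  have hdeg : monoN I n c hc ∈ Rees.deg (reesAlgebra I) (n • 1) := by
    simpa using monoN_mem I n c hc
  refine ⟨Away.mk _ (mono_mem I a ha) n (monoN I n c hc) hdeg, ?_⟩
  rw [theta_mk_frac]
  congr 1
  change (monomial n c).coeff n = c
  rw [coeff_monomial, if_pos rfl]

/-- `theta` with values in the affine blow-up algebra. -/
noncomputable def thetaBl (a : A) (ha : a ∈ I) :
    Away (Rees.deg (reesAlgebra I)) (mono I a ha) →+* Bl I a :=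
  (theta I a ha).codRestrict (BlowUp.affineAlgebra A I a) (theta_mem I a ha)

theorem coe_thetaBl (a : A) (ha : a ∈ I) (z : Away (Rees.deg (reesAlgebra I)) (mono I a ha)) :
    ((thetaBl I a ha z : Bl I a) : Localization.Away a) = theta I a ha z := rfl

theorem thetaBl_bijective (a : A) (ha : a ∈ I) : Function.Bijective (thetaBl I a ha) := by
  constructor
  · intro z z' h
    apply theta_injective I a ha
    rw [← coe_thetaBl, ← coe_thetaBl, h]
  · intro x
    obtain ⟨z, hz⟩ := exists_theta_eq I a ha x.1 x.2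
    exact ⟨z, Subtype.ext hz⟩

/-- The degree-zero part of the localization of the Rees algebra at `a·X` is the affine blow-up
algebra `A[I/a]`. -/
noncomputable def equivBl (a : A) (ha : a ∈ I) :
    Away (Rees.deg (reesAlgebra I)) (mono I a ha) ≃+* Bl I a :=
  RingEquiv.ofBijective (thetaBl I a ha) (thetaBl_bijective I a ha)

theorem coe_equivBl (a : A) (ha : a ∈ I) (z : Away (Rees.deg (reesAlgebra I)) (mono I a ha)) :
    ((equivBl I a ha z : Bl I a) : Localization.Away a) = theta I a ha z := rfl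

theorem equivBl_str (a : A) (ha : a ∈ I) (r : A) :
    equivBl I a ha (str I a ha r) = algebraMap A (Bl I a) r := by
  apply Subtype.ext
  rw [coe_equivBl, theta_str]
  rfl

theorem equivBl_comp_str (a : A) (ha : a ∈ I) :
    (equivBl I a ha).toRingHom.comp (str I a ha) = algebraMap A (Bl I a) :=
  RingHom.ext (equivBl_str I a ha)

/-- The fraction `a'·X / a·X` corresponds to the generator `a'/a` of `A[I/a]`. -/
theorem equivBl_isLocalizationElem (a : A) (ha : a ∈ I) (a' : A) (ha' : a' ∈ I) :
    equivBl I a ha (Away.isLocalizationElem (mono_mem I a ha) (mono_mem I a' ha')) =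
      gen I a a' ha' := by
  apply Subtype.ext
  rw [coe_equivBl]
  unfold Away.isLocalizationElem
  rw [theta_mk, pow_one, ev_of_mem_deg I a (mono_mem I a' ha'), coe_mono, coeff_monomial, if_pos rfl]
  unfold frac gen
  congr 1
  exact Subtype.ext (pow_one a)

/-- The Rees algebra is generated over `A` by the elements `a·X`, `a ∈ I`. -/
theorem adjoin_mono_eq_top :
    Algebra.adjoin A (Set.range fun a : I => mono I a.1 a.2) = ⊤ := by
  apply Subalgebra.map_injective (f := (reesAlgebra I).val) Subtype.val_injective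
  rw [Algebra.map_top, Subalgebra.range_val, AlgHom.map_adjoin]
  refine Eq.trans ?_ (adjoin_monomial_eq_reesAlgebra I)
  congr 1
  ext p
  constructor
  · rintro ⟨_, ⟨a, rfl⟩, rfl⟩
    exact ⟨a.1, a.2, rfl⟩
  · rintro ⟨a, ha, rfl⟩
    exact ⟨_, ⟨⟨a, ha⟩, rfl⟩, rfl⟩

/-- Every point of `Proj` of the Rees algebra lies in some `D₊(a·X)`, `a ∈ I`. -/
theorem exists_mono_notMem (x : ProjectiveSpectrum (Rees.deg (reesAlgebra I))) :
    ∃ a : I, mono I a.1 a.2 ∉ x.asHomogeneousIdeal :=
  Groth.Agent.Lib.GradedHomH3.exists_notMem_of_gen (Rees.deg (reesAlgebra I))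
    (fun a : I => mono I a.1 a.2) (adjoin_mono_eq_top I) (fun a => mono_mem I a.1 a.2) x

end Groth.Agent.Lib.ReesAway68
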