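import Groth.Agent.Lib.BlowUpExist68
import Groth.Agent.Lib.ReesAway68
import Groth.Prelude.Def_ega3
import Mathlib.AlgebraicGeometry.ProjectiveSpectrum.Basic

/-!
# `Proj` of the Rees algebra is a blowing up (helper68)

`isBlowUp_projStr I`: the structure morphism `Proj (⊕ Iⁿ Xⁿ) ⟶ Spec A` is a blowing up of `Spec A`
in `I` (`BlowUp.IsBlowUp`), through the chart criterion `BlowUpExist68.isBlowUp_of_chartData` and
the identification `(R(I)_(aX))₀ ≃ A[I/a]` of `ReesAway68`.
`exists_isBlowUp_Spec`: every quasi-coherent ideal sheaf on an affine scheme `Spec A` has a blowing up.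
-/

set_option autoImplicit false
universe u
open CategoryTheory CategoryTheory.Limits AlgebraicGeometry TopologicalSpace HomogeneousLocalization

namespace Groth.Agent.Lib.BlowUpExistProj68

open Groth.Agent.Lib.AffineBlowupAlg Groth.Agent.Lib.BlowUpProper68 Groth.Agent.Lib.BlowUpExist68
open Groth.Agent.Lib.ReesAway68

variable {A : Type u} [CommRing A] (I : Ideal A)

/-- The structure morphism `Proj R(I) ⟶ Spec A`. -/
noncomputable abbrev projStr : Proj (Rees.deg (reesAlgebra I)) ⟶ Spec (CommRingCat.of A) :=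
  Proj.toSpecZero (Rees.deg (reesAlgebra I)) ≫
    Spec.map (CommRingCat.ofHom (algebraMap A (Rees.deg (reesAlgebra I) 0)))

/-- The isomorphism of affine charts `Spec A[I/a] ≅ Spec (R(I)_(aX))₀`. -/
noncomputable def chartSpecIso (a : I) :
    Spec (CommRingCat.of (Bl I a.1)) ≅
      Spec (CommRingCat.of (Away (Rees.deg (reesAlgebra I)) (mono I a.1 a.2))) :=
  Scheme.Spec.mapIso (equivBl I a.1 a.2).toCommRingCatIso.op

theorem chartSpecIso_hom (a : I) :
    (chartSpecIso I a).hom = Spec.map (CommRingCat.ofHom (equivBl I a.1 a.2).toRingHom) := rfl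

/-- The chart `Spec A[I/a] ⟶ Proj R(I)`. -/
noncomputable def chartMap (a : I) :
    Spec (CommRingCat.of (Bl I a.1)) ⟶ Proj (Rees.deg (reesAlgebra I)) :=
  (chartSpecIso I a).hom ≫
    Proj.awayι (Rees.deg (reesAlgebra I)) (mono I a.1 a.2) (mono_mem I a.1 a.2) one_pos

instance (a : I) : IsOpenImmersion (chartMap I a) := by
  unfold chartMap
  infer_instance

theorem chartMap_projStr (a : I) : chartMap I a ≫ projStr I = chartStr I a.1 := by
  unfold chartMap projStr chartStr
  rw [Category.assoc, Proj.awayι_toSpecZero_assoc, chartSpecIso_hom, ← Spec.map_comp,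
    ← Spec.map_comp, ← CommRingCat.ofHom_comp, ← CommRingCat.ofHom_comp, ← equivBl_comp_str I a.1 a.2]
  rfl

theorem range_chartMap (a : I) :
    Set.range (chartMap I a) =
      (Proj.basicOpen (Rees.deg (reesAlgebra I)) (mono I a.1 a.2) :
        Set (Proj (Rees.deg (reesAlgebra I)))) := by
  unfold chartMap
  have hs : Set.range (chartSpecIso I a).hom = Set.univ :=
    Set.range_eq_univ.mpr (chartSpecIso I a).hom.homeomorph.surjective
  rw [Scheme.Hom.comp_base, TopCat.coe_comp, Set.range_comp, hs, Set.image_univ,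
    ← Proj.opensRange_awayι _ _ (mono_mem I a.1 a.2) one_pos]
  rfl

/-- The chart data of `Proj R(I)`. -/
noncomputable def chartData : ChartData I (projStr I) where
  j := chartMap I
  isOpenImmersion a := inferInstance
  fac := chartMap_projStr I
  cover p := by
    obtain ⟨a, ha⟩ := exists_mono_notMem I p
    refine ⟨a, ?_⟩
    rw [range_chartMap]
    exact ha
  overlap a a' z hz := by
    rw [range_chartMap]
    change (chartSpecIso I a').hom z ∈
      Proj.awayι (Rees.deg (reesAlgebra I)) (mono I a'.1 a'.2) (mono_mem I a'.1 a'.2) one_pos ⁻¹ᵁ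
        Proj.basicOpen (Rees.deg (reesAlgebra I)) (mono I a.1 a.2)
    rw [Proj.awayι_preimage_basicOpen _ (mono_mem I a'.1 a'.2) one_pos (mono_mem I a.1 a.2) one_pos]
    change Away.isLocalizationElem (mono_mem I a'.1 a'.2) (mono_mem I a.1 a.2) ∉
      ((chartSpecIso I a').hom z).asIdeal
    rw [chartSpecIso_hom]
    change (equivBl I a'.1 a'.2) (Away.isLocalizationElem (mono_mem I a'.1 a'.2)
      (mono_mem I a.1 a.2)) ∉ z.asIdeal
    rw [equivBl_isLocalizationElem]
    exact hz

/-- `Proj` of the Rees algebra of `I` is a blowing up of `Spec A` in `I`. -/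
theorem isBlowUp_projStr : BlowUp.IsBlowUp (projStr I) (Curv2.idealSheaf A I) :=
  isBlowUp_of_chartData (chartData I)

/-- Every quasi-coherent ideal sheaf on `Spec A` has a blowing up. -/
theorem exists_isBlowUp_Spec (A : Type u) [CommRing A]
    (𝓙 : (Spec (CommRingCat.of A)).IdealSheafData) :
    ∃ (X' : Scheme.{u}) (b : X' ⟶ Spec (CommRingCat.of A)), BlowUp.IsBlowUp b 𝓙 := by
  rw [eq_idealSheaf A 𝓙]
  exact ⟨_, projStr _, isBlowUp_projStr _⟩

end Groth.Agent.Lib.BlowUpExistProj68
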