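import Mathlib
import Groth.Agent.Lib.BlowUpExcFlat50

/-!
# Flatness of an affine blow-up chart (helper50)

If `A` and all `A ⧸ J ^ (n + 1)` are flat over `R`, then `A[J/a]` is flat over `R` (`flat_chart`):
the powers `J ^ m` are flat and `A[J/a]` is the colimit of `J ^ m --a--> J ^ (m+1)`; we argue directly
with the equational criterion.
-/

set_option autoImplicit false
set_option linter.style.haveILetI false
universe u
open scoped BigOperators

namespace Groth.Agent.Lib.BlowUpFlat50

open Groth.Agent.Lib.AffineBlowupAlg Groth.Agent.Lib.BlowUpProperAlg68 Groth.Agent.Lib.BlowUpAffine82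
  Groth.Agent.Lib.BlowUpExcFlat50

section main

variable {R A : Type u} [CommRing R] [CommRing A] [Algebra R A] (J : Ideal A) (a : A)

set_option maxHeartbeats 1600000 in
/-- flatness of the chart -/
theorem flat_chart (ha : a ∈ J) (hA : Module.Flat R A) (h : ∀ n, Module.Flat R (A ⧸ J ^ (n + 1))) :
    Module.Flat R (Bl J a) := by
  apply Module.Flat.of_forall_isTrivialRelation
  intro l r z hrel
  obtain ⟨n, x, hx, hzx⟩ := exists_common_frac J a ha z
  obtain ⟨s, hs⟩ : ∃ s : A, s = ∑ i, algebraMap R A (r i) * x i := ⟨_, rfl⟩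
  have h3 : frac a s n = 0 := by
    have h4 := congrArg Subtype.val hrel
    rw [coe_sum'] at h4
    rw [hs, frac_sum_mul]
    have h5 : ((0 : Bl J a) : Localization.Away a) = 0 := rfl
    rw [← h5, ← h4]
    refine Finset.sum_congr rfl (fun i _ => ?_)
    rw [coe_smul', hzx i]
  have h6 : algebraMap A (Localization.Away a) s = 0 := by
    rw [← frac_mul_pow a s n, h3, zero_mul]
  obtain ⟨⟨_, K, rfl⟩, hK⟩ := (IsLocalization.map_eq_zero_iff (Submonoid.powers a)
    (Localization.Away a) _).mp h6
  have hK' : a ^ (K + 1) * s = 0 := by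
    have : a ^ K * s = 0 := hK
    rw [pow_succ', mul_assoc, this, mul_zero]
  -- the flat module `J ^ (n + K + 1)`
  haveI : Module.Flat R (A ⧸ J ^ (n + K + 1)) := h (n + K)
  let π : A →ₗ[R] (A ⧸ J ^ (n + K + 1)) := (Ideal.Quotient.mkₐ R (J ^ (n + K + 1))).toLinearMap
  have hπmk : ∀ y : A, π y = Ideal.Quotient.mk _ y := fun y => rfl
  have hπ : Function.Surjective π := Ideal.Quotient.mk_surjective
  haveI hflatM : Module.Flat R (LinearMap.ker π) :=
    Groth.Agent.Lib.FlatKer.flat_ker_of_surjective π hπ
  have hxk : ∀ i, a ^ (K + 1) * x i ∈ J ^ (n + K + 1) := by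
    intro i
    have : n + K + 1 = (K + 1) + n := by omega
    rw [this, pow_add]
    exact Ideal.mul_mem_mul (Ideal.pow_mem_pow ha _) (hx i)
  let μ : Fin l → LinearMap.ker π := fun i => ⟨a ^ (K + 1) * x i, by
    rw [LinearMap.mem_ker, hπmk, Ideal.Quotient.eq_zero_iff_mem]
    exact hxk i⟩
  have hrelM : ∑ i, r i • μ i = 0 := by
    apply Subtype.ext
    rw [Submodule.coe_sum, Submodule.coe_zero]
    have h7 : ∀ i, ((r i • μ i : LinearMap.ker π) : A) =
        algebraMap R A (r i) * (a ^ (K + 1) * x i) := by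
      intro i
      rw [Submodule.coe_smul, Algebra.smul_def]
    simp only [h7]
    have h8 : ∑ i, algebraMap R A (r i) * (a ^ (K + 1) * x i) = a ^ (K + 1) * s := by
      rw [hs, Finset.mul_sum]
      refine Finset.sum_congr rfl (fun i _ => ?_)
      ring
    rw [h8, hK']
  obtain ⟨κ, c, y, hy1, hy2⟩ := Module.Flat.isTrivialRelation_of_sum_smul_eq_zero hrelM
  have hyk : ∀ j, ((y j : LinearMap.ker π) : A) ∈ J ^ (n + K + 1) := by
    intro j
    have h9 := (y j).2
    rw [LinearMap.mem_ker, hπmk, Ideal.Quotient.eq_zero_iff_mem] at h9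
    exact h9
  refine ⟨κ, c, fun j => fr J a ha ((y j : LinearMap.ker π) : A) (n + K + 1) (hyk j),
    fun i => ?_, hy2⟩
  apply Subtype.ext
  rw [coe_sum']
  have h10 : ∀ j, ((c i j • fr J a ha ((y j : LinearMap.ker π) : A) (n + K + 1) (hyk j) : Bl J a) :
      Localization.Away a) = algebraMap A (Localization.Away a) (algebraMap R A (c i j)) *
        frac a ((y j : LinearMap.ker π) : A) (n + K + 1) := by
    intro j
    rw [coe_smul']
    rfl
  simp only [h10]
  rw [← frac_sum_mul, hzx i, ← frac_pow_mul a (x i) n (K + 1)]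
  have h11 : n + (K + 1) = n + K + 1 := by omega
  rw [h11]
  congr 1
  have h12 := congrArg Subtype.val (hy1 i)
  rw [Submodule.coe_sum] at h12
  have h13 : ((μ i : LinearMap.ker π) : A) = a ^ (K + 1) * x i := rfl
  rw [← h13, h12]
  refine Finset.sum_congr rfl (fun j _ => ?_)
  rw [Submodule.coe_smul, Algebra.smul_def]

end main

section chart

/-- abstract chart version of `flat_chart` -/
theorem flat_of_chart' {R A B' : Type u} [CommRing R] [CommRing A] [CommRing B'] [Algebra R A]
    [Algebra R B'] (J : Ideal A) (a : A) (ha : a ∈ J) (hA : Module.Flat R A)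
    (h : ∀ n, Module.Flat R (A ⧸ J ^ (n + 1)))
    (φ : A →+* B') (hφ : ∀ r : R, φ (algebraMap R A r) = algebraMap R B' r)
    (θ : Bl J a ≃+* B') (hθ : ∀ x, θ (algebraMap A (Bl J a) x) = φ x) : Module.Flat R B' := by
  haveI := flat_chart (R := R) J a ha hA h
  let el : Bl J a ≃ₗ[R] B' :=
    { toFun := θ
      map_add' := map_add θ
      map_smul' := by
        intro r z
        have h1 : r • z = algebraMap A (Bl J a) (algebraMap R A r) * z := by
          rw [← Algebra.smul_def, algebraMap_smul]
        simp only [RingHom.id_apply]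
        rw [h1, map_mul, hθ, hφ, ← Algebra.smul_def]
      invFun := θ.symm
      left_inv := θ.left_inv
      right_inv := θ.right_inv }
  exact Module.Flat.of_linearEquiv el.symm

end chart

end Groth.Agent.Lib.BlowUpFlat50
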