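/-
helper84: overlap of two charts of a blow-up of Spec A in I = (a, a'): U_a ⊓ U_a' is the basic
open of a'/a in U_a, and every section on the overlap is a difference of sections on the charts
(so that H^1 of the structure sheaf vanishes by Mayer-Vietoris).
-/
import Mathlib
import Groth.Agent.Lib.BlowUpAmple68

set_option autoImplicit false
set_option maxHeartbeats 800000
set_option linter.style.haveILetI false
set_option linter.unusedSectionVars false
set_option linter.unusedVariables false
universe u

open CategoryTheory AlgebraicGeometry Opposite Polynomial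
open Groth.Agent.Lib.AffineBlowupAlg Groth.Agent.Lib.AffineBlowupChart Groth.Agent.Lib.BlowUpAmple68
  Groth.Agent.Lib.BlowUpProperAlg68

namespace Groth.Agent.Lib.BlowUpOverlap84

variable {A : Type u} [CommRing A] {I : Ideal A} {Y : Scheme.{u}} {b : Y ⟶ Spec (CommRingCat.of A)}

/-- On an integral blow-up, the overlap of two charts is the basic open (in the first chart) of
the ratio of the two generators, and the two ratios are inverse to each other there. -/
theorem chartOpen_inf_eq_basicOpen [IsIntegral Y]
    (hb : BlowUp.IsBlowUp b (Curv2.idealSheaf A I)) (a a' : A) (ha : a ∈ I) (ha' : a' ∈ I)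
    (T : Γ(Y, chartOpen I b a)) (hT : rho A b (chartOpen I b a) a' = T * rho A b (chartOpen I b a) a)
    (S : Γ(Y, chartOpen I b a')) (hS : rho A b (chartOpen I b a') a = S * rho A b (chartOpen I b a') a') :
    chartOpen I b a ⊓ chartOpen I b a' = Y.basicOpen T ∧
      (Y.presheaf.map (homOfLE (inf_le_left : chartOpen I b a ⊓ chartOpen I b a' ≤ _)).op).hom T *
      (Y.presheaf.map (homOfLE (inf_le_right : chartOpen I b a ⊓ chartOpen I b a' ≤ _)).op).hom S = 1 := by
  have hρ : ∀ z, rho A b (chartOpen I b a ⊓ chartOpen I b a') z =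
      (Y.presheaf.map (homOfLE (inf_le_left :
        chartOpen I b a ⊓ chartOpen I b a' ≤ chartOpen I b a)).op).hom
        (rho A b (chartOpen I b a) z) := fun z =>
    RingHom.congr_fun (rho_restrict b inf_le_left) z
  have hρ' : ∀ z, rho A b (chartOpen I b a ⊓ chartOpen I b a') z =
      (Y.presheaf.map (homOfLE (inf_le_right :
        chartOpen I b a ⊓ chartOpen I b a' ≤ chartOpen I b a')).op).hom
        (rho A b (chartOpen I b a') z) := fun z =>
    RingHom.congr_fun (rho_restrict b inf_le_right) z
  have hbr : Y.basicOpen ((Y.presheaf.map (homOfLE (inf_le_left :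
        chartOpen I b a ⊓ chartOpen I b a' ≤ chartOpen I b a)).op).hom T) =
      (chartOpen I b a ⊓ chartOpen I b a') ⊓ Y.basicOpen T := Scheme.basicOpen_res _ _ _
  have hinj : Nonempty (chartOpen I b a ⊓ chartOpen I b a' : Y.Opens) → Function.Injective
      (Y.presheaf.map (homOfLE (inf_le_left :
        chartOpen I b a ⊓ chartOpen I b a' ≤ chartOpen I b a)).op).hom := fun hne =>
    haveI := hne
    map_injective_of_isIntegral Y (homOfLE (inf_le_left :
        chartOpen I b a ⊓ chartOpen I b a' ≤ chartOpen I b a))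
  generalize hTw : (Y.presheaf.map (homOfLE (inf_le_left :
        chartOpen I b a ⊓ chartOpen I b a' ≤ chartOpen I b a)).op).hom T = Tw at hbr
  generalize hSw : (Y.presheaf.map (homOfLE (inf_le_right :
        chartOpen I b a ⊓ chartOpen I b a' ≤ chartOpen I b a')).op).hom S = Sw
  have h1 : rho A b (chartOpen I b a ⊓ chartOpen I b a') a' =
      Tw * rho A b (chartOpen I b a ⊓ chartOpen I b a') a := by
    rw [hρ a', hT, map_mul, hTw, ← hρ a]
  have h2 : rho A b (chartOpen I b a ⊓ chartOpen I b a') a =
      Sw * rho A b (chartOpen I b a ⊓ chartOpen I b a') a' := by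
    rw [hρ' a, hS, map_mul, hSw, ← hρ' a']
  have hTS : Tw * Sw = 1 := by
    by_cases hne : Nonempty (chartOpen I b a ⊓ chartOpen I b a' : Y.Opens)
    · haveI := hne
      haveI : IsDomain Γ(Y, chartOpen I b a ⊓ chartOpen I b a') := inferInstance
      have hnz : rho A b (chartOpen I b a ⊓ chartOpen I b a') a ≠ 0 := by
        rw [hρ a]
        intro h0
        have h3 : rho A b (chartOpen I b a) a = 0 := hinj hne (h0.trans (map_zero _).symm)
        have hnzd := rho_chartOpen_mem_nonZeroDivisors hb a ha
        rw [h3] at hnzd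
        haveI : Nonempty (chartOpen I b a : Y.Opens) := ⟨⟨hne.some.1, hne.some.2.1⟩⟩
        haveI : IsDomain Γ(Y, chartOpen I b a) := inferInstance
        exact (nonZeroDivisors.ne_zero hnzd) rfl
      have h4 : rho A b (chartOpen I b a ⊓ chartOpen I b a') a * (Tw * Sw - 1) = 0 := by
        have h5 : rho A b (chartOpen I b a ⊓ chartOpen I b a') a =
            Sw * (Tw * rho A b (chartOpen I b a ⊓ chartOpen I b a') a) := by
          rw [← h1]; exact h2
        generalize rho A b (chartOpen I b a ⊓ chartOpen I b a') a = r at h5 ⊢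
        calc r * (Tw * Sw - 1) = Sw * (Tw * r) - r := by ring
          _ = 0 := by rw [← h5, sub_self]
      rcases mul_eq_zero.mp h4 with h5 | h5
      · exact absurd h5 hnz
      · exact sub_eq_zero.mp h5
    · have hbot : chartOpen I b a ⊓ chartOpen I b a' = ⊥ := by
        rw [eq_bot_iff]
        intro z hz
        exact (hne ⟨⟨z, hz⟩⟩).elim
      haveI : Subsingleton Γ(Y, chartOpen I b a ⊓ chartOpen I b a') := by
        rw [hbot]
        infer_instance
      exact Subsingleton.elim _ _
  refine ⟨?_, hTS⟩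
  apply le_antisymm
  · have hunit : IsUnit Tw := ⟨⟨Tw, Sw, hTS, by rw [mul_comm]; exact hTS⟩, rfl⟩
    have h5 : Y.basicOpen Tw = chartOpen I b a ⊓ chartOpen I b a' := Y.basicOpen_of_isUnit hunit
    rw [h5] at hbr
    conv_lhs => rw [hbr]
    exact inf_le_right
  · exact le_inf (Y.basicOpen_le T) (basicOpen_le_chartOpen hb a' a ha T hT)

/-- `A[I/a]` is generated by `a'/a` when `I = (a, a')` -/
theorem aeval_gen_surjective (a a' : A) (hI : I = Ideal.span {a, a'}) (ha : a ∈ I) (ha' : a' ∈ I) :
    Function.Surjective (aeval (R := A) (gen I a a' ha')) := by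
  have h1 := adjoin_gen_eq_top I a ({a, a'} : Set A) hI.symm
  have h2 : Algebra.adjoin A {gen I a a' ha'} = ⊤ := by
    rw [eq_top_iff, ← h1]
    apply Algebra.adjoin_le
    rintro z ⟨s, hs, hs', rfl⟩
    rcases hs' with rfl | rfl
    · rw [gen_self _ _ ha]
      exact Subalgebra.one_mem _
    · exact Algebra.subset_adjoin rfl
  rw [← AlgHom.range_eq_top, ← Algebra.adjoin_singleton_eq_range_aeval, h2]

/-- On an integral blow-up of `Spec A` in `I = (a, a')`, every section over the overlap of the two
charts is a difference of sections over the charts. -/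
theorem exists_sub_eq_of_overlap [IsIntegral Y]
    (hb : BlowUp.IsBlowUp b (Curv2.idealSheaf A I)) (a a' : A) (hI : I = Ideal.span {a, a'})
    (r : Γ(Y, chartOpen I b a ⊓ chartOpen I b a')) :
    ∃ (p : Γ(Y, chartOpen I b a)) (q : Γ(Y, chartOpen I b a')),
      (Y.presheaf.map (homOfLE (inf_le_left : chartOpen I b a ⊓ chartOpen I b a' ≤ _)).op).hom p -
      (Y.presheaf.map (homOfLE (inf_le_right : chartOpen I b a ⊓ chartOpen I b a' ≤ _)).op).hom q = r := by
  have ha : a ∈ I := hI ▸ Ideal.subset_span (by simp)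
  have ha' : a' ∈ I := hI ▸ Ideal.subset_span (by simp)
  obtain ⟨haff, Ψ, hΨ⟩ := exists_chartRingEquiv hb a ha
  obtain ⟨haff', Ψ', hΨ'⟩ := exists_chartRingEquiv hb a' ha'
  set t := gen I a a' ha' with ht
  set s := gen I a' a ha with hs
  have hT : rho A b (chartOpen I b a) a' = Ψ t * rho A b (chartOpen I b a) a := by
    rw [← hΨ a', ← hΨ a, ← map_mul, ht, gen_mul]
  have hS : rho A b (chartOpen I b a') a = Ψ' s * rho A b (chartOpen I b a') a' := by
    rw [← hΨ' a, ← hΨ' a', ← map_mul, hs, gen_mul]
  obtain ⟨hW, hTS⟩ := chartOpen_inf_eq_basicOpen hb a a' ha ha' (Ψ t) hT (Ψ' s) hS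
  have hρ : ∀ z, rho A b (chartOpen I b a ⊓ chartOpen I b a') z =
      (Y.presheaf.map (homOfLE (inf_le_left :
        chartOpen I b a ⊓ chartOpen I b a' ≤ chartOpen I b a)).op).hom
        (rho A b (chartOpen I b a) z) := fun z =>
    RingHom.congr_fun (rho_restrict b inf_le_left) z
  have hρ' : ∀ z, rho A b (chartOpen I b a ⊓ chartOpen I b a') z =
      (Y.presheaf.map (homOfLE (inf_le_right :
        chartOpen I b a ⊓ chartOpen I b a' ≤ chartOpen I b a')).op).hom
        (rho A b (chartOpen I b a') z) := fun z =>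
    RingHom.congr_fun (rho_restrict b inf_le_right) z
  -- abbreviations for the two restriction maps
  generalize hresU : (Y.presheaf.map (homOfLE (inf_le_left :
        chartOpen I b a ⊓ chartOpen I b a' ≤ chartOpen I b a)).op).hom = resU at hTS hρ ⊢
  generalize hresU' : (Y.presheaf.map (homOfLE (inf_le_right :
        chartOpen I b a ⊓ chartOpen I b a' ≤ chartOpen I b a')).op).hom = resU' at hTS hρ' ⊢
  -- the key claim on polynomials
  have key : ∀ (f : A[X]) (n : ℕ), ∃ (p : Γ(Y, chartOpen I b a)) (q : Γ(Y, chartOpen I b a')),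
      resU p - resU' q = resU (Ψ (aeval t f)) * resU' (Ψ' s) ^ n := by
    intro f
    induction f using Polynomial.induction_on' with
    | add f g hf hg =>
      intro n
      obtain ⟨p₁, q₁, h₁⟩ := hf n
      obtain ⟨p₂, q₂, h₂⟩ := hg n
      refine ⟨p₁ + p₂, q₁ + q₂, ?_⟩
      rw [map_add, map_add, map_add, map_add, map_add, add_mul, ← h₁, ← h₂]
      ring
    | monomial i c =>
      intro n
      have hmon : resU (Ψ (aeval t (monomial i c))) =
          rho A b (chartOpen I b a ⊓ chartOpen I b a') c * resU (Ψ t) ^ i := by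
        rw [← C_mul_X_pow_eq_monomial, map_mul, map_pow, aeval_C, aeval_X, map_mul, map_mul,
          map_pow, map_pow, hΨ, ← hρ]
      rw [hmon]
      rcases Nat.lt_or_ge i n with hlt | hge
      · -- negative power: comes from the second chart
        refine ⟨0, Ψ' (- (algebraMap A (Bl I a') c * s ^ (n - i))), ?_⟩
        rw [map_zero, zero_sub, map_neg, map_neg, neg_neg, map_mul, map_mul, map_pow, map_pow,
          hΨ', ← hρ']
        have : n = i + (n - i) := by omega
        conv_rhs => rw [this, pow_add]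
        calc _ = rho A b (chartOpen I b a ⊓ chartOpen I b a') c *
              ((resU (Ψ t) * resU' (Ψ' s)) ^ i * resU' (Ψ' s) ^ (n - i)) := by
                rw [hTS, one_pow, one_mul]
          _ = _ := by ring
      · refine ⟨Ψ (algebraMap A (Bl I a) c * t ^ (i - n)), 0, ?_⟩
        rw [map_zero, sub_zero, map_mul, map_mul, map_pow, map_pow, hΨ, ← hρ]
        have : i = (i - n) + n := by omega
        conv_rhs => rw [this, pow_add]
        calc _ = rho A b (chartOpen I b a ⊓ chartOpen I b a') c *
              (resU (Ψ t) ^ (i - n) * (resU (Ψ t) * resU' (Ψ' s)) ^ n) := by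
                rw [hTS, one_pow, mul_one]
          _ = _ := by ring
  -- localization
  letI : Algebra Γ(Y, chartOpen I b a) Γ(Y, chartOpen I b a ⊓ chartOpen I b a') :=
    (Y.presheaf.map (homOfLE (inf_le_left :
        chartOpen I b a ⊓ chartOpen I b a' ≤ chartOpen I b a)).op).hom.toAlgebra
  haveI hloc : IsLocalization.Away (Ψ t) Γ(Y, chartOpen I b a ⊓ chartOpen I b a') :=
    haff.isLocalization_of_eq_basicOpen (Ψ t) (homOfLE inf_le_left) hW
  obtain ⟨⟨p₀, ⟨_, n, rfl⟩⟩, hp₀⟩ := IsLocalization.surj (Submonoid.powers (Ψ t)) r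
  have hp₀' : r * resU (Ψ t) ^ n = resU p₀ := by
    rw [← hresU, ← map_pow]
    exact hp₀
  obtain ⟨f, hf⟩ := aeval_gen_surjective a a' hI ha ha' (Ψ.symm p₀)
  obtain ⟨p, q, hpq⟩ := key f n
  refine ⟨p, q, ?_⟩
  rw [hpq, ← ht] at *
  rw [hf, Ψ.apply_symm_apply, ← hp₀', mul_assoc, ← mul_pow, hTS, one_pow, mul_one]

end Groth.Agent.Lib.BlowUpOverlap84
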