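import Mathlib
import Groth.Agent.Lib.BlowUpOverlap84
import Groth.Agent.Lib.AffVanCover
import Groth.Agent.Lib.AffVanMV
import Groth.Agent.Lib.AffVanBridge
import Groth.Agent.Lib.AffVanSections
import Groth.Agent.Lib.StructureModule

set_option autoImplicit false
set_option maxHeartbeats 800000
set_option linter.style.haveILetI false
set_option linter.unusedSectionVars false
set_option linter.unusedVariables false
universe u

open CategoryTheory AlgebraicGeometry Opposite
open Groth.Agent.Lib.AffineBlowupAlg Groth.Agent.Lib.AffineBlowupChart Groth.Agent.Lib.BlowUpAmple68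
open Groth.Agent.Lib.BlowUpOverlap84

namespace Groth.Agent.Lib.BlowUpH1Van84

variable {A : Type u} [CommRing A] {I : Ideal A} {Y : Scheme.{u}} {b : Y ⟶ Spec (CommRingCat.of A)}

/-- `H^1(Y, O_Y) = 0` for an integral blow-up of `Spec A` in a two-generated ideal. -/
theorem subsingleton_HH_one_structureModule [IsIntegral Y]
    (hb : BlowUp.IsBlowUp b (Curv2.idealSheaf A I)) (a a' : A) (hI : I = Ideal.span {a, a'}) :
    Subsingleton (Coh.HH Y (Coh.structureModule Y) 1) := by
  have ha : a ∈ I := hI ▸ Ideal.subset_span (by simp)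
  have ha' : a' ∈ I := hI ▸ Ideal.subset_span (by simp)
  have haff := isAffineOpen_chartOpen hb a ha
  have haff' := isAffineOpen_chartOpen hb a' ha'
  have hqc : Coh.IsQCoh (Coh.structureModule Y) :=
    Groth.Agent.Lib.StructureModule.isQCoh_structureModule Y
  apply Groth.Agent.Lib.AffVanTop.subsingleton_H_of_HU_top (Coh.toAb (Coh.structureModule Y)) 1
  intro α
  have hcov : (⊤ : Y.Opens) ≤ chartOpen I b a ⊔ chartOpen I b a' := by
    intro z _
    obtain ⟨c, hc, hzc⟩ := Groth.Agent.Lib.BlowUpProper68.exists_mem_chartOpen_of_span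
      (I := I) (b := b) ({a, a'} : Set A) hI.symm hb.1 z
    rcases hc with rfl | rfl
    · exact Or.inl hzc
    · exact Or.inr hzc
  refine Groth.Agent.Lib.AffVanTop.eq_zero_of_mv (Coh.toAb (Coh.structureModule Y)) 0
    (le_top : chartOpen I b a ≤ ⊤) (le_top : chartOpen I b a' ≤ ⊤) hcov ?_ α
    (Groth.Agent.Lib.AffVan.HU_eq_zero_of_isAffineOpen _ hqc 0 haff _)
    (Groth.Agent.Lib.AffVan.HU_eq_zero_of_isAffineOpen _ hqc 0 haff' _)
  apply Groth.Agent.Lib.AffVanTop.exists_res_sub_res_eq_zero_deg
  intro r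
  obtain ⟨p, q, hpq⟩ := exists_sub_eq_of_overlap hb a a' hI r
  exact ⟨p, q, hpq⟩

end Groth.Agent.Lib.BlowUpH1Van84
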