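import Groth.Agent.Lib.BlowUpUniv3
import Groth.Prelude.Def_MeroSh

/-!
# Blowing up via its universal property, part 4 (helper24)

* `exists_appLE_mem_nonZeroDivisors`: a blowing up pulls nonzerodivisors of affine opens back to
  nonzerodivisors on small affine opens.
* `mem_nonZeroDivisors_of_mem_regSub`, `germ_mem_nonZeroDivisors`.
* `app_mem_regSub_of_isBlowUp`: a blowing up carries regular sections to regular sections.
-/

set_option autoImplicit false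
universe u
open CategoryTheory CategoryTheory.Limits AlgebraicGeometry TopologicalSpace

namespace Groth.Agent.Lib.BlowUpUniv

open Groth.Agent.Lib.RelCartier

section blowup

variable {X X' : Scheme.{u}} {𝓘 : X.IdealSheafData} {b : X' ⟶ X}

/-- A blowing up pulls a nonzerodivisor on an affine open back to a nonzerodivisor on a small
affine open neighbourhood of any given point. -/
theorem exists_appLE_mem_nonZeroDivisors (hb : BlowUp.IsBlowUp b 𝓘) (x' : X') (U : X.affineOpens)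
    (hxU : b x' ∈ U.1) (t : Γ(X, U.1)) (ht : t ∈ nonZeroDivisors Γ(X, U.1)) :
    ∃ (V₁ : X'.affineOpens) (e : V₁.1 ≤ b ⁻¹ᵁ U.1), x' ∈ V₁.1 ∧
      (b.appLE U.1 V₁.1 e).hom t ∈ nonZeroDivisors Γ(X', V₁.1) := by
  obtain ⟨V, hxV, s, hs, hIs⟩ := hb.1 x'
  have hxW : x' ∈ V.1 ⊓ b ⁻¹ᵁ U.1 := ⟨hxV, hxU⟩
  obtain ⟨_, ⟨V₁, hV₁, rfl⟩, hxV₁, hV₁W⟩ :=
    X'.isBasis_affineOpens.exists_subset_of_mem_open hxW (V.1 ⊓ b ⁻¹ᵁ U.1).2
  have hV₁V : (⟨V₁, hV₁⟩ : X'.affineOpens) ≤ V := fun y hy => (hV₁W hy).1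
  have e : V₁ ≤ b ⁻¹ᵁ U.1 := fun y hy => (hV₁W hy).2
  obtain ⟨hs₁, hIs₁⟩ := cartier_restrict (𝓘.comap b) hV₁V s hs hIs
  set s₁ : Γ(X', V₁) := X'.presheaf.map (homOfLE hV₁V).op s with hs₁def
  refine ⟨⟨V₁, hV₁⟩, e, hxV₁, ?_⟩
  set D : X'.Opens := X'.basicOpen s₁ with hDdef
  have hDV : D ≤ V₁ := X'.basicOpen_le s₁
  have hflat : Flat (D.ι ≫ b) := flat_basicOpen_ι_comp hb ⟨V₁, hV₁⟩ s₁ hIs₁
  have hDaff : IsAffine (D : Scheme) := hV₁.basicOpen s₁
  have e' : (⊤ : (D : Scheme).Opens) ≤ (D.ι ≫ b) ⁻¹ᵁ U.1 := by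
    intro y _
    exact e (hDV y.2)
  have h1 : ((D.ι ≫ b).appLE U.1 ⊤ e').hom.Flat :=
    Flat.flat_appLE (D.ι ≫ b) U.2 (isAffineOpen_top _) e'
  have hcomp : (D.ι ≫ b).appLE U.1 ⊤ e' =
      b.appLE U.1 V₁ e ≫ (X'.presheaf.map (homOfLE hDV).op ≫
        D.ι.appLE D ⊤ D.ι_preimage_self.ge) := by
    rw [← Category.assoc, Scheme.Hom.appLE_map, Scheme.Hom.appLE_comp_appLE]
  have h2 : ((D.ι ≫ b).appLE U.1 ⊤ e').hom t ∈ nonZeroDivisors Γ((D : Scheme), ⊤) :=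
    map_mem_nonZeroDivisors_of_flat _ h1 t ht
  have hloc : IsLocalization.Away s₁ Γ(X', D) := hV₁.isLocalization_basicOpen s₁
  have hinj1 : Function.Injective (X'.presheaf.map (homOfLE hDV).op).hom :=
    IsLocalization.injective (M := Submonoid.powers s₁) Γ(X', D) (Submonoid.powers_le.mpr hs₁)
  have hinj2 : Function.Injective (D.ι.appLE D ⊤ D.ι_preimage_self.ge).hom :=
    (ConcreteCategory.bijective_of_isIso _).1
  rw [mem_nonZeroDivisors_iff_right]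
  intro u hu
  apply hinj1
  apply hinj2
  rw [map_zero, map_zero]
  apply (mem_nonZeroDivisors_iff_right.mp h2)
  rw [hcomp]
  simp only [CommRingCat.hom_comp, RingHom.comp_apply]
  rw [← map_mul, ← map_mul, hu, map_zero, map_zero]

end blowup

/-- A regular section (germwise nonzerodivisor) is a nonzerodivisor of the ring of sections. -/
theorem mem_nonZeroDivisors_of_mem_regSub {X : Scheme.{u}} (U : X.Opens) (s : Γ(X, U))
    (hs : s ∈ Mero.regSub X U) : s ∈ nonZeroDivisors Γ(X, U) := by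
  rw [mem_nonZeroDivisors_iff_right]
  intro a ha
  refine TopCat.Presheaf.section_ext X.sheaf U a 0 (fun x hx => ?_)
  change (X.presheaf.germ U x hx).hom a = (X.presheaf.germ U x hx).hom 0
  rw [map_zero]
  apply mem_nonZeroDivisors_iff_right.mp (hs ⟨x, hx⟩)
  change (X.presheaf.germ U x hx).hom a * (X.presheaf.germ U x hx).hom s = 0
  rw [← map_mul, ha, map_zero]

/-- Germs of nonzerodivisors on affine opens are nonzerodivisors. -/
theorem germ_mem_nonZeroDivisors {X : Scheme.{u}} (V : X.Opens) (hV : IsAffineOpen V) (x : X)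
    (hx : x ∈ V) (t : Γ(X, V)) (ht : t ∈ nonZeroDivisors Γ(X, V)) :
    (X.presheaf.germ V x hx).hom t ∈ nonZeroDivisors (X.presheaf.stalk x) := by
  letI alg : Algebra Γ(X, V) (X.presheaf.stalk x) := X.presheaf.algebra_section_stalk ⟨x, hx⟩
  haveI hloc : IsLocalization.AtPrime (X.presheaf.stalk x) (hV.primeIdealOf ⟨x, hx⟩).asIdeal :=
    hV.isLocalization_stalk ⟨x, hx⟩
  haveI : Module.Flat Γ(X, V) (X.presheaf.stalk x) :=
    IsLocalization.flat (X.presheaf.stalk x) (hV.primeIdealOf ⟨x, hx⟩).asIdeal.primeCompl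
  have hflat : (algebraMap Γ(X, V) (X.presheaf.stalk x)).Flat := by
    rw [RingHom.Flat]
    convert (inferInstance : Module.Flat Γ(X, V) (X.presheaf.stalk x))
  exact map_mem_nonZeroDivisors_of_flat _ hflat t ht

/-- A blowing up carries regular sections to regular sections. -/
theorem app_mem_regSub_of_isBlowUp {X X' : Scheme.{u}} {𝓘 : X.IdealSheafData} {b : X' ⟶ X}
    (hb : BlowUp.IsBlowUp b 𝓘) (U : X.Opens) (s : Γ(X, U)) (hs : s ∈ Mero.regSub X U) :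
    b.app U s ∈ Mero.regSub X' (b ⁻¹ᵁ U) := by
  rintro ⟨x', hx'⟩
  have hxU : b x' ∈ U := hx'
  obtain ⟨_, ⟨U₀, hU₀, rfl⟩, hxU₀, hU₀U⟩ :=
    X.isBasis_affineOpens.exists_subset_of_mem_open hxU U.2
  replace hU₀U : U₀ ≤ U := hU₀U
  have ht : X.presheaf.map (homOfLE hU₀U).op s ∈ nonZeroDivisors Γ(X, U₀) :=
    mem_nonZeroDivisors_of_mem_regSub U₀ _ (Mero.regSub_res (homOfLE hU₀U) hs)
  obtain ⟨V₁, e, hxV₁, hnzd⟩ := exists_appLE_mem_nonZeroDivisors hb x' ⟨U₀, hU₀⟩ hxU₀ _ ht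
  have hV₁U : V₁.1 ≤ b ⁻¹ᵁ U := e.trans (fun y hy => hU₀U hy)
  have h1 := germ_mem_nonZeroDivisors V₁.1 V₁.2 x' hxV₁ _ hnzd
  have h2 : (b.appLE U₀ V₁.1 e).hom ((X.presheaf.map (homOfLE hU₀U).op).hom s) =
      (X'.presheaf.map (homOfLE hV₁U).op).hom ((b.app U).hom s) := by
    rw [← CommRingCat.comp_apply, ← CommRingCat.comp_apply, Scheme.Hom.map_appLE]
    rfl
  rw [h2] at h1
  change (X'.presheaf.germ (b ⁻¹ᵁ U) x' hx').hom ((b.app U).hom s) ∈ _
  rw [← X'.presheaf.germ_res_apply (homOfLE hV₁U) x' hxV₁]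
  exact h1

end Groth.Agent.Lib.BlowUpUniv
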