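import Groth.Agent.Lib.EtSheafAlgSp91
import Groth.Agent.Lib.RepBySpC
import Groth.Agent.Lib.AlgSpBasic
import Groth.Agent.Lib.GrpFieldSep46b
import Groth.Agent.Lib.AlgSpFibre
import Groth.Agent.Lib.H69EpiFpqc
import Groth.Agent.Lib.AlgSpGpdFieldRestr91
import Groth.Agent.Lib.AlgSpLocP
import Groth.Agent.Lib.H69AlgSpLocST2
import Groth.Agent.Lib.AlgSpPoints

/-!
# Bootstrap consequences of "separated + locally quasi-finite over a scheme is a scheme" (helper91)

Everything here takes the bootstrap theorem as a hypothesis `LqfSepRep S`.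
-/

set_option autoImplicit false
set_option maxHeartbeats 400000
universe u

namespace Groth.Agent.Lib.BootstrapLqf91

open CategoryTheory CategoryTheory.Limits AlgebraicGeometry Opposite AlgSp
open Groth.Agent.Lib.H69AlgSp Groth.Agent.Lib.AlgSpBasic Groth.Agent.Lib.EtSheafAlgSp91

variable {S : Scheme.{u}}

/-- The bootstrap theorem (an algebraic space separated and locally quasi-finite over a scheme is a scheme), as a
hypothesis. -/
def LqfSepRep (S : Scheme.{u}) : Prop :=
  ∀ (T : Over S) (X : AlgSp.Space S) (f : X ⟶ (AlgSp.ofScheme S).obj T),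
    AlgSp.LocP (@LocallyQuasiFinite ⊓ @LocallyOfFiniteType) f.hom → AlgSp.IsSeparatedMor f.hom →
    X.obj.obj.IsRepresentable

theorem relativelyRepresentable_of_lqf (H : LqfSepRep S) {F : PSp S} {X : Over S}
    (p : (pyon S).obj X ⟶ F)
    (hp : RepBySpWith (LocP (@LocallyQuasiFinite ⊓ @LocallyOfFiniteType)) p) :
    (pyon S).relativelyRepresentable p := by
  intro T ξ
  have sq := IsPullback.of_hasPullback p ξ
  obtain ⟨h, hA, hQ⟩ := hp ξ _ _ sq
  let X' : Space S := ⟨⟨pullback p ξ, h⟩, hA⟩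
  let fst' : X'.obj ⟶ (yon S).obj X := ObjectProperty.homMk (pullback.fst p ξ)
  let snd' : X'.obj ⟶ (yon S).obj T := ObjectProperty.homMk (pullback.snd p ξ)
  let m : X'.obj ⟶ (yon S).obj (X ⨯ T) := prod.lift fst' snd' ≫ inv (prodComparison (yon S) X T)
  have hm2 : m ≫ (yon S).map prod.snd = snd' := by
    change (prod.lift fst' snd' ≫ inv (prodComparison (yon S) X T)) ≫ (yon S).map prod.snd = snd'
    rw [Category.assoc, ← prodComparison_snd, IsIso.inv_hom_id_assoc, prod.lift_snd]
  haveI : Mono (prod.lift fst' snd') := by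
    constructor
    intro Z a b hab
    have h1 : a ≫ fst' = b ≫ fst' := by
      have := hab =≫ prod.fst
      simpa only [Category.assoc, prod.lift_fst] using this
    have h2 : a ≫ snd' = b ≫ snd' := by
      have := hab =≫ prod.snd
      simpa only [Category.assoc, prod.lift_snd] using this
    apply Sheaf.hom_ext
    apply sq.hom_ext
    · exact congrArg (fun k => k.hom) h1
    · exact congrArg (fun k => k.hom) h2
  haveI : Mono m := mono_comp _ _
  have hsep : IsSeparatedMor m := Groth.Agent.Lib.GrpFieldSep46.isSeparatedMor_of_mono m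
  have hloc : LocP (@LocallyQuasiFinite ⊓ @LocallyOfFiniteType) m := by
    refine locP_of_comp (@LocallyQuasiFinite ⊓ @LocallyOfFiniteType) ?_ (IsAlgSpace.yon_obj T) m
      ((yon S).map prod.snd) ?_
    · intro A B C f g hfg
      have h1 : LocallyQuasiFinite (f ≫ g) := hfg.1
      have h2 : LocallyOfFiniteType (f ≫ g) := hfg.2
      exact ⟨LocallyQuasiFinite.of_comp f g, locallyOfFiniteType_of_comp f g⟩
    · rw [hm2]
      exact hQ
  have hrep : (pullback p ξ).IsRepresentable :=
    H (X ⨯ T) X' (ObjectProperty.homMk m) hloc hsep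
  obtain ⟨b, ⟨R⟩⟩ := hrep.has_representation
  let e : (pyon S).obj b ≅ pullback p ξ := Functor.RepresentableBy.equivUliftYonedaIso _ _ R
  obtain ⟨snd, hsnd⟩ := (pyon S).map_surjective (e.hom ≫ pullback.snd p ξ)
  refine ⟨b, snd, e.hom ≫ pullback.fst p ξ, ?_⟩
  rw [hsnd]
  exact IsPullback.of_iso sq e.symm (Iso.refl _) (Iso.refl _) (Iso.refl _) (by simp) (by simp)
    (by simp) (by simp)

/-- A morphism of sheaves representable by etale morphisms of schemes is etale. -/
theorem isEtaleMor_of_repWith' {X Y : Sp S} (f : X ⟶ Y) (hf : RepWith @Etale f) : IsEtaleMor f :=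
  fun _ _ hφ => (repWith_isMultiplicative (S := S) @Etale).comp_mem _ _ hφ hf

theorem isEtaleMor_comp {X Y Z : Sp S} {f : X ⟶ Y} {g : Y ⟶ Z} (hf : IsEtaleMor f) (hg : IsEtaleMor g) :
    IsEtaleMor (f ≫ g) := by
  intro U φ hφ
  rw [← Category.assoc]
  exact hg _ (hf φ hφ)

/-- Precomposing a surjective etale map representable by algebraic spaces with an atlas of its source. -/
theorem repBySpWith_atlas_comp {F : PSp S} (U : Space S) (p : U.obj.obj ⟶ F)
    (h2 : RepBySpWith (IsSurjectiveMor ⊓ IsEtaleMor) p) {V : Over S} (a : (yon S).obj V ⟶ U.obj)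
    (hae : RepWith @Etale a) (has : RepWith @Surjective a) :
    RepBySpWith (IsSurjectiveMor ⊓ IsEtaleMor) (a.hom ≫ p) := by
  intro T ξ F'' fst snd sq
  have sqX := IsPullback.of_hasPullback p ξ
  obtain ⟨h', hA', hS', hE'⟩ := h2 ξ _ _ sqX
  let k : F'' ⟶ pullback p ξ := sqX.lift (fst ≫ a.hom) snd (by rw [Category.assoc]; exact sq.w)
  have hk1 : k ≫ pullback.fst p ξ = fst ≫ a.hom := sqX.lift_fst _ _ _
  have hk2 : k ≫ pullback.snd p ξ = snd := sqX.lift_snd _ _ _
  have sqTop : IsPullback fst k a.hom (pullback.fst p ξ) := by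
    apply IsPullback.of_bot (v₂₁ := pullback.snd p ξ) (v₂₂ := p) (h₃₁ := ξ) ?_ hk1.symm sqX
    rw [hk2]
    exact sq
  let X' : Sp S := ⟨pullback p ξ, h'⟩
  have h'' : Presheaf.IsSheaf (J S) F'' :=
    isSheaf_of_isPullback (F := (yon S).obj V) (G := U.obj) (H := X') sqTop
  refine ⟨h'', ?_⟩
  let X'' : Sp S := ⟨F'', h''⟩
  let fst_s : X'' ⟶ (yon S).obj V := ObjectProperty.homMk fst
  let k_s : X'' ⟶ X' := ObjectProperty.homMk k
  let pf_s : X' ⟶ U.obj := ObjectProperty.homMk (pullback.fst p ξ)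
  let snd_s : X' ⟶ (yon S).obj T := ObjectProperty.homMk (pullback.snd p ξ)
  have sqS : IsPullback fst_s k_s a pf_s :=
    IsPullback.of_map_of_faithful (sheafToPresheaf (J S) (Type (u + 1))) sqTop
  have hke : RepWith @Etale k_s := repWith_snd_of_isPullback _ sqS hae
  have hks : RepWith @Surjective k_s := repWith_snd_of_isPullback _ sqS has
  have hAlg : IsAlgSpace X'' :=
    Groth.Agent.Lib.AlgSpFibre.isAlgSpace_of_isPullback U.property.diag (IsAlgSpace.yon_obj V) hA' sqS
  haveI : Sheaf.IsLocallySurjective k_s := isLocallySurjective_of_etale_surjective k_s hke hks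
  haveI : Epi k_s := (Sheaf.isLocallySurjective_iff_epi _).1 inferInstance
  have hkS : IsSurjectiveMor k_s := Groth.Agent.Lib.H69EpiFpqc.isSurjectiveMor_of_epi k_s
  have hcomp : (ObjectProperty.homMk snd : X'' ⟶ (yon S).obj T) = k_s ≫ snd_s := by
    apply Sheaf.hom_ext
    exact hk2.symm
  refine ⟨hAlg, ?_, ?_⟩
  · rw [hcomp]
    exact Groth.Agent.Lib.AlgSpGpdFieldRestr91.isSurjectiveMor_comp hkS hS'
  · rw [hcomp]
    exact isEtaleMor_comp (isEtaleMor_of_repWith' k_s hke) hE'

/-- **Bootstrap, etale form.** An etale sheaf receiving a surjective etale map, representable by algebraic spaces, from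
an algebraic space is an algebraic space. -/
theorem isAlgSpaceP_of_etale_cover (H : LqfSepRep S) {F : PSp S}
    (h1 : Presheaf.IsSheaf (Jet S) F) (U : Space S) (p : U.obj.obj ⟶ F)
    (h2 : RepBySpWith (IsSurjectiveMor ⊓ IsEtaleMor) p) : IsAlgSpaceP F := by
  obtain ⟨V, a, hae, has⟩ := U.property.atlas
  have hq := repBySpWith_atlas_comp U p h2 a hae has
  have hq' : RepBySpWith (LocP (@LocallyQuasiFinite ⊓ @LocallyOfFiniteType)) (a.hom ≫ p) := by
    intro T ξ F' fst snd sq
    obtain ⟨h, hA, -, hE⟩ := hq ξ fst snd sq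
    refine ⟨h, hA, ?_⟩
    have := (Groth.Agent.Lib.AlgSpLocP.isEtaleMor_iff_locP (IsAlgSpace.yon_obj T) _).1 hE
    exact Groth.Agent.Lib.H69AlgSpLocST2.locP_mono (fun _ _ f hf => by
      have : Etale f := hf
      exact ⟨locallyQuasiFinite_of_etale f, inferInstance⟩) this
  have hr := relativelyRepresentable_of_lqf H (a.hom ≫ p) hq'
  have he : (MorphismProperty.inverseImage @Etale (Over.forget S)).relative (pyon S) (a.hom ≫ p) := by
    refine ⟨hr, ?_⟩
    intro T b g fst snd sq
    obtain ⟨h, hA, -, hE⟩ := hq g fst ((pyon S).map snd) sq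
    exact (isEtaleMor_yon_map_iff snd).1 hE
  have hs : (MorphismProperty.inverseImage @Surjective (Over.forget S)).relative (pyon S)
      (a.hom ≫ p) := by
    refine ⟨hr, ?_⟩
    intro T b g fst snd sq
    obtain ⟨h, hA, hS, -⟩ := hq g fst ((pyon S).map snd) sq
    exact ⟨(Groth.Agent.Lib.AlgSpPoints.surjective_map_yon_map_iff (φ := snd)).1 hS⟩
  exact isAlgSpaceP_of_etale_chart h1 _ he hs

/-- **Bootstrap, fppf sheaf form.** -/
theorem isAlgSpace_of_etale_cover (H : LqfSepRep S) (F : Sp S) (X : Space S)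
    (p : X.obj ⟶ F) (hp : RepBySpWith (IsSurjectiveMor ⊓ IsEtaleMor) p.hom) : IsAlgSpace F :=
  (isAlgSpaceP_obj_iff F).1
    (isAlgSpaceP_of_etale_cover H (isSheaf_et_of_fppf F.property) X p.hom hp)

end Groth.Agent.Lib.BootstrapLqf91
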