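import Mathlib

/-!
# Bosch FRG 7.3 core, part A: Groebner-style division for vectors of polynomials

Pure Mathlib.  `cf`, `supp`, `mono` for vectors of polynomials `Fin r → MvPolynomial (Fin n) S`,
triangular division `exists_div`, division modulo a nilpotent `exists_div_nilp`, Dickson lemma
`exists_finset_dickson`, and the abstract finiteness theorem `fg_of_primitive_factor`.
-/

set_option autoImplicit false
universe u

namespace Groth.Agent.Lib.BoschCore76

open MvPolynomial

section Vec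
variable {S : Type*} [CommRing S] {n r : ℕ}

/-- coefficient of a vector of polynomials at a module monomial (position, exponent) -/
def cf (x : Fin r → MvPolynomial (Fin n) S) (ν : Fin r × (Fin n →₀ ℕ)) : S := coeff ν.2 (x ν.1)

@[simp] lemma cf_zero (ν : Fin r × (Fin n →₀ ℕ)) :
    cf (0 : Fin r → MvPolynomial (Fin n) S) ν = 0 := by simp [cf]

@[simp] lemma cf_add (x y : Fin r → MvPolynomial (Fin n) S) (ν : Fin r × (Fin n →₀ ℕ)) :
    cf (x + y) ν = cf x ν + cf y ν := by simp [cf]

@[simp] lemma cf_sub (x y : Fin r → MvPolynomial (Fin n) S) (ν : Fin r × (Fin n →₀ ℕ)) :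
    cf (x - y) ν = cf x ν - cf y ν := by simp [cf]

@[simp] lemma cf_neg (x : Fin r → MvPolynomial (Fin n) S) (ν : Fin r × (Fin n →₀ ℕ)) :
    cf (-x) ν = - cf x ν := by simp [cf]

@[simp] lemma cf_smul (s : S) (x : Fin r → MvPolynomial (Fin n) S) (ν : Fin r × (Fin n →₀ ℕ)) :
    cf (s • x) ν = s * cf x ν := by simp [cf]

lemma cf_sum {ι : Type*} (t : Finset ι) (f : ι → Fin r → MvPolynomial (Fin n) S)
    (ν : Fin r × (Fin n →₀ ℕ)) : cf (∑ i ∈ t, f i) ν = ∑ i ∈ t, cf (f i) ν := by
  simp [cf, Finset.sum_apply, coeff_sum]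

lemma cf_ext {x y : Fin r → MvPolynomial (Fin n) S} (h : ∀ ν, cf x ν = cf y ν) : x = y := by
  funext j
  ext α
  exact h (j, α)

/-- the module monomial `c • ζ^α e_j` -/
noncomputable def mono (ν : Fin r × (Fin n →₀ ℕ)) (c : S) : Fin r → MvPolynomial (Fin n) S :=
  Pi.single ν.1 (monomial ν.2 c)

lemma cf_mono (ν ν' : Fin r × (Fin n →₀ ℕ)) (c : S) :
    cf (mono ν c) ν' = if ν = ν' then c else 0 := by
  classical
  obtain ⟨j, α⟩ := ν
  obtain ⟨j', α'⟩ := ν'
  simp only [cf, mono]
  by_cases hj : j = j'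
  · subst hj
    simp only [Pi.single_eq_same, coeff_monomial, Prod.mk.injEq, true_and]
  · rw [Pi.single_eq_of_ne (Ne.symm hj)]
    simp [hj]

lemma cf_monomial_smul (γ : Fin n →₀ ℕ) (c : S) (x : Fin r → MvPolynomial (Fin n) S)
    (ν : Fin r × (Fin n →₀ ℕ)) :
    cf (monomial γ c • x) ν = if γ ≤ ν.2 then c * cf x (ν.1, ν.2 - γ) else 0 := by
  classical
  simp only [cf, Pi.smul_apply, smul_eq_mul]
  rw [coeff_monomial_mul']

/-- the finite support of a vector of polynomials -/
noncomputable def supp (x : Fin r → MvPolynomial (Fin n) S) : Finset (Fin r × (Fin n →₀ ℕ)) := by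
  classical
  exact (Finset.univ : Finset (Fin r)).biUnion fun j => (x j).support.image fun α => (j, α)

lemma mem_supp {x : Fin r → MvPolynomial (Fin n) S} {ν : Fin r × (Fin n →₀ ℕ)} :
    ν ∈ supp x ↔ cf x ν ≠ 0 := by
  classical
  obtain ⟨j, α⟩ := ν
  simp only [supp, Finset.mem_biUnion, Finset.mem_univ, Finset.mem_image, mem_support_iff,
    true_and, cf, Prod.mk.injEq]
  constructor
  · rintro ⟨j', α', h, rfl, rfl⟩
    exact h
  · intro h
    exact ⟨j, α, h, rfl, rfl⟩

lemma supp_eq_empty {x : Fin r → MvPolynomial (Fin n) S} (h : supp x = ∅) : x = 0 := by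
  apply cf_ext
  intro ν
  by_contra hν
  have : ν ∈ supp x := mem_supp.mpr hν
  rw [h] at this
  simp at this

end Vec

section Key
variable {n r : ℕ} (m : MonomialOrder (Fin n))

/-- the key of a module monomial in the lexicographic well-order (term over position) -/
noncomputable def key (ν : Fin r × (Fin n →₀ ℕ)) : m.syn ×ₗ Fin r := toLex (m.toSyn ν.2, ν.1)

lemma key_injective : Function.Injective (key (r := r) m) := by
  rintro ⟨j, α⟩ ⟨j', α'⟩ h
  have h' : (m.toSyn α, j) = (m.toSyn α', j') := toLex.injective h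
  have h1 : m.toSyn α = m.toSyn α' := (Prod.mk.injEq _ _ _ _ ▸ h').1
  have h2 : j = j' := (Prod.mk.injEq _ _ _ _ ▸ h').2
  rw [m.toSyn.injective h1, h2]

lemma key_shift_le {ν ν' : Fin r × (Fin n →₀ ℕ)} (γ : Fin n →₀ ℕ)
    (h : key m ν ≤ key m ν') : key m (ν.1, ν.2 + γ) ≤ key m (ν'.1, ν'.2 + γ) := by
  simp only [key, Prod.Lex.toLex_le_toLex, map_add] at h ⊢
  rcases h with h | ⟨h1, h2⟩
  · left
    exact add_lt_add_left h _
  · right
    exact ⟨by rw [h1], h2⟩

/-- divisibility of module monomials: same position and exponent `≤` -/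
def dvd (μ ν : Fin r × (Fin n →₀ ℕ)) : Prop := μ.1 = ν.1 ∧ μ.2 ≤ ν.2

end Key

section Div
variable {S : Type*} [CommRing S] {n r : ℕ} (m : MonomialOrder (Fin n))
variable {ι : Type*} [Fintype ι]

/-- standard vectors: no monomial divisible by some `μ i` -/
def IsStd (μ : ι → Fin r × (Fin n →₀ ℕ)) (z : Fin r → MvPolynomial (Fin n) S) : Prop :=
  ∀ ν ∈ supp z, ∀ i, ¬ dvd (μ i) ν

omit [Fintype ι] in
lemma isStd_zero (μ : ι → Fin r × (Fin n →₀ ℕ)) :
    IsStd μ (0 : Fin r → MvPolynomial (Fin n) S) := by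
  intro ν hν
  rw [mem_supp] at hν
  simp at hν

omit [Fintype ι] in
lemma IsStd.add {μ : ι → Fin r × (Fin n →₀ ℕ)} {z z' : Fin r → MvPolynomial (Fin n) S}
    (h : IsStd μ z) (h' : IsStd μ z') : IsStd μ (z + z') := by
  intro ν hν i
  rw [mem_supp, cf_add] at hν
  by_cases h0 : cf z ν = 0
  · rw [h0, zero_add] at hν
    exact h' ν (mem_supp.mpr hν) i
  · exact h ν (mem_supp.mpr h0) i

omit [Fintype ι] in
lemma IsStd.smul {μ : ι → Fin r × (Fin n →₀ ℕ)} {z : Fin r → MvPolynomial (Fin n) S}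
    (h : IsStd μ z) (s : S) : IsStd μ (s • z) := by
  intro ν hν i
  rw [mem_supp, cf_smul] at hν
  exact h ν (mem_supp.mpr (right_ne_zero_of_mul hν)) i

include m in
/-- triangular (Groebner-style) division by a family with unit pseudo-leading coefficients -/
theorem exists_div (u : ι → Fin r → MvPolynomial (Fin n) S) (μ : ι → Fin r × (Fin n →₀ ℕ))
    (hu1 : ∀ i, IsUnit (cf (u i) (μ i)))
    (hu2 : ∀ i, ∀ ν ∈ supp (u i), key m ν ≤ key m (μ i))
    (x : Fin r → MvPolynomial (Fin n) S) :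
    ∃ (a : ι → MvPolynomial (Fin n) S) (z : Fin r → MvPolynomial (Fin n) S),
      x = ∑ i, a i • u i + z ∧ IsStd μ z := by
  classical
  have main : ∀ β : m.syn ×ₗ Fin r, ∀ x : Fin r → MvPolynomial (Fin n) S,
      (∀ ν ∈ supp x, key m ν ≤ β) →
      ∃ (a : ι → MvPolynomial (Fin n) S) (z : Fin r → MvPolynomial (Fin n) S),
        x = ∑ i, a i • u i + z ∧ IsStd μ z := by
    intro β
    induction β using WellFoundedLT.induction with
    | ind β ih =>
    intro x hx
    have hlt : ∀ y : Fin r → MvPolynomial (Fin n) S, (∀ ν ∈ supp y, key m ν < β) →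
        ∃ (a : ι → MvPolynomial (Fin n) S) (z : Fin r → MvPolynomial (Fin n) S),
          y = ∑ i, a i • u i + z ∧ IsStd μ z := by
      intro y hy
      rcases (supp y).eq_empty_or_nonempty with h | h
      · refine ⟨0, 0, ?_, isStd_zero μ⟩
        rw [supp_eq_empty h]; simp
      · obtain ⟨ν₁, hν₁, hmax⟩ := Finset.exists_max_image (supp y) (key m) h
        exact ih (key m ν₁) (hy ν₁ hν₁) y hmax
    by_cases hβ : ∃ ν₀ ∈ supp x, key m ν₀ = β
    · obtain ⟨ν₀, hν₀, rfl⟩ := hβ
      by_cases hdiv : ∃ i, dvd (μ i) ν₀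
      · obtain ⟨i, hi1, hi2⟩ := hdiv
        obtain ⟨v, hv⟩ := hu1 i
        have hγ' : (μ i).2 + (ν₀.2 - (μ i).2) = ν₀.2 := add_tsub_cancel_of_le hi2
        have hγle : ν₀.2 - (μ i).2 ≤ ν₀.2 := tsub_le_self
        have hsub : ν₀.2 - (ν₀.2 - (μ i).2) = (μ i).2 := tsub_tsub_cancel_of_le hi2
        have hx'lt : ∀ ν ∈ supp (x - monomial (ν₀.2 - (μ i).2)
            (cf x ν₀ * (↑v⁻¹ : S)) • u i), key m ν < key m ν₀ := by
          intro ν hν
          rw [mem_supp] at hν
          have hne : ν ≠ ν₀ := by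
            rintro rfl
            apply hν
            rw [cf_sub, cf_monomial_smul, if_pos hγle, hsub]
            have : (ν.1, (μ i).2) = μ i := by rw [← hi1]
            rw [this]
            rw [← hv, mul_assoc, Units.inv_mul, mul_one, sub_self]
          have hkne : key m ν ≠ key m ν₀ := fun h => hne (key_injective m h)
          refine lt_of_le_of_ne ?_ hkne
          rw [cf_sub, cf_monomial_smul] at hν
          by_cases h0 : cf x ν = 0
          · rw [h0, zero_sub, neg_ne_zero] at hν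
            split_ifs at hν with hle
            · have h1 : (ν.1, ν.2 - (ν₀.2 - (μ i).2)) ∈ supp (u i) :=
                mem_supp.mpr (right_ne_zero_of_mul hν)
              have h2 := key_shift_le m (ν₀.2 - (μ i).2) (hu2 i _ h1)
              simp only at h2
              rw [tsub_add_cancel_of_le hle, hγ', hi1] at h2
              exact h2
            · exact absurd rfl hν
          · exact hx ν (mem_supp.mpr h0)
        obtain ⟨a', z', h1, h2⟩ := hlt _ hx'lt
        refine ⟨a' + Pi.single i (monomial (ν₀.2 - (μ i).2) (cf x ν₀ * (↑v⁻¹ : S))),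
          z', ?_, h2⟩
        have hsum : ∑ j, (a' + Pi.single i (monomial (ν₀.2 - (μ i).2)
            (cf x ν₀ * (↑v⁻¹ : S))) : ι → MvPolynomial (Fin n) S) j • u j =
            ∑ j, a' j • u j + monomial (ν₀.2 - (μ i).2) (cf x ν₀ * (↑v⁻¹ : S)) • u i := by
          simp only [Pi.add_apply, add_smul, Finset.sum_add_distrib]
          congr 1
          rw [Finset.sum_eq_single i]
          · rw [Pi.single_eq_same]
          · intro j _ hj
            rw [Pi.single_eq_of_ne hj, zero_smul]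
          · intro h; exact absurd (Finset.mem_univ i) h
        rw [hsum, add_right_comm, ← h1, sub_add_cancel]
      · have hx'lt : ∀ ν ∈ supp (x - mono ν₀ (cf x ν₀)), key m ν < key m ν₀ := by
          intro ν hν
          rw [mem_supp, cf_sub, cf_mono] at hν
          have hne : ν ≠ ν₀ := by
            rintro rfl
            apply hν
            rw [if_pos rfl, sub_self]
          have hkne : key m ν ≠ key m ν₀ := fun h => hne (key_injective m h)
          refine lt_of_le_of_ne ?_ hkne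
          rw [if_neg (Ne.symm hne), sub_zero] at hν
          exact hx ν (mem_supp.mpr hν)
        obtain ⟨a', z', h1, h2⟩ := hlt _ hx'lt
        refine ⟨a', z' + mono ν₀ (cf x ν₀), ?_, ?_⟩
        · rw [← add_assoc, ← h1, sub_add_cancel]
        · intro ν hν i
          rw [mem_supp, cf_add, cf_mono] at hν
          by_cases hνν : ν₀ = ν
          · subst hνν
            exact fun h => hdiv ⟨i, h⟩
          · rw [if_neg hνν, add_zero] at hν
            exact h2 ν (mem_supp.mpr hν) i
    · exact hlt x (fun ν hν => lt_of_le_of_ne (hx ν hν) (fun h => hβ ⟨ν, hν, h⟩))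
  rcases (supp x).eq_empty_or_nonempty with h | h
  · refine ⟨0, 0, ?_, isStd_zero μ⟩
    rw [supp_eq_empty h]; simp
  · obtain ⟨ν₁, hν₁, hmax⟩ := Finset.exists_max_image (supp x) (key m) h
    exact main (key m ν₁) x hmax

include m in
/-- division by a family which is triangular only modulo a nilpotent element `e` -/
theorem exists_div_nilp (y u h : ι → Fin r → MvPolynomial (Fin n) S)
    (μ : ι → Fin r × (Fin n →₀ ℕ)) (e : S) (he : IsNilpotent e)
    (hy : ∀ i, y i = u i + e • h i)
    (hu1 : ∀ i, IsUnit (cf (u i) (μ i)))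
    (hu2 : ∀ i, ∀ ν ∈ supp (u i), key m ν ≤ key m (μ i))
    (x : Fin r → MvPolynomial (Fin n) S) :
    ∃ (a : ι → MvPolynomial (Fin n) S) (z : Fin r → MvPolynomial (Fin n) S),
      x = ∑ i, a i • y i + z ∧ IsStd μ z := by
  obtain ⟨k, hk⟩ := he
  have main : ∀ k : ℕ, ∀ x : Fin r → MvPolynomial (Fin n) S,
      ∃ (a : ι → MvPolynomial (Fin n) S) (z w : Fin r → MvPolynomial (Fin n) S),
        x = ∑ i, a i • y i + z + (e ^ k) • w ∧ IsStd μ z := by
    intro k
    induction k with
    | zero => intro x; exact ⟨0, 0, x, by simp, isStd_zero μ⟩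
    | succ k ih =>
      intro x
      obtain ⟨a, z, w, h1, h2⟩ := ih x
      obtain ⟨b, zw, h3, h4⟩ := exists_div m u μ hu1 hu2 w
      refine ⟨fun i => a i + C (e ^ k) * b i, z + e ^ k • zw, - ∑ i, b i • h i, ?_,
        h2.add (h4.smul _)⟩
      have hterm : ∀ i, e ^ k • (b i • u i) =
          (C (e ^ k) * b i) • y i - e ^ (k + 1) • (b i • h i) := by
        intro i
        have hu : u i = y i - e • h i := by rw [hy i, add_sub_cancel_right]
        rw [hu, smul_sub, smul_sub]
        congr 1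
        · rw [C_mul', smul_assoc]
        · rw [smul_comm (b i) e, smul_smul, pow_succ]
      have hw : e ^ k • w = ∑ i, (C (e ^ k) * b i) • y i + e ^ k • zw +
          e ^ (k + 1) • (- ∑ i, b i • h i) := by
        rw [h3, smul_add, Finset.smul_sum, smul_neg, Finset.smul_sum]
        rw [Finset.sum_congr rfl (fun i _ => hterm i), Finset.sum_sub_distrib]
        abel
      rw [h1, hw]
      simp only [add_smul, Finset.sum_add_distrib]
      abel
  obtain ⟨a, z, w, h1, h2⟩ := main k x
  refine ⟨a, z, ?_, h2⟩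
  rw [h1, hk, zero_smul, add_zero]

end Div

section Dickson
variable {n r : ℕ}

/-- Dickson's lemma for module monomials -/
theorem exists_finset_dickson (Δ : Set (Fin r × (Fin n →₀ ℕ))) :
    ∃ T : Finset (Fin r × (Fin n →₀ ℕ)), (↑T : Set _) ⊆ Δ ∧ ∀ ν ∈ Δ, ∃ τ ∈ T, dvd τ ν := by
  classical
  have h : ∀ j : Fin r, ∃ Tj : Finset (Fin n →₀ ℕ), (∀ α ∈ Tj, (j, α) ∈ Δ) ∧
      ∀ α, (j, α) ∈ Δ → ∃ τ ∈ Tj, τ ≤ α := by
    intro j
    have hpwo : {α : Fin n →₀ ℕ | (j, α) ∈ Δ}.IsPWO := Set.isPWO_of_wellQuasiOrderedLE _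
    have hfin : {α : Fin n →₀ ℕ | Minimal (· ∈ {α : Fin n →₀ ℕ | (j, α) ∈ Δ}) α}.Finite := by
      apply IsAntichain.finite_of_partiallyWellOrderedOn (r := (· ≤ ·))
      · exact setOfPred_minimal_antichain _
      · exact hpwo.mono (fun α hα => hα.prop)
    refine ⟨hfin.toFinset, ?_, ?_⟩
    · intro α hα
      exact ((hfin.mem_toFinset).mp hα).prop
    · intro α hα
      obtain ⟨b, hb, hmin⟩ := hpwo.exists_le_minimal hα
      exact ⟨b, hfin.mem_toFinset.mpr hmin, hb⟩
  choose Tj h1 h2 using h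
  refine ⟨Finset.univ.biUnion fun j => (Tj j).image fun α => (j, α), ?_, ?_⟩
  · intro ν hν
    simp only [Finset.coe_biUnion, Finset.coe_univ, Set.mem_univ, Finset.coe_image,
      Set.iUnion_true, Set.mem_iUnion, Set.mem_image, Finset.mem_coe] at hν
    obtain ⟨j, α, hα, rfl⟩ := hν
    exact h1 j α hα
  · rintro ⟨j, α⟩ hν
    obtain ⟨τ, hτ, hle⟩ := h2 j α hν
    refine ⟨(j, τ), ?_, rfl, hle⟩
    simp only [Finset.mem_biUnion, Finset.mem_univ, Finset.mem_image, true_and]
    exact ⟨j, τ, hτ, rfl⟩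

end Dickson

section Main
variable {S : Type*} [CommRing S] {n r : ℕ}

/-- build a vector of polynomials from a coefficient function on a finite set -/
noncomputable def ofCf (s : Finset (Fin r × (Fin n →₀ ℕ))) (g : Fin r × (Fin n →₀ ℕ) → S) :
    Fin r → MvPolynomial (Fin n) S := ∑ ν ∈ s, mono ν (g ν)

lemma cf_ofCf (s : Finset (Fin r × (Fin n →₀ ℕ))) (g : Fin r × (Fin n →₀ ℕ) → S)
    (ν : Fin r × (Fin n →₀ ℕ)) : cf (ofCf s g) ν = if ν ∈ s then g ν else 0 := by
  classical
  rw [ofCf, cf_sum]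
  simp only [cf_mono]
  rw [Finset.sum_ite_eq' s ν]

/-- Abstract finiteness theorem: over a local ring `S` in which finitely many nonunits are
always multiples of a single nilpotent element, a submodule `N` of `S[ζ]^r` in which every
nonzero element is a scalar multiple of a primitive element of `N` is finitely generated. -/
theorem fg_of_primitive_factor [IsLocalRing S]
    (hS : ∀ F : Finset S, (∀ a ∈ F, ¬ IsUnit a) → ∃ e, IsNilpotent e ∧ ∀ a ∈ F, e ∣ a)
    (N : Submodule (MvPolynomial (Fin n) S) (Fin r → MvPolynomial (Fin n) S))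
    (hsat : ∀ z ∈ N, z ≠ 0 → ∃ (c : S) (y : Fin r → MvPolynomial (Fin n) S), y ∈ N ∧
      (∃ ν, IsUnit (cf y ν)) ∧ z = c • y) : N.FG := by
  classical
  let m : MonomialOrder (Fin n) := MonomialOrder.lex
  let Δ : Set (Fin r × (Fin n →₀ ℕ)) := {ν | ∃ y ∈ N, IsUnit (cf y ν) ∧
    ∀ ν', IsUnit (cf y ν') → key m ν' ≤ key m ν}
  obtain ⟨T, hTΔ, hT⟩ := exists_finset_dickson Δ
  have hch : ∀ τ : T, ∃ y ∈ N, IsUnit (cf y τ.1) ∧
      ∀ ν', IsUnit (cf y ν') → key m ν' ≤ key m τ.1 := fun τ => hTΔ τ.2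
  choose y hyN hyu hymax using hch
  -- the finite set of nonunit coefficients
  let F : Finset S := Finset.univ.biUnion fun τ : T =>
    ((supp (y τ)).image (cf (y τ))).filter (fun a => ¬ IsUnit a)
  have hF : ∀ a ∈ F, ¬ IsUnit a := by
    intro a ha
    simp only [F, Finset.mem_biUnion, Finset.mem_filter] at ha
    obtain ⟨_, _, _, h⟩ := ha
    exact h
  obtain ⟨e, he, hediv⟩ := hS F hF
  have hq : ∀ (τ : T) (ν : Fin r × (Fin n →₀ ℕ)), ∃ q : S,
      ¬ IsUnit (cf (y τ) ν) → cf (y τ) ν = e * q := by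
    intro τ ν
    by_cases hν : IsUnit (cf (y τ) ν)
    · exact ⟨0, fun h => absurd hν h⟩
    · by_cases h0 : cf (y τ) ν = 0
      · exact ⟨0, fun _ => by rw [h0, mul_zero]⟩
      · have hmem : cf (y τ) ν ∈ F := by
          simp only [F, Finset.mem_biUnion, Finset.mem_filter, Finset.mem_image, Finset.mem_univ,
            true_and]
          exact ⟨τ, ⟨ν, mem_supp.mpr h0, rfl⟩, hν⟩
        obtain ⟨q, hq⟩ := hediv _ hmem
        exact ⟨q, fun _ => hq⟩
  choose q hq using hq
  let u : T → Fin r → MvPolynomial (Fin n) S := fun τ =>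
    ofCf (supp (y τ)) (fun ν => if IsUnit (cf (y τ) ν) then cf (y τ) ν else 0)
  let h : T → Fin r → MvPolynomial (Fin n) S := fun τ =>
    ofCf (supp (y τ)) (fun ν => if IsUnit (cf (y τ) ν) then 0 else q τ ν)
  have hcfu : ∀ τ ν, cf (u τ) ν = if IsUnit (cf (y τ) ν) then cf (y τ) ν else 0 := by
    intro τ ν
    simp only [u, cf_ofCf]
    by_cases hν : ν ∈ supp (y τ)
    · rw [if_pos hν]
    · rw [if_neg hν]
      have h0 : cf (y τ) ν = 0 := by
        by_contra h0; exact hν (mem_supp.mpr h0)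
      rw [h0, if_neg not_isUnit_zero]
  have hyuh : ∀ τ, y τ = u τ + e • h τ := by
    intro τ
    apply cf_ext
    intro ν
    rw [cf_add, cf_smul, hcfu]
    simp only [h, cf_ofCf]
    by_cases hν : ν ∈ supp (y τ)
    · rw [if_pos hν]
      by_cases hU : IsUnit (cf (y τ) ν)
      · rw [if_pos hU, if_pos hU, mul_zero, add_zero]
      · rw [if_neg hU, if_neg hU, zero_add]
        exact hq τ ν hU
    · rw [if_neg hν, mul_zero, add_zero]
      have h0 : cf (y τ) ν = 0 := by
        by_contra h0; exact hν (mem_supp.mpr h0)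
      rw [h0, if_neg not_isUnit_zero]
  have hu1 : ∀ τ : T, IsUnit (cf (u τ) τ.1) := by
    intro τ
    rw [hcfu, if_pos (hyu τ)]
    exact hyu τ
  have hu2 : ∀ τ : T, ∀ ν ∈ supp (u τ), key m ν ≤ key m τ.1 := by
    intro τ ν hν
    rw [mem_supp, hcfu] at hν
    by_cases hU : IsUnit (cf (y τ) ν)
    · exact hymax τ ν hU
    · rw [if_neg hU] at hν
      exact absurd rfl hν
  have hdiv := exists_div_nilp m y u h (fun τ : T => τ.1) e he hyuh hu1 hu2
  have hle : N ≤ Submodule.span (MvPolynomial (Fin n) S) (Set.range y) := by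
    intro x hx
    obtain ⟨a, z, hxz, hz⟩ := hdiv x
    have hsum : ∑ τ, a τ • y τ ∈ Submodule.span (MvPolynomial (Fin n) S) (Set.range y) :=
      Submodule.sum_mem _ (fun τ _ => Submodule.smul_mem _ _ (Submodule.subset_span ⟨τ, rfl⟩))
    have hsumN : ∑ τ, a τ • y τ ∈ N :=
      Submodule.sum_mem _ (fun τ _ => Submodule.smul_mem _ _ (hyN τ))
    have hzN : z ∈ N := by
      have : z = x - ∑ τ, a τ • y τ := by rw [hxz]; abel
      rw [this]
      exact N.sub_mem hx hsumN
    have hz0 : z = 0 := by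
      by_contra hz0
      obtain ⟨c, y', hy'N, ⟨ν₁, hν₁⟩, hzc⟩ := hsat z hzN hz0
      have hne : ((supp y').filter fun ν => IsUnit (cf y' ν)).Nonempty := by
        refine ⟨ν₁, Finset.mem_filter.mpr ⟨mem_supp.mpr hν₁.ne_zero, hν₁⟩⟩
      obtain ⟨ν₂, hν₂, hmax⟩ := Finset.exists_max_image _ (key m) hne
      rw [Finset.mem_filter] at hν₂
      have hΔ : ν₂ ∈ Δ := by
        refine ⟨y', hy'N, hν₂.2, fun ν' hν' => hmax ν' ?_⟩
        exact Finset.mem_filter.mpr ⟨mem_supp.mpr hν'.ne_zero, hν'⟩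
      obtain ⟨τ, hτ, hdvd⟩ := hT ν₂ hΔ
      have hzν : ν₂ ∈ supp z := by
        rw [mem_supp, hzc, cf_smul]
        intro h0
        have hc0 : c = 0 := by
          obtain ⟨v, hv⟩ := hν₂.2
          rw [← hv] at h0
          exact (Units.mul_left_eq_zero v).mp h0
        apply hz0
        rw [hzc, hc0, zero_smul]
      exact hz ν₂ hzν ⟨τ, hτ⟩ hdvd
    rw [hxz, hz0, add_zero]
    exact hsum
  have hge : Submodule.span (MvPolynomial (Fin n) S) (Set.range y) ≤ N := by
    rw [Submodule.span_le]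
    rintro _ ⟨τ, rfl⟩
    exact hyN τ
  rw [le_antisymm hle hge]
  exact Submodule.fg_span (Set.finite_range y)

end Main

end Groth.Agent.Lib.BoschCore76
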