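import Groth.Agent.Lib.BoschCore76Y

/-!
# Bosch FRG 8.3 core, part AA: the integral closure as a `ValuationRing` instance
-/

set_option autoImplicit false
set_option linter.style.haveILetI false
universe u v
open AdicRing Polynomial

namespace Groth.Agent.Lib.BoschCore76

section VR
variable {R : Type u} [CommRing R] [IsDomain R] [ValuationRing R] [Ring.KrullDimLE 1 R]
  (t : R) (ht : t ≠ 0) [IsAdicComplete (Ideal.span {t}) R]
  (L : Type v) [Field L] [Algebra R L]

include ht in
theorem valuationRing_integralClosure_V (hinj : Function.Injective (algebraMap R L))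
    [Algebra.IsAlgebraic R L] : ValuationRing (integralClosure R L) := by
  refine @ValuationRing.mk _ _ _ ⟨fun a b => ?_⟩
  by_cases hb : b = 0
  · exact ⟨0, Or.inl (by rw [mul_zero, hb])⟩
  by_cases ha : a = 0
  · exact ⟨0, Or.inr (by rw [mul_zero, ha])⟩
  have hb' : (b : L) ≠ 0 := fun h => hb (Subtype.ext h)
  have ha' : (a : L) ≠ 0 := fun h => ha (Subtype.ext h)
  rcases isIntegral_or_isIntegral_inv_V t ht L hinj ((a : L) / (b : L)) with h | h
  · refine ⟨⟨_, h⟩, Or.inr (Subtype.ext ?_)⟩
    show (b : L) * ((a : L) / (b : L)) = a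
    rw [mul_div_cancel₀ _ hb']
  · refine ⟨⟨_, h⟩, Or.inl (Subtype.ext ?_)⟩
    show (a : L) * ((a : L) / (b : L))⁻¹ = b
    rw [inv_div, mul_div_cancel₀ _ ha']

end VR

end Groth.Agent.Lib.BoschCore76
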