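import Groth.Agent.Lib.BoschCore76F
import Mathlib.RingTheory.FinitePresentation

/-!
# Bosch FRG 7.3 core, part G: truncations of algebras topologically of finite type

* `ker_evalₐ_eq_map` : kernel of `AdicCompletion.evalₐ J k` is `J^k`-extended.
* `rhoK I n k : R⟨ζ⟩ →ₐ[R] (R/I^k)[ζ]`, surjective with kernel `I^k R⟨ζ⟩`.
* `truncLift` : the induced surjection `(R/I^k)[ζ] → A/I^k A` for `φ : R⟨ζ⟩ → A`.
-/

set_option autoImplicit false
universe u

namespace Groth.Agent.Lib.BoschCore76

open MvPolynomial AdicRing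

section Eval
variable {S : Type*} [CommRing S] (J : Ideal S)

lemma ker_evalₐ_eq_map (fg : J.FG) (k : ℕ) :
    RingHom.ker (AdicCompletion.evalₐ J k).toRingHom =
      (J ^ k).map (algebraMap S (AdicCompletion J S)) := by
  ext x
  trans x ∈ (AdicCompletion.eval J S k).ker
  · have eq : J ^ k * ⊤ = J ^ k := by simp
    have hinj : Function.Injective (Ideal.Quotient.factor (le_of_eq eq)) := by
      simpa [RingHom.injective_iff_ker_eq_bot, Ideal.Quotient.factor_ker]
        using Ideal.map_mk_eq_bot_of_le (le_of_eq eq.symm)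
    rw [RingHom.mem_ker, LinearMap.mem_ker]
    have := AdicCompletion.factor_eval_eq_evalₐ J x (le_of_eq eq)
    constructor
    · intro h
      apply hinj
      rw [map_zero]
      rw [← h]
      exact this
    · intro h
      show AdicCompletion.evalₐ J k x = 0
      rw [← this, h, map_zero]
  · rw [← AdicCompletion.pow_smul_top_eq_ker_eval fg]
    simp

end Eval

section RhoK
variable {R : Type u} [CommRing R] (I : Ideal R) (n k : ℕ)

/-- reduction modulo `I^k` of restricted power series, as an `R`-algebra map -/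
noncomputable def rhoK : RPow R I n →ₐ[R] MvPolynomial (Fin n) (R ⧸ I ^ k) :=
  ((quotientEquivQuotientMvPolynomial (σ := Fin n) (I ^ k)).symm : _ →ₐ[R] _).comp
    ((Ideal.quotientEquivAlgOfEq R
        (Ideal.map_pow (C : R →+* MvPolynomial (Fin n) R) I k).symm).toAlgHom.comp
      ((AdicCompletion.evalₐ (I.map (C : R →+* MvPolynomial (Fin n) R)) k).restrictScalars R))

lemma rhoK_surjective : Function.Surjective (rhoK I n k) := by
  unfold rhoK
  exact ((quotientEquivQuotientMvPolynomial (σ := Fin n) (I ^ k)).symm.surjective).comp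
    ((Ideal.quotientEquivAlgOfEq R
        (Ideal.map_pow (C : R →+* MvPolynomial (Fin n) R) I k).symm).surjective.comp
      (AdicCompletion.surjective_evalₐ _ k))

lemma rhoK_eq_zero_iff (x : RPow R I n) :
    rhoK I n k x = 0 ↔
      AdicCompletion.evalₐ (I.map (C : R →+* MvPolynomial (Fin n) R)) k x = 0 := by
  have h : rhoK I n k x = (quotientEquivQuotientMvPolynomial (σ := Fin n) (I ^ k)).symm
      ((Ideal.quotientEquivAlgOfEq R
        (Ideal.map_pow (C : R →+* MvPolynomial (Fin n) R) I k).symm)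
        (AdicCompletion.evalₐ (I.map (C : R →+* MvPolynomial (Fin n) R)) k x)) := rfl
  rw [h, EmbeddingLike.map_eq_zero_iff, EmbeddingLike.map_eq_zero_iff]

lemma rhoK_ker (hI : I.FG) :
    RingHom.ker (rhoK I n k).toRingHom = (I ^ k).map (algebraMap R (RPow R I n)) := by
  have h1 : RingHom.ker (AdicCompletion.evalₐ (I.map (C : R →+* MvPolynomial (Fin n) R)) k).toRingHom
      = (I ^ k).map (algebraMap R (RPow R I n)) := by
    rw [ker_evalₐ_eq_map (I.map (C : R →+* MvPolynomial (Fin n) R)) (hI.map _) k,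
      ← Ideal.map_pow, Ideal.map_map]
    rfl
  rw [← h1]
  ext x
  rw [RingHom.mem_ker, RingHom.mem_ker]
  exact rhoK_eq_zero_iff I n k x

lemma rhoK_algebraMap (a : R) : rhoK I n k (algebraMap R _ a) =
    C (Ideal.Quotient.mk (I ^ k) a) := by
  rw [AlgHom.commutes]
  rfl

end RhoK

section Lift
variable {P Q T : Type*} [CommRing P] [CommRing Q] [CommRing T]

/-- kernel of the map induced on a quotient -/
lemma ker_liftOfSurjective (ρ : P →+* Q) (hρ : Function.Surjective ρ) (g : P →+* T)
    (hg : RingHom.ker ρ ≤ RingHom.ker g) :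
    RingHom.ker (ρ.liftOfSurjective hρ ⟨g, hg⟩) = (RingHom.ker g).map ρ := by
  have : RingHom.ker g = (RingHom.ker (ρ.liftOfSurjective hρ ⟨g, hg⟩)).comap ρ := by
    ext x
    rw [Ideal.mem_comap, RingHom.mem_ker, RingHom.mem_ker,
      ρ.liftOfSurjective_comp_apply hρ ⟨g, hg⟩ x]
  rw [this, Ideal.map_comap_of_surjective ρ hρ]

lemma liftOfSurjective_surjective (ρ : P →+* Q) (hρ : Function.Surjective ρ) (g : P →+* T)
    (hg : RingHom.ker ρ ≤ RingHom.ker g) (hgs : Function.Surjective g) :
    Function.Surjective (ρ.liftOfSurjective hρ ⟨g, hg⟩) := by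
  intro y
  obtain ⟨x, rfl⟩ := hgs y
  exact ⟨ρ x, ρ.liftOfSurjective_comp_apply hρ ⟨g, hg⟩ x⟩

end Lift


section TruncLift
variable {R : Type u} [CommRing R] (I : Ideal R) {n : ℕ} {A : Type*} [CommRing A] [Algebra R A]
  (φ : RPow R I n →ₐ[R] A) (k : ℕ)

/-- the composite `R⟨ζ⟩ → A → A/I^k A` -/
noncomputable def truncG : RPow R I n →+* A ⧸ (I ^ k).map (algebraMap R A) :=
  (Ideal.Quotient.mk _).comp φ.toRingHom

lemma truncG_surjective (hφ : Function.Surjective φ) : Function.Surjective (truncG I φ k) :=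
  Ideal.Quotient.mk_surjective.comp hφ

lemma map_pow_map_eq :
    ((I ^ k).map (algebraMap R (RPow R I n))).map φ.toRingHom = (I ^ k).map (algebraMap R A) := by
  rw [Ideal.map_map]
  congr 1
  ext a
  simp

lemma ker_truncG (hφ : Function.Surjective φ) :
    RingHom.ker (truncG I φ k) =
      (I ^ k).map (algebraMap R (RPow R I n)) ⊔ RingHom.ker φ.toRingHom := by
  unfold truncG
  rw [← RingHom.comap_ker, Ideal.mk_ker, ← map_pow_map_eq I φ k,
    Ideal.comap_map_of_surjective' φ.toRingHom hφ]

lemma rhoK_ker_le (hI : I.FG) :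
    RingHom.ker (rhoK I n k).toRingHom ≤ RingHom.ker (truncG I φ k) := by
  rw [rhoK_ker I n k hI]
  intro x hx
  rw [RingHom.mem_ker]
  unfold truncG
  rw [RingHom.comp_apply, Ideal.Quotient.eq_zero_iff_mem, ← map_pow_map_eq I φ k]
  exact Ideal.mem_map_of_mem _ hx

/-- the induced map `(R/I^k)[ζ] → A/I^k A` -/
noncomputable def truncLift (hI : I.FG) :
    MvPolynomial (Fin n) (R ⧸ I ^ k) →+* A ⧸ (I ^ k).map (algebraMap R A) :=
  (rhoK I n k).toRingHom.liftOfSurjective (rhoK_surjective I n k)
    ⟨truncG I φ k, rhoK_ker_le I φ k hI⟩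

lemma truncLift_rhoK (hI : I.FG) (x : RPow R I n) :
    truncLift I φ k hI (rhoK I n k x) = Ideal.Quotient.mk _ (φ x) :=
  (rhoK I n k).toRingHom.liftOfSurjective_comp_apply (rhoK_surjective I n k)
    ⟨truncG I φ k, rhoK_ker_le I φ k hI⟩ x

lemma truncLift_surjective (hI : I.FG) (hφ : Function.Surjective φ) :
    Function.Surjective (truncLift I φ k hI) :=
  liftOfSurjective_surjective _ _ _ _ (truncG_surjective I φ k hφ)

lemma truncLift_comp_C (hI : I.FG) :
    (truncLift I φ k hI).comp (C : R ⧸ I ^ k →+* MvPolynomial (Fin n) (R ⧸ I ^ k)) =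
      Ideal.quotientMap ((I ^ k).map (algebraMap R A)) (algebraMap R A) Ideal.le_comap_map := by
  apply Ideal.Quotient.ringHom_ext
  ext a
  rw [RingHom.comp_apply, RingHom.comp_apply, RingHom.comp_apply, ← rhoK_algebraMap I n k a,
    truncLift_rhoK, AlgHom.commutes, Ideal.quotientMap_mk]

lemma ker_truncLift (hI : I.FG) (hφ : Function.Surjective φ) :
    RingHom.ker (truncLift I φ k hI) = (RingHom.ker φ.toRingHom).map (rhoK I n k).toRingHom := by
  unfold truncLift
  rw [ker_liftOfSurjective, ker_truncG I φ k hφ, Ideal.map_sup, ← rhoK_ker I n k hI,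
    (Ideal.map_eq_bot_iff_le_ker _).mpr le_rfl, bot_sup_eq]

theorem C_finitePresentation (S : Type*) [CommRing S] (n : ℕ) :
    (C : S →+* MvPolynomial (Fin n) S).FinitePresentation := by
  rw [← MvPolynomial.algebraMap_eq, RingHom.finitePresentation_algebraMap]
  infer_instance

/-- truncations of an algebra topologically of finite presentation are of finite presentation -/
theorem finitePresentation_trunc (hI : I.FG) (hφ : Function.Surjective φ)
    (hker : (RingHom.ker φ.toRingHom).FG) :
    (Ideal.quotientMap ((I ^ k).map (algebraMap R A)) (algebraMap R A)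
      Ideal.le_comap_map).FinitePresentation := by
  rw [← truncLift_comp_C I φ k hI]
  apply RingHom.FinitePresentation.comp_surjective (C_finitePresentation _ n)
    (truncLift_surjective I φ k hI hφ)
  rw [ker_truncLift I φ k hI hφ]
  exact hker.map _

/-- if the `k`-th truncation is of finite presentation then the kernel of `φ` is finitely generated
modulo `I^k` -/
theorem fg_map_ker_of_finitePresentation_trunc (hI : I.FG) (hφ : Function.Surjective φ)
    (hfp : (Ideal.quotientMap ((I ^ k).map (algebraMap R A)) (algebraMap R A)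
      Ideal.le_comap_map).FinitePresentation) :
    ((RingHom.ker φ.toRingHom).map (rhoK I n k).toRingHom).FG := by
  rw [← truncLift_comp_C I φ k hI] at hfp
  have h1 : (truncLift I φ k hI).FinitePresentation :=
    RingHom.FinitePresentation.of_comp_finiteType _ hfp
      (RingHom.FiniteType.of_finitePresentation (C_finitePresentation _ n))
  rw [← ker_truncLift I φ k hI hφ]
  let _ : Algebra (MvPolynomial (Fin n) (R ⧸ I ^ k)) (A ⧸ (I ^ k).map (algebraMap R A)) :=
    (truncLift I φ k hI).toAlgebra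
  have h2 : Algebra.FinitePresentation (MvPolynomial (Fin n) (R ⧸ I ^ k))
      (A ⧸ (I ^ k).map (algebraMap R A)) := h1
  have h3 := Algebra.FinitePresentation.ker_fG_of_surjective
    (Algebra.ofId (MvPolynomial (Fin n) (R ⧸ I ^ k)) (A ⧸ (I ^ k).map (algebraMap R A)))
    (truncLift_surjective I φ k hI hφ)
  exact h3

end TruncLift


section IdealNak
variable {P : Type*} [CommRing P] (τ : P) [IsAdicComplete (Ideal.span {τ}) P]

/-- complete Nakayama for ideals -/
theorem ideal_le_span_of_le_span_add_smul {s : ℕ} (𝔞 : Ideal P) (g : Fin s → P)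
    (h : ∀ x ∈ 𝔞, ∃ (c : Fin s → P) (x₁ : P), x₁ ∈ 𝔞 ∧ x = ∑ i, c i * g i + τ * x₁) :
    𝔞 ≤ Ideal.span (Set.range g) := by
  let e : (Fin 1 → P) ≃ₗ[P] P := LinearEquiv.funUnique (Fin 1) P P
  have he : ∀ x : Fin 1 → P, e x = x 0 := fun x => rfl
  have key := le_span_of_le_span_add_smul τ (Submodule.comap e.toLinearMap 𝔞)
    (fun i => e.symm (g i)) (by
      intro x hx
      obtain ⟨c, x₁, hx₁, hxe⟩ := h (e x) hx
      refine ⟨c, e.symm x₁, ?_, ?_⟩
      · show e (e.symm x₁) ∈ 𝔞
        rw [e.apply_symm_apply]; exact hx₁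
      · apply e.injective
        rw [hxe, map_add, map_sum, map_smul, e.apply_symm_apply, smul_eq_mul]
        congr 1)
  intro x hx
  have hx' : e.symm x ∈ Submodule.comap e.toLinearMap 𝔞 := by
    show e (e.symm x) ∈ 𝔞
    rw [e.apply_symm_apply]; exact hx
  have := key hx'
  have h2 : e (e.symm x) ∈ Submodule.map e.toLinearMap
      (Submodule.span P (Set.range fun i => e.symm (g i))) := Submodule.mem_map_of_mem this
  rw [e.apply_symm_apply, Submodule.map_span, ← Set.range_comp] at h2
  have h3 : (⇑e.toLinearMap ∘ fun i => e.symm (g i)) = g := by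
    funext i
    simp
  rw [h3] at h2
  exact h2

end IdealNak

section KerFG

variable {R : Type u} [CommRing R] [IsDomain R] [ValuationRing R] (t : R)

/-- class (V): if all truncations of `A = R⟨ζ⟩/𝔞` are of finite presentation then `𝔞` is finitely
generated -/
theorem ker_fg_of_trunc_V (ht : ¬ IsUnit t) (hnil : ∀ e : R, ¬ IsUnit e → ∃ k : ℕ, t ∣ e ^ k)
    {n : ℕ} {A : Type*} [CommRing A] [Algebra R A]
    (φ : RPow R (Ideal.span {t}) n →ₐ[R] A) (hφ : Function.Surjective φ)
    (hfp : ∀ k : ℕ, (Ideal.quotientMap (((Ideal.span {t}) ^ (k + 1)).map (algebraMap R A))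
      (algebraMap R A) Ideal.le_comap_map).FinitePresentation) :
    (RingHom.ker φ.toRingHom).FG := by
  classical
  have hI : (Ideal.span {t}).FG := ⟨{t}, by simp⟩
  obtain ⟨n₀, hn₀⟩ := exists_pow_smul_mem_V t ht hnil (topFiniteType_rpow (Ideal.span {t}) n)
    (RPow R (Ideal.span {t}) n) (RingHom.ker φ.toRingHom)
  have hFG := fg_map_ker_of_finitePresentation_trunc (Ideal.span {t}) φ (n₀ + 1) hI hφ (hfp n₀)
  obtain ⟨s, g', hg'⟩ := Submodule.fg_iff_exists_fin_generating_family.mp hFG
  have hsurj : Function.Surjective (rhoK (Ideal.span {t}) n (n₀ + 1)).toRingHom :=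
    rhoK_surjective _ n (n₀ + 1)
  have hlift : ∀ j, ∃ a ∈ RingHom.ker φ.toRingHom,
      (rhoK (Ideal.span {t}) n (n₀ + 1)).toRingHom a = g' j := by
    intro j
    have : g' j ∈ (RingHom.ker φ.toRingHom).map (rhoK (Ideal.span {t}) n (n₀ + 1)).toRingHom := by
      rw [← hg']; exact Submodule.subset_span ⟨j, rfl⟩
    exact (Ideal.mem_map_iff_of_surjective _ hsurj).mp this
  choose a ha hag using hlift
  have := isAdicComplete_rpow t n
  have hle : RingHom.ker φ.toRingHom ≤ Ideal.span (Set.range a) := by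
    apply ideal_le_span_of_le_span_add_smul (algebraMap R (RPow R (Ideal.span {t}) n) t)
    intro x hx
    have hρx : (rhoK (Ideal.span {t}) n (n₀ + 1)).toRingHom x ∈
        Submodule.span (MvPolynomial (Fin n) (R ⧸ Ideal.span {t} ^ (n₀ + 1))) (Set.range g') := by
      rw [hg']; exact Ideal.mem_map_of_mem _ hx
    obtain ⟨c', hc'⟩ := (Submodule.mem_span_range_iff_exists_fun _).mp hρx
    have hcl : ∀ j, ∃ c, (rhoK (Ideal.span {t}) n (n₀ + 1)).toRingHom c = c' j :=
      fun j => hsurj (c' j)
    choose c hc using hcl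
    have hker : x - ∑ j, c j * a j ∈ RingHom.ker (rhoK (Ideal.span {t}) n (n₀ + 1)).toRingHom := by
      rw [RingHom.mem_ker, map_sub, map_sum, ← hc', sub_eq_zero]
      apply Finset.sum_congr rfl
      intro j _
      rw [map_mul, hc, hag, smul_eq_mul]
    rw [rhoK_ker _ n (n₀ + 1) hI, Ideal.span_singleton_pow,
      Ideal.map_span (algebraMap R (RPow R (Ideal.span {t}) n)) {t ^ (n₀ + 1)},
      Set.image_singleton, Ideal.mem_span_singleton', map_pow] at hker
    obtain ⟨w, hw⟩ := hker
    have hmem : (algebraMap R (RPow R (Ideal.span {t}) n) t) ^ (n₀ + 1) • w ∈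
        RingHom.ker φ.toRingHom := by
      rw [smul_eq_mul, mul_comm, hw]
      exact Ideal.sub_mem _ hx (Ideal.sum_mem _ fun j _ => Ideal.mul_mem_left _ _ (ha j))
    have h2 := hn₀ w ⟨_, hmem⟩
    refine ⟨c, (algebraMap R (RPow R (Ideal.span {t}) n) t) ^ n₀ • w, h2, ?_⟩
    rw [smul_eq_mul, ← mul_assoc, ← pow_succ', mul_comm _ w, hw]
    ring
  have heq : RingHom.ker φ.toRingHom = Ideal.span (Set.range a) := by
    apply le_antisymm hle
    rw [Ideal.span_le]
    rintro _ ⟨j, rfl⟩
    exact ha j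
  rw [heq]
  exact ⟨Finset.univ.image a, by simp⟩

end KerFG

end Groth.Agent.Lib.BoschCore76
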