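import Groth.Agent.Lib.BoschCore76J
import Mathlib.RingTheory.Polynomial.ScaleRoots
import Mathlib.RingTheory.Localization.BaseChange
import Mathlib.RingTheory.IntegralClosure.IsIntegral.Basic

/-!
# Bosch FRG 8.2: auxiliary lemmas for the blowing-up universal property (class (V))

* `isUnit_of_scaled_integral_eq` : the unit argument.
* `smul_eq_zero_of_noPowTorsion_V` : nonzero elements of `R` act injectively on torsion-free modules.
* `includeLeft_injective_of_noPowTorsion_V` : `D → D ⊗_R K` is injective.
* `smul_tensor_fractionRing_eq_zero` : nonzero elements of `R` act injectively on `D ⊗_R K`.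
-/

set_option autoImplicit false
universe u v
open AdicRing TensorProduct

namespace Groth.Agent.Lib.BoschCore76

section UnitArg
variable {D : Type*} [CommRing D]

/-- if `c = dγ` with `γ` regular and `γ` satisfies a monic equation scaled by `c`, then `d` is a
unit -/
theorem isUnit_of_scaled_integral_eq (γ d cD : D) (hγ : ∀ x : D, γ * x = 0 → x = 0)
    (hc : cD = d * γ) (b : ℕ → D) (m : ℕ) (hm : b m = 1)
    (heq : ∑ j ∈ Finset.range (m + 1), b j * cD ^ (m - j) * γ ^ j = 0) : IsUnit d := by
  have hγpow : ∀ (k : ℕ) (x : D), γ ^ k * x = 0 → x = 0 := by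
    intro k
    induction k with
    | zero => intro x hx; simpa using hx
    | succ k ih =>
      intro x hx
      apply ih
      apply hγ
      rw [← mul_assoc, ← pow_succ']
      exact hx
  have h1 : ∑ j ∈ Finset.range (m + 1), b j * cD ^ (m - j) * γ ^ j =
      γ ^ m * ∑ j ∈ Finset.range (m + 1), b j * d ^ (m - j) := by
    rw [Finset.mul_sum]
    apply Finset.sum_congr rfl
    intro j hj
    rw [Finset.mem_range] at hj
    have hjm : m - j + j = m := Nat.sub_add_cancel (Nat.lt_succ_iff.mp hj)
    rw [hc, mul_pow]
    calc b j * (d ^ (m - j) * γ ^ (m - j)) * γ ^ j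
        = b j * d ^ (m - j) * (γ ^ (m - j) * γ ^ j) := by ring
      _ = b j * d ^ (m - j) * γ ^ m := by rw [← pow_add, hjm]
      _ = γ ^ m * (b j * d ^ (m - j)) := by ring
  rw [h1] at heq
  have h2 := hγpow m _ heq
  rw [Finset.sum_range_succ, hm, Nat.sub_self, pow_zero, mul_one] at h2
  have h3 : ∑ j ∈ Finset.range m, b j * d ^ (m - j) =
      d * ∑ j ∈ Finset.range m, b j * d ^ (m - j - 1) := by
    rw [Finset.mul_sum]
    apply Finset.sum_congr rfl
    intro j hj
    rw [Finset.mem_range] at hj
    have : m - j = (m - j - 1) + 1 := by omega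
    conv_lhs => rw [this, pow_succ]
    ring
  rw [h3] at h2
  apply IsUnit.of_mul_eq_one (-∑ j ∈ Finset.range m, b j * d ^ (m - j - 1))
  linear_combination -h2

end UnitArg

section V
variable {R : Type u} [CommRing R] [IsDomain R] [ValuationRing R] [Ring.KrullDimLE 1 R]
  (t : R) (ht : t ≠ 0) [IsAdicComplete (Ideal.span {t}) R]

include ht in
/-- nonzero elements of `R` act injectively on modules without `t`-power torsion -/
theorem smul_eq_zero_of_noPowTorsion_V {M : Type*} [AddCommGroup M] [Module R M]
    (hM : NoPowTorsion (Ideal.span {t}) M) (c : R) (hc : c ≠ 0) (x : M) (hx : c • x = 0) :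
    x = 0 := by
  obtain ⟨htu, -⟩ := isBase_V_unpack t ht
  obtain ⟨m, b, hb⟩ := exists_dvd_pow' t htu c hc
  apply hM x m
  intro a ha
  rw [Ideal.span_singleton_pow, Ideal.mem_span_singleton] at ha
  obtain ⟨e, rfl⟩ := ha
  rw [hb, mul_assoc, mul_comm, mul_smul, hx, smul_zero]

include ht in
/-- a torsion-free `R`-algebra embeds into its generic fibre -/
theorem includeLeft_injective_of_noPowTorsion_V {D : Type*} [CommRing D] [Algebra R D]
    (hD : NoPowTorsion (Ideal.span {t}) D) :
    Function.Injective (algebraMap D (D ⊗[R] FractionRing R)) := by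
  apply IsLocalization.injective (D ⊗[R] FractionRing R)
    (M := Algebra.algebraMapSubmonoid D (nonZeroDivisors R))
  rintro _ ⟨r, hr, rfl⟩
  rw [mem_nonZeroDivisors_iff_right]
  intro x hx
  apply smul_eq_zero_of_noPowTorsion_V t ht hD r (nonZeroDivisors.ne_zero hr) x
  rw [Algebra.smul_def, mul_comm]
  exact hx

omit [ValuationRing R] [Ring.KrullDimLE 1 R] in
/-- nonzero elements of `R` act injectively on `D ⊗_R K` -/
theorem smul_tensor_fractionRing_eq_zero {D : Type*} [AddCommGroup D] [Module R D]
    (c : R) (hc : c ≠ 0) (y : D ⊗[R] FractionRing R) (hy : c • y = 0) : y = 0 := by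
  have hc' : algebraMap R (FractionRing R) c ≠ 0 := by
    intro h0
    exact hc ((IsFractionRing.injective R (FractionRing R)) (by rw [h0, map_zero]))
  have hμ : ∀ y : D ⊗[R] FractionRing R,
      LinearMap.lTensor D (LinearMap.mulLeft R (algebraMap R (FractionRing R) c)⁻¹) (c • y) = y := by
    intro y
    induction y using TensorProduct.induction_on with
    | zero => simp
    | tmul a k =>
      rw [← TensorProduct.tmul_smul, LinearMap.lTensor_tmul, LinearMap.mulLeft_apply,
        Algebra.smul_def, inv_mul_cancel_left₀ hc']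
    | add y z hy hz => rw [smul_add, map_add, hy, hz]
  rw [← hμ y, hy, map_zero]

end V

end Groth.Agent.Lib.BoschCore76
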