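import Groth.Agent.Lib.BoschCore76Y
import Groth.Agent.Lib.BoschCore76M
import Groth.Agent.Lib.BoschCore76G

/-!
# Bosch FRG 8.3 core, part AB: the content of a restricted power series

* `rhoK_algebraMap_mvPolynomial` : reduction modulo `I^k` on polynomials.
* `exists_primitive_mv` : primitive part of a multivariate polynomial over a valuation ring.
* `exists_content_rpow` : a nonzero restricted power series over a complete height one valuation
  ring is `c • (P + m' • h)` with `c ≠ 0`, `m'` a nonunit and `P` a polynomial with a coefficient `1`.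
* `injective_of_forall_primitive` : injectivity criterion for maps out of `R⟨ζ⟩`.
-/

set_option autoImplicit false
set_option linter.style.haveILetI false
universe u v
open AdicRing MvPolynomial

namespace Groth.Agent.Lib.BoschCore76

section RhoKPoly
variable {R : Type u} [CommRing R] (I : Ideal R) (n k : ℕ)

theorem rhoK_algebraMap_mvPolynomial (p : MvPolynomial (Fin n) R) :
    rhoK I n k (algebraMap (MvPolynomial (Fin n) R) (RPow R I n) p) =
      MvPolynomial.map (Ideal.Quotient.mk (I ^ k)) p := by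
  have h1 : AdicCompletion.evalₐ (I.map (C : R →+* MvPolynomial (Fin n) R)) k
      (algebraMap (MvPolynomial (Fin n) R) (RPow R I n) p) = Ideal.Quotient.mk _ p :=
    AdicCompletion.evalₐ_of _ k p
  have h : rhoK I n k (algebraMap (MvPolynomial (Fin n) R) (RPow R I n) p) =
      (quotientEquivQuotientMvPolynomial (σ := Fin n) (I ^ k)).symm
      ((Ideal.quotientEquivAlgOfEq R
        (Ideal.map_pow (C : R →+* MvPolynomial (Fin n) R) I k).symm)
        (AdicCompletion.evalₐ (I.map (C : R →+* MvPolynomial (Fin n) R)) k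
          (algebraMap (MvPolynomial (Fin n) R) (RPow R I n) p))) := rfl
  rw [h, h1, Ideal.quotientEquivAlgOfEq_mk]
  change Ideal.Quotient.lift (Ideal.map C (I ^ k) : Ideal (MvPolynomial (Fin n) R))
    (eval₂Hom (C.comp (Ideal.Quotient.mk (I ^ k))) X) (fun _ ha => eval₂_C_mk_eq_zero ha)
    (Ideal.Quotient.mk (Ideal.map C (I ^ k) : Ideal (MvPolynomial (Fin n) R)) p) = _
  rw [Ideal.Quotient.lift_mk]
  rw [MvPolynomial.map_eq_eval₂Hom_C_comp]

end RhoKPoly

section PrimitiveMv
variable {R : Type*} [CommRing R] [IsDomain R] [ValuationRing R] {σ : Type*}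

theorem exists_primitive_mv (p : MvPolynomial σ R) (hp : p ≠ 0) :
    ∃ (c : R) (q : MvPolynomial σ R), c ≠ 0 ∧ p = C c * q ∧ (∃ μ, coeff μ q = 1) ∧
      ∀ μ, c ∣ coeff μ p := by
  classical
  have hs : p.support.Nonempty := by
    rw [Finset.nonempty_iff_ne_empty, Ne, MvPolynomial.support_eq_empty]
    exact hp
  obtain ⟨i₀, hi₀, hdvd⟩ := exists_dvd_of_finset (fun i => coeff i p) p.support hs
  have hc0 : coeff i₀ p ≠ 0 := MvPolynomial.mem_support_iff.mp hi₀
  have hd : ∀ j, ∃ d, coeff j p = coeff i₀ p * d := by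
    intro j
    by_cases hj : j ∈ p.support
    · exact hdvd j hj
    · exact ⟨0, by rw [MvPolynomial.notMem_support_iff.mp hj, mul_zero]⟩
  choose d hd using hd
  refine ⟨coeff i₀ p, ∑ j ∈ p.support, monomial j (d j), hc0, ?_, ⟨i₀, ?_⟩, fun μ => ⟨d μ, hd μ⟩⟩
  · rw [Finset.mul_sum]
    conv_lhs => rw [← MvPolynomial.support_sum_monomial_coeff p]
    apply Finset.sum_congr rfl
    intro j _
    rw [C_mul_monomial, ← hd j]
  · rw [MvPolynomial.coeff_sum]
    simp only [coeff_monomial]
    rw [Finset.sum_ite_eq' p.support i₀, if_pos hi₀]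
    have := hd i₀
    exact (mul_left_cancel₀ hc0 (by rw [mul_one]; exact this)).symm

end PrimitiveMv

section Content
variable {R : Type u} [CommRing R] [IsDomain R] [ValuationRing R] (t : R) (n : ℕ)

theorem exists_content_rpow (f : RPow R (Ideal.span {t}) n) (hf : f ≠ 0) :
    ∃ (c : R) (P : MvPolynomial (Fin n) R) (m' : R) (h : RPow R (Ideal.span {t}) n),
      c ≠ 0 ∧ ¬ IsUnit m' ∧ (∃ μ, coeff μ P = 1) ∧
      f = c • (algebraMap (MvPolynomial (Fin n) R) (RPow R (Ideal.span {t}) n) P + m' • h) := by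
  classical
  have hI : (Ideal.span {t}).FG := ⟨{t}, by simp⟩
  -- `f` is nonzero modulo some power of `t`
  have hk : ∃ k, rhoK (Ideal.span {t}) n k f ≠ 0 := by
    by_contra hcon
    push Not at hcon
    apply hf
    have hH : IsHausdorff (Ideal.span {algebraMap R (RPow R (Ideal.span {t}) n) t})
        (RPow R (Ideal.span {t}) n) := (isAdicComplete_rpow t n).toIsHausdorff
    apply hH.haus'
    intro k
    rw [SModEq.zero, smul_eq_mul, Ideal.mul_top]
    have h1 : f ∈ RingHom.ker (rhoK (Ideal.span {t}) n k).toRingHom := hcon k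
    rw [rhoK_ker (Ideal.span {t}) n k hI, Ideal.map_pow] at h1
    have e : (Ideal.span {t}).map (algebraMap R (RPow R (Ideal.span {t}) n)) =
        Ideal.span {algebraMap R (RPow R (Ideal.span {t}) n) t} := by
      refine (Ideal.map_span _ {t}).trans ?_
      rw [Set.image_singleton]
    rwa [e] at h1
  obtain ⟨k, hk⟩ := hk
  obtain ⟨P₀, hP₀⟩ := MvPolynomial.map_surjective (Ideal.Quotient.mk (Ideal.span {t} ^ k))
    Ideal.Quotient.mk_surjective (rhoK (Ideal.span {t}) n k f)
  have hP₀ne : P₀ ≠ 0 := by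
    rintro rfl
    rw [map_zero] at hP₀
    exact hk hP₀.symm
  obtain ⟨c, P, hc, hPc, hP1, hcdvd⟩ := exists_primitive_mv P₀ hP₀ne
  -- `f - P₀ ∈ t^k T`
  have h2 : f - algebraMap (MvPolynomial (Fin n) R) (RPow R (Ideal.span {t}) n) P₀ ∈
      RingHom.ker (rhoK (Ideal.span {t}) n k).toRingHom := by
    rw [RingHom.mem_ker]
    show rhoK (Ideal.span {t}) n k _ = 0
    rw [map_sub, rhoK_algebraMap_mvPolynomial, hP₀, sub_self]
  have e2 : (Ideal.span {t} ^ k).map (algebraMap R (RPow R (Ideal.span {t}) n)) =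
      Ideal.span {algebraMap R (RPow R (Ideal.span {t}) n) (t ^ k)} := by
    rw [Ideal.span_singleton_pow]
    refine (Ideal.map_span _ {t ^ k}).trans ?_
    rw [Set.image_singleton]
  rw [rhoK_ker (Ideal.span {t}) n k hI, e2, Ideal.mem_span_singleton'] at h2
  obtain ⟨h, hh⟩ := h2
  -- `t^k` does not divide `c`
  have hnd : ¬ t ^ k ∣ c := by
    intro hdvd
    apply hk
    rw [← hP₀]
    ext μ
    rw [coeff_map, coeff_zero, Ideal.Quotient.eq_zero_iff_mem, Ideal.span_singleton_pow,
      Ideal.mem_span_singleton]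
    exact hdvd.trans (hcdvd μ)
  obtain ⟨m', hm'⟩ : c ∣ t ^ k := (ValuationRing.dvd_total c (t ^ k)).resolve_right hnd
  have hm'u : ¬ IsUnit m' := by
    intro hu
    apply hnd
    obtain ⟨u, rfl⟩ := hu
    exact ⟨↑u⁻¹, by rw [hm', mul_assoc, Units.mul_inv, mul_one]⟩
  refine ⟨c, P, m', h, hc, hm'u, hP1, ?_⟩
  have h3 : f = algebraMap (MvPolynomial (Fin n) R) (RPow R (Ideal.span {t}) n) P₀ +
      h * algebraMap R (RPow R (Ideal.span {t}) n) (t ^ k) := by
    rw [hh]; ring
  rw [h3, hPc, map_mul, hm', smul_add, smul_smul, Algebra.smul_def c, Algebra.smul_def (c * m'),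
    mul_comm h]
  congr 1

end Content

section Inj
variable {R : Type u} [CommRing R] [IsDomain R] [ValuationRing R] [Ring.KrullDimLE 1 R]
  (t : R) (ht : t ≠ 0) [IsAdicComplete (Ideal.span {t}) R] (n : ℕ)

include ht in
/-- a map from `R⟨ζ⟩` to a torsion free algebra is injective as soon as polynomials with a
coefficient `1` are not mapped into `𝔪 B` -/
theorem injective_of_forall_primitive {B : Type*} [CommRing B] [Algebra R B]
    (hB : NoPowTorsion (Ideal.span {t}) B) (ψ : RPow R (Ideal.span {t}) n →ₐ[R] B)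
    (hψ : ∀ P : MvPolynomial (Fin n) R, (∃ μ, coeff μ P = 1) →
      ψ (algebraMap (MvPolynomial (Fin n) R) (RPow R (Ideal.span {t}) n) P) ∉
        (IsLocalRing.maximalIdeal R).map (algebraMap R B)) :
    Function.Injective ψ := by
  rw [injective_iff_map_eq_zero]
  intro f hf0
  by_contra hf
  obtain ⟨c, P, m', h, hc, hm', hP1, hfe⟩ := exists_content_rpow t n f hf
  rw [hfe, map_smul] at hf0
  have h1 := smul_eq_zero_of_noPowTorsion_V t ht hB c hc _ hf0
  rw [map_add, map_smul] at h1
  apply hψ P hP1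
  rw [eq_neg_of_add_eq_zero_left h1, Algebra.smul_def, neg_mem_iff]
  exact Ideal.mul_mem_right _ _ (Ideal.mem_map_of_mem _ ((IsLocalRing.mem_maximalIdeal m').mpr hm'))

end Inj

end Groth.Agent.Lib.BoschCore76
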