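import Groth.Agent.Lib.BoschCore76V

/-!
# Bosch FRG 8.3 core, part W: lifting closed points of the special fibre of `R⟨ζ⟩`

`exists_rigPoint_rpow` : every maximal ideal `m ∋ t` of `R⟨ζ_1..ζ_n⟩` contains a prime `p ∌ t` with
`R⟨ζ⟩/p` of Krull dimension one. The prime is the kernel of a map to a quotient domain of the finite
free `R`-algebra `R[T]/(F_j(T_j))`, `F_j` monic lifts of polynomials killing the coordinates in the
residue field.
-/

set_option autoImplicit false
set_option linter.style.haveILetI false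
universe u
open AdicRing

namespace Groth.Agent.Lib.BoschCore76

section Main
variable {R : Type u} [CommRing R] [IsDomain R] [ValuationRing R] [Ring.KrullDimLE 1 R]
  (t : R) (ht : t ≠ 0) [IsAdicComplete (Ideal.span {t}) R]

include ht in
theorem exists_rigPoint_rpow (n : ℕ) (m : Ideal (RPow R (Ideal.span {t}) n)) [hmax : m.IsMaximal]
    (hm : algebraMap R (RPow R (Ideal.span {t}) n) t ∈ m) :
    ∃ p : Ideal (RPow R (Ideal.span {t}) n), p.IsPrime ∧ p ≤ m ∧
      algebraMap R (RPow R (Ideal.span {t}) n) t ∉ p ∧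
      ringKrullDim (RPow R (Ideal.span {t}) n ⧸ p) = 1 := by
  classical
  have hI : (Ideal.span {t}).FG := ⟨{t}, by simp⟩
  -- Step A: the coordinates are integral in the residue field
  have hfinΩ : Module.Finite R (RPow R (Ideal.span {t}) n ⧸ m) :=
    finite_quotient_isMaximal t ht _ (topFiniteType_rpow (Ideal.span {t}) n) m hm
  have hintΩ : Algebra.IsIntegral R (RPow R (Ideal.span {t}) n ⧸ m) :=
    Algebra.IsIntegral.of_finite R _
  letI : Field (RPow R (Ideal.span {t}) n ⧸ m) := Ideal.Quotient.field _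
  let ζ : Fin n → RPow R (Ideal.span {t}) n := fun j =>
    algebraMap (MvPolynomial (Fin n) R) (RPow R (Ideal.span {t}) n) (MvPolynomial.X j)
  have hQ : ∀ j, ∃ Q : Polynomial R, Q.Monic ∧
      Polynomial.aeval (Ideal.Quotient.mk m (ζ j)) Q = 0 := fun j => by
    obtain ⟨Q, hQ1, hQ2⟩ := Algebra.IsIntegral.isIntegral (R := R) (Ideal.Quotient.mk m (ζ j))
    exact ⟨Q, hQ1, by rw [Polynomial.aeval_def]; exact hQ2⟩
  choose F hFmon hF0 using hQ
  have hFdeg : ∀ j, 1 ≤ (F j).natDegree := by
    intro j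
    by_contra h
    have h0 : (F j).natDegree = 0 := by omega
    have h1 : F j = 1 := Polynomial.eq_one_of_monic_natDegree_zero (hFmon j) h0
    have h2 := hF0 j
    rw [h1, map_one] at h2
    exact one_ne_zero h2
  -- Step B: the finite free algebra
  obtain ⟨hfree, hrank⟩ := Groth.Agent.S4610.result F hFmon
  have hpos : 0 < Module.finrank R (MvPolynomial (Fin n) R ⧸ Groth.Agent.S4610.Iof F) := by
    rw [hrank]
    exact Finset.prod_pos (fun i _ => hFdeg i)
  have hfin : Module.Finite R (MvPolynomial (Fin n) R ⧸ Groth.Agent.S4610.Iof F) :=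
    Module.finite_of_finrank_pos hpos
  have hfree' : Module.Free R (MvPolynomial (Fin n) R ⧸ Groth.Agent.S4610.Iof F) := hfree
  let a : Fin n → MvPolynomial (Fin n) R ⧸ Groth.Agent.S4610.Iof F :=
    fun j => Ideal.Quotient.mk _ (MvPolynomial.X j)
  -- Step C: completeness
  have hc : IsAdicComplete (Ideal.span {t}) (MvPolynomial (Fin n) R ⧸ Groth.Agent.S4610.Iof F) :=
    isAdicComplete_of_finite_free (Ideal.span {t}) _
  have hc' : IsAdicComplete ((Ideal.span {t}).map
      (algebraMap R (MvPolynomial (Fin n) R ⧸ Groth.Agent.S4610.Iof F)))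
      (MvPolynomial (Fin n) R ⧸ Groth.Agent.S4610.Iof F) :=
    (IsAdicComplete.map_algebraMap_iff (Ideal.span {t}) _).mpr hc
  -- Step D: the lift
  obtain ⟨ψ, hψ⟩ := exists_rpow_algHom (Ideal.span {t}) n
    (MvPolynomial (Fin n) R ⧸ Groth.Agent.S4610.Iof F) a
  -- Step E: the map to the residue field
  have hkill : ∀ x ∈ Groth.Agent.S4610.Iof F,
      (MvPolynomial.aeval (fun j => Ideal.Quotient.mk m (ζ j)) :
        MvPolynomial (Fin n) R →ₐ[R] RPow R (Ideal.span {t}) n ⧸ m) x = 0 := by
    have hle : Groth.Agent.S4610.Iof F ≤ RingHom.ker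
        (MvPolynomial.aeval (fun j => Ideal.Quotient.mk m (ζ j)) :
          MvPolynomial (Fin n) R →ₐ[R] RPow R (Ideal.span {t}) n ⧸ m).toRingHom := by
      rw [Groth.Agent.S4610.Iof, Ideal.span_le]
      rintro _ ⟨j, rfl⟩
      rw [SetLike.mem_coe, RingHom.mem_ker]
      show MvPolynomial.aeval _ (Polynomial.aeval (MvPolynomial.X j) (F j)) = 0
      rw [← Polynomial.aeval_algHom_apply, MvPolynomial.aeval_X]
      exact hF0 j
    exact fun x hx => hle hx
  let χ : (MvPolynomial (Fin n) R ⧸ Groth.Agent.S4610.Iof F) →ₐ[R]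
      RPow R (Ideal.span {t}) n ⧸ m :=
    Ideal.Quotient.liftₐ (Groth.Agent.S4610.Iof F)
      (MvPolynomial.aeval (fun j => Ideal.Quotient.mk m (ζ j))) hkill
  have hχa : ∀ j, χ (a j) = Ideal.Quotient.mk m (ζ j) := by
    intro j
    show Ideal.Quotient.liftₐ _ _ _ (Ideal.Quotient.mk _ (MvPolynomial.X j)) = _
    rw [Ideal.Quotient.liftₐ_apply, Ideal.Quotient.lift_mk]
    exact MvPolynomial.aeval_X _ j
  -- Step F: compatibility
  have hτ0 : Ideal.Quotient.mk m (algebraMap R (RPow R (Ideal.span {t}) n) t) = 0 :=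
    Ideal.Quotient.eq_zero_iff_mem.mpr hm
  have hpoly : ∀ p : MvPolynomial (Fin n) R,
      χ (ψ (algebraMap (MvPolynomial (Fin n) R) (RPow R (Ideal.span {t}) n) p)) =
        Ideal.Quotient.mk m (algebraMap (MvPolynomial (Fin n) R) (RPow R (Ideal.span {t}) n) p) := by
    intro p
    rw [hψ]
    have h1 : χ (MvPolynomial.aeval a p) = MvPolynomial.aeval (fun j => χ (a j)) p := by
      rw [← MvPolynomial.comp_aeval]; rfl
    have h2 := MvPolynomial.aeval_unique ((Ideal.Quotient.mkₐ R m).comp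
      (IsScalarTower.toAlgHom R (MvPolynomial (Fin n) R) (RPow R (Ideal.span {t}) n)))
    have h3 : Ideal.Quotient.mk m
        (algebraMap (MvPolynomial (Fin n) R) (RPow R (Ideal.span {t}) n) p) =
        ((Ideal.Quotient.mkₐ R m).comp
          (IsScalarTower.toAlgHom R (MvPolynomial (Fin n) R) (RPow R (Ideal.span {t}) n))) p := rfl
    have h5 : (fun j => χ (a j)) = (⇑((Ideal.Quotient.mkₐ R m).comp
        (IsScalarTower.toAlgHom R (MvPolynomial (Fin n) R) (RPow R (Ideal.span {t}) n))) ∘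
          MvPolynomial.X) := by
      funext j
      rw [hχa]
      rfl
    rw [h1, h3, h2, h5]
  have hkey : ∀ x : RPow R (Ideal.span {t}) n, χ (ψ x) = Ideal.Quotient.mk m x := by
    intro x
    obtain ⟨p, hp⟩ := compl_mk_surjective (Ideal.span {t}) (MvPolynomial (Fin n) R) 1 hI
      (Ideal.Quotient.mk _ x)
    rw [RingHom.comp_apply, Ideal.Quotient.eq, pow_one] at hp
    have e : Ideal.map (algebraMap R (RPow R (Ideal.span {t}) n)) (Ideal.span {t}) =
        Ideal.span {algebraMap R (RPow R (Ideal.span {t}) n) t} := by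
      refine (Ideal.map_span (algebraMap R (RPow R (Ideal.span {t}) n)) {t}).trans ?_
      rw [Set.image_singleton]
    have hp' : algebraMap (MvPolynomial (Fin n) R) (RPow R (Ideal.span {t}) n) p - x ∈
        Ideal.span {algebraMap R (RPow R (Ideal.span {t}) n) t} := by
      rw [← e]; exact hp
    obtain ⟨y, hy⟩ := Ideal.mem_span_singleton'.mp hp'
    have hx : x = algebraMap (MvPolynomial (Fin n) R) (RPow R (Ideal.span {t}) n) p -
        y * algebraMap R (RPow R (Ideal.span {t}) n) t := by rw [hy]; ring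
    have h4 : χ (ψ (algebraMap R (RPow R (Ideal.span {t}) n) t)) = 0 := by
      rw [AlgHom.commutes, AlgHom.commutes, IsScalarTower.algebraMap_apply R
        (RPow R (Ideal.span {t}) n) (RPow R (Ideal.span {t}) n ⧸ m), Ideal.Quotient.algebraMap_eq]
      exact hτ0
    conv_lhs => rw [hx]
    conv_rhs => rw [hx]
    rw [map_sub, map_sub, map_mul, map_mul, h4, mul_zero, map_sub, map_mul, hτ0, mul_zero, hpoly]
  -- Step G: going down
  have hm₀ : (RingHom.ker χ.toRingHom).IsPrime := RingHom.ker_isPrime _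
  have hflat : Module.Flat R (MvPolynomial (Fin n) R ⧸ Groth.Agent.S4610.Iof F) := inferInstance
  have hbot : (⊥ : Ideal R).IsPrime := Ideal.isPrime_bot
  have hle0 : (⊥ : Ideal R) ≤ (RingHom.ker χ.toRingHom).under R := fun x hx => by
    rw [Ideal.mem_bot] at hx
    rw [hx]
    exact Ideal.zero_mem _
  obtain ⟨P₀, hP₀le, hP₀prime, hP₀over⟩ :=
    Ideal.exists_ideal_le_liesOver_of_le (p := (⊥ : Ideal R))
      (q := (RingHom.ker χ.toRingHom).under R) (RingHom.ker χ.toRingHom) hle0
  have hP₀R : ∀ r : R, algebraMap R (MvPolynomial (Fin n) R ⧸ Groth.Agent.S4610.Iof F) r ∈ P₀ →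
      r = 0 := by
    intro r hr
    have : r ∈ P₀.under R := hr
    rw [← hP₀over.over] at this
    exact Ideal.mem_bot.mp this
  -- Step H: the prime
  refine ⟨P₀.comap ψ.toRingHom, Ideal.comap_isPrime _ _, ?_, ?_, ?_⟩
  · intro x hx
    have h1 : ψ x ∈ RingHom.ker χ.toRingHom := hP₀le hx
    have h2 : χ (ψ x) = 0 := h1
    rw [hkey] at h2
    exact Ideal.Quotient.eq_zero_iff_mem.mp h2
  · intro h
    have h1 : ψ (algebraMap R (RPow R (Ideal.span {t}) n) t) ∈ P₀ := h
    rw [AlgHom.commutes] at h1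
    exact ht (hP₀R t h1)
  · -- Step I: dimension
    let ψbar : (RPow R (Ideal.span {t}) n ⧸ P₀.comap ψ.toRingHom) →ₐ[R]
        ((MvPolynomial (Fin n) R ⧸ Groth.Agent.S4610.Iof F) ⧸ P₀) :=
      Ideal.quotientMapₐ P₀ ψ (le_refl _)
    have hψbar : Function.Injective ψbar := Ideal.quotientMap_injective
    have hint1 : Algebra.IsIntegral R
        ((MvPolynomial (Fin n) R ⧸ Groth.Agent.S4610.Iof F) ⧸ P₀) :=
      Algebra.IsIntegral.of_finite R _
    have hint2 : Algebra.IsIntegral R (RPow R (Ideal.span {t}) n ⧸ P₀.comap ψ.toRingHom) :=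
      Algebra.IsIntegral.of_injective ψbar hψbar
    have hinj : Function.Injective
        (algebraMap R (RPow R (Ideal.span {t}) n ⧸ P₀.comap ψ.toRingHom)) := by
      rw [injective_iff_map_eq_zero]
      intro r hr
      rw [IsScalarTower.algebraMap_apply R (RPow R (Ideal.span {t}) n),
        Ideal.Quotient.algebraMap_eq, Ideal.Quotient.eq_zero_iff_mem] at hr
      have h1 : ψ (algebraMap R (RPow R (Ideal.span {t}) n) r) ∈ P₀ := hr
      rw [AlgHom.commutes] at h1
      exact hP₀R r h1
    rw [← ringKrullDim_eq_of_isIntegral_of_injective hinj]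
    exact ringKrullDim_eq_one_V t ht

end Main

end Groth.Agent.Lib.BoschCore76
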