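import Groth.Agent.Lib.BoschCore76AB
import Groth.Agent.Lib.BoschCore76W
import Mathlib.RingTheory.NoetherNormalization

/-!
# Bosch FRG 8.3 core, part AC: Noether normalization for admissible algebras whose generic fibre is
a field

* `exists_pow_add_mul_eq_zero_of_isIntegral` : integrality trick.
* `finite_of_finite_residue` : a map `R⟨ζ⟩ → B` is finite if it is so modulo `𝔪`.
* `finite_of_forall_dvd_pow` : a domain `B` topologically of finite type over `R` in which every
  nonzero element divides a power of `t` is finite over `R`.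
-/

set_option autoImplicit false
set_option linter.style.haveILetI false
universe u v
open AdicRing MvPolynomial

namespace Groth.Agent.Lib.BoschCore76

section Integrality
variable {S B : Type*} [CommRing S] [CommRing B] [Algebra S B]

theorem exists_pow_add_mul_eq_zero_of_isIntegral (x s : S) (y : B) (hy : IsIntegral S y)
    (hxy : algebraMap S B x * y = algebraMap S B s) :
    ∃ (N : ℕ) (z : S), algebraMap S B (s ^ N + x * z) = 0 := by
  classical
  obtain ⟨P, hP, hP0'⟩ := hy
  have hP0 : Polynomial.aeval y P = 0 := by rw [Polynomial.aeval_def]; exact hP0'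
  set d := P.natDegree with hd
  have hsum : Polynomial.aeval y P =
      y ^ d + ∑ i ∈ Finset.range d, algebraMap S B (P.coeff i) * y ^ i := by
    rw [Polynomial.aeval_eq_sum_range, Finset.sum_range_succ, ← hd, hP.coeff_natDegree, one_smul,
      add_comm]
    congr 1
    apply Finset.sum_congr rfl
    intro i _
    rw [Algebra.smul_def]
  rw [hsum] at hP0
  refine ⟨d, ∑ i ∈ Finset.range d, P.coeff i * x ^ (d - 1 - i) * s ^ i, ?_⟩
  have h2 : algebraMap S B x ^ d * (y ^ d + ∑ i ∈ Finset.range d,
      algebraMap S B (P.coeff i) * y ^ i) = 0 := by rw [hP0, mul_zero]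
  have h3 : algebraMap S B x ^ d * y ^ d = algebraMap S B (s ^ d) := by
    rw [← mul_pow, hxy, map_pow]
  have h4 : ∀ i ∈ Finset.range d, algebraMap S B x ^ d *
      (algebraMap S B (P.coeff i) * y ^ i) =
      algebraMap S B (x * (P.coeff i * x ^ (d - 1 - i) * s ^ i)) := by
    intro i hi
    rw [Finset.mem_range] at hi
    have : d = (d - 1 - i) + 1 + i := by omega
    conv_lhs => rw [this, pow_add, pow_succ]
    rw [map_mul, map_mul, map_mul, map_pow, map_pow, ← hxy, mul_pow]
    ring
  rw [mul_add, h3, Finset.mul_sum, Finset.sum_congr rfl h4, ← map_sum, ← map_add,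
    ← Finset.mul_sum] at h2
  exact h2

end Integrality

section FiniteLift
variable {R : Type u} [CommRing R] [IsDomain R] [ValuationRing R] [Ring.KrullDimLE 1 R]
  (t : R) (ht : t ≠ 0) [IsAdicComplete (Ideal.span {t}) R]

omit [IsAdicComplete (Ideal.span {t}) R] in
include ht in
theorem maximalIdeal_map_le_radical (B : Type*) [CommRing B] [Algebra R B] :
    (IsLocalRing.maximalIdeal R).map (algebraMap R B) ≤
      ((Ideal.span {t}).map (algebraMap R B)).radical := by
  rw [Ideal.map_le_iff_le_comap]
  intro a ha
  obtain ⟨k, hk⟩ := exists_dvd_pow' a ((IsLocalRing.mem_maximalIdeal a).mp ha) t ht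
  rw [Ideal.mem_comap]
  refine ⟨k, ?_⟩
  rw [← map_pow]
  obtain ⟨c, hc⟩ := hk
  rw [hc, map_mul]
  exact Ideal.mul_mem_right _ _ (Ideal.mem_map_of_mem _ (Ideal.mem_span_singleton_self t))

omit [IsDomain R] [ValuationRing R] [Ring.KrullDimLE 1 R] [IsAdicComplete (Ideal.span {t}) R] in
theorem finiteType_quotient_of_topFiniteType (B : Type u) [CommRing B] [Algebra R B]
    (hBt : TopFiniteType R (Ideal.span {t}) B) :
    Algebra.FiniteType R (B ⧸ (Ideal.span {t}).map (algebraMap R B)) := by
  have hI : (Ideal.span {t}).FG := ⟨{t}, by simp⟩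
  obtain ⟨n, φ, hφ⟩ := hBt
  have h1 := finiteType_trunc' (Ideal.span {t}) φ 1 hI hφ (Ideal.span {t})
    (pow_one _).symm
  have h2 : (algebraMap R (B ⧸ (Ideal.span {t}).map (algebraMap R B))).FiniteType := by
    have : algebraMap R (B ⧸ (Ideal.span {t}).map (algebraMap R B)) =
        (Ideal.quotientMap ((Ideal.span {t}).map (algebraMap R B)) (algebraMap R B)
          Ideal.le_comap_map).comp (Ideal.Quotient.mk (Ideal.span {t})) := by
      ext x
      rfl
    rw [this]
    exact h1.comp (RingHom.FiniteType.of_surjective _ Ideal.Quotient.mk_surjective)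
  exact RingHom.finiteType_algebraMap.mp h2

include ht in
/-- a map `R⟨ζ⟩ → B` to an algebra topologically of finite type is finite if it is finite modulo
the maximal ideal of `R` -/
theorem finite_of_finite_residue (d : ℕ) (B : Type u) [CommRing B] [Algebra R B]
    (hBt : TopFiniteType R (Ideal.span {t}) B)
    (ψ : RPow R (Ideal.span {t}) d →ₐ[R] B)
    (hfin : (((Ideal.Quotient.mk ((IsLocalRing.maximalIdeal R).map (algebraMap R B))).comp
      ψ.toRingHom).comp
        (algebraMap (MvPolynomial (Fin d) R) (RPow R (Ideal.span {t}) d))).Finite) :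
    ψ.toRingHom.Finite := by
  classical
  have hcB : IsAdicComplete (Ideal.span {t}) B :=
    Groth.Agent.S11529.result R (Ideal.span {t}) (isBase_V R t ht) B hBt B
  letI algTB : Algebra (RPow R (Ideal.span {t}) d) B := ψ.toRingHom.toAlgebra
  have htow : IsScalarTower R (RPow R (Ideal.span {t}) d) B :=
    IsScalarTower.of_algebraMap_eq (fun r => (ψ.commutes r).symm)
  have hIT : (Ideal.span {t}).map (algebraMap R (RPow R (Ideal.span {t}) d)) =
      Ideal.span {algebraMap R (RPow R (Ideal.span {t}) d) t} := by
    refine (Ideal.map_span _ {t}).trans ?_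
    rw [Set.image_singleton]
  have hmapIT : ((Ideal.span {t}).map (algebraMap R (RPow R (Ideal.span {t}) d))).map
      (algebraMap (RPow R (Ideal.span {t}) d) B) = (Ideal.span {t}).map (algebraMap R B) := by
    rw [Ideal.map_map, ← IsScalarTower.algebraMap_eq]
  have hpre : IsPrecomplete ((Ideal.span {t}).map (algebraMap R (RPow R (Ideal.span {t}) d)))
      (RPow R (Ideal.span {t}) d) := by
    rw [hIT]; exact (isAdicComplete_rpow t d).toIsPrecomplete
  have hH : IsHausdorff ((Ideal.span {t}).map (algebraMap R (RPow R (Ideal.span {t}) d))) B :=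
    (IsHausdorff.map_algebraMap_iff (I := Ideal.span {t})).mpr hcB.toIsHausdorff
  have hrad : (IsLocalRing.maximalIdeal R).map (algebraMap R B) ≤
      (((Ideal.span {t}).map (algebraMap R (RPow R (Ideal.span {t}) d))).map
        (algebraMap (RPow R (Ideal.span {t}) d) B)).radical := by
    rw [hmapIT]; exact maximalIdeal_map_le_radical t ht B
  -- finiteness modulo `𝔪`
  have hfin1 : Module.Finite (RPow R (Ideal.span {t}) d)
      (B ⧸ (IsLocalRing.maximalIdeal R).map (algebraMap R B)) := by
    letI algP : Algebra (MvPolynomial (Fin d) R)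
        (B ⧸ (IsLocalRing.maximalIdeal R).map (algebraMap R B)) :=
      (((Ideal.Quotient.mk ((IsLocalRing.maximalIdeal R).map (algebraMap R B))).comp
        ψ.toRingHom).comp
          (algebraMap (MvPolynomial (Fin d) R) (RPow R (Ideal.span {t}) d))).toAlgebra
    have hf : Module.Finite (MvPolynomial (Fin d) R)
        (B ⧸ (IsLocalRing.maximalIdeal R).map (algebraMap R B)) := hfin
    have htow2 : IsScalarTower (MvPolynomial (Fin d) R) (RPow R (Ideal.span {t}) d)
        (B ⧸ (IsLocalRing.maximalIdeal R).map (algebraMap R B)) :=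
      IsScalarTower.of_algebraMap_eq (fun x => rfl)
    exact Module.Finite.of_restrictScalars_finite (MvPolynomial (Fin d) R) _ _
  -- finite type modulo `t`
  have hft : Algebra.FiniteType (RPow R (Ideal.span {t}) d)
      (B ⧸ ((Ideal.span {t}).map (algebraMap R (RPow R (Ideal.span {t}) d))).map
        (algebraMap (RPow R (Ideal.span {t}) d) B)) := by
    have h0 := finiteType_quotient_of_topFiniteType t B hBt
    have h1 : Algebra.FiniteType R
        (B ⧸ ((Ideal.span {t}).map (algebraMap R (RPow R (Ideal.span {t}) d))).map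
          (algebraMap (RPow R (Ideal.span {t}) d) B)) :=
      Algebra.FiniteType.of_surjective
        (Ideal.quotientEquivAlgOfEq R hmapIT.symm).toAlgHom
        (Ideal.quotientEquivAlgOfEq R hmapIT.symm).surjective
    exact Algebra.FiniteType.of_restrictScalars_finiteType R _ _
  exact finite_of_isHausdorff_of_le_radical
    ((Ideal.span {t}).map (algebraMap R (RPow R (Ideal.span {t}) d)))
    ((IsLocalRing.maximalIdeal R).map (algebraMap R B)) hrad

end FiniteLift

section Main
variable {R : Type u} [CommRing R] [IsDomain R] [ValuationRing R] [Ring.KrullDimLE 1 R]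
  (t : R) (ht : t ≠ 0) [IsAdicComplete (Ideal.span {t}) R]

include ht in
/-- Noether normalization for admissible algebras with generic fibre a field: a domain `B`
topologically of finite type over `R`, without torsion, in which every nonzero element divides a
power of `t`, is finite over `R`. -/
theorem finite_of_forall_dvd_pow (B : Type u) [CommRing B] [IsDomain B] [Algebra R B]
    (hBt : TopFiniteType R (Ideal.span {t}) B) (hnt : NoPowTorsion (Ideal.span {t}) B)
    (hstar : ∀ b : B, b ≠ 0 → ∃ (b' : B) (k : ℕ), b * b' = algebraMap R B t ^ k) :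
    Module.Finite R B := by
  classical
  have hI : (Ideal.span {t}).FG := ⟨{t}, by simp⟩
  obtain ⟨htu, -⟩ := isBase_V_unpack t ht
  have hcB : IsAdicComplete (Ideal.span {t}) B :=
    Groth.Agent.S11529.result R (Ideal.span {t}) (isBase_V R t ht) B hBt B
  have hcB' : IsAdicComplete ((Ideal.span {t}).map (algebraMap R B)) B :=
    (IsAdicComplete.map_algebraMap_iff (Ideal.span {t}) B).mpr hcB
  have hrad := maximalIdeal_map_le_radical t ht B
  have hmBtop : (IsLocalRing.maximalIdeal R).map (algebraMap R B) ≠ ⊤ := by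
    intro h
    have h1 : (1 : B) ∈ ((Ideal.span {t}).map (algebraMap R B)).radical :=
      hrad (h ▸ Submodule.mem_top)
    have h2 : (Ideal.span {t}).map (algebraMap R B) = ⊤ :=
      Ideal.radical_eq_top.mp ((Ideal.eq_top_iff_one _).mpr h1)
    have h3 := IsAdicComplete.le_jacobson_bot ((Ideal.span {t}).map (algebraMap R B))
    rw [h2, top_le_iff, Ideal.jacobson_eq_top_iff] at h3
    exact bot_ne_top h3
  letI : Field (R ⧸ IsLocalRing.maximalIdeal R) := Ideal.Quotient.field _
  have hnt0 : Nontrivial (B ⧸ (IsLocalRing.maximalIdeal R).map (algebraMap R B)) :=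
    Ideal.Quotient.nontrivial_iff.mpr hmBtop
  have hftq := finiteType_quotient_of_topFiniteType t B hBt
  have hle : (Ideal.span {t}).map (algebraMap R B) ≤
      (IsLocalRing.maximalIdeal R).map (algebraMap R B) := by
    apply Ideal.map_mono
    rw [Ideal.span_singleton_le_iff_mem]
    exact (IsLocalRing.mem_maximalIdeal t).mpr htu
  have hft0 : Algebra.FiniteType R (B ⧸ (IsLocalRing.maximalIdeal R).map (algebraMap R B)) :=
    Algebra.FiniteType.of_surjective (Ideal.Quotient.factorₐ R hle)
      (Ideal.Quotient.factor_surjective hle)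
  have hftk : Algebra.FiniteType (R ⧸ IsLocalRing.maximalIdeal R)
      (B ⧸ (IsLocalRing.maximalIdeal R).map (algebraMap R B)) :=
    Algebra.FiniteType.of_restrictScalars_finiteType R _ _
  obtain ⟨d, g, hginj, hgfin⟩ := exists_finite_inj_algHom_of_fg (R ⧸ IsLocalRing.maximalIdeal R)
    (B ⧸ (IsLocalRing.maximalIdeal R).map (algebraMap R B))
  have hy : ∀ i : Fin d, ∃ y : B,
      Ideal.Quotient.mk ((IsLocalRing.maximalIdeal R).map (algebraMap R B)) y = g (X i) :=
    fun i => Ideal.Quotient.mk_surjective _
  choose y hy using hy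
  obtain ⟨ψ, hψ⟩ := exists_rpow_algHom (Ideal.span {t}) d B y
  have hcompat : ((Ideal.Quotient.mk ((IsLocalRing.maximalIdeal R).map (algebraMap R B))).comp
      ψ.toRingHom).comp (algebraMap (MvPolynomial (Fin d) R) (RPow R (Ideal.span {t}) d)) =
      g.toRingHom.comp (MvPolynomial.map (Ideal.Quotient.mk (IsLocalRing.maximalIdeal R))) := by
    apply MvPolynomial.ringHom_ext
    · intro r
      show Ideal.Quotient.mk _ (ψ (algebraMap (MvPolynomial (Fin d) R) _ (C r))) =
        g (MvPolynomial.map _ (C r))
      rw [hψ, MvPolynomial.map_C, aeval_C]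
      have : (C (Ideal.Quotient.mk (IsLocalRing.maximalIdeal R) r) :
          MvPolynomial (Fin d) (R ⧸ IsLocalRing.maximalIdeal R)) =
          algebraMap (R ⧸ IsLocalRing.maximalIdeal R) _
            (Ideal.Quotient.mk (IsLocalRing.maximalIdeal R) r) := rfl
      rw [this, g.commutes]
      rfl
    · intro i
      show Ideal.Quotient.mk _ (ψ (algebraMap (MvPolynomial (Fin d) R) _ (X i))) =
        g (MvPolynomial.map _ (X i))
      rw [hψ, MvPolynomial.map_X, aeval_X, hy]
  have hψfin : ψ.toRingHom.Finite := finite_of_finite_residue t ht d B hBt ψ (by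
    rw [hcompat]
    exact RingHom.Finite.comp hgfin (RingHom.Finite.of_surjective _
      (MvPolynomial.map_surjective _ Ideal.Quotient.mk_surjective)))
  have hψinj : Function.Injective ψ := injective_of_forall_primitive t ht d hnt ψ (by
    rintro P ⟨μ, hμ⟩ hmem
    have h1 : Ideal.Quotient.mk ((IsLocalRing.maximalIdeal R).map (algebraMap R B))
        (ψ (algebraMap (MvPolynomial (Fin d) R) (RPow R (Ideal.span {t}) d) P)) = 0 :=
      Ideal.Quotient.eq_zero_iff_mem.mpr hmem
    have h2 : g (MvPolynomial.map (Ideal.Quotient.mk (IsLocalRing.maximalIdeal R)) P) = 0 := by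
      have := RingHom.congr_fun hcompat P
      exact this.symm.trans h1
    have h3 : MvPolynomial.map (Ideal.Quotient.mk (IsLocalRing.maximalIdeal R)) P = 0 :=
      hginj (h2.trans (map_zero g).symm)
    have h4 := congrArg (coeff μ) h3
    rw [coeff_map, hμ, map_one, coeff_zero] at h4
    exact one_ne_zero h4)
  rcases Nat.eq_zero_or_pos d with hd0 | hdpos
  · subst hd0
    letI algg : Algebra (MvPolynomial (Fin 0) (R ⧸ IsLocalRing.maximalIdeal R))
        (B ⧸ (IsLocalRing.maximalIdeal R).map (algebraMap R B)) := g.toRingHom.toAlgebra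
    have hfg : Module.Finite (MvPolynomial (Fin 0) (R ⧸ IsLocalRing.maximalIdeal R))
        (B ⧸ (IsLocalRing.maximalIdeal R).map (algebraMap R B)) := hgfin
    have htw : IsScalarTower (R ⧸ IsLocalRing.maximalIdeal R)
        (MvPolynomial (Fin 0) (R ⧸ IsLocalRing.maximalIdeal R))
        (B ⧸ (IsLocalRing.maximalIdeal R).map (algebraMap R B)) :=
      IsScalarTower.of_algebraMap_eq (fun x => (g.commutes x).symm)
    have hf0 : Module.Finite (R ⧸ IsLocalRing.maximalIdeal R)
        (MvPolynomial (Fin 0) (R ⧸ IsLocalRing.maximalIdeal R)) :=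
      Module.Finite.equiv
        (MvPolynomial.isEmptyAlgEquiv (R ⧸ IsLocalRing.maximalIdeal R) (Fin 0)).symm.toLinearEquiv
    have hfk : Module.Finite (R ⧸ IsLocalRing.maximalIdeal R)
        (B ⧸ (IsLocalRing.maximalIdeal R).map (algebraMap R B)) :=
      Module.Finite.trans (MvPolynomial (Fin 0) (R ⧸ IsLocalRing.maximalIdeal R)) _
    have hfR : Module.Finite R (R ⧸ IsLocalRing.maximalIdeal R) :=
      Module.Finite.of_surjective (Algebra.linearMap R (R ⧸ IsLocalRing.maximalIdeal R))
        Ideal.Quotient.mk_surjective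
    have hfR0 : Module.Finite R (B ⧸ (IsLocalRing.maximalIdeal R).map (algebraMap R B)) :=
      Module.Finite.trans (R ⧸ IsLocalRing.maximalIdeal R) _
    exact finite_of_isHausdorff_of_le_radical (Ideal.span {t})
      ((IsLocalRing.maximalIdeal R).map (algebraMap R B)) hrad
  · exfalso
    set i₀ : Fin d := ⟨0, hdpos⟩ with hi₀
    have hb0 : y i₀ ≠ 0 := by
      intro h0
      have : g (X i₀) = 0 := by rw [← hy i₀, h0, map_zero]
      exact MvPolynomial.X_ne_zero i₀ (hginj (this.trans (map_zero g).symm))
    obtain ⟨b', k, hbk⟩ := hstar (y i₀) hb0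
    letI algTB : Algebra (RPow R (Ideal.span {t}) d) B := ψ.toRingHom.toAlgebra
    have hfinTB : Module.Finite (RPow R (Ideal.span {t}) d) B := hψfin
    have hint : IsIntegral (RPow R (Ideal.span {t}) d) b' := Algebra.IsIntegral.isIntegral b'
    set ζ : RPow R (Ideal.span {t}) d :=
      algebraMap (MvPolynomial (Fin d) R) (RPow R (Ideal.span {t}) d) (X i₀) with hζdef
    have hζ : algebraMap (RPow R (Ideal.span {t}) d) B ζ = y i₀ := by
      show ψ ζ = _
      rw [hζdef, hψ, aeval_X]
    obtain ⟨N, z, hNz⟩ := exists_pow_add_mul_eq_zero_of_isIntegral ζ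
      (algebraMap R (RPow R (Ideal.span {t}) d) (t ^ k)) b' hint (by
        rw [hζ, hbk]
        show _ = ψ (algebraMap R (RPow R (Ideal.span {t}) d) (t ^ k))
        rw [ψ.commutes, map_pow])
    have hz0 : algebraMap R (RPow R (Ideal.span {t}) d) (t ^ k) ^ N + ζ * z = 0 :=
      hψinj (by rw [map_zero]; exact hNz)
    have hcR : IsAdicComplete ((Ideal.span {t}).map (algebraMap R R)) R := by
      rw [Algebra.algebraMap_self, Ideal.map_id]; infer_instance
    obtain ⟨ev, hev⟩ := exists_rpow_algHom (Ideal.span {t}) d R (fun _ => 0)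
    have h5 := congrArg ev hz0
    rw [map_add, map_mul, map_pow, ev.commutes, hζdef, hev, aeval_X, zero_mul, add_zero,
      map_zero, Algebra.algebraMap_self_apply] at h5
    exact ht (pow_eq_zero_iff (M₀ := R) (n := k) (by
      rintro rfl
      rw [pow_zero, one_pow] at h5
      exact one_ne_zero h5) |>.mp (pow_eq_zero_iff (M₀ := R) (n := N) (by
      rintro rfl
      rw [pow_zero] at h5
      exact one_ne_zero h5) |>.mp h5))

end Main

end Groth.Agent.Lib.BoschCore76
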