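import Groth.Agent.Lib.BoschCore76AC
import Mathlib.RingTheory.Localization.BaseChange
import Mathlib.RingTheory.Localization.Ideal

/-!
# Bosch FRG 8.3 core, part AD: rig-points and maximal ideals of the generic fibre

For an admissible algebra `A` over a complete height one valuation ring `R` with fraction field `K`:
* `isMaximal_map_of_dim_one` : a prime `p ∌ t` with `dim A/p = 1` extends to a maximal ideal of
  `A ⊗ K` and contracts back to `p`.
* `dim_one_of_isMaximal` : the contraction `p` of a maximal ideal of `A ⊗ K` does not contain `t`,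
  has `dim A/p = 1` and extends back.
-/

set_option autoImplicit false
set_option linter.style.haveILetI false
universe u v
open AdicRing
open scoped TensorProduct

namespace Groth.Agent.Lib.BoschCore76

section Corr
variable {R : Type u} [CommRing R] [IsDomain R] [ValuationRing R] [Ring.KrullDimLE 1 R]
  (t : R) (ht : t ≠ 0) [IsAdicComplete (Ideal.span {t}) R]
  (A : Type u) [CommRing A] [Algebra R A]

omit [IsAdicComplete (Ideal.span {t}) R] in
theorem disjoint_of_notMem (p : Ideal A) [hp : p.IsPrime] (htp : algebraMap R A t ∉ p)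
    (htu : ¬ IsUnit t) :
    Disjoint (Algebra.algebraMapSubmonoid A (nonZeroDivisors R) : Set A) (p : Set A) := by
  rw [Set.disjoint_left]
  rintro _ ⟨r, hr, rfl⟩ hrp
  obtain ⟨k, c, hc⟩ := exists_dvd_pow' t htu r (nonZeroDivisors.ne_zero hr)
  apply htp
  apply hp.mem_of_pow_mem k
  rw [← map_pow, hc, map_mul]
  exact p.mul_mem_right _ hrp

include ht in
theorem mem_of_isMaximal (hAt : TopFiniteType R (Ideal.span {t}) A) (n : Ideal A)
    [hn : n.IsMaximal] : algebraMap R A t ∈ n := by
  have hcA : IsAdicComplete (Ideal.span {t}) A :=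
    Groth.Agent.S11529.result R (Ideal.span {t}) (isBase_V R t ht) A hAt A
  have hcA' : IsAdicComplete ((Ideal.span {t}).map (algebraMap R A)) A :=
    (IsAdicComplete.map_algebraMap_iff (Ideal.span {t}) A).mpr hcA
  have h1 := IsAdicComplete.le_jacobson_bot ((Ideal.span {t}).map (algebraMap R A))
  have h2 : algebraMap R A t ∈ Ideal.jacobson (⊥ : Ideal A) :=
    h1 (Ideal.mem_map_of_mem _ (Ideal.mem_span_singleton_self t))
  rw [Ideal.jacobson, Ideal.mem_sInf] at h2
  exact h2 ⟨bot_le, hn⟩

include ht in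
theorem eq_of_le_of_dim_one (hAt : TopFiniteType R (Ideal.span {t}) A) (p q : Ideal A)
    [hp : p.IsPrime] [hq : q.IsPrime] (hpq : p ≤ q) (htq : algebraMap R A t ∉ q)
    (hdim : ringKrullDim (A ⧸ p) = 1) : q = p := by
  have hK : Ring.KrullDimLE 1 (A ⧸ p) := by
    rw [Ring.krullDimLE_iff, hdim]
    rfl
  rw [Ring.krullDimLE_one_iff_of_noZeroDivisors] at hK
  by_contra hne
  have hq' : (q.map (Ideal.Quotient.mk p)).IsPrime :=
    Ideal.map_isPrime_of_surjective Ideal.Quotient.mk_surjective (by rwa [Ideal.mk_ker])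
  have hcm : (q.map (Ideal.Quotient.mk p)).comap (Ideal.Quotient.mk p) = q := by
    rw [Ideal.comap_map_of_surjective _ Ideal.Quotient.mk_surjective, ← RingHom.ker_eq_comap_bot,
      Ideal.mk_ker, sup_eq_left]
    exact hpq
  have hnb : q.map (Ideal.Quotient.mk p) ≠ ⊥ := by
    intro h
    apply hne
    apply le_antisymm _ hpq
    rw [← hcm, h, ← RingHom.ker_eq_comap_bot, Ideal.mk_ker]
  have hmax := hK _ hnb hq'
  have hqmax : q.IsMaximal := by
    rw [← hcm]
    exact Ideal.comap_isMaximal_of_surjective _ Ideal.Quotient.mk_surjective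
  exact htq (mem_of_isMaximal t ht A hAt q)

include ht in
/-- a non-open prime with one dimensional quotient gives a maximal ideal of the generic fibre -/
theorem isMaximal_map_of_dim_one (hAt : TopFiniteType R (Ideal.span {t}) A) (p : Ideal A)
    [hp : p.IsPrime] (htp : algebraMap R A t ∉ p) (hdim : ringKrullDim (A ⧸ p) = 1) :
    (p.map (algebraMap A (A ⊗[R] FractionRing R))).IsMaximal ∧
      (p.map (algebraMap A (A ⊗[R] FractionRing R))).comap
        (algebraMap A (A ⊗[R] FractionRing R)) = p := by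
  obtain ⟨htu, -⟩ := isBase_V_unpack t ht
  have hdisj := disjoint_of_notMem t A p htp htu
  have hcm : (p.map (algebraMap A (A ⊗[R] FractionRing R))).comap
      (algebraMap A (A ⊗[R] FractionRing R)) = p :=
    IsLocalization.under_map_of_isPrime_disjoint
      (Algebra.algebraMapSubmonoid A (nonZeroDivisors R)) (A ⊗[R] FractionRing R) hp hdisj
  refine ⟨?_, hcm⟩
  have hP : (p.map (algebraMap A (A ⊗[R] FractionRing R))).IsPrime :=
    IsLocalization.isPrime_of_isPrime_disjoint
      (Algebra.algebraMapSubmonoid A (nonZeroDivisors R)) (A ⊗[R] FractionRing R) p hp hdisj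
  obtain ⟨Q, hQmax, hPQ⟩ := Ideal.exists_le_maximal _ hP.ne_top
  have hq : (Q.comap (algebraMap A (A ⊗[R] FractionRing R))).IsPrime :=
    Ideal.comap_isPrime _ Q
  have hpq : p ≤ Q.comap (algebraMap A (A ⊗[R] FractionRing R)) := by
    rw [← hcm]
    exact Ideal.comap_mono hPQ
  have htq : algebraMap R A t ∉ Q.comap (algebraMap A (A ⊗[R] FractionRing R)) := by
    intro h
    rw [Ideal.mem_comap] at h
    have hu : IsUnit (algebraMap A (A ⊗[R] FractionRing R) (algebraMap R A t)) :=
      IsLocalization.map_units (A ⊗[R] FractionRing R)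
        (⟨algebraMap R A t, t, mem_nonZeroDivisors_of_ne_zero ht, rfl⟩ :
          Algebra.algebraMapSubmonoid A (nonZeroDivisors R))
    exact hQmax.ne_top (Ideal.eq_top_of_isUnit_mem _ h hu)
  have heq := eq_of_le_of_dim_one t ht A hAt p _ hpq htq hdim
  have hQ : Q = p.map (algebraMap A (A ⊗[R] FractionRing R)) := by
    rw [← heq]
    exact (IsLocalization.map_under
      (Algebra.algebraMapSubmonoid A (nonZeroDivisors R)) (A ⊗[R] FractionRing R) Q).symm
  rw [← hQ]
  exact hQmax

include ht in
/-- a maximal ideal of the generic fibre contracts to a non-open prime with one dimensional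
quotient -/
theorem dim_one_of_isMaximal (hAt : TopFiniteType R (Ideal.span {t}) A)
    (m : Ideal (A ⊗[R] FractionRing R)) [hm : m.IsMaximal] :
    algebraMap R A t ∉ m.comap (algebraMap A (A ⊗[R] FractionRing R)) ∧
      ringKrullDim (A ⧸ m.comap (algebraMap A (A ⊗[R] FractionRing R))) = 1 ∧
      (m.comap (algebraMap A (A ⊗[R] FractionRing R))).map
        (algebraMap A (A ⊗[R] FractionRing R)) = m := by
  classical
  obtain ⟨htu, -⟩ := isBase_V_unpack t ht
  set p : Ideal A := m.comap (algebraMap A (A ⊗[R] FractionRing R)) with hpdef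
  have hp : p.IsPrime := Ideal.comap_isPrime _ m
  have hunit : ∀ r : R, r ≠ 0 →
      IsUnit (algebraMap A (A ⊗[R] FractionRing R) (algebraMap R A r)) := fun r hr =>
    IsLocalization.map_units (A ⊗[R] FractionRing R)
      (⟨algebraMap R A r, r, mem_nonZeroDivisors_of_ne_zero hr, rfl⟩ :
        Algebra.algebraMapSubmonoid A (nonZeroDivisors R))
  have htp : algebraMap R A t ∉ p := by
    intro h
    rw [hpdef, Ideal.mem_comap] at h
    exact hm.ne_top (Ideal.eq_top_of_isUnit_mem _ h (hunit t ht))
  have hmap : p.map (algebraMap A (A ⊗[R] FractionRing R)) = m :=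
    IsLocalization.map_under
      (Algebra.algebraMapSubmonoid A (nonZeroDivisors R)) (A ⊗[R] FractionRing R) m
  refine ⟨htp, ?_, hmap⟩
  -- the quotient `B = A/p`
  have hBt : TopFiniteType R (Ideal.span {t}) (A ⧸ p) := by
    obtain ⟨n, φ, hφ⟩ := hAt
    exact ⟨n, (Ideal.Quotient.mkₐ R p).comp φ,
      (Ideal.Quotient.mkₐ_surjective R p).comp hφ⟩
  have hτB : algebraMap R (A ⧸ p) t ≠ 0 := by
    intro h
    apply htp
    rwa [IsScalarTower.algebraMap_apply R A (A ⧸ p), Ideal.Quotient.algebraMap_eq,
      Ideal.Quotient.eq_zero_iff_mem] at h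
  have hnt : NoPowTorsion (Ideal.span {t}) (A ⧸ p) := by
    intro x n hx
    have h1 := hx (t ^ n) (Ideal.pow_mem_pow (Ideal.mem_span_singleton_self t) n)
    rw [Algebra.smul_def, map_pow] at h1
    rcases mul_eq_zero.mp h1 with h | h
    · exact absurd (pow_eq_zero_iff (M₀ := A ⧸ p) (n := n) (by
        rintro rfl
        rw [pow_zero] at h
        exact one_ne_zero h) |>.mp h) hτB
    · exact h
  have hstar : ∀ b : A ⧸ p, b ≠ 0 →
      ∃ (b' : A ⧸ p) (k : ℕ), b * b' = algebraMap R (A ⧸ p) t ^ k := by
    intro b hb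
    obtain ⟨a, rfl⟩ := Ideal.Quotient.mk_surjective b
    have hap : algebraMap A (A ⊗[R] FractionRing R) a ∉ m := by
      intro h
      apply hb
      rw [Ideal.Quotient.eq_zero_iff_mem]
      exact h
    obtain ⟨y, i, hi, hyi⟩ := hm.exists_inv hap
    obtain ⟨⟨a', s⟩, hs⟩ := IsLocalization.surj
      (Algebra.algebraMapSubmonoid A (nonZeroDivisors R)) y
    obtain ⟨_, ⟨r, hr, rfl⟩⟩ := s
    obtain ⟨k, c, hc⟩ := exists_dvd_pow' t htu r (nonZeroDivisors.ne_zero hr)
    refine ⟨Ideal.Quotient.mk p (a' * algebraMap R A c), k, ?_⟩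
    rw [← map_mul, IsScalarTower.algebraMap_apply R A (A ⧸ p), Ideal.Quotient.algebraMap_eq,
      ← map_pow, Ideal.Quotient.eq, ← map_pow]
    show algebraMap A (A ⊗[R] FractionRing R) _ ∈ m
    have h1 : algebraMap A (A ⊗[R] FractionRing R)
        (a * (a' * algebraMap R A c) - algebraMap R A (t ^ k)) =
        -(i * algebraMap A (A ⊗[R] FractionRing R) (algebraMap R A (t ^ k))) := by
      have h2 : y * algebraMap A (A ⊗[R] FractionRing R) (algebraMap R A r) =
          algebraMap A (A ⊗[R] FractionRing R) a' := hs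
      have h3 : y * algebraMap A (A ⊗[R] FractionRing R) a = 1 - i :=
        eq_sub_of_add_eq hyi
      rw [hc, map_sub, map_mul, map_mul, map_mul (algebraMap R A), map_mul, ← h2]
      linear_combination
        (algebraMap A (A ⊗[R] FractionRing R) (algebraMap R A r) *
          algebraMap A (A ⊗[R] FractionRing R) (algebraMap R A c)) * h3
    rw [h1]
    exact neg_mem (m.mul_mem_right _ hi)
  have hfin : Module.Finite R (A ⧸ p) := finite_of_forall_dvd_pow t ht (A ⧸ p) hBt hnt hstar
  have hinjB : Function.Injective (algebraMap R (A ⧸ p)) := by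
    rw [injective_iff_map_eq_zero]
    intro r hr
    by_contra hr0
    obtain ⟨k, c, hc⟩ := exists_dvd_pow' t htu r hr0
    have h2 : algebraMap R (A ⧸ p) t ^ k = 0 := by rw [← map_pow, hc, map_mul, hr, zero_mul]
    exact hτB (pow_eq_zero_iff (M₀ := A ⧸ p) (n := k) (by
      rintro rfl
      rw [pow_zero] at h2
      exact one_ne_zero h2) |>.mp h2)
  have hint : Algebra.IsIntegral R (A ⧸ p) := Algebra.IsIntegral.of_finite R _
  rw [← ringKrullDim_eq_of_isIntegral_of_injective hinjB]
  exact ringKrullDim_eq_one_V t ht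

end Corr

end Groth.Agent.Lib.BoschCore76
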