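import Groth.Agent.Lib.BoschCore76A

/-!
# Bosch FRG 7.3 core, part B: saturated submodules over restricted-power-series-like rings

`R` a valuation ring, `t ∈ R` a nonunit such that every nonunit of `R` has a power divisible by `t`
(height one), `P` a `t`-adically complete `R`-algebra with `P/tP = (R/t)[ζ_1..ζ_n]`.
Then every `t`-saturated submodule of `P^r` is finitely generated (`fg_of_saturated`).
-/

set_option autoImplicit false
universe u

namespace Groth.Agent.Lib.BoschCore76

open MvPolynomial

section Val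

variable {R : Type*} [CommRing R] [PreValuationRing R]

/-- in a (pre)valuation ring, a finite nonempty set contains an element dividing all others -/
theorem exists_dvd_all (F : Finset R) (hF : F.Nonempty) : ∃ g ∈ F, ∀ a ∈ F, g ∣ a := by
  classical
  induction hF using Finset.Nonempty.cons_induction with
  | singleton a => exact ⟨a, Finset.mem_singleton_self a, fun b hb => by
      rw [Finset.mem_singleton] at hb; rw [hb]⟩
  | cons a s ha hs ih =>
    obtain ⟨g, hg, hgs⟩ := ih
    rcases ValuationRing.dvd_total a g with h | h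
    · refine ⟨a, Finset.mem_cons_self a s, fun b hb => ?_⟩
      rw [Finset.mem_cons] at hb
      rcases hb with rfl | hb
      · exact dvd_rfl
      · exact h.trans (hgs b hb)
    · refine ⟨g, Finset.mem_cons.mpr (Or.inr hg), fun b hb => ?_⟩
      rw [Finset.mem_cons] at hb
      rcases hb with rfl | hb
      · exact h
      · exact hgs b hb

end Val

section Quot

variable {R : Type*} [CommRing R] [IsDomain R] [ValuationRing R] (t : R)

/-- the key property of `R/t` for a height one valuation ring -/
theorem exists_nilpotent_dvd (hnil : ∀ e : R, ¬ IsUnit e → ∃ k : ℕ, t ∣ e ^ k)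
    (F : Finset (R ⧸ Ideal.span {t})) (hF : ∀ a ∈ F, ¬ IsUnit a) :
    ∃ e : R ⧸ Ideal.span {t}, IsNilpotent e ∧ ∀ a ∈ F, e ∣ a := by
  classical
  rcases F.eq_empty_or_nonempty with h | h
  · exact ⟨0, IsNilpotent.zero, fun a ha => by rw [h] at ha; simp at ha⟩
  · have hsurj : Function.Surjective (Ideal.Quotient.mk (Ideal.span {t})) :=
      Ideal.Quotient.mk_surjective
    let l := Function.surjInv hsurj
    have hl : ∀ a, Ideal.Quotient.mk (Ideal.span {t}) (l a) = a := Function.surjInv_eq hsurj
    obtain ⟨g, hg, hgs⟩ := exists_dvd_all (F.image l) (h.image l)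
    rw [Finset.mem_image] at hg
    obtain ⟨a₀, ha₀, rfl⟩ := hg
    have hnu : ¬ IsUnit (l a₀) := by
      intro hu
      apply hF a₀ ha₀
      rw [← hl a₀]
      exact hu.map _
    obtain ⟨k, hk⟩ := hnil _ hnu
    refine ⟨a₀, ⟨k, ?_⟩, fun a ha => ?_⟩
    · rw [← hl a₀, ← map_pow, Ideal.Quotient.eq_zero_iff_mem, Ideal.mem_span_singleton]
      exact hk
    · have := hgs (l a) (Finset.mem_image_of_mem l ha)
      rw [← hl a₀, ← hl a]
      exact map_dvd _ this

end Quot

section Complete

variable {P : Type*} [CommRing P] (τ : P) [IsAdicComplete (Ideal.span {τ}) P]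

omit [IsAdicComplete (Ideal.span {τ}) P] in
lemma pow_smul_top_eq (K : ℕ) :
    ((Ideal.span {τ}) ^ K • (⊤ : Submodule P P)) = Ideal.span {τ ^ K} := by
  rw [Ideal.span_singleton_pow, smul_eq_mul, Ideal.mul_top]

/-- complete Nakayama: if `N ⊆ span g + τ N` inside `P^r` with `P` `τ`-adically complete then
`N ⊆ span g` -/
theorem le_span_of_le_span_add_smul {r s : ℕ} (N : Submodule P (Fin r → P))
    (g : Fin s → Fin r → P)
    (h : ∀ x ∈ N, ∃ (a : Fin s → P) (x₁ : Fin r → P), x₁ ∈ N ∧ x = ∑ i, a i • g i + τ • x₁) :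
    N ≤ Submodule.span P (Set.range g) := by
  classical
  intro x hx
  choose! A X hXN hAX using h
  -- the sequence
  have hxs : ∀ k : ℕ, X^[k] x ∈ N := by
    intro k
    induction k with
    | zero => exact hx
    | succ k ih => rw [Function.iterate_succ_apply']; exact hXN _ ih
  have hB : ∀ K : ℕ, x = ∑ i, (∑ k ∈ Finset.range K, τ ^ k * A (X^[k] x) i) • g i +
      τ ^ K • X^[K] x := by
    intro K
    induction K with
    | zero => simp
    | succ K ih =>
      have h1 := hAX _ (hxs K)
      have h2 : τ ^ K • X^[K] x = ∑ i, (τ ^ K * A (X^[K] x) i) • g i +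
          τ ^ (K + 1) • X^[K + 1] x := by
        conv_lhs => rw [h1]
        rw [smul_add, Finset.smul_sum, Function.iterate_succ_apply', smul_smul, pow_succ]
        congr 1
        apply Finset.sum_congr rfl
        intro i _
        rw [smul_smul]
      conv_lhs => rw [ih, h2]
      rw [← add_assoc, ← Finset.sum_add_distrib]
      congr 1
      apply Finset.sum_congr rfl
      intro i _
      rw [← add_smul, Finset.sum_range_succ]
  -- limits of the coefficients
  have hL : ∀ i, ∃ L : P, ∀ K : ℕ, (∑ k ∈ Finset.range K, τ ^ k * A (X^[k] x) i) - L ∈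
      Ideal.span {τ ^ K} := by
    intro i
    have hc : ∀ {m n : ℕ}, m ≤ n → (∑ k ∈ Finset.range m, τ ^ k * A (X^[k] x) i) ≡
        (∑ k ∈ Finset.range n, τ ^ k * A (X^[k] x) i)
          [SMOD ((Ideal.span {τ}) ^ m • (⊤ : Submodule P P))] := by
      intro m n hmn
      rw [SModEq.sub_mem, pow_smul_top_eq, ← Finset.sum_range_add_sum_Ico _ hmn,
        sub_add_cancel_left]
      apply neg_mem
      apply Ideal.sum_mem
      intro k hk
      rw [Finset.mem_Ico] at hk
      rw [Ideal.mem_span_singleton]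
      exact Dvd.dvd.mul_right (pow_dvd_pow τ hk.1) _
    obtain ⟨L, hL⟩ := IsPrecomplete.prec (I := Ideal.span {τ}) (M := P) inferInstance hc
    refine ⟨L, fun K => ?_⟩
    have := hL K
    rwa [SModEq.sub_mem, pow_smul_top_eq] at this
  choose L hL using hL
  have hxL : x = ∑ i, L i • g i := by
    rw [← sub_eq_zero]
    funext j
    apply IsHausdorff.haus (I := Ideal.span {τ}) (M := P) inferInstance
    intro K
    rw [SModEq.sub_mem, pow_smul_top_eq, sub_zero]
    have h1 : (x - ∑ i, L i • g i) j =
        ∑ i, ((∑ k ∈ Finset.range K, τ ^ k * A (X^[k] x) i) - L i) * g i j +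
          τ ^ K * X^[K] x j := by
      conv_lhs => rw [hB K]
      simp only [Pi.sub_apply, Pi.add_apply, Finset.sum_apply, Pi.smul_apply, smul_eq_mul,
        sub_mul, Finset.sum_sub_distrib]
      ring
    rw [h1]
    apply Ideal.add_mem
    · apply Ideal.sum_mem
      intro i _
      exact Ideal.mul_mem_right _ _ (hL i K)
    · exact Ideal.mul_mem_right _ _ (Ideal.mem_span_singleton_self _)
  rw [hxL]
  exact Submodule.sum_mem _ (fun i _ => Submodule.smul_mem _ _ (Submodule.subset_span ⟨i, rfl⟩))

end Complete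

section PLevel

set_option linter.unusedSectionVars false

variable {R : Type*} [CommRing R] [IsDomain R] [ValuationRing R] {t : R}
variable {P : Type*} [CommRing P] [Algebra R P] {n : ℕ}
  (ρ : P →+* MvPolynomial (Fin n) (R ⧸ Ideal.span {t}))

/-- reduction of vectors -/
noncomputable def red {r : ℕ} (x : Fin r → P) : Fin r → MvPolynomial (Fin n) (R ⧸ Ideal.span {t}) :=
  fun j => ρ (x j)

lemma red_zero {r : ℕ} : red ρ (0 : Fin r → P) = 0 := by funext j; simp [red]

lemma red_add {r : ℕ} (x y : Fin r → P) : red ρ (x + y) = red ρ x + red ρ y := by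
  funext j; simp [red]

lemma red_sub {r : ℕ} (x y : Fin r → P) : red ρ (x - y) = red ρ x - red ρ y := by
  funext j; simp [red]

lemma red_smul {r : ℕ} (a : P) (x : Fin r → P) : red ρ (a • x) = ρ a • red ρ x := by
  funext j; simp [red]

lemma red_sum {r : ℕ} {ι : Type*} (s : Finset ι) (f : ι → Fin r → P) :
    red ρ (∑ i ∈ s, f i) = ∑ i ∈ s, red ρ (f i) := by
  funext j; simp [red, Finset.sum_apply]

/-- the image submodule under reduction -/
noncomputable def redSub (hρs : Function.Surjective ρ) {r : ℕ} (N : Submodule P (Fin r → P)) :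
    Submodule (MvPolynomial (Fin n) (R ⧸ Ideal.span {t}))
      (Fin r → MvPolynomial (Fin n) (R ⧸ Ideal.span {t})) where
  carrier := {y | ∃ x ∈ N, red ρ x = y}
  add_mem' := by
    rintro _ _ ⟨x, hx, rfl⟩ ⟨y, hy, rfl⟩
    exact ⟨x + y, N.add_mem hx hy, red_add ρ x y⟩
  zero_mem' := ⟨0, N.zero_mem, red_zero ρ⟩
  smul_mem' := by
    rintro a _ ⟨x, hx, rfl⟩
    obtain ⟨a', rfl⟩ := hρs a
    exact ⟨a' • x, N.smul_mem _ hx, red_smul ρ a' x⟩

/-- **Core theorem** (class (V)): every `t`-saturated submodule of `P^r` is finitely generated. -/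
theorem fg_of_saturated (ht : ¬ IsUnit t) (hnil : ∀ e : R, ¬ IsUnit e → ∃ k : ℕ, t ∣ e ^ k)
    (hρs : Function.Surjective ρ)
    (hρk : ∀ x, ρ x = 0 → ∃ y, x = algebraMap R P t * y)
    (hρa : ∀ a : R, ρ (algebraMap R P a) = C (Ideal.Quotient.mk (Ideal.span {t}) a))
    [IsAdicComplete (Ideal.span {algebraMap R P t}) P]
    {r : ℕ} (N : Submodule P (Fin r → P))
    (hsat : ∀ x : Fin r → P, algebraMap R P t • x ∈ N → x ∈ N) : N.FG := by
  classical
  have hne : Ideal.span {t} ≠ ⊤ := by
    rwa [Ne, Ideal.span_singleton_eq_top]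
  have : Nontrivial (R ⧸ Ideal.span {t}) := Ideal.Quotient.nontrivial_iff.mpr hne
  have hsurj : Function.Surjective (Ideal.Quotient.mk (Ideal.span {t})) :=
    Ideal.Quotient.mk_surjective
  have : IsLocalRing (R ⧸ Ideal.span {t}) :=
    IsLocalRing.of_surjective' (Ideal.Quotient.mk (Ideal.span {t})) hsurj
  let l := Function.surjInv hsurj
  have hl : ∀ a, Ideal.Quotient.mk (Ideal.span {t}) (l a) = a := Function.surjInv_eq hsurj
  -- the saturation property downstairs
  have hsatbar : ∀ z ∈ redSub ρ hρs N, z ≠ 0 →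
      ∃ (c : R ⧸ Ideal.span {t}) (y : Fin r → MvPolynomial (Fin n) (R ⧸ Ideal.span {t})),
        y ∈ redSub ρ hρs N ∧ (∃ ν, IsUnit (cf y ν)) ∧ z = c • y := by
    rintro z ⟨z', hz'N, rfl⟩ hz0
    have hsne : (supp (red ρ z')).Nonempty := by
      rw [Finset.nonempty_iff_ne_empty]
      intro h
      exact hz0 (supp_eq_empty h)
    obtain ⟨g, hg, hgs⟩ := exists_dvd_all ((supp (red ρ z')).image (fun ν => l (cf (red ρ z') ν)))
      (hsne.image _)
    obtain ⟨ν₀, hν₀, rfl⟩ := Finset.mem_image.mp hg
    have hg0 : Ideal.Quotient.mk (Ideal.span {t}) (l (cf (red ρ z') ν₀)) ≠ 0 := by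
      rw [hl]; exact mem_supp.mp hν₀
    have hgt : ¬ t ∣ l (cf (red ρ z') ν₀) := fun h =>
      hg0 (Ideal.Quotient.eq_zero_iff_mem.mpr (Ideal.mem_span_singleton.mpr h))
    obtain ⟨d, hd⟩ : l (cf (red ρ z') ν₀) ∣ t :=
      (ValuationRing.dvd_total (l (cf (red ρ z') ν₀)) t).resolve_right hgt
    have hdnu : ¬ IsUnit d := by
      rintro ⟨v, rfl⟩
      exact hgt ⟨↑v⁻¹, (Units.eq_mul_inv_iff_mul_eq v).mpr hd.symm⟩
    have hb : ∀ ν, ∃ b : R, ν ∈ supp (red ρ z') →
        l (cf (red ρ z') ν) = l (cf (red ρ z') ν₀) * b := by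
      intro ν
      by_cases hν : ν ∈ supp (red ρ z')
      · obtain ⟨b, hb⟩ := hgs _ (Finset.mem_image_of_mem _ hν)
        exact ⟨b, fun _ => hb⟩
      · exact ⟨0, fun h => absurd h hν⟩
    choose b hb using hb
    have hzw : red ρ z' = Ideal.Quotient.mk (Ideal.span {t}) (l (cf (red ρ z') ν₀)) •
        ofCf (supp (red ρ z')) (fun ν => Ideal.Quotient.mk (Ideal.span {t}) (b ν)) := by
      apply cf_ext
      intro ν
      rw [cf_smul, cf_ofCf]
      by_cases hν : ν ∈ supp (red ρ z')
      · rw [if_pos hν, ← map_mul, ← hb ν hν, hl]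
      · rw [if_neg hν, mul_zero]
        by_contra h
        exact hν (mem_supp.mpr h)
    have hbν₀ : b ν₀ = 1 := by
      have h1 := hb ν₀ hν₀
      have hg0' : l (cf (red ρ z') ν₀) ≠ 0 := fun h => hg0 (by rw [h, map_zero])
      have h2 : l (cf (red ρ z') ν₀) * 1 = l (cf (red ρ z') ν₀) * b ν₀ := by rw [mul_one]; exact h1
      exact (mul_left_cancel₀ hg0' h2).symm
    have hwu : IsUnit (cf (ofCf (supp (red ρ z'))
        (fun ν => Ideal.Quotient.mk (Ideal.span {t}) (b ν))) ν₀) := by
      rw [cf_ofCf, if_pos hν₀, hbν₀, map_one]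
      exact isUnit_one
    have hlift : ∀ j, ∃ p : P, ρ p = ofCf (supp (red ρ z'))
        (fun ν => Ideal.Quotient.mk (Ideal.span {t}) (b ν)) j := fun j => hρs _
    choose w hw using hlift
    have hker : ∀ j, ρ (z' j - algebraMap R P (l (cf (red ρ z') ν₀)) * w j) = 0 := by
      intro j
      rw [map_sub, map_mul, hρa, hw, sub_eq_zero, ← smul_eq_C_mul]
      exact congrFun hzw j
    choose v hv using fun j => hρk _ (hker j)
    have hz'' : z' = algebraMap R P (l (cf (red ρ z') ν₀)) •
        (fun j => w j + algebraMap R P d * v j) := by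
      funext j
      have h1 := hv j
      have ht' : algebraMap R P t = algebraMap R P (l (cf (red ρ z') ν₀)) * algebraMap R P d := by
        rw [← map_mul, ← hd]
      rw [ht'] at h1
      simp only [Pi.smul_apply, smul_eq_mul]
      linear_combination h1
    have hz''N : (fun j => w j + algebraMap R P d * v j) ∈ N := by
      apply hsat
      have h1 : algebraMap R P t • (fun j => w j + algebraMap R P d * v j) =
          algebraMap R P d • z' := by
        conv_rhs => rw [hz'']
        rw [smul_smul, ← map_mul, mul_comm d, ← hd]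
      rw [h1]
      exact N.smul_mem _ hz'N
    have hredz'' : red ρ (fun j => w j + algebraMap R P d * v j) =
        ofCf (supp (red ρ z')) (fun ν => Ideal.Quotient.mk (Ideal.span {t}) (b ν)) +
          Ideal.Quotient.mk (Ideal.span {t}) d • red ρ v := by
      funext j
      simp only [red, map_add, map_mul, hw, hρa, Pi.add_apply, Pi.smul_apply, smul_eq_C_mul]
    refine ⟨Ideal.Quotient.mk (Ideal.span {t}) (l (cf (red ρ z') ν₀)),
      red ρ (fun j => w j + algebraMap R P d * v j), ⟨_, hz''N, rfl⟩, ⟨ν₀, ?_⟩, ?_⟩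
    · rw [hredz'', cf_add, cf_smul]
      apply IsNilpotent.isUnit_add_left_of_commute _ hwu (Commute.all _ _)
      obtain ⟨k, hk⟩ := hnil d hdnu
      have hdn : IsNilpotent (Ideal.Quotient.mk (Ideal.span {t}) d) := by
        refine ⟨k, ?_⟩
        rw [← map_pow, Ideal.Quotient.eq_zero_iff_mem, Ideal.mem_span_singleton]
        exact hk
      exact (Commute.all _ _).isNilpotent_mul_right hdn
    · conv_lhs => rw [hz'']
      rw [red_smul, hρa]
      funext j
      simp only [Pi.smul_apply, smul_eq_mul, smul_eq_C_mul]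
  have hNbar : (redSub ρ hρs N).FG :=
    fg_of_primitive_factor (exists_nilpotent_dvd t hnil) (redSub ρ hρs N) hsatbar
  obtain ⟨s, gbar, hg⟩ := Submodule.fg_iff_exists_fin_generating_family.mp hNbar
  have hgmem : ∀ i, gbar i ∈ redSub ρ hρs N := fun i => hg ▸ Submodule.subset_span ⟨i, rfl⟩
  choose g hgN hgred using hgmem
  have hle : N ≤ Submodule.span P (Set.range g) := by
    apply le_span_of_le_span_add_smul (algebraMap R P t) N g
    intro x hx
    have hxbar : red ρ x ∈ Submodule.span (MvPolynomial (Fin n) (R ⧸ Ideal.span {t}))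
        (Set.range gbar) := by
      rw [hg]; exact ⟨x, hx, rfl⟩
    obtain ⟨abar, habar⟩ := (Submodule.mem_span_range_iff_exists_fun _).mp hxbar
    choose a ha using fun i => hρs (abar i)
    have hker : ∀ j, ρ ((x - ∑ i, a i • g i) j) = 0 := by
      intro j
      have h0 : red ρ (x - ∑ i, a i • g i) = 0 := by
        rw [red_sub, red_sum, sub_eq_zero, ← habar]
        apply Finset.sum_congr rfl
        intro i _
        rw [red_smul, ha, hgred]
      exact congrFun h0 j
    choose x₁ hx₁ using fun j => hρk _ (hker j)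
    have hx₁' : algebraMap R P t • x₁ = x - ∑ i, a i • g i := by
      funext j
      rw [Pi.smul_apply, smul_eq_mul, ← hx₁ j]
    refine ⟨a, x₁, ?_, ?_⟩
    · apply hsat
      rw [hx₁']
      exact N.sub_mem hx (N.sum_mem fun i _ => N.smul_mem _ (hgN i))
    · rw [hx₁']; abel
  have hge : Submodule.span P (Set.range g) ≤ N := by
    rw [Submodule.span_le]
    rintro _ ⟨i, rfl⟩
    exact hgN i
  rw [le_antisymm hle hge]
  exact Submodule.fg_span (Set.finite_range g)

end PLevel

end Groth.Agent.Lib.BoschCore76
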