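import Groth.Agent.Lib.BoschCore76B
import Groth.Prelude.Def_W4bk4boschfrg79

/-!
# Bosch FRG 7.3 core, part C: restricted power series over a height one valuation ring

Instantiation of `fg_of_saturated` to `AdicRing.RPow R (span {t}) n`.
-/

set_option autoImplicit false
universe u

namespace Groth.Agent.Lib.BoschCore76

open MvPolynomial AdicRing

section RPow
variable {R : Type u} [CommRing R] (t : R) (n : ℕ)

/-- reduction modulo `t` of restricted power series, as an `R`-algebra map -/
noncomputable def rhoₐ : RPow R (Ideal.span {t}) n →ₐ[R] MvPolynomial (Fin n) (R ⧸ Ideal.span {t}) :=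
  ((quotientEquivQuotientMvPolynomial (σ := Fin n) (Ideal.span {t})).symm : _ →ₐ[R] _).comp
    ((AdicCompletion.evalOneₐ
      ((Ideal.span {t}).map (C : R →+* MvPolynomial (Fin n) R))).restrictScalars R)

lemma rhoₐ_surjective : Function.Surjective (rhoₐ t n) := by
  unfold rhoₐ
  exact ((quotientEquivQuotientMvPolynomial (σ := Fin n) (Ideal.span {t})).symm.surjective).comp
    (AdicCompletion.evalOneₐ_surjective _)

lemma algebraMap_rpow (a : R) :
    algebraMap R (RPow R (Ideal.span {t}) n) a =
      algebraMap (MvPolynomial (Fin n) R) (RPow R (Ideal.span {t}) n) (C a) := by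
  rw [IsScalarTower.algebraMap_apply R (MvPolynomial (Fin n) R) (RPow R (Ideal.span {t}) n)]
  rfl

lemma map_JJ_eq : ((Ideal.span {t}).map (C : R →+* MvPolynomial (Fin n) R)).map
    (algebraMap (MvPolynomial (Fin n) R) (RPow R (Ideal.span {t}) n)) =
    Ideal.span {algebraMap R (RPow R (Ideal.span {t}) n) t} := by
  rw [Ideal.map_map, Ideal.map_span ((algebraMap (MvPolynomial (Fin n) R)
    (RPow R (Ideal.span {t}) n)).comp C) {t}, Set.image_singleton, algebraMap_rpow]
  rfl

lemma fg_JJ : ((Ideal.span {t}).map (C : R →+* MvPolynomial (Fin n) R)).FG :=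
  Ideal.FG.map ⟨{t}, by simp⟩ _

lemma rhoₐ_ker (x : RPow R (Ideal.span {t}) n) (hx : rhoₐ t n x = 0) :
    ∃ y, x = algebraMap R (RPow R (Ideal.span {t}) n) t * y := by
  have h1 : AdicCompletion.evalOneₐ ((Ideal.span {t}).map (C : R →+* MvPolynomial (Fin n) R)) x
      = 0 := by
    have : (quotientEquivQuotientMvPolynomial (σ := Fin n) (Ideal.span {t})).symm
        (AdicCompletion.evalOneₐ ((Ideal.span {t}).map (C : R →+* MvPolynomial (Fin n) R)) x)
        = 0 := hx
    exact (EmbeddingLike.map_eq_zero_iff).mp this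
  have h2 : x ∈ RingHom.ker (AdicCompletion.evalOneₐ
      ((Ideal.span {t}).map (C : R →+* MvPolynomial (Fin n) R))).toRingHom := h1
  rw [AdicCompletion.ker_evalOneₐ_eq_map _ (fg_JJ t n), map_JJ_eq, Ideal.mem_span_singleton'] at h2
  obtain ⟨y, hy⟩ := h2
  exact ⟨y, by rw [← hy, mul_comm]⟩

lemma rhoₐ_algebraMap (a : R) : rhoₐ t n (algebraMap R _ a) =
    C (Ideal.Quotient.mk (Ideal.span {t}) a) := by
  rw [AlgHom.commutes]
  rfl

lemma isAdicComplete_rpow :
    IsAdicComplete (Ideal.span {algebraMap R (RPow R (Ideal.span {t}) n) t})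
      (RPow R (Ideal.span {t}) n) := by
  rw [← map_JJ_eq]
  exact AdicCompletion.isAdicComplete_self _ (fg_JJ t n)

end RPow

section ValRPow
variable {R : Type u} [CommRing R] [IsDomain R] [ValuationRing R] (t : R) (n : ℕ)

/-- **Core theorem for restricted power series** (class (V)). -/
theorem rpow_fg_of_saturated (ht : ¬ IsUnit t) (hnil : ∀ e : R, ¬ IsUnit e → ∃ k : ℕ, t ∣ e ^ k)
    {r : ℕ} (N : Submodule (RPow R (Ideal.span {t}) n) (Fin r → RPow R (Ideal.span {t}) n))
    (hsat : ∀ x : Fin r → RPow R (Ideal.span {t}) n,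
      algebraMap R (RPow R (Ideal.span {t}) n) t • x ∈ N → x ∈ N) : N.FG := by
  have := isAdicComplete_rpow t n
  exact fg_of_saturated (rhoₐ t n).toRingHom ht hnil (rhoₐ_surjective t n) (rhoₐ_ker t n)
    (rhoₐ_algebraMap t n) N hsat

/-- a finite `t`-torsion-free module over `R⟨ζ⟩` is finitely presented -/
theorem rpow_finitePresentation_of_torsionFree (ht : ¬ IsUnit t)
    (hnil : ∀ e : R, ¬ IsUnit e → ∃ k : ℕ, t ∣ e ^ k)
    (M : Type*) [AddCommGroup M] [Module (RPow R (Ideal.span {t}) n) M]
    [Module.Finite (RPow R (Ideal.span {t}) n) M]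
    (htf : ∀ x : M, algebraMap R (RPow R (Ideal.span {t}) n) t • x = 0 → x = 0) :
    Module.FinitePresentation (RPow R (Ideal.span {t}) n) M := by
  obtain ⟨r, f, hf⟩ := Module.Finite.exists_fin' (RPow R (Ideal.span {t}) n) M
  apply Module.finitePresentation_of_surjective f hf
  apply rpow_fg_of_saturated t n ht hnil
  intro x hx
  rw [LinearMap.mem_ker] at hx ⊢
  rw [map_smul] at hx
  exact htf _ hx

end ValRPow

section Descend

/-- finite presentation descends along a surjective ring map -/
theorem finitePresentation_of_surjective_algebraMap {P A : Type*} [CommRing P] [CommRing A]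
    [Algebra P A] (hPA : Function.Surjective (algebraMap P A))
    (M : Type*) [AddCommGroup M] [Module P M] [Module A M] [IsScalarTower P A M]
    [Module.FinitePresentation P M] : Module.FinitePresentation A M := by
  have hfinPA : Module.Finite P A := Module.Finite.of_surjective (Algebra.linearMap P A) hPA
  have hfinA : Module.Finite A M := Module.Finite.of_restrictScalars_finite P A M
  obtain ⟨r, f, hf⟩ := Module.Finite.exists_fin' A M
  apply Module.finitePresentation_of_surjective f hf
  have hker : (LinearMap.ker (f.restrictScalars P)).FG :=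
    Module.FinitePresentation.fg_ker (f.restrictScalars P) hf
  obtain ⟨s, hs⟩ := hker
  refine ⟨s, le_antisymm ?_ ?_⟩
  · rw [Submodule.span_le]
    intro x hx
    have : x ∈ LinearMap.ker (f.restrictScalars P) := hs ▸ Submodule.subset_span hx
    exact this
  · intro x hx
    have hx' : x ∈ LinearMap.ker (f.restrictScalars P) := hx
    rw [← hs] at hx'
    exact Submodule.span_le_restrictScalars P A _ hx'

end Descend

section BaseV

/-- in a height one valuation domain, every nonzero element divides a power of any nonunit -/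
theorem exists_dvd_pow' {R : Type*} [CommRing R] [IsDomain R] [ValuationRing R]
    [Ring.KrullDimLE 1 R] (e : R) (he : ¬ IsUnit e) (a : R) (ha : a ≠ 0) :
    ∃ m : ℕ, a ∣ e ^ m := by
  have : e ∈ (Ideal.span {a}).radical := by
    rw [Ideal.radical_eq_sInf, Ideal.mem_sInf]
    rintro Q ⟨hQ, hQprime⟩
    have hQne : Q ≠ ⊥ := by
      intro h
      rw [h] at hQ
      exact ha (by simpa using hQ (Ideal.mem_span_singleton_self a))
    have hQmax : Q.IsMaximal := hQprime.isMaximal_of_ne_bot hQne
    rw [IsLocalRing.eq_maximalIdeal hQmax]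
    exact (IsLocalRing.mem_maximalIdeal e).mpr he
  obtain ⟨m, hm⟩ := this
  exact ⟨m, Ideal.mem_span_singleton.mp hm⟩

/-- unpacking the class (V) alternative of `AdicRing.IsBase` -/
theorem isBase_V_unpack {R : Type u} [CommRing R] [IsDomain R] [ValuationRing R]
    [Ring.KrullDimLE 1 R] (t : R) (ht : t ≠ 0) [IsAdicComplete (Ideal.span {t}) R] :
    ¬ IsUnit t ∧ ∀ e : R, ¬ IsUnit e → ∃ k : ℕ, t ∣ e ^ k := by
  refine ⟨?_, fun e he => exists_dvd_pow' e he t ht⟩
  intro hu
  have htop : Ideal.span {t} = ⊤ := Ideal.span_singleton_eq_top.mpr hu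
  have hH : IsHausdorff (Ideal.span {t}) R := inferInstance
  have h10 : (1 : R) = 0 := by
    apply hH.haus'
    intro k
    rw [htop, Ideal.top_pow, SModEq.zero]
    simp
  exact one_ne_zero h10

end BaseV

end Groth.Agent.Lib.BoschCore76
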