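import Groth.Agent.Lib.BoschCore76C
import Groth.Agent.Lib.AdicNoeth

/-!
# Bosch FRG 7.3 core, part D: algebras topologically of finite type

* `isNoetherianRing_of_topFiniteType` : class (N).
* `finitePresentation_of_torsionFree_V` : class (V), finite `t`-torsion-free modules over an algebra
  topologically of finite type are finitely presented.
* `fg_of_saturated_V` : class (V), saturated submodules of finite modules are finitely generated.
-/

set_option autoImplicit false
universe u

namespace Groth.Agent.Lib.BoschCore76

open MvPolynomial AdicRing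

section N

theorem isNoetherianRing_rpow {R : Type u} [CommRing R] [IsNoetherianRing R] (I : Ideal R)
    (n : ℕ) : IsNoetherianRing (RPow R I n) :=
  Groth.Agent.Lib.AdicNoeth.isNoetherianRing_adicCompletion _

theorem isNoetherianRing_of_topFiniteType {R : Type u} [CommRing R] [IsNoetherianRing R]
    (I : Ideal R) {A : Type*} [CommRing A] [Algebra R A] (hA : TopFiniteType R I A) :
    IsNoetherianRing A := by
  obtain ⟨n, φ, hφ⟩ := hA
  have := isNoetherianRing_rpow I n
  exact isNoetherianRing_of_surjective _ _ φ.toRingHom hφ

end N

section V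

variable {R : Type u} [CommRing R] [IsDomain R] [ValuationRing R] (t : R)

/-- class (V): a finite `t`-torsion-free module over an algebra topologically of finite type is
finitely presented -/
theorem finitePresentation_of_torsionFree_V (ht : ¬ IsUnit t)
    (hnil : ∀ e : R, ¬ IsUnit e → ∃ k : ℕ, t ∣ e ^ k)
    {A : Type*} [CommRing A] [Algebra R A] (hA : TopFiniteType R (Ideal.span {t}) A)
    (M : Type*) [AddCommGroup M] [Module A M] [Module.Finite A M]
    (htf : ∀ x : M, algebraMap R A t • x = 0 → x = 0) : Module.FinitePresentation A M := by
  obtain ⟨n, φ, hφ⟩ := hA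
  let _ : Algebra (RPow R (Ideal.span {t}) n) A := φ.toRingHom.toAlgebra
  let _ : Module (RPow R (Ideal.span {t}) n) M := Module.compHom M φ.toRingHom
  have : IsScalarTower (RPow R (Ideal.span {t}) n) A M :=
    IsScalarTower.of_algebraMap_smul (fun _ _ => rfl)
  have hsurj : Function.Surjective (algebraMap (RPow R (Ideal.span {t}) n) A) := hφ
  have hfinPA : Module.Finite (RPow R (Ideal.span {t}) n) A :=
    Module.Finite.of_surjective (Algebra.linearMap (RPow R (Ideal.span {t}) n) A) hsurj
  have hfinPM : Module.Finite (RPow R (Ideal.span {t}) n) M :=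
    Module.Finite.trans A M
  have htf' : ∀ x : M, algebraMap R (RPow R (Ideal.span {t}) n) t • x = 0 → x = 0 := by
    intro x hx
    apply htf x
    have h1 : algebraMap R (RPow R (Ideal.span {t}) n) t • x =
        φ (algebraMap R (RPow R (Ideal.span {t}) n) t) • x := rfl
    rw [h1, AlgHom.commutes] at hx
    exact hx
  have := rpow_finitePresentation_of_torsionFree t n ht hnil M htf'
  exact finitePresentation_of_surjective_algebraMap hsurj M

/-- class (V): saturated submodules of finite modules are finitely generated -/
theorem fg_of_saturated_V (ht : ¬ IsUnit t)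
    (hnil : ∀ e : R, ¬ IsUnit e → ∃ k : ℕ, t ∣ e ^ k)
    {A : Type*} [CommRing A] [Algebra R A] (hA : TopFiniteType R (Ideal.span {t}) A)
    (M : Type*) [AddCommGroup M] [Module A M] [Module.Finite A M] (N : Submodule A M)
    (hsat : ∀ x : M, algebraMap R A t • x ∈ N → x ∈ N) : N.FG := by
  have hfp : Module.FinitePresentation A (M ⧸ N) := by
    apply finitePresentation_of_torsionFree_V t ht hnil hA
    intro x hx
    obtain ⟨x, rfl⟩ := Submodule.Quotient.mk_surjective N x
    rw [← Submodule.Quotient.mk_smul, Submodule.Quotient.mk_eq_zero] at hx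
    rw [Submodule.Quotient.mk_eq_zero]
    exact hsat x hx
  have := Module.FinitePresentation.fg_ker N.mkQ (Submodule.mkQ_surjective N)
  rwa [Submodule.ker_mkQ] at this

end V

end Groth.Agent.Lib.BoschCore76
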