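import Groth.Agent.Lib.BoschCore76D
import Groth.Agent.S11546

/-!
# Bosch FRG 7.3 core, part E: coherence

* `finitePresentation_ideal_of_surjective` : coherence passes to quotients by f.g. ideals.
* `rpow_mul_eq_zero` : `R⟨ζ⟩` is `t`-torsion-free (class (V)).
* `rpow_finitePresentation_ideal` : `R⟨ζ⟩` is coherent (class (V)).
-/

set_option autoImplicit false
universe u

namespace Groth.Agent.Lib.BoschCore76

open MvPolynomial AdicRing

section Coh

/-- coherence passes to the quotient by a finitely generated ideal -/
theorem finitePresentation_ideal_of_surjective {P A : Type*} [CommRing P] [CommRing A]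
    (φ : P →+* A) (hφ : Function.Surjective φ) (hker : (RingHom.ker φ).FG)
    (hcoh : ∀ J' : Ideal P, J'.FG → Module.FinitePresentation P J')
    (J : Ideal A) (hJ : J.FG) : Module.FinitePresentation A J := by
  algebraize [φ]
  have hJ'fg : (J.comap φ).FG := by
    apply Ideal.fg_of_fg_map_of_fg_inf_ker_of_surjective (f := φ) _ _ hφ
    · rwa [Ideal.map_comap_of_surjective φ hφ]
    · have hle : RingHom.ker φ ≤ J.comap φ := by
        intro x hx
        rw [Ideal.mem_comap, (RingHom.mem_ker).mp hx]
        exact J.zero_mem
      rwa [inf_eq_right.mpr hle]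
  have := hcoh _ hJ'fg
  let l : ↥(J.comap φ) →ₗ[P] ↥J :=
    { toFun := fun x => ⟨φ x.1, x.2⟩
      map_add' := by
        intro x y
        ext
        simp
      map_smul' := by
        intro p x
        ext
        simp only [Submodule.coe_smul, smul_eq_mul, map_mul, RingHom.id_apply]
        rfl }
  have hl : Function.Surjective l := by
    rintro ⟨y, hy⟩
    obtain ⟨x, rfl⟩ := hφ y
    exact ⟨⟨x, hy⟩, rfl⟩
  have hkerl : (LinearMap.ker l).FG := by
    apply Submodule.fg_of_fg_map_injective (J.comap φ).subtype Subtype.val_injective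
    have : (LinearMap.ker l).map (J.comap φ).subtype = RingHom.ker φ := by
      ext x
      simp only [Submodule.mem_map, LinearMap.mem_ker, Submodule.subtype_apply, Subtype.exists,
        exists_and_right, exists_eq_right, RingHom.mem_ker]
      constructor
      · rintro ⟨hx, h⟩
        have := congrArg Subtype.val h
        exact this
      · intro hx
        refine ⟨?_, ?_⟩
        · rw [Ideal.mem_comap, hx]
          exact J.zero_mem
        · ext
          exact hx
    rw [this]
    exact hker
  have : Module.FinitePresentation P ↥J := Module.finitePresentation_of_surjective l hl hkerl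
  exact finitePresentation_of_surjective_algebraMap hφ ↥J

end Coh

section V

variable {R : Type u} [CommRing R] [IsDomain R] [ValuationRing R] [Ring.KrullDimLE 1 R]
  (t : R) (ht0 : t ≠ 0) [IsAdicComplete (Ideal.span {t}) R]

include ht0 in
/-- `R⟨ζ⟩` is `t`-torsion-free -/
theorem rpow_mul_eq_zero (n : ℕ) (x : RPow R (Ideal.span {t}) n)
    (hx : algebraMap R (RPow R (Ideal.span {t}) n) t * x = 0) : x = 0 := by
  have hbase : IsBase R (Ideal.span {t}) :=
    ⟨inferInstance, Or.inr ⟨inferInstance, inferInstance, inferInstance, t, ht0, rfl⟩⟩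
  have := Groth.Agent.S11546.result R (Ideal.span {t}) hbase n
  have hreg : IsSMulRegular (RPow R (Ideal.span {t}) n) t :=
    Module.Flat.isSMulRegular_of_nonZeroDivisors (mem_nonZeroDivisors_of_ne_zero ht0)
  apply hreg
  show t • x = t • (0 : RPow R (Ideal.span {t}) n)
  rw [smul_zero, Algebra.smul_def]
  exact hx

include ht0 in
/-- `R⟨ζ⟩` is coherent -/
theorem rpow_finitePresentation_ideal (n : ℕ) (J : Ideal (RPow R (Ideal.span {t}) n))
    (hJ : J.FG) : Module.FinitePresentation (RPow R (Ideal.span {t}) n) J := by
  obtain ⟨htu, hnil⟩ := isBase_V_unpack t ht0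
  have : Module.Finite (RPow R (Ideal.span {t}) n) J := Module.Finite.iff_fg.mpr hJ
  apply rpow_finitePresentation_of_torsionFree t n htu hnil
  intro x hx
  have h1 : algebraMap R (RPow R (Ideal.span {t}) n) t * x.1 = 0 := by
    have := congrArg Subtype.val hx
    simpa [Algebra.smul_def] using this
  exact Subtype.ext (rpow_mul_eq_zero t ht0 n x.1 h1)

end V

end Groth.Agent.Lib.BoschCore76
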