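import Groth.Agent.Lib.BoschCore76E
import Groth.Agent.Lib.AdicPi

/-!
# Bosch FRG 7.3 core, part F: Artin–Rees and completeness of finite modules, class (V)

* `isPrecomplete_of_surjective`, `isPrecomplete_of_finite` (general).
* `mem_of_forall_mem_add_smul` : f.g. saturated submodules of `P^r` are closed.
* `exists_pow_smul_mem_V` : bounded torsion modulo a submodule (Artin–Rees, class (V)).
* `isAdicComplete_of_finite_V` : finite modules over tft algebras are complete and separated.
-/

set_option autoImplicit false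
universe u

namespace Groth.Agent.Lib.BoschCore76

open MvPolynomial AdicRing

section General
variable {A : Type*} [CommRing A]

lemma mem_span_pow_smul_top_iff (τ : A) (k : ℕ) {M : Type*} [AddCommGroup M] [Module A M]
    (x : M) : x ∈ ((Ideal.span {τ}) ^ k • (⊤ : Submodule A M)) ↔ ∃ y : M, x = τ ^ k • y := by
  rw [Ideal.span_singleton_pow, Submodule.ideal_span_singleton_smul,
    Submodule.mem_smul_pointwise_iff_exists]
  constructor
  · rintro ⟨y, -, rfl⟩; exact ⟨y, rfl⟩
  · rintro ⟨y, rfl⟩; exact ⟨y, trivial, rfl⟩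

theorem isPrecomplete_of_surjective (J : Ideal A) {M N : Type*} [AddCommGroup M] [Module A M]
    [AddCommGroup N] [Module A N] (f : M →ₗ[A] N) (hf : Function.Surjective f)
    [IsPrecomplete J M] : IsPrecomplete J N := by
  rw [← AdicCompletion.of_surjective_iff]
  intro y
  obtain ⟨x, hx⟩ := AdicCompletion.map_surjective J hf y
  obtain ⟨m, hm⟩ := AdicCompletion.of_surjective J M x
  exact ⟨f m, by rw [← hx, ← hm, AdicCompletion.map_of]⟩

theorem isPrecomplete_of_finite (J : Ideal A) [IsPrecomplete J A] (M : Type*) [AddCommGroup M]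
    [Module A M] [Module.Finite A M] : IsPrecomplete J M := by
  obtain ⟨n, f, hf⟩ := Module.Finite.exists_fin' A M
  have := Groth.Agent.Lib.AdicPi.isPrecomplete_pi J (Fin n)
  exact isPrecomplete_of_surjective J f hf

/-- finitely generated saturated submodules of `P^r` are closed -/
theorem mem_of_forall_mem_add_smul (τ : A) [IsAdicComplete (Ideal.span {τ}) A] {r : ℕ}
    (S : Submodule A (Fin r → A)) (hfg : S.FG) (hsat : ∀ x : Fin r → A, τ • x ∈ S → x ∈ S)
    (x : Fin r → A) (hx : ∀ k : ℕ, ∃ s ∈ S, ∃ p : Fin r → A, x = s + τ ^ k • p) : x ∈ S := by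
  let C : Submodule A (Fin r → A) :=
    { carrier := {x | ∀ k : ℕ, ∃ s ∈ S, ∃ p : Fin r → A, x = s + τ ^ k • p}
      add_mem' := by
        intro a b ha hb k
        obtain ⟨s, hs, p, rfl⟩ := ha k
        obtain ⟨s', hs', p', rfl⟩ := hb k
        exact ⟨s + s', S.add_mem hs hs', p + p', by rw [smul_add]; abel⟩
      zero_mem' := fun k => ⟨0, S.zero_mem, 0, by simp⟩
      smul_mem' := by
        intro c a ha k
        obtain ⟨s, hs, p, rfl⟩ := ha k
        exact ⟨c • s, S.smul_mem c hs, c • p, by rw [smul_add, smul_comm]⟩ }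
  obtain ⟨s, g, hg⟩ := Submodule.fg_iff_exists_fin_generating_family.mp hfg
  have hC : C ≤ Submodule.span A (Set.range g) := by
    apply le_span_of_le_span_add_smul τ C g
    intro y hy
    obtain ⟨s₁, hs₁, p₁, hy₁⟩ := hy 1
    rw [pow_one] at hy₁
    have hs₁' : s₁ ∈ Submodule.span A (Set.range g) := by rw [hg]; exact hs₁
    obtain ⟨a, ha⟩ := (Submodule.mem_span_range_iff_exists_fun A).mp hs₁'
    refine ⟨a, p₁, ?_, by rw [ha]; exact hy₁⟩
    intro k
    obtain ⟨s', hs', p', hy'⟩ := hy (k + 1)
    have h1 : τ • (p₁ - τ ^ k • p') = s' - s₁ := by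
      have : s₁ + τ • p₁ = s' + τ ^ (k + 1) • p' := by rw [← hy₁, ← hy']
      rw [smul_sub, smul_smul, ← pow_succ']
      rw [← sub_eq_zero] at this ⊢
      rw [← this]
      abel
    have h2 : p₁ - τ ^ k • p' ∈ S := hsat _ (by rw [h1]; exact S.sub_mem hs' hs₁)
    exact ⟨_, h2, p', by abel⟩
  rw [hg] at hC
  exact hC hx

end General

section V

variable {R : Type u} [CommRing R] [IsDomain R] [ValuationRing R] (t : R)
variable {A : Type*} [CommRing A] [Algebra R A]

/-- class (V): bounded torsion modulo a submodule -/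
theorem exists_pow_smul_mem_V (ht : ¬ IsUnit t)
    (hnil : ∀ e : R, ¬ IsUnit e → ∃ k : ℕ, t ∣ e ^ k)
    (hA : TopFiniteType R (Ideal.span {t}) A)
    (M : Type*) [AddCommGroup M] [Module A M] [Module.Finite A M] (N : Submodule A M) :
    ∃ n₀ : ℕ, ∀ x : M, (∃ k : ℕ, (algebraMap R A t) ^ k • x ∈ N) →
      (algebraMap R A t) ^ n₀ • x ∈ N := by
  classical
  let Nsat : Submodule A M :=
    { carrier := {x | ∃ k : ℕ, (algebraMap R A t) ^ k • x ∈ N}
      add_mem' := by
        rintro a b ⟨k, hk⟩ ⟨l, hl⟩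
        refine ⟨k + l, ?_⟩
        rw [smul_add]
        apply N.add_mem
        · rw [pow_add, mul_comm, mul_smul]; exact N.smul_mem _ hk
        · rw [pow_add, mul_smul]; exact N.smul_mem _ hl
      zero_mem' := ⟨0, by simp⟩
      smul_mem' := by
        rintro c a ⟨k, hk⟩
        exact ⟨k, by rw [smul_comm]; exact N.smul_mem _ hk⟩ }
  have hsat : ∀ x : M, algebraMap R A t • x ∈ Nsat → x ∈ Nsat := by
    rintro x ⟨k, hk⟩
    exact ⟨k + 1, by rw [pow_succ, mul_smul]; exact hk⟩
  have hfg : Nsat.FG := fg_of_saturated_V t ht hnil hA M Nsat hsat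
  obtain ⟨s, g, hg⟩ := Submodule.fg_iff_exists_fin_generating_family.mp hfg
  have hgk : ∀ i, ∃ k : ℕ, (algebraMap R A t) ^ k • g i ∈ N := by
    intro i
    have : g i ∈ Nsat := hg ▸ Submodule.subset_span ⟨i, rfl⟩
    exact this
  choose k hk using hgk
  have key : ∀ y ∈ Submodule.span A (Set.range g), (algebraMap R A t) ^ (∑ i, k i) • y ∈ N := by
    intro y hy
    induction hy using Submodule.span_induction with
    | mem y hy =>
      obtain ⟨i, rfl⟩ := hy
      have hle : k i ≤ ∑ i, k i :=
        Finset.single_le_sum (fun _ _ => Nat.zero_le _) (Finset.mem_univ i)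
      obtain ⟨d, hd⟩ := Nat.exists_eq_add_of_le hle
      rw [hd, pow_add, mul_comm, mul_smul]
      exact N.smul_mem _ (hk i)
    | zero => simp
    | add y z _ _ hy hz => rw [smul_add]; exact N.add_mem hy hz
    | smul c y _ hy => rw [smul_comm]; exact N.smul_mem _ hy
  refine ⟨∑ i, k i, fun x hx => key x ?_⟩
  rw [hg]; exact hx

end V


section VComplete

variable {R : Type u} [CommRing R] [IsDomain R] [ValuationRing R] (t : R) (n : ℕ)

theorem topFiniteType_rpow {R : Type u} [CommRing R] (I : Ideal R) (n : ℕ) :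
    TopFiniteType R I (RPow R I n) :=
  ⟨n, AlgHom.id R _, Function.surjective_id⟩

/-- finite `t`-torsion-free modules over `R⟨ζ⟩` are separated -/
theorem isHausdorff_of_finite_torsionFree_rpow (ht : ¬ IsUnit t)
    (hnil : ∀ e : R, ¬ IsUnit e → ∃ k : ℕ, t ∣ e ^ k)
    (M : Type*) [AddCommGroup M] [Module (RPow R (Ideal.span {t}) n) M]
    [Module.Finite (RPow R (Ideal.span {t}) n) M]
    (htf : ∀ x : M, algebraMap R (RPow R (Ideal.span {t}) n) t • x = 0 → x = 0) :
    IsHausdorff (Ideal.span {algebraMap R (RPow R (Ideal.span {t}) n) t}) M := by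
  obtain ⟨r, f, hf⟩ := Module.Finite.exists_fin' (RPow R (Ideal.span {t}) n) M
  have hsat : ∀ x : Fin r → RPow R (Ideal.span {t}) n,
      algebraMap R (RPow R (Ideal.span {t}) n) t • x ∈ LinearMap.ker f → x ∈ LinearMap.ker f := by
    intro x hx
    rw [LinearMap.mem_ker] at hx ⊢
    rw [map_smul] at hx
    exact htf _ hx
  have hfg : (LinearMap.ker f).FG := rpow_fg_of_saturated t n ht hnil _ hsat
  have := isAdicComplete_rpow t n
  refine ⟨fun x hx => ?_⟩
  obtain ⟨x', rfl⟩ := hf x
  have hmem : x' ∈ LinearMap.ker f := by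
    apply mem_of_forall_mem_add_smul (algebraMap R (RPow R (Ideal.span {t}) n) t)
      (LinearMap.ker f) hfg hsat x'
    intro k
    have hk := hx k
    rw [SModEq.zero, mem_span_pow_smul_top_iff] at hk
    obtain ⟨y, hy⟩ := hk
    obtain ⟨p, rfl⟩ := hf y
    refine ⟨x' - (algebraMap R (RPow R (Ideal.span {t}) n) t) ^ k • p, ?_, p, by abel⟩
    rw [LinearMap.mem_ker, map_sub, map_smul, hy, sub_self]
  exact hmem

/-- finite modules over `R⟨ζ⟩` are separated -/
theorem isHausdorff_of_finite_rpow (ht : ¬ IsUnit t)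
    (hnil : ∀ e : R, ¬ IsUnit e → ∃ k : ℕ, t ∣ e ^ k)
    (M : Type*) [AddCommGroup M] [Module (RPow R (Ideal.span {t}) n) M]
    [Module.Finite (RPow R (Ideal.span {t}) n) M] :
    IsHausdorff (Ideal.span {algebraMap R (RPow R (Ideal.span {t}) n) t}) M := by
  obtain ⟨n₀, hn₀⟩ := exists_pow_smul_mem_V t ht hnil (topFiniteType_rpow (Ideal.span {t}) n) M
    (⊥ : Submodule (RPow R (Ideal.span {t}) n) M)
  let T : Submodule (RPow R (Ideal.span {t}) n) M :=
    { carrier := {x | ∃ k : ℕ, (algebraMap R (RPow R (Ideal.span {t}) n) t) ^ k • x = 0}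
      add_mem' := by
        rintro a b ⟨k, hk⟩ ⟨l, hl⟩
        refine ⟨k + l, ?_⟩
        have e1 : (algebraMap R (RPow R (Ideal.span {t}) n) t) ^ (k + l) • a = 0 := by
          rw [pow_add, mul_comm, mul_smul, hk, smul_zero]
        have e2 : (algebraMap R (RPow R (Ideal.span {t}) n) t) ^ (k + l) • b = 0 := by
          rw [pow_add, mul_smul, hl, smul_zero]
        rw [smul_add, e1, e2, add_zero]
      zero_mem' := ⟨0, by simp⟩
      smul_mem' := by
        rintro c a ⟨k, hk⟩
        exact ⟨k, by rw [smul_comm, hk, smul_zero]⟩ }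
  have hT : ∀ x : M, algebraMap R (RPow R (Ideal.span {t}) n) t • x ∈ T → x ∈ T := by
    rintro x ⟨k, hk⟩
    exact ⟨k + 1, by rw [pow_succ, mul_smul]; exact hk⟩
  have hTpow : ∀ (k : ℕ) (x : M),
      (algebraMap R (RPow R (Ideal.span {t}) n) t) ^ k • x ∈ T → x ∈ T := by
    intro k
    induction k with
    | zero => intro x hx; simpa using hx
    | succ k ih =>
      intro x hx
      rw [pow_succ, mul_smul] at hx
      exact hT x (ih _ hx)
  have hfinQ : Module.Finite (RPow R (Ideal.span {t}) n) (M ⧸ T) :=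
    Module.Finite.of_surjective T.mkQ (Submodule.mkQ_surjective T)
  have hQ : IsHausdorff (Ideal.span {algebraMap R (RPow R (Ideal.span {t}) n) t}) (M ⧸ T) := by
    apply isHausdorff_of_finite_torsionFree_rpow t n ht hnil
    intro x hx
    obtain ⟨x, rfl⟩ := Submodule.Quotient.mk_surjective T x
    rw [← Submodule.Quotient.mk_smul, Submodule.Quotient.mk_eq_zero] at hx
    rw [Submodule.Quotient.mk_eq_zero]
    exact hT x hx
  refine ⟨fun x hx => ?_⟩
  have hxT : x ∈ T := by
    rw [← Submodule.Quotient.mk_eq_zero]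
    apply hQ.haus'
    intro k
    have hk := hx k
    rw [SModEq.zero, mem_span_pow_smul_top_iff] at hk ⊢
    obtain ⟨y, rfl⟩ := hk
    exact ⟨Submodule.Quotient.mk y, by rw [Submodule.Quotient.mk_smul]⟩
  have hk := hx n₀
  rw [SModEq.zero, mem_span_pow_smul_top_iff] at hk
  obtain ⟨y, rfl⟩ := hk
  have hyT : y ∈ T := hTpow n₀ y hxT
  have := hn₀ y (by obtain ⟨k, hk⟩ := hyT; exact ⟨k, by rw [hk]; exact Submodule.zero_mem _⟩)
  simpa using this

/-- finite modules over `R⟨ζ⟩` are complete and separated -/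
theorem isAdicComplete_of_finite_rpow (ht : ¬ IsUnit t)
    (hnil : ∀ e : R, ¬ IsUnit e → ∃ k : ℕ, t ∣ e ^ k)
    (M : Type*) [AddCommGroup M] [Module (RPow R (Ideal.span {t}) n) M]
    [Module.Finite (RPow R (Ideal.span {t}) n) M] :
    IsAdicComplete (Ideal.span {algebraMap R (RPow R (Ideal.span {t}) n) t}) M := by
  have := isAdicComplete_rpow t n
  have h1 := isHausdorff_of_finite_rpow t n ht hnil M
  have h2 := isPrecomplete_of_finite
    (Ideal.span {algebraMap R (RPow R (Ideal.span {t}) n) t}) M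
  exact { h1, h2 with }

end VComplete

section TFT
variable {R : Type u} [CommRing R] (I : Ideal R) {n : ℕ}
variable {A : Type*} [CommRing A] [Algebra R A]

/-- a module over a quotient `A` of `R⟨ζ⟩` is `I`-adically complete iff it is so over `R⟨ζ⟩` for
the ideal generated by the image of `I` -/
theorem isAdicComplete_iff_of_rpow (φ : RPow R I n →ₐ[R] A)
    (M : Type*) [AddCommGroup M] [Module A M] [Module R M] [IsScalarTower R A M] :
    letI : Module (RPow R I n) M := Module.compHom M φ.toRingHom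
    IsAdicComplete I M ↔ IsAdicComplete (I.map (algebraMap R (RPow R I n))) M := by
  let _ : Module (RPow R I n) M := Module.compHom M φ.toRingHom
  have : IsScalarTower R (RPow R I n) M := by
    refine ⟨fun r p m => ?_⟩
    show φ (r • p) • m = r • (φ p • m)
    rw [map_smul, smul_assoc]
  exact (IsAdicComplete.map_algebraMap_iff I M).symm

end TFT


section TFT2
variable {R : Type u} [CommRing R] (I : Ideal R) (n : ℕ)

theorem isAdicComplete_rpow_map (hI : I.FG) :
    IsAdicComplete (I.map (algebraMap R (RPow R I n))) (RPow R I n) := by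
  have := AdicCompletion.isAdicComplete_self (I.map (C : R →+* MvPolynomial (Fin n) R))
    (hI.map _)
  rwa [Ideal.map_map] at this

end TFT2

end Groth.Agent.Lib.BoschCore76
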