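import Mathlib.RingTheory.Flat.Tensor
import Mathlib.RingTheory.Flat.Stability
import Mathlib.RingTheory.AdicCompletion.Basic
import Mathlib.LinearAlgebra.TensorProduct.RightExactness
import Mathlib.LinearAlgebra.TensorProduct.Tower

/-!
# Bosch FRG 7.3 core, part H: an idealwise local criterion of flatness

`flat_of_forall_trunc` : if for every finitely generated ideal `𝔞` of `A` the module `𝔞 ⊗ M` is
`𝔍`-adically separated and the `𝔍`-adic topology of `A` induces that of `𝔞` through ideals `K`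
with `A/K ⊗ M` flat over `A/K`, then `M` is flat over `A`. (Mathlib only.)
-/

set_option autoImplicit false
universe u v

namespace Groth.Agent.Lib.BoschCore76

open TensorProduct

section FlatBC
variable {A A' : Type*} [CommRing A] [CommRing A'] [Algebra A A']
  (M : Type*) [AddCommGroup M] [Module A M]

/-- if `A' ⊗ M` is flat over `A'` then `- ⊗_A M` preserves injections of `A'`-modules -/
theorem rTensor_injective_of_flat_baseChange [Module.Flat A' (A' ⊗[A] M)]
    {N₁ N₂ : Type*} [AddCommGroup N₁] [AddCommGroup N₂] [Module A N₁] [Module A' N₁]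
    [IsScalarTower A A' N₁] [Module A N₂] [Module A' N₂] [IsScalarTower A A' N₂]
    (f : N₁ →ₗ[A'] N₂) (hf : Function.Injective f) :
    Function.Injective (LinearMap.rTensor M (f.restrictScalars A)) := by
  have h1 : Function.Injective (LinearMap.rTensor (A' ⊗[A] M) f) :=
    Module.Flat.rTensor_preserves_injective_linearMap f hf
  let e₁ := TensorProduct.AlgebraTensorModule.cancelBaseChange A A' A' N₁ M
  let e₂ := TensorProduct.AlgebraTensorModule.cancelBaseChange A A' A' N₂ M
  have hcomm : ∀ x, LinearMap.rTensor M (f.restrictScalars A) (e₁ x) =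
      e₂ (LinearMap.rTensor (A' ⊗[A] M) f x) := by
    intro x
    induction x using TensorProduct.induction_on with
    | zero => simp
    | tmul n z =>
      induction z using TensorProduct.induction_on with
      | zero => simp
      | tmul a m => simp [e₁, e₂]
      | add z₁ z₂ h₁ h₂ => simp only [tmul_add, map_add, h₁, h₂]
    | add x y hx hy => simp only [map_add, hx, hy]
  intro x y hxy
  obtain ⟨x, rfl⟩ := e₁.surjective x
  obtain ⟨y, rfl⟩ := e₁.surjective y
  rw [hcomm, hcomm] at hxy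
  rw [h1 (e₂.injective hxy)]

end FlatBC

section Crit
variable {A : Type u} [CommRing A] (𝔍 : Ideal A) (M : Type v) [AddCommGroup M] [Module A M]

/-- idealwise local criterion of flatness -/
theorem flat_of_forall_trunc
    (hsep : ∀ 𝔞 : Ideal A, 𝔞.FG → IsHausdorff 𝔍 (𝔞 ⊗[A] M))
    (hAR : ∀ 𝔞 : Ideal A, 𝔞.FG → ∀ m : ℕ, ∃ K : Ideal A, K ⊓ 𝔞 ≤ 𝔍 ^ m * 𝔞 ∧
      Module.Flat (A ⧸ K) ((A ⧸ K) ⊗[A] M)) :
    Module.Flat A M := by
  rw [Module.Flat.iff_rTensor_injective]
  intro 𝔞 hfg
  rw [injective_iff_map_eq_zero]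
  intro x hx
  apply (hsep 𝔞 hfg).haus' x
  intro m
  rw [SModEq.zero]
  obtain ⟨K, hK, hflat⟩ := hAR 𝔞 hfg m
  let 𝔞' : Ideal (A ⧸ K) := 𝔞.map (Ideal.Quotient.mk K)
  let g : 𝔞 →ₗ[A] 𝔞' :=
    { toFun := fun a => ⟨Ideal.Quotient.mk K a, Ideal.mem_map_of_mem _ a.2⟩
      map_add' := fun a b => Subtype.ext (by simp)
      map_smul' := fun c a => Subtype.ext (by simp [Algebra.smul_def]) }
  have hgs : Function.Surjective g := by
    rintro ⟨y, hy⟩
    obtain ⟨a, ha, rfl⟩ := (Ideal.mem_map_iff_of_surjective _ Ideal.Quotient.mk_surjective).mp hy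
    exact ⟨⟨a, ha⟩, rfl⟩
  have hinj := rTensor_injective_of_flat_baseChange (A := A) (A' := A ⧸ K) M 𝔞'.subtype
    Subtype.val_injective
  have hsq : (𝔞'.subtype.restrictScalars A) ∘ₗ g = (Algebra.linearMap A (A ⧸ K)) ∘ₗ 𝔞.subtype := by
    ext a
    rfl
  have h0 : LinearMap.rTensor M g x = 0 := by
    apply hinj
    rw [map_zero, ← LinearMap.rTensor_comp_apply, hsq, LinearMap.rTensor_comp_apply, hx, map_zero]
  have hex := rTensor_exact M (LinearMap.exact_subtype_ker_map g) hgs
  obtain ⟨z, rfl⟩ := (hex x).mp h0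
  -- every element in the image lies in `𝔍^m • ⊤`
  have hpure : ∀ (a : A) (μ : M), a ∈ 𝔍 ^ m * 𝔞 → ∃ ha : a ∈ 𝔞,
      ((⟨a, ha⟩ : 𝔞) ⊗ₜ[A] μ) ∈ (𝔍 ^ m • ⊤ : Submodule A (𝔞 ⊗[A] M)) := by
    intro a μ ha
    refine Submodule.smul_induction_on (p := fun a => ∃ ha : a ∈ 𝔞,
      ((⟨a, ha⟩ : 𝔞) ⊗ₜ[A] μ) ∈ (𝔍 ^ m • ⊤ : Submodule A (𝔞 ⊗[A] M))) ha ?_ ?_
    · intro i hi b hb
      refine ⟨Ideal.mul_mem_left _ _ hb, ?_⟩
      have : ((⟨i • b, Ideal.mul_mem_left _ _ hb⟩ : 𝔞) ⊗ₜ[A] μ) =
          i • ((⟨b, hb⟩ : 𝔞) ⊗ₜ[A] μ) := by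
        rw [TensorProduct.smul_tmul']
        rfl
      rw [this]
      exact Submodule.smul_mem_smul hi trivial
    · intro a b iha ihb
      obtain ⟨ha, ha'⟩ := iha
      obtain ⟨hb, hb'⟩ := ihb
      refine ⟨𝔞.add_mem ha hb, ?_⟩
      have : ((⟨a + b, 𝔞.add_mem ha hb⟩ : 𝔞) ⊗ₜ[A] μ) =
          ((⟨a, ha⟩ : 𝔞) ⊗ₜ[A] μ) + ((⟨b, hb⟩ : 𝔞) ⊗ₜ[A] μ) := by
        rw [← TensorProduct.add_tmul]
        rfl
      rw [this]
      exact Submodule.add_mem _ ha' hb'
  clear h0 hx
  induction z using TensorProduct.induction_on with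
  | zero => simp
  | tmul κ μ =>
    have hκ : ((κ : 𝔞) : A) ∈ K ⊓ 𝔞 := by
      refine ⟨?_, (κ : 𝔞).2⟩
      have h1 : g κ = 0 := κ.2
      have h2 : Ideal.Quotient.mk K ((κ : 𝔞) : A) = 0 := congrArg Subtype.val h1
      exact Ideal.Quotient.eq_zero_iff_mem.mp h2
    obtain ⟨h1, h2⟩ := hpure _ μ (hK hκ)
    exact h2
  | add z₁ z₂ h₁ h₂ =>
    rw [map_add]
    exact Submodule.add_mem _ h₁ h₂

end Crit

section Transport
variable {A : Type*} [CommRing A] (𝔍 : Ideal A)

/-- separatedness passes to modules embedding linearly -/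
theorem isHausdorff_of_injective {W₁ W₂ : Type*} [AddCommGroup W₁] [AddCommGroup W₂] [Module A W₁]
    [Module A W₂] (f : W₁ →ₗ[A] W₂) (hf : Function.Injective f) [IsHausdorff 𝔍 W₂] :
    IsHausdorff 𝔍 W₁ := by
  refine ⟨fun x hx => ?_⟩
  apply hf
  rw [map_zero]
  apply IsHausdorff.haus' (I := 𝔍) (f x)
  intro m
  have := hx m
  rw [SModEq.zero] at this ⊢
  have h2 : f x ∈ Submodule.map f (𝔍 ^ m • (⊤ : Submodule A W₁)) := Submodule.mem_map_of_mem this
  rw [Submodule.map_smul''] at h2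
  exact Submodule.smul_mono le_rfl le_top h2

end Transport

section Fin
variable {A B : Type*} [CommRing A] [CommRing B] [Algebra A B]

/-- `M ⊗_A N` is finite over `B` when `M` is finite over `B` and `N` finite over `A` -/
theorem finite_tensorProduct_left (M N : Type*) [AddCommGroup M] [Module A M] [Module B M]
    [IsScalarTower A B M] [AddCommGroup N] [Module A N] [Module.Finite B M] [Module.Finite A N] :
    Module.Finite B (M ⊗[A] N) := by
  classical
  obtain ⟨sM, hsM⟩ := (Module.finite_def (R := B) (M := M)).mp inferInstance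
  obtain ⟨sN, hsN⟩ := (Module.finite_def (R := A) (M := N)).mp inferInstance
  refine ⟨⟨Finset.image₂ (fun μ ν => μ ⊗ₜ[A] ν) sM sN, ?_⟩⟩
  rw [eq_top_iff]
  rintro x -
  have hpure : ∀ ν : N, ∀ μ : M, μ ⊗ₜ[A] ν ∈
      Submodule.span B (↑(Finset.image₂ (fun μ ν => μ ⊗ₜ[A] ν) sM sN) : Set (M ⊗[A] N)) := by
    intro ν
    have hν : ν ∈ Submodule.span A (sN : Set N) := by rw [hsN]; trivial
    induction hν using Submodule.span_induction with
    | mem ν hν =>
      intro μ
      have hμ : μ ∈ Submodule.span B (sM : Set M) := by rw [hsM]; trivial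
      induction hμ using Submodule.span_induction with
      | mem μ hμ =>
        apply Submodule.subset_span
        rw [Finset.coe_image₂]
        exact ⟨μ, hμ, ν, hν, rfl⟩
      | zero => rw [TensorProduct.zero_tmul]; exact Submodule.zero_mem _
      | add a b _ _ ha hb => rw [TensorProduct.add_tmul]; exact Submodule.add_mem _ ha hb
      | smul c a _ ha => rw [← TensorProduct.smul_tmul']; exact Submodule.smul_mem _ c ha
    | zero => intro μ; rw [TensorProduct.tmul_zero]; exact Submodule.zero_mem _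
    | add a b _ _ ha hb =>
      intro μ; rw [TensorProduct.tmul_add]; exact Submodule.add_mem _ (ha μ) (hb μ)
    | smul c a _ ha =>
      intro μ
      rw [← TensorProduct.smul_tmul]
      exact ha (c • μ)
  induction x using TensorProduct.induction_on with
  | zero => exact Submodule.zero_mem _
  | tmul μ ν => exact hpure ν μ
  | add x y hx hy => exact Submodule.add_mem _ hx hy

end Fin

end Groth.Agent.Lib.BoschCore76
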