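import Groth.Agent.Lib.BoschCore76G
import Mathlib.RingTheory.Localization.Ideal
import Mathlib.RingTheory.Localization.Away.AdjoinRoot
import Mathlib.RingTheory.Localization.InvSubmonoid
import Mathlib.RingTheory.Finiteness.FinitePresentationLocal
import Mathlib.RingTheory.Finiteness.FiniteTypeLocal

/-!
# Bosch FRG 7.3 core, part I: complete localizations

* `cloc_isAdicComplete` : `A⟨f⁻¹⟩` is `I`-adically complete (for `I` finitely generated).
* `isLocalization_cloc_quot` : `A⟨f⁻¹⟩/I^k` is the localization of `A/I^k A` at `f`.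
* `finiteType_quot_cloc_iff`, `finitePresentation_quot_cloc_iff` : the truncation `A/𝔫A`
  (`𝔫 = I^k`) is of finite type / presentation over `R/𝔫` iff so are the truncations of the
  `A⟨f_i⁻¹⟩` for `f_i` generating the unit ideal.
* `finiteType_trunc` : truncations of algebras topologically of finite type are of finite type.
-/

set_option autoImplicit false
set_option linter.style.haveILetI false
universe u v
open AdicRing

namespace Groth.Agent.Lib.BoschCore76

section CLoc
variable {R : Type u} [CommRing R] (I : Ideal R) {A : Type v} [CommRing A] [Algebra R A] (f : A)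

instance : IsScalarTower R (Localization.Away f) (CLoc I f) :=
  IsScalarTower.of_algebraMap_eq (fun _ => rfl)

instance : IsScalarTower A (Localization.Away f) (CLoc I f) :=
  IsScalarTower.of_algebraMap_eq (fun _ => rfl)

instance : IsScalarTower R A (CLoc I f) :=
  IsScalarTower.of_algebraMap_eq (fun x => by
    rw [AdicCompletion.algebraMap_apply, AdicCompletion.algebraMap_apply,
      ← IsScalarTower.algebraMap_apply])

theorem cloc_isAdicComplete (hI : I.FG) :
    IsAdicComplete (I.map (algebraMap R (CLoc I f))) (CLoc I f) := by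
  have := AdicCompletion.isAdicComplete_self (I.map (algebraMap R (Localization.Away f)))
    (hI.map _)
  rwa [Ideal.map_map, ← IsScalarTower.algebraMap_eq] at this

variable (k : ℕ)

lemma cloc_map_pow_eq_ker (hI : I.FG) :
    (I ^ k).map (algebraMap R (CLoc I f)) =
      RingHom.ker (AdicCompletion.evalₐ (I.map (algebraMap R (Localization.Away f))) k).toRingHom := by
  rw [ker_evalₐ_eq_map _ (hI.map _) k, ← Ideal.map_pow, Ideal.map_map,
    ← IsScalarTower.algebraMap_eq]

/-- the algebra structure `A/I^k A → A⟨f⁻¹⟩/I^k A⟨f⁻¹⟩` -/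
noncomputable abbrev clocQuotAlgebra : Algebra (A ⧸ (I ^ k).map (algebraMap R A))
    (CLoc I f ⧸ (I ^ k).map (algebraMap R (CLoc I f))) :=
  Ideal.Quotient.algebraQuotientOfLEComap (by
    rw [← Ideal.map_le_iff_le_comap, Ideal.map_map, ← IsScalarTower.algebraMap_eq])

/-- `A⟨f⁻¹⟩/I^k` is the localization of `A/I^k A` at `f` -/
theorem isLocalization_cloc_quot (hI : I.FG) :
    letI := clocQuotAlgebra I f k
    IsLocalization.Away (Ideal.Quotient.mk ((I ^ k).map (algebraMap R A)) f)
      (CLoc I f ⧸ (I ^ k).map (algebraMap R (CLoc I f))) := by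
  letI := clocQuotAlgebra I f k
  have hker := cloc_map_pow_eq_ker I f k hI
  have h := IsLocalization.of_surjective (Submonoid.powers f) (Localization.Away f)
    (Ideal.Quotient.mk ((I ^ k).map (algebraMap R A))) Ideal.Quotient.mk_surjective
    ((Ideal.Quotient.mk ((I ^ k).map (algebraMap R (CLoc I f)))).comp
      (algebraMap (Localization.Away f) (CLoc I f)))
    (by
      intro y
      obtain ⟨b, rfl⟩ := Ideal.Quotient.mk_surjective y
      obtain ⟨a, ha⟩ := Ideal.Quotient.mk_surjective
        (AdicCompletion.evalₐ (I.map (algebraMap R (Localization.Away f))) k b)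
      refine ⟨a, ?_⟩
      rw [RingHom.comp_apply, Ideal.Quotient.eq, hker, RingHom.mem_ker, map_sub, sub_eq_zero]
      show AdicCompletion.evalₐ _ k (AdicCompletion.of _ _ a) = AdicCompletion.evalₐ _ k b
      rw [AdicCompletion.evalₐ_of, ha])
    (by
      ext x
      rfl)
    (by
      intro y hy
      rw [Ideal.mk_ker, Ideal.map_map, ← IsScalarTower.algebraMap_eq, Ideal.map_pow]
      rw [RingHom.mem_ker, RingHom.comp_apply, Ideal.Quotient.eq_zero_iff_mem, hker,
        RingHom.mem_ker] at hy
      have : AdicCompletion.evalₐ (I.map (algebraMap R (Localization.Away f))) k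
          (AdicCompletion.of _ _ y) = 0 := hy
      rw [AdicCompletion.evalₐ_of, Ideal.Quotient.eq_zero_iff_mem] at this
      exact this)
  rw [Submonoid.map_powers] at h
  exact h

theorem isScalarTower_cloc_quot :
    letI := clocQuotAlgebra I f k
    IsScalarTower (R ⧸ I ^ k) (A ⧸ (I ^ k).map (algebraMap R A))
      (CLoc I f ⧸ (I ^ k).map (algebraMap R (CLoc I f))) := by
  letI := clocQuotAlgebra I f k
  apply IsScalarTower.of_algebraMap_eq
  intro x
  obtain ⟨r, rfl⟩ := Ideal.Quotient.mk_surjective x
  show Ideal.Quotient.mk _ (algebraMap R (CLoc I f) r) =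
    Ideal.Quotient.mk _ (algebraMap A (CLoc I f) (algebraMap R A r))
  rw [← IsScalarTower.algebraMap_apply]

theorem finitePresentation_cloc_quot (hI : I.FG)
    (h : Algebra.FinitePresentation (R ⧸ I ^ k) (A ⧸ (I ^ k).map (algebraMap R A))) :
    Algebra.FinitePresentation (R ⧸ I ^ k) (CLoc I f ⧸ (I ^ k).map (algebraMap R (CLoc I f))) := by
  letI := clocQuotAlgebra I f k
  have := isLocalization_cloc_quot I f k hI
  have := isScalarTower_cloc_quot I f k
  have : Algebra.FinitePresentation (A ⧸ (I ^ k).map (algebraMap R A))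
      (CLoc I f ⧸ (I ^ k).map (algebraMap R (CLoc I f))) :=
    IsLocalization.Away.finitePresentation (Ideal.Quotient.mk ((I ^ k).map (algebraMap R A)) f)
  exact Algebra.FinitePresentation.trans _ (A ⧸ (I ^ k).map (algebraMap R A)) _

theorem finiteType_cloc_quot (hI : I.FG)
    (h : Algebra.FiniteType (R ⧸ I ^ k) (A ⧸ (I ^ k).map (algebraMap R A))) :
    Algebra.FiniteType (R ⧸ I ^ k) (CLoc I f ⧸ (I ^ k).map (algebraMap R (CLoc I f))) := by
  letI := clocQuotAlgebra I f k
  have := isLocalization_cloc_quot I f k hI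
  have := isScalarTower_cloc_quot I f k
  have : Algebra.FiniteType (A ⧸ (I ^ k).map (algebraMap R A))
      (CLoc I f ⧸ (I ^ k).map (algebraMap R (CLoc I f))) :=
    IsLocalization.finiteType_of_monoid_fg
      (Submonoid.powers (Ideal.Quotient.mk ((I ^ k).map (algebraMap R A)) f)) _
  exact Algebra.FiniteType.trans h this

end CLoc


section Conv
variable {R : Type*} [CommRing R] {A : Type*} [CommRing A] [Algebra R A] (𝔫 : Ideal R)

lemma quotientMap_finitePresentation_iff :
    (Ideal.quotientMap (𝔫.map (algebraMap R A)) (algebraMap R A)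
        Ideal.le_comap_map).FinitePresentation ↔
    Algebra.FinitePresentation (R ⧸ 𝔫) (A ⧸ 𝔫.map (algebraMap R A)) := by
  rw [← RingHom.finitePresentation_algebraMap]
  rfl

lemma quotientMap_finiteType_iff :
    (Ideal.quotientMap (𝔫.map (algebraMap R A)) (algebraMap R A)
        Ideal.le_comap_map).FiniteType ↔
    Algebra.FiniteType (R ⧸ 𝔫) (A ⧸ 𝔫.map (algebraMap R A)) := by
  rw [← RingHom.finiteType_algebraMap]
  rfl

end Conv

section Cover
variable {R : Type u} [CommRing R] (I : Ideal R) {A : Type u} [CommRing A] [Algebra R A]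
  {r : ℕ} (f : Fin r → A) (k : ℕ)

lemma span_mk_eq_top (hf : Ideal.span (Set.range f) = ⊤) :
    Ideal.span (Set.range fun i => Ideal.Quotient.mk ((I ^ k).map (algebraMap R A)) (f i)) = ⊤ := by
  have : (Set.range fun i => Ideal.Quotient.mk ((I ^ k).map (algebraMap R A)) (f i)) =
      (Ideal.Quotient.mk ((I ^ k).map (algebraMap R A))) '' (Set.range f) := by
    rw [← Set.range_comp]; rfl
  rw [this, ← Ideal.map_span, hf, Ideal.map_top]

theorem finitePresentation_of_cloc_quot (hf : Ideal.span (Set.range f) = ⊤) (hI : I.FG)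
    (h : ∀ i, Algebra.FinitePresentation (R ⧸ I ^ k)
      (CLoc I (f i) ⧸ (I ^ k).map (algebraMap R (CLoc I (f i))))) :
    Algebra.FinitePresentation (R ⧸ I ^ k) (A ⧸ (I ^ k).map (algebraMap R A)) := by
  letI : ∀ i, Algebra (A ⧸ (I ^ k).map (algebraMap R A))
      (CLoc I (f i) ⧸ (I ^ k).map (algebraMap R (CLoc I (f i)))) :=
    fun i => clocQuotAlgebra I (f i) k
  have : ∀ i, IsScalarTower (R ⧸ I ^ k) (A ⧸ (I ^ k).map (algebraMap R A))
      (CLoc I (f i) ⧸ (I ^ k).map (algebraMap R (CLoc I (f i)))) :=
    fun i => isScalarTower_cloc_quot I (f i) k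
  have : ∀ i, IsLocalization.Away (Ideal.Quotient.mk ((I ^ k).map (algebraMap R A)) (f i))
      (CLoc I (f i) ⧸ (I ^ k).map (algebraMap R (CLoc I (f i)))) :=
    fun i => isLocalization_cloc_quot I (f i) k hI
  exact Algebra.FinitePresentation.of_span_eq_top_target_of_isLocalizationAway
    (fun i => Ideal.Quotient.mk ((I ^ k).map (algebraMap R A)) (f i)) (span_mk_eq_top I f k hf)
    (fun i => CLoc I (f i) ⧸ (I ^ k).map (algebraMap R (CLoc I (f i))))

theorem finiteType_of_cloc_quot (hf : Ideal.span (Set.range f) = ⊤) (hI : I.FG)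
    (h : ∀ i, Algebra.FiniteType (R ⧸ I ^ k)
      (CLoc I (f i) ⧸ (I ^ k).map (algebraMap R (CLoc I (f i))))) :
    Algebra.FiniteType (R ⧸ I ^ k) (A ⧸ (I ^ k).map (algebraMap R A)) := by
  letI : ∀ i, Algebra (A ⧸ (I ^ k).map (algebraMap R A))
      (CLoc I (f i) ⧸ (I ^ k).map (algebraMap R (CLoc I (f i)))) :=
    fun i => clocQuotAlgebra I (f i) k
  have : ∀ i, IsScalarTower (R ⧸ I ^ k) (A ⧸ (I ^ k).map (algebraMap R A))
      (CLoc I (f i) ⧸ (I ^ k).map (algebraMap R (CLoc I (f i)))) :=
    fun i => isScalarTower_cloc_quot I (f i) k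
  have : ∀ i, IsLocalization.Away (Ideal.Quotient.mk ((I ^ k).map (algebraMap R A)) (f i))
      (CLoc I (f i) ⧸ (I ^ k).map (algebraMap R (CLoc I (f i)))) :=
    fun i => isLocalization_cloc_quot I (f i) k hI
  apply Algebra.FiniteType.of_span_eq_top_target _ (span_mk_eq_top I f k hf)
  rintro - ⟨i, rfl⟩
  exact Algebra.FiniteType.equiv (h i)
    ((IsLocalization.algEquiv
      (.powers <| Ideal.Quotient.mk ((I ^ k).map (algebraMap R A)) (f i)) _
      (CLoc I (f i) ⧸ (I ^ k).map (algebraMap R (CLoc I (f i))))).symm.restrictScalars (R ⧸ I ^ k))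

/-- finite presentation of the truncations is local on complete localizations -/
theorem finitePresentation_quot_cloc_iff (hf : Ideal.span (Set.range f) = ⊤) (hI : I.FG)
    (𝔫 : Ideal R) (h𝔫 : 𝔫 = I ^ k) :
    (Ideal.quotientMap (𝔫.map (algebraMap R A)) (algebraMap R A)
        Ideal.le_comap_map).FinitePresentation ↔
      ∀ i, (Ideal.quotientMap (𝔫.map (algebraMap R (CLoc I (f i)))) (algebraMap R (CLoc I (f i)))
        Ideal.le_comap_map).FinitePresentation := by
  subst h𝔫
  simp only [quotientMap_finitePresentation_iff]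
  constructor
  · intro h i
    exact finitePresentation_cloc_quot I (f i) k hI h
  · intro h
    exact finitePresentation_of_cloc_quot I f k hf hI h

/-- finite type of the truncations is local on complete localizations -/
theorem finiteType_quot_cloc_iff (hf : Ideal.span (Set.range f) = ⊤) (hI : I.FG)
    (𝔫 : Ideal R) (h𝔫 : 𝔫 = I ^ k) :
    (Ideal.quotientMap (𝔫.map (algebraMap R A)) (algebraMap R A)
        Ideal.le_comap_map).FiniteType ↔
      ∀ i, (Ideal.quotientMap (𝔫.map (algebraMap R (CLoc I (f i)))) (algebraMap R (CLoc I (f i)))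
        Ideal.le_comap_map).FiniteType := by
  subst h𝔫
  simp only [quotientMap_finiteType_iff]
  constructor
  · intro h i
    exact finiteType_cloc_quot I (f i) k hI h
  · intro h
    exact finiteType_of_cloc_quot I f k hf hI h

end Cover

section TruncFT
variable {R : Type u} [CommRing R] (I : Ideal R) {n : ℕ} {A : Type*} [CommRing A] [Algebra R A]
  (φ : RPow R I n →ₐ[R] A) (k : ℕ)

/-- truncations of an algebra topologically of finite type are of finite type -/
theorem finiteType_trunc (hI : I.FG) (hφ : Function.Surjective φ) :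
    (Ideal.quotientMap ((I ^ k).map (algebraMap R A)) (algebraMap R A)
      Ideal.le_comap_map).FiniteType := by
  rw [← truncLift_comp_C I φ k hI]
  exact RingHom.FiniteType.comp
    (RingHom.FiniteType.of_surjective _ (truncLift_surjective I φ k hI hφ))
    (RingHom.FiniteType.of_finitePresentation (C_finitePresentation _ n))

theorem finiteType_trunc' (hI : I.FG) (hφ : Function.Surjective φ) (𝔫 : Ideal R)
    (h𝔫 : 𝔫 = I ^ k) :
    (Ideal.quotientMap (𝔫.map (algebraMap R A)) (algebraMap R A)
      Ideal.le_comap_map).FiniteType := by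
  subst h𝔫
  exact finiteType_trunc I φ k hI hφ

end TruncFT

end Groth.Agent.Lib.BoschCore76
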