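import Groth.Agent.Lib.BoschCore76I
import Mathlib.RingTheory.AdicCompletion.AsTensorProduct

/-!
# Bosch FRG 7.3 core, part J: `I`-power torsion and complete localizations

* `eq_zero_of_forall_cloc_eq_zero` : a separated `A` embeds into the product of the `A⟨f_i⁻¹⟩`.
* `noPowTorsion_of_cloc`, `noPowTorsion_cloc` : absence of `I`-power torsion is local on complete
  localizations.
-/

set_option autoImplicit false
set_option linter.style.haveILetI false
universe u v
open AdicRing

namespace Groth.Agent.Lib.BoschCore76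

section Inj
variable {R : Type u} [CommRing R] (I : Ideal R) {A : Type u} [CommRing A] [Algebra R A]
  {r : ℕ} (f : Fin r → A)

/-- a separated `A` embeds into the product of the complete localizations of a covering -/
theorem eq_zero_of_forall_cloc_eq_zero [IsHausdorff (I.map (algebraMap R A)) A] (hI : I.FG)
    (hf : Ideal.span (Set.range f) = ⊤) (x : A)
    (h : ∀ i, algebraMap A (CLoc I (f i)) x = 0) : x = 0 := by
  apply IsHausdorff.haus' (I := I.map (algebraMap R A)) x
  intro k
  rw [SModEq.zero, smul_eq_mul, Ideal.mul_top, ← Ideal.map_pow]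
  have hex : ∀ i, ∃ n : ℕ, f i ^ n * x ∈ (I ^ k).map (algebraMap R A) := by
    intro i
    letI := clocQuotAlgebra I (f i) k
    have hloc := isLocalization_cloc_quot I (f i) k hI
    have h0 : algebraMap (A ⧸ (I ^ k).map (algebraMap R A))
        (CLoc I (f i) ⧸ (I ^ k).map (algebraMap R (CLoc I (f i))))
        (Ideal.Quotient.mk _ x) = 0 := by
      show Ideal.Quotient.mk _ (algebraMap A (CLoc I (f i)) x) = 0
      rw [h i, map_zero]
    obtain ⟨⟨_, n, rfl⟩, hm⟩ := (IsLocalization.map_eq_zero_iff
      (Submonoid.powers (Ideal.Quotient.mk ((I ^ k).map (algebraMap R A)) (f i))) _ _).mp h0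
    refine ⟨n, ?_⟩
    rw [← Ideal.Quotient.eq_zero_iff_mem, map_mul, map_pow]
    exact hm
  choose n hn using hex
  have hN : ∀ i, f i ^ (∑ j, n j) * x ∈ (I ^ k).map (algebraMap R A) := by
    intro i
    have hle : n i ≤ ∑ j, n j :=
      Finset.single_le_sum (fun _ _ => Nat.zero_le _) (Finset.mem_univ i)
    obtain ⟨d, hd⟩ := Nat.exists_eq_add_of_le hle
    rw [hd, pow_add, mul_comm (f i ^ n i), mul_assoc]
    exact Ideal.mul_mem_left _ _ (hn i)
  have hspan := Ideal.span_pow_eq_top _ hf (∑ j, n j)
  have key : ∀ a ∈ Ideal.span ((fun y : A => y ^ (∑ j, n j)) '' Set.range f),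
      a * x ∈ (I ^ k).map (algebraMap R A) := by
    intro a ha
    induction ha using Submodule.span_induction with
    | mem a ha =>
      obtain ⟨_, ⟨i, rfl⟩, rfl⟩ := ha
      exact hN i
    | zero => simp
    | add a b _ _ ha hb => rw [add_mul]; exact Ideal.add_mem _ ha hb
    | smul c a _ ha => rw [smul_eq_mul, mul_assoc]; exact Ideal.mul_mem_left _ c ha
  have := key 1 (by rw [hspan]; trivial)
  simpa using this

/-- absence of `I`-power torsion descends from a covering by complete localizations -/
theorem noPowTorsion_of_cloc [IsHausdorff (I.map (algebraMap R A)) A] (hI : I.FG)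
    (hf : Ideal.span (Set.range f) = ⊤) (h : ∀ i, NoPowTorsion I (CLoc I (f i))) :
    NoPowTorsion I A := by
  intro x n hx
  apply eq_zero_of_forall_cloc_eq_zero I f hI hf x
  intro i
  apply h i _ n
  intro a ha
  rw [Algebra.smul_def, IsScalarTower.algebraMap_apply R A (CLoc I (f i)), ← map_mul,
    ← Algebra.smul_def, hx a ha, map_zero]

end Inj

section Loc
variable {R : Type*} [CommRing R] (I : Ideal R) {A : Type*} [CommRing A] [Algebra R A] (f : A)

/-- absence of `I`-power torsion passes to localizations -/
theorem noPowTorsion_localization (hI : I.FG) (h : NoPowTorsion I A) :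
    NoPowTorsion I (Localization.Away f) := by
  classical
  intro y n hy
  obtain ⟨x, ⟨_, m, rfl⟩, rfl⟩ := IsLocalization.exists_mk'_eq (Submonoid.powers f) y
  obtain ⟨s, hs⟩ := Ideal.FG.pow (n := n) hI
  have hex : ∀ a ∈ s, ∃ l : ℕ, f ^ l * (a • x) = 0 := by
    intro a ha
    have ha' : a ∈ I ^ n := by rw [← hs]; exact Ideal.subset_span ha
    have h1 := hy a ha'
    have h2 : a • IsLocalization.mk' (Localization.Away f) x
        (⟨f ^ m, m, rfl⟩ : Submonoid.powers f) =
        IsLocalization.mk' (Localization.Away f) (a • x)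
          (⟨f ^ m, m, rfl⟩ : Submonoid.powers f) := by
      rw [Algebra.smul_def, Algebra.smul_def, IsScalarTower.algebraMap_apply R A,
        IsLocalization.mul_mk'_eq_mk'_of_mul]
    rw [h2, IsLocalization.mk'_eq_zero_iff] at h1
    obtain ⟨⟨_, l, rfl⟩, hl⟩ := h1
    exact ⟨l, hl⟩
  choose! l hl using hex
  have hL : ∀ a ∈ s, a • (f ^ (∑ b ∈ s, l b) * x) = 0 := by
    intro a ha
    have hle : l a ≤ ∑ b ∈ s, l b := Finset.single_le_sum (fun _ _ => Nat.zero_le _) ha
    obtain ⟨d, hd⟩ := Nat.exists_eq_add_of_le hle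
    rw [hd, pow_add, mul_comm (f ^ l a), mul_assoc, ← mul_smul_comm, ← mul_smul_comm, hl a ha,
      mul_zero]
  have hz : f ^ (∑ b ∈ s, l b) * x = 0 := by
    apply h _ n
    intro a ha
    rw [← hs] at ha
    induction ha using Submodule.span_induction with
    | mem a ha => exact hL a ha
    | zero => simp
    | add a b _ _ ha hb => rw [add_smul, ha, hb, add_zero]
    | smul c a _ ha => rw [smul_eq_mul, mul_smul, ha, smul_zero]
  rw [IsLocalization.mk'_eq_zero_iff]
  exact ⟨⟨_, _, rfl⟩, hz⟩

end Loc


section Principal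
variable {R : Type*} [CommRing R] (t : R) {S : Type*} [CommRing S] [Algebra R S]

lemma smul_eq_zero_of_noPowTorsion_span_singleton {M : Type*} [AddCommGroup M] [Module R M]
    (h : NoPowTorsion (Ideal.span {t}) M) (x : M) (hx : t • x = 0) : x = 0 := by
  apply h x 1
  intro a ha
  rw [pow_one, Ideal.mem_span_singleton] at ha
  obtain ⟨c, rfl⟩ := ha
  rw [mul_comm, mul_smul, hx, smul_zero]

lemma noPowTorsion_span_singleton_of_smul_eq_zero {M : Type*} [AddCommGroup M] [Module R M]
    (h : ∀ x : M, t • x = 0 → x = 0) : NoPowTorsion (Ideal.span {t}) M := by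
  intro y n hy
  have h1 : t ^ n • y = 0 := hy _ (Ideal.pow_mem_pow (Ideal.mem_span_singleton_self t) n)
  clear hy
  induction n with
  | zero => simpa using h1
  | succ n ih =>
    apply ih
    apply h
    rw [← mul_smul, ← pow_succ']
    exact h1

/-- the `t`-adic completion of a `t`-torsion-free algebra is `t`-torsion-free -/
theorem noPowTorsion_adicCompletion_span_singleton (h : NoPowTorsion (Ideal.span {t}) S) :
    NoPowTorsion (Ideal.span {t})
      (AdicCompletion ((Ideal.span {t}).map (algebraMap R S)) S) := by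
  have hreg := smul_eq_zero_of_noPowTorsion_span_singleton t h
  apply noPowTorsion_span_singleton_of_smul_eq_zero
  intro y hy
  ext n
  obtain ⟨s, hs⟩ := Submodule.Quotient.mk_surjective _ (y.val (n + 1))
  have h1 : (t • y).val (n + 1) = 0 := by rw [hy]; rfl
  have hJ : ∀ k : ℕ, (((Ideal.span {t}).map (algebraMap R S)) ^ k • (⊤ : Submodule S S)) =
      Ideal.span {(algebraMap R S t) ^ k} := by
    intro k
    rw [Ideal.map_span (algebraMap R S) {t}, Set.image_singleton, Ideal.span_singleton_pow,
      smul_eq_mul, Ideal.mul_top]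
  rw [AdicCompletion.val_smul_apply, ← hs, ← Submodule.Quotient.mk_smul,
    Submodule.Quotient.mk_eq_zero, hJ, Ideal.mem_span_singleton'] at h1
  obtain ⟨u, hu⟩ := h1
  have h2 : s = (algebraMap R S t) ^ n * u := by
    rw [← sub_eq_zero]
    apply hreg
    rw [smul_sub, ← hu, Algebra.smul_def, pow_succ]
    ring
  have h3 := AdicCompletion.transitionMap_comp_eval_apply _ _ (Nat.le_succ n) y
  rw [← h3, ← hs]
  show Submodule.Quotient.mk s = 0
  rw [Submodule.Quotient.mk_eq_zero, hJ, Ideal.mem_span_singleton', h2]
  exact ⟨u, mul_comm _ _⟩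

end Principal

section FlatTorsion
variable {R : Type*} [CommRing R] (I : Ideal R) {S : Type*} [CommRing S] [Algebra R S]
  {S' : Type*} [CommRing S'] [Algebra R S'] [Algebra S S'] [IsScalarTower R S S']

open TensorProduct in
/-- absence of `I`-power torsion passes to flat algebras -/
theorem noPowTorsion_of_flat [Module.Flat S S'] (hI : I.FG) (h : NoPowTorsion I S) :
    NoPowTorsion I S' := by
  classical
  intro y n hy
  obtain ⟨s, hs⟩ := Ideal.FG.pow (n := n) hI
  let ψ : S →ₗ[S] (s → S) :=
    { toFun := fun x a => (a : R) • x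
      map_add' := fun x x' => by funext a; simp
      map_smul' := fun c x => by funext a; simp }
  have hψ : Function.Injective ψ := by
    rw [injective_iff_map_eq_zero]
    intro x hx
    apply h x n
    intro a ha
    rw [← hs] at ha
    induction ha using Submodule.span_induction with
    | mem a ha => exact congrFun hx ⟨a, ha⟩
    | zero => simp
    | add a b _ _ ha hb => rw [add_smul, ha, hb, add_zero]
    | smul c a _ ha => rw [smul_eq_mul, mul_smul, ha, smul_zero]
  have hinj := Module.Flat.lTensor_preserves_injective_linearMap (M := S') ψ hψ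
  have h0 : ψ.lTensor S' (y ⊗ₜ[S] (1 : S)) = 0 := by
    rw [LinearMap.lTensor_tmul]
    have h1 : ψ 1 = ∑ a : s, ((a : R) • (1 : S)) • (Pi.single a (1 : S) : s → S) := by
      funext b
      simp [ψ, Finset.sum_apply, Pi.single_apply]
    rw [h1, TensorProduct.tmul_sum]
    apply Finset.sum_eq_zero
    intro a _
    rw [TensorProduct.tmul_smul, TensorProduct.smul_tmul', smul_assoc, one_smul,
      hy a (by rw [← hs]; exact Ideal.subset_span a.2), TensorProduct.zero_tmul]
  have h2 : y ⊗ₜ[S] (1 : S) = 0 := hinj (by rw [h0, map_zero])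
  have h3 := congrArg (TensorProduct.rid S S') h2
  simpa using h3

end FlatTorsion

section CLocTorsion
variable {R : Type u} [CommRing R] (I : Ideal R) {A : Type u} [CommRing A] [Algebra R A] (f : A)

/-- absence of `I`-power torsion passes to complete localizations -/
theorem noPowTorsion_cloc (hR : IsBase R I) (hA : TopFiniteType R I A) (h : NoPowTorsion I A) :
    NoPowTorsion I (CLoc I f) := by
  have hI : I.FG := by
    obtain ⟨hc, hN | hV⟩ := hR
    · obtain ⟨hnoeth, -⟩ := hN
      exact (isNoetherianRing_iff_ideal_fg R).1 hnoeth I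
    · obtain ⟨-, -, -, t, -, rfl⟩ := hV
      exact ⟨{t}, by simp⟩
  have hloc := noPowTorsion_localization I f hI h
  obtain ⟨hc, hN | hV⟩ := hR
  · obtain ⟨hnoeth, -⟩ := hN
    have hAn : IsNoetherianRing A := isNoetherianRing_of_topFiniteType I hA
    have : IsNoetherianRing (Localization.Away f) :=
      IsLocalization.isNoetherianRing (Submonoid.powers f) _ hAn
    exact noPowTorsion_of_flat I hI hloc
  · obtain ⟨-, -, -, t, -, rfl⟩ := hV
    exact noPowTorsion_adicCompletion_span_singleton t hloc

end CLocTorsion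

end Groth.Agent.Lib.BoschCore76
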