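import Groth.Agent.Lib.BoschCore76I
import Mathlib.RingTheory.Flat.Localization
import Mathlib.RingTheory.Flat.FaithfullyFlat.Basic
import Mathlib.LinearAlgebra.TensorProduct.Quotient

/-!
# Bosch FRG 7.3 core, part K: flatness of truncated complete localizations

* `flat_quot_tensor` : `(A/K) ⊗_A B` is flat over `A/K` as soon as `B/KB` is.
* `flat_trunc_tensor_cloc` : `(A/I^k A) ⊗_A A⟨f⁻¹⟩` is flat over `A/I^k A`.
* `map_cloc_ne_top` : a maximal ideal containing `IA` but not `f` stays proper in `A⟨f⁻¹⟩`.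
-/

set_option autoImplicit false
set_option linter.style.haveILetI false
universe u v
open AdicRing TensorProduct

namespace Groth.Agent.Lib.BoschCore76

section QuotTensor
variable {A : Type*} [CommRing A] (K : Ideal A) (B : Type*) [CommRing B] [Algebra A B]

/-- `(A/K) ⊗_A B` is flat over `A/K` when `B/KB` is -/
theorem flat_quot_tensor (KB : Ideal B) (hKB : KB = K.map (algebraMap A B))
    [Algebra (A ⧸ K) (B ⧸ KB)] [IsScalarTower A (A ⧸ K) (B ⧸ KB)]
    [Module.Flat (A ⧸ K) (B ⧸ KB)] : Module.Flat (A ⧸ K) ((A ⧸ K) ⊗[A] B) := by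
  let e₁ : (A ⧸ K) ⊗[A] B ≃ₗ[A] B ⧸ (K • ⊤ : Submodule A B) :=
    TensorProduct.quotTensorEquivQuotSMul B K
  have h1 : (K • ⊤ : Submodule A B) = KB.restrictScalars A := by
    rw [hKB, Ideal.smul_top_eq_map]
  let e₂ : (B ⧸ (K • ⊤ : Submodule A B)) ≃ₗ[A] B ⧸ KB.restrictScalars A :=
    Submodule.quotEquivOfEq _ _ h1
  let e₃ : (B ⧸ KB.restrictScalars A) ≃ₗ[A] B ⧸ KB :=
    Submodule.Quotient.restrictScalarsEquiv A KB
  let e : (A ⧸ K) ⊗[A] B ≃ₗ[A] B ⧸ KB := (e₁.trans e₂).trans e₃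
  let e' : (A ⧸ K) ⊗[A] B ≃ₗ[A ⧸ K] B ⧸ KB :=
    e.extendScalarsOfSurjective Ideal.Quotient.mk_surjective
  exact Module.Flat.of_linearEquiv e'

end QuotTensor

section CLocFlat
variable {R : Type u} [CommRing R] (I : Ideal R) {A : Type v} [CommRing A] [Algebra R A] (f : A)
  (k : ℕ)

/-- `(A/I^k A) ⊗_A A⟨f⁻¹⟩` is flat over `A/I^k A` -/
theorem flat_trunc_tensor_cloc (hI : I.FG) :
    Module.Flat (A ⧸ (I ^ k).map (algebraMap R A))
      ((A ⧸ (I ^ k).map (algebraMap R A)) ⊗[A] CLoc I f) := by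
  letI := clocQuotAlgebra I f k
  have hloc := isLocalization_cloc_quot I f k hI
  have hflat : Module.Flat (A ⧸ (I ^ k).map (algebraMap R A))
      (CLoc I f ⧸ (I ^ k).map (algebraMap R (CLoc I f))) :=
    IsLocalization.flat _ (Submonoid.powers (Ideal.Quotient.mk ((I ^ k).map (algebraMap R A)) f))
  have htower : IsScalarTower A (A ⧸ (I ^ k).map (algebraMap R A))
      (CLoc I f ⧸ (I ^ k).map (algebraMap R (CLoc I f))) := by
    apply IsScalarTower.of_algebraMap_eq
    intro x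
    rfl
  exact flat_quot_tensor ((I ^ k).map (algebraMap R A)) (CLoc I f)
    ((I ^ k).map (algebraMap R (CLoc I f)))
    (by rw [Ideal.map_map, ← IsScalarTower.algebraMap_eq])

end CLocFlat


section NeTop
variable {R : Type u} [CommRing R] (I : Ideal R) {A : Type v} [CommRing A] [Algebra R A] (f : A)

/-- a prime ideal containing `IA` but not `f` stays proper in `A⟨f⁻¹⟩` -/
theorem map_cloc_ne_top (hI : I.FG) (𝔪 : Ideal A) [𝔪.IsPrime]
    (hle : I.map (algebraMap R A) ≤ 𝔪) (hf : f ∉ 𝔪) :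
    𝔪.map (algebraMap A (CLoc I f)) ≠ ⊤ := by
  intro htop
  letI := clocQuotAlgebra I f 1
  have hloc := isLocalization_cloc_quot I f 1 hI
  have hK : (I ^ 1).map (algebraMap R A) ≤ 𝔪 := by rw [pow_one]; exact hle
  have hdisj : Disjoint
      ((Submonoid.powers (Ideal.Quotient.mk ((I ^ 1).map (algebraMap R A)) f) :
        Submonoid (A ⧸ (I ^ 1).map (algebraMap R A))) : Set (A ⧸ (I ^ 1).map (algebraMap R A)))
      ((𝔪.map (Ideal.Quotient.mk ((I ^ 1).map (algebraMap R A))) :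
        Ideal (A ⧸ (I ^ 1).map (algebraMap R A))) : Set (A ⧸ (I ^ 1).map (algebraMap R A))) := by
    rw [Set.disjoint_left]
    rintro _ ⟨n, rfl⟩ hmem
    simp only at hmem
    rw [SetLike.mem_coe, ← map_pow] at hmem
    obtain ⟨c, hc, hc'⟩ :=
      (Ideal.mem_map_iff_of_surjective _ Ideal.Quotient.mk_surjective).mp hmem
    have h2 : c - f ^ n ∈ (I ^ 1).map (algebraMap R A) := by
      rw [← Ideal.Quotient.eq_zero_iff_mem, map_sub, hc', sub_self]
    have h3 : f ^ n ∈ 𝔪 := by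
      have := 𝔪.sub_mem hc (hK h2)
      simpa using this
    exact hf (Ideal.IsPrime.mem_of_pow_mem inferInstance n h3)
  have hne := (IsLocalization.map_algebraMap_ne_top_iff_disjoint
    (Submonoid.powers (Ideal.Quotient.mk ((I ^ 1).map (algebraMap R A)) f))
    (CLoc I f ⧸ (I ^ 1).map (algebraMap R (CLoc I f)))
    (𝔪.map (Ideal.Quotient.mk ((I ^ 1).map (algebraMap R A))))).mpr hdisj
  apply hne
  have hcomp : (algebraMap (A ⧸ (I ^ 1).map (algebraMap R A))
      (CLoc I f ⧸ (I ^ 1).map (algebraMap R (CLoc I f)))).comp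
      (Ideal.Quotient.mk ((I ^ 1).map (algebraMap R A))) =
      (Ideal.Quotient.mk ((I ^ 1).map (algebraMap R (CLoc I f)))).comp
        (algebraMap A (CLoc I f)) := by
    ext x
    rfl
  rw [Ideal.map_map, hcomp, ← Ideal.map_map, htop, Ideal.map_top]

end NeTop

end Groth.Agent.Lib.BoschCore76
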