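import Groth.Agent.Lib.BoschCore76I
import Groth.Agent.S2293
import Groth.Agent.S11529
import Groth.Agent.S11525
import Mathlib.RingTheory.RingHom.Finite

/-!
# Bosch FRG 7.3 core, part L: finite algebras over algebras topologically of finite type

* `isBase_V` : a complete height one valuation ring is a base ring of class (V).
* `topFiniteType_of_finite` : an algebra finite over an algebra topologically of finite type is
  topologically of finite type.
* `admissible_of_finite_of_noPowTorsion`.
-/

set_option autoImplicit false
set_option linter.style.haveILetI false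
universe u v
open AdicRing

namespace Groth.Agent.Lib.BoschCore76

theorem isBase_V (R : Type u) [CommRing R] [IsDomain R] [ValuationRing R] [Ring.KrullDimLE 1 R]
    (t : R) (ht : t ≠ 0) [IsAdicComplete (Ideal.span {t}) R] : IsBase R (Ideal.span {t}) :=
  ⟨inferInstance, Or.inr ⟨inferInstance, inferInstance, inferInstance, t, ht, rfl⟩⟩

theorem isBase_fg {R : Type u} [CommRing R] {I : Ideal R} (hR : IsBase R I) : I.FG := by
  obtain ⟨hc, hN | hV⟩ := hR
  · obtain ⟨hnoeth, -⟩ := hN
    exact (isNoetherianRing_iff_ideal_fg R).1 hnoeth I
  · obtain ⟨-, -, -, t, -, rfl⟩ := hV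
    exact ⟨{t}, by simp⟩

section Finite
variable {R : Type u} [CommRing R] {I : Ideal R} {A : Type u} [CommRing A] [Algebra R A]
  {B : Type u} [CommRing B] [Algebra R B] [Algebra A B] [IsScalarTower R A B]

/-- an algebra finite over an algebra topologically of finite type is topologically of finite
type -/
theorem topFiniteType_of_finite (hR : IsBase R I) (hA : TopFiniteType R I A) [Module.Finite A B] :
    TopFiniteType R I B := by
  have hI := isBase_fg hR
  have hc : IsAdicComplete I B := Groth.Agent.S11529.result R I hR A hA B
  have hcB : IsAdicComplete (I.map (algebraMap R B)) B :=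
    (IsAdicComplete.map_algebraMap_iff I B).mpr hc
  apply Groth.Agent.S2293.result R I hI B
  obtain ⟨n, φ, hφ⟩ := hA
  have h1 := finiteType_trunc' I φ 1 hI hφ I (pow_one I).symm
  have hle : I.map (algebraMap R A) ≤ (I.map (algebraMap R B)).comap (algebraMap A B) := by
    rw [← Ideal.map_le_iff_le_comap, Ideal.map_map, ← IsScalarTower.algebraMap_eq]
  have hcomp : Ideal.quotientMap (I.map (algebraMap R B)) (algebraMap R B) Ideal.le_comap_map =
      (Ideal.quotientMap (I.map (algebraMap R B)) (algebraMap A B) hle).comp
        (Ideal.quotientMap (I.map (algebraMap R A)) (algebraMap R A) Ideal.le_comap_map) := by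
    apply Ideal.Quotient.ringHom_ext
    ext x
    simp only [RingHom.comp_apply, Ideal.quotientMap_mk]
    rw [← IsScalarTower.algebraMap_apply]
  rw [hcomp]
  apply RingHom.FiniteType.comp _ h1
  apply RingHom.FiniteType.of_finite
  have h2 : ((Ideal.quotientMap (I.map (algebraMap R B)) (algebraMap A B) hle).comp
      (Ideal.Quotient.mk (I.map (algebraMap R A)))).Finite := by
    have h3 : (Ideal.quotientMap (I.map (algebraMap R B)) (algebraMap A B) hle).comp
        (Ideal.Quotient.mk (I.map (algebraMap R A))) =
        (Ideal.Quotient.mk (I.map (algebraMap R B))).comp (algebraMap A B) := by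
      ext x
      simp
    rw [h3]
    apply RingHom.Finite.comp
    · exact RingHom.Finite.of_surjective _ Ideal.Quotient.mk_surjective
    · exact RingHom.finite_algebraMap.mpr inferInstance
  exact RingHom.Finite.of_comp_finite h2

/-- a torsion-free algebra finite over an algebra topologically of finite type is admissible -/
theorem admissible_of_finite_of_noPowTorsion (hR : IsBase R I) (hA : TopFiniteType R I A)
    [Module.Finite A B] (hB : NoPowTorsion I B) : Admissible R I B :=
  ⟨Groth.Agent.S11525.result R I hR B (topFiniteType_of_finite hR hA) hB, hB⟩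

end Finite

end Groth.Agent.Lib.BoschCore76
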