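import Groth.Agent.Lib.BoschCore76B

/-!
# Bosch FRG 7.3 core, part N: generators modulo `t` of saturated submodules

The first half of the proof of `fg_of_saturated`, without any completeness hypothesis: a
`t`-saturated submodule `N` of `P^r` contains finitely many elements generating it modulo `t N`.
-/

set_option autoImplicit false
universe u

namespace Groth.Agent.Lib.BoschCore76

open MvPolynomial

section PLevel

set_option linter.unusedSectionVars false

variable {R : Type*} [CommRing R] [IsDomain R] [ValuationRing R] {t : R}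
variable {P : Type*} [CommRing P] [Algebra R P] {n : ℕ}
  (ρ : P →+* MvPolynomial (Fin n) (R ⧸ Ideal.span {t}))

/-- generators modulo `t` of a saturated submodule (no completeness needed) -/
theorem exists_gens_mod (ht : ¬ IsUnit t) (hnil : ∀ e : R, ¬ IsUnit e → ∃ k : ℕ, t ∣ e ^ k)
    (hρs : Function.Surjective ρ)
    (hρk : ∀ x, ρ x = 0 → ∃ y, x = algebraMap R P t * y)
    (hρa : ∀ a : R, ρ (algebraMap R P a) = C (Ideal.Quotient.mk (Ideal.span {t}) a))
    {r : ℕ} (N : Submodule P (Fin r → P))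
    (hsat : ∀ x : Fin r → P, algebraMap R P t • x ∈ N → x ∈ N) :
    ∃ (s : ℕ) (g : Fin s → Fin r → P), (∀ i, g i ∈ N) ∧
      ∀ x ∈ N, ∃ (a : Fin s → P) (x₁ : Fin r → P), x₁ ∈ N ∧
        x = ∑ i, a i • g i + algebraMap R P t • x₁ := by
  classical
  have hne : Ideal.span {t} ≠ ⊤ := by
    rwa [Ne, Ideal.span_singleton_eq_top]
  have : Nontrivial (R ⧸ Ideal.span {t}) := Ideal.Quotient.nontrivial_iff.mpr hne
  have hsurj : Function.Surjective (Ideal.Quotient.mk (Ideal.span {t})) :=
    Ideal.Quotient.mk_surjective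
  have : IsLocalRing (R ⧸ Ideal.span {t}) :=
    IsLocalRing.of_surjective' (Ideal.Quotient.mk (Ideal.span {t})) hsurj
  let l := Function.surjInv hsurj
  have hl : ∀ a, Ideal.Quotient.mk (Ideal.span {t}) (l a) = a := Function.surjInv_eq hsurj
  -- the saturation property downstairs
  have hsatbar : ∀ z ∈ redSub ρ hρs N, z ≠ 0 →
      ∃ (c : R ⧸ Ideal.span {t}) (y : Fin r → MvPolynomial (Fin n) (R ⧸ Ideal.span {t})),
        y ∈ redSub ρ hρs N ∧ (∃ ν, IsUnit (cf y ν)) ∧ z = c • y := by
    rintro z ⟨z', hz'N, rfl⟩ hz0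
    have hsne : (supp (red ρ z')).Nonempty := by
      rw [Finset.nonempty_iff_ne_empty]
      intro h
      exact hz0 (supp_eq_empty h)
    obtain ⟨g, hg, hgs⟩ := exists_dvd_all ((supp (red ρ z')).image (fun ν => l (cf (red ρ z') ν)))
      (hsne.image _)
    obtain ⟨ν₀, hν₀, rfl⟩ := Finset.mem_image.mp hg
    have hg0 : Ideal.Quotient.mk (Ideal.span {t}) (l (cf (red ρ z') ν₀)) ≠ 0 := by
      rw [hl]; exact mem_supp.mp hν₀
    have hgt : ¬ t ∣ l (cf (red ρ z') ν₀) := fun h =>
      hg0 (Ideal.Quotient.eq_zero_iff_mem.mpr (Ideal.mem_span_singleton.mpr h))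
    obtain ⟨d, hd⟩ : l (cf (red ρ z') ν₀) ∣ t :=
      (ValuationRing.dvd_total (l (cf (red ρ z') ν₀)) t).resolve_right hgt
    have hdnu : ¬ IsUnit d := by
      rintro ⟨v, rfl⟩
      exact hgt ⟨↑v⁻¹, (Units.eq_mul_inv_iff_mul_eq v).mpr hd.symm⟩
    have hb : ∀ ν, ∃ b : R, ν ∈ supp (red ρ z') →
        l (cf (red ρ z') ν) = l (cf (red ρ z') ν₀) * b := by
      intro ν
      by_cases hν : ν ∈ supp (red ρ z')
      · obtain ⟨b, hb⟩ := hgs _ (Finset.mem_image_of_mem _ hν)
        exact ⟨b, fun _ => hb⟩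
      · exact ⟨0, fun h => absurd h hν⟩
    choose b hb using hb
    have hzw : red ρ z' = Ideal.Quotient.mk (Ideal.span {t}) (l (cf (red ρ z') ν₀)) •
        ofCf (supp (red ρ z')) (fun ν => Ideal.Quotient.mk (Ideal.span {t}) (b ν)) := by
      apply cf_ext
      intro ν
      rw [cf_smul, cf_ofCf]
      by_cases hν : ν ∈ supp (red ρ z')
      · rw [if_pos hν, ← map_mul, ← hb ν hν, hl]
      · rw [if_neg hν, mul_zero]
        by_contra h
        exact hν (mem_supp.mpr h)
    have hbν₀ : b ν₀ = 1 := by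
      have h1 := hb ν₀ hν₀
      have hg0' : l (cf (red ρ z') ν₀) ≠ 0 := fun h => hg0 (by rw [h, map_zero])
      have h2 : l (cf (red ρ z') ν₀) * 1 = l (cf (red ρ z') ν₀) * b ν₀ := by rw [mul_one]; exact h1
      exact (mul_left_cancel₀ hg0' h2).symm
    have hwu : IsUnit (cf (ofCf (supp (red ρ z'))
        (fun ν => Ideal.Quotient.mk (Ideal.span {t}) (b ν))) ν₀) := by
      rw [cf_ofCf, if_pos hν₀, hbν₀, map_one]
      exact isUnit_one
    have hlift : ∀ j, ∃ p : P, ρ p = ofCf (supp (red ρ z'))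
        (fun ν => Ideal.Quotient.mk (Ideal.span {t}) (b ν)) j := fun j => hρs _
    choose w hw using hlift
    have hker : ∀ j, ρ (z' j - algebraMap R P (l (cf (red ρ z') ν₀)) * w j) = 0 := by
      intro j
      rw [map_sub, map_mul, hρa, hw, sub_eq_zero, ← smul_eq_C_mul]
      exact congrFun hzw j
    choose v hv using fun j => hρk _ (hker j)
    have hz'' : z' = algebraMap R P (l (cf (red ρ z') ν₀)) •
        (fun j => w j + algebraMap R P d * v j) := by
      funext j
      have h1 := hv j
      have ht' : algebraMap R P t = algebraMap R P (l (cf (red ρ z') ν₀)) * algebraMap R P d := by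
        rw [← map_mul, ← hd]
      rw [ht'] at h1
      simp only [Pi.smul_apply, smul_eq_mul]
      linear_combination h1
    have hz''N : (fun j => w j + algebraMap R P d * v j) ∈ N := by
      apply hsat
      have h1 : algebraMap R P t • (fun j => w j + algebraMap R P d * v j) =
          algebraMap R P d • z' := by
        conv_rhs => rw [hz'']
        rw [smul_smul, ← map_mul, mul_comm d, ← hd]
      rw [h1]
      exact N.smul_mem _ hz'N
    have hredz'' : red ρ (fun j => w j + algebraMap R P d * v j) =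
        ofCf (supp (red ρ z')) (fun ν => Ideal.Quotient.mk (Ideal.span {t}) (b ν)) +
          Ideal.Quotient.mk (Ideal.span {t}) d • red ρ v := by
      funext j
      simp only [red, map_add, map_mul, hw, hρa, Pi.add_apply, Pi.smul_apply, smul_eq_C_mul]
    refine ⟨Ideal.Quotient.mk (Ideal.span {t}) (l (cf (red ρ z') ν₀)),
      red ρ (fun j => w j + algebraMap R P d * v j), ⟨_, hz''N, rfl⟩, ⟨ν₀, ?_⟩, ?_⟩
    · rw [hredz'', cf_add, cf_smul]
      apply IsNilpotent.isUnit_add_left_of_commute _ hwu (Commute.all _ _)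
      obtain ⟨k, hk⟩ := hnil d hdnu
      have hdn : IsNilpotent (Ideal.Quotient.mk (Ideal.span {t}) d) := by
        refine ⟨k, ?_⟩
        rw [← map_pow, Ideal.Quotient.eq_zero_iff_mem, Ideal.mem_span_singleton]
        exact hk
      exact (Commute.all _ _).isNilpotent_mul_right hdn
    · conv_lhs => rw [hz'']
      rw [red_smul, hρa]
      funext j
      simp only [Pi.smul_apply, smul_eq_mul, smul_eq_C_mul]
  have hNbar : (redSub ρ hρs N).FG :=
    fg_of_primitive_factor (exists_nilpotent_dvd t hnil) (redSub ρ hρs N) hsatbar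
  obtain ⟨s, gbar, hg⟩ := Submodule.fg_iff_exists_fin_generating_family.mp hNbar
  have hgmem : ∀ i, gbar i ∈ redSub ρ hρs N := fun i => hg ▸ Submodule.subset_span ⟨i, rfl⟩
  choose g hgN hgred using hgmem
  refine ⟨s, g, hgN, ?_⟩
  intro x hx
  have hxbar : red ρ x ∈ Submodule.span (MvPolynomial (Fin n) (R ⧸ Ideal.span {t}))
      (Set.range gbar) := by
    rw [hg]; exact ⟨x, hx, rfl⟩
  obtain ⟨abar, habar⟩ := (Submodule.mem_span_range_iff_exists_fun _).mp hxbar
  choose a ha using fun i => hρs (abar i)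
  have hker : ∀ j, ρ ((x - ∑ i, a i • g i) j) = 0 := by
    intro j
    have h0 : red ρ (x - ∑ i, a i • g i) = 0 := by
      rw [red_sub, red_sum, sub_eq_zero, ← habar]
      apply Finset.sum_congr rfl
      intro i _
      rw [red_smul, ha, hgred]
    exact congrFun h0 j
  choose x₁ hx₁ using fun j => hρk _ (hker j)
  have hx₁' : algebraMap R P t • x₁ = x - ∑ i, a i • g i := by
    funext j
    rw [Pi.smul_apply, smul_eq_mul, ← hx₁ j]
  refine ⟨a, x₁, ?_, ?_⟩
  · apply hsat
    rw [hx₁']
    exact N.sub_mem hx (N.sum_mem fun i _ => N.smul_mem _ (hgN i))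
  · rw [hx₁']; abel

end PLevel

end Groth.Agent.Lib.BoschCore76
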