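import Groth.Agent.Lib.BoschCore76N
import Mathlib.RingTheory.MvPolynomial.Homogeneous
import Mathlib.RingTheory.Nakayama

/-!
# Bosch FRG 7.3 core, part O: graded saturated submodules over `P[X]`

`P` as in part B (`t`-adically complete with `P/tP` a polynomial ring over `R/t`).
* `fg_of_saturated_finite` : saturated submodules of finite `P`-modules are finitely generated.
* `fg_of_saturated_graded` : graded `t`-saturated submodules of `P[X_σ]^r` are finitely generated
  (generators modulo `t` exist without completeness; then Nakayama in each degree).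
-/

set_option autoImplicit false
universe u

namespace Groth.Agent.Lib.BoschCore76

open MvPolynomial

section HC
variable {σ : Type*} {P : Type*} [CommRing P]

attribute [local instance] MvPolynomial.gradedAlgebra

lemma decompose_eq_hc (φ : MvPolynomial σ P) (i : ℕ) :
    (DirectSum.decompose (homogeneousSubmodule σ P) φ i : MvPolynomial σ P) =
      homogeneousComponent i φ :=
  decomposition.decompose'_apply φ i

lemma hc_mul_of_isHomogeneous {g : MvPolynomial σ P} {e : ℕ} (hg : g.IsHomogeneous e)
    (a : MvPolynomial σ P) (d : ℕ) :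
    homogeneousComponent d (g * a) =
      if e ≤ d then g * homogeneousComponent (d - e) a else 0 := by
  have h1 := DirectSum.coe_decompose_mul_of_left_mem (𝒜 := homogeneousSubmodule σ P) (b := a) d
    ((mem_homogeneousSubmodule e g).mpr hg)
  rw [decompose_eq_hc, decompose_eq_hc] at h1
  exact h1

lemma sum_hc_of_le (φ : MvPolynomial σ P) {D : ℕ} (h : φ.totalDegree ≤ D) :
    ∑ i ∈ Finset.range (D + 1), homogeneousComponent i φ = φ := by
  conv_rhs => rw [← sum_homogeneousComponent φ]
  symm
  apply Finset.sum_subset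
  · intro i hi
    rw [Finset.mem_range] at hi ⊢
    omega
  · intro i _ hi
    apply homogeneousComponent_eq_zero
    rw [Finset.mem_range] at hi
    omega

lemma hc_mul_eq_sum (a y : MvPolynomial σ P) (d : ℕ) :
    homogeneousComponent d (a * y) =
      ∑ e ∈ Finset.range (d + 1), homogeneousComponent e a * homogeneousComponent (d - e) y := by
  have hA : a.totalDegree ≤ max a.totalDegree d := le_max_left _ _
  conv_lhs => rw [← sum_hc_of_le a hA, Finset.sum_mul, map_sum]
  have : ∀ e ∈ Finset.range (max a.totalDegree d + 1),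
      homogeneousComponent d (homogeneousComponent e a * y) =
        if e ≤ d then homogeneousComponent e a * homogeneousComponent (d - e) y else 0 :=
    fun e _ => hc_mul_of_isHomogeneous (homogeneousComponent_isHomogeneous e a) y d
  rw [Finset.sum_congr rfl this, ← Finset.sum_filter]
  apply Finset.sum_congr
  · ext e
    simp only [Finset.mem_filter, Finset.mem_range]
    omega
  · intro _ _; rfl

end HC

section RhoPoly
variable {R : Type*} [CommRing R] {t : R}
variable {P : Type*} [CommRing P] [Algebra R P] {n : ℕ}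
  (ρ : P →+* MvPolynomial (Fin n) (R ⧸ Ideal.span {t}))
variable (σ : Type*) [Fintype σ]

/-- the iso `k[ζ][X_σ] = k[X_{σ ⊕ ζ}]` reindexed by `Fin` -/
noncomputable def thetaPoly (k : Type*) [CommRing k] (n : ℕ) :
    MvPolynomial σ (MvPolynomial (Fin n) k) ≃ₐ[k]
      MvPolynomial (Fin (Fintype.card (σ ⊕ Fin n))) k :=
  (sumAlgEquiv k σ (Fin n)).symm.trans (renameEquiv k (Fintype.equivFin (σ ⊕ Fin n)))

/-- the reduction map for polynomial rings over `P` -/
noncomputable def rhoPoly : MvPolynomial σ P →+*
    MvPolynomial (Fin (Fintype.card (σ ⊕ Fin n))) (R ⧸ Ideal.span {t}) :=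
  ((thetaPoly σ (R ⧸ Ideal.span {t}) n : _ →+* _)).comp (MvPolynomial.map ρ)

omit [Algebra R P] in
lemma rhoPoly_surjective (hρs : Function.Surjective ρ) : Function.Surjective (rhoPoly ρ σ) := by
  unfold rhoPoly
  exact (thetaPoly σ (R ⧸ Ideal.span {t}) n).surjective.comp (MvPolynomial.map_surjective ρ hρs)

lemma rhoPoly_ker (hρk : ∀ x, ρ x = 0 → ∃ y, x = algebraMap R P t * y)
    (x : MvPolynomial σ P) (hx : rhoPoly ρ σ x = 0) :
    ∃ y, x = algebraMap R (MvPolynomial σ P) t * y := by
  have h1 : MvPolynomial.map ρ x = 0 := by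
    have : thetaPoly σ (R ⧸ Ideal.span {t}) n (MvPolynomial.map ρ x) = 0 := hx
    exact (EmbeddingLike.map_eq_zero_iff).mp this
  have h2 : x ∈ RingHom.ker (MvPolynomial.map (σ := σ) ρ) := h1
  rw [MvPolynomial.ker_map] at h2
  have h3 : RingHom.ker ρ ≤ Ideal.span {algebraMap R P t} := by
    intro z hz
    obtain ⟨y, rfl⟩ := hρk z hz
    exact Ideal.mul_mem_right _ _ (Ideal.mem_span_singleton_self _)
  have h4 := Ideal.map_mono (f := (C : P →+* MvPolynomial σ P)) h3 h2
  rw [Ideal.map_span, Set.image_singleton, Ideal.mem_span_singleton'] at h4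
  obtain ⟨y, hy⟩ := h4
  exact ⟨y, by rw [← hy, mul_comm, MvPolynomial.algebraMap_apply]⟩

lemma rhoPoly_algebraMap
    (hρa : ∀ a : R, ρ (algebraMap R P a) = C (Ideal.Quotient.mk (Ideal.span {t}) a)) (a : R) :
    rhoPoly ρ σ (algebraMap R (MvPolynomial σ P) a) =
      C (Ideal.Quotient.mk (Ideal.span {t}) a) := by
  unfold rhoPoly
  rw [RingHom.comp_apply, MvPolynomial.algebraMap_apply, MvPolynomial.map_C, hρa]
  have : (C (C (Ideal.Quotient.mk (Ideal.span {t}) a)) :
      MvPolynomial σ (MvPolynomial (Fin n) (R ⧸ Ideal.span {t}))) =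
      algebraMap (R ⧸ Ideal.span {t}) _ (Ideal.Quotient.mk (Ideal.span {t}) a) := rfl
  rw [this]
  exact (thetaPoly σ (R ⧸ Ideal.span {t}) n).commutes _

end RhoPoly

section Fin
set_option linter.unusedSectionVars false
variable {R : Type*} [CommRing R] [IsDomain R] [ValuationRing R] {t : R}
variable {P : Type*} [CommRing P] [Algebra R P] {n : ℕ}
  (ρ : P →+* MvPolynomial (Fin n) (R ⧸ Ideal.span {t}))

/-- saturated submodules of finite `P`-modules are finitely generated -/
theorem fg_of_saturated_finite (ht : ¬ IsUnit t) (hnil : ∀ e : R, ¬ IsUnit e → ∃ k : ℕ, t ∣ e ^ k)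
    (hρs : Function.Surjective ρ)
    (hρk : ∀ x, ρ x = 0 → ∃ y, x = algebraMap R P t * y)
    (hρa : ∀ a : R, ρ (algebraMap R P a) = C (Ideal.Quotient.mk (Ideal.span {t}) a))
    [IsAdicComplete (Ideal.span {algebraMap R P t}) P]
    (M : Type*) [AddCommGroup M] [Module P M] [Module.Finite P M] (N : Submodule P M)
    (hsat : ∀ x : M, algebraMap R P t • x ∈ N → x ∈ N) : N.FG := by
  obtain ⟨r, f, hf⟩ := Module.Finite.exists_fin' P M
  have h1 : (N.comap f).FG := by
    apply fg_of_saturated ρ ht hnil hρs hρk hρa
    intro x hx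
    rw [Submodule.mem_comap, map_smul] at hx
    exact hsat _ hx
  have := h1.map f
  rwa [Submodule.map_comap_eq_of_surjective hf] at this

end Fin

section Graded
set_option linter.unusedSectionVars false
variable {R : Type*} [CommRing R] [IsDomain R] [ValuationRing R] {t : R}
variable {P : Type*} [CommRing P] [Algebra R P] {n : ℕ}
  (ρ : P →+* MvPolynomial (Fin n) (R ⧸ Ideal.span {t}))
variable (σ : Type*) [Fintype σ]

/-- **graded saturated submodules of `P[X]^r` are finitely generated** -/
theorem fg_of_saturated_graded (ht : ¬ IsUnit t)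
    (hnil : ∀ e : R, ¬ IsUnit e → ∃ k : ℕ, t ∣ e ^ k)
    (hρs : Function.Surjective ρ)
    (hρk : ∀ x, ρ x = 0 → ∃ y, x = algebraMap R P t * y)
    (hρa : ∀ a : R, ρ (algebraMap R P a) = C (Ideal.Quotient.mk (Ideal.span {t}) a))
    [IsAdicComplete (Ideal.span {algebraMap R P t}) P]
    {r : ℕ} (N : Submodule (MvPolynomial σ P) (Fin r → MvPolynomial σ P))
    (hsat : ∀ x : Fin r → MvPolynomial σ P, algebraMap R (MvPolynomial σ P) t • x ∈ N → x ∈ N)
    (hgr : ∀ x ∈ N, ∀ d : ℕ, (fun j => homogeneousComponent d (x j)) ∈ N) : N.FG := by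
  classical
  obtain ⟨s, g, hgN, hdiv⟩ := exists_gens_mod (rhoPoly ρ σ) ht hnil (rhoPoly_surjective ρ σ hρs)
    (rhoPoly_ker ρ σ hρk) (rhoPoly_algebraMap ρ σ hρa) N hsat
  -- degree bound
  obtain ⟨D, hD⟩ : ∃ D : ℕ, ∀ i j, (g i j).totalDegree ≤ D := by
    refine ⟨Finset.univ.sup (fun i => Finset.univ.sup fun j => (g i j).totalDegree),
      fun i j => ?_⟩
    exact le_trans (Finset.le_sup (f := fun j => (g i j).totalDegree) (Finset.mem_univ j))
      (Finset.le_sup (f := fun i => Finset.univ.sup fun j => (g i j).totalDegree)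
        (Finset.mem_univ i))
  -- homogeneous generators
  let G : Fin s × Fin (D + 1) → Fin r → MvPolynomial σ P :=
    fun p j => homogeneousComponent (p.2 : ℕ) (g p.1 j)
  have hGN : ∀ p, G p ∈ N := fun p => hgr _ (hgN p.1) _
  set W : Submodule (MvPolynomial σ P) (Fin r → MvPolynomial σ P) :=
    Submodule.span _ (Set.range G) with hW
  have hWN : W ≤ N := by
    rw [hW, Submodule.span_le]
    rintro _ ⟨p, rfl⟩
    exact hGN p
  -- key: homogeneous elements of `N` lie in `W`
  have key : ∀ d : ℕ, ∀ x ∈ N, (∀ j, (x j).IsHomogeneous d) → x ∈ W := by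
    intro d
    let H : Submodule P (MvPolynomial σ P) := homogeneousSubmodule σ P d
    have hHfin : Module.Finite P H := Module.Finite.iff_fg.mpr (homogeneousSubmodule_fg σ P d)
    let ι : (Fin r → H) →ₗ[P] (Fin r → MvPolynomial σ P) := H.subtype.compLeft (Fin r)
    have hι : ∀ (x : Fin r → H) (j : Fin r), ι x j = (x j : MvPolynomial σ P) := fun _ _ => rfl
    let V : Submodule P (Fin r → H) := (N.restrictScalars P).comap ι
    let W' : Submodule P (Fin r → H) := (W.restrictScalars P).comap ι
    have hτ : ∀ y : Fin r → MvPolynomial σ P,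
        algebraMap R (MvPolynomial σ P) t • y = algebraMap R P t • y := by
      intro y
      rw [IsScalarTower.algebraMap_apply R P (MvPolynomial σ P), algebraMap_smul]
    have hVfg : V.FG := by
      apply fg_of_saturated_finite ρ ht hnil hρs hρk hρa
      intro x hx
      have h1 : ι (algebraMap R P t • x) ∈ N := hx
      rw [map_smul, ← hτ] at h1
      exact hsat _ h1
    have hjac : Ideal.span {algebraMap R P t} ≤ (⊥ : Ideal P).jacobson :=
      IsAdicComplete.le_jacobson_bot _
    have hle : V ≤ W' ⊔ Ideal.span {algebraMap R P t} • V := by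
      intro x hx
      obtain ⟨a, X₁, hX₁, hX⟩ := hdiv (ι x) hx
      let x₁ : Fin r → H := fun j => ⟨homogeneousComponent d (X₁ j), homogeneousComponent_mem d _⟩
      have hx₁ : x₁ ∈ V := hgr X₁ hX₁ d
      have hw : x - algebraMap R P t • x₁ ∈ W' := by
        have h1 : ι (x - algebraMap R P t • x₁) =
            ∑ i, (fun j => homogeneousComponent d (a i * g i j)) := by
          funext j
          have hxj : (x j : MvPolynomial σ P) = homogeneousComponent d (ι x j) :=
            (homogeneousComponent_eq_self ((mem_homogeneousSubmodule d _).mp (x j).2)).symm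
          have hXj : ι x j = ∑ i, a i * g i j + C (algebraMap R P t) * X₁ j := by
            conv_lhs => rw [hX]
            simp only [Pi.add_apply, Finset.sum_apply, Pi.smul_apply, smul_eq_mul,
              MvPolynomial.algebraMap_apply]
          rw [map_sub, map_smul, Pi.sub_apply, Pi.smul_apply, hι, hι, hxj, hXj, map_add,
            map_sum, homogeneousComponent_C_mul, Finset.sum_apply, smul_eq_C_mul]
          simp only [x₁]
          ring
        show ι (x - algebraMap R P t • x₁) ∈ W
        rw [h1]
        apply W.sum_mem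
        intro i _
        have h2 : (fun j => homogeneousComponent d (a i * g i j)) =
            ∑ e : Fin (D + 1), if (e : ℕ) ≤ d then
              homogeneousComponent (d - e) (a i) • G (i, e) else 0 := by
          funext j
          rw [Finset.sum_apply]
          conv_lhs => rw [← sum_hc_of_le (g i j) (hD i j), Finset.mul_sum, map_sum,
            Finset.sum_range]
          apply Finset.sum_congr rfl
          intro e _
          rw [mul_comm, hc_mul_of_isHomogeneous (homogeneousComponent_isHomogeneous _ _)]
          split_ifs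
          · rw [Pi.smul_apply, smul_eq_mul, mul_comm]
          · rfl
        rw [h2]
        apply W.sum_mem
        intro e _
        split_ifs
        · exact W.smul_mem _ (Submodule.subset_span ⟨(i, e), rfl⟩)
        · exact W.zero_mem
      have hsum : x = (x - algebraMap R P t • x₁) + algebraMap R P t • x₁ := by abel
      rw [hsum]
      exact Submodule.add_mem_sup hw
        (Submodule.smul_mem_smul (Ideal.mem_span_singleton_self _) hx₁)
    have hVW := Submodule.le_of_le_smul_of_le_jacobson_bot hVfg hjac hle
    intro X hX hXh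
    let x : Fin r → H := fun j => ⟨X j, (mem_homogeneousSubmodule d _).mpr (hXh j)⟩
    have hxV : x ∈ V := hX
    exact hVW hxV
  have hNW : N ≤ W := by
    intro x hx
    obtain ⟨Dx, hDx⟩ : ∃ Dx : ℕ, ∀ j, (x j).totalDegree ≤ Dx :=
      ⟨Finset.univ.sup fun j => (x j).totalDegree,
        fun j => Finset.le_sup (f := fun j => (x j).totalDegree) (Finset.mem_univ j)⟩
    have hx' : x = ∑ d ∈ Finset.range (Dx + 1), (fun j => homogeneousComponent d (x j)) := by
      funext j
      rw [Finset.sum_apply, sum_hc_of_le _ (hDx j)]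
    rw [hx']
    exact W.sum_mem fun d _ => key d _ (hgr x hx d)
      (fun j => homogeneousComponent_isHomogeneous d (x j))
  rw [le_antisymm hNW hWN]
  exact Submodule.fg_span (Set.finite_range G)

end Graded

end Groth.Agent.Lib.BoschCore76
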