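import Groth.Agent.Lib.BoschCore76O

/-!
# Bosch FRG 7.3 core, part P: saturated submodules over `P[X]`

`P` as in part B. By homogenization the graded case of part O gives:
* `fg_of_saturated_poly` : every `t`-saturated submodule of `P[X_σ]^r` is finitely generated.
-/

set_option autoImplicit false
universe u

namespace Groth.Agent.Lib.BoschCore76

open MvPolynomial

section Dehom
variable {P : Type*} [CommRing P] {σ : Type*}

/-- dehomogenization `X_none ↦ 1` -/
noncomputable def dehom : MvPolynomial (Option σ) P →ₐ[P] MvPolynomial σ P :=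
  aeval (fun o => Option.elim o 1 X)

lemma dehom_C (c : P) : dehom (σ := σ) (C c) = C c := by
  unfold dehom
  rw [aeval_C]
  rfl

lemma dehom_X_none : dehom (σ := σ) (P := P) (X none) = 1 := by
  unfold dehom
  rw [aeval_X]
  rfl

lemma dehom_rename (p : MvPolynomial σ P) : dehom (rename some p) = p := by
  unfold dehom
  rw [aeval_rename]
  have : ((fun o : Option σ => Option.elim o (1 : MvPolynomial σ P) X) ∘ some) = X := by
    funext i
    rfl
  rw [this, aeval_X_left_apply]

/-- homogeneous lifts -/
lemma exists_isHomogeneous_dehom_eq (p : MvPolynomial σ P) (d : ℕ) (h : p.totalDegree ≤ d) :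
    ∃ q : MvPolynomial (Option σ) P, q.IsHomogeneous d ∧ dehom q = p := by
  classical
  refine ⟨∑ α ∈ p.support,
    C (coeff α p) * rename some (monomial α (1 : P)) * X none ^ (d - α.degree), ?_, ?_⟩
  · apply IsHomogeneous.sum
    intro α hα
    have hαd : α.degree ≤ d := le_trans (le_totalDegree hα) h
    have hm : (monomial α (1 : P)).IsHomogeneous α.degree := isHomogeneous_monomial 1 rfl
    have hr : (rename (some : σ → Option σ) (monomial α (1 : P))).IsHomogeneous α.degree :=
      hm.rename_isHomogeneous
    have hc : (C (coeff α p) : MvPolynomial (Option σ) P).IsHomogeneous 0 := isHomogeneous_C _ _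
    have h2 := (hc.mul hr).mul (isHomogeneous_X_pow (R := P) (none : Option σ) (d - α.degree))
    have h1 : 0 + α.degree + (d - α.degree) = d := by omega
    rw [h1] at h2
    exact h2
  · rw [map_sum]
    conv_rhs => rw [← support_sum_monomial_coeff p]
    apply Finset.sum_congr rfl
    intro α _
    rw [map_mul, map_mul, map_pow, dehom_X_none, one_pow, mul_one, dehom_C, dehom_rename,
      C_mul_monomial, mul_one]

/-- the homogenization of a submodule of `P[X_σ]^r` inside `P[X_{Option σ}]^r` -/
noncomputable def homSub {r : ℕ} (N : Submodule (MvPolynomial σ P) (Fin r → MvPolynomial σ P)) :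
    Submodule (MvPolynomial (Option σ) P) (Fin r → MvPolynomial (Option σ) P) where
  carrier := {y | ∀ d : ℕ, (fun j => dehom (homogeneousComponent d (y j))) ∈ N}
  add_mem' := by
    intro y z hy hz d
    have : (fun j => dehom (homogeneousComponent d ((y + z) j))) =
        (fun j => dehom (homogeneousComponent d (y j))) +
          (fun j => dehom (homogeneousComponent d (z j))) := by
      funext j
      simp
    rw [this]
    exact N.add_mem (hy d) (hz d)
  zero_mem' := by
    intro d
    have : (fun j : Fin r => dehom (homogeneousComponent d ((0 : Fin r → MvPolynomial (Option σ) P) j)))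
        = (0 : Fin r → MvPolynomial σ P) := by
      funext j
      simp
    rw [this]
    exact N.zero_mem
  smul_mem' := by
    intro a y hy d
    have : (fun j => dehom (homogeneousComponent d ((a • y) j))) =
        ∑ e ∈ Finset.range (d + 1), dehom (homogeneousComponent e a) •
          (fun j => dehom (homogeneousComponent (d - e) (y j))) := by
      funext j
      rw [Pi.smul_apply, smul_eq_mul, hc_mul_eq_sum, map_sum, Finset.sum_apply]
      apply Finset.sum_congr rfl
      intro e _
      rw [map_mul, Pi.smul_apply, smul_eq_mul]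
    rw [this]
    exact N.sum_mem fun e _ => N.smul_mem _ (hy _)

lemma mem_homSub {r : ℕ} (N : Submodule (MvPolynomial σ P) (Fin r → MvPolynomial σ P))
    (y : Fin r → MvPolynomial (Option σ) P) :
    y ∈ homSub N ↔ ∀ d : ℕ, (fun j => dehom (homogeneousComponent d (y j))) ∈ N := Iff.rfl

lemma dehom_mem_of_mem_homSub {r : ℕ}
    (N : Submodule (MvPolynomial σ P) (Fin r → MvPolynomial σ P))
    (y : Fin r → MvPolynomial (Option σ) P) (hy : y ∈ homSub N) :
    (fun j => dehom (y j)) ∈ N := by
  classical
  obtain ⟨D, hD⟩ : ∃ D : ℕ, ∀ j, (y j).totalDegree ≤ D :=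
    ⟨Finset.univ.sup fun j => (y j).totalDegree,
      fun j => Finset.le_sup (f := fun j => (y j).totalDegree) (Finset.mem_univ j)⟩
  have : (fun j => dehom (y j)) =
      ∑ d ∈ Finset.range (D + 1), (fun j => dehom (homogeneousComponent d (y j))) := by
    funext j
    rw [Finset.sum_apply, ← map_sum, sum_hc_of_le _ (hD j)]
  rw [this]
  exact N.sum_mem fun d _ => hy d

lemma mem_homSub_of_isHomogeneous {r : ℕ}
    (N : Submodule (MvPolynomial σ P) (Fin r → MvPolynomial σ P))
    (z : Fin r → MvPolynomial (Option σ) P) (d : ℕ) (hz : ∀ j, (z j).IsHomogeneous d)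
    (hzN : (fun j => dehom (z j)) ∈ N) : z ∈ homSub N := by
  intro d'
  by_cases h : d' = d
  · subst h
    have : (fun j => dehom (homogeneousComponent d' (z j))) = fun j => dehom (z j) := by
      funext j
      rw [homogeneousComponent_eq_self (hz j)]
    rw [this]
    exact hzN
  · have : (fun j => dehom (homogeneousComponent d' (z j))) = 0 := by
      funext j
      rw [homogeneousComponent_of_mem ((mem_homogeneousSubmodule d _).mpr (hz j)), if_neg h,
        map_zero]
      rfl
    rw [this]
    exact N.zero_mem

end Dehom

section Poly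
set_option linter.unusedSectionVars false
variable {R : Type*} [CommRing R] [IsDomain R] [ValuationRing R] {t : R}
variable {P : Type*} [CommRing P] [Algebra R P] {n : ℕ}
  (ρ : P →+* MvPolynomial (Fin n) (R ⧸ Ideal.span {t}))
variable (σ : Type*) [Fintype σ]

/-- **saturated submodules of `P[X]^r` are finitely generated** -/
theorem fg_of_saturated_poly (ht : ¬ IsUnit t)
    (hnil : ∀ e : R, ¬ IsUnit e → ∃ k : ℕ, t ∣ e ^ k)
    (hρs : Function.Surjective ρ)
    (hρk : ∀ x, ρ x = 0 → ∃ y, x = algebraMap R P t * y)
    (hρa : ∀ a : R, ρ (algebraMap R P a) = C (Ideal.Quotient.mk (Ideal.span {t}) a))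
    [IsAdicComplete (Ideal.span {algebraMap R P t}) P]
    {r : ℕ} (N : Submodule (MvPolynomial σ P) (Fin r → MvPolynomial σ P))
    (hsat : ∀ x : Fin r → MvPolynomial σ P, algebraMap R (MvPolynomial σ P) t • x ∈ N → x ∈ N) :
    N.FG := by
  classical
  have hfg : (homSub N).FG := by
    apply fg_of_saturated_graded ρ (Option σ) ht hnil hρs hρk hρa
    · intro y hy d
      apply hsat
      have h1 := hy d
      have h2 : (fun j => dehom (homogeneousComponent d
          ((algebraMap R (MvPolynomial (Option σ) P) t • y) j))) =
          algebraMap R (MvPolynomial σ P) t • fun j => dehom (homogeneousComponent d (y j)) := by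
        funext j
        rw [Pi.smul_apply, Pi.smul_apply, smul_eq_mul, smul_eq_mul, MvPolynomial.algebraMap_apply,
          MvPolynomial.algebraMap_apply, homogeneousComponent_C_mul, map_mul, dehom_C]
      rw [h2] at h1
      exact h1
    · intro y hy e
      apply mem_homSub_of_isHomogeneous N _ e
        (fun j => homogeneousComponent_isHomogeneous e (y j))
      exact hy e
  obtain ⟨s, y, hy⟩ := Submodule.fg_iff_exists_fin_generating_family.mp hfg
  have hyN : ∀ i, y i ∈ homSub N := fun i => hy ▸ Submodule.subset_span ⟨i, rfl⟩
  have hN : N = Submodule.span (MvPolynomial σ P) (Set.range fun i => fun j => dehom (y i j)) := by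
    apply le_antisymm
    · intro x hx
      obtain ⟨d, hd⟩ : ∃ d : ℕ, ∀ j, (x j).totalDegree ≤ d :=
        ⟨Finset.univ.sup fun j => (x j).totalDegree,
          fun j => Finset.le_sup (f := fun j => (x j).totalDegree) (Finset.mem_univ j)⟩
      choose z hzh hzx using fun j => exists_isHomogeneous_dehom_eq (x j) d (hd j)
      have hzN : z ∈ homSub N := by
        apply mem_homSub_of_isHomogeneous N z d hzh
        have : (fun j => dehom (z j)) = x := funext hzx
        rw [this]
        exact hx
      rw [← hy] at hzN
      obtain ⟨b, hb⟩ := (Submodule.mem_span_range_iff_exists_fun _).mp hzN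
      have hxb : x = ∑ i, dehom (b i) • (fun j => dehom (y i j)) := by
        funext j
        rw [← hzx j, ← hb, Finset.sum_apply, Finset.sum_apply, map_sum]
        apply Finset.sum_congr rfl
        intro i _
        rw [Pi.smul_apply, Pi.smul_apply, smul_eq_mul, smul_eq_mul, map_mul]
      rw [hxb]
      exact Submodule.sum_mem _ fun i _ =>
        Submodule.smul_mem _ _ (Submodule.subset_span ⟨i, rfl⟩)
    · rw [Submodule.span_le]
      rintro _ ⟨i, rfl⟩
      exact dehom_mem_of_mem_homSub N _ (hyN i)
  rw [hN]
  exact Submodule.fg_span (Set.finite_range _)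

end Poly

end Groth.Agent.Lib.BoschCore76
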