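import Groth.Agent.Lib.BoschCore76P
import Groth.Agent.Lib.BoschCore76D
import Mathlib.RingTheory.FiniteType

/-!
# Bosch FRG 7.3 core, part Q: finite type algebras over algebras topologically of finite type

Class (V): `R` a complete height one valuation ring, `A` topologically of finite type over `R`,
`C` an `A`-algebra of finite type.
* `fg_of_saturated_ft_V` : saturated submodules of finite `C`-modules are finitely generated.
* `exists_pow_smul_mem_ft_V` : bounded torsion modulo a submodule (Artin–Rees).
* `finitePresentation_of_torsionFree_ft_V` : finite `t`-torsion-free `C`-modules are f.p.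
-/

set_option autoImplicit false
universe u

namespace Groth.Agent.Lib.BoschCore76

open MvPolynomial AdicRing

section V

variable {R : Type u} [CommRing R] [IsDomain R] [ValuationRing R] (t : R)

/-- class (V): saturated submodules of finite modules over a finite type algebra over an algebra
topologically of finite type are finitely generated -/
theorem fg_of_saturated_ft_V (ht : ¬ IsUnit t)
    (hnil : ∀ e : R, ¬ IsUnit e → ∃ k : ℕ, t ∣ e ^ k)
    {A : Type*} [CommRing A] [Algebra R A] (hA : TopFiniteType R (Ideal.span {t}) A)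
    {C : Type*} [CommRing C] [Algebra R C] [Algebra A C] [IsScalarTower R A C]
    [hft : Algebra.FiniteType A C]
    (M : Type*) [AddCommGroup M] [Module C M] [Module.Finite C M] (N : Submodule C M)
    (hsat : ∀ x : M, algebraMap R C t • x ∈ N → x ∈ N) : N.FG := by
  classical
  obtain ⟨n, φ, hφ⟩ := hA
  obtain ⟨m, ψ, hψ⟩ := Algebra.FiniteType.iff_quotient_mvPolynomial''.mp hft
  let Ψ : MvPolynomial (Fin m) (RPow R (Ideal.span {t}) n) →+* C :=
    (ψ : MvPolynomial (Fin m) A →+* C).comp
      (MvPolynomial.map (φ : RPow R (Ideal.span {t}) n →+* A))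
  have hΨ : Function.Surjective Ψ :=
    hψ.comp (MvPolynomial.map_surjective _ hφ)
  have hΨt : Ψ (algebraMap R (MvPolynomial (Fin m) (RPow R (Ideal.span {t}) n)) t) =
      algebraMap R C t := by
    simp only [Ψ, RingHom.comp_apply, MvPolynomial.algebraMap_apply, MvPolynomial.map_C]
    show ψ (MvPolynomial.C (φ (algebraMap R (RPow R (Ideal.span {t}) n) t))) = algebraMap R C t
    rw [AlgHom.commutes,
      show (MvPolynomial.C (algebraMap R A t) : MvPolynomial (Fin m) A) =
        algebraMap A _ (algebraMap R A t)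
        from rfl, AlgHom.commutes, ← IsScalarTower.algebraMap_apply]
  obtain ⟨r, f, hf⟩ := Module.Finite.exists_fin' C M
  let N' : Submodule (MvPolynomial (Fin m) (RPow R (Ideal.span {t}) n))
      (Fin r → MvPolynomial (Fin m) (RPow R (Ideal.span {t}) n)) :=
    { carrier := {x | f (fun j => Ψ (x j)) ∈ N}
      add_mem' := by
        intro x y hx hy
        have : (fun j => Ψ ((x + y) j)) = (fun j => Ψ (x j)) + fun j => Ψ (y j) := by
          funext j
          simp
        show f (fun j => Ψ ((x + y) j)) ∈ N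
        rw [this, map_add]
        exact N.add_mem hx hy
      zero_mem' := by
        have : (fun j => Ψ ((0 : Fin r → MvPolynomial (Fin m) (RPow R (Ideal.span {t}) n)) j)) =
            (0 : Fin r → C) := by
          funext j
          simp
        show f (fun j => Ψ ((0 : Fin r → MvPolynomial (Fin m) (RPow R (Ideal.span {t}) n)) j)) ∈ N
        rw [this, map_zero]
        exact N.zero_mem
      smul_mem' := by
        intro a x hx
        have : (fun j => Ψ ((a • x) j)) = Ψ a • fun j => Ψ (x j) := by
          funext j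
          simp
        show f (fun j => Ψ ((a • x) j)) ∈ N
        rw [this, map_smul]
        exact N.smul_mem _ hx }
  have hmem : ∀ x, x ∈ N' ↔ f (fun j => Ψ (x j)) ∈ N := fun _ => Iff.rfl
  have := isAdicComplete_rpow t n
  have hN' : N'.FG := by
    apply fg_of_saturated_poly (rhoₐ t n).toRingHom (Fin m) ht hnil (rhoₐ_surjective t n)
      (rhoₐ_ker t n) (rhoₐ_algebraMap t n)
    intro x hx
    rw [hmem] at hx ⊢
    apply hsat
    have h1 : (fun j => Ψ ((algebraMap R (MvPolynomial (Fin m) (RPow R (Ideal.span {t}) n)) t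
        • x) j)) = algebraMap R C t • fun j => Ψ (x j) := by
      funext j
      rw [Pi.smul_apply, Pi.smul_apply, smul_eq_mul, map_mul, hΨt, smul_eq_mul]
    rw [h1, map_smul] at hx
    exact hx
  obtain ⟨s, x, hx⟩ := Submodule.fg_iff_exists_fin_generating_family.mp hN'
  have hxN : ∀ i, x i ∈ N' := fun i => hx ▸ Submodule.subset_span ⟨i, rfl⟩
  have hN : N = Submodule.span C (Set.range fun i => f (fun j => Ψ (x i j))) := by
    apply le_antisymm
    · intro y hy
      obtain ⟨c, rfl⟩ := hf y
      choose z hz using fun j => hΨ (c j)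
      have hzN : z ∈ N' := by
        rw [hmem]
        have : (fun j => Ψ (z j)) = c := funext hz
        rw [this]
        exact hy
      rw [← hx] at hzN
      obtain ⟨b, hb⟩ := (Submodule.mem_span_range_iff_exists_fun _).mp hzN
      have hc : c = ∑ i, Ψ (b i) • fun j => Ψ (x i j) := by
        funext j
        rw [← hz j, ← hb, Finset.sum_apply, Finset.sum_apply, map_sum]
        apply Finset.sum_congr rfl
        intro i _
        rw [Pi.smul_apply, Pi.smul_apply, smul_eq_mul, smul_eq_mul, map_mul]
      rw [hc, map_sum]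
      apply Submodule.sum_mem
      intro i _
      rw [map_smul]
      exact Submodule.smul_mem _ _ (Submodule.subset_span ⟨i, rfl⟩)
    · rw [Submodule.span_le]
      rintro _ ⟨i, rfl⟩
      exact hxN i
  rw [hN]
  exact Submodule.fg_span (Set.finite_range _)

/-- class (V): bounded torsion modulo a submodule -/
theorem exists_pow_smul_mem_ft_V (ht : ¬ IsUnit t)
    (hnil : ∀ e : R, ¬ IsUnit e → ∃ k : ℕ, t ∣ e ^ k)
    {A : Type*} [CommRing A] [Algebra R A] (hA : TopFiniteType R (Ideal.span {t}) A)
    {C : Type*} [CommRing C] [Algebra R C] [Algebra A C] [IsScalarTower R A C]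
    [Algebra.FiniteType A C]
    (M : Type*) [AddCommGroup M] [Module C M] [Module.Finite C M] (N : Submodule C M) :
    ∃ n₀ : ℕ, ∀ x : M, (∃ k : ℕ, (algebraMap R C t) ^ k • x ∈ N) →
      (algebraMap R C t) ^ n₀ • x ∈ N := by
  classical
  let Nsat : Submodule C M :=
    { carrier := {x | ∃ k : ℕ, (algebraMap R C t) ^ k • x ∈ N}
      add_mem' := by
        rintro a b ⟨k, hk⟩ ⟨l, hl⟩
        refine ⟨k + l, ?_⟩
        rw [smul_add]
        apply N.add_mem
        · rw [pow_add, mul_comm, mul_smul]; exact N.smul_mem _ hk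
        · rw [pow_add, mul_smul]; exact N.smul_mem _ hl
      zero_mem' := ⟨0, by simp⟩
      smul_mem' := by
        rintro c a ⟨k, hk⟩
        exact ⟨k, by rw [smul_comm]; exact N.smul_mem _ hk⟩ }
  have hsat : ∀ x : M, algebraMap R C t • x ∈ Nsat → x ∈ Nsat := by
    rintro x ⟨k, hk⟩
    exact ⟨k + 1, by rw [pow_succ, mul_smul]; exact hk⟩
  have hfg : Nsat.FG := fg_of_saturated_ft_V t ht hnil hA M Nsat hsat
  obtain ⟨s, g, hg⟩ := Submodule.fg_iff_exists_fin_generating_family.mp hfg
  have hgk : ∀ i, ∃ k : ℕ, (algebraMap R C t) ^ k • g i ∈ N := by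
    intro i
    have : g i ∈ Nsat := hg ▸ Submodule.subset_span ⟨i, rfl⟩
    exact this
  choose k hk using hgk
  have key : ∀ y ∈ Submodule.span C (Set.range g), (algebraMap R C t) ^ (∑ i, k i) • y ∈ N := by
    intro y hy
    induction hy using Submodule.span_induction with
    | mem y hy =>
      obtain ⟨i, rfl⟩ := hy
      have hle : k i ≤ ∑ i, k i :=
        Finset.single_le_sum (fun _ _ => Nat.zero_le _) (Finset.mem_univ i)
      obtain ⟨d, hd⟩ := Nat.exists_eq_add_of_le hle
      rw [hd, pow_add, mul_comm, mul_smul]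
      exact N.smul_mem _ (hk i)
    | zero => simp
    | add y z _ _ hy hz => rw [smul_add]; exact N.add_mem hy hz
    | smul c y _ hy => rw [smul_comm]; exact N.smul_mem _ hy
  refine ⟨∑ i, k i, fun x hx => key x ?_⟩
  rw [hg]; exact hx

/-- class (V): finite `t`-torsion-free modules are finitely presented -/
theorem finitePresentation_of_torsionFree_ft_V (ht : ¬ IsUnit t)
    (hnil : ∀ e : R, ¬ IsUnit e → ∃ k : ℕ, t ∣ e ^ k)
    {A : Type*} [CommRing A] [Algebra R A] (hA : TopFiniteType R (Ideal.span {t}) A)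
    {C : Type*} [CommRing C] [Algebra R C] [Algebra A C] [IsScalarTower R A C]
    [Algebra.FiniteType A C]
    (M : Type*) [AddCommGroup M] [Module C M] [Module.Finite C M]
    (htf : ∀ x : M, algebraMap R C t • x = 0 → x = 0) : Module.FinitePresentation C M := by
  obtain ⟨r, f, hf⟩ := Module.Finite.exists_fin' C M
  apply Module.finitePresentation_of_surjective f hf
  apply fg_of_saturated_ft_V t ht hnil hA
  intro x hx
  rw [LinearMap.mem_ker] at hx ⊢
  rw [map_smul] at hx
  exact htf _ hx

/-- class (V): Artin–Rees for ideals -/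
theorem inf_le_pow_mul_ft_V (ht : ¬ IsUnit t)
    (hnil : ∀ e : R, ¬ IsUnit e → ∃ k : ℕ, t ∣ e ^ k)
    {A : Type*} [CommRing A] [Algebra R A] (hA : TopFiniteType R (Ideal.span {t}) A)
    {C : Type*} [CommRing C] [Algebra R C] [Algebra A C] [IsScalarTower R A C]
    [Algebra.FiniteType A C] (𝔞 : Ideal C) :
    ∃ n₀ : ℕ, ∀ m : ℕ, ((Ideal.span {t}) ^ (m + n₀)).map (algebraMap R C) ⊓ 𝔞 ≤
      ((Ideal.span {t}).map (algebraMap R C)) ^ m * 𝔞 := by
  obtain ⟨n₀, hn₀⟩ := exists_pow_smul_mem_ft_V t ht hnil hA C 𝔞
  refine ⟨n₀, fun m => ?_⟩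
  intro y hy
  obtain ⟨hy1, hy2⟩ := Ideal.mem_inf.mp hy
  rw [Ideal.span_singleton_pow, Ideal.map_span, Set.image_singleton,
    Ideal.mem_span_singleton'] at hy1
  obtain ⟨z, rfl⟩ := hy1
  rw [map_pow, pow_add] at hy2 ⊢
  have h1 : (algebraMap R C t) ^ n₀ • z ∈ 𝔞 := by
    apply hn₀ z ⟨m + n₀, ?_⟩
    rw [pow_add, smul_eq_mul]
    convert hy2 using 1
    ring
  rw [Ideal.map_span, Set.image_singleton, Ideal.span_singleton_pow]
  have h2 : z * ((algebraMap R C t) ^ m * (algebraMap R C t) ^ n₀) =
      (algebraMap R C t) ^ m * ((algebraMap R C t) ^ n₀ • z) := by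
    rw [smul_eq_mul]; ring
  rw [h2]
  exact Ideal.mul_mem_mul (Ideal.mem_span_singleton_self _) h1

end V

end Groth.Agent.Lib.BoschCore76
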