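import Groth.Agent.Lib.BoschCore76K
import Groth.Agent.S2293

/-!
# Bosch FRG 7.3 core, part R: adic completions of `R`-algebras

For an `R`-algebra `B` and a finitely generated ideal `I` of `R` let `B̂ = Compl I B` be the
`IB`-adic completion.
* `compl_isAdicComplete` : `B̂` is `I`-adically complete.
* `complQuot_bijective` : `B/I^k B → B̂/I^k B̂` is bijective.
* `flat_trunc_tensor_compl` : `(B/I^k B) ⊗_B B̂` is flat over `B/I^k B`.
* `topFiniteType_compl` : if `C` is of finite type over an algebra topologically of finite type
  then `Ĉ` is topologically of finite type.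
-/

set_option autoImplicit false
set_option linter.style.haveILetI false
universe u v
open AdicRing TensorProduct

namespace Groth.Agent.Lib.BoschCore76

section Compl
variable {R : Type u} [CommRing R] (I : Ideal R) (B : Type v) [CommRing B] [Algebra R B]

/-- the `I`-adic completion of an `R`-algebra -/
abbrev Compl : Type v := AdicCompletion (I.map (algebraMap R B)) B

instance : IsScalarTower R B (Compl I B) :=
  IsScalarTower.of_algebraMap_eq (fun _ => rfl)

instance {A : Type*} [CommRing A] [Algebra R A] [Algebra A B] [IsScalarTower R A B] :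
    IsScalarTower R A (Compl I B) :=
  IsScalarTower.of_algebraMap_eq (fun x => by
    rw [AdicCompletion.algebraMap_apply, AdicCompletion.algebraMap_apply,
      ← IsScalarTower.algebraMap_apply])

instance {A : Type*} [CommRing A] [Algebra A B] : IsScalarTower A B (Compl I B) :=
  IsScalarTower.of_algebraMap_eq (fun _ => rfl)

theorem compl_isAdicComplete (hI : I.FG) :
    IsAdicComplete (I.map (algebraMap R (Compl I B))) (Compl I B) := by
  have := AdicCompletion.isAdicComplete_self (I.map (algebraMap R B)) (hI.map _)
  rwa [Ideal.map_map, ← IsScalarTower.algebraMap_eq] at this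

variable (k : ℕ)

lemma compl_map_pow_eq_ker (hI : I.FG) :
    (I ^ k).map (algebraMap R (Compl I B)) =
      RingHom.ker (AdicCompletion.evalₐ (I.map (algebraMap R B)) k).toRingHom := by
  rw [ker_evalₐ_eq_map _ (hI.map _) k, ← Ideal.map_pow, Ideal.map_map,
    ← IsScalarTower.algebraMap_eq]

/-- `B → B̂ / I^k B̂` is surjective -/
lemma compl_mk_surjective (hI : I.FG) :
    Function.Surjective ((Ideal.Quotient.mk ((I ^ k).map (algebraMap R (Compl I B)))).comp
      (algebraMap B (Compl I B))) := by
  intro y
  obtain ⟨b, rfl⟩ := Ideal.Quotient.mk_surjective y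
  obtain ⟨a, ha⟩ := Ideal.Quotient.mk_surjective
    (AdicCompletion.evalₐ (I.map (algebraMap R B)) k b)
  refine ⟨a, ?_⟩
  rw [RingHom.comp_apply, Ideal.Quotient.eq, compl_map_pow_eq_ker I B k hI, RingHom.mem_ker,
    map_sub, sub_eq_zero]
  show AdicCompletion.evalₐ _ k (AdicCompletion.of _ _ a) = AdicCompletion.evalₐ _ k b
  rw [AdicCompletion.evalₐ_of, ha]

/-- the kernel of `B → B̂ / I^k B̂` is `I^k B` -/
lemma compl_mk_eq_zero_iff (hI : I.FG) (b : B) :
    Ideal.Quotient.mk ((I ^ k).map (algebraMap R (Compl I B))) (algebraMap B (Compl I B) b) = 0 ↔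
      b ∈ (I ^ k).map (algebraMap R B) := by
  rw [Ideal.Quotient.eq_zero_iff_mem, compl_map_pow_eq_ker I B k hI, RingHom.mem_ker]
  have : (AdicCompletion.evalₐ (I.map (algebraMap R B)) k).toRingHom (algebraMap B (Compl I B) b) =
      AdicCompletion.evalₐ (I.map (algebraMap R B)) k (AdicCompletion.of _ _ b) := rfl
  rw [this, AdicCompletion.evalₐ_of, Ideal.Quotient.eq_zero_iff_mem, Ideal.map_pow]

/-- the algebra structure `B/I^k B → B̂/I^k B̂` -/
noncomputable abbrev complQuotAlgebra : Algebra (B ⧸ (I ^ k).map (algebraMap R B))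
    (Compl I B ⧸ (I ^ k).map (algebraMap R (Compl I B))) :=
  Ideal.Quotient.algebraQuotientOfLEComap (by
    rw [← Ideal.map_le_iff_le_comap, Ideal.map_map, ← IsScalarTower.algebraMap_eq])

theorem complQuot_bijective (hI : I.FG) :
    letI := complQuotAlgebra I B k
    Function.Bijective (algebraMap (B ⧸ (I ^ k).map (algebraMap R B))
      (Compl I B ⧸ (I ^ k).map (algebraMap R (Compl I B)))) := by
  letI := complQuotAlgebra I B k
  constructor
  · rw [injective_iff_map_eq_zero]
    intro x hx
    obtain ⟨b, rfl⟩ := Ideal.Quotient.mk_surjective x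
    have h1 : algebraMap (B ⧸ (I ^ k).map (algebraMap R B))
        (Compl I B ⧸ (I ^ k).map (algebraMap R (Compl I B)))
        (Ideal.Quotient.mk _ b) =
        Ideal.Quotient.mk _ (algebraMap B (Compl I B) b) := rfl
    rw [h1, compl_mk_eq_zero_iff I B k hI] at hx
    exact Ideal.Quotient.eq_zero_iff_mem.mpr hx
  · intro y
    obtain ⟨b, hb⟩ := compl_mk_surjective I B k hI y
    exact ⟨Ideal.Quotient.mk _ b, hb⟩

/-- `(B/I^k B) ⊗_B B̂` is flat over `B/I^k B` -/
theorem flat_trunc_tensor_compl (hI : I.FG) :
    Module.Flat (B ⧸ (I ^ k).map (algebraMap R B))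
      ((B ⧸ (I ^ k).map (algebraMap R B)) ⊗[B] Compl I B) := by
  letI := complQuotAlgebra I B k
  have hbij := complQuot_bijective I B k hI
  have hflat : Module.Flat (B ⧸ (I ^ k).map (algebraMap R B))
      (Compl I B ⧸ (I ^ k).map (algebraMap R (Compl I B))) :=
    Module.Flat.of_linearEquiv (LinearEquiv.ofBijective
      (Algebra.linearMap (B ⧸ (I ^ k).map (algebraMap R B))
        (Compl I B ⧸ (I ^ k).map (algebraMap R (Compl I B)))) hbij).symm
  have htower : IsScalarTower B (B ⧸ (I ^ k).map (algebraMap R B))
      (Compl I B ⧸ (I ^ k).map (algebraMap R (Compl I B))) := by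
    apply IsScalarTower.of_algebraMap_eq
    intro x
    rfl
  exact flat_quot_tensor ((I ^ k).map (algebraMap R B)) (Compl I B)
    ((I ^ k).map (algebraMap R (Compl I B)))
    (by rw [Ideal.map_map, ← IsScalarTower.algebraMap_eq])

end Compl

section TFT
variable {R : Type u} [CommRing R] (I : Ideal R)

/-- the completion of a finite type algebra over an algebra topologically of finite type is
topologically of finite type -/
theorem topFiniteType_compl (hI : I.FG) {A : Type u} [CommRing A] [Algebra R A]
    (hA : TopFiniteType R I A) (C : Type u) [CommRing C] [Algebra R C] [Algebra A C]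
    [IsScalarTower R A C] [hft : Algebra.FiniteType A C] : TopFiniteType R I (Compl I C) := by
  have := compl_isAdicComplete I C hI
  apply Groth.Agent.S2293.result R I hI (Compl I C)
  obtain ⟨n, φ, hφ⟩ := hA
  have h1 := finiteType_trunc' I φ 1 hI hφ I (pow_one I).symm
  have hle : I.map (algebraMap R A) ≤
      (I.map (algebraMap R (Compl I C))).comap (algebraMap A (Compl I C)) := by
    rw [← Ideal.map_le_iff_le_comap, Ideal.map_map, ← IsScalarTower.algebraMap_eq]
  have hcomp : Ideal.quotientMap (I.map (algebraMap R (Compl I C))) (algebraMap R (Compl I C))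
      Ideal.le_comap_map =
      (Ideal.quotientMap (I.map (algebraMap R (Compl I C))) (algebraMap A (Compl I C)) hle).comp
        (Ideal.quotientMap (I.map (algebraMap R A)) (algebraMap R A) Ideal.le_comap_map) := by
    apply Ideal.Quotient.ringHom_ext
    ext x
    simp only [RingHom.comp_apply, Ideal.quotientMap_mk]
    rw [← IsScalarTower.algebraMap_apply]
  rw [hcomp]
  refine RingHom.FiniteType.comp ?_ h1
  have h2 : ((Ideal.quotientMap (I.map (algebraMap R (Compl I C))) (algebraMap A (Compl I C))
      hle).comp (Ideal.Quotient.mk (I.map (algebraMap R A)))).FiniteType := by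
    have h3 : (Ideal.quotientMap (I.map (algebraMap R (Compl I C))) (algebraMap A (Compl I C))
        hle).comp (Ideal.Quotient.mk (I.map (algebraMap R A))) =
        ((Ideal.Quotient.mk (I.map (algebraMap R (Compl I C)))).comp
          (algebraMap C (Compl I C))).comp (algebraMap A C) := by
      ext x
      simp only [RingHom.comp_apply, Ideal.quotientMap_mk]
      rw [← IsScalarTower.algebraMap_apply]
    rw [h3]
    refine RingHom.FiniteType.comp (RingHom.FiniteType.of_surjective _ ?_)
      (RingHom.finiteType_algebraMap.mpr hft)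
    have := compl_mk_surjective I C 1 hI
    rwa [pow_one] at this
  exact RingHom.FiniteType.of_comp_finiteType h2

end TFT

end Groth.Agent.Lib.BoschCore76
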