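import Mathlib.RingTheory.AdicCompletion.AsTensorProduct
import Mathlib.RingTheory.AdicCompletion.Algebra
import Groth.Agent.Lib.BoschCore76G

/-!
# Bosch FRG 7.3 core, part S: injectivity of `B̂ ⊗ M → M̂`

`ofTensorProduct_injective_of_isHausdorff` : for a finite `B`-module `M` and a finitely generated
ideal `J`, the canonical map `B̂ ⊗_B M → M̂` is injective as soon as `B̂ ⊗_B M` is `J B̂`-adically
separated. (Mathlib only, apart from `ker_evalₐ_eq_map`.)
-/

set_option autoImplicit false
universe u v
open TensorProduct

namespace Groth.Agent.Lib.BoschCore76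

section Inj
variable {B : Type*} [CommRing B] (J : Ideal B) (M : Type*) [AddCommGroup M] [Module B M]

/-- every element of `B̂ ⊗ M` is a combination of the generators of `M` -/
lemma exists_sum_tmul_eq {r : ℕ} (f : (Fin r → B) →ₗ[B] M) (hf : Function.Surjective f)
    (x : AdicCompletion J B ⊗[B] M) :
    ∃ c : Fin r → AdicCompletion J B, x = ∑ j, c j ⊗ₜ[B] f (Pi.single j 1) := by
  classical
  induction x using TensorProduct.induction_on with
  | zero => exact ⟨0, by simp⟩
  | tmul b m =>
    obtain ⟨c, rfl⟩ := hf m
    refine ⟨fun j => c j • b, ?_⟩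
    have hc : c = ∑ j, c j • (Pi.single j 1 : Fin r → B) := by
      funext i
      simp [Finset.sum_apply, Pi.single_apply]
    conv_lhs => rw [hc, map_sum, TensorProduct.tmul_sum]
    apply Finset.sum_congr rfl
    intro j _
    rw [map_smul, TensorProduct.tmul_smul, TensorProduct.smul_tmul']
  | add x y hx hy =>
    obtain ⟨c, rfl⟩ := hx
    obtain ⟨d, rfl⟩ := hy
    refine ⟨c + d, ?_⟩
    rw [← Finset.sum_add_distrib]
    apply Finset.sum_congr rfl
    intro j _
    rw [Pi.add_apply, TensorProduct.add_tmul]

theorem ofTensorProduct_injective_of_isHausdorff (hJ : J.FG) [Module.Finite B M]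
    [IsHausdorff (J.map (algebraMap B (AdicCompletion J B))) (AdicCompletion J B ⊗[B] M)] :
    Function.Injective (AdicCompletion.ofTensorProduct J M) := by
  classical
  rw [injective_iff_map_eq_zero]
  intro x hx
  apply IsHausdorff.haus' (I := J.map (algebraMap B (AdicCompletion J B))) x
  intro k
  rw [SModEq.zero]
  obtain ⟨r, f, hf⟩ := Module.Finite.exists_fin' B M
  obtain ⟨c, rfl⟩ := exists_sum_tmul_eq J M f hf x
  -- approximate the coefficients
  have hb : ∀ j, ∃ b : B, AdicCompletion.evalₐ J k (c j) = Ideal.Quotient.mk (J ^ k) b :=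
    fun j => (Ideal.Quotient.mk_surjective _).imp fun _ h => h.symm
  choose b hb using hb
  have hker : ∀ j, c j - algebraMap B (AdicCompletion J B) (b j) ∈
      (J.map (algebraMap B (AdicCompletion J B))) ^ k := by
    intro j
    rw [← Ideal.map_pow, ← ker_evalₐ_eq_map J hJ k, RingHom.mem_ker]
    show AdicCompletion.evalₐ J k (c j - AdicCompletion.of J B (b j)) = 0
    rw [map_sub, AdicCompletion.evalₐ_of, hb, sub_self]
  set y : M := ∑ j, b j • f (Pi.single j 1) with hy
  have hsplit : ∑ j, c j ⊗ₜ[B] f (Pi.single j 1) =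
      ∑ j, (c j - algebraMap B (AdicCompletion J B) (b j)) ⊗ₜ[B] f (Pi.single j 1) +
        (1 : AdicCompletion J B) ⊗ₜ[B] y := by
    rw [hy, TensorProduct.tmul_sum, ← Finset.sum_add_distrib]
    apply Finset.sum_congr rfl
    intro j _
    rw [TensorProduct.sub_tmul, TensorProduct.tmul_smul, TensorProduct.smul_tmul',
      Algebra.algebraMap_eq_smul_one]
    abel
  -- `y` lies in `J^k M`
  have hyk : y ∈ (J ^ k • ⊤ : Submodule B M) := by
    have h1 := congrArg (fun z => (AdicCompletion.eval J M k) z) hx
    simp only [map_zero] at h1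
    rw [hsplit, map_add, map_sum, map_add, map_sum] at h1
    have h2 : ∀ j, AdicCompletion.eval J M k (AdicCompletion.ofTensorProduct J M
        ((c j - algebraMap B (AdicCompletion J B) (b j)) ⊗ₜ[B] f (Pi.single j 1))) = 0 := by
      intro j
      rw [AdicCompletion.ofTensorProduct_tmul, AdicCompletion.eval_apply,
        AdicCompletion.smul_eval, AdicCompletion.val_smul_eq_evalₐ_smul]
      have : AdicCompletion.evalₐ J k (c j - algebraMap B (AdicCompletion J B) (b j)) = 0 := by
        have := hker j
        rw [← Ideal.map_pow, ← ker_evalₐ_eq_map J hJ k, RingHom.mem_ker] at this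
        exact this
      rw [this, zero_smul]
    rw [Finset.sum_eq_zero (fun j _ => h2 j), zero_add, AdicCompletion.ofTensorProduct_tmul,
      one_smul, AdicCompletion.eval_of] at h1
    exact (Submodule.Quotient.mk_eq_zero _).mp h1
  rw [hsplit]
  apply Submodule.add_mem
  · apply Submodule.sum_mem
    intro j _
    have : (c j - algebraMap B (AdicCompletion J B) (b j)) ⊗ₜ[B] f (Pi.single j 1) =
        (c j - algebraMap B (AdicCompletion J B) (b j)) •
          ((1 : AdicCompletion J B) ⊗ₜ[B] f (Pi.single j 1)) := by
      rw [TensorProduct.smul_tmul', smul_eq_mul, mul_one]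
    rw [this]
    exact Submodule.smul_mem_smul (hker j) trivial
  · refine Submodule.smul_induction_on (p := fun z => (1 : AdicCompletion J B) ⊗ₜ[B] z ∈
      ((J.map (algebraMap B (AdicCompletion J B))) ^ k • ⊤ :
        Submodule (AdicCompletion J B) (AdicCompletion J B ⊗[B] M))) hyk ?_ ?_
    · intro a ha m _
      have : (1 : AdicCompletion J B) ⊗ₜ[B] (a • m) =
          algebraMap B (AdicCompletion J B) a • ((1 : AdicCompletion J B) ⊗ₜ[B] m) := by
        rw [TensorProduct.tmul_smul, TensorProduct.smul_tmul', TensorProduct.smul_tmul',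
          Algebra.algebraMap_eq_smul_one, smul_eq_mul, mul_one]
      rw [this]
      refine Submodule.smul_mem_smul ?_ trivial
      rw [← Ideal.map_pow]
      exact Ideal.mem_map_of_mem _ ha
    · intro z w hz hw
      rw [TensorProduct.tmul_add]
      exact Submodule.add_mem _ hz hw

end Inj

end Groth.Agent.Lib.BoschCore76
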