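import Groth.Prelude.Def_W4bk4boschfrg79
import Mathlib.RingTheory.Flat.EquationalCriterion
import Mathlib.RingTheory.Localization.Away.Basic
import Mathlib.RingTheory.FiniteType

/-!
# Bosch FRG 8.2 core, part T: torsion of the blow-up chart algebras

* `exists_smul_eq_of_flat` : in a flat module, an element killed by finitely many scalars is a
  combination with coefficients killed by these scalars.
* `chart_torsion` : in the chart algebra `A[f_j/f_i]` over an algebra `A` without `I`-torsion, every
  element killed by `I^n` is killed by a power of `f_i`.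
* `chart_map_le` : `I^k A ⊆ (f)` implies `I^k A[f_j/f_i] ⊆ (f_i)`.
-/

set_option autoImplicit false
universe u v
open AdicRing MvPolynomial

namespace Groth.Agent.Lib.BoschCore76

section FlatAnn
variable {D : Type*} [CommRing D] {M : Type*} [AddCommGroup M] [Module D M]

theorem exists_smul_eq_of_flat [Module.Flat D M] (S : Finset D) (x : M)
    (hx : ∀ b ∈ S, b • x = 0) :
    ∃ (k : ℕ) (a : Fin k → D) (y : Fin k → M), x = ∑ j, a j • y j ∧
      ∀ b ∈ S, ∀ j, b * a j = 0 := by
  classical
  induction S using Finset.induction_on with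
  | empty => exact ⟨1, fun _ => 1, fun _ => x, by simp, by simp⟩
  | insert b S hb ih =>
    obtain ⟨k, a, y, hxy, ha⟩ := ih (fun b' hb' => hx b' (Finset.mem_insert_of_mem hb'))
    have hbx : ∑ j, (b * a j) • y j = 0 := by
      have h1 := hx b (Finset.mem_insert_self b S)
      rw [hxy, Finset.smul_sum] at h1
      rw [← h1]
      apply Finset.sum_congr rfl
      intro j _
      rw [mul_smul]
    obtain ⟨k', c, z, hyz, hc⟩ := Module.Flat.isTrivialRelation_of_sum_smul_eq_zero hbx
    refine ⟨k', fun l => ∑ j, a j * c j l, z, ?_, ?_⟩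
    · rw [hxy]
      have h2 : ∀ j, a j • y j = ∑ l, (a j * c j l) • z l := by
        intro j
        rw [hyz j, Finset.smul_sum]
        apply Finset.sum_congr rfl
        intro l _
        rw [mul_smul]
      rw [Finset.sum_congr rfl (fun j _ => h2 j), Finset.sum_comm]
      apply Finset.sum_congr rfl
      intro l _
      rw [Finset.sum_smul]
    · intro b' hb' l
      rw [Finset.mem_insert] at hb'
      rw [Finset.mul_sum]
      rcases hb' with rfl | hb'
      · rw [← hc l]
        apply Finset.sum_congr rfl
        intro j _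
        rw [mul_assoc]
      · apply Finset.sum_eq_zero
        intro j _
        rw [← mul_assoc, ha b' hb' j, zero_mul]

end FlatAnn

section Chart
variable {A : Type v} [CommRing A] {ι : Type} (f : ι → A) (i : ι)

/-- the class of the variable `ζ_j` in the chart algebra -/
noncomputable def chartZeta (j : {j : ι // j ≠ i}) : chartAlg f i :=
  Ideal.Quotient.mk _ (X j)

lemma chart_algebraMap (a : A) : algebraMap A (chartAlg f i) a = Ideal.Quotient.mk _ (C a) := rfl

lemma chart_rel (j : {j : ι // j ≠ i}) :
    algebraMap A (chartAlg f i) (f i) * chartZeta f i j = algebraMap A (chartAlg f i) (f j.1) := by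
  rw [chart_algebraMap, chart_algebraMap, chartZeta, ← map_mul, ← sub_eq_zero, ← map_sub,
    Ideal.Quotient.eq_zero_iff_mem]
  exact Ideal.subset_span ⟨j, rfl⟩

/-- multiplying by a power of `f_i` brings every element of the chart algebra into `A` -/
lemma chart_exists_pow_mul_eq_algebraMap (a : chartAlg f i) :
    ∃ (d : ℕ) (P : A), algebraMap A (chartAlg f i) (f i) ^ d * a = algebraMap A (chartAlg f i) P := by
  obtain ⟨p, rfl⟩ := Ideal.Quotient.mk_surjective a
  induction p using MvPolynomial.induction_on with
  | C c => exact ⟨0, c, by rw [pow_zero, one_mul]; rfl⟩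
  | add p q hp hq =>
    obtain ⟨d₁, P₁, h₁⟩ := hp
    obtain ⟨d₂, P₂, h₂⟩ := hq
    refine ⟨d₁ + d₂, f i ^ d₂ * P₁ + f i ^ d₁ * P₂, ?_⟩
    rw [map_add, mul_add, map_add, map_mul, map_mul, ← h₁, ← h₂, map_pow, map_pow]
    ring
  | mul_X p j hp =>
    obtain ⟨d₁, P₁, h₁⟩ := hp
    refine ⟨d₁ + 1, P₁ * f j.1, ?_⟩
    rw [map_mul, map_mul, ← h₁, ← chart_rel f i j]
    show _ = _ * (_ * Ideal.Quotient.mk _ (X j))
    ring

/-- the comparison map to the localization `A[1/f_i]` -/
noncomputable def chartEps : chartAlg f i →+* Localization.Away (f i) :=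
  Ideal.Quotient.lift _
    (eval₂Hom (algebraMap A (Localization.Away (f i)))
      (fun j : {j : ι // j ≠ i} => IsLocalization.mk' (Localization.Away (f i)) (f j.1)
        (⟨f i, Submonoid.mem_powers _⟩ : Submonoid.powers (f i))))
    (by
      have : Ideal.span (Set.range fun j : {j : ι // j ≠ i} =>
          (C (f i) * X j - C (f j.1) : MvPolynomial {j : ι // j ≠ i} A)) ≤
          RingHom.ker (eval₂Hom (algebraMap A (Localization.Away (f i)))
            (fun j : {j : ι // j ≠ i} => IsLocalization.mk' (Localization.Away (f i)) (f j.1)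
              (⟨f i, Submonoid.mem_powers _⟩ : Submonoid.powers (f i)))) := by
        rw [Ideal.span_le]
        rintro _ ⟨j, rfl⟩
        rw [SetLike.mem_coe, RingHom.mem_ker, map_sub, map_mul, eval₂Hom_C, eval₂Hom_C,
          eval₂Hom_X', sub_eq_zero]
        exact IsLocalization.mk'_spec' (Localization.Away (f i)) (f j.1)
          (⟨f i, Submonoid.mem_powers _⟩ : Submonoid.powers (f i))
      exact fun a ha => this ha)

lemma chartEps_algebraMap (a : A) :
    chartEps f i (algebraMap A (chartAlg f i) a) = algebraMap A (Localization.Away (f i)) a := by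
  rw [chart_algebraMap, chartEps, Ideal.Quotient.lift_mk, eval₂Hom_C]

/-- the kernel of `A → A[f_j/f_i]` consists of `f_i`-power torsion -/
lemma chart_ker_algebraMap (P : A) (hP : algebraMap A (chartAlg f i) P = 0) :
    ∃ e : ℕ, f i ^ e * P = 0 := by
  have h1 : algebraMap A (Localization.Away (f i)) P = 0 := by
    rw [← chartEps_algebraMap, hP, map_zero]
  obtain ⟨⟨_, e, rfl⟩, he⟩ :=
    (IsLocalization.map_eq_zero_iff (Submonoid.powers (f i)) (Localization.Away (f i)) P).mp h1
  exact ⟨e, he⟩

end Chart

section ChartTorsion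
variable {R : Type u} [CommRing R] (I : Ideal R) {A : Type v} [CommRing A] [Algebra R A]
  {ι : Type} (f : ι → A) (i : ι)

/-- in the chart algebra over an algebra without `I`-power torsion, `I`-power torsion is
`f_i`-power torsion -/
theorem chart_torsion (hA : NoPowTorsion I A) (n : ℕ) (S : Finset R)
    (hS : I ^ n = Ideal.span (S : Set R)) (a : chartAlg f i)
    (ha : ∀ b ∈ S, algebraMap R (chartAlg f i) b * a = 0) :
    ∃ m : ℕ, algebraMap A (chartAlg f i) (f i) ^ m * a = 0 := by
  classical
  obtain ⟨d, P, hdP⟩ := chart_exists_pow_mul_eq_algebraMap f i a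
  have h1 : ∀ b ∈ S, ∃ e : ℕ, f i ^ e * (b • P) = 0 := by
    intro b hb
    apply chart_ker_algebraMap f i
    rw [Algebra.smul_def, map_mul, ← IsScalarTower.algebraMap_apply, ← hdP, mul_left_comm,
      ha b hb, mul_zero]
  choose! e he using h1
  set E := S.sup e with hE
  have h2 : ∀ b ∈ S, b • (f i ^ E * P) = 0 := by
    intro b hb
    have hle : e b ≤ E := Finset.le_sup hb
    obtain ⟨c, hc⟩ := Nat.exists_eq_add_of_le hle
    rw [← mul_smul_comm, hc, pow_add, mul_comm (f i ^ e b), mul_assoc, he b hb, mul_zero]
  have h3 : ∀ b ∈ I ^ n, b • (f i ^ E * P) = 0 := by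
    intro b hb
    rw [hS] at hb
    induction hb using Submodule.span_induction with
    | mem b hb => exact h2 b hb
    | zero => rw [zero_smul]
    | add x y _ _ hx hy => rw [add_smul, hx, hy, add_zero]
    | smul c x _ hx => rw [smul_eq_mul, mul_smul, hx, smul_zero]
  have h4 : f i ^ E * P = 0 := hA _ n h3
  refine ⟨E + d, ?_⟩
  rw [pow_add, mul_assoc, hdP, ← map_pow, ← map_mul, h4, map_zero]

/-- if `I^k A` lies in the ideal generated by the `f_j`, then `I^k` maps into `(f_i)` in the
chart algebra -/
theorem chart_map_le (k : ℕ)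
    (hopen : (I ^ k).map (algebraMap R A) ≤ Ideal.span (Set.range f)) :
    (I ^ k).map (algebraMap R (chartAlg f i)) ≤
      Ideal.span {algebraMap A (chartAlg f i) (f i)} := by
  classical
  rw [IsScalarTower.algebraMap_eq R A (chartAlg f i), ← Ideal.map_map]
  refine le_trans (Ideal.map_mono hopen) ?_
  rw [Ideal.map_span, Ideal.span_le]
  rintro _ ⟨_, ⟨j, rfl⟩, rfl⟩
  by_cases hj : j = i
  · rw [hj]
    exact Ideal.subset_span rfl
  · rw [SetLike.mem_coe, ← chart_rel f i ⟨j, hj⟩]
    exact Ideal.mul_mem_right _ _ (Ideal.subset_span rfl)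

end ChartTorsion

end Groth.Agent.Lib.BoschCore76
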