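import Groth.Agent.Lib.BoschCore76R
import Groth.Agent.Lib.BoschCore76L
import Groth.Agent.Lib.AdicPi
import Mathlib.RingTheory.Jacobson.Ring
import Mathlib.RingTheory.Ideal.GoingUp
import Mathlib.RingTheory.Ideal.HasGoingUp
import Mathlib.RingTheory.KrullDimension.Basic
import Mathlib.RingTheory.LocalRing.ResidueField.Basic

/-!
# Bosch FRG 8.3 core, part U: rig-points are finite over the base

`R` a complete valuation ring of height one with ideal of definition `(t)`.
* `ringKrullDim_eq_of_isIntegral_of_injective` (copy of a standard fact).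
* `finite_of_isHausdorff_of_le_radical` : complete separated `D`, `m ≤ rad(I D)`, `D/m` finite and
  `D/ID` of finite type over `A` imply `D` finite over `A`.
* `finite_of_local_dim_one` : an `R`-algebra topologically of finite type without `t`-torsion which
  is a local domain of Krull dimension one is a finite `R`-module (Bosch 8.3/6).
* `inv_mem_of_isIntegral` : units of an integral extension lying in the subring are units there.
-/

set_option autoImplicit false
set_option linter.style.haveILetI false
universe u v
open AdicRing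

namespace Groth.Agent.Lib.BoschCore76

section Dim
variable {R S : Type*} [CommRing R] [CommRing S] [Algebra R S]

theorem ringKrullDim_le_of_isIntegral_of_injective [Algebra.IsIntegral R S]
    (hinj : Function.Injective (algebraMap R S)) : ringKrullDim R ≤ ringKrullDim S := by
  rw [ringKrullDim, Order.krullDim]
  refine iSup_le fun l ↦ ?_
  obtain ⟨Q, -, hQ, hQc⟩ := Ideal.exists_ideal_over_prime_of_isIntegral
    (S := S) l.head.asIdeal ⊥ (by
      rw [← RingHom.ker_eq_comap_bot, (RingHom.injective_iff_ker_eq_bot _).mp hinj]
      exact bot_le)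
  have : Q.LiesOver l.head.asIdeal := ⟨hQc.symm⟩
  obtain ⟨L, hL, -, -⟩ := Ideal.exists_ltSeries_of_hasGoingUp l Q
  rw [← hL]
  exact Order.LTSeries.length_le_krullDim L

theorem ringKrullDim_eq_of_isIntegral_of_injective [Algebra.IsIntegral R S]
    (hinj : Function.Injective (algebraMap R S)) : ringKrullDim R = ringKrullDim S :=
  le_antisymm (ringKrullDim_le_of_isIntegral_of_injective hinj)
    (Order.krullDim_le_of_strictMono
      (fun I ↦ ⟨Ideal.comap (algebraMap R S) I.asIdeal, inferInstance⟩)
      (fun I J hIJ ↦ by
        have : I.asIdeal < J.asIdeal := hIJ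
        exact Ideal.IsIntegral.comap_lt_comap (R := R) this))

end Dim

section Finite
variable {A : Type*} [CommRing A] {D : Type*} [CommRing D] [Algebra A D]

/-- If `D/m` is integral over `A` and `m ≤ rad J`, then `D/J` is integral over `A`. -/
theorem isIntegral_quotient_of_le_radical (J m : Ideal D) (hm : m ≤ J.radical)
    [Algebra.IsIntegral A (D ⧸ m)] : Algebra.IsIntegral A (D ⧸ J) := by
  refine ⟨fun y => ?_⟩
  obtain ⟨d, rfl⟩ := Ideal.Quotient.mk_surjective y
  obtain ⟨P, hP, hP0⟩ := Algebra.IsIntegral.isIntegral (R := A) (Ideal.Quotient.mk m d)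
  have h1 : Polynomial.aeval d P ∈ m := by
    rw [← Ideal.Quotient.eq_zero_iff_mem]
    have : Polynomial.aeval (Ideal.Quotient.mk m d) P
        = Ideal.Quotient.mk m (Polynomial.aeval d P) :=
      Polynomial.aeval_algHom_apply (Ideal.Quotient.mkₐ A m) d P
    rw [← this]
    exact hP0
  obtain ⟨N, hN⟩ := hm h1
  refine ⟨P ^ N, hP.pow N, ?_⟩
  have h2 : Polynomial.aeval (Ideal.Quotient.mk J d) (P ^ N)
      = Ideal.Quotient.mk J (Polynomial.aeval d (P ^ N)) :=
    Polynomial.aeval_algHom_apply (Ideal.Quotient.mkₐ A J) d (P ^ N)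
  show Polynomial.aeval (Ideal.Quotient.mk J d) (P ^ N) = 0
  rw [h2, map_pow, Ideal.Quotient.eq_zero_iff_mem]
  exact hN

theorem finite_of_isHausdorff_of_le_radical (I : Ideal A) [IsPrecomplete I A]
    [IsHausdorff I D] (m : Ideal D) (hm : m ≤ (I.map (algebraMap A D)).radical)
    [Module.Finite A (D ⧸ m)] [Algebra.FiniteType A (D ⧸ I.map (algebraMap A D))] :
    Module.Finite A D := by
  have hint0 : Algebra.IsIntegral A (D ⧸ m) := Algebra.IsIntegral.of_finite A _
  have hint : Algebra.IsIntegral A (D ⧸ I.map (algebraMap A D)) :=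
    isIntegral_quotient_of_le_radical _ m hm
  have hfin : Module.Finite A (D ⧸ I.map (algebraMap A D)) := Algebra.IsIntegral.finite
  apply Groth.Agent.Lib.AdicPi.finite_of_finite_quotient I D
  rw [Ideal.smul_top_eq_map]
  exact Module.Finite.equiv
    (Submodule.Quotient.restrictScalarsEquiv A (I.map (algebraMap A D))).symm

end Finite

section Units
variable {S B : Type*} [CommRing S] [CommRing B] [Algebra S B]

/-- in an integral extension, an element of the base which becomes a unit upstairs has its inverse
in the image of the base -/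
theorem exists_algebraMap_eq_inv_of_isIntegral [Algebra.IsIntegral S B] (x : S) (y : B)
    (hxy : algebraMap S B x * y = 1) : ∃ z : S, algebraMap S B z = y := by
  obtain ⟨P, hP, hP0'⟩ := Algebra.IsIntegral.isIntegral (R := S) y
  have hP0 : Polynomial.aeval y P = 0 := by rw [Polynomial.aeval_def]; exact hP0'
  -- y^d + a_{d-1} y^{d-1} + ... + a_0 = 0; multiply by x^{d-1}
  classical
  set d := P.natDegree with hd
  rcases Nat.eq_zero_or_pos d with h0 | hpos
  · -- P = 1, so B is trivial
    have hP1 : P = 1 := by
      rw [Polynomial.eq_one_of_monic_natDegree_zero hP (hd ▸ h0)]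
    rw [hP1] at hP0
    have h10 : (1 : B) = 0 := by simpa using hP0
    exact ⟨0, by rw [map_zero]; calc (0 : B) = y * 0 := by ring
      _ = y * 1 := by rw [h10]
      _ = y := mul_one y⟩
  · refine ⟨-∑ i ∈ Finset.range d, P.coeff i * x ^ (d - 1 - i), ?_⟩
    have hsum : Polynomial.aeval y P = y ^ d + ∑ i ∈ Finset.range d, algebraMap S B (P.coeff i) * y ^ i := by
      rw [Polynomial.aeval_eq_sum_range, Finset.sum_range_succ, ← hd, hP.coeff_natDegree, one_smul,
        add_comm]
      congr 1
      apply Finset.sum_congr rfl
      intro i _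
      rw [Algebra.smul_def]
    rw [hsum] at hP0
    have hx : ∀ k : ℕ, algebraMap S B x ^ k * y ^ k = 1 := by
      intro k
      rw [← mul_pow, hxy, one_pow]
    have h2 : algebraMap S B x ^ (d - 1) * (y ^ d + ∑ i ∈ Finset.range d,
        algebraMap S B (P.coeff i) * y ^ i) = 0 := by rw [hP0, mul_zero]
    have h3 : algebraMap S B x ^ (d - 1) * y ^ d = y := by
      have : d = (d - 1) + 1 := by omega
      conv_lhs => rw [this, pow_succ, ← mul_assoc]
      rw [Nat.add_sub_cancel, hx, one_mul]
    have h4 : ∀ i ∈ Finset.range d, algebraMap S B x ^ (d - 1) *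
        (algebraMap S B (P.coeff i) * y ^ i) =
        algebraMap S B (P.coeff i * x ^ (d - 1 - i)) := by
      intro i hi
      rw [Finset.mem_range] at hi
      have : d - 1 = (d - 1 - i) + i := by omega
      conv_lhs => rw [this, pow_add]
      rw [map_mul, map_pow]
      calc algebraMap S B x ^ (d - 1 - i) * algebraMap S B x ^ i *
            (algebraMap S B (P.coeff i) * y ^ i)
          = algebraMap S B (P.coeff i) * algebraMap S B x ^ (d - 1 - i) *
            (algebraMap S B x ^ i * y ^ i) := by ring
        _ = algebraMap S B (P.coeff i) * algebraMap S B x ^ (d - 1 - i) := by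
            rw [hx, mul_one]
    rw [mul_add, h3, Finset.mul_sum, Finset.sum_congr rfl h4] at h2
    rw [map_neg, map_sum]
    exact (eq_neg_of_add_eq_zero_left h2).symm

end Units

section RigPoint
variable {R : Type u} [CommRing R] [IsDomain R] [ValuationRing R] [Ring.KrullDimLE 1 R]
  (t : R) (ht : t ≠ 0) [IsAdicComplete (Ideal.span {t}) R]

include ht in
/-- Bosch 8.3/6 (i): rig-points are finite over `R` -/
theorem finite_of_local_dim_one (B : Type u) [CommRing B] [Algebra R B] [IsDomain B]
    [IsLocalRing B] (hB : TopFiniteType R (Ideal.span {t}) B)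
    (hnt : NoPowTorsion (Ideal.span {t}) B) (hdim : ringKrullDim B = 1) : Module.Finite R B := by
  have hR : IsBase R (Ideal.span {t}) := isBase_V R t ht
  have hI : (Ideal.span {t}).FG := ⟨{t}, by simp⟩
  have hcB : IsAdicComplete (Ideal.span {t}) B :=
    Groth.Agent.S11529.result R (Ideal.span {t}) hR B hB B
  have hHB : IsHausdorff (Ideal.span {t}) B := hcB.toIsHausdorff
  -- `t` is nonzero in `B`
  have hτ0 : algebraMap R B t ≠ 0 := by
    intro h0
    have h1 : (1 : B) = 0 := by
      apply hnt 1 1
      intro a ha
      rw [pow_one, Ideal.mem_span_singleton] at ha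
      obtain ⟨c, rfl⟩ := ha
      rw [Algebra.smul_def, map_mul, h0, zero_mul, zero_mul]
    exact one_ne_zero h1
  have hKB : Ring.KrullDimLE 1 B := by
    rw [Ring.krullDimLE_iff, hdim]
    rfl
  -- the maximal ideal is the radical of `tB`
  have hrad : IsLocalRing.maximalIdeal B ≤
      ((Ideal.span {t}).map (algebraMap R B)).radical := by
    rw [Ideal.radical_eq_sInf]
    apply le_sInf
    rintro q ⟨hq, hqp⟩
    have hqne : q ≠ ⊥ := by
      intro h
      rw [h] at hq
      exact hτ0 (by
        have := hq (Ideal.mem_map_of_mem _ (Ideal.mem_span_singleton_self t))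
        simpa using this)
    have hqmax : q.IsMaximal := hqp.isMaximal_of_ne_bot hqne
    rw [IsLocalRing.eq_maximalIdeal hqmax]
  -- the residue field is finite over `R`
  have hftq : Algebra.FiniteType R (B ⧸ (Ideal.span {t}).map (algebraMap R B)) := by
    obtain ⟨n, φ, hφ⟩ := hB
    have h1 := finiteType_trunc' (Ideal.span {t}) φ 1 hI hφ (Ideal.span {t})
      (pow_one _).symm
    have h2 : (algebraMap R (B ⧸ (Ideal.span {t}).map (algebraMap R B))).FiniteType := by
      have : algebraMap R (B ⧸ (Ideal.span {t}).map (algebraMap R B)) =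
          (Ideal.quotientMap ((Ideal.span {t}).map (algebraMap R B)) (algebraMap R B)
            Ideal.le_comap_map).comp (Ideal.Quotient.mk (Ideal.span {t})) := by
        ext x
        rfl
      rw [this]
      exact h1.comp (RingHom.FiniteType.of_surjective _ Ideal.Quotient.mk_surjective)
    exact RingHom.finiteType_algebraMap.mp h2
  have hle : (Ideal.span {t}).map (algebraMap R B) ≤ IsLocalRing.maximalIdeal B := by
    rw [Ideal.map_span, Set.image_singleton, Ideal.span_singleton_le_iff_mem,
      IsLocalRing.mem_maximalIdeal, mem_nonunits_iff]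
    intro hu
    -- `t` a unit of `B` contradicts separatedness
    have h1 : (1 : B) = 0 := by
      apply hHB.haus' 1
      intro k
      rw [SModEq.zero]
      obtain ⟨v, hv⟩ := hu.pow k
      have : (1 : B) = (t ^ k) • (↑v⁻¹ : B) := by
        rw [Algebra.smul_def, map_pow, ← hv, Units.mul_inv]
      rw [this]
      exact Submodule.smul_mem_smul (Ideal.pow_mem_pow (Ideal.mem_span_singleton_self t) k)
        trivial
    exact one_ne_zero h1
  have hftκ : Algebra.FiniteType R (B ⧸ IsLocalRing.maximalIdeal B) := by
    have hsurj : Function.Surjective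
        (Ideal.Quotient.factorₐ R hle) := Ideal.Quotient.factor_surjective hle
    exact Algebra.FiniteType.of_surjective (Ideal.Quotient.factorₐ R hle) hsurj
  have hfinκ : Module.Finite R (B ⧸ IsLocalRing.maximalIdeal B) := by
    letI : Field (B ⧸ IsLocalRing.maximalIdeal B) := Ideal.Quotient.field _
    have hloc : IsLocalHom (algebraMap R (B ⧸ IsLocalRing.maximalIdeal B)) := by
      refine ⟨fun a ha => ?_⟩
      by_contra hna
      obtain ⟨k, hk⟩ := exists_dvd_pow' a hna t ht
      -- `a^k = t c` maps to zero in the residue field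
      obtain ⟨c, hc⟩ := hk
      have h0 : algebraMap R (B ⧸ IsLocalRing.maximalIdeal B) t = 0 := by
        rw [IsScalarTower.algebraMap_apply R B, Ideal.Quotient.algebraMap_eq,
          Ideal.Quotient.eq_zero_iff_mem]
        exact hle (Ideal.mem_map_of_mem _ (Ideal.mem_span_singleton_self t))
      have h1 : (algebraMap R (B ⧸ IsLocalRing.maximalIdeal B) a) ^ k = 0 := by
        rw [← map_pow, hc, map_mul, h0, zero_mul]
      exact (ha.pow k).ne_zero h1
    letI : Algebra (IsLocalRing.ResidueField R) (B ⧸ IsLocalRing.maximalIdeal B) :=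
      (IsLocalRing.ResidueField.lift (algebraMap R (B ⧸ IsLocalRing.maximalIdeal B))).toAlgebra
    have htow : IsScalarTower R (IsLocalRing.ResidueField R)
        (B ⧸ IsLocalRing.maximalIdeal B) :=
      IsScalarTower.of_algebraMap_eq (fun x => by
        show _ = IsLocalRing.ResidueField.lift _ (IsLocalRing.residue R x)
        rw [IsLocalRing.ResidueField.lift_residue_apply])
    have hft2 : Algebra.FiniteType (IsLocalRing.ResidueField R)
        (B ⧸ IsLocalRing.maximalIdeal B) :=
      Algebra.FiniteType.of_restrictScalars_finiteType R _ _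
    have hfin2 : Module.Finite (IsLocalRing.ResidueField R) (B ⧸ IsLocalRing.maximalIdeal B) :=
      finite_of_finite_type_of_isJacobsonRing _ _
    have hfin1 : Module.Finite R (IsLocalRing.ResidueField R) :=
      Module.Finite.of_surjective (Algebra.linearMap R (IsLocalRing.ResidueField R))
        IsLocalRing.residue_surjective
    exact Module.Finite.trans (IsLocalRing.ResidueField R) _
  exact finite_of_isHausdorff_of_le_radical (Ideal.span {t}) (IsLocalRing.maximalIdeal B) hrad

end RigPoint

end Groth.Agent.Lib.BoschCore76
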