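import Groth.Agent.Lib.BoschCore76U
import Groth.Agent.Lib.BoschCore76H
import Groth.Agent.S4610
import Mathlib.RingTheory.Ideal.GoingDown
import Mathlib.RingTheory.Flat.Basic

/-!
# Bosch FRG 8.3 core, part V: closed points of the special fibre lift to rig-points

* `isAdicComplete_of_finite_free` : finite free modules over a complete ring are complete.
* `exists_rpow_algHom` : universal property of restricted power series.
* `finite_quotient_isMaximal` : residue fields at maximal ideals containing `t` are finite over `R`.
* `exists_rigPoint_rpow` : every maximal ideal `m ∋ t` of `R⟨ζ⟩` contains a prime `p ∌ t` with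
  `R⟨ζ⟩/p` of dimension one.
-/

set_option autoImplicit false
set_option linter.style.haveILetI false
universe u v
open AdicRing

namespace Groth.Agent.Lib.BoschCore76

section FreeComplete
variable {R : Type*} [CommRing R] (I : Ideal R)

theorem isHausdorff_pi [IsHausdorff I R] (ι : Type*) [Finite ι] : IsHausdorff I (ι → R) := by
  refine ⟨fun x hx => ?_⟩
  funext i
  apply IsHausdorff.haus' (I := I) (x i)
  intro k
  have hk := hx k
  rw [SModEq.zero] at hk ⊢
  have := (Groth.Agent.Lib.AdicPi.mem_smul_top_pi_iff (I ^ k) ι x).mp hk i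
  rw [smul_eq_mul, Ideal.mul_top]
  exact this

theorem isAdicComplete_of_finite_free [IsAdicComplete I R] (M : Type*) [AddCommGroup M]
    [Module R M] [Module.Finite R M] [Module.Free R M] : IsAdicComplete I M := by
  have h2 : IsPrecomplete I M := isPrecomplete_of_finite I M
  have h1 : IsHausdorff I M := by
    let e := (Module.Free.chooseBasis R M).equivFun
    have := isHausdorff_pi I (Module.Free.ChooseBasisIndex R M)
    exact isHausdorff_of_injective I e.toLinearMap e.injective
  exact { h1, h2 with }

end FreeComplete

section Lift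
variable {R : Type u} [CommRing R] (I : Ideal R)

/-- universal property of restricted power series -/
theorem exists_rpow_algHom (n : ℕ) (B : Type u) [CommRing B] [Algebra R B]
    [IsAdicComplete (I.map (algebraMap R B)) B] (b : Fin n → B) :
    ∃ φ : RPow R I n →ₐ[R] B, ∀ p : MvPolynomial (Fin n) R,
      φ (algebraMap (MvPolynomial (Fin n) R) (RPow R I n) p) = MvPolynomial.aeval b p := by
  classical
  set K : Ideal B := I.map (algebraMap R B) with hK
  let ψ : MvPolynomial (Fin n) R →ₐ[R] B := MvPolynomial.aeval b
  set J : Ideal (MvPolynomial (Fin n) R) := I.map (MvPolynomial.C : R →+* MvPolynomial (Fin n) R)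
    with hJ
  have hJK : J.map (ψ : MvPolynomial (Fin n) R →+* B) = K := by
    rw [hJ, Ideal.map_map, hK]
    congr 1
    ext a
    simp only [RingHom.coe_comp, RingHom.coe_coe, Function.comp_apply]
    rw [show (MvPolynomial.C a : MvPolynomial (Fin n) R) = algebraMap R _ a from rfl,
      AlgHom.commutes]
  let c : AdicCompletion J (MvPolynomial (Fin n) R) →+* AdicCompletion K B :=
    FSch.complMap J K (ψ : MvPolynomial (Fin n) R →+* B) hJK.le
  let φ₀ : AdicCompletion J (MvPolynomial (Fin n) R) →+* B :=
    ((AdicCompletion.ofAlgEquiv K).symm : AdicCompletion K B →+* B).comp c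
  have hφ₀of : ∀ p : MvPolynomial (Fin n) R,
      φ₀ (algebraMap _ (AdicCompletion J (MvPolynomial (Fin n) R)) p) = ψ p := by
    intro p
    simp only [φ₀, c, RingHom.coe_comp, Function.comp_apply]
    rw [Groth.Agent.Lib.ComplMap.complMap_algebraMap]
    rw [AdicCompletion.algebraMap_apply]
    simp
  let φ : AdicCompletion J (MvPolynomial (Fin n) R) →ₐ[R] B :=
    { φ₀ with
      commutes' := fun a => by
        have : algebraMap R (AdicCompletion J (MvPolynomial (Fin n) R)) a =
            algebraMap _ (AdicCompletion J (MvPolynomial (Fin n) R))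
              (algebraMap R (MvPolynomial (Fin n) R) a) := by
          rw [AdicCompletion.algebraMap_apply, AdicCompletion.algebraMap_apply]
          rfl
        show φ₀ _ = _
        rw [this, hφ₀of, AlgHom.commutes] }
  exact ⟨φ, hφ₀of⟩

end Lift

section ResidueFinite
variable {R : Type u} [CommRing R] [IsDomain R] [ValuationRing R] [Ring.KrullDimLE 1 R]
  (t : R) (ht : t ≠ 0)

include ht in
/-- residue fields at maximal ideals containing `t` are finite over `R` -/
theorem finite_quotient_isMaximal (B : Type u) [CommRing B] [Algebra R B]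
    (hB : TopFiniteType R (Ideal.span {t}) B) (m : Ideal B) [hm : m.IsMaximal]
    (htm : algebraMap R B t ∈ m) : Module.Finite R (B ⧸ m) := by
  have hI : (Ideal.span {t}).FG := ⟨{t}, by simp⟩
  have hle : (Ideal.span {t}).map (algebraMap R B) ≤ m := by
    rw [Ideal.map_span, Set.image_singleton, Ideal.span_singleton_le_iff_mem]
    exact htm
  have hftq : Algebra.FiniteType R (B ⧸ (Ideal.span {t}).map (algebraMap R B)) := by
    obtain ⟨n, φ, hφ⟩ := hB
    have h1 := finiteType_trunc' (Ideal.span {t}) φ 1 hI hφ (Ideal.span {t})
      (pow_one _).symm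
    have h2 : (algebraMap R (B ⧸ (Ideal.span {t}).map (algebraMap R B))).FiniteType := by
      have : algebraMap R (B ⧸ (Ideal.span {t}).map (algebraMap R B)) =
          (Ideal.quotientMap ((Ideal.span {t}).map (algebraMap R B)) (algebraMap R B)
            Ideal.le_comap_map).comp (Ideal.Quotient.mk (Ideal.span {t})) := by
        ext x
        rfl
      rw [this]
      exact h1.comp (RingHom.FiniteType.of_surjective _ Ideal.Quotient.mk_surjective)
    exact RingHom.finiteType_algebraMap.mp h2
  have hftκ : Algebra.FiniteType R (B ⧸ m) := by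
    have hsurj : Function.Surjective
        (Ideal.Quotient.factorₐ R hle) := Ideal.Quotient.factor_surjective hle
    exact Algebra.FiniteType.of_surjective (Ideal.Quotient.factorₐ R hle) hsurj
  letI : Field (B ⧸ m) := Ideal.Quotient.field _
  have hloc : IsLocalHom (algebraMap R (B ⧸ m)) := by
    refine ⟨fun a ha => ?_⟩
    by_contra hna
    obtain ⟨k, hk⟩ := exists_dvd_pow' a hna t ht
    obtain ⟨c, hc⟩ := hk
    have h0 : algebraMap R (B ⧸ m) t = 0 := by
      rw [IsScalarTower.algebraMap_apply R B, Ideal.Quotient.algebraMap_eq,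
        Ideal.Quotient.eq_zero_iff_mem]
      exact htm
    have h1 : (algebraMap R (B ⧸ m) a) ^ k = 0 := by
      rw [← map_pow, hc, map_mul, h0, zero_mul]
    exact (ha.pow k).ne_zero h1
  letI : Algebra (IsLocalRing.ResidueField R) (B ⧸ m) :=
    (IsLocalRing.ResidueField.lift (algebraMap R (B ⧸ m))).toAlgebra
  have htow : IsScalarTower R (IsLocalRing.ResidueField R) (B ⧸ m) :=
    IsScalarTower.of_algebraMap_eq (fun x => by
      show _ = IsLocalRing.ResidueField.lift _ (IsLocalRing.residue R x)
      rw [IsLocalRing.ResidueField.lift_residue_apply])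
  have hft2 : Algebra.FiniteType (IsLocalRing.ResidueField R) (B ⧸ m) :=
    Algebra.FiniteType.of_restrictScalars_finiteType R _ _
  have hfin2 : Module.Finite (IsLocalRing.ResidueField R) (B ⧸ m) :=
    finite_of_finite_type_of_isJacobsonRing _ _
  have hfin1 : Module.Finite R (IsLocalRing.ResidueField R) :=
    Module.Finite.of_surjective (Algebra.linearMap R (IsLocalRing.ResidueField R))
      IsLocalRing.residue_surjective
  exact Module.Finite.trans (IsLocalRing.ResidueField R) _

end ResidueFinite

section DimR
variable {R : Type u} [CommRing R] [IsDomain R] [ValuationRing R] [Ring.KrullDimLE 1 R]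
  (t : R) (ht : t ≠ 0) [IsAdicComplete (Ideal.span {t}) R]

include ht in
theorem ringKrullDim_eq_one_V : ringKrullDim R = 1 := by
  apply le_antisymm
  · exact Ring.krullDimLE_iff.mp inferInstance
  · rw [ringKrullDim, Order.one_le_krullDim_iff]
    obtain ⟨htu, -⟩ := isBase_V_unpack t ht
    refine ⟨⟨⊥, Ideal.isPrime_bot⟩, ⟨IsLocalRing.maximalIdeal R, inferInstance⟩, ?_⟩
    rw [← PrimeSpectrum.asIdeal_lt_asIdeal]
    show (⊥ : Ideal R) < IsLocalRing.maximalIdeal R
    rw [bot_lt_iff_ne_bot]
    intro h
    have : t ∈ IsLocalRing.maximalIdeal R := (IsLocalRing.mem_maximalIdeal t).mpr htu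
    rw [h] at this
    exact ht (by simpa using this)

end DimR

end Groth.Agent.Lib.BoschCore76
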