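import Groth.Agent.Lib.BoschCore76V
import Mathlib.RingTheory.Henselian
import Mathlib.RingTheory.Idempotents
import Mathlib.RingTheory.Artinian.Ring
import Mathlib.RingTheory.LocalRing.NonLocalRing
import Mathlib.RingTheory.Flat.TorsionFree
import Mathlib.RingTheory.LocalRing.Module

/-!
# Bosch FRG 8.3 core, part X: finite domains over a complete height one valuation ring are local

* `exists_idempotent_lift_of_isAdicComplete` : idempotents lift along `S → S/I`, `S` `I`-adically
  complete.
* `isUnit_of_isUnit_mk_of_le_jacobson` : units lift along `S → S/J`, `J ≤ Jac S`.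
* `isLocalRing_of_artinian_reduced` : a nontrivial reduced Artinian ring with only trivial
  idempotents is local.
* `isLocalRing_of_finite_domain` : a domain finite and torsion free over a complete height one
  valuation ring is local (the Henselian property).
-/

set_option autoImplicit false
set_option linter.style.haveILetI false
universe u v
open AdicRing Polynomial

namespace Groth.Agent.Lib.BoschCore76

section Idem
variable {S : Type*} [CommRing S]

theorem exists_idempotent_lift_of_isAdicComplete (I : Ideal S) [IsAdicComplete I S] (b : S)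
    (hb : b * b - b ∈ I) : ∃ e : S, IsIdempotentElem e ∧ e - b ∈ I := by
  rcases subsingleton_or_nontrivial S with hS | hS
  · exact ⟨0, Subsingleton.elim _ _, by rw [Subsingleton.elim (0 - b) 0]; exact I.zero_mem⟩
  have hH : HenselianRing S I := inferInstance
  have hmonic : (X ^ 2 - X : S[X]).Monic := by
    apply Polynomial.monic_X_pow_sub
    rw [Polynomial.degree_X]
    norm_num
  have hev : (X ^ 2 - X : S[X]).eval b = b * b - b := by
    simp [pow_two]
  have hder : (X ^ 2 - X : S[X]).derivative.eval b = 2 * b - 1 := by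
    simp only [derivative_sub, derivative_X_pow, derivative_X, eval_sub, eval_mul, eval_C, eval_pow,
      eval_X, eval_one]
    norm_num
  obtain ⟨a, ha, hab⟩ := hH.is_henselian (X ^ 2 - X) hmonic b (hev ▸ hb) (by
    rw [hder]
    refine IsUnit.of_mul_eq_one (Ideal.Quotient.mk I (2 * b - 1)) ?_
    rw [← map_mul, ← map_one (Ideal.Quotient.mk I), Ideal.Quotient.eq]
    have : (2 * b - 1) * (2 * b - 1) - 1 = 4 * (b * b - b) := by ring
    rw [this]
    exact I.mul_mem_left _ hb)
  refine ⟨a, ?_, hab⟩
  have : a * a - a = 0 := by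
    have := ha
    rw [Polynomial.IsRoot, Polynomial.eval_sub, Polynomial.eval_pow, Polynomial.eval_X] at this
    rw [← this]; ring
  exact sub_eq_zero.mp this

theorem isUnit_of_isUnit_mk_of_le_jacobson (J : Ideal S) (hJ : J ≤ Ideal.jacobson ⊥) (a : S)
    (ha : IsUnit (Ideal.Quotient.mk J a)) : IsUnit a := by
  obtain ⟨c, hc⟩ := ha.exists_right_inv
  obtain ⟨b, rfl⟩ := Ideal.Quotient.mk_surjective c
  rw [← map_mul, ← map_one (Ideal.Quotient.mk J), Ideal.Quotient.eq] at hc
  have h1 := (Ideal.mem_jacobson_bot.mp (hJ hc)) 1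
  have h2 : (a * b - 1) * 1 + 1 = a * b := by ring
  rw [h2] at h1
  exact isUnit_of_mul_isUnit_left h1

theorem isLocalRing_of_le_jacobson (J : Ideal S) (hJ : J ≤ Ideal.jacobson ⊥)
    [IsLocalRing (S ⧸ J)] : IsLocalRing S := by
  have : Nontrivial S := by
    have : Nontrivial (S ⧸ J) := inferInstance
    exact (Ideal.Quotient.mk J).domain_nontrivial
  refine IsLocalRing.of_isUnit_or_isUnit_one_sub_self fun a => ?_
  rcases IsLocalRing.isUnit_or_isUnit_one_sub_self (Ideal.Quotient.mk J a) with h | h
  · exact Or.inl (isUnit_of_isUnit_mk_of_le_jacobson J hJ a h)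
  · refine Or.inr (isUnit_of_isUnit_mk_of_le_jacobson J hJ (1 - a) ?_)
    rwa [map_sub, map_one]

/-- a nontrivial reduced Artinian ring with only trivial idempotents is local -/
theorem isLocalRing_of_artinian_reduced [IsArtinianRing S] [IsReduced S] [Nontrivial S]
    (h : ∀ e : S, IsIdempotentElem e → e = 0 ∨ e = 1) : IsLocalRing S := by
  classical
  by_contra hnl
  have hnt : Nontrivial (MaximalSpectrum S) := (IsLocalRing.not_isLocalRing_tfae.out 0 1).mp hnl
  obtain ⟨I₁, I₂, hne⟩ := hnt
  let φ := IsArtinianRing.equivPi S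
  have hfield : ∀ I : MaximalSpectrum S, Nontrivial (S ⧸ I.asIdeal) := fun I =>
    Ideal.Quotient.nontrivial_iff.mpr I.isMaximal.ne_top
  set ε : S := φ.symm (Pi.single I₁ 1) with hε
  have hidem : IsIdempotentElem ε := by
    rw [IsIdempotentElem, hε, ← map_mul, ← Pi.single_mul, mul_one]
  have hφε : φ ε = Pi.single I₁ 1 := φ.apply_symm_apply _
  rcases h ε hidem with h0 | h1
  · rw [h0, map_zero] at hφε
    have := congrFun hφε I₁
    rw [Pi.single_eq_same, Pi.zero_apply] at this
    exact zero_ne_one this
  · rw [h1, map_one] at hφε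
    have := congrFun hφε I₂
    rw [Pi.single_eq_of_ne' hne, Pi.one_apply] at this
    exact one_ne_zero this

end Idem

section V1
variable {R : Type u} [CommRing R] [IsDomain R] [ValuationRing R] [Ring.KrullDimLE 1 R]
  (t : R) (ht : t ≠ 0) [IsAdicComplete (Ideal.span {t}) R]

include ht in
/-- a domain which is finite and torsion free over a complete height one valuation ring is local
(such a valuation ring is Henselian) -/
theorem isLocalRing_of_finite_domain (C : Type v) [CommRing C] [IsDomain C] [Algebra R C]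
    [Module.Finite R C] (hinj : Function.Injective (algebraMap R C)) : IsLocalRing C := by
  -- `C` is flat, hence free, hence complete
  have hflat : Module.Flat R C := by
    rw [Module.Flat.flat_iff_torsion_eq_bot_of_isBezout, Submodule.eq_bot_iff]
    rintro x ⟨⟨r, hr⟩, hrx⟩
    have hr0 : r ≠ 0 := nonZeroDivisors.ne_zero hr
    have h1 : algebraMap R C r * x = 0 := by
      rw [← Algebra.smul_def]; exact hrx
    rcases mul_eq_zero.mp h1 with h | h
    · exact absurd (hinj (h.trans (map_zero _).symm)) hr0
    · exact h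
  have hfree : Module.Free R C := Module.free_of_flat_of_isLocalRing
  have hc1 : IsAdicComplete (Ideal.span {t}) C := isAdicComplete_of_finite_free _ C
  set tC : Ideal C := (Ideal.span {t}).map (algebraMap R C) with htC
  have hc2 : IsAdicComplete tC C := (IsAdicComplete.map_algebraMap_iff (Ideal.span {t}) C).mpr hc1
  set J : Ideal C := tC.radical with hJ
  have hJjac : J ≤ Ideal.jacobson ⊥ := by
    refine Ideal.radical_le_jacobson.trans ?_
    refine (Ideal.jacobson_mono (IsAdicComplete.le_jacobson_bot tC)).trans ?_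
    rw [Ideal.jacobson_idem]
  have hJtop : J ≠ ⊤ := by
    intro h
    have h2 : (Ideal.jacobson (⊥ : Ideal C)) = ⊤ := top_le_iff.mp (h ▸ hJjac)
    rw [Ideal.jacobson_eq_top_iff] at h2
    exact bot_ne_top h2
  have hnt : Nontrivial (C ⧸ J) := Ideal.Quotient.nontrivial_iff.mpr hJtop
  have hred : IsReduced (C ⧸ J) :=
    (Ideal.isRadical_iff_quotient_reduced J).mp (Ideal.radical_isRadical tC)
  -- `C/J` is Artinian
  set m := IsLocalRing.maximalIdeal R with hm
  have hmJ : ∀ a ∈ m, algebraMap R C a ∈ J := by
    intro a ha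
    obtain ⟨k, hk⟩ := exists_dvd_pow' a ((IsLocalRing.mem_maximalIdeal a).mp ha) t ht
    refine ⟨k, ?_⟩
    rw [← map_pow]
    obtain ⟨c, hc⟩ := hk
    rw [hc, map_mul]
    exact Ideal.mul_mem_right _ _ (Ideal.mem_map_of_mem _ (Ideal.mem_span_singleton_self t))
  let ψ : R ⧸ m →+* C ⧸ J :=
    Ideal.Quotient.lift m ((Ideal.Quotient.mk J).comp (algebraMap R C)) (fun a ha => by
      rw [RingHom.comp_apply]; exact Ideal.Quotient.eq_zero_iff_mem.mpr (hmJ a ha))
  letI : Field (R ⧸ m) := Ideal.Quotient.field m
  letI : Algebra (R ⧸ m) (C ⧸ J) := ψ.toAlgebra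
  have htow : IsScalarTower R (R ⧸ m) (C ⧸ J) := IsScalarTower.of_algebraMap_eq (fun x => rfl)
  have hfinR : Module.Finite R (C ⧸ J) :=
    Module.Finite.of_surjective (Ideal.Quotient.mkₐ R J).toLinearMap
      (Ideal.Quotient.mkₐ_surjective R J)
  have hfink : Module.Finite (R ⧸ m) (C ⧸ J) := Module.Finite.of_restrictScalars_finite R _ _
  have hart : IsArtinianRing (C ⧸ J) := IsArtinianRing.of_finite (R ⧸ m) (C ⧸ J)
  -- idempotents of `C/J` are trivial
  have hidem : ∀ ε : C ⧸ J, IsIdempotentElem ε → ε = 0 ∨ ε = 1 := by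
    intro ε hε
    let f : C ⧸ tC →+* C ⧸ J := Ideal.Quotient.factor (Ideal.le_radical : tC ≤ J)
    have hnil : ∀ x ∈ RingHom.ker f, IsNilpotent x := by
      intro x hx
      obtain ⟨c, rfl⟩ := Ideal.Quotient.mk_surjective x
      rw [RingHom.mem_ker, Ideal.Quotient.factor_mk, Ideal.Quotient.eq_zero_iff_mem] at hx
      obtain ⟨n, hn⟩ := hx
      exact ⟨n, by rw [← map_pow]; exact Ideal.Quotient.eq_zero_iff_mem.mpr hn⟩
    obtain ⟨e', he', hfe'⟩ := exists_isIdempotentElem_eq_of_ker_isNilpotent f hnil ε
      (Ideal.Quotient.factor_surjective _ ε) hε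
    obtain ⟨b, rfl⟩ := Ideal.Quotient.mk_surjective e'
    have hb : b * b - b ∈ tC := by
      rw [← Ideal.Quotient.eq, map_mul]
      exact he'
    obtain ⟨e, he, heb⟩ := exists_idempotent_lift_of_isAdicComplete tC b hb
    have hεe : ε = Ideal.Quotient.mk J e := by
      rw [← hfe', ← Ideal.Quotient.factor_mk (Ideal.le_radical : tC ≤ J) e]
      congr 1
      exact (Ideal.Quotient.eq.mpr heb).symm
    rcases IsIdempotentElem.iff_eq_zero_or_one.mp he with h | h
    · left; rw [hεe, h, map_zero]
    · right; rw [hεe, h, map_one]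
  have hloc : IsLocalRing (C ⧸ J) := isLocalRing_of_artinian_reduced hidem
  exact isLocalRing_of_le_jacobson J hJjac

end V1

end Groth.Agent.Lib.BoschCore76
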