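import Groth.Agent.Lib.BoschCore76X
import Mathlib.RingTheory.IntegralClosure.IsIntegralClosure.Basic
import Mathlib.RingTheory.Valuation.ValuationRing
import Mathlib.Algebra.Polynomial.EraseLead

/-!
# Bosch FRG 8.3 core, part Y: the integral closure of a complete height one valuation ring in an
algebraic field extension is a valuation ring

* `mem_or_inv_mem_of_aeval_eq_zero` : Seidenberg's lemma: for a local subalgebra `A` of a field `L`
  which is integrally closed in `L`, a root `x` of a polynomial over `A` with a unit coefficient
  satisfies `x ∈ A` or `x⁻¹ ∈ A`.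
* `exists_dvd_of_finset`, `exists_primitive_of_valuationRing` : primitive part over a valuation ring.
* `isLocalRing_integralClosure_V` : the integral closure in a field is local.
* `isIntegral_or_isIntegral_inv_V` : it is a valuation ring of the field.
-/

set_option autoImplicit false
set_option linter.style.haveILetI false
universe u v
open AdicRing Polynomial

namespace Groth.Agent.Lib.BoschCore76

section Seidenberg
variable {L : Type*} [Field L] {R₀ : Type*} [CommRing R₀] [Algebra R₀ L]

theorem mem_or_inv_mem_of_aeval_eq_zero (A : Subalgebra R₀ L) [IsLocalRing A]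
    (hA : ∀ x : L, IsIntegral A x → x ∈ A) (x : L) :
    ∀ (n : ℕ) (p : A[X]), p.natDegree = n → aeval x p = 0 → (∃ i, IsUnit (p.coeff i)) →
      x ∈ A ∨ x⁻¹ ∈ A := by
  intro n
  induction n using Nat.strong_induction_on with
  | _ n ih =>
    intro p hn hp hu
    obtain ⟨i, hi⟩ := hu
    have hy : ((p.leadingCoeff : A) : L) * x ∈ A := hA _ (by
      have := isIntegral_leadingCoeff_smul p x hp
      rwa [Algebra.smul_def] at this)
    by_cases hlc : IsUnit p.leadingCoeff
    · left
      obtain ⟨u, hu⟩ := hlc
      have h1 : ((↑u⁻¹ : A) : L) * ((u : A) : L) = 1 := by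
        rw [← Subalgebra.coe_mul, Units.inv_mul, Subalgebra.coe_one]
      have : x = ((↑u⁻¹ : A) : L) * (((p.leadingCoeff : A) : L) * x) := by
        rw [← mul_assoc, ← hu, h1, one_mul]
      rw [this]
      exact A.mul_mem (SetLike.coe_mem _) hy
    · have hile : i ≤ n := hn ▸ le_natDegree_of_ne_zero hi.ne_zero
      have hin : i ≠ n := by
        rintro rfl
        apply hlc
        rwa [leadingCoeff, hn]
      have hilt : i < n := lt_of_le_of_ne hile hin
      have hn1 : n - 1 + 1 = n := by omega
      set y : A := ⟨_, hy⟩ with hydef
      set q : A[X] := p.eraseLead + C y * X ^ (n - 1) with hqdef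
      have hqdeg : q.natDegree < n := by
        have h1 : q.natDegree ≤ n - 1 := by
          refine (natDegree_add_le _ _).trans (max_le ?_ (natDegree_C_mul_X_pow_le _ _))
          exact hn ▸ eraseLead_natDegree_le p
        omega
      have hq : aeval x q = 0 := by
        have h1 : aeval x p = aeval x p.eraseLead + ((p.leadingCoeff : A) : L) * x ^ n := by
          conv_lhs => rw [← eraseLead_add_C_mul_X_pow p]
          rw [map_add, map_mul, aeval_C, map_pow, aeval_X, hn]
          rfl
        rw [hqdef, map_add, map_mul, aeval_C, map_pow, aeval_X]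
        have h2 : algebraMap A L y * x ^ (n - 1) = ((p.leadingCoeff : A) : L) * x ^ n := by
          show (((p.leadingCoeff : A) : L) * x) * x ^ (n - 1) = _
          rw [mul_assoc, ← pow_succ', hn1]
        rw [h2, ← h1, hp]
      have hqc : ∀ j, j ≠ n → q.coeff j = p.coeff j + if j = n - 1 then y else 0 := by
        intro j hj
        rw [hqdef, coeff_add, coeff_C_mul_X_pow, eraseLead_coeff_of_ne j (hn ▸ hj)]
      by_cases hq1 : IsUnit (q.coeff (n - 1))
      · exact ih q.natDegree hqdeg q rfl hq ⟨n - 1, hq1⟩
      · by_cases hi1 : i = n - 1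
        · right
          have h2 : q.coeff (n - 1) = p.coeff (n - 1) + y := by
            rw [hqc (n - 1) (by omega), if_pos rfl]
          have hyu : IsUnit y := by
            have h3 : IsUnit (q.coeff (n - 1) + (-y)) := by
              rw [h2, add_neg_cancel_right, ← hi1]; exact hi
            rcases IsLocalRing.isUnit_or_isUnit_of_isUnit_add h3 with h | h
            · exact absurd h hq1
            · simpa using h.neg
          obtain ⟨v, hv⟩ := hyu
          have h4 : ((v : A) : L) * ((↑v⁻¹ : A) : L) = 1 := by
            rw [← Subalgebra.coe_mul, Units.mul_inv, Subalgebra.coe_one]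
          have h5 : ((v : A) : L) = ((p.leadingCoeff : A) : L) * x := by rw [hv]
          have hx0 : x ≠ 0 := by
            rintro rfl
            rw [mul_zero] at h5
            rw [h5, zero_mul] at h4
            exact zero_ne_one h4
          have hl0 : ((p.leadingCoeff : A) : L) ≠ 0 := by
            intro h
            rw [h, zero_mul] at h5
            rw [h5, zero_mul] at h4
            exact zero_ne_one h4
          have hvinv : ((↑v⁻¹ : A) : L) = (((p.leadingCoeff : A) : L) * x)⁻¹ := by
            rw [← h5]; exact eq_inv_of_mul_eq_one_right h4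
          have : x⁻¹ = ((p.leadingCoeff : A) : L) * ((↑v⁻¹ : A) : L) := by
            rw [hvinv, mul_inv, mul_inv_cancel_left₀ hl0]
          rw [this]
          exact A.mul_mem (SetLike.coe_mem _) (SetLike.coe_mem _)
        · have h2 : q.coeff i = p.coeff i := by
            rw [hqc i hin, if_neg hi1, add_zero]
          exact ih q.natDegree hqdeg q rfl hq ⟨i, h2 ▸ hi⟩

end Seidenberg

section Primitive
variable {R : Type*} [CommRing R] [IsDomain R] [ValuationRing R]

theorem exists_dvd_of_finset {ι : Type*} (f : ι → R) (s : Finset ι) (hs : s.Nonempty) :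
    ∃ i ∈ s, ∀ j ∈ s, f i ∣ f j := by
  classical
  induction hs using Finset.Nonempty.cons_induction with
  | singleton a =>
    exact ⟨a, Finset.mem_singleton_self a, fun j hj => by rw [Finset.mem_singleton.mp hj]⟩
  | cons a s ha hs ih =>
    obtain ⟨i, his, hi⟩ := ih
    rcases ValuationRing.dvd_total (f a) (f i) with h | h
    · refine ⟨a, Finset.mem_cons_self a s, fun j hj => ?_⟩
      rcases Finset.mem_cons.mp hj with rfl | hj
      · exact dvd_rfl
      · exact h.trans (hi j hj)
    · refine ⟨i, Finset.mem_cons.mpr (Or.inr his), fun j hj => ?_⟩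
      rcases Finset.mem_cons.mp hj with rfl | hj
      · exact h
      · exact hi j hj

/-- over a valuation ring, a nonzero polynomial is a nonzero constant times a polynomial with a
coefficient equal to one -/
theorem exists_primitive_of_valuationRing (p : R[X]) (hp : p ≠ 0) :
    ∃ (c : R) (q : R[X]), c ≠ 0 ∧ p = C c * q ∧ ∃ i, q.coeff i = 1 := by
  classical
  have hs : p.support.Nonempty := Polynomial.support_nonempty.mpr hp
  obtain ⟨i₀, hi₀, hdvd⟩ := exists_dvd_of_finset (fun i => p.coeff i) p.support hs
  have hc0 : p.coeff i₀ ≠ 0 := Polynomial.mem_support_iff.mp hi₀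
  have hd : ∀ j, ∃ d, p.coeff j = p.coeff i₀ * d := by
    intro j
    by_cases hj : j ∈ p.support
    · exact hdvd j hj
    · exact ⟨0, by rw [Polynomial.notMem_support_iff.mp hj, mul_zero]⟩
  choose d hd using hd
  refine ⟨p.coeff i₀, ∑ j ∈ p.support, monomial j (d j), hc0, ?_, i₀, ?_⟩
  · rw [Finset.mul_sum]
    conv_lhs => rw [← Polynomial.sum_monomial_eq p, Polynomial.sum_def]
    apply Finset.sum_congr rfl
    intro j _
    rw [C_mul_monomial, ← hd j]
  · rw [Polynomial.finsetSum_coeff]
    simp only [coeff_monomial]
    rw [Finset.sum_ite_eq' p.support i₀, if_pos hi₀]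
    have := hd i₀
    exact (mul_left_cancel₀ hc0 (by rw [mul_one]; exact this)).symm

end Primitive

section ThmV
variable {R : Type u} [CommRing R] [IsDomain R] [ValuationRing R] [Ring.KrullDimLE 1 R]
  (t : R) (ht : t ≠ 0) [IsAdicComplete (Ideal.span {t}) R]
  (L : Type v) [Field L] [Algebra R L]

include ht in
/-- the integral closure of a complete height one valuation ring in a field is local -/
theorem isLocalRing_integralClosure_V (hinj : Function.Injective (algebraMap R L)) :
    IsLocalRing (integralClosure R L) := by
  refine IsLocalRing.of_nonunits_add fun a b ha hb hab => ?_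
  obtain ⟨w, hw⟩ := hab.exists_right_inv
  have hfin : ({(a : L), (b : L), (w : L)} : Set L).Finite := by
    simp
  have hint : ∀ x ∈ ({(a : L), (b : L), (w : L)} : Set L), IsIntegral R x := by
    intro x hx
    simp only [Set.mem_insert_iff, Set.mem_singleton_iff] at hx
    rcases hx with rfl | rfl | rfl
    · exact a.2
    · exact b.2
    · exact w.2
  set C : Subalgebra R L := Algebra.adjoin R ({(a : L), (b : L), (w : L)} : Set L) with hC
  have hCA : C ≤ integralClosure R L := Algebra.adjoin_le hint
  have hCfin : Module.Finite R C := Algebra.finite_adjoin_of_finite_of_isIntegral hfin hint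
  have hCinj : Function.Injective (algebraMap R C) := by
    intro x y hxy
    apply hinj
    have := congrArg (fun z : C => (z : L)) hxy
    exact this
  have hCloc : IsLocalRing C := isLocalRing_of_finite_domain t ht C hCinj
  have haC : (a : L) ∈ C := Algebra.subset_adjoin (by simp)
  have hbC : (b : L) ∈ C := Algebra.subset_adjoin (by simp)
  have hwC : (w : L) ∈ C := Algebra.subset_adjoin (by simp)
  have hu : IsUnit ((⟨a, haC⟩ : C) + ⟨b, hbC⟩) := by
    refine IsUnit.of_mul_eq_one (⟨w, hwC⟩ : C) ?_
    apply Subtype.ext
    have := congrArg (fun z : integralClosure R L => (z : L)) hw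
    exact this
  let ι := Subalgebra.inclusion hCA
  rcases IsLocalRing.isUnit_or_isUnit_of_isUnit_add hu with h | h
  · apply ha
    have := h.map ι
    have e : ι ⟨↑a, haC⟩ = a := Subtype.ext rfl
    rwa [e] at this
  · apply hb
    have := h.map ι
    have e : ι ⟨↑b, hbC⟩ = b := Subtype.ext rfl
    rwa [e] at this

include ht in
/-- the integral closure of a complete height one valuation ring in an algebraic field extension
is a valuation ring of that field -/
theorem isIntegral_or_isIntegral_inv_V (hinj : Function.Injective (algebraMap R L))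
    [Algebra.IsAlgebraic R L] (x : L) : IsIntegral R x ∨ IsIntegral R x⁻¹ := by
  obtain ⟨p, hp0, hp⟩ := Algebra.IsAlgebraic.isAlgebraic (R := R) x
  obtain ⟨c, q, hc, hpq, i, hi⟩ := exists_primitive_of_valuationRing p hp0
  have hq : aeval x q = 0 := by
    rw [hpq, map_mul, aeval_C] at hp
    rcases mul_eq_zero.mp hp with h | h
    · exact absurd (hinj (h.trans (map_zero _).symm)) hc
    · exact h
  have hloc : IsLocalRing (integralClosure R L) := isLocalRing_integralClosure_V t ht L hinj
  have hA : ∀ z : L, IsIntegral (integralClosure R L) z → z ∈ integralClosure R L :=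
    fun z hz => isIntegral_trans z hz
  set q' : (integralClosure R L)[X] := q.map (algebraMap R (integralClosure R L)) with hq'
  have hq'x : aeval x q' = 0 := by
    rw [hq', aeval_map_algebraMap]; exact hq
  have hu : ∃ j, IsUnit (q'.coeff j) := ⟨i, by rw [hq', coeff_map, hi, map_one]; exact isUnit_one⟩
  exact mem_or_inv_mem_of_aeval_eq_zero (integralClosure R L) hA x q'.natDegree q' rfl hq'x hu

end ThmV

end Groth.Agent.Lib.BoschCore76
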