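import Groth.Agent.Lib.BoschCore76Y
import Mathlib.Algebra.Polynomial.Reverse
import Mathlib.FieldTheory.Minpoly.Field
import Mathlib.RingTheory.Algebraic.Integral

/-!
# Bosch FRG 8.3 core, part Z: minimal polynomial of the inverse

* `minpoly_coeff_zero_mul_inv` : the constant coefficients of the minimal polynomials of `α` and
  `α⁻¹` are inverse to each other.
-/

set_option autoImplicit false
set_option linter.style.haveILetI false
universe u v
open Polynomial

namespace Groth.Agent.Lib.BoschCore76

section MinpolyInv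
variable {K L : Type*} [Field K] [Field L] [Algebra K L]

theorem aeval_inv_reverse_eq_zero (α : L) (hα0 : α ≠ 0) (p : K[X]) (hp : aeval α p = 0) :
    aeval α⁻¹ p.reverse = 0 := by
  letI : Invertible α := invertibleOfNonzero hα0
  have h := (eval₂_reverse_eq_zero_iff (algebraMap K L) α p).mpr (by rwa [← aeval_def])
  rwa [invOf_eq_inv, ← aeval_def] at h

theorem minpoly_coeff_zero_mul_inv (α : L) (hα : IsIntegral K α) (hα0 : α ≠ 0) :
    (minpoly K α).coeff 0 * (minpoly K α⁻¹).coeff 0 = 1 := by
  have hβ : IsIntegral K α⁻¹ := hα.inv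
  set f := minpoly K α with hf
  set g := minpoly K α⁻¹ with hg
  have hf0 : f.coeff 0 ≠ 0 := minpoly.coeff_zero_ne_zero hα hα0
  have hfne : f ≠ 0 := minpoly.ne_zero hα
  have hgne : g ≠ 0 := minpoly.ne_zero hβ
  have hfmon : f.Monic := minpoly.monic hα
  have hgmon : g.Monic := minpoly.monic hβ
  -- divisibilities
  have h1 : g ∣ f.reverse := minpoly.dvd K _ (aeval_inv_reverse_eq_zero α hα0 f (minpoly.aeval K α))
  have h2 : f ∣ g.reverse := by
    have := aeval_inv_reverse_eq_zero α⁻¹ (inv_ne_zero hα0) g (minpoly.aeval K α⁻¹)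
    rw [inv_inv] at this
    exact minpoly.dvd K _ this
  have hrf : f.reverse ≠ 0 := fun h => hfne (reverse_eq_zero.mp h)
  have hrg : g.reverse ≠ 0 := fun h => hgne (reverse_eq_zero.mp h)
  have htr : f.natTrailingDegree = 0 := natTrailingDegree_eq_zero.mpr (Or.inr hf0)
  have hd1 : f.reverse.natDegree = f.natDegree := by rw [reverse_natDegree, htr, Nat.sub_zero]
  have hd2 : g.natDegree ≤ f.natDegree := hd1 ▸ natDegree_le_of_dvd h1 hrf
  have hd3 : f.natDegree ≤ g.natDegree :=
    (natDegree_le_of_dvd h2 hrg).trans (reverse_natDegree_le g)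
  have hd : g.natDegree = f.natDegree := le_antisymm hd2 hd3
  obtain ⟨q, hq⟩ := h1
  have hq0 : q ≠ 0 := by
    rintro rfl
    rw [mul_zero] at hq
    exact hrf hq
  have hqd : q.natDegree = 0 := by
    have := congrArg natDegree hq
    rw [natDegree_mul hgne hq0, hd1, hd] at this
    omega
  obtain ⟨c, rfl⟩ : ∃ c, q = C c := ⟨q.coeff 0, eq_C_of_natDegree_eq_zero hqd⟩
  have hc : c = f.coeff 0 := by
    have := congrArg leadingCoeff hq
    rw [reverse_leadingCoeff, leadingCoeff_mul, hgmon.leadingCoeff, one_mul, leadingCoeff_C,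
      trailingCoeff, htr] at this
    exact this.symm
  have := congrArg (fun p => p.coeff 0) hq
  simp only [coeff_zero_reverse, mul_coeff_zero, coeff_C_zero] at this
  rw [hfmon.leadingCoeff] at this
  rw [← hc, mul_comm]
  exact this.symm

end MinpolyInv

end Groth.Agent.Lib.BoschCore76
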