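import Groth.Agent.Lib.AlgClosedGeom
import Mathlib.AlgebraicGeometry.IdealSheaf.Subscheme
import Mathlib.AlgebraicGeometry.Morphisms.ClosedImmersion
import Mathlib.AlgebraicGeometry.PullbackCarrier
import Mathlib.CategoryTheory.Monoidal.Cartesian.Over

/-!
# Products of irreducible closed subsets over an algebraically closed field (helper45)

`isIrreducible_box`: for schemes `X`, `Y` over an algebraically closed field `k` and closed
irreducible subsets `A ⊆ X`, `B ⊆ Y`, the subset `pr₁⁻¹ A ∩ pr₂⁻¹ B` of `X ×ₖ Y` is irreducible.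
-/

set_option autoImplicit false
universe u
open CategoryTheory CategoryTheory.Limits MonoidalCategory CartesianMonoidalCategory
  AlgebraicGeometry

namespace Groth.Agent.Lib.BoxIrr45

/-- The reduced induced closed subscheme on a closed subset, with its inclusion. -/
lemma exists_closedSubscheme {X : Scheme.{u}} {A : Set X} (hA : IsClosed A) :
    ∃ (𝒜 : Scheme.{u}) (i : 𝒜 ⟶ X), IsClosedImmersion i ∧ Set.range i = A := by
  let I := Scheme.IdealSheafData.vanishingIdeal (X := X) ⟨A, hA⟩
  refine ⟨I.subscheme, I.subschemeι, inferInstance, ?_⟩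
  rw [Scheme.IdealSheafData.range_subschemeι]
  exact Scheme.IdealSheafData.coe_support_vanishingIdeal _

lemma irreducibleSpace_of_isClosedImmersion {X 𝒜 : Scheme.{u}} (i : 𝒜 ⟶ X) [IsClosedImmersion i]
    (h : IsIrreducible (Set.range i)) : IrreducibleSpace 𝒜 := by
  have hemb : Topology.IsEmbedding i := i.isClosedEmbedding.isEmbedding
  have h2 : IrreducibleSpace (Set.range i) := Subtype.irreducibleSpace h
  exact hemb.toHomeomorph.irreducibleSpace_iff.mpr h2

variable {k : Type u} [Field k] [IsAlgClosed k]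

theorem isIrreducible_box (X Y : Over (Spec (CommRingCat.of k))) {A : Set X.left} {B : Set Y.left}
    (hA : IsIrreducible A) (hAc : IsClosed A) (hB : IsIrreducible B) (hBc : IsClosed B) :
    IsIrreducible ((fst X Y).left ⁻¹' A ∩ (snd X Y).left ⁻¹' B) := by
  obtain ⟨𝒜, iA, hiA, rA⟩ := exists_closedSubscheme hAc
  obtain ⟨ℬ, iB, hiB, rB⟩ := exists_closedSubscheme hBc
  have : IrreducibleSpace 𝒜 := irreducibleSpace_of_isClosedImmersion iA (rA ▸ hA)
  have : IrreducibleSpace ℬ := irreducibleSpace_of_isClosedImmersion iB (rB ▸ hB)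
  have hgi : GeometricallyIrreducible (iA ≫ X.hom) :=
    Groth.Agent.Lib.AlgClosedGeom.geometricallyIrreducible_of_irreducibleSpace _
  have huo : UniversallyOpen (iA ≫ X.hom) := inferInstance
  have hirr : IrreducibleSpace ↥(pullback (iA ≫ X.hom) (iB ≫ Y.hom)) := inferInstance
  have hr := Scheme.Pullback.range_map (f := iA ≫ X.hom) (g := iB ≫ Y.hom) X.hom Y.hom iA iB
    (𝟙 _) (by simp) (by simp)
  rw [rA, rB] at hr
  change IsIrreducible (pullback.fst X.hom Y.hom ⁻¹' A ∩ pullback.snd X.hom Y.hom ⁻¹' B)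
  rw [← hr, ← Set.image_univ]
  exact (IrreducibleSpace.isIrreducible_univ _).image _ (Scheme.Hom.continuous _).continuousOn

end Groth.Agent.Lib.BoxIrr45
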