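import Mathlib
import Groth.Agent.S9407
import Groth.Agent.Lib.FlatDescent

/-!
# Ascent of normality (and reducedness) along smooth / étale ring maps  (helper30)

Main results (all for `A B : Type u`):
* `normal_localization_of_etale` : `A` integrally closed domain, `B` étale over `A`, `T = B_q`
  ⇒ `T` integrally closed domain.
* `isIntegrallyClosed_mvPolynomial_fin` : `A[X₁..Xₙ]` integrally closed.
* `normal_localization_of_smooth` : same with `B` smooth over `A`.
* `normal_of_smooth_atPrime` : `B` smooth over arbitrary `A`, `q` over `p`, `A_p` integrally closed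
  domain ⇒ `B_q` integrally closed domain.
* `isReduced_of_smooth_atPrime` : the same for reducedness.
* `normal_of_faithfullyFlat` : descent along faithfully flat maps.

Technique: Mathlib's `TensorProduct.toIntegralClosure_bijective_of_smooth` (smooth base change
commutes with integral closure) applied to `Frac A`.
-/

set_option autoImplicit false
universe u
open TensorProduct

namespace Groth.Agent.Lib.H30NormalSmooth

/-- If base change to `T` commutes with the integral closure of `A` in `K`, `A` is integrally
closed in `K`, and `T → T ⊗ K` is injective, then `T` is integrally closed in `T ⊗[A] K`. -/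
theorem isIntegrallyClosedIn_tensor {A T K : Type*} [CommRing A] [CommRing T] [CommRing K]
    [Algebra A T] [Algebra A K] [IsIntegrallyClosedIn A K]
    (hinj : Function.Injective (algebraMap T (T ⊗[A] K)))
    (hbij : Function.Bijective (TensorProduct.toIntegralClosure A T K)) :
    IsIntegrallyClosedIn T (T ⊗[A] K) := by
  rw [isIntegrallyClosedIn_iff]
  refine ⟨hinj, ?_⟩
  intro x hx
  obtain ⟨y, hy⟩ := hbij.2 ⟨x, hx⟩
  have key : ∀ y : T ⊗[A] integralClosure A K,
      ∃ b : T, ((TensorProduct.toIntegralClosure A T K y : integralClosure T (T ⊗[A] K)) : T ⊗[A] K)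
        = algebraMap T (T ⊗[A] K) b := by
    intro y
    induction y with
    | zero => exact ⟨0, by simp⟩
    | add y₁ y₂ h₁ h₂ =>
      obtain ⟨b₁, h₁⟩ := h₁
      obtain ⟨b₂, h₂⟩ := h₂
      exact ⟨b₁ + b₂, by simp [h₁, h₂, TensorProduct.add_tmul]⟩
    | tmul t z =>
      obtain ⟨a, ha⟩ := IsIntegrallyClosedIn.isIntegral_iff.mp z.2
      refine ⟨a • t, ?_⟩
      simp only [TensorProduct.toIntegralClosure, AlgHom.coe_codRestrict,
        Algebra.TensorProduct.map_tmul, AlgHom.coe_id, id_eq, Subalgebra.coe_val,
        Algebra.TensorProduct.algebraMap_apply, Algebra.algebraMap_self, RingHom.id_apply]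
      rw [← ha, Algebra.algebraMap_eq_smul_one, TensorProduct.tmul_smul, TensorProduct.smul_tmul']
  obtain ⟨b, hb⟩ := key y
  exact ⟨b, by rw [← hb, hy]⟩

/-- Idempotents of a local ring are trivial. -/
theorem eq_zero_or_eq_one_of_isIdempotentElem {T : Type*} [CommRing T] [IsLocalRing T] {e : T}
    (he : IsIdempotentElem e) : e = 0 ∨ e = 1 := by
  rcases IsLocalRing.isUnit_or_isUnit_one_sub_self e with h | h
  · right
    have : e * (1 - e) = 0 := by rw [mul_sub, mul_one, he.eq, sub_self]
    have h2 : 1 - e = 0 := by
      have := congrArg (fun z => ((h.unit⁻¹ : Tˣ) : T) * z) this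
      simpa [← mul_assoc] using this
    exact (sub_eq_zero.mp h2).symm
  · left
    have : (1 - e) * e = 0 := by rw [sub_mul, one_mul, he.eq, sub_self]
    have := congrArg (fun z => ((h.unit⁻¹ : Tˣ) : T) * z) this
    simpa [← mul_assoc] using this

/-- A product of fields in which a ring with only trivial idempotents is integrally closed
is a field. -/
theorem isField_of_equiv_pi {T L : Type*} [CommRing T] [Nontrivial T] [CommRing L] [Algebra T L]
    [IsIntegrallyClosedIn T L]
    (hT : ∀ e : T, IsIdempotentElem e → e = 0 ∨ e = 1)
    {I : Type*} {F : I → Type*} [∀ i, Field (F i)] (φ : L ≃+* (∀ i, F i)) : IsField L := by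
  classical
  have hinj : Function.Injective (algebraMap T L) := IsIntegralClosure.algebraMap_injective T T L
  have : Nontrivial L := hinj.nontrivial
  refine ⟨exists_pair_ne L, mul_comm, ?_⟩
  intro x hx
  let x' := φ x
  let e' : ∀ i, F i := fun i => if x' i = 0 then 0 else 1
  let y' : ∀ i, F i := fun i => (x' i)⁻¹
  have he' : e' * e' = e' := by
    funext i
    by_cases h : x' i = 0 <;> simp [e', h]
  have hxy' : x' * y' = e' := by
    funext i
    by_cases h : x' i = 0 <;> simp [e', y', h]
  have hxe' : x' * e' = x' := by
    funext i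
    by_cases h : x' i = 0 <;> simp [e', h]
  have he : IsIdempotentElem (φ.symm e') := by
    unfold IsIdempotentElem
    rw [← map_mul, he']
  have hint : IsIntegral T (φ.symm e') :=
    ⟨Polynomial.X ^ 2 - Polynomial.X, Polynomial.monic_X_pow_sub (by simp), by
      simp [pow_two, he.eq]⟩
  obtain ⟨b, hb⟩ := IsIntegrallyClosedIn.isIntegral_iff.mp hint
  have hbid : IsIdempotentElem b := by
    apply hinj
    rw [map_mul, hb, he.eq]
  rcases hT b hbid with rfl | rfl
  · exfalso
    apply hx
    rw [map_zero] at hb
    have h0 : e' = 0 := by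
      have := congrArg φ hb
      simpa using this.symm
    apply φ.injective
    rw [map_zero]
    change x' = 0
    rw [← hxe', h0, mul_zero]
  · refine ⟨φ.symm y', ?_⟩
    apply φ.injective
    rw [map_mul, φ.apply_symm_apply, map_one]
    change x' * y' = 1
    rw [hxy']
    rw [map_one] at hb
    have := congrArg φ hb
    simpa using this.symm

/-- Core: a flat, formally étale, essentially finite type local algebra `T` over an integrally
closed domain `A`, for which base change commutes with integral closure in `Frac A`, is an
integrally closed domain. -/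
theorem normal_of_formallyEtale_local (A T : Type u) [CommRing A] [IsDomain A]
    [IsIntegrallyClosed A] [CommRing T] [IsLocalRing T] [Algebra A T] [Module.Flat A T]
    [Algebra.FormallyEtale A T] [Algebra.EssFiniteType A T]
    (hbij : Function.Bijective (TensorProduct.toIntegralClosure A T (FractionRing A))) :
    IsDomain T ∧ IsIntegrallyClosed T := by
  let K := FractionRing A
  have hinj : Function.Injective (algebraMap T (T ⊗[A] K)) :=
    Algebra.TensorProduct.includeLeft_injective (S := T) (IsFractionRing.injective A K)
  have hcl : IsIntegrallyClosedIn T (T ⊗[A] K) := isIntegrallyClosedIn_tensor hinj hbij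
  obtain ⟨I, _, Ai, _, _, e, _⟩ :=
    (Algebra.FormallyEtale.iff_exists_algEquiv_prod K (K ⊗[A] T)).mp inferInstance
  let φ : T ⊗[A] K ≃+* (∀ i, Ai i) :=
    (Algebra.TensorProduct.comm A T K).toRingEquiv.trans e.toRingEquiv
  have hfield : IsField (T ⊗[A] K) :=
    isField_of_equiv_pi (T := T) (fun e he => eq_zero_or_eq_one_of_isIdempotentElem he) φ
  let := hfield.toField
  have : FaithfulSMul T (T ⊗[A] K) := (faithfulSMul_iff_algebraMap_injective T _).mpr hinj
  exact ⟨hinj.isDomain, IsIntegrallyClosed.of_isIntegrallyClosedIn T (T ⊗[A] K)⟩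

/-- Étale ascent of normality, local form: if `B` is étale over an integrally closed domain `A`
and `T` is the localization of `B` at a prime, then `T` is an integrally closed domain. -/
theorem normal_localization_of_etale (A B : Type u) [CommRing A] [IsDomain A]
    [IsIntegrallyClosed A] [CommRing B] [Algebra A B] [Algebra.Etale A B]
    (q : Ideal B) [q.IsPrime] (T : Type u) [CommRing T] [Algebra B T] [IsLocalization.AtPrime T q] :
    IsDomain T ∧ IsIntegrallyClosed T := by
  let : Algebra A T := ((algebraMap B T).comp (algebraMap A B)).toAlgebra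
  have : IsScalarTower A B T := IsScalarTower.of_algebraMap_eq' rfl
  have : IsLocalRing T := IsLocalization.AtPrime.isLocalRing T q
  have : Module.Flat B T := IsLocalization.flat T q.primeCompl
  have : Module.Flat A T := Module.Flat.trans A B T
  have : Algebra.FormallyEtale B T := Algebra.FormallyEtale.of_isLocalization q.primeCompl
  have : Algebra.FormallyEtale A T := Algebra.FormallyEtale.comp A B T
  have : Algebra.EssFiniteType B T := Algebra.EssFiniteType.of_isLocalization T q.primeCompl
  have : Algebra.EssFiniteType A T := Algebra.EssFiniteType.comp A B T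
  apply normal_of_formallyEtale_local A T
  exact TensorProduct.toIntegralClosure_bijective_of_tower (S := B)
    TensorProduct.toIntegralClosure_bijective_of_smooth
    (TensorProduct.toIntegralClosure_bijective_of_isLocalization q.primeCompl)

/-- Polynomial rings in finitely many variables over an integrally closed domain are integrally
closed. -/
theorem isIntegrallyClosed_mvPolynomial_fin (A : Type u) [CommRing A] [IsDomain A]
    [IsIntegrallyClosed A] (n : ℕ) : IsIntegrallyClosed (MvPolynomial (Fin n) A) := by
  induction n with
  | zero => exact IsIntegrallyClosed.of_equiv (MvPolynomial.isEmptyRingEquiv A (Fin 0)).symm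
  | succ n ih =>
    exact IsIntegrallyClosed.of_equiv (MvPolynomial.finSuccEquiv A n).symm.toRingEquiv

/-- Transport of "integrally closed domain" along ring isomorphisms. -/
theorem normal_of_ringEquiv {R S : Type*} [CommRing R] [CommRing S] (e : R ≃+* S)
    (h : IsDomain R ∧ IsIntegrallyClosed R) : IsDomain S ∧ IsIntegrallyClosed S := by
  obtain ⟨h1, h2⟩ := h
  exact ⟨e.symm.injective.isDomain, IsIntegrallyClosed.of_equiv e⟩

/-- Smooth ascent of normality, local form. -/
theorem normal_localization_of_smooth (A B : Type u) [CommRing A] [IsDomain A]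
    [IsIntegrallyClosed A] [CommRing B] [Algebra A B] [Algebra.Smooth A B]
    (q : Ideal B) [q.IsPrime] (T : Type u) [CommRing T] [Algebra B T] [IsLocalization.AtPrime T q] :
    IsDomain T ∧ IsIntegrallyClosed T := by
  obtain ⟨f, hfq, n, _, _, hse⟩ :=
    Algebra.IsSmoothAt.exists_isStandardEtale_mvPolynomial (R := A) (p := q)
  have := isIntegrallyClosed_mvPolynomial_fin A n
  let q' : Ideal (Localization.Away f) := q.map (algebraMap B (Localization.Away f))
  have hdisj : Disjoint (Submonoid.powers f : Set B) (q : Set B) :=
    (Ideal.disjoint_powers_iff_notMem_of_isPrime _).mpr hfq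
  have hq' : q'.IsPrime :=
    IsLocalization.isPrime_of_isPrime_disjoint (.powers f) _ _ ‹_› hdisj
  have hq : q'.comap (algebraMap B (Localization.Away f)) = q :=
    IsLocalization.under_map_of_isPrime_disjoint (.powers f) _ ‹_› hdisj
  have h1 := normal_localization_of_etale (MvPolynomial (Fin n) A) (Localization.Away f) q'
    (Localization.AtPrime q')
  have h2 : IsLocalization.AtPrime (Localization.AtPrime q')
      (q'.comap (algebraMap B (Localization.Away f))) :=
    IsLocalization.isLocalization_atPrime_localization_atPrime (Submonoid.powers f) q'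
  have h3 : IsLocalization q.primeCompl (Localization.AtPrime q') := by
    convert h2 using 1
    ext x
    simp [Ideal.primeCompl, hq]
  exact normal_of_ringEquiv
    (IsLocalization.algEquiv q.primeCompl (Localization.AtPrime q') T).toRingEquiv h1

attribute [local instance] Algebra.TensorProduct.rightAlgebra in
/-- Base change set-up: for `B` an `A`-algebra, `q` a prime of `B` over `p`, `Ap` the localization
of `A` at `p` and `T` the localization of `B` at `q`, the ring `T` is (isomorphic to) the
localization of `B' = Ap ⊗[A] B` at the prime `q B'`. -/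
theorem exists_prime_tensor (A B : Type u) [CommRing A] [CommRing B] [Algebra A B]
    (q : Ideal B) [q.IsPrime] (p : Ideal A) [p.IsPrime] (hpq : q.comap (algebraMap A B) = p)
    (Ap : Type u) [CommRing Ap] [Algebra A Ap] [IsLocalization.AtPrime Ap p]
    (T : Type u) [CommRing T] [Algebra B T] [IsLocalization.AtPrime T q] :
    ∃ (q' : Ideal (Ap ⊗[A] B)) (_ : q'.IsPrime),
      Nonempty (Localization.AtPrime q' ≃+* T) := by
  let M : Submonoid B := Algebra.algebraMapSubmonoid B p.primeCompl
  have : IsLocalization M (Ap ⊗[A] B) := IsLocalization.tensorRight Ap p.primeCompl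
  let q' : Ideal (Ap ⊗[A] B) := q.map (algebraMap B (Ap ⊗[A] B))
  have hdisj : Disjoint (M : Set B) (q : Set B) := by
    rw [Set.disjoint_left]
    rintro _ ⟨a, ha, rfl⟩ hq
    apply ha
    rw [← hpq]
    exact hq
  have hq' : q'.IsPrime := IsLocalization.isPrime_of_isPrime_disjoint M _ _ ‹_› hdisj
  have hq : q'.comap (algebraMap B (Ap ⊗[A] B)) = q :=
    IsLocalization.under_map_of_isPrime_disjoint M _ ‹_› hdisj
  refine ⟨q', hq', ?_⟩
  have h2 : IsLocalization.AtPrime (Localization.AtPrime q')
      (q'.comap (algebraMap B (Ap ⊗[A] B))) :=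
    IsLocalization.isLocalization_isLocalization_atPrime_isLocalization M _ q'
  have h3 : IsLocalization q.primeCompl (Localization.AtPrime q') := by
    convert h2 using 1
    ext x
    simp [Ideal.primeCompl, hq]
  exact ⟨(IsLocalization.algEquiv q.primeCompl (Localization.AtPrime q') T).toRingEquiv⟩

/-- Smooth ascent of normality, general local form: `B` smooth over `A`, `q` a prime of `B` over
`p`; if `A_p` is an integrally closed domain then so is `B_q`. -/
theorem normal_of_smooth_atPrime (A B : Type u) [CommRing A] [CommRing B] [Algebra A B]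
    [Algebra.Smooth A B]
    (q : Ideal B) [q.IsPrime] (p : Ideal A) [p.IsPrime] (hpq : q.comap (algebraMap A B) = p)
    (Ap : Type u) [CommRing Ap] [Algebra A Ap] [IsLocalization.AtPrime Ap p]
    (T : Type u) [CommRing T] [Algebra B T] [IsLocalization.AtPrime T q]
    (h : IsDomain Ap ∧ IsIntegrallyClosed Ap) : IsDomain T ∧ IsIntegrallyClosed T := by
  obtain ⟨q', hq', ⟨e⟩⟩ := exists_prime_tensor A B q p hpq Ap T
  obtain ⟨h1, h2⟩ := h
  exact normal_of_ringEquiv e
    (normal_localization_of_smooth Ap (Ap ⊗[A] B) q' (Localization.AtPrime q'))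

/-- Smooth ascent of reducedness, general local form. -/
theorem isReduced_of_smooth_atPrime (A B : Type u) [CommRing A] [CommRing B] [Algebra A B]
    [Algebra.Smooth A B]
    (q : Ideal B) [q.IsPrime] (p : Ideal A) [p.IsPrime] (hpq : q.comap (algebraMap A B) = p)
    (Ap : Type u) [CommRing Ap] [Algebra A Ap] [IsLocalization.AtPrime Ap p]
    (T : Type u) [CommRing T] [Algebra B T] [IsLocalization.AtPrime T q]
    [IsReduced Ap] : IsReduced T := by
  obtain ⟨q', hq', ⟨e⟩⟩ := exists_prime_tensor A B q p hpq Ap T
  have : IsReduced (Ap ⊗[A] B) := Groth.Agent.S9407.result Ap (Ap ⊗[A] B)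
  have : IsReduced (Localization.AtPrime q') :=
    isReduced_localizationPreserves q'.primeCompl _ inferInstance
  exact isReduced_of_injective e.symm.toRingHom e.symm.injective

/-- Descent of "integrally closed domain" along faithfully flat ring maps. -/
theorem normal_of_faithfullyFlat (A B : Type*) [CommRing A] [CommRing B] [Algebra A B]
    [Module.FaithfullyFlat A B] (h : IsDomain B ∧ IsIntegrallyClosed B) :
    IsDomain A ∧ IsIntegrallyClosed A := by
  obtain ⟨h1, h2⟩ := h
  exact ⟨Groth.Agent.Lib.FlatDescent.isDomain_of_faithfullyFlat A B,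
    Groth.Agent.Lib.FlatDescent.isIntegrallyClosed_of_faithfullyFlat A B⟩

end Groth.Agent.Lib.H30NormalSmooth
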