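import Mathlib.RingTheory.Nakayama
import Mathlib.RingTheory.AdjoinRoot
import Mathlib.RingTheory.LocalRing.ResidueField.Basic
import Mathlib.RingTheory.Polynomial.Basic
import Mathlib.Algebra.Polynomial.FieldDivision
import Mathlib.Tactic.LinearCombination

/-!
Elementary facts on idempotents of finite algebras and on polynomials over local rings:
* idempotents of a finite `A`-algebra congruent modulo `I B` (`I` in the Jacobson radical) agree;
* coprimality of a monic polynomial with another can be tested modulo the maximal ideal;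
* uniqueness of coprime factorizations lifting a given factorization modulo the maximal ideal.
-/

set_option autoImplicit false
universe u
open Polynomial

namespace Groth.Agent.Lib.LocalPoly

theorem idempotent_eq_of_sub_mem_map {A : Type*} [CommRing A] (I : Ideal A)
    (hI : I ≤ Ideal.jacobson ⊥) {B : Type*} [CommRing B] [Algebra A B] [Module.Finite A B]
    {e f : B} (he : IsIdempotentElem e) (hf : IsIdempotentElem f)
    (hef : e - f ∈ Ideal.map (algebraMap A B) I) : e = f := by
  have he' : e * e = e := he
  have hf' : f * f = f := hf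
  set d := e - f with hd
  have hd3 : d * d * d = d := by
    rw [hd]
    linear_combination (e - 3 * f + 1) * he' + (3 * e - f - 1) * hf'
  let N : Submodule A B := LinearMap.range (LinearMap.mulLeft A d)
  have hNfg : N.FG := by
    have : (⊤ : Submodule A B).FG := Module.Finite.fg_top
    have h2 := this.map (LinearMap.mulLeft A d)
    rwa [Submodule.map_top] at h2
  have hsq : d * d ∈ Ideal.map (algebraMap A B) I := Ideal.mul_mem_left _ _ hef
  have key : ∀ y ∈ Ideal.map (algebraMap A B) I, ∀ x : B, y * (d * x) ∈ I • N := by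
    intro y hy
    induction hy using Submodule.span_induction with
    | mem z hz =>
      intro x
      obtain ⟨a, ha, rfl⟩ := hz
      rw [← Algebra.smul_def]
      exact Submodule.smul_mem_smul ha ⟨x, rfl⟩
    | zero => intro x; rw [zero_mul]; exact Submodule.zero_mem _
    | add y z _ _ hy hz => intro x; rw [add_mul]; exact Submodule.add_mem _ (hy x) (hz x)
    | smul c y _ hy =>
      intro x
      have : c • y * (d * x) = y * (d * (c * x)) := by
        rw [smul_eq_mul]; ring
      rw [this]
      exact hy (c * x)
  have hle : N ≤ I • N := by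
    rintro _ ⟨x, rfl⟩
    show d * x ∈ I • N
    have hx : d * x = (d * d) * (d * x) := by rw [← mul_assoc, hd3]
    rw [hx]
    exact key _ hsq x
  have hN := Submodule.eq_bot_of_le_smul_of_le_jacobson_bot I N hNfg hle hI
  have hdN : d ∈ N := ⟨1, by simp⟩
  rw [hN, Submodule.mem_bot] at hdN
  exact sub_eq_zero.mp hdN

theorem isCoprime_of_map_residue {A : Type*} [CommRing A] [IsLocalRing A] (Q R : A[X])
    (hQ : Q.Monic)
    (h : IsCoprime (Q.map (IsLocalRing.residue A)) (R.map (IsLocalRing.residue A))) :
    IsCoprime Q R := by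
  set J : Ideal A[X] := Ideal.span {Q, R} with hJ
  set m := IsLocalRing.maximalIdeal A with hm
  have hQJ : Ideal.span {Q} ≤ J := Ideal.span_mono (by simp)
  have hfin : Module.Finite A (A[X] ⧸ J) := by
    have h1 : Module.Finite A (A[X] ⧸ Ideal.span {Q}) := hQ.finite_adjoinRoot
    exact Module.Finite.of_surjective (Ideal.Quotient.factorₐ A hQJ).toLinearMap
      (Ideal.Quotient.factor_surjective hQJ)
  obtain ⟨a', b', hab⟩ := h
  obtain ⟨a, rfl⟩ := Polynomial.map_surjective _ IsLocalRing.residue_surjective a'
  obtain ⟨b, rfl⟩ := Polynomial.map_surjective _ IsLocalRing.residue_surjective b'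
  set c := a * Q + b * R - 1 with hc
  have hcm : c ∈ Ideal.map C m := by
    rw [Ideal.mem_map_C_iff]
    intro n
    have : (c.map (IsLocalRing.residue A)) = 0 := by
      rw [hc, Polynomial.map_sub, Polynomial.map_add, Polynomial.map_mul, Polynomial.map_mul,
        Polynomial.map_one, hab, sub_self]
    have h2 := congrArg (fun q => q.coeff n) this
    simp only [coeff_map, coeff_zero] at h2
    exact (IsLocalRing.residue_eq_zero_iff _).mp h2
  have key : ∀ c ∈ Ideal.map (C : A →+* A[X]) m, ∀ p : A[X],
      (Ideal.Quotient.mk J (p * c)) ∈ m • (⊤ : Submodule A (A[X] ⧸ J)) := by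
    intro c hc
    induction hc using Submodule.span_induction with
    | mem z hz =>
      intro p
      obtain ⟨r, hr, rfl⟩ := hz
      have : Ideal.Quotient.mk J (p * C r) = r • Ideal.Quotient.mk J p := by
        rw [mul_comm, ← smul_eq_C_mul]; rfl
      rw [this]
      exact Submodule.smul_mem_smul hr trivial
    | zero => intro p; rw [mul_zero, map_zero]; exact Submodule.zero_mem _
    | add y z _ _ hy hz =>
      intro p; rw [mul_add, map_add]; exact Submodule.add_mem _ (hy p) (hz p)
    | smul r y _ hy =>
      intro p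
      have : p * r • y = (p * r) * y := by rw [smul_eq_mul, mul_assoc]
      rw [this]
      exact hy (p * r)
  have htop : (⊤ : Submodule A (A[X] ⧸ J)) ≤ m • ⊤ := by
    rintro n -
    obtain ⟨p, rfl⟩ := Ideal.Quotient.mk_surjective n
    have hp : p = p * (a * Q + b * R) - p * c := by rw [hc]; ring
    have h1 : Ideal.Quotient.mk J (p * (a * Q + b * R)) = 0 := by
      rw [Ideal.Quotient.eq_zero_iff_mem]
      apply Ideal.mul_mem_left
      exact Ideal.add_mem _ (Ideal.mul_mem_left _ _ (Ideal.subset_span (by simp)))
        (Ideal.mul_mem_left _ _ (Ideal.subset_span (by simp)))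
    rw [hp, map_sub, h1, zero_sub]
    exact Submodule.neg_mem _ (key c hcm p)
  have hbot := Submodule.eq_bot_of_le_smul_of_le_jacobson_bot m ⊤ Module.Finite.fg_top htop
    (IsLocalRing.maximalIdeal_le_jacobson _)
  have h1 : (Ideal.Quotient.mk J 1 : A[X] ⧸ J) = 0 := by
    have : (Ideal.Quotient.mk J 1 : A[X] ⧸ J) ∈ (⊤ : Submodule A (A[X] ⧸ J)) := trivial
    rw [hbot] at this
    exact this
  rw [Ideal.Quotient.eq_zero_iff_mem, hJ, Ideal.mem_span_pair] at h1
  obtain ⟨x, y, hxy⟩ := h1
  exact ⟨x, y, hxy⟩

theorem eq_of_mul_eq_mul_of_monic {A : Type*} [CommRing A] [IsLocalRing A]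
    (Q R U V : A[X]) (hQ : Q.Monic) (hU : U.Monic)
    (hQU : Q.map (IsLocalRing.residue A) = U.map (IsLocalRing.residue A))
    (hRV : R.map (IsLocalRing.residue A) = V.map (IsLocalRing.residue A))
    (hcop : IsCoprime (Q.map (IsLocalRing.residue A)) (R.map (IsLocalRing.residue A)))
    (h : Q * R = U * V) : Q = U ∧ R = V := by
  have hUR : IsCoprime U R := isCoprime_of_map_residue U R hU (hQU ▸ hcop)
  have hdvd : U ∣ Q := by
    have : U ∣ Q * R := ⟨V, h⟩
    exact hUR.dvd_of_dvd_mul_right this
  have hdeg : Q.natDegree = U.natDegree := by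
    rw [← hQ.natDegree_map (IsLocalRing.residue A), ← hU.natDegree_map (IsLocalRing.residue A), hQU]
  have hQeq : Q = U := by
    obtain ⟨W, hW⟩ := hdvd
    have hWm : W.Monic := hU.of_mul_monic_left (hW ▸ hQ)
    have hdegW : W.natDegree = 0 := by
      have := congrArg natDegree hW
      rw [hU.natDegree_mul hWm, hdeg] at this
      omega
    have hW1 : W = 1 := by
      rw [Polynomial.eq_C_of_natDegree_eq_zero hdegW]
      have := hWm.leadingCoeff
      rw [leadingCoeff, hdegW] at this
      rw [this, map_one]
    rw [hW, hW1, mul_one]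
  refine ⟨hQeq, ?_⟩
  rw [hQeq] at h
  exact hU.isRegular.left h

end Groth.Agent.Lib.LocalPoly
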