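import Groth.Agent.S2125
import Groth.Agent.Lib.HenselIdem
import Groth.Agent.Lib.LocalPoly
import Groth.Agent.Lib.HenselizationFlat
import Groth.Prelude.Def_CAlgX
import Mathlib.RingTheory.Flat.FaithfullyFlat.Algebra

/-!
# Unibranch rings and unique minimal primes of (strict) henselizations (helper98)

* `isLocalRing_of_isIntegral_of_idempotent`: a nontrivial ring integral over a henselian local ring
  with only trivial idempotents is local.
* `bijOn_of_flat`: for a flat `A`-algebra `B`, contraction along `B → normRed A ⊗[A] B` is a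
  bijection on minimal primes (flat version of S2125).
* `nilradical_isPrime`, `eq_zero_or_one_of_uniqueMinimalPrime`.
* `isUnibranch_of_hasUniqueMinimalPrime`: if a faithfully flat henselian local `A`-algebra has a
  unique minimal prime, then `A` is unibranch.
* `hasUniqueMinimalPrime_of_isDomain_tensor`.
* `isIntegral_normRed`, `isLocalHom_normRed`, `isIntegrallyClosed_normRed`.
-/

set_option autoImplicit false
set_option maxHeartbeats 400000
universe u

namespace Groth.Agent.Lib.Unibranch98

open IsLocalRing Polynomial TensorProduct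

/-- A nontrivial ring, integral over a henselian local ring and with only trivial idempotents,
is a local ring. -/
theorem isLocalRing_of_isIntegral_of_idempotent (A B : Type u) [CommRing A] [HenselianLocalRing A]
    [CommRing B] [Nontrivial B] [Algebra A B] [Algebra.IsIntegral A B]
    (hidem : ∀ e : B, IsIdempotentElem e → e = 0 ∨ e = 1) : IsLocalRing B := by
  refine IsLocalRing.of_isUnit_or_isUnit_one_sub_self fun x => ?_
  obtain ⟨f, hfm, hfx⟩ := Algebra.IsIntegral.isIntegral (R := A) x
  rw [← Polynomial.aeval_def] at hfx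
  set k := ResidueField A
  set fbar : k[X] := f.map (residue A) with hfbar
  have hfbar0 : fbar ≠ 0 := (hfm.map _).ne_zero
  obtain ⟨a, g₀, hg₀root, hfac⟩ : ∃ (a : ℕ) (g₀ : k[X]), ¬ IsRoot g₀ 0 ∧ fbar = X ^ a * g₀ := by
    obtain ⟨g₀, hg₀, hroot⟩ :=
      Polynomial.exists_eq_pow_rootMultiplicity_mul_and_not_dvd fbar hfbar0 0
    refine ⟨fbar.rootMultiplicity 0, g₀, ?_, ?_⟩
    · rwa [← dvd_iff_isRoot]
    · simpa using hg₀
  have hg₀0 : g₀.eval 0 ≠ 0 := hg₀root
  have hg₀m : g₀.Monic := by
    have h1 : (X ^ a * g₀ : k[X]).Monic := hfac ▸ hfm.map _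
    exact (monic_X_pow a).of_mul_monic_left h1
  have hcop : IsCoprime (X ^ a : k[X]) g₀ := by
    refine IsCoprime.pow_left ?_
    obtain ⟨q, hq⟩ := Polynomial.X_sub_C_dvd_sub_C_eval (a := (0 : k)) (p := g₀)
    refine ⟨-(C (g₀.eval 0)⁻¹ * q), C (g₀.eval 0)⁻¹, ?_⟩
    have h1 : g₀ = C (g₀.eval 0) + X * q := by
      have : (X - C (0 : k)) * q = X * q := by simp
      rw [← this, ← hq]; ring
    have h2 : (C (g₀.eval 0)⁻¹ : k[X]) * C (g₀.eval 0) = 1 := by
      rw [← C_mul, inv_mul_cancel₀ hg₀0, C_1]
    calc -(C (g₀.eval 0)⁻¹ * q) * X + C (g₀.eval 0)⁻¹ * g₀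
        = -(C (g₀.eval 0)⁻¹ * q) * X + C (g₀.eval 0)⁻¹ * (C (g₀.eval 0) + X * q) := by rw [← h1]
      _ = C (g₀.eval 0)⁻¹ * C (g₀.eval 0) := by ring
      _ = 1 := h2
  obtain ⟨f₁, f₂, hf₁m, hf₂m, hff, hf₁map, hf₂map⟩ :=
    Groth.Agent.Lib.HenselIdem.exists_factorization_lift (maximalIdeal A) f hfm (X ^ a) g₀
      (monic_X_pow a) hg₀m hcop hfac
  have hprod : Polynomial.aeval x f₁ * Polynomial.aeval x f₂ = 0 := by
    rw [← map_mul, ← hff, hfx]
  -- coprimality of the lifted factors gives an idempotent
  have hcopA : IsCoprime f₁ f₂ := by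
    refine Groth.Agent.Lib.LocalPoly.isCoprime_of_map_residue f₁ f₂ hf₁m ?_
    have e1 : f₁.map (residue A) = X ^ a := hf₁map
    have e2 : f₂.map (residue A) = g₀ := hf₂map
    rw [e1, e2]; exact hcop
  obtain ⟨u, v, huv⟩ := hcopA
  have hsum : Polynomial.aeval x u * Polynomial.aeval x f₁
      + Polynomial.aeval x v * Polynomial.aeval x f₂ = 1 := by
    rw [← map_mul, ← map_mul, ← map_add, huv, map_one]
  have he : IsIdempotentElem (Polynomial.aeval x u * Polynomial.aeval x f₁) := by
    show (Polynomial.aeval x u * Polynomial.aeval x f₁)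
      * (Polynomial.aeval x u * Polynomial.aeval x f₁)
      = Polynomial.aeval x u * Polynomial.aeval x f₁
    have h2 : (Polynomial.aeval x u * Polynomial.aeval x f₁)
        * (Polynomial.aeval x v * Polynomial.aeval x f₂) = 0 := by
      calc _ = Polynomial.aeval x u * Polynomial.aeval x v
            * (Polynomial.aeval x f₁ * Polynomial.aeval x f₂) := by ring
        _ = 0 := by rw [hprod, mul_zero]
    linear_combination (Polynomial.aeval x u * Polynomial.aeval x f₁) * hsum - h2
  have hdich : Polynomial.aeval x f₁ = 0 ∨ Polynomial.aeval x f₂ = 0 := by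
    rcases hidem _ he with h0 | h1'
    · left
      have h4 : Polynomial.aeval x v * Polynomial.aeval x f₂ = 1 := by
        rw [h0, zero_add] at hsum; exact hsum
      calc Polynomial.aeval x f₁
          = Polynomial.aeval x f₁ * (Polynomial.aeval x v * Polynomial.aeval x f₂) := by
            rw [h4, mul_one]
        _ = Polynomial.aeval x v * (Polynomial.aeval x f₁ * Polynomial.aeval x f₂) := by ring
        _ = 0 := by rw [hprod, mul_zero]
    · right
      calc Polynomial.aeval x f₂
          = (Polynomial.aeval x u * Polynomial.aeval x f₁) * Polynomial.aeval x f₂ := by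
            rw [h1', one_mul]
        _ = Polynomial.aeval x u * (Polynomial.aeval x f₁ * Polynomial.aeval x f₂) := by ring
        _ = 0 := by rw [hprod, mul_zero]
  rcases hdich with h1 | h2
  · -- `f₁(x) = 0`, so `1 - x` is a unit
    right
    have hu : IsUnit (f₁.eval 1) := by
      have h3 : residue A (f₁.eval 1) = 1 := by
        have e1 : f₁.map (residue A) = X ^ a := hf₁map
        rw [← Polynomial.eval₂_at_apply, map_one, ← Polynomial.eval_map, e1]
        simp
      have h4 : IsUnit (residue A (f₁.eval 1)) := h3 ▸ isUnit_one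
      exact (isUnit_map_iff (residue A) _).1 h4
    obtain ⟨q, hq⟩ := Polynomial.X_sub_C_dvd_sub_C_eval (a := (1 : A)) (p := f₁)
    have h5 := congrArg (Polynomial.aeval x) hq
    rw [map_sub, Polynomial.aeval_C, map_mul, map_sub, Polynomial.aeval_X, Polynomial.aeval_C,
      map_one, h1, zero_sub] at h5
    have h6 : (1 - x) * Polynomial.aeval x q = algebraMap A B (f₁.eval 1) := by
      linear_combination h5
    exact isUnit_of_mul_isUnit_left (h6 ▸ hu.map (algebraMap A B))
  · -- `f₂(x) = 0`, so `x` is a unit
    left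
    have hu : IsUnit (f₂.eval 0) := by
      have h3 : residue A (f₂.eval 0) = g₀.eval 0 := by
        have e1 : f₂.map (residue A) = g₀ := hf₂map
        rw [← e1, Polynomial.eval_map, ← Polynomial.eval₂_at_apply, map_zero]
      have h4 : IsUnit (residue A (f₂.eval 0)) := by
        rw [h3]; exact isUnit_iff_ne_zero.2 hg₀0
      exact (isUnit_map_iff (residue A) _).1 h4
    obtain ⟨q, hq⟩ := Polynomial.X_sub_C_dvd_sub_C_eval (a := (0 : A)) (p := f₂)
    have h5 := congrArg (Polynomial.aeval x) hq
    rw [map_sub, Polynomial.aeval_C, map_mul, map_sub, Polynomial.aeval_X, Polynomial.aeval_C,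
      map_zero, sub_zero, h2, zero_sub] at h5
    have h6 : x * (-Polynomial.aeval x q) = algebraMap A B (f₂.eval 0) := by
      linear_combination h5
    exact isUnit_of_mul_isUnit_left (h6 ▸ hu.map (algebraMap A B))

section minimal

theorem nilradical_isPrime {B : Type*} [CommRing B] (h : ∃! p : Ideal B, p ∈ minimalPrimes B) :
    (nilradical B).IsPrime := by
  obtain ⟨p, hp, huniq⟩ := h
  have hset : minimalPrimes B = {p} := by
    ext q
    constructor
    · intro hq; exact huniq q hq
    · intro hq
      have : q = p := hq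
      rw [this]; exact hp
  have h1 : nilradical B = p := by
    have h2 := Ideal.sInf_minimalPrimes (I := (⊥ : Ideal B))
    have h3 : (⊥ : Ideal B).minimalPrimes = {p} := hset
    rw [h3, sInf_singleton] at h2
    rw [h2]; rfl
  rw [h1]; exact hp.1.1

theorem eq_zero_or_one_of_uniqueMinimalPrime {B : Type*} [CommRing B]
    (h : ∃! p : Ideal B, p ∈ minimalPrimes B) (e : B) (he : IsIdempotentElem e) :
    e = 0 ∨ e = 1 := by
  have hp := nilradical_isPrime h
  have key : ∀ e : B, IsIdempotentElem e → e ∈ nilradical B → e = 0 := by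
    intro e he hn
    rw [mem_nilradical] at hn
    obtain ⟨n, hn⟩ := hn
    cases n with
    | zero =>
      rw [pow_zero] at hn
      calc e = e * 1 := (mul_one e).symm
        _ = 0 := by rw [hn, mul_zero]
    | succ n => rw [← he.pow_succ_eq n, hn]
  have h0 : e * (1 - e) ∈ nilradical B := by
    have : e * (1 - e) = 0 := by
      have he' : e * e = e := he
      rw [mul_sub, mul_one, he', sub_self]
    rw [this]; exact Ideal.zero_mem _
  rcases hp.mem_or_mem h0 with h1 | h1
  · left; exact key e he h1
  · right
    have := key (1 - e) he.one_sub h1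
    exact (sub_eq_zero.mp this).symm

theorem isPrime_nilradical_of_injective {A B : Type*} [CommRing A] [CommRing B] (f : A →+* B)
    (hf : Function.Injective f) (h : (nilradical B).IsPrime) : (nilradical A).IsPrime := by
  have : nilradical A = (nilradical B).comap f := by
    ext a
    rw [Ideal.mem_comap, mem_nilradical, mem_nilradical]
    exact (IsNilpotent.map_iff hf).symm
  rw [this]
  exact Ideal.comap_isPrime f _

end minimal

section normRed

variable (A : Type u) [CommRing A]

theorem algebraMap_red_normRed_injective :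
    Function.Injective (algebraMap (CAlg2.red A) (CAlg2.normRed A)) := by
  intro x y hxy
  have h2 : algebraMap (CAlg2.red A) (FractionRing (CAlg2.red A)) x
      = algebraMap (CAlg2.red A) (FractionRing (CAlg2.red A)) y := congrArg Subtype.val hxy
  exact IsFractionRing.injective (CAlg2.red A) (FractionRing (CAlg2.red A)) h2

theorem isIntegral_normRed : Algebra.IsIntegral A (CAlg2.normRed A) := by
  have h1 : Algebra.IsIntegral A (CAlg2.red A) :=
    ⟨fun x => by obtain ⟨a, rfl⟩ := Ideal.Quotient.mk_surjective x; exact isIntegral_algebraMap⟩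
  have h2 : Algebra.IsIntegral (CAlg2.red A) (CAlg2.normRed A) := inferInstance
  exact Algebra.IsIntegral.trans (R := A) (A := CAlg2.red A) (B := CAlg2.normRed A)

theorem isLocalHom_normRed : IsLocalHom (algebraMap A (CAlg2.normRed A)) := by
  have : FaithfulSMul (CAlg2.red A) (CAlg2.normRed A) :=
    (faithfulSMul_iff_algebraMap_injective _ _).mpr (algebraMap_red_normRed_injective A)
  have l1 : IsLocalHom (algebraMap (CAlg2.red A) (CAlg2.normRed A)) := inferInstance
  have l2 : IsLocalHom (Ideal.Quotient.mk (nilradical A)) :=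
    isLocalHom_of_le_jacobson_bot _ (Ideal.radical_le_jacobson (I := (⊥ : Ideal A)))
  have e : algebraMap A (CAlg2.normRed A)
      = (algebraMap (CAlg2.red A) (CAlg2.normRed A)).comp (Ideal.Quotient.mk (nilradical A)) :=
    IsScalarTower.algebraMap_eq A (CAlg2.red A) (CAlg2.normRed A)
  rw [e]
  exact RingHom.isLocalHom_comp _ _

theorem isIntegrallyClosed_normRed [IsDomain (CAlg2.red A)] :
    IsIntegrallyClosed (CAlg2.normRed A) :=
  integralClosure.isIntegrallyClosedOfFiniteExtension (FractionRing (CAlg2.red A))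

end normRed

section tensor

attribute [local instance] Algebra.TensorProduct.rightAlgebra

/-- `B ⊗[A] S` is integral over `S` when `B` is integral over `A`. -/
theorem isIntegral_right (A B S : Type*) [CommRing A] [CommRing B] [Algebra A B]
    [Algebra.IsIntegral A B] [CommRing S] [Algebra A S] : Algebra.IsIntegral S (B ⊗[A] S) where
  isIntegral p := by
    induction p using TensorProduct.induction_on with
    | zero => exact isIntegral_zero
    | tmul b s =>
      have hb : IsIntegral A b := Algebra.IsIntegral.isIntegral b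
      have h1 : IsIntegral S ((b ⊗ₜ[A] (1 : S)) : B ⊗[A] S) := by
        refine hb.map_of_comp_eq (algebraMap A S)
          (Algebra.TensorProduct.includeLeft (R := A) (S := A) (A := B) (B := S)).toRingHom ?_
        ext a
        simp only [RingHom.coe_comp, Function.comp_apply, AlgHom.toRingHom_eq_coe,
          RingHom.coe_coe, Algebra.TensorProduct.includeLeft_apply,
          Algebra.TensorProduct.right_algebraMap_apply]
        rw [Algebra.algebraMap_eq_smul_one, Algebra.algebraMap_eq_smul_one,
          TensorProduct.smul_tmul]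
      have h2 : (b ⊗ₜ[A] s : B ⊗[A] S) = s • (b ⊗ₜ[A] (1 : S)) := by
        rw [Algebra.smul_def, Algebra.TensorProduct.right_algebraMap_apply,
          Algebra.TensorProduct.tmul_mul_tmul, one_mul, mul_one]
      rw [h2]
      exact h1.smul s
    | add x y hx hy => exact hx.add hy

variable {A : Type u} [CommRing A]

/-- Flat version of S2125. -/
theorem bijOn_of_flat (B : Type u) [CommRing B] [Algebra A B] [Module.Flat A B] :
    Set.BijOn (fun P : Ideal ((CAlg2.normRed A) ⊗[A] B) =>
        P.comap (Algebra.TensorProduct.includeRight.toRingHom :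
          B →+* (CAlg2.normRed A) ⊗[A] B))
      (minimalPrimes ((CAlg2.normRed A) ⊗[A] B)) (minimalPrimes B) := by
  refine Groth.Agent.S2125.bijOn_minimalPrimes_comap (B := B) (B' := (CAlg2.normRed A) ⊗[A] B)
    (Algebra.TensorProduct.includeRight.toRingHom :
      B →+* (CAlg2.normRed A) ⊗[A] B) ?_ ?_
  · intro b hb
    rw [RingHom.mem_ker] at hb
    exact Groth.Agent.S2125.mem_nilradical_of_tmul_eq_zero B b hb
  · intro x
    obtain ⟨s, hs, b, hb⟩ := Groth.Agent.S2125.exists_smul_eq_includeRight B x
    refine ⟨algebraMap A _ s, ?_, b, ?_⟩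
    · rw [mem_nonZeroDivisors_iff_left]
      intro y hy
      apply Groth.Agent.S2125.smul_eq_zero_tensor B s hs y
      rw [Algebra.smul_def]; exact hy
    · show (1 : CAlg2.normRed A) ⊗ₜ[A] b = algebraMap A _ s * x
      rw [← Algebra.smul_def, hb]

/-- If `normRed A ⊗[A] B` is a domain for a flat `A`-algebra `B`, then `B` has a unique minimal
prime. -/
theorem hasUniqueMinimalPrime_of_isDomain_tensor (B : Type u) [CommRing B] [Algebra A B]
    [Module.Flat A B] [IsDomain ((CAlg2.normRed A) ⊗[A] B)] :
    CAlgX.HasUniqueMinimalPrime B := by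
  have hbij := bijOn_of_flat (A := A) B
  have hmin : minimalPrimes ((CAlg2.normRed A) ⊗[A] B) = {⊥} :=
    IsDomain.minimalPrimes_eq_singleton_bot _
  have hbot : (⊥ : Ideal ((CAlg2.normRed A) ⊗[A] B)) ∈
      minimalPrimes ((CAlg2.normRed A) ⊗[A] B) := by rw [hmin]; rfl
  refine ⟨_, hbij.mapsTo hbot, fun q hq => ?_⟩
  obtain ⟨P, hP, hPq⟩ := hbij.surjOn hq
  rw [hmin] at hP
  have hP' : P = ⊥ := hP
  rw [← hPq, hP']

/-- If a faithfully flat henselian local `A`-algebra `B` has a unique minimal prime, then
`normRed A ⊗[A] B` is a local ring. -/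
theorem isLocalRing_tensor_of_hasUniqueMinimalPrime (B : Type u) [CommRing B]
    [HenselianLocalRing B] [Algebra A B] [Module.FaithfullyFlat A B]
    (h : CAlgX.HasUniqueMinimalPrime B) : IsLocalRing ((CAlg2.normRed A) ⊗[A] B) := by
  have hbij := bijOn_of_flat (A := A) B
  have hB' : ∃! P : Ideal ((CAlg2.normRed A) ⊗[A] B),
      P ∈ minimalPrimes ((CAlg2.normRed A) ⊗[A] B) := by
    obtain ⟨p, hp, huniq⟩ := h
    obtain ⟨P, hP, hPp⟩ := hbij.surjOn hp
    refine ⟨P, hP, fun P' hP' => hbij.injOn hP' hP ?_⟩
    have e1 := huniq _ (hbij.mapsTo hP')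
    have e2 := huniq _ (hbij.mapsTo hP)
    exact e1.trans e2.symm
  have hidem := eq_zero_or_one_of_uniqueMinimalPrime (B := (CAlg2.normRed A) ⊗[A] B) hB'
  have hint0 := isIntegral_normRed A
  have hint : Algebra.IsIntegral B ((CAlg2.normRed A) ⊗[A] B) :=
    isIntegral_right A (CAlg2.normRed A) B
  have hnontriv : Nontrivial ((CAlg2.normRed A) ⊗[A] B) := by
    obtain ⟨P, hP, -⟩ := hB'
    by_contra hn
    rw [not_nontrivial_iff_subsingleton] at hn
    exact hP.1.1.ne_top (Subsingleton.elim _ _)
  exact isLocalRing_of_isIntegral_of_idempotent B _ hidem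

/-- If a faithfully flat henselian local `A`-algebra `B` has a unique minimal prime, then `A` is
unibranch. -/
theorem isUnibranch_of_hasUniqueMinimalPrime [IsLocalRing A] (B : Type u) [CommRing B]
    [HenselianLocalRing B] [Algebra A B] [Module.FaithfullyFlat A B]
    (h : CAlgX.HasUniqueMinimalPrime B) : CAlg2.IsUnibranch A := by
  have hinj : Function.Injective (algebraMap A B) := FaithfulSMul.algebraMap_injective A B
  have hpB : (nilradical B).IsPrime := nilradical_isPrime h
  have hpA : (nilradical A).IsPrime := isPrime_nilradical_of_injective _ hinj hpB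
  have hD : IsDomain (CAlg2.red A) := Ideal.Quotient.isDomain (nilradical A)
  refine ⟨hD, ?_⟩
  have hloc : IsLocalRing ((CAlg2.normRed A) ⊗[A] B) :=
    isLocalRing_tensor_of_hasUniqueMinimalPrime B h
  exact Module.FaithfullyFlat.isLocalRing (CAlg2.normRed A) ((CAlg2.normRed A) ⊗[A] B)

end tensor

end Groth.Agent.Lib.Unibranch98
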