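import Groth.Agent.Lib.WeakAss
import Mathlib.RingTheory.QuasiFinite.Basic
import Mathlib.LinearAlgebra.TensorProduct.Vanishing
import Mathlib.LinearAlgebra.TensorProduct.Pi
import Mathlib.RingTheory.LocalRing.Module
import Mathlib.RingTheory.Localization.BaseChange
import Mathlib.RingTheory.Flat.Stability

/-!
# Weakly associated primes under finite ring maps and finite flat base change (helper88)

* `comap_mem_weakAss_of_finite` : Stacks 10.66.13 (05C4), the non-formal inclusion: for a finite
  ring map `R → S` and an `S`-module `M`, the contraction of a weakly associated prime of `M`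
  over `S` is weakly associated over `R`.
* `weakAss_pi_subset` : `WeakAss (ι → N) ⊆ WeakAss N` for finite `ι`.
* `mem_weakAss_of_mem_weakAss_tensor_of_finite_flat` : for a finite flat `A`-module `N`,
  `WeakAss_A (N ⊗ M) ⊆ WeakAss_A M`.
* `annOf_one_tmul_le` : for `B` flat over `A`, `Ann_B (1 ⊗ m) ≤ Ann_A(m) B`.
* `mem_weakAss_baseChange_iff_of_finite_flat` : the statement of S1232.
-/

set_option autoImplicit false
set_option linter.unusedSectionVars false
universe u v w

namespace Groth.Agent.Lib.WeakAssFinite88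

open FlatCA Groth.Agent.Lib.WeakAss
open scoped TensorProduct

section FiniteMap

variable {R : Type u} [CommRing R] {S : Type v} [CommRing S] [Algebra R S] [Module.Finite R S]
  {M : Type w} [AddCommGroup M] [Module R M] [Module S M] [IsScalarTower R S M]

/-- Stacks 10.66.13 (05C4): for a finite ring map, contractions of weakly associated primes are
weakly associated. -/
theorem comap_mem_weakAss_of_finite {q : Ideal S} (hq : q ∈ weakAss S M) :
    q.comap (algebraMap R S) ∈ weakAss R M := by
  classical
  obtain ⟨z, hz⟩ := hq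
  change q ∈ (annOf S z).minimalPrimes at hz
  have hqp : q.IsPrime := hz.isPrime
  set p : Ideal R := q.comap (algebraMap R S) with hp
  have hfin : ((p.primesOver S) \ {q}).Finite :=
    (Algebra.QuasiFinite.finite_primesOver p).sdiff
  -- prime avoidance
  have hx : ∃ x ∈ q, ∀ q' ∈ (p.primesOver S) \ {q}, x ∉ q' := by
    by_contra hcon
    push Not at hcon
    have hsub : (q : Set S) ⊆ ⋃ i ∈ (hfin.toFinset : Set (Ideal S)), ((fun J => J) i : Set S) := by
      intro x hx
      obtain ⟨q', hq', hxq'⟩ := hcon x hx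
      simp only [Set.mem_iUnion]
      exact ⟨q', by simpa using hq', hxq'⟩
    rw [Ideal.subset_union_prime (f := fun J : Ideal S => J) q q] at hsub
    · obtain ⟨q', hq', hqq'⟩ := hsub
      have hq'' : q' ∈ (p.primesOver S) \ {q} := by simpa using hq'
      have hq'prime : q'.IsPrime := hq''.1.1
      have hne : q ≠ q' := fun h => hq''.2 (by simp [h])
      have hlt : q < q' := lt_of_le_of_ne hqq' hne
      have := Ideal.IsIntegral.comap_lt_comap (R := R) hlt
      have hq'over : q'.comap (algebraMap R S) = p := by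
        have := hq''.1.2
        rw [Ideal.liesOver_iff] at this
        exact this.symm
      rw [hq'over] at this
      exact lt_irrefl _ this
    · intro i hi _ _
      have : i ∈ (p.primesOver S) \ {q} := by simpa using hi
      exact this.1.1
  obtain ⟨x, hxq, hxF⟩ := hx
  obtain ⟨c, hc, hxc⟩ := exists_smul_killed hz hxq
  refine ⟨c • z, (?_ : p ∈ (annOf R (c • z)).minimalPrimes)⟩
  rw [annOf_eq_comap (S := S)]
  refine ⟨⟨Ideal.comap_isPrime _ q, Ideal.comap_mono hc.1.2⟩, ?_⟩
  rintro p' ⟨hp'prime, hp'le⟩ hp'p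
  obtain ⟨t', ht'ge, ht'prime, ht'comap⟩ :=
    Ideal.exists_ideal_over_prime_of_isIntegral p' (annOf S (c • z)) hp'le
  obtain ⟨t'', ht''ge, ht''prime, ht''comap⟩ :=
    Ideal.exists_ideal_over_prime_of_isIntegral_of_isPrime p t' (by rw [ht'comap]; exact hp'p)
  have ht''q : t'' = q := by
    by_contra hne
    have hmem : t'' ∈ (p.primesOver S) \ {q} := by
      refine ⟨⟨ht''prime, ?_⟩, by simpa using hne⟩
      rw [Ideal.liesOver_iff]
      exact ht''comap.symm
    exact hxF t'' hmem (ht''ge (ht'ge hxc))
  have hqt' : q ≤ t' := hc.2 ⟨ht'prime, ht'ge⟩ (ht''q ▸ ht''ge)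
  calc p = q.comap (algebraMap R S) := rfl
    _ ≤ t'.comap (algebraMap R S) := Ideal.comap_mono hqt'
    _ = p' := ht'comap

end FiniteMap

section Pi

variable {R : Type u} [CommRing R] {ι : Type*} [Finite ι] {N : Type w} [AddCommGroup N]
  [Module R N]

theorem weakAss_pi_subset : weakAss R (ι → N) ⊆ weakAss R N := by
  classical
  cases nonempty_fintype ι
  rintro p ⟨g, hg⟩
  change p ∈ (annOf R g).minimalPrimes at hg
  have hpp : p.IsPrime := hg.isPrime
  have hann : annOf R g = Finset.univ.inf (fun i => annOf R (g i)) := by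
    ext a
    simp only [mem_annOf, Finset.inf_eq_iInf, Finset.mem_univ, iInf_pos, Submodule.mem_iInf]
    constructor
    · intro h i
      simpa using congr_fun h i
    · intro h
      funext i
      simpa using h i
  have hle : Finset.univ.inf (fun i => annOf R (g i)) ≤ p := hann ▸ hg.1.2
  obtain ⟨i, -, hi⟩ := (Ideal.IsPrime.inf_le' hpp).mp hle
  refine ⟨g i, (⟨⟨hpp, hi⟩, ?_⟩ : p ∈ (annOf R (g i)).minimalPrimes)⟩
  rintro q ⟨hq, hqle⟩ hqp
  refine hg.2 ⟨hq, ?_⟩ hqp
  rw [hann]
  exact (Finset.inf_le (Finset.mem_univ i)).trans hqle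

end Pi

section FiniteFlat

variable {A : Type u} [CommRing A] (N : Type v) [AddCommGroup N] [Module A N] [Module.Finite A N]
  [Module.Flat A N] (M : Type w) [AddCommGroup M] [Module A M]

/-- For a finite flat module `N`, weakly associated primes of `N ⊗ M` are weakly associated
primes of `M`. -/
theorem mem_weakAss_of_mem_weakAss_tensor_of_finite_flat {p : Ideal A}
    (hp : p ∈ weakAss A (N ⊗[A] M)) : p ∈ weakAss A M := by
  classical
  have hpp : p.IsPrime := isPrime_of_mem_weakAss hp
  let Ap := Localization.AtPrime p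
  have hdisj : Disjoint (p.primeCompl : Set A) (p : Set A) := by
    rw [Set.disjoint_left]
    intro a ha ha'
    exact ha ha'
  have h1 : p ∈ weakAss A (Ap ⊗[A] (N ⊗[A] M)) :=
    (mem_weakAss_localized_restrictScalars_iff p.primeCompl Ap
      (TensorProduct.mk A Ap (N ⊗[A] M) 1) p).mpr ⟨hp, hdisj⟩
  have : Module.Free Ap (Ap ⊗[A] N) := Module.free_of_flat_of_isLocalRing
  let b := Module.Free.chooseBasis Ap (Ap ⊗[A] N)
  let ι := Module.Free.ChooseBasisIndex Ap (Ap ⊗[A] N)
  let e2 : (Ap ⊗[A] N) ≃ₗ[A] (ι → Ap) := b.equivFun.restrictScalars A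
  let e : Ap ⊗[A] (N ⊗[A] M) ≃ₗ[A] (ι → M ⊗[A] Ap) :=
    (TensorProduct.assoc A Ap N M).symm ≪≫ₗ (LinearEquiv.rTensor M e2) ≪≫ₗ
      (TensorProduct.comm A (ι → Ap) M) ≪≫ₗ (TensorProduct.piRight A A M (fun _ : ι => Ap))
  rw [weakAss_eq_of_linearEquiv e] at h1
  have h2 : p ∈ weakAss A (M ⊗[A] Ap) := weakAss_pi_subset h1
  rw [weakAss_eq_of_linearEquiv (TensorProduct.comm A M Ap)] at h2
  exact ((mem_weakAss_localized_restrictScalars_iff p.primeCompl Ap
      (TensorProduct.mk A Ap M 1) p).mp h2).1

end FiniteFlat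

section FlatAnn

variable {A : Type u} [CommRing A] {B : Type v} [CommRing B] [Algebra A B] [Module.Flat A B]
  {M : Type w} [AddCommGroup M] [Module A M]

/-- For `B` flat over `A`, the annihilator of `1 ⊗ m` in `B ⊗ M` is contained in the extension
of the annihilator of `m`. -/
theorem annOf_one_tmul_le (m : M) :
    annOf B ((1 : B) ⊗ₜ[A] m) ≤ (annOf A m).map (algebraMap A B) := by
  intro b hb
  rw [mem_annOf, TensorProduct.smul_tmul', smul_eq_mul, mul_one] at hb
  have h0 : ∑ _i : Unit, m ⊗ₜ[A] b = (0 : M ⊗[A] B) := by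
    have := congrArg (TensorProduct.comm A B M) hb
    simpa using this
  have hinj : Function.Injective
      (LinearMap.rTensor B (Submodule.span A (Set.range (fun _ : Unit => m))).subtype) :=
    Module.Flat.rTensor_preserves_injective_linearMap _ (Submodule.injective_subtype _)
  obtain ⟨k, a, y, hy, ha⟩ :=
    TensorProduct.vanishesTrivially_of_sum_tmul_eq_zero_of_rTensor_injective A
      (m := fun _ : Unit => m) (n := fun _ : Unit => b) hinj h0
  have hb' : b = ∑ j, a () j • y j := hy ()
  rw [hb']
  refine Ideal.sum_mem _ fun j _ => ?_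
  rw [Algebra.smul_def]
  refine Ideal.mul_mem_right _ _ (Ideal.mem_map_of_mem _ ?_)
  rw [mem_annOf]
  simpa using ha j

end FlatAnn

section Main

variable {A : Type u} [CommRing A] {B : Type v} [CommRing B] [Algebra A B] [Module.Finite A B]
  [Module.Flat A B] (M : Type w) [AddCommGroup M] [Module A M]

/-- S1232 : weakly associated primes under finite flat base change. -/
theorem mem_weakAss_baseChange_iff_of_finite_flat (p : Ideal A) [p.IsPrime] (t : Ideal B)
    [t.IsPrime] [t.LiesOver p] :
    t ∈ weakAss B (B ⊗[A] M) ↔ p ∈ weakAss A M := by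
  have hover : t.comap (algebraMap A B) = p := ((Ideal.liesOver_iff t p).mp inferInstance).symm
  constructor
  · intro h
    have h1 : t.comap (algebraMap A B) ∈ weakAss A (B ⊗[A] M) :=
      comap_mem_weakAss_of_finite (R := A) h
    rw [hover] at h1
    exact mem_weakAss_of_mem_weakAss_tensor_of_finite_flat B M h1
  · rintro ⟨m, hm⟩
    change p ∈ (annOf A m).minimalPrimes at hm
    refine ⟨(1 : B) ⊗ₜ[A] m, (?_ : t ∈ (annOf B ((1 : B) ⊗ₜ[A] m)).minimalPrimes)⟩
    refine ⟨⟨inferInstance, (annOf_one_tmul_le m).trans ?_⟩, ?_⟩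
    · rw [Ideal.map_le_iff_le_comap, hover]
      exact hm.1.2
    · rintro t' ⟨ht'prime, ht'le⟩ ht't
      by_contra hne
      have hlt : t' < t := lt_of_le_not_ge ht't hne
      have h1 := Ideal.IsIntegral.comap_lt_comap (R := A) hlt
      rw [hover] at h1
      have h2 : annOf A m ≤ t'.comap (algebraMap A B) := by
        intro a ha
        rw [Ideal.mem_comap]
        apply ht'le
        rw [mem_annOf, Algebra.algebraMap_eq_smul_one, smul_assoc, one_smul,
          ← TensorProduct.tmul_smul, mem_annOf.mp ha, TensorProduct.tmul_zero]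
      exact not_le_of_gt h1 (hm.2 ⟨Ideal.comap_isPrime _ t', h2⟩ h1.le)

end Main

end Groth.Agent.Lib.WeakAssFinite88
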