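import Groth.Agent.Lib.TotalFracFin98
import Groth.Agent.Lib.H30NormalSmooth
import Groth.Agent.Lib.WeakAssFinite88
import Groth.Agent.Lib.DiagFlat
import Groth.Agent.Lib.HenselIntegralLocal
import Groth.Agent.Lib.Unibranch98

/-!
# Branches of a local ring: normality of `normRed A` and local integrality of `A' ⊗ S` (helper98)

* `normal_localization_of_equiv_pi`: a finite product of normal domains is locally a normal domain.
* `normRed_normal_localization`: `normRed A` is locally a normal domain when `A` has finitely many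
  minimal primes.
* `exists_mul_eq_zero_of_mul_eq_zero`, `isDomain_localization_tensor`,
  `minimalPrimes_eq_of_le`: for `A'` locally normal and `S` a local flat `A`-algebra which is a
  filtered union of images of étale `A`-algebras, `A' ⊗[A] S` is locally a domain.
* `eq_comap_maximalIdeal`, `maximal_unique_of_prime_le`.
-/

set_option autoImplicit false
set_option maxHeartbeats 400000
universe u

namespace Groth.Agent.Lib.Brnch98

open TensorProduct Groth.Agent.Lib.TotalFrac

section Pi

/-- A ring isomorphic to a finite product of normal domains is locally a normal domain. -/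
theorem normal_localization_of_equiv_pi {R' : Type u} [CommRing R'] {ι : Type u} [Finite ι]
    (C : ι → Type u) [∀ i, CommRing (C i)] [∀ i, IsDomain (C i)] [∀ i, IsIntegrallyClosed (C i)]
    (e : R' ≃+* (∀ i, C i)) (P : Ideal R') [hP : P.IsPrime] :
    IsDomain (Localization.AtPrime P) ∧ IsIntegrallyClosed (Localization.AtPrime P) := by
  classical
  have : Fintype ι := Fintype.ofFinite ι
  let s : ι → R' := fun i => e.symm (Pi.single i 1)
  have hsum : ∑ i, s i = 1 := by
    have h1 : ∑ i, (Pi.single i (1 : C i) : ∀ i, C i) = 1 :=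
      Finset.univ_sum_single (1 : ∀ i, C i)
    calc ∑ i, s i = e.symm (∑ i, (Pi.single i (1 : C i) : ∀ i, C i)) :=
          (map_sum e.symm _ _).symm
      _ = 1 := by rw [h1, map_one]
  obtain ⟨i, hi⟩ : ∃ i, s i ∉ P := by
    by_contra hcon
    push Not at hcon
    have h1 : (1 : R') ∈ P := by rw [← hsum]; exact P.sum_mem (fun i _ => hcon i)
    exact (Ideal.ne_top_iff_one P).1 hP.ne_top h1
  have hidem : IsIdempotentElem (s i) := by
    show s i * s i = s i
    simp only [s]
    rw [← map_mul, ← Pi.single_mul, mul_one]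
  let π : R' →+* C i := (Pi.evalRingHom C i).comp (e : R' →+* (∀ i, C i))
  letI : Algebra R' (C i) := π.toAlgebra
  have hπ : ∀ x, algebraMap R' (C i) x = e x i := fun _ => rfl
  have hes : ∀ x : R', e (s i * x) = Pi.single i (e x i) := by
    intro x
    rw [map_mul]
    simp only [s]
    rw [e.apply_symm_apply, ← Pi.single_mul_left, one_mul]
  have H : ∀ x y, algebraMap R' (C i) x = algebraMap R' (C i) y ↔ s i * x = s i * y := by
    intro x y
    rw [hπ, hπ]
    constructor
    · intro h; apply e.injective; rw [hes, hes, h]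
    · intro h
      have h2 := congrArg (fun z => e z i) h
      simp only [hes, Pi.single_eq_same] at h2
      exact h2
  have H' : Function.Surjective (algebraMap R' (C i)) := by
    intro c
    refine ⟨e.symm (Pi.single i c), ?_⟩
    rw [hπ, e.apply_symm_apply, Pi.single_eq_same]
  have hloc : IsLocalization.Away (s i) (C i) :=
    IsLocalization.away_of_isIdempotentElem_of_mul hidem H H'
  have hdisj : Disjoint (Submonoid.powers (s i) : Set R') (P : Set R') := by
    rw [Set.disjoint_left]
    rintro _ ⟨n, rfl⟩ h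
    exact hi (hP.mem_of_pow_mem n h)
  let Pi' : Ideal (C i) := P.map (algebraMap R' (C i))
  have hPi' : Pi'.IsPrime :=
    IsLocalization.isPrime_of_isPrime_disjoint (Submonoid.powers (s i)) (C i) P hP hdisj
  have hcomap : Pi'.comap (algebraMap R' (C i)) = P :=
    IsLocalization.under_map_of_isPrime_disjoint (Submonoid.powers (s i)) (C i) hP hdisj
  have h2 : IsLocalization.AtPrime (Localization.AtPrime Pi')
      (Pi'.comap (algebraMap R' (C i))) :=
    IsLocalization.isLocalization_isLocalization_atPrime_isLocalization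
      (Submonoid.powers (s i)) (Localization.AtPrime Pi') Pi'
  have h3 : IsLocalization P.primeCompl (Localization.AtPrime Pi') := by
    convert h2 using 1
    ext x
    simp [Ideal.primeCompl, hcomap]
  have hdom : IsDomain (Localization.AtPrime Pi') := inferInstance
  have hic : IsIntegrallyClosed (Localization.AtPrime Pi') :=
    isIntegrallyClosed_of_isLocalization (Localization.AtPrime Pi') Pi'.primeCompl
      Pi'.primeCompl_le_nonZeroDivisors
  exact Groth.Agent.Lib.H30NormalSmooth.normal_of_ringEquiv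
    (IsLocalization.algEquiv P.primeCompl (Localization.AtPrime Pi')
      (Localization.AtPrime P)).toRingEquiv ⟨hdom, hic⟩

end Pi

section normRed

variable (A : Type u) [CommRing A]

theorem isReduced_red : IsReduced (CAlg2.red A) :=
  (Ideal.isRadical_iff_quotient_reduced (nilradical A)).mp (Ideal.radical_isRadical ⊥)

theorem minimalPrimes_eq_comap_red :
    minimalPrimes A = Ideal.comap (Ideal.Quotient.mk (nilradical A)) ''
      (minimalPrimes (CAlg2.red A)) := by
  have h := Ideal.comap_minimalPrimes_eq_of_surjective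
    (f := Ideal.Quotient.mk (nilradical A)) Ideal.Quotient.mk_surjective
    (⊥ : Ideal (CAlg2.red A))
  rw [← RingHom.ker_eq_comap_bot, Ideal.mk_ker] at h
  rw [← h]
  exact (Ideal.radical_minimalPrimes (I := (⊥ : Ideal A))).symm

theorem finite_minimalPrimes_red (hfin : (minimalPrimes A).Finite) :
    (minimalPrimes (CAlg2.red A)).Finite := by
  apply Set.Finite.of_finite_image (f := Ideal.comap (Ideal.Quotient.mk (nilradical A)))
  · rw [← minimalPrimes_eq_comap_red]; exact hfin
  · exact (Ideal.comap_injective_of_surjective _ Ideal.Quotient.mk_surjective).injOn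

/-- `normRed A` is locally a normal domain when `A` has finitely many minimal primes. -/
theorem normRed_normal_localization (hfin : (minimalPrimes A).Finite)
    (P : Ideal (CAlg2.normRed A)) [P.IsPrime] :
    IsDomain (Localization.AtPrime P) ∧ IsIntegrallyClosed (Localization.AtPrime P) := by
  have hred : IsReduced (CAlg2.red A) := isReduced_red A
  have hfin' : Finite (MinPrime (CAlg2.red A)) :=
    Set.finite_coe_iff.mpr (finite_minimalPrimes_red A hfin)
  exact normal_localization_of_equiv_pi (fun p : MinPrime (CAlg2.red A) => Cq (CAlg2.red A) p)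
    (Groth.Agent.Lib.TotalFracFin98.integralClosureEquivPi (CAlg2.red A)).toRingEquiv P

end normRed

section Max

/-- A maximal ideal containing the kernel of a surjection onto a local ring is the preimage of the
maximal ideal. -/
theorem eq_comap_maximalIdeal {D L : Type*} [CommRing D] [CommRing L] [IsLocalRing L]
    (π : D →+* L) (hπ : Function.Surjective π) {N : Ideal D} (hN : N.IsMaximal)
    (hker : RingHom.ker π ≤ N) : N = (IsLocalRing.maximalIdeal L).comap π := by
  have h1 : (N.map π).comap π = N := by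
    rw [Ideal.comap_map_of_surjective π hπ, ← RingHom.ker_eq_comap_bot]
    exact sup_eq_left.2 hker
  have h2 : N.map π ≠ ⊤ := by
    intro h
    rw [h, Ideal.comap_top] at h1
    exact hN.ne_top h1.symm
  have h3 : N ≤ (IsLocalRing.maximalIdeal L).comap π := by
    rw [← h1]
    exact Ideal.comap_mono (IsLocalRing.le_maximalIdeal h2)
  exact hN.eq_of_le (Ideal.comap_ne_top _ (IsLocalRing.maximalIdeal.isMaximal L).ne_top) h3

/-- In a ring integral over a henselian local ring, a prime ideal lies in a unique maximal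
ideal. -/
theorem maximal_unique_of_prime_le (S D : Type u) [CommRing S] [HenselianLocalRing S]
    [CommRing D] [Algebra S D] [Algebra.IsIntegral S D] (P : Ideal D) [P.IsPrime]
    {N N' : Ideal D} (hN : N.IsMaximal) (hN' : N'.IsMaximal) (h : P ≤ N) (h' : P ≤ N') :
    N = N' := by
  have h1 : Algebra.IsIntegral D (D ⧸ P) :=
    Algebra.isIntegral_of_surjective Ideal.Quotient.mk_surjective
  have h2 : Algebra.IsIntegral S (D ⧸ P) := Algebra.IsIntegral.trans (R := S) (A := D) (B := D ⧸ P)
  have hloc : IsLocalRing (D ⧸ P) :=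
    Groth.Agent.Lib.HenselIntegralLocal.isLocalRing_of_isDomain_of_isIntegral S (D ⧸ P)
  have e1 := eq_comap_maximalIdeal (Ideal.Quotient.mk P) Ideal.Quotient.mk_surjective hN
    (by rw [Ideal.mk_ker]; exact h)
  have e2 := eq_comap_maximalIdeal (Ideal.Quotient.mk P) Ideal.Quotient.mk_surjective hN'
    (by rw [Ideal.mk_ker]; exact h')
  rw [e1, e2]

end Max

section LD

open Groth.Agent.Lib.WeakAss

variable {A : Type u} [CommRing A] {S : Type u} [CommRing S] [IsLocalRing S] [Algebra A S]
  [Module.Flat A S] (A' : Type u) [CommRing A'] [Algebra A A']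

/-- Kernel lemma: an element of `E ⊗ A'` dying in `S ⊗ A'` is killed by an element of `E` which
becomes a unit in `S`. -/
theorem exists_smul_eq_zero_of_map_eq_zero {E : Type u} [CommRing E] [Algebra A E]
    [Algebra.Etale A E] (φ : E →ₐ[A] S) (w : E ⊗[A] A')
    (hw : Algebra.TensorProduct.map φ (AlgHom.id A A') w = 0) :
    ∃ s : E, IsUnit (φ s) ∧ s • w = 0 := by
  letI algES : Algebra E S := (φ : E →+* S).toAlgebra
  have htower : IsScalarTower A E S :=
    IsScalarTower.of_algebraMap_eq (fun r => (φ.commutes r).symm)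
  have hflatE : Module.Flat E S :=
    Groth.Agent.Lib.DiagFlat.flat_of_flat_lmul' (Algebra.WeaklyEtale.flat_lmul' A E) S
  have halg : ∀ e : E, algebraMap E S e = φ e := fun _ => rfl
  have hcomp : ∀ z : E ⊗[A] A',
      TensorProduct.AlgebraTensorModule.cancelBaseChange A E S S A' ((1 : S) ⊗ₜ[E] z)
        = Algebra.TensorProduct.map φ (AlgHom.id A A') z := by
    intro z
    induction z using TensorProduct.induction_on with
    | zero => simp
    | tmul e a =>
      rw [TensorProduct.AlgebraTensorModule.cancelBaseChange_tmul, Algebra.smul_def, mul_one,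
        halg, Algebra.TensorProduct.map_tmul]
      rfl
    | add z₁ z₂ h₁ h₂ => rw [TensorProduct.tmul_add, map_add, h₁, h₂, map_add]
  have h0 : (1 : S) ⊗ₜ[E] w = 0 :=
    (TensorProduct.AlgebraTensorModule.cancelBaseChange A E S S A').injective
      (by rw [hcomp, hw, map_zero])
  have htop : annOf S ((1 : S) ⊗ₜ[E] w) = ⊤ := annOf_eq_top_iff.mpr h0
  have hle := Groth.Agent.Lib.WeakAssFinite88.annOf_one_tmul_le (A := E) (B := S) w
  rw [htop] at hle
  by_contra hcon
  push Not at hcon
  have hle2 : (annOf E w).map (algebraMap E S) ≤ IsLocalRing.maximalIdeal S := by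
    rw [Ideal.map_le_iff_le_comap]
    intro s hs
    show algebraMap E S s ∈ IsLocalRing.maximalIdeal S
    rw [halg]
    intro hu
    exact hcon s hu (mem_annOf.mp hs)
  exact (IsLocalRing.maximalIdeal.isMaximal S).ne_top (top_le_iff.mp (hle.trans hle2))

/-- Kernel lemma, other order of the factors. -/
theorem exists_mul_eq_zero_of_map_eq_zero {E : Type u} [CommRing E] [Algebra A E]
    [Algebra.Etale A E] (φ : E →ₐ[A] S) (w : A' ⊗[A] E)
    (hw : Algebra.TensorProduct.map (AlgHom.id A A') φ w = 0) :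
    ∃ s : E, IsUnit (φ s) ∧ ((1 : A') ⊗ₜ[A] s) * w = 0 := by
  have hnat : ∀ z : A' ⊗[A] E,
      Algebra.TensorProduct.map φ (AlgHom.id A A') (Algebra.TensorProduct.comm A A' E z)
        = Algebra.TensorProduct.comm A A' S
          (Algebra.TensorProduct.map (AlgHom.id A A') φ z) := by
    intro z
    induction z using TensorProduct.induction_on with
    | zero => simp
    | tmul a e => simp
    | add z₁ z₂ h₁ h₂ => simp only [map_add, h₁, h₂]
  have h1 : Algebra.TensorProduct.map φ (AlgHom.id A A')
      (Algebra.TensorProduct.comm A A' E w) = 0 := by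
    rw [hnat, hw, map_zero]
  obtain ⟨s, hs, h0⟩ := exists_smul_eq_zero_of_map_eq_zero A' φ _ h1
  refine ⟨s, hs, ?_⟩
  apply (Algebra.TensorProduct.comm A A' E).injective
  rw [map_mul, map_zero, Algebra.TensorProduct.comm_tmul, ← h0, Algebra.smul_def,
    Algebra.TensorProduct.algebraMap_apply]
  rfl

variable (hS : ∀ F : Finset S, ∃ (E : Type u) (_ : CommRing E) (_ : Algebra A E)
    (_ : Algebra.Etale A E) (φ : E →ₐ[A] S), ∀ x ∈ F, x ∈ φ.range)
  (hA' : ∀ (P : Ideal A') [P.IsPrime],
    IsDomain (Localization.AtPrime P) ∧ IsIntegrallyClosed (Localization.AtPrime P))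

include hS hA'

/-- `A' ⊗[A] S` is locally a domain: zero divisors die locally. -/
theorem exists_mul_eq_zero_of_mul_eq_zero (N : Ideal (A' ⊗[A] S)) [hN : N.IsPrime]
    (x y : A' ⊗[A] S) (hxy : x * y = 0) :
    ∃ t : A' ⊗[A] S, t ∉ N ∧ (t * x = 0 ∨ t * y = 0) := by
  classical
  obtain ⟨Tx, hTx⟩ := TensorProduct.exists_finset x
  obtain ⟨Ty, hTy⟩ := TensorProduct.exists_finset y
  obtain ⟨E, _, _, hE, φ, hφ⟩ := hS (Tx.image Prod.snd ∪ Ty.image Prod.snd)
  let ψ : A' ⊗[A] E →ₐ[A] A' ⊗[A] S := Algebra.TensorProduct.map (AlgHom.id A A') φ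
  have hrange : ∀ T : Finset (A' × S), (∀ i ∈ T, i.2 ∈ φ.range) →
      (T.sum fun i => i.1 ⊗ₜ[A] i.2) ∈ ψ.range := by
    intro T hT
    refine Subalgebra.sum_mem _ (fun i hi => ?_)
    obtain ⟨e, he⟩ := hT i hi
    refine ⟨i.1 ⊗ₜ[A] e, ?_⟩
    show ψ (i.1 ⊗ₜ[A] e) = _
    have he' : φ e = i.2 := he
    simp only [ψ, Algebra.TensorProduct.map_tmul, AlgHom.coe_id, id_eq, he']
  obtain ⟨x₀, hx₀⟩ : x ∈ ψ.range := by
    rw [hTx]
    exact hrange Tx (fun i hi => hφ _ (Finset.mem_union_left _ (Finset.mem_image_of_mem _ hi)))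
  obtain ⟨y₀, hy₀⟩ : y ∈ ψ.range := by
    rw [hTy]
    exact hrange Ty (fun i hi => hφ _ (Finset.mem_union_right _ (Finset.mem_image_of_mem _ hi)))
  replace hx₀ : ψ x₀ = x := hx₀
  replace hy₀ : ψ y₀ = y := hy₀
  obtain ⟨s, hsu, hs0⟩ := exists_mul_eq_zero_of_map_eq_zero A' φ (x₀ * y₀)
    (by show ψ (x₀ * y₀) = 0; rw [map_mul, hx₀, hy₀, hxy])
  let q : Ideal (A' ⊗[A] E) := N.comap (ψ : A' ⊗[A] E →+* A' ⊗[A] S)
  have hq : q.IsPrime := Ideal.comap_isPrime _ _
  let p : Ideal A' := q.comap (algebraMap A' (A' ⊗[A] E))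
  have hp : p.IsPrime := Ideal.comap_isPrime _ _
  have hsm : Algebra.Smooth A' (A' ⊗[A] E) := inferInstance
  obtain ⟨hdom, -⟩ := Groth.Agent.Lib.H30NormalSmooth.normal_of_smooth_atPrime A' (A' ⊗[A] E) q p
    rfl (Localization.AtPrime p) (Localization.AtPrime q) (hA' p)
  have hsq : ((1 : A') ⊗ₜ[A] s) ∉ q := by
    intro hmem
    have h1 : ψ ((1 : A') ⊗ₜ[A] s) ∈ N := hmem
    have h2 : IsUnit (ψ ((1 : A') ⊗ₜ[A] s)) := by
      have h3 : ψ ((1 : A') ⊗ₜ[A] s)
          = (Algebra.TensorProduct.includeRight : S →ₐ[A] A' ⊗[A] S) (φ s) := by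
        simp [ψ]
      rw [h3]
      exact hsu.map _
    exact hN.ne_top (Ideal.eq_top_of_isUnit_mem _ h1 h2)
  have h3 : algebraMap (A' ⊗[A] E) (Localization.AtPrime q) (x₀ * y₀) = 0 := by
    rw [IsLocalization.map_eq_zero_iff q.primeCompl]
    exact ⟨⟨_, hsq⟩, hs0⟩
  rw [map_mul] at h3
  rcases mul_eq_zero.1 h3 with h | h
  · obtain ⟨t₀, ht₀⟩ := (IsLocalization.map_eq_zero_iff q.primeCompl _ x₀).1 h
    refine ⟨ψ t₀.1, t₀.2, Or.inl ?_⟩
    rw [← hx₀, ← map_mul, ht₀, map_zero]
  · obtain ⟨t₀, ht₀⟩ := (IsLocalization.map_eq_zero_iff q.primeCompl _ y₀).1 h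
    refine ⟨ψ t₀.1, t₀.2, Or.inr ?_⟩
    rw [← hy₀, ← map_mul, ht₀, map_zero]

/-- The localization of `A' ⊗[A] S` at a prime is a domain. -/
theorem isDomain_localization_tensor (N : Ideal (A' ⊗[A] S)) [hN : N.IsPrime] :
    IsDomain (Localization.AtPrime N) := by
  have : NoZeroDivisors (Localization.AtPrime N) := by
    constructor
    intro a b hab
    obtain ⟨x, s, rfl⟩ := IsLocalization.exists_mk'_eq N.primeCompl a
    obtain ⟨y, s', rfl⟩ := IsLocalization.exists_mk'_eq N.primeCompl b
    rw [← IsLocalization.mk'_mul, IsLocalization.mk'_eq_zero_iff] at hab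
    obtain ⟨u, hu⟩ := hab
    obtain ⟨t, htN, ht⟩ := exists_mul_eq_zero_of_mul_eq_zero A' hS hA' N (u.1 * x) y
      (by rw [mul_assoc]; exact hu)
    rcases ht with ht | ht
    · left
      rw [IsLocalization.mk'_eq_zero_iff]
      exact ⟨⟨t * u.1, N.primeCompl.mul_mem htN u.2⟩, by rw [mul_assoc]; exact ht⟩
    · right
      rw [IsLocalization.mk'_eq_zero_iff]
      exact ⟨⟨t, htN⟩, ht⟩
  exact NoZeroDivisors.to_isDomain _

/-- Two minimal primes of `A' ⊗[A] S` contained in a common prime are equal. -/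
theorem minimalPrimes_eq_of_le (N : Ideal (A' ⊗[A] S)) [hN : N.IsPrime]
    {P P' : Ideal (A' ⊗[A] S)} (hP : P ∈ minimalPrimes (A' ⊗[A] S))
    (hP' : P' ∈ minimalPrimes (A' ⊗[A] S)) (hPN : P ≤ N) (hP'N : P' ≤ N) : P = P' := by
  have hdom := isDomain_localization_tensor A' hS hA' N
  have key : ∀ Q ∈ minimalPrimes (A' ⊗[A] S), Q ≤ N →
      Q = RingHom.ker (algebraMap (A' ⊗[A] S) (Localization.AtPrime N)) := by
    intro Q hQ hQN
    have hker : RingHom.ker (algebraMap (A' ⊗[A] S) (Localization.AtPrime N)) ≤ Q := by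
      intro z hz
      rw [RingHom.mem_ker, IsLocalization.map_eq_zero_iff N.primeCompl] at hz
      obtain ⟨m, hm⟩ := hz
      have h1 : (m : A' ⊗[A] S) * z ∈ Q := by rw [hm]; exact Q.zero_mem
      rcases hQ.1.1.mem_or_mem h1 with h | h
      · exact absurd (hQN h) m.2
      · exact h
    have hkprime : (RingHom.ker (algebraMap (A' ⊗[A] S) (Localization.AtPrime N))).IsPrime :=
      RingHom.ker_isPrime _
    exact le_antisymm (hQ.2 ⟨hkprime, bot_le⟩ hker) hker
  rw [key P hP hPN, key P' hP' hP'N]

end LD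

end Groth.Agent.Lib.Brnch98
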