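import Mathlib
import Groth.Agent.Lib.Brnch98
import Groth.Prelude.Def_Brnch
import Groth.Prelude.Def_EGA4b

/-!
# Branches of a local ring as a sum over minimal primes (helper98)

Tools for `Brnch.numBranches` / `Brnch.numGeomBranches`:
* `card_sigma`, `card_maximalSpectrum_congr`, `card_maximalSpectrum_pi`;
* `exists_ringEquiv_of_ker_eq`, `icEquiv` (ring isomorphisms induce isomorphisms of integral closures
  in total rings of fractions);
* `pOf`, `pOf_bijective` (minimal primes of `red A` vs. minimal primes of `A`), `exists_compEquiv`;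
* `HomOver`, `card_homOver_pi`, `card_sigma_emb` (geometric branches as ring homs to the algebraic
  closure of the residue field), `exists_closureEquiv`.
-/

set_option autoImplicit false
set_option maxHeartbeats 400000
universe u

namespace Groth.Agent.Lib.BrnchSum98

open Groth.Agent.Lib.TotalFrac Groth.Agent.Lib.Brnch98

section Card

theorem card_sigma {ι : Type*} [Fintype ι] (X : ι → Type*) :
    ENat.card (Σ i, X i) = ∑ i, ENat.card (X i) := by
  classical
  by_cases h : ∀ i, Finite (X i)
  · have hfin : Finite (Σ i, X i) := inferInstance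
    rw [ENat.card_eq_coe_natCard, Nat.card_sigma, Nat.cast_sum]
    exact Finset.sum_congr rfl (fun i _ => (ENat.card_eq_coe_natCard (X i)).symm)
  · push Not at h
    obtain ⟨i, hi⟩ := h
    have : Infinite (Σ i, X i) := Infinite.of_injective (Sigma.mk i) sigma_mk_injective
    rw [ENat.card_eq_top_of_infinite]
    symm
    rw [eq_top_iff]
    calc (⊤ : ℕ∞) = ENat.card (X i) := ENat.card_eq_top_of_infinite.symm
      _ ≤ ∑ i, ENat.card (X i) :=
        Finset.single_le_sum (f := fun i => ENat.card (X i)) (fun _ _ => zero_le)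
          (Finset.mem_univ i)

/-- A ring isomorphism induces a bijection on maximal spectra. -/
def maxSpecCongr {R R' : Type*} [CommRing R] [CommRing R'] (e : R ≃+* R') :
    MaximalSpectrum R ≃ MaximalSpectrum R' where
  toFun m := ⟨m.asIdeal.comap (e.symm : R' →+* R),
    haveI := m.isMaximal
    Ideal.comap_isMaximal_of_surjective (e.symm : R' →+* R) e.symm.surjective⟩
  invFun m := ⟨m.asIdeal.comap (e : R →+* R'),
    haveI := m.isMaximal
    Ideal.comap_isMaximal_of_surjective (e : R →+* R') e.surjective⟩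
  left_inv m := by
    apply MaximalSpectrum.ext
    ext x
    show e.symm (e x) ∈ m.asIdeal ↔ x ∈ m.asIdeal
    rw [e.symm_apply_apply]
  right_inv m := by
    apply MaximalSpectrum.ext
    ext x
    show e (e.symm x) ∈ m.asIdeal ↔ x ∈ m.asIdeal
    rw [e.apply_symm_apply]

theorem card_maximalSpectrum_congr {R R' : Type*} [CommRing R] [CommRing R'] (e : R ≃+* R') :
    ENat.card (MaximalSpectrum R) = ENat.card (MaximalSpectrum R') :=
  ENat.card_congr (maxSpecCongr e)

theorem card_maximalSpectrum_pi {ι : Type*} [Fintype ι] (C : ι → Type*) [∀ i, CommRing (C i)] :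
    ENat.card (MaximalSpectrum (∀ i, C i)) = ∑ i, ENat.card (MaximalSpectrum (C i)) := by
  classical
  rw [← card_sigma]
  symm
  let F : (Σ i, MaximalSpectrum (C i)) → MaximalSpectrum (∀ i, C i) := fun x =>
    ⟨x.2.asIdeal.comap (Pi.evalRingHom C x.1),
      haveI := x.2.isMaximal
      Ideal.comap_isMaximal_of_surjective (Pi.evalRingHom C x.1) (Function.surjective_eval x.1)⟩
  refine ENat.card_congr (Equiv.ofBijective F ⟨?_, ?_⟩)
  · rintro ⟨i, m⟩ ⟨j, m'⟩ h
    have h1 : m.asIdeal.comap (Pi.evalRingHom C i) = m'.asIdeal.comap (Pi.evalRingHom C j) :=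
      congrArg MaximalSpectrum.asIdeal h
    have h2 : PrimeSpectrum.sigmaToPi C ⟨i, m.toPrimeSpectrum⟩
        = PrimeSpectrum.sigmaToPi C ⟨j, m'.toPrimeSpectrum⟩ := by
      apply PrimeSpectrum.ext
      rw [PrimeSpectrum.sigmaToPi_apply, PrimeSpectrum.sigmaToPi_apply]
      exact h1
    have h3 := PrimeSpectrum.sigmaToPi_injective C h2
    obtain ⟨rfl, h4⟩ := Sigma.mk.inj_iff.mp h3
    have h5 : m.toPrimeSpectrum = m'.toPrimeSpectrum := eq_of_heq h4
    have h6 : m = m' := MaximalSpectrum.ext (congrArg PrimeSpectrum.asIdeal h5)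
    rw [h6]
  · intro M
    obtain ⟨⟨i, p⟩, hp⟩ := (PrimeSpectrum.sigmaToPi_bijective C).2 M.toPrimeSpectrum
    have hp' : p.asIdeal.comap (Pi.evalRingHom C i) = M.asIdeal := by
      have h := congrArg PrimeSpectrum.asIdeal hp
      rw [PrimeSpectrum.sigmaToPi_apply] at h
      exact h
    have hsurj : Function.Surjective (Pi.evalRingHom C i) := Function.surjective_eval i
    have hmax : p.asIdeal.IsMaximal := by
      have h1 : (p.asIdeal.comap (Pi.evalRingHom C i)).IsMaximal := hp' ▸ M.isMaximal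
      have h2 : (p.asIdeal.comap (Pi.evalRingHom C i)).map (Pi.evalRingHom C i) = p.asIdeal :=
        Ideal.map_comap_of_surjective _ hsurj _
      rcases Ideal.map_eq_top_or_isMaximal_of_surjective (Pi.evalRingHom C i) hsurj h1 with h | h
      · rw [h2] at h; exact absurd h p.isPrime.ne_top
      · rw [h2] at h; exact h
    exact ⟨⟨i, ⟨p.asIdeal, hmax⟩⟩, MaximalSpectrum.ext hp'⟩

end Card

section Iso

theorem exists_ringEquiv_of_ker_eq {A R₁ R₂ : Type*} [CommRing A] [CommRing R₁] [CommRing R₂]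
    (g₁ : A →+* R₁) (g₂ : A →+* R₂) (h₁ : Function.Surjective g₁) (h₂ : Function.Surjective g₂)
    (hk : RingHom.ker g₁ = RingHom.ker g₂) : ∃ e : R₁ ≃+* R₂, ∀ a, e (g₁ a) = g₂ a := by
  refine ⟨(RingHom.quotientKerEquivOfSurjective h₁).symm.trans
    ((Ideal.quotEquivOfEq hk).trans (RingHom.quotientKerEquivOfSurjective h₂)), fun a => ?_⟩
  rw [RingEquiv.trans_apply, RingHom.quotientKerEquivOfSurjective_symm_apply,
    RingEquiv.trans_apply, Ideal.quotEquivOfEq_mk, RingHom.quotientKerEquivOfSurjective_apply_mk]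

variable {R₁ R₂ : Type*} [CommRing R₁] [CommRing R₂] (e : R₁ ≃+* R₂)

theorem isIntegral_ringEquivOfRingEquiv {x : FractionRing R₁} (hx : IsIntegral R₁ x) :
    IsIntegral R₂ (IsFractionRing.ringEquivOfRingEquiv
      (K := FractionRing R₁) (L := FractionRing R₂) e x) := by
  refine hx.map_of_comp_eq (e : R₁ →+* R₂)
    ((IsFractionRing.ringEquivOfRingEquiv (K := FractionRing R₁) (L := FractionRing R₂) e :
      FractionRing R₁ ≃+* FractionRing R₂) : FractionRing R₁ →+* FractionRing R₂) ?_
  ext a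
  exact (IsFractionRing.ringEquivOfRingEquiv_algebraMap e a).symm

/-- A ring isomorphism induces an isomorphism of the integral closures in the total rings of
fractions. -/
noncomputable def icEquiv :
    integralClosure R₁ (FractionRing R₁) ≃+* integralClosure R₂ (FractionRing R₂) where
  toFun x := ⟨IsFractionRing.ringEquivOfRingEquiv
    (K := FractionRing R₁) (L := FractionRing R₂) e x.1, isIntegral_ringEquivOfRingEquiv e x.2⟩
  invFun y := ⟨IsFractionRing.ringEquivOfRingEquiv
    (K := FractionRing R₂) (L := FractionRing R₁) e.symm y.1,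
    isIntegral_ringEquivOfRingEquiv e.symm y.2⟩
  left_inv x := Subtype.ext
    ((IsFractionRing.ringEquivOfRingEquiv
      (K := FractionRing R₁) (L := FractionRing R₂) e).symm_apply_apply x.1)
  right_inv y := Subtype.ext
    ((IsFractionRing.ringEquivOfRingEquiv
      (K := FractionRing R₁) (L := FractionRing R₂) e).apply_symm_apply y.1)
  map_mul' x y := Subtype.ext (map_mul _ _ _)
  map_add' x y := Subtype.ext (map_add _ _ _)

theorem icEquiv_algebraMap (x : R₁) :
    icEquiv e (algebraMap R₁ (integralClosure R₁ (FractionRing R₁)) x)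
      = algebraMap R₂ (integralClosure R₂ (FractionRing R₂)) (e x) :=
  Subtype.ext (IsFractionRing.ringEquivOfRingEquiv_algebraMap e x)

end Iso

section MinPrime

variable (A : Type u) [CommRing A]

/-- The minimal prime of `A` under a minimal prime of `red A`. -/
def pOf (q : MinPrime (CAlg2.red A)) : minimalPrimes A :=
  ⟨q.1.comap (Ideal.Quotient.mk (nilradical A)), by
    rw [minimalPrimes_eq_comap_red]; exact ⟨q.1, q.2, rfl⟩⟩

theorem pOf_bijective : Function.Bijective (pOf A) := by
  constructor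
  · intro q q' h
    have h1 : q.1.comap (Ideal.Quotient.mk (nilradical A))
        = q'.1.comap (Ideal.Quotient.mk (nilradical A)) := congrArg Subtype.val h
    exact Subtype.ext (Ideal.comap_injective_of_surjective _ Ideal.Quotient.mk_surjective h1)
  · rintro ⟨p, hp⟩
    have hp' : p ∈ Ideal.comap (Ideal.Quotient.mk (nilradical A)) ''
        (minimalPrimes (CAlg2.red A)) := by
      rw [← minimalPrimes_eq_comap_red]; exact hp
    obtain ⟨q, hq, hqp⟩ := hp'
    exact ⟨⟨q, hq⟩, Subtype.ext hqp⟩

/-- The component of `normRed A` at a minimal prime `q` of `red A` is `normRed (A ⧸ p)`. -/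
theorem exists_compEquiv (q : MinPrime (CAlg2.red A))
    [hp : (q.1.comap (Ideal.Quotient.mk (nilradical A))).IsPrime] :
    ∃ ε : Cq (CAlg2.red A) q ≃+*
        CAlg2.normRed (A ⧸ q.1.comap (Ideal.Quotient.mk (nilradical A))),
      ∀ a : A, ε (algebraMap (CAlg2.red A) (Cq (CAlg2.red A) q)
          (Ideal.Quotient.mk (nilradical A) a))
        = algebraMap (CAlg2.red (A ⧸ q.1.comap (Ideal.Quotient.mk (nilradical A))))
            (CAlg2.normRed (A ⧸ q.1.comap (Ideal.Quotient.mk (nilradical A))))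
            (Ideal.Quotient.mk (nilradical (A ⧸ q.1.comap (Ideal.Quotient.mk (nilradical A))))
              (Ideal.Quotient.mk (q.1.comap (Ideal.Quotient.mk (nilradical A))) a)) := by
  set p := q.1.comap (Ideal.Quotient.mk (nilradical A)) with hpdef
  let g₁ : A →+* (CAlg2.red A ⧸ q.1) :=
    (Ideal.Quotient.mk q.1).comp (Ideal.Quotient.mk (nilradical A))
  let g₂ : A →+* CAlg2.red (A ⧸ p) :=
    (Ideal.Quotient.mk (nilradical (A ⧸ p))).comp (Ideal.Quotient.mk p)
  have h₁ : Function.Surjective g₁ :=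
    Ideal.Quotient.mk_surjective.comp Ideal.Quotient.mk_surjective
  have h₂ : Function.Surjective g₂ :=
    Ideal.Quotient.mk_surjective.comp Ideal.Quotient.mk_surjective
  have hk₁ : RingHom.ker g₁ = p := by
    rw [← RingHom.comap_ker, Ideal.mk_ker]
  have hk₂ : RingHom.ker g₂ = p := by
    rw [← RingHom.comap_ker, Ideal.mk_ker, nilradical_eq_zero, Ideal.zero_eq_bot,
      ← RingHom.ker_eq_comap_bot, Ideal.mk_ker]
  obtain ⟨e, he⟩ := exists_ringEquiv_of_ker_eq g₁ g₂ h₁ h₂ (hk₁.trans hk₂.symm)
  refine ⟨icEquiv e, fun a => ?_⟩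
  have h1 : algebraMap (CAlg2.red A) (Cq (CAlg2.red A) q) (Ideal.Quotient.mk (nilradical A) a)
      = algebraMap (CAlg2.red A ⧸ q.1) (Cq (CAlg2.red A) q) (g₁ a) := rfl
  rw [h1, icEquiv_algebraMap, he]
  rfl

end MinPrime

section Hom

/-- Ring homomorphisms `B → Ω` extending `g : A → Ω` along `f : A → B`. -/
abbrev HomOver {A B Ω : Type*} [CommRing A] [CommRing B] [CommRing Ω] (f : A →+* B)
    (g : A →+* Ω) := {χ : B →+* Ω // χ.comp f = g}

variable {A B B' Ω Ω' : Type*} [CommRing A] [CommRing B] [CommRing B'] [CommRing Ω] [CommRing Ω']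

def homOverCongr (e : B ≃+* B') (f : A →+* B) (g : A →+* Ω) :
    HomOver f g ≃ HomOver ((e : B →+* B').comp f) g where
  toFun χ := ⟨χ.1.comp (e.symm : B' →+* B), by
    ext a
    simpa using RingHom.congr_fun χ.2 a⟩
  invFun τ := ⟨τ.1.comp (e : B →+* B'), by rw [RingHom.comp_assoc]; exact τ.2⟩
  left_inv χ := Subtype.ext (by ext b; simp)
  right_inv τ := Subtype.ext (by ext b; simp)

def homOverTarget (Ψ : Ω ≃+* Ω') (f : A →+* B) (g : A →+* Ω) :
    HomOver f g ≃ HomOver f ((Ψ : Ω →+* Ω').comp g) where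
  toFun χ := ⟨(Ψ : Ω →+* Ω').comp χ.1, by rw [RingHom.comp_assoc, χ.2]⟩
  invFun τ := ⟨(Ψ.symm : Ω' →+* Ω).comp τ.1, by
    rw [RingHom.comp_assoc, τ.2]
    ext a
    simp⟩
  left_inv χ := Subtype.ext (by ext b; simp)
  right_inv τ := Subtype.ext (by ext b; simp)

def homOverPrecomp {A' : Type*} [CommRing A'] (π : A' →+* A) (hπ : Function.Surjective π)
    (f : A →+* B) (g : A →+* Ω) : HomOver f g ≃ HomOver (f.comp π) (g.comp π) :=
  Equiv.subtypeEquivRight (fun χ => by
    rw [← RingHom.comp_assoc]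
    exact ⟨fun h => by rw [h], fun h => (RingHom.cancel_right hπ).mp h⟩)

theorem card_homOver_pi {ι : Type*} [Fintype ι] (C : ι → Type*) [∀ i, CommRing (C i)]
    [IsDomain Ω] (f : A →+* (∀ i, C i)) (g : A →+* Ω) :
    ENat.card (HomOver f g) = ∑ i, ENat.card (HomOver ((Pi.evalRingHom C i).comp f) g) := by
  classical
  rw [← card_sigma]
  symm
  let F : (Σ i, HomOver ((Pi.evalRingHom C i).comp f) g) → HomOver f g := fun x =>
    ⟨x.2.1.comp (Pi.evalRingHom C x.1), by rw [RingHom.comp_assoc]; exact x.2.2⟩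
  refine ENat.card_congr (Equiv.ofBijective F ⟨?_, ?_⟩)
  · rintro ⟨i, χ⟩ ⟨j, τ⟩ h
    have h1 : χ.1.comp (Pi.evalRingHom C i) = τ.1.comp (Pi.evalRingHom C j) :=
      congrArg Subtype.val h
    have hij : i = j := by
      by_contra hne
      have h2 := RingHom.congr_fun h1 (Pi.single i 1)
      simp only [RingHom.comp_apply, Pi.evalRingHom_apply, Pi.single_eq_same, map_one] at h2
      rw [Pi.single_eq_of_ne (Ne.symm hne), map_zero] at h2
      exact one_ne_zero h2
    subst hij
    have h3 : χ.1 = τ.1 := (RingHom.cancel_right (Function.surjective_eval i)).mp h1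
    have h4 : χ = τ := Subtype.ext h3
    rw [h4]
  · intro χ
    have h1sum : ∑ i, (Pi.single i (1 : C i) : ∀ i, C i) = 1 :=
      Finset.univ_sum_single (1 : ∀ i, C i)
    obtain ⟨i, hi⟩ : ∃ i, χ.1 (Pi.single i 1) ≠ 0 := by
      by_contra hcon
      push Not at hcon
      have h0 : (1 : Ω) = 0 := by
        rw [← map_one χ.1, ← h1sum, map_sum]
        exact Finset.sum_eq_zero (fun i _ => hcon i)
      exact one_ne_zero h0
    have hone : χ.1 (Pi.single i 1) = 1 := by
      have hid : χ.1 (Pi.single i 1) * χ.1 (Pi.single i 1) = χ.1 (Pi.single i 1) := by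
        rw [← map_mul, ← Pi.single_mul, mul_one]
      have h0 : χ.1 (Pi.single i 1) * (χ.1 (Pi.single i 1) - 1) = 0 := by
        rw [mul_sub, hid, mul_one, sub_self]
      rcases mul_eq_zero.1 h0 with h | h
      · exact absurd h hi
      · exact sub_eq_zero.1 h
    let χi : C i →+* Ω :=
      { toFun := fun c => χ.1 (Pi.single i c)
        map_one' := hone
        map_mul' := fun a b => by rw [Pi.single_mul, map_mul]
        map_zero' := by rw [Pi.single_zero, map_zero]
        map_add' := fun a b => by rw [Pi.single_add, map_add] }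
    have hfac : χi.comp (Pi.evalRingHom C i) = χ.1 := by
      refine RingHom.ext fun x => ?_
      show χ.1 (Pi.single i (x i)) = χ.1 x
      have h2 : (Pi.single i (x i) : ∀ i, C i) = Pi.single i 1 * x := by
        rw [← Pi.single_mul_left, one_mul]
      rw [h2, map_mul, hone, one_mul]
    refine ⟨⟨i, ⟨χi, ?_⟩⟩, Subtype.ext hfac⟩
    rw [← RingHom.comp_assoc, hfac]
    exact χ.2

end Hom

section Geom

open IsLocalRing

variable (A : Type u) [CommRing A] [IsLocalRing A]

/-- The canonical map `A → normRed A`. -/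
noncomputable def fA : A →+* CAlg2.normRed A :=
  (algebraMap (CAlg2.red A) (CAlg2.normRed A)).comp (Ideal.Quotient.mk (nilradical A))

theorem algebraMap_eq_fA : algebraMap A (CAlg2.normRed A) = fA A :=
  IsScalarTower.algebraMap_eq A (CAlg2.red A) (CAlg2.normRed A)

theorem isMaximal_ker_of_homOver (χ : HomOver (fA A) (Brnch.toClosure A)) :
    (RingHom.ker χ.1).IsMaximal := by
  have hprime : (RingHom.ker χ.1).IsPrime := RingHom.ker_isPrime χ.1
  have hint := Groth.Agent.Lib.Unibranch98.isIntegral_normRed A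
  have hle : maximalIdeal A ≤ (RingHom.ker χ.1).comap (algebraMap A (CAlg2.normRed A)) := by
    intro a ha
    rw [Ideal.mem_comap, RingHom.mem_ker, algebraMap_eq_fA]
    have h1 : χ.1 (fA A a) = Brnch.toClosure A a := RingHom.congr_fun χ.2 a
    rw [h1]
    unfold Brnch.toClosure
    rw [RingHom.comp_apply, (residue_eq_zero_iff a).mpr ha, map_zero]
  have heq := (maximalIdeal.isMaximal A).eq_of_le (Ideal.comap_ne_top _ hprime.ne_top) hle
  exact Ideal.isMaximal_of_isIntegral_of_isMaximal_comap (R := A) _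
    (heq ▸ maximalIdeal.isMaximal A)

/-- Geometric branches are the ring homomorphisms `normRed A → κ̄` over `A`. -/
theorem card_sigma_emb :
    ENat.card (Σ m' : MaximalSpectrum (CAlg2.normRed A), Brnch.Emb A m')
      = ENat.card (HomOver (fA A) (Brnch.toClosure A)) := by
  let G := Σ m' : MaximalSpectrum (CAlg2.normRed A),
    {σ : CAlg2.normRed A ⧸ m'.asIdeal →+* AlgebraicClosure (ResidueField A) //
      σ.comp (Brnch.toResidue A m') = Brnch.toClosure A}
  have e0 : (Σ m' : MaximalSpectrum (CAlg2.normRed A), Brnch.Emb A m') ≃ G := Equiv.refl _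
  rw [ENat.card_congr e0]
  let F : G → HomOver (fA A) (Brnch.toClosure A) := fun x =>
    ⟨x.2.1.comp (Ideal.Quotient.mk x.1.asIdeal), by
      rw [RingHom.comp_assoc]; exact x.2.2⟩
  have hk : ∀ (m : MaximalSpectrum (CAlg2.normRed A))
      (σ : CAlg2.normRed A ⧸ m.asIdeal →+* AlgebraicClosure (ResidueField A)),
      RingHom.ker (σ.comp (Ideal.Quotient.mk m.asIdeal)) = m.asIdeal := by
    intro m σ
    haveI := m.isMaximal
    letI := Ideal.Quotient.field m.asIdeal
    rw [← RingHom.comap_ker, (RingHom.injective_iff_ker_eq_bot σ).mp σ.injective,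
      ← RingHom.ker_eq_comap_bot, Ideal.mk_ker]
  refine ENat.card_congr (Equiv.ofBijective F ⟨?_, ?_⟩)
  · rintro ⟨m', σ⟩ ⟨m'', τ⟩ h
    have h1 : σ.1.comp (Ideal.Quotient.mk m'.asIdeal) = τ.1.comp (Ideal.Quotient.mk m''.asIdeal) :=
      congrArg Subtype.val h
    have hm : m' = m'' := MaximalSpectrum.ext (by rw [← hk m' σ.1, ← hk m'' τ.1, h1])
    subst hm
    have h2 : σ = τ := Subtype.ext (Ideal.Quotient.ringHom_ext h1)
    rw [h2]
  · intro χ
    have hmax := isMaximal_ker_of_homOver A χ
    have hlift : (RingHom.kerLift χ.1).comp (Ideal.Quotient.mk (RingHom.ker χ.1)) = χ.1 := by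
      ext x
      exact RingHom.kerLift_mk χ.1 x
    refine ⟨⟨⟨RingHom.ker χ.1, hmax⟩, ⟨RingHom.kerLift χ.1, ?_⟩⟩, Subtype.ext hlift⟩
    show (RingHom.kerLift χ.1).comp ((Ideal.Quotient.mk (RingHom.ker χ.1)).comp (fA A))
      = Brnch.toClosure A
    rw [← RingHom.comp_assoc, hlift]
    exact χ.2

/-- The algebraic closures of the residue fields of `A` and `A ⧸ p` are compatibly isomorphic. -/
theorem exists_closureEquiv (p : Ideal A) [p.IsPrime] :
    ∃ Ψ : AlgebraicClosure (ResidueField A) ≃+* AlgebraicClosure (ResidueField (A ⧸ p)),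
      (Ψ : AlgebraicClosure (ResidueField A) →+* AlgebraicClosure (ResidueField (A ⧸ p))).comp
        (Brnch.toClosure A) = (Brnch.toClosure (A ⧸ p)).comp (Ideal.Quotient.mk p) := by
  have hloc : IsLocalHom (Ideal.Quotient.mk p) :=
    IsLocalHom.of_surjective _ Ideal.Quotient.mk_surjective
  let ρ₀ : ResidueField A →+* ResidueField (A ⧸ p) := ResidueField.map (Ideal.Quotient.mk p)
  have hρbij : Function.Bijective ρ₀ := by
    refine ⟨ρ₀.injective, fun y => ?_⟩
    obtain ⟨y', rfl⟩ := IsLocalRing.residue_surjective y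
    obtain ⟨a, rfl⟩ := Ideal.Quotient.mk_surjective y'
    exact ⟨residue A a, ResidueField.map_residue _ a⟩
  let ρ : ResidueField A ≃+* ResidueField (A ⧸ p) := RingEquiv.ofBijective ρ₀ hρbij
  refine ⟨IsAlgClosure.equivOfEquiv (AlgebraicClosure (ResidueField A))
    (AlgebraicClosure (ResidueField (A ⧸ p))) ρ, ?_⟩
  ext a
  unfold Brnch.toClosure
  simp only [RingHom.comp_apply, RingEquiv.coe_toRingHom]
  rw [IsAlgClosure.equivOfEquiv_algebraMap]
  rfl

end Geom

end Groth.Agent.Lib.BrnchSum98
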