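import Mathlib
import Groth.Agent.Lib.BrnchSum98

/-!
# Geometric branches and maximal ideals of `A' ⊗ S` (helper98)

* `card_minimalPrimes_eq_card_maximalSpectrum`: for `S` henselian local, flat and ind-étale over
  `A`, and `A'` integral over `A` and locally normal, minimal primes and maximal ideals of
  `A' ⊗[A] S` are equinumerous.
* `card_maximalSpectrum_eq_card_homs`: for `D` integral over a local ring `S` with separably closed
  residue field and `Ω` a perfect field, maximal ideals of `D` correspond to ring homs `D → Ω`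
  extending a fixed embedding of the residue field of `S`.
* `card_homs_tensor`: universal property of `A' ⊗[A] S` for ring homs to `Ω`.
* `toClosure_eq`.
-/

set_option autoImplicit false
set_option maxHeartbeats 400000
universe u

namespace Groth.Agent.Lib.BrnchGeom98

open TensorProduct IsLocalRing Groth.Agent.Lib.Brnch98 Groth.Agent.Lib.BrnchSum98

section StepI

attribute [local instance] Algebra.TensorProduct.rightAlgebra

variable (A S : Type u) [CommRing A] [CommRing S] [IsLocalRing S] [Algebra A S]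
  [HenselianLocalRing S] [Module.Flat A S]
  (A' : Type u) [CommRing A'] [Algebra A A'] [Algebra.IsIntegral A A']

theorem card_minimalPrimes_eq_card_maximalSpectrum
    (hS : ∀ F : Finset S, ∃ (E : Type u) (_ : CommRing E) (_ : Algebra A E)
      (_ : Algebra.Etale A E) (φ : E →ₐ[A] S), ∀ x ∈ F, x ∈ φ.range)
    (hA' : ∀ (P : Ideal A') [P.IsPrime],
      IsDomain (Localization.AtPrime P) ∧ IsIntegrallyClosed (Localization.AtPrime P)) :
    ENat.card (minimalPrimes (A' ⊗[A] S)) = ENat.card (MaximalSpectrum (A' ⊗[A] S)) := by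
  classical
  have hint : Algebra.IsIntegral S (A' ⊗[A] S) :=
    Groth.Agent.Lib.Unibranch98.isIntegral_right A A' S
  have hex : ∀ N : MaximalSpectrum (A' ⊗[A] S),
      ∃ P ∈ minimalPrimes (A' ⊗[A] S), P ≤ N.asIdeal := by
    intro N
    have : N.asIdeal.IsPrime := N.isMaximal.isPrime
    exact Ideal.exists_minimalPrimes_le (I := ⊥) (J := N.asIdeal) bot_le
  choose P hPmin hPle using hex
  let g : MaximalSpectrum (A' ⊗[A] S) → minimalPrimes (A' ⊗[A] S) := fun N => ⟨P N, hPmin N⟩
  have hinj : Function.Injective g := by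
    intro N N' h
    have hPP : P N = P N' := congrArg Subtype.val h
    have hprime : (P N).IsPrime := (hPmin N).1.1
    exact MaximalSpectrum.ext (maximal_unique_of_prime_le S (A' ⊗[A] S) (P N) N.isMaximal
      N'.isMaximal (hPle N) (hPP ▸ hPle N'))
  have hsurj : Function.Surjective g := by
    rintro ⟨Q, hQ⟩
    have hQprime : Q.IsPrime := hQ.1.1
    obtain ⟨N, hNmax, hQN⟩ := Ideal.exists_le_maximal Q hQprime.ne_top
    have hNprime : N.IsPrime := hNmax.isPrime
    refine ⟨⟨N, hNmax⟩, Subtype.ext ?_⟩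
    exact minimalPrimes_eq_of_le A' hS hA' N (hPmin ⟨N, hNmax⟩) hQ (hPle ⟨N, hNmax⟩) hQN
  exact (ENat.card_congr (Equiv.ofBijective g ⟨hinj, hsurj⟩)).symm

end StepI

section StepII

attribute [local instance] Algebra.TensorProduct.rightAlgebra

variable (A S A' : Type u) [CommRing A] [CommRing S] [Algebra A S] [CommRing A'] [Algebra A A']

theorem card_homs_tensor (Ω : Type u) [CommRing Ω] [Algebra A Ω] (j : S →ₐ[A] Ω) :
    ENat.card {θ : A' ⊗[A] S →+* Ω // θ.comp (algebraMap S (A' ⊗[A] S)) = (j : S →+* Ω)}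
      = ENat.card {χ : A' →+* Ω // χ.comp (algebraMap A A') = algebraMap A Ω} := by
  have hR : ∀ s : S, algebraMap S (A' ⊗[A] S) s = (1 : A') ⊗ₜ[A] s := fun s =>
    Algebra.TensorProduct.right_algebraMap_apply s
  let R : {θ : A' ⊗[A] S →+* Ω // θ.comp (algebraMap S (A' ⊗[A] S)) = (j : S →+* Ω)} →
      {χ : A' →+* Ω // χ.comp (algebraMap A A') = algebraMap A Ω} := fun θ =>
    ⟨θ.1.comp (Algebra.TensorProduct.includeLeft : A' →ₐ[A] A' ⊗[A] S).toRingHom, by
      refine RingHom.ext fun a => ?_
      show θ.1 ((algebraMap A A' a) ⊗ₜ[A] (1 : S)) = algebraMap A Ω a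
      have h1 : (algebraMap A A' a) ⊗ₜ[A] (1 : S) = algebraMap S (A' ⊗[A] S) (algebraMap A S a) := by
        rw [hR, Algebra.algebraMap_eq_smul_one, Algebra.algebraMap_eq_smul_one,
          TensorProduct.smul_tmul]
      rw [h1]
      have h2 : θ.1 (algebraMap S (A' ⊗[A] S) (algebraMap A S a)) = j (algebraMap A S a) :=
        RingHom.congr_fun θ.2 (algebraMap A S a)
      rw [h2, j.commutes]⟩
  refine ENat.card_congr (Equiv.ofBijective R ⟨?_, ?_⟩)
  · rintro ⟨θ₁, h₁⟩ ⟨θ₂, h₂⟩ h
    have hL : θ₁.comp (Algebra.TensorProduct.includeLeft : A' →ₐ[A] A' ⊗[A] S).toRingHom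
        = θ₂.comp (Algebra.TensorProduct.includeLeft : A' →ₐ[A] A' ⊗[A] S).toRingHom :=
      congrArg Subtype.val h
    apply Subtype.ext
    refine RingHom.ext fun z => ?_
    induction z using TensorProduct.induction_on with
    | zero => rw [map_zero, map_zero]
    | tmul a s =>
      have h3 : a ⊗ₜ[A] s = (a ⊗ₜ[A] (1 : S)) * algebraMap S (A' ⊗[A] S) s := by
        rw [hR, Algebra.TensorProduct.tmul_mul_tmul, mul_one, one_mul]
      have h4 : θ₁ (a ⊗ₜ[A] (1 : S)) = θ₂ (a ⊗ₜ[A] (1 : S)) := RingHom.congr_fun hL a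
      have h5 : θ₁ (algebraMap S (A' ⊗[A] S) s) = θ₂ (algebraMap S (A' ⊗[A] S) s) := by
        rw [show θ₁ (algebraMap S (A' ⊗[A] S) s) = j s from RingHom.congr_fun h₁ s,
          show θ₂ (algebraMap S (A' ⊗[A] S) s) = j s from RingHom.congr_fun h₂ s]
      show θ₁ (a ⊗ₜ[A] s) = θ₂ (a ⊗ₜ[A] s)
      rw [h3, map_mul, map_mul, h4, h5]
    | add x y hx hy =>
      have hx' : θ₁ x = θ₂ x := hx
      have hy' : θ₁ y = θ₂ y := hy
      show θ₁ (x + y) = θ₂ (x + y)
      rw [map_add, map_add, hx', hy']
  · rintro ⟨χ, hχ⟩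
    let χₐ : A' →ₐ[A] Ω := { χ with commutes' := fun a => RingHom.congr_fun hχ a }
    let θ : A' ⊗[A] S →+* Ω := (Algebra.TensorProduct.productMap χₐ j).toRingHom
    refine ⟨⟨θ, ?_⟩, Subtype.ext ?_⟩
    · refine RingHom.ext fun s => ?_
      show Algebra.TensorProduct.productMap χₐ j (algebraMap S (A' ⊗[A] S) s) = j s
      rw [hR, Algebra.TensorProduct.productMap_right_apply]
    · refine RingHom.ext fun a => ?_
      show Algebra.TensorProduct.productMap χₐ j (a ⊗ₜ[A] (1 : S)) = χ a
      rw [Algebra.TensorProduct.productMap_left_apply]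
      rfl

end StepII

section StepIII

variable (S D Ω : Type u) [CommRing S] [IsLocalRing S] [IsSepClosed (ResidueField S)]
  [CommRing D] [Algebra S D] [Algebra.IsIntegral S D] [Field Ω] [PerfectField Ω]
  (ι : ResidueField S →+* Ω)

theorem existsUnique_lift (N : MaximalSpectrum D) :
    ∃! θ' : D ⧸ N.asIdeal →+* Ω,
      (θ'.comp (Ideal.Quotient.mk N.asIdeal)).comp (algebraMap S D) = ι.comp (residue S) := by
  haveI := N.isMaximal
  letI := Ideal.Quotient.field N.asIdeal
  let f : S →+* D ⧸ N.asIdeal := (Ideal.Quotient.mk N.asIdeal).comp (algebraMap S D)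
  have hcomap : N.asIdeal.comap (algebraMap S D) = maximalIdeal S :=
    IsLocalRing.eq_maximalIdeal
      (Ideal.isMaximal_comap_of_isIntegral_of_isMaximal (R := S) N.asIdeal)
  have hloc : IsLocalHom f := by
    constructor
    intro s hs
    by_contra hns
    have h1 : s ∈ maximalIdeal S := hns
    rw [← hcomap] at h1
    have h2 : f s = 0 := Ideal.Quotient.eq_zero_iff_mem.mpr h1
    rw [h2] at hs
    exact not_isUnit_zero hs
  let ρ : ResidueField S →+* D ⧸ N.asIdeal := ResidueField.lift f
  have hρ : ρ.comp (residue S) = f := ResidueField.lift_comp_residue f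
  letI : Algebra (ResidueField S) (D ⧸ N.asIdeal) := ρ.toAlgebra
  have hint : Algebra.IsIntegral (ResidueField S) (D ⧸ N.asIdeal) := by
    constructor
    intro l
    obtain ⟨d, rfl⟩ := Ideal.Quotient.mk_surjective l
    exact (Algebra.IsIntegral.isIntegral (R := S) d).map_of_comp_eq (residue S)
      (Ideal.Quotient.mk N.asIdeal) hρ
  have halg : Algebra.IsAlgebraic (ResidueField S) (D ⧸ N.asIdeal) := inferInstance
  have hpi : IsPurelyInseparable (ResidueField S) (D ⧸ N.asIdeal) := inferInstance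
  have hbij := IsPurelyInseparable.bijective_comp_algebraMap (ResidueField S) (D ⧸ N.asIdeal) Ω
  obtain ⟨θ', hθ'⟩ := hbij.2 ι
  have hθ'' : θ'.comp ρ = ι := hθ'
  refine ⟨θ', ?_, ?_⟩
  · show (θ'.comp (Ideal.Quotient.mk N.asIdeal)).comp (algebraMap S D) = ι.comp (residue S)
    rw [RingHom.comp_assoc, ← hθ'', RingHom.comp_assoc, hρ]
  · intro θ₂ hθ₂
    apply hbij.1
    show θ₂.comp ρ = θ'.comp ρ
    rw [hθ'']
    apply (RingHom.cancel_right (IsLocalRing.residue_surjective)).mp
    rw [RingHom.comp_assoc, hρ]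
    rw [RingHom.comp_assoc] at hθ₂
    exact hθ₂

theorem card_maximalSpectrum_eq_card_homs :
    ENat.card (MaximalSpectrum D)
      = ENat.card {θ : D →+* Ω // θ.comp (algebraMap S D) = ι.comp (residue S)} := by
  classical
  have hex := fun N => (existsUnique_lift S D Ω ι N).exists
  choose θ' hθ' using hex
  have huniq : ∀ (N : MaximalSpectrum D) (θ₂ : D ⧸ N.asIdeal →+* Ω),
      (θ₂.comp (Ideal.Quotient.mk N.asIdeal)).comp (algebraMap S D) = ι.comp (residue S) →
      θ₂ = θ' N := fun N θ₂ h => (existsUnique_lift S D Ω ι N).unique h (hθ' N)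
  let G : MaximalSpectrum D →
      {θ : D →+* Ω // θ.comp (algebraMap S D) = ι.comp (residue S)} := fun N =>
    ⟨(θ' N).comp (Ideal.Quotient.mk N.asIdeal), hθ' N⟩
  refine ENat.card_congr (Equiv.ofBijective G ⟨?_, ?_⟩)
  · intro N N' h
    have h1 : (θ' N).comp (Ideal.Quotient.mk N.asIdeal)
        = (θ' N').comp (Ideal.Quotient.mk N'.asIdeal) := congrArg Subtype.val h
    have hk : ∀ N : MaximalSpectrum D,
        RingHom.ker ((θ' N).comp (Ideal.Quotient.mk N.asIdeal)) = N.asIdeal := by
      intro N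
      haveI := N.isMaximal
      letI := Ideal.Quotient.field N.asIdeal
      rw [← RingHom.comap_ker, (RingHom.injective_iff_ker_eq_bot (θ' N)).mp (θ' N).injective,
        ← RingHom.ker_eq_comap_bot, Ideal.mk_ker]
    exact MaximalSpectrum.ext (by rw [← hk N, ← hk N', h1])
  · rintro ⟨θ, hθ⟩
    have hprime : (RingHom.ker θ).IsPrime := RingHom.ker_isPrime θ
    have hcomap : (RingHom.ker θ).comap (algebraMap S D) = maximalIdeal S := by
      rw [RingHom.comap_ker, hθ, ← RingHom.comap_ker,
        (RingHom.injective_iff_ker_eq_bot ι).mp ι.injective, ← RingHom.ker_eq_comap_bot]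
      exact IsLocalRing.ker_residue
    have hmax : (RingHom.ker θ).IsMaximal :=
      Ideal.isMaximal_of_isIntegral_of_isMaximal_comap (R := S) _
        (hcomap ▸ maximalIdeal.isMaximal S)
    let N : MaximalSpectrum D := ⟨RingHom.ker θ, hmax⟩
    have hlift : (RingHom.kerLift θ).comp (Ideal.Quotient.mk (RingHom.ker θ)) = θ := by
      ext x
      exact RingHom.kerLift_mk θ x
    have h2 : RingHom.kerLift θ = θ' N := huniq N (RingHom.kerLift θ) (by
      show ((RingHom.kerLift θ).comp (Ideal.Quotient.mk (RingHom.ker θ))).comp (algebraMap S D)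
        = ι.comp (residue S)
      rw [hlift]
      exact hθ)
    refine ⟨N, Subtype.ext ?_⟩
    show (θ' N).comp (Ideal.Quotient.mk (RingHom.ker θ)) = θ
    rw [← h2, hlift]

end StepIII

section Closure

variable (A : Type u) [CommRing A] [IsLocalRing A]

theorem toClosure_eq :
    Brnch.toClosure A = algebraMap A (AlgebraicClosure (ResidueField A)) :=
  RingHom.ext fun a =>
    (IsScalarTower.algebraMap_apply A (ResidueField A) (AlgebraicClosure (ResidueField A)) a).symm

end Closure

end Groth.Agent.Lib.BrnchGeom98
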