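import Groth.Agent.Lib.UnibranchCpl51
import Groth.Agent.Lib.NormalizationIsoTot51
import Groth.Agent.Lib.Brnch98
import Groth.Agent.Lib.BrnchSum98
import Groth.Agent.Lib.BrnchGeom98

/-!
# Branches of the completion of a local ring with geometrically normal formal fibres

For a Noetherian local ring `A` with geometrically normal formal fibres, the normalization of
`(Â)_red` is `N ⊗_A Â`, `N` the normalization of `A_red` (`exists_equiv`); consequently `A` and `Â`
have the same number of branches and of geometric branches.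
-/

set_option autoImplicit false
set_option linter.style.haveILetI false
set_option linter.unusedSectionVars false
universe u

open TensorProduct IsLocalRing

namespace Groth.Agent.Lib.BranchesCpl51

/-- `C → B ⊗_A C` is integral when `B` is finite over `A`. -/
theorem includeRight_isIntegral (A B C : Type u) [CommRing A] [CommRing B] [CommRing C]
    [Algebra A B] [Algebra A C] [Module.Finite A B] :
    (Algebra.TensorProduct.includeRight : C →ₐ[A] B ⊗[A] C).toRingHom.IsIntegral := by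
  haveI : Algebra.IsIntegral C (C ⊗[A] B) := Algebra.IsIntegral.of_finite _ _
  intro y
  have h1 : IsIntegral C (Algebra.TensorProduct.comm A B C y) :=
    Algebra.IsIntegral.isIntegral _
  obtain ⟨p, hp, hpy⟩ := h1
  refine ⟨p, hp, ?_⟩
  have h2 : (Algebra.TensorProduct.comm A B C).toRingEquiv.toRingHom.comp
      (Algebra.TensorProduct.includeRight : C →ₐ[A] B ⊗[A] C).toRingHom =
      algebraMap C (C ⊗[A] B) := by
    ext x
    simp
  apply (Algebra.TensorProduct.comm A B C).injective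
  rw [map_zero]
  have h3 := Polynomial.hom_eval₂ p
    (Algebra.TensorProduct.includeRight : C →ₐ[A] B ⊗[A] C).toRingHom
    (Algebra.TensorProduct.comm A B C).toRingEquiv.toRingHom y
  rw [h2] at h3
  exact h3.trans hpy

section iso

variable (A : Type u) [CommRing A] [IsNoetherianRing A] [IsLocalRing A]

theorem nontrivial_red : Nontrivial (CAlg2.red A) :=
  Ideal.Quotient.nontrivial_iff.mpr
    (ne_top_of_le_ne_top (maximalIdeal.isMaximal A).ne_top (nilradical_le_prime _))

theorem finite_normRed (hA : EGA4.HasGeomNormalFormalFibres A) :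
    Module.Finite A (CAlg2.normRed A) := by
  haveI := nontrivial_red A
  haveI := Groth.Agent.Lib.Brnch98.isReduced_red A
  have hR : EGA4.HasGeomNormalFormalFibres (CAlg2.red A) :=
    Groth.Agent.S4754.result A hA (nilradical A)
  haveI : Module.Finite (CAlg2.red A) (CAlg2.normRed A) :=
    (Groth.Agent.Lib.GeomNormalFibres98.main (CAlg2.red A) hR).2
  haveI : Module.Finite A (CAlg2.red A) :=
    Module.Finite.of_surjective (Algebra.linearMap A (CAlg2.red A)) Ideal.Quotient.mk_surjective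
  exact Module.Finite.trans (CAlg2.red A) (CAlg2.normRed A)

theorem isNormalRing_normRed : EGA4.IsNormalRing (CAlg2.normRed A) := fun P _ =>
  Groth.Agent.Lib.Brnch98.normRed_normal_localization A
    (minimalPrimes.finite_of_isNoetherianRing A) P

/-- `N ⊗_A Â` is a Noetherian normal ring. -/
theorem isNoetherianRing_tensor (hA : EGA4.HasGeomNormalFormalFibres A) :
    IsNoetherianRing (CAlg2.normRed A ⊗[A] EGA4.Cpl A) := by
  haveI := finite_normRed A hA
  haveI : IsNoetherianRing (EGA4.Cpl A) :=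
    Groth.Agent.Lib.AdicNoeth.isNoetherianRing_adicCompletion _
  haveI : IsNoetherianRing (EGA4.Cpl A ⊗[A] CAlg2.normRed A) :=
    Groth.Agent.Lib.H30NormalHom.isNoetherianRing_tensor_of_essFiniteType A (EGA4.Cpl A)
      (CAlg2.normRed A)
  exact isNoetherianRing_of_ringEquiv _
    (Algebra.TensorProduct.comm A (CAlg2.normRed A) (EGA4.Cpl A)).symm.toRingEquiv

theorem isNormalRing_tensor (hA : EGA4.HasGeomNormalFormalFibres A) :
    EGA4.IsNormalRing (CAlg2.normRed A ⊗[A] EGA4.Cpl A) := by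
  haveI := finite_normRed A hA
  haveI : IsNoetherianRing (CAlg2.normRed A) := IsNoetherianRing.of_finite A (CAlg2.normRed A)
  haveI := isNoetherianRing_tensor A hA
  have hnh : EGA4.IsNormalHom A (EGA4.Cpl A) :=
    ⟨AdicCompletion.flat_of_isNoetherian _, fun p _ => hA p⟩
  have hnh' : EGA4.IsNormalHom (CAlg2.normRed A) (CAlg2.normRed A ⊗[A] EGA4.Cpl A) :=
    Groth.Agent.Lib.H30NormalHom.isNormalHom_baseChange A (EGA4.Cpl A) (CAlg2.normRed A) hnh
  exact Groth.Agent.Lib.H14NormalHom.isNormalRing_of_isNormalHom (CAlg2.normRed A) _ hnh'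
    (isNormalRing_normRed A)

theorem isIntegrallyClosed_tensor (hA : EGA4.HasGeomNormalFormalFibres A) :
    IsIntegrallyClosed (CAlg2.normRed A ⊗[A] EGA4.Cpl A) :=
  Groth.Agent.Lib.NormalizationIsoTot51.isIntegrallyClosed_of_localization _
    (isNormalRing_tensor A hA)

theorem isReduced_tensor (hA : EGA4.HasGeomNormalFormalFibres A) :
    IsReduced (CAlg2.normRed A ⊗[A] EGA4.Cpl A) := by
  have hT := isNormalRing_tensor A hA
  refine ⟨fun x hx => ?_⟩
  by_contra hne
  -- the annihilator of `x` is a proper ideal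
  have hann2 : (Submodule.span (CAlg2.normRed A ⊗[A] EGA4.Cpl A) {x}).annihilator ≠ ⊤ := by
    intro h
    have h1 : (1 : CAlg2.normRed A ⊗[A] EGA4.Cpl A) ∈
        (Submodule.span (CAlg2.normRed A ⊗[A] EGA4.Cpl A) {x}).annihilator := by
      rw [h]; trivial
    rw [Submodule.mem_annihilator_span_singleton] at h1
    exact hne (by simpa using h1)
  obtain ⟨p, hp, hle⟩ := Ideal.exists_le_maximal _ hann2
  haveI := hp.isPrime
  obtain ⟨hdom, -⟩ := hT p
  haveI := hdom
  have h0 : algebraMap _ (Localization.AtPrime p) x = 0 := by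
    have := hx.map (algebraMap _ (Localization.AtPrime p))
    exact this.eq_zero
  rw [IsLocalization.map_eq_zero_iff p.primeCompl] at h0
  obtain ⟨⟨u, hu⟩, hux⟩ := h0
  apply hu
  apply hle
  rw [Submodule.mem_annihilator_span_singleton]
  simpa using hux

/-- The kernel of `Â → N ⊗_A Â` consists of nilpotent elements. -/
theorem isNilpotent_of_tmul_eq_zero (x : EGA4.Cpl A)
    (hx : (1 : CAlg2.normRed A) ⊗ₜ[A] x = 0) : IsNilpotent x := by
  haveI : Module.Flat A (EGA4.Cpl A) := AdicCompletion.flat_of_isNoetherian _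
  -- `R ⊗ Â → N ⊗ Â` is injective
  have hinj : Function.Injective (LinearMap.rTensor (EGA4.Cpl A)
      ((Algebra.linearMap (CAlg2.red A) (CAlg2.normRed A)).restrictScalars A)) :=
    Module.Flat.rTensor_preserves_injective_linearMap _
      (Groth.Agent.Lib.Unibranch98.algebraMap_red_normRed_injective A)
  have h1 : (1 : CAlg2.red A) ⊗ₜ[A] x = 0 := by
    apply hinj
    rw [map_zero, LinearMap.rTensor_tmul]
    simpa using hx
  have h2 : (Submodule.Quotient.mk x : EGA4.Cpl A ⧸ (nilradical A • (⊤ : Submodule A (EGA4.Cpl A))))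
      = 0 := by
    rw [← TensorProduct.quotTensorEquivQuotSMul_mk_one_tmul, h1, map_zero]
  rw [Submodule.Quotient.mk_eq_zero] at h2
  have hle : nilradical A • (⊤ : Submodule A (EGA4.Cpl A)) ≤
      (nilradical (EGA4.Cpl A)).restrictScalars A := by
    rw [Submodule.smul_le]
    intro a ha y _
    rw [Submodule.restrictScalars_mem, Algebra.smul_def]
    refine Ideal.mul_mem_right _ _ ?_
    rw [mem_nilradical] at ha ⊢
    exact ha.map (algebraMap A (EGA4.Cpl A))
  exact mem_nilradical.mp (hle h2)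

theorem coe_smul_normRed (s : A) (n : CAlg2.normRed A) :
    ((s • n : CAlg2.normRed A) : FractionRing (CAlg2.red A)) =
      algebraMap (CAlg2.red A) (FractionRing (CAlg2.red A))
        (Ideal.Quotient.mk (nilradical A) s) * (n : FractionRing (CAlg2.red A)) := by
  rw [Algebra.smul_def]
  rfl

/-- Elements of `A` regular on `A_red` are regular on `N ⊗_A Â`. -/
theorem isSMulRegular_tensor (s : A)
    (hs : Ideal.Quotient.mk (nilradical A) s ∈ nonZeroDivisors (CAlg2.red A)) :
    IsSMulRegular (CAlg2.normRed A ⊗[A] EGA4.Cpl A) s := by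
  haveI : Module.Flat A (EGA4.Cpl A) := AdicCompletion.flat_of_isNoetherian _
  refine IsSMulRegular.rTensor (EGA4.Cpl A) ?_
  intro n₁ n₂ h
  apply Subtype.ext
  have hu : IsUnit (algebraMap (CAlg2.red A) (FractionRing (CAlg2.red A))
      (Ideal.Quotient.mk (nilradical A) s)) :=
    IsLocalization.map_units (FractionRing (CAlg2.red A))
      (⟨_, hs⟩ : nonZeroDivisors (CAlg2.red A))
  apply hu.mul_left_cancel
  have h' : ((s • n₁ : CAlg2.normRed A) : FractionRing (CAlg2.red A)) =
      ((s • n₂ : CAlg2.normRed A) : FractionRing (CAlg2.red A)) := congrArg Subtype.val h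
  rw [coe_smul_normRed, coe_smul_normRed] at h'
  exact h'

/-- Every element of `N ⊗_A Â` is a fraction with numerator in `Â` and denominator in `A`. -/
theorem birational (t : CAlg2.normRed A ⊗[A] EGA4.Cpl A) :
    ∃ (s : A) (a : EGA4.Cpl A),
      Ideal.Quotient.mk (nilradical A) s ∈ nonZeroDivisors (CAlg2.red A) ∧
      s • t = (1 : CAlg2.normRed A) ⊗ₜ[A] a := by
  induction t using TensorProduct.induction_on with
  | zero => exact ⟨1, 0, by rw [map_one]; exact one_mem _, by simp⟩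
  | tmul n x =>
    obtain ⟨⟨r₁, ⟨r₂, hr₂⟩⟩, h⟩ := IsLocalization.surj (nonZeroDivisors (CAlg2.red A))
      (n : FractionRing (CAlg2.red A))
    simp only at h
    obtain ⟨a₁, rfl⟩ := Ideal.Quotient.mk_surjective r₁
    obtain ⟨a₂, rfl⟩ := Ideal.Quotient.mk_surjective r₂
    have hN : a₂ • n = algebraMap A (CAlg2.normRed A) a₁ := by
      apply Subtype.ext
      rw [coe_smul_normRed, mul_comm, h]
      rfl
    refine ⟨a₂, a₁ • x, hr₂, ?_⟩
    rw [TensorProduct.smul_tmul', hN, Algebra.algebraMap_eq_smul_one, TensorProduct.smul_tmul]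
  | add t₁ t₂ h₁ h₂ =>
    obtain ⟨s₁, a₁, hs₁, e₁⟩ := h₁
    obtain ⟨s₂, a₂, hs₂, e₂⟩ := h₂
    refine ⟨s₁ * s₂, s₂ • a₁ + s₁ • a₂, ?_, ?_⟩
    · rw [map_mul]; exact mul_mem hs₁ hs₂
    · rw [smul_add, mul_smul, mul_smul, smul_comm s₁ s₂ t₁, e₁, e₂, TensorProduct.tmul_add,
        TensorProduct.tmul_smul, TensorProduct.tmul_smul]

/-- The normalization of `(Â)_red` is `N ⊗_A Â`, `N` the normalization of `A_red`. -/
theorem exists_equiv (hA : EGA4.HasGeomNormalFormalFibres A) :
    ∃ e : CAlg2.normRed A ⊗[A] EGA4.Cpl A ≃+* CAlg2.normRed (EGA4.Cpl A),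
      ∀ x : EGA4.Cpl A, e ((1 : CAlg2.normRed A) ⊗ₜ[A] x) =
        algebraMap (CAlg2.red (EGA4.Cpl A)) (CAlg2.normRed (EGA4.Cpl A))
          (Ideal.Quotient.mk (nilradical (EGA4.Cpl A)) x) := by
  haveI := finite_normRed A hA
  haveI := isIntegrallyClosed_tensor A hA
  haveI := isReduced_tensor A hA
  have hf0 : ∀ a ∈ nilradical (EGA4.Cpl A),
      (Algebra.TensorProduct.includeRight :
        EGA4.Cpl A →ₐ[A] CAlg2.normRed A ⊗[A] EGA4.Cpl A).toRingHom a = 0 := fun a ha =>
    (IsNilpotent.map (mem_nilradical.mp ha) _).eq_zero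
  letI alg : Algebra (CAlg2.red (EGA4.Cpl A)) (CAlg2.normRed A ⊗[A] EGA4.Cpl A) :=
    (Ideal.Quotient.lift (nilradical (EGA4.Cpl A))
      (Algebra.TensorProduct.includeRight :
        EGA4.Cpl A →ₐ[A] CAlg2.normRed A ⊗[A] EGA4.Cpl A).toRingHom hf0).toAlgebra
  have halg : ∀ x : EGA4.Cpl A, algebraMap (CAlg2.red (EGA4.Cpl A))
      (CAlg2.normRed A ⊗[A] EGA4.Cpl A) (Ideal.Quotient.mk (nilradical (EGA4.Cpl A)) x) =
      (1 : CAlg2.normRed A) ⊗ₜ[A] x := fun x => rfl
  have hinj : Function.Injective (algebraMap (CAlg2.red (EGA4.Cpl A))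
      (CAlg2.normRed A ⊗[A] EGA4.Cpl A)) := by
    rw [injective_iff_map_eq_zero]
    intro s hs
    obtain ⟨x, rfl⟩ := Ideal.Quotient.mk_surjective s
    rw [halg] at hs
    rw [Ideal.Quotient.eq_zero_iff_mem, mem_nilradical]
    exact isNilpotent_of_tmul_eq_zero A x hs
  haveI : Algebra.IsIntegral (CAlg2.red (EGA4.Cpl A)) (CAlg2.normRed A ⊗[A] EGA4.Cpl A) := by
    refine ⟨fun t => ?_⟩
    obtain ⟨p, hp, hpt⟩ := includeRight_isIntegral A (CAlg2.normRed A) (EGA4.Cpl A) t
    refine ⟨p.map (Ideal.Quotient.mk _), hp.map _, ?_⟩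
    rw [Polynomial.eval₂_map]
    have h2 : (algebraMap (CAlg2.red (EGA4.Cpl A))
        (CAlg2.normRed A ⊗[A] EGA4.Cpl A)).comp (Ideal.Quotient.mk (nilradical (EGA4.Cpl A))) =
        (Algebra.TensorProduct.includeRight :
          EGA4.Cpl A →ₐ[A] CAlg2.normRed A ⊗[A] EGA4.Cpl A).toRingHom :=
      RingHom.ext (fun x => rfl)
    rw [h2]
    exact hpt
  have hsmul : ∀ (s : A) (y : CAlg2.normRed A ⊗[A] EGA4.Cpl A),
      ((1 : CAlg2.normRed A) ⊗ₜ[A] algebraMap A (EGA4.Cpl A) s) * y = s • y := by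
    intro s y
    rw [Algebra.algebraMap_eq_smul_one, TensorProduct.tmul_smul,
      ← Algebra.TensorProduct.one_def, smul_mul_assoc, one_mul]
  have hbir : ∀ t : CAlg2.normRed A ⊗[A] EGA4.Cpl A, ∃ a b : CAlg2.red (EGA4.Cpl A),
      (∀ y : CAlg2.normRed A ⊗[A] EGA4.Cpl A,
        algebraMap (CAlg2.red (EGA4.Cpl A)) (CAlg2.normRed A ⊗[A] EGA4.Cpl A) b * y = 0 → y = 0) ∧
      algebraMap (CAlg2.red (EGA4.Cpl A)) (CAlg2.normRed A ⊗[A] EGA4.Cpl A) b * t =
      algebraMap (CAlg2.red (EGA4.Cpl A)) (CAlg2.normRed A ⊗[A] EGA4.Cpl A) a := by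
    intro t
    obtain ⟨s, a, hs, hsa⟩ := birational A t
    refine ⟨Ideal.Quotient.mk _ a, Ideal.Quotient.mk _ (algebraMap A (EGA4.Cpl A) s), ?_, ?_⟩
    · intro y hy
      rw [halg, hsmul] at hy
      apply isSMulRegular_tensor A s hs
      show s • y = s • 0
      rw [smul_zero, hy]
    · rw [halg, halg, ← hsa, hsmul]
  obtain ⟨e0⟩ := Groth.Agent.Lib.NormalizationIsoTot51.nonempty_algEquiv_integralClosure
    (CAlg2.red (EGA4.Cpl A)) (CAlg2.normRed A ⊗[A] EGA4.Cpl A) hinj hbir
  refine ⟨e0.toRingEquiv, fun x => ?_⟩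
  rw [← halg]
  exact e0.commutes _

end iso

section count

variable (A B : Type u) [CommRing A] [CommRing B] [IsNoetherianRing A] [IsLocalRing A]
  [Algebra A B] [Module.Finite A B]

theorem algebraMap_mem_of_isMaximal (n : Ideal B) [hn : n.IsMaximal] (a : A)
    (ha : a ∈ maximalIdeal A) : algebraMap A B a ∈ n := by
  haveI : Algebra.IsIntegral A B := Algebra.IsIntegral.of_finite A B
  have h1 : (n.comap (algebraMap A B)).IsMaximal :=
    Ideal.isMaximal_comap_of_isIntegral_of_isMaximal n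
  have h2 : n.comap (algebraMap A B) = maximalIdeal A := IsLocalRing.eq_maximalIdeal h1
  have h3 : a ∈ n.comap (algebraMap A B) := h2 ▸ ha
  exact h3

/-- The ideal `𝔫 (B ⊗_A Â)`. -/
noncomputable def Jn (n : Ideal B) : Ideal (B ⊗[A] EGA4.Cpl A) :=
  n.map (algebraMap B (B ⊗[A] EGA4.Cpl A))

theorem tmul_mem_Jn (n : Ideal B) [hn : n.IsMaximal] (b : B) (e : EGA4.Cpl A)
    (he : e ∈ (maximalIdeal A).map (algebraMap A (EGA4.Cpl A))) : b ⊗ₜ[A] e ∈ Jn A B n := by
  refine Submodule.span_induction (p := fun e _ => b ⊗ₜ[A] e ∈ Jn A B n) ?_ ?_ ?_ ?_ he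
  · rintro _ ⟨a, ha, rfl⟩
    have h3 : b ⊗ₜ[A] (algebraMap A (EGA4.Cpl A) a) =
        algebraMap B (B ⊗[A] EGA4.Cpl A) (algebraMap A B a * b) := by
      rw [Algebra.TensorProduct.algebraMap_apply, Algebra.algebraMap_self, RingHom.id_apply,
        Algebra.algebraMap_eq_smul_one, ← TensorProduct.smul_tmul, Algebra.smul_def]
    rw [h3]
    exact Ideal.mem_map_of_mem _ (Ideal.mul_mem_right _ _ (algebraMap_mem_of_isMaximal A B n a ha))
  · rw [TensorProduct.tmul_zero]; exact (Jn A B n).zero_mem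
  · intro x y _ _ hx hy
    rw [TensorProduct.tmul_add]; exact (Jn A B n).add_mem hx hy
  · intro c x _ hx
    have h3 : b ⊗ₜ[A] (c • x) = ((1 : B) ⊗ₜ[A] c) * (b ⊗ₜ[A] x) := by
      rw [Algebra.TensorProduct.tmul_mul_tmul, one_mul, smul_eq_mul]
    rw [h3]
    exact (Jn A B n).mul_mem_left _ hx

theorem exists_sub_mem_Jn (n : Ideal B) [hn : n.IsMaximal] (y : B ⊗[A] EGA4.Cpl A) :
    ∃ b : B, y - algebraMap B (B ⊗[A] EGA4.Cpl A) b ∈ Jn A B n := by
  have hfgA : (maximalIdeal A).FG := (isNoetherianRing_iff_ideal_fg A).1 inferInstance _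
  induction y using TensorProduct.induction_on with
  | zero => exact ⟨0, by simp⟩
  | tmul b c =>
    obtain ⟨a, ha⟩ := Groth.Agent.Lib.H14AdicLocal.exists_sub_mem_map A (maximalIdeal A) hfgA c
    refine ⟨algebraMap A B a * b, ?_⟩
    have h3 : b ⊗ₜ[A] c - algebraMap B (B ⊗[A] EGA4.Cpl A) (algebraMap A B a * b) =
        b ⊗ₜ[A] (c - algebraMap A (EGA4.Cpl A) a) := by
      rw [TensorProduct.tmul_sub, Algebra.TensorProduct.algebraMap_apply, Algebra.algebraMap_self,
        RingHom.id_apply, Algebra.algebraMap_eq_smul_one (R := A) (A := EGA4.Cpl A),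
        ← TensorProduct.smul_tmul, Algebra.smul_def]
    rw [h3]
    exact tmul_mem_Jn A B n b _ ha
  | add x y hx hy =>
    obtain ⟨b1, hb1⟩ := hx
    obtain ⟨b2, hb2⟩ := hy
    refine ⟨b1 + b2, ?_⟩
    have : x + y - algebraMap B (B ⊗[A] EGA4.Cpl A) (b1 + b2) =
        (x - algebraMap B (B ⊗[A] EGA4.Cpl A) b1) + (y - algebraMap B (B ⊗[A] EGA4.Cpl A) b2) := by
      rw [map_add]; ring
    rw [this]
    exact (Jn A B n).add_mem hb1 hb2

theorem comap_Jn (n : Ideal B) :
    (Jn A B n).comap (algebraMap B (B ⊗[A] EGA4.Cpl A)) = n := by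
  haveI : Module.FaithfullyFlat B (B ⊗[A] EGA4.Cpl A) := inferInstance
  exact Ideal.comap_map_eq_self_of_faithfullyFlat _

theorem Jn_isMaximal (n : Ideal B) [hn : n.IsMaximal] : (Jn A B n).IsMaximal := by
  have hc := comap_Jn A B n
  rw [Ideal.isMaximal_iff]
  refine ⟨fun h => ?_, ?_⟩
  · have : (1 : B) ∈ (Jn A B n).comap (algebraMap B (B ⊗[A] EGA4.Cpl A)) := by
      rw [Ideal.mem_comap, map_one]; exact h
    rw [hc] at this
    exact (Ideal.ne_top_iff_one _).1 hn.ne_top this
  · intro K y hK hy hyK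
    obtain ⟨b, hb⟩ := exists_sub_mem_Jn A B n y
    have hbK : algebraMap B (B ⊗[A] EGA4.Cpl A) b ∈ K := by
      have := K.sub_mem hyK (hK hb)
      rwa [sub_sub_cancel] at this
    have hbn : b ∉ n := by
      intro hbm
      have hb' : algebraMap B (B ⊗[A] EGA4.Cpl A) b ∈ Jn A B n := Ideal.mem_map_of_mem _ hbm
      have := (Jn A B n).add_mem hb hb'
      rw [sub_add_cancel] at this
      exact hy this
    obtain ⟨c, i, hi, hc'⟩ := hn.exists_inv hbn
    have h1 : algebraMap B (B ⊗[A] EGA4.Cpl A) i ∈ K :=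
      hK (Ideal.mem_map_of_mem _ hi)
    have h2 := K.mul_mem_left (algebraMap B (B ⊗[A] EGA4.Cpl A) c) hbK
    rw [← map_mul] at h2
    have h3 := K.add_mem h2 h1
    rw [← map_add, hc', map_one] at h3
    exact h3

/-- Contraction of a maximal ideal of `B ⊗_A Â` to `B` is maximal. -/
theorem comap_isMaximal (M : Ideal (B ⊗[A] EGA4.Cpl A)) [hM : M.IsMaximal] :
    (M.comap (algebraMap B (B ⊗[A] EGA4.Cpl A))).IsMaximal := by
  haveI : Algebra.IsIntegral A B := Algebra.IsIntegral.of_finite A B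
  set f : EGA4.Cpl A →+* B ⊗[A] EGA4.Cpl A :=
    (Algebra.TensorProduct.includeRight : EGA4.Cpl A →ₐ[A] B ⊗[A] EGA4.Cpl A).toRingHom with hf
  have hmax : (M.comap f).IsMaximal :=
    Ideal.isMaximal_comap_of_isIntegral_of_isMaximal' f
      (includeRight_isIntegral A B (EGA4.Cpl A)) M
  have hMf : M.comap f = maximalIdeal (EGA4.Cpl A) := IsLocalRing.eq_maximalIdeal hmax
  have hP : (M.comap (algebraMap B (B ⊗[A] EGA4.Cpl A))).IsPrime := Ideal.comap_isPrime _ _
  have hPA : ((M.comap (algebraMap B (B ⊗[A] EGA4.Cpl A))).comap (algebraMap A B)).IsMaximal := by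
    have hle : maximalIdeal A ≤
        (M.comap (algebraMap B (B ⊗[A] EGA4.Cpl A))).comap (algebraMap A B) := by
      intro a ha
      rw [Ideal.mem_comap, Ideal.mem_comap]
      have h1 : algebraMap B (B ⊗[A] EGA4.Cpl A) (algebraMap A B a) =
          f (algebraMap A (EGA4.Cpl A) a) := by
        rw [hf, Algebra.TensorProduct.algebraMap_apply, Algebra.algebraMap_self, RingHom.id_apply]
        simp only [AlgHom.toRingHom_eq_coe, RingHom.coe_coe,
          Algebra.TensorProduct.includeRight_apply]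
        rw [Algebra.algebraMap_eq_smul_one, Algebra.algebraMap_eq_smul_one (R := A) (A := EGA4.Cpl A),
          TensorProduct.smul_tmul]
      rw [h1]
      have h2 : algebraMap A (EGA4.Cpl A) a ∈ maximalIdeal (EGA4.Cpl A) :=
        (IsLocalRing.map_maximalIdeal_le (algebraMap A (EGA4.Cpl A))) (Ideal.mem_map_of_mem _ ha)
      rw [← hMf] at h2
      exact h2
    have hne : (M.comap (algebraMap B (B ⊗[A] EGA4.Cpl A))).comap (algebraMap A B) ≠ ⊤ :=
      (Ideal.comap_isPrime _ _).ne_top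
    rw [← (maximalIdeal.isMaximal A).eq_of_le hne hle]
    exact maximalIdeal.isMaximal A
  exact Ideal.isMaximal_of_isIntegral_of_isMaximal_comap _ hPA

/-- `B` and `B ⊗_A Â` have the same number of maximal ideals (`B` finite over `A`). -/
theorem card_maximalSpectrum_tensor :
    ENat.card (MaximalSpectrum (B ⊗[A] EGA4.Cpl A)) = ENat.card (MaximalSpectrum B) := by
  symm
  let F : MaximalSpectrum B → MaximalSpectrum (B ⊗[A] EGA4.Cpl A) := fun n =>
    haveI := n.isMaximal
    ⟨Jn A B n.asIdeal, Jn_isMaximal A B n.asIdeal⟩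
  refine ENat.card_congr (Equiv.ofBijective F ⟨?_, ?_⟩)
  · intro n₁ n₂ h
    have h1 : Jn A B n₁.asIdeal = Jn A B n₂.asIdeal := congrArg MaximalSpectrum.asIdeal h
    apply MaximalSpectrum.ext
    rw [← comap_Jn A B n₁.asIdeal, ← comap_Jn A B n₂.asIdeal, h1]
  · intro M
    haveI := M.isMaximal
    have hmax := comap_isMaximal A B M.asIdeal
    refine ⟨⟨_, hmax⟩, ?_⟩
    apply MaximalSpectrum.ext
    show Jn A B (M.asIdeal.comap (algebraMap B (B ⊗[A] EGA4.Cpl A))) = M.asIdeal
    have hle : Jn A B (M.asIdeal.comap (algebraMap B (B ⊗[A] EGA4.Cpl A))) ≤ M.asIdeal := by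
      rw [Jn, Ideal.map_le_iff_le_comap]
    haveI := hmax
    exact (Jn_isMaximal A B _).eq_of_le M.isMaximal.ne_top hle

end count

section main

open Groth.Agent.Lib.BrnchSum98

attribute [local instance] Algebra.TensorProduct.rightAlgebra

variable (A : Type u) [CommRing A] [IsNoetherianRing A] [IsLocalRing A]

theorem numBranches_cpl (hA : EGA4.HasGeomNormalFormalFibres A) :
    Brnch.numBranches (EGA4.Cpl A) = Brnch.numBranches A := by
  haveI : IsNoetherianRing (EGA4.Cpl A) :=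
    Groth.Agent.Lib.AdicNoeth.isNoetherianRing_adicCompletion _
  unfold Brnch.numBranches
  rw [if_pos (minimalPrimes.finite_of_isNoetherianRing _),
    if_pos (minimalPrimes.finite_of_isNoetherianRing _)]
  obtain ⟨e, -⟩ := exists_equiv A hA
  haveI := finite_normRed A hA
  rw [← card_maximalSpectrum_congr (R := CAlg2.normRed A ⊗[A] EGA4.Cpl A)
    (R' := CAlg2.normRed (EGA4.Cpl A)) e, card_maximalSpectrum_tensor A (CAlg2.normRed A)]

/-- The algebraic closures of the residue fields of `A` and `Â` are compatibly isomorphic. -/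
theorem exists_closureEquiv_cpl :
    ∃ Ψ : AlgebraicClosure (ResidueField A) ≃+* AlgebraicClosure (ResidueField (EGA4.Cpl A)),
      (Ψ : AlgebraicClosure (ResidueField A) →+* AlgebraicClosure (ResidueField (EGA4.Cpl A))).comp
        (Brnch.toClosure A) = (Brnch.toClosure (EGA4.Cpl A)).comp (algebraMap A (EGA4.Cpl A)) := by
  let ρ₀ : ResidueField A →+* ResidueField (EGA4.Cpl A) :=
    ResidueField.map (algebraMap A (EGA4.Cpl A))
  have hρbij : Function.Bijective ρ₀ := by
    refine ⟨ρ₀.injective, fun y => ?_⟩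
    obtain ⟨c, rfl⟩ := IsLocalRing.residue_surjective y
    have hfgA : (maximalIdeal A).FG := (isNoetherianRing_iff_ideal_fg A).1 inferInstance _
    obtain ⟨a, ha⟩ := Groth.Agent.Lib.H14AdicLocal.exists_sub_mem_map A (maximalIdeal A) hfgA c
    refine ⟨residue A a, ?_⟩
    rw [ResidueField.map_residue]
    symm
    rw [← sub_eq_zero, ← map_sub, residue_eq_zero_iff]
    exact (IsLocalRing.map_maximalIdeal_le (algebraMap A (EGA4.Cpl A))) ha
  let ρ : ResidueField A ≃+* ResidueField (EGA4.Cpl A) := RingEquiv.ofBijective ρ₀ hρbij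
  refine ⟨IsAlgClosure.equivOfEquiv (AlgebraicClosure (ResidueField A))
    (AlgebraicClosure (ResidueField (EGA4.Cpl A))) ρ, ?_⟩
  ext a
  unfold Brnch.toClosure
  simp only [RingHom.comp_apply, RingEquiv.coe_toRingHom]
  rw [IsAlgClosure.equivOfEquiv_algebraMap]
  rfl

theorem numGeomBranches_cpl (hA : EGA4.HasGeomNormalFormalFibres A) :
    Brnch.numGeomBranches (EGA4.Cpl A) = Brnch.numGeomBranches A := by
  haveI : IsNoetherianRing (EGA4.Cpl A) :=
    Groth.Agent.Lib.AdicNoeth.isNoetherianRing_adicCompletion _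
  unfold Brnch.numGeomBranches
  rw [if_pos (minimalPrimes.finite_of_isNoetherianRing _),
    if_pos (minimalPrimes.finite_of_isNoetherianRing _), card_sigma_emb, card_sigma_emb]
  obtain ⟨e, he⟩ := exists_equiv A hA
  -- step 1: transport along `e`
  have h1 : (e : CAlg2.normRed A ⊗[A] EGA4.Cpl A →+* CAlg2.normRed (EGA4.Cpl A)).comp
      (algebraMap (EGA4.Cpl A) (CAlg2.normRed A ⊗[A] EGA4.Cpl A)) = fA (EGA4.Cpl A) := by
    refine RingHom.ext (fun x => ?_)
    rw [RingHom.comp_apply, Algebra.TensorProduct.right_algebraMap_apply]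
    exact he x
  have h0 := ENat.card_congr (homOverCongr (A := EGA4.Cpl A)
    (B := CAlg2.normRed A ⊗[A] EGA4.Cpl A) (B' := CAlg2.normRed (EGA4.Cpl A))
    (Ω := AlgebraicClosure (ResidueField (EGA4.Cpl A))) e
    (algebraMap (EGA4.Cpl A) (CAlg2.normRed A ⊗[A] EGA4.Cpl A)) (Brnch.toClosure (EGA4.Cpl A)))
  rw [h1] at h0
  rw [← h0]
  -- step 2: universal property of the tensor product
  letI algΩ : Algebra A (AlgebraicClosure (ResidueField (EGA4.Cpl A))) :=
    ((Brnch.toClosure (EGA4.Cpl A)).comp (algebraMap A (EGA4.Cpl A))).toAlgebra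
  let j : EGA4.Cpl A →ₐ[A] AlgebraicClosure (ResidueField (EGA4.Cpl A)) :=
    { Brnch.toClosure (EGA4.Cpl A) with commutes' := fun a => rfl }
  have h2 := Groth.Agent.Lib.BrnchGeom98.card_homs_tensor A (EGA4.Cpl A) (CAlg2.normRed A)
    (AlgebraicClosure (ResidueField (EGA4.Cpl A))) j
  have hj : (j : EGA4.Cpl A →+* AlgebraicClosure (ResidueField (EGA4.Cpl A))) =
      Brnch.toClosure (EGA4.Cpl A) := RingHom.ext (fun _ => rfl)
  rw [hj] at h2
  have h3 : ENat.card (HomOver (A := EGA4.Cpl A) (B := CAlg2.normRed A ⊗[A] EGA4.Cpl A)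
      (Ω := AlgebraicClosure (ResidueField (EGA4.Cpl A)))
      (algebraMap (EGA4.Cpl A) (CAlg2.normRed A ⊗[A] EGA4.Cpl A))
      (Brnch.toClosure (EGA4.Cpl A))) =
      ENat.card (HomOver (A := A) (B := CAlg2.normRed A)
        (Ω := AlgebraicClosure (ResidueField (EGA4.Cpl A))) (algebraMap A (CAlg2.normRed A))
        ((Brnch.toClosure (EGA4.Cpl A)).comp (algebraMap A (EGA4.Cpl A)))) := h2
  rw [h3]
  -- step 3: the algebraic closures
  obtain ⟨Ψ, hΨ⟩ := exists_closureEquiv_cpl A
  rw [← hΨ, algebraMap_eq_fA]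
  exact (ENat.card_congr (homOverTarget Ψ (fA A) (Brnch.toClosure A))).symm

end main

end Groth.Agent.Lib.BranchesCpl51
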