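import Mathlib.RingTheory.Henselian
import Mathlib.RingTheory.Nakayama
import Mathlib.RingTheory.Jacobson.Ideal
import Mathlib.RingTheory.Finiteness.Ideal
import Mathlib.LinearAlgebra.Matrix.Charpoly.LinearMap
import Mathlib.LinearAlgebra.Matrix.Charpoly.Basic
import Mathlib.Algebra.Polynomial.Div
import Mathlib.Tactic.LinearCombination
import Mathlib.Tactic.Ring

/-!
# Gabber's trick: lifting idempotents in finite algebras over a henselian pair

Let `(A, I)` be a henselian pair in Mathlib's sense (`HenselianRing A I`), or more generally a pair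
satisfying Gabber's condition `IsGabber A I`, and let `B` be a finite `A`-algebra.  If `b ∈ B` is idempotent modulo `IB` and `b (B/IB)` is a cyclic `A`-module generated
by the class of `b`, then there is an idempotent `e` of `B` congruent to `b` modulo `IB`
(`exists_idempotent_lift_of_cyclic`).

The proof is Gabber's: with respect to a suitable generating family the matrix of multiplication
by `b` is congruent to the matrix unit `E₀₀` modulo `I`, so its characteristic polynomial `f` is
congruent to `(T - 1) T^n`; it has a root `α ∈ 1 + I`, and writing `f = (T - α) h` the element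
`h(b) / h(α)` is the desired idempotent.
-/

set_option autoImplicit false
universe u v

namespace Groth.Agent.Lib.HenselGabber

open Polynomial

section basic

variable {A : Type u} [CommRing A]

/-- If `x - 1 ∈ I ≤ Jac(A)` then `x` is a unit. -/
theorem isUnit_of_sub_one_mem {I : Ideal A} (hI : I ≤ Ideal.jacobson ⊥) {x : A}
    (hx : x - 1 ∈ I) : IsUnit x := by
  have h := (Ideal.mem_jacobson_bot.1 (hI hx)) 1
  have e : (x - 1) * 1 + 1 = x := by ring
  rwa [e] at h

variable {B : Type v} [CommRing B] [Algebra A B]

/-- A polynomial with coefficients in `I` evaluates into `IB`. -/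
theorem aeval_mem_map_of_coeff_mem (I : Ideal A) (p : A[X]) (hp : ∀ k, p.coeff k ∈ I) (b : B) :
    Polynomial.aeval b p ∈ I.map (algebraMap A B) := by
  rw [Polynomial.aeval_eq_sum_range]
  refine Submodule.sum_mem _ fun k _ => ?_
  rw [Algebra.smul_def]
  exact Ideal.mul_mem_right _ _ (Ideal.mem_map_of_mem _ (hp k))

/-- If `b² - b ∈ J` then `b^(k+1) - b ∈ J`. -/
theorem pow_succ_sub_mem {J : Ideal B} {b : B} (hb : b * b - b ∈ J) (k : ℕ) :
    b ^ (k + 1) - b ∈ J := by
  induction k with
  | zero => simp
  | succ k ih =>
    have e : b ^ (k + 1 + 1) - b = b * (b ^ (k + 1) - b) + (b * b - b) := by ring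
    rw [e]
    exact J.add_mem (J.mul_mem_left _ ih) hb

end basic

section gabber

/-- **Gabber's condition** (Stacks 09XI (5)): `I` is contained in the Jacobson radical and every
monic polynomial congruent to `(X - 1) X^(n+1)` modulo `I` has a root in `1 + I`. -/
def IsGabber (A : Type u) [CommRing A] (I : Ideal A) : Prop :=
  I ≤ Ideal.jacobson ⊥ ∧ ∀ (n : ℕ) (f : A[X]), f.Monic →
    f.map (Ideal.Quotient.mk I) = (X - C 1) * X ^ (n + 1) → ∃ α : A, f.IsRoot α ∧ α - 1 ∈ I

/-- A henselian pair (in Mathlib's sense) satisfies Gabber's condition. -/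
theorem isGabber_of_henselianRing (A : Type u) [CommRing A] (I : Ideal A) [HenselianRing A I] :
    IsGabber A I := by
  refine ⟨HenselianRing.jac, fun n f hfmonic hfbar => ?_⟩
  have h1root : f.eval 1 ∈ I := by
    rw [← Ideal.Quotient.eq_zero_iff_mem, ← Polynomial.eval₂_at_apply, ← Polynomial.eval_map,
      hfbar]
    simp
  have h1der : IsUnit (Ideal.Quotient.mk I (f.derivative.eval 1)) := by
    rw [← Polynomial.eval₂_at_apply, ← Polynomial.eval_map, ← Polynomial.derivative_map, hfbar]
    simp [Polynomial.derivative_mul]
  exact HenselianRing.is_henselian f hfmonic 1 h1root h1der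

variable {A : Type u} [CommRing A] (I : Ideal A) (hG : IsGabber A I)
variable {B : Type v} [CommRing B] [Algebra A B] [Module.Finite A B]
include hG

/-- **Gabber's trick.** Let `(A, I)` be a henselian pair and `B` a finite `A`-algebra. Let `b ∈ B`
be idempotent modulo `IB` and such that `b · x ∈ A b + IB` for all `x ∈ B`.  Then there is an
idempotent `e ∈ B` with `e - b ∈ IB`. -/
theorem exists_idempotent_lift_of_cyclic (b : B) (hb : b * b - b ∈ I.map (algebraMap A B))
    (hcyc : ∀ x : B, ∃ a : A, b * x - a • b ∈ I.map (algebraMap A B)) :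
    ∃ e : B, IsIdempotentElem e ∧ e - b ∈ I.map (algebraMap A B) := by
  classical
  have hjac : I ≤ Ideal.jacobson ⊥ := hG.1
  set IB : Ideal B := I.map (algebraMap A B) with hIB
  have hsmul : (I • ⊤ : Submodule A B) = IB.restrictScalars A := Ideal.smul_top_eq_map I
  -- a generating family of `B`, with `1` added
  obtain ⟨n, c₀, hc₀⟩ := Module.Finite.exists_fin (R := A) (M := B)
  let c : Option (Fin n) → B := fun j => j.elim 1 c₀
  have hc : Submodule.span A (Set.range c) = ⊤ := by
    rw [eq_top_iff, ← hc₀]
    refine Submodule.span_mono ?_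
    rintro _ ⟨j, rfl⟩
    exact ⟨some j, rfl⟩
  -- the new generating family
  let ι := Option (Option (Fin n))
  let v : ι → B := fun j => j.elim b (fun k => (1 - b) * c k)
  have hv : Submodule.span A (Set.range v) = ⊤ := by
    rw [eq_top_iff]
    refine Submodule.le_of_le_smul_of_le_jacobson_bot (I := I) Module.Finite.fg_top hjac ?_
    rw [← hc, Submodule.span_le]
    rintro _ ⟨k, rfl⟩
    obtain ⟨a, ha⟩ := hcyc (c k)
    have e : c k = (a • v none + v (some k)) + (b * c k - a • b) := by
      simp only [v, Option.elim]
      ring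
    rw [SetLike.mem_coe, e]
    refine Submodule.add_mem _ (Submodule.mem_sup_left ?_) (Submodule.mem_sup_right ?_)
    · exact Submodule.add_mem _ (Submodule.smul_mem _ _ (Submodule.subset_span ⟨none, rfl⟩))
        (Submodule.subset_span ⟨some k, rfl⟩)
    · rw [hc, hsmul]
      exact ha
  -- the defect vectors lie in `IB = I • span v`
  let E : Matrix ι ι A := Matrix.diagonal fun i => if i = none then 1 else 0
  have hdef : ∀ j : ι, b * v j - (E j j) • b ∈ (I • Submodule.span A (Set.range v) : Submodule A B) := by
    intro j
    rw [hv, hsmul]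
    change _ ∈ IB
    rcases j with _ | k
    · simp only [E, v, Matrix.diagonal_apply_eq, if_true, one_smul, Option.elim]
      exact hb
    · simp only [E, v, Matrix.diagonal_apply_eq, reduceCtorEq, if_false, zero_smul, sub_zero,
        Option.elim]
      have e : b * ((1 - b) * c k) = -((b * b - b) * c k) := by ring
      rw [e]
      exact IB.neg_mem (IB.mul_mem_right _ hb)
  have hcoef : ∀ j : ι, ∃ t : ι → A, (∀ i, t i ∈ I) ∧ ∑ i, t i • v i = b * v j - (E j j) • b := by
    intro j
    obtain ⟨t, ht, hsum⟩ := (Submodule.mem_ideal_smul_span_iff_exists_sum I v _).1 (hdef j)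
    refine ⟨t, ht, ?_⟩
    rw [← hsum]
    exact (Finsupp.sum_fintype t (fun i c => c • v i) (fun i => zero_smul A (v i))).symm
  choose T hT hTsum using hcoef
  -- the matrix of multiplication by `b`
  let M : Matrix ι ι A := fun i j => T j i + E i j
  have hrep : M.Represents v (Algebra.lmul A B b) := by
    rw [Matrix.represents_iff']
    intro j
    change ∑ i, (T j i + E i j) • v i = b * v j
    simp only [add_smul, Finset.sum_add_distrib, hTsum j]
    have : ∑ i, E i j • v i = E j j • b := by
      rw [Finset.sum_eq_single j]
      · rcases j with _ | k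
        · rfl
        · simp [E]
      · intro i _ hij
        simp [E, Matrix.diagonal_apply_ne _ hij]
      · intro h
        exact absurd (Finset.mem_univ j) h
    rw [this]
    ring
  set f : A[X] := M.charpoly with hf
  have hfmonic : f.Monic := M.charpoly_monic
  have hfb : Polynomial.aeval b f = 0 := by
    let M' : Matrix.isRepresentation A v := ⟨M, _, hrep⟩
    have h1 : Matrix.isRepresentation.toEnd A v hv M' = Algebra.lmul A B b :=
      Matrix.isRepresentation.eq_toEnd_of_represents A v hv M' hrep
    have h2 : Polynomial.aeval (Algebra.lmul A B b) f = 0 := by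
      rw [← h1, Polynomial.aeval_algHom_apply,
        ← map_zero (Matrix.isRepresentation.toEnd A v hv)]
      congr 1
      ext1
      rw [Polynomial.aeval_subalgebra_coe, Matrix.aeval_self_charpoly, Subalgebra.coe_zero]
    rw [Polynomial.aeval_algHom_apply] at h2
    have h3 := LinearMap.congr_fun h2 1
    simpa using h3
  -- reduction of `f` modulo `I`
  have hfbar : f.map (Ideal.Quotient.mk I) = (X - C 1) * X ^ (n + 1) := by
    rw [hf, ← Matrix.charpoly_map]
    have hM : M.map (Ideal.Quotient.mk I) =
        Matrix.diagonal fun i : ι => if i = none then (1 : A ⧸ I) else 0 := by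
      ext i j
      simp only [Matrix.map_apply, M, map_add]
      rw [Ideal.Quotient.eq_zero_iff_mem.2 (hT j i), zero_add]
      by_cases hij : i = j
      · subst hij
        simp only [E, Matrix.diagonal_apply_eq]
        split_ifs <;> simp
      · simp [E, Matrix.diagonal_apply_ne _ hij]
    rw [hM, Matrix.charpoly_diagonal, Fintype.prod_option]
    simp only [if_true, reduceCtorEq, if_false, map_zero, sub_zero, Finset.prod_const,
      Finset.card_univ, Fintype.card_option, Fintype.card_fin, map_one]
  -- the simple root `1` lifts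
  obtain ⟨α, hα, hα1⟩ := hG.2 n f hfmonic hfbar
  -- factor `f = (X - α) h`
  set h : A[X] := f /ₘ (X - C α) with hh
  have hfac : (X - C α) * h = f := Polynomial.mul_divByMonic_eq_iff_isRoot.2 hα
  have hmkα : Ideal.Quotient.mk I α = 1 := by
    rw [← map_one (Ideal.Quotient.mk I)]
    exact Ideal.Quotient.eq.2 hα1
  have hhbar : h.map (Ideal.Quotient.mk I) = X ^ (n + 1) := by
    have e1 : f.map (Ideal.Quotient.mk I) = (X - C 1) * h.map (Ideal.Quotient.mk I) := by
      rw [← hfac, Polynomial.map_mul, Polynomial.map_sub, Polynomial.map_X, Polynomial.map_C, hmkα]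
    rw [hfbar] at e1
    exact ((Polynomial.monic_X_sub_C (1 : A ⧸ I)).isRegular.left e1).symm
  -- `h(α)` is a unit, congruent to `1`
  have hhα : h.eval α - 1 ∈ I := by
    rw [← Ideal.Quotient.eq_zero_iff_mem, map_sub, map_one, ← Polynomial.eval₂_at_apply,
      ← Polynomial.eval_map, hhbar, hmkα]
    simp
  obtain ⟨w, hw⟩ := (isUnit_of_sub_one_mem hjac hhα).exists_left_inv
  have hw1 : w - 1 ∈ I := by
    have e : w - 1 = -(w * (h.eval α - 1)) := by linear_combination hw
    rw [e]
    exact I.neg_mem (I.mul_mem_left _ hhα)
  -- the idempotent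
  set hbv : B := Polynomial.aeval b h with hhbv
  have hkill : (b - algebraMap A B α) * hbv = 0 := by
    have := congrArg (Polynomial.aeval b) hfac
    rw [hfb, map_mul, map_sub, Polynomial.aeval_X, Polynomial.aeval_C] at this
    exact this
  obtain ⟨q, hq⟩ := Polynomial.X_sub_C_dvd_sub_C_eval (a := α) (p := h)
  have hsq : hbv * hbv = algebraMap A B (h.eval α) * hbv := by
    have e := congrArg (Polynomial.aeval b) hq
    rw [map_sub, Polynomial.aeval_C, map_mul, map_sub, Polynomial.aeval_X, Polynomial.aeval_C]
      at e
    have e2 : hbv = algebraMap A B (h.eval α) + (b - algebraMap A B α) * Polynomial.aeval b q := by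
      rw [← e]; ring
    calc hbv * hbv = (algebraMap A B (h.eval α) + (b - algebraMap A B α) * Polynomial.aeval b q) * hbv := by
          rw [← e2]
      _ = algebraMap A B (h.eval α) * hbv + Polynomial.aeval b q * ((b - algebraMap A B α) * hbv) := by
          ring
      _ = algebraMap A B (h.eval α) * hbv := by rw [hkill, mul_zero, add_zero]
  refine ⟨w • hbv, ?_, ?_⟩
  · change w • hbv * w • hbv = w • hbv
    rw [Algebra.smul_def]
    have hw' : algebraMap A B w * algebraMap A B (h.eval α) = 1 := by
      rw [← map_mul, hw, map_one]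
    calc algebraMap A B w * hbv * (algebraMap A B w * hbv)
        = algebraMap A B w * algebraMap A B w * (hbv * hbv) := by ring
      _ = algebraMap A B w * (algebraMap A B w * algebraMap A B (h.eval α)) * hbv := by
          rw [hsq]; ring
      _ = algebraMap A B w * hbv := by rw [hw', mul_one]
  · -- congruence
    have hpoly : hbv - b ^ (n + 1) ∈ IB := by
      have e : hbv - b ^ (n + 1) = Polynomial.aeval b (h - X ^ (n + 1)) := by
        rw [map_sub, map_pow, Polynomial.aeval_X]
      rw [e]
      refine aeval_mem_map_of_coeff_mem I _ (fun k => ?_) b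
      rw [← Ideal.Quotient.eq_zero_iff_mem, ← Polynomial.coeff_map, Polynomial.map_sub, hhbar,
        Polynomial.map_pow, Polynomial.map_X, sub_self, Polynomial.coeff_zero]
    have hpow : b ^ (n + 1) - b ∈ IB := pow_succ_sub_mem hb n
    have hwb : (w - 1) • hbv ∈ IB := by
      rw [Algebra.smul_def]
      exact IB.mul_mem_right _ (Ideal.mem_map_of_mem _ hw1)
    have e : w • hbv - b = (w - 1) • hbv + (hbv - b ^ (n + 1)) + (b ^ (n + 1) - b) := by
      rw [sub_smul, one_smul]; ring
    rw [e]
    exact IB.add_mem (IB.add_mem hwb hpoly) hpow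

end gabber

end Groth.Agent.Lib.HenselGabber
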