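import Mathlib.RingTheory.Unramified.Basic
import Mathlib.RingTheory.Ideal.IdempotentFG
import Mathlib.RingTheory.FiniteType
import Mathlib.RingTheory.Localization.Away.Basic
import Mathlib.Tactic.LinearCombination

/-!
The equalizer of two algebra maps out of an unramified algebra is cut out by an idempotent.
-/

set_option autoImplicit false
universe u

namespace Groth.Agent.Lib.UnramEq

variable {A B C : Type*} [CommRing A] [CommRing B] [Algebra A B] [CommRing C] [Algebra A C]

/-- The ideal generated by the differences `u b - v b`. -/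
def diffIdeal (u v : B →ₐ[A] C) : Ideal C := Ideal.span (Set.range fun b => u b - v b)

theorem sub_mem_diffIdeal (u v : B →ₐ[A] C) (b : B) : u b - v b ∈ diffIdeal u v :=
  Ideal.subset_span ⟨b, rfl⟩

theorem diffIdeal_le_sq [Algebra.FormallyUnramified A B] (u v : B →ₐ[A] C) :
    diffIdeal u v ≤ diffIdeal u v ^ 2 := by
  set J := diffIdeal u v with hJ
  let I' : Ideal (C ⧸ J ^ 2) := J.map (Ideal.Quotient.mk (J ^ 2))
  have hI' : I' ^ 2 = ⊥ := by
    rw [← Ideal.map_pow, Ideal.map_quotient_self]
  let u' : B →ₐ[A] C ⧸ J ^ 2 := (Ideal.Quotient.mkₐ A (J ^ 2)).comp u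
  let v' : B →ₐ[A] C ⧸ J ^ 2 := (Ideal.Quotient.mkₐ A (J ^ 2)).comp v
  have heq : (Ideal.Quotient.mkₐ A I').comp u' = (Ideal.Quotient.mkₐ A I').comp v' := by
    ext b
    simp only [AlgHom.coe_comp, Ideal.Quotient.mkₐ_eq_mk, Function.comp_apply, u', v']
    rw [Ideal.Quotient.eq, ← map_sub]
    exact Ideal.mem_map_of_mem _ (sub_mem_diffIdeal u v b)
  have huv : u' = v' := Algebra.FormallyUnramified.comp_injective I' hI' heq
  rw [hJ, diffIdeal, Ideal.span_le]
  rintro _ ⟨b, rfl⟩
  have := AlgHom.congr_fun huv b
  simp only [AlgHom.coe_comp, Ideal.Quotient.mkₐ_eq_mk, Function.comp_apply, u', v'] at this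
  rwa [Ideal.Quotient.eq] at this

theorem diffIdeal_fg [Algebra.FiniteType A B] (u v : B →ₐ[A] C) : (diffIdeal u v).FG := by
  classical
  obtain ⟨s, hs⟩ := (Algebra.FiniteType.out : (⊤ : Subalgebra A B).FG)
  refine ⟨s.image (fun b => u b - v b), le_antisymm ?_ ?_⟩
  · rw [Ideal.span_le]
    intro x hx
    obtain ⟨b, -, rfl⟩ := Finset.mem_image.mp hx
    exact sub_mem_diffIdeal u v b
  · rw [diffIdeal, Ideal.span_le]
    rintro _ ⟨b, rfl⟩
    have hb : b ∈ Algebra.adjoin A (s : Set B) := by rw [hs]; trivial
    show u b - v b ∈ Ideal.span ((s.image (fun b => u b - v b) : Finset C) : Set C)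
    induction hb using Algebra.adjoin_induction with
    | mem x hx =>
      exact Ideal.subset_span (Finset.mem_image_of_mem _ hx)
    | algebraMap r => simp
    | add x y _ _ hx hy =>
      have : u (x + y) - v (x + y) = (u x - v x) + (u y - v y) := by
        rw [map_add, map_add]; ring
      rw [this]
      exact Ideal.add_mem _ hx hy
    | mul x y _ _ hx hy =>
      have : u (x * y) - v (x * y) = u x * (u y - v y) + (u x - v x) * v y := by
        rw [map_mul, map_mul]; ring
      rw [this]
      exact Ideal.add_mem _ (Ideal.mul_mem_left _ _ hy) (Ideal.mul_mem_right _ _ hx)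

/-- The difference ideal of two maps out of an unramified algebra is generated by an
idempotent. -/
theorem exists_idempotent [Algebra.FormallyUnramified A B] [Algebra.FiniteType A B]
    (u v : B →ₐ[A] C) : ∃ e : C, IsIdempotentElem e ∧ diffIdeal u v = Ideal.span {e} := by
  have hidem : IsIdempotentElem (diffIdeal u v) := by
    apply le_antisymm
    · exact Ideal.mul_le_right
    · have := diffIdeal_le_sq u v
      rwa [sq] at this
  exact (Ideal.isIdempotentElem_iff_of_fg _ (diffIdeal_fg u v)).mp hidem

/-- Two maps out of an unramified algebra which agree modulo a prime agree on a basic open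
neighbourhood of that prime. -/
theorem exists_away_eq [Algebra.FormallyUnramified A B] [Algebra.FiniteType A B]
    (p : Ideal C) [p.IsPrime] (u v : B →ₐ[A] C) (huv : ∀ b, u b - v b ∈ p) :
    ∃ f : C, f ∉ p ∧ ∀ b, algebraMap C (Localization.Away f) (u b) =
      algebraMap C (Localization.Away f) (v b) := by
  obtain ⟨e, he, hJ⟩ := exists_idempotent u v
  have hep : e ∈ p := by
    have : diffIdeal u v ≤ p := by
      rw [diffIdeal, Ideal.span_le]
      rintro _ ⟨b, rfl⟩
      exact huv b
    exact this (hJ ▸ Ideal.mem_span_singleton_self e)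
  refine ⟨1 - e, fun h => ?_, fun b => ?_⟩
  · have := Ideal.add_mem _ h hep
    rw [sub_add_cancel] at this
    exact (Ideal.IsPrime.ne_top ‹_›) ((Ideal.eq_top_iff_one _).mpr this)
  · have hmem : u b - v b ∈ Ideal.span {e} := hJ ▸ sub_mem_diffIdeal u v b
    obtain ⟨c, hc⟩ := Ideal.mem_span_singleton'.mp hmem
    have he0 : algebraMap C (Localization.Away (1 - e)) e = 0 := by
      have hunit : IsUnit (algebraMap C (Localization.Away (1 - e)) (1 - e)) :=
        IsLocalization.Away.algebraMap_isUnit (1 - e)
      have hzero : (1 - e) * e = 0 := by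
        have he' : e * e = e := he
        linear_combination (-1 : C) * he'
      have h2 : algebraMap C (Localization.Away (1 - e)) (1 - e) *
          algebraMap C (Localization.Away (1 - e)) e = 0 := by
        rw [← map_mul, hzero, map_zero]
      exact (hunit.mul_right_eq_zero).mp h2
    rw [← sub_eq_zero, ← map_sub, ← hc, map_mul, he0, mul_zero]

end Groth.Agent.Lib.UnramEq
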