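import Mathlib.RingTheory.ZariskisMainTheorem
import Mathlib.RingTheory.Unramified.LocalStructure
import Mathlib.RingTheory.Etale.Basic
import Mathlib.RingTheory.Smooth.Basic
import Mathlib.RingTheory.FinitePresentation
import Groth.Agent.Lib.HenselGabber
import Groth.Agent.Lib.EtaleLift
import Groth.Agent.Lib.UnramEq
import Mathlib.RingTheory.Etale.StandardEtale

/-!
# Étale lifting for henselian pairs (Stacks 09XI, (1) ⇒ (2))

If `(A, I)` is a henselian pair (`HenselianRing A I`), `S` is an étale `A`-algebra and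
`σ₀ : S →ₐ[A] A ⧸ I`, then `σ₀` lifts to an `A`-algebra map `S →ₐ[A] A` (`exists_lift`), and the
lift is unique (`lift_unique`).

The proof follows Gabber: by Zariski's main theorem there are a finite subalgebra `S' ⊆ S` and
`r ∈ S'` with `σ₀ r = 1` and `S'[1/r] = S[1/r]`; the section defines an idempotent of `S'/IS'`
which lifts to `S'` by `HenselGabber.exists_idempotent_lift_of_cyclic`; the corresponding factor of
`S'` is finite over `A`, a localization of `S` (hence étale over `A`), and equal to `A/I` mod `I`,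
so it is `A` itself.
-/

set_option autoImplicit false
universe u

namespace Groth.Agent.Lib.HenselEtaleLift

open Polynomial

section zmt

variable {A S : Type u} [CommRing A] [CommRing S] [Algebra A S]

/-- Global form of Zariski's main theorem along a section: if `S` is a quasi-finite finite type
`A`-algebra and `σ : S → k` is a ring map with `A → k` surjective, there is `r ∈ S` integral over
`A`, with `σ r = 1`, such that every element of `S` becomes integral after multiplication by a
power of `r`. -/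
theorem exists_integral_elt [Algebra.FiniteType A S] [Algebra.QuasiFinite A S]
    {k : Type u} [CommRing k] (σ : S →+* k)
    (hσ : Function.Surjective (σ.comp (algebraMap A S))) :
    ∃ r : S, IsIntegral A r ∧ (∀ x, ∃ m, IsIntegral A (r ^ m * x)) ∧ σ r = 1 := by
  classical
  let 𝔖 := integralClosure A S
  let J : Ideal 𝔖 :=
    { carrier := {t | ∀ x : S, ∃ m, IsIntegral A ((t : S) ^ m * x)}
      add_mem' := by
        intro t₁ t₂ h₁ h₂ x
        obtain ⟨m₁, hm₁⟩ := h₁ x
        obtain ⟨m₂, hm₂⟩ := h₂ x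
        refine ⟨m₁ + m₂, ?_⟩
        have e : ((t₁ + t₂ : 𝔖) : S) = (t₁ : S) + (t₂ : S) := rfl
        rw [e, add_pow, Finset.sum_mul]
        refine IsIntegral.sum _ fun j hj => ?_
        rw [Finset.mem_range] at hj
        by_cases hjm : m₁ ≤ j
        · obtain ⟨i, rfl⟩ := Nat.exists_eq_add_of_le hjm
          have e2 : (t₁ : S) ^ (m₁ + i) * (t₂ : S) ^ (m₁ + m₂ - (m₁ + i)) *
              ((m₁ + m₂).choose (m₁ + i) : S) * x =
              (t₁ : S) ^ i * (t₂ : S) ^ (m₁ + m₂ - (m₁ + i)) * ((m₁ + m₂).choose (m₁ + i) : S) *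
                ((t₁ : S) ^ m₁ * x) := by
            rw [pow_add]; ring
          rw [e2]
          exact (((t₁.2.pow _).mul (t₂.2.pow _)).mul (isIntegral_natCast _)).mul hm₁
        · have hle : m₂ ≤ m₁ + m₂ - j := by omega
          obtain ⟨i, hi⟩ := Nat.exists_eq_add_of_le hle
          have e2 : (t₁ : S) ^ j * (t₂ : S) ^ (m₁ + m₂ - j) * ((m₁ + m₂).choose j : S) * x =
              (t₁ : S) ^ j * (t₂ : S) ^ i * ((m₁ + m₂).choose j : S) * ((t₂ : S) ^ m₂ * x) := by
            rw [hi, pow_add]; ring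
          rw [e2]
          exact (((t₁.2.pow _).mul (t₂.2.pow _)).mul (isIntegral_natCast _)).mul hm₂
      zero_mem' := by
        intro x
        exact ⟨1, by simp [isIntegral_zero]⟩
      smul_mem' := by
        intro s t ht x
        obtain ⟨m, hm⟩ := ht x
        refine ⟨m, ?_⟩
        have e : ((s • t : 𝔖) : S) ^ m * x = (s : S) ^ m * ((t : S) ^ m * x) := by
          change ((s : S) * (t : S)) ^ m * x = _
          rw [mul_pow, mul_assoc]
        rw [e]
        exact (s.2.pow m).mul hm }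
  let σ' : 𝔖 →+* k := σ.comp 𝔖.val.toRingHom
  have hσ' : Function.Surjective σ' := fun y => by
    obtain ⟨a, ha⟩ := hσ y
    exact ⟨algebraMap A 𝔖 a, ha⟩
  have htop : J.map σ' = ⊤ := by
    by_contra hne
    obtain ⟨𝔫, h𝔫, hle⟩ := Ideal.exists_le_maximal _ hne
    have : 𝔫.IsPrime := h𝔫.isPrime
    let q : Ideal S := 𝔫.comap σ
    have : q.IsPrime := Ideal.comap_isPrime σ 𝔫
    obtain ⟨r, hrq, hr⟩ := Algebra.zariskisMainProperty_iff.1
      (Algebra.ZariskisMainProperty.of_finiteType (R := A) q)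
    have hrJ : (⟨r, hr.1⟩ : 𝔖) ∈ J := hr.2
    exact hrq (hle (Ideal.mem_map_of_mem σ' hrJ))
  have h1 : (1 : k) ∈ J.map σ' := htop ▸ Submodule.mem_top
  obtain ⟨t, htJ, ht1⟩ := (Ideal.mem_map_iff_of_surjective σ' hσ').1 h1
  exact ⟨t, t.2, htJ, ht1⟩

/-- A finite subalgebra `S'` of `S` containing `r` and such that every element of `S` lands in `S'`
after multiplication by a power of `r`. -/
theorem exists_finite_subalgebra [Algebra.FiniteType A S] (r : S) (hr : IsIntegral A r)
    (hrx : ∀ x, ∃ m, IsIntegral A (r ^ m * x)) :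
    ∃ S' : Subalgebra A S, S'.toSubmodule.FG ∧ r ∈ S' ∧ ∀ w : S, ∃ M, r ^ M * w ∈ S' := by
  classical
  obtain ⟨s, hs⟩ := Algebra.FiniteType.out (R := A) (A := S)
  choose m hm using hrx
  let t : Set S := insert r ((fun x => r ^ m x * x) '' (s : Set S))
  have hrt : r ∈ Algebra.adjoin A t := Algebra.subset_adjoin (Set.mem_insert _ _)
  refine ⟨Algebra.adjoin A t, fg_adjoin_of_finite ?_ ?_, hrt, ?_⟩
  · exact (s.finite_toSet.image _).insert _
  · rintro a (rfl | ⟨x, _, rfl⟩)
    exacts [hr, hm x]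
  · intro w
    have hw : w ∈ Algebra.adjoin A (s : Set S) := hs ▸ Algebra.mem_top
    induction hw using Algebra.adjoin_induction with
    | mem x hx =>
      exact ⟨m x, Algebra.subset_adjoin (Set.mem_insert_of_mem _ ⟨x, hx, rfl⟩)⟩
    | algebraMap a => exact ⟨0, by simp⟩
    | add x y _ _ hx hy =>
      obtain ⟨M₁, h₁⟩ := hx
      obtain ⟨M₂, h₂⟩ := hy
      refine ⟨M₁ + M₂, ?_⟩
      have e : r ^ (M₁ + M₂) * (x + y) = r ^ M₂ * (r ^ M₁ * x) + r ^ M₁ * (r ^ M₂ * y) := by
        rw [pow_add]; ring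
      rw [e]
      exact add_mem (mul_mem (pow_mem hrt _) h₁) (mul_mem (pow_mem hrt _) h₂)
    | mul x y _ _ hx hy =>
      obtain ⟨M₁, h₁⟩ := hx
      obtain ⟨M₂, h₂⟩ := hy
      refine ⟨M₁ + M₂, ?_⟩
      have e : r ^ (M₁ + M₂) * (x * y) = (r ^ M₁ * x) * (r ^ M₂ * y) := by
        rw [pow_add]; ring
      rw [e]
      exact mul_mem h₁ h₂

end zmt


section main

variable {A S : Type u} [CommRing A] [CommRing S] [Algebra A S]

/-- Elements of `IS` land in `IS'` after multiplication by a power of `r`. -/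
theorem exists_pow_mul_mem (I : Ideal A) (S' : Subalgebra A S) (r : S) (hrS' : r ∈ S')
    (hS' : ∀ w : S, ∃ M, r ^ M * w ∈ S') (y : S) (hy : y ∈ I.map (algebraMap A S)) :
    ∃ M, ∃ z ∈ I.map (algebraMap A S'), (z : S) = r ^ M * y := by
  let rS' : S' := ⟨r, hrS'⟩
  change y ∈ Submodule.span S _ at hy
  induction hy using Submodule.span_induction with
  | mem x hx =>
    obtain ⟨a, ha, rfl⟩ := hx
    exact ⟨0, algebraMap A S' a, Ideal.mem_map_of_mem _ ha, by simp⟩
  | zero => exact ⟨0, 0, zero_mem _, by simp⟩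
  | add x y _ _ hx hy =>
    obtain ⟨M₁, z₁, hz₁, e₁⟩ := hx
    obtain ⟨M₂, z₂, hz₂, e₂⟩ := hy
    refine ⟨M₁ + M₂, rS' ^ M₂ * z₁ + rS' ^ M₁ * z₂,
      add_mem (Ideal.mul_mem_left _ _ hz₁) (Ideal.mul_mem_left _ _ hz₂), ?_⟩
    push_cast
    rw [e₁, e₂, pow_add]
    change r ^ M₂ * _ + r ^ M₁ * _ = _
    ring
  | smul s x _ hx =>
    obtain ⟨M, z, hz, e⟩ := hx
    obtain ⟨m, hm⟩ := hS' s
    refine ⟨m + M, (⟨r ^ m * s, hm⟩ : S') * z, Ideal.mul_mem_left _ _ hz, ?_⟩
    push_cast
    rw [e, pow_add, smul_eq_mul]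
    ring

/-- **Étale lifting for henselian pairs** (existence). -/
theorem exists_lift_of_isGabber (I : Ideal A) (hG : HenselGabber.IsGabber A I) [Algebra.Etale A S]
    (σ₀ : S →ₐ[A] A ⧸ I) : ∃ σ : S →ₐ[A] A, (Ideal.Quotient.mkₐ A I).comp σ = σ₀ := by
  classical
  have hjac : I ≤ Ideal.jacobson ⊥ := hG.1
  have hmk : ∀ a : A, σ₀ (algebraMap A S a) = Ideal.Quotient.mk I a := fun a => σ₀.commutes a
  -- Step 1: Zariski's main theorem
  have hsurj : Function.Surjective ((σ₀ : S →+* A ⧸ I).comp (algebraMap A S)) := by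
    intro y
    obtain ⟨a, rfl⟩ := Ideal.Quotient.mk_surjective y
    exact ⟨a, hmk a⟩
  obtain ⟨r, hr, hrx, hr1⟩ := exists_integral_elt (A := A) (σ₀ : S →+* A ⧸ I) hsurj
  replace hr1 : σ₀ r = 1 := hr1
  obtain ⟨S', hS'fg, hrS', hS'⟩ := exists_finite_subalgebra r hr hrx
  have : Module.Finite A S' := ⟨(Submodule.fg_top _).mpr hS'fg⟩
  -- Step 2: the idempotent modulo `I`
  obtain ⟨u, hu1, huJ⟩ := Groth.Agent.Lib.EtaleLift.exists_sub_one_mem_ker_and_mul_mem I σ₀
  have hσu : σ₀ u = 1 := by
    have := (RingHom.mem_ker).1 hu1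
    rwa [map_sub, map_one, sub_eq_zero] at this
  have hσIS : ∀ y ∈ I.map (algebraMap A S), σ₀ y = 0 := by
    intro y hy
    have hle : I.map (algebraMap A S) ≤ RingHom.ker (σ₀ : S →+* A ⧸ I) := by
      rw [Ideal.map_le_iff_le_comap]
      intro a ha
      rw [Ideal.mem_comap, RingHom.mem_ker]
      exact (hmk a).trans (Ideal.Quotient.eq_zero_iff_mem.2 ha)
    exact hle hy
  set J' : Ideal S' := I.map (algebraMap A S') with hJ'
  let rS' : S' := ⟨r, hrS'⟩
  have hrS'val : (rS' : S) = r := rfl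
  have key := exists_pow_mul_mem I S' r hrS' hS'
  obtain ⟨N₁, hN₁⟩ := hS' u
  let u₁ : S' := ⟨r ^ N₁ * u, hN₁⟩
  have hu₁val : (u₁ : S) = r ^ N₁ * u := rfl
  obtain ⟨M₁, z₁, hz₁, ez₁⟩ := key (u * (u - 1)) (huJ _ hu1)
  have hr1ker : r - 1 ∈ RingHom.ker σ₀ := by
    rw [RingHom.mem_ker, map_sub, hr1, map_one, sub_self]
  obtain ⟨M₂, z₂, hz₂, ez₂⟩ := key (u * (r - 1)) (huJ _ hr1ker)
  obtain ⟨b', hb'def⟩ : ∃ b' : S', b' = rS' ^ (M₁ + M₂) * u₁ := ⟨_, rfl⟩
  set N : ℕ := M₁ + M₂ + N₁ with hN
  have hb'val : (b' : S) = r ^ N * u := by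
    rw [hb'def]
    change r ^ (M₁ + M₂) * (r ^ N₁ * u) = _
    rw [hN, pow_add (r) (M₁ + M₂) N₁]; ring
  have hd1 : b' * (rS' - 1) ∈ J' := by
    have e : b' * (rS' - 1) = rS' ^ (N₁ + M₁) * z₂ := by
      apply Subtype.ext
      push_cast
      rw [hb'val, ez₂, hrS'val, hN]
      ring
    rw [e]
    exact J'.mul_mem_left _ hz₂
  have hgeom : ∀ M : ℕ, b' * rS' ^ M - b' ∈ J' := by
    intro M
    have e : b' * rS' ^ M - b' = (b' * (rS' - 1)) * ∑ i ∈ Finset.range M, rS' ^ i := by
      have hg := mul_geom_sum rS' M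
      calc b' * rS' ^ M - b' = b' * (rS' ^ M - 1) := by ring
        _ = b' * ((rS' - 1) * ∑ i ∈ Finset.range M, rS' ^ i) := by rw [hg]
        _ = (b' * (rS' - 1)) * ∑ i ∈ Finset.range M, rS' ^ i := by ring
    rw [e]
    exact J'.mul_mem_right _ hd1
  have hd2 : b' * b' - b' ∈ J' := by
    have e : b' * b' - b' = rS' ^ (M₁ + 2 * M₂ + 2 * N₁) * z₁ + (b' * rS' ^ N - b') := by
      apply Subtype.ext
      push_cast
      rw [hb'val, ez₁, hrS'val, hN]
      ring
    rw [e]
    exact J'.add_mem (J'.mul_mem_left _ hz₁) (hgeom N)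
  have hcyc : ∀ x' : S', ∃ a : A, b' * x' - a • b' ∈ J' := by
    intro x'
    obtain ⟨a, ha⟩ := Ideal.Quotient.mk_surjective (σ₀ (x' : S))
    have hker : (x' : S) - algebraMap A S a ∈ RingHom.ker σ₀ := by
      rw [RingHom.mem_ker, map_sub, hmk, ha, sub_self]
    obtain ⟨M, z, hz, ez⟩ := key (u * ((x' : S) - algebraMap A S a)) (huJ _ hker)
    refine ⟨a, ?_⟩
    have e1 : b' * rS' ^ M * (x' - algebraMap A S' a) = rS' ^ N * z := by
      apply Subtype.ext
      push_cast
      rw [hb'val, ez, hrS'val]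
      change r ^ N * u * r ^ M * ((x' : S) - algebraMap A S a) = _
      ring
    have e2 : b' * x' - a • b' = b' * rS' ^ M * (x' - algebraMap A S' a) -
        (b' * rS' ^ M - b') * (x' - algebraMap A S' a) := by
      rw [Algebra.smul_def]; ring
    rw [e2, e1]
    exact J'.sub_mem (J'.mul_mem_left _ hz) (J'.mul_mem_right _ (hgeom M))
  -- Step 3: Gabber's trick
  obtain ⟨e, he, heb⟩ := HenselGabber.exists_idempotent_lift_of_cyclic I hG b' hd2 hcyc
  -- Step 4: the factor `C = S' e`
  let K₁ : Ideal S' := Ideal.span {1 - e}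
  let C := S' ⧸ K₁
  let π : S' →ₐ[A] C := Ideal.Quotient.mkₐ A K₁
  have hπsurj : Function.Surjective π := Ideal.Quotient.mk_surjective
  have hπe : π e = 1 := by
    have h0 : π (1 - e) = 0 := Ideal.Quotient.eq_zero_iff_mem.2 (Ideal.subset_span rfl)
    rw [map_sub, map_one, sub_eq_zero] at h0
    exact h0.symm
  have hπker : ∀ x' : S', π x' = 0 → e * x' = 0 := by
    intro x' hx'
    have hmem : x' ∈ K₁ := Ideal.Quotient.eq_zero_iff_mem.1 hx'
    obtain ⟨c, rfl⟩ := Ideal.mem_span_singleton'.1 hmem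
    have he' : e * e = e := he
    calc e * (c * (1 - e)) = c * (e - e * e) := by ring
      _ = 0 := by rw [he', sub_self, mul_zero]
  have hπJ' : ∀ z ∈ J', π z ∈ I.map (algebraMap A C) := by
    intro z hz
    have hmap : J'.map (π : S' →+* C) = I.map (algebraMap A C) := by
      rw [hJ', Ideal.map_map]
      exact congrArg (fun f => Ideal.map f I) π.comp_algebraMap
    rw [← hmap]
    exact Ideal.mem_map_of_mem _ hz
  have : Module.Finite A C := Module.Finite.of_surjective π.toLinearMap hπsurj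
  have hCsurj : Function.Surjective (algebraMap A C) := by
    have htop : (⊤ : Submodule A C) ≤ Submodule.span A {1} := by
      refine Submodule.le_of_le_smul_of_le_jacobson_bot (I := I) Module.Finite.fg_top hjac ?_
      intro c _
      obtain ⟨x', rfl⟩ := hπsurj c
      obtain ⟨a, ha⟩ := hcyc x'
      have hmem : e * x' - a • e ∈ J' := by
        have e3 : e * x' - a • e = (e - b') * x' + (b' * x' - a • b') - a • (e - b') := by
          simp only [Algebra.smul_def]; ring
        rw [e3]
        refine J'.sub_mem (J'.add_mem (J'.mul_mem_right _ heb) ha) ?_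
        rw [Algebra.smul_def]
        exact J'.mul_mem_left _ heb
      have hc : π x' = a • (1 : C) + π (e * x' - a • e) := by
        rw [map_sub, map_mul, hπe, one_mul, map_smul, hπe]; abel
      rw [hc]
      refine Submodule.add_mem _ (Submodule.mem_sup_left
        (Submodule.smul_mem _ _ (Submodule.subset_span rfl))) (Submodule.mem_sup_right ?_)
      rw [Ideal.smul_top_eq_map]
      exact hπJ' _ hmem
    intro c
    obtain ⟨a, ha⟩ := Submodule.mem_span_singleton.1 (htop (Submodule.mem_top : c ∈ ⊤))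
    exact ⟨a, by rw [Algebra.algebraMap_eq_smul_one, ha]⟩
  -- Step 5: `r` is a unit in `C`
  have hrunit : IsUnit (π rS') := by
    have hmem : e * (rS' - 1) ∈ J' := by
      have e3 : e * (rS' - 1) = (e - b') * (rS' - 1) + b' * (rS' - 1) := by ring
      rw [e3]
      exact J'.add_mem (J'.mul_mem_right _ heb) hd1
    have h1 : π rS' - 1 ∈ I.map (algebraMap A C) := by
      have e3 : π rS' - 1 = π (e * (rS' - 1)) := by
        rw [map_mul, hπe, one_mul, map_sub, map_one]
      rw [e3]
      exact hπJ' _ hmem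
    obtain ⟨i, hi, hi'⟩ := (Ideal.mem_map_iff_of_surjective _ hCsurj).1 h1
    have e3 : π rS' = algebraMap A C (1 + i) := by
      rw [map_add, map_one, hi']; ring
    rw [e3]
    exact (HenselGabber.isUnit_of_sub_one_mem hjac (by simpa using hi)).map _
  -- Step 6: the map `τ : S → C`
  let ι : S' →+* S := S'.val.toRingHom
  have hbij : Function.Bijective (Localization.awayMap ι rS') := by
    refine ⟨IsLocalization.map_injective_of_injective _ _ _ Subtype.val_injective, ?_⟩
    rw [Localization.awayMap_surjective_iff]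
    intro a
    obtain ⟨M, hM⟩ := hS' a
    exact ⟨⟨_, hM⟩, M, rfl⟩
  let eqv : Localization.Away rS' ≃+* Localization.Away (ι rS') := RingEquiv.ofBijective _ hbij
  let ψ : Localization.Away rS' →+* C :=
    IsLocalization.Away.lift rS' (g := (π : S' →+* C)) hrunit
  let τ₀ : S →+* C :=
    ψ.comp (eqv.symm.toRingHom.comp (algebraMap S (Localization.Away (ι rS'))))
  have hτι : ∀ x' : S', τ₀ (x' : S) = π x' := by
    intro x'
    have h1 : eqv (algebraMap S' (Localization.Away rS') x') =
        algebraMap S (Localization.Away (ι rS')) (x' : S) := by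
      change Localization.awayMap ι rS' _ = _
      exact IsLocalization.map_eq _ _
    change ψ (eqv.symm (algebraMap S _ (x' : S))) = _
    rw [← h1, RingEquiv.symm_apply_apply]
    exact IsLocalization.Away.lift_eq _ _ _
  let τ : S →ₐ[A] C :=
    { τ₀ with
      commutes' := fun a => by
        have := hτι (algebraMap A S' a)
        simpa using this }
  have hττ₀ : ∀ x, τ x = τ₀ x := fun _ => rfl
  have hτr : τ r = π rS' := hτι rS'
  have hτpow : ∀ (x : S) (M : ℕ) (x' : S'), (x' : S) = r ^ M * x → π x' = π rS' ^ M * τ x := by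
    intro x M x' hx'
    rw [← hτι x', ← hττ₀, hx', map_mul, map_pow, hτr]
  let g : S := r * (e : S)
  have hτg : τ g = π rS' := by
    change τ (r * (e : S)) = _
    rw [map_mul, hτr, hττ₀, hτι e, hπe, mul_one]
  have heS : ((e : S)) * (e : S) = e := by
    have := congrArg (fun x : S' => (x : S)) he.eq
    simpa using this
  have hgpow : ∀ M : ℕ, g ^ (M + 1) = r ^ (M + 1) * (e : S) := by
    intro M
    have : ∀ n : ℕ, (e : S) ^ (n + 1) = e := by
      intro n
      induction n with
      | zero => simp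
      | succ n ih => rw [pow_succ, ih, heS]
    change (r * (e : S)) ^ (M + 1) = _
    rw [mul_pow, this]
  have hτker : ∀ x : S, τ x = 0 → ∃ M : ℕ, g ^ M * x = 0 := by
    intro x hx
    obtain ⟨M, hM⟩ := hS' x
    have h0 : π ⟨_, hM⟩ = 0 := by rw [hτpow x M ⟨_, hM⟩ rfl, hx, mul_zero]
    have h1 := congrArg (fun x : S' => (x : S)) (hπker _ h0)
    simp only [Subalgebra.coe_mul, Subalgebra.coe_zero] at h1
    refine ⟨M + 1, ?_⟩
    rw [hgpow, pow_succ]
    calc r ^ M * r * (e : S) * x = r * ((e : S) * (r ^ M * x)) := by ring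
      _ = 0 := by rw [h1, mul_zero]
  have hσe : σ₀ (e : S) = 1 := by
    have hmem : ((e - b' : S') : S) ∈ I.map (algebraMap A S) := by
      have hle : J'.map ι ≤ I.map (algebraMap A S) := by
        rw [hJ', Ideal.map_map]
        exact le_of_eq (congrArg (fun f => Ideal.map f I) S'.val.comp_algebraMap)
      exact hle (Ideal.mem_map_of_mem ι heb)
    have h0 := hσIS _ hmem
    rw [Subalgebra.coe_sub, map_sub, hb'val, map_mul, map_pow, hr1, hσu, one_pow, one_mul,
      sub_eq_zero] at h0
    exact h0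
  have hσg : σ₀ g = 1 := by
    change σ₀ (r * (e : S)) = 1
    rw [map_mul, hr1, hσe, one_mul]
  -- Step 7: `C` is the localization of `S` at `g`, hence étale over `A`
  let _ : Algebra S C := τ₀.toAlgebra
  have halg : ∀ x : S, algebraMap S C x = τ x := fun _ => rfl
  have : IsScalarTower A S C := IsScalarTower.of_algebraMap_eq fun a => (τ.commutes a).symm
  have hloc : IsLocalization.Away g C := by
    rw [IsLocalization.Away, isLocalization_iff]
    refine ⟨?_, ?_, ?_⟩
    · rintro ⟨_, n, rfl⟩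
      rw [halg, map_pow, hτg]
      exact hrunit.pow n
    · intro c
      obtain ⟨a, rfl⟩ := hCsurj c
      refine ⟨(algebraMap A S a, 1), ?_⟩
      simp only [OneMemClass.coe_one, map_one, mul_one]
      rw [halg, τ.commutes]
    · intro x y hxy
      rw [halg, halg] at hxy
      obtain ⟨M, hM⟩ := hτker (x - y) (by rw [map_sub, hxy, sub_self])
      refine ⟨⟨g ^ M, M, rfl⟩, ?_⟩
      rw [mul_sub, sub_eq_zero] at hM
      exact hM
  have hEtSC : Algebra.Etale S C := Algebra.Etale.of_isLocalizationAway g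
  have hEt : Algebra.Etale A C := Algebra.Etale.comp A S C
  -- Step 8: the kernel of `A → C` vanishes
  set K : Ideal A := RingHom.ker (algebraMap A C) with hK
  have hKfg : K.FG := by
    have := Algebra.FinitePresentation.ker_fG_of_surjective (Algebra.ofId A C) hCsurj
    exact this
  have hKI : K ≤ I := by
    intro k hk
    have h0 : τ (algebraMap A S k) = 0 := by
      rw [τ.commutes]; exact hk
    obtain ⟨M, hM⟩ := hτker _ h0
    have := congrArg σ₀ hM
    rw [map_mul, map_pow, hσg, one_pow, one_mul, hmk, map_zero] at this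
    exact Ideal.Quotient.eq_zero_iff_mem.1 this
  have hKsq : K ≤ K ^ 2 := by
    let g₂ : (A ⧸ K ^ 2) →ₐ[A] C := Ideal.Quotient.liftₐ (K ^ 2) (Algebra.ofId A C) (by
      intro a ha
      exact (Ideal.pow_le_self two_ne_zero) ha)
    have hg₂mk : ∀ a : A, g₂ (Ideal.Quotient.mk _ a) = algebraMap A C a := fun a => rfl
    have hg₂surj : Function.Surjective g₂ := fun c => by
      obtain ⟨a, rfl⟩ := hCsurj c
      exact ⟨Ideal.Quotient.mk _ a, hg₂mk a⟩
    have hg₂nil : IsNilpotent (RingHom.ker (g₂ : (A ⧸ K ^ 2) →+* C)) := by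
      refine ⟨2, ?_⟩
      have hle : RingHom.ker (g₂ : (A ⧸ K ^ 2) →+* C) ≤ K.map (Ideal.Quotient.mk (K ^ 2)) := by
        intro x hx
        obtain ⟨a, rfl⟩ := Ideal.Quotient.mk_surjective x
        have : algebraMap A C a = 0 := hx
        exact Ideal.mem_map_of_mem _ this
      rw [Ideal.zero_eq_bot, ← le_bot_iff]
      refine (Ideal.pow_right_mono hle 2).trans ?_
      rw [← Ideal.map_pow, Ideal.map_quotient_self]
    let s := Algebra.FormallySmooth.liftOfSurjective (AlgHom.id A C) g₂ hg₂surj hg₂nil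
    intro k hk
    have h1 : s (algebraMap A C k) = 0 := by
      have : algebraMap A C k = 0 := hk
      rw [this, map_zero]
    rw [s.commutes] at h1
    exact Ideal.Quotient.eq_zero_iff_mem.1 h1
  have hKbot : K = ⊥ := by
    refine Submodule.eq_bot_of_le_smul_of_le_jacobson_bot K K hKfg ?_ (hKI.trans hjac)
    rw [smul_eq_mul, ← sq]
    exact hKsq
  have hCinj : Function.Injective (algebraMap A C) := by
    rw [injective_iff_map_eq_zero]
    intro a ha
    have : a ∈ K := ha
    rwa [hKbot] at this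
  let eC : A ≃ₐ[A] C := AlgEquiv.ofBijective (Algebra.ofId A C) ⟨hCinj, hCsurj⟩
  refine ⟨eC.symm.toAlgHom.comp τ, ?_⟩
  ext x
  change Ideal.Quotient.mk I (eC.symm (τ x)) = σ₀ x
  set a : A := eC.symm (τ x) with ha
  have h1 : τ (x - algebraMap A S a) = 0 := by
    rw [map_sub, τ.commutes, sub_eq_zero]
    have : eC a = τ x := by rw [ha, AlgEquiv.apply_symm_apply]
    exact this.symm
  obtain ⟨M, hM⟩ := hτker _ h1
  have := congrArg σ₀ hM
  rw [map_mul, map_pow, hσg, one_pow, one_mul, map_sub, hmk, map_zero, sub_eq_zero] at this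
  exact this.symm

end main

section consequences

variable {A S : Type u} [CommRing A] [CommRing S] [Algebra A S]

/-- **Étale lifting for henselian pairs** (Stacks 09XI (1) ⇒ (2)). -/
theorem exists_lift (I : Ideal A) [HenselianRing A I] [Algebra.Etale A S]
    (σ₀ : S →ₐ[A] A ⧸ I) : ∃ σ : S →ₐ[A] A, (Ideal.Quotient.mkₐ A I).comp σ = σ₀ :=
  exists_lift_of_isGabber I (HenselGabber.isGabber_of_henselianRing A I) σ₀

/-- Two algebra maps from a finite type unramified algebra to `C` which agree modulo an ideal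
contained in the Jacobson radical are equal. -/
theorem algHom_ext_of_sub_mem {C : Type*} [CommRing C] [Algebra A C]
    [Algebra.FormallyUnramified A S] [Algebra.FiniteType A S] (J : Ideal C)
    (hJ : J ≤ Ideal.jacobson ⊥) (u v : S →ₐ[A] C) (h : ∀ x, u x - v x ∈ J) : u = v := by
  set D := Groth.Agent.Lib.UnramEq.diffIdeal u v with hD
  have hDJ : D ≤ J := by
    rw [hD, Groth.Agent.Lib.UnramEq.diffIdeal, Ideal.span_le]
    rintro _ ⟨x, rfl⟩
    exact h x
  have hbot : D = ⊥ := by
    refine Submodule.eq_bot_of_le_smul_of_le_jacobson_bot D D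
      (Groth.Agent.Lib.UnramEq.diffIdeal_fg u v) ?_ (hDJ.trans hJ)
    rw [smul_eq_mul, ← sq]
    exact Groth.Agent.Lib.UnramEq.diffIdeal_le_sq u v
  ext x
  have := Groth.Agent.Lib.UnramEq.sub_mem_diffIdeal u v x
  rw [← hD, hbot, Ideal.mem_bot, sub_eq_zero] at this
  exact this

/-- Uniqueness of étale lifts for pairs with `I ≤ Jac(A)`. -/
theorem lift_unique (I : Ideal A) (hI : I ≤ Ideal.jacobson ⊥) [Algebra.Etale A S]
    (σ σ' : S →ₐ[A] A)
    (h : (Ideal.Quotient.mkₐ A I).comp σ = (Ideal.Quotient.mkₐ A I).comp σ') : σ = σ' := by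
  refine algHom_ext_of_sub_mem I hI σ σ' fun x => ?_
  have := congrArg (fun f : S →ₐ[A] A ⧸ I => f x) h
  exact Ideal.Quotient.eq.1 this

/-- Stacks 09XI (2) ⇒ (1): if all sections modulo `I` of étale algebras lift, the pair is
henselian in Mathlib's sense. -/
theorem henselianRing_of_forall_exists_lift (I : Ideal A)
    (h : ∀ (A' : Type u) [CommRing A'] [Algebra A A'] [Algebra.Etale A A'] (σ : A' →ₐ[A] A ⧸ I),
      ∃ τ : A' →ₐ[A] A, (Ideal.Quotient.mkₐ A I).comp τ = σ) : HenselianRing A I := by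
  refine ⟨?_, ?_⟩
  · intro x hx
    rw [Ideal.mem_jacobson_bot]
    intro y
    set t := x * y + 1 with ht
    have hmk : Ideal.Quotient.mkₐ A I t = 1 := by
      change Ideal.Quotient.mk I t = 1
      rw [ht, map_add, map_mul, Ideal.Quotient.eq_zero_iff_mem.2 hx, zero_mul, zero_add, map_one]
    have : Algebra.Etale A (Localization.Away t) := Algebra.Etale.of_isLocalizationAway t
    let σ : Localization.Away t →ₐ[A] A ⧸ I :=
      IsLocalization.Away.liftAlgHom t (f := Ideal.Quotient.mkₐ A I) (by rw [hmk]; exact isUnit_one)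
    obtain ⟨τ, -⟩ := h (Localization.Away t) σ
    have hu : IsUnit (algebraMap A (Localization.Away t) t) :=
      IsLocalization.Away.algebraMap_isUnit t
    have := hu.map τ
    rwa [τ.commutes] at this
  · intro f hf a₀ h₁ h₂
    let P : StandardEtalePair A :=
      { f := f
        monic_f := hf
        g := derivative f
        cond := ⟨1, 0, 1, by simp⟩ }
    have hmap : P.HasMap (Ideal.Quotient.mk I a₀) := by
      refine ⟨?_, ?_⟩
      · change Polynomial.aeval (Ideal.Quotient.mk I a₀) f = 0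
        rw [Polynomial.aeval_def]
        change Polynomial.eval₂ (Ideal.Quotient.mk I) _ _ = 0
        rw [Polynomial.eval₂_at_apply]
        exact Ideal.Quotient.eq_zero_iff_mem.2 h₁
      · change IsUnit (Polynomial.aeval (Ideal.Quotient.mk I a₀) (derivative f))
        rw [Polynomial.aeval_def]
        change IsUnit (Polynomial.eval₂ (Ideal.Quotient.mk I) _ _)
        rw [Polynomial.eval₂_at_apply]
        exact h₂
    obtain ⟨τ, hτ⟩ := h P.Ring (P.lift _ hmap)
    refine ⟨τ P.X, ?_, ?_⟩
    · have := (StandardEtalePair.HasMap.map (P.hasMap_X) τ).1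
      change Polynomial.aeval (τ P.X) f = 0 at this
      rwa [Polynomial.coe_aeval_eq_eval] at this
    · have := congrArg (fun g : P.Ring →ₐ[A] A ⧸ I => g P.X) hτ
      simp only [AlgHom.comp_apply, StandardEtalePair.lift_X] at this
      exact Ideal.Quotient.eq.1 this

/-- Gabber's criterion (Stacks 09XI (5) ⇒ (1)). -/
theorem henselianRing_of_isGabber (I : Ideal A) (hG : HenselGabber.IsGabber A I) :
    HenselianRing A I :=
  henselianRing_of_forall_exists_lift I fun _ _ _ _ σ => exists_lift_of_isGabber I hG σ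

theorem henselianRing_iff_isGabber (I : Ideal A) :
    HenselianRing A I ↔ HenselGabber.IsGabber A I :=
  ⟨fun _ => HenselGabber.isGabber_of_henselianRing A I, henselianRing_of_isGabber I⟩

/-- Étale lifting into an arbitrary henselian pair `(C, J)` over the base `A`. -/
theorem exists_lift_of_algebra {C : Type u} [CommRing C] [Algebra A C] [Algebra.Etale A S]
    (J : Ideal C) [HenselianRing C J] (σ₀ : S →ₐ[A] C ⧸ J) :
    ∃ σ : S →ₐ[A] C, (Ideal.Quotient.mkₐ A J).comp σ = σ₀ := by
  let σ₁ : TensorProduct A C S →ₐ[C] C ⧸ J :=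
    Algebra.TensorProduct.lift (Algebra.ofId C (C ⧸ J)) σ₀ fun _ _ => Commute.all _ _
  obtain ⟨σ₂, hσ₂⟩ := exists_lift (A := C) (S := TensorProduct A C S) J σ₁
  refine ⟨(σ₂.restrictScalars A).comp Algebra.TensorProduct.includeRight, ?_⟩
  ext s
  have := congrArg (fun g : TensorProduct A C S →ₐ[C] C ⧸ J => g (1 ⊗ₜ s)) hσ₂
  simp only [AlgHom.comp_apply, σ₁, Algebra.TensorProduct.lift_tmul, map_one, one_mul] at this
  exact this

/-- Uniqueness of lifts into a pair `(C, J)` with `J ≤ Jac(C)`. -/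
theorem lift_unique_of_algebra {C : Type u} [CommRing C] [Algebra A C] [Algebra.Etale A S]
    (J : Ideal C) (hJ : J ≤ Ideal.jacobson ⊥) (σ σ' : S →ₐ[A] C)
    (h : (Ideal.Quotient.mkₐ A J).comp σ = (Ideal.Quotient.mkₐ A J).comp σ') : σ = σ' := by
  refine algHom_ext_of_sub_mem J hJ σ σ' fun x => ?_
  have := congrArg (fun f : S →ₐ[A] C ⧸ J => f x) h
  exact Ideal.Quotient.eq.1 this

end consequences

end Groth.Agent.Lib.HenselEtaleLift
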