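import Mathlib
import Groth.Prelude.Def_Hens2
import Groth.Agent.Lib.HenselEtaleLift

/-!
# helper96: elementary étale neighbourhoods, ring-level criteria

* `ResSurj f`: elementwise form of "`f` is surjective on residue fields" (makes sense for any ring
  hom, respects isomorphisms).
* `bijective_iff_resSurj`: for local rings, a residue-field map induced by `f` is bijective iff
  `ResSurj f`.
* `bijective_residueFieldMap_iff_of_affine`, `bijective_residueFieldMap_SpecMap_iff`: scheme-level
  residue field maps in terms of `Localization.localRingHom`.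
* `exists_algHom_comap_eq_of_bijective`: a point of an étale algebra with trivial residue field
  extension lifts to a section into any henselian local algebra.
* `resSurj_localRingHom_of_algHom`: the converse direction used to build elementary étale
  neighbourhoods from maps into the henselization.
-/

set_option autoImplicit false
set_option linter.style.haveILetI false
universe u

namespace Groth.Agent.Lib.ElemEtaleNbhd96

open IsLocalRing AlgebraicGeometry CategoryTheory

/-- Elementwise form of surjectivity on residue fields. -/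
def ResSurj {R S : Type u} [CommRing R] [CommRing S] (f : R →+* S) : Prop :=
  ∀ a : S, ∃ r : R, ¬ IsUnit (a - f r)

theorem resSurj_respectsIso :
    RingHom.RespectsIso (fun {R S : Type u} [CommRing R] [CommRing S] (f : R →+* S) => ResSurj f) := by
  constructor
  · intro R S T _ _ _ f e hf a
    obtain ⟨r, hr⟩ := hf (e.symm a)
    refine ⟨r, fun hu => hr ?_⟩
    have h := hu.map e.symm
    simpa using h
  · intro R S T _ _ _ f e hf a
    obtain ⟨r, hr⟩ := hf a
    exact ⟨e.symm r, by simpa using hr⟩

theorem bijective_iff_resSurj {R S : Type u} [CommRing R] [IsLocalRing R] [CommRing S]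
    [IsLocalRing S] (f : R →+* S) (F : ResidueField R →+* ResidueField S)
    (hF : ∀ x, F (residue R x) = residue S (f x)) : Function.Bijective F ↔ ResSurj f := by
  constructor
  · intro hb a
    obtain ⟨y, hy⟩ := hb.2 (residue S a)
    obtain ⟨r, rfl⟩ := residue_surjective y
    refine ⟨r, ?_⟩
    have h0 : residue S (a - f r) = 0 := by rw [map_sub, ← hF, hy, sub_self]
    rw [residue_eq_zero_iff] at h0
    exact h0
  · intro hs
    refine ⟨F.injective, fun y => ?_⟩
    obtain ⟨a, rfl⟩ := residue_surjective y
    obtain ⟨r, hr⟩ := hs a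
    refine ⟨residue R r, ?_⟩
    rw [hF]
    have h0 : residue S (a - f r) = 0 := (residue_eq_zero_iff _).2 hr
    rw [map_sub, sub_eq_zero] at h0
    exact h0.symm

theorem bijective_residueFieldMap_iff {U X : Scheme.{u}} (g : U ⟶ X) (u : U) :
    Function.Bijective (g.residueFieldMap u) ↔ ResSurj (g.stalkMap u).hom :=
  bijective_iff_resSurj (g.stalkMap u).hom (g.residueFieldMap u).hom (fun _ => rfl)

theorem bijective_residueFieldMap_iff_of_affine {U X : Scheme.{u}} (g : U ⟶ X) {u : U}
    (V : X.Opens) (hV : IsAffineOpen V) (U' : U.Opens) (hU' : IsAffineOpen U')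
    (e : U' ≤ g ⁻¹ᵁ V) (hu : u ∈ U') :
    Function.Bijective (g.residueFieldMap u) ↔
      ResSurj (Localization.localRingHom _ _ (g.appLE V U' e).hom
        congr($(IsAffineOpen.comap_primeIdealOf_appLE V hV U' hU' e hu).1).symm) := by
  rw [bijective_residueFieldMap_iff]
  exact resSurj_respectsIso.arrow_mk_iso_iff (IsAffineOpen.arrowStalkMapIso g V hV U' hU' e hu)

theorem bijective_residueFieldMap_SpecMap_iff {A C : CommRingCat.{u}} (φ : A ⟶ C)
    (q : PrimeSpectrum C) :
    Function.Bijective ((Spec.map φ).residueFieldMap q) ↔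
      ResSurj (Localization.localRingHom (q.comap φ.hom).asIdeal q.asIdeal φ.hom rfl) :=
  (bijective_residueFieldMap_iff (Spec.map φ) q).trans
    (resSurj_respectsIso.arrow_mk_iso_iff (Scheme.arrowStalkMapSpecIso φ q))

section Lift

variable {A C S : Type u} [CommRing A] [CommRing C] [Algebra A C] [Algebra.Etale A C]
  [CommRing S] [HenselianLocalRing S] [Algebra A S]

/-- A point of an étale `A`-algebra `C` with trivial residue field extension, over the closed point
of a henselian local `A`-algebra `S`, lifts to an `A`-algebra map `C → S`. -/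
theorem exists_algHom_comap_eq_of_resSurj (Q : Ideal C) [Q.IsPrime] (p : Ideal A) [p.IsPrime]
    [Q.LiesOver p] (hp : (maximalIdeal S).comap (algebraMap A S) = p)
    (hres : ResSurj (Localization.localRingHom p Q (algebraMap A C) Ideal.LiesOver.over)) :
    ∃ σ : C →ₐ[A] S, (maximalIdeal S).comap (σ : C →+* S) = Q := by
  classical
  let k := ResidueField S
  let f : A →+* k := (residue S).comp (algebraMap A S)
  have hker : ∀ a : A, f a = 0 ↔ a ∈ p := by
    intro a
    change residue S (algebraMap A S a) = 0 ↔ _
    rw [residue_eq_zero_iff, ← hp, Ideal.mem_comap]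
  let ι : p.ResidueField →+* k := Ideal.ResidueField.lift p f (fun a ha => (hker a).2 ha)
    (fun a ha => by
      change IsUnit (f a)
      rw [isUnit_iff_ne_zero]
      exact fun h => ha ((hker a).1 h))
  let _ : Algebra p.ResidueField k := ι.toAlgebra
  let _ := Localization.AtPrime.algebraOfLiesOver p Q
  have hbij : Function.Bijective (algebraMap p.ResidueField Q.ResidueField) :=
    (bijective_iff_resSurj _ (algebraMap p.ResidueField Q.ResidueField) (fun _ => rfl)).2 hres
  let β : p.ResidueField ≃ₐ[p.ResidueField] Q.ResidueField :=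
    AlgEquiv.ofBijective (Algebra.ofId _ _) hbij
  let τ : Q.ResidueField →ₐ[p.ResidueField] k := (Algebra.ofId p.ResidueField k).comp β.symm
  let σ₀ : C →ₐ[A] S ⧸ maximalIdeal S :=
    { toRingHom := (τ : Q.ResidueField →+* k).comp (algebraMap C Q.ResidueField)
      commutes' := fun a => by
        change τ (algebraMap C Q.ResidueField (algebraMap A C a)) = _
        rw [← IsScalarTower.algebraMap_apply A C Q.ResidueField,
          IsScalarTower.algebraMap_apply A p.ResidueField Q.ResidueField, τ.commutes]
        exact (Ideal.ResidueField.lift_algebraMap p f _ _ a).trans rfl }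
  obtain ⟨σ, hσ⟩ := Groth.Agent.Lib.HenselEtaleLift.exists_lift_of_algebra (A := A) (S := C)
    (C := S) (maximalIdeal S) σ₀
  refine ⟨σ, ?_⟩
  ext c
  rw [Ideal.mem_comap]
  have h1 : Ideal.Quotient.mk (maximalIdeal S) (σ c) = σ₀ c := by
    rw [← hσ]; rfl
  rw [← Ideal.Quotient.eq_zero_iff_mem]
  change Ideal.Quotient.mk (maximalIdeal S) (σ c) = 0 ↔ _
  rw [h1]
  change τ (algebraMap C Q.ResidueField c) = 0 ↔ _
  rw [map_eq_zero_iff τ τ.injective, Ideal.algebraMap_residueField_eq_zero]

end Lift

/-- If `A_p → κ(S)` is surjective and `Q` is the contraction of the maximal ideal of `S` along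
`χ : C → S`, then `κ(p) → κ(Q)` is surjective. -/
theorem resSurj_localRingHom_of_ringHom {A C S : Type u} [CommRing A] [CommRing C] [CommRing S]
    [IsLocalRing S] (f : A →+* C) (χ : C →+* S) (Q : Ideal C) [Q.IsPrime]
    (hQ : Q = (maximalIdeal S).comap χ) (p : Ideal A) [p.IsPrime] (hpQ : p = Q.comap f)
    (hS : ∀ s : S, ∃ a t : A, t ∉ p ∧ χ (f t) * s - χ (f a) ∈ maximalIdeal S) :
    ResSurj (Localization.localRingHom p Q f hpQ) := by
  intro z
  obtain ⟨c, d, rfl⟩ := IsLocalization.exists_mk'_eq Q.primeCompl z
  have hd : IsUnit (χ d.1) := by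
    have h : d.1 ∉ Q := d.2
    by_contra hnu
    exact h ((SetLike.ext_iff.1 hQ d.1).2 hnu)
  obtain ⟨v, hv⟩ := hd.exists_right_inv
  obtain ⟨a, t, ht, hat⟩ := hS (χ c * v)
  refine ⟨IsLocalization.mk' (Localization.AtPrime p) a (⟨t, ht⟩ : p.primeCompl), fun hu => ?_⟩
  rw [Localization.localRingHom_mk'] at hu
  have hft : f t ∈ Q.primeCompl := by
    rw [Ideal.mem_primeCompl_iff]
    intro h
    exact ht ((SetLike.ext_iff.1 hpQ t).2 h)
  have h1 : (IsLocalization.mk' (Localization.AtPrime Q) c d -
      IsLocalization.mk' (Localization.AtPrime Q) (f a) ⟨f t, hft⟩) *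
      (algebraMap C (Localization.AtPrime Q) d.1 * algebraMap C (Localization.AtPrime Q) (f t)) =
      algebraMap C (Localization.AtPrime Q) (c * f t - f a * d.1) := by
    have e1 := IsLocalization.mk'_spec (Localization.AtPrime Q) c d
    have e2 := IsLocalization.mk'_spec (Localization.AtPrime Q) (f a) ⟨f t, hft⟩
    simp only at e2
    rw [map_sub, map_mul, map_mul]
    linear_combination (algebraMap C (Localization.AtPrime Q) (f t)) * e1 -
      (algebraMap C (Localization.AtPrime Q) d.1) * e2
  have h2 : IsUnit (algebraMap C (Localization.AtPrime Q) (c * f t - f a * d.1)) := by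
    rw [← h1]
    exact hu.mul ((IsLocalization.map_units _ d).mul
      (IsLocalization.map_units _ (⟨f t, hft⟩ : Q.primeCompl)))
  rw [IsLocalization.AtPrime.isUnit_to_map_iff (Localization.AtPrime Q) Q,
    Ideal.mem_primeCompl_iff] at h2
  apply h2
  refine (SetLike.ext_iff.1 hQ _).2 ?_
  rw [Ideal.mem_comap]
  have h3 : χ (c * f t - f a * d.1) = χ d.1 * (χ (f t) * (χ c * v) - χ (f a)) := by
    rw [map_sub, map_mul, map_mul]
    linear_combination (-(χ (f t) * χ c)) * hv
  rw [h3]
  exact Ideal.mul_mem_left _ _ hat

end Groth.Agent.Lib.ElemEtaleNbhd96
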