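import Mathlib

/-!
# helper44: finiteness of the set of irreducible components

* `finite_irreducibleComponents_of_openCover`: a space covered by finitely many open embeddings
  from spaces with finitely many irreducible components has finitely many irreducible components.
* `minimalPrimes_finite_of_flat_finiteType`: if `A → B` is flat of finite type and `A` has finitely
  many minimal primes then so does `B`.
* `finite_irreducibleComponents_primeSpectrum_of_flat_finiteType`: the same on prime spectra.
-/

set_option autoImplicit false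
universe u

namespace Groth.Agent.Lib.FiniteIrredCompH44

open Topology

theorem finite_irreducibleComponents_of_openCover {T : Type*} [TopologicalSpace T]
    {ι : Type*} [Finite ι] (S : ι → Type*) [∀ i, TopologicalSpace (S i)] (j : ∀ i, S i → T)
    (hj : ∀ i, IsOpenEmbedding (j i)) (hcov : ∀ x : T, ∃ i, x ∈ Set.range (j i))
    (hfin : ∀ i, (irreducibleComponents (S i)).Finite) : (irreducibleComponents T).Finite := by
  refine (Set.finite_iUnion fun i => (hfin i).image (fun C => closure (j i '' C))).subset ?_
  intro Z hZ
  obtain ⟨z, hz⟩ := hZ.1.nonempty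
  obtain ⟨i, hi⟩ := hcov z
  refine Set.mem_iUnion.2 ⟨i, j i ⁻¹' Z,
    preimage_mem_irreducibleComponents hZ (hj i) ⟨z, hz, hi⟩, ?_⟩
  obtain ⟨w, rfl⟩ := hi
  exact closure_image_preimage_of_isPreirreducible (j i) (hj i).isOpenMap Z ⟨w, hz⟩
    hZ.1.isPreirreducible (isClosed_of_mem_irreducibleComponents Z hZ)

theorem finite_irreducibleComponents_of_homeomorph {T T' : Type*} [TopologicalSpace T]
    [TopologicalSpace T'] (e : T ≃ₜ T') (h : (irreducibleComponents T).Finite) :
    (irreducibleComponents T').Finite :=
  finite_irreducibleComponents_of_openCover (ι := Unit) (fun _ => T) (fun _ => e)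
    (fun _ => e.isOpenEmbedding) (fun x => ⟨(), e.surjective x⟩) (fun _ => h)

theorem finite_irreducibleComponents_iff_minimalPrimes (R : Type*) [CommRing R] :
    (irreducibleComponents (PrimeSpectrum R)).Finite ↔ (minimalPrimes R).Finite := by
  rw [← Set.finite_coe_iff, ← Set.finite_coe_iff]
  exact (minimalPrimes.equivIrreducibleComponents R).toEquiv.symm.finite_iff.trans
    (by rfl)

section Algebra

variable {A B : Type*} [CommRing A] [CommRing B] [Algebra A B]

theorem under_mem_minimalPrimes_of_flat [Module.Flat A B] {q : Ideal B} (hq : q ∈ minimalPrimes B) :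
    q.under A ∈ minimalPrimes A := by
  have : q.IsPrime := Ideal.IsMinimalPrime.isPrime hq
  obtain ⟨p', hp', hle⟩ := Ideal.exists_minimalPrimes_le (bot_le : (⊥ : Ideal A) ≤ q.under A)
  have : p'.IsPrime := Ideal.IsMinimalPrime.isPrime hp'
  have : q.LiesOver (q.under A) := ⟨rfl⟩
  obtain ⟨P, hPq, hPprime, hPover⟩ :=
    Ideal.exists_ideal_le_liesOver_of_le (p := p') (q := q.under A) q hle
  have hqP : q ≤ P := hq.2 ⟨hPprime, bot_le⟩ hPq
  have hPq' : P = q := le_antisymm hPq hqP
  have : p' = q.under A := by
    rw [← hPq']
    exact hPover.over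
  rwa [← this]

theorem minimalPrimes_finite_of_flat_finiteType [Module.Flat A B] [Algebra.FiniteType A B]
    (h : (minimalPrimes A).Finite) : (minimalPrimes B).Finite := by
  classical
  have : Finite (minimalPrimes A) := h.to_subtype
  let F : minimalPrimes A → Set (Ideal B) := fun p =>
    have : p.1.IsPrime := Ideal.IsMinimalPrime.isPrime p.2
    (fun I : Ideal (p.1.Fiber B) =>
      I.comap (Algebra.TensorProduct.includeRight : B →ₐ[A] p.1.Fiber B)) ''
        minimalPrimes (p.1.Fiber B)
  have hF : ∀ p, (F p).Finite := by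
    intro p
    have : p.1.IsPrime := Ideal.IsMinimalPrime.isPrime p.2
    have : Algebra.FiniteType p.1.ResidueField (p.1.Fiber B) := inferInstance
    have : IsNoetherianRing (p.1.Fiber B) :=
      Algebra.FiniteType.isNoetherianRing p.1.ResidueField (p.1.Fiber B)
    exact (minimalPrimes.finite_of_isNoetherianRing (p.1.Fiber B)).image _
  refine (Set.finite_iUnion hF).subset ?_
  intro q hq
  have hqprime : q.IsPrime := Ideal.IsMinimalPrime.isPrime hq
  have hp := under_mem_minimalPrimes_of_flat (A := A) hq
  have : (q.under A).IsPrime := Ideal.IsMinimalPrime.isPrime hp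
  have : q.LiesOver (q.under A) := ⟨rfl⟩
  refine Set.mem_iUnion.2 ⟨⟨q.under A, hp⟩, ?_⟩
  let e := PrimeSpectrum.primesOverOrderIsoFiber A B (q.under A)
  let x : (q.under A).primesOver B := ⟨q, ⟨hqprime, inferInstance⟩⟩
  refine ⟨(e x).asIdeal, ⟨⟨(e x).2, bot_le⟩, ?_⟩, ?_⟩
  · rintro J ⟨hJ, -⟩ hJle
    let r' : PrimeSpectrum ((q.under A).Fiber B) := ⟨J, hJ⟩
    have h1 : r' ≤ e x := hJle
    have h2 : e.symm r' ≤ x := by
      rw [← e.symm_apply_apply x]
      exact e.symm.monotone h1
    have h3 : (e.symm r').1 ≤ q := h2
    have h4 : q ≤ (e.symm r').1 := hq.2 ⟨(e.symm r').2.1, bot_le⟩ h3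
    have h5 : e.symm r' = x := Subtype.ext (le_antisymm h3 h4)
    have h6 : r' = e x := by rw [← h5, e.apply_symm_apply]
    rw [← h6]
  · have := PrimeSpectrum.coe_primesOverOrderIsoFiber_symm_apply (R := A) (S := B)
      (p := q.under A) (e x)
    rw [e.symm_apply_apply] at this
    exact this.symm

theorem finite_irreducibleComponents_primeSpectrum_of_flat_finiteType [Module.Flat A B]
    [Algebra.FiniteType A B] (h : (irreducibleComponents (PrimeSpectrum A)).Finite) :
    (irreducibleComponents (PrimeSpectrum B)).Finite :=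
  (finite_irreducibleComponents_iff_minimalPrimes B).2
    (minimalPrimes_finite_of_flat_finiteType
      ((finite_irreducibleComponents_iff_minimalPrimes A).1 h))

end Algebra

end Groth.Agent.Lib.FiniteIrredCompH44
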