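import Mathlib.RingTheory.Extension.Presentation.Core
import Mathlib.RingTheory.Localization.BaseChange
import Mathlib.RingTheory.Localization.Integer
import Mathlib.RingTheory.Localization.LocalizationLocalization
import Mathlib.RingTheory.Etale.Locus

/-!
# Finitely presented models over a ring of an algebra over a localization (helper61)

* `exists_fp_model`: if `R' = M⁻¹ R` and `C` is a finitely presented `R'`-algebra then there is a
  finitely presented `R`-algebra `C₀` with an `R`-algebra map `C₀ → C` making `C` the localization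
  of `C₀` at the image of `M`.
* `exists_etale_away_of_formallyEtale_atPrime`: if moreover the localization of `C` at a prime
  `𝔮` is formally étale over `R` then a principal localization of `C₀` at an element outside the
  contraction of `𝔮` (divisible by any prescribed such element) is étale over `R`.
-/

set_option autoImplicit false
universe u

namespace Groth.Agent.Lib.FpModelLocalization61

open TensorProduct MvPolynomial

section Model

variable {R : Type u} [CommRing R] (M : Submonoid R) (R' : Type u) [CommRing R'] [Algebra R R']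
  [IsLocalization M R'] (C : Type u) [CommRing C] [Algebra R' C] [Algebra R C]
  [IsScalarTower R R' C]

/-- Rescale the relations of a presentation by a unit. -/
noncomputable def rescale {n m : ℕ} (P : Algebra.Presentation R' C (Fin n) (Fin m)) (u v : R')
    (huv : v * u = 1) : Algebra.Presentation R' C (Fin n) (Fin m) where
  toGenerators := P.toGenerators
  relation := fun i => u • P.relation i
  span_range_relation_eq_ker := by
    rw [← P.span_range_relation_eq_ker]
    apply le_antisymm
    · rw [Ideal.span_le]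
      rintro _ ⟨i, rfl⟩
      show u • P.relation i ∈ _
      rw [MvPolynomial.smul_eq_C_mul]
      exact Ideal.mul_mem_left _ _ (Ideal.subset_span ⟨i, rfl⟩)
    · rw [Ideal.span_le]
      rintro _ ⟨i, rfl⟩
      have h1 : P.relation i = MvPolynomial.C v * (u • P.relation i) := by
        rw [MvPolynomial.smul_eq_C_mul, ← mul_assoc, ← map_mul, huv, map_one, one_mul]
      rw [h1]
      exact Ideal.mul_mem_left _ _ (Ideal.subset_span ⟨i, rfl⟩)

/-- The map `C₀ → C` obtained from an isomorphism `R' ⊗[R] C₀ ≃ C`. -/
noncomputable def modelHom (C₀ : Type u) [CommRing C₀] [Algebra R C₀]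
    (e : R' ⊗[R] C₀ ≃ₐ[R'] C) : C₀ →ₐ[R] C :=
  ((e.restrictScalars R : R' ⊗[R] C₀ ≃ₐ[R] C) : R' ⊗[R] C₀ →ₐ[R] C).comp
    (Algebra.TensorProduct.includeRight : C₀ →ₐ[R] R' ⊗[R] C₀)

theorem isLocalization_modelHom (C₀ : Type u) [CommRing C₀] [Algebra R C₀]
    (e : R' ⊗[R] C₀ ≃ₐ[R'] C) :
    letI := (modelHom R' C C₀ e).toRingHom.toAlgebra
    IsLocalization (Algebra.algebraMapSubmonoid C₀ M) C := by
  letI : Algebra C₀ (R' ⊗[R] C₀) := Algebra.TensorProduct.rightAlgebra
  letI : Algebra C₀ C := (modelHom R' C C₀ e).toRingHom.toAlgebra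
  haveI : IsLocalization (Algebra.algebraMapSubmonoid C₀ M) (R' ⊗[R] C₀) :=
    IsLocalization.tensorRight (S := C₀) R' M
  let e' : R' ⊗[R] C₀ ≃ₐ[C₀] C :=
    { e.toRingEquiv with
      commutes' := fun c => rfl }
  exact IsLocalization.isLocalization_of_algEquiv _ e'

theorem exists_fp_model [Algebra.FinitePresentation R' C] :
    ∃ (C₀ : Type u) (_ : CommRing C₀) (_ : Algebra R C₀) (_ : Algebra.FinitePresentation R C₀)
      (ψ : C₀ →ₐ[R] C),
      letI := ψ.toRingHom.toAlgebra
      IsLocalization (Algebra.algebraMapSubmonoid C₀ M) C := by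
  classical
  obtain ⟨n, m, ⟨P⟩⟩ := Algebra.Presentation.exists_presentation_fin R' C
  let s : Finset R' := Finset.univ.biUnion fun i => (P.relation i).coeffs
  obtain ⟨b, hb⟩ := IsLocalization.exist_integer_multiples_of_finset M s
  have hunit : IsUnit (algebraMap R R' b) := IsLocalization.map_units R' b
  obtain ⟨v, hv⟩ := hunit.exists_left_inv
  let P' := rescale R' C P (algebraMap R R' b) v hv
  haveI : P'.HasCoeffs R := by
    refine ⟨?_⟩
    intro c hc
    simp only [Algebra.Presentation.coeffs, Set.mem_iUnion] at hc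
    obtain ⟨i, hc⟩ := hc
    rw [Finset.mem_coe, MvPolynomial.mem_coeffs_iff] at hc
    obtain ⟨mono, hmono, rfl⟩ := hc
    have h1 : P'.relation i = algebraMap R R' b • P.relation i := rfl
    rw [h1, MvPolynomial.coeff_smul]
    by_cases h0 : (P.relation i).coeff mono = 0
    · rw [h0, smul_zero]; exact ⟨0, map_zero _⟩
    · have hmem : (P.relation i).coeff mono ∈ s := by
        refine Finset.mem_biUnion.mpr ⟨i, Finset.mem_univ _, ?_⟩
        rw [MvPolynomial.mem_coeffs_iff]
        exact ⟨mono, MvPolynomial.mem_support_iff.mpr h0, rfl⟩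
      obtain ⟨r, hr⟩ := hb _ hmem
      refine ⟨r, ?_⟩
      rw [hr, Algebra.smul_def, smul_eq_mul]
  exact ⟨P'.ModelOfHasCoeffs R, inferInstance, inferInstance, inferInstance,
    modelHom R' C _ (P'.tensorModelOfHasCoeffsEquiv R),
    isLocalization_modelHom M R' C _ (P'.tensorModelOfHasCoeffsEquiv R)⟩

end Model

section Etale

/-- Shrinking an étale principal neighbourhood. -/
theorem exists_etale_away {R : Type u} [CommRing R] (A : Type u) [CommRing A] [Algebra R A]
    [Algebra.FinitePresentation R A] (P : Ideal A) [P.IsPrime] [Algebra.IsEtaleAt R P] (g : A)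
    (hg : g ∉ P) : ∃ f, f ∉ P ∧ g ∣ f ∧ Algebra.Etale R (Localization.Away f) := by
  obtain ⟨f, hf, hE⟩ := Algebra.exists_etale_of_isEtaleAt (R := R) P
  refine ⟨f * g, ?_, Dvd.intro_left f rfl, ?_⟩
  · intro h
    rcases (‹P.IsPrime›).mem_or_mem h with h | h
    · exact hf h
    · exact hg h
  · rw [← Algebra.basicOpen_subset_etaleLocus_iff_etale]
    have h1 := (Algebra.basicOpen_subset_etaleLocus_iff_etale (R := R) (f := f)).mpr hE
    refine subset_trans ?_ h1
    intro x hx
    rw [SetLike.mem_coe, PrimeSpectrum.mem_basicOpen] at hx ⊢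
    intro hfx
    exact hx (Ideal.mul_mem_right _ _ hfx)

/-- Transfer of étaleness at a prime along a localization map `C₀ → C`. -/
theorem isEtaleAt_comap_of_isLocalization {R : Type u} [CommRing R] {C₀ C : Type u} [CommRing C₀]
    [CommRing C] [Algebra R C₀] [Algebra R C] (ψ : C₀ →ₐ[R] C) (N : Submonoid C₀)
    (hloc : letI := ψ.toRingHom.toAlgebra; IsLocalization N C)
    (𝔮 : Ideal C) [𝔮.IsPrime] (h𝔮 : Algebra.FormallyEtale R (Localization.AtPrime 𝔮)) :
    Algebra.FormallyEtale R (Localization.AtPrime (𝔮.comap ψ.toRingHom)) := by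
  letI : Algebra C₀ C := ψ.toRingHom.toAlgebra
  haveI : IsLocalization N C := hloc
  haveI : IsScalarTower R C₀ C := IsScalarTower.of_algebraMap_eq fun r => (ψ.commutes r).symm
  haveI : IsScalarTower R C₀ (Localization.AtPrime 𝔮) :=
    IsScalarTower.of_algebraMap_eq fun r => by
      rw [IsScalarTower.algebraMap_apply C₀ C (Localization.AtPrime 𝔮),
        ← IsScalarTower.algebraMap_apply R C₀ C,
        ← IsScalarTower.algebraMap_apply R C (Localization.AtPrime 𝔮)]
  haveI : IsLocalization.AtPrime (Localization.AtPrime 𝔮) (𝔮.comap (algebraMap C₀ C)) :=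
    IsLocalization.isLocalization_isLocalization_atPrime_isLocalization N
      (Localization.AtPrime 𝔮) 𝔮
  let e : Localization.AtPrime 𝔮 ≃ₐ[C₀] Localization.AtPrime (𝔮.comap (algebraMap C₀ C)) :=
    IsLocalization.algEquiv (𝔮.comap (algebraMap C₀ C)).primeCompl _ _
  exact Algebra.FormallyEtale.of_equiv (e.restrictScalars R)

/-- The localization of `C` at `𝔮` is the localization of `C₀` at the contraction of `𝔮`. -/
theorem isLocalization_atPrime_comap {C₀ C : Type u} [CommRing C₀] [CommRing C] [Algebra C₀ C]
    (N : Submonoid C₀) [IsLocalization N C] (𝔮 : Ideal C) [𝔮.IsPrime] :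
    IsLocalization.AtPrime (Localization.AtPrime 𝔮) (𝔮.comap (algebraMap C₀ C)) :=
  IsLocalization.isLocalization_isLocalization_atPrime_isLocalization N
    (Localization.AtPrime 𝔮) 𝔮

/-- For `f` outside the contraction `q₀` of `𝔮` to `C₀`, the localization of `C₀[1/f]` at the
prime corresponding to `𝔮` is the localization of `C` at `𝔮`. -/
theorem exists_atPrime_away_equiv {R : Type u} [CommRing R] {C₀ C : Type u} [CommRing C₀]
    [CommRing C] [Algebra R C₀] [Algebra R C] (ψ : C₀ →ₐ[R] C) (N : Submonoid C₀)
    (hloc : letI := ψ.toRingHom.toAlgebra; IsLocalization N C)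
    (𝔮 : Ideal C) [𝔮.IsPrime] (f : C₀) (hf : f ∉ 𝔮.comap ψ.toRingHom) :
    ∃ (s : Ideal (Localization.Away f)) (_ : s.IsPrime),
      s.comap (algebraMap C₀ (Localization.Away f)) = 𝔮.comap ψ.toRingHom ∧
      Nonempty (Localization.AtPrime s ≃ₐ[R] Localization.AtPrime 𝔮) := by
  letI : Algebra C₀ C := ψ.toRingHom.toAlgebra
  haveI : IsLocalization N C := hloc
  haveI : IsScalarTower R C₀ C := IsScalarTower.of_algebraMap_eq fun r => (ψ.commutes r).symm
  let T := Localization.AtPrime 𝔮
  haveI : IsScalarTower R C₀ T :=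
    IsScalarTower.of_algebraMap_eq fun r => by
      rw [IsScalarTower.algebraMap_apply C₀ C T, ← IsScalarTower.algebraMap_apply R C₀ C,
        ← IsScalarTower.algebraMap_apply R C T]
  haveI hTloc : IsLocalization.AtPrime T (𝔮.comap (algebraMap C₀ C)) :=
    isLocalization_atPrime_comap N 𝔮
  have hfu : IsUnit (algebraMap C₀ T f) :=
    IsLocalization.map_units T (⟨f, hf⟩ : (𝔮.comap (algebraMap C₀ C)).primeCompl)
  let χ : Localization.Away f →+* T := IsLocalization.Away.lift f hfu
  have hχ : ∀ x : C₀, χ (algebraMap C₀ (Localization.Away f) x) = algebraMap C₀ T x :=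
    fun x => IsLocalization.Away.lift_eq f hfu x
  letI : Algebra (Localization.Away f) T := χ.toAlgebra
  haveI : IsScalarTower C₀ (Localization.Away f) T :=
    IsScalarTower.of_algebraMap_eq fun x => (hχ x).symm
  haveI : IsScalarTower R (Localization.Away f) T :=
    IsScalarTower.of_algebraMap_eq fun r => by
      rw [IsScalarTower.algebraMap_apply R C₀ (Localization.Away f)]
      show algebraMap R T r = χ _
      rw [hχ, ← IsScalarTower.algebraMap_apply R C₀ T]
  let s : Ideal (Localization.Away f) := (IsLocalRing.maximalIdeal T).comap χ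
  haveI hs : s.IsPrime := Ideal.comap_isPrime χ _
  have hcomap : s.comap (algebraMap C₀ (Localization.Away f)) = 𝔮.comap ψ.toRingHom := by
    ext x
    simp only [s, Ideal.mem_comap]
    have hcm : (IsLocalRing.maximalIdeal T).comap (algebraMap C T) = 𝔮 :=
      IsLocalization.AtPrime.under_maximalIdeal T 𝔮
    rw [hχ, IsScalarTower.algebraMap_apply C₀ C T,
      ← Ideal.mem_comap (f := algebraMap C T), hcm]
    rfl
  refine ⟨s, hs, hcomap, ?_⟩
  haveI h1 : IsLocalization
      ((𝔮.comap (algebraMap C₀ C)).primeCompl.map (algebraMap C₀ (Localization.Away f))) T :=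
    IsLocalization.isLocalization_of_submonoid_le (Localization.Away f) T (Submonoid.powers f)
      (𝔮.comap (algebraMap C₀ C)).primeCompl
      (by
        rw [Submonoid.powers_le]
        exact hf)
  haveI h2 : IsLocalization.AtPrime T s := by
    refine IsLocalization.of_le
      ((𝔮.comap (algebraMap C₀ C)).primeCompl.map (algebraMap C₀ (Localization.Away f)))
      s.primeCompl ?_ ?_
    · rintro _ ⟨x, hx, rfl⟩
      show algebraMap C₀ (Localization.Away f) x ∉ s
      intro hxs
      have hxs' : χ (algebraMap C₀ (Localization.Away f) x) ∈ IsLocalRing.maximalIdeal T := hxs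
      rw [hχ] at hxs'
      exact hxs' (IsLocalization.map_units T (⟨x, hx⟩ : (𝔮.comap (algebraMap C₀ C)).primeCompl))
    · intro r hr
      by_contra hcon
      exact hr hcon
  exact ⟨(IsLocalization.algEquiv s.primeCompl (Localization.AtPrime s) T).restrictScalars R⟩

end Etale

end Groth.Agent.Lib.FpModelLocalization61
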