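import Mathlib
import Groth.Agent.Lib.FpModelLocalization61
import Groth.Agent.Lib.DiagFlat
import Groth.Agent.Lib.FiniteIrredCompH44

/-!
# helper96: spreading out étale algebras over a localization, minimal primes (for S9782)

* `exists_etale_model`: `R = A_p`, `E` étale over `R`, `φ : E →ₐ[R] S` with `S` local: there is an
  étale `A`-algebra `C` and `χ : C →ₐ[A] S` whose image contains `φ e` up to a unit.
* `comap_mem_minimalPrimes_of_etale`: `C` étale over `A`, `S` flat over `A`, `χ : C →ₐ[A] S`: the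
  contraction of a minimal prime of `S` is a minimal prime of `C`.
* `minimalPrimes_subsingleton_of_etale_nbhds`: the algebraic core of "unibranch in all étale
  neighbourhoods ⇒ strict henselization has a unique minimal prime".
-/

set_option autoImplicit false
set_option linter.style.haveILetI false
universe u

namespace Groth.Agent.Lib.GeomUnibranchNbhd96

open IsLocalRing Groth.Agent.Lib.FpModelLocalization61

theorem exists_etale_model {A : Type u} [CommRing A] (p : Ideal A) [p.IsPrime]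
    (R : Type u) [CommRing R] [Algebra A R] [IsLocalization.AtPrime R p]
    (S : Type u) [CommRing S] [IsLocalRing S] [Algebra R S] [Algebra A S] [IsScalarTower A R S]
    (E : Type u) [CommRing E] [Algebra R E] [Algebra.Etale R E] (φ : E →ₐ[R] S) (e : E) :
    ∃ (C : Type u) (_ : CommRing C) (_ : Algebra A C) (_ : Algebra.Etale A C) (χ : C →ₐ[A] S)
      (c : C) (v : S), IsUnit v ∧ χ c = φ e * v := by
  classical
  letI : Algebra A E := ((algebraMap R E).comp (algebraMap A R)).toAlgebra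
  haveI : IsScalarTower A R E := IsScalarTower.of_algebraMap_eq fun _ => rfl
  obtain ⟨E₀, _, _, hfp, ψ, hloc⟩ := exists_fp_model p.primeCompl R E
  let φA : E →ₐ[A] S := φ.restrictScalars A
  let χ₀ : E₀ →ₐ[A] S := φA.comp ψ
  let 𝔮 : Ideal E := (maximalIdeal S).comap φ
  haveI h𝔮p : 𝔮.IsPrime := Ideal.comap_isPrime _ _
  have h𝔮 : Algebra.FormallyEtale A (Localization.AtPrime 𝔮) := by
    haveI : Algebra.FormallyEtale A R := Algebra.FormallyEtale.of_isLocalization p.primeCompl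
    haveI : Algebra.FormallyEtale A E := Algebra.FormallyEtale.comp A R E
    haveI : Algebra.FormallyEtale E (Localization.AtPrime 𝔮) :=
      Algebra.FormallyEtale.of_isLocalization 𝔮.primeCompl
    exact Algebra.FormallyEtale.comp A E (Localization.AtPrime 𝔮)
  have h1 := isEtaleAt_comap_of_isLocalization ψ _ hloc 𝔮 h𝔮
  haveI : (𝔮.comap ψ.toRingHom).IsPrime := Ideal.comap_isPrime _ _
  haveI : Algebra.IsEtaleAt A (𝔮.comap ψ.toRingHom) := h1
  obtain ⟨f, hf, -, hfE⟩ := exists_etale_away (R := A) E₀ (𝔮.comap ψ.toRingHom) 1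
    (fun h => (Ideal.ne_top_iff_one _).1 (Ideal.IsPrime.ne_top inferInstance) h)
  have hfu : IsUnit (χ₀ f) := by
    by_contra hnu
    exact hf hnu
  let χ : Localization.Away f →ₐ[A] S :=
    IsLocalization.liftAlgHom (M := Submonoid.powers f) (f := χ₀) (by
      rintro ⟨_, n, rfl⟩
      rw [map_pow]
      exact hfu.pow n)
  letI : Algebra E₀ E := ψ.toRingHom.toAlgebra
  haveI : IsLocalization (Algebra.algebraMapSubmonoid E₀ p.primeCompl) E := hloc
  obtain ⟨e₀, t, het⟩ := IsLocalization.exists_mk'_eq (Algebra.algebraMapSubmonoid E₀ p.primeCompl) e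
  refine ⟨Localization.Away f, inferInstance, inferInstance, hfE, χ,
    algebraMap E₀ (Localization.Away f) e₀, χ₀ t.1, ?_, ?_⟩
  · obtain ⟨m, hm, hmt⟩ := t.2
    rw [← hmt, AlgHom.commutes, IsScalarTower.algebraMap_apply A R S]
    exact (IsLocalization.map_units R (⟨m, hm⟩ : p.primeCompl)).map _
  · have h2 : χ (algebraMap E₀ (Localization.Away f) e₀) = χ₀ e₀ := by
      simp [χ, IsLocalization.liftAlgHom]
    rw [h2]
    have h3 : e * ψ t.1 = ψ e₀ := by
      rw [← het]
      exact IsLocalization.mk'_spec E e₀ t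
    show φ (ψ e₀) = φ e * φ (ψ t.1)
    rw [← h3, map_mul]

theorem comap_mem_minimalPrimes_of_etale {A C S : Type u} [CommRing A] [CommRing C] [CommRing S]
    [Algebra A C] [Algebra.Etale A C] [Algebra A S] [Module.Flat A S] (χ : C →ₐ[A] S)
    {𝔞 : Ideal S} (h𝔞 : 𝔞 ∈ minimalPrimes S) : 𝔞.comap χ ∈ minimalPrimes C := by
  letI : Algebra C S := χ.toRingHom.toAlgebra
  haveI : IsScalarTower A C S := IsScalarTower.of_algebraMap_eq fun r => (χ.commutes r).symm
  haveI : Module.Flat C S :=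
    Groth.Agent.Lib.DiagFlat.flat_of_flat_lmul' (Algebra.WeaklyEtale.flat_lmul' A C) S
  exact Groth.Agent.Lib.FiniteIrredCompH44.under_mem_minimalPrimes_of_flat (A := C) h𝔞

/-- Algebraic core of "unibranch in all étale neighbourhoods ⇒ the strict henselization has at
most one minimal prime". -/
theorem minimalPrimes_subsingleton_of_etale_nbhds {A : Type u} [CommRing A] (p : Ideal A)
    [p.IsPrime] (R : Type u) [CommRing R] [Algebra A R] [IsLocalization.AtPrime R p]
    (S : Type u) [CommRing S] [IsLocalRing S] [Algebra R S] [Algebra A S] [IsScalarTower A R S]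
    [Module.Flat R S]
    (hgen : ∀ s : S, ∃ (E : Type u) (_ : CommRing E) (_ : Algebra R E) (_ : Algebra.Etale R E)
      (φ : E →ₐ[R] S), s ∈ φ.range)
    (H : ∀ (C : Type u) [CommRing C] [Algebra A C] [Algebra.Etale A C] (χ : C →ₐ[A] S)
      (P₁ P₂ : Ideal C), P₁ ∈ minimalPrimes C → P₂ ∈ minimalPrimes C →
      P₁ ≤ (maximalIdeal S).comap χ → P₂ ≤ (maximalIdeal S).comap χ → P₁ = P₂)
    (𝔞 𝔟 : Ideal S) (h𝔞 : 𝔞 ∈ minimalPrimes S) (h𝔟 : 𝔟 ∈ minimalPrimes S) : 𝔞 = 𝔟 := by
  haveI : Module.Flat A R := IsLocalization.flat R p.primeCompl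
  haveI : Module.Flat A S := Module.Flat.trans A R S
  have h𝔞p : 𝔞.IsPrime := Ideal.IsMinimalPrime.isPrime h𝔞
  have h𝔟p : 𝔟.IsPrime := Ideal.IsMinimalPrime.isPrime h𝔟
  by_contra hne
  have hnle : ¬ 𝔞 ≤ 𝔟 := fun hle => hne (le_antisymm hle (h𝔟.2 ⟨h𝔞p, bot_le⟩ hle))
  obtain ⟨s, hs𝔞, hs𝔟⟩ := SetLike.not_le_iff_exists.1 hnle
  obtain ⟨E, _, _, _, φ, e, rfl⟩ := hgen s
  obtain ⟨C, _, _, _, χ, c, v, hv, hc⟩ := exists_etale_model p R S E φ e
  have hP₁ := comap_mem_minimalPrimes_of_etale χ h𝔞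
  have hP₂ := comap_mem_minimalPrimes_of_etale χ h𝔟
  have hle₁ : 𝔞.comap χ ≤ (maximalIdeal S).comap χ :=
    Ideal.comap_mono (IsLocalRing.le_maximalIdeal h𝔞p.ne_top)
  have hle₂ : 𝔟.comap χ ≤ (maximalIdeal S).comap χ :=
    Ideal.comap_mono (IsLocalRing.le_maximalIdeal h𝔟p.ne_top)
  have heq := H C χ _ _ hP₁ hP₂ hle₁ hle₂
  have hc₁ : c ∈ 𝔞.comap χ := by
    rw [Ideal.mem_comap, hc]
    exact Ideal.mul_mem_right _ _ hs𝔞
  rw [heq, Ideal.mem_comap, hc] at hc₁
  rcases h𝔟p.mem_or_mem hc₁ with h | h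
  · exact hs𝔟 h
  · exact h𝔟p.ne_top (Ideal.eq_top_of_isUnit_mem _ h hv)

end Groth.Agent.Lib.GeomUnibranchNbhd96
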