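import Mathlib
import Groth.Agent.Lib.GeomUnibranchNbhd96
import Groth.Agent.Lib.ElemEtaleNbhd96

/-!
# helper96: counting irreducible components through a point of an étale neighbourhood

* `exists_etale_model'`: as `GeomUnibranchNbhd96.exists_etale_model`, but uniformly in `e : E`.
* `exists_etale_injOn`: finitely many minimal primes of `S` (a flat local `R = A_p`-algebra generated
  by étale `R`-algebras) have pairwise distinct contractions to a suitable étale `A`-algebra.
* `encard_le_of_flat`: the number of irreducible components through `u` is at most the number of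
  minimal primes of a local ring `S` receiving a flat map from an affine neighbourhood, centred at
  `u`.
* `exists_nbhd_of_minimalPrimes`: an étale `A`-algebra with a prime over `x` gives an étale
  neighbourhood with at least as many components through the point as minimal primes below it.
-/

set_option autoImplicit false
set_option linter.style.haveILetI false
universe u

namespace Groth.Agent.Lib.BranchesNbhd96

open IsLocalRing AlgebraicGeometry CategoryTheory Groth.Agent.Lib.FpModelLocalization61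
  Groth.Agent.Lib.ElemEtaleNbhd96

theorem exists_etale_model' {A : Type u} [CommRing A] (p : Ideal A) [p.IsPrime]
    (R : Type u) [CommRing R] [Algebra A R] [IsLocalization.AtPrime R p]
    (S : Type u) [CommRing S] [IsLocalRing S] [Algebra R S] [Algebra A S] [IsScalarTower A R S]
    (E : Type u) [CommRing E] [Algebra R E] [Algebra.Etale R E] (φ : E →ₐ[R] S) :
    ∃ (C : Type u) (_ : CommRing C) (_ : Algebra A C) (_ : Algebra.Etale A C) (χ : C →ₐ[A] S),
      ∀ e : E, ∃ (c : C) (v : S), IsUnit v ∧ χ c = φ e * v := by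
  classical
  letI : Algebra A E := ((algebraMap R E).comp (algebraMap A R)).toAlgebra
  haveI : IsScalarTower A R E := IsScalarTower.of_algebraMap_eq fun _ => rfl
  obtain ⟨E₀, _, _, hfp, ψ, hloc⟩ := exists_fp_model p.primeCompl R E
  let φA : E →ₐ[A] S := φ.restrictScalars A
  let χ₀ : E₀ →ₐ[A] S := φA.comp ψ
  let 𝔮 : Ideal E := (maximalIdeal S).comap φ
  haveI h𝔮p : 𝔮.IsPrime := Ideal.comap_isPrime _ _
  have h𝔮 : Algebra.FormallyEtale A (Localization.AtPrime 𝔮) := by
    haveI : Algebra.FormallyEtale A R := Algebra.FormallyEtale.of_isLocalization p.primeCompl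
    haveI : Algebra.FormallyEtale A E := Algebra.FormallyEtale.comp A R E
    haveI : Algebra.FormallyEtale E (Localization.AtPrime 𝔮) :=
      Algebra.FormallyEtale.of_isLocalization 𝔮.primeCompl
    exact Algebra.FormallyEtale.comp A E (Localization.AtPrime 𝔮)
  have h1 := isEtaleAt_comap_of_isLocalization ψ _ hloc 𝔮 h𝔮
  haveI : (𝔮.comap ψ.toRingHom).IsPrime := Ideal.comap_isPrime _ _
  haveI : Algebra.IsEtaleAt A (𝔮.comap ψ.toRingHom) := h1
  obtain ⟨f, hf, -, hfE⟩ := exists_etale_away (R := A) E₀ (𝔮.comap ψ.toRingHom) 1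
    (fun h => (Ideal.ne_top_iff_one _).1 (Ideal.IsPrime.ne_top inferInstance) h)
  have hfu : IsUnit (χ₀ f) := by
    by_contra hnu
    exact hf hnu
  let χ : Localization.Away f →ₐ[A] S :=
    IsLocalization.liftAlgHom (M := Submonoid.powers f) (f := χ₀) (by
      rintro ⟨_, n, rfl⟩
      rw [map_pow]
      exact hfu.pow n)
  letI : Algebra E₀ E := ψ.toRingHom.toAlgebra
  haveI : IsLocalization (Algebra.algebraMapSubmonoid E₀ p.primeCompl) E := hloc
  refine ⟨Localization.Away f, inferInstance, inferInstance, hfE, χ, fun e => ?_⟩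
  obtain ⟨e₀, t, het⟩ := IsLocalization.exists_mk'_eq (Algebra.algebraMapSubmonoid E₀ p.primeCompl) e
  refine ⟨algebraMap E₀ (Localization.Away f) e₀, χ₀ t.1, ?_, ?_⟩
  · obtain ⟨m, hm, hmt⟩ := t.2
    rw [← hmt, AlgHom.commutes, IsScalarTower.algebraMap_apply A R S]
    exact (IsLocalization.map_units R (⟨m, hm⟩ : p.primeCompl)).map _
  · have h2 : χ (algebraMap E₀ (Localization.Away f) e₀) = χ₀ e₀ := by
      simp [χ, IsLocalization.liftAlgHom]
    rw [h2]
    have h3 : e * ψ t.1 = ψ e₀ := by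
      rw [← het]
      exact IsLocalization.mk'_spec E e₀ t
    show φ (ψ e₀) = φ e * φ (ψ t.1)
    rw [← h3, map_mul]

/-- Finitely many minimal primes of `S` are separated by a suitable étale `A`-algebra mapping to
`S`. -/
theorem exists_etale_injOn {A : Type u} [CommRing A] (p : Ideal A)
    [p.IsPrime] (R : Type u) [CommRing R] [Algebra A R] [IsLocalization.AtPrime R p]
    (S : Type u) [CommRing S] [IsLocalRing S] [Algebra R S] [Algebra A S] [IsScalarTower A R S]
    (hgen : ∀ F : Finset S, ∃ (E : Type u) (_ : CommRing E) (_ : Algebra R E)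
      (_ : Algebra.Etale R E) (φ : E →ₐ[R] S), ∀ s ∈ F, s ∈ φ.range)
    (T : Set (Ideal S)) (hT : T.Finite) (hTmin : T ⊆ minimalPrimes S) :
    ∃ (C : Type u) (_ : CommRing C) (_ : Algebra A C) (_ : Algebra.Etale A C) (χ : C →ₐ[A] S),
      Set.InjOn (fun 𝔞 : Ideal S => 𝔞.comap χ) T := by
  classical
  have hsel : ∀ 𝔞 𝔟 : Ideal S, ∃ s : S, 𝔞 ∈ T → 𝔟 ∈ T → 𝔞 ≠ 𝔟 → s ∈ 𝔞 ∧ s ∉ 𝔟 := by
    intro 𝔞 𝔟
    by_cases h : 𝔞 ∈ T ∧ 𝔟 ∈ T ∧ 𝔞 ≠ 𝔟
    · obtain ⟨h𝔞, h𝔟, hne⟩ := h
      have h𝔞p : 𝔞.IsPrime := Ideal.IsMinimalPrime.isPrime (hTmin h𝔞)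
      have hnle : ¬ 𝔞 ≤ 𝔟 := fun hle =>
        hne (le_antisymm hle ((hTmin h𝔟).2 ⟨h𝔞p, bot_le⟩ hle))
      obtain ⟨s, hs𝔞, hs𝔟⟩ := SetLike.not_le_iff_exists.1 hnle
      exact ⟨s, fun _ _ _ => ⟨hs𝔞, hs𝔟⟩⟩
    · exact ⟨0, fun h1 h2 h3 => (h ⟨h1, h2, h3⟩).elim⟩
  choose sel hsel using hsel
  let F : Finset S := (hT.toFinset ×ˢ hT.toFinset).image (fun ab => sel ab.1 ab.2)
  obtain ⟨E, _, _, _, φ, hφ⟩ := hgen F
  obtain ⟨C, i1, i2, i3, χ, hχ⟩ := exists_etale_model' p R S E φ
  refine ⟨C, i1, i2, i3, χ, ?_⟩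
  intro 𝔞 h𝔞 𝔟 h𝔟 heq
  by_contra hne
  obtain ⟨hs𝔞, hs𝔟⟩ := hsel 𝔞 𝔟 h𝔞 h𝔟 hne
  have hsF : sel 𝔞 𝔟 ∈ F := by
    refine Finset.mem_image.2 ⟨(𝔞, 𝔟), ?_, rfl⟩
    rw [Finset.mem_product]
    exact ⟨hT.mem_toFinset.2 h𝔞, hT.mem_toFinset.2 h𝔟⟩
  obtain ⟨e, he⟩ := hφ _ hsF
  obtain ⟨c, v, hv, hc⟩ := hχ e
  have he' : φ e = sel 𝔞 𝔟 := he
  rw [he'] at hc
  have h𝔟p : 𝔟.IsPrime := Ideal.IsMinimalPrime.isPrime (hTmin h𝔟)
  have hc₁ : c ∈ 𝔞.comap χ := by
    rw [Ideal.mem_comap, hc]
    exact Ideal.mul_mem_right _ _ hs𝔞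
  have heq' : 𝔞.comap χ = 𝔟.comap χ := heq
  rw [heq', Ideal.mem_comap, hc] at hc₁
  rcases h𝔟p.mem_or_mem hc₁ with h | h
  · exact hs𝔟 h
  · exact h𝔟p.ne_top (Ideal.eq_top_of_isUnit_mem _ h hv)

/-- The number of irreducible components through `u` is at most the number of minimal primes of a
local ring receiving a flat map centred at `u` from an affine open neighbourhood. -/
theorem encard_le_of_flat {U : Scheme.{u}} (u : U) (U' : U.Opens) (hU' : IsAffineOpen U')
    (hu : u ∈ U') (S : Type u) [CommRing S] [IsLocalRing S] (σ : Γ(U, U') →+* S) (hσ : σ.Flat)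
    (hq : (maximalIdeal S).comap σ = (hU'.primeIdealOf ⟨u, hu⟩).asIdeal) :
    {Z : Set U | Z ∈ irreducibleComponents U ∧ u ∈ Z}.encard ≤ (minimalPrimes S).encard := by
  classical
  let g' : Spec (CommRingCat.of S) ⟶ U := Spec.map (CommRingCat.ofHom σ) ≫ hU'.fromSpec
  have h1 : Flat (Spec.map (CommRingCat.ofHom σ)) := by
    rw [HasRingHomProperty.Spec_iff (P := @Flat)]
    exact hσ
  have hflat : Flat g' := inferInstance
  have hgen : GeneralizingMap g' := Flat.generalizingMap g'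
  let s₀ : Spec (CommRingCat.of S) := closedPoint S
  have hs₀ : g' s₀ = u := by
    have h2 : Spec.map (CommRingCat.ofHom σ) s₀ = hU'.primeIdealOf ⟨u, hu⟩ := by
      apply PrimeSpectrum.ext
      exact hq
    show hU'.fromSpec (Spec.map (CommRingCat.ofHom σ) s₀) = u
    rw [h2, hU'.fromSpec_primeIdealOf]
  let F : Ideal S → Set U := fun 𝔞 =>
    if h : 𝔞.IsPrime then closure {g' (⟨𝔞, h⟩ : PrimeSpectrum S)} else ∅
  have hsub : {Z : Set U | Z ∈ irreducibleComponents U ∧ u ∈ Z} ⊆ F '' minimalPrimes S := by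
    rintro Z ⟨hZ, huZ⟩
    have hZc : IsClosed Z := isClosed_of_mem_irreducibleComponents Z hZ
    obtain ⟨ζ, hζ⟩ := QuasiSober.sober hZ.1 hZc
    have hζu : ζ ⤳ g' s₀ := by
      rw [hs₀, specializes_iff_mem_closure, hζ.def]
      exact huZ
    obtain ⟨𝔟, -, h𝔟⟩ := hgen hζu
    haveI : 𝔟.asIdeal.IsPrime := PrimeSpectrum.isPrime 𝔟
    obtain ⟨𝔞, h𝔞, hle⟩ := Ideal.exists_minimalPrimes_le (bot_le : (⊥ : Ideal S) ≤ 𝔟.asIdeal)
    have h𝔞p : 𝔞.IsPrime := Ideal.IsMinimalPrime.isPrime h𝔞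
    refine ⟨𝔞, h𝔞, ?_⟩
    have hF : F 𝔞 = closure {g' (⟨𝔞, h𝔞p⟩ : PrimeSpectrum S)} := dif_pos h𝔞p
    rw [hF]
    have hsp : (⟨𝔞, h𝔞p⟩ : PrimeSpectrum S) ⤳ 𝔟 :=
      (PrimeSpectrum.le_iff_specializes _ _).1 hle
    have hsp' : g' (⟨𝔞, h𝔞p⟩ : PrimeSpectrum S) ⤳ ζ := by
      have := hsp.map g'.continuous
      rwa [h𝔟] at this
    have hsubZ : Z ⊆ closure {g' (⟨𝔞, h𝔞p⟩ : PrimeSpectrum S)} := by
      rw [← hζ.def]
      exact closure_minimal (Set.singleton_subset_iff.2 (specializes_iff_mem_closure.1 hsp'))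
        isClosed_closure
    exact (hsubZ.antisymm (hZ.2 isIrreducible_singleton.closure hsubZ)).symm
  exact (Set.encard_le_encard hsub).trans (Set.encard_image_le _ _)

/-- An étale algebra over an affine open with a prime `Q` over `x` yields an étale neighbourhood
of `x` (elementary if the residue field extension at `Q` is trivial) with at least as many
irreducible components through the chosen point as minimal primes in a given set below `Q`. -/
theorem exists_nbhd_of_minimalPrimes {X : Scheme.{u}} (x : X)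
    (V : X.Opens) (hV : IsAffineOpen V) (hxV : x ∈ V)
    (C : Type u) [CommRing C] [Algebra Γ(X, V) C] [Algebra.Etale Γ(X, V) C]
    (Q : Ideal C) [Q.IsPrime]
    (hQ : Q.comap (algebraMap Γ(X, V) C) = (hV.primeIdealOf ⟨x, hxV⟩).asIdeal)
    (t : Set (Ideal C)) (ht : ∀ P ∈ t, P ∈ minimalPrimes C ∧ P ≤ Q) :
    ∃ (U : Scheme.{u}) (g : U ⟶ X) (u : U), Etale g ∧ g u = x ∧
      (ResSurj (Localization.localRingHom (Q.comap (algebraMap Γ(X, V) C)) Q
        (algebraMap Γ(X, V) C) rfl) → Function.Bijective (g.residueFieldMap u)) ∧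
      t.encard ≤ {Z : Set U | Z ∈ irreducibleComponents U ∧ u ∈ Z}.encard := by
  let φ : Γ(X, V) ⟶ CommRingCat.of C := CommRingCat.ofHom (algebraMap Γ(X, V) C)
  let g : Spec (CommRingCat.of C) ⟶ X := Spec.map φ ≫ hV.fromSpec
  have hφ : Etale (Spec.map φ) := by
    rw [HasRingHomProperty.Spec_iff (P := @Etale)]
    show (algebraMap Γ(X, V) C).Etale
    rw [RingHom.etale_algebraMap]
    infer_instance
  have hg : Etale g := inferInstance
  let u : Spec (CommRingCat.of C) := ⟨Q, inferInstance⟩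
  have hgu : g u = x := by
    have h1 : Spec.map φ u = hV.primeIdealOf ⟨x, hxV⟩ := by
      apply PrimeSpectrum.ext
      exact hQ
    show hV.fromSpec (Spec.map φ u) = x
    rw [h1, hV.fromSpec_primeIdealOf]
  refine ⟨_, g, u, hg, hgu, fun hres => ?_, ?_⟩
  · have h1 : Function.Bijective ((Spec.map φ).residueFieldMap u) :=
      (bijective_residueFieldMap_SpecMap_iff φ u).2 hres
    have h2 : Function.Bijective (hV.fromSpec.residueFieldMap (Spec.map φ u)) :=
      ConcreteCategory.bijective_of_isIso _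
    have h3 : g.residueFieldMap u =
        hV.fromSpec.residueFieldMap (Spec.map φ u) ≫ (Spec.map φ).residueFieldMap u :=
      Scheme.residueFieldMap_comp _ _ _
    rw [h3]
    exact h1.comp h2
  · refine Set.encard_le_encard_of_injOn (f := fun P : Ideal C => PrimeSpectrum.zeroLocus (P : Set C))
      ?_ ?_
    · intro P hP
      obtain ⟨hPmin, hPQ⟩ := ht P hP
      refine ⟨?_, ?_⟩
      · have := PrimeSpectrum.zeroLocus_minimalPrimes C
        show PrimeSpectrum.zeroLocus (P : Set C) ∈ irreducibleComponents (PrimeSpectrum C)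
        rw [← this]
        exact ⟨P, hPmin, rfl⟩
      · exact hPQ
    · intro P₁ h₁ P₂ h₂ h
      have hp₁ : P₁.IsPrime := Ideal.IsMinimalPrime.isPrime (ht P₁ h₁).1
      have hp₂ : P₂.IsPrime := Ideal.IsMinimalPrime.isPrime (ht P₂ h₂).1
      have h3 := congrArg PrimeSpectrum.vanishingIdeal h
      simp only at h3
      rwa [PrimeSpectrum.vanishingIdeal_zeroLocus_eq_radical,
        PrimeSpectrum.vanishingIdeal_zeroLocus_eq_radical, hp₁.radical, hp₂.radical] at h3

end Groth.Agent.Lib.BranchesNbhd96
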