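import Groth.Agent.Lib.LocalEtaleNbhd
import Groth.Agent.Lib.H30NormalSmooth
import Groth.Agent.Lib.HenselizationFlat

/-!
# Normality of the henselization (helper96)

* `dvd_of_scaleRoots_eval_eq_zero`, `isIntegrallyClosed_of_forall_dvd`: a fraction-free criterion
  for a domain to be integrally closed.
* `toLoc`, `toLoc_algebraMap`, `algebraMap_eq_zero_of_map_eq_zero`: for an étale neighbourhood
  `φ : S →ₐ[R] Rh` of a local ring in its henselization, the induced map from the localization of
  `S` at the prime `φ⁻¹(m_Rh)`, and the fact that the kernel of `φ` dies in that localization.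
* `isDomain_of_isHenselization`, `isIntegrallyClosed_of_isHenselization`: the henselization of an
  integrally closed local domain is an integrally closed domain.
-/

set_option autoImplicit false
universe u

namespace Groth.Agent.Lib.HznNormal96

open Polynomial IsLocalRing

section Criterion

variable {A : Type*} [CommRing A] [IsDomain A]

/-- Fraction-free form of integral closedness: if `x / y` is a root of the monic polynomial `p`
(expressed as: `x` is a root of `p.scaleRoots y`), then `y ∣ x`. -/
theorem dvd_of_scaleRoots_eval_eq_zero [IsIntegrallyClosed A] {x y : A} {p : A[X]} (hy : y ≠ 0)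
    (hp : p.Monic) (h : (p.scaleRoots y).eval x = 0) : y ∣ x := by
  let K := FractionRing A
  let f := algebraMap A K
  have hfy : f y ≠ 0 := (map_ne_zero_iff _ (IsFractionRing.injective A K)).2 hy
  have h1 : eval₂ f (f y * (f x / f y)) (p.scaleRoots y) =
      f y ^ p.natDegree * eval₂ f (f x / f y) p := scaleRoots_eval₂_mul ..
  have h2 : f y * (f x / f y) = f x := mul_div_cancel₀ _ hfy
  rw [h2, eval₂_at_apply, h, map_zero] at h1
  have h3 : eval₂ f (f x / f y) p = 0 := by
    rcases mul_eq_zero.1 h1.symm with h | h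
    · exact absurd (eq_zero_of_pow_eq_zero h) hfy
    · exact h
  have hint : IsIntegral A (f x / f y) := ⟨p, hp, h3⟩
  obtain ⟨c, hc⟩ := IsIntegrallyClosed.algebraMap_eq_of_integral hint
  refine ⟨c, ?_⟩
  apply IsFractionRing.injective A K
  rw [map_mul, hc]
  exact h2.symm

/-- Converse of `dvd_of_scaleRoots_eval_eq_zero`. -/
theorem isIntegrallyClosed_of_forall_dvd
    (H : ∀ (x y : A) (p : A[X]), y ≠ 0 → p.Monic → (p.scaleRoots y).eval x = 0 → y ∣ x) :
    IsIntegrallyClosed A := by
  let K := FractionRing A
  let f := algebraMap A K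
  rw [isIntegrallyClosed_iff K]
  rintro z ⟨p, hp, hz⟩
  obtain ⟨x, y, hy, rfl⟩ := IsFractionRing.div_surjective (A := A) z
  have hy0 : y ≠ 0 := nonZeroDivisors.ne_zero hy
  have hfy : f y ≠ 0 := (map_ne_zero_iff _ (IsFractionRing.injective A K)).2 hy0
  have h1 : eval₂ f (f y * (f x / f y)) (p.scaleRoots y) =
      f y ^ p.natDegree * eval₂ f (f x / f y) p := scaleRoots_eval₂_mul ..
  have h2 : f y * (f x / f y) = f x := mul_div_cancel₀ _ hfy
  rw [h2, eval₂_at_apply, hz, mul_zero] at h1
  have h3 : (p.scaleRoots y).eval x = 0 := by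
    apply IsFractionRing.injective A K
    rw [h1, map_zero]
  obtain ⟨c, hc⟩ := H x y p hy0 hp h3
  refine ⟨c, ?_⟩
  rw [hc, map_mul, mul_div_cancel_left₀ _ hfy]

end Criterion

section Nbhd

open Groth.Agent.Lib.PairEtaleNbhd Groth.Agent.Lib.LocalEtaleNbhd

variable {R Rh : Type u} [CommRing R] [IsLocalRing R] [CommRing Rh] [IsLocalRing Rh]
  [Algebra R Rh] [IsLocalHom (algebraMap R Rh)]
variable {S : Type u} [CommRing S] [Algebra R S] (φ : S →ₐ[R] Rh)

/-- The prime of `S` lying under the maximal ideal of `Rh`. -/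
def nbhdPrime : Ideal S := (maximalIdeal Rh).comap φ

instance : (nbhdPrime φ).IsPrime := Ideal.comap_isPrime _ _

/-- The map from the localization of `S` at `nbhdPrime φ` to `Rh`. -/
noncomputable def toLoc : Localization.AtPrime (nbhdPrime φ) →+* Rh :=
  IsLocalization.lift (M := (nbhdPrime φ).primeCompl) (g := (φ : S →+* Rh)) (fun y => by
    have h : (φ y.1) ∉ maximalIdeal Rh := y.2
    simpa [mem_maximalIdeal, mem_nonunits_iff] using h)

omit [IsLocalRing R] [IsLocalHom (algebraMap R Rh)] in
theorem toLoc_algebraMap (s : S) :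
    toLoc φ (algebraMap S (Localization.AtPrime (nbhdPrime φ)) s) = φ s :=
  IsLocalization.lift_eq _ _

theorem map_le_nbhdPrime : (maximalIdeal R).map (algebraMap R S) ≤ nbhdPrime φ := by
  rw [Ideal.map_le_iff_le_comap]
  intro a ha
  change φ (algebraMap R S a) ∈ maximalIdeal Rh
  rw [φ.commutes]
  exact map_nonunit (algebraMap R Rh) a ha

/-- The kernel of an étale neighbourhood `φ : S → Rh` dies in the localization of `S` at the prime
under the maximal ideal. -/
theorem algebraMap_eq_zero_of_map_eq_zero [Hensel.IsHenselization R Rh] [Algebra.Etale R S]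
    (hS : QBij (maximalIdeal R) S) (w : S) (hw : φ w = 0) :
    algebraMap S (Localization.AtPrime (nbhdPrime φ)) w = 0 := by
  obtain ⟨t, ht, htw⟩ := exists_mul_eq_zero R Rh hS φ w hw
  have htq : t ∈ (nbhdPrime φ).primeCompl := by
    intro hmem
    have h1 : t - 1 ∈ nbhdPrime φ := map_le_nbhdPrime φ ht
    have h2 : (1 : S) ∈ nbhdPrime φ := by
      have := Ideal.sub_mem _ hmem h1
      simpa using this
    exact (Ideal.ne_top_iff_one _).1 (Ideal.IsPrime.ne_top inferInstance) h2
  exact (IsLocalization.map_eq_zero_iff (nbhdPrime φ).primeCompl _ w).2 ⟨⟨t, htq⟩, htw⟩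

variable (R Rh)

/-- The henselization of an integrally closed local domain is a domain. -/
theorem isDomain_of_isHenselization [IsDomain R] [IsIntegrallyClosed R]
    [Hensel.IsHenselization R Rh] : IsDomain Rh := by
  classical
  have : NoZeroDivisors Rh := by
    constructor
    intro x y hxy
    obtain ⟨S, _, _, hE, hS, φ, hφ⟩ := exists_etale_of_finset R Rh {x, y}
    obtain ⟨s, hs⟩ := hφ x (by simp)
    obtain ⟨s', hs'⟩ := hφ y (by simp)
    replace hs : φ s = x := hs
    replace hs' : φ s' = y := hs'
    have h0 := algebraMap_eq_zero_of_map_eq_zero φ hS (s * s') (by rw [map_mul, hs, hs', hxy])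
    obtain ⟨hD, -⟩ := Groth.Agent.Lib.H30NormalSmooth.normal_localization_of_etale R S
      (nbhdPrime φ) (Localization.AtPrime (nbhdPrime φ))
    rw [map_mul] at h0
    rcases mul_eq_zero.1 h0 with h | h
    · left; rw [← hs, ← toLoc_algebraMap φ s, h, map_zero]
    · right; rw [← hs', ← toLoc_algebraMap φ s', h, map_zero]
  exact NoZeroDivisors.to_isDomain _

/-- The henselization of an integrally closed local domain is integrally closed. -/
theorem isIntegrallyClosed_of_isHenselization [IsDomain R] [IsIntegrallyClosed R]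
    [Hensel.IsHenselization R Rh] [IsDomain Rh] : IsIntegrallyClosed Rh := by
  classical
  apply isIntegrallyClosed_of_forall_dvd
  intro x y p hy hp h
  obtain ⟨S, _, _, hE, hS, φ, hφ⟩ := exists_etale_of_finset R Rh ({x, y} ∪ p.coeffs)
  obtain ⟨s, hs⟩ := hφ x (by simp)
  obtain ⟨s', hs'⟩ := hφ y (by simp)
  replace hs : φ s = x := hs
  replace hs' : φ s' = y := hs'
  have hlift : p ∈ Polynomial.lifts (φ : S →+* Rh) := by
    rw [Polynomial.lifts_iff_coeff_lifts]
    intro n
    by_cases hn : p.coeff n = 0
    · exact ⟨0, by simp [hn]⟩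
    · exact hφ _ (Finset.mem_union_right _ (Polynomial.coeff_mem_coeffs hn))
  obtain ⟨q, hq, -, hqm⟩ := Polynomial.lifts_and_natDegree_eq_and_monic hlift hp
  set L := Localization.AtPrime (nbhdPrime φ) with hL
  obtain ⟨hD, hIC⟩ := Groth.Agent.Lib.H30NormalSmooth.normal_localization_of_etale R S
    (nbhdPrime φ) L
  have hw : φ ((q.scaleRoots s').eval s) = 0 := by
    have h1 : φ ((q.scaleRoots s').eval s) = ((q.scaleRoots s').map (φ : S →+* Rh)).eval (φ s) := by
      rw [Polynomial.eval_map]
      exact (Polynomial.eval₂_at_apply (φ : S →+* Rh) s).symm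
    rw [h1, Polynomial.map_scaleRoots _ _ _ (by rw [hqm.leadingCoeff, map_one]; exact one_ne_zero),
      hq]
    change (p.scaleRoots (φ s')).eval (φ s) = 0
    rw [hs, hs']; exact h
  have h0 := algebraMap_eq_zero_of_map_eq_zero φ hS _ hw
  have h2 : ((q.map (algebraMap S L)).scaleRoots (algebraMap S L s')).eval (algebraMap S L s)
      = 0 := by
    rw [← Polynomial.map_scaleRoots _ _ _
      (by rw [hqm.leadingCoeff, map_one]; exact one_ne_zero), Polynomial.eval_map,
      Polynomial.eval₂_at_apply, h0]
  have hs'0 : algebraMap S L s' ≠ 0 := by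
    intro h3
    apply hy
    rw [← hs', ← toLoc_algebraMap φ s', h3, map_zero]
  obtain ⟨c, hc⟩ := dvd_of_scaleRoots_eval_eq_zero hs'0 (hqm.map _) h2
  refine ⟨toLoc φ c, ?_⟩
  rw [← hs, ← toLoc_algebraMap φ s, hc, map_mul, toLoc_algebraMap, hs']

/-- The henselization of an integrally closed local domain is an integrally closed domain. -/
theorem normal_of_isHenselization [IsDomain R] [IsIntegrallyClosed R]
    [Hensel.IsHenselization R Rh] : IsDomain Rh ∧ IsIntegrallyClosed Rh := by
  have := isDomain_of_isHenselization R Rh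
  exact ⟨this, isIntegrallyClosed_of_isHenselization R Rh⟩

/-- A local ring is an integrally closed domain iff its henselization is. -/
theorem normal_iff_of_isHenselization [Hensel.IsHenselization R Rh] :
    (IsDomain R ∧ IsIntegrallyClosed R) ↔ (IsDomain Rh ∧ IsIntegrallyClosed Rh) := by
  constructor
  · rintro ⟨h1, h2⟩
    exact normal_of_isHenselization R Rh
  · intro h
    have := Groth.Agent.Lib.HenselizationFlat.faithfullyFlat_of_isHenselization R Rh
    exact Groth.Agent.Lib.H30NormalSmooth.normal_of_faithfullyFlat R Rh h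

end Nbhd

end Groth.Agent.Lib.HznNormal96
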