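/-
helper56: normality of the strict henselization.

* `toLoc_injective` : for an étale `R`-algebra `E`, a local ring `S` flat over `R` and an `R`-algebra
  map `φ : E → S`, the induced map `E_q → S` (`q = φ⁻¹ m_S`) is injective.
* `normal_of_isStrictHenselization`, `normal_iff_of_isStrictHenselization` : a local ring is an
  integrally closed domain iff its strict henselization is.

The argument is the one of helper96's `HznNormal96`, with the étale neighbourhoods supplied by
`H56ShGen.exists_etale_of_finset`.
-/
import Groth.Agent.Lib.H56ShGen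
import Groth.Agent.Lib.HznNormal96
import Groth.Agent.Lib.DiagFlat
import Groth.Agent.Lib.StrictHenselizationProps
import Mathlib.RingTheory.Flat.Localization

set_option autoImplicit false
universe u

namespace Groth.Agent.Lib.H56ShNormal

open Polynomial IsLocalRing Groth.Agent.Lib.HznNormal96

section Inj

variable {R S E : Type u} [CommRing R] [CommRing S] [IsLocalRing S] [Algebra R S]
  [CommRing E] [Algebra R E] (φ : E →ₐ[R] S)

theorem isLocalHom_toLoc : IsLocalHom (toLoc φ) := by
  constructor
  intro x hx
  obtain ⟨s, t, rfl⟩ := IsLocalization.exists_mk'_eq (nbhdPrime φ).primeCompl x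
  have h1 : (φ : E →+* S) s = (φ : E →+* S) t * toLoc φ (IsLocalization.mk' _ s t) :=
    (IsLocalization.lift_mk'_spec _ _ _ _).1 rfl
  have ht : IsUnit ((φ : E →+* S) t) := by
    have h : (φ t.1) ∉ maximalIdeal S := t.2
    simpa [mem_maximalIdeal, mem_nonunits_iff] using h
  have hs : IsUnit ((φ : E →+* S) s) := by rw [h1]; exact ht.mul hx
  have hs' : s ∈ (nbhdPrime φ).primeCompl := by
    intro hmem
    exact hmem hs
  exact (IsLocalization.AtPrime.isUnit_mk'_iff _ (nbhdPrime φ) s t).2 hs'

theorem toLoc_injective [Algebra.Etale R E] [Module.Flat R S] :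
    Function.Injective (toLoc φ) := by
  let _ : Algebra E S := (φ : E →+* S).toAlgebra
  have htower : IsScalarTower R E S :=
    IsScalarTower.of_algebraMap_eq (fun r => (φ.commutes r).symm)
  have hflatE : Module.Flat E S :=
    Groth.Agent.Lib.DiagFlat.flat_of_flat_lmul' (Algebra.WeaklyEtale.flat_lmul' R E) S
  let _ : Algebra (Localization.AtPrime (nbhdPrime φ)) S := (toLoc φ).toAlgebra
  have htower' : IsScalarTower E (Localization.AtPrime (nbhdPrime φ)) S :=
    IsScalarTower.of_algebraMap_eq (fun e => (toLoc_algebraMap φ e).symm)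
  have hflatL : Module.Flat (Localization.AtPrime (nbhdPrime φ)) S :=
    (Module.flat_iff_of_isLocalization (Localization.AtPrime (nbhdPrime φ))
      (nbhdPrime φ).primeCompl S).2 hflatE
  have hloc : IsLocalHom (algebraMap (Localization.AtPrime (nbhdPrime φ)) S) :=
    isLocalHom_toLoc φ
  have hff : Module.FaithfullyFlat (Localization.AtPrime (nbhdPrime φ)) S :=
    Module.FaithfullyFlat.of_flat_of_isLocalHom
  exact FaithfulSMul.algebraMap_injective (Localization.AtPrime (nbhdPrime φ)) S

theorem algebraMap_eq_zero_of_map_eq_zero [Algebra.Etale R E] [Module.Flat R S] (w : E)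
    (hw : φ w = 0) : algebraMap E (Localization.AtPrime (nbhdPrime φ)) w = 0 := by
  apply toLoc_injective φ
  rw [toLoc_algebraMap, hw, map_zero]

end Inj

section Main

variable (R Rh : Type u) [CommRing R] [IsLocalRing R] [CommRing Rh] [IsLocalRing Rh]
  [Algebra R Rh] [IsLocalHom (algebraMap R Rh)]

/-- The strict henselization of an integrally closed local domain is a domain. -/
theorem isDomain_of_isStrictHenselization [IsDomain R] [IsIntegrallyClosed R]
    [Hensel.IsStrictHenselization R Rh] : IsDomain Rh := by
  classical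
  have hff : Module.FaithfullyFlat R Rh :=
    Groth.Agent.Lib.StrictHenselization.faithfullyFlat_of_isStrictHenselization R Rh
  have : NoZeroDivisors Rh := by
    constructor
    intro x y hxy
    obtain ⟨S, _, _, hE, φ, hφ⟩ := Groth.Agent.Lib.H56ShGen.exists_etale_of_finset R Rh {x, y}
    obtain ⟨s, hs⟩ := hφ x (by simp)
    obtain ⟨s', hs'⟩ := hφ y (by simp)
    replace hs : φ s = x := hs
    replace hs' : φ s' = y := hs'
    have h0 := algebraMap_eq_zero_of_map_eq_zero φ (s * s') (by rw [map_mul, hs, hs', hxy])
    obtain ⟨hD, -⟩ := Groth.Agent.Lib.H30NormalSmooth.normal_localization_of_etale R S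
      (nbhdPrime φ) (Localization.AtPrime (nbhdPrime φ))
    rw [map_mul] at h0
    rcases mul_eq_zero.1 h0 with h | h
    · left; rw [← hs, ← toLoc_algebraMap φ s, h, map_zero]
    · right; rw [← hs', ← toLoc_algebraMap φ s', h, map_zero]
  exact NoZeroDivisors.to_isDomain _

/-- The strict henselization of an integrally closed local domain is integrally closed. -/
theorem isIntegrallyClosed_of_isStrictHenselization [IsDomain R] [IsIntegrallyClosed R]
    [Hensel.IsStrictHenselization R Rh] [IsDomain Rh] : IsIntegrallyClosed Rh := by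
  classical
  have hff : Module.FaithfullyFlat R Rh :=
    Groth.Agent.Lib.StrictHenselization.faithfullyFlat_of_isStrictHenselization R Rh
  apply isIntegrallyClosed_of_forall_dvd
  intro x y p hy hp h
  obtain ⟨S, _, _, hE, φ, hφ⟩ :=
    Groth.Agent.Lib.H56ShGen.exists_etale_of_finset R Rh ({x, y} ∪ p.coeffs)
  obtain ⟨s, hs⟩ := hφ x (by simp)
  obtain ⟨s', hs'⟩ := hφ y (by simp)
  replace hs : φ s = x := hs
  replace hs' : φ s' = y := hs'
  have hlift : p ∈ Polynomial.lifts (φ : S →+* Rh) := by
    rw [Polynomial.lifts_iff_coeff_lifts]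
    intro n
    by_cases hn : p.coeff n = 0
    · exact ⟨0, by simp [hn]⟩
    · exact hφ _ (Finset.mem_union_right _ (Polynomial.coeff_mem_coeffs hn))
  obtain ⟨q, hq, -, hqm⟩ := Polynomial.lifts_and_natDegree_eq_and_monic hlift hp
  set L := Localization.AtPrime (nbhdPrime φ) with hL
  obtain ⟨hD, hIC⟩ := Groth.Agent.Lib.H30NormalSmooth.normal_localization_of_etale R S
    (nbhdPrime φ) L
  have hw : φ ((q.scaleRoots s').eval s) = 0 := by
    have h1 : φ ((q.scaleRoots s').eval s) = ((q.scaleRoots s').map (φ : S →+* Rh)).eval (φ s) := by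
      rw [Polynomial.eval_map]
      exact (Polynomial.eval₂_at_apply (φ : S →+* Rh) s).symm
    rw [h1, Polynomial.map_scaleRoots _ _ _ (by rw [hqm.leadingCoeff, map_one]; exact one_ne_zero),
      hq]
    change (p.scaleRoots (φ s')).eval (φ s) = 0
    rw [hs, hs']; exact h
  have h0 := algebraMap_eq_zero_of_map_eq_zero φ _ hw
  have h2 : ((q.map (algebraMap S L)).scaleRoots (algebraMap S L s')).eval (algebraMap S L s)
      = 0 := by
    rw [← Polynomial.map_scaleRoots _ _ _
      (by rw [hqm.leadingCoeff, map_one]; exact one_ne_zero), Polynomial.eval_map,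
      Polynomial.eval₂_at_apply, h0]
  have hs'0 : algebraMap S L s' ≠ 0 := by
    intro h3
    apply hy
    rw [← hs', ← toLoc_algebraMap φ s', h3, map_zero]
  obtain ⟨c, hc⟩ := dvd_of_scaleRoots_eval_eq_zero hs'0 (hqm.map _) h2
  refine ⟨toLoc φ c, ?_⟩
  rw [← hs, ← toLoc_algebraMap φ s, hc, map_mul, toLoc_algebraMap, hs']

/-- The strict henselization of an integrally closed local domain is an integrally closed
domain. -/
theorem normal_of_isStrictHenselization [IsDomain R] [IsIntegrallyClosed R]
    [Hensel.IsStrictHenselization R Rh] : IsDomain Rh ∧ IsIntegrallyClosed Rh := by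
  have := isDomain_of_isStrictHenselization R Rh
  exact ⟨this, isIntegrallyClosed_of_isStrictHenselization R Rh⟩

/-- A local ring is an integrally closed domain iff its strict henselization is. -/
theorem normal_iff_of_isStrictHenselization [Hensel.IsStrictHenselization R Rh] :
    (IsDomain R ∧ IsIntegrallyClosed R) ↔ (IsDomain Rh ∧ IsIntegrallyClosed Rh) := by
  constructor
  · rintro ⟨h1, h2⟩
    exact normal_of_isStrictHenselization R Rh
  · intro h
    have := Groth.Agent.Lib.StrictHenselization.faithfullyFlat_of_isStrictHenselization R Rh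
    exact Groth.Agent.Lib.H30NormalSmooth.normal_of_faithfullyFlat R Rh h

end Main

end Groth.Agent.Lib.H56ShNormal
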