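import Groth.Agent.Lib.StepWeaklyEtale96
import Groth.Agent.Lib.StrictHenselizationProps
import Groth.Agent.Lib.DiagFlat

/-!
# (Strict) henselizations are weakly étale (helper96)

* `killed_of_weaklyEtale`, `killed_map`, `weaklyEtale_of_algEquiv`
* `weaklyEtale_Hzn : Algebra.WeaklyEtale R (Hzn R)`, `weaklyEtale_of_isHenselization`
* `weaklyEtale_sStep`, `weaklyEtale_Sh`, `weaklyEtale_of_isStrictHenselization`
* `isReduced_of_isStrictHenselization`
-/

namespace Groth.Agent.Lib.HznWeaklyEtale96

open TensorProduct Polynomial IsLocalRing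
open Groth.Agent.Lib.HenselStep Groth.Agent.Lib.HenselizationConstr
open Groth.Agent.Lib.StepWeaklyEtale96

universe u

section General

variable {A : Type*} {C C' : Type*} [CommRing A] [CommRing C] [Algebra A C] [CommRing C']
  [Algebra A C']

theorem killed_of_weaklyEtale [Algebra.WeaklyEtale A C] (y : C) : Killed A y := by
  have hx : Algebra.TensorProduct.lmul' A (S := C) ((1 : C) ⊗ₜ[A] y - y ⊗ₜ[A] (1 : C)) = 0 := by
    simp
  obtain ⟨e, he, hxe⟩ := Groth.Agent.Lib.DiagFlat.exists_eq_mul_of_flat_lmul'
    (Algebra.WeaklyEtale.flat_lmul' A C) _ hx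
  refine ⟨1 - e, by rw [map_sub, he, map_one, sub_zero]; exact isUnit_one, ?_⟩
  rw [sub_mul, one_mul, sub_eq_zero, mul_comm]
  exact hxe

theorem lmul'_map (φ : C →ₐ[A] C') (c : C ⊗[A] C) :
    Algebra.TensorProduct.lmul' A (S := C') (Algebra.TensorProduct.map φ φ c) =
      φ (Algebra.TensorProduct.lmul' A (S := C) c) := by
  induction c using TensorProduct.induction_on with
  | zero => simp
  | tmul a b => simp
  | add a b ha hb => simp only [map_add, ha, hb]

theorem killed_map (φ : C →ₐ[A] C') {y : C} (h : Killed A y) : Killed A (φ y) := by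
  obtain ⟨c, hc, hc0⟩ := h
  refine ⟨Algebra.TensorProduct.map φ φ c, ?_, ?_⟩
  · rw [lmul'_map]
    exact hc.map φ
  · have h1 : (1 : C') ⊗ₜ[A] φ y - φ y ⊗ₜ[A] (1 : C') =
        Algebra.TensorProduct.map φ φ ((1 : C) ⊗ₜ[A] y - y ⊗ₜ[A] (1 : C)) := by
      simp
    rw [h1, ← map_mul, hc0, map_zero]

theorem weaklyEtale_of_algEquiv [Algebra.WeaklyEtale A C] (e : C ≃ₐ[A] C') :
    Algebra.WeaklyEtale A C' := by
  have : Module.Flat A C' := Module.Flat.of_linearEquiv e.symm.toLinearEquiv
  refine weaklyEtale_of_forall_killed A C' fun y => ?_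
  have := killed_map e.toAlgHom (killed_of_weaklyEtale (A := A) (e.symm y))
  simpa using this

end General

section Tower

variable (R : Type u) [CommRing R] [IsLocalRing R]

/-- The `R`-algebra structure on stage `n` of the tower. -/
noncomputable def algG (n : ℕ) : Algebra R (G R n) :=
  (show R →+* G R n from HenselizationConstr.trans R 0 n (Nat.zero_le n)).toAlgebra

theorem algebraMap_algG (n : ℕ) (r : R) :
    (letI := algG R n; algebraMap R (G R n) r) =
      HenselizationConstr.trans R 0 n (Nat.zero_le n) r := rfl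

/-- Stage `n` of the tower is weakly étale over `R`. -/
theorem weaklyEtale_G (n : ℕ) :
    letI := algG R n
    Algebra.WeaklyEtale R (G R n) := by
  induction n with
  | zero =>
    letI := algG R 0
    have hbij : Function.Bijective (algebraMap R (G R 0)) := by
      show Function.Bijective (HenselizationConstr.trans R 0 0 (Nat.zero_le 0))
      rw [trans_self]
      exact Function.bijective_id
    have : Algebra.Etale R (G R 0) :=
      Algebra.Etale.of_equiv (AlgEquiv.ofBijective (Algebra.ofId R (G R 0)) hbij)
    infer_instance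
  | succ n ih =>
    letI a1 := algG R n
    letI a2 := algG R (n + 1)
    letI a3 : Algebra (G R n) (G R (n + 1)) :=
      show Algebra (G R n) (Step (G R n)) from inferInstance
    haveI : IsScalarTower R (G R n) (G R (n + 1)) := by
      refine IsScalarTower.of_algebraMap_eq fun x => ?_
      show HenselizationConstr.trans R 0 (n + 1) (Nat.zero_le (n + 1)) x =
        next R n (HenselizationConstr.trans R 0 n (Nat.zero_le n) x)
      rw [trans_succ R 0 n (Nat.zero_le n)]
      rfl
    haveI : Algebra.WeaklyEtale R (G R n) := ih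
    haveI : Algebra.WeaklyEtale (G R n) (G R (n + 1)) :=
      show Algebra.WeaklyEtale (G R n) (Step (G R n)) from inferInstance
    exact Algebra.WeaklyEtale.trans R (G R n) (G R (n + 1))

instance weaklyEtale_Hzn : Algebra.WeaklyEtale R (Hzn R) := by
  refine weaklyEtale_of_forall_killed R (Hzn R) fun y => ?_
  obtain ⟨n, x, rfl⟩ := exists_ofStage R y
  letI := algG R n
  haveI := weaklyEtale_G R n
  let φ : G R n →ₐ[R] Hzn R :=
    { ofStage R n with
      commutes' := fun r => by
        show ofStage R n (HenselizationConstr.trans R 0 n (Nat.zero_le n) r) = ofStage R 0 r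
        exact ofStage_trans R 0 n (Nat.zero_le n) r }
  exact killed_map φ (killed_of_weaklyEtale (A := R) x)

/-- Every henselization of a local ring is weakly étale over it. -/
theorem weaklyEtale_of_isHenselization (S : Type u) [CommRing S] [IsLocalRing S] [Algebra R S]
    [IsLocalHom (algebraMap R S)] [Hensel.IsHenselization R S] : Algebra.WeaklyEtale R S :=
  weaklyEtale_of_algEquiv (equivHzn R S).symm

end Tower

section Strict

open Groth.Agent.Lib.SepStep Groth.Agent.Lib.StrictHenselization

variable (A : Type u) [CommRing A] [IsLocalRing A] (Ω : Type u) [Field Ω]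
  [Algebra (ResidueField A) Ω] [Algebra.IsSeparable (ResidueField A) Ω]

theorem isUnit_aeval_derivative_sroot (p : SData A Ω) :
    IsUnit (Polynomial.aeval (SepStep.root A Ω p) (Polynomial.derivative p.poly)) := by
  apply isUnit_of_map_unit (rho A Ω)
  rw [isUnit_iff_ne_zero]
  have h1 : rho A Ω (Polynomial.aeval (SepStep.root A Ω p) (Polynomial.derivative p.poly)) =
      ((Polynomial.derivative p.poly).map (toΩ A Ω)).eval p.pt := by
    rw [Polynomial.aeval_def, Polynomial.hom_eval₂, rho_root, Polynomial.eval_map]
    congr 1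
    ext a
    exact rho_algebraMap A Ω a
  rw [h1, ← Polynomial.derivative_map]
  exact p.derivative_ne_zero

theorem killed_sroot (p : SData A Ω) : Killed A (SepStep.root A Ω p) :=
  killed_of_isRoot p.poly (SepStep.aeval_root A Ω p) (isUnit_aeval_derivative_sroot A Ω p)

theorem killed_smk (f : MvPolynomial (SData A Ω) A) :
    Killed A (algebraMap (SPre A Ω) (SStep A Ω) (Ideal.Quotient.mk _ f)) := by
  induction f using MvPolynomial.induction_on with
  | C a =>
    have : algebraMap (SPre A Ω) (SStep A Ω) (Ideal.Quotient.mk _ (MvPolynomial.C a)) =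
        algebraMap A (SStep A Ω) a := by
      rw [algebraMap_sStep_apply]; rfl
    rw [this]
    exact killed_algebraMap a
  | add f g hf hg =>
    rw [map_add, map_add]
    exact killed_add hf hg
  | mul_X f p hf =>
    rw [map_mul, map_mul]
    exact killed_mul hf (killed_sroot A Ω p)

theorem killed_sStep (y : SStep A Ω) : Killed A y := by
  obtain ⟨a, s, rfl⟩ := IsLocalization.exists_mk'_eq (sPrime A Ω).primeCompl y
  obtain ⟨f, rfl⟩ := Ideal.Quotient.mk_surjective a
  obtain ⟨g, hg⟩ := Ideal.Quotient.mk_surjective (s : SPre A Ω)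
  have hs : Killed A (algebraMap (SPre A Ω) (SStep A Ω) (s : SPre A Ω)) := by
    rw [← hg]; exact killed_smk A Ω g
  have hinv : Killed A (IsLocalization.mk' (SStep A Ω) (1 : SPre A Ω) s) := by
    refine killed_inv (y := algebraMap (SPre A Ω) (SStep A Ω) (s : SPre A Ω)) ?_ hs
    rw [mul_comm, IsLocalization.mk'_spec, map_one]
  have : IsLocalization.mk' (SStep A Ω) (Ideal.Quotient.mk (SepStep.relIdeal A Ω) f) s =
      algebraMap (SPre A Ω) (SStep A Ω) (Ideal.Quotient.mk _ f) *
        IsLocalization.mk' (SStep A Ω) (1 : SPre A Ω) s := by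
    rw [IsLocalization.mul_mk'_eq_mk'_of_mul, mul_one]
  rw [this]
  exact killed_mul (killed_smk A Ω f) hinv

instance weaklyEtale_sStep : Algebra.WeaklyEtale A (SStep A Ω) :=
  weaklyEtale_of_forall_killed A (SStep A Ω) (killed_sStep A Ω)

variable (R : Type u) [CommRing R] [IsLocalRing R]

instance weaklyEtale_Sh : Algebra.WeaklyEtale R (Sh R) := by
  haveI : Algebra.WeaklyEtale (R1 R) (Sh R) :=
    show Algebra.WeaklyEtale (R1 R) (Hzn (R1 R)) from inferInstance
  exact Algebra.WeaklyEtale.trans R (R1 R) (Sh R)

/-- Every strict henselization of a local ring is weakly étale over it. -/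
theorem weaklyEtale_of_isStrictHenselization (S : Type u) [CommRing S] [IsLocalRing S]
    [Algebra R S] [IsLocalHom (algebraMap R S)] [Hensel.IsStrictHenselization R S] :
    Algebra.WeaklyEtale R S :=
  weaklyEtale_of_algEquiv (StrictHenselization.equivSh R S).symm

/-- The strict henselization of a reduced local ring is reduced. -/
theorem isReduced_of_isStrictHenselization [IsReduced R] (S : Type u) [CommRing S]
    [IsLocalRing S] [Algebra R S] [IsLocalHom (algebraMap R S)]
    [Hensel.IsStrictHenselization R S] : IsReduced S := by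
  have := weaklyEtale_of_isStrictHenselization R S
  exact Groth.Agent.Lib.AbsFlat.isReduced_of_weaklyEtale R S

end Strict

end Groth.Agent.Lib.HznWeaklyEtale96
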