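import Groth.Agent.Lib.Unibranch98
import Groth.Agent.Lib.H56ShNormal
import Groth.Agent.Lib.TensorPurelyInsepHensel61
import Mathlib.FieldTheory.PurelyInseparable.Basic
import Mathlib.FieldTheory.IsSepClosed
import Mathlib.FieldTheory.Extension

/-!
# Geometrically unibranch rings and strict henselizations (helper98)

* `exists_embeddings`: a separable element `y ∈ K' ∖ K` is detected by two `K`-embeddings of a
  separable closure of `K` into an algebraically closed field containing `K'`.
* `isPurelyInseparable_of_isLocalRing_tensor`: if `A' ⊗[A] B` is local (`A'` local integral over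
  `A`, `B` local with residue field a separable closure of that of `A`), then the residue field
  extension of `A → A'` is purely inseparable.
* `isDomain_tensor_of_isStrictHenselization`: for `A'` a normal local domain, integral over `A`
  with purely inseparable residue field extension, `A' ⊗[A] Ash` is a domain.
* `isPurelyInseparable_of_isGeomUnibranch`, `isGeomUnibranch_of_isPurelyInseparable`.
-/

set_option autoImplicit false
set_option maxHeartbeats 400000
universe u

namespace Groth.Agent.Lib.GeomUnibranch98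

open IsLocalRing Polynomial TensorProduct

section Field

theorem exists_embeddings (K K' Ks Ω : Type*) [Field K] [Field K'] [Field Ks] [Field Ω]
    [Algebra K K'] [Algebra K Ks] [Algebra K' Ω] [Algebra K Ω] [IsScalarTower K K' Ω]
    [IsAlgClosed Ω] [IsSepClosure K Ks] (y : K') (hy : IsSeparable K y)
    (hy' : y ∉ (algebraMap K K').range) :
    ∃ (σ₀ σ₁ : Ks →ₐ[K] Ω) (a : Ks), σ₀ a = algebraMap K' Ω y ∧ σ₁ a ≠ algebraMap K' Ω y := by
  classical
  have hsc : IsSepClosed Ks := IsSepClosure.sep_closed K
  have hsepKs : Algebra.IsSeparable K Ks := IsSepClosure.separable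
  have hint : IsIntegral K y := hy.isIntegral
  have hgirr : Irreducible (minpoly K y) := minpoly.irreducible hint
  have hgmonic : (minpoly K y).Monic := minpoly.monic hint
  have hgsep : (minpoly K y).Separable := hy
  have hdeg2 : 2 ≤ (minpoly K y).natDegree := by
    by_contra hlt
    push_neg at hlt
    have hpos : 0 < (minpoly K y).natDegree := minpoly.natDegree_pos hint
    have h1 : (minpoly K y).natDegree = 1 := by omega
    exact hy' (minpoly.natDegree_eq_one_iff.mp h1)
  obtain ⟨a, ha⟩ := IsSepClosed.exists_aeval_eq_zero Ks (minpoly K y)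
    (Polynomial.degree_ne_of_natDegree_ne (n := 0) (by omega)) hgsep
  have hmin : minpoly K a = minpoly K y :=
    (minpoly.eq_of_irreducible_of_monic hgirr ha hgmonic).symm
  have hK' : ∀ s : Ks, IsIntegral K s ∧ ((minpoly K s).map (algebraMap K Ω)).Splits :=
    fun s => ⟨(Algebra.IsSeparable.isSeparable K s).isIntegral, IsAlgClosed.splits _⟩
  have hroot0 : aeval (algebraMap K' Ω y) (minpoly K y) = 0 := by
    rw [aeval_algebraMap_apply, minpoly.aeval, map_zero]
  have hsplit : ((minpoly K y).map (algebraMap K Ω)).Splits := IsAlgClosed.splits _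
  have hcard : Fintype.card ((minpoly K y).rootSet Ω) = (minpoly K y).natDegree :=
    card_rootSet_eq_natDegree hgsep hsplit
  have hmem0 : algebraMap K' Ω y ∈ (minpoly K y).rootSet Ω := by
    rw [mem_rootSet]; exact ⟨hgmonic.ne_zero, hroot0⟩
  obtain ⟨⟨z, hz⟩, hne⟩ := Fintype.exists_ne_of_one_lt_card (by rw [hcard]; omega)
    (⟨_, hmem0⟩ : (minpoly K y).rootSet Ω)
  have hzroot : aeval z (minpoly K y) = 0 := (mem_rootSet.mp hz).2
  obtain ⟨σ₀, hσ₀⟩ := IntermediateField.exists_algHom_of_splits_of_aeval hK' (x := a)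
    (y := algebraMap K' Ω y) (by rw [hmin]; exact hroot0)
  obtain ⟨σ₁, hσ₁⟩ := IntermediateField.exists_algHom_of_splits_of_aeval hK' (x := a)
    (y := z) (by rw [hmin]; exact hzroot)
  refine ⟨σ₀, σ₁, a, hσ₀, ?_⟩
  rw [hσ₁]
  intro h
  exact hne (Subtype.ext h)

end Field

section PI

attribute [local instance] Algebra.TensorProduct.rightAlgebra

/-- If `A' ⊗[A] B` is local, where `A'` is local and integral over `A` and the residue field of
the local `A`-algebra `B` is a separable closure of that of `A`, then the residue field extension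
of `A → A'` is purely inseparable. -/
theorem isPurelyInseparable_of_isLocalRing_tensor (A A' B : Type u) [CommRing A] [IsLocalRing A]
    [CommRing A'] [IsLocalRing A'] [Algebra A A'] [IsLocalHom (algebraMap A A')]
    [Algebra.IsIntegral A A'] [CommRing B] [IsLocalRing B] [Algebra A B]
    [IsLocalHom (algebraMap A B)] [IsSepClosure (ResidueField A) (ResidueField B)]
    [IsLocalRing (A' ⊗[A] B)] : IsPurelyInseparable (ResidueField A) (ResidueField A') := by
  have hint : Algebra.IsIntegral (ResidueField A) (ResidueField A') :=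
    Groth.Agent.Lib.TensorPurelyInsepHensel61.isIntegral_residueField A A'
  rw [isPurelyInseparable_iff]
  intro ybar
  refine ⟨Algebra.IsIntegral.isIntegral ybar, fun hsep => ?_⟩
  by_contra hnot
  obtain ⟨σ₀, σ₁, a, h0, h1⟩ := exists_embeddings (ResidueField A) (ResidueField A')
    (ResidueField B) (AlgebraicClosure (ResidueField A')) ybar hsep hnot
  obtain ⟨y, rfl⟩ := residue_surjective ybar
  obtain ⟨b, rfl⟩ := residue_surjective a
  -- the ring maps to `Ω`
  let α : A' →+* AlgebraicClosure (ResidueField A') :=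
    (algebraMap (ResidueField A') (AlgebraicClosure (ResidueField A'))).comp (residue A')
  have hcompat : ∀ σ : ResidueField B →ₐ[ResidueField A] AlgebraicClosure (ResidueField A'),
      ∀ r : A, σ (residue B (algebraMap A B r)) = α (algebraMap A A' r) := by
    intro σ r
    show σ (residue B (algebraMap A B r)) =
      algebraMap (ResidueField A') (AlgebraicClosure (ResidueField A'))
        (residue A' (algebraMap A A' r))
    rw [← IsLocalRing.ResidueField.algebraMap_residue, ← IsLocalRing.ResidueField.algebraMap_residue,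
      σ.commutes, ← IsScalarTower.algebraMap_apply]
  letI : Algebra A (AlgebraicClosure (ResidueField A')) := (α.comp (algebraMap A A')).toAlgebra
  let αₐ : A' →ₐ[A] AlgebraicClosure (ResidueField A') := { α with commutes' := fun r => rfl }
  let βₐ : (ResidueField B →ₐ[ResidueField A] AlgebraicClosure (ResidueField A')) →
      (B →ₐ[A] AlgebraicClosure (ResidueField A')) := fun σ =>
    { (σ : ResidueField B →+* AlgebraicClosure (ResidueField A')).comp (residue B) with
      commutes' := fun r => hcompat σ r }
  let Ψ : (ResidueField B →ₐ[ResidueField A] AlgebraicClosure (ResidueField A')) →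
      (A' ⊗[A] B →ₐ[A] AlgebraicClosure (ResidueField A')) := fun σ =>
    Algebra.TensorProduct.lift αₐ (βₐ σ) (fun _ _ => Commute.all _ _)
  have hΨ : ∀ σ (a' : A') (s : B), Ψ σ (a' ⊗ₜ[A] s) = α a' * σ (residue B s) := fun σ a' s =>
    Algebra.TensorProduct.lift_tmul αₐ (βₐ σ) _ a' s
  have hintD : Algebra.IsIntegral B (A' ⊗[A] B) :=
    Groth.Agent.Lib.Unibranch98.isIntegral_right A A' B
  have hker : ∀ σ, RingHom.ker (Ψ σ : A' ⊗[A] B →+* AlgebraicClosure (ResidueField A'))
      = maximalIdeal (A' ⊗[A] B) := by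
    intro σ
    have hprime : (RingHom.ker (Ψ σ : A' ⊗[A] B →+* AlgebraicClosure (ResidueField A'))).IsPrime :=
      RingHom.ker_isPrime _
    have hcomap : (RingHom.ker (Ψ σ : A' ⊗[A] B →+* AlgebraicClosure (ResidueField A'))).comap
        (algebraMap B (A' ⊗[A] B)) = maximalIdeal B := by
      ext s
      rw [Ideal.mem_comap, RingHom.mem_ker, Algebra.TensorProduct.right_algebraMap_apply]
      show Ψ σ ((1 : A') ⊗ₜ[A] s) = 0 ↔ _
      rw [hΨ, map_one, one_mul, map_eq_zero, residue_eq_zero_iff]
    have hmax : (RingHom.ker (Ψ σ : A' ⊗[A] B →+* AlgebraicClosure (ResidueField A'))).IsMaximal :=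
      Ideal.isMaximal_of_isIntegral_of_isMaximal_comap _
        (by rw [hcomap]; exact maximalIdeal.isMaximal B)
    exact IsLocalRing.eq_maximalIdeal hmax
  have hu0 : Ψ σ₀ (y ⊗ₜ[A] (1 : B) - (1 : A') ⊗ₜ[A] b) = 0 := by
    rw [map_sub, hΨ, hΨ]
    simp only [map_one, mul_one, one_mul]
    rw [h0]
    exact sub_self _
  have hmem : (y ⊗ₜ[A] (1 : B) - (1 : A') ⊗ₜ[A] b) ∈ maximalIdeal (A' ⊗[A] B) := by
    rw [← hker σ₀, RingHom.mem_ker]; exact hu0
  rw [← hker σ₁, RingHom.mem_ker] at hmem
  have hu1 : Ψ σ₁ (y ⊗ₜ[A] (1 : B) - (1 : A') ⊗ₜ[A] b) = 0 := hmem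
  rw [map_sub, hΨ, hΨ] at hu1
  simp only [map_one, mul_one, one_mul] at hu1
  rw [sub_eq_zero] at hu1
  exact h1 hu1.symm

end PI

section Domain

open Groth.Agent.Lib.HznNormal96 Groth.Agent.Lib.H56ShNormal

/-- For a normal local domain `A'`, integral over the local ring `A` with purely inseparable
residue field extension, `A' ⊗[A] S` is a domain for every strict henselization `S` of `A`. -/
theorem isDomain_tensor_of_isStrictHenselization (A A' S : Type u) [CommRing A] [IsLocalRing A]
    [CommRing A'] [IsLocalRing A'] [IsDomain A'] [IsIntegrallyClosed A'] [Algebra A A']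
    [IsLocalHom (algebraMap A A')] [Algebra.IsIntegral A A']
    [IsPurelyInseparable (ResidueField A) (ResidueField A')]
    [CommRing S] [IsLocalRing S] [Algebra A S] [IsLocalHom (algebraMap A S)]
    [Hensel.IsStrictHenselization A S] : IsDomain (A' ⊗[A] S) := by
  classical
  have hloc : IsLocalRing (A' ⊗[A] S) :=
    Groth.Agent.Lib.TensorPurelyInsepLocal61.isLocalRing_tensor A A' S
  have hff : Module.FaithfullyFlat A S :=
    Groth.Agent.Lib.StrictHenselization.faithfullyFlat_of_isStrictHenselization A S
  have hflat : Module.Flat A' (A' ⊗[A] S) := inferInstance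
  have : NoZeroDivisors (A' ⊗[A] S) := by
    constructor
    intro x y hxy
    obtain ⟨Sx, hSx⟩ := TensorProduct.exists_finset x
    obtain ⟨Sy, hSy⟩ := TensorProduct.exists_finset y
    obtain ⟨E, _, _, hE, φ, hφ⟩ := Groth.Agent.Lib.H56ShGen.exists_etale_of_finset A S
      ((Sx.image Prod.snd) ∪ (Sy.image Prod.snd))
    let ψ : A' ⊗[A] E →ₐ[A'] A' ⊗[A] S := Algebra.TensorProduct.map (AlgHom.id A' A') φ
    have hrange : ∀ (T : Finset (A' × S)), (∀ i ∈ T, i.2 ∈ φ.range) →
        ∃ w, ψ w = T.sum fun i => i.1 ⊗ₜ[A] i.2 := by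
      intro T
      refine Finset.induction_on T ?_ ?_
      · intro _; exact ⟨0, by simp⟩
      · intro i T hi ih hT
        obtain ⟨w, hw⟩ := ih (fun j hj => hT j (Finset.mem_insert_of_mem hj))
        obtain ⟨e, he⟩ := hT i (Finset.mem_insert_self i T)
        replace he : φ e = i.2 := he
        refine ⟨i.1 ⊗ₜ[A] e + w, ?_⟩
        rw [map_add, hw, Finset.sum_insert hi]
        congr 1
        show Algebra.TensorProduct.map (AlgHom.id A' A') φ (i.1 ⊗ₜ[A] e) = _
        rw [Algebra.TensorProduct.map_tmul, he]; rfl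
    obtain ⟨x', hx'⟩ := hrange Sx (fun i hi =>
      hφ _ (Finset.mem_union_left _ (Finset.mem_image_of_mem _ hi)))
    obtain ⟨y', hy'⟩ := hrange Sy (fun i hi =>
      hφ _ (Finset.mem_union_right _ (Finset.mem_image_of_mem _ hi)))
    rw [← hSx] at hx'
    rw [← hSy] at hy'
    have h0 := algebraMap_eq_zero_of_map_eq_zero ψ (x' * y') (by rw [map_mul, hx', hy', hxy])
    obtain ⟨hD, -⟩ := Groth.Agent.Lib.H30NormalSmooth.normal_localization_of_etale A'
      (A' ⊗[A] E) (nbhdPrime ψ) (Localization.AtPrime (nbhdPrime ψ))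
    rw [map_mul] at h0
    rcases mul_eq_zero.1 h0 with h | h
    · left; rw [← hx', ← toLoc_algebraMap ψ x', h, map_zero]
    · right; rw [← hy', ← toLoc_algebraMap ψ y', h, map_zero]
  exact NoZeroDivisors.to_isDomain _

end Domain

section Conv

variable (A : Type u) [CommRing A] [IsLocalRing A]

theorem isPurelyInseparable_of_isGeomUnibranch (h : CAlg2.IsGeomUnibranch A)
    [IsLocalRing (CAlg2.normRed A)] [IsLocalHom (algebraMap A (CAlg2.normRed A))] :
    IsPurelyInseparable (ResidueField A) (ResidueField (CAlg2.normRed A)) := by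
  have hq : ExpChar (ResidueField (CAlg2.normRed A))
      (ringExpChar (ResidueField (CAlg2.normRed A))) := ringExpChar.expChar _
  have hq' : ExpChar (ResidueField A) (ringExpChar (ResidueField (CAlg2.normRed A))) :=
    (algebraMap (ResidueField A) (ResidueField (CAlg2.normRed A))).expChar
      (algebraMap (ResidueField A) (ResidueField (CAlg2.normRed A))).injective _
  rw [isPurelyInseparable_iff_pow_mem (ResidueField A)
    (ringExpChar (ResidueField (CAlg2.normRed A)))]
  intro x
  obtain ⟨n, a, ha⟩ := h.2 (maximalIdeal (CAlg2.normRed A)) x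
  refine ⟨n, residue A a, ?_⟩
  rw [IsLocalRing.ResidueField.algebraMap_residue,
    IsScalarTower.algebraMap_apply A (CAlg2.red A) (CAlg2.normRed A) a]
  exact ha

theorem isGeomUnibranch_of_isPurelyInseparable (hU : CAlg2.IsUnibranch A)
    [IsLocalRing (CAlg2.normRed A)] [IsLocalHom (algebraMap A (CAlg2.normRed A))]
    [hPI : IsPurelyInseparable (ResidueField A) (ResidueField (CAlg2.normRed A))] :
    CAlg2.IsGeomUnibranch A := by
  refine ⟨hU, fun m' hm' => ?_⟩
  obtain rfl : m' = maximalIdeal (CAlg2.normRed A) := IsLocalRing.eq_maximalIdeal hm'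
  intro x
  have hq : ExpChar (ResidueField (CAlg2.normRed A))
      (ringExpChar (ResidueField (CAlg2.normRed A))) := ringExpChar.expChar _
  have hq' : ExpChar (ResidueField A) (ringExpChar (ResidueField (CAlg2.normRed A))) :=
    (algebraMap (ResidueField A) (ResidueField (CAlg2.normRed A))).expChar
      (algebraMap (ResidueField A) (ResidueField (CAlg2.normRed A))).injective _
  obtain ⟨n, c, hc⟩ := (isPurelyInseparable_iff_pow_mem (ResidueField A)
    (ringExpChar (ResidueField (CAlg2.normRed A)))).mp hPI x
  obtain ⟨a, rfl⟩ := residue_surjective c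
  refine ⟨n, a, ?_⟩
  rw [IsLocalRing.ResidueField.algebraMap_residue,
    IsScalarTower.algebraMap_apply A (CAlg2.red A) (CAlg2.normRed A) a] at hc
  exact hc

end Conv

end Groth.Agent.Lib.GeomUnibranch98
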