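/-
helper96: EGA IV 18.10.1 — an unramified finite type algebra `B` over a domain `A` whose local ring
`A_p` is geometrically unibranch and with `A_p → B_q` injective is étale near `q`.
-/
import Groth.Agent.Lib.H56ShNormal
import Groth.Agent.Lib.HenselEtaleLift
import Groth.Agent.Lib.StrictHenselization
import Groth.Agent.S2750
import Mathlib.RingTheory.Unramified.LocalStructure
import Mathlib.FieldTheory.IsSepClosed

set_option autoImplicit false
universe u

namespace Groth.Agent.Lib.UnramGeomUnibranch96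

open IsLocalRing Polynomial TensorProduct

section Lift

variable {A C S : Type u} [CommRing A] [CommRing C] [Algebra A C] [Algebra.Etale A C]
  [CommRing S] [HenselianLocalRing S] [Algebra A S] [IsSepClosed (ResidueField S)]

/-- A point of an étale `A`-algebra `C` over the closed point of a strictly henselian local
`A`-algebra `S` lifts to an `A`-algebra map `C → S`. -/
theorem exists_algHom_comap_eq (Q : Ideal C) [Q.IsPrime] (p : Ideal A) [p.IsPrime] [Q.LiesOver p]
    (hp : (maximalIdeal S).comap (algebraMap A S) = p) :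
    ∃ σ : C →ₐ[A] S, (maximalIdeal S).comap (σ : C →+* S) = Q := by
  classical
  let k := ResidueField S
  let f : A →+* k := (residue S).comp (algebraMap A S)
  have hker : ∀ a : A, f a = 0 ↔ a ∈ p := by
    intro a
    change residue S (algebraMap A S a) = 0 ↔ _
    rw [residue_eq_zero_iff, ← hp, Ideal.mem_comap]
  let ι : p.ResidueField →+* k := Ideal.ResidueField.lift p f (fun a ha => (hker a).2 ha)
    (fun a ha => by
      change IsUnit (f a)
      rw [isUnit_iff_ne_zero]
      exact fun h => ha ((hker a).1 h))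
  let _ : Algebra p.ResidueField k := ι.toAlgebra
  let _ := Localization.AtPrime.algebraOfLiesOver p Q
  have hsep : Algebra.IsSeparable p.ResidueField Q.ResidueField := inferInstance
  let τ : Q.ResidueField →ₐ[p.ResidueField] k := IsSepClosed.lift
  let σ₀ : C →ₐ[A] S ⧸ maximalIdeal S :=
    { toRingHom := (τ : Q.ResidueField →+* k).comp (algebraMap C Q.ResidueField)
      commutes' := fun a => by
        change τ (algebraMap C Q.ResidueField (algebraMap A C a)) = _
        rw [← IsScalarTower.algebraMap_apply A C Q.ResidueField,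
          IsScalarTower.algebraMap_apply A p.ResidueField Q.ResidueField, τ.commutes]
        exact (Ideal.ResidueField.lift_algebraMap p f _ _ a).trans rfl }
  obtain ⟨σ, hσ⟩ := Groth.Agent.Lib.HenselEtaleLift.exists_lift_of_algebra (A := A) (S := C)
    (C := S) (maximalIdeal S) σ₀
  refine ⟨σ, ?_⟩
  ext c
  rw [Ideal.mem_comap]
  have h1 : Ideal.Quotient.mk (maximalIdeal S) (σ c) = σ₀ c := by
    rw [← hσ]; rfl
  rw [← Ideal.Quotient.eq_zero_iff_mem]
  change Ideal.Quotient.mk (maximalIdeal S) (σ c) = 0 ↔ _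
  rw [h1]
  change τ (algebraMap C Q.ResidueField c) = 0 ↔ _
  rw [map_eq_zero_iff τ τ.injective, Ideal.algebraMap_residueField_eq_zero]

end Lift

section Kernel

variable {A C S : Type u} [CommRing A] [CommRing C] [Algebra A C] [Algebra.Etale A C]
  [CommRing S] [IsLocalRing S] [Algebra A S] [Module.Flat A S]

/-- The kernel of an étale neighbourhood `σ : C → S` dies locally at the centre. -/
theorem exists_mul_eq_zero_of_map_eq_zero (σ : C →ₐ[A] S) (c : C) (hc : σ c = 0) :
    ∃ t : C, σ t ∉ maximalIdeal S ∧ t * c = 0 := by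
  have h := Groth.Agent.Lib.H56ShNormal.algebraMap_eq_zero_of_map_eq_zero σ c hc
  obtain ⟨t, ht⟩ := (IsLocalization.map_eq_zero_iff
    (Groth.Agent.Lib.HznNormal96.nbhdPrime σ).primeCompl _ c).1 h
  exact ⟨t.1, t.2, ht⟩

end Kernel

section Algebraic

variable {A C : Type u} [CommRing A] [IsDomain A] [CommRing C] [Algebra A C]
  [Algebra.QuasiFinite A C]

/-- A quasi-finite algebra over a domain is algebraic. -/
theorem exists_polynomial_aeval_eq_zero (x : C) : ∃ P : A[X], P ≠ 0 ∧ aeval x P = 0 := by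
  let K := FractionRing A
  have hfin : Module.Finite K (K ⊗[A] C) := Module.Finite.of_quasiFinite
  have h1 : IsAlgebraic K ((1 : K) ⊗ₜ[A] x) :=
    (Algebra.IsIntegral.isIntegral (R := K) ((1 : K) ⊗ₜ[A] x)).isAlgebraic
  have h2 : IsAlgebraic A ((1 : K) ⊗ₜ[A] x) := (IsFractionRing.isAlgebraic_iff A K _).2 h1
  obtain ⟨P, hP0, hP⟩ := h2
  have h3 : (TensorProduct.mk A K C 1) (aeval x P) = 0 := by
    have h4 := Polynomial.aeval_algHom_apply
      (Algebra.TensorProduct.includeRight : C →ₐ[A] K ⊗[A] C) x P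
    rw [Algebra.TensorProduct.includeRight_apply, hP] at h4
    rw [TensorProduct.mk_apply, ← Algebra.TensorProduct.includeRight_apply, ← h4]
  obtain ⟨a, ha⟩ := (IsLocalizedModule.eq_zero_iff (nonZeroDivisors A)
    (TensorProduct.mk A K C 1)).1 h3
  refine ⟨Polynomial.C (a : A) * P, mul_ne_zero ?_ hP0, ?_⟩
  · rw [Ne, Polynomial.C_eq_zero]
    exact nonZeroDivisors.coe_ne_zero a
  · rw [map_mul, aeval_C, ← Algebra.smul_def]
    exact ha

end Algebraic

section Main

variable {A C S Bq : Type u} [CommRing A] [IsDomain A] [CommRing C] [Algebra A C]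
  [Algebra.Etale A C] [CommRing S] [IsLocalRing S] [IsDomain S] [Algebra A S] [Module.Flat A S]
  [CommRing Bq] [IsLocalRing Bq] [Algebra A Bq]

/-- Key step of EGA IV 18.10.1: the kernel of `ψ : C → B_q` (with `A → B_q` injective) dies in the
domain `S`. -/
theorem map_eq_zero_of_map_eq_zero (σ : C →ₐ[A] S) (ψ : C →ₐ[A] Bq)
    (hσψ : (maximalIdeal S).comap (σ : C →+* S) = (maximalIdeal Bq).comap (ψ : C →+* Bq))
    (hinj : Function.Injective (algebraMap A Bq)) (x : C) (hx : ψ x = 0) : σ x = 0 := by
  by_contra hne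
  obtain ⟨P, hP0, hP⟩ := exists_polynomial_aeval_eq_zero (A := A) x
  obtain ⟨P₁, hP₁, hdvd⟩ := Polynomial.exists_eq_pow_rootMultiplicity_mul_and_not_dvd P hP0 0
  rw [map_zero, sub_zero] at hP₁ hdvd
  have ha₀ : P₁.coeff 0 ≠ 0 := fun h => hdvd (Polynomial.X_dvd_iff.2 h)
  -- `P₁(σ x) = 0`
  have h1 : aeval (σ x) P = 0 := by rw [Polynomial.aeval_algHom_apply, hP, map_zero]
  have h2 : aeval (σ x) P₁ = 0 := by
    rw [hP₁, map_mul, map_pow, aeval_X] at h1
    exact (mul_eq_zero.1 h1).resolve_left (pow_ne_zero _ hne)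
  -- hence `σ (w * x + a₀) = 0`
  have h3 : aeval x P₁ = aeval x P₁.divX * x + algebraMap A C (P₁.coeff 0) := by
    conv_lhs => rw [← Polynomial.divX_mul_X_add P₁]
    rw [map_add, map_mul, aeval_X, aeval_C]
  have h4 : σ (aeval x P₁.divX * x + algebraMap A C (P₁.coeff 0)) = 0 := by
    rw [← h3, ← Polynomial.aeval_algHom_apply, h2]
  obtain ⟨t, ht, htx⟩ := exists_mul_eq_zero_of_map_eq_zero σ _ h4
  have htu : IsUnit (ψ t) := by
    have h5 : t ∉ (maximalIdeal S).comap (σ : C →+* S) := ht
    rw [hσψ] at h5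
    have h6 : ψ t ∉ maximalIdeal Bq := h5
    simpa [mem_maximalIdeal, mem_nonunits_iff] using h6
  have h7 : ψ t * algebraMap A Bq (P₁.coeff 0) = 0 := by
    have := congrArg ψ htx
    rw [map_mul, map_add, map_mul, hx, mul_zero, zero_add, ψ.commutes, map_zero] at this
    exact this
  have h8 : algebraMap A Bq (P₁.coeff 0) = 0 := (htu.mul_right_eq_zero).1 h7
  exact ha₀ (hinj (h8.trans (map_zero _).symm))

/-- Consequence: the kernel of `ψ` dies in the localization of `C` at the centre of `ψ`. -/
theorem exists_mul_eq_zero_of_ker (σ : C →ₐ[A] S) (ψ : C →ₐ[A] Bq)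
    (hσψ : (maximalIdeal S).comap (σ : C →+* S) = (maximalIdeal Bq).comap (ψ : C →+* Bq))
    (hinj : Function.Injective (algebraMap A Bq)) (x : C) (hx : ψ x = 0) :
    ∃ t : C, IsUnit (ψ t) ∧ t * x = 0 := by
  obtain ⟨t, ht, htx⟩ := exists_mul_eq_zero_of_map_eq_zero σ x
    (map_eq_zero_of_map_eq_zero σ ψ hσψ hinj x hx)
  refine ⟨t, ?_, htx⟩
  have h5 : t ∉ (maximalIdeal S).comap (σ : C →+* S) := ht
  rw [hσψ] at h5
  have h6 : ψ t ∉ maximalIdeal Bq := h5
  simpa [mem_maximalIdeal, mem_nonunits_iff] using h6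

end Main

section Global

/-- In an étale algebra over a domain, an ideal which dies in the localization at a prime `Q` is
killed by a single element outside `Q` (no finiteness of the ideal needed). -/
theorem exists_forall_mul_eq_zero (A : Type u) {C : Type u} [CommRing A] [IsDomain A] [CommRing C]
    [Algebra A C] [Algebra.Etale A C] (Q : Ideal C) [Q.IsPrime] (I : Ideal C)
    (h : ∀ x ∈ I, ∃ t ∉ Q, t * x = 0) : ∃ g ∉ Q, ∀ x ∈ I, g * x = 0 := by
  classical
  let K := FractionRing A
  let T := K ⊗[A] C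
  let ι : C →ₐ[A] T := Algebra.TensorProduct.includeRight
  have hι : Function.Injective ι :=
    Algebra.TensorProduct.includeRight_injective (IsFractionRing.injective A K)
  have hred : IsReduced T := Algebra.FormallyUnramified.isReduced_of_field K T
  have hfin : Finite (PrimeSpectrum T) := Algebra.QuasiFinite.finite_primeSpectrum K T
  have : Fintype (PrimeSpectrum T) := Fintype.ofFinite _
  -- choose elements
  have hch : ∀ P : PrimeSpectrum T, ∃ g : C, g ∉ Q ∧
      (¬ P.asIdeal.comap (ι : C →+* T) ≤ Q → g ∈ P.asIdeal.comap (ι : C →+* T)) := by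
    intro P
    by_cases hle : P.asIdeal.comap (ι : C →+* T) ≤ Q
    · exact ⟨1, fun h1 => (Ideal.ne_top_iff_one Q).1 (Ideal.IsPrime.ne_top inferInstance) h1,
        fun h' => absurd hle h'⟩
    · obtain ⟨g, hg1, hg2⟩ := Set.not_subset.1 hle
      exact ⟨g, hg2, fun _ => hg1⟩
  choose gP hgP1 hgP2 using hch
  refine ⟨∏ P : PrimeSpectrum T, gP P, ?_, ?_⟩
  · intro hmem
    obtain ⟨P, -, hP⟩ := (Ideal.IsPrime.prod_mem_iff (p := Q)).1 hmem
    exact hgP1 P hP
  · intro x hx
    apply hι
    rw [map_zero]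
    have hnil : ι ((∏ P : PrimeSpectrum T, gP P) * x) ∈ nilradical T := by
      rw [nilradical_eq_sInf, Ideal.mem_sInf]
      intro J hJ
      have hJ' : J.IsPrime := hJ
      let P : PrimeSpectrum T := ⟨J, hJ'⟩
      by_cases hle : P.asIdeal.comap (ι : C →+* T) ≤ Q
      · obtain ⟨t, ht, htx⟩ := h x hx
        have h1 : t * x ∈ P.asIdeal.comap (ι : C →+* T) := by rw [htx]; exact Ideal.zero_mem _
        have h2 : x ∈ P.asIdeal.comap (ι : C →+* T) :=
          (Ideal.IsPrime.mem_or_mem inferInstance h1).resolve_left (fun h' => ht (hle h'))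
        rw [map_mul]
        exact Ideal.mul_mem_left _ _ h2
      · have h1 : gP P ∈ P.asIdeal.comap (ι : C →+* T) := hgP2 P hle
        have h2 : (∏ P : PrimeSpectrum T, gP P) ∈ P.asIdeal.comap (ι : C →+* T) := by
          rw [← Finset.mul_prod_erase Finset.univ gP (Finset.mem_univ P)]
          exact Ideal.mul_mem_right _ _ h1
        rw [map_mul]
        exact Ideal.mul_mem_right _ _ h2
    rw [nilradical_eq_zero] at hnil
    exact hnil

end Global

section Away

variable {A C D : Type u} [CommRing A] [CommRing C] [Algebra A C] [CommRing D] [Algebra A D]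

/-- If `φ : C → D` is surjective and `g` kills `ker φ`, then `C_g → D_{φ g}` is bijective. -/
theorem bijective_mapₐ_away (φ : C →ₐ[A] D) (hφ : Function.Surjective φ) (g : C)
    (hg : ∀ x : C, φ x = 0 → g * x = 0)
    (T : Type u) [CommRing T] [Algebra D T] [Algebra A T] [IsScalarTower A D T]
    [IsLocalization.Away (φ g) T] :
    Function.Bijective (IsLocalization.Away.mapₐ (Localization.Away g) T φ g) := by
  refine ⟨?_, IsLocalization.Away.mapₐ_surjective_of_surjective g hφ⟩
  rw [injective_iff_map_eq_zero]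
  intro z hz
  obtain ⟨c, ⟨_, n, rfl⟩, rfl⟩ := IsLocalization.exists_mk'_eq (Submonoid.powers g) z
  rw [IsLocalization.Away.mapₐ_apply, IsLocalization.Away.map, IsLocalization.map_mk',
    IsLocalization.mk'_eq_zero_iff] at hz
  obtain ⟨⟨_, m, rfl⟩, hm⟩ := hz
  rw [IsLocalization.mk'_eq_zero_iff]
  refine ⟨⟨g ^ (m + 1), m + 1, rfl⟩, ?_⟩
  have h1 : φ (g ^ m * c) = 0 := by
    rw [map_mul, map_pow]; exact hm
  have h2 := hg _ h1
  change g ^ (m + 1) * c = 0
  rw [pow_succ', mul_assoc]
  exact h2

end Away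

section Final

open Groth.Agent.Lib.StrictHenselization

/-- EGA IV 18.10.1 (ring form). -/
theorem exists_etale_away {A B : Type u} [CommRing A] [IsDomain A] [CommRing B]
    [Algebra A B] (q : Ideal B) [q.IsPrime] (p : Ideal A) [p.IsPrime] [q.LiesOver p]
    (hA : CAlg2.IsGeomUnibranch (Localization.AtPrime p)) [Algebra.FiniteType A B]
    [Algebra.IsUnramifiedAt A q]
    (hinj : Function.Injective (Localization.localRingHom p q (algebraMap A B) (q.over_def p))) :
    ∃ g : B, g ∉ q ∧ Algebra.Etale A (Localization.Away g) := by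
  classical
  obtain ⟨f, hfq, P, φ, hφ⟩ :=
    Algebra.IsUnramifiedAt.exists_hasStandardEtaleSurjectionOn (R := A) q
  let Ap := Localization.AtPrime p
  let Bq := Localization.AtPrime q
  let Bf := Localization.Away f
  let S := Sh Ap
  have hSdom : IsDomain S := (Groth.Agent.S2750.result Ap S).1 ⟨inferInstance, hA⟩
  let _ : Algebra A S := ((algebraMap Ap S).comp (algebraMap A Ap)).toAlgebra
  have htow : IsScalarTower A Ap S := IsScalarTower.of_algebraMap_eq (fun _ => rfl)
  have hflat : Module.Flat A S := Module.Flat.trans A Ap S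
  -- the map `B_f → B_q`
  have hfu : ∀ y : Submonoid.powers f, IsUnit (IsScalarTower.toAlgHom A B Bq y) := by
    rintro ⟨_, n, rfl⟩
    change IsUnit (algebraMap B Bq (f ^ n))
    rw [map_pow]
    exact ((IsLocalization.AtPrime.isUnit_to_map_iff Bq q f).2 hfq).pow n
  let θ : Bf →ₐ[A] Bq := IsLocalization.liftAlgHom (M := Submonoid.powers f)
    (f := IsScalarTower.toAlgHom A B Bq) hfu
  have hθ : ∀ b : B, θ (algebraMap B Bf b) = algebraMap B Bq b := fun b =>
    IsLocalization.lift_eq _ _
  let ψ : P.Ring →ₐ[A] Bq := θ.comp φ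
  let Q : Ideal P.Ring := (maximalIdeal Bq).comap (ψ : P.Ring →+* Bq)
  have hQprime : Q.IsPrime := Ideal.comap_isPrime _ _
  have hQp : Q.LiesOver p := by
    refine ⟨?_⟩
    ext a
    rw [Ideal.under_def, Ideal.mem_comap]
    change a ∈ p ↔ ψ (algebraMap A P.Ring a) ∈ maximalIdeal Bq
    rw [ψ.commutes, IsScalarTower.algebraMap_apply A B Bq,
      IsLocalization.AtPrime.to_map_mem_maximal_iff Bq q, q.over_def p, Ideal.under_def,
      Ideal.mem_comap]
  have hSp : (maximalIdeal S).comap (algebraMap A S) = p := by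
    ext a
    rw [Ideal.mem_comap, IsScalarTower.algebraMap_apply A Ap S, ← Ideal.mem_comap,
      IsLocalRing.maximalIdeal_comap, IsLocalization.AtPrime.to_map_mem_maximal_iff Ap p]
  obtain ⟨σ, hσ⟩ := exists_algHom_comap_eq (A := A) (C := P.Ring) (S := S) Q p hSp
  -- `A → B_q` is injective
  have hinjA : Function.Injective (algebraMap A Bq) := by
    have h1 : (algebraMap A Bq : A → Bq) =
        (Localization.localRingHom p q (algebraMap A B) (q.over_def p)) ∘ (algebraMap A Ap) := by
      funext a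
      rw [Function.comp_apply, Localization.localRingHom_to_map,
        IsScalarTower.algebraMap_apply A B Bq]
    rw [h1]
    exact hinj.comp (IsLocalization.injective Ap (Ideal.primeCompl_le_nonZeroDivisors p))
  -- the kernel of `φ` dies at `Q`
  have hker : ∀ x ∈ RingHom.ker (φ : P.Ring →+* Bf), ∃ t ∉ Q, t * x = 0 := by
    intro x hx
    have hx' : ψ x = 0 := by
      change θ (φ x) = 0
      rw [show φ x = 0 from hx, map_zero]
    obtain ⟨t, htu, htx⟩ := exists_mul_eq_zero_of_ker σ ψ hσ hinjA x hx'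
    refine ⟨t, fun htQ => ?_, htx⟩
    have h2 : ψ t ∈ maximalIdeal Bq := htQ
    exact (mem_maximalIdeal _).1 h2 htu
  obtain ⟨g', hg'Q, hg'⟩ := exists_forall_mul_eq_zero A Q _ hker
  -- adjust `g'` so that its image comes from `B`
  obtain ⟨cf, hcf⟩ := hφ (algebraMap B Bf f)
  obtain ⟨n, b, hb⟩ := IsLocalization.Away.surj f (φ g')
  let g'' : P.Ring := g' * cf ^ n
  have hφg'' : φ g'' = algebraMap B Bf b := by
    change φ (g' * cf ^ n) = _
    rw [map_mul, map_pow, hcf, hb]
  have hunit : ∀ c : P.Ring, c ∉ Q → IsUnit (ψ c) := by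
    intro c hc
    have h6 : ψ c ∉ maximalIdeal Bq := hc
    simpa [mem_maximalIdeal, mem_nonunits_iff] using h6
  have hψcf : IsUnit (ψ cf) := by
    change IsUnit (θ (φ cf))
    rw [hcf, hθ]
    exact (IsLocalization.AtPrime.isUnit_to_map_iff Bq q f).2 hfq
  have hψg'' : IsUnit (ψ g'') := by
    change IsUnit (ψ (g' * cf ^ n))
    rw [map_mul, map_pow]
    exact (hunit g' hg'Q).mul (hψcf.pow n)
  have hbq : b ∉ q := by
    have h1 : ψ g'' = algebraMap B Bq b := by
      change θ (φ g'') = _
      rw [hφg'', hθ]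
    rw [h1] at hψg''
    exact (IsLocalization.AtPrime.isUnit_to_map_iff Bq q b).1 hψg''
  have hg''ker : ∀ x : P.Ring, φ x = 0 → g'' * x = 0 := by
    intro x hx
    change g' * cf ^ n * x = 0
    rw [mul_right_comm, hg' x hx, zero_mul]
  -- the localization
  let T := Localization.Away (algebraMap B Bf b)
  have hT : IsLocalization.Away (φ g'') T := by
    rw [hφg'']
    infer_instance
  have hbij := bijective_mapₐ_away φ hφ g'' hg''ker T
  let e₁ : Localization.Away g'' ≃ₐ[A] T := AlgEquiv.ofBijective _ hbij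
  have hT' : IsLocalization.Away (f * b) T := IsLocalization.Away.mul' Bf T f b
  let e₂ : Localization.Away (f * b) ≃ₐ[A] T :=
    (IsLocalization.algEquiv (Submonoid.powers (f * b)) (Localization.Away (f * b)) T).restrictScalars A
  have het1 : Algebra.Etale A (Localization.Away g'') :=
    have : Algebra.Etale P.Ring (Localization.Away g'') := Algebra.Etale.of_isLocalizationAway g''
    Algebra.Etale.comp A P.Ring _
  refine ⟨f * b, fun h => ?_, Algebra.Etale.of_equiv (e₁.trans e₂.symm)⟩
  rcases Ideal.IsPrime.mem_or_mem inferInstance h with h | h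
  · exact hfq h
  · exact hbq h

end Final

end Groth.Agent.Lib.UnramGeomUnibranch96
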