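import Mathlib
import Groth.Agent.Lib.BranchesNbhd96
import Groth.Agent.Lib.UnramGeomUnibranch96
import Groth.Agent.S9721

/-!
# helper96: upper bound for the number of components through a point of an étale neighbourhood

`encard_le_minimalPrimes`: for `g : U ⟶ X` étale and a flat henselian local `O_{X,g u}`-algebra `S`
(with local structure map) such that either `κ(g u) → κ(u)` is bijective or the residue field of
`S` is separably closed, the number of irreducible components of `U` through `u` is at most the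
number of minimal primes of `S`.
-/

set_option autoImplicit false
set_option linter.style.haveILetI false
universe u

namespace Groth.Agent.Lib.BranchesNbhd96

open IsLocalRing AlgebraicGeometry CategoryTheory Groth.Agent.Lib.ElemEtaleNbhd96

theorem encard_le_minimalPrimes {U X : Scheme.{u}} (g : U ⟶ X) [Etale g] (u : U)
    (S : Type u) [CommRing S] [HenselianLocalRing S] [Algebra (X.presheaf.stalk (g u)) S]
    [IsLocalHom (algebraMap (X.presheaf.stalk (g u)) S)]
    [Module.Flat (X.presheaf.stalk (g u)) S]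
    (hb : Function.Bijective (g.residueFieldMap u) ∨ IsSepClosed (ResidueField S)) :
    {Z : Set U | Z ∈ irreducibleComponents U ∧ u ∈ Z}.encard ≤ (minimalPrimes S).encard := by
  obtain ⟨V, hV, hyV⟩ : ∃ V : X.Opens, IsAffineOpen V ∧ g u ∈ V := by
    obtain ⟨_, ⟨V, hV, rfl⟩, hyV, -⟩ :=
      X.isBasis_affineOpens.exists_subset_of_mem_open (Set.mem_univ (g u)) isOpen_univ
    exact ⟨V, hV, hyV⟩
  obtain ⟨U', hU', huU', e⟩ : ∃ U' : U.Opens, IsAffineOpen U' ∧ u ∈ U' ∧ U' ≤ g ⁻¹ᵁ V := by
    obtain ⟨_, ⟨U', hU', rfl⟩, huU', hle⟩ :=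
      U.isBasis_affineOpens.exists_subset_of_mem_open
        (show u ∈ ((g ⁻¹ᵁ V : U.Opens) : Set U) from hyV) (g ⁻¹ᵁ V).2
    exact ⟨U', hU', huU', hle⟩
  have het : Etale (U'.ι ≫ g) := inferInstance
  have hQ : (g.appLE V U' e).hom.Etale :=
    Groth.Agent.S9721.appLE_of_ι_comp (P := @Etale) g hU' hV e het
  algebraize [(g.appLE V U' e).hom]
  have hetA : Algebra.Etale Γ(X, V) Γ(U, U') := RingHom.etale_algebraMap.mp hQ
  let p := (hV.primeIdealOf ⟨g u, e huU'⟩).asIdeal
  let q := (hU'.primeIdealOf ⟨u, huU'⟩).asIdeal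
  have hqp : q.LiesOver p :=
    ⟨congr($(IsAffineOpen.comap_primeIdealOf_appLE V hV U' hU' e huU').1).symm⟩
  let R := X.presheaf.stalk (g u)
  letI : Algebra Γ(X, V) R := X.presheaf.algebra_section_stalk ⟨g u, e huU'⟩
  haveI : IsLocalization.AtPrime R p := hV.isLocalization_stalk ⟨g u, e huU'⟩
  letI : Algebra Γ(X, V) S := ((algebraMap R S).comp (algebraMap Γ(X, V) R)).toAlgebra
  haveI : IsScalarTower Γ(X, V) R S := IsScalarTower.of_algebraMap_eq fun _ => rfl
  have hcomap : (maximalIdeal S).comap (algebraMap Γ(X, V) S) = p := by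
    ext a
    rw [Ideal.mem_comap, IsScalarTower.algebraMap_apply Γ(X, V) R S, ← Ideal.mem_comap,
      IsLocalRing.maximalIdeal_comap, IsLocalization.AtPrime.to_map_mem_maximal_iff R p]
  obtain ⟨σ, hσ⟩ : ∃ σ : Γ(U, U') →ₐ[Γ(X, V)] S,
      (maximalIdeal S).comap (σ : Γ(U, U') →+* S) = q := by
    rcases hb with hb | hb
    · have hrs := (bijective_residueFieldMap_iff_of_affine g V hV U' hU' e huU').1 hb
      exact exists_algHom_comap_eq_of_resSurj (S := S) q p hcomap hrs
    · haveI := hb
      exact Groth.Agent.Lib.UnramGeomUnibranch96.exists_algHom_comap_eq (S := S) q p hcomap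
  haveI : Module.Flat Γ(X, V) R := IsLocalization.flat R p.primeCompl
  haveI : Module.Flat Γ(X, V) S := Module.Flat.trans Γ(X, V) R S
  have hσflat : (σ : Γ(U, U') →+* S).Flat := by
    letI : Algebra Γ(U, U') S := (σ : Γ(U, U') →+* S).toAlgebra
    haveI : IsScalarTower Γ(X, V) Γ(U, U') S :=
      IsScalarTower.of_algebraMap_eq fun r => (σ.commutes r).symm
    exact Groth.Agent.Lib.DiagFlat.flat_of_flat_lmul'
      (Algebra.WeaklyEtale.flat_lmul' Γ(X, V) Γ(U, U')) S
  exact encard_le_of_flat u U' hU' huU' S (σ : Γ(U, U') →+* S) hσflat hσ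

end Groth.Agent.Lib.BranchesNbhd96
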