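import Mathlib
import Groth.Agent.Lib.BranchesNbhdB96

/-!
# helper96: lower bound — étale neighbourhoods separating finitely many minimal primes

`exists_nbhd_encard_ge`: for a flat local `O_{X,x}`-algebra `S` generated by étale
`O_{X,x}`-algebras and finitely many minimal primes `T` of `S`, there is an étale neighbourhood
`(U, u)` of `(X, x)` (elementary if `κ(x) → κ(S)` is surjective) with at least `#T` irreducible
components through `u`.
-/

set_option autoImplicit false
set_option linter.style.haveILetI false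
universe u

namespace Groth.Agent.Lib.BranchesNbhd96

open IsLocalRing AlgebraicGeometry CategoryTheory Groth.Agent.Lib.ElemEtaleNbhd96

theorem exists_nbhd_encard_ge {X : Scheme.{u}} (x : X) (S : Type u) [CommRing S] [IsLocalRing S]
    [Algebra (X.presheaf.stalk x) S] [IsLocalHom (algebraMap (X.presheaf.stalk x) S)]
    [Module.Flat (X.presheaf.stalk x) S]
    (hgen : ∀ F : Finset S, ∃ (E : Type u) (_ : CommRing E) (_ : Algebra (X.presheaf.stalk x) E)
      (_ : Algebra.Etale (X.presheaf.stalk x) E) (φ : E →ₐ[X.presheaf.stalk x] S),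
      ∀ s ∈ F, s ∈ φ.range)
    (T : Set (Ideal S)) (hT : T.Finite) (hTmin : T ⊆ minimalPrimes S) :
    ∃ (U : Scheme.{u}) (g : U ⟶ X) (u : U), Etale g ∧ g u = x ∧
      (Function.Surjective (ResidueField.map (algebraMap (X.presheaf.stalk x) S)) →
        Function.Bijective (g.residueFieldMap u)) ∧
      T.encard ≤ {Z : Set U | Z ∈ irreducibleComponents U ∧ u ∈ Z}.encard := by
  obtain ⟨V, hV, hxV⟩ : ∃ V : X.Opens, IsAffineOpen V ∧ x ∈ V := by
    obtain ⟨_, ⟨V, hV, rfl⟩, hxV, -⟩ :=
      X.isBasis_affineOpens.exists_subset_of_mem_open (Set.mem_univ x) isOpen_univ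
    exact ⟨V, hV, hxV⟩
  let R := X.presheaf.stalk x
  let p := (hV.primeIdealOf ⟨x, hxV⟩).asIdeal
  letI : Algebra Γ(X, V) R := X.presheaf.algebra_section_stalk ⟨x, hxV⟩
  haveI : IsLocalization.AtPrime R p := hV.isLocalization_stalk ⟨x, hxV⟩
  letI : Algebra Γ(X, V) S := ((algebraMap R S).comp (algebraMap Γ(X, V) R)).toAlgebra
  haveI : IsScalarTower Γ(X, V) R S := IsScalarTower.of_algebraMap_eq fun _ => rfl
  haveI : Module.Flat Γ(X, V) R := IsLocalization.flat R p.primeCompl
  haveI : Module.Flat Γ(X, V) S := Module.Flat.trans Γ(X, V) R S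
  have hcomap : (maximalIdeal S).comap (algebraMap Γ(X, V) S) = p := by
    ext a
    rw [Ideal.mem_comap, IsScalarTower.algebraMap_apply Γ(X, V) R S, ← Ideal.mem_comap,
      IsLocalRing.maximalIdeal_comap, IsLocalization.AtPrime.to_map_mem_maximal_iff R p]
  obtain ⟨C, _, _, _, χ, hinj⟩ := exists_etale_injOn p R S hgen T hT hTmin
  haveI : ((maximalIdeal S).comap χ).IsPrime := Ideal.comap_isPrime _ _
  have hQp : ((maximalIdeal S).comap χ).comap (algebraMap Γ(X, V) C) = p := by
    rw [← hcomap]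
    ext a
    simp only [Ideal.mem_comap, AlgHom.commutes]
  let t : Set (Ideal C) := (fun 𝔞 : Ideal S => 𝔞.comap χ) '' T
  have ht : ∀ P ∈ t, P ∈ minimalPrimes C ∧ P ≤ (maximalIdeal S).comap χ := by
    rintro _ ⟨𝔞, h𝔞, rfl⟩
    have h𝔞min := hTmin h𝔞
    have h𝔞p : 𝔞.IsPrime := Ideal.IsMinimalPrime.isPrime h𝔞min
    exact ⟨Groth.Agent.Lib.GeomUnibranchNbhd96.comap_mem_minimalPrimes_of_etale χ h𝔞min,
      Ideal.comap_mono (IsLocalRing.le_maximalIdeal h𝔞p.ne_top)⟩
  obtain ⟨U, g, u, hg, hgu, hbij, hle⟩ :=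
    exists_nbhd_of_minimalPrimes x V hV hxV C ((maximalIdeal S).comap χ) hQp t ht
  refine ⟨U, g, u, hg, hgu, fun hsurjres => hbij ?_, ?_⟩
  · have hsurj : ∀ s : S, ∃ a t : Γ(X, V), t ∉ p ∧
        algebraMap Γ(X, V) S t * s - algebraMap Γ(X, V) S a ∈ maximalIdeal S := by
      intro s
      obtain ⟨y, hy⟩ := hsurjres (residue S s)
      obtain ⟨r, rfl⟩ := residue_surjective y
      obtain ⟨a, t, rfl⟩ := IsLocalization.exists_mk'_eq p.primeCompl r
      refine ⟨a, t.1, t.2, ?_⟩
      rw [ResidueField.map_residue] at hy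
      have h0 : s - algebraMap R S (IsLocalization.mk' R a t) ∈ maximalIdeal S := by
        rw [← residue_eq_zero_iff, map_sub, hy, sub_self]
      have h1 : algebraMap Γ(X, V) S t.1 * s - algebraMap Γ(X, V) S a =
          algebraMap Γ(X, V) S t.1 * (s - algebraMap R S (IsLocalization.mk' R a t)) := by
        have e1 := IsLocalization.mk'_spec R a t
        rw [IsScalarTower.algebraMap_apply Γ(X, V) R S, IsScalarTower.algebraMap_apply Γ(X, V) R S,
          ← e1, map_mul]
        ring
      rw [h1]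
      exact Ideal.mul_mem_left _ _ h0
    refine resSurj_localRingHom_of_ringHom (algebraMap Γ(X, V) C) (χ : C →+* S) _ rfl _ rfl ?_
    intro s
    obtain ⟨a, t, ht, hat⟩ := hsurj s
    refine ⟨a, t, ?_, ?_⟩
    · intro hmem
      exact ht (hQp.le hmem)
    · simpa only [RingHom.coe_coe, AlgHom.commutes] using hat
  · have h1 : t.encard = T.encard := hinj.encard_image
    rw [← h1]
    exact hle

end Groth.Agent.Lib.BranchesNbhd96
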