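import Mathlib
import Groth.Prelude.Def_Brnch
import Groth.Agent.Lib.BrnchSum98
import Groth.Agent.Lib.Unibranch98

/-!
# Geometric branches and pure inseparability (helper98)

* `subsingleton_algHom_iff`: for an algebraic field extension `L/K` and an algebraically closed
  `Ω/K`, there is at most one `K`-embedding `L → Ω` iff `L/K` is purely inseparable.
* `homOver_facts`: the same for ring maps `f : A → L`, `g : A → Ω` from a local ring with kernel the
  maximal ideal.
* `nonempty_emb`, `subsingleton_emb_iff`: for `Brnch.Emb A m'`.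
* `numGeomBranches_eq_numBranches_iff`.
* `pi_transport`: transport of the "p^n-th powers in the image" condition along a ring iso.
-/

set_option autoImplicit false
set_option maxHeartbeats 400000
universe u

namespace Groth.Agent.Lib.BrnchPI98

open IsLocalRing Groth.Agent.Lib.BrnchSum98

section Field

variable (K L Ω : Type*) [Field K] [Field L] [Field Ω] [Algebra K L] [Algebra K Ω]
  [Algebra.IsAlgebraic K L] [IsAlgClosed Ω]

theorem nonempty_algHom : Nonempty (L →ₐ[K] Ω) := ⟨IsAlgClosed.lift⟩

theorem subsingleton_algHom_iff : Subsingleton (L →ₐ[K] Ω) ↔ IsPurelyInseparable K L := by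
  rw [isPurelyInseparable_iff_finSepDegree_eq_one, Field.finSepDegree,
    Nat.card_congr (Field.embEquivOfIsAlgClosed K L Ω), Nat.card_eq_one_iff_unique]
  exact ⟨fun h => ⟨h, nonempty_algHom K L Ω⟩, fun h => h.1⟩

end Field

section Local

variable {A L Ω : Type*} [CommRing A] [IsLocalRing A] [Field L] [Field Ω] [IsAlgClosed Ω]
  (f : A →+* L) (g : A →+* Ω)

omit [IsAlgClosed Ω] in
theorem isLocalHom_of_ker_eq (hf : RingHom.ker f = maximalIdeal A) : IsLocalHom f := by
  refine ⟨fun a ha => ?_⟩
  by_contra hna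
  have h1 : a ∈ maximalIdeal A := (mem_maximalIdeal a).mpr hna
  rw [← hf, RingHom.mem_ker] at h1
  exact ha.ne_zero h1

theorem homOver_facts (hf : RingHom.ker f = maximalIdeal A) (hg : RingHom.ker g = maximalIdeal A)
    (hint : f.IsIntegral) :
    Nonempty (HomOver f g) ∧
      (Subsingleton (HomOver f g) ↔
        ∀ x : L, ∃ n : ℕ, x ^ (ringExpChar L) ^ n ∈ f.range) := by
  haveI hfl : IsLocalHom f := isLocalHom_of_ker_eq f hf
  haveI hgl : IsLocalHom g := isLocalHom_of_ker_eq g hg
  letI algKL : Algebra (ResidueField A) L := (ResidueField.lift f).toAlgebra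
  letI algKΩ : Algebra (ResidueField A) Ω := (ResidueField.lift g).toAlgebra
  have hKL : ∀ a : A, algebraMap (ResidueField A) L (residue A a) = f a :=
    fun a => ResidueField.lift_residue_apply f a
  have hKΩ : ∀ a : A, algebraMap (ResidueField A) Ω (residue A a) = g a :=
    fun a => ResidueField.lift_residue_apply g a
  have hintK : (algebraMap (ResidueField A) L).IsIntegral := by
    refine RingHom.IsIntegral.tower_top (residue A) (algebraMap (ResidueField A) L) ?_
    have h1 : (algebraMap (ResidueField A) L).comp (residue A) = f := RingHom.ext hKL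
    rw [h1]; exact hint
  haveI hI : Algebra.IsIntegral (ResidueField A) L := ⟨hintK⟩
  haveI hAlg : Algebra.IsAlgebraic (ResidueField A) L := Algebra.IsIntegral.isAlgebraic
  let e : HomOver f g ≃ (L →ₐ[ResidueField A] Ω) :=
    { toFun := fun χ =>
        { χ.1 with
          commutes' := fun k => by
            obtain ⟨a, rfl⟩ := residue_surjective k
            show χ.1 (algebraMap (ResidueField A) L (residue A a))
              = algebraMap (ResidueField A) Ω (residue A a)
            rw [hKL, hKΩ]
            exact RingHom.congr_fun χ.2 a }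
      invFun := fun σ => ⟨σ.toRingHom, by
        ext a
        show σ (f a) = g a
        rw [← hKL, ← hKΩ]
        exact σ.commutes _⟩
      left_inv := fun χ => Subtype.ext (by ext x; rfl)
      right_inv := fun σ => by ext x; rfl }
  refine ⟨⟨e.symm (nonempty_algHom (ResidueField A) L Ω).some⟩, ?_⟩
  rw [e.subsingleton_congr, subsingleton_algHom_iff]
  haveI hq : ExpChar L (ringExpChar L) := ringExpChar.expChar L
  haveI hq' : ExpChar (ResidueField A) (ringExpChar L) :=
    (algebraMap (ResidueField A) L).expChar (algebraMap (ResidueField A) L).injective _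
  rw [isPurelyInseparable_iff_pow_mem (ResidueField A) (ringExpChar L)]
  have hrange : ∀ y : L, y ∈ (algebraMap (ResidueField A) L).range ↔ y ∈ f.range := by
    intro y
    constructor
    · rintro ⟨k, rfl⟩
      obtain ⟨a, rfl⟩ := residue_surjective k
      exact ⟨a, (hKL a).symm⟩
    · rintro ⟨a, rfl⟩
      exact ⟨residue A a, hKL a⟩
  exact forall_congr' fun x => exists_congr fun n => hrange _

end Local

section Emb

variable (A : Type u) [CommRing A] [IsLocalRing A]

theorem toResidue_eq (m' : MaximalSpectrum (CAlg2.normRed A)) :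
    Brnch.toResidue A m' = (Ideal.Quotient.mk m'.asIdeal).comp (fA A) := rfl

theorem ker_toResidue (m' : MaximalSpectrum (CAlg2.normRed A)) :
    RingHom.ker (Brnch.toResidue A m') = maximalIdeal A := by
  haveI := m'.isMaximal
  have hint := Groth.Agent.Lib.Unibranch98.isIntegral_normRed A
  have h1 : RingHom.ker (Brnch.toResidue A m')
      = m'.asIdeal.comap (algebraMap A (CAlg2.normRed A)) := by
    rw [toResidue_eq, algebraMap_eq_fA, ← RingHom.comap_ker, Ideal.mk_ker]
  rw [h1]
  exact IsLocalRing.eq_maximalIdeal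
    (Ideal.isMaximal_comap_of_isIntegral_of_isMaximal m'.asIdeal)

theorem ker_toClosure : RingHom.ker (Brnch.toClosure A) = maximalIdeal A := by
  ext a
  rw [RingHom.mem_ker]
  unfold Brnch.toClosure
  rw [RingHom.comp_apply, map_eq_zero_iff _ (RingHom.injective _), residue_eq_zero_iff]

theorem isIntegral_toResidue (m' : MaximalSpectrum (CAlg2.normRed A)) :
    (Brnch.toResidue A m').IsIntegral := by
  have hint := Groth.Agent.Lib.Unibranch98.isIntegral_normRed A
  rw [toResidue_eq, ← algebraMap_eq_fA]
  have h1 : (algebraMap A (CAlg2.normRed A)).IsIntegral := algebraMap_isIntegral_iff.mpr hint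
  have h2 : (Ideal.Quotient.mk m'.asIdeal).IsIntegral :=
    RingHom.isIntegral_of_surjective _ Ideal.Quotient.mk_surjective
  exact RingHom.IsIntegral.trans (T := CAlg2.normRed A ⧸ m'.asIdeal)
    (algebraMap A (CAlg2.normRed A)) (Ideal.Quotient.mk m'.asIdeal) h1 h2

theorem nonempty_emb (m' : MaximalSpectrum (CAlg2.normRed A)) : Nonempty (Brnch.Emb A m') := by
  haveI := m'.isMaximal
  letI : Field (CAlg2.normRed A ⧸ m'.asIdeal) := Ideal.Quotient.field _
  exact (homOver_facts (Brnch.toResidue A m') (Brnch.toClosure A) (ker_toResidue A m')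
    (ker_toClosure A) (isIntegral_toResidue A m')).1

theorem subsingleton_emb_iff (m' : MaximalSpectrum (CAlg2.normRed A)) :
    Subsingleton (Brnch.Emb A m') ↔
      ∀ x : CAlg2.normRed A ⧸ m'.asIdeal, ∃ n : ℕ,
        x ^ (ringExpChar (CAlg2.normRed A ⧸ m'.asIdeal)) ^ n ∈ (Brnch.toResidue A m').range := by
  haveI := m'.isMaximal
  letI : Field (CAlg2.normRed A ⧸ m'.asIdeal) := Ideal.Quotient.field _
  exact (homOver_facts (Brnch.toResidue A m') (Brnch.toClosure A) (ker_toResidue A m')
    (ker_toClosure A) (isIntegral_toResidue A m')).2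

end Emb

section Count

theorem sigma_fst_injective_iff {ι : Type*} (X : ι → Type*) :
    Function.Injective (fun x : Σ i, X i => x.1) ↔ ∀ i, Subsingleton (X i) := by
  constructor
  · intro h i
    refine ⟨fun a b => ?_⟩
    have h1 : (⟨i, a⟩ : Σ i, X i) = ⟨i, b⟩ := h rfl
    exact eq_of_heq (Sigma.mk.inj_iff.mp h1).2
  · rintro h ⟨i, a⟩ ⟨j, b⟩ hij
    obtain rfl : i = j := hij
    rw [(h i).elim a b]

theorem card_sigma_eq_iff {ι : Type*} [Finite ι] (X : ι → Type*) (hne : ∀ i, Nonempty (X i)) :
    ENat.card (Σ i, X i) = ENat.card ι ↔ ∀ i, Subsingleton (X i) := by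
  rw [← sigma_fst_injective_iff]
  have hsurj : Function.Surjective (fun x : Σ i, X i => x.1) :=
    fun i => ⟨⟨i, (hne i).some⟩, rfl⟩
  constructor
  · intro h
    have hfin : Finite (Σ i, X i) := by
      rw [← ENat.card_lt_top, h]
      exact ENat.card_lt_top.mpr inferInstance
    have hnat : Nat.card (Σ i, X i) = Nat.card ι := by
      rw [ENat.card_eq_coe_natCard, ENat.card_eq_coe_natCard] at h
      exact_mod_cast h
    exact (hsurj.bijective_of_nat_card_le hnat.le).1
  · intro h
    exact ENat.card_congr (Equiv.ofBijective _ ⟨h, hsurj⟩)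

variable (A : Type u) [CommRing A] [IsLocalRing A]

theorem numGeomBranches_eq_numBranches_iff (hfin : (minimalPrimes A).Finite)
    [Finite (MaximalSpectrum (CAlg2.normRed A))] :
    Brnch.numGeomBranches A = Brnch.numBranches A ↔
      ∀ m' : MaximalSpectrum (CAlg2.normRed A), Subsingleton (Brnch.Emb A m') := by
  unfold Brnch.numGeomBranches Brnch.numBranches
  rw [if_pos hfin, if_pos hfin]
  exact card_sigma_eq_iff _ (nonempty_emb A)

end Count

section Transport

theorem pi_transport {A R R' : Type*} [CommRing A] [CommRing R] [CommRing R'] (E : R ≃+* R')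
    (f : A →+* R) (f' : A →+* R') (hE : ∀ a, E (f a) = f' a) (M : Ideal R) [M.IsMaximal]
    (h : ∀ x : R' ⧸ M.map (E : R →+* R'), ∃ n : ℕ,
      x ^ (ringExpChar (R' ⧸ M.map (E : R →+* R'))) ^ n ∈
        ((Ideal.Quotient.mk (M.map (E : R →+* R'))).comp f').range) :
    ∀ x : R ⧸ M, ∃ n : ℕ,
      x ^ (ringExpChar (R ⧸ M)) ^ n ∈ ((Ideal.Quotient.mk M).comp f).range := by
  haveI hM' : (M.map (E : R →+* R')).IsMaximal :=
    (Ideal.isMaximal_map_iff_of_bijective (E : R →+* R') E.bijective).mpr inferInstance
  let Ē : R ⧸ M ≃+* R' ⧸ M.map (E : R →+* R') := Ideal.quotientEquiv M _ E rfl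
  have hĒ : ∀ r : R, Ē (Ideal.Quotient.mk M r) = Ideal.Quotient.mk _ (E r) := fun r => rfl
  haveI hq' : ExpChar (R' ⧸ M.map (E : R →+* R'))
      (ringExpChar (R' ⧸ M.map (E : R →+* R'))) := ringExpChar.expChar _
  haveI hq : ExpChar (R ⧸ M) (ringExpChar (R' ⧸ M.map (E : R →+* R'))) :=
    expChar_of_injective_ringHom (f := Ē.symm.toRingHom) Ē.symm.injective _
  rw [ringExpChar.eq (R ⧸ M) (ringExpChar (R' ⧸ M.map (E : R →+* R')))]
  intro x
  obtain ⟨n, a, ha⟩ := h (Ē x)
  refine ⟨n, a, Ē.injective ?_⟩
  rw [map_pow, ← ha, RingHom.comp_apply, RingHom.comp_apply, hĒ, hE]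

end Transport

end Groth.Agent.Lib.BrnchPI98
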