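import Groth.Prelude.Def_CohDer
import Mathlib.CategoryTheory.Triangulated.Opposite.Pretriangulated
import Mathlib.CategoryTheory.Triangulated.HomologicalFunctor
import Mathlib.CategoryTheory.Limits.Shapes.Opposites.Products
import Mathlib.CategoryTheory.Limits.Preserves.Shapes.Products
import Mathlib.CategoryTheory.Limits.Shapes.ZeroMorphisms
import Mathlib.Algebra.Category.Grp.Basic
import Mathlib.Algebra.Category.Grp.Abelian
import Mathlib.Algebra.Category.Grp.Limits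
import Mathlib.Algebra.Homology.ShortComplex.Ab

/-!
# Brown representability (Krause's version), elementary proof

Helper library of helper31.
-/

set_option autoImplicit false
set_option linter.unusedSectionVars false

namespace Groth.Agent.Lib.Brown

open CategoryTheory Limits Pretriangulated Opposite ZeroObject

universe w v u

variable {D : Type u} [Category.{v} D]

section Pb

variable (H : Dᵒᵖ ⥤ AddCommGrpCat.{v})

/-- pullback of classes along a morphism -/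
def pb {X Y : D} (f : X ⟶ Y) : H.obj (op Y) →+ H.obj (op X) := (H.map f.op).hom

lemma pb_comp {X Y Z : D} (f : X ⟶ Y) (g : Y ⟶ Z) (y : H.obj (op Z)) :
    pb H (f ≫ g) y = pb H f (pb H g y) := by
  simp [pb]

lemma pb_id {X : D} (y : H.obj (op X)) : pb H (𝟙 X) y = y := by
  simp [pb]

variable [Preadditive D] [H.Additive]

lemma pb_add {X Y : D} (f g : X ⟶ Y) (y : H.obj (op Y)) :
    pb H (f + g) y = pb H f y + pb H g y := by
  simp [pb, Functor.map_add]

lemma pb_sub {X Y : D} (f g : X ⟶ Y) (y : H.obj (op Y)) :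
    pb H (f - g) y = pb H f y - pb H g y := by
  simp [pb, Functor.map_sub]

lemma pb_neg {X Y : D} (f : X ⟶ Y) (y : H.obj (op Y)) :
    pb H (-f) y = - pb H f y := by
  simp [pb, Functor.map_neg]

lemma pb_zero {X Y : D} (y : H.obj (op Y)) :
    pb H (0 : X ⟶ Y) y = 0 := by
  simp [pb, Functor.map_zero]

end Pb

section Prod

variable (H : Dᵒᵖ ⥤ AddCommGrpCat.{v})

/-- `H` turns the coproduct of the family `X` into a product (elementwise formulation). -/
def TurnsCoprod {κ : Type w} (X : κ → D) [HasCoproduct X] : Prop :=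
  Function.Bijective (fun (y : H.obj (op (∐ X))) (i : κ) => pb H (Sigma.ι X i) y)

lemma turnsCoprod_of_preserves {κ : Type w} (X : κ → D) [HasCoproduct X]
    [PreservesLimit (Discrete.functor (fun i => op (X i))) H] : TurnsCoprod H X := by
  let c : Cofan X := Cofan.mk (∐ X) (Sigma.ι X)
  have hc : IsColimit c := coproductIsCoproduct X
  have h1 : IsLimit (H.mapCone (Cofan.op c)) := isLimitOfPreserves H (Cofan.IsColimit.op hc)
  have h2 := isLimitOfPreserves (forget AddCommGrpCat.{v}) h1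
  constructor
  · intro y y' hyy'
    refine Concrete.isLimit_ext _ h1 y y' ?_
    rintro ⟨i⟩
    exact congrFun hyy' i
  · intro b
    let s : (Discrete.functor (fun i => op (X i)) ⋙ H ⋙ forget AddCommGrpCat.{v}).sections :=
      ⟨fun j => b j.as, by
        rintro ⟨i⟩ ⟨j⟩ ⟨⟨h⟩⟩
        obtain rfl : i = j := h
        simp⟩
    refine ⟨(Types.isLimitEquivSections h2).symm s, ?_⟩
    funext i
    exact Types.isLimitEquivSections_symm_apply h2 s ⟨i⟩

end Prod


section EEpi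

variable [Preadditive D] {ι : Type w} (E : ι → D)

/-- `f` is surjective on `E`-points -/
def EEpi {Y Z : D} (f : Y ⟶ Z) : Prop := ∀ (i : ι) (u : E i ⟶ Z), ∃ u' : E i ⟶ Y, u' ≫ f = u

/-- `g` kills all `E`-points -/
def ENull {Y Z : D} (g : Y ⟶ Z) : Prop := ∀ (i : ι) (u : E i ⟶ Y), u ≫ g = 0

/-- countable coproducts of `E`-epis are `E`-epi -/
def SumEpi [HasColimitsOfShape (Discrete ℕ) D] : Prop :=
  ∀ (Y Z : ℕ → D) (f : ∀ n, Y n ⟶ Z n), (∀ n, EEpi E (f n)) → EEpi E (Limits.Sigma.map f)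

variable {E}

lemma ENull.of_eepi_comp {Y Z W : D} {p : Y ⟶ Z} (hp : EEpi E p) {g : Z ⟶ W} (h : p ≫ g = 0) :
    ENull E g := by
  intro i u
  obtain ⟨u', rfl⟩ := hp i u
  rw [Category.assoc, h, comp_zero]

end EEpi

section CanEpi

variable [Preadditive D] {ι : Type v} (E : ι → D) [HasCoproducts.{v} D]

/-- the canonical `E`-epi onto `Z` -/
noncomputable abbrev canObj (Z : D) : D := ∐ (fun p : Σ i, (E i ⟶ Z) => E p.1)

noncomputable abbrev canMap (Z : D) : canObj E Z ⟶ Z := Sigma.desc (fun p => p.2)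

lemma canMap_eepi (Z : D) : EEpi E (canMap E Z) := by
  intro i u
  exact ⟨Sigma.ι (fun p : Σ i, (E i ⟶ Z) => E p.1) ⟨i, u⟩,
    Sigma.ι_desc (f := fun p : Σ i, (E i ⟶ Z) => E p.1) (fun p => p.2) ⟨i, u⟩⟩

variable {E} [HasColimitsOfShape (Discrete ℕ) D]

lemma ENull.of_components (hSE : SumEpi E) {R : ℕ → D} {W : D} (G : ∐ R ⟶ W)
    (h : ∀ n, ENull E (Sigma.ι R n ≫ G)) : ENull E G := by
  have h1 : EEpi E (Limits.Sigma.map (fun n => canMap E (R n))) :=
    hSE _ _ _ (fun n => canMap_eepi E (R n))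
  refine ENull.of_eepi_comp h1 ?_
  refine Sigma.hom_ext _ _ (fun n => ?_)
  rw [comp_zero, Sigma.ι_map_assoc]
  refine Sigma.hom_ext _ _ (fun p => ?_)
  have := Sigma.ι_desc (f := fun p : Σ i, (E i ⟶ R n) => E p.1) (fun p => p.2) p
  rw [comp_zero, reassoc_of% this]
  exact h n p.1 p.2

end CanEpi


section Tower

variable [Preadditive D] [HasZeroObject D] [HasShift D ℤ]
  [∀ n : ℤ, (shiftFunctor D n).Additive] [Pretriangulated D]

variable (D) in
/-- A tower `X 0 ⟶ X 1 ⟶ ...` with maps `c n : K n ⟶ X n` killed by the transition maps. -/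
structure Tower where
  X : ℕ → D
  s : ∀ n, X n ⟶ X (n + 1)
  K : ℕ → D
  c : ∀ n, K n ⟶ X n
  hcs : ∀ n, c n ≫ s n = 0

namespace Tower

variable (T : Tower D)

/-- the composite `X 0 ⟶ X n` -/
def sk : ∀ n, T.X 0 ⟶ T.X n
  | 0 => 𝟙 _
  | n + 1 => sk n ≫ T.s n

@[simp] lemma sk_zero : T.sk 0 = 𝟙 _ := rfl
lemma sk_succ (n : ℕ) : T.sk (n + 1) = T.sk n ≫ T.s n := rfl

/-- the auxiliary split tower -/
noncomputable abbrev X' (n : ℕ) : D := T.X 0 ⊞ T.K n

noncomputable def φ (n : ℕ) : T.X' n ⟶ T.X n := biprod.desc (T.sk n) (T.c n)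

noncomputable def t (n : ℕ) : T.X' n ⟶ T.X' (n + 1) := biprod.fst ≫ biprod.inl

lemma φ_s (n : ℕ) : T.φ n ≫ T.s n = T.t n ≫ T.φ (n + 1) := by
  apply biprod.hom_ext'
  · simp [φ, t, sk_succ]
  · simp [φ, t, T.hcs]

variable [HasColimitsOfShape (Discrete ℕ) D]

/-- the shift map on the coproduct -/
noncomputable def S : ∐ T.X ⟶ ∐ T.X := Sigma.desc (fun n => T.s n ≫ Sigma.ι T.X (n + 1))

noncomputable def S' : ∐ T.X' ⟶ ∐ T.X' := Sigma.desc (fun n => T.t n ≫ Sigma.ι T.X' (n + 1))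

noncomputable def Φ : ∐ T.X' ⟶ ∐ T.X := Limits.Sigma.map T.φ

@[reassoc (attr := simp)]
lemma ι_S (n : ℕ) : Sigma.ι T.X n ≫ T.S = T.s n ≫ Sigma.ι T.X (n + 1) := by
  simp [S]

@[reassoc (attr := simp)]
lemma ι_S' (n : ℕ) : Sigma.ι T.X' n ≫ T.S' = T.t n ≫ Sigma.ι T.X' (n + 1) := by
  simp [S']

@[reassoc (attr := simp)]
lemma ι_Φ (n : ℕ) : Sigma.ι T.X' n ≫ T.Φ = T.φ n ≫ Sigma.ι T.X n := by
  simp [Φ]

lemma Φ_S : T.Φ ≫ T.S = T.S' ≫ T.Φ := by
  refine Sigma.hom_ext _ _ (fun n => ?_)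
  simp [reassoc_of% T.φ_s n]

lemma Φ_one_sub_S : T.Φ ≫ (𝟙 _ - T.S) = (𝟙 _ - T.S') ≫ T.Φ := by
  simp [Preadditive.comp_sub, Preadditive.sub_comp, Φ_S]

/-- embedding of `X 0` into the `k`-th summand of the split tower -/
noncomputable def e (k : ℕ) : T.X 0 ⟶ ∐ T.X' := biprod.inl ≫ Sigma.ι T.X' k

/-- components of the retraction -/
noncomputable def r (n : ℕ) : T.X' n ⟶ ∐ T.X' :=
  biprod.fst ≫ (T.e 0 - ∑ k ∈ Finset.range n, T.e k) + biprod.snd ≫ biprod.inr ≫ Sigma.ι T.X' n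

noncomputable def ρ : ∐ T.X' ⟶ ∐ T.X' := Sigma.desc T.r

lemma t_r (n : ℕ) : T.t n ≫ T.r (n + 1) = biprod.fst ≫ (T.e 0 - ∑ k ∈ Finset.range (n + 1), T.e k) := by
  simp [t, r]

lemma one_sub_S'_ρ : (𝟙 _ - T.S') ≫ T.ρ = 𝟙 _ := by
  refine Sigma.hom_ext _ _ (fun n => ?_)
  rw [Preadditive.sub_comp, Preadditive.comp_sub, Category.id_comp, ι_S'_assoc, ρ]
  simp only [Sigma.ι_desc]
  rw [t_r, r, Finset.sum_range_succ]
  simp only [Preadditive.comp_sub, Preadditive.comp_add]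
  have : 𝟙 (T.X' n) = biprod.fst ≫ biprod.inl + biprod.snd ≫ biprod.inr := biprod.total.symm
  rw [Category.comp_id]
  conv_rhs => rw [← Category.id_comp (Sigma.ι T.X' n), this, Preadditive.add_comp]
  simp only [e, Category.assoc]
  abel


variable {ι : Type v} (E : ι → D)

/-- the tower is good with respect to the family `E` -/
structure Good : Prop where
  eepi : ∀ n, EEpi E (T.φ n)
  ker : ∀ (n : ℕ) (i : ι) (v : E i ⟶ T.X' n), v ≫ T.φ n = 0 → (v ≫ biprod.fst) ≫ T.s 0 = 0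

variable {E} {T}

lemma Good.comp_sk (hG : T.Good E) {n : ℕ} {i : ι} (v : E i ⟶ T.X' n) (hv : v ≫ T.φ n = 0)
    (k : ℕ) : (v ≫ biprod.fst) ≫ T.sk (k + 1) = 0 := by
  induction k with
  | zero => simpa [sk_succ] using hG.ker n i v hv
  | succ k ih => rw [sk_succ, ← Category.assoc, ih, zero_comp]

lemma e_Φ (k : ℕ) : T.e k ≫ T.Φ = T.sk k ≫ Sigma.ι T.X k := by
  simp [e, φ]

lemma Good.comp_r_Φ (hG : T.Good E) {n : ℕ} {i : ι} (v : E i ⟶ T.X' n) (hv : v ≫ T.φ n = 0) :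
    v ≫ T.r n ≫ T.Φ = 0 := by
  have hv' : (v ≫ biprod.fst) ≫ T.sk n + (v ≫ biprod.snd) ≫ T.c n = 0 := by
    rw [← hv, φ, biprod.desc_eq]
    simp
  have hsum : ∀ m : ℕ, ∑ k ∈ Finset.range (m + 1), (v ≫ biprod.fst) ≫ T.sk k ≫ Sigma.ι T.X k =
      (v ≫ biprod.fst) ≫ Sigma.ι T.X 0 := by
    intro m
    induction m with
    | zero => simp
    | succ m ih =>
      rw [Finset.sum_range_succ, ih, ← Category.assoc (v ≫ biprod.fst), hG.comp_sk v hv m, zero_comp,
        add_zero]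
  simp only [r, Preadditive.add_comp, Preadditive.sub_comp, Preadditive.comp_add,
    Preadditive.comp_sub, Category.assoc, Preadditive.sum_comp, Preadditive.comp_sum, e_Φ]
  rw [show biprod.inr ≫ Sigma.ι T.X' n ≫ T.Φ = T.c n ≫ Sigma.ι T.X n by simp [φ]]
  cases n with
  | zero =>
    simp only [Finset.range_zero, Finset.sum_empty, sub_zero, sk_zero, Category.id_comp]
    have := hv'
    simp only [sk_zero, Category.comp_id, Category.assoc] at this
    rw [← Category.assoc v biprod.snd, ← Category.assoc (v ≫ biprod.snd), ← Category.assoc v biprod.fst,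
      ← Preadditive.add_comp, Category.assoc v biprod.snd, this, zero_comp]
  | succ m =>
    have h1 := hsum m
    simp only [Category.assoc] at h1
    rw [h1]
    simp only [sk_zero, Category.id_comp, sub_self, zero_add]
    have h2 : (v ≫ biprod.snd) ≫ T.c (m + 1) = 0 := by
      have := hG.comp_sk v hv m
      rw [this, zero_add] at hv'
      exact hv'
    rw [← Category.assoc v, ← Category.assoc (v ≫ biprod.snd), h2, zero_comp]

variable [HasCoproducts.{v} D]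

/-- Key injectivity statement: `𝟙 - S` is injective on `E`-points. -/
theorem Good.eq_zero_of_comp_one_sub_S (hG : T.Good E) (hSE : SumEpi E) {i : ι} (g : E i ⟶ ∐ T.X)
    (hg : g ≫ (𝟙 _ - T.S) = 0) : g = 0 := by
  -- fibres of the maps `φ n`
  choose R ψ δ hR using fun n => distinguished_cocone_triangle₁ (T.φ n)
  let Ψ : ∐ R ⟶ ∐ T.X' := Limits.Sigma.map ψ
  obtain ⟨Q, q, δ', hQ⟩ := distinguished_cocone_triangle Ψ
  have hlam : ∀ n, ∃ lam : T.X n ⟶ Q, Sigma.ι T.X' n ≫ q = T.φ n ≫ lam := by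
    intro n
    refine Triangle.yoneda_exact₂ _ (hR n) (Sigma.ι T.X' n ≫ q) ?_
    have h0 : Ψ ≫ q = 0 := comp_distTriang_mor_zero₁₂ _ hQ
    change ψ n ≫ Sigma.ι T.X' n ≫ q = 0
    rw [← Sigma.ι_map_assoc (f := R) (g := T.X') ψ n]
    exact (congrArg (fun z => Sigma.ι R n ≫ z) h0).trans comp_zero
  choose lam hlam using hlam
  have hq : T.Φ ≫ Sigma.desc lam = q := by
    refine Sigma.hom_ext _ _ (fun n => ?_)
    rw [ι_Φ_assoc, Sigma.ι_desc, hlam]
  -- the composite `Ψ ≫ ρ ≫ Φ` kills `E`-points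
  have hnull : ENull E (Ψ ≫ T.ρ ≫ T.Φ) := by
    refine ENull.of_components hSE _ (fun n i u => ?_)
    have h1 : (u ≫ ψ n) ≫ T.φ n = 0 := by
      rw [Category.assoc]
      exact (congrArg (fun z => u ≫ z) (comp_distTriang_mor_zero₁₂ _ (hR n))).trans comp_zero
    have h2 := hG.comp_r_Φ (u ≫ ψ n) h1
    rw [Sigma.ι_map_assoc, ρ, Sigma.ι_desc_assoc]
    simpa using h2
  -- lift `g`
  obtain ⟨g', hg'⟩ := hSE _ _ _ hG.eepi i g
  change g' ≫ T.Φ = g at hg'
  subst hg'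
  have h3 : (g' ≫ (𝟙 _ - T.S')) ≫ T.Φ = 0 := by
    rw [Category.assoc, ← Φ_one_sub_S]
    simpa using hg
  have h4 : (g' ≫ (𝟙 _ - T.S')) ≫ q = 0 := by
    rw [← hq, ← Category.assoc, h3, zero_comp]
  obtain ⟨η', hη'⟩ := Triangle.coyoneda_exact₂ _ hQ _ h4
  change E i ⟶ ∐ R at η'
  change g' ≫ (𝟙 _ - T.S') = η' ≫ Ψ at hη'
  calc g' ≫ T.Φ = g' ≫ ((𝟙 _ - T.S') ≫ T.ρ) ≫ T.Φ := by
        rw [one_sub_S'_ρ, Category.id_comp]
    _ = (g' ≫ (𝟙 _ - T.S')) ≫ T.ρ ≫ T.Φ := by simp only [Category.assoc]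
    _ = η' ≫ Ψ ≫ T.ρ ≫ T.Φ := by rw [hη', Category.assoc]
    _ = 0 := hnull i η'

end Tower

end Tower


section Construction

variable [Preadditive D] [HasZeroObject D] [HasShift D ℤ]
  [∀ n : ℤ, (shiftFunctor D n).Additive] [Pretriangulated D]
  [HasCoproducts.{v} D] [HasColimitsOfShape (Discrete ℕ) D]

variable (H : Dᵒᵖ ⥤ AddCommGrpCat.{v})

/-- elementary formulation of: `H` is cohomological and turns coproducts into products -/
structure IsCoh : Prop where
  exact : ∀ (T : Triangle D), T ∈ distTriang D → ∀ y : H.obj (op T.obj₂), pb H T.mor₁ y = 0 →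
    ∃ z : H.obj (op T.obj₃), pb H T.mor₂ z = y
  prod : ∀ {κ : Type v} (X : κ → D), TurnsCoprod H X
  prodN : ∀ (X : ℕ → D), TurnsCoprod H X

/-- an object together with a class -/
structure Pt where
  X : D
  a : H.obj (op X)

variable {ι : Type v} (E : ι → D)

/-- one step of the construction: kill the kernel on `E`-points -/
structure Step (P : Pt H) where
  P' : Pt H
  s : P.X ⟶ P'.X
  K : D
  c : K ⟶ P.X
  hs : pb H s P'.a = P.a
  hcs : c ≫ s = 0
  hca : pb H c P.a = 0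
  hker : ∀ (i : ι) (f : E i ⟶ P.X), pb H f P.a = 0 → ∃ f' : E i ⟶ K, f' ≫ c = f

variable {H} [H.Additive]

lemma nonempty_step (hH : IsCoh H) (P : Pt H) : Nonempty (Step H E P) := by
  let J := Σ i : ι, {f : E i ⟶ P.X // pb H f P.a = 0}
  let F : J → D := fun j => E j.1
  let c : ∐ F ⟶ P.X := Sigma.desc (fun j => j.2.1)
  have hc : ∀ j : J, Sigma.ι F j ≫ c = j.2.1 := fun j => Sigma.ι_desc _ _
  obtain ⟨X', s, δ, hT⟩ := distinguished_cocone_triangle c
  have hca : pb H c P.a = 0 := by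
    apply (hH.prod F).1
    funext j
    show pb H (Sigma.ι F j) (pb H c P.a) = pb H (Sigma.ι F j) 0
    rw [← pb_comp, hc, map_zero]
    exact j.2.2
  obtain ⟨a', ha'⟩ := hH.exact _ hT P.a hca
  exact ⟨{ P' := ⟨X', a'⟩
           s := s
           K := ∐ F
           c := c
           hs := ha'
           hcs := comp_distTriang_mor_zero₁₂ _ hT
           hca := hca
           hker := fun i f hf => ⟨Sigma.ι F ⟨i, f, hf⟩, hc ⟨i, f, hf⟩⟩ }⟩

noncomputable def step (hH : IsCoh H) (P : Pt H) : Step H E P := (nonempty_step E hH P).some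

noncomputable def towerPt (hH : IsCoh H) (P₀ : Pt H) : ℕ → Pt H
  | 0 => P₀
  | n + 1 => (step E hH (towerPt hH P₀ n)).P'

noncomputable def mkTower (hH : IsCoh H) (P₀ : Pt H) : Tower D where
  X n := (towerPt E hH P₀ n).X
  s n := (step E hH (towerPt E hH P₀ n)).s
  K n := (step E hH (towerPt E hH P₀ n)).K
  c n := (step E hH (towerPt E hH P₀ n)).c
  hcs n := (step E hH (towerPt E hH P₀ n)).hcs

variable (hH : IsCoh H) (P₀ : Pt H)

/-- the classes on the tower -/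
noncomputable def ta (n : ℕ) : H.obj (op ((mkTower E hH P₀).X n)) := (towerPt E hH P₀ n).a

lemma mkTower_pb_s (n : ℕ) :
    pb H ((mkTower E hH P₀).s n) (ta E hH P₀ (n + 1)) = ta E hH P₀ n :=
  (step E hH (towerPt E hH P₀ n)).hs

lemma mkTower_pb_sk (n : ℕ) :
    pb H ((mkTower E hH P₀).sk n) (ta E hH P₀ n) = ta E hH P₀ 0 := by
  induction n with
  | zero => exact pb_id H _
  | succ n ih =>
    rw [Tower.sk_succ, pb_comp, mkTower_pb_s, ih]

lemma mkTower_pb_c (n : ℕ) :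
    pb H ((mkTower E hH P₀).c n) (ta E hH P₀ n) = 0 :=
  (step E hH (towerPt E hH P₀ n)).hca

lemma mkTower_ker (n : ℕ) (i : ι) (f : E i ⟶ (mkTower E hH P₀).X n)
    (hf : pb H f (ta E hH P₀ n) = 0) : ∃ f' : E i ⟶ (mkTower E hH P₀).K n,
      f' ≫ (mkTower E hH P₀).c n = f :=
  (step E hH (towerPt E hH P₀ n)).hker i f hf

lemma mkTower_good (hsurj : ∀ (i : ι) (b : H.obj (op (E i))),
      ∃ f : E i ⟶ (mkTower E hH P₀).X 0, pb H f (ta E hH P₀ 0) = b) :
    (mkTower E hH P₀).Good E where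
  eepi n i f := by
    obtain ⟨f₀, hf₀⟩ := hsurj i (pb H f (ta E hH P₀ n))
    have h1 : pb H (f - f₀ ≫ (mkTower E hH P₀).sk n) (ta E hH P₀ n) = 0 := by
      rw [pb_sub, pb_comp, mkTower_pb_sk, hf₀, sub_self]
    obtain ⟨f', hf'⟩ := mkTower_ker E hH P₀ n i _ h1
    refine ⟨biprod.lift f₀ f', ?_⟩
    rw [Tower.φ, biprod.lift_desc, hf']
    abel
  ker n i v hv := by
    have hv' : (v ≫ biprod.fst) ≫ (mkTower E hH P₀).sk n +
        (v ≫ biprod.snd) ≫ (mkTower E hH P₀).c n = 0 := by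
      rw [← hv, Tower.φ, biprod.desc_eq]
      simp
    have h1 : pb H (v ≫ biprod.fst) (ta E hH P₀ 0) = 0 := by
      rw [← mkTower_pb_sk E hH P₀ n, ← pb_comp, eq_neg_of_add_eq_zero_left hv', pb_neg, pb_comp,
        mkTower_pb_c, map_zero, neg_zero]
    obtain ⟨f', hf'⟩ := mkTower_ker E hH P₀ 0 i _ h1
    rw [← hf', Category.assoc, (mkTower E hH P₀).hcs, comp_zero]


/-- Main construction: any pair `(Z, z)` maps to a pair `(X, a)` which represents `H` on the
family `E`. -/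
theorem exists_rep_on_E (hH : IsCoh H) (hSE : SumEpi E)
    (hshift : ∀ i, ∃ i', Nonempty ((shiftFunctor D (1 : ℤ)).obj (E i') ≅ E i))
    (Z : D) (z : H.obj (op Z)) :
    ∃ (X : D) (a : H.obj (op X)) (j : Z ⟶ X), pb H j a = z ∧
      ∀ i, Function.Bijective (fun f : E i ⟶ X => pb H f a) := by
  -- the starting point
  let J := Σ i : ι, H.obj (op (E i))
  let F : J → D := fun p => E p.1
  obtain ⟨bP, hbP⟩ := (hH.prod F).2 (fun p => p.2)
  replace hbP : ∀ p : J, pb H (Sigma.ι F p) bP = p.2 := fun p => congrFun hbP p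
  let z₀ : H.obj (op (Z ⊞ ∐ F)) := pb H biprod.fst z + pb H biprod.snd bP
  let P₀ : Pt H := ⟨Z ⊞ ∐ F, z₀⟩
  let T := mkTower E hH P₀
  have hta0 : ta E hH P₀ 0 = z₀ := rfl
  have hsurj : ∀ (i : ι) (b : H.obj (op (E i))),
      ∃ f : E i ⟶ T.X 0, pb H f (ta E hH P₀ 0) = b := by
    intro i b
    refine ⟨(Sigma.ι F ⟨i, b⟩ ≫ biprod.inr : E i ⟶ Z ⊞ ∐ F), ?_⟩
    rw [hta0]
    show pb H (Sigma.ι F ⟨i, b⟩ ≫ biprod.inr) (pb H biprod.fst z + pb H biprod.snd bP) = b
    rw [map_add, ← pb_comp, ← pb_comp, Category.assoc, Category.assoc, biprod.inr_fst,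
      biprod.inr_snd, comp_zero, pb_zero, Category.comp_id, hbP, zero_add]
  have hG : T.Good E := mkTower_good E hH P₀ hsurj
  have hker0 : ∀ (i : ι) (f : E i ⟶ T.X 0), pb H f (ta E hH P₀ 0) = 0 → f ≫ T.s 0 = 0 := by
    intro i f hf
    obtain ⟨f', hf'⟩ := mkTower_ker E hH P₀ 0 i f hf
    rw [← hf', Category.assoc, T.hcs, comp_zero]
  -- the homotopy colimit
  obtain ⟨Xh, π, δ, hT⟩ := distinguished_cocone_triangle (𝟙 _ - T.S)
  obtain ⟨A, hA⟩ := (hH.prodN T.X).2 (fun n => ta E hH P₀ n)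
  replace hA : ∀ n, pb H (Sigma.ι T.X n) A = ta E hH P₀ n := fun n => congrFun hA n
  have hA0 : pb H (𝟙 _ - T.S) A = 0 := by
    apply (hH.prodN T.X).1
    funext n
    show pb H (Sigma.ι T.X n) (pb H (𝟙 _ - T.S) A) = pb H (Sigma.ι T.X n) 0
    rw [← pb_comp, Preadditive.comp_sub, Category.comp_id, Tower.ι_S, pb_sub, pb_comp, hA, hA,
      mkTower_pb_s, sub_self, map_zero]
  obtain ⟨a, ha⟩ : ∃ a : H.obj (op Xh), pb H π a = A := hH.exact _ hT A hA0
  have hιπ : ∀ n, pb H (Sigma.ι T.X n ≫ π) a = ta E hH P₀ n := by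
    intro n
    rw [pb_comp, ha, hA]
  have hSπ : ∀ n, T.s n ≫ Sigma.ι T.X (n + 1) ≫ π = Sigma.ι T.X n ≫ π := by
    intro n
    have h0 : (𝟙 _ - T.S) ≫ π = 0 := comp_distTriang_mor_zero₁₂ _ hT
    have := congrArg (fun x => Sigma.ι T.X n ≫ x) h0
    simp only [Preadditive.sub_comp, Preadditive.comp_sub, Category.id_comp, comp_zero,
      Tower.ι_S_assoc] at this
    exact (sub_eq_zero.1 this).symm
  have hskπ : ∀ n, T.sk n ≫ Sigma.ι T.X n ≫ π = Sigma.ι T.X 0 ≫ π := by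
    intro n
    induction n with
    | zero => simp
    | succ n ih => rw [Tower.sk_succ, Category.assoc, hSπ, ih]
  let inl₀ : Z ⟶ T.X 0 := (biprod.inl : Z ⟶ Z ⊞ ∐ F)
  have hinl₀ : pb H inl₀ (ta E hH P₀ 0) = z := by
    rw [hta0]
    show pb H (biprod.inl : Z ⟶ Z ⊞ ∐ F) (pb H biprod.fst z + pb H biprod.snd bP) = z
    rw [map_add, ← pb_comp, ← pb_comp, biprod.inl_fst, biprod.inl_snd, pb_id, pb_zero, add_zero]
  refine ⟨Xh, a, inl₀ ≫ Sigma.ι T.X 0 ≫ π, ?_, fun i => ⟨?_, ?_⟩⟩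
  · rw [pb_comp, hιπ, hinl₀]
  · -- injectivity
    intro α₁ α₂ hα
    suffices h : ∀ α : E i ⟶ Xh, pb H α a = 0 → α = 0 by
      have := h (α₁ - α₂) (by rw [pb_sub]; exact sub_eq_zero.2 hα)
      exact sub_eq_zero.1 this
    intro α hα
    -- step 1: `α ≫ δ = 0`
    have h1 : α ≫ δ = 0 := by
      obtain ⟨i', ⟨e⟩⟩ := hshift i
      let g : E i' ⟶ ∐ T.X := (shiftFunctor D (1 : ℤ)).preimage (e.hom ≫ α ≫ δ)
      have hg : (shiftFunctor D (1 : ℤ)).map g = e.hom ≫ α ≫ δ := Functor.map_preimage _ _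
      have hg0 : g ≫ (𝟙 _ - T.S) = 0 := by
        apply (shiftFunctor D (1 : ℤ)).map_injective
        rw [Functor.map_comp, hg, Functor.map_zero, Category.assoc, Category.assoc]
        have : δ ≫ (shiftFunctor D (1 : ℤ)).map (𝟙 _ - T.S) = 0 := comp_distTriang_mor_zero₃₁ _ hT
        rw [this, comp_zero, comp_zero]
      have hg1 : g = 0 := hG.eq_zero_of_comp_one_sub_S hSE g hg0
      rw [hg1, Functor.map_zero] at hg
      have : e.inv ≫ e.hom ≫ α ≫ δ = 0 := by rw [← hg, comp_zero]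
      simpa using this
    -- step 2: lift to the coproduct
    obtain ⟨α', hα'⟩ : ∃ α' : E i ⟶ ∐ T.X, α = α' ≫ π := Triangle.coyoneda_exact₃ _ hT α h1
    -- step 3: lift to the split tower
    obtain ⟨α'', hα''⟩ : ∃ α'' : E i ⟶ ∐ T.X', α'' ≫ T.Φ = α' := hSE _ _ _ hG.eepi i α'
    let σ' : ∐ T.X' ⟶ T.X 0 := Sigma.desc (fun _ => biprod.fst)
    have hΦπ : T.Φ ≫ π = σ' ≫ Sigma.ι T.X 0 ≫ π := by
      refine Sigma.hom_ext _ _ (fun n => ?_)
      rw [Tower.ι_Φ_assoc, Sigma.ι_desc_assoc]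
      apply biprod.hom_ext'
      · rw [Tower.φ, biprod.inl_desc_assoc, biprod.inl_fst_assoc, hskπ]
      · rw [Tower.φ, biprod.inr_desc_assoc, biprod.inr_fst_assoc, zero_comp, ← hSπ,
          reassoc_of% T.hcs n, zero_comp]
    have hw : pb H (α'' ≫ σ') (ta E hH P₀ 0) = 0 := by
      rw [← hιπ 0, ← pb_comp, Category.assoc, ← hΦπ, ← Category.assoc, hα'', ← hα', hα]
    have hw' := hker0 i _ hw
    rw [hα', ← hα'', Category.assoc, hΦπ, ← hSπ 0, ← Category.assoc, ← Category.assoc, hw',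
      zero_comp]
  · -- surjectivity
    intro b
    obtain ⟨f, hf⟩ := hsurj i b
    exact ⟨f ≫ Sigma.ι T.X 0 ≫ π, by
      show pb H (f ≫ Sigma.ι T.X 0 ≫ π) a = b
      rw [pb_comp, hιπ, hf]⟩

end Construction


section Representable

variable [Preadditive D] [HasZeroObject D] [HasShift D ℤ]
  [∀ n : ℤ, (shiftFunctor D n).Additive] [Pretriangulated D]

variable {ι : Type v} {E : ι → D}

lemma isIso_of_bijective_on_E
    (hshift : ∀ i, ∃ i', Nonempty ((shiftFunctor D (1 : ℤ)).obj (E i') ≅ E i))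
    (hgen : ∀ X : D, ¬ IsZero X → ∃ (i : ι) (f : E i ⟶ X), f ≠ 0)
    {X X' : D} (j : X ⟶ X') (hj : ∀ i, Function.Bijective (fun u : E i ⟶ X => u ≫ j)) :
    IsIso j := by
  obtain ⟨C, w, r, hT⟩ := distinguished_cocone_triangle j
  have hC : IsZero C := by
    by_contra hC
    obtain ⟨i, f, hf⟩ := hgen C hC
    apply hf
    have h1 : f ≫ r = 0 := by
      obtain ⟨i', ⟨e⟩⟩ := hshift i
      let g : E i' ⟶ X := (shiftFunctor D (1 : ℤ)).preimage (e.hom ≫ f ≫ r)
      have hg : (shiftFunctor D (1 : ℤ)).map g = e.hom ≫ f ≫ r := Functor.map_preimage _ _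
      have hg0 : g ≫ j = 0 := by
        apply (shiftFunctor D (1 : ℤ)).map_injective
        rw [Functor.map_comp, hg, Functor.map_zero, Category.assoc, Category.assoc]
        have : r ≫ (shiftFunctor D (1 : ℤ)).map j = 0 := comp_distTriang_mor_zero₃₁ _ hT
        rw [this, comp_zero, comp_zero]
      have hg1 : g = 0 := (hj i').1 (by simpa using hg0)
      rw [hg1, Functor.map_zero] at hg
      have : e.inv ≫ e.hom ≫ f ≫ r = 0 := by rw [← hg, comp_zero]
      simpa using this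
    obtain ⟨f', hf'⟩ : ∃ f' : E i ⟶ X', f = f' ≫ w := Triangle.coyoneda_exact₃ _ hT f h1
    obtain ⟨f'', hf''⟩ := (hj i).2 f'
    dsimp at hf''
    rw [hf', ← hf'', Category.assoc]
    have : j ≫ w = 0 := comp_distTriang_mor_zero₁₂ _ hT
    rw [this, comp_zero]
  exact (Triangle.isZero₃_iff_isIso₁ _ hT).1 hC

variable [HasCoproducts.{v} D] [HasColimitsOfShape (Discrete ℕ) D]
variable {H : Dᵒᵖ ⥤ AddCommGrpCat.{v}} [H.Additive]

theorem bijective_of_isCoh (hH : IsCoh H) (hSE : SumEpi E)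
    (hshift : ∀ i, ∃ i', Nonempty ((shiftFunctor D (1 : ℤ)).obj (E i') ≅ E i))
    (hgen : ∀ X : D, ¬ IsZero X → ∃ (i : ι) (f : E i ⟶ X), f ≠ 0) :
    ∃ (X : D) (a : H.obj (op X)), ∀ Y : D, Function.Bijective (fun f : Y ⟶ X => pb H f a) := by
  obtain ⟨X, a, -, -, hX⟩ := exists_rep_on_E E hH hSE hshift (0 : D) 0
  -- a compatible map between two solutions is an isomorphism
  have key : ∀ {X' : D} (a' : H.obj (op X')) (hX' : ∀ i, Function.Bijective
      (fun f : E i ⟶ X' => pb H f a')) (j : X ⟶ X') (hj : pb H j a' = a), IsIso j := by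
    intro X' a' hX' j hj
    apply isIso_of_bijective_on_E hshift hgen
    intro i
    have : (fun f : E i ⟶ X' => pb H f a') ∘ (fun u : E i ⟶ X => u ≫ j) =
        (fun f : E i ⟶ X => pb H f a) := by
      funext u
      show pb H (u ≫ j) a' = pb H u a
      rw [pb_comp, hj]
    have hb : Function.Bijective
        ((fun f : E i ⟶ X' => pb H f a') ∘ (fun u : E i ⟶ X => u ≫ j)) := by
      rw [this]; exact hX i
    exact (Function.Bijective.of_comp_iff' (hX' i) _).1 hb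
  refine ⟨X, a, fun Y => ⟨?_, ?_⟩⟩
  · -- injectivity
    intro f g hfg
    dsimp at hfg
    obtain ⟨C, w, r, hT⟩ := distinguished_cocone_triangle (f - g)
    have h0 : pb H (f - g) a = 0 := by rw [pb_sub, hfg, sub_self]
    obtain ⟨c, hc⟩ : ∃ c : H.obj (op C), pb H w c = a := hH.exact _ hT a h0
    obtain ⟨X'', a'', k, hk, hX''⟩ := exists_rep_on_E E hH hSE hshift C c
    have : IsIso (w ≫ k) := key a'' hX'' (w ≫ k) (by rw [pb_comp, hk, hc])
    have h1 : (f - g) ≫ w = 0 := comp_distTriang_mor_zero₁₂ _ hT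
    have h2 : (f - g) ≫ (w ≫ k) = 0 := by rw [← Category.assoc, h1, zero_comp]
    have h3 : f - g = 0 := by
      have := congrArg (fun x => x ≫ inv (w ≫ k)) h2
      simpa using this
    exact sub_eq_zero.1 h3
  · -- surjectivity
    intro y
    let z : H.obj (op (X ⊞ Y)) := pb H biprod.fst a + pb H biprod.snd y
    obtain ⟨X', a', j, hj, hX'⟩ := exists_rep_on_E E hH hSE hshift (X ⊞ Y) z
    have hinl : pb H (biprod.inl ≫ j) a' = a := by
      rw [pb_comp, hj]
      show pb H biprod.inl (pb H biprod.fst a + pb H biprod.snd y) = a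
      rw [map_add, ← pb_comp, ← pb_comp, biprod.inl_fst, biprod.inl_snd, pb_id, pb_zero, add_zero]
    have hinr : pb H (biprod.inr ≫ j) a' = y := by
      rw [pb_comp, hj]
      show pb H biprod.inr (pb H biprod.fst a + pb H biprod.snd y) = y
      rw [map_add, ← pb_comp, ← pb_comp, biprod.inr_fst, biprod.inr_snd, pb_id, pb_zero, zero_add]
    have : IsIso (biprod.inl ≫ j) := key a' hX' _ hinl
    refine ⟨(biprod.inr ≫ j) ≫ inv (biprod.inl ≫ j), ?_⟩
    show pb H ((biprod.inr ≫ j) ≫ inv (biprod.inl ≫ j)) a = y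
    have h4 : pb H (inv (biprod.inl ≫ j)) a = a' := by
      rw [← hinl, ← pb_comp, IsIso.inv_hom_id, pb_id]
    rw [pb_comp, h4, hinr]

theorem isRepresentable_of_isCoh (hH : IsCoh H) (hSE : SumEpi E)
    (hshift : ∀ i, ∃ i', Nonempty ((shiftFunctor D (1 : ℤ)).obj (E i') ≅ E i))
    (hgen : ∀ X : D, ¬ IsZero X → ∃ (i : ι) (f : E i ⟶ X), f ≠ 0) :
    (H ⋙ forget AddCommGrpCat.{v}).IsRepresentable := by
  obtain ⟨X, a, hXa⟩ := bijective_of_isCoh hH hSE hshift hgen
  refine ⟨X, ⟨{ homEquiv := fun {Y} => Equiv.ofBijective _ (hXa Y)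
                homEquiv_comp := ?_ }⟩⟩
  intro Y Y' f g
  show pb H (f ≫ g) a = pb H f (pb H g a)
  exact pb_comp H f g a

end Representable


section FromFunctor

open CategoryTheory.Pretriangulated.Opposite

variable [Preadditive D] [HasZeroObject D] [HasShift D ℤ]
  [∀ n : ℤ, (shiftFunctor D n).Additive] [Pretriangulated D]
  [HasCoproducts.{v} D] [HasColimitsOfShape (Discrete ℕ) D]

lemma isCoh_of_isHomological (H : Dᵒᵖ ⥤ AddCommGrpCat.{v}) [H.IsHomological]
    [∀ (κ : Type v), PreservesLimitsOfShape (Discrete κ) H] : IsCoh H where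
  exact T hT y hy := by
    have h := H.map_distinguished_op_exact T hT
    rw [ShortComplex.ab_exact_iff] at h
    exact h y hy
  prod X := turnsCoprod_of_preserves H X
  prodN X := by
    have : PreservesLimitsOfShape (Discrete ℕ) H :=
      preservesLimitsOfShape_of_equiv (Discrete.equivalence Equiv.ulift.{v, 0}) H
    exact turnsCoprod_of_preserves H X

end FromFunctor


section ShiftClosure

variable [Preadditive D] [HasZeroObject D] [HasShift D ℤ]
  [∀ n : ℤ, (shiftFunctor D n).Additive] [Pretriangulated D]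
  [HasColimitsOfShape (Discrete ℕ) D]

variable {ι : Type w} (E : ι → D)

/-- the family of all shifts of the members of `E` -/
def shiftFamily : ι × ℤ → D := fun p => (shiftFunctor D p.2).obj (E p.1)

lemma shiftFamily_hshift : ∀ p : ι × ℤ, ∃ p' : ι × ℤ,
    Nonempty ((shiftFunctor D (1 : ℤ)).obj (shiftFamily E p') ≅ shiftFamily E p) := by
  rintro ⟨i, m⟩
  exact ⟨⟨i, m - 1⟩, ⟨((shiftFunctorAdd' D (m - 1) 1 m (by omega)).app (E i)).symm⟩⟩

lemma shiftFamily_hgen (h1 : ∀ X : D, ¬ IsZero X → ∃ (i : ι) (f : E i ⟶ X), f ≠ 0) :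
    ∀ X : D, ¬ IsZero X → ∃ (p : ι × ℤ) (f : shiftFamily E p ⟶ X), f ≠ 0 := by
  intro X hX
  obtain ⟨i, f, hf⟩ := h1 X hX
  refine ⟨⟨i, 0⟩, (shiftFunctorZero D ℤ).hom.app (E i) ≫ f, fun h => hf ?_⟩
  rw [← cancel_epi ((shiftFunctorZero D ℤ).hom.app (E i)), comp_zero]
  exact h

variable {E}

lemma sumEpi_of_factorization
    (h2 : ∀ (X : ℕ → D) (i : ι) (α : E i ⟶ ∐ X), ∃ (j : ℕ → ι) (β : ∀ n, E (j n) ⟶ X n)
      (γ : E i ⟶ ∐ (fun n => E (j n))), α = γ ≫ Limits.Sigma.map β) : SumEpi E := by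
  intro Y Z f hf i u
  obtain ⟨j, β, γ, rfl⟩ := h2 Z i u
  choose β' hβ' using fun n => hf n (j n) (β n)
  refine ⟨γ ≫ Limits.Sigma.map β', ?_⟩
  rw [Category.assoc, Sigma.map_comp_map]
  congr 2
  funext n
  exact hβ' n

lemma eepi_map_of_adjunction {L R : D ⥤ D} (adj : L ⊣ R) {Y Z : D} (f : Y ⟶ Z)
    (h : EEpi (fun i => L.obj (E i)) f) : EEpi E (R.map f) := by
  intro i u
  obtain ⟨u', hu'⟩ := h i ((adj.homEquiv _ _).symm u)
  refine ⟨adj.homEquiv _ _ u', ?_⟩
  rw [← Adjunction.homEquiv_naturality_right, hu', Equiv.apply_symm_apply]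

lemma eepi_of_map_of_adjunction {L R : D ⥤ D} (adj : L ⊣ R) {Y Z : D} (f : Y ⟶ Z)
    (h : EEpi E (R.map f)) : EEpi (fun i => L.obj (E i)) f := by
  intro i u
  obtain ⟨u', hu'⟩ := h i (adj.homEquiv _ _ u)
  refine ⟨(adj.homEquiv _ _).symm u', ?_⟩
  apply (adj.homEquiv _ _).injective
  rw [Adjunction.homEquiv_naturality_right, Equiv.apply_symm_apply, hu']

lemma eepi_map_sigmaMap (G : D ⥤ D) [PreservesColimitsOfShape (Discrete ℕ) G] {Y Z : ℕ → D}
    (f : ∀ n, Y n ⟶ Z n) (h : EEpi E (Limits.Sigma.map (fun n => G.map (f n)))) :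
    EEpi E (G.map (Limits.Sigma.map f)) := by
  have hnat : sigmaComparison G Y ≫ G.map (Limits.Sigma.map f) =
      Limits.Sigma.map (fun n => G.map (f n)) ≫ sigmaComparison G Z := by
    refine Sigma.hom_ext _ _ (fun n => ?_)
    rw [ι_comp_sigmaComparison_assoc, ← G.map_comp, Sigma.ι_map, Sigma.ι_map_assoc,
      ι_comp_sigmaComparison, G.map_comp]
  intro i u
  obtain ⟨u'', hu''⟩ := h i (u ≫ inv (sigmaComparison G Z))
  refine ⟨u'' ≫ sigmaComparison G Y, ?_⟩
  rw [Category.assoc, hnat, reassoc_of% hu'', IsIso.inv_hom_id, Category.comp_id]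

lemma sumEpi_shiftFamily (hSE : SumEpi E) : SumEpi (shiftFamily E) := by
  intro Y Z f hf
  have key : ∀ m : ℤ, EEpi (fun i => (shiftFunctor D m).obj (E i)) (Limits.Sigma.map f) := by
    intro m
    have adj : shiftFunctor D m ⊣ shiftFunctor D (-m) := (shiftEquiv D m).toAdjunction
    apply eepi_of_map_of_adjunction adj
    apply eepi_map_sigmaMap
    apply hSE
    intro n
    apply eepi_map_of_adjunction adj
    intro i u
    exact hf n ⟨i, m⟩ u
  rintro ⟨i, m⟩ u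
  exact key m i u

end ShiftClosure

end Groth.Agent.Lib.Brown
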