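import Groth.Agent.Lib.Brown
import Mathlib.CategoryTheory.Triangulated.Functor
import Mathlib.CategoryTheory.Adjunction.PartialAdjoint
import Mathlib.CategoryTheory.Preadditive.Yoneda.Basic

/-!
# Adjoint functor theorem from Brown representability

Helper library of helper31.
-/

set_option autoImplicit false
set_option linter.unusedSectionVars false

namespace Groth.Agent.Lib.BrownAdjoint

open CategoryTheory Limits Pretriangulated Opposite ZeroObject Groth.Agent.Lib.Brown

universe v u u'

variable {D : Type u} [Category.{v} D] [Preadditive D] [HasZeroObject D] [HasShift D ℤ]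
  [∀ n : ℤ, (shiftFunctor D n).Additive] [Pretriangulated D]
  [HasCoproducts.{v} D] [HasColimitsOfShape (Discrete ℕ) D]
  {D' : Type u'} [Category.{v} D'] [Preadditive D'] [HasZeroObject D'] [HasShift D' ℤ]
  [∀ n : ℤ, (shiftFunctor D' n).Additive] [Pretriangulated D']
  (F : D ⥤ D') [F.CommShift ℤ] [F.IsTriangulated]

/-- the functor `X ↦ Hom(F X, Y)` -/
noncomputable abbrev homFunctor (Y : D') : Dᵒᵖ ⥤ AddCommGrpCat.{v} :=
  F.op ⋙ preadditiveYoneda.obj Y

lemma pb_homFunctor (Y : D') {X X' : D} (f : X ⟶ X') (a : F.obj X' ⟶ Y) :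
    pb (homFunctor F Y) f a = F.map f ≫ a := rfl

lemma turnsCoprod_homFunctor (Y : D') {κ : Type*} (X : κ → D) [HasCoproduct X]
    [PreservesColimit (Discrete.functor X) F] : TurnsCoprod (homFunctor F Y) X := by
  have hc : IsColimit (Cofan.mk (F.obj (∐ X)) (fun i => F.map (Sigma.ι X i)) :
      Cofan fun i => F.obj (X i)) :=
    isColimitOfHasCoproductOfPreservesColimit F X
  constructor
  · intro y y' hyy'
    refine Cofan.IsColimit.hom_ext hc _ _ (fun i => ?_)
    exact congrFun hyy' i
  · intro b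
    refine ⟨Cofan.IsColimit.desc hc b, ?_⟩
    funext i
    exact Cofan.IsColimit.fac hc b i

lemma isCoh_homFunctor [∀ (κ : Type v), PreservesColimitsOfShape (Discrete κ) F] (Y : D') :
    IsCoh (homFunctor F Y) where
  exact T hT y hy :=by
    obtain ⟨z, hz⟩ := Triangle.yoneda_exact₂ _ (F.map_distinguished T hT) y hy
    exact ⟨z, hz.symm⟩
  prod X := turnsCoprod_homFunctor F Y X
  prodN X := by
    have : PreservesColimitsOfShape (Discrete ℕ) F :=
      preservesColimitsOfShape_of_equiv (Discrete.equivalence Equiv.ulift.{v, 0}) F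
    exact turnsCoprod_homFunctor F Y X

theorem isLeftAdjoint_of_brown {ι : Type v} {E : ι → D} (hSE : SumEpi E)
    (hshift : ∀ i, ∃ i', Nonempty ((shiftFunctor D (1 : ℤ)).obj (E i') ≅ E i))
    (hgen : ∀ X : D, ¬ IsZero X → ∃ (i : ι) (f : E i ⟶ X), f ≠ 0)
    [∀ (κ : Type v), PreservesColimitsOfShape (Discrete κ) F] : F.IsLeftAdjoint := by
  apply Functor.isLeftAdjoint_of_rightAdjointObjIsDefined_eq_top
  ext Y
  simp only [Pi.top_apply, Prop.top_eq_true, iff_true]
  rw [Functor.rightAdjointObjIsDefined_iff]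
  obtain ⟨X, a, hXa⟩ := bijective_of_isCoh (H := homFunctor F Y) (isCoh_homFunctor F Y) hSE hshift hgen
  refine ⟨X, ⟨{ homEquiv := fun {Z} => Equiv.ofBijective _ (hXa Z)
                homEquiv_comp := ?_ }⟩⟩
  intro Z Z' f g
  show F.map (f ≫ g) ≫ a = F.map f ≫ (F.map g ≫ a)
  rw [F.map_comp, Category.assoc]

end Groth.Agent.Lib.BrownAdjoint
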