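import Groth.Agent.Lib.Brown
import Groth.Agent.S0475

/-!
# Compactly generated categories satisfy the hypotheses of Brown representability

Helper library of helper31.
-/

set_option autoImplicit false
set_option linter.unusedSectionVars false

namespace Groth.Agent.Lib.BrownCompact

open CategoryTheory Limits Pretriangulated Opposite ZeroObject Groth.Agent.Lib.Brown CohDer

universe v u

variable {D : Type u} [Category.{v} D] [Preadditive D] [HasZeroObject D] [HasShift D ℤ]
  [∀ n : ℤ, (shiftFunctor D n).Additive] [Pretriangulated D]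
  [HasCoproducts.{v} D]

lemma hasCoproductsNat : HasColimitsOfShape (Discrete ℕ) D :=
  hasColimitsOfShape_of_equivalence (Discrete.equivalence Equiv.ulift.{v, 0})

variable [HasColimitsOfShape (Discrete ℕ) D]

/-- maps from a compact object to a countable coproduct are finite sums of maps to the summands -/
lemma FF_nat_eq_top {K : D} (hK : IsCompactObject K) (Z : ℕ → D) :
    Groth.Agent.S0475.FF K (X := fun i : ULift.{v} ℕ => Z i.down) (fun i => Sigma.ι Z i.down) = ⊤ := by
  apply Groth.Agent.S0475.FF_eq_top_of_isColimit hK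
  refine Cofan.IsColimit.mk _ (fun s => Sigma.desc (fun n => s.inj ⟨n⟩)) ?_ ?_
  · intro s i
    simp [Cofan.inj]
  · intro s m hm
    refine Sigma.hom_ext (f := Z) _ _ (fun n => ?_)
    have := hm ⟨n⟩
    simpa [Cofan.inj] using this

lemma sumEpi_of_compact {ι : Type*} {E : ι → D} (hE : ∀ i, IsCompactObject (E i)) : SumEpi E := by
  intro Y Z f hf i u
  have hu : u ∈ Groth.Agent.S0475.FF (E i) (X := fun i : ULift.{v} ℕ => Z i.down)
      (fun i => Sigma.ι Z i.down) := by
    rw [FF_nat_eq_top (hE i) Z]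
    trivial
  induction hu using AddSubgroup.closure_induction with
  | mem x hx =>
    obtain ⟨n, g, rfl⟩ := hx
    obtain ⟨g', hg'⟩ := hf n.down i g
    refine ⟨g' ≫ Sigma.ι Y n.down, ?_⟩
    rw [Category.assoc, Sigma.ι_map, reassoc_of% hg']
  | zero => exact ⟨0, zero_comp⟩
  | add x y _ _ hx hy =>
    obtain ⟨x', hx'⟩ := hx
    obtain ⟨y', hy'⟩ := hy
    exact ⟨x' + y', by rw [Preadditive.add_comp, hx', hy']⟩
  | neg x _ hx =>
    obtain ⟨x', hx'⟩ := hx
    exact ⟨-x', by rw [Preadditive.neg_comp, hx']⟩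

lemma isCompactObject_shift {K : D} (hK : IsCompactObject K) (n : ℤ) :
    IsCompactObject ((shiftFunctor D n).obj K) :=
  Groth.Agent.S0475.isCompactObject_of_functor hK (shiftFunctor D (-n))
    ((shiftFunctorCompIsoId D n (-n) (by simp)).symm.app K)

lemma hgen_of_generates {ι : Type*} {E : ι → D} (hE : Generates E) :
    ∀ X : D, ¬ IsZero X → ∃ (p : ι × ℤ) (f : shiftFamily E p ⟶ X), f ≠ 0 := by
  intro X hX
  by_contra hcon
  push Not at hcon
  apply hX
  apply hE X
  intro i n f
  -- transport `f : E i ⟶ X⟦n⟧` to a map `(E i)⟦-n⟧ ⟶ X`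
  have adj : shiftFunctor D (-n) ⊣ shiftFunctor D (- -n) := (shiftEquiv D (-n)).toAdjunction
  have hnn : - -n = n := neg_neg n
  have h0 : ∀ f : (shiftFunctor D (-n)).obj (E i) ⟶ X, f = 0 := fun f => hcon ⟨i, -n⟩ f
  have key : ∀ (m : ℤ) (hm : m = n) (adj : shiftFunctor D (-n) ⊣ shiftFunctor D m)
      (f : E i ⟶ (shiftFunctor D n).obj X), f = 0 := by
    intro m hm adj f
    subst hm
    have := h0 ((adj.homEquiv _ _).symm f)
    have h2 := congrArg (adj.homEquiv _ _) this
    rw [Equiv.apply_symm_apply] at h2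
    rw [h2, Adjunction.homEquiv_unit, Functor.map_zero, comp_zero]
  exact key _ hnn adj f

/-- the hypotheses of Brown representability for a compactly generated category -/
theorem exists_family_of_isCompactlyGenerated (hD : IsCompactlyGenerated D) :
    ∃ (κ : Type v) (E : κ → D), SumEpi E ∧
      (∀ i, ∃ i', Nonempty ((shiftFunctor D (1 : ℤ)).obj (E i') ≅ E i)) ∧
      (∀ X : D, ¬ IsZero X → ∃ (i : κ) (f : E i ⟶ X), f ≠ 0) := by
  obtain ⟨ι, E, hE, hgen⟩ := hD
  refine ⟨ι × ℤ, shiftFamily E, sumEpi_of_compact ?_, shiftFamily_hshift E, hgen_of_generates hgen⟩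
  rintro ⟨i, n⟩
  exact isCompactObject_shift (hE i) n

end Groth.Agent.Lib.BrownCompact
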