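import Groth.Agent.Lib.KInjMain31
import Groth.Agent.Lib.DProd31

/-!
# Maps out of small complexes in the derived category of a Grothendieck abelian category
(helper31)

`exists_small_factorization`: any morphism `Q(F) ⟶ Q(M)` in `D(C)` with `F` a `κ`-generated complex
factors through `Q(n)` for a chain map `n : N ⟶ M` with `N` `κ`-generated.
-/

set_option autoImplicit false

universe w u

open CategoryTheory Limits Cardinal

namespace Groth.Agent.BrownDA31

open Groth.Agent.KInjGen31 Groth.Agent.KInjKey31 Groth.Agent.KInjW31 Groth.Agent.KInjAcyc31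
  Groth.Agent.KInjMain31 Groth.Agent.DProd31 DerivedCategory

variable {C : Type u} [Category.{w} C] [Abelian C] [IsGrothendieckAbelian.{w} C]
  [HasDerivedCategory.{w} C]
variable {G : CochainComplex C ℤ} {κ : Cardinal.{w}}

set_option backward.isDefEq.respectTransparency false in
lemma exists_small_factorization (H : Hyp G κ) {F M : CochainComplex C ℤ} (hF : IsGen G κ F)
    (α : (Q.obj F : DerivedCategory C) ⟶ Q.obj M) :
    ∃ (N : CochainComplex C ℤ) (_ : IsGen G κ N) (n : N ⟶ M)
      (α' : (Q.obj F : DerivedCategory C) ⟶ Q.obj N), α = α' ≫ Q.map n := by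
  obtain ⟨I, t, hI, ht, hmono, -⟩ := exists_kinjective_resolution M
  have : Mono t := HomologicalComplex.mono_of_mono_f _ hmono
  have : IsIso (Q.map t : (Q.obj M : DerivedCategory C) ⟶ _) := by
    rw [isIso_Q_map_iff_quasiIso]; exact ht
  obtain ⟨f, hf⟩ := exists_Q_map_eq F I (α ≫ Q.map t)
  have hQ : (cokernel t).Acyclic := (quasiIso_iff_acyclic_cokernel t).1 ht
  obtain ⟨F₁, a, b, hF₁, hba, hacyc⟩ := exists_acyclic_image H hQ ⟨F, f ≫ cokernel.π t, hF⟩
  dsimp at b hba
  obtain ⟨I', hI', π₁, hπ₁⟩ := hF₁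
  obtain ⟨J, hJ, h, e, he, hfac⟩ := exists_lift H.sep H.inf H.sub (cokernel.π t) hI' (π₁ ≫ a)
  -- the enlarged small complex
  let F₂ : CochainComplex C ℤ := F ⊞ (∐ fun _ : J => G)
  have hF₂ : IsGen G κ F₂ := isGen_biprod H.inf hF (isGen_sigma_self hJ)
  let g : F₂ ⟶ I := biprod.desc f h
  let c : F₂ ⟶ F₁ := biprod.desc b (e ≫ π₁)
  have hc : Epi c := by
    have : Epi (e ≫ π₁) := epi_comp _ _
    have h1 : biprod.inr ≫ c = e ≫ π₁ := by simp [c]
    exact epi_of_epi_fac h1
  have hgc : g ≫ cokernel.π t = c ≫ a := by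
    dsimp only [g, c]
    apply biprod.hom_ext'
    · simp [hba]
    · simp [hfac]
  have hY : (Abelian.image a).Acyclic :=
    hacyc (Abelian.factorThruImage a) (Abelian.image.ι a) (Abelian.image.fac a)
  let ε : F₂ ⟶ Abelian.image a := c ≫ Abelian.factorThruImage a
  have hε : Epi ε := epi_comp _ _
  have hS : (ShortComplex.mk (kernel.ι ε) ε (kernel.condition ε)).ShortExact :=
    { exact := ShortComplex.exact_kernel ε }
  have hν : monoQis C (kernel.ι ε) := monoQis_of_shortExact hS hY
  have hνq : QuasiIso (kernel.ι ε) := ((monoQis_iff _).1 hν).2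
  have : IsIso (Q.map (kernel.ι ε) : (Q.obj (kernel ε) : DerivedCategory C) ⟶ _) := by
    rw [isIso_Q_map_iff_quasiIso]; exact hνq
  have hN : IsGen G κ (kernel ε) := hF₂.of_mono H.sep H.inf H.endo (kernel.ι ε)
  -- the map `N ⟶ M`
  have hz : (kernel.ι ε ≫ g) ≫ cokernel.π t = 0 := by
    have h1 : c ≫ a = ε ≫ Abelian.image.ι a := by
      dsimp only [ε]
      rw [Category.assoc, Abelian.image.fac]
    rw [Category.assoc, hgc, h1, kernel.condition_assoc, zero_comp]
  have hex : (ShortComplex.mk t (cokernel.π t) (cokernel.condition t)).Exact :=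
    ShortComplex.exact_cokernel t
  let n : kernel ε ⟶ M := hex.lift (kernel.ι ε ≫ g) hz
  have hn : n ≫ t = kernel.ι ε ≫ g := hex.lift_f _ _
  refine ⟨kernel ε, hN, n, Q.map (biprod.inl : F ⟶ F₂) ≫ inv (Q.map (kernel.ι ε)), ?_⟩
  rw [← cancel_mono (Q.map t), ← hf, Category.assoc, Category.assoc, ← Q.map_comp, hn, Q.map_comp,
    IsIso.inv_hom_id_assoc, ← Q.map_comp]
  congr 1
  simp [g]

end Groth.Agent.BrownDA31
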