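import Mathlib.Algebra.Homology.HomologySequenceLemmas
import Mathlib.Algebra.Homology.HomologicalComplexLimits
import Mathlib.Algebra.Homology.GrothendieckAbelian
import Mathlib.Algebra.Homology.HomotopyCategory.Shift
import Mathlib.CategoryTheory.Abelian.GrothendieckAxioms.Colim

/-!
# Acyclic complexes: short exact sequences and colimits (helper31)
-/

set_option autoImplicit false

universe w v u

open CategoryTheory Limits

namespace Groth.Agent.KInjAcyc31

variable {C : Type u} [Category.{v} C] [Abelian C]

/-- In a short exact sequence of cochain complexes with acyclic third term, the first map is a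
quasi-isomorphism. -/
lemma quasiIso_f_of_acyclic_X₃ {S : ShortComplex (CochainComplex C ℤ)} (hS : S.ShortExact)
    (h : S.X₃.Acyclic) : QuasiIso S.f := by
  have hz : ∀ i, IsZero (S.X₃.homology i) := fun i =>
    (HomologicalComplex.exactAt_iff_isZero_homology _ _).1 (h i)
  rw [quasiIso_iff]
  intro i
  rw [quasiIsoAt_iff_isIso_homologyMap]
  have : Epi (HomologicalComplex.homologyMap S.f i) :=
    (hS.homology_exact₂ i).epi_f ((hz i).eq_of_tgt _ _)
  have : Mono (HomologicalComplex.homologyMap S.f i) :=
    (hS.homology_exact₁ (i - 1) i (by simp)).mono_g ((hz (i - 1)).eq_of_src _ _)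
  exact isIso_of_mono_of_epi _

/-- For a monomorphism of cochain complexes, being a quasi-isomorphism is equivalent to the
cokernel being acyclic. -/
lemma quasiIso_iff_acyclic_cokernel {K L : CochainComplex C ℤ} (f : K ⟶ L) [Mono f] :
    QuasiIso f ↔ (cokernel f).Acyclic := by
  have hS : (ShortComplex.mk f (cokernel.π f) (cokernel.condition f)).ShortExact :=
    { exact := ShortComplex.exact_cokernel f }
  exact ⟨fun h => hS.acyclic_X₃ h, fun h => quasiIso_f_of_acyclic_X₃ hS h⟩

/-- exactness in a functor category can be checked pointwise -/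
lemma exact_of_pointwise {J : Type*} [Category* J] (S : ShortComplex (J ⥤ C))
    (h : ∀ j, (S.map ((evaluation J C).obj j)).Exact) : S.Exact := by
  simp only [ShortComplex.exact_iff_isZero_homology] at h ⊢
  rw [IsZero.iff_id_eq_zero]
  ext j
  apply (IsZero.of_iso (h j) (S.mapHomologyIso ((evaluation J C).obj j)).symm).eq_of_src

/-- A colimit of acyclic complexes of shape `J` is acyclic when colimits of shape `J` are exact. -/
lemma acyclic_of_isColimit {J : Type*} [Category* J] [HasColimitsOfShape J C]
    [HasExactColimitsOfShape J C] (D : J ⥤ CochainComplex C ℤ) (hD : ∀ j, (D.obj j).Acyclic)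
    {c : Cocone D} (hc : IsColimit c) : c.pt.Acyclic := by
  intro n
  rw [HomologicalComplex.exactAt_iff' _ (n - 1) n (n + 1) (by simp) (by simp)]
  let S : ShortComplex (J ⥤ C) :=
    ShortComplex.mk (X₁ := D ⋙ HomologicalComplex.eval C _ (n - 1))
      (X₂ := D ⋙ HomologicalComplex.eval C _ n) (X₃ := D ⋙ HomologicalComplex.eval C _ (n + 1))
      { app := fun j => (D.obj j).d (n - 1) n
        naturality := fun j j' φ => (D.map φ).comm _ _ }
      { app := fun j => (D.obj j).d n (n + 1)
        naturality := fun j j' φ => (D.map φ).comm _ _ }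
      (by ext j; exact (D.obj j).d_comp_d _ _ _)
  have hS : S.Exact := exact_of_pointwise S (fun j => by
    have := (hD j) n
    rw [HomologicalComplex.exactAt_iff' _ (n - 1) n (n + 1) (by simp) (by simp)] at this
    exact this)
  exact colim.exact_mapShortComplex (S := S) hS
    (isColimitOfPreserves (HomologicalComplex.eval C _ (n - 1)) hc)
    (isColimitOfPreserves (HomologicalComplex.eval C _ n) hc)
    (isColimitOfPreserves (HomologicalComplex.eval C _ (n + 1)) hc)
    (c.pt.d (n - 1) n) (c.pt.d n (n + 1))
    (fun j => (c.ι.app j).comm _ _) (fun j => (c.ι.app j).comm _ _)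

end Groth.Agent.KInjAcyc31
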