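import Mathlib.CategoryTheory.Abelian.GrothendieckAxioms.Colim
import Mathlib.CategoryTheory.Preadditive.LiftToFinset
import Mathlib.CategoryTheory.Limits.Connected
import Mathlib.CategoryTheory.Filtered.Connected
import Groth.Agent.Lib.KInjAcyc31

/-!
# In an AB5 category the canonical map `∐ Y ⟶ ∏ Y` is a monomorphism (helper31)

Consequently a morphism to a coproduct all of whose components vanish is zero.
-/

set_option autoImplicit false

universe w v u

open CategoryTheory Limits

namespace Groth.Agent.SigmaMono31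

variable {𝒜 : Type u} [Category.{v} 𝒜] [Abelian 𝒜] {J : Type w} [DecidableEq J] (Y : J → 𝒜)
  [HasCoproduct Y] [HasProduct Y]
  [HasColimitsOfShape (Finset (Discrete J)) 𝒜] [HasExactColimitsOfShape (Finset (Discrete J)) 𝒜]

open CoproductsFromFiniteFiltered

/-- the canonical map from the coproduct to the product -/
noncomputable def θ : ∐ Y ⟶ ∏ᶜ Y := Pi.lift (fun k => Sigma.π Y k)

lemma ι_θ_π (k l : J) : Sigma.ι Y k ≫ θ Y ≫ Pi.π Y l = Sigma.ι Y k ≫ Sigma.π Y l := by
  simp [θ]

/-- the finite stage -/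
noncomputable abbrev stage (S : Finset (Discrete J)) : 𝒜 := ∐ (fun x : S => Y x.1.as)

/-- the inclusion of the finite stage -/
noncomputable def ιS (S : Finset (Discrete J)) : stage Y S ⟶ ∐ Y :=
  Sigma.desc (fun s : S => Sigma.ι Y s.1.as)

/-- the retraction of a finite stage -/
noncomputable def retr (S : Finset (Discrete J)) : ∏ᶜ Y ⟶ stage Y S :=
  ∑ x : S, Pi.π Y x.1.as ≫ Sigma.ι (fun x : S => Y x.1.as) x

set_option backward.isDefEq.respectTransparency false in
lemma ι_θ_retr (S : Finset (Discrete J)) : ιS Y S ≫ θ Y ≫ retr Y S = 𝟙 _ := by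
  apply Sigma.hom_ext
  intro x
  dsimp only [ιS]
  rw [Sigma.ι_desc_assoc, Category.comp_id]
  dsimp only [retr]
  rw [Preadditive.comp_sum, Preadditive.comp_sum]
  rw [Finset.sum_eq_single x]
  · have : Sigma.ι Y x.1.as ≫ θ Y ≫ Pi.π Y x.1.as = 𝟙 _ := by
      rw [ι_θ_π, Sigma.ι_π_eq_id]
    rw [reassoc_of% this]
  · intro y _ hy
    have : Sigma.ι Y x.1.as ≫ θ Y ≫ Pi.π Y y.1.as = 0 := by
      rw [ι_θ_π, Sigma.ι_π_of_ne]
      intro h
      apply hy
      ext
      exact h.symm
    rw [reassoc_of% this, zero_comp]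
  · intro h
    exact absurd (Finset.mem_univ x) h

instance mono_θ : Mono (θ Y) := by
  let D := liftToFinsetObj (Discrete.functor Y)
  let c : Cocone D := finiteSubcoproductsCocone Y
  have hc : IsColimit c := isColimitFiniteSubproductsCocone Y
  let α : D ⟶ (Functor.const _).obj (∏ᶜ Y) :=
    { app := fun S => c.ι.app S ≫ θ Y
      naturality := fun S T f => by
        dsimp
        rw [Category.comp_id, ← Category.assoc, c.w] }
  have hα : ∀ S, Mono (α.app S) := fun S =>
    have h1 : α.app S ≫ retr Y S = 𝟙 (stage Y S) :=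
      (Category.assoc _ _ _).trans (ι_θ_retr Y S)
    have h2 : Mono (𝟙 (stage Y S)) := inferInstance
    @mono_of_mono_fac _ _ _ _ _ _ _ _ h2 h1
  have : Mono α := NatTrans.mono_of_mono_app α
  have := IsFiltered.isConnected (Finset (Discrete J))
  exact colim.map_mono' α hc (isColimitConstCocone _ _) (θ Y) (fun S =>
    (Category.comp_id _).symm)

/-- A morphism to a coproduct all of whose components vanish is zero. -/
lemma eq_zero_of_comp_π {X : 𝒜} (x : X ⟶ ∐ Y) (h : ∀ k, x ≫ Sigma.π Y k = 0) : x = 0 := by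
  rw [← cancel_mono (θ Y), zero_comp]
  apply Pi.hom_ext
  intro k
  rw [Category.assoc, zero_comp]
  dsimp only [θ]
  rw [Pi.lift_π, h]

section Factor

variable {M : J → 𝒜} [HasCoproductsOfShape J 𝒜] [HasProductsOfShape J 𝒜]
  [HasExactColimitsOfShape (Discrete J) 𝒜]

lemma sigmaMap_π {M M' : J → 𝒜} (c : ∀ k, M k ⟶ M' k) (k : J) :
    Limits.Sigma.map c ≫ Sigma.π M' k = Sigma.π M k ≫ c k := by
  apply Sigma.hom_ext
  intro l
  rw [Sigma.ι_map_assoc]
  by_cases h : l = k
  · subst h
    rw [Sigma.ι_π_eq_id, Sigma.ι_π_eq_id_assoc, Category.comp_id]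
  · rw [Sigma.ι_π_of_ne _ h, Sigma.ι_π_of_ne_assoc _ h, comp_zero, zero_comp]

/-- A morphism to a coproduct factors through the coproduct of the images of its components. -/
lemma exists_factor_through_images {N : 𝒜} (n : N ⟶ ∐ M) :
    ∃ g : N ⟶ ∐ (fun k => Abelian.image (n ≫ Sigma.π M k)),
      g ≫ Limits.Sigma.map (fun k => Abelian.image.ι (n ≫ Sigma.π M k)) = n := by
  let E : J → 𝒜 := fun k => Abelian.image (n ≫ Sigma.π M k)
  let m : ∀ k, E k ⟶ M k := fun k => Abelian.image.ι (n ≫ Sigma.π M k)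
  let Y : J → 𝒜 := fun k => cokernel (m k)
  let c : ∀ k, M k ⟶ Y k := fun k => cokernel.π (m k)
  let S : ShortComplex (Discrete J ⥤ 𝒜) :=
    ShortComplex.mk (Discrete.natTrans (fun k => m k.as) : Discrete.functor E ⟶ Discrete.functor M)
      (Discrete.natTrans (fun k => c k.as) : Discrete.functor M ⟶ Discrete.functor Y) (by
        ext ⟨k⟩
        exact cokernel.condition (m k))
  have hS : S.Exact := Groth.Agent.KInjAcyc31.exact_of_pointwise S (fun ⟨k⟩ =>
    ShortComplex.exact_cokernel (m k))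
  have hmono : Mono S.f := by
    have : ∀ k, Mono (S.f.app k) := fun ⟨k⟩ => inferInstanceAs (Mono (m k))
    exact NatTrans.mono_of_mono_app S.f
  have hex := colim.exact_mapShortComplex (S := S) hS (colimit.isColimit _)
    (colimit.isColimit _) (colimit.isColimit _)
    (Limits.Sigma.map m) (Limits.Sigma.map c)
    (fun ⟨k⟩ => Sigma.ι_map m k) (fun ⟨k⟩ => Sigma.ι_map c k)
  have hm : Mono (Limits.Sigma.map m) :=
    colim.map_mono' S.f (colimit.isColimit _) (colimit.isColimit _) (Limits.Sigma.map m)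
      (fun ⟨k⟩ => Sigma.ι_map m k)
  have hz : n ≫ Limits.Sigma.map c = 0 := by
    apply eq_zero_of_comp_π Y
    intro k
    rw [Category.assoc, sigmaMap_π, ← Category.assoc, ← Abelian.image.fac (n ≫ Sigma.π M k),
      Category.assoc]
    change _ ≫ m k ≫ cokernel.π (m k) = 0
    rw [cokernel.condition, comp_zero]
  haveI : Mono (colim.mapShortComplex S (colimit.isColimit _) (colimit.cocone _)
      (colimit.cocone _) (Limits.Sigma.map m) (Limits.Sigma.map c)
      (fun ⟨k⟩ => Sigma.ι_map m k) (fun ⟨k⟩ => Sigma.ι_map c k)).f := hm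
  exact ⟨hex.lift n hz, hex.lift_f n hz⟩

end Factor

end Groth.Agent.SigmaMono31
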