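import Groth.Agent.Lib.BrownDA31
import Groth.Agent.Lib.SigmaMono31
import Groth.Agent.Lib.DerivedCoprod

/-!
# A perfectly generating family for `D(C)`, `C` Grothendieck abelian (helper31)

The family of (classes of) `κ`-generated complexes satisfies the hypotheses of Brown
representability in the form of Krause (`S0974`).
-/

set_option autoImplicit false

universe w u

open CategoryTheory Limits Cardinal ZeroObject

namespace Groth.Agent.BrownDA31

open Groth.Agent.KInjGen31 Groth.Agent.KInjKey31 Groth.Agent.KInjW31 Groth.Agent.KInjAcyc31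
  Groth.Agent.KInjMain31 Groth.Agent.KInjStep31 Groth.Agent.DProd31 DerivedCategory
  Groth.Agent.SigmaMono31

variable {C : Type u} [Category.{w} C] [Abelian C] [IsGrothendieckAbelian.{w} C]
  [HasDerivedCategory.{w} C]
variable {G : CochainComplex C ℤ} {κ : Cardinal.{w}} {T : Type w}

variable (G T) in
/-- the index type of the family -/
abbrev Idx : Type w := Shrink.{w} (Subobject (E₀ G T))

/-- the quotient of `E₀` by a subobject -/
noncomputable def quot (A : Subobject (E₀ G T)) : CochainComplex C ℤ := cokernel A.arrow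

/-- the family of complexes: quotients of `E₀` -/
noncomputable def famCx (i : Idx G T) : CochainComplex C ℤ :=
  quot ((equivShrink (Subobject (E₀ G T))).symm i)

/-- the family of objects of the derived category -/
noncomputable def fam (i : Idx G T) : DerivedCategory C := Q.obj (famCx i)

lemma isGen_quot (hT : #T = κ) (A : Subobject (E₀ G T)) : IsGen G κ (quot A) := by
  unfold quot
  have h := isGen_sigma_self (G := G) (I := T) hT.le
  exact h.of_epi (cokernel.π A.arrow)

lemma isGen_famCx (hT : #T = κ) (i : Idx G T) : IsGen G κ (famCx i) :=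
  isGen_quot hT _

lemma exists_idx (hT : #T = κ) {F : CochainComplex C ℤ} (hF : IsGen G κ F) :
    ∃ i : Idx G T, Nonempty (famCx i ≅ F) := by
  obtain ⟨I, hI, π, hπ⟩ := hF
  obtain ⟨r, hr⟩ := exists_epi_sigma_of_le (G := G) (J := I) (T := T) (by rw [hT]; exact hI)
  let ρ : E₀ G T ⟶ F := r ≫ π
  have hρ : Epi ρ := epi_comp _ _
  obtain ⟨i, hi⟩ := (equivShrink (Subobject (E₀ G T))).symm.surjective (kernelSubobject ρ)
  refine ⟨i, ?_⟩
  unfold famCx
  rw [hi]
  unfold quot
  let S : ShortComplex (CochainComplex C ℤ) :=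
    ShortComplex.mk (kernelSubobject ρ).arrow ρ (kernelSubobject_arrow_comp ρ)
  have hS : S.Exact := by
    refine (ShortComplex.exact_iff_of_iso (ShortComplex.isoMk (kernelSubobjectIso ρ) (Iso.refl _)
      (Iso.refl _) ?_ ?_ :
      S ≅ ShortComplex.mk (kernel.ι ρ) ρ (kernel.condition ρ))).2 (ShortComplex.exact_kernel ρ)
    · dsimp [S]
      simp
    · dsimp [S]
      simp
  have : Epi S.g := hρ
  exact ⟨IsColimit.coconePointUniqueUpToIso (cokernelIsCokernel (kernelSubobject ρ).arrow)
    hS.gIsCokernel⟩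

section

variable {D : Type*} [Category* D] {J : Type*} (F : CochainComplex C ℤ ⥤ D)

lemma sigmaComparison_natural {E M : J → CochainComplex C ℤ} [HasCoproduct E] [HasCoproduct M]
    [HasCoproduct fun k => F.obj (E k)] [HasCoproduct fun k => F.obj (M k)]
    (m : ∀ k, E k ⟶ M k) :
    sigmaComparison F E ≫ F.map (Limits.Sigma.map m) =
      Limits.Sigma.map (fun k => F.map (m k)) ≫ sigmaComparison F M := by
  apply Sigma.hom_ext
  intro k
  rw [ι_comp_sigmaComparison_assoc, ← F.map_comp, Sigma.ι_map, Sigma.ι_map_assoc,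
    ι_comp_sigmaComparison, F.map_comp]

end

instance : HasExactColimitsOfShape (Finset (Discrete ℕ)) (CochainComplex C ℤ) := by
  have : HasFilteredColimitsOfSize.{0, 0} (CochainComplex C ℤ) :=
    hasFilteredColimitsOfSize_shrink.{0, 0, w, w}
  have : AB5OfSize.{0, 0} (CochainComplex C ℤ) := AB5OfSize_shrink.{0, 0, w, w} _
  exact AB5OfSize.ofShape _

set_option backward.isDefEq.respectTransparency false in
/-- The factorization property (Krause's condition) for the family of `κ`-generated complexes. -/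
theorem fam_h2 (H : Hyp G κ) (hT : #T = κ) (X : ℕ → DerivedCategory C) (i : Idx G T)
    (α : fam i ⟶ ∐ X) :
    ∃ (j : ℕ → Idx G T) (β : ∀ n, fam (j n) ⟶ X n) (γ : fam i ⟶ ∐ (fun n => fam (j n))),
      α = γ ≫ Limits.Sigma.map β := by
  let M : ℕ → CochainComplex C ℤ := fun k => Q.objPreimage (X k)
  let e : ∀ k, (Q.obj (M k) : DerivedCategory C) ≅ X k := fun k => Q.objObjPreimageIso (X k)
  -- transport `α` to a map to `Q(∐ M)`
  let ψ : (∐ X) ⟶ (Q.obj (∐ M) : DerivedCategory C) :=
    Limits.Sigma.map (fun k => (e k).inv) ≫ sigmaComparison Q M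
  have hψ : IsIso ψ := by
    have : IsIso (Limits.Sigma.map (fun k => (e k).inv)) :=
      ⟨Limits.Sigma.map (fun k => (e k).hom), by simp [Sigma.map_comp_map],
        by simp [Sigma.map_comp_map]⟩
    dsimp only [ψ]
    infer_instance
  obtain ⟨N, hN, n, α', hα'⟩ := exists_small_factorization H (isGen_famCx hT i) (α ≫ ψ)
  obtain ⟨g, hg⟩ := exists_factor_through_images n
  let E' : ℕ → CochainComplex C ℤ := fun k => Abelian.image (n ≫ Sigma.π M k)
  let m : ∀ k, E' k ⟶ M k := fun k => Abelian.image.ι (n ≫ Sigma.π M k)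
  have hE' : ∀ k, IsGen G κ (E' k) := fun k => hN.of_epi (Abelian.factorThruImage _)
  choose j φj using fun k => exists_idx (T := T) hT (hE' k)
  let φ : ∀ k, famCx (j k) ≅ E' k := fun k => (φj k).some
  refine ⟨j, fun k => Q.map (φ k).hom ≫ Q.map (m k) ≫ (e k).hom,
    α' ≫ Q.map g ≫ inv (sigmaComparison Q E') ≫ Limits.Sigma.map (fun k => Q.map (φ k).inv), ?_⟩
  rw [← cancel_mono ψ, hα']
  simp only [Category.assoc]
  congr 1
  dsimp only [ψ]
  have h1 : Limits.Sigma.map (fun k => Q.map (φ k).inv) ≫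
      Limits.Sigma.map (fun k => Q.map (φ k).hom ≫ Q.map (m k) ≫ (e k).hom) ≫
        Limits.Sigma.map (fun k => (e k).inv) =
      Limits.Sigma.map (fun k => (Q.map (m k) : (Q.obj (E' k) : DerivedCategory C) ⟶ _)) := by
    rw [Sigma.map_comp_map, Sigma.map_comp_map]
    congr 1
    funext k
    rw [Category.assoc, Category.assoc, Iso.hom_inv_id, Category.comp_id, ← Q.map_comp_assoc,
      Iso.inv_hom_id, Q.map_id, Category.id_comp]
  rw [reassoc_of% h1, ← sigmaComparison_natural Q m, IsIso.inv_hom_id_assoc, ← Q.map_comp, hg]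

section Separator

variable {𝒜 : Type*} [Category* 𝒜] [Abelian 𝒜] {U : 𝒜}

/-- Exactness can be tested on morphisms from a separator. -/
lemma exact_of_separator_lifts (hU : IsSeparator U) (S : ShortComplex 𝒜)
    (h : ∀ u : U ⟶ S.X₂, u ≫ S.g = 0 → ∃ v : U ⟶ S.X₁, v ≫ S.f = u) : S.Exact := by
  rw [S.exact_iff_epi_toCycles]
  apply Preadditive.epi_of_cancel_zero
  intro Z c hc
  apply hU.def
  intro w
  rw [comp_zero]
  obtain ⟨v, hv⟩ := h (w ≫ S.iCycles) (by simp)
  have : w = v ≫ S.toCycles := by
    rw [← cancel_mono S.iCycles, Category.assoc, S.toCycles_i, hv]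
  rw [this, Category.assoc, hc, comp_zero]

end Separator

/-- the sphere complexes -/
noncomputable abbrev sphere (C : Type u) [Category.{w} C] [Abelian C] [IsGrothendieckAbelian.{w} C]
    (n : ℤ) : CochainComplex C ℤ :=
  (HomologicalComplex.single C (ComplexShape.up ℤ) n).obj (separator C)

/-- The family of `κ`-generated complexes detects nonzero objects of `D(C)`. -/
theorem fam_h1 (H : Hyp G κ) (hT : #T = κ) (hsph : ∀ n : ℤ, IsGen G κ (sphere C n))
    (X : DerivedCategory C) (hX : ¬ IsZero X) :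
    ∃ (i : Idx G T) (f : fam i ⟶ X), f ≠ 0 := by
  by_contra! hall
  apply hX
  obtain ⟨I, t, hI, ht, -, -⟩ := exists_kinjective_resolution (Q.objPreimage X)
  have : IsIso (Q.map t : (Q.obj (Q.objPreimage X) : DerivedCategory C) ⟶ _) := by
    rw [isIso_Q_map_iff_quasiIso]; exact ht
  let e : X ≅ Q.obj I := (Q.objObjPreimageIso X).symm ≪≫ asIso (Q.map t)
  suffices hac : I.Acyclic by
    have hq : QuasiIso (0 : I ⟶ 0) :=
      Groth.Agent.KInjRlp31.quasiIso_of_acyclic _ hac (by
        intro n
        exact HomologicalComplex.ExactAt.of_isZero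
          ((HomologicalComplex.eval C (ComplexShape.up ℤ) n).map_isZero (Limits.isZero_zero _)))
    have : IsIso (Q.map (0 : I ⟶ 0) : (Q.obj I : DerivedCategory C) ⟶ _) := by
      rw [isIso_Q_map_iff_quasiIso]; exact hq
    exact IsZero.of_iso (Q.map_isZero (Limits.isZero_zero _))
      (e ≪≫ asIso (Q.map (0 : I ⟶ 0)))
  intro n
  rw [HomologicalComplex.exactAt_iff' _ (n - 1) n (n + 1) (by simp) (by simp)]
  apply exact_of_separator_lifts (isSeparator_separator C)
  intro u hu
  let û : sphere C n ⟶ I := HomologicalComplex.mkHomFromSingle u (fun k hk => by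
    obtain rfl : n + 1 = k := hk
    exact hu)
  obtain ⟨i, ⟨φ⟩⟩ := exists_idx (T := T) hT (hsph n)
  have h0 : Q.map φ.hom ≫ Q.map û ≫ e.inv = 0 := hall i _
  have h1 : (Q.map û : (Q.obj (sphere C n) : DerivedCategory C) ⟶ _) = 0 := by
    have : IsIso (Q.map φ.hom : (Q.obj (famCx i) : DerivedCategory C) ⟶ _) := inferInstance
    rw [← cancel_epi (Q.map φ.hom), ← cancel_mono e.inv, Category.assoc, h0, comp_zero, zero_comp]
  obtain ⟨h⟩ := homotopy_of_Q_map_eq (sphere C n) I û 0 (by rw [h1, Q.map_zero])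
  have hc := h.comm n
  rw [dNext_eq _ (show (ComplexShape.up ℤ).Rel n (n + 1) by simp),
    prevD_eq _ (show (ComplexShape.up ℤ).Rel (n - 1) n by simp),
    HomologicalComplex.single_obj_d, zero_comp, zero_add, HomologicalComplex.zero_f, add_zero,
    HomologicalComplex.mkHomFromSingle_f] at hc
  let v : separator C ⟶ I.X (n - 1) :=
    (HomologicalComplex.singleObjXSelf (ComplexShape.up ℤ) n (separator C)).inv ≫ h.hom n (n - 1)
  refine ⟨v, ?_⟩
  change v ≫ I.d (n - 1) n = u
  dsimp only [v]
  rw [Category.assoc, ← hc, Iso.inv_hom_id_assoc]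

end Groth.Agent.BrownDA31
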