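import Groth.Agent.Lib.BrownDAFam31
import Groth.Agent.Lib.Brown
import Groth.Agent.Lib.BrownAdjoint

/-!
# Brown representability for `D(C)`, `C` Grothendieck abelian (helper31)
-/

set_option autoImplicit false

universe w u u'

open CategoryTheory Limits Cardinal

namespace Groth.Agent.BrownDA31

open Groth.Agent.KInjGen31 Groth.Agent.KInjKey31 Groth.Agent.KInjMain31 DerivedCategory

variable (C : Type u) [Category.{w} C] [Abelian C] [IsGrothendieckAbelian.{w} C]

lemma exists_hyp_sphere : ∃ (G : CochainComplex C ℤ) (κ : Cardinal.{w}),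
    Hyp G κ ∧ ∀ n : ℤ, IsGen G κ (sphere C n) := by
  let G := separator (CochainComplex C ℤ)
  have hG : IsSeparator G := isSeparator_separator _
  let κ : Cardinal.{w} :=
    max ℵ₀ (max #(Shrink.{w} (Subobject G)) (max #(G ⟶ G) (max #(G ⟶ G⟦(1 : ℤ)⟧)
      (Cardinal.sum fun n : ℤ => #(G ⟶ sphere C n)))))
  refine ⟨G, κ, ⟨hG, le_max_left _ _, ?_, ?_, ?_⟩, ?_⟩
  · exact le_trans (le_max_left _ _) (le_max_right _ _)
  · exact le_trans (le_trans (le_max_left _ _) (le_max_right _ _)) (le_max_right _ _)
  · refine ⟨(G ⟶ G⟦(1 : ℤ)⟧), ?_, Sigma.desc (fun f => f), ?_⟩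
    · exact le_trans (le_trans (le_trans (le_max_left _ _) (le_max_right _ _))
        (le_max_right _ _)) (le_max_right _ _)
    · apply epi_sigma_desc
      intro Z u hu
      exact hG.def _ _ (fun h => by rw [hu h, comp_zero])
  · intro n
    refine ⟨(G ⟶ sphere C n), ?_, Sigma.desc (fun f => f), ?_⟩
    · refine le_trans (Cardinal.le_sum (fun n : ℤ => #(G ⟶ sphere C n)) n) ?_
      exact le_trans (le_trans (le_trans (le_max_right _ _) (le_max_right _ _))
        (le_max_right _ _)) (le_max_right _ _)
    · apply epi_sigma_desc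
      intro Z u hu
      exact hG.def _ _ (fun h => by rw [hu h, comp_zero])

variable {C} [HasDerivedCategory.{w} C]

open Groth.Agent.Lib.Brown CategoryTheory.Pretriangulated.Opposite in
/-- **Brown representability** for the derived category of a Grothendieck abelian category. -/
theorem isRepresentable (H : (DerivedCategory C)ᵒᵖ ⥤ AddCommGrpCat.{w}) [H.IsHomological]
    [∀ (ι : Type w), PreservesLimitsOfShape (Discrete ι) H] :
    (H ⋙ forget AddCommGrpCat.{w}).IsRepresentable := by
  obtain ⟨G, κ, hH, hsph⟩ := exists_hyp_sphere C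
  exact isRepresentable_of_isCoh (E := shiftFamily (fam (G := G) (T := κ.out)))
    (isCoh_of_isHomological H)
    (sumEpi_shiftFamily (sumEpi_of_factorization (fam_h2 hH (Cardinal.mk_out κ))))
    (shiftFamily_hshift _)
    (shiftFamily_hgen _ (fam_h1 hH (Cardinal.mk_out κ) hsph))

open Groth.Agent.Lib.Brown Groth.Agent.Lib.BrownAdjoint in
/-- A coproduct preserving triangulated functor out of `D(C)` has a right adjoint. -/
theorem isLeftAdjoint {D : Type u'} [Category.{w} D] [Preadditive D] [HasZeroObject D]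
    [HasShift D ℤ] [∀ n : ℤ, (shiftFunctor D n).Additive] [Pretriangulated D]
    (F : DerivedCategory C ⥤ D) [F.CommShift ℤ] [F.IsTriangulated]
    [∀ (ι : Type w), PreservesColimitsOfShape (Discrete ι) F] : F.IsLeftAdjoint := by
  obtain ⟨G, κ, hH, hsph⟩ := exists_hyp_sphere C
  exact isLeftAdjoint_of_brown F (E := shiftFamily (fam (G := G) (T := κ.out)))
    (sumEpi_shiftFamily (sumEpi_of_factorization (fam_h2 hH (Cardinal.mk_out κ))))
    (shiftFamily_hshift _)
    (shiftFamily_hgen _ (fam_h1 hH (Cardinal.mk_out κ) hsph))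

end Groth.Agent.BrownDA31
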