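import Groth.Agent.Lib.BrownCompact
import Groth.Prelude.Def_DerLim

/-!
# Homotopy colimits and compact objects in triangulated categories

Helper library of helper31.
-/

set_option autoImplicit false
set_option linter.unusedSectionVars false

namespace Groth.Agent.Lib.Hocolim31

open CategoryTheory Limits Pretriangulated Opposite ZeroObject Groth.Agent.Lib.Brown CohDer

universe v u

variable {D : Type u} [Category.{v} D] [Preadditive D]

section Sequences

variable (K : ℕ → D) (f : ∀ n, K n ⟶ K (n + 1))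

/-- iterated transition maps -/
def fk : ∀ (n k : ℕ), K n ⟶ K (n + k)
  | _, 0 => 𝟙 _
  | n, k + 1 => fk n k ≫ f (n + k)

lemma fk_zero (n : ℕ) : fk K f n 0 = 𝟙 _ := rfl
lemma fk_succ (n k : ℕ) : fk K f n (k + 1) = fk K f n k ≫ f (n + k) := rfl

variable {K f}

lemma fk_comp_cocone {L : D} (i : ∀ n, K n ⟶ L) (hi : ∀ n, f n ≫ i (n + 1) = i n) (n k : ℕ) :
    fk K f n k ≫ i (n + k) = i n := by
  induction k with
  | zero => simp [fk_zero]
  | succ k ih =>
    rw [fk_succ, Category.assoc]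
    have := hi (n + k)
    show fk K f n k ≫ f (n + k) ≫ i (n + k + 1) = i n
    rw [this, ih]

end Sequences


section CompactNat

variable [HasZeroObject D] [HasShift D ℤ] [∀ n : ℤ, (shiftFunctor D n).Additive] [Pretriangulated D]
  [HasCoproducts.{v} D] [HasColimitsOfShape (Discrete ℕ) D]

/-- membership in the finite-sum subgroup for countable coproducts -/
noncomputable abbrev FFN (C : D) (Z : ℕ → D) : AddSubgroup (C ⟶ ∐ Z) :=
  Groth.Agent.S0475.FF C (X := fun i : ULift.{v} ℕ => Z i.down) (fun i => Sigma.ι Z i.down)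

lemma mem_FFN_of_compact {C : D} (hC : IsCompactObject C) (Z : ℕ → D) (g : C ⟶ ∐ Z) :
    g ∈ FFN C Z := by
  rw [FFN, Groth.Agent.Lib.BrownCompact.FF_nat_eq_top hC Z]
  trivial

lemma eq_sum_of_mem_FFN {C : D} {Z : ℕ → D} {g : C ⟶ ∐ Z} (hg : g ∈ FFN C Z) :
    ∃ N, ∀ M, N ≤ M → g = ∑ n ∈ Finset.range M, (g ≫ Sigma.π Z n) ≫ Sigma.ι Z n := by
  induction hg using AddSubgroup.closure_induction with
  | mem x hx =>
    obtain ⟨⟨k⟩, h, rfl⟩ := hx
    refine ⟨k + 1, fun M hM => ?_⟩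
    show h ≫ Sigma.ι Z k = ∑ n ∈ Finset.range M, ((h ≫ Sigma.ι Z k) ≫ Sigma.π Z n) ≫ Sigma.ι Z n
    rw [Finset.sum_eq_single k]
    · simp
    · intro b _ hb
      rw [Category.assoc, Category.assoc, Sigma.ι_π_of_ne_assoc _ (Ne.symm hb), zero_comp, comp_zero]
    · intro hk
      exact absurd (Finset.mem_range.2 (by omega)) hk
  | zero => exact ⟨0, fun M _ => by simp⟩
  | add x y _ _ hx hy =>
    obtain ⟨N, hN⟩ := hx
    obtain ⟨N', hN'⟩ := hy
    refine ⟨max N N', fun M hM => ?_⟩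
    conv_lhs => rw [hN M (le_trans (le_max_left _ _) hM), hN' M (le_trans (le_max_right _ _) hM)]
    rw [← Finset.sum_add_distrib]
    refine Finset.sum_congr rfl (fun n _ => ?_)
    simp [Preadditive.add_comp]
  | neg x _ hx =>
    obtain ⟨N, hN⟩ := hx
    refine ⟨N, fun M hM => ?_⟩
    conv_lhs => rw [hN M hM]
    rw [← Finset.sum_neg_distrib]
    refine Finset.sum_congr rfl (fun n _ => ?_)
    simp [Preadditive.neg_comp]

lemma eq_zero_of_comp_π_eq_zero {C : D} (hC : IsCompactObject C) {Z : ℕ → D} (g : C ⟶ ∐ Z)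
    (hg : ∀ m, g ≫ Sigma.π Z m = 0) : g = 0 := by
  obtain ⟨N, hN⟩ := eq_sum_of_mem_FFN (mem_FFN_of_compact hC Z g)
  rw [hN N le_rfl]
  exact Finset.sum_eq_zero (fun n _ => by rw [hg, zero_comp])

end CompactNat

section Hocolim

open DerLim

variable [HasColimitsOfShape (Discrete ℕ) D]
variable {K : ℕ → D} {f : ∀ n, K n ⟶ K (n + 1)}

@[reassoc]
lemma ι_shiftMap (n : ℕ) : Sigma.ι K n ≫ shiftMap K f = f n ≫ Sigma.ι K (n + 1) := by
  simp [shiftMap]

lemma shiftMap_π_zero : shiftMap K f ≫ Sigma.π K 0 = 0 := by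
  refine Sigma.hom_ext _ _ (fun n => ?_)
  rw [ι_shiftMap_assoc, comp_zero, Sigma.ι_π_of_ne _ (Nat.succ_ne_zero n), comp_zero]

lemma shiftMap_π_succ (m : ℕ) : shiftMap K f ≫ Sigma.π K (m + 1) = Sigma.π K m ≫ f m := by
  refine Sigma.hom_ext _ _ (fun n => ?_)
  rw [ι_shiftMap_assoc]
  by_cases h : n = m
  · subst h
    rw [Sigma.ι_π_eq_id, Sigma.ι_π_eq_id_assoc, Category.comp_id]
  · rw [Sigma.ι_π_of_ne _ (by omega), Sigma.ι_π_of_ne_assoc _ h, comp_zero, zero_comp]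

lemma comp_π_eq_zero_of_comp_one_sub_shiftMap {A : D} (g : A ⟶ ∐ K)
    (hg : g ≫ (𝟙 _ - shiftMap K f) = 0) (m : ℕ) : g ≫ Sigma.π K m = 0 := by
  have hg' : g = g ≫ shiftMap K f := by
    rw [Preadditive.comp_sub, Category.comp_id, sub_eq_zero] at hg
    exact hg
  induction m with
  | zero => rw [hg', Category.assoc, shiftMap_π_zero, comp_zero]
  | succ m ih => rw [hg', Category.assoc, shiftMap_π_succ, reassoc_of% ih, zero_comp]

variable [HasZeroObject D] [HasShift D ℤ] [∀ n : ℤ, (shiftFunctor D n).Additive] [Pretriangulated D]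

lemma IsHocolim.cocone {L : D} {i : ∀ n, K n ⟶ L} (hL : IsHocolim K f L i) (n : ℕ) :
    f n ≫ i (n + 1) = i n := by
  obtain ⟨c, hc⟩ := hL
  have h0 : (𝟙 _ - shiftMap K f) ≫ Sigma.desc i = 0 := comp_distTriang_mor_zero₁₂ _ hc
  have := congrArg (fun x => Sigma.ι K n ≫ x) h0
  simp only [Preadditive.sub_comp, Preadditive.comp_sub, Category.id_comp, comp_zero,
    ι_shiftMap_assoc, Sigma.ι_desc] at this
  exact (sub_eq_zero.1 this).symm

variable [HasCoproducts.{v} D]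

/-- a map from a compact object to a homotopy colimit factors through a stage -/
theorem exists_factor_stage {L : D} {i : ∀ n, K n ⟶ L} (hL : IsHocolim K f L i) {C : D}
    (hC : IsCompactObject C) (φ : C ⟶ L) : ∃ (n : ℕ) (φ' : C ⟶ K n), φ' ≫ i n = φ := by
  have hcoc := IsHocolim.cocone hL
  obtain ⟨c, hc⟩ := hL
  -- step 1: `φ ≫ c = 0`
  have h1 : φ ≫ c = 0 := by
    have hC' : IsCompactObject ((shiftFunctor D (-1 : ℤ)).obj C) :=
      Groth.Agent.Lib.BrownCompact.isCompactObject_shift hC (-1)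
    let e : (shiftFunctor D (1 : ℤ)).obj ((shiftFunctor D (-1 : ℤ)).obj C) ≅ C :=
      (shiftFunctorCompIsoId D (-1 : ℤ) 1 (by simp)).app C
    let g : (shiftFunctor D (-1 : ℤ)).obj C ⟶ ∐ K :=
      (shiftFunctor D (1 : ℤ)).preimage (e.hom ≫ φ ≫ c)
    have hg : (shiftFunctor D (1 : ℤ)).map g = e.hom ≫ φ ≫ c := Functor.map_preimage _ _
    have hg0 : g ≫ (𝟙 _ - shiftMap K f) = 0 := by
      apply (shiftFunctor D (1 : ℤ)).map_injective
      rw [Functor.map_comp, hg, Functor.map_zero, Category.assoc, Category.assoc]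
      have : c ≫ (shiftFunctor D (1 : ℤ)).map (𝟙 _ - shiftMap K f) = 0 :=
        comp_distTriang_mor_zero₃₁ _ hc
      rw [this, comp_zero, comp_zero]
    have hg1 : g = 0 := eq_zero_of_comp_π_eq_zero hC' g
      (comp_π_eq_zero_of_comp_one_sub_shiftMap g hg0)
    rw [hg1, Functor.map_zero] at hg
    have : e.inv ≫ e.hom ≫ φ ≫ c = 0 := by rw [← hg, comp_zero]
    simpa using this
  obtain ⟨φ', hφ'⟩ : ∃ φ' : C ⟶ ∐ K, φ = φ' ≫ Sigma.desc i := Triangle.coyoneda_exact₃ _ hc φ h1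
  -- step 2: finite support
  suffices h : ∀ x : C ⟶ ∐ K, x ∈ FFN C K →
      ∃ N, ∀ m, N ≤ m → ∃ y : C ⟶ K m, y ≫ i m = x ≫ Sigma.desc i by
    obtain ⟨N, hN⟩ := h φ' (mem_FFN_of_compact hC K φ')
    obtain ⟨y, hy⟩ := hN N le_rfl
    exact ⟨N, y, by rw [hy, hφ']⟩
  intro x hx
  induction hx using AddSubgroup.closure_induction with
  | mem x hx =>
    obtain ⟨⟨k⟩, h, rfl⟩ := hx
    refine ⟨k, fun m hm => ?_⟩
    obtain ⟨j, rfl⟩ := Nat.exists_eq_add_of_le hm
    refine ⟨h ≫ fk K f k j, ?_⟩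
    show (h ≫ fk K f k j) ≫ i (k + j) = (h ≫ Sigma.ι K k) ≫ Sigma.desc i
    rw [Category.assoc, fk_comp_cocone i hcoc, Category.assoc, Sigma.ι_desc]
  | zero => exact ⟨0, fun m _ => ⟨0, by simp⟩⟩
  | add x y _ _ hx hy =>
    obtain ⟨N, hN⟩ := hx
    obtain ⟨N', hN'⟩ := hy
    refine ⟨max N N', fun m hm => ?_⟩
    obtain ⟨a, ha⟩ := hN m (le_trans (le_max_left _ _) hm)
    obtain ⟨b, hb⟩ := hN' m (le_trans (le_max_right _ _) hm)
    exact ⟨a + b, by rw [Preadditive.add_comp, Preadditive.add_comp, ha, hb]⟩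
  | neg x _ hx =>
    obtain ⟨N, hN⟩ := hx
    refine ⟨N, fun m hm => ?_⟩
    obtain ⟨a, ha⟩ := hN m hm
    exact ⟨-a, by rw [Preadditive.neg_comp, Preadditive.neg_comp, ha]⟩

end Hocolim

end Groth.Agent.Lib.Hocolim31
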