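import Groth.Agent.Lib.BrownAdjoint
import Groth.Agent.Lib.BrownCompact
import Groth.Agent.Lib.Hocolim31

/-!
# Brown towers with explicit triangles; objects as homotopy colimits of cellular towers

Helper library of helper31.
-/

set_option autoImplicit false
set_option linter.unusedSectionVars false

namespace Groth.Agent.Lib.BrownTower31

open CategoryTheory Limits Pretriangulated Opposite ZeroObject Groth.Agent.Lib.Brown CohDer

universe v u

variable {D : Type u} [Category.{v} D] [Preadditive D] [HasZeroObject D] [HasShift D ℤ]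
  [∀ n : ℤ, (shiftFunctor D n).Additive] [Pretriangulated D]
  [HasCoproducts.{v} D] [HasColimitsOfShape (Discrete ℕ) D]

section Abstract

variable (H : Dᵒᵖ ⥤ AddCommGrpCat.{v}) {ι : Type v} (E : ι → D)

/-- compatible classes on a tower, killing exactly the `E`-points coming from the `K n` -/
structure TowerClasses (T : Tower D) where
  ta : ∀ n, H.obj (op (T.X n))
  hs : ∀ n, pb H (T.s n) (ta (n + 1)) = ta n
  hc : ∀ n, pb H (T.c n) (ta n) = 0
  hker : ∀ (n : ℕ) (i : ι) (f : E i ⟶ T.X n), pb H f (ta n) = 0 → ∃ f' : E i ⟶ T.K n, f' ≫ T.c n = f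
  hsurj : ∀ (i : ι) (b : H.obj (op (E i))), ∃ f : E i ⟶ T.X 0, pb H f (ta 0) = b

variable {H E} [H.Additive] {T : Tower D} (A : TowerClasses H E T)

namespace TowerClasses

lemma pb_sk (n : ℕ) : pb H (T.sk n) (A.ta n) = A.ta 0 := by
  induction n with
  | zero => exact pb_id H _
  | succ n ih => rw [Tower.sk_succ, pb_comp, A.hs, ih]

include A in
lemma good : T.Good E where
  eepi n i f := by
    obtain ⟨f₀, hf₀⟩ := A.hsurj i (pb H f (A.ta n))
    have h1 : pb H (f - f₀ ≫ T.sk n) (A.ta n) = 0 := by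
      rw [pb_sub, pb_comp, A.pb_sk, hf₀, sub_self]
    obtain ⟨f', hf'⟩ := A.hker n i _ h1
    refine ⟨biprod.lift f₀ f', ?_⟩
    rw [Tower.φ, biprod.lift_desc, hf']
    abel
  ker n i v hv := by
    have hv' : (v ≫ biprod.fst) ≫ T.sk n + (v ≫ biprod.snd) ≫ T.c n = 0 := by
      rw [← hv, Tower.φ, biprod.desc_eq]
      simp
    have h1 : pb H (v ≫ biprod.fst) (A.ta 0) = 0 := by
      rw [← A.pb_sk n, ← pb_comp, eq_neg_of_add_eq_zero_left hv', pb_neg, pb_comp,
        A.hc, map_zero, neg_zero]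
    obtain ⟨f', hf'⟩ := A.hker 0 i _ h1
    rw [← hf', Category.assoc, T.hcs, comp_zero]

/-- the class induced on a homotopy colimit of the tower is bijective on `E`-points -/
theorem bijective (hSE : SumEpi E)
    (hshift : ∀ i, ∃ i', Nonempty ((shiftFunctor D (1 : ℤ)).obj (E i') ≅ E i))
    {Xh : D} (π : ∐ T.X ⟶ Xh) (δ : Xh ⟶ (shiftFunctor D (1 : ℤ)).obj (∐ T.X))
    (hT : Triangle.mk (𝟙 _ - T.S) π δ ∈ distTriang D)
    (a : H.obj (op Xh)) (hιπ : ∀ n, pb H (Sigma.ι T.X n ≫ π) a = A.ta n) (i : ι) :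
    Function.Bijective (fun f : E i ⟶ Xh => pb H f a) := by
  have hG : T.Good E := A.good
  have hker0 : ∀ (i : ι) (f : E i ⟶ T.X 0), pb H f (A.ta 0) = 0 → f ≫ T.s 0 = 0 := by
    intro i f hf
    obtain ⟨f', hf'⟩ := A.hker 0 i f hf
    rw [← hf', Category.assoc, T.hcs, comp_zero]
  have hSπ : ∀ n, T.s n ≫ Sigma.ι T.X (n + 1) ≫ π = Sigma.ι T.X n ≫ π := by
    intro n
    have h0 : (𝟙 _ - T.S) ≫ π = 0 := comp_distTriang_mor_zero₁₂ _ hT
    have := congrArg (fun x => Sigma.ι T.X n ≫ x) h0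
    simp only [Preadditive.sub_comp, Preadditive.comp_sub, Category.id_comp, comp_zero,
      Tower.ι_S_assoc] at this
    exact (sub_eq_zero.1 this).symm
  have hskπ : ∀ n, T.sk n ≫ Sigma.ι T.X n ≫ π = Sigma.ι T.X 0 ≫ π := by
    intro n
    induction n with
    | zero => simp
    | succ n ih => rw [Tower.sk_succ, Category.assoc, hSπ, ih]
  refine ⟨?_, ?_⟩
  · -- injectivity
    intro α₁ α₂ hα
    suffices h : ∀ α : E i ⟶ Xh, pb H α a = 0 → α = 0 by
      have := h (α₁ - α₂) (by rw [pb_sub]; exact sub_eq_zero.2 hα)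
      exact sub_eq_zero.1 this
    intro α hα
    -- step 1: `α ≫ δ = 0`
    have h1 : α ≫ δ = 0 := by
      obtain ⟨i', ⟨e⟩⟩ := hshift i
      let g : E i' ⟶ ∐ T.X := (shiftFunctor D (1 : ℤ)).preimage (e.hom ≫ α ≫ δ)
      have hg : (shiftFunctor D (1 : ℤ)).map g = e.hom ≫ α ≫ δ := Functor.map_preimage _ _
      have hg0 : g ≫ (𝟙 _ - T.S) = 0 := by
        apply (shiftFunctor D (1 : ℤ)).map_injective
        rw [Functor.map_comp, hg, Functor.map_zero, Category.assoc, Category.assoc]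
        have : δ ≫ (shiftFunctor D (1 : ℤ)).map (𝟙 _ - T.S) = 0 := comp_distTriang_mor_zero₃₁ _ hT
        rw [this, comp_zero, comp_zero]
      have hg1 : g = 0 := hG.eq_zero_of_comp_one_sub_S hSE g hg0
      rw [hg1, Functor.map_zero] at hg
      have : e.inv ≫ e.hom ≫ α ≫ δ = 0 := by rw [← hg, comp_zero]
      simpa using this
    -- step 2: lift to the coproduct
    obtain ⟨α', hα'⟩ : ∃ α' : E i ⟶ ∐ T.X, α = α' ≫ π := Triangle.coyoneda_exact₃ _ hT α h1
    -- step 3: lift to the split tower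
    obtain ⟨α'', hα''⟩ : ∃ α'' : E i ⟶ ∐ T.X', α'' ≫ T.Φ = α' := hSE _ _ _ hG.eepi i α'
    let σ' : ∐ T.X' ⟶ T.X 0 := Sigma.desc (fun _ => biprod.fst)
    have hΦπ : T.Φ ≫ π = σ' ≫ Sigma.ι T.X 0 ≫ π := by
      refine Sigma.hom_ext _ _ (fun n => ?_)
      rw [Tower.ι_Φ_assoc, Sigma.ι_desc_assoc]
      apply biprod.hom_ext'
      · rw [Tower.φ, biprod.inl_desc_assoc, biprod.inl_fst_assoc, hskπ]
      · rw [Tower.φ, biprod.inr_desc_assoc, biprod.inr_fst_assoc, zero_comp, ← hSπ,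
          reassoc_of% T.hcs n, zero_comp]
    have hw : pb H (α'' ≫ σ') (A.ta 0) = 0 := by
      rw [← hιπ 0, ← pb_comp, Category.assoc, ← hΦπ, ← Category.assoc, hα'', ← hα', hα]
    have hw' := hker0 i _ hw
    rw [hα', ← hα'', Category.assoc, hΦπ, ← hSπ 0, ← Category.assoc, ← Category.assoc, hw',
      zero_comp]
  · -- surjectivity
    intro b
    obtain ⟨f, hf⟩ := A.hsurj i b
    exact ⟨f ≫ Sigma.ι T.X 0 ≫ π, by
      show pb H (f ≫ Sigma.ι T.X 0 ≫ π) a = b
      rw [pb_comp, hιπ, hf]⟩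

end TowerClasses

end Abstract

section Cellular

variable (H : Dᵒᵖ ⥤ AddCommGrpCat.{v}) {ι : Type v} (E : ι → D)

/-- index type of the `E`-points of `P.X` killed by the class -/
abbrev kerIdx (P : Pt H) : Type v := Σ i : ι, {f : E i ⟶ P.X // pb H f P.a = 0}

/-- the family of sources -/
abbrev kerFam (P : Pt H) : kerIdx H E P → D := fun j => E j.1

/-- the canonical map -/
noncomputable abbrev kerMap (P : Pt H) : ∐ (kerFam H E P) ⟶ P.X := Sigma.desc (fun j => j.2.1)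

/-- one step of the construction, with its distinguished triangle -/
structure Step2 (P : Pt H) where
  P' : Pt H
  s : P.X ⟶ P'.X
  δ : P'.X ⟶ (shiftFunctor D (1 : ℤ)).obj (∐ (kerFam H E P))
  dist : Triangle.mk (kerMap H E P) s δ ∈ distTriang D
  hs : pb H s P'.a = P.a

variable {H} [H.Additive]

lemma pb_kerMap (hH : IsCoh H) (P : Pt H) : pb H (kerMap H E P) P.a = 0 := by
  apply (hH.prod (kerFam H E P)).1
  funext j
  show pb H (Sigma.ι (kerFam H E P) j) (pb H (kerMap H E P) P.a) =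
    pb H (Sigma.ι (kerFam H E P) j) 0
  rw [← pb_comp, Sigma.ι_desc, map_zero]
  exact j.2.2

lemma nonempty_step2 (hH : IsCoh H) (P : Pt H) : Nonempty (Step2 H E P) := by
  obtain ⟨X', s, δ, hT⟩ := distinguished_cocone_triangle (kerMap H E P)
  obtain ⟨a', ha'⟩ := hH.exact _ hT P.a (pb_kerMap E hH P)
  exact ⟨{ P' := ⟨X', a'⟩, s := s, δ := δ, dist := hT, hs := ha' }⟩

noncomputable def step2 (hH : IsCoh H) (P : Pt H) : Step2 H E P := (nonempty_step2 E hH P).some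

noncomputable def towerPt2 (hH : IsCoh H) (P₀ : Pt H) : ℕ → Pt H
  | 0 => P₀
  | n + 1 => (step2 E hH (towerPt2 hH P₀ n)).P'

noncomputable def mkTower2 (hH : IsCoh H) (P₀ : Pt H) : Tower D where
  X n := (towerPt2 E hH P₀ n).X
  s n := (step2 E hH (towerPt2 E hH P₀ n)).s
  K n := ∐ (kerFam H E (towerPt2 E hH P₀ n))
  c n := kerMap H E (towerPt2 E hH P₀ n)
  hcs n := comp_distTriang_mor_zero₁₂ _ (step2 E hH (towerPt2 E hH P₀ n)).dist

variable (hH : IsCoh H) (P₀ : Pt H)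

noncomputable def mkTower2Classes
    (hsurj : ∀ (i : ι) (b : H.obj (op (E i))), ∃ f : E i ⟶ P₀.X, pb H f P₀.a = b) :
    TowerClasses H E (mkTower2 E hH P₀) where
  ta n := (towerPt2 E hH P₀ n).a
  hs n := (step2 E hH (towerPt2 E hH P₀ n)).hs
  hc n := pb_kerMap E hH (towerPt2 E hH P₀ n)
  hker n i f hf := ⟨Sigma.ι (kerFam H E (towerPt2 E hH P₀ n)) ⟨i, f, hf⟩,
    Sigma.ι_desc (f := kerFam H E (towerPt2 E hH P₀ n)) (fun j => j.2.1) ⟨i, f, hf⟩⟩
  hsurj := hsurj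

end Cellular

section Hom

lemma isCoh_yoneda (X : D) : IsCoh (preadditiveYoneda.obj X) where
  exact T hT y hy := by
    obtain ⟨z, hz⟩ := Triangle.yoneda_exact₂ _ hT y hy
    exact ⟨z, hz.symm⟩
  prod Z := ⟨fun y y' h => Sigma.hom_ext _ _ (fun i => congrFun h i),
    fun b => ⟨Sigma.desc b, funext fun i => Sigma.ι_desc _ _⟩⟩
  prodN Z := ⟨fun y y' h => Sigma.hom_ext _ _ (fun i => congrFun h i),
    fun b => ⟨Sigma.desc b, funext fun i => Sigma.ι_desc _ _⟩⟩

open DerLim in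
/-- Every object of a compactly generated triangulated category is the homotopy colimit of a
cellular tower. -/
theorem exists_cellular_tower {ι : Type v} (E : ι → D) (hc : ∀ i, IsCompactObject (E i))
    (hg : Generates E) (X : D) :
    ∃ (K : ℕ → D) (f : ∀ n, K n ⟶ K (n + 1)) (i : ∀ n, K n ⟶ X),
      DerLim.IsHocolim K f X i ∧
      (∃ (κ : Type v) (a : κ → ι) (m : κ → ℤ),
        Nonempty (K 0 ≅ ∐ (fun k => (shiftFunctor D (m k)).obj (E (a k))))) ∧
      ∀ n, ∃ (κ : Type v) (a : κ → ι) (m : κ → ℤ)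
        (y : (∐ fun k => (shiftFunctor D (m k)).obj (E (a k))) ⟶ K n)
        (z : K (n + 1) ⟶ (shiftFunctor D (1 : ℤ)).obj
          (∐ fun k => (shiftFunctor D (m k)).obj (E (a k)))),
        Triangle.mk y (f n) z ∈ distTriang D := by
  let H : Dᵒᵖ ⥤ AddCommGrpCat.{v} := preadditiveYoneda.obj X
  have hH : IsCoh H := isCoh_yoneda X
  let E' : ι × ℤ → D := shiftFamily E
  have hSE : SumEpi E' :=
    Groth.Agent.Lib.BrownCompact.sumEpi_of_compact
      (fun p => Groth.Agent.Lib.BrownCompact.isCompactObject_shift (hc p.1) p.2)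
  have hshift := shiftFamily_hshift E
  have hgen := Groth.Agent.Lib.BrownCompact.hgen_of_generates hg
  let J := Σ p : ι × ℤ, (E' p ⟶ X)
  let F : J → D := fun j => E' j.1
  let a₀ : ∐ F ⟶ X := Sigma.desc (fun j => j.2)
  let P₀ : Pt H := ⟨∐ F, a₀⟩
  have hsurj : ∀ (p : ι × ℤ) (b : H.obj (op (E' p))), ∃ f : E' p ⟶ P₀.X, pb H f P₀.a = b :=
    fun p b => ⟨Sigma.ι F ⟨p, b⟩, Sigma.ι_desc (f := F) (fun j => j.2) ⟨p, b⟩⟩
  let T := mkTower2 E' hH P₀
  let A := mkTower2Classes E' hH P₀ hsurj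
  let ia : ∀ n, T.X n ⟶ X := fun n => A.ta n
  have hia : ∀ n, T.s n ≫ ia (n + 1) = ia n := fun n => A.hs n
  obtain ⟨Xh, π, δ, hT⟩ := Pretriangulated.distinguished_cocone_triangle (𝟙 (∐ T.X) - T.S)
  have h0 : (𝟙 _ - T.S) ≫ Sigma.desc ia = 0 := by
    refine Sigma.hom_ext _ _ (fun n => ?_)
    rw [Preadditive.sub_comp, Preadditive.comp_sub, Category.id_comp, Tower.ι_S_assoc,
      Sigma.ι_desc, Sigma.ι_desc, hia, sub_self, comp_zero]
  obtain ⟨θ, hθ⟩ : ∃ θ : Xh ⟶ X, Sigma.desc ia = π ≫ θ :=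
    Triangle.yoneda_exact₂ _ hT (Sigma.desc ia) h0
  have hbij : ∀ p, Function.Bijective (fun u : E' p ⟶ Xh => u ≫ θ) := fun p =>
    A.bijective hSE hshift π δ hT θ (fun n => by
      show (Sigma.ι T.X n ≫ π) ≫ θ = ia n
      rw [Category.assoc, ← hθ, Sigma.ι_desc]) p
  have hiso : IsIso θ := isIso_of_bijective_on_E hshift hgen θ hbij
  refine ⟨T.X, T.s, ia, ?_, ?_, ?_⟩
  · refine ⟨inv θ ≫ δ, isomorphic_distinguished _ hT _ ?_⟩
    refine Triangle.isoMk _ _ (Iso.refl _) (Iso.refl _) (asIso θ).symm ?_ ?_ ?_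
    · show (𝟙 (∐ T.X) - shiftMap T.X T.s) ≫ 𝟙 _ = 𝟙 _ ≫ (𝟙 (∐ T.X) - T.S)
      rw [Category.comp_id, Category.id_comp]
      rfl
    · show Sigma.desc ia ≫ inv θ = 𝟙 _ ≫ π
      rw [Category.id_comp, hθ, Category.assoc, IsIso.hom_inv_id, Category.comp_id]
    · show (inv θ ≫ δ) ≫ (shiftFunctor D (1 : ℤ)).map (𝟙 _) = inv θ ≫ δ
      rw [CategoryTheory.Functor.map_id, Category.comp_id]
  · exact ⟨J, fun j => j.1.1, fun j => j.1.2, ⟨Iso.refl _⟩⟩
  · intro n
    exact ⟨kerIdx H E' (towerPt2 E' hH P₀ n), fun j => j.1.1, fun j => j.1.2,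
      kerMap H E' (towerPt2 E' hH P₀ n), (step2 E' hH (towerPt2 E' hH P₀ n)).δ,
      (step2 E' hH (towerPt2 E' hH P₀ n)).dist⟩

end Hom

end Groth.Agent.Lib.BrownTower31
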