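import Groth.Agent.Lib.RedNorm
import Mathlib.RingTheory.Norm.Basic
import Mathlib.RingTheory.Trace.Basic
import Mathlib.RingTheory.Polynomial.UniqueFactorization
import Mathlib.LinearAlgebra.Matrix.ToLin

/-!
# Reduced norm helper library, part 2 (helper55)

* `eq_of_pow_eq_pow_of_monic` : monic polynomials over a field with equal `n`-th powers are equal.
* `toMatrix_mulLeft_smulTower`, `charpoly_mulLeft_of_tower` : for a subfield `ι : E →ₐ[k] A` (with `A`
  an `E`-vector space through left multiplication), the charpoly of left multiplication by `ι x` on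
  `A` is the charpoly of multiplication by `x` on `E` to the power `dim_E A`.
-/

set_option autoImplicit false
universe u v w

namespace Groth.Agent.Lib.RedNorm

open Matrix Kronecker Polynomial

theorem eq_of_pow_eq_pow_of_monic {K : Type*} [Field K] {p q : K[X]} (hp : p.Monic) (hq : q.Monic)
    {n : ℕ} (hn : n ≠ 0) (h : p ^ n = q ^ n) : p = q := by
  have h1 : p ∣ q := (UniqueFactorizationMonoid.pow_dvd_pow_iff_dvd hn).mp (h ▸ dvd_rfl)
  have h2 : q ∣ p := (UniqueFactorizationMonoid.pow_dvd_pow_iff_dvd hn).mp (h ▸ dvd_rfl)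
  exact Polynomial.eq_of_monic_of_associated hp hq (associated_of_dvd_dvd h1 h2)

section Tower

variable {k : Type u} {E : Type w} {A : Type v} [Field k] [Field E] [Algebra k E] [Ring A]
  [Algebra k A] (ι : E →ₐ[k] A) [Module E A] [IsScalarTower k E A]
  (hsmul : ∀ (e : E) (a : A), e • a = ι e * a)
  {n n' : Type*} [Fintype n] [DecidableEq n] [Fintype n'] [DecidableEq n']
  (c : Module.Basis n k E) (b : Module.Basis n' E A)

include hsmul in
theorem toMatrix_mulLeft_smulTower (x : E) :
    LinearMap.toMatrix (c.smulTower b) (c.smulTower b) (LinearMap.mulLeft k (ι x)) =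
      (Algebra.leftMulMatrix c x) ⊗ₖ (1 : Matrix n' n' k) := by
  ext ⟨i', j'⟩ ⟨i, j⟩
  rw [LinearMap.toMatrix_apply, Module.Basis.smulTower_repr, Module.Basis.smulTower_apply,
    LinearMap.mulLeft_apply, hsmul, ← mul_assoc, ← map_mul, ← hsmul, map_smul,
    Module.Basis.repr_self, Finsupp.smul_apply, Finsupp.single_apply, kroneckerMap_apply,
    Algebra.leftMulMatrix_eq_repr_mul, one_apply]
  by_cases hj : j = j'
  · subst hj
    simp
  · simp [hj, Ne.symm hj]

include hsmul b in
theorem charpoly_mulLeft_of_tower (x : E) [FiniteDimensional k A] :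
    (LinearMap.mulLeft k (ι x)).charpoly =
      (Algebra.leftMulMatrix c x).charpoly ^ Fintype.card n' := by
  rw [← LinearMap.charpoly_toMatrix _ (c.smulTower b), toMatrix_mulLeft_smulTower ι hsmul,
    charpoly_kronecker_one]

end Tower

end Groth.Agent.Lib.RedNorm
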