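import Groth.Agent.Lib.CycPullDivGen

set_option autoImplicit false
universe u
open CategoryTheory AlgebraicGeometry TopologicalSpace
open Cyc

/-!
# Flat pullback preserves rational equivalence (Stacks 02S1, base-free form)
-/

namespace Groth.Agent.Lib.CycPullRatEquiv

theorem finite_maximal_points_of_closed {T : Type*} [TopologicalSpace T] [NoetherianSpace T]
    [QuasiSober T] (Z : Set T) (hZ : IsClosed Z) :
    {t : T | t ∈ Z ∧ ∀ z ∈ Z, z ⤳ t → z = t}.Finite := by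
  obtain ⟨S, hSf, hSc, hSi, hSU⟩ := NoetherianSpace.exists_finite_set_isClosed_irreducible hZ
  have hgen : ∀ C : S, ∃ η : T, IsGenericPoint η (C : Set T) := fun C =>
    QuasiSober.sober (hSi C.1 C.2) (hSc C.1 C.2)
  choose gp hgp using hgen
  haveI : Finite S := hSf.to_subtype
  refine (Set.finite_range gp).subset ?_
  rintro t ⟨htZ, hmax⟩
  rw [hSU] at htZ
  obtain ⟨C, hCS, htC⟩ := htZ
  refine ⟨⟨C, hCS⟩, ?_⟩
  have h1 : gp ⟨C, hCS⟩ ⤳ t := (hgp ⟨C, hCS⟩).specializes htC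
  have h2 : gp ⟨C, hCS⟩ ∈ Z := by
    rw [hSU]
    exact ⟨C, hCS, (hgp ⟨C, hCS⟩).mem⟩
  exact hmax _ h2 h1

theorem finite_maximal_points_affine {X : Scheme.{u}} [IsLocallyNoetherian X] (U : X.Opens)
    (hU : IsAffineOpen U) (Z : Set X) (hZ : IsClosed Z) :
    {ζ : X | ζ ∈ U ∧ ζ ∈ Z ∧ ∀ z ∈ Z, z ⤳ ζ → z = ζ}.Finite := by
  haveI : IsNoetherianRing Γ(X, U) := IsLocallyNoetherian.component_noetherian ⟨U, hU⟩
  haveI : NoetherianSpace U := noetherianSpace_of_isAffineOpen U hU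
  haveI : QuasiSober U := U.isOpen.isOpenEmbedding_subtypeVal.quasiSober
  have hfin := finite_maximal_points_of_closed (T := U) (Subtype.val ⁻¹' Z)
    (hZ.preimage continuous_subtype_val)
  refine (hfin.image Subtype.val).subset ?_
  rintro ζ ⟨hζU, hζZ, hmax⟩
  refine ⟨⟨ζ, hζU⟩, ⟨hζZ, ?_⟩, rfl⟩
  intro z hz hzζ
  apply Subtype.ext
  exact hmax z.1 hz (hzζ.map continuous_subtype_val)

theorem locallyFinite_fibre_maximal {X X' : Scheme.{u}} [IsLocallyNoetherian X'] (p : X' ⟶ X)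
    {ι : Type u} (ξ : ι → X)
    (hlf : ∀ x : X, ∃ U : Set X, IsOpen U ∧ x ∈ U ∧ {i | (closure {ξ i} ∩ U).Nonempty}.Finite)
    (x' : X') :
    ∃ U : Set X', IsOpen U ∧ x' ∈ U ∧
      {j : Σ i, {ζ : X' // p ζ = ξ i ∧ ∀ z, p z = p ζ → z ⤳ ζ → z = ζ} |
        (closure {j.2.1} ∩ U).Nonempty}.Finite := by
  obtain ⟨V, hVo, hxV, hVfin⟩ := hlf (p x')
  obtain ⟨U, hU, hxU, hUV⟩ := exists_isAffineOpen_mem_and_subset (x := x')
    (U := p ⁻¹ᵁ ⟨V, hVo⟩) hxV
  refine ⟨U, U.isOpen, hxU, ?_⟩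
  have hmem : ∀ ζ : X', (closure {ζ} ∩ (U : Set X')).Nonempty → ζ ∈ U := by
    rintro ζ ⟨w, hw, hwU⟩
    exact (specializes_iff_mem_closure.mpr hw).mem_open U.isOpen hwU
  have hsub : {j : Σ i, {ζ : X' // p ζ = ξ i ∧ ∀ z, p z = p ζ → z ⤳ ζ → z = ζ} |
        (closure {j.2.1} ∩ (U : Set X')).Nonempty} ⊆
      ⋃ i ∈ {i | (closure {ξ i} ∩ V).Nonempty},
        Sigma.mk i '' {ζ : {ζ : X' // p ζ = ξ i ∧ ∀ z, p z = p ζ → z ⤳ ζ → z = ζ} |
          ζ.1 ∈ U} := by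
    rintro ⟨i, ζ⟩ hj
    have hζU : ζ.1 ∈ U := hmem _ hj
    simp only [Set.mem_iUnion, Set.mem_image, Set.mem_ofPred_eq]
    refine ⟨i, ⟨ξ i, subset_closure rfl, ?_⟩, ζ, hζU, rfl⟩
    rw [← ζ.2.1]
    exact hUV hζU
  refine (hVfin.biUnion fun i _ => (Set.Finite.image _ ?_)).subset hsub
  refine Set.Finite.of_finite_image (f := Subtype.val) ?_ Subtype.val_injective.injOn
  refine (finite_maximal_points_affine U hU (p ⁻¹' closure {ξ i})
    (isClosed_closure.preimage p.continuous)).subset ?_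
  rintro _ ⟨ζ, hζU, rfl⟩
  refine ⟨hζU, ?_, ?_⟩
  · show p ζ.1 ∈ closure {ξ i}
    rw [ζ.2.1]
    exact subset_closure rfl
  · intro z hz hzζ
    have h1 : ξ i ⤳ p z := specializes_iff_mem_closure.mpr hz
    have h2 : p z ⤳ ξ i := ζ.2.1 ▸ p.base.hom.map_specializes hzζ
    have h3 : p z = p ζ.1 := by
      rw [ζ.2.1]
      exact (h2.antisymm h1).eq
    exact ζ.2.2 z h3 hzζ

theorem ordFrac_pow {R : Type u} [CommRing R] {K : Type u} [Field K] [Algebra R K]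
    (w : K) (hw : w ≠ 0) (n : ℕ) :
    CycAlg.ordFrac R K (w ^ n) = n * CycAlg.ordFrac R K w := by
  unfold CycAlg.ordFrac
  split_ifs with h
  · haveI := h.1; haveI := h.2.1; haveI := h.2.2.1; haveI := h.2.2.2
    rw [map_pow]
    have hw' : Ring.ordFrac R w ≠ 0 := by
      rw [map_ne_zero]; exact hw
    obtain ⟨a, ha⟩ := WithZero.ne_zero_iff_exists.mp hw'
    rw [← ha, ← WithZero.coe_pow]
    simp only [WithZero.recZeroCoe_coe]
    simp
  · simp

theorem divFun_pow {X : Scheme.{u}} (δ : X → ℤ) (ζ : X) (w : X.residueField ζ) (hw : w ≠ 0)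
    (n : ℕ) (x : X) :
    Cyc.divFun δ ζ (w ^ n) x = n * Cyc.divFun δ ζ w x := by
  unfold Cyc.divFun
  beta_reduce
  split_ifs with h
  · unfold Cyc.ordAt
    exact ordFrac_pow w hw n
  · simp

open Classical in
theorem finsum_sigma' {ι : Type*} {J : ι → Type*} {M : Type*} [AddCommMonoid M]
    (F : (Σ i, J i) → M) (hF : (Function.support F).Finite) :
    ∑ᶠ j, F j = ∑ᶠ i, ∑ᶠ ζ, F ⟨i, ζ⟩ := by
  let S := hF.toFinset
  let S₁ : Finset ι := S.image Sigma.fst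
  let S₂ : ∀ i, Finset (J i) := fun i => S.preimage (Sigma.mk i) sigma_mk_injective.injOn
  have hS : Function.support F ⊆ ↑(S₁.sigma S₂) := by
    intro j hj
    have hjS : j ∈ S := hF.mem_toFinset.mpr hj
    simp only [Finset.coe_sigma, Set.mem_sigma_iff, Finset.mem_coe]
    refine ⟨Finset.mem_image_of_mem _ hjS, ?_⟩
    simp only [S₂, Finset.mem_preimage]
    exact hjS
  rw [finsum_eq_sum_of_support_subset F hS, Finset.sum_sigma]
  have hinner : ∀ i, ∑ᶠ ζ, F ⟨i, ζ⟩ = ∑ ζ ∈ S₂ i, F ⟨i, ζ⟩ := by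
    intro i
    apply finsum_eq_sum_of_support_subset
    intro ζ hζ
    simp only [S₂, Finset.coe_preimage, Set.mem_preimage, Finset.mem_coe]
    exact hF.mem_toFinset.mpr hζ
  have houter : Function.support (fun i => ∑ᶠ ζ, F ⟨i, ζ⟩) ⊆ ↑S₁ := by
    intro i hi
    by_contra hnot
    apply hi
    show ∑ᶠ ζ, F ⟨i, ζ⟩ = 0
    apply finsum_eq_zero_of_forall_eq_zero
    intro ζ
    by_contra hne
    apply hnot
    have : (⟨i, ζ⟩ : Σ i, J i) ∈ S := hF.mem_toFinset.mpr hne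
    exact Finset.mem_coe.mpr (Finset.mem_image_of_mem Sigma.fst this)
  rw [finsum_eq_sum_of_support_subset _ houter]
  exact Finset.sum_congr rfl fun i _ => (hinner i).symm


open Groth.Agent.Lib.CycPullDivGen in
/-- **Flat pullback preserves rational equivalence to zero.** -/
theorem ratEquivZero_pull (X X' : Scheme.{u}) (δ : X → ℤ) (δ' : X' → ℤ) (hX : Cyc.IsSetup X δ)
    (hX' : Cyc.IsSetup X' δ') (p : X' ⟶ X) [Flat p] (c : ℤ)
    (hc : ∀ x' : X', (∀ y, p y = p x' → y ⤳ x' → y = x') → δ' x' = δ (p x') + c) (k : ℤ)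
    (α : AlgebraicCycle X ℤ) (h0 : Cyc.RatEquivZero δ k α) (α' : AlgebraicCycle X' ℤ)
    (hα' : ⇑α' = Cyc.pullFun p δ' δ c ⇑α) : Cyc.RatEquivZero δ' (k + c) α' := by
  classical
  obtain ⟨hXn, -, hXd⟩ := hX
  obtain ⟨hXn', -, hXd'⟩ := hX'
  obtain ⟨ι, ξ, g, hξ, hg, hlf, hsum⟩ := h0
  let J : ι → Type u := fun i => {ζ : X' // p ζ = ξ i ∧ ∀ z, p z = p ζ → z ⤳ ζ → z = ζ}
  let gζ : ∀ i (ζ : J i), X'.residueField ζ.1 := fun i ζ =>
    p.residueFieldMap ζ.1 ((X.residueFieldCongr ζ.2.1.symm).hom (g i))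
  have hgζ : ∀ i (ζ : J i), gζ i ζ ≠ 0 := by
    intro i ζ
    change (p.residueFieldMap ζ.1).hom ((X.residueFieldCongr ζ.2.1.symm).hom (g i)) ≠ 0
    rw [map_ne_zero, map_ne_zero]
    exact hg i
  refine ⟨Σ i, J i, fun j => j.2.1, fun j => gζ j.1 j.2 ^ fibMult p j.2.1, ?_, ?_, ?_, ?_⟩
  · rintro ⟨i, ζ⟩
    show δ' ζ.1 = k + c + 1
    rw [hc ζ.1 ζ.2.2, ζ.2.1, hξ i]
    ring
  · rintro ⟨i, ζ⟩
    exact pow_ne_zero _ (hgζ i ζ)
  · exact locallyFinite_fibre_maximal p ξ hlf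
  · intro x'
    obtain ⟨U, hUo, hxU, hUfin⟩ := locallyFinite_fibre_maximal p ξ hlf x'
    have hfin' : {j : Σ i, J i | j.2.1 ⤳ x'}.Finite :=
      hUfin.subset (fun j hj => ⟨x', specializes_iff_mem_closure.mp hj, hxU⟩)
    have hsupp : Function.support (fun j : Σ i, J i =>
        Cyc.divFun δ' j.2.1 (gζ j.1 j.2 ^ fibMult p j.2.1) x') ⊆ {j | j.2.1 ⤳ x'} := by
      intro j hj
      by_contra hns
      apply hj
      show Cyc.divFun δ' j.2.1 (gζ j.1 j.2 ^ fibMult p j.2.1) x' = 0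
      unfold Cyc.divFun
      beta_reduce
      rw [dif_neg (fun h => hns h.1)]
    rw [finsum_sigma' _ (hfin'.subset hsupp), hα']
    have h1 : Cyc.pullFun p δ' δ c ⇑α x' =
        ∑ᶠ i, Cyc.pullFun p δ' δ c (Cyc.divFun δ (ξ i) (g i)) x' := by
      have hP : ∀ β : X → ℤ, Cyc.pullFun p δ' δ c β x' =
          if δ' x' = δ (p x') + c then
            β (p x') * ((Module.length (X'.presheaf.stalk x')
              (X'.presheaf.stalk x' ⧸ Ideal.map (p.stalkMap x').hom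
                (IsLocalRing.maximalIdeal (X.presheaf.stalk (p x'))))).toNat : ℤ)
          else 0 := fun _ => rfl
      simp only [hP]
      split_ifs with hcond
      · rw [hsum (p x'), finsum_mul]
      · rw [finsum_zero]
    rw [h1]
    refine finsum_congr fun i => ?_
    rw [pullFun_divFun p hXd' hXd c hc (ξ i) (g i) (hg i) x']
    refine finsum_congr fun ζ => ?_
    exact (divFun_pow δ' ζ.1 _ (hgζ i ζ) _ x').symm

end Groth.Agent.Lib.CycPullRatEquiv
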