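import Groth.Agent.S1925
import Groth.Agent.Lib.CycPullRatEquiv

set_option autoImplicit false
universe u
open AlgebraicGeometry CategoryTheory IsLocalRing

/-!
# `c_1(L) ∩ α` is independent of the chosen rational sections up to rational equivalence
-/

namespace Groth.Agent.Lib.C1CapIndep

section Alg

theorem ordFrac_mul {R : Type u} [CommRing R] {K : Type u} [Field K] [Algebra R K]
    (a b : K) (ha : a ≠ 0) (hb : b ≠ 0) :
    CycAlg.ordFrac R K (a * b) = CycAlg.ordFrac R K a + CycAlg.ordFrac R K b := by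
  unfold CycAlg.ordFrac
  split_ifs with h
  · haveI := h.1; haveI := h.2.1; haveI := h.2.2.1; haveI := h.2.2.2
    rw [map_mul]
    have ha' : Ring.ordFrac R a ≠ 0 := by
      rw [map_ne_zero]; exact ha
    have hb' : Ring.ordFrac R b ≠ 0 := by
      rw [map_ne_zero]; exact hb
    obtain ⟨a', ha''⟩ := WithZero.ne_zero_iff_exists.mp ha'
    obtain ⟨b', hb''⟩ := WithZero.ne_zero_iff_exists.mp hb'
    rw [← ha'', ← hb'', ← WithZero.coe_mul]
    simp only [WithZero.recZeroCoe_coe]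
    rfl
  · simp

theorem ordFrac_one {R : Type u} [CommRing R] {K : Type u} [Field K] [Algebra R K] :
    CycAlg.ordFrac R K (1 : K) = 0 := by
  have h := ordFrac_mul (R := R) (1 : K) 1 one_ne_zero one_ne_zero
  rw [mul_one] at h
  omega

theorem ordFrac_inv {R : Type u} [CommRing R] {K : Type u} [Field K] [Algebra R K]
    (a : K) (ha : a ≠ 0) :
    CycAlg.ordFrac R K a⁻¹ = - CycAlg.ordFrac R K a := by
  have h := ordFrac_mul (R := R) a a⁻¹ ha (inv_ne_zero ha)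
  rw [mul_inv_cancel₀ ha, ordFrac_one] at h
  omega

theorem ordFrac_zpow {R : Type u} [CommRing R] {K : Type u} [Field K] [Algebra R K]
    (w : K) (hw : w ≠ 0) (n : ℤ) :
    CycAlg.ordFrac R K (w ^ n) = n * CycAlg.ordFrac R K w := by
  obtain ⟨m, rfl | rfl⟩ := n.eq_nat_or_neg
  · rw [zpow_natCast, Groth.Agent.Lib.CycPullRatEquiv.ordFrac_pow w hw m]
  · rw [zpow_neg, zpow_natCast, ordFrac_inv _ (pow_ne_zero m hw),
      Groth.Agent.Lib.CycPullRatEquiv.ordFrac_pow w hw m]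
    ring

end Alg

section Div

variable {X : Scheme.{u}}

theorem divFun_zpow (δ : X → ℤ) (ζ : X) (w : X.residueField ζ) (hw : w ≠ 0)
    (n : ℤ) (x : X) :
    Cyc.divFun δ ζ (w ^ n) x = n * Cyc.divFun δ ζ w x := by
  unfold Cyc.divFun
  beta_reduce
  split_ifs with h
  · unfold Cyc.ordAt
    exact ordFrac_zpow w hw n
  · simp

theorem ordAt_mul (x ξ : X) (h : ξ ⤳ x) (a b : X.residueField ξ) (ha : a ≠ 0) (hb : b ≠ 0) :
    Cyc.ordAt x ξ h (a * b) = Cyc.ordAt x ξ h a + Cyc.ordAt x ξ h b := by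
  unfold Cyc.ordAt
  exact ordFrac_mul a b ha hb

end Div

section Fibre

variable {X : Scheme.{u}} {L : X.Modules}

/-- if `m` freely generates `L_ξ` and `a • m̄ = 0` in `L(ξ)` then `a ∈ 𝔪_ξ`. -/
theorem mem_maximalIdeal_of_smul_mk_eq_zero (ξ : X) (m : L.presheaf.stalk ξ)
    (bij : Function.Bijective (fun a : X.presheaf.stalk ξ => a • m)) (a : X.presheaf.stalk ξ)
    (h : a • (Submodule.Quotient.mk m : Cyc.secFibre L ξ) = 0) :
    a ∈ maximalIdeal (X.presheaf.stalk ξ) := by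
  rw [← Submodule.Quotient.mk_smul, Submodule.Quotient.mk_eq_zero] at h
  let e : X.presheaf.stalk ξ →ₗ[X.presheaf.stalk ξ] L.presheaf.stalk ξ :=
    LinearMap.toSpanSingleton _ _ m
  have he : ∀ a, e a = a • m := fun a => rfl
  have hsurj : Function.Surjective e := bij.2
  have hinj : Function.Injective e := bij.1
  have htop : maximalIdeal (X.presheaf.stalk ξ) •
      (⊤ : Submodule (X.presheaf.stalk ξ) (L.presheaf.stalk ξ)) =
      Submodule.map e (maximalIdeal (X.presheaf.stalk ξ)) := by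
    rw [← LinearMap.range_eq_top.mpr hsurj, LinearMap.range_eq_map, ← Submodule.map_smul'',
      smul_eq_mul, Ideal.mul_top]
  rw [htop, ← he] at h
  obtain ⟨b, hb, hbe⟩ := h
  rw [← hinj hbe]
  exact hb

theorem exists_smul_mk_eq (ξ : X) (m : L.presheaf.stalk ξ)
    (bij : Function.Bijective (fun a : X.presheaf.stalk ξ => a • m)) (σ : Cyc.secFibre L ξ) :
    ∃ ψ : X.presheaf.stalk ξ, σ = ψ • (Submodule.Quotient.mk m : Cyc.secFibre L ξ) := by
  obtain ⟨l, rfl⟩ := Submodule.Quotient.mk_surjective _ σ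
  obtain ⟨ψ, hψ⟩ := bij.2 l
  refine ⟨ψ, ?_⟩
  rw [← Submodule.Quotient.mk_smul]
  exact congrArg _ hψ.symm

theorem smul_mk_ne_zero_iff (ξ : X) (m : L.presheaf.stalk ξ)
    (bij : Function.Bijective (fun a : X.presheaf.stalk ξ => a • m)) (ψ : X.presheaf.stalk ξ) :
    ψ • (Submodule.Quotient.mk m : Cyc.secFibre L ξ) ≠ 0 ↔
      ψ ∉ maximalIdeal (X.presheaf.stalk ξ) := by
  constructor
  · intro h hψ
    apply h
    rw [← Submodule.Quotient.mk_smul, Submodule.Quotient.mk_eq_zero]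
    exact Submodule.smul_mem_smul hψ Submodule.mem_top
  · intro h h0
    exact h (mem_maximalIdeal_of_smul_mk_eq_zero ξ m bij ψ h0)

/-- two nonzero elements of `L(ξ)` differ by a unit of `O_ξ`. -/
theorem exists_ratio (hL : PicF.IsInvertible L) (ξ : X) (σ σ' : Cyc.secFibre L ξ)
    (hσ : σ ≠ 0) (hσ' : σ' ≠ 0) :
    ∃ φ : X.presheaf.stalk ξ, φ ∉ maximalIdeal (X.presheaf.stalk ξ) ∧ σ = φ • σ' := by
  obtain ⟨m, hm⟩ := Groth.Agent.Lib.H90PushStalkLocal.exists_stalk_bijective_of_isInvertible hL ξ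
  obtain ⟨a, rfl⟩ := exists_smul_mk_eq ξ m hm σ
  obtain ⟨a', rfl⟩ := exists_smul_mk_eq ξ m hm σ'
  have ha := (smul_mk_ne_zero_iff ξ m hm a).mp hσ
  have ha' := (smul_mk_ne_zero_iff ξ m hm a').mp hσ'
  have hu : IsUnit a' := by
    by_contra hnu
    exact ha' ((mem_maximalIdeal _).mpr hnu)
  obtain ⟨u, rfl⟩ := hu
  refine ⟨a * ↑u⁻¹, ?_, ?_⟩
  · intro hmem
    have : a * ↑u⁻¹ * ↑u ∈ maximalIdeal (X.presheaf.stalk ξ) := Ideal.mul_mem_right _ _ hmem
    rw [mul_assoc, Units.inv_mul, mul_one] at this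
    exact ha this
  · rw [← mul_smul, mul_assoc, Units.inv_mul, mul_one]

/-- multiplying a rational section by a unit `φ` adds the order of `φ`. -/
theorem secOrdAt_smul (hL : PicF.IsInvertible L) (ξ x : X) (h : ξ ⤳ x)
    (φ : X.presheaf.stalk ξ) (hφ : φ ∉ maximalIdeal (X.presheaf.stalk ξ))
    (σ : Cyc.secFibre L ξ) (hσ : σ ≠ 0) :
    Cyc.secOrdAt L ξ x h (φ • σ) =
      Cyc.ordAt x ξ h (X.residue ξ φ) + Cyc.secOrdAt L ξ x h σ := by
  obtain ⟨m, hm⟩ := Groth.Agent.Lib.H90PushStalkLocal.exists_stalk_bijective_of_isInvertible hL x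
  have ht : ∃ t : L.presheaf.stalk x, Submodule.span (X.presheaf.stalk x) {t} = ⊤ := by
    refine ⟨m, ?_⟩
    rw [eq_top_iff]
    intro y _
    obtain ⟨a, ha⟩ := hm.2 y
    exact Submodule.mem_span_singleton.mpr ⟨a, ha⟩
  have htspec := Classical.choose_spec ht
  have bij := Groth.Agent.S1923.bijective_smul_stalkSpecializes hL h (Classical.choose ht) htspec
  obtain ⟨ψ, hψ⟩ := exists_smul_mk_eq ξ _ bij σ
  have h1 : ∃ ψ₁ : X.presheaf.stalk ξ, σ = ψ₁ • (Submodule.Quotient.mk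
      ((L.presheaf.stalkSpecializes h) (Classical.choose ht)) : Cyc.secFibre L ξ) := ⟨ψ, hψ⟩
  have h2 : ∃ ψ₂ : X.presheaf.stalk ξ, φ • σ = ψ₂ • (Submodule.Quotient.mk
      ((L.presheaf.stalkSpecializes h) (Classical.choose ht)) : Cyc.secFibre L ξ) :=
    ⟨φ * ψ, by rw [mul_smul, ← hψ]⟩
  obtain ⟨ψ₁, hψ₁, e1⟩ := Groth.Agent.S1923.secOrdAt_eq L ξ x h σ ht h1
  obtain ⟨ψ₂, hψ₂, e2⟩ := Groth.Agent.S1923.secOrdAt_eq L ξ x h (φ • σ) ht h2
  rw [e1, e2]
  have hψ₁ne : ψ₁ ∉ maximalIdeal (X.presheaf.stalk ξ) :=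
    (smul_mk_ne_zero_iff ξ _ bij ψ₁).mp (hψ₁ ▸ hσ)
  have hmem : ψ₂ - φ * ψ₁ ∈ maximalIdeal (X.presheaf.stalk ξ) := by
    apply mem_maximalIdeal_of_smul_mk_eq_zero ξ _ bij
    rw [sub_smul, ← hψ₂, mul_smul, ← hψ₁, sub_self]
  have hres : X.residue ξ ψ₂ = X.residue ξ φ * X.residue ξ ψ₁ := by
    have h0 : X.residue ξ (ψ₂ - φ * ψ₁) = 0 := (IsLocalRing.residue_eq_zero_iff _).mpr hmem
    rw [map_sub, map_mul, sub_eq_zero] at h0
    exact h0
  rw [hres]
  refine ordAt_mul x ξ h _ _ ?_ ?_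
  · intro h0
    exact hφ ((IsLocalRing.residue_eq_zero_iff _).mp h0)
  · intro h0
    exact hψ₁ne ((IsLocalRing.residue_eq_zero_iff _).mp h0)

/-- the divisors of two nonzero rational sections of `L` on the closure of `ξ` differ by a
principal divisor. -/
theorem secDivFun_eq_add (δ : X → ℤ) (hL : PicF.IsInvertible L) (ξ : X) (σ σ' : Cyc.secFibre L ξ)
    (hσ : σ ≠ 0) (hσ' : σ' ≠ 0) :
    ∃ g : X.residueField ξ, g ≠ 0 ∧ ∀ x : X,
      Cyc.secDivFun δ L ξ σ x = Cyc.divFun δ ξ g x + Cyc.secDivFun δ L ξ σ' x := by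
  obtain ⟨φ, hφ, rfl⟩ := exists_ratio hL ξ σ σ' hσ hσ'
  refine ⟨X.residue ξ φ, ?_, ?_⟩
  · intro h0
    exact hφ ((IsLocalRing.residue_eq_zero_iff _).mp h0)
  · intro x
    unfold Cyc.secDivFun Cyc.divFun
    by_cases h : ξ ⤳ x ∧ δ x + 1 = δ ξ
    · rw [dif_pos h, dif_pos h, dif_pos h]
      exact secOrdAt_smul hL ξ x h.1 φ hφ σ' hσ'
    · rw [dif_neg h, dif_neg h, dif_neg h, add_zero]

end Fibre

section Pack

variable {X : Scheme.{u}}

theorem exists_open_finite (α : AlgebraicCycle X ℤ) (x : X) :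
    ∃ U : Set X, IsOpen U ∧ x ∈ U ∧ (U ∩ Function.support ⇑α).Finite := by
  obtain ⟨t, ht, hfin⟩ := α.supportLocallyFiniteWithinDomain x trivial
  obtain ⟨U, hUt, hUo, hxU⟩ := mem_nhds_iff.mp ht
  exact ⟨U, hUo, hxU, hfin.subset (Set.inter_subset_inter_left _ hUt)⟩

theorem finite_specializes_support (α : AlgebraicCycle X ℤ) (x : X) :
    {ξ : X | ξ ⤳ x ∧ α ξ ≠ 0}.Finite := by
  obtain ⟨U, hUo, hxU, hfin⟩ := exists_open_finite α x
  refine hfin.subset ?_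
  rintro ξ ⟨hξ, hne⟩
  exact ⟨hξ.mem_open hUo hxU, hne⟩

/-- a locally finite integral combination of principal divisors on subvarieties of dimension
`k + 1` is rationally equivalent to zero. -/
theorem ratEquivZero_of_finsum_divFun (δ : X → ℤ) (k : ℤ) (α : AlgebraicCycle X ℤ)
    (hα : α ∈ Cyc.Zk X δ (k + 1)) (g : (ξ : X) → X.residueField ξ) (hg : ∀ ξ, g ξ ≠ 0)
    (γ : AlgebraicCycle X ℤ) (hγ : ∀ x, γ x = ∑ᶠ ξ, α ξ * Cyc.divFun δ ξ (g ξ) x) :
    Cyc.RatEquivZero δ k γ := by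
  refine ⟨{ξ : X // α ξ ≠ 0}, fun i => i.1, fun i => g i.1 ^ (α i.1), ?_, ?_, ?_, ?_⟩
  · intro i
    by_contra h
    exact i.2 (hα i.1 h)
  · intro i
    exact zpow_ne_zero _ (hg i.1)
  · intro x
    obtain ⟨U, hUo, hxU, hfin⟩ := exists_open_finite α x
    refine ⟨U, hUo, hxU, ?_⟩
    have hsub : {i : {ξ : X // α ξ ≠ 0} | (closure {i.1} ∩ U).Nonempty} ⊆
        Subtype.val ⁻¹' (U ∩ Function.support ⇑α) := by
      rintro i ⟨y, hy1, hy2⟩
      have hsp : i.1 ⤳ y := specializes_iff_mem_closure.mpr hy1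
      exact ⟨hsp.mem_open hUo hy2, i.2⟩
    exact (hfin.preimage Subtype.val_injective.injOn).subset hsub
  · intro x
    rw [hγ x, Groth.Agent.S1925.finsum_eq_finsum_subtype _ (fun ξ => α ξ ≠ 0)]
    · refine finsum_congr fun i => ?_
      rw [divFun_zpow _ _ _ (hg i.1)]
    · intro ξ hξ
      rw [not_not.mp hξ, zero_mul]

theorem support_c1Cap_term_finite (δ : X → ℤ) (L : X.Modules) (α : AlgebraicCycle X ℤ)
    (s : (ξ : X) → Cyc.secFibre L ξ) (x : X) :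
    (Function.support fun ξ => α ξ * Cyc.secDivFun δ L ξ (s ξ) x).Finite := by
  refine (finite_specializes_support α x).subset ?_
  intro ξ hξ
  rw [Function.mem_support] at hξ
  refine ⟨?_, fun h0 => hξ (by rw [h0, zero_mul])⟩
  by_contra hns
  apply hξ
  unfold Cyc.secDivFun
  rw [dif_neg (fun h => hns h.1), mul_zero]

/-- **`c_1(L) ∩ α` does not depend on the chosen rational sections, up to rational
equivalence.** -/
theorem ratEquiv_c1CapFun (δ : X → ℤ) {L : X.Modules} (hL : PicF.IsInvertible L) (k : ℤ)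
    (α : AlgebraicCycle X ℤ) (hα : α ∈ Cyc.Zk X δ (k + 1))
    (s s' : (ξ : X) → Cyc.secFibre L ξ) (hs : ∀ ξ, s ξ ≠ 0) (hs' : ∀ ξ, s' ξ ≠ 0)
    (γ γ' : AlgebraicCycle X ℤ) (hγ : ⇑γ = Cyc.c1CapFun δ L ⇑α s)
    (hγ' : ⇑γ' = Cyc.c1CapFun δ L ⇑α s') : Cyc.RatEquiv δ k γ γ' := by
  choose g hg hgs using fun ξ => secDivFun_eq_add δ hL ξ (s ξ) (s' ξ) (hs ξ) (hs' ξ)
  refine ratEquivZero_of_finsum_divFun δ k α hα g hg (γ - γ') ?_
  intro x
  have h1 : (γ - γ') x = γ x - γ' x := rfl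
  have h2 : γ x = ∑ᶠ ξ, α ξ * Cyc.secDivFun δ L ξ (s ξ) x := by rw [hγ]; rfl
  have h3 : γ' x = ∑ᶠ ξ, α ξ * Cyc.secDivFun δ L ξ (s' ξ) x := by rw [hγ']; rfl
  rw [h1, h2, h3, ← finsum_sub_distrib (support_c1Cap_term_finite δ L α s x)
    (support_c1Cap_term_finite δ L α s' x)]
  refine finsum_congr fun ξ => ?_
  rw [hgs ξ x]
  ring

end Pack

end Groth.Agent.Lib.C1CapIndep
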