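import Groth.Agent.Lib.C1CapIndep
import Groth.Agent.Lib.StalkTensor81B

set_option autoImplicit false
universe u
open AlgebraicGeometry CategoryTheory IsLocalRing TensorProduct

/-!
# `c_1(L ⊗ N) ∩ α = c_1(L) ∩ α + c_1(N) ∩ α`: stalkwise computations
-/

namespace Groth.Agent.Lib.C1CapTensor

open Groth.Agent.Lib.C1CapIndep Groth.Agent.Lib.H90Invertible Groth.Agent.Lib.H90PushStalkLocal
open Groth.Agent.Lib.StalkTensor81 Groth.Agent.Lib.H78TensorGen

section Alg

theorem ordFrac_algebraMap_of_isUnit {R : Type u} [CommRing R] {K : Type u} [Field K] [Algebra R K]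
    (r : R) (hr : IsUnit r) : CycAlg.ordFrac R K (algebraMap R K r) = 0 := by
  unfold CycAlg.ordFrac
  split_ifs with h
  · haveI := h.1; haveI := h.2.1; haveI := h.2.2.1; haveI := h.2.2.2
    have hne : r ≠ 0 := hr.ne_zero
    have hnzd : r ∈ nonZeroDivisors R := hr.mem_nonZeroDivisors
    have h0 : Ring.ord R r = ((0 : ℕ) : ℕ∞) := by
      rw [Ring.ord_of_isUnit hr]; rfl
    rw [Ring.ordFrac_eq_ord R hne, Ring.ordMonoidWithZeroHom_eq_coe R hnzd h0]
    simp
  · rfl

end Alg

section Gen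

variable {X : Scheme.{u}}

theorem ordAt_specMap_of_isUnit (x ξ : X) (h : ξ ⤳ x) (u : X.presheaf.stalk x) (hu : IsUnit u) :
    Cyc.ordAt x ξ h (Cyc.specMap x ξ h u) = 0 := by
  unfold Cyc.ordAt
  have : Cyc.specMap x ξ h u = algebraMap (Cyc.LocQuot x ξ h) (X.residueField ξ)
      (Ideal.Quotient.mk _ u) := rfl
  rw [this]
  exact ordFrac_algebraMap_of_isUnit _ (hu.map _)

theorem span_eq_top_of_bijective {L : X.Modules} (x : X) (t : L.presheaf.stalk x)
    (bij : Function.Bijective (fun a : X.presheaf.stalk x => a • t)) :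
    Submodule.span (X.presheaf.stalk x) {t} = ⊤ := by
  rw [eq_top_iff]
  intro y _
  obtain ⟨a, ha⟩ := bij.2 y
  exact Submodule.mem_span_singleton.mpr ⟨a, ha⟩

/-- the order of a rational section computed with ANY free generator `t` of `L_x`. -/
theorem secOrdAt_smul_mk_generator {L : X.Modules} (hL : PicF.IsInvertible L) (ξ x : X)
    (h : ξ ⤳ x) (t : L.presheaf.stalk x)
    (bij : Function.Bijective (fun a : X.presheaf.stalk x => a • t))
    (ψ : X.presheaf.stalk ξ) :
    Cyc.secOrdAt L ξ x h (ψ • (Submodule.Quotient.mk ((L.presheaf.stalkSpecializes h) t) :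
      Cyc.secFibre L ξ)) = Cyc.ordAt x ξ h (X.residue ξ ψ) := by
  have ht : ∃ t : L.presheaf.stalk x, Submodule.span (X.presheaf.stalk x) {t} = ⊤ :=
    ⟨t, span_eq_top_of_bijective x t bij⟩
  have htspec := Classical.choose_spec ht
  have bij0 := Groth.Agent.S1923.bijective_smul_stalkSpecializes hL h (Classical.choose ht) htspec
  -- `t₀ = u • t` with `u` a unit
  obtain ⟨u, hu⟩ := bij.2 (Classical.choose ht)
  simp only at hu
  have hmem : t ∈ Submodule.span (X.presheaf.stalk x) {Classical.choose ht} := by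
    rw [htspec]; trivial
  obtain ⟨v, hv⟩ := Submodule.mem_span_singleton.mp hmem
  have hvu : v * u = 1 := by
    apply bij.1
    simp only
    rw [mul_smul, hu, hv, one_smul]
  have huu : IsUnit u := IsUnit.of_mul_eq_one v (by rw [mul_comm]; exact hvu)
  have hsp : (L.presheaf.stalkSpecializes h) (Classical.choose ht) =
      (X.presheaf.stalkSpecializes h u) • (L.presheaf.stalkSpecializes h) t := by
    rw [← hu, Groth.Agent.Lib.GenericFree.stalkSpecializes_smul]
  have hspt : (L.presheaf.stalkSpecializes h) t =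
      (X.presheaf.stalkSpecializes h v) • (L.presheaf.stalkSpecializes h) (Classical.choose ht) := by
    rw [← hv, Groth.Agent.Lib.GenericFree.stalkSpecializes_smul]
  have hφ : ∃ φ : X.presheaf.stalk ξ,
      (ψ • (Submodule.Quotient.mk ((L.presheaf.stalkSpecializes h) t) : Cyc.secFibre L ξ)) =
      φ • (Submodule.Quotient.mk ((L.presheaf.stalkSpecializes h) (Classical.choose ht)) :
        Cyc.secFibre L ξ) := by
    refine ⟨ψ * X.presheaf.stalkSpecializes h v, ?_⟩
    rw [mul_smul, ← Submodule.Quotient.mk_smul (r := X.presheaf.stalkSpecializes h v), ← hspt]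
  obtain ⟨φ, hφs, hL1⟩ := Groth.Agent.S1923.secOrdAt_eq L ξ x h _ ht hφ
  rw [hL1]
  -- `φ * sp u - ψ ∈ 𝔪_ξ`
  have bijt : Function.Bijective (fun a : X.presheaf.stalk ξ =>
      a • (L.presheaf.stalkSpecializes h) t) :=
    Groth.Agent.S1923.bijective_smul_stalkSpecializes hL h t (span_eq_top_of_bijective x t bij)
  have hmem2 : φ * X.presheaf.stalkSpecializes h u - ψ ∈ maximalIdeal (X.presheaf.stalk ξ) := by
    apply mem_maximalIdeal_of_smul_mk_eq_zero ξ _ bijt
    rw [sub_smul, hφs, mul_smul, ← Submodule.Quotient.mk_smul (r := X.presheaf.stalkSpecializes h u),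
      ← hsp, sub_self]
  have hres : X.residue ξ ψ = X.residue ξ φ * Cyc.specMap x ξ h u := by
    have h0 : X.residue ξ (φ * X.presheaf.stalkSpecializes h u - ψ) = 0 :=
      (IsLocalRing.residue_eq_zero_iff _).mpr hmem2
    rw [map_sub, map_mul, sub_eq_zero] at h0
    exact h0.symm
  rw [hres]
  have hune : Cyc.specMap x ξ h u ≠ 0 := (huu.map (Cyc.specMap x ξ h)).ne_zero
  by_cases hφ0 : X.residue ξ φ = 0
  · rw [hφ0, zero_mul]
  · rw [ordAt_mul x ξ h _ _ hφ0 hune, ordAt_specMap_of_isUnit x ξ h u huu, add_zero]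

end Gen

section Tensor

variable {X : Scheme.{u}} (L N : X.Modules)

/-- the pairing `L_ξ × N_ξ → (L ⊗ N)_ξ`. -/
noncomputable def mu (ξ : X) (l : L.presheaf.stalk ξ) (n : N.presheaf.stalk ξ) :
    (CohB1.tensorMod L N).presheaf.stalk ξ :=
  (tensorStalkEquiv L N ξ).symm (l ⊗ₜ[X.presheaf.stalk ξ] n)

theorem mu_smul_smul (ξ : X) (a b : X.presheaf.stalk ξ) (l : L.presheaf.stalk ξ)
    (n : N.presheaf.stalk ξ) : mu L N ξ (a • l) (b • n) = (a * b) • mu L N ξ l n := by
  unfold mu
  rw [TensorProduct.smul_tmul_smul, map_smul]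

theorem mu_germ (U : X.Opens) (ξ : X) (hξ : ξ ∈ U) (m : Γ(L, U)) (n : Γ(N, U)) :
    mu L N ξ (L.presheaf.germ U ξ hξ m) (N.presheaf.germ U ξ hξ n) =
      (CohB1.tensorMod L N).presheaf.germ U ξ hξ (tmul m n) := by
  unfold mu
  rw [← tensorStalkEquiv_germ_tmul, LinearEquiv.symm_apply_apply]

variable {L N}

/-- common local generators of `L` and `N` near a point. -/
theorem exists_common_isGen (hL : PicF.IsInvertible L) (hN : PicF.IsInvertible N) (x : X) :
    ∃ (V : X.Opens) (_ : x ∈ V) (e : Γ(L, V)) (e' : Γ(N, V)), IsGen L V e ∧ IsGen N V e' := by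
  obtain ⟨V₁, hx₁, e₁, he₁⟩ := (isInvertible_iff_exists_isGen L).mp hL x
  obtain ⟨V₂, hx₂, e₂, he₂⟩ := (isInvertible_iff_exists_isGen N).mp hN x
  exact ⟨V₁ ⊓ V₂, ⟨hx₁, hx₂⟩, _, _, he₁.mono inf_le_left, he₂.mono inf_le_right⟩

theorem mk_mu_ne_zero (hL : PicF.IsInvertible L) (hN : PicF.IsInvertible N) (ξ : X)
    (l : L.presheaf.stalk ξ) (n : N.presheaf.stalk ξ)
    (hl : (Submodule.Quotient.mk l : Cyc.secFibre L ξ) ≠ 0)
    (hn : (Submodule.Quotient.mk n : Cyc.secFibre N ξ) ≠ 0) :
    (Submodule.Quotient.mk (mu L N ξ l n) : Cyc.secFibre (CohB1.tensorMod L N) ξ) ≠ 0 := by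
  obtain ⟨V, hξV, e, e', he, he'⟩ := exists_common_isGen hL hN ξ
  have bijL := IsGen.stalk_bijective he ξ hξV
  have bijN := IsGen.stalk_bijective he' ξ hξV
  have bijT := IsGen.stalk_bijective (isGen_tmul he he') ξ hξV
  obtain ⟨a, ha⟩ := bijL.2 l
  obtain ⟨b, hb⟩ := bijN.2 n
  simp only at ha hb
  have hane : a ∉ maximalIdeal (X.presheaf.stalk ξ) := by
    apply (smul_mk_ne_zero_iff ξ _ bijL a).mp
    rw [← Submodule.Quotient.mk_smul, ha]
    exact hl
  have hbne : b ∉ maximalIdeal (X.presheaf.stalk ξ) := by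
    apply (smul_mk_ne_zero_iff ξ _ bijN b).mp
    rw [← Submodule.Quotient.mk_smul, hb]
    exact hn
  rw [← ha, ← hb, mu_smul_smul, mu_germ, Submodule.Quotient.mk_smul]
  apply (smul_mk_ne_zero_iff ξ _ bijT (a * b)).mpr
  intro hab
  rcases (Ideal.IsPrime.mem_or_mem inferInstance hab) with h | h
  · exact hane h
  · exact hbne h

/-- additivity of the divisor of a rational section under tensor products. -/
theorem secDivFun_tensor (δ : X → ℤ) (hL : PicF.IsInvertible L) (hN : PicF.IsInvertible N) (ξ : X)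
    (l : L.presheaf.stalk ξ) (n : N.presheaf.stalk ξ)
    (hl : (Submodule.Quotient.mk l : Cyc.secFibre L ξ) ≠ 0)
    (hn : (Submodule.Quotient.mk n : Cyc.secFibre N ξ) ≠ 0) (x : X) :
    Cyc.secDivFun δ (CohB1.tensorMod L N) ξ (Submodule.Quotient.mk (mu L N ξ l n)) x =
      Cyc.secDivFun δ L ξ (Submodule.Quotient.mk l) x +
        Cyc.secDivFun δ N ξ (Submodule.Quotient.mk n) x := by
  unfold Cyc.secDivFun
  by_cases h : ξ ⤳ x ∧ δ x + 1 = δ ξ
  · rw [dif_pos h, dif_pos h, dif_pos h]
    have hT := isInvertible_tensorMod hL hN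
    obtain ⟨V, hxV, e, e', he, he'⟩ := exists_common_isGen hL hN x
    have hξV : ξ ∈ V := h.1.mem_open V.isOpen hxV
    have bijLx := IsGen.stalk_bijective he x hxV
    have bijNx := IsGen.stalk_bijective he' x hxV
    have bijTx := IsGen.stalk_bijective (isGen_tmul he he') x hxV
    have bijL := IsGen.stalk_bijective he ξ hξV
    have bijN := IsGen.stalk_bijective he' ξ hξV
    obtain ⟨a, ha⟩ := bijL.2 l
    obtain ⟨b, hb⟩ := bijN.2 n
    simp only at ha hb
    have hane : a ∉ maximalIdeal (X.presheaf.stalk ξ) := by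
      apply (smul_mk_ne_zero_iff ξ _ bijL a).mp
      rw [← Submodule.Quotient.mk_smul, ha]
      exact hl
    have hbne : b ∉ maximalIdeal (X.presheaf.stalk ξ) := by
      apply (smul_mk_ne_zero_iff ξ _ bijN b).mp
      rw [← Submodule.Quotient.mk_smul, hb]
      exact hn
    have spL : (L.presheaf.stalkSpecializes h.1) (L.presheaf.germ V x hxV e) =
        L.presheaf.germ V ξ hξV e :=
      ConcreteCategory.congr_hom (L.presheaf.germ_stalkSpecializes (U := V) hxV h.1) e
    have spN : (N.presheaf.stalkSpecializes h.1) (N.presheaf.germ V x hxV e') =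
        N.presheaf.germ V ξ hξV e' :=
      ConcreteCategory.congr_hom (N.presheaf.germ_stalkSpecializes (U := V) hxV h.1) e'
    have spT : ((CohB1.tensorMod L N).presheaf.stalkSpecializes h.1)
        ((CohB1.tensorMod L N).presheaf.germ V x hxV (tmul e e')) =
        (CohB1.tensorMod L N).presheaf.germ V ξ hξV (tmul e e') :=
      ConcreteCategory.congr_hom
        ((CohB1.tensorMod L N).presheaf.germ_stalkSpecializes (U := V) hxV h.1) (tmul e e')
    have e1 : (Submodule.Quotient.mk l : Cyc.secFibre L ξ) =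
        a • (Submodule.Quotient.mk ((L.presheaf.stalkSpecializes h.1)
          (L.presheaf.germ V x hxV e)) : Cyc.secFibre L ξ) := by
      rw [spL, ← Submodule.Quotient.mk_smul, ha]
    have e2 : (Submodule.Quotient.mk n : Cyc.secFibre N ξ) =
        b • (Submodule.Quotient.mk ((N.presheaf.stalkSpecializes h.1)
          (N.presheaf.germ V x hxV e')) : Cyc.secFibre N ξ) := by
      rw [spN, ← Submodule.Quotient.mk_smul, hb]
    have e3 : (Submodule.Quotient.mk (mu L N ξ l n) : Cyc.secFibre (CohB1.tensorMod L N) ξ) =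
        (a * b) • (Submodule.Quotient.mk (((CohB1.tensorMod L N).presheaf.stalkSpecializes h.1)
          ((CohB1.tensorMod L N).presheaf.germ V x hxV (tmul e e'))) :
            Cyc.secFibre (CohB1.tensorMod L N) ξ) := by
      rw [spT, ← Submodule.Quotient.mk_smul, ← mu_germ, ← mu_smul_smul, ha, hb]
    rw [e1, e2, e3, secOrdAt_smul_mk_generator hL ξ x h.1 _ bijLx a,
      secOrdAt_smul_mk_generator hN ξ x h.1 _ bijNx b,
      secOrdAt_smul_mk_generator hT ξ x h.1 _ bijTx (a * b), map_mul]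
    refine ordAt_mul x ξ h.1 _ _ ?_ ?_
    · intro h0
      exact hane ((IsLocalRing.residue_eq_zero_iff _).mp h0)
    · intro h0
      exact hbne ((IsLocalRing.residue_eq_zero_iff _).mp h0)
  · rw [dif_neg h, dif_neg h, dif_neg h, add_zero]

end Tensor

end Groth.Agent.Lib.C1CapTensor
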