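import Mathlib

set_option autoImplicit false
universe u

/-!
# Krull dimension of quotients and localizations in terms of chains of primes (helper98)
-/

namespace Groth.Agent.Lib.C2Cond98

section Dim
variable {R : Type*} [CommRing R]

theorem exists_ltSeries_three {α : Type*} [Preorder α] {a b c : α} (hab : a < b) (hbc : b < c) :
    ∃ l : LTSeries α, l.length = 2 ∧ l.last = c ∧ l.head = a := by
  refine ⟨((RelSeries.singleton _ a).snoc b (by simpa using hab)).snoc c (by simpa using hbc), ?_, ?_, ?_⟩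
  · simp
  · simp
  · simp

theorem two_le_dim_quotient_iff (p : Ideal R) [hp : p.IsPrime] :
    (2 : WithBot ℕ∞) ≤ ringKrullDim (R ⧸ p) ↔
      ∃ p₁ p₂ : Ideal R, p₁.IsPrime ∧ p₂.IsPrime ∧ p < p₁ ∧ p₁ < p₂ := by
  rw [ringKrullDim_quotient]
  have h2 : (2 : WithBot ℕ∞) = ((2 : ℕ) : WithBot ℕ∞) := rfl
  rw [h2, Order.le_krullDim_iff]
  constructor
  · rintro ⟨l, hl⟩
    have h0 : (0 : ℕ) < l.length + 1 := by omega
    have h1 : (1 : ℕ) < l.length + 1 := by omega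
    have h2 : (2 : ℕ) < l.length + 1 := by omega
    have h01 : l ⟨0, h0⟩ < l ⟨1, h1⟩ := l.strictMono (by simp [Fin.lt_def])
    have h12 : l ⟨1, h1⟩ < l ⟨2, h2⟩ := l.strictMono (by simp [Fin.lt_def])
    refine ⟨(l ⟨1, h1⟩).1.asIdeal, (l ⟨2, h2⟩).1.asIdeal, (l ⟨1, h1⟩).1.isPrime,
      (l ⟨2, h2⟩).1.isPrime, ?_, h12⟩
    have hle : p ≤ (l ⟨0, h0⟩).1.asIdeal := (l ⟨0, h0⟩).2
    exact lt_of_le_of_lt hle h01
  · rintro ⟨p₁, p₂, hp₁, hp₂, h01, h12⟩
    let a : PrimeSpectrum.zeroLocus (R := R) p := ⟨⟨p, hp⟩, fun x hx => hx⟩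
    let b : PrimeSpectrum.zeroLocus (R := R) p := ⟨⟨p₁, hp₁⟩, fun x hx => h01.le hx⟩
    let c : PrimeSpectrum.zeroLocus (R := R) p := ⟨⟨p₂, hp₂⟩, fun x hx => (h01.trans h12).le hx⟩
    have hab : a < b := h01
    have hbc : b < c := h12
    obtain ⟨l, hl, -, -⟩ := exists_ltSeries_three hab hbc
    exact ⟨l, hl⟩

theorem two_le_dim_localization_iff (n : Ideal R) [hn : n.IsPrime] :
    (2 : WithBot ℕ∞) ≤ ringKrullDim (Localization.AtPrime n) ↔
      ∃ n₀ n₁ : Ideal R, n₀.IsPrime ∧ n₁.IsPrime ∧ n₀ < n₁ ∧ n₁ < n := by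
  rw [IsLocalization.AtPrime.ringKrullDim_eq_height n (Localization.AtPrime n)]
  have h2 : (2 : WithBot ℕ∞) = (((2 : ℕ) : ℕ∞) : WithBot ℕ∞) := rfl
  rw [h2, WithBot.coe_le_coe]
  have hh : n.height = Order.height (⟨n, hn⟩ : PrimeSpectrum R) :=
    PrimeSpectrum.height_eq_orderHeight ⟨n, hn⟩
  rw [hh]
  constructor
  · intro h
    obtain ⟨l, hlast, hl⟩ := Order.exists_series_of_le_height _ h
    have h0 : (0 : ℕ) < l.length + 1 := by omega
    have h1 : (1 : ℕ) < l.length + 1 := by omega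
    have h2 : (2 : ℕ) < l.length + 1 := by omega
    have h01 : l ⟨0, h0⟩ < l ⟨1, h1⟩ := l.strictMono (by simp [Fin.lt_def])
    have h12 : l ⟨1, h1⟩ < l ⟨2, h2⟩ := l.strictMono (by simp [Fin.lt_def])
    have hlast' : l ⟨2, h2⟩ = ⟨n, hn⟩ := by
      rw [← hlast]
      show l ⟨2, h2⟩ = l (Fin.last _)
      congr 1
      ext
      simp [hl]
    rw [hlast'] at h12
    exact ⟨(l ⟨0, h0⟩).asIdeal, (l ⟨1, h1⟩).asIdeal, (l ⟨0, h0⟩).isPrime, (l ⟨1, h1⟩).isPrime,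
      h01, h12⟩
  · rintro ⟨n₀, n₁, hn₀, hn₁, h01, h12⟩
    have hab : (⟨n₀, hn₀⟩ : PrimeSpectrum R) < ⟨n₁, hn₁⟩ := h01
    have hbc : (⟨n₁, hn₁⟩ : PrimeSpectrum R) < ⟨n, hn⟩ := h12
    obtain ⟨l, hl, hlast, -⟩ := exists_ltSeries_three hab hbc
    have := Order.length_le_height (p := l) (x := (⟨n, hn⟩ : PrimeSpectrum R)) hlast.le
    rwa [hl] at this

theorem exists_ltSeries_two {α : Type*} [Preorder α] {a b : α} (hab : a < b) :
    ∃ l : LTSeries α, l.length = 1 ∧ l.last = b ∧ l.head = a := by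
  refine ⟨(RelSeries.singleton _ a).snoc b (by simpa using hab), ?_, ?_, ?_⟩
  · simp
  · simp
  · simp

theorem one_le_dim_quotient_iff (p : Ideal R) [hp : p.IsPrime] :
    (1 : WithBot ℕ∞) ≤ ringKrullDim (R ⧸ p) ↔ ∃ p₁ : Ideal R, p₁.IsPrime ∧ p < p₁ := by
  rw [ringKrullDim_quotient]
  have h2 : (1 : WithBot ℕ∞) = ((1 : ℕ) : WithBot ℕ∞) := rfl
  rw [h2, Order.le_krullDim_iff]
  constructor
  · rintro ⟨l, hl⟩
    have h0 : (0 : ℕ) < l.length + 1 := by omega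
    have h1 : (1 : ℕ) < l.length + 1 := by omega
    have h01 : l ⟨0, h0⟩ < l ⟨1, h1⟩ := l.strictMono (by simp [Fin.lt_def])
    refine ⟨(l ⟨1, h1⟩).1.asIdeal, (l ⟨1, h1⟩).1.isPrime, ?_⟩
    have hle : p ≤ (l ⟨0, h0⟩).1.asIdeal := (l ⟨0, h0⟩).2
    exact lt_of_le_of_lt hle h01
  · rintro ⟨p₁, hp₁, h01⟩
    let a : PrimeSpectrum.zeroLocus (R := R) p := ⟨⟨p, hp⟩, fun x hx => hx⟩
    let b : PrimeSpectrum.zeroLocus (R := R) p := ⟨⟨p₁, hp₁⟩, fun x hx => h01.le hx⟩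
    have hab : a < b := h01
    obtain ⟨l, hl, -, -⟩ := exists_ltSeries_two hab
    exact ⟨l, hl⟩

theorem le_one_of_not_two_le (x : WithBot ℕ∞) (h : ¬ (2 : WithBot ℕ∞) ≤ x) : x ≤ 1 := by
  induction x using WithBot.recBotCoe with
  | bot => exact bot_le
  | coe n =>
    induction n using ENat.recTopCoe with
    | top => exact absurd (WithBot.coe_le_coe.mpr le_top) h
    | coe k =>
      have h' : ¬ (2 ≤ k) := fun hk => h (by
        have h1 : ((2 : ℕ) : ℕ∞) ≤ (k : ℕ∞) := by exact_mod_cast hk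
        exact WithBot.coe_le_coe.mpr h1)
      have hk : k ≤ 1 := by omega
      have h1 : (k : ℕ∞) ≤ ((1 : ℕ) : ℕ∞) := by exact_mod_cast hk
      exact WithBot.coe_le_coe.mpr h1

/-- `dim R/P = 1` for a prime `P` of a local ring: `P` is not maximal and every prime strictly
above `P` is the maximal ideal. -/
theorem dim_quotient_eq_one_iff [IsLocalRing R] (P : Ideal R) [hP : P.IsPrime] :
    ringKrullDim (R ⧸ P) = 1 ↔
      P ≠ IsLocalRing.maximalIdeal R ∧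
        ∀ Q : Ideal R, Q.IsPrime → P < Q → Q = IsLocalRing.maximalIdeal R := by
  constructor
  · intro h
    have h1 : (1 : WithBot ℕ∞) ≤ ringKrullDim (R ⧸ P) := h.ge
    have h2 : ¬ (2 : WithBot ℕ∞) ≤ ringKrullDim (R ⧸ P) := by rw [h]; norm_num
    obtain ⟨P₁, hP₁, hlt⟩ := (one_le_dim_quotient_iff P).mp h1
    refine ⟨?_, ?_⟩
    · intro hPm
      rw [hPm] at hlt
      exact absurd (IsLocalRing.le_maximalIdeal hP₁.ne_top) (not_le_of_gt hlt)
    · intro Q hQ hPQ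
      by_contra hne
      have hQm : Q < IsLocalRing.maximalIdeal R :=
        lt_of_le_of_ne (IsLocalRing.le_maximalIdeal hQ.ne_top) hne
      exact h2 ((two_le_dim_quotient_iff P).mpr
        ⟨Q, IsLocalRing.maximalIdeal R, hQ, inferInstance, hPQ, hQm⟩)
  · rintro ⟨hne, hdim⟩
    have hPm : P < IsLocalRing.maximalIdeal R :=
      lt_of_le_of_ne (IsLocalRing.le_maximalIdeal hP.ne_top) hne
    have h1 : (1 : WithBot ℕ∞) ≤ ringKrullDim (R ⧸ P) :=
      (one_le_dim_quotient_iff P).mpr ⟨_, inferInstance, hPm⟩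
    have h2 : ¬ (2 : WithBot ℕ∞) ≤ ringKrullDim (R ⧸ P) := by
      intro h
      obtain ⟨P₁, P₂, hP₁, hP₂, h01, h12⟩ := (two_le_dim_quotient_iff P).mp h
      have := hdim P₁ hP₁ h01
      rw [this] at h12
      exact absurd (IsLocalRing.le_maximalIdeal hP₂.ne_top) (not_le_of_gt h12)
    exact le_antisymm (le_one_of_not_two_le _ h2) h1

end Dim

end Groth.Agent.Lib.C2Cond98
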