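import Groth.Agent.Lib.PairHenselizationProps
import Groth.Agent.Lib.HenselizationConstr
import Groth.Agent.Lib.HenselizationUP
import Groth.Agent.Lib.HenselizationNoeth

/-!
# Henselization of a local ring versus henselization of the pair `(A, m)` (helper22)

* `henselianRing_of_ringEquiv`: transport of henselian pairs along ring isomorphisms.
* `isPairHenselization_of_algEquiv`: transport of pair henselizations along algebra isomorphisms.
* `isHenselization_of_isPairHenselization`, `isPairHenselization_of_isHenselization`,
  `isPairHenselization_maximalIdeal_iff`.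
-/

namespace Groth.Agent.Lib.PairHenselization

open Polynomial IsLocalRing Groth.Agent.Lib Groth.Agent.Lib.PairStep

universe u

section Transport

theorem isUnit_mk_iff {B : Type*} [CommRing B] (I : Ideal B) (x : B) :
    IsUnit (Ideal.Quotient.mk I x) ↔ ∃ v, x * v - 1 ∈ I := by
  constructor
  · intro h
    obtain ⟨w, hw⟩ := h.exists_right_inv
    obtain ⟨v, rfl⟩ := Ideal.Quotient.mk_surjective w
    refine ⟨v, ?_⟩
    rw [← Ideal.Quotient.eq_zero_iff_mem, map_sub, map_mul, hw, map_one, sub_self]
  · rintro ⟨v, hv⟩
    refine IsUnit.of_mul_eq_one (Ideal.Quotient.mk I v) ?_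
    rw [← map_mul, ← sub_eq_zero, ← map_one (Ideal.Quotient.mk I), ← map_sub,
      Ideal.Quotient.eq_zero_iff_mem]
    exact hv

/-- Henselian pairs transport along ring isomorphisms. -/
theorem henselianRing_of_ringEquiv {B B' : Type*} [CommRing B] [CommRing B'] (e : B ≃+* B')
    (I' : Ideal B') [h : HenselianRing B' I'] : HenselianRing B (I'.comap (e : B →+* B')) := by
  refine ⟨?_, ?_⟩
  · intro x hx
    rw [Ideal.mem_jacobson_bot]
    intro y
    have h1 : (e x) ∈ Ideal.jacobson (⊥ : Ideal B') := h.jac hx
    have h2 := (Ideal.mem_jacobson_bot.mp h1) (e y)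
    have h3 : e (x * y + 1) = e x * e y + 1 := by rw [map_add, map_mul, map_one]
    rw [← h3] at h2
    exact (isUnit_map_iff e _).mp h2
  · intro f hf a₀ h₁ h₂
    set φ : B →+* B' := (e : B →+* B') with hφ
    have hφs : ∀ x, φ (e.symm x) = x := fun x => e.apply_symm_apply x
    have e₁ : (f.map φ).eval (φ a₀) ∈ I' := by
      rw [Polynomial.eval_map, Polynomial.eval₂_at_apply]
      exact h₁
    have e₂ : IsUnit (Ideal.Quotient.mk I' ((f.map φ).derivative.eval (φ a₀))) := by
      rw [Polynomial.derivative_map, Polynomial.eval_map, Polynomial.eval₂_at_apply]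
      obtain ⟨v, hv⟩ := (isUnit_mk_iff _ _).mp h₂
      refine (isUnit_mk_iff _ _).mpr ⟨φ v, ?_⟩
      have : φ (f.derivative.eval a₀ * v - 1) ∈ I' := hv
      rwa [map_sub, map_mul, map_one] at this
    obtain ⟨a', ha', ha''⟩ := h.is_henselian (f.map φ) (hf.map _) (φ a₀) e₁ e₂
    refine ⟨e.symm a', ?_, ?_⟩
    · rw [IsRoot.def] at ha' ⊢
      have h3 : φ (f.eval (e.symm a')) = 0 := by
        rw [← Polynomial.eval₂_at_apply, ← Polynomial.eval_map, hφs]
        exact ha'
      exact (map_eq_zero_iff φ e.injective).mp h3
    · show φ (e.symm a' - a₀) ∈ I'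
      rw [map_sub, hφs]
      exact ha''

/-- Pair henselizations transport along algebra isomorphisms. -/
theorem isPairHenselization_of_algEquiv {A : Type u} [CommRing A] {I : Ideal A}
    {B B' : Type u} [CommRing B] [CommRing B'] [Algebra A B] [Algebra A B'] (e : B ≃ₐ[A] B')
    (hB' : Hens2.IsPairHenselization A I B') : Hens2.IsPairHenselization A I B := by
  have hcomm : (e : B →+* B').comp (algebraMap A B) = algebraMap A B' := by
    ext a
    exact e.commutes a
  have hcomm' : (e.symm : B' →+* B).comp (algebraMap A B') = algebraMap A B := by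
    ext a
    exact e.symm.commutes a
  refine ⟨?_, ?_⟩
  · have h1 := hB'.1
    have h2 := henselianRing_of_ringEquiv e.toRingEquiv (I.map (algebraMap A B'))
    have h3 : (I.map (algebraMap A B')).comap (e.toRingEquiv : B →+* B') =
        I.map (algebraMap A B) := by
      rw [← hcomm', ← Ideal.map_map]
      exact (Ideal.map_symm (f := e.toRingEquiv)).symm
    rwa [h3] at h2
  · intro C _ J f hC hf
    obtain ⟨g, hg, hgu⟩ := hB'.2 C J f hC hf
    refine ⟨g.comp (e : B →+* B'), ?_, ?_⟩
    · show (g.comp (e : B →+* B')).comp (algebraMap A B) = f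
      rw [RingHom.comp_assoc, hcomm, hg]
    · intro g' hg'
      have h1 : g'.comp (e.symm : B' →+* B) = g := by
        apply hgu
        show (g'.comp (e.symm : B' →+* B)).comp (algebraMap A B') = f
        rw [RingHom.comp_assoc, hcomm', hg']
      rw [← h1]
      ext b
      simp

end Transport

section Local

variable (A : Type u) [CommRing A] [IsLocalRing A]

/-- If `B` is a henselization of the pair `(A, m)`, then `m B` is a maximal ideal. -/
theorem isMaximal_map_of_isPairHenselization {B : Type u} [CommRing B] [Algebra A B]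
    (hB : Hens2.IsPairHenselization A (maximalIdeal A) B) :
    ((maximalIdeal A).map (algebraMap A B)).IsMaximal := by
  have hb := quotientMap_pow_bijective hB 1
  rw [pow_one] at hb
  set K : Ideal B := Ideal.map (algebraMap A B) (maximalIdeal A) with hK
  have hF : IsField (A ⧸ maximalIdeal A) :=
    (Ideal.Quotient.maximal_ideal_iff_isField_quotient _).mp (maximalIdeal.isMaximal A)
  have e : (A ⧸ maximalIdeal A) ≃+* (B ⧸ K) := RingEquiv.ofBijective _ hb
  have hF' : IsField (B ⧸ K) := e.symm.toMulEquiv.isField hF
  exact Ideal.Quotient.maximal_of_isField K hF'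

/-- A local henselization of the pair `(A, m)` is a henselization of the local ring `A`. -/
theorem isHenselization_of_isPairHenselization (B : Type u) [CommRing B] [IsLocalRing B]
    [Algebra A B] [IsLocalHom (algebraMap A B)]
    (hB : Hens2.IsPairHenselization A (maximalIdeal A) B) : Hensel.IsHenselization A B := by
  have hmax := isMaximal_map_of_isPairHenselization A hB
  have heq : (maximalIdeal A).map (algebraMap A B) = maximalIdeal B :=
    IsLocalRing.eq_maximalIdeal hmax
  have hH : HenselianRing B (maximalIdeal B) := heq ▸ hB.1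
  refine ⟨HenselizationNoeth.henselianLocalRing_of_henselianRing B, ?_⟩
  intro T _ _ f hf
  have hT : HenselianRing T (maximalIdeal T) := inferInstance
  have hle : (maximalIdeal A).map f ≤ maximalIdeal T := by
    rw [Ideal.map_le_iff_le_comap]
    intro a ha
    exact map_nonunit f a ha
  exact hB.2 T (maximalIdeal T) f hT hle

/-- The local ring structure on the henselization of the pair `(A, m)`. -/
theorem isLocalRing_Hzn2 : IsLocalRing (Hzn2 A (maximalIdeal A)) := by
  have hmax := isMaximal_map_of_isPairHenselization A (isPairHenselization A (maximalIdeal A))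
  have hjac := (henselianRing A (maximalIdeal A)).jac
  refine IsLocalRing.of_unique_max_ideal ⟨_, hmax, fun M hM => ?_⟩
  have h1 : Ideal.jacobson (⊥ : Ideal (Hzn2 A (maximalIdeal A))) ≤ M := sInf_le ⟨bot_le, hM⟩
  exact (hmax.eq_of_le hM.ne_top (hjac.trans h1)).symm

theorem isLocalHom_algebraMap_Hzn2 :
    IsLocalHom (algebraMap A (Hzn2 A (maximalIdeal A))) := by
  have hmax := isMaximal_map_of_isPairHenselization A (isPairHenselization A (maximalIdeal A))
  refine ⟨fun a ha => ?_⟩
  by_contra hcon
  have hmem : a ∈ maximalIdeal A := hcon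
  have h1 : algebraMap A (Hzn2 A (maximalIdeal A)) a ∈
      (maximalIdeal A).map (algebraMap A (Hzn2 A (maximalIdeal A))) :=
    Ideal.mem_map_of_mem _ hmem
  exact hmax.ne_top (Ideal.eq_top_of_isUnit_mem _ h1 ha)

/-- A henselization of the local ring `A` is a henselization of the pair `(A, m)`. -/
theorem isPairHenselization_of_isHenselization (B : Type u) [CommRing B] [IsLocalRing B]
    [Algebra A B] [IsLocalHom (algebraMap A B)] [Hensel.IsHenselization A B] :
    Hens2.IsPairHenselization A (maximalIdeal A) B := by
  have hloc := isLocalRing_Hzn2 A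
  have hlh := isLocalHom_algebraMap_Hzn2 A
  have hP : Hensel.IsHenselization A (Hzn2 A (maximalIdeal A)) :=
    isHenselization_of_isPairHenselization A _ (isPairHenselization A (maximalIdeal A))
  let e₁ : B ≃ₐ[A] HenselizationConstr.Hzn A := HenselizationConstr.equivHzn A B
  let e₂ : Hzn2 A (maximalIdeal A) ≃ₐ[A] HenselizationConstr.Hzn A :=
    HenselizationConstr.equivHzn A (Hzn2 A (maximalIdeal A))
  exact isPairHenselization_of_algEquiv (e₁.trans e₂.symm) (isPairHenselization A (maximalIdeal A))

theorem isPairHenselization_maximalIdeal_iff (B : Type u) [CommRing B] [IsLocalRing B]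
    [Algebra A B] [IsLocalHom (algebraMap A B)] :
    Hens2.IsPairHenselization A (maximalIdeal A) B ↔ Hensel.IsHenselization A B :=
  ⟨fun h => isHenselization_of_isPairHenselization A B h,
    fun _ => isPairHenselization_of_isHenselization A B⟩

end Local

end Groth.Agent.Lib.PairHenselization
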