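import Groth.Agent.Lib.PairEtaleNbhd
import Groth.Agent.S1993

/-!
# The henselization of a local ring as a filtered colimit of étale neighbourhoods

Local-ring corollaries of `Groth.Agent.Lib.PairEtaleNbhd`: for `[Hensel.IsHenselization R Rh]`
every element of `Rh` is the image of an element of an étale `R`-algebra `S` with
`R/m ≅ S/mS` under an `R`-algebra map `S → Rh`, and elements in the kernel of such a map are killed
by an element `t ≡ 1` modulo `mS`.
-/

set_option autoImplicit false
universe u

namespace Groth.Agent.Lib.LocalEtaleNbhd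

open Groth.Agent.Lib.PairEtaleNbhd

variable (R Rh : Type u) [CommRing R] [IsLocalRing R] [CommRing Rh] [IsLocalRing Rh]
  [Algebra R Rh] [IsLocalHom (algebraMap R Rh)]

theorem isPairHenselization [h : Hensel.IsHenselization R Rh] :
    Hens2.IsPairHenselization R (IsLocalRing.maximalIdeal R) Rh :=
  (Groth.Agent.S1993.result R Rh).2 h

/-- Every element of the henselization of a local ring comes from an étale neighbourhood. -/
theorem exists_etale_of_mem [Hensel.IsHenselization R Rh] (x : Rh) :
    ∃ (S : Type u) (_ : CommRing S) (_ : Algebra R S), Algebra.Etale R S ∧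
      QBij (IsLocalRing.maximalIdeal R) S ∧ ∃ (φ : S →ₐ[R] Rh) (s : S), φ s = x := by
  obtain ⟨S, i1, i2, hS, φ, s, hs⟩ := exists_nbhd_of_mem (isPairHenselization R Rh) x
  exact ⟨S, i1, i2, hS.etale, hS.qbij, φ, s, hs⟩

/-- Finitely many elements of the henselization of a local ring come from one étale
neighbourhood. -/
theorem exists_etale_of_finset [Hensel.IsHenselization R Rh] (T : Finset Rh) :
    ∃ (S : Type u) (_ : CommRing S) (_ : Algebra R S), Algebra.Etale R S ∧
      QBij (IsLocalRing.maximalIdeal R) S ∧ ∃ (φ : S →ₐ[R] Rh), ∀ x ∈ T, x ∈ φ.range := by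
  classical
  have hB := isPairHenselization R Rh
  have htop := fromNbhd_eq_top hB
  let T' : Finset (fromNbhd (IsLocalRing.maximalIdeal R) Rh) :=
    T.attach.image fun x => ⟨x.1, by rw [htop]; exact Algebra.mem_top⟩
  obtain ⟨S, i1, i2, hS, ψ, hψ⟩ := exists_algHom_fromNbhd_finset T'
  refine ⟨S, i1, i2, hS.etale, hS.qbij, (fromNbhd _ Rh).val.comp ψ, fun x hx => ?_⟩
  have hx' : (⟨x, by rw [htop]; exact Algebra.mem_top⟩ :
      fromNbhd (IsLocalRing.maximalIdeal R) Rh) ∈ T' :=
    Finset.mem_image.2 ⟨⟨x, hx⟩, Finset.mem_attach _ _, rfl⟩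
  obtain ⟨s, hs⟩ := hψ _ hx'
  exact ⟨s, congrArg Subtype.val hs⟩

/-- An element of an étale neighbourhood dying in the henselization is killed by some
`t ≡ 1`. -/
theorem exists_mul_eq_zero [Hensel.IsHenselization R Rh] {S : Type u} [CommRing S] [Algebra R S]
    [Algebra.Etale R S] (hS : QBij (IsLocalRing.maximalIdeal R) S) (φ : S →ₐ[R] Rh) (s : S)
    (hs : φ s = 0) :
    ∃ t : S, t - 1 ∈ (IsLocalRing.maximalIdeal R).map (algebraMap R S) ∧ t * s = 0 :=
  exists_mul_eq_zero_of_algHom_eq_zero (isPairHenselization R Rh) ⟨inferInstance, hS⟩ φ s hs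

/-- An étale neighbourhood of `(R, m)` has exactly one `R`-algebra map to the henselization. -/
theorem existsUnique_algHom [Hensel.IsHenselization R Rh] {S : Type u} [CommRing S] [Algebra R S]
    [Algebra.Etale R S] (hS : QBij (IsLocalRing.maximalIdeal R) S) :
    ∃! _φ : S →ₐ[R] Rh, True :=
  Groth.Agent.Lib.PairEtaleNbhd.existsUnique_algHom (isPairHenselization R Rh) ⟨inferInstance, hS⟩

end Groth.Agent.Lib.LocalEtaleNbhd
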