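import Mathlib
import Groth.Agent.Lib.C2Dim98
import Groth.Agent.Lib.Brnch98
import Groth.Agent.Lib.Unibranch98
import Groth.Agent.Lib.H56HznPrimes

/-!
# The `c₂` condition: normalization versus an ind-étale henselian local algebra (helper98)

For a local ring `A` with finitely many minimal primes, `A' = normRed A` and a henselian local
faithfully flat `A`-algebra `S` which is a filtered union of images of étale `A`-algebras (a
henselization or a strict henselization):

* `exists_chain_of_forall_maximal`: if every maximal ideal of `A'` has height `≥ 2` (there is a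
  chain `n₀ < n₁ < n`), then every minimal prime `p` of `S` has coheight `≥ 2`.
* `exists_chain_of_forall_minimal`: the converse.
-/

set_option autoImplicit false
set_option maxHeartbeats 400000
universe u

namespace Groth.Agent.Lib.C2Cond98

open TensorProduct IsLocalRing

section Unram

variable {A S : Type u} [CommRing A] [CommRing S] [Algebra A S]

theorem exists_notMem_mul_mem
    (hS : ∀ F : Finset S, ∃ (E : Type u) (_ : CommRing E) (_ : Algebra A E)
      (_ : Algebra.Etale A E) (φ : E →ₐ[A] S), ∀ x ∈ F, x ∈ φ.range)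
    (q : Ideal S) [q.IsPrime] {x : S} (hx : x ∈ q) :
    ∃ v ∉ q, v * x ∈ (q.comap (algebraMap A S)).map (algebraMap A S) := by
  classical
  obtain ⟨E, _, _, hE, φ, hφ⟩ := hS {x}
  obtain ⟨s, hsx⟩ := (AlgHom.mem_range φ).mp (hφ x (Finset.mem_singleton_self x))
  have hs : s ∈ q.comap (φ : E →+* S) := by
    show φ s ∈ q
    rw [hsx]; exact hx
  obtain ⟨u, hu, hus⟩ :=
    Groth.Agent.Lib.H56HznPrimes.exists_notMem_mul_mem_of_unramified (R := A)
      (q.comap (φ : E →+* S)) hs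
  have hunder : (q.comap (φ : E →+* S)).under A = q.comap (algebraMap A S) := by
    ext a
    simp only [Ideal.under, Ideal.mem_comap, RingHom.coe_coe, AlgHom.commutes]
  rw [hunder] at hus
  have h1 : φ (u * s) ∈ (q.comap (algebraMap A S)).map (algebraMap A S) := by
    have := Ideal.mem_map_of_mem (φ : E →+* S) hus
    rw [Ideal.map_map] at this
    have hcomp : (φ : E →+* S).comp (algebraMap A E) = algebraMap A S := φ.comp_algebraMap
    rw [hcomp] at this
    exact this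
  refine ⟨φ u, hu, ?_⟩
  rw [← hsx, ← map_mul]; exact h1

/-- Contraction to `A` separates strictly comparable primes of `S`. -/
theorem comap_ne_of_lt
    (hS : ∀ F : Finset S, ∃ (E : Type u) (_ : CommRing E) (_ : Algebra A E)
      (_ : Algebra.Etale A E) (φ : E →ₐ[A] S), ∀ x ∈ F, x ∈ φ.range)
    {P Q : Ideal S} [hP : P.IsPrime] [Q.IsPrime] (h : P < Q) :
    P.comap (algebraMap A S) ≠ Q.comap (algebraMap A S) := by
  intro heq
  obtain ⟨hle, x, hxQ, hxP⟩ := SetLike.lt_iff_le_and_exists.mp h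
  obtain ⟨v, hv, hvx⟩ := exists_notMem_mul_mem hS Q hxQ
  have h1 : (Q.comap (algebraMap A S)).map (algebraMap A S) ≤ P := by
    rw [← heq]; exact Ideal.map_comap_le
  rcases hP.mem_or_mem (h1 hvx) with h3 | h3
  · exact hv (hle h3)
  · exact hxP h3

end Unram

section Tensor

attribute [local instance] Algebra.TensorProduct.rightAlgebra

variable (A S : Type u) [CommRing A] [IsLocalRing A] [CommRing S] [IsLocalRing S] [Algebra A S]
  [IsLocalHom (algebraMap A S)]

theorem algebraMap_left_eq (A' : Type u) [CommRing A'] [Algebra A A'] (a : A) :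
    algebraMap A' (A' ⊗[A] S) (algebraMap A A' a) =
      algebraMap S (A' ⊗[A] S) (algebraMap A S a) := by
  rw [← IsScalarTower.algebraMap_apply A A' (A' ⊗[A] S),
    ← IsScalarTower.algebraMap_apply A S (A' ⊗[A] S)]

theorem comap_comap_left_eq (A' : Type u) [CommRing A'] [Algebra A A'] (N : Ideal (A' ⊗[A] S)) :
    (N.comap (algebraMap A' (A' ⊗[A] S))).comap (algebraMap A A') =
      (N.comap (algebraMap S (A' ⊗[A] S))).comap (algebraMap A S) := by
  ext a
  simp only [Ideal.mem_comap]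
  rw [algebraMap_left_eq]

theorem isMaximal_comap_left (A' : Type u) [CommRing A'] [Algebra A A'] [Algebra.IsIntegral A A']
    (N : Ideal (A' ⊗[A] S)) (hN : N.IsMaximal) :
    (N.comap (algebraMap A' (A' ⊗[A] S))).IsMaximal := by
  have hNprime : N.IsPrime := hN.isPrime
  have hint : Algebra.IsIntegral S (A' ⊗[A] S) :=
    Groth.Agent.Lib.Unibranch98.isIntegral_right A A' S
  have h1 : (N.comap (algebraMap S (A' ⊗[A] S))).IsMaximal :=
    Ideal.isMaximal_comap_of_isIntegral_of_isMaximal (R := S) N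
  have h2 : N.comap (algebraMap S (A' ⊗[A] S)) = maximalIdeal S := IsLocalRing.eq_maximalIdeal h1
  have hnprime : (N.comap (algebraMap A' (A' ⊗[A] S))).IsPrime := Ideal.comap_isPrime _ _
  have h3 : maximalIdeal A ≤ (N.comap (algebraMap A' (A' ⊗[A] S))).comap (algebraMap A A') := by
    rw [comap_comap_left_eq, h2]
    intro a ha
    exact map_nonunit (algebraMap A S) a ha
  have h6 : maximalIdeal A = (N.comap (algebraMap A' (A' ⊗[A] S))).comap (algebraMap A A') :=
    (maximalIdeal.isMaximal A).eq_of_le (Ideal.comap_ne_top _ hnprime.ne_top) h3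
  exact Ideal.isMaximal_of_isIntegral_of_isMaximal_comap (R := A) _
    (h6 ▸ maximalIdeal.isMaximal A)

theorem exists_maximal_comap_eq [Module.FaithfullyFlat A S] (A' : Type u) [CommRing A']
    [Algebra A A'] (n : Ideal A') (hn : n.IsMaximal) :
    ∃ N : Ideal (A' ⊗[A] S), N.IsMaximal ∧ N.comap (algebraMap A' (A' ⊗[A] S)) = n := by
  have hnprime : n.IsPrime := hn.isPrime
  obtain ⟨N₀, hN₀, hN₀over⟩ :=
    Ideal.exists_isPrime_liesOver_of_faithfullyFlat (B := A' ⊗[A] S) n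
  obtain ⟨N, hNmax, hN₀N⟩ := Ideal.exists_le_maximal N₀ hN₀.ne_top
  refine ⟨N, hNmax, ?_⟩
  have hle : n ≤ N.comap (algebraMap A' (A' ⊗[A] S)) := by
    have e : n = N₀.comap (algebraMap A' (A' ⊗[A] S)) := hN₀over.over
    rw [e]; exact Ideal.comap_mono hN₀N
  have hNprime : N.IsPrime := hNmax.isPrime
  exact (hn.eq_of_le (Ideal.comap_ne_top _ hNmax.ne_top) hle).symm

variable [HenselianLocalRing S] [Module.FaithfullyFlat A S]

set_option maxHeartbeats 1600000 in
/-- If every maximal ideal of `normRed A` has height at least two, then every minimal prime of `S`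
has coheight at least two. -/
theorem exists_chain_of_forall_maximal
    (hfin : (minimalPrimes A).Finite)
    (hS : ∀ F : Finset S, ∃ (E : Type u) (_ : CommRing E) (_ : Algebra A E)
      (_ : Algebra.Etale A E) (φ : E →ₐ[A] S), ∀ x ∈ F, x ∈ φ.range)
    (h : ∀ n : Ideal (CAlg2.normRed A), n.IsMaximal →
      ∃ n₀ n₁ : Ideal (CAlg2.normRed A), n₀.IsPrime ∧ n₁.IsPrime ∧ n₀ < n₁ ∧ n₁ < n)
    (p : Ideal S) (hp : p ∈ minimalPrimes S) :
    ∃ p₁ p₂ : Ideal S, p₁.IsPrime ∧ p₂.IsPrime ∧ p < p₁ ∧ p₁ < p₂ := by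
  classical
  have hintA := Groth.Agent.Lib.Unibranch98.isIntegral_normRed A
  have hint : Algebra.IsIntegral S (CAlg2.normRed A ⊗[A] S) :=
    Groth.Agent.Lib.Unibranch98.isIntegral_right A (CAlg2.normRed A) S
  have hflat : Module.Flat A S := inferInstance
  have hbij := Groth.Agent.Lib.Unibranch98.bijOn_of_flat (A := A) S
  obtain ⟨P, hP, hPp⟩ := hbij.surjOn hp
  have hPp' : P.comap (algebraMap S (CAlg2.normRed A ⊗[A] S)) = p := hPp
  have hPprime : P.IsPrime := hP.1.1
  obtain ⟨N, hNmax, hPN⟩ := Ideal.exists_le_maximal P hPprime.ne_top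
  have hNprime : N.IsPrime := hNmax.isPrime
  have hnmax : (N.comap (algebraMap (CAlg2.normRed A) (CAlg2.normRed A ⊗[A] S))).IsMaximal :=
    isMaximal_comap_left A S (CAlg2.normRed A) N hNmax
  obtain ⟨n₀, n₁, hn₀, hn₁, h01, h1n⟩ := h _ hnmax
  have hnprime : (N.comap (algebraMap (CAlg2.normRed A) (CAlg2.normRed A ⊗[A] S))).IsPrime :=
    hnmax.isPrime
  have hNover : N.LiesOver (N.comap (algebraMap (CAlg2.normRed A) (CAlg2.normRed A ⊗[A] S))) :=
    ⟨rfl⟩
  obtain ⟨N₁, hN₁N, hN₁prime, hN₁over⟩ := Ideal.exists_ideal_le_liesOver_of_le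
    (R := CAlg2.normRed A) (S := CAlg2.normRed A ⊗[A] S) (p := n₁)
    (q := N.comap (algebraMap (CAlg2.normRed A) (CAlg2.normRed A ⊗[A] S))) N h1n.le
  obtain ⟨N₀, hN₀N₁, hN₀prime, hN₀over⟩ := Ideal.exists_ideal_le_liesOver_of_le
    (R := CAlg2.normRed A) (S := CAlg2.normRed A ⊗[A] S) (p := n₀) (q := n₁) N₁ h01.le
  have e1 : n₁ = N₁.comap (algebraMap (CAlg2.normRed A) (CAlg2.normRed A ⊗[A] S)) :=
    hN₁over.over
  have e0 : n₀ = N₀.comap (algebraMap (CAlg2.normRed A) (CAlg2.normRed A ⊗[A] S)) :=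
    hN₀over.over
  have hN₁ne : N₁ ≠ N := by
    intro heq
    rw [heq] at e1
    exact h1n.ne e1
  have hN₀ne : N₀ ≠ N₁ := by
    intro heq
    rw [heq] at e0
    exact h01.ne (e0.trans e1.symm)
  have hN₀₁ : N₀ < N₁ := lt_of_le_of_ne hN₀N₁ hN₀ne
  have hN₁N' : N₁ < N := lt_of_le_of_ne hN₁N hN₁ne
  obtain ⟨P', hP', hP'N₀⟩ := Ideal.exists_minimalPrimes_le
    (bot_le : (⊥ : Ideal (CAlg2.normRed A ⊗[A] S)) ≤ N₀)
  have hPP' : P = P' := Groth.Agent.Lib.Brnch98.minimalPrimes_eq_of_le (CAlg2.normRed A) hS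
    (fun Q _ => Groth.Agent.Lib.Brnch98.normRed_normal_localization A hfin Q) N hP hP' hPN
    (hP'N₀.trans (hN₀N₁.trans hN₁N))
  have hPN₀ : P ≤ N₀ := hPP' ▸ hP'N₀
  have c01 : N₀.comap (algebraMap S (CAlg2.normRed A ⊗[A] S)) <
      N₁.comap (algebraMap S (CAlg2.normRed A ⊗[A] S)) :=
    Ideal.IsIntegral.comap_lt_comap (R := S) hN₀₁
  have c1N : N₁.comap (algebraMap S (CAlg2.normRed A ⊗[A] S)) <
      N.comap (algebraMap S (CAlg2.normRed A ⊗[A] S)) :=
    Ideal.IsIntegral.comap_lt_comap (R := S) hN₁N'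
  refine ⟨N₁.comap (algebraMap S (CAlg2.normRed A ⊗[A] S)),
    N.comap (algebraMap S (CAlg2.normRed A ⊗[A] S)), Ideal.comap_isPrime _ _,
    Ideal.comap_isPrime _ _, ?_, c1N⟩
  rw [← hPp']
  exact lt_of_le_of_lt (Ideal.comap_mono hPN₀) c01

set_option maxHeartbeats 1600000 in
/-- If every minimal prime of `S` has coheight at least two, then every maximal ideal of
`normRed A` has height at least two. -/
theorem exists_chain_of_forall_minimal
    (hS : ∀ F : Finset S, ∃ (E : Type u) (_ : CommRing E) (_ : Algebra A E)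
      (_ : Algebra.Etale A E) (φ : E →ₐ[A] S), ∀ x ∈ F, x ∈ φ.range)
    (h : ∀ p ∈ minimalPrimes S,
      ∃ p₁ p₂ : Ideal S, p₁.IsPrime ∧ p₂.IsPrime ∧ p < p₁ ∧ p₁ < p₂)
    (n : Ideal (CAlg2.normRed A)) (hn : n.IsMaximal) :
    ∃ n₀ n₁ : Ideal (CAlg2.normRed A), n₀.IsPrime ∧ n₁.IsPrime ∧ n₀ < n₁ ∧ n₁ < n := by
  classical
  have hintA := Groth.Agent.Lib.Unibranch98.isIntegral_normRed A
  have hint : Algebra.IsIntegral S (CAlg2.normRed A ⊗[A] S) :=
    Groth.Agent.Lib.Unibranch98.isIntegral_right A (CAlg2.normRed A) S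
  have hflat : Module.Flat A S := inferInstance
  have hbij := Groth.Agent.Lib.Unibranch98.bijOn_of_flat (A := A) S
  obtain ⟨N, hNmax, hNn⟩ := exists_maximal_comap_eq A S (CAlg2.normRed A) n hn
  have hNprime : N.IsPrime := hNmax.isPrime
  obtain ⟨P, hP, hPN⟩ := Ideal.exists_minimalPrimes_le
    (bot_le : (⊥ : Ideal (CAlg2.normRed A ⊗[A] S)) ≤ N)
  have hPprime : P.IsPrime := hP.1.1
  have hp : P.comap (algebraMap S (CAlg2.normRed A ⊗[A] S)) ∈ minimalPrimes S :=
    hbij.mapsTo hP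
  have hpprime : (P.comap (algebraMap S (CAlg2.normRed A ⊗[A] S))).IsPrime := hp.1.1
  obtain ⟨p₁, p₂, hp₁, hp₂, h01, h12⟩ := h _ hp
  obtain ⟨P₁, hPP₁, hP₁prime, hP₁p⟩ :=
    Ideal.exists_ideal_over_prime_of_isIntegral_of_isPrime (R := S)
      (S := CAlg2.normRed A ⊗[A] S) p₁ P h01.le
  obtain ⟨P₂, hP₁P₂, hP₂prime, hP₂p⟩ :=
    Ideal.exists_ideal_over_prime_of_isIntegral_of_isPrime (R := S)
      (S := CAlg2.normRed A ⊗[A] S) p₂ P₁
      (by rw [hP₁p]; exact h12.le)
  obtain ⟨N', hN'max, hP₂N'⟩ := Ideal.exists_le_maximal P₂ hP₂prime.ne_top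
  have hNN' : N = N' := Groth.Agent.Lib.Brnch98.maximal_unique_of_prime_le S
    (CAlg2.normRed A ⊗[A] S) P hNmax hN'max hPN ((hPP₁.trans hP₁P₂).trans hP₂N')
  have hP₂N : P₂ ≤ N := hNN' ▸ hP₂N'
  have hne01 : P.comap (algebraMap (CAlg2.normRed A) (CAlg2.normRed A ⊗[A] S)) ≠
      P₁.comap (algebraMap (CAlg2.normRed A) (CAlg2.normRed A ⊗[A] S)) := by
    intro heq
    have h1 := congrArg (Ideal.comap (algebraMap A (CAlg2.normRed A))) heq
    rw [comap_comap_left_eq, comap_comap_left_eq, hP₁p] at h1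
    exact comap_ne_of_lt hS h01 h1
  have hne12 : P₁.comap (algebraMap (CAlg2.normRed A) (CAlg2.normRed A ⊗[A] S)) ≠
      P₂.comap (algebraMap (CAlg2.normRed A) (CAlg2.normRed A ⊗[A] S)) := by
    intro heq
    have h1 := congrArg (Ideal.comap (algebraMap A (CAlg2.normRed A))) heq
    rw [comap_comap_left_eq, comap_comap_left_eq, hP₁p, hP₂p] at h1
    exact comap_ne_of_lt hS h12 h1
  have hlt01 := lt_of_le_of_ne (Ideal.comap_mono
    (f := algebraMap (CAlg2.normRed A) (CAlg2.normRed A ⊗[A] S)) hPP₁) hne01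
  have hlt12 := lt_of_le_of_ne (Ideal.comap_mono
    (f := algebraMap (CAlg2.normRed A) (CAlg2.normRed A ⊗[A] S)) hP₁P₂) hne12
  refine ⟨_, _, Ideal.comap_isPrime _ _, Ideal.comap_isPrime _ _, hlt01, ?_⟩
  rw [← hNn]
  exact lt_of_lt_of_le hlt12 (Ideal.comap_mono hP₂N)

end Tensor

end Groth.Agent.Lib.C2Cond98
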