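import Mathlib
import Groth.Prelude.Def_CE

set_option autoImplicit false
universe v u
open CategoryTheory CategoryTheory.Limits

namespace Groth.Agent.Lib.CEAssemble66

variable {A : Type u} [Category.{v} A] [Abelian A]

/-- Data exhibiting the cycles, boundaries and homology of a row complex. -/
structure RowData (R : CochainComplex A ℤ) where
  B : ℤ → A
  Z : ℤ → A
  H : ℤ → A
  f1 : ∀ p, B p ⟶ Z p
  g1 : ∀ p, Z p ⟶ H p
  f2 : ∀ p, Z p ⟶ R.X p
  g2 : ∀ p, R.X p ⟶ B (p+1)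
  w1 : ∀ p, f1 p ≫ g1 p = 0
  w2 : ∀ p, f2 p ≫ g2 p = 0
  se1 : ∀ p, (ShortComplex.mk _ _ (w1 p)).ShortExact
  se2 : ∀ p, (ShortComplex.mk _ _ (w2 p)).ShortExact
  hd : ∀ p, R.d p (p+1) = g2 p ≫ f1 (p+1) ≫ f2 (p+1)

namespace RowData

variable {R : CochainComplex A ℤ} (L : RowData R)

instance (p : ℤ) : Mono (L.f1 p) := (L.se1 p).mono_f
instance (p : ℤ) : Epi (L.g1 p) := (L.se1 p).epi_g
instance (p : ℤ) : Mono (L.f2 p) := (L.se2 p).mono_f
instance (p : ℤ) : Epi (L.g2 p) := (L.se2 p).epi_g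

@[reassoc]
lemma f2_d (p : ℤ) : L.f2 p ≫ R.d p (p+1) = 0 := by
  rw [L.hd, reassoc_of% L.w2 p, zero_comp]

lemma iCycles_g2 (p : ℤ) : R.iCycles p ≫ L.g2 p = 0 := by
  have h := R.iCycles_d p (p+1)
  rw [L.hd] at h
  have : Mono (L.f1 (p+1) ≫ L.f2 (p+1)) := mono_comp _ _
  rw [← cancel_mono (L.f1 (p+1) ≫ L.f2 (p+1)), Category.assoc, zero_comp]
  exact h

/-- lifting along `f2` -/
noncomputable def liftZ (p : ℤ) {W : A} (k : W ⟶ R.X p) (hk : k ≫ L.g2 p = 0) : W ⟶ L.Z p :=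
  (L.se2 p).exact.lift k hk

@[reassoc (attr := simp)]
lemma liftZ_f2 (p : ℤ) {W : A} (k : W ⟶ R.X p) (hk : k ≫ L.g2 p = 0) :
    L.liftZ p k hk ≫ L.f2 p = k :=
  (L.se2 p).exact.lift_f k hk

/-- descending along `g1` -/
noncomputable def descH (p : ℤ) {W : A} (k : L.Z p ⟶ W) (hk : L.f1 p ≫ k = 0) : L.H p ⟶ W :=
  (L.se1 p).exact.desc k hk

@[reassoc (attr := simp)]
lemma g1_descH (p : ℤ) {W : A} (k : L.Z p ⟶ W) (hk : L.f1 p ≫ k = 0) :
    L.g1 p ≫ L.descH p k hk = k :=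
  (L.se1 p).exact.g_desc k hk

/-- The cycles of the row. -/
noncomputable def θ (p : ℤ) : L.Z p ≅ R.cycles p where
  hom := R.liftCycles (L.f2 p) (p+1) (by simp) (L.f2_d p)
  inv := L.liftZ p (R.iCycles p) (L.iCycles_g2 p)
  hom_inv_id := by
    rw [← cancel_mono (L.f2 p), Category.assoc, liftZ_f2]
    simp
  inv_hom_id := by
    rw [← cancel_mono (R.iCycles p), Category.assoc, HomologicalComplex.liftCycles_i]
    simp

@[reassoc (attr := simp)]
lemma θ_hom_iCycles (p : ℤ) : (L.θ p).hom ≫ R.iCycles p = L.f2 p := by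
  simp [θ]

lemma toCycles_eq (p : ℤ) :
    R.toCycles p (p+1) = L.g2 p ≫ L.f1 (p+1) ≫ (L.θ (p+1)).hom := by
  rw [← cancel_mono (R.iCycles (p+1))]
  simp [L.hd]

lemma f1_θ_π (p : ℤ) : L.f1 p ≫ (L.θ p).hom ≫ R.homologyπ p = 0 := by
  obtain ⟨i, rfl⟩ : ∃ i, p = i + 1 := ⟨p - 1, by omega⟩
  rw [← cancel_epi (L.g2 i), comp_zero]
  have := L.toCycles_eq i
  rw [← Category.assoc, ← Category.assoc, Category.assoc (L.g2 i), ← this]
  simp

/-- The comparison map on homology. -/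
noncomputable def ηhom (p : ℤ) : L.H p ⟶ R.homology p :=
  L.descH p ((L.θ p).hom ≫ R.homologyπ p) (L.f1_θ_π p)

@[reassoc (attr := simp)]
lemma g1_ηhom (p : ℤ) : L.g1 p ≫ L.ηhom p = (L.θ p).hom ≫ R.homologyπ p := by
  simp [ηhom]

instance (p : ℤ) : Epi (L.ηhom p) := by
  have : Epi (L.g1 p ≫ L.ηhom p) := by
    rw [g1_ηhom]
    infer_instance
  exact epi_of_epi (L.g1 p) _

instance (p : ℤ) : Mono (L.ηhom p) := by
  obtain ⟨i, rfl⟩ : ∃ i, p = i + 1 := ⟨p - 1, by omega⟩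
  rw [Preadditive.mono_iff_cancel_zero]
  intro W x hx
  obtain ⟨W₁, π₁, _, y, hy⟩ := surjective_up_to_refinements_of_epi (L.g1 (i+1)) x
  have hy' : (y ≫ (L.θ (i+1)).hom) ≫ R.homologyπ (i+1) = 0 := by
    rw [Category.assoc, ← g1_ηhom, ← reassoc_of% hy, hx, comp_zero]
  have ex : (ShortComplex.mk (R.toCycles i (i+1)) (R.homologyπ (i+1))
      (R.toCycles_comp_homologyπ i (i+1))).Exact :=
    ShortComplex.exact_of_g_is_cokernel _ (R.homologyIsCokernel i (i+1) (by simp))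
  obtain ⟨W₂, π₂, _, z, hz⟩ := ex.exact_up_to_refinements _ hy'
  dsimp at hz
  rw [L.toCycles_eq i, ← Category.assoc, ← Category.assoc, ← Category.assoc,
    cancel_mono] at hz
  rw [← cancel_epi π₁, ← cancel_epi π₂, comp_zero, comp_zero, hy, reassoc_of% hz]
  simp [L.w1]

/-- The homology of the row. -/
noncomputable def η (p : ℤ) : L.H p ≅ R.homology p :=
  have : IsIso (L.ηhom p) := isIso_of_mono_of_epi _
  asIso (L.ηhom p)

@[reassoc (attr := simp)]
lemma g1_η_hom (p : ℤ) : L.g1 p ≫ (L.η p).hom = (L.θ p).hom ≫ R.homologyπ p := by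
  simp [η]

section naturality

variable {R' : CochainComplex A ℤ} (L' : RowData R') (φ : R ⟶ R')
  {p : ℤ} (zmap : L.Z p ⟶ L'.Z p) (hz : zmap ≫ L'.f2 p = L.f2 p ≫ φ.f p)

include hz in
lemma θ_naturality :
    (L.θ p).hom ≫ HomologicalComplex.cyclesMap φ p = zmap ≫ (L'.θ p).hom := by
  rw [← cancel_mono (R'.iCycles p), Category.assoc, Category.assoc,
    HomologicalComplex.cyclesMap_i, θ_hom_iCycles_assoc, θ_hom_iCycles, hz]

include hz in
lemma η_naturality (hmap : L.H p ⟶ L'.H p) (hh : L.g1 p ≫ hmap = zmap ≫ L'.g1 p) :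
    (L.η p).hom ≫ HomologicalComplex.homologyMap φ p = hmap ≫ (L'.η p).hom := by
  rw [← cancel_epi (L.g1 p), g1_η_hom_assoc, HomologicalComplex.homologyπ_naturality,
    reassoc_of% (L.θ_naturality L' φ zmap hz), reassoc_of% hh, g1_η_hom]

end naturality

end RowData


/-- `CE.IsInjResolutionVia` is invariant under isomorphisms of complexes. -/
lemma isInjResolutionVia_of_iso {C C' : CochainComplex A ℤ} (e : C ≅ C') {M : A}
    {a : M ⟶ C.X 0} {a' : M ⟶ C'.X 0} (ha : a ≫ e.hom.f 0 = a')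
    (h : CE.IsInjResolutionVia C M a) : CE.IsInjResolutionVia C' M a' := by
  obtain ⟨h0, h1, h2, h3, h4, h5⟩ := h
  subst ha
  have h0' : (a ≫ e.hom.f 0) ≫ C'.d 0 1 = 0 := by
    rw [Category.assoc, e.hom.comm, reassoc_of% h0, zero_comp]
  refine ⟨h0', CochainComplex.isStrictlyGE_of_iso e 0, fun q => ?_, fun q hq => ?_, ?_, ?_⟩
  · exact Injective.of_iso ((HomologicalComplex.eval A _ q).mapIso e) (h2 q)
  · exact (h3 q hq).of_iso e
  · have : Mono a := h4
    exact mono_comp _ _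
  · refine ShortComplex.exact_of_iso ?_ h5
    exact ShortComplex.isoMk (Iso.refl _) ((HomologicalComplex.eval A _ 0).mapIso e)
      ((HomologicalComplex.eval A _ 1).mapIso e) (by simp) (by simp)

variable (K : CochainComplex A ℤ)

/-- The input for assembling a Cartan–Eilenberg resolution: compatible injective resolutions of
boundaries, cycles, homology and terms, fitting into short exact sequences of complexes. -/
structure CEInput where
  RB : ℤ → CochainComplex A ℤ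
  RZ : ℤ → CochainComplex A ℤ
  RH : ℤ → CochainComplex A ℤ
  RK : ℤ → CochainComplex A ℤ
  f1 : ∀ p, RB p ⟶ RZ p
  g1 : ∀ p, RZ p ⟶ RH p
  f2 : ∀ p, RZ p ⟶ RK p
  g2 : ∀ p, RK p ⟶ RB (p+1)
  w1 : ∀ p, f1 p ≫ g1 p = 0
  w2 : ∀ p, f2 p ≫ g2 p = 0
  se1 : ∀ p, (ShortComplex.mk _ _ (w1 p)).ShortExact
  se2 : ∀ p, (ShortComplex.mk _ _ (w2 p)).ShortExact
  aZ : ∀ p, K.cycles p ⟶ (RZ p).X 0
  aH : ∀ p, K.homology p ⟶ (RH p).X 0
  aK : ∀ p, K.X p ⟶ (RK p).X 0
  hZ : ∀ p, CE.IsInjResolutionVia (RZ p) (K.cycles p) (aZ p)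
  hH : ∀ p, CE.IsInjResolutionVia (RH p) (K.homology p) (aH p)
  hK : ∀ p, CE.IsInjResolutionVia (RK p) (K.X p) (aK p)
  aZ_g1 : ∀ p, aZ p ≫ (g1 p).f 0 = K.homologyπ p ≫ aH p
  aZ_f2 : ∀ p, aZ p ≫ (f2 p).f 0 = K.iCycles p ≫ aK p
  aK_δ : ∀ p, aK p ≫ (g2 p).f 0 ≫ (f1 (p+1)).f 0 ≫ (f2 (p+1)).f 0 = K.d p (p+1) ≫ aK (p+1)

namespace CEInput

variable {K} (D : CEInput K)

/-- The horizontal differential. -/
noncomputable def δ (p : ℤ) : D.RK p ⟶ D.RK (p+1) := D.g2 p ≫ D.f1 (p+1) ≫ D.f2 (p+1)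

lemma δ_comp_δ (p : ℤ) : D.δ p ≫ D.δ (p+1) = 0 := by
  simp only [δ, Category.assoc]
  rw [reassoc_of% D.w2 (p+1)]
  simp

@[reassoc]
lemma f2_δ (p : ℤ) : D.f2 p ≫ D.δ p = 0 := by
  simp only [δ]
  rw [reassoc_of% D.w2 p, zero_comp]

/-- The double complex with columns `RK p` (outer index `p`). -/
noncomputable def J : CochainComplex (CochainComplex A ℤ) ℤ :=
  CochainComplex.of (fun p => D.RK p) (fun p => D.δ p) (fun p => D.δ_comp_δ p)

/-- The Cartan–Eilenberg double complex (outer index the resolution degree `q`). -/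
noncomputable def I : CochainComplex (CochainComplex A ℤ) ℤ := HomologicalComplex₂.flip D.J

lemma I_X_d (q p : ℤ) : (D.I.X q).d p (p+1) = (D.δ p).f q := by
  simp [I, J] <;> rfl

lemma I_d_f (q q' p : ℤ) : (D.I.d q q').f p = (D.RK p).d q q' := rfl

/-- The augmentation. -/
noncomputable def ε : K ⟶ D.I.X 0 where
  f p := D.aK p
  comm' := by
    rintro p p' (rfl : p + 1 = p')
    rw [I_X_d]
    simp only [δ, HomologicalComplex.comp_f]
    exact D.aK_δ p

lemma ε_comp_d : D.ε ≫ D.I.d 0 1 = 0 := by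
  ext p
  obtain ⟨h, -⟩ := D.hK p
  exact h

lemma column (p : ℤ) :
    CE.IsInjResolutionVia (((HomologicalComplex.eval A (ComplexShape.up ℤ) p).mapHomologicalComplex
      (ComplexShape.up ℤ)).obj D.I) (K.X p) (D.ε.f p) :=
  D.hK p


lemma δ_f (p q : ℤ) : (D.δ p).f q = (D.g2 p).f q ≫ (D.f1 (p+1)).f q ≫ (D.f2 (p+1)).f q := by
  simp [δ]

/-- The row data of the `q`-th row. -/
noncomputable def rowData (q : ℤ) : RowData (D.I.X q) where
  B p := (D.RB p).X q
  Z p := (D.RZ p).X q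
  H p := (D.RH p).X q
  f1 p := (D.f1 p).f q
  g1 p := (D.g1 p).f q
  f2 p := (D.f2 p).f q
  g2 p := (D.g2 p).f q
  w1 p := by rw [← HomologicalComplex.comp_f, D.w1, HomologicalComplex.zero_f]
  w2 p := by
    change (D.f2 p).f q ≫ (D.g2 p).f q = 0
    rw [← HomologicalComplex.comp_f, D.w2, HomologicalComplex.zero_f]
  se1 p := (D.se1 p).map_of_exact (HomologicalComplex.eval A (ComplexShape.up ℤ) q)
  se2 p := (D.se2 p).map_of_exact (HomologicalComplex.eval A (ComplexShape.up ℤ) q)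
  hd p := (D.I_X_d q p).trans (D.δ_f p q)

set_option backward.isDefEq.respectTransparency false in
/-- The column of cycles is isomorphic to the resolution of the cycles. -/
noncomputable def cyclesIso (p : ℤ) : D.RZ p ≅
    ((HomologicalComplex.cyclesFunctor A (ComplexShape.up ℤ) p).mapHomologicalComplex
      (ComplexShape.up ℤ)).obj D.I :=
  HomologicalComplex.Hom.isoOfComponents (fun q => (D.rowData q).θ p) (by
    rintro q q' -
    exact (D.rowData q).θ_naturality (D.rowData q') (D.I.d q q') ((D.RZ p).d q q')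
      ((D.f2 p).comm q q').symm)

set_option backward.isDefEq.respectTransparency false in
lemma cycles_column (p : ℤ) :
    CE.IsInjResolutionVia (((HomologicalComplex.cyclesFunctor A (ComplexShape.up ℤ)
      p).mapHomologicalComplex (ComplexShape.up ℤ)).obj D.I) (K.cycles p)
      (HomologicalComplex.cyclesMap D.ε p) := by
  refine isInjResolutionVia_of_iso (D.cyclesIso p) ?_ (D.hZ p)
  change D.aZ p ≫ ((D.rowData 0).θ p).hom = _
  rw [← cancel_mono ((D.I.X 0).iCycles p), Category.assoc, RowData.θ_hom_iCycles,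
    HomologicalComplex.cyclesMap_i]
  exact D.aZ_f2 p

set_option backward.isDefEq.respectTransparency false in
/-- The column of homology is isomorphic to the resolution of the homology. -/
noncomputable def homologyIso (p : ℤ) : D.RH p ≅
    ((HomologicalComplex.homologyFunctor A (ComplexShape.up ℤ) p).mapHomologicalComplex
      (ComplexShape.up ℤ)).obj D.I :=
  HomologicalComplex.Hom.isoOfComponents (fun q => (D.rowData q).η p) (by
    rintro q q' -
    exact (D.rowData q).η_naturality (D.rowData q') (D.I.d q q') ((D.RZ p).d q q')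
      ((D.f2 p).comm q q').symm ((D.RH p).d q q') ((D.g1 p).comm q q'))

set_option backward.isDefEq.respectTransparency false in
lemma homology_column (p : ℤ) :
    CE.IsInjResolutionVia (((HomologicalComplex.homologyFunctor A (ComplexShape.up ℤ)
      p).mapHomologicalComplex (ComplexShape.up ℤ)).obj D.I) (K.homology p)
      (HomologicalComplex.homologyMap D.ε p) := by
  refine isInjResolutionVia_of_iso (D.homologyIso p) ?_ (D.hH p)
  change D.aH p ≫ ((D.rowData 0).η p).hom = _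
  rw [← cancel_epi (K.homologyπ p), HomologicalComplex.homologyπ_naturality,
    ← reassoc_of% (D.aZ_g1 p)]
  have h1 := (D.rowData 0).g1_η_hom p
  have h2 : D.aZ p ≫ ((D.rowData 0).θ p).hom = HomologicalComplex.cyclesMap D.ε p := by
    rw [← cancel_mono ((D.I.X 0).iCycles p), Category.assoc, RowData.θ_hom_iCycles,
      HomologicalComplex.cyclesMap_i]
    exact D.aZ_f2 p
  rw [← h2, Category.assoc, ← h1]
  rfl

end CEInput

end Groth.Agent.Lib.CEAssemble66
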