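import Mathlib.Algebra.Homology.HomologySequenceLemmas

/-!
# Five lemma for quasi-isomorphisms in short exact sequences of complexes

Mathlib has `HomologicalComplex.HomologySequence.quasiIso_τ₃`. Here: `quasiIso_τ₂`, `quasiIso_τ₁`.
-/

set_option autoImplicit false

open CategoryTheory ComposableArrows Abelian

namespace Groth.Agent.Lib.QuasiIsoSES

variable {C ι : Type*} [Category* C] [Abelian C] {c : ComplexShape ι}
  {S₁ S₂ : ShortComplex (HomologicalComplex C c)} (φ : S₁ ⟶ S₂)
  (hS₁ : S₁.ShortExact) (hS₂ : S₂.ShortExact)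

open HomologicalComplex HomologicalComplex.HomologySequence

include hS₁ hS₂

lemma mono_homologyMap_τ₂ (i : ι)
    (h₁ : Mono (homologyMap φ.τ₁ i))
    (h₃ : Mono (homologyMap φ.τ₃ i))
    (h₀ : ∀ k, c.Rel k i → Epi (homologyMap φ.τ₃ k)) :
    Mono (homologyMap φ.τ₂ i) := by
  by_cases hi : ∃ k, c.Rel k i
  · obtain ⟨k, hki⟩ := hi
    apply mono_of_epi_of_mono_of_mono
      ((δ₀Functor ⋙ δ₀Functor).map (mapComposableArrows₅ φ hS₁ hS₂ k i hki))
    · exact (composableArrows₅_exact hS₁ k i hki).δ₀.δ₀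
    · exact (composableArrows₅_exact hS₂ k i hki).δ₀.δ₀
    · exact h₀ k hki
    · exact h₁
    · exact h₃
  · have := hS₂.mono_f
    have : Mono (S₂.f.f i) := inferInstance
    refine mono_of_mono_of_mono_of_mono (mapComposableArrows₂ φ i)
      (composableArrows₂_exact hS₁ i) ?_ h₁ h₃
    apply mono_homologyMap_of_mono_of_not_rel
    simpa using hi

lemma epi_homologyMap_τ₂ (i : ι)
    (h₁ : Epi (homologyMap φ.τ₁ i))
    (h₃ : Epi (homologyMap φ.τ₃ i))
    (h₄ : ∀ j, c.Rel i j → Mono (homologyMap φ.τ₁ j)) :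
    Epi (homologyMap φ.τ₂ i) := by
  by_cases hi : ∃ j, c.Rel i j
  · obtain ⟨j, hij⟩ := hi
    apply epi_of_epi_of_epi_of_mono
      ((δlastFunctor ⋙ δlastFunctor).map (mapComposableArrows₅ φ hS₁ hS₂ i j hij))
    · exact (composableArrows₅_exact hS₁ i j hij).δlast.δlast
    · exact (composableArrows₅_exact hS₂ i j hij).δlast.δlast
    · exact h₁
    · exact h₃
    · exact h₄ j hij
  · have := hS₁.epi_g
    have : Epi (S₁.g.f i) := inferInstance
    refine epi_of_epi_of_epi_of_epi (mapComposableArrows₂ φ i)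
      (composableArrows₂_exact hS₂ i) ?_ h₁ h₃
    apply epi_homologyMap_of_epi_of_not_rel
    simpa using hi

/-- five lemma: in a morphism of short exact sequences of complexes, if the outer maps are
quasi-isomorphisms, so is the middle one. -/
lemma quasiIso_τ₂ (h₁ : QuasiIso φ.τ₁) (h₃ : QuasiIso φ.τ₃) : QuasiIso φ.τ₂ := by
  rw [quasiIso_iff]
  intro i
  rw [quasiIsoAt_iff_isIso_homologyMap]
  have := mono_homologyMap_τ₂ φ hS₁ hS₂ i inferInstance inferInstance
    (fun k _ => inferInstance)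
  have := epi_homologyMap_τ₂ φ hS₁ hS₂ i inferInstance inferInstance
    (fun k _ => inferInstance)
  apply isIso_of_mono_of_epi

lemma mono_homologyMap_τ₁ (i : ι)
    (h₂ : Mono (homologyMap φ.τ₂ i))
    (h₀ : ∀ k, c.Rel k i → Epi (homologyMap φ.τ₂ k))
    (h₀' : ∀ k, c.Rel k i → Mono (homologyMap φ.τ₃ k)) :
    Mono (homologyMap φ.τ₁ i) := by
  by_cases hi : ∃ k, c.Rel k i
  · obtain ⟨k, hki⟩ := hi
    apply mono_of_epi_of_mono_of_mono
      ((δ₀Functor ⋙ δlastFunctor).map (mapComposableArrows₅ φ hS₁ hS₂ k i hki))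
    · exact (composableArrows₅_exact hS₁ k i hki).δ₀.δlast
    · exact (composableArrows₅_exact hS₂ k i hki).δ₀.δlast
    · exact h₀ k hki
    · exact h₀' k hki
    · exact h₂
  · have := hS₁.mono_f
    have : Mono (S₁.f.f i) := inferInstance
    have eq := (homologyFunctor C _ i).congr_map φ.comm₁₂
    simp only [homologyFunctor_map, homologyMap_comp] at eq
    have := mono_homologyMap_of_mono_of_not_rel S₁.f i (by simpa using hi)
    have : Mono (homologyMap S₁.f i ≫ homologyMap φ.τ₂ i) := mono_comp _ _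
    rw [← eq] at this
    exact mono_of_mono _ (homologyMap S₂.f i)

lemma epi_homologyMap_τ₁ (i : ι)
    (h₂ : Epi (homologyMap φ.τ₂ i))
    (h₃ : Mono (homologyMap φ.τ₃ i))
    (h₀ : ∀ k, c.Rel k i → Epi (homologyMap φ.τ₃ k)) :
    Epi (homologyMap φ.τ₁ i) := by
  by_cases hi : ∃ k, c.Rel k i
  · obtain ⟨k, hki⟩ := hi
    apply epi_of_epi_of_epi_of_mono
      ((δ₀Functor ⋙ δ₀Functor).map (mapComposableArrows₅ φ hS₁ hS₂ k i hki))
    · exact (composableArrows₅_exact hS₁ k i hki).δ₀.δ₀
    · exact (composableArrows₅_exact hS₂ k i hki).δ₀.δ₀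
    · exact h₀ k hki
    · exact h₂
    · exact h₃
  · have := hS₂.mono_f
    have : Mono (S₂.f.f i) := inferInstance
    refine epi_of_mono_of_epi_of_mono (mapComposableArrows₂ φ i)
      (composableArrows₂_exact hS₁ i) (composableArrows₂_exact hS₂ i) ?_ h₂ h₃
    apply mono_homologyMap_of_mono_of_not_rel
    simpa using hi

/-- five lemma: in a morphism of short exact sequences of complexes, if the second and third maps
are quasi-isomorphisms, so is the first one. -/
lemma quasiIso_τ₁ (h₂ : QuasiIso φ.τ₂) (h₃ : QuasiIso φ.τ₃) : QuasiIso φ.τ₁ := by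
  rw [quasiIso_iff]
  intro i
  rw [quasiIsoAt_iff_isIso_homologyMap]
  have := mono_homologyMap_τ₁ φ hS₁ hS₂ i inferInstance
    (fun k _ => inferInstance) (fun k _ => inferInstance)
  have := epi_homologyMap_τ₁ φ hS₁ hS₂ i inferInstance inferInstance
    (fun k _ => inferInstance)
  apply isIso_of_mono_of_epi

end Groth.Agent.Lib.QuasiIsoSES
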