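import Groth.Prelude.Def_RDerDelta
import Mathlib.CategoryTheory.Abelian.Injective.Resolution
import Mathlib.Algebra.Homology.HomologicalComplexLimits
import Groth.Agent.Lib.QuasiIsoSES

set_option autoImplicit false

open CategoryTheory CategoryTheory.Limits

universe v u

namespace Groth.Agent.Lib.Horseshoe

variable {C : Type u} [Category.{v} C] [Abelian C]

set_option backward.isDefEq.respectTransparency false in
/-- descent of a morphism `Z ⟶ K⁰` killed by `d` to a cochain map from an injective resolution of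
`Z` into a complex `K` of injectives (only the exactness of the resolution is used) -/
theorem exists_desc_of_injective {Z : C} (J : InjectiveResolution Z) (K : CochainComplex C ℕ)
    (hK : ∀ n, Injective (K.X n)) (b : Z ⟶ K.X 0) (hb : b ≫ K.d 0 1 = 0) :
    ∃ θ : J.cocomplex ⟶ K, J.ι.f 0 ≫ θ.f 0 = b := by
  let z : J.cocomplex.X 0 ⟶ K.X 0 := Injective.factorThru b (J.ι.f 0)
  have hz : J.ι.f 0 ≫ z = b := Injective.comp_factorThru _ _
  let o : J.cocomplex.X 1 ⟶ K.X 1 := J.exact₀.descToInjective (z ≫ K.d 0 1) (by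
    dsimp
    rw [← Category.assoc, hz, hb])
  have ho : J.cocomplex.d 0 1 ≫ o = z ≫ K.d 0 1 := J.exact₀.comp_descToInjective _ _
  refine ⟨CochainComplex.mkHom _ _ z o ho.symm (fun n p =>
    ⟨(J.exact_succ n).descToInjective (p.2.1 ≫ K.d (n + 1) (n + 2)) (by
        dsimp
        rw [← Category.assoc, ← p.2.2, Category.assoc, K.d_comp_d, comp_zero]),
     ((J.exact_succ n).comp_descToInjective _ _).symm⟩), ?_⟩
  rw [CochainComplex.mkHom_f_0]
  exact hz

section Twisted

variable (K₁ K₃ : CochainComplex C ℕ) (θ : ∀ n, K₃.X n ⟶ K₁.X (n + 1))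

/-- the differential of the twisted biproduct -/
noncomputable def twD (n : ℕ) : K₁.X n ⊞ K₃.X n ⟶ K₁.X (n + 1) ⊞ K₃.X (n + 1) :=
  biprod.desc (K₁.d n (n + 1) ≫ biprod.inl) (θ n ≫ biprod.inl + K₃.d n (n + 1) ≫ biprod.inr)

@[reassoc (attr := simp)]
lemma inl_twD (n : ℕ) : biprod.inl ≫ twD K₁ K₃ θ n = K₁.d n (n + 1) ≫ biprod.inl := by
  simp [twD]

@[reassoc (attr := simp)]
lemma inr_twD (n : ℕ) :
    biprod.inr ≫ twD K₁ K₃ θ n = θ n ≫ biprod.inl + K₃.d n (n + 1) ≫ biprod.inr := by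
  simp [twD]

@[reassoc (attr := simp)]
lemma twD_snd (n : ℕ) : twD K₁ K₃ θ n ≫ biprod.snd = biprod.snd ≫ K₃.d n (n + 1) := by
  ext <;> simp [twD]

variable (hθ : ∀ n, K₃.d n (n + 1) ≫ θ (n + 1) + θ n ≫ K₁.d (n + 1) (n + 2) = 0)
include hθ

/-- the twisted biproduct of two cochain complexes along a twisting cochain `θ : K₃ⁿ ⟶ K₁ⁿ⁺¹` -/
noncomputable def tw : CochainComplex C ℕ :=
  CochainComplex.of (fun n => K₁.X n ⊞ K₃.X n) (twD K₁ K₃ θ) (by
    intro n
    ext
    · simp
    · simp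
    · simp only [inr_twD_assoc, Preadditive.add_comp, Category.assoc, inl_twD, inr_twD,
        Preadditive.comp_add, biprod.inl_fst, biprod.inr_fst, Category.comp_id, comp_zero,
        add_zero, zero_comp]
      exact (add_comm _ _).trans (hθ n)
    · simp)

@[simp]
lemma tw_d (n : ℕ) : (tw K₁ K₃ θ hθ).d n (n + 1) = twD K₁ K₃ θ n := by
  dsimp only [tw]
  exact CochainComplex.of_d _ _ n

/-- the inclusion of the first complex in the twisted biproduct -/
noncomputable def twInl : K₁ ⟶ tw K₁ K₃ θ hθ where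
  f n := biprod.inl
  comm' := by
    rintro i _ rfl
    rw [tw_d]
    exact (inl_twD K₁ K₃ θ i)

/-- the projection of the twisted biproduct to the second complex -/
noncomputable def twSnd : tw K₁ K₃ θ hθ ⟶ K₃ where
  f n := biprod.snd
  comm' := by
    rintro i _ rfl
    rw [tw_d]
    exact (twD_snd K₁ K₃ θ i).symm

@[reassoc (attr := simp)]
lemma twInl_twSnd : twInl K₁ K₃ θ hθ ≫ twSnd K₁ K₃ θ hθ = 0 := by
  ext n
  exact biprod.inl_snd

lemma tw_shortExact :
    (ShortComplex.mk (twInl K₁ K₃ θ hθ) (twSnd K₁ K₃ θ hθ) (twInl_twSnd K₁ K₃ θ hθ)).ShortExact := by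
  apply HomologicalComplex.shortExact_of_degreewise_shortExact
  intro n
  exact (ShortComplex.Splitting.ofHasBinaryBiproduct (K₁.X n) (K₃.X n)).shortExact

end Twisted

section Horseshoe

/-- the shifted complex `n ↦ K₁ⁿ⁺¹` with differential `-d` -/
noncomputable def shiftNeg (K₁ : CochainComplex C ℕ) : CochainComplex C ℕ :=
  CochainComplex.of (fun n => K₁.X (n + 1)) (fun n => - K₁.d (n + 1) (n + 2)) (by intro n; simp)

lemma shiftNeg_d (K₁ : CochainComplex C ℕ) (n : ℕ) :
    (shiftNeg K₁).d n (n + 1) = - K₁.d (n + 1) (n + 2) := by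
  dsimp only [shiftNeg]
  exact CochainComplex.of_d _ _ n

variable {S : ShortComplex C}

set_option backward.isDefEq.respectTransparency false in
/-- **Horseshoe lemma**: a short exact sequence has an injective resolution (in the sense of
`RDer.SESRes`) with prescribed resolutions of the outer terms. -/
theorem exists_sesRes (hS : S.ShortExact) (I₁ : InjectiveResolution S.X₁)
    (I₃ : InjectiveResolution S.X₃) : ∃ T : RDer.SESRes S, T.I₁ = I₁ ∧ T.I₃ = I₃ := by
  have := hS.mono_f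
  have := hS.epi_g
  -- extend the augmentation of `I₁` to `X₂`
  let α : S.X₂ ⟶ I₁.cocomplex.X 0 := Injective.factorThru (I₁.ι.f 0) S.f
  have hα : S.f ≫ α = I₁.ι.f 0 := Injective.comp_factorThru _ _
  have hαd : S.f ≫ (α ≫ I₁.cocomplex.d 0 1) = 0 := by
    rw [← Category.assoc, hα]
    exact I₁.ι_f_zero_comp_complex_d
  let β : S.X₃ ⟶ I₁.cocomplex.X 1 := hS.exact.desc (α ≫ I₁.cocomplex.d 0 1) hαd
  have hβ : S.g ≫ β = α ≫ I₁.cocomplex.d 0 1 := hS.exact.g_desc _ _
  have hβd : β ≫ I₁.cocomplex.d 1 2 = 0 := by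
    rw [← cancel_epi S.g, ← Category.assoc, hβ, Category.assoc, HomologicalComplex.d_comp_d,
      comp_zero, comp_zero]
  -- the shifted complex
  have hKd : ∀ n, (shiftNeg I₁.cocomplex).d n (n + 1) = - I₁.cocomplex.d (n + 1) (n + 2) :=
    shiftNeg_d I₁.cocomplex
  obtain ⟨θc, hθc⟩ := exists_desc_of_injective I₃ (shiftNeg I₁.cocomplex)
      (fun n => I₁.injective (n + 1)) (-β) (by
    rw [hKd]
    simp [hβd])
  let θ : ∀ n, I₃.cocomplex.X n ⟶ I₁.cocomplex.X (n + 1) := fun n => θc.f n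
  have hθ : ∀ n, I₃.cocomplex.d n (n + 1) ≫ θ (n + 1) + θ n ≫ I₁.cocomplex.d (n + 1) (n + 2)
      = 0 := by
    intro n
    have := θc.comm n (n + 1)
    rw [hKd] at this
    change _ + θc.f n ≫ _ = 0
    rw [← this]
    simp
  have hθ0 : I₃.ι.f 0 ≫ θ 0 = -β := hθc
  -- the middle resolution
  let ε₂ : S.X₂ ⟶ (tw I₁.cocomplex I₃.cocomplex θ hθ).X 0 := biprod.lift α (S.g ≫ I₃.ι.f 0)
  have hε₂ : ε₂ ≫ (tw I₁.cocomplex I₃.cocomplex θ hθ).d 0 1 = 0 := by
    rw [tw_d]
    dsimp only [ε₂, twD]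
    rw [biprod.lift_desc]
    apply biprod.hom_ext
    · simp only [Category.assoc, Preadditive.comp_add, Preadditive.add_comp, biprod.inl_fst,
        Category.comp_id, biprod.inr_fst, comp_zero, add_zero, zero_comp]
      rw [hθ0, Preadditive.comp_neg, hβ, add_neg_cancel]
    · simp
  let ι₂ : (CochainComplex.single₀ C).obj S.X₂ ⟶ tw I₁.cocomplex I₃.cocomplex θ hθ :=
    (CochainComplex.fromSingle₀Equiv _ _).symm ⟨ε₂, hε₂⟩
  have hι₂ : ι₂.f 0 = ε₂ := CochainComplex.fromSingle₀Equiv_symm_apply_f_zero _ _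
  have c₁ : I₁.ι ≫ twInl I₁.cocomplex I₃.cocomplex θ hθ =
      (CochainComplex.single₀ C).map S.f ≫ ι₂ := by
    apply HomologicalComplex.from_single_hom_ext
    rw [HomologicalComplex.comp_f, HomologicalComplex.comp_f, hι₂,
      CochainComplex.single₀_map_f_zero]
    change I₁.ι.f 0 ≫ biprod.inl = S.f ≫ biprod.lift α (S.g ≫ I₃.ι.f 0)
    apply biprod.hom_ext
    · simp [hα]
    · simp
  have c₃ : ι₂ ≫ twSnd I₁.cocomplex I₃.cocomplex θ hθ =
      (CochainComplex.single₀ C).map S.g ≫ I₃.ι := by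
    apply HomologicalComplex.from_single_hom_ext
    rw [HomologicalComplex.comp_f, HomologicalComplex.comp_f, hι₂,
      CochainComplex.single₀_map_f_zero]
    change biprod.lift α (S.g ≫ I₃.ι.f 0) ≫ biprod.snd = _
    simp
  have hS₁ : (S.map (CochainComplex.single₀ C)).ShortExact := hS.map_of_exact _
  have hS₂ := tw_shortExact I₁.cocomplex I₃.cocomplex θ hθ
  let φ : S.map (CochainComplex.single₀ C) ⟶
      ShortComplex.mk _ _ (twInl_twSnd I₁.cocomplex I₃.cocomplex θ hθ) :=
    { τ₁ := I₁.ι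
      τ₂ := ι₂
      τ₃ := I₃.ι
      comm₁₂ := c₁
      comm₂₃ := c₃ }
  have hq : QuasiIso ι₂ := Groth.Agent.Lib.QuasiIsoSES.quasiIso_τ₂ φ hS₁ hS₂
    (inferInstanceAs (QuasiIso I₁.ι)) (inferInstanceAs (QuasiIso I₃.ι))
  let I₂ : InjectiveResolution S.X₂ :=
    { cocomplex := tw I₁.cocomplex I₃.cocomplex θ hθ
      injective := fun n =>
        (inferInstance : Injective (I₁.cocomplex.X n ⊞ I₃.cocomplex.X n))
      ι := ι₂
      quasiIso := hq }
  exact ⟨{ I₁ := I₁
           I₂ := I₂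
           I₃ := I₃
           f := twInl I₁.cocomplex I₃.cocomplex θ hθ
           g := twSnd I₁.cocomplex I₃.cocomplex θ hθ
           zero := twInl_twSnd I₁.cocomplex I₃.cocomplex θ hθ
           ι_f := c₁
           ι_g := c₃
           shortExact := hS₂ }, rfl, rfl⟩

/-- **Horseshoe lemma**, existence form. -/
theorem nonempty_sesRes [HasInjectiveResolutions C] (hS : S.ShortExact) :
    Nonempty (RDer.SESRes S) := by
  obtain ⟨T, -, -⟩ := exists_sesRes hS (injectiveResolution S.X₁) (injectiveResolution S.X₃)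
  exact ⟨T⟩

end Horseshoe

end Groth.Agent.Lib.Horseshoe
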