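import Mathlib
import Groth.Agent.Lib.CEAssemble66
import Groth.Agent.Lib.Horseshoe

set_option autoImplicit false
universe v u
open CategoryTheory CategoryTheory.Limits

namespace Groth.Agent.Lib.CEBuild66

open Groth.Agent.Lib.CEAssemble66

variable {A : Type u} [Category.{v} A] [Abelian A]

section Res

variable {M : A} (R : InjectiveResolution M)

/-- The augmentation of the `ℤ`-indexed injective resolution. -/
noncomputable def aug : M ⟶ R.cochainComplex.X 0 :=
  R.ι.f 0 ≫ (R.cochainComplexXIso 0 0 rfl).inv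

set_option backward.isDefEq.respectTransparency false in
lemma aug_d : aug R ≫ R.cochainComplex.d 0 1 = 0 := by
  rw [R.cochainComplex_d 0 1 0 1 rfl rfl]
  dsimp only [aug]
  rw [Category.assoc, Iso.inv_hom_id_assoc, R.ι_f_zero_comp_complex_d_assoc, zero_comp]

set_option backward.isDefEq.respectTransparency false in
lemma isInjResolutionVia_cochainComplex :
    CE.IsInjResolutionVia R.cochainComplex M (aug R) := by
  refine ⟨aug_d R, inferInstance, fun q => inferInstance, fun q hq => ?_, ?_, ?_⟩
  · rcases lt_or_gt_of_ne hq with h | h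
    · exact R.cochainComplex.exactAt_of_isGE 0 q h
    · exact R.cochainComplex.exactAt_of_isLE 0 q h
  · have : Mono (R.ι.f 0) := inferInstance
    exact mono_comp _ _
  · refine ShortComplex.exact_of_iso ?_ R.exact₀
    refine ShortComplex.isoMk (Iso.refl _) (R.cochainComplexXIso 0 0 rfl).symm
      (R.cochainComplexXIso 1 1 rfl).symm ?_ ?_
    · simp [aug]
    · simp [R.cochainComplex_d 0 1 0 1 rfl rfl]

end Res


section Ext

/-- Extension by zero of an `ℕ`-indexed cochain map. -/
noncomputable abbrev ext {C C' : CochainComplex A ℕ} (φ : C ⟶ C') :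
    C.extend ComplexShape.embeddingUpNat ⟶ C'.extend ComplexShape.embeddingUpNat :=
  HomologicalComplex.extendMap φ ComplexShape.embeddingUpNat

lemma shortExact_ext {C₁ C₂ C₃ : CochainComplex A ℕ} (f : C₁ ⟶ C₂) (g : C₂ ⟶ C₃) (w : f ≫ g = 0)
    (hS : (ShortComplex.mk f g w).ShortExact) :
    (ShortComplex.mk (ext f) (ext g)
      (by rw [← HomologicalComplex.extendMap_comp, w, HomologicalComplex.extendMap_zero])).ShortExact := by
  apply HomologicalComplex.shortExact_of_degreewise_shortExact
  intro n
  by_cases hn : 0 ≤ n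
  · obtain ⟨k, rfl⟩ := Int.eq_ofNat_of_zero_le hn
    have hk : ComplexShape.embeddingUpNat.f k = (k : ℤ) := rfl
    have := hS.map_of_exact (HomologicalComplex.eval A (ComplexShape.up ℕ) k)
    refine ShortComplex.shortExact_of_iso ?_ this
    refine ShortComplex.isoMk (HomologicalComplex.extendXIso _ _ hk).symm
      (HomologicalComplex.extendXIso _ _ hk).symm (HomologicalComplex.extendXIso _ _ hk).symm ?_ ?_
    · change (HomologicalComplex.extendXIso C₁ _ hk).inv ≫ (ext f).f k =
        f.f k ≫ (HomologicalComplex.extendXIso C₂ _ hk).inv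
      rw [HomologicalComplex.extendMap_f f _ hk]
      simp
    · change (HomologicalComplex.extendXIso C₂ _ hk).inv ≫ (ext g).f k =
        g.f k ≫ (HomologicalComplex.extendXIso C₃ _ hk).inv
      rw [HomologicalComplex.extendMap_f g _ hk]
      simp
  · have hz : ∀ (C : CochainComplex A ℕ), IsZero ((C.extend ComplexShape.embeddingUpNat).X n) := by
      intro C
      apply HomologicalComplex.isZero_extend_X
      intro i hi
      apply hn
      rw [← hi]
      exact Int.natCast_nonneg i
    exact { exact := ShortComplex.exact_of_isZero_X₂ _ (hz C₂)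
            mono_f := ⟨fun _ _ _ => (hz C₁).eq_of_tgt _ _⟩
            epi_g := ⟨fun _ _ _ => (hz C₃).eq_of_src _ _⟩ }

variable {M M' : A} (R : InjectiveResolution M) (R' : InjectiveResolution M')

set_option backward.isDefEq.respectTransparency false in
lemma aug_ext (u : M ⟶ M') (φ : R.cocomplex ⟶ R'.cocomplex)
    (h : R.ι ≫ φ = (CochainComplex.single₀ A).map u ≫ R'.ι) :
    aug R ≫ (ext φ).f 0 = u ≫ aug R' := by
  have hk : ComplexShape.embeddingUpNat.f 0 = (0 : ℤ) := rfl
  have h0 := congr_arg (fun ψ => ψ.f 0) h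
  dsimp at h0
  dsimp only [aug, InjectiveResolution.cochainComplexXIso]
  rw [HomologicalComplex.extendMap_f φ _ hk, Category.assoc, Iso.inv_hom_id_assoc,
    reassoc_of% h0]
  simp

/-- Extension by zero of a cochain map between injective resolutions. -/
noncomputable def extR {M M' : A} {R : InjectiveResolution M} {R' : InjectiveResolution M'}
    (φ : R.cocomplex ⟶ R'.cocomplex) : R.cochainComplex ⟶ R'.cochainComplex :=
  ext φ

lemma extR_comp_eq_zero {M M' M'' : A} {R : InjectiveResolution M} {R' : InjectiveResolution M'}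
    {R'' : InjectiveResolution M''} (φ : R.cocomplex ⟶ R'.cocomplex)
    (ψ : R'.cocomplex ⟶ R''.cocomplex) (w : φ ≫ ψ = 0) : extR φ ≫ extR ψ = 0 := by
  have : ext φ ≫ ext ψ = 0 := by
    rw [← HomologicalComplex.extendMap_comp, w, HomologicalComplex.extendMap_zero]
  exact this

lemma shortExact_extR {M M' M'' : A} {R : InjectiveResolution M} {R' : InjectiveResolution M'}
    {R'' : InjectiveResolution M''} (φ : R.cocomplex ⟶ R'.cocomplex)
    (ψ : R'.cocomplex ⟶ R''.cocomplex) (w : φ ≫ ψ = 0)
    (hS : (ShortComplex.mk φ ψ w).ShortExact) :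
    (ShortComplex.mk (extR φ) (extR ψ) (extR_comp_eq_zero φ ψ w)).ShortExact :=
  shortExact_ext φ ψ w hS

lemma aug_extR (u : M ⟶ M') (φ : R.cocomplex ⟶ R'.cocomplex)
    (h : R.ι ≫ φ = (CochainComplex.single₀ A).map u ≫ R'.ι) :
    aug R ≫ (extR φ).f 0 = u ≫ aug R' :=
  aug_ext R R' u φ h

end Ext


section SES

/-- A resolution of a short exact sequence with prescribed outer resolutions. -/
structure SESRes' (S : ShortComplex A) (I₁ : InjectiveResolution S.X₁)
    (I₃ : InjectiveResolution S.X₃) where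
  I₂ : InjectiveResolution S.X₂
  f : I₁.cocomplex ⟶ I₂.cocomplex
  g : I₂.cocomplex ⟶ I₃.cocomplex
  zero : f ≫ g = 0
  ι_f : I₁.ι ≫ f = (CochainComplex.single₀ A).map S.f ≫ I₂.ι
  ι_g : I₂.ι ≫ g = (CochainComplex.single₀ A).map S.g ≫ I₃.ι
  shortExact : (ShortComplex.mk f g zero).ShortExact

lemma nonempty_sesRes' {S : ShortComplex A} (hS : S.ShortExact) (I₁ : InjectiveResolution S.X₁)
    (I₃ : InjectiveResolution S.X₃) : Nonempty (SESRes' S I₁ I₃) := by
  obtain ⟨T, rfl, rfl⟩ := Groth.Agent.Lib.Horseshoe.exists_sesRes hS I₁ I₃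
  exact ⟨⟨T.I₂, T.f, T.g, T.zero, T.ι_f, T.ι_g, T.shortExact⟩⟩

lemma SESRes'.isZero_X {S : ShortComplex A} {I₁ : InjectiveResolution S.X₁}
    {I₃ : InjectiveResolution S.X₃} (T : SESRes' S I₁ I₃)
    (h₁ : ∀ k, IsZero (I₁.cocomplex.X k)) (h₃ : ∀ k, IsZero (I₃.cocomplex.X k)) (k : ℕ) :
    IsZero (T.I₂.cocomplex.X k) := by
  have := T.shortExact.map_of_exact (HomologicalComplex.eval A (ComplexShape.up ℕ) k)
  exact this.exact.isZero_of_both_zeros ((h₁ k).eq_of_src _ _) ((h₃ k).eq_of_tgt _ _)

lemma exists_res [EnoughInjectives A] (Z : A) :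
    ∃ R : InjectiveResolution Z, IsZero Z → ∀ k, IsZero (R.cocomplex.X k) := by
  by_cases h : IsZero Z
  · have : Injective Z := h.injective
    refine ⟨InjectiveResolution.self Z, fun _ k => ?_⟩
    cases k with
    | zero => exact IsZero.of_iso h (HomologicalComplex.singleObjXSelf _ _ _)
    | succ k => exact HomologicalComplex.isZero_single_obj_X _ _ _ _ (by simp)
  · exact ⟨injectiveResolution Z, fun h' => (h h').elim⟩

lemma isZero_cochainComplex_X {M : A} (R : InjectiveResolution M)
    (h : ∀ k, IsZero (R.cocomplex.X k)) (q : ℤ) : IsZero (R.cochainComplex.X q) := by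
  by_cases hq : 0 ≤ q
  · obtain ⟨k, rfl⟩ := Int.eq_ofNat_of_zero_le hq
    exact IsZero.of_iso (h k) (R.cochainComplexXIso _ _ rfl)
  · exact CochainComplex.isZero_of_isStrictlyGE _ 0 _ (by omega)

end SES

section Build

variable (K : CochainComplex A ℤ)

/-- The boundaries. -/
noncomputable abbrev Bd (p : ℤ) : A := kernel (K.homologyπ p)

/-- The map from the terms to the boundaries. -/
noncomputable def toBd (p : ℤ) : K.X p ⟶ Bd K (p+1) :=
  kernel.lift _ (K.toCycles p (p+1)) (K.toCycles_comp_homologyπ p (p+1))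

@[reassoc (attr := simp)]
lemma toBd_ι (p : ℤ) : toBd K p ≫ kernel.ι _ = K.toCycles p (p+1) := kernel.lift_ι _ _ _

instance (p : ℤ) : Epi (toBd K p) := by
  rw [epi_iff_surjective_up_to_refinements]
  intro W x
  have ex : (ShortComplex.mk (K.toCycles p (p+1)) (K.homologyπ (p+1))
      (K.toCycles_comp_homologyπ p (p+1))).Exact :=
    ShortComplex.exact_of_g_is_cokernel _ (K.homologyIsCokernel p (p+1) (by simp))
  obtain ⟨W', π, hπ, y, hy⟩ := ex.exact_up_to_refinements (x ≫ kernel.ι _)
    (by simp [kernel.condition])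
  refine ⟨W', π, hπ, y, ?_⟩
  rw [← cancel_mono (kernel.ι _), Category.assoc, Category.assoc, toBd_ι]
  exact hy

@[reassoc (attr := simp)]
lemma iCycles_toBd (p : ℤ) : K.iCycles p ≫ toBd K p = 0 := by
  rw [← cancel_mono (kernel.ι _), ← cancel_mono (K.iCycles (p+1))]
  simp

/-- the first short complex -/
noncomputable abbrev S1 (p : ℤ) : ShortComplex A :=
  ShortComplex.mk (kernel.ι (K.homologyπ p)) (K.homologyπ p) (kernel.condition _)

/-- the second short complex -/
noncomputable abbrev S2 (p : ℤ) : ShortComplex A :=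
  ShortComplex.mk (K.iCycles p) (toBd K p) (iCycles_toBd K p)

lemma S1_shortExact (p : ℤ) : (S1 K p).ShortExact where
  exact := ShortComplex.exact_of_f_is_kernel _ (kernelIsKernel _)
  mono_f := by dsimp; infer_instance
  epi_g := by dsimp; infer_instance

lemma S2_shortExact (p : ℤ) : (S2 K p).ShortExact where
  exact := by
    apply ShortComplex.exact_of_f_is_kernel
    exact isKernelOfComp (kernel.ι _ ≫ K.iCycles (p+1)) (K.d p (p+1))
      (K.cyclesIsKernel p (p+1) (by simp)) (iCycles_toBd K p) (by simp)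
  mono_f := by dsimp; infer_instance
  epi_g := by dsimp; infer_instance

variable [EnoughInjectives A]

/-- chosen resolution of the boundaries -/
noncomputable def resB (p : ℤ) : InjectiveResolution (Bd K p) := (exists_res (Bd K p)).choose

lemma resB_isZero (p : ℤ) (h : IsZero (Bd K p)) (k : ℕ) : IsZero ((resB K p).cocomplex.X k) :=
  (exists_res (Bd K p)).choose_spec h k

/-- chosen resolution of the homology -/
noncomputable def resH (p : ℤ) : InjectiveResolution (K.homology p) :=
  (exists_res (K.homology p)).choose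

lemma resH_isZero (p : ℤ) (h : IsZero (K.homology p)) (k : ℕ) :
    IsZero ((resH K p).cocomplex.X k) :=
  (exists_res (K.homology p)).choose_spec h k

/-- horseshoe for the first sequence -/
noncomputable def T1 (p : ℤ) : SESRes' (S1 K p) (resB K p) (resH K p) :=
  (nonempty_sesRes' (S1_shortExact K p) _ _).some

/-- horseshoe for the second sequence -/
noncomputable def T2 (p : ℤ) : SESRes' (S2 K p) (T1 K p).I₂ (resB K (p+1)) :=
  (nonempty_sesRes' (S2_shortExact K p) _ _).some

/-- The input of the Cartan–Eilenberg assembly. -/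
noncomputable def ceInput : CEInput K where
  RB p := (resB K p).cochainComplex
  RZ p := (T1 K p).I₂.cochainComplex
  RH p := (resH K p).cochainComplex
  RK p := (T2 K p).I₂.cochainComplex
  f1 p := extR (T1 K p).f
  g1 p := extR (T1 K p).g
  f2 p := extR (T2 K p).f
  g2 p := extR (T2 K p).g
  w1 p := extR_comp_eq_zero _ _ (T1 K p).zero
  w2 p := extR_comp_eq_zero _ _ (T2 K p).zero
  se1 p := shortExact_extR _ _ _ (T1 K p).shortExact
  se2 p := shortExact_extR _ _ _ (T2 K p).shortExact
  aZ p := aug (T1 K p).I₂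
  aH p := aug (resH K p)
  aK p := aug (T2 K p).I₂
  hZ p := isInjResolutionVia_cochainComplex _
  hH p := isInjResolutionVia_cochainComplex _
  hK p := isInjResolutionVia_cochainComplex _
  aZ_g1 p := aug_extR _ _ _ _ (T1 K p).ι_g
  aZ_f2 p := aug_extR _ _ _ _ (T2 K p).ι_f
  aK_δ p := by
    have h1 := aug_extR _ _ _ _ (T2 K p).ι_g
    have h2 := aug_extR _ _ _ _ (T1 K (p+1)).ι_f
    have h3 := aug_extR _ _ _ _ (T2 K (p+1)).ι_f
    dsimp at h1 h2 h3
    rw [reassoc_of% h1, reassoc_of% h2, h3]
    simp

omit [EnoughInjectives A] in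
lemma isZero_cycles (p : ℤ) (h : IsZero (K.X p)) : IsZero (K.cycles p) :=
  IsZero.of_mono (K.iCycles p) h

omit [EnoughInjectives A] in
lemma isZero_homology (p : ℤ) (h : IsZero (K.X p)) : IsZero (K.homology p) :=
  IsZero.of_epi (K.homologyπ p) (isZero_cycles K p h)

omit [EnoughInjectives A] in
lemma isZero_Bd (p : ℤ) (h : IsZero (K.X p)) : IsZero (Bd K p) :=
  IsZero.of_mono (kernel.ι _) (isZero_cycles K p h)

lemma ceInput_isZero (p q : ℤ) (h : IsZero (K.X p)) (h' : IsZero (K.X (p+1))) :
    IsZero (((ceInput K).I.X q).X p) := by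
  change IsZero ((T2 K p).I₂.cochainComplex.X q)
  apply isZero_cochainComplex_X
  apply SESRes'.isZero_X
  · apply SESRes'.isZero_X
    · exact resB_isZero K p (isZero_Bd K p h)
    · exact resH_isZero K p (isZero_homology K p h)
  · exact resB_isZero K (p+1) (isZero_Bd K (p+1) h')

end Build

end Groth.Agent.Lib.CEBuild66
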