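import Groth.Agent.Lib.SyntLCI4
import Groth.Agent.Lib.KoszulAffine
import Groth.Agent.S9363
import Mathlib.AlgebraicGeometry.Fiber

/-!
# Flat, finitely presented with syntomic fibres ⇒ syntomic (helper19)

Namespace `Groth.Agent.Lib.SyntFibre`.

* `lciHom_ringEquiv_comp` : precomposition with a ring isomorphism preserves `LCIHom`.
* `lciHom_appLE_of_fibres` : `f` flat, locally of finite presentation with syntomic fibres ⇒ `Γ(V) → Γ(U)` lci for all affine pairs.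
* `isSyntomicMor_of_fibres` (= S9365).
-/

set_option autoImplicit false
set_option linter.style.haveILetI false
universe u
open CategoryTheory CategoryTheory.Limits AlgebraicGeometry TopologicalSpace

namespace Groth.Agent.Lib.SyntFibre

open Groth.Agent.Lib.LCIMaps Groth.Agent.Lib.KoszulAtLCI Groth.Agent.Lib.SyntLCI

theorem lciHom_ringEquiv_comp {A' A B : Type u} [CommRing A'] [CommRing A] [CommRing B]
    {φ : A →+* B} (hφ : LCIHom φ) (e : A' ≃+* A) : LCIHom (φ.comp (e : A' →+* A)) :=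
  (lciHom_of_smooth _ (RingHom.Smooth.of_bijective e.bijective)).comp hφ

variable {X S : Scheme.{u}}

set_option maxHeartbeats 1600000 in
/-- the chart computation -/
theorem lciHom_appLE_of_fibres (f : X ⟶ S) [Flat f] [LocallyOfFinitePresentation f]
    (hfib : ∀ s : S, Synt.IsSyntomicMor (f.fiberToSpecResidueField s))
    {U : X.Opens} {V : S.Opens} (hU : IsAffineOpen U) (hV : IsAffineOpen V) (e : U ≤ f ⁻¹ᵁ V) :
    LCIHom (f.appLE V U e).hom := by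
  letI := (f.appLE V U e).hom.toAlgebra
  haveI : Module.Flat Γ(S, V) Γ(X, U) := f.flat_appLE hV hU e
  haveI : Algebra.FinitePresentation Γ(S, V) Γ(X, U) :=
    HasRingHomProperty.appLE @LocallyOfFinitePresentation f inferInstance ⟨V, hV⟩ ⟨U, hU⟩ e
  refine isLCI_of_fibres (R := Γ(S, V)) (B := Γ(X, U)) (fun 𝔮B => ?_)
  -- the point
  have hyU : hU.fromSpec 𝔮B ∈ U := by
    have h1 : hU.fromSpec 𝔮B ∈ Set.range hU.fromSpec := Set.mem_range_self 𝔮B
    rw [hU.range_fromSpec] at h1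
    exact h1
  have hprime : hU.primeIdealOf ⟨hU.fromSpec 𝔮B, hyU⟩ = 𝔮B := by
    have h1 := hU.fromSpec_primeIdealOf ⟨hU.fromSpec 𝔮B, hyU⟩
    exact hU.fromSpec.isOpenEmbedding.injective h1
  -- the fibre chart
  have H : IsPullback (f.fiberι (f (hU.fromSpec 𝔮B))) (f.fiberToSpecResidueField (f (hU.fromSpec 𝔮B))) f
      (S.fromSpecResidueField (f (hU.fromSpec 𝔮B))) := IsPullback.of_hasPullback _ _
  have hW'le : (⊤ : (Spec (S.residueField (f (hU.fromSpec 𝔮B)))).Opens) ≤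
      (S.fromSpecResidueField (f (hU.fromSpec 𝔮B))) ⁻¹ᵁ V := by
    intro z _
    show S.fromSpecResidueField _ z ∈ V
    rw [Scheme.fromSpecResidueField_apply]
    exact e hyU
  have hW' : IsAffineOpen (⊤ : (Spec (S.residueField (f (hU.fromSpec 𝔮B)))).Opens) :=
    isAffineOpen_top _
  have hiso := isIso_pushoutSection_of_isAffineOpen H hW'le e rfl hV hW' hU
  have hpo := (isIso_pushoutSection_iff H hW'le e rfl).mp hiso
  have hUs : IsAffineOpen ((f.fiberι (f (hU.fromSpec 𝔮B))) ⁻¹ᵁ U ⊓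
      (f.fiberToSpecResidueField (f (hU.fromSpec 𝔮B))) ⁻¹ᵁ ⊤) := by
    have : IsAffine (V : Scheme) := hV
    have : IsAffine ((⊤ : (Spec (S.residueField (f (hU.fromSpec 𝔮B)))).Opens) : Scheme) := hW'
    have : IsAffine (U : Scheme) := hU
    exact IsAffine.of_isIso (Scheme.Hom.isPullback_resLE H hW'le e rfl).isoPullback.hom
  -- the point of the fibre
  have hz : f.asFiber (hU.fromSpec 𝔮B) ∈ (f.fiberι (f (hU.fromSpec 𝔮B))) ⁻¹ᵁ U ⊓
      (f.fiberToSpecResidueField (f (hU.fromSpec 𝔮B))) ⁻¹ᵁ ⊤ := by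
    refine ⟨?_, trivial⟩
    show f.fiberι _ (f.asFiber (hU.fromSpec 𝔮B)) ∈ U
    rw [f.fiberι_asFiber]
    exact hyU
  -- lci of the fibre chart
  have hs := (Groth.Agent.S9363.result (f.fiberToSpecResidueField (f (hU.fromSpec 𝔮B)))).mp
    (hfib (f (hU.fromSpec 𝔮B))) ⟨_, hUs⟩ ⟨⊤, hW'⟩ inf_le_right
  have hl : LCIHom ((f.fiberToSpecResidueField (f (hU.fromSpec 𝔮B))).appLE ⊤
      ((f.fiberι (f (hU.fromSpec 𝔮B))) ⁻¹ᵁ U ⊓
        (f.fiberToSpecResidueField (f (hU.fromSpec 𝔮B))) ⁻¹ᵁ ⊤) inf_le_right).hom := by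
    letI := ((f.fiberToSpecResidueField (f (hU.fromSpec 𝔮B))).appLE ⊤
      ((f.fiberι (f (hU.fromSpec 𝔮B))) ⁻¹ᵁ U ⊓
        (f.fiberToSpecResidueField (f (hU.fromSpec 𝔮B))) ⁻¹ᵁ ⊤) inf_le_right).hom.toAlgebra
    exact isLCI_of_isSyntomic hs
  have hl' := lciHom_ringEquiv_comp hl
    (Scheme.ΓSpecIso (S.residueField (f (hU.fromSpec 𝔮B)))).symm.commRingCatIsoToRingEquiv
  refine ⟨S.residueField (f (hU.fromSpec 𝔮B)), inferInstance,
    ((S.fromSpecResidueField (f (hU.fromSpec 𝔮B))).appLE V ⊤ hW'le ≫ (Scheme.ΓSpecIso _).hom).hom,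
    Γ(f.fiber (f (hU.fromSpec 𝔮B)), (f.fiberι (f (hU.fromSpec 𝔮B))) ⁻¹ᵁ U ⊓
      (f.fiberToSpecResidueField (f (hU.fromSpec 𝔮B))) ⁻¹ᵁ ⊤), inferInstance,
    ((f.fiberι (f (hU.fromSpec 𝔮B))).appLE U _ inf_le_left).hom,
    ((Scheme.ΓSpecIso _).inv ≫
      (f.fiberToSpecResidueField (f (hU.fromSpec 𝔮B))).appLE ⊤ _ inf_le_right).hom, ?_, hl', ?_⟩
  · refine IsPushout.of_iso hpo (Iso.refl _) (Iso.refl _) (Scheme.ΓSpecIso _) (Iso.refl _)
      ?_ ?_ ?_ ?_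
    · rw [Iso.refl_hom, Iso.refl_hom, Category.comp_id, Category.id_comp]; rfl
    · rw [Iso.refl_hom, Category.id_comp]; rfl
    · rw [Iso.refl_hom, Iso.refl_hom, Category.comp_id, Category.id_comp]; rfl
    · rw [Iso.refl_hom, Category.comp_id, CommRingCat.ofHom_hom, Iso.hom_inv_id_assoc]
  · refine ⟨(hUs.primeIdealOf ⟨_, hz⟩).asIdeal, (hUs.primeIdealOf ⟨_, hz⟩).2, ?_⟩
    have hc := IsAffineOpen.comap_primeIdealOf_appLE (f := f.fiberι (f (hU.fromSpec 𝔮B))) U hU _ hUs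
      inf_le_left hz
    have h2 : ∀ (y : X) (hy : y ∈ U), y = hU.fromSpec 𝔮B → hU.primeIdealOf ⟨y, hy⟩ = 𝔮B := by
      rintro y hy rfl
      exact hprime
    exact congrArg PrimeSpectrum.asIdeal (hc.trans (h2 _ _ (f.fiberι_asFiber _)))

/-- flat + lfp + syntomic fibres ⇒ syntomic -/
theorem isSyntomicMor_of_fibres (f : X ⟶ S) [Flat f] [LocallyOfFinitePresentation f]
    (hfib : ∀ s : S, Synt.IsSyntomicMor (f.fiberToSpecResidueField s)) :
    Synt.IsSyntomicMor f := by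
  intro x
  obtain ⟨V, hV, hxV⟩ : ∃ V : S.Opens, IsAffineOpen V ∧ f x ∈ V := by
    obtain ⟨_, ⟨V, hV, rfl⟩, hxV, -⟩ := S.isBasis_affineOpens.exists_subset_of_mem_open
      (Set.mem_univ (f x)) isOpen_univ
    exact ⟨V, hV, hxV⟩
  obtain ⟨U, hU, hxU, hUV⟩ : ∃ U : X.Opens, IsAffineOpen U ∧ x ∈ U ∧ U ≤ f ⁻¹ᵁ V := by
    obtain ⟨_, ⟨U, hU, rfl⟩, hxU, hUV⟩ := X.isBasis_affineOpens.exists_subset_of_mem_open
      (show x ∈ ((f ⁻¹ᵁ V : X.Opens) : Set X) from hxV) (f ⁻¹ᵁ V).2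
    exact ⟨U, hU, hxU, hUV⟩
  refine ⟨⟨U, hU⟩, ⟨V, hV⟩, hUV, hxU, ?_⟩
  letI := (f.appLE V U hUV).hom.toAlgebra
  haveI : Module.Flat Γ(S, V) Γ(X, U) := f.flat_appLE hV hU hUV
  exact isSyntomic_of_isLCI_of_flat (lciHom_appLE_of_fibres f hfib hU hV hUV)

end Groth.Agent.Lib.SyntFibre
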