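import Mathlib.RingTheory.AdjoinRoot
import Mathlib.RingTheory.PiTensorProduct
import Mathlib.LinearAlgebra.PiTensorProduct.Dual
import Mathlib.LinearAlgebra.PiTensorProduct.Basis
import Mathlib.RingTheory.OrzechProperty
import Mathlib.RingTheory.Finiteness.Basic
import Mathlib.Tactic

/-!
# Complete intersections by monic one-variable relations

`R[X_i : i ∈ ι] / (g_i(X_i))` for monic `g_i ∈ R[X]`: it is `⨂_i R[X]/(g_i)`, hence free on the
monomials with exponents `< deg g_i`; the top-coefficient functional `τ` gives a perfect pairing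
`(x, y) ↦ τ (x y)` (Frobenius/symmetric algebra structure).
-/

set_option autoImplicit false

namespace Groth.Agent.Lib.CIMonic58

open Polynomial

section OneVar

variable {R : Type*} [CommRing R] {g : R[X]} (hg : g.Monic)

/-- The power basis of `R[X]/(g)`. -/
noncomputable abbrev pb : Module.Basis (Fin g.natDegree) R (AdjoinRoot g) :=
  AdjoinRoot.powerBasisAux' hg

theorem pb_apply (k : Fin g.natDegree) : pb hg k = AdjoinRoot.root g ^ (k : ℕ) :=
  (AdjoinRoot.powerBasis' hg).basis_eq_pow k

/-- Coordinates of the class of a polynomial of small degree. -/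
theorem pb_repr_mk {f : R[X]} (hf : f.degree < g.degree) (k : Fin g.natDegree) :
    (pb hg).repr (AdjoinRoot.mk g f) k = f.coeff k := by
  rcases subsingleton_or_nontrivial R with h | h
  · exact Subsingleton.elim _ _
  rw [AdjoinRoot.powerBasisAux'_repr_apply_to_fun, AdjoinRoot.modByMonicHom_mk,
    (Polynomial.modByMonic_eq_self_iff hg).mpr hf]

variable (hd : 0 < g.natDegree)

/-- The top index. -/
def topIdx : Fin g.natDegree := ⟨g.natDegree - 1, by omega⟩

/-- The top-coefficient functional. -/
noncomputable def tau1 : AdjoinRoot g →ₗ[R] R := (pb hg).coord (topIdx hd)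

theorem tau1_root_pow {m : ℕ} (hm : m < g.natDegree) :
    tau1 hg hd (AdjoinRoot.root g ^ m) = if m = g.natDegree - 1 then 1 else 0 := by
  have : AdjoinRoot.root g ^ m = pb hg ⟨m, hm⟩ := (pb_apply hg ⟨m, hm⟩).symm
  rw [this, tau1, Module.Basis.coord_apply, Module.Basis.repr_self, Finsupp.single_apply]
  simp only [topIdx, Fin.mk.injEq]

/-- The pairing map `y ↦ τ(· y)`. -/
noncomputable def theta1 : AdjoinRoot g →ₗ[R] Module.Dual R (AdjoinRoot g) :=
  (LinearMap.mul R (AdjoinRoot g)).flip.compr₂ (tau1 hg hd)

theorem theta1_apply (y x : AdjoinRoot g) : theta1 hg hd y x = tau1 hg hd (x * y) := rfl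

theorem coord_mem_range (k : ℕ) (hk : k < g.natDegree) :
    (pb hg).coord ⟨k, hk⟩ ∈ LinearMap.range (theta1 hg hd) := by
  -- downward induction on `k`
  obtain ⟨s, hs⟩ : ∃ s, s = g.natDegree - 1 - k := ⟨_, rfl⟩
  induction s using Nat.strong_induction_on generalizing k with
  | _ s ih =>
    -- expand `theta1 (root^(d-1-k))` in the dual basis
    have hexp := (pb hg).dualBasis.sum_repr (theta1 hg hd (AdjoinRoot.root g ^ s))
    have hcoef : ∀ j : Fin g.natDegree,
        (pb hg).dualBasis.repr (theta1 hg hd (AdjoinRoot.root g ^ s)) j =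
          tau1 hg hd (AdjoinRoot.root g ^ ((j : ℕ) + s)) := by
      intro j
      rw [Module.Basis.dualBasis_repr, theta1_apply, pb_apply, ← pow_add]
    simp only [hcoef, Module.Basis.coe_dualBasis] at hexp
    -- split the sum
    have hsplit : theta1 hg hd (AdjoinRoot.root g ^ s) = (pb hg).coord ⟨k, hk⟩ +
        ∑ j ∈ Finset.univ.filter (fun j : Fin g.natDegree => k < (j : ℕ)),
          tau1 hg hd (AdjoinRoot.root g ^ ((j : ℕ) + s)) • (pb hg).coord j := by
      rw [← hexp, ← Finset.sum_filter_add_sum_filter_not Finset.univ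
        (fun j : Fin g.natDegree => k < (j : ℕ)), add_comm]
      congr 1
      rw [Finset.sum_eq_single (⟨k, hk⟩ : Fin g.natDegree)]
      · rw [tau1_root_pow hg hd (by simp only; omega), if_pos (by simp only; omega), one_smul]
      · intro j hj hjk
        rw [Finset.mem_filter] at hj
        have hlt : (j : ℕ) < k := by
          have h1 : (j : ℕ) ≠ k := fun h => hjk (Fin.ext h)
          have := hj.2; omega
        rw [tau1_root_pow hg hd (by omega), if_neg (by omega), zero_smul]
      · intro h
        exact absurd (Finset.mem_filter.mpr ⟨Finset.mem_univ _, by simp⟩) h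
    have : (pb hg).coord ⟨k, hk⟩ = theta1 hg hd (AdjoinRoot.root g ^ s) -
        ∑ j ∈ Finset.univ.filter (fun j : Fin g.natDegree => k < (j : ℕ)),
          tau1 hg hd (AdjoinRoot.root g ^ ((j : ℕ) + s)) • (pb hg).coord j := by
      rw [hsplit]; abel
    rw [this]
    refine Submodule.sub_mem _ (LinearMap.mem_range_self _ _) (Submodule.sum_mem _ fun j hj => ?_)
    rw [Finset.mem_filter] at hj
    exact Submodule.smul_mem _ _
      (ih (g.natDegree - 1 - (j : ℕ)) (by have := j.2; omega) (j : ℕ) j.2 rfl)

theorem theta1_surjective : Function.Surjective (theta1 hg hd) := by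
  rw [← LinearMap.range_eq_top, eq_top_iff, ← (pb hg).dualBasis.span_eq, Submodule.span_le]
  rintro _ ⟨j, rfl⟩
  rw [Module.Basis.coe_dualBasis]
  exact coord_mem_range hg hd j j.2

theorem theta1_bijective : Function.Bijective (theta1 hg hd) := by
  refine ⟨?_, theta1_surjective hg hd⟩
  -- a surjective endomorphism of a finite module is injective
  let e : Module.Dual R (AdjoinRoot g) ≃ₗ[R] AdjoinRoot g := (pb hg).toDualEquiv.symm
  have hsurj : Function.Surjective (e.toLinearMap ∘ₗ theta1 hg hd) :=
    e.surjective.comp (theta1_surjective hg hd)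
  have : Module.Finite R (AdjoinRoot g) := Module.Finite.of_basis (pb hg)
  have hinj := OrzechProperty.injective_of_surjective_endomorphism _ hsurj
  intro x y hxy
  exact hinj (by simp [hxy])

/-- The pairing as a linear equivalence. -/
noncomputable def theta1Equiv : AdjoinRoot g ≃ₗ[R] Module.Dual R (AdjoinRoot g) :=
  LinearEquiv.ofBijective (theta1 hg hd) (theta1_bijective hg hd)

end OneVar

end Groth.Agent.Lib.CIMonic58
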