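import Groth.Agent.Lib.CIMonic58

/-!
# Complete intersections by monic one-variable relations, II: several variables

`Q = R[X_i : i ∈ ι] / (g_i(X_i))` is isomorphic to `T = ⨂_i R[X]/(g_i)`; the top-coefficient
functional gives a perfect pairing on `T`, hence on `Q`.
-/

set_option autoImplicit false

namespace Groth.Agent.Lib.CIMonic58

open Polynomial PiTensorProduct
open scoped TensorProduct

section OneVar

variable {R : Type*} [CommRing R] {g : R[X]} (hg : g.Monic) (hd : 0 < g.natDegree)

theorem tau1_mk {f : R[X]} (hf : f.degree < g.degree) :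
    tau1 hg hd (AdjoinRoot.mk g f) = f.coeff (g.natDegree - 1) := by
  rw [tau1, Module.Basis.coord_apply, pb_repr_mk hg hf]
  rfl

theorem tau1_add_pow (c : R) {e : ℕ} (he : e < g.natDegree) :
    tau1 hg hd ((AdjoinRoot.root g + algebraMap R _ c) ^ e) =
      tau1 hg hd (AdjoinRoot.root g ^ e) := by
  rcases subsingleton_or_nontrivial R with h | h
  · exact Subsingleton.elim _ _
  have h1 : (AdjoinRoot.root g + algebraMap R _ c) ^ e = AdjoinRoot.mk g ((X + C c) ^ e) := by
    rw [map_pow, map_add, AdjoinRoot.mk_X, AdjoinRoot.mk_C]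
    rfl
  have h2 : AdjoinRoot.root g ^ e = AdjoinRoot.mk g (X ^ e) := by
    rw [map_pow, AdjoinRoot.mk_X]
  have hdeg : (e : WithBot ℕ) < g.degree := by
    rw [Polynomial.degree_eq_natDegree hg.ne_zero]
    exact_mod_cast he
  have hdeg' : ((X + C c) ^ e).degree < g.degree := by
    refine lt_of_le_of_lt Polynomial.degree_le_natDegree ?_
    rw [Polynomial.natDegree_pow_X_add_C]; exact hdeg
  rw [h1, h2, tau1_mk hg hd hdeg']
  · rw [tau1_mk hg hd (by rw [Polynomial.degree_X_pow]; exact hdeg),
      Polynomial.coeff_X_add_C_pow, Polynomial.coeff_X_pow]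
    rcases Nat.lt_or_ge e (g.natDegree - 1) with h3 | h3
    · rw [Nat.choose_eq_zero_of_lt h3, if_neg (by omega)]; simp
    · have h4 : g.natDegree - 1 = e := by omega
      rw [h4, if_pos rfl]; simp

end OneVar

section Multi

variable {R : Type*} [CommRing R] {ι : Type*} [Fintype ι]
  (g : ι → R[X]) (hg : ∀ i, (g i).Monic) (hd : ∀ i, 0 < (g i).natDegree)

/-- The tensor product of the `R[X]/(g i)`. -/
abbrev T := ⨂[R] i, AdjoinRoot (g i)

/-- The top-coefficient functional on the tensor product. -/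
noncomputable def tauT : T g →ₗ[R] R :=
  PiTensorProduct.dualDistrib (⨂ₜ[R] i, tau1 (hg i) (hd i))

theorem tauT_tprod (x : Π i, AdjoinRoot (g i)) :
    tauT g hg hd (⨂ₜ[R] i, x i) = ∏ i, tau1 (hg i) (hd i) (x i) :=
  dualDistrib_apply _ _

/-- The pairing map `y ↦ τ(· y)` on the tensor product. -/
noncomputable def thetaT : T g →ₗ[R] Module.Dual R (T g) :=
  (LinearMap.mul R (T g)).flip.compr₂ (tauT g hg hd)

theorem thetaT_apply (y x : T g) : thetaT g hg hd y x = tauT g hg hd (x * y) := rfl

theorem thetaT_eq : thetaT g hg hd =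
    PiTensorProduct.dualDistrib ∘ₗ PiTensorProduct.map (fun i => theta1 (hg i) (hd i)) := by
  refine PiTensorProduct.ext (MultilinearMap.ext fun y => ?_)
  refine PiTensorProduct.ext (MultilinearMap.ext fun x => ?_)
  simp only [LinearMap.compMultilinearMap_apply, thetaT_apply, tprod_mul_tprod, LinearMap.comp_apply,
    PiTensorProduct.map_tprod, dualDistrib_apply, theta1_apply]
  rw [tauT_tprod]
  rfl

theorem thetaT_bijective : Function.Bijective (thetaT g hg hd) := by
  rw [thetaT_eq]
  exact ((PiTensorProduct.dualDistribEquivOfBasis (fun i => pb (hg i))).bijective).comp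
    ((PiTensorProduct.congr (fun i => theta1Equiv (hg i) (hd i))).bijective)

/-! ### The quotient of the polynomial ring -/

variable [DecidableEq ι]

/-- The ideal generated by the `g i (X i)`. -/
noncomputable def ciIdeal : Ideal (MvPolynomial ι R) :=
  Ideal.span (Set.range fun i => Polynomial.aeval (MvPolynomial.X i : MvPolynomial ι R) (g i))

/-- The quotient `R[X_i] / (g_i(X_i))`. -/
abbrev Q := MvPolynomial ι R ⧸ ciIdeal g

/-- The class of `X i`. -/
noncomputable def u (i : ι) : Q g := Ideal.Quotient.mk _ (MvPolynomial.X i)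

theorem aeval_u (i : ι) : Polynomial.aeval (u g i) (g i) = 0 := by
  have : Polynomial.aeval (u g i) (g i) =
      Ideal.Quotient.mk (ciIdeal g) (Polynomial.aeval (MvPolynomial.X i) (g i)) := by
    rw [← Ideal.Quotient.mkₐ_eq_mk R, ← Polynomial.aeval_algHom_apply]; rfl
  rw [this, Ideal.Quotient.eq_zero_iff_mem]
  exact Ideal.subset_span ⟨i, rfl⟩

/-- `R[X]/(g i) → Q`. -/
noncomputable def incl (i : ι) : AdjoinRoot (g i) →ₐ[R] Q g :=
  AdjoinRoot.liftAlgHom (g i) (Algebra.ofId R (Q g)) (u g i) (aeval_u g i)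

@[simp] theorem incl_root (i : ι) : incl g i (AdjoinRoot.root (g i)) = u g i :=
  AdjoinRoot.liftAlgHom_root _ _ _ _

/-- The forward map `T → Q`. -/
noncomputable def toQ : T g →ₐ[R] Q g :=
  PiTensorProduct.liftAlgHom
    ((MultilinearMap.mkPiAlgebra R ι (Q g)).compLinearMap (fun i => (incl g i).toLinearMap))
    (by simp) (by intro x y; simp [Finset.prod_mul_distrib])

theorem toQ_tprod (x : Π i, AdjoinRoot (g i)) : toQ g (⨂ₜ[R] i, x i) = ∏ i, incl g i (x i) := by
  simp [toQ]

theorem toQ_single (i : ι) (y : AdjoinRoot (g i)) :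
    toQ g (PiTensorProduct.singleAlgHom i y) = incl g i y := by
  rw [PiTensorProduct.singleAlgHom_apply, toQ_tprod, Finset.prod_eq_single i]
  · simp
  · intro j _ hj; simp [hj]
  · intro h; exact absurd (Finset.mem_univ i) h

/-- The backward map `Q → T`. -/
noncomputable def toT : Q g →ₐ[R] T g :=
  Ideal.Quotient.liftₐ (ciIdeal g)
    (MvPolynomial.aeval fun i => PiTensorProduct.singleAlgHom i (AdjoinRoot.root (g i)))
    (by
      intro x hx
      rw [← RingHom.mem_ker]
      revert x
      change ciIdeal g ≤ RingHom.ker _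
      rw [ciIdeal, Ideal.span_le]
      rintro _ ⟨i, rfl⟩
      rw [SetLike.mem_coe, RingHom.mem_ker]
      change (MvPolynomial.aeval fun i => PiTensorProduct.singleAlgHom i (AdjoinRoot.root (g i)))
        (Polynomial.aeval (MvPolynomial.X i) (g i)) = 0
      rw [← Polynomial.aeval_algHom_apply, MvPolynomial.aeval_X, Polynomial.aeval_algHom_apply,
        AdjoinRoot.aeval_eq, AdjoinRoot.mk_self, map_zero])

theorem toT_u (i : ι) :
    toT g (u g i) = PiTensorProduct.singleAlgHom i (AdjoinRoot.root (g i)) := by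
  rw [toT, u, ← Ideal.Quotient.mkₐ_eq_mk R, Ideal.Quotient.liftₐ_apply]
  simp

theorem toT_comp_incl (i : ι) : (toT g).comp (incl g i) =
    PiTensorProduct.singleAlgHom (R := R) (A := fun i => AdjoinRoot (g i)) i := by
  refine AdjoinRoot.algHom_ext ?_
  rw [AlgHom.comp_apply, incl_root, toT_u]

theorem toT_comp_toQ : (toT g).comp (toQ g) = AlgHom.id R (T g) := by
  refine PiTensorProduct.algHom_ext fun i => ?_
  refine AlgHom.ext fun y => ?_
  rw [AlgHom.comp_apply, AlgHom.comp_apply, toQ_single, ← AlgHom.comp_apply, toT_comp_incl]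
  rfl

theorem toQ_comp_toT : (toQ g).comp (toT g) = AlgHom.id R (Q g) := by
  refine Ideal.Quotient.algHom_ext R (MvPolynomial.algHom_ext fun i => ?_)
  change toQ g (toT g (u g i)) = u g i
  rw [toT_u, toQ_single, incl_root]

theorem toT_toQ (t : T g) : toT g (toQ g t) = t := DFunLike.congr_fun (toT_comp_toQ g) t

theorem toQ_toT (q : Q g) : toQ g (toT g q) = q := DFunLike.congr_fun (toQ_comp_toT g) q

/-! ### The pairing on the quotient -/

/-- The top-coefficient functional on `Q`. -/
noncomputable def tauQ : Q g →ₗ[R] R := (tauT g hg hd) ∘ₗ (toT g).toLinearMap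

theorem tauQ_apply (q : Q g) : tauQ g hg hd q = tauT g hg hd (toT g q) := rfl

theorem pairingQ_injective (y y' : Q g)
    (h : ∀ x, tauQ g hg hd (x * y) = tauQ g hg hd (x * y')) : y = y' := by
  have h1 : thetaT g hg hd (toT g y) = thetaT g hg hd (toT g y') := by
    refine LinearMap.ext fun t => ?_
    have := h (toQ g t)
    rw [tauQ_apply, tauQ_apply, map_mul (toT g), map_mul (toT g), toT_toQ] at this
    exact this
  have h2 := (thetaT_bijective g hg hd).1 h1
  rw [← toQ_toT g y, h2, toQ_toT]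

theorem pairingQ_surjective (ψ : Q g →ₗ[R] R) :
    ∃ y, ∀ x, ψ x = tauQ g hg hd (x * y) := by
  obtain ⟨t, ht⟩ := (thetaT_bijective g hg hd).2 (ψ ∘ₗ (toQ g).toLinearMap)
  refine ⟨toQ g t, fun x => ?_⟩
  rw [tauQ_apply, map_mul (toT g), toT_toQ, ← thetaT_apply, ht]
  simp [toQ_toT]

/-! ### Invariance under translations -/

theorem tauQ_toQ_tprod (x : Π i, AdjoinRoot (g i)) :
    tauQ g hg hd (toQ g (⨂ₜ[R] i, x i)) = ∏ i, tau1 (hg i) (hd i) (x i) := by
  rw [tauQ_apply, toT_toQ, tauT_tprod]

theorem tauQ_invariant (σ : Q g →ₐ[R] Q g) (c : ι → R)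
    (hσ : ∀ i, σ (u g i) = u g i + algebraMap R (Q g) (c i)) (x : Q g) :
    tauQ g hg hd (σ x) = tauQ g hg hd x := by
  have key : (tauQ g hg hd) ∘ₗ σ.toLinearMap ∘ₗ (toQ g).toLinearMap =
      (tauQ g hg hd) ∘ₗ (toQ g).toLinearMap := by
    refine (Basis.piTensorProduct (fun i => pb (hg i))).ext fun e => ?_
    rw [Basis.piTensorProduct_apply]
    simp only [LinearMap.comp_apply, AlgHom.toLinearMap_apply]
    have h1 : σ (toQ g (⨂ₜ[R] i, pb (hg i) (e i))) =
        toQ g (⨂ₜ[R] i, (AdjoinRoot.root (g i) + algebraMap R _ (c i)) ^ (e i : ℕ)) := by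
      rw [toQ_tprod, toQ_tprod, map_prod]
      refine Finset.prod_congr rfl fun i _ => ?_
      rw [pb_apply, map_pow, map_pow, incl_root, hσ, map_pow, map_add, incl_root,
        AlgHom.commutes]
    rw [h1, tauQ_toQ_tprod, tauQ_toQ_tprod]
    refine Finset.prod_congr rfl fun i _ => ?_
    rw [tau1_add_pow (hg i) (hd i) (c i) (e i).2, pb_apply]
  have := DFunLike.congr_fun key (toT g x)
  simpa [toQ_toT] using this

end Multi

end Groth.Agent.Lib.CIMonic58
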