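import Mathlib.Algebra.SkewMonoidAlgebra.Basic
import Mathlib.Algebra.SkewMonoidAlgebra.Single
import Mathlib.Tactic

/-!
# Skew group rings over a Frobenius algebra with invariant form are symmetric

Let `A` be a commutative `R`-algebra, `G` a finite group acting on `A` by `R`-algebra
automorphisms and `τ : A → R` an `R`-linear form which is `G`-invariant and such that
`(x, y) ↦ τ (x y)` is a perfect pairing. Then `φ (Σ a_h h) = τ (a_1)` is a symmetrizing form on the
skew group ring `A ∗ G`.
-/

set_option autoImplicit false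

namespace Groth.Agent.Lib.SkewSym58

open SkewMonoidAlgebra

variable {R A G : Type*} [CommRing R] [CommRing A] [Algebra R A] [Group G]
  [MulSemiringAction G A]

/-- `φ (Σ a_h h) = τ (a_1)`. -/
noncomputable def phi (τ : A →ₗ[R] R) : SkewMonoidAlgebra A G →ₗ[R] R where
  toFun x := τ (x.coeff 1)
  map_add' x y := by rw [coeff_add, Finsupp.add_apply, map_add]
  map_smul' r x := by rw [coeff_smul, Finsupp.smul_apply, map_smul]; rfl

theorem phi_apply (τ : A →ₗ[R] R) (x : SkewMonoidAlgebra A G) : phi τ x = τ (x.coeff 1) := rfl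

open Classical in
theorem phi_single_mul_single (τ : A →ₗ[R] R) (g h : G) (c d : A) :
    phi τ (single g c * single h d) = if g * h = 1 then τ (c * g • d) else 0 := by
  rw [single_mul_single, phi_apply, coeff_single_apply]
  split_ifs <;> simp

theorem phi_single_mul (τ : A →ₗ[R] R) (g : G) (c : A) (y : SkewMonoidAlgebra A G) :
    phi τ (single g c * y) = τ (c * g • y.coeff g⁻¹) := by
  rw [phi_apply, coeff_single_mul, mul_one]

theorem phi_comm (τ : A →ₗ[R] R) (hinv : ∀ (g : G) (a : A), τ (g • a) = τ a)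
    (x y : SkewMonoidAlgebra A G) : phi τ (x * y) = phi τ (y * x) := by
  induction x using SkewMonoidAlgebra.induction_on with
  | zero => simp
  | single g c =>
    induction y using SkewMonoidAlgebra.induction_on with
    | zero => simp
    | single h d =>
      rw [phi_single_mul_single, phi_single_mul_single]
      by_cases hgh : g * h = 1
      · have hh : h = g⁻¹ := (inv_eq_of_mul_eq_one_right hgh).symm
        subst hh
        rw [if_pos (by simp), if_pos (by simp), ← hinv g (d * g⁻¹ • c), smul_mul', smul_inv_smul,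
          mul_comm]
      · have hhg : ¬ h * g = 1 := fun h1 => hgh (by
          have : h = g⁻¹ := eq_inv_of_mul_eq_one_left h1
          rw [this]; simp)
        rw [if_neg hgh, if_neg hhg]
    | add y1 y2 h1 h2 => rw [mul_add, add_mul, map_add, map_add, h1, h2]
  | add x1 x2 h1 h2 => rw [add_mul, mul_add, map_add, map_add, h1, h2]

theorem phi_injective (τ : A →ₗ[R] R)
    (hτ : ∀ y y' : A, (∀ x, τ (x * y) = τ (x * y')) → y = y')
    (y y' : SkewMonoidAlgebra A G) (h : ∀ x, phi τ (x * y) = phi τ (x * y')) : y = y' := by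
  refine SkewMonoidAlgebra.ext fun g => ?_
  have h1 : g⁻¹ • y.coeff g = g⁻¹ • y'.coeff g := by
    refine hτ _ _ fun c => ?_
    have := h (single g⁻¹ c)
    rwa [phi_single_mul, phi_single_mul, inv_inv] at this
  exact smul_left_cancel _ h1

theorem phi_surjective [Finite G] (τ : A →ₗ[R] R) [SMulCommClass G R A]
    (hτ : ∀ ψ : A →ₗ[R] R, ∃ y, ∀ x, ψ x = τ (x * y))
    (ψ : SkewMonoidAlgebra A G →ₗ[R] R) : ∃ y, ∀ x, ψ x = phi τ (x * y) := by
  classical
  have := Fintype.ofFinite G
  -- the components of `ψ`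
  let ψg : G → (A →ₗ[R] R) := fun g =>
    { toFun := fun c => ψ (single g c)
      map_add' := fun c d => by rw [single_add, map_add]
      map_smul' := fun r c => by rw [← smul_single, map_smul]; rfl }
  choose b hb using fun g => hτ (ψg g)
  refine ⟨∑ g : G, single g⁻¹ (g⁻¹ • b g), fun x => ?_⟩
  induction x using SkewMonoidAlgebra.induction_on with
  | zero => simp
  | single g c =>
    rw [phi_single_mul]
    have hcoef : (∑ h : G, single h⁻¹ (h⁻¹ • b h)).coeff g⁻¹ = g⁻¹ • b g := by
      have : (∑ h : G, single h⁻¹ (h⁻¹ • b h) : SkewMonoidAlgebra A G).coeff =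
          ∑ h : G, (single h⁻¹ (h⁻¹ • b h) : SkewMonoidAlgebra A G).coeff :=
        map_sum (coeffAddEquiv : SkewMonoidAlgebra A G ≃+ (G →₀ A)) _ _
      rw [this, Finsupp.finsetSum_apply, Finset.sum_eq_single g]
      · rw [coeff_single_apply, if_pos rfl]
      · intro h _ hne
        rw [coeff_single_apply, if_neg (fun h1 => hne (inv_injective h1))]
      · intro h; exact absurd (Finset.mem_univ g) h
    rw [hcoef, smul_inv_smul]
    exact hb g c
  | add x1 x2 h1 h2 => rw [add_mul, map_add, map_add, h1, h2]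

/-- The skew group ring is a symmetric algebra. -/
theorem symmetric [Finite G] [SMulCommClass G R A] (τ : A →ₗ[R] R)
    (hinv : ∀ (g : G) (a : A), τ (g • a) = τ a)
    (hinj : ∀ y y' : A, (∀ x, τ (x * y) = τ (x * y')) → y = y')
    (hsurj : ∀ ψ : A →ₗ[R] R, ∃ y, ∀ x, ψ x = τ (x * y)) :
    ∃ φ : SkewMonoidAlgebra A G →ₗ[R] R,
      (∀ x y : SkewMonoidAlgebra A G, φ (x * y) = φ (y * x)) ∧
      Function.Injective
        (fun y : SkewMonoidAlgebra A G => fun x : SkewMonoidAlgebra A G => φ (x * y)) ∧
      ∀ ψ : SkewMonoidAlgebra A G →ₗ[R] R, ∃ y : SkewMonoidAlgebra A G, ∀ x, ψ x = φ (x * y) :=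
  ⟨phi τ, phi_comm τ hinv, fun y y' h => phi_injective τ hinj y y' (fun x => congrFun h x),
    phi_surjective τ hsurj⟩

end Groth.Agent.Lib.SkewSym58
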