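import Groth.Agent.Lib.CIMonic58b
import Groth.Agent.Lib.SkewSym58

/-!
# Skew group rings of translation actions on monic complete intersections are symmetric
-/

set_option autoImplicit false

namespace Groth.Agent.Lib.CIMonic58

open Polynomial

/-- Let `A = R[X_i] / (g_i(X_i))` with `g_i` monic of positive degree, and let a finite group `G`,
generated by `γ`, act on `A` by `R`-algebra automorphisms with `γ • X_i = X_i + c_i`. Then the skew
group ring `A ∗ G` is a symmetric `R`-algebra. -/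
theorem skew_symmetric {R : Type*} [CommRing R] {ι : Type*} [Fintype ι] [DecidableEq ι]
    (g : ι → R[X]) (hg : ∀ i, (g i).Monic) (hd : ∀ i, 0 < (g i).natDegree)
    (I : Ideal (MvPolynomial ι R)) (hI : I = ciIdeal g) (c : ι → R)
    (G : Type*) [Group G] [Finite G] [MulSemiringAction G (MvPolynomial ι R ⧸ I)]
    [SMulCommClass G R (MvPolynomial ι R ⧸ I)] (γ : G)
    (hgen : ∀ h : G, h ∈ Subgroup.zpowers γ)
    (hact : ∀ i, γ • (Ideal.Quotient.mk I (MvPolynomial.X i)) =
      Ideal.Quotient.mk I (MvPolynomial.X i) + algebraMap R (MvPolynomial ι R ⧸ I) (c i)) :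
    ∃ φ : SkewMonoidAlgebra (MvPolynomial ι R ⧸ I) G →ₗ[R] R,
      (∀ x y : SkewMonoidAlgebra (MvPolynomial ι R ⧸ I) G, φ (x * y) = φ (y * x)) ∧
      Function.Injective (fun y : SkewMonoidAlgebra (MvPolynomial ι R ⧸ I) G =>
        fun x : SkewMonoidAlgebra (MvPolynomial ι R ⧸ I) G => φ (x * y)) ∧
      ∀ ψ : SkewMonoidAlgebra (MvPolynomial ι R ⧸ I) G →ₗ[R] R,
        ∃ y : SkewMonoidAlgebra (MvPolynomial ι R ⧸ I) G, ∀ x, ψ x = φ (x * y) := by
  subst hI
  refine SkewSym58.symmetric (tauQ g hg hd) ?_ (pairingQ_injective g hg hd)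
    (pairingQ_surjective g hg hd)
  have hγ : ∀ a, tauQ g hg hd (γ • a) = tauQ g hg hd a := fun a =>
    tauQ_invariant g hg hd (MulSemiringAction.toAlgHom R (Q g) γ) c hact a
  intro h a
  obtain ⟨k, hk⟩ := mem_powers_iff_mem_zpowers.mpr (hgen h)
  have hk' : γ ^ k = h := hk
  subst hk'
  clear hk
  induction k generalizing a with
  | zero => simp
  | succ k ih => rw [pow_succ, mul_smul, ih, hγ]

end Groth.Agent.Lib.CIMonic58
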