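import Groth.Agent.Lib.CIMonic58b

/-!
# Complete intersections by monic one-variable relations, III: linear substitutions

Powers of linear elements `α X_j - β_j` (with `α` a non-zero-divisor) in `⨂_j S[X]/(h_j)` are
linearly independent as long as the exponents stay below the degrees.
-/

set_option autoImplicit false

namespace Groth.Agent.Lib.CIMonic58

open Polynomial PiTensorProduct
open scoped TensorProduct

section OneVarLinear

variable {S : Type*} [CommRing S]

theorem linear_pow_natDegree_le (α β : S) (m : ℕ) : ((C α * X - C β) ^ m).natDegree ≤ m := by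
  have h1 : (C α * X - C β : S[X]).natDegree ≤ 1 := by
    have := Polynomial.natDegree_linear_le (a := α) (b := -β)
    simpa [sub_eq_add_neg] using this
  calc ((C α * X - C β) ^ m).natDegree ≤ m * 1 := Polynomial.natDegree_pow_le_of_le m h1
    _ = m := mul_one m

theorem linear_pow_coeff_of_lt (α β : S) {m k : ℕ} (hmk : m < k) :
    ((C α * X - C β) ^ m).coeff k = 0 :=
  Polynomial.coeff_eq_zero_of_natDegree_lt (lt_of_le_of_lt (linear_pow_natDegree_le α β m) hmk)

theorem linear_pow_coeff_self (α β : S) (m : ℕ) : ((C α * X - C β) ^ m).coeff m = α ^ m := by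
  have h1 : (C α * X - C β : S[X]).natDegree ≤ 1 := by
    have := Polynomial.natDegree_linear_le (a := α) (b := -β)
    simpa [sub_eq_add_neg] using this
  have := Polynomial.coeff_pow_of_natDegree_le (m := m) h1
  rw [mul_one] at this
  rw [this]
  simp

variable {h : S[X]} (hh : h.Monic)

/-- Coordinates of powers of a linear element. -/
theorem pb_repr_linear_pow (α β : S) {m : ℕ} (hm : m < h.natDegree) (k : Fin h.natDegree) :
    (pb hh).repr ((α • AdjoinRoot.root h - algebraMap S _ β) ^ m) k =
      ((C α * X - C β) ^ m).coeff k := by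
  rcases subsingleton_or_nontrivial S with h0 | h0
  · exact Subsingleton.elim _ _
  have h1 : (α • AdjoinRoot.root h - algebraMap S _ β) ^ m =
      AdjoinRoot.mk h ((C α * X - C β) ^ m) := by
    rw [map_pow, map_sub, map_mul, AdjoinRoot.mk_X, AdjoinRoot.mk_C, AdjoinRoot.mk_C,
      Algebra.smul_def]
    rfl
  rw [h1, pb_repr_mk hh]
  refine lt_of_le_of_lt Polynomial.degree_le_natDegree ?_
  rw [Polynomial.degree_eq_natDegree hh.ne_zero]
  exact_mod_cast lt_of_le_of_lt (linear_pow_natDegree_le α β m) hm

end OneVarLinear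

section LinInd

variable {S : Type*} [CommRing S] {J : Type*} [Fintype J] [DecidableEq J] (h : J → S[X])
  (hh : ∀ j, (h j).Monic)

theorem tprod_linear_pow_repr (α : S) (β : J → S) (e : J → ℕ)
    (he : ∀ j, e j < (h j).natDegree) (f : Π j, Fin (h j).natDegree) :
    (Basis.piTensorProduct (fun j => pb (hh j))).repr
      (⨂ₜ[S] j, (α • AdjoinRoot.root (h j) - algebraMap S _ (β j)) ^ (e j)) f =
      ∏ j, ((C α * X - C (β j)) ^ (e j)).coeff (f j) := by
  rw [Basis.piTensorProduct_repr_tprod_apply]
  refine Finset.prod_congr rfl fun j _ => ?_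
  exact pb_repr_linear_pow (hh j) α (β j) (he j) (f j)

include hh in
/-- Triangular linear independence of the products of powers of linear elements. -/
theorem linear_pow_linearIndependent (α : S) (hα : α ∈ nonZeroDivisors S) (β : J → S)
    (m : J → ℕ) (hm : ∀ j, m j ≤ (h j).natDegree) (c : (Π j, Fin (m j)) → S)
    (hc : ∑ e, c e • (⨂ₜ[S] j, (α • AdjoinRoot.root (h j) - algebraMap S _ (β j)) ^ (e j : ℕ)) =
      (0 : T h)) : c = 0 := by
  classical
  by_contra hne
  obtain ⟨e₁, he₁⟩ : ∃ e, c e ≠ 0 := by
    by_contra hall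
    push Not at hall
    exact hne (funext hall)
  -- a maximal element of the support
  obtain ⟨e, hemem, hemax⟩ := (Finset.univ.filter fun e => c e ≠ 0).exists_maximal
    ⟨e₁, Finset.mem_filter.mpr ⟨Finset.mem_univ _, he₁⟩⟩
  have hce : c e ≠ 0 := (Finset.mem_filter.mp hemem).2
  -- take the coordinate at `e`
  have h1 := congrArg (fun t => (Basis.piTensorProduct (fun j => pb (hh j))).repr t
    (fun j => Fin.castLE (hm j) (e j))) hc
  simp only [map_sum, map_smul, map_zero, Finsupp.coe_finsetSum, Finsupp.coe_smul,
    Finset.sum_apply, Pi.smul_apply, Finsupp.coe_zero, Pi.zero_apply, smul_eq_mul] at h1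
  rw [Finset.sum_eq_single e] at h1
  · rw [tprod_linear_pow_repr h hh α β (fun j => (e j : ℕ))
      (fun j => lt_of_lt_of_le (e j).2 (hm j))] at h1
    simp only [Fin.val_castLE, linear_pow_coeff_self, Finset.prod_pow_eq_pow_sum] at h1
    exact hce ((mem_nonZeroDivisors_iff_right.mp (pow_mem hα _)) _ h1)
  · intro e' _ hne'
    by_cases hc' : c e' = 0
    · rw [hc', zero_mul]
    · -- `e'` is in the support and differs from `e`, so it is not above `e`
      have hnot : ¬ e ≤ e' := fun hle =>
        hne' (le_antisymm (hemax (Finset.mem_filter.mpr ⟨Finset.mem_univ _, hc'⟩) hle) hle)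
      rw [Pi.le_def] at hnot
      push Not at hnot
      obtain ⟨j, hj⟩ := hnot
      rw [tprod_linear_pow_repr h hh α β (fun j => (e' j : ℕ))
        (fun j => lt_of_lt_of_le (e' j).2 (hm j))]
      rw [Finset.prod_eq_zero (Finset.mem_univ j), mul_zero]
      rw [Fin.val_castLE]
      exact linear_pow_coeff_of_lt α (β j) (by exact_mod_cast hj)
  · intro hh'; exact absurd (Finset.mem_univ e) hh'

end LinInd

end Groth.Agent.Lib.CIMonic58
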