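import Groth.Agent.Lib.CIMonic58d

/-!
# Complete intersections by monic one-variable relations, IV: minor elements

In `A = R[u_i]/(g_i(u_i))` the elements `z_j = α u_j - β_j u_{i₀}` (`j ≠ i₀`) satisfying monic
relations `r_j(z_j) = 0` with `deg r_j ≤ deg g_j` generate a copy of `R[Z_j]/(r_j(Z_j))`.
-/

set_option autoImplicit false

namespace Groth.Agent.Lib.CIMonic58

open Polynomial PiTensorProduct
open scoped TensorProduct

section Base

variable {R : Type*} [CommRing R] {g : R[X]} (hg : g.Monic) (hd : 0 < g.natDegree)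

include hg hd in
theorem algebraMap_adjoinRoot_injective :
    Function.Injective (algebraMap R (AdjoinRoot g)) := by
  rcases subsingleton_or_nontrivial R with h0 | h0
  · intro x y _; exact Subsingleton.elim _ _
  intro x y hxy
  have hdeg : ∀ c : R, (C c : R[X]).degree < g.degree := fun c =>
    lt_of_le_of_lt Polynomial.degree_C_le (by
      rw [Polynomial.degree_eq_natDegree hg.ne_zero]; exact_mod_cast hd)
  have h1 := pb_repr_mk hg (hdeg x) ⟨0, hd⟩
  have h2 := pb_repr_mk hg (hdeg y) ⟨0, hd⟩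
  rw [AdjoinRoot.mk_C] at h1 h2
  have h3 : (x : AdjoinRoot g) = algebraMap R _ x := rfl
  simp only [Polynomial.coeff_C_zero] at h1 h2
  rw [← h1, ← h2]
  exact congrArg (fun t => (pb hg).repr t ⟨0, hd⟩) hxy

include hg in
theorem algebraMap_mem_nonZeroDivisors {α : R} (hα : α ∈ nonZeroDivisors R) :
    algebraMap R (AdjoinRoot g) α ∈ nonZeroDivisors (AdjoinRoot g) := by
  rw [mem_nonZeroDivisors_iff_right]
  intro y hy
  have h1 : α • y = 0 := by rw [Algebra.smul_def, mul_comm]; exact hy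
  have h2 : ∀ k, (pb hg).repr y k = 0 := fun k => by
    have := congrArg (fun t => (pb hg).repr t k) h1
    simp only [map_smul, Finsupp.smul_apply, smul_eq_mul, map_zero, Finsupp.zero_apply] at this
    exact (mem_nonZeroDivisors_iff_right.mp hα) _ (by rw [mul_comm]; exact this)
  exact (pb hg).repr.injective (Finsupp.ext fun k => by rw [h2 k]; simp)

end Base

section Minor

variable {R : Type*} [CommRing R] {ι : Type*} [Fintype ι] [DecidableEq ι]
  (g : ι → R[X]) (hg : ∀ i, (g i).Monic) (hd : ∀ i, 0 < (g i).natDegree) (i₀ : ι)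

/-- The base ring enlarged by `u_{i₀}`. -/
abbrev R' := AdjoinRoot (g i₀)

/-- The remaining relations, over `R'`. -/
noncomputable def g' : {j : ι // j ≠ i₀} → (R' g i₀)[X] :=
  fun j => (g j.1).map (algebraMap R (R' g i₀))

include hg in
theorem g'_monic (j : {j : ι // j ≠ i₀}) : (g' g i₀ j).Monic := (hg j.1).map _

/-- The images of the variables in `B' = R'[u_j : j ≠ i₀]/(g_j)`. -/
noncomputable def vB' (i : ι) : Q (g' g i₀) :=
  if h : i = i₀ then algebraMap (R' g i₀) (Q (g' g i₀)) (AdjoinRoot.root (g i₀))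
  else u (g' g i₀) ⟨i, h⟩

theorem aeval_vB' (i : ι) : Polynomial.aeval (vB' g i₀ i) (g i) = 0 := by
  by_cases h : i = i₀
  · subst h
    rw [vB', dif_pos rfl]
    have : Polynomial.aeval (algebraMap (R' g i) (Q (g' g i)) (AdjoinRoot.root (g i))) (g i) =
        algebraMap (R' g i) (Q (g' g i)) (Polynomial.aeval (AdjoinRoot.root (g i)) (g i)) :=
      Polynomial.aeval_algebraMap_apply _ _ _
    rw [this, AdjoinRoot.aeval_eq, AdjoinRoot.mk_self, map_zero]
  · rw [vB', dif_neg h]
    have := aeval_u (g' g i₀) ⟨i, h⟩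
    rw [g', Polynomial.aeval_map_algebraMap] at this
    exact this

/-- `A → B'`. -/
noncomputable def toB' : Q g →ₐ[R] Q (g' g i₀) :=
  Ideal.Quotient.liftₐ (ciIdeal g) (MvPolynomial.aeval (vB' g i₀))
    (by
      intro x hx
      rw [← RingHom.mem_ker]
      revert x
      change ciIdeal g ≤ RingHom.ker _
      rw [ciIdeal, Ideal.span_le]
      rintro _ ⟨i, rfl⟩
      rw [SetLike.mem_coe, RingHom.mem_ker]
      change (MvPolynomial.aeval (vB' g i₀)) (Polynomial.aeval (MvPolynomial.X i) (g i)) = 0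
      rw [← Polynomial.aeval_algHom_apply, MvPolynomial.aeval_X, aeval_vB'])

theorem toB'_u (i : ι) : toB' g i₀ (u g i) = vB' g i₀ i := by
  rw [toB', u, ← Ideal.Quotient.mkₐ_eq_mk R, Ideal.Quotient.liftₐ_apply]
  simp

variable (α : R) (β : {j : ι // j ≠ i₀} → R)

/-- The minor elements. -/
noncomputable def zmin (j : {j : ι // j ≠ i₀}) : Q g :=
  algebraMap R (Q g) α * u g j.1 - algebraMap R (Q g) (β j) * u g i₀

/-- The corresponding linear elements over `R'`. -/
noncomputable def wmin (j : {j : ι // j ≠ i₀}) : AdjoinRoot (g' g i₀ j) :=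
  algebraMap R (R' g i₀) α • AdjoinRoot.root (g' g i₀ j) -
    algebraMap (R' g i₀) _ (algebraMap R (R' g i₀) (β j) * AdjoinRoot.root (g i₀))

theorem toB'_zmin (j : {j : ι // j ≠ i₀}) :
    toB' g i₀ (zmin g i₀ α β j) = incl (g' g i₀) j (wmin g i₀ α β j) := by
  rw [zmin, wmin, map_sub, map_mul, map_mul, toB'_u, toB'_u, AlgHom.commutes, AlgHom.commutes,
    map_sub, map_smul, incl_root, AlgHom.commutes, vB', dif_neg j.2, vB', dif_pos rfl, map_mul]
  rw [IsScalarTower.algebraMap_apply R (R' g i₀) (Q (g' g i₀)) α,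
    IsScalarTower.algebraMap_apply R (R' g i₀) (Q (g' g i₀)) (β j), ← Algebra.smul_def]

/-- The relations `r j (z j) = 0` give a map from the complete intersection of the `r j`. -/
noncomputable def minorHom (r : {j : ι // j ≠ i₀} → R[X])
    (hz : ∀ j, Polynomial.aeval (zmin g i₀ α β j) (r j) = 0) : Q r →ₐ[R] Q g :=
  Ideal.Quotient.liftₐ (ciIdeal r) (MvPolynomial.aeval (zmin g i₀ α β))
    (by
      intro x hx
      rw [← RingHom.mem_ker]
      revert x
      change ciIdeal r ≤ RingHom.ker _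
      rw [ciIdeal, Ideal.span_le]
      rintro _ ⟨j, rfl⟩
      rw [SetLike.mem_coe, RingHom.mem_ker]
      change (MvPolynomial.aeval (zmin g i₀ α β)) (Polynomial.aeval (MvPolynomial.X j) (r j)) = 0
      rw [← Polynomial.aeval_algHom_apply, MvPolynomial.aeval_X, hz])

theorem minorHom_mk (r : {j : ι // j ≠ i₀} → R[X])
    (hz : ∀ j, Polynomial.aeval (zmin g i₀ α β j) (r j) = 0)
    (P : MvPolynomial {j : ι // j ≠ i₀} R) :
    minorHom g i₀ α β r hz (Ideal.Quotient.mk _ P) = MvPolynomial.aeval (zmin g i₀ α β) P := by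
  rw [minorHom, ← Ideal.Quotient.mkₐ_eq_mk R, Ideal.Quotient.liftₐ_apply]
  rfl

theorem minorHom_u (r : {j : ι // j ≠ i₀} → R[X])
    (hz : ∀ j, Polynomial.aeval (zmin g i₀ α β j) (r j) = 0) (j : {j : ι // j ≠ i₀}) :
    minorHom g i₀ α β r hz (u r j) = zmin g i₀ α β j := by
  rw [u, minorHom_mk, MvPolynomial.aeval_X]

include hg hd in
theorem minorHom_injective (hα : α ∈ nonZeroDivisors R) (r : {j : ι // j ≠ i₀} → R[X])
    (hr : ∀ j, (r j).Monic) (hrd : ∀ j, (r j).natDegree ≤ (g j.1).natDegree)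
    (hz : ∀ j, Polynomial.aeval (zmin g i₀ α β j) (r j) = 0) :
    Function.Injective (minorHom g i₀ α β r hz) := by
  rcases subsingleton_or_nontrivial R with h0 | h0
  · intro x y _
    have : Subsingleton (Q r) := by
      refine ⟨fun a b => ?_⟩
      rw [← one_mul a, ← one_mul b, ← map_one (algebraMap R (Q r)),
        Subsingleton.elim (1 : R) 0, map_zero, zero_mul, zero_mul]
    exact Subsingleton.elim _ _
  have : Nontrivial (R' g i₀) :=
    (algebraMap_adjoinRoot_injective (hg i₀) (hd i₀)).nontrivial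
  rw [injective_iff_map_eq_zero]
  intro x hx
  -- coordinates of `x`
  set bT := Basis.piTensorProduct (fun j => pb (hr j)) with hbT
  set c : (Π j : {j : ι // j ≠ i₀}, Fin (r j).natDegree) → R := fun e => bT.repr (toT r x) e
    with hc
  have hx1 : x = ∑ e, c e • ∏ j, u r j ^ (e j : ℕ) := by
    have h1 : toT r x = ∑ e, c e • bT e := (bT.sum_repr (toT r x)).symm
    have h2 := congrArg (toQ r) h1
    rw [toQ_toT, map_sum] at h2
    rw [h2]
    refine Finset.sum_congr rfl fun e _ => ?_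
    rw [map_smul, hbT, Basis.piTensorProduct_apply, toQ_tprod]
    congr 1
    refine Finset.prod_congr rfl fun j _ => ?_
    rw [pb_apply, map_pow, incl_root]
  -- push through the maps
  have hx2 : ∑ e, c e • toQ (g' g i₀) (⨂ₜ[R' g i₀] j, wmin g i₀ α β j ^ (e j : ℕ)) = 0 := by
    have h3 := congrArg (toB' g i₀) hx
    rw [map_zero, hx1, map_sum, map_sum] at h3
    rw [← h3]
    refine Finset.sum_congr rfl fun e _ => ?_
    rw [map_smul, map_smul, map_prod, map_prod, toQ_tprod]
    congr 1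
    refine Finset.prod_congr rfl fun j _ => ?_
    simp only [map_pow, minorHom_u, toB'_zmin]
  have hx3 : ∑ e, algebraMap R (R' g i₀) (c e) •
      (⨂ₜ[R' g i₀] j, wmin g i₀ α β j ^ (e j : ℕ)) = (0 : T (g' g i₀)) := by
    have h4 : toQ (g' g i₀) (∑ e, algebraMap R (R' g i₀) (c e) •
        (⨂ₜ[R' g i₀] j, wmin g i₀ α β j ^ (e j : ℕ))) = 0 := by
      rw [map_sum, ← hx2]
      refine Finset.sum_congr rfl fun e _ => ?_
      rw [map_smul, algebraMap_smul]
    have h5 := congrArg (toT (g' g i₀)) h4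
    rwa [toT_toQ, map_zero] at h5
  have hmono : ∀ j, (g' g i₀ j).natDegree = (g j.1).natDegree := fun j =>
    (hg j.1).natDegree_map _
  have hc0 := linear_pow_linearIndependent (g' g i₀) (g'_monic g hg i₀)
    (algebraMap R (R' g i₀) α) (algebraMap_mem_nonZeroDivisors (hg i₀) hα)
    (fun j => algebraMap R (R' g i₀) (β j) * AdjoinRoot.root (g i₀))
    (fun j => (r j).natDegree) (fun j => by rw [hmono]; exact hrd j)
    (fun e => algebraMap R (R' g i₀) (c e)) hx3
  have hc1 : ∀ e, c e = 0 := fun e =>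
    algebraMap_adjoinRoot_injective (hg i₀) (hd i₀) (by rw [map_zero]; exact congrFun hc0 e)
  have hT : toT r x = 0 := bT.repr.injective (Finsupp.ext fun e => by
    rw [map_zero]; exact hc1 e)
  rw [← toQ_toT r x, hT, map_zero]

include hg hd in
/-- The kernel of `R[Z_j] → A`, `Z_j ↦ z_j`, is the complete intersection ideal of the `r_j`. -/
theorem ker_aeval_zmin (hα : α ∈ nonZeroDivisors R) (r : {j : ι // j ≠ i₀} → R[X])
    (hr : ∀ j, (r j).Monic) (hrd : ∀ j, (r j).natDegree ≤ (g j.1).natDegree)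
    (hz : ∀ j, Polynomial.aeval (zmin g i₀ α β j) (r j) = 0) :
    RingHom.ker (MvPolynomial.aeval (zmin g i₀ α β) :
      MvPolynomial {j : ι // j ≠ i₀} R →ₐ[R] Q g) = ciIdeal r := by
  ext P
  rw [RingHom.mem_ker, ← minorHom_mk g i₀ α β r hz P,
    (injective_iff_map_eq_zero' _).mp (minorHom_injective g hg hd i₀ α β hα r hr hrd hz),
    Ideal.Quotient.eq_zero_iff_mem]

include hg hd in
/-- Version of `ker_aeval_zmin` for an ideal only propositionally equal to `ciIdeal g`. -/
theorem ker_aeval_minor_of_eq (I : Ideal (MvPolynomial ι R)) (hI : I = ciIdeal g)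
    (hα : α ∈ nonZeroDivisors R) (r : {j : ι // j ≠ i₀} → R[X])
    (hr : ∀ j, (r j).Monic) (hrd : ∀ j, (r j).natDegree ≤ (g j.1).natDegree)
    (hz : ∀ j : {j : ι // j ≠ i₀}, Polynomial.aeval
      (algebraMap R (MvPolynomial ι R ⧸ I) α * Ideal.Quotient.mk I (MvPolynomial.X j.1) -
        algebraMap R (MvPolynomial ι R ⧸ I) (β j) * Ideal.Quotient.mk I (MvPolynomial.X i₀))
      (r j) = 0) :
    RingHom.ker (MvPolynomial.aeval (fun j : {j : ι // j ≠ i₀} =>
      algebraMap R (MvPolynomial ι R ⧸ I) α * Ideal.Quotient.mk I (MvPolynomial.X j.1) -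
        algebraMap R (MvPolynomial ι R ⧸ I) (β j) * Ideal.Quotient.mk I (MvPolynomial.X i₀)) :
      MvPolynomial {j : ι // j ≠ i₀} R →ₐ[R] (MvPolynomial ι R ⧸ I)) = ciIdeal r := by
  subst hI
  exact ker_aeval_zmin g hg hd i₀ α β hα r hr hrd hz

end Minor

end Groth.Agent.Lib.CIMonic58
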