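import Groth.Agent.Lib.CIMonic58e

/-!
# Complete intersections by monic one-variable relations, V: peeling off one variable

`A = R[u_i]/(g_i(u_i))` is isomorphic to `R'[u_j : j ≠ i₀]/(g_j(u_j))` over `R' = R[u_{i₀}]/(g_{i₀})`.
Consequence: if `g_{i₀} = X ^ n` then the annihilator of `u_{i₀}` in `A` is `u_{i₀} ^ (n - 1) A`.
-/

set_option autoImplicit false

namespace Groth.Agent.Lib.CIMonic58

open Polynomial PiTensorProduct
open scoped TensorProduct

section Peel

variable {R : Type*} [CommRing R] {ι : Type*} [Fintype ι] [DecidableEq ι]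
  (g : ι → R[X]) (i₀ : ι)

/-- `B' → A`. -/
noncomputable def fromB' : Q (g' g i₀) →+* Q g :=
  Ideal.Quotient.lift (ciIdeal (g' g i₀))
    (MvPolynomial.eval₂Hom ((incl g i₀ : R' g i₀ →ₐ[R] Q g) : R' g i₀ →+* Q g)
      (fun j : {j : ι // j ≠ i₀} => u g j.1))
    (by
      intro x hx
      rw [← RingHom.mem_ker]
      revert x
      change ciIdeal (g' g i₀) ≤ RingHom.ker _
      rw [ciIdeal, Ideal.span_le]
      rintro _ ⟨j, rfl⟩
      rw [SetLike.mem_coe, RingHom.mem_ker]
      change (MvPolynomial.eval₂Hom ((incl g i₀ : R' g i₀ →ₐ[R] Q g) : R' g i₀ →+* Q g)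
        (fun j : {j : ι // j ≠ i₀} => u g j.1))
        (Polynomial.aeval (MvPolynomial.X j) (g' g i₀ j)) = 0
      rw [Polynomial.aeval_def, Polynomial.hom_eval₂, g', Polynomial.eval₂_map,
        MvPolynomial.eval₂Hom_X']
      have h1 : ((MvPolynomial.eval₂Hom ((incl g i₀ : R' g i₀ →ₐ[R] Q g) : R' g i₀ →+* Q g)
          (fun j : {j : ι // j ≠ i₀} => u g j.1)).comp
            (algebraMap (R' g i₀) (MvPolynomial {j : ι // j ≠ i₀} (R' g i₀)))).comp
              (algebraMap R (R' g i₀)) = algebraMap R (Q g) := by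
        ext r
        simp only [RingHom.comp_apply, MvPolynomial.algebraMap_eq, MvPolynomial.coe_eval₂Hom,
          MvPolynomial.eval₂_C, RingHom.coe_coe]
        exact (incl g i₀).commutes r
      rw [h1, ← Polynomial.aeval_def, aeval_u])

theorem fromB'_mk_C (r : R' g i₀) :
    fromB' g i₀ (Ideal.Quotient.mk _ (MvPolynomial.C r)) = incl g i₀ r := by
  rw [fromB', Ideal.Quotient.lift_mk, MvPolynomial.coe_eval₂Hom, MvPolynomial.eval₂_C]
  rfl

theorem fromB'_u (j : {j : ι // j ≠ i₀}) : fromB' g i₀ (u (g' g i₀) j) = u g j.1 := by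
  rw [fromB', u, Ideal.Quotient.lift_mk, MvPolynomial.coe_eval₂Hom, MvPolynomial.eval₂_X]

theorem fromB'_algebraMap (r : R' g i₀) :
    fromB' g i₀ (algebraMap (R' g i₀) (Q (g' g i₀)) r) = incl g i₀ r :=
  fromB'_mk_C g i₀ r

theorem toB'_incl (r : R' g i₀) :
    toB' g i₀ (incl g i₀ r) = algebraMap (R' g i₀) (Q (g' g i₀)) r := by
  have : (toB' g i₀).comp (incl g i₀) = IsScalarTower.toAlgHom R (R' g i₀) (Q (g' g i₀)) := by
    refine AdjoinRoot.algHom_ext ?_
    rw [AlgHom.comp_apply, incl_root, toB'_u, vB', dif_pos rfl]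
    rfl
  exact DFunLike.congr_fun this r

theorem toB'_fromB' (y : Q (g' g i₀)) : toB' g i₀ (fromB' g i₀ y) = y := by
  have : ((toB' g i₀ : Q g →+* Q (g' g i₀)).comp (fromB' g i₀)) = RingHom.id _ := by
    refine Ideal.Quotient.ringHom_ext (MvPolynomial.ringHom_ext (fun r => ?_) (fun j => ?_))
    · simp only [RingHom.comp_apply, RingHom.id_apply]
      rw [fromB'_mk_C]
      exact toB'_incl g i₀ r
    · simp only [RingHom.comp_apply, RingHom.id_apply]
      have h1 : fromB' g i₀ (Ideal.Quotient.mk _ (MvPolynomial.X j)) = u g j.1 := fromB'_u g i₀ j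
      rw [h1]
      have h2 : toB' g i₀ (u g j.1) = vB' g i₀ j.1 := toB'_u g i₀ j.1
      rw [RingHom.coe_coe, h2, vB', dif_neg j.2]
      rfl
  exact DFunLike.congr_fun this y

theorem fromB'_toB' (y : Q g) : fromB' g i₀ (toB' g i₀ y) = y := by
  have : ((fromB' g i₀).comp (toB' g i₀ : Q g →+* Q (g' g i₀))) = RingHom.id _ := by
    refine Ideal.Quotient.ringHom_ext (MvPolynomial.ringHom_ext (fun r => ?_) (fun i => ?_))
    · simp only [RingHom.comp_apply, RingHom.id_apply, RingHom.coe_coe]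
      have h1 : (Ideal.Quotient.mk (ciIdeal g)) (MvPolynomial.C r) = algebraMap R (Q g) r := rfl
      rw [h1, AlgHom.commutes, IsScalarTower.algebraMap_apply R (R' g i₀) (Q (g' g i₀)),
        fromB'_algebraMap, AlgHom.commutes]
    · simp only [RingHom.comp_apply, RingHom.id_apply, RingHom.coe_coe]
      have h1 : toB' g i₀ (Ideal.Quotient.mk _ (MvPolynomial.X i)) = vB' g i₀ i := toB'_u g i₀ i
      rw [h1, vB']
      by_cases h : i = i₀
      · rw [dif_pos h, fromB'_algebraMap, incl_root, h]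
        rfl
      · rw [dif_neg h]
        exact fromB'_u g i₀ ⟨i, h⟩
  exact DFunLike.congr_fun this y

end Peel

section Ann

/-- In `R[X]/(X^n)` the annihilator of the root is generated by its `(n-1)`-st power. -/
theorem adjoinRoot_X_pow_ann {R : Type*} [CommRing R] {n : ℕ} (hn : 0 < n)
    (a : AdjoinRoot (X ^ n : R[X])) (ha : AdjoinRoot.root (X ^ n : R[X]) * a = 0) :
    ∃ a', a = AdjoinRoot.root (X ^ n : R[X]) ^ (n - 1) * a' := by
  obtain ⟨f, rfl⟩ := AdjoinRoot.mk_surjective a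
  rw [← AdjoinRoot.mk_X, ← map_mul, AdjoinRoot.mk_eq_zero] at ha
  obtain ⟨h, hh⟩ := ha
  have hn' : n = (n - 1) + 1 := by omega
  have h1 : (X : R[X]) * f = X * (X ^ (n - 1) * h) := by
    rw [hh, ← mul_assoc, ← pow_succ', ← hn']
  have h2 : f = X ^ (n - 1) * h := (Polynomial.monic_X.isRegular.left) h1
  refine ⟨AdjoinRoot.mk _ h, ?_⟩
  rw [h2, map_mul, map_pow, AdjoinRoot.mk_X]

/-- Divisibility in a free module is tested on coordinates. -/
theorem exists_smul_of_basis {S M κ : Type*} [CommRing S] [AddCommGroup M] [Module S M]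
    [Fintype κ] (B : Module.Basis κ S M) (ε ρ : S)
    (hS : ∀ a : S, ε * a = 0 → ∃ a', a = ρ * a') (t : M) (ht : ε • t = 0) :
    ∃ t', t = ρ • t' := by
  have h1 : ∀ e, ∃ a', B.repr t e = ρ * a' := fun e => hS _ (by
    have := congrArg (fun x => B.repr x e) ht
    simpa using this)
  choose c hc using h1
  refine ⟨∑ e, c e • B e, ?_⟩
  rw [Finset.smul_sum]
  conv_lhs => rw [← B.sum_repr t]
  refine Finset.sum_congr rfl fun e _ => ?_
  rw [hc e, smul_smul]

variable {R : Type*} [CommRing R] {ι : Type*} [Fintype ι] [DecidableEq ι]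
  (g : ι → R[X]) (hg : ∀ i, (g i).Monic) (i₀ : ι)

include hg in
/-- If `g i₀ = X ^ n` then the annihilator of `u i₀` is generated by `u i₀ ^ (n - 1)`. -/
theorem ann_u_of_X_pow {n : ℕ} (hn : 0 < n) (hgi : g i₀ = X ^ n) (y : Q g)
    (hy : u g i₀ * y = 0) : ∃ w, y = u g i₀ ^ (n - 1) * w := by
  -- move to `B'`
  have h1 : algebraMap (R' g i₀) (Q (g' g i₀)) (AdjoinRoot.root (g i₀)) * toB' g i₀ y = 0 := by
    have := congrArg (toB' g i₀) hy
    rwa [map_mul, toB'_u, vB', dif_pos rfl, map_zero] at this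
  have h2 : AdjoinRoot.root (g i₀) • toT (g' g i₀) (toB' g i₀ y) = 0 := by
    have := congrArg (toT (g' g i₀)) h1
    rwa [map_mul, AlgHom.commutes, ← Algebra.smul_def, map_zero] at this
  have hS : ∀ a : R' g i₀, AdjoinRoot.root (g i₀) * a = 0 →
      ∃ a', a = AdjoinRoot.root (g i₀) ^ (n - 1) * a' := by
    have key : ∀ (p : R[X]) (hp : p = X ^ n) (a : AdjoinRoot p),
        AdjoinRoot.root p * a = 0 → ∃ a', a = AdjoinRoot.root p ^ (n - 1) * a' := by
      intro p hp
      subst hp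
      exact fun a ha => adjoinRoot_X_pow_ann hn a ha
    exact key (g i₀) hgi
  obtain ⟨t', ht'⟩ := exists_smul_of_basis
    (Basis.piTensorProduct (fun j => pb (g'_monic g hg i₀ j)))
    (AdjoinRoot.root (g i₀)) (AdjoinRoot.root (g i₀) ^ (n - 1)) hS _ h2
  refine ⟨fromB' g i₀ (toQ (g' g i₀) t'), ?_⟩
  have h3 := congrArg (toQ (g' g i₀)) ht'
  rw [toQ_toT, map_smul] at h3
  have h3' : toB' g i₀ y = algebraMap (R' g i₀) (Q (g' g i₀)) (AdjoinRoot.root (g i₀) ^ (n - 1)) *
      toQ (g' g i₀) t' := by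
    rw [h3]
    exact Algebra.smul_def (AdjoinRoot.root (g i₀) ^ (n - 1)) (toQ (g' g i₀) t')
  have h4 := congrArg (fromB' g i₀) h3'
  rw [fromB'_toB', map_mul, fromB'_algebraMap, map_pow, incl_root] at h4
  exact h4

include hg in
/-- Version of `ann_u_of_X_pow` for an ideal only propositionally equal to `ciIdeal g`. -/
theorem ann_X_of_X_pow_of_eq (I : Ideal (MvPolynomial ι R)) (hI : I = ciIdeal g) {n : ℕ}
    (hn : 0 < n) (hgi : g i₀ = X ^ n) (y : MvPolynomial ι R ⧸ I)
    (hy : Ideal.Quotient.mk I (MvPolynomial.X i₀) * y = 0) :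
    ∃ w, y = Ideal.Quotient.mk I (MvPolynomial.X i₀) ^ (n - 1) * w := by
  subst hI
  exact ann_u_of_X_pow g hg i₀ hn hgi y hy

end Ann

end Groth.Agent.Lib.CIMonic58
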