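import Groth.Agent.Lib.CIMonic58f

/-!
# Complete intersections by monic one-variable relations, VI: inverting a linear substitution

For `w_j = α root_j - β_j` in `S[X]/(h_j)`, every element of `⨂_j S[X]/(h_j)` multiplied by
`∏_j α ^ (deg h_j - 1)` is an `S`-linear combination of the products `⨂_j w_j ^ e_j`, `e_j < deg h_j`.
-/

set_option autoImplicit false

namespace Groth.Agent.Lib.CIMonic58

open Polynomial PiTensorProduct
open scoped TensorProduct

section SubstOne

variable {S : Type*} [CommRing S] {h : S[X]} (hh : h.Monic)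

/-- The `S`-linear map `root ^ m ↦ w ^ m` (`m < deg h`). -/
noncomputable def substLin (w : AdjoinRoot h) : AdjoinRoot h →ₗ[S] AdjoinRoot h :=
  (pb hh).constr S (fun m : Fin h.natDegree => w ^ (m : ℕ))

theorem substLin_root_pow (w : AdjoinRoot h) (m : Fin h.natDegree) :
    substLin hh w (AdjoinRoot.root h ^ (m : ℕ)) = w ^ (m : ℕ) := by
  rw [← pb_apply hh m, substLin, Module.Basis.constr_basis]

theorem substLin_mk (w : AdjoinRoot h) {F : S[X]} (hF : F.natDegree < h.natDegree) :
    substLin hh w (AdjoinRoot.mk h F) = Polynomial.aeval w F := by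
  have h1 : F = ∑ i : Fin h.natDegree, Polynomial.monomial (i : ℕ) (F.coeff i) := by
    conv_lhs => rw [F.as_sum_range' h.natDegree hF]
    rw [Finset.sum_range]
  have h2 : AdjoinRoot.mk h F =
      ∑ i : Fin h.natDegree, F.coeff i • AdjoinRoot.root h ^ (i : ℕ) := by
    conv_lhs => rw [h1]
    rw [map_sum]
    refine Finset.sum_congr rfl fun i _ => ?_
    rw [← Polynomial.C_mul_X_pow_eq_monomial, map_mul, map_pow, AdjoinRoot.mk_X, AdjoinRoot.mk_C,
      Algebra.smul_def]
    rfl
  have h3 : Polynomial.aeval w F = ∑ i : Fin h.natDegree, F.coeff i • w ^ (i : ℕ) := by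
    conv_lhs => rw [h1]
    rw [map_sum]
    refine Finset.sum_congr rfl fun i _ => ?_
    rw [Polynomial.aeval_monomial, Algebra.smul_def]
  rw [h2, h3, map_sum]
  refine Finset.sum_congr rfl fun i _ => ?_
  rw [map_smul, substLin_root_pow]

variable (α β : S)

/-- A quasi-inverse of `substLin` for `w = α root - β`. -/
noncomputable def unsubstLin : AdjoinRoot h →ₗ[S] AdjoinRoot h :=
  (pb hh).constr S (fun m : Fin h.natDegree =>
    α ^ (h.natDegree - 1 - (m : ℕ)) • (AdjoinRoot.root h + algebraMap S _ β) ^ (m : ℕ))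

theorem substLin_comp_unsubstLin :
    substLin hh (α • AdjoinRoot.root h - algebraMap S _ β) ∘ₗ unsubstLin hh α β =
      α ^ (h.natDegree - 1) • LinearMap.id := by
  rcases subsingleton_or_nontrivial S with h0 | h0
  · have : Subsingleton (AdjoinRoot h) := by
      refine ⟨fun a b => ?_⟩
      rw [← one_smul S a, ← one_smul S b, Subsingleton.elim (1 : S) 0, zero_smul, zero_smul]
    exact LinearMap.ext fun x => Subsingleton.elim _ _
  refine (pb hh).ext fun m => ?_
  rw [LinearMap.comp_apply, unsubstLin, Module.Basis.constr_basis, map_smul]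
  have h1 : (AdjoinRoot.root h + algebraMap S _ β) ^ (m : ℕ) =
      AdjoinRoot.mk h ((X + C β) ^ (m : ℕ)) := by
    rw [map_pow, map_add, AdjoinRoot.mk_X, AdjoinRoot.mk_C]; rfl
  rw [h1, substLin_mk hh _ (by rw [Polynomial.natDegree_pow_X_add_C]; exact m.2)]
  simp only [map_pow, map_add, Polynomial.aeval_X, Polynomial.aeval_C, sub_add_cancel,
    LinearMap.smul_apply, LinearMap.id_apply]
  rw [smul_pow, smul_smul, ← pow_add, pb_apply]
  congr 2
  have := m.2
  omega

end SubstOne

section SubstMulti

variable {S : Type*} [CommRing S] {J : Type*} [Fintype J] [DecidableEq J] (h : J → S[X])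
  (hh : ∀ j, (h j).Monic) (α : S) (β : J → S)

/-- The linear element `w_j = α root_j - β_j`. -/
noncomputable def wlin (j : J) : AdjoinRoot (h j) :=
  α • AdjoinRoot.root (h j) - algebraMap S _ (β j)

theorem map_substLin_basis (e : Π j, Fin (h j).natDegree) :
    PiTensorProduct.map (fun j => substLin (hh j) (wlin h α β j))
      (Basis.piTensorProduct (fun j => pb (hh j)) e) = ⨂ₜ[S] j, wlin h α β j ^ (e j : ℕ) := by
  rw [Basis.piTensorProduct_apply, PiTensorProduct.map_tprod]
  congr 1
  funext j
  rw [pb_apply, substLin_root_pow]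

include hh in
/-- Every element, multiplied by `∏_j α ^ (deg h_j - 1)`, is a combination of the `⨂ w_j ^ e_j`. -/
theorem exists_repr_wlin (t : T h) :
    ∃ ρ : (Π j, Fin (h j).natDegree) → S,
      (∏ j, α ^ ((h j).natDegree - 1)) • t = ∑ e, ρ e • ⨂ₜ[S] j, wlin h α β j ^ (e j : ℕ) := by
  have hcomp : PiTensorProduct.map (fun j => substLin (hh j) (wlin h α β j)) ∘ₗ
      PiTensorProduct.map (fun j => unsubstLin (hh j) α (β j)) =
      (∏ j, α ^ ((h j).natDegree - 1)) • LinearMap.id := by
    rw [← PiTensorProduct.map_comp]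
    have : (fun j => substLin (hh j) (wlin h α β j) ∘ₗ unsubstLin (hh j) α (β j)) =
        fun j => α ^ ((h j).natDegree - 1) • (LinearMap.id : AdjoinRoot (h j) →ₗ[S] _) := by
      funext j; exact substLin_comp_unsubstLin (hh j) α (β j)
    rw [this]
    refine PiTensorProduct.ext (MultilinearMap.ext fun x => ?_)
    simp only [LinearMap.compMultilinearMap_apply, PiTensorProduct.map_tprod, LinearMap.smul_apply,
      LinearMap.id_apply]
    exact MultilinearMap.map_smul_univ _ _ _
  set t' := PiTensorProduct.map (fun j => unsubstLin (hh j) α (β j)) t with ht'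
  refine ⟨fun e => (Basis.piTensorProduct (fun j => pb (hh j))).repr t' e, ?_⟩
  have h1 := DFunLike.congr_fun hcomp t
  rw [LinearMap.comp_apply, LinearMap.smul_apply, LinearMap.id_apply] at h1
  rw [← h1, ← ht']
  show PiTensorProduct.map (fun j => substLin (hh j) (wlin h α β j)) t' =
    ∑ e, (Basis.piTensorProduct (fun j => pb (hh j))).repr t' e •
      ⨂ₜ[S] j, wlin h α β j ^ (e j : ℕ)
  conv_lhs => rw [← (Basis.piTensorProduct (fun j => pb (hh j))).sum_repr t']
  rw [map_sum]
  refine Finset.sum_congr rfl fun e _ => ?_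
  rw [map_smul, map_substLin_basis]

end SubstMulti

end Groth.Agent.Lib.CIMonic58
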