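import Groth.Agent.Lib.CIMonic58g

/-!
# Complete intersections by monic one-variable relations, VII: invariants after inverting `α`

In `A = R[u_i]/(g_i(u_i))` with minor elements `z_j = α u_j - β_j u_{i₀}`: after multiplying by a
power of `α`, every element is a combination of the `z ^ e` with coefficients in `R[u_{i₀}]`, and
these are linearly independent over `R[u_{i₀}]`. Consequently an endomorphism `σ` fixing the `z_j`,
preserving `R[u_{i₀}]` and with `R[u_{i₀}]^σ = R` has all its invariants, up to a power of `α`,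
in `R[z_j]`.
-/

set_option autoImplicit false

namespace Groth.Agent.Lib.CIMonic58

open Polynomial PiTensorProduct
open scoped TensorProduct

section Loc

variable {R : Type*} [CommRing R] {ι : Type*} [Fintype ι] [DecidableEq ι]
  (g : ι → R[X]) (hg : ∀ i, (g i).Monic) (hd : ∀ i, 0 < (g i).natDegree) (i₀ : ι)
  (α : R) (β : {j : ι // j ≠ i₀} → R)

theorem wmin_eq_wlin (j : {j : ι // j ≠ i₀}) :
    wmin g i₀ α β j = wlin (g' g i₀) (algebraMap R (R' g i₀) α)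
      (fun j => algebraMap R (R' g i₀) (β j) * AdjoinRoot.root (g i₀)) j := rfl

theorem fromB'_incl_wmin (j : {j : ι // j ≠ i₀}) :
    fromB' g i₀ (incl (g' g i₀) j (wmin g i₀ α β j)) = zmin g i₀ α β j := by
  rw [← toB'_zmin, fromB'_toB']

theorem fromB'_toQ_smul_tprod (ρ : R' g i₀) (e : {j : ι // j ≠ i₀} → ℕ) :
    fromB' g i₀ (toQ (g' g i₀) (ρ • ⨂ₜ[R' g i₀] j, wmin g i₀ α β j ^ e j)) =
      incl g i₀ ρ * ∏ j, zmin g i₀ α β j ^ e j := by
  have h1 : toQ (g' g i₀) (ρ • ⨂ₜ[R' g i₀] j, wmin g i₀ α β j ^ e j) =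
      algebraMap (R' g i₀) (Q (g' g i₀)) ρ * ∏ j, incl (g' g i₀) j (wmin g i₀ α β j) ^ e j := by
    rw [map_smul, toQ_tprod]
    simp only [map_pow]
    exact Algebra.smul_def ρ (∏ j, incl (g' g i₀) j (wmin g i₀ α β j) ^ e j)
  rw [h1, map_mul, fromB'_algebraMap, map_prod]
  congr 1
  refine Finset.prod_congr rfl fun j _ => ?_
  rw [map_pow, fromB'_incl_wmin]

theorem toT_toB'_incl_mul_prod (ρ : R' g i₀) (e : {j : ι // j ≠ i₀} → ℕ) :
    toT (g' g i₀) (toB' g i₀ (incl g i₀ ρ * ∏ j, zmin g i₀ α β j ^ e j)) =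
      ρ • ⨂ₜ[R' g i₀] j, wmin g i₀ α β j ^ e j := by
  have h := fromB'_toQ_smul_tprod g i₀ α β ρ e
  rw [← h, toB'_fromB', toT_toQ]

include hg in
/-- Step 1: expansion after multiplying by a power of `α`. -/
theorem exists_repr_zmin (y : Q g) :
    ∃ ρ : (Π j : {j : ι // j ≠ i₀}, Fin (g' g i₀ j).natDegree) → R' g i₀,
      algebraMap R (Q g) (∏ j : {j : ι // j ≠ i₀}, α ^ ((g' g i₀ j).natDegree - 1)) * y =
        ∑ e, incl g i₀ (ρ e) * ∏ j, zmin g i₀ α β j ^ (e j : ℕ) := by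
  obtain ⟨ρ, hρ⟩ := exists_repr_wlin (g' g i₀) (g'_monic g hg i₀) (algebraMap R (R' g i₀) α)
    (fun j => algebraMap R (R' g i₀) (β j) * AdjoinRoot.root (g i₀)) (toT (g' g i₀) (toB' g i₀ y))
  refine ⟨ρ, ?_⟩
  have h1 := congrArg (fun t => fromB' g i₀ (toQ (g' g i₀) t)) hρ
  simp only [map_sum] at h1
  have h2 : ∀ e : (Π j : {j : ι // j ≠ i₀}, Fin (g' g i₀ j).natDegree),
      fromB' g i₀ (toQ (g' g i₀) (ρ e • ⨂ₜ[R' g i₀] j,
        wlin (g' g i₀) (algebraMap R (R' g i₀) α)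
          (fun j => algebraMap R (R' g i₀) (β j) * AdjoinRoot.root (g i₀)) j ^ (e j : ℕ))) =
      incl g i₀ (ρ e) * ∏ j, zmin g i₀ α β j ^ (e j : ℕ) :=
    fun e => fromB'_toQ_smul_tprod g i₀ α β (ρ e) (fun j => (e j : ℕ))
  rw [Finset.sum_congr rfl (fun e _ => h2 e)] at h1
  rw [← h1]
  have h3 : toQ (g' g i₀) ((∏ j : {j : ι // j ≠ i₀},
      algebraMap R (R' g i₀) α ^ ((g' g i₀ j).natDegree - 1)) • toT (g' g i₀) (toB' g i₀ y)) =
      algebraMap (R' g i₀) (Q (g' g i₀)) (∏ j : {j : ι // j ≠ i₀},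
        algebraMap R (R' g i₀) α ^ ((g' g i₀ j).natDegree - 1)) * toB' g i₀ y := by
    rw [map_smul, toQ_toT]
    exact Algebra.smul_def (∏ j : {j : ι // j ≠ i₀},
      algebraMap R (R' g i₀) α ^ ((g' g i₀ j).natDegree - 1)) (toB' g i₀ y)
  rw [h3, map_mul, fromB'_algebraMap, fromB'_toB']
  congr 1
  simp only [← map_pow, ← map_prod]
  exact ((incl g i₀).commutes _).symm

include hg in
/-- Step 2: linear independence over `R' = R[u_{i₀}]`. -/
theorem zmin_linearIndependent (hα : α ∈ nonZeroDivisors R)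
    (ρ : (Π j : {j : ι // j ≠ i₀}, Fin (g' g i₀ j).natDegree) → R' g i₀)
    (h : ∑ e, incl g i₀ (ρ e) * ∏ j, zmin g i₀ α β j ^ (e j : ℕ) = 0) : ρ = 0 := by
  have h1 := congrArg (fun y => toT (g' g i₀) (toB' g i₀ y)) h
  simp only [map_sum, map_zero] at h1
  have h2 : ∀ e : (Π j : {j : ι // j ≠ i₀}, Fin (g' g i₀ j).natDegree),
      toT (g' g i₀) (toB' g i₀ (incl g i₀ (ρ e) * ∏ j, zmin g i₀ α β j ^ (e j : ℕ))) =
      ρ e • ⨂ₜ[R' g i₀] j, wmin g i₀ α β j ^ (e j : ℕ) :=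
    fun e => toT_toB'_incl_mul_prod g i₀ α β (ρ e) (fun j => (e j : ℕ))
  rw [Finset.sum_congr rfl (fun e _ => h2 e)] at h1
  exact linear_pow_linearIndependent (g' g i₀) (g'_monic g hg i₀)
    (algebraMap R (R' g i₀) α) (algebraMap_mem_nonZeroDivisors (hg i₀) hα)
    (fun j => algebraMap R (R' g i₀) (β j) * AdjoinRoot.root (g i₀))
    (fun j => (g' g i₀ j).natDegree) (fun j => le_refl _) ρ h1

/-- Step 3: `σ` preserves `R[u_{i₀}]` as soon as it maps `u_{i₀}` into it. -/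
theorem sigma_incl_mk (σ : Q g →ₐ[R] Q g) (ρ₀ : R' g i₀) (hσu : σ (u g i₀) = incl g i₀ ρ₀)
    (f : R[X]) :
    σ (incl g i₀ (AdjoinRoot.mk (g i₀) f)) = incl g i₀ (Polynomial.aeval ρ₀ f) := by
  have h1 : incl g i₀ (AdjoinRoot.mk (g i₀) f) = Polynomial.aeval (u g i₀) f := by
    rw [← AdjoinRoot.aeval_eq, ← Polynomial.aeval_algHom_apply, incl_root]
  rw [h1, ← Polynomial.aeval_algHom_apply, hσu, Polynomial.aeval_algHom_apply]

include hg in
/-- Step 4: invariants lie in `R[z_j]` up to a power of `α`. -/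
theorem invariant_mem_adjoin (hα : α ∈ nonZeroDivisors R) (σ : Q g →ₐ[R] Q g)
    (hσz : ∀ j, σ (zmin g i₀ α β j) = zmin g i₀ α β j)
    (ρ₀ : R' g i₀) (hσu : σ (u g i₀) = incl g i₀ ρ₀)
    (hinv : ∀ ρ : R' g i₀, σ (incl g i₀ ρ) = incl g i₀ ρ → ∃ r : R, ρ = algebraMap R (R' g i₀) r)
    (t : Q g) (ht : σ t = t) :
    algebraMap R (Q g) (∏ j : {j : ι // j ≠ i₀}, α ^ ((g' g i₀ j).natDegree - 1)) * t ∈
      Algebra.adjoin R (Set.range (zmin g i₀ α β)) := by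
  obtain ⟨ρ, hρ⟩ := exists_repr_zmin g hg i₀ α β t
  -- the images of the coefficients under `σ`
  have h1 : ∀ e, ∃ ρ' : R' g i₀, σ (incl g i₀ (ρ e)) = incl g i₀ ρ' := by
    intro e
    obtain ⟨f, hf⟩ := AdjoinRoot.mk_surjective (ρ e)
    exact ⟨_, by rw [← hf]; exact sigma_incl_mk g i₀ σ ρ₀ hσu f⟩
  choose ρ' hρ' using h1
  have h2 := congrArg σ hρ
  rw [map_mul, AlgHom.commutes, ht, map_sum] at h2
  have h3 : ∑ e, incl g i₀ ((ρ' - ρ) e) * ∏ j, zmin g i₀ α β j ^ (e j : ℕ) = 0 := by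
    have h4 : ∀ e : (Π j : {j : ι // j ≠ i₀}, Fin (g' g i₀ j).natDegree),
        σ (incl g i₀ (ρ e) * ∏ j, zmin g i₀ α β j ^ (e j : ℕ)) =
          incl g i₀ (ρ' e) * ∏ j, zmin g i₀ α β j ^ (e j : ℕ) := by
      intro e
      rw [map_mul, hρ', map_prod]
      congr 1
      refine Finset.prod_congr rfl fun j _ => ?_
      rw [map_pow, hσz]
    rw [Finset.sum_congr rfl (fun e _ => h4 e)] at h2
    simp only [Pi.sub_apply, map_sub, sub_mul, Finset.sum_sub_distrib]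
    rw [← h2, ← hρ, sub_self]
  have h5 := zmin_linearIndependent g hg i₀ α β hα (ρ' - ρ) h3
  have h6 : ∀ e, σ (incl g i₀ (ρ e)) = incl g i₀ (ρ e) := fun e => by
    have : ρ' e = ρ e := sub_eq_zero.mp (congrFun h5 e)
    rw [hρ', this]
  rw [hρ]
  refine Subalgebra.sum_mem _ fun e _ => ?_
  obtain ⟨r, hr⟩ := hinv (ρ e) (h6 e)
  refine Subalgebra.mul_mem _ ?_ (Subalgebra.prod_mem _ fun j _ =>
    Subalgebra.pow_mem _ (Algebra.subset_adjoin (Set.mem_range_self j)) _)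
  rw [hr, AlgHom.commutes]
  exact Subalgebra.algebraMap_mem _ r

end Loc

end Groth.Agent.Lib.CIMonic58
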