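import Groth.Agent.Lib.CIMonic58h
import Mathlib.Algebra.Polynomial.Roots
import Mathlib.Algebra.CharP.Lemmas

/-!
# Complete intersections by monic one-variable relations, VIII: Artin–Schreier translations

For `g_{i₀} = X^p - c^(p-1) X - x` over a domain of characteristic `p` and an `R`-endomorphism `σ`
of `A = R[u_i]/(g_i(u_i))` with `σ u_{i₀} = u_{i₀} + c`, fixing the minor elements
`z_j = α u_j - β_j u_{i₀}`: every `σ`-invariant element, multiplied by a power of `α`, lies in
`R[z_j]`.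
-/

set_option autoImplicit false

namespace Groth.Agent.Lib.CIMonic58

open Polynomial PiTensorProduct
open scoped TensorProduct

section Inj

variable {R : Type*} [CommRing R] {ι : Type*} [Fintype ι] [DecidableEq ι]
  (g : ι → R[X]) (hg : ∀ i, (g i).Monic) (hd : ∀ i, 0 < (g i).natDegree) (i₀ : ι)

include hg hd in
theorem algebraMap_R'_injective :
    Function.Injective (algebraMap (R' g i₀) (Q (g' g i₀))) := by
  rcases subsingleton_or_nontrivial (R' g i₀) with h0 | h0
  · intro x y _; exact Subsingleton.elim _ _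
  rw [injective_iff_map_eq_zero]
  intro s hs
  have hdeg : ∀ j : {j : ι // j ≠ i₀}, 0 < (g' g i₀ j).natDegree := fun j => by
    have : (g' g i₀ j).natDegree = (g j.1).natDegree := (hg j.1).natDegree_map _
    rw [this]; exact hd j.1
  have h1 := congrArg (toT (g' g i₀)) hs
  rw [AlgHom.commutes, map_zero, Algebra.algebraMap_eq_smul_one] at h1
  set e₀ : Π j : {j : ι // j ≠ i₀}, Fin (g' g i₀ j).natDegree := fun j => ⟨0, hdeg j⟩ with he₀
  have h2 : (1 : T (g' g i₀)) = Basis.piTensorProduct (fun j => pb (g'_monic g hg i₀ j)) e₀ := by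
    rw [Basis.piTensorProduct_apply, PiTensorProduct.one_def]
    congr 1
    funext j
    rw [pb_apply, he₀]
    simp
  rw [h2] at h1
  have h3 := congrArg (fun t => (Basis.piTensorProduct (fun j => pb (g'_monic g hg i₀ j))).repr t e₀)
    h1
  simpa using h3

include hg hd in
theorem incl_injective : Function.Injective (incl g i₀) := by
  intro x y hxy
  have := congrArg (toB' g i₀) hxy
  rw [toB'_incl, toB'_incl] at this
  exact algebraMap_R'_injective g hg hd i₀ this

end Inj

section Translation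

/-- A polynomial of degree `< p` over a domain of characteristic `p` invariant under a nonzero
translation is constant. -/
theorem eq_C_of_comp_X_add_C {R : Type*} [CommRing R] [IsDomain R] (p : ℕ) [Fact p.Prime]
    [CharP R p] {c : R} (hc : c ≠ 0) (F : R[X]) (hF : F.natDegree < p)
    (hinv : F.comp (X + C c) = F) : F = C (F.eval 0) := by
  have hev : ∀ i : ℕ, F.eval ((i : R) * c) = F.eval 0 := by
    intro i
    induction i with
    | zero => simp
    | succ i ih =>
      have h1 : F.eval (((i + 1 : ℕ) : R) * c) = (F.comp (X + C c)).eval ((i : R) * c) := by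
        rw [Polynomial.eval_comp]
        congr 1
        simp only [Polynomial.eval_add, Polynomial.eval_X, Polynomial.eval_C]
        push_cast
        ring
      rw [h1, hinv, ih]
  refine Polynomial.eq_of_natDegree_lt_card_of_eval_eq F (C (F.eval 0))
    (f := fun i : Fin p => ((i : ℕ) : R) * c) ?_ (fun i => ?_) ?_
  · intro i j hij
    have h1 : ((i : ℕ) : R) = ((j : ℕ) : R) := mul_right_cancel₀ hc hij
    have h2 := (CharP.natCast_eq_natCast R p).mp h1
    exact Fin.ext (by
      have := Nat.ModEq.eq_of_lt_of_lt h2 i.2 j.2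
      exact this)
  · rw [hev, Polynomial.eval_C]
  · rw [Fintype.card_fin, Polynomial.natDegree_C]
    exact max_lt hF (Fact.out : p.Prime).pos

end Translation

section AS

variable {R : Type*} [CommRing R] [IsDomain R] {ι : Type*} [Fintype ι] [DecidableEq ι]
  (g : ι → R[X]) (hg : ∀ i, (g i).Monic) (hd : ∀ i, 0 < (g i).natDegree) (i₀ : ι)
  (α : R) (β : {j : ι // j ≠ i₀} → R) (p : ℕ) [Fact p.Prime] [CharP R p]

theorem mk_inj_of_natDegree_lt {h : R[X]} (hh : h.Monic) {f₁ f₂ : R[X]}
    (h1 : f₁.natDegree < h.natDegree) (h2 : f₂.natDegree < h.natDegree)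
    (he : AdjoinRoot.mk h f₁ = AdjoinRoot.mk h f₂) : f₁ = f₂ := by
  ext k
  by_cases hk : k < h.natDegree
  · have e1 := pb_repr_mk hh (Polynomial.degree_lt_degree h1) ⟨k, hk⟩
    have e2 := pb_repr_mk hh (Polynomial.degree_lt_degree h2) ⟨k, hk⟩
    rw [he] at e1
    exact e1.symm.trans e2
  · rw [Polynomial.coeff_eq_zero_of_natDegree_lt (by omega),
      Polynomial.coeff_eq_zero_of_natDegree_lt (by omega)]

include hg hd in
/-- Invariants of an Artin–Schreier translation, up to a power of `α`, lie in `R[z_j]`. -/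
theorem invariant_mem_adjoin_AS (c : R) (hc : c ≠ 0) (hdeg0 : (g i₀).natDegree = p)
    (hα : α ≠ 0) (σ : Q g →ₐ[R] Q g)
    (hσz : ∀ j, σ (zmin g i₀ α β j) = zmin g i₀ α β j)
    (hσu : σ (u g i₀) = u g i₀ + algebraMap R (Q g) c) (t : Q g) (ht : σ t = t) :
    ∃ N : ℕ, algebraMap R (Q g) (α ^ N) * t ∈ Algebra.adjoin R (Set.range (zmin g i₀ α β)) := by
  have hp : 0 < p := (Fact.out : p.Prime).pos
  have hσu' : σ (u g i₀) = incl g i₀ (AdjoinRoot.root (g i₀) + algebraMap R (R' g i₀) c) := by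
    rw [hσu, map_add, incl_root]
    congr 1
    exact ((incl g i₀).commutes c).symm
  refine ⟨∑ j : {j : ι // j ≠ i₀}, ((g' g i₀ j).natDegree - 1), ?_⟩
  rw [← Finset.prod_pow_eq_pow_sum]
  refine invariant_mem_adjoin g hg i₀ α β (mem_nonZeroDivisors_of_ne_zero hα) σ hσz
    (AdjoinRoot.root (g i₀) + algebraMap R (R' g i₀) c) hσu' ?_ t ht
  intro ρ hρ
  obtain ⟨f0, rfl⟩ := AdjoinRoot.mk_surjective ρ
  have hne : g i₀ ≠ 1 := by
    intro h1
    rw [h1, Polynomial.natDegree_one] at hdeg0
    omega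
  set f := f0 %ₘ g i₀ with hf
  have hfdeg : f.natDegree < (g i₀).natDegree := Polynomial.natDegree_modByMonic_lt f0 (hg i₀) hne
  have hmk : AdjoinRoot.mk (g i₀) f0 = AdjoinRoot.mk (g i₀) f := by
    rw [AdjoinRoot.mk_eq_mk]
    refine ⟨f0 /ₘ g i₀, ?_⟩
    have := Polynomial.modByMonic_add_div f0 (g i₀)
    rw [hf]
    linear_combination this.symm
  rw [hmk] at hρ ⊢
  rw [sigma_incl_mk g i₀ σ _ hσu' f] at hρ
  have h1 := incl_injective g hg hd i₀ hρ
  have h2 : Polynomial.aeval (AdjoinRoot.root (g i₀) + algebraMap R (R' g i₀) c) f =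
      AdjoinRoot.mk (g i₀) (f.comp (X + C c)) := by
    have h3 : AdjoinRoot.root (g i₀) + algebraMap R (R' g i₀) c =
        AdjoinRoot.mk (g i₀) (X + C c) := by
      rw [map_add, AdjoinRoot.mk_X, AdjoinRoot.mk_C]; rfl
    rw [h3, Polynomial.comp_eq_aeval, ← AdjoinRoot.coe_mkₐ, Polynomial.aeval_algHom_apply]
  rw [h2] at h1
  have hcdeg : (f.comp (X + C c)).natDegree < (g i₀).natDegree := by
    rw [Polynomial.natDegree_comp, Polynomial.natDegree_X_add_C, mul_one]; exact hfdeg
  have h4 := mk_inj_of_natDegree_lt (hg i₀) hcdeg hfdeg h1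
  have h5 := eq_C_of_comp_X_add_C p hc f (by rw [← hdeg0]; exact hfdeg) h4
  refine ⟨f.eval 0, ?_⟩
  rw [h5, AdjoinRoot.mk_C]
  simp

include hg hd in
/-- Version of `invariant_mem_adjoin_AS` for an ideal only propositionally equal to `ciIdeal g`. -/
theorem invariant_mem_adjoin_AS_of_eq (I : Ideal (MvPolynomial ι R)) (hI : I = ciIdeal g)
    (c : R) (hc : c ≠ 0) (hdeg0 : (g i₀).natDegree = p) (hα : α ≠ 0)
    (σ : (MvPolynomial ι R ⧸ I) →ₐ[R] (MvPolynomial ι R ⧸ I))
    (hσz : ∀ j : {j : ι // j ≠ i₀},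
      σ (algebraMap R (MvPolynomial ι R ⧸ I) α * Ideal.Quotient.mk I (MvPolynomial.X j.1) -
        algebraMap R (MvPolynomial ι R ⧸ I) (β j) * Ideal.Quotient.mk I (MvPolynomial.X i₀)) =
      algebraMap R (MvPolynomial ι R ⧸ I) α * Ideal.Quotient.mk I (MvPolynomial.X j.1) -
        algebraMap R (MvPolynomial ι R ⧸ I) (β j) * Ideal.Quotient.mk I (MvPolynomial.X i₀))
    (hσu : σ (Ideal.Quotient.mk I (MvPolynomial.X i₀)) =
      Ideal.Quotient.mk I (MvPolynomial.X i₀) + algebraMap R (MvPolynomial ι R ⧸ I) c)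
    (t : MvPolynomial ι R ⧸ I) (ht : σ t = t) :
    ∃ N : ℕ, algebraMap R (MvPolynomial ι R ⧸ I) (α ^ N) * t ∈
      Algebra.adjoin R (Set.range fun j : {j : ι // j ≠ i₀} =>
        algebraMap R (MvPolynomial ι R ⧸ I) α * Ideal.Quotient.mk I (MvPolynomial.X j.1) -
          algebraMap R (MvPolynomial ι R ⧸ I) (β j) * Ideal.Quotient.mk I (MvPolynomial.X i₀)) := by
  subst hI
  exact invariant_mem_adjoin_AS g hg hd i₀ α β p c hc hdeg0 hα σ hσz hσu t ht

end AS

end Groth.Agent.Lib.CIMonic58
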