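import Groth.Agent.Lib.SyntLCI3
import Groth.Agent.Lib.H14CIChar2

/-!
# Complete intersections over a field: local rings versus neighbourhoods (helper19)

Namespace `Groth.Agent.Lib.CIOver`.

* `locQuotAlgEquiv` : `(B/I)_q ≃ₐ[k] B_Q / I B_Q`.
* `isCIOver_of_genAt`, `genAt_of_isCIOver` : for `P = k[x_1..x_n]`, `q` a prime of `P/I` with preimage `Q`:
  `(P/I)_q` is a complete intersection over `k` iff `I` is generated by a Koszul-regular sequence near `Q`.
-/

set_option autoImplicit false
set_option linter.style.haveILetI false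
universe u

namespace Groth.Agent.Lib.CIOver

open Groth.Agent.Lib.KoszulIdeal Groth.Agent.Lib.SyntLCI Groth.Agent.Lib.KRDescC

section locquot

variable (k : Type u) [CommRing k] {B : Type u} [CommRing B] [Algebra k B] (I : Ideal B)
  (q : Ideal (B ⧸ I)) [q.IsPrime]

theorem algebraMapSubmonoid_primeCompl :
    Algebra.algebraMapSubmonoid (B ⧸ I) (q.comap (Ideal.Quotient.mk I)).primeCompl = q.primeCompl := by
  ext y
  constructor
  · rintro ⟨a, ha, rfl⟩
    exact ha
  · intro hy
    obtain ⟨a, rfl⟩ := Ideal.Quotient.mk_surjective y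
    exact ⟨a, hy, rfl⟩

/-- `(B/I)_q ≃ B_Q / I B_Q` as `k`-algebras -/
noncomputable def locQuotAlgEquiv :
    Localization.AtPrime q ≃ₐ[k]
      (Localization.AtPrime (q.comap (Ideal.Quotient.mk I)) ⧸
        I.map (algebraMap B (Localization.AtPrime (q.comap (Ideal.Quotient.mk I))))) := by
  have h1 : IsLocalization (Algebra.algebraMapSubmonoid (B ⧸ I)
      (q.comap (Ideal.Quotient.mk I)).primeCompl)
      (Localization.AtPrime (q.comap (Ideal.Quotient.mk I)) ⧸
        I.map (algebraMap B (Localization.AtPrime (q.comap (Ideal.Quotient.mk I))))) := inferInstance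
  rw [algebraMapSubmonoid_primeCompl] at h1
  haveI : IsScalarTower k (B ⧸ I) (Localization.AtPrime (q.comap (Ideal.Quotient.mk I)) ⧸
        I.map (algebraMap B (Localization.AtPrime (q.comap (Ideal.Quotient.mk I))))) := by
    refine IsScalarTower.of_algebraMap_eq (fun x => ?_)
    show Ideal.Quotient.mk _ (algebraMap k (Localization.AtPrime (q.comap (Ideal.Quotient.mk I))) x) = _
    rw [IsScalarTower.algebraMap_apply k B (Localization.AtPrime (q.comap (Ideal.Quotient.mk I)))]
    rfl
  exact (IsLocalization.algEquiv q.primeCompl (Localization.AtPrime q) _).restrictScalars k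

end locquot

section field

open IsLocalRing

variable (k : Type u) [Field k] {n : ℕ} (I : Ideal (MvPolynomial (Fin n) k))
  (q : Ideal (MvPolynomial (Fin n) k ⧸ I)) [q.IsPrime]

omit [q.IsPrime] in
theorem le_comap_mk : I ≤ q.comap (Ideal.Quotient.mk I) := by
  intro x hx
  show Ideal.Quotient.mk I x ∈ q
  rw [Ideal.Quotient.eq_zero_iff_mem.mpr hx]
  exact q.zero_mem

/-- Koszul-regular generation near `Q` ⇒ the local ring is a complete intersection over `k` -/
theorem isCIOver_of_genAt {G : MvPolynomial (Fin n) k} (hG : G ∉ q.comap (Ideal.Quotient.mk I))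
    (hgen : GenAt I G) : Synt.IsCIOver k (Localization.AtPrime q) := by
  let Q := q.comap (Ideal.Quotient.mk I)
  let T := Localization.AtPrime Q
  haveI : Module.Flat (MvPolynomial (Fin n) k) T := IsLocalization.flat T Q.primeCompl
  have hug : IsUnit (algebraMap (MvPolynomial (Fin n) k) T G) :=
    (IsLocalization.AtPrime.isUnit_to_map_iff T Q G).mpr hG
  obtain ⟨s, hs⟩ := hgen.exists_genLen
  obtain ⟨l, -, hl, hIl⟩ := hs.transfer T hug
  have hmem : ∀ x ∈ l, x ∈ maximalIdeal T := by
    intro x hx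
    have h1 : x ∈ Ideal.ofList l := Ideal.subset_span hx
    rw [← hIl] at h1
    have h2 : I.map (algebraMap _ T) ≤ Q.map (algebraMap _ T) := Ideal.map_mono (le_comap_mk k I q)
    rw [Localization.AtPrime.map_eq_maximalIdeal] at h2
    exact h2 h1
  have hw := isWeaklyRegular_of_isKoszulRegularSeq l hl hmem
  have hreg : RingTheory.Sequence.IsRegular T l := by
    refine ⟨hw, ?_⟩
    intro htop
    have h3 : Ideal.ofList l ≤ maximalIdeal T := Ideal.span_le.mpr hmem
    have h4 : (Ideal.ofList l • (⊤ : Submodule T T)) ≤ maximalIdeal T := by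
      rw [Ideal.smul_top_eq_map]
      simpa using h3
    rw [← htop] at h4
    exact (maximalIdeal.isMaximal T).ne_top (top_le_iff.mp h4)
  refine ⟨T, inferInstance, inferInstance, inferInstance, inferInstance, l, hmem, hreg, ⟨?_⟩⟩
  exact (locQuotAlgEquiv k I q).trans (Ideal.quotientEquivAlgOfEq k hIl)

/-- the local ring is a complete intersection over `k` ⇒ Koszul-regular generation near `Q` -/
theorem genAt_of_isCIOver (h : Synt.IsCIOver k (Localization.AtPrime q)) :
    ∃ G : MvPolynomial (Fin n) k, G ∉ q.comap (Ideal.Quotient.mk I) ∧ GenAt I G := by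
  obtain ⟨R₁, _, _, _, -, rs₁, -, hreg₁, ⟨e⟩⟩ := h
  let Q := q.comap (Ideal.Quotient.mk I)
  let T := Localization.AtPrime Q
  let C := Localization.AtPrime q
  haveI : IsNoetherianRing C := IsLocalization.isNoetherianRing q.primeCompl C inferInstance
  let g₁ : R₁ →+* C := (e.symm : (R₁ ⧸ Ideal.ofList rs₁) →+* C).comp (Ideal.Quotient.mk _)
  have hg₁ : Function.Surjective g₁ := e.symm.surjective.comp Ideal.Quotient.mk_surjective
  have hk₁ : RingHom.ker g₁ = Ideal.ofList rs₁ := by
    ext x
    rw [RingHom.mem_ker]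
    show e.symm (Ideal.Quotient.mk _ x) = 0 ↔ _
    rw [map_eq_zero_iff _ e.symm.injective, Ideal.Quotient.eq_zero_iff_mem]
  let E := locQuotAlgEquiv k I q
  let f : T →+* C := (E.symm : (T ⧸ I.map (algebraMap (MvPolynomial (Fin n) k) T)) →+* C).comp
    (Ideal.Quotient.mk _)
  have hf : Function.Surjective f := E.symm.surjective.comp Ideal.Quotient.mk_surjective
  have hkf : RingHom.ker f = I.map (algebraMap _ T) := by
    ext x
    rw [RingHom.mem_ker]
    show E.symm (Ideal.Quotient.mk _ x) = 0 ↔ _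
    rw [map_eq_zero_iff _ E.symm.injective, Ideal.Quotient.eq_zero_iff_mem]
  have h' : ∃ rs : List R₁, Ideal.ofList rs = RingHom.ker g₁ ∧
      RingTheory.Sequence.IsRegular R₁ rs := ⟨rs₁, hk₁.symm, hreg₁⟩
  obtain ⟨rs, hrs, hreg⟩ := Groth.Agent.Lib.H14CIChar2.ker_regular_of_ker_regular
    (C := C) (B := R₁) (R := T) g₁ hg₁ f hf h'
  have hkr := (Groth.Agent.S15821.result T rs hreg.toIsWeaklyRegular).1
  exact exists_genAt_of_atPrime k I Q rs hkr (by rw [← hkf, hrs])

open Groth.Agent.Lib.KRDescB in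
/-- Koszul-regular generation near `Q` ⇒ a basic open neighbourhood is a global complete intersection -/
theorem exists_isGlobalCI_away_of_genAt {G₀ : MvPolynomial (Fin n) k}
    (hG₀ : G₀ ∉ q.comap (Ideal.Quotient.mk I)) (hGen : GenAt I G₀) :
    ∃ g : MvPolynomial (Fin n) k ⧸ I, g ∉ q ∧ Synt.IsGlobalCI k (Localization.Away g) := by
  let 𝔮 : Ideal (MvPolynomial (Fin n) k) := q.comap (Ideal.Quotient.mk I)
  obtain ⟨s, hs⟩ := hGen.exists_genLen
  have hIfg : I.FG := IsNoetherian.noetherian I
  have hs' : GenLen (I.map (algebraMap (MvPolynomial (Fin n) k) (MvPolynomial (Fin n) k))) G₀ s := by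
    rw [Algebra.algebraMap_self, Ideal.map_id]
    exact hs
  obtain ⟨n', hn', v, a, ha, hv⟩ := GenLen.exists_nearGen (A := MvPolynomial (Fin n) k)
    (B := MvPolynomial (Fin n) k) hIfg hs' 𝔮 hG₀
  have ha' : a ∉ 𝔮 := ha
  have hh₀ : a * G₀ ∉ 𝔮 := fun h =>
    (Ideal.IsPrime.mem_or_mem inferInstance h).elim ha' hG₀
  have hu : IsUnit (algebraMap (MvPolynomial (Fin n) k) (Localization.Away (a * G₀)) (a * G₀)) :=
    IsLocalization.Away.algebraMap_isUnit (a * G₀)
  rw [map_mul] at hu
  have hau := isUnit_of_mul_isUnit_left hu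
  have hGu := isUnit_of_mul_isUnit_right hu
  have hkr := kr_of_genLen hv hn' hs' (Localization.Away (a * G₀)) hau hGu
  have hID : I.map (algebraMap (MvPolynomial (Fin n) k) (Localization.Away (a * G₀))) =
      Ideal.ofList (List.ofFn (algebraMap (MvPolynomial (Fin n) k) (Localization.Away (a * G₀)) ∘ v)) := by
    rw [Groth.Agent.Lib.KRDescC.ofList_ofFn]
    exact hv.map_eq (algebraMap _ _) hau
  have hgp : Ideal.Quotient.mk I (a * G₀) ∉ q := hh₀
  refine ⟨Ideal.Quotient.mk I (a * G₀), hgp, ?_⟩
  haveI : Nontrivial (Localization.Away (Ideal.Quotient.mk I (a * G₀))) := by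
    rw [← not_subsingleton_iff_nontrivial,
      IsLocalization.subsingleton_iff (M := Submonoid.powers (Ideal.Quotient.mk I (a * G₀)))]
    rintro ⟨m, hm⟩
    apply hgp
    apply Ideal.IsPrime.mem_of_pow_mem inferInstance m
    simp only at hm
    rw [hm]
    exact q.zero_mem
  exact isGlobalCI_away_of_isKoszulRegularSeq k n I (a * G₀) v hkr hID

/-- a basic open neighbourhood which is a local complete intersection ⇒ Koszul-regular generation near `Q` -/
theorem genAt_of_isLCIOver_away {g : MvPolynomial (Fin n) k ⧸ I} (hg : g ∉ q)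
    (h : Synt.IsLCIOver k (Localization.Away g)) :
    ∃ G : MvPolynomial (Fin n) k, G ∉ q.comap (Ideal.Quotient.mk I) ∧ GenAt I G := by
  obtain ⟨gt, rfl⟩ := Ideal.Quotient.mk_surjective g
  have hker : RingHom.ker (Ideal.Quotient.mkₐ k I).toRingHom = I := Ideal.Quotient.mkₐ_ker k I
  have h1 := Groth.Agent.S9253.genAt_of_isLCI_away n (Ideal.Quotient.mkₐ k I)
    (Ideal.Quotient.mkₐ_surjective k I) gt (isLCI_of_isLCIOver h)
    ⟨q.comap (Ideal.Quotient.mk I), inferInstance⟩ (by rw [hker]; exact le_comap_mk k I q) hg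
  rw [hker] at h1
  exact h1

end field

section general

variable (k : Type u) [Field k]

/-- a global complete intersection of finite type is a local complete intersection -/
theorem isLCIOver_of_isGlobalCI {S : Type u} [CommRing S] [Algebra k S]
    (h : Synt.IsGlobalCI k S) : Synt.IsLCIOver k S := by
  refine ⟨?_, fun p => ⟨1, ?_, Groth.Agent.Lib.GlobalCI.isGlobalCI_localizationAway 1 h⟩⟩
  · rcases h with hs | ⟨n, c, -, φ, -, hφ, -, -⟩
    · exact Algebra.FiniteType.of_surjective (Algebra.ofId k S)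
        (fun s => ⟨0, Subsingleton.elim _ _⟩)
    · exact Algebra.FiniteType.of_surjective φ hφ
  · exact fun h1 => p.2.ne_top ((Ideal.eq_top_iff_one _).mpr h1)

end general

end Groth.Agent.Lib.CIOver
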