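import Groth.Agent.Lib.CIOver1

/-!
# Complete intersections over a field: `S_q` CI ⇔ some `S_g` lci ⇔ some `S_g` global CI (helper19)

Namespace `Groth.Agent.Lib.CIOver`.

* `main_quot`, `main` (= S9144), `isLCIOver_iff_forall` (= S9145).
-/

set_option autoImplicit false
set_option linter.style.haveILetI false
universe u

namespace Groth.Agent.Lib.CIOver

open Groth.Agent.Lib.KoszulIdeal Groth.Agent.Lib.SyntLCI

variable (k : Type u) [Field k]

section quot

variable {n : ℕ} (I : Ideal (MvPolynomial (Fin n) k))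
  (q : Ideal (MvPolynomial (Fin n) k ⧸ I)) [q.IsPrime]

theorem main_quot :
    (Synt.IsCIOver k (Localization.AtPrime q) ↔
      ∃ g : MvPolynomial (Fin n) k ⧸ I, g ∉ q ∧ Synt.IsLCIOver k (Localization.Away g)) ∧
    (Synt.IsCIOver k (Localization.AtPrime q) ↔
      ∃ g : MvPolynomial (Fin n) k ⧸ I, g ∉ q ∧ Synt.IsGlobalCI k (Localization.Away g)) := by
  have h1 : Synt.IsCIOver k (Localization.AtPrime q) →
      ∃ g : MvPolynomial (Fin n) k ⧸ I, g ∉ q ∧ Synt.IsGlobalCI k (Localization.Away g) := by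
    intro h
    obtain ⟨G, hG, hgen⟩ := genAt_of_isCIOver k I q h
    exact exists_isGlobalCI_away_of_genAt k I q hG hgen
  have h2 : (∃ g : MvPolynomial (Fin n) k ⧸ I, g ∉ q ∧ Synt.IsGlobalCI k (Localization.Away g)) →
      ∃ g : MvPolynomial (Fin n) k ⧸ I, g ∉ q ∧ Synt.IsLCIOver k (Localization.Away g) := by
    rintro ⟨g, hg, h⟩
    exact ⟨g, hg, isLCIOver_of_isGlobalCI k h⟩
  have h3 : (∃ g : MvPolynomial (Fin n) k ⧸ I, g ∉ q ∧ Synt.IsLCIOver k (Localization.Away g)) →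
      Synt.IsCIOver k (Localization.AtPrime q) := by
    rintro ⟨g, hg, h⟩
    obtain ⟨G, hG, hgen⟩ := genAt_of_isLCIOver_away k I q hg h
    exact isCIOver_of_genAt k I q hG hgen
  exact ⟨⟨fun h => h2 (h1 h), h3⟩, ⟨h1, fun h => h3 (h2 h)⟩⟩

end quot

section transfer

variable {S₁ S₂ : Type u} [CommRing S₁] [CommRing S₂] [Algebra k S₁] [Algebra k S₂]

theorem isCIOver_of_algEquiv [IsLocalRing S₁] [IsLocalRing S₂] (e : S₁ ≃ₐ[k] S₂)
    (h : Synt.IsCIOver k S₁) : Synt.IsCIOver k S₂ := by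
  obtain ⟨R, _, _, _, hess, rs, hmem, hreg, ⟨e'⟩⟩ := h
  exact ⟨R, _, ‹_›, _, hess, rs, hmem, hreg, ⟨e.symm.trans e'⟩⟩

/-- localizations at corresponding primes -/
noncomputable def atPrimeAlgEquiv (e : S₁ ≃ₐ[k] S₂) (q : Ideal S₂) [q.IsPrime] :
    Localization.AtPrime (q.comap (e : S₁ →+* S₂)) ≃ₐ[k] Localization.AtPrime q :=
  IsLocalization.algEquivOfAlgEquiv (M := (q.comap (e : S₁ →+* S₂)).primeCompl) (T := q.primeCompl)
    (Localization.AtPrime (q.comap (e : S₁ →+* S₂))) (Localization.AtPrime q) e (by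
      ext y
      constructor
      · rintro ⟨x, hx, rfl⟩
        exact hx
      · intro hy
        refine ⟨e.symm y, ?_, e.apply_symm_apply y⟩
        show e.symm y ∉ q.comap (e : S₁ →+* S₂)
        rw [Ideal.mem_comap]
        show ¬ e (e.symm y) ∈ q
        rw [e.apply_symm_apply]
        exact hy)

/-- principal localizations at corresponding elements -/
noncomputable def awayAlgEquiv (e : S₁ ≃ₐ[k] S₂) (g : S₁) :
    Localization.Away g ≃ₐ[k] Localization.Away (e g) :=
  IsLocalization.algEquivOfAlgEquiv (M := Submonoid.powers g) (T := Submonoid.powers (e g))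
    (Localization.Away g) (Localization.Away (e g)) e (by rw [Submonoid.map_powers])

end transfer

section main

/-- **S9144** -/
theorem main (S : Type u) [CommRing S] [Algebra k S] [Algebra.FiniteType k S] (q : Ideal S)
    [q.IsPrime] :
    (Synt.IsCIOver k (Localization.AtPrime q) ↔
      ∃ g : S, g ∉ q ∧ Synt.IsLCIOver k (Localization.Away g)) ∧
    (Synt.IsCIOver k (Localization.AtPrime q) ↔
      ∃ g : S, g ∉ q ∧ Synt.IsGlobalCI k (Localization.Away g)) := by
  obtain ⟨n, α, hα⟩ := Algebra.FiniteType.iff_quotient_mvPolynomial''.mp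
    (inferInstance : Algebra.FiniteType k S)
  let e0 : (MvPolynomial (Fin n) k ⧸ RingHom.ker α.toRingHom) ≃ₐ[k] S :=
    Ideal.quotientKerAlgEquivOfSurjective hα
  let q' : Ideal (MvPolynomial (Fin n) k ⧸ RingHom.ker α.toRingHom) :=
    q.comap (e0 : (MvPolynomial (Fin n) k ⧸ RingHom.ker α.toRingHom) →+* S)
  haveI : q'.IsPrime := Ideal.comap_isPrime _ _
  have hci : Synt.IsCIOver k (Localization.AtPrime q') ↔ Synt.IsCIOver k (Localization.AtPrime q) :=
    ⟨isCIOver_of_algEquiv k (atPrimeAlgEquiv k e0 q),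
      isCIOver_of_algEquiv k (atPrimeAlgEquiv k e0 q).symm⟩
  have hl : (∃ g, g ∉ q' ∧ Synt.IsLCIOver k (Localization.Away g)) ↔
      ∃ g : S, g ∉ q ∧ Synt.IsLCIOver k (Localization.Away g) := by
    constructor
    · rintro ⟨g, hg, h⟩
      exact ⟨e0 g, hg, Groth.Agent.Lib.GlobalCI.isLCIOver_of_algEquiv (awayAlgEquiv k e0 g) h⟩
    · rintro ⟨g, hg, h⟩
      refine ⟨e0.symm g, ?_, ?_⟩
      · show ¬ e0 (e0.symm g) ∈ q
        rw [e0.apply_symm_apply]
        exact hg
      · have E := awayAlgEquiv k e0 (e0.symm g)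
        rw [e0.apply_symm_apply] at E
        exact Groth.Agent.Lib.GlobalCI.isLCIOver_of_algEquiv E.symm h
  have hg : (∃ g, g ∉ q' ∧ Synt.IsGlobalCI k (Localization.Away g)) ↔
      ∃ g : S, g ∉ q ∧ Synt.IsGlobalCI k (Localization.Away g) := by
    constructor
    · rintro ⟨g, hg, h⟩
      exact ⟨e0 g, hg, Groth.Agent.Lib.GlobalCI.isGlobalCI_of_algEquiv (awayAlgEquiv k e0 g) h⟩
    · rintro ⟨g, hg, h⟩
      refine ⟨e0.symm g, ?_, ?_⟩
      · show ¬ e0 (e0.symm g) ∈ q
        rw [e0.apply_symm_apply]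
        exact hg
      · have E := awayAlgEquiv k e0 (e0.symm g)
        rw [e0.apply_symm_apply] at E
        exact Groth.Agent.Lib.GlobalCI.isGlobalCI_of_algEquiv E.symm h
  have hm := main_quot k (RingHom.ker α.toRingHom) q'
  rw [hci, hl, hg] at hm
  exact hm

/-- **S9145** -/
theorem isLCIOver_iff_forall (S : Type u) [CommRing S] [Algebra k S] [Algebra.FiniteType k S] :
    (Synt.IsLCIOver k S ↔
      ∀ p : PrimeSpectrum S, Synt.IsCIOver k (Localization.AtPrime p.asIdeal)) ∧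
    (Synt.IsLCIOver k S ↔
      ∀ m : MaximalSpectrum S, Synt.IsCIOver k (Localization.AtPrime m.asIdeal)) := by
  have h1 : Synt.IsLCIOver k S →
      ∀ p : PrimeSpectrum S, Synt.IsCIOver k (Localization.AtPrime p.asIdeal) := by
    intro h p
    obtain ⟨g, hg, hgci⟩ := h.2 p
    exact (main k S p.asIdeal).2.mpr ⟨g, hg, hgci⟩
  have h2 : (∀ p : PrimeSpectrum S, Synt.IsCIOver k (Localization.AtPrime p.asIdeal)) →
      ∀ m : MaximalSpectrum S, Synt.IsCIOver k (Localization.AtPrime m.asIdeal) :=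
    fun h m => h ⟨m.asIdeal, inferInstance⟩
  have h3 : (∀ m : MaximalSpectrum S, Synt.IsCIOver k (Localization.AtPrime m.asIdeal)) →
      Synt.IsLCIOver k S := by
    intro h
    refine ⟨inferInstance, fun p => ?_⟩
    obtain ⟨m, hm, hpm⟩ := Ideal.exists_le_maximal p.asIdeal p.2.ne_top
    obtain ⟨g, hg, hgci⟩ := (main k S m).2.mp (h ⟨m, hm⟩)
    exact ⟨g, fun hgp => hg (hpm hgp), hgci⟩
  exact ⟨⟨h1, fun h => h3 (h2 h)⟩, ⟨fun h => h2 (h1 h), h3⟩⟩

end main

end Groth.Agent.Lib.CIOver
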