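import Groth.Prelude.Def_MoreMor
import Groth.Agent.Lib.FibreStalk33
import Groth.Agent.Lib.CMRingEquiv96
import Groth.Agent.Lib.CMFlat33
import Mathlib.AlgebraicGeometry.Noetherian
import Mathlib.AlgebraicGeometry.Morphisms.Flat
import Mathlib.RingTheory.RingHom.Flat

/-!
# Cohen–Macaulay morphisms via local rings (helper33)

`MoreMor.IsCMAt f x` in terms of `𝒪_{X,x} ⧸ 𝔪_{f x} 𝒪_{X,x}`.
-/

set_option autoImplicit false
universe u

open AlgebraicGeometry CategoryTheory Limits IsLocalRing

namespace Groth.Agent.Lib.FibreStalkCM33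

open Groth.Agent.Lib

variable {X S : Scheme.{u}} (f : X ⟶ S) (x : X)

/-- `f` is Cohen–Macaulay at `x` iff it is flat at `x` and `𝒪_{X,x} ⧸ 𝔪_{f x} 𝒪_{X,x}` is a
Cohen–Macaulay local ring. -/
theorem isCMAt_iff :
    MoreMor.IsCMAt f x ↔ (f.stalkMap x).hom.Flat ∧
      LocCoh.IsCohenMacaulayLocalRing
        (X.presheaf.stalk x ⧸ Ideal.map (f.stalkMap x).hom
          (maximalIdeal (S.presheaf.stalk (f x)))) := by
  unfold MoreMor.IsCMAt
  refine and_congr_right fun _ => ⟨fun h => ?_, fun h => ?_⟩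
  · exact CMRingEquiv96.isCohenMacaulayLocalRing_of_ringEquiv
      (FibreStalk33.fibreStalkEquiv f x).symm
  · exact CMRingEquiv96.isCohenMacaulayLocalRing_of_ringEquiv
      (FibreStalk33.fibreStalkEquiv f x)

section Formulas

variable [IsLocallyNoetherian X] [IsLocallyNoetherian S]

/-- Depth formula for a morphism flat at `x`:
`depth 𝒪_{X,x} = depth 𝒪_{S,f x} + depth 𝒪_{X_{f x},x}`. -/
theorem depth_stalk_eq_add (hflat : (f.stalkMap x).hom.Flat) :
    LocCoh.depth (X.presheaf.stalk x) (X.presheaf.stalk x) =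
      LocCoh.depth (S.presheaf.stalk (f x)) (S.presheaf.stalk (f x)) +
        LocCoh.depth ((f.fiber (f x)).presheaf.stalk (f.asFiber x))
          ((f.fiber (f x)).presheaf.stalk (f.asFiber x)) := by
  have hl : IsLocalRing (X.presheaf.stalk x ⧸ Ideal.map (f.stalkMap x).hom
      (maximalIdeal (S.presheaf.stalk (f x)))) := CMFlat33.isLocalRing_quotient_map _
  rw [CMFlat33.depth_eq_add' (f.stalkMap x).hom hflat,
    CMRingEquiv96.depth_eq (FibreStalk33.fibreStalkEquiv f x)]

/-- Dimension formula for a morphism flat at `x`: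
`dim 𝒪_{X,x} = dim 𝒪_{S,f x} + dim 𝒪_{X_{f x},x}`. -/
theorem ringKrullDim_stalk_eq_add (hflat : (f.stalkMap x).hom.Flat) :
    ringKrullDim (X.presheaf.stalk x) =
      ringKrullDim (S.presheaf.stalk (f x)) +
        ringKrullDim ((f.fiber (f x)).presheaf.stalk (f.asFiber x)) := by
  rw [CMFlat33.ringKrullDim_eq_add' (f.stalkMap x).hom hflat,
    ringKrullDim_eq_of_ringEquiv (FibreStalk33.fibreStalkEquiv f x)]

omit [IsLocallyNoetherian S] in
/-- The local ring of the fibre of a morphism from a locally Noetherian scheme is Noetherian. -/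
theorem isNoetherianRing_fibreStalk :
    IsNoetherianRing ((f.fiber (f x)).presheaf.stalk (f.asFiber x)) :=
  isNoetherianRing_of_ringEquiv _ (FibreStalk33.fibreStalkEquiv f x)

/-- `depth 𝒪_{X_{f x},x} ≤ depth 𝒪_{X,x}` for a morphism flat at `x`. -/
theorem depth_fibreStalk_le (hflat : (f.stalkMap x).hom.Flat) :
    LocCoh.depth ((f.fiber (f x)).presheaf.stalk (f.asFiber x))
        ((f.fiber (f x)).presheaf.stalk (f.asFiber x)) ≤
      LocCoh.depth (X.presheaf.stalk x) (X.presheaf.stalk x) := by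
  rw [depth_stalk_eq_add f x hflat]
  exact le_add_self

end Formulas

end Groth.Agent.Lib.FibreStalkCM33
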