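import Groth.Agent.Lib.H30GeomNormalTensor
import Groth.Agent.Lib.H14GeomPField
import Groth.Agent.Lib.H14FlatAscent
import Groth.Agent.Lib.H71GeomRedAt
import Groth.Agent.Lib.H30NormalSmooth
import Mathlib

/-!
# Geometric normality: purely inseparable test (non-Noetherian) and local rings of base changes

* `isNormalRing_of_forall_maximal`.
* `isGeomNormal_of_forall_pi`: `EGA4.IsGeomNormal k S` follows from normality of `k' ⊗ S` for finite
  purely inseparable `k'` (no Noetherian hypothesis; via helper14's `exists_pi_sep_tower`).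
* `nonempty_stalk_equiv`: local rings of `X_{k'}` over `x` are localizations of `𝒪_{X,x} ⊗[k] k'`
  (via helper71's `isoSpecTensor`).
-/

set_option autoImplicit false
universe u
open CategoryTheory CategoryTheory.Limits AlgebraicGeometry TensorProduct

namespace Groth.Agent.Lib.H30GeomNormalPt
open Groth.Agent.Lib.H30GeomNormalTensor
open Groth.Agent.Lib.H71GeomRedAt

/-- A ring is normal as soon as its localizations at maximal ideals are normal domains. -/
theorem isNormalRing_of_forall_maximal (R : Type u) [CommRing R]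
    (h : ∀ (m : Ideal R) [m.IsMaximal],
      IsDomain (Localization.AtPrime m) ∧ IsIntegrallyClosed (Localization.AtPrime m)) :
    EGA4.IsNormalRing R := by
  intro P hP
  obtain ⟨M, hM, hPM⟩ := Ideal.exists_le_maximal P hP.ne_top
  haveI := hM.isPrime
  obtain ⟨h1, h2⟩ := h M
  exact Groth.Agent.Lib.H14FlatAscent.normal_localization_of_le M P hPM

/-- A finite separable field extension is geometrically reduced. -/
theorem isGeometricallyReduced_of_isSeparable (K N : Type u) [Field K] [Field N] [Algebra K N]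
    [Algebra.IsSeparable K N] : Algebra.IsGeometricallyReduced K N := by
  rw [Algebra.isGeometricallyReduced_field_iff]
  exact Groth.Agent.Lib.H30GeomNormal.isReduced_tensor_of_isSeparable K N (AlgebraicClosure K)

/-- Geometric normality can be tested on finite purely inseparable extensions
(no Noetherian hypothesis). -/
theorem isGeomNormal_of_forall_pi (k S : Type u) [Field k] [CommRing S] [Algebra k S]
    (h : ∀ (k' : Type u) [Field k'] [Algebra k k'], Module.Finite k k' → IsPurelyInseparable k k' →
      EGA4.IsNormalRing (k' ⊗[k] S)) : EGA4.IsGeomNormal k S := by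
  intro K' _ _ hfin
  obtain ⟨K₁, N, _, _, _, _, _, _, _, _, hfin₁, hpi, hfinN, hsep⟩ :=
    Groth.Agent.Lib.H14GeomPField.exists_pi_sep_tower k K'
  have h1 : EGA4.IsNormalRing (K₁ ⊗[k] S) := h K₁ hfin₁ hpi
  haveI : Algebra.IsGeometricallyReduced K₁ N := isGeometricallyReduced_of_isSeparable K₁ N
  have h2 : EGA4.IsNormalRing (N ⊗[K₁] (K₁ ⊗[k] S)) :=
    Groth.Agent.S2690.result K₁ (K₁ ⊗[k] S) N h1
  have h3 : EGA4.IsNormalRing (N ⊗[k] S) :=
    Groth.Agent.Lib.H30GeomNormal.isNormalRing_of_ringEquiv
      (Algebra.TensorProduct.cancelBaseChange k K₁ K₁ N S).toRingEquiv h2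
  have h4 : EGA4.IsNormalRing (N ⊗[K'] (K' ⊗[k] S)) :=
    Groth.Agent.Lib.H30GeomNormal.isNormalRing_of_ringEquiv
      (Algebra.TensorProduct.cancelBaseChange k K' K' N S).symm.toRingEquiv h3
  have h5 : EGA4.IsNormalRing ((K' ⊗[k] S) ⊗[K'] N) :=
    Groth.Agent.Lib.H30GeomNormal.isNormalRing_of_ringEquiv
      (Algebra.TensorProduct.comm K' N (K' ⊗[k] S)).toRingEquiv h4
  exact isNormalRing_of_faithfullyFlat (K' ⊗[k] S) ((K' ⊗[k] S) ⊗[K'] N) h5


section Main

variable (k : Type u) [Field k] (X : Scheme.{u}) [X.Over (Spec (CommRingCat.of k))] (x : X)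

attribute [local instance] Curv2.stalkAlgebra

/-- The local ring of `X_{k'}` at the image of a point `w` of `Spec 𝒪_{X,x} ×_X X_{k'}` is the
localization of `𝒪_{X,x} ⊗[k] k'` at the corresponding prime. -/
theorem nonempty_stalk_equiv (k' : Type u) [Field k'] [Algebra k k']
    (w : ↥(pullback (X.fromSpecStalk x) (Curv2.bcFst k X k')))
    (P : Ideal (X.presheaf.stalk x ⊗[k] k')) [hP : P.IsPrime]
    (hw : (isoSpecTensor k X x k').hom w =
      (⟨P, hP⟩ : PrimeSpectrum (X.presheaf.stalk x ⊗[k] k'))) :
    Nonempty ((Curv2.bc k X k').presheaf.stalk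
        (pullback.snd (X.fromSpecStalk x) (Curv2.bcFst k X k') w) ≃+*
      Localization.AtPrime P) := by
  set e := isoSpecTensor k X x k'
  have hbij := bijective_stalkMap_snd (X.fromSpecStalk x) (Curv2.bcFst k X k') w
  let e1 := RingEquiv.ofBijective _ hbij
  have hiso : IsIso (e.hom.stalkMap w) := inferInstance
  have hb : Function.Bijective (e.hom.stalkMap w).hom :=
    (ConcreteCategory.isIso_iff_bijective _).mp hiso
  let e2 := RingEquiv.ofBijective _ hb
  have key : ∀ (p : PrimeSpectrum (X.presheaf.stalk x ⊗[k] k')), e.hom w = p →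
      Nonempty ((Spec (CommRingCat.of (X.presheaf.stalk x ⊗[k] k'))).presheaf.stalk (e.hom w) ≃+*
        Localization.AtPrime p.asIdeal) := by
    intro p hp
    subst hp
    exact ⟨(Spec.stalkIso (CommRingCat.of (X.presheaf.stalk x ⊗[k] k')) (e.hom w)).commRingCatIsoToRingEquiv⟩
  obtain ⟨e3⟩ := key _ hw
  exact ⟨e1.trans (e2.symm.trans e3)⟩

end Main


end Groth.Agent.Lib.H30GeomNormalPt
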