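import Groth.Agent.Lib.H71GeomRedAt
import Groth.Prelude.Def_EGA4b
import Mathlib

/-!
# Local rings of a product `X ×_k Y` (helper30)

For schemes `X`, `Y` over a field `k` and a point `z` of `X ×_k Y` over `x`, `y`, the local ring at `z` is
(isomorphic to) a localization of `𝒪_{X,x} ⊗[k] 𝒪_{Y,y}` at a prime.

* `stalk_pullback_induction`: any isomorphism-invariant property of rings which holds for all localizations of
  `𝒪_{X,x} ⊗[k] 𝒪_{Y,y}` at primes holds for `𝒪_{X ×_k Y, z}`.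
* `exists_stalk_pullback_equiv`: the existence form.
-/

set_option autoImplicit false
universe u

open CategoryTheory CategoryTheory.Limits AlgebraicGeometry TensorProduct

namespace Groth.Agent.Lib.H30StalkProd

open Groth.Agent.Lib.H71GeomRedAt

attribute [local instance] Curv2.stalkAlgebra

section

variable (Q : ∀ (R : Type u) [CommRing R], Prop)
  (hQ : ∀ (R R' : Type u) [CommRing R] [CommRing R'], (R ≃+* R') → Q R → Q R')

include hQ

omit hQ in
theorem Q_stalk_of_eq {W : Scheme.{u}} (a b : W) (h : a = b)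
    (ha : Q (W.presheaf.stalk a)) : Q (W.presheaf.stalk b) := by
  subst h; exact ha

theorem Q_stalk_of_iso {W W' : Scheme.{u}} (e : W ≅ W') (w : W)
    (h : Q (W'.presheaf.stalk (e.hom w))) : Q (W.presheaf.stalk w) := by
  have hiso : IsIso (e.hom.stalkMap w) := inferInstance
  have hb : Function.Bijective (e.hom.stalkMap w).hom :=
    (ConcreteCategory.isIso_iff_bijective _).mp hiso
  exact hQ _ _ (RingEquiv.ofBijective _ hb) h

theorem Q_stalk_of_bijective {W W' : Scheme.{u}} (φ : W ⟶ W') (w : W)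
    (hb : Function.Bijective (φ.stalkMap w).hom)
    (h : Q (W.presheaf.stalk w)) : Q (W'.presheaf.stalk (φ w)) :=
  hQ _ _ (RingEquiv.ofBijective _ hb).symm h

theorem Q_stalk_Spec (R : Type u) [CommRing R]
    (h : ∀ (P : Ideal R) [P.IsPrime], Q (Localization.AtPrime P))
    (p : ↥(Spec (CommRingCat.of R))) :
    Q ((Spec (CommRingCat.of R)).presheaf.stalk p) := by
  haveI := p.isPrime
  exact hQ _ _ (Spec.stalkIso (CommRingCat.of R) p).commRingCatIsoToRingEquiv.symm (h p.asIdeal)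

variable (k : Type u) [Field k] (X : Scheme.{u}) [X.Over (Spec (CommRingCat.of k))]
  (Y : Scheme.{u}) [Y.Over (Spec (CommRingCat.of k))]

/-- Any isomorphism-invariant property of rings which holds for all localizations of
`𝒪_{X,x} ⊗[k] 𝒪_{Y,y}` at primes holds for the local ring of `X ×_k Y` at any point over `x`, `y`. -/
theorem stalk_pullback_induction
    (z : ↥(pullback (X ↘ Spec (CommRingCat.of k)) (Y ↘ Spec (CommRingCat.of k))))
    (x : X) (y : Y)
    (hx : pullback.fst (X ↘ Spec (CommRingCat.of k)) (Y ↘ Spec (CommRingCat.of k)) z = x)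
    (hy : pullback.snd (X ↘ Spec (CommRingCat.of k)) (Y ↘ Spec (CommRingCat.of k)) z = y)
    (h : ∀ (P : Ideal (X.presheaf.stalk x ⊗[k] Y.presheaf.stalk y)) [P.IsPrime],
      Q (Localization.AtPrime P)) :
    Q ((pullback (X ↘ Spec (CommRingCat.of k)) (Y ↘ Spec (CommRingCat.of k))).presheaf.stalk z) := by
  let j := X.fromSpecStalk x
  obtain ⟨w, hw1, hw2⟩ := Scheme.Pullback.exists_preimage_pullback (f := j)
    (g := pullback.fst (X ↘ Spec (CommRingCat.of k)) (Y ↘ Spec (CommRingCat.of k))) (IsLocalRing.closedPoint (X.presheaf.stalk x)) z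
    (by rw [Scheme.fromSpecStalk_closedPoint, hx])
  have hb1 := bijective_stalkMap_snd j (pullback.fst (X ↘ Spec (CommRingCat.of k)) (Y ↘ Spec (CommRingCat.of k))) w
  let E1 := pullbackRightPullbackFstIso (X ↘ Spec (CommRingCat.of k)) (Y ↘ Spec (CommRingCat.of k)) j
  have hy' : pullback.snd (j ≫ (X ↘ Spec (CommRingCat.of k))) (Y ↘ Spec (CommRingCat.of k)) (E1.hom w) = y := by
    rw [← Scheme.Hom.comp_apply, pullbackRightPullbackFstIso_hom_snd, Scheme.Hom.comp_apply, hw2, hy]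
  let j' := Y.fromSpecStalk y
  obtain ⟨v, hv1, hv2⟩ := Scheme.Pullback.exists_preimage_pullback (f := j')
    (g := pullback.snd (j ≫ (X ↘ Spec (CommRingCat.of k))) (Y ↘ Spec (CommRingCat.of k))) (IsLocalRing.closedPoint (Y.presheaf.stalk y)) (E1.hom w)
    (by rw [Scheme.fromSpecStalk_closedPoint, hy'])
  have hb2 := bijective_stalkMap_snd j' (pullback.snd (j ≫ (X ↘ Spec (CommRingCat.of k))) (Y ↘ Spec (CommRingCat.of k))) v
  let E2 : pullback j' (pullback.snd (j ≫ (X ↘ Spec (CommRingCat.of k))) (Y ↘ Spec (CommRingCat.of k))) ≅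
      Spec (CommRingCat.of (X.presheaf.stalk x ⊗[k] Y.presheaf.stalk y)) :=
    pullbackSymmetry _ _ ≪≫ pullbackLeftPullbackSndIso (j ≫ (X ↘ Spec (CommRingCat.of k))) (Y ↘ Spec (CommRingCat.of k)) j' ≪≫
      pullback.congrHom (fromSpecStalk_comp k X x) (fromSpecStalk_comp k Y y) ≪≫
      pullbackSpecIso k (X.presheaf.stalk x) (Y.presheaf.stalk y)
  -- chain
  have s1 : Q ((pullback j' (pullback.snd (j ≫ (X ↘ Spec (CommRingCat.of k))) (Y ↘ Spec (CommRingCat.of k)))).presheaf.stalk v) :=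
    Q_stalk_of_iso Q hQ E2 v (Q_stalk_Spec Q hQ _ h _)
  have s2 := Q_stalk_of_bijective Q hQ (pullback.snd j' (pullback.snd (j ≫ (X ↘ Spec (CommRingCat.of k))) (Y ↘ Spec (CommRingCat.of k)))) v hb2 s1
  have s3 := Q_stalk_of_eq Q _ _ hv2 s2
  have s4 : Q ((pullback j (pullback.fst (X ↘ Spec (CommRingCat.of k)) (Y ↘ Spec (CommRingCat.of k)))).presheaf.stalk w) := Q_stalk_of_iso Q hQ E1 w s3
  have s5 := Q_stalk_of_bijective Q hQ (pullback.snd j (pullback.fst (X ↘ Spec (CommRingCat.of k)) (Y ↘ Spec (CommRingCat.of k)))) w hb1 s4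
  exact Q_stalk_of_eq Q _ _ hw2 s5

end

section

variable (k : Type u) [Field k] (X : Scheme.{u}) [X.Over (Spec (CommRingCat.of k))]
  (Y : Scheme.{u}) [Y.Over (Spec (CommRingCat.of k))]

/-- The local ring of `X ×_k Y` at `z` is a localization of `𝒪_{X,x} ⊗[k] 𝒪_{Y,y}` at a prime. -/
theorem exists_stalk_pullback_equiv
    (z : ↥(pullback (X ↘ Spec (CommRingCat.of k)) (Y ↘ Spec (CommRingCat.of k))))
    (x : X) (y : Y)
    (hx : pullback.fst (X ↘ Spec (CommRingCat.of k)) (Y ↘ Spec (CommRingCat.of k)) z = x)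
    (hy : pullback.snd (X ↘ Spec (CommRingCat.of k)) (Y ↘ Spec (CommRingCat.of k)) z = y) :
    ∃ (P : Ideal (X.presheaf.stalk x ⊗[k] Y.presheaf.stalk y)) (_ : P.IsPrime),
      Nonempty ((pullback (X ↘ Spec (CommRingCat.of k))
        (Y ↘ Spec (CommRingCat.of k))).presheaf.stalk z ≃+* Localization.AtPrime P) := by
  refine stalk_pullback_induction
    (fun R _ => ∃ (P : Ideal (X.presheaf.stalk x ⊗[k] Y.presheaf.stalk y)) (_ : P.IsPrime),
      Nonempty (R ≃+* Localization.AtPrime P)) ?_ k X Y z x y hx hy ?_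
  · rintro R R' _ _ e ⟨P, hP, ⟨e'⟩⟩
    exact ⟨P, hP, ⟨e.symm.trans e'⟩⟩
  · intro P hP
    exact ⟨P, hP, ⟨RingEquiv.refl _⟩⟩

/-- Normality version. -/
theorem normal_stalk_pullback
    (z : ↥(pullback (X ↘ Spec (CommRingCat.of k)) (Y ↘ Spec (CommRingCat.of k))))
    (x : X) (y : Y)
    (hx : pullback.fst (X ↘ Spec (CommRingCat.of k)) (Y ↘ Spec (CommRingCat.of k)) z = x)
    (hy : pullback.snd (X ↘ Spec (CommRingCat.of k)) (Y ↘ Spec (CommRingCat.of k)) z = y)
    (h : EGA4.IsNormalRing (X.presheaf.stalk x ⊗[k] Y.presheaf.stalk y)) :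
    IsDomain ((pullback (X ↘ Spec (CommRingCat.of k))
        (Y ↘ Spec (CommRingCat.of k))).presheaf.stalk z) ∧
      IsIntegrallyClosed ((pullback (X ↘ Spec (CommRingCat.of k))
        (Y ↘ Spec (CommRingCat.of k))).presheaf.stalk z) := by
  obtain ⟨P, hP, ⟨e⟩⟩ := exists_stalk_pullback_equiv k X Y z x y hx hy
  obtain ⟨h1, h2⟩ := h P
  exact ⟨e.toMulEquiv.isDomain _, IsIntegrallyClosed.of_equiv e.symm⟩

end

end Groth.Agent.Lib.H30StalkProd
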