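import Groth.Agent.Lib.CMFieldExt33
import Groth.Agent.Lib.H30GeomNormalPt
import Groth.Agent.Lib.H30StalkProd
import Groth.Agent.Lib.FibreStalkCM33
import Groth.Agent.Lib.H8CM6
import Groth.Prelude.Def_MoreMor
import Mathlib

/-!
# Cohen–Macaulay morphisms and base change (helper33)

For a cartesian square `X' = X ×_Y Y'` and a point `x'` of `X'` over `x`, `y'`, `y`:
the fibre `X'_{y'}` is the base change of `X_y` along `κ(y) → κ(y')`, so that
`𝒪_{X'_{y'},x'}` is a localization of `𝒪_{X_y,x} ⊗[κ(y)] κ(y')` at a prime. Hence the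
Cohen–Macaulay property of the fibre at a point ascends (residue field extension finitely
generated) and descends (fibres locally Noetherian).
-/

set_option autoImplicit false
universe u

open CategoryTheory CategoryTheory.Limits AlgebraicGeometry TensorProduct

namespace Groth.Agent.Lib.CMBaseChange33

open Groth.Agent.Lib Groth.Agent.Lib.H71GeomRedAt Groth.Agent.Lib.H30GeomNormalPt

section Tensor

attribute [local instance] Curv2.stalkAlgebra

/-- If `𝒪_{X,x} ⊗[k] k'` is a Cohen–Macaulay ring then the local rings of `X_{k'}` over `x` are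
Cohen–Macaulay. -/
theorem cm_of_tensor (k : Type u) [Field k] (X : Scheme.{u}) [X.Over (Spec (CommRingCat.of k))]
    (x : ↥X) (k' : Type u) [Field k'] [Algebra k k']
    (h3 : LocCoh.IsCohenMacaulayRing (↥(X.presheaf.stalk x) ⊗[k] k'))
    (x' : ↥(Curv2.bc k X k')) (hx' : Curv2.bcFst k X k' x' = x) :
    LocCoh.IsCohenMacaulayLocalRing ↥((Curv2.bc k X k').presheaf.stalk x') := by
  obtain ⟨w, hw1, hw2⟩ := Scheme.Pullback.exists_preimage_pullback
    (f := X.fromSpecStalk x) (g := Curv2.bcFst k X k')
    (IsLocalRing.closedPoint (X.presheaf.stalk x)) x'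
    (by rw [Scheme.fromSpecStalk_closedPoint, hx'])
  subst hw2
  let p : PrimeSpectrum (X.presheaf.stalk x ⊗[k] k') := (isoSpecTensor k X x k').hom w
  have := p.isPrime
  obtain ⟨eq⟩ := nonempty_stalk_equiv k X x k' w p.asIdeal rfl
  have := h3.isCohenMacaulayLocalRing_localization p.asIdeal
  exact CMRingEquiv96.isCohenMacaulayLocalRing_of_ringEquiv eq.symm

end Tensor

section Transport

variable {X Y : Scheme.{u}} (f : X ⟶ Y)

/-- The local ring of a fibre at a point only depends on the image point in the source. -/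
theorem cm_stalk_fiber_iff (x : X) (y : Y) (z : f.fiber y) (hz : f.fiberι y z = x) :
    LocCoh.IsCohenMacaulayLocalRing ((f.fiber y).presheaf.stalk z) ↔
      LocCoh.IsCohenMacaulayLocalRing ((f.fiber (f x)).presheaf.stalk (f.asFiber x)) := by
  have hy : f x = y := by
    have : f.fiberι y z ∈ f ⁻¹' {y} := by
      rw [← Scheme.Hom.range_fiberι]; exact ⟨z, rfl⟩
    rw [hz] at this
    exact this
  subst hy
  have hzz : z = f.asFiber x :=
    (f.fiberι (f x)).isEmbedding.injective (hz.trans (f.fiberι_asFiber x).symm)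
  subst hzz
  rfl

end Transport

section Square

variable {X Y X' Y' : Scheme.{u}} {f : X ⟶ Y} {f' : X' ⟶ Y'} {g' : X' ⟶ X} {g : Y' ⟶ Y}
  (hc : IsPullback g' f' f g)

/-- The induced map on fibres `X'_{y'} ⟶ X_{g y'}`. -/
noncomputable def fibMap (y' : Y') : f'.fiber y' ⟶ f.fiber (g y') :=
  pullback.map _ _ _ _ g' (Spec.map (g.residueFieldMap y')) g hc.w.symm (by simp)

lemma fibMap_fiberι (y' : Y') : fibMap hc y' ≫ f.fiberι (g y') = f'.fiberι y' ≫ g' :=
  pullback.lift_fst _ _ _

lemma isPullback_fibMap (y' : Y') :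
    IsPullback (fibMap hc y') (f'.fiberToSpecResidueField y')
      (f.fiberToSpecResidueField (g y')) (Spec.map (g.residueFieldMap y')) :=
  isPullback_fiberToSpecResidueField_of_isPullback hc y'

lemma fibMap_asFiber (x' : X') :
    f.fiberι (g (f' x')) (fibMap hc (f' x') (f'.asFiber x')) = g' x' := by
  rw [← Scheme.Hom.comp_apply, fibMap_fiberι, Scheme.Hom.comp_apply, Scheme.Hom.fiberι_asFiber]

include hc in
/-- **Ascent**: if the fibre of `f` is Cohen–Macaulay at `g' x'` and the residue field extension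
at `f' x'` is finitely generated, the fibre of `f'` is Cohen–Macaulay at `x'`. -/
theorem cm_fibre_ascent (x' : X')
    (hess : (g.residueFieldMap (f' x')).hom.EssFiniteType)
    (h : LocCoh.IsCohenMacaulayLocalRing
      ((f.fiber (f (g' x'))).presheaf.stalk (f.asFiber (g' x')))) :
    LocCoh.IsCohenMacaulayLocalRing ((f'.fiber (f' x')).presheaf.stalk (f'.asFiber x')) := by
  have h1 : LocCoh.IsCohenMacaulayLocalRing
      ((f.fiber (g (f' x'))).presheaf.stalk (fibMap hc (f' x') (f'.asFiber x'))) :=
    (cm_stalk_fiber_iff f (g' x') (g (f' x')) _ (fibMap_asFiber hc x')).mpr h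
  let _ : Algebra (Y.residueField (g (f' x'))) (Y'.residueField (f' x')) :=
    (g.residueFieldMap (f' x')).hom.toAlgebra
  let _ : (f.fiber (g (f' x'))).Over (Spec (CommRingCat.of (Y.residueField (g (f' x'))))) :=
    ⟨f.fiberToSpecResidueField (g (f' x'))⟩
  have hE : Algebra.EssFiniteType (Y.residueField (g (f' x'))) (Y'.residueField (f' x')) := hess
  let E : f'.fiber (f' x') ≅ Curv2.bc (Y.residueField (g (f' x'))) (f.fiber (g (f' x')))
      (Y'.residueField (f' x')) := (isPullback_fibMap hc (f' x')).isoPullback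
  have hEfst : E.hom ≫ Curv2.bcFst (Y.residueField (g (f' x'))) (f.fiber (g (f' x')))
      (Y'.residueField (f' x')) = fibMap hc (f' x') :=
    (isPullback_fibMap hc (f' x')).isoPullback_hom_fst
  have hR : LocCoh.IsCohenMacaulayRing
      ((f.fiber (g (f' x'))).presheaf.stalk (fibMap hc (f' x') (f'.asFiber x'))) :=
    H8CM.isCMRing_of_isCMLocalRing
  let _ := Curv2.stalkAlgebra (Y.residueField (g (f' x'))) (f.fiber (g (f' x')))
    (fibMap hc (f' x') (f'.asFiber x'))
  have h3 := CMFieldExt33.isCohenMacaulayRing_tensor_of_essFiniteType'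
    (Y.residueField (g (f' x'))) (Y'.residueField (f' x'))
    ((f.fiber (g (f' x'))).presheaf.stalk (fibMap hc (f' x') (f'.asFiber x')))
  have h4 := cm_of_tensor (Y.residueField (g (f' x'))) (f.fiber (g (f' x')))
    (fibMap hc (f' x') (f'.asFiber x')) (Y'.residueField (f' x')) h3 (E.hom (f'.asFiber x'))
    (congrArg (fun φ : f'.fiber (f' x') ⟶ f.fiber (g (f' x')) => φ (f'.asFiber x')) hEfst)
  exact H30StalkProd.Q_stalk_of_iso (fun R _ => LocCoh.IsCohenMacaulayLocalRing R)
    (fun R R' _ _ e hR => CMRingEquiv96.isCohenMacaulayLocalRing_of_ringEquiv e) E _ h4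

include hc in
/-- **Descent**: if the fibres of `f` are locally Noetherian and the fibre of `f'` is Cohen–Macaulay
at `x'`, then the fibre of `f` is Cohen–Macaulay at `g' x'`. -/
theorem cm_fibre_descent (x' : X') (hN : IsLocallyNoetherian (f.fiber (g (f' x'))))
    (h : LocCoh.IsCohenMacaulayLocalRing ((f'.fiber (f' x')).presheaf.stalk (f'.asFiber x'))) :
    LocCoh.IsCohenMacaulayLocalRing
      ((f.fiber (f (g' x'))).presheaf.stalk (f.asFiber (g' x'))) := by
  refine (cm_stalk_fiber_iff f (g' x') (g (f' x')) _ (fibMap_asFiber hc x')).mp ?_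
  have hfl : Flat (Spec.map (g.residueFieldMap (f' x'))) := inferInstance
  have : Flat (fibMap hc (f' x')) :=
    MorphismProperty.of_isPullback (P := @Flat) (isPullback_fibMap hc (f' x')).flip hfl
  have hφ := Flat.stalkMap (fibMap hc (f' x')) (f'.asFiber x')
  have hNB : IsNoetherianRing ((f'.fiber (f' x')).presheaf.stalk (f'.asFiber x')) := inferInstance
  exact ((CMFlat33.isCohenMacaulayLocalRing_iff
    ((fibMap hc (f' x')).stalkMap (f'.asFiber x')).hom hφ).mp h).1

end Square

end Groth.Agent.Lib.CMBaseChange33
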