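import Groth.Agent.Lib.CMBaseChange33
import Mathlib

/-!
# Cohen–Macaulay fibres under arbitrary base change for morphisms locally of finite type (helper33)
-/

set_option autoImplicit false
universe u

open CategoryTheory CategoryTheory.Limits AlgebraicGeometry TensorProduct

namespace Groth.Agent.Lib.CMBaseChange33

open Groth.Agent.Lib

section Ess

/-- The local rings of a scheme locally of finite type over a field `k` are essentially of finite
type over `k` (for the structure map `Curv2.stalkMap`). -/
theorem essFiniteType_stalkMap (k : Type u) [Field k] (X : Scheme.{u})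
    [X.Over (Spec (CommRingCat.of k))] [LocallyOfFiniteType (X ↘ Spec (CommRingCat.of k))]
    (x : X) : (Curv2.stalkMap k X x).EssFiniteType := by
  have h1 : Curv2.stalkMap k X x = ((X ↘ Spec (CommRingCat.of k)).stalkMap x).hom.comp
      ((((Spec (CommRingCat.of k)).presheaf.germ ⊤ ((X ↘ Spec (CommRingCat.of k)) x) trivial).hom).comp
        (Scheme.ΓSpecIso (CommRingCat.of k)).inv.hom) := by
    unfold Curv2.stalkMap Coh.toGlobal
    rw [← RingHom.comp_assoc, ← RingHom.comp_assoc]
    congr 1
    have := (X ↘ Spec (CommRingCat.of k)).germ_stalkMap ⊤ x trivial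
    exact congrArg CommRingCat.Hom.hom this.symm
  rw [h1]
  refine RingHom.EssFiniteType.comp ?_ (LocallyOfFiniteType.stalkMap (X ↘ Spec (CommRingCat.of k)) x)
  refine RingHom.EssFiniteType.comp ?_ ?_
  · have hbij : Function.Bijective (Scheme.ΓSpecIso (CommRingCat.of k)).inv.hom :=
      (ConcreteCategory.isIso_iff_bijective _).mp inferInstance
    exact (RingHom.FiniteType.of_surjective _ hbij.2).essFiniteType
  · let pt : ↥(⊤ : (Spec (CommRingCat.of k)).Opens) :=
      ⟨(X ↘ Spec (CommRingCat.of k)) x, Set.mem_univ _⟩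
    have hloc := (isAffineOpen_top (Spec (CommRingCat.of k))).isLocalization_stalk pt
    have := @Algebra.EssFiniteType.of_isLocalization _ _ _ _
      (TopCat.Presheaf.algebra_section_stalk (Spec (CommRingCat.of k)).presheaf pt) _ hloc
    exact this

/-- A Cohen–Macaulay `k`-algebra essentially of finite type stays Cohen–Macaulay after an
arbitrary field extension. -/
theorem isCohenMacaulayRing_tensor_of_essFiniteType_left (k R L : Type u) [Field k] [CommRing R]
    [Algebra k R] [Algebra.EssFiniteType k R] [hR : LocCoh.IsCohenMacaulayRing R] [Field L]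
    [Algebra k L] : LocCoh.IsCohenMacaulayRing (R ⊗[k] L) := by
  have hN : IsNoetherianRing R := inferInstance
  have hN1 : IsNoetherianRing (L ⊗[k] R) := Algebra.EssFiniteType.isNoetherianRing L _
  have hN2 : IsNoetherianRing (R ⊗[k] L) :=
    isNoetherianRing_of_ringEquiv _ (Algebra.TensorProduct.comm k L R).toRingEquiv
  apply CMAscent33.isCohenMacaulayRing_of_flat_of_fibre (R := R)
  intro P _
  have : Algebra.EssFiniteType k P.ResidueField := Algebra.EssFiniteType.comp k R P.ResidueField
  have hL : LocCoh.IsCohenMacaulayRing L := CMFieldExt33.isCohenMacaulayRing_of_krullDimLE_zero _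
  have h1 := CMFieldExt33.isCohenMacaulayRing_tensor_of_essFiniteType k P.ResidueField L
  exact CMRingEquiv96.isCohenMacaulayRing_of_ringEquiv
    (R := P.ResidueField ⊗[k] L) (R' := P.Fiber (R ⊗[k] L))
    (Algebra.TensorProduct.cancelBaseChange k R P.ResidueField P.ResidueField L).symm.toRingEquiv

end Ess

section Square

variable {X Y X' Y' : Scheme.{u}} {f : X ⟶ Y} {f' : X' ⟶ Y'} {g' : X' ⟶ X} {g : Y' ⟶ Y}
  (hc : IsPullback g' f' f g)

include hc in
/-- **Ascent for morphisms locally of finite type**: if `f` is locally of finite type and its fibre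
is Cohen–Macaulay at `g' x'`, then the fibre of `f'` is Cohen–Macaulay at `x'` (arbitrary base
change). -/
theorem cm_fibre_ascent_of_locallyOfFiniteType [LocallyOfFiniteType f] (x' : X')
    (h : LocCoh.IsCohenMacaulayLocalRing
      ((f.fiber (f (g' x'))).presheaf.stalk (f.asFiber (g' x')))) :
    LocCoh.IsCohenMacaulayLocalRing ((f'.fiber (f' x')).presheaf.stalk (f'.asFiber x')) := by
  have h1 : LocCoh.IsCohenMacaulayLocalRing
      ((f.fiber (g (f' x'))).presheaf.stalk (fibMap hc (f' x') (f'.asFiber x'))) :=
    (cm_stalk_fiber_iff f (g' x') (g (f' x')) _ (fibMap_asFiber hc x')).mpr h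
  let _ : Algebra (Y.residueField (g (f' x'))) (Y'.residueField (f' x')) :=
    (g.residueFieldMap (f' x')).hom.toAlgebra
  let _ : (f.fiber (g (f' x'))).Over (Spec (CommRingCat.of (Y.residueField (g (f' x'))))) :=
    ⟨f.fiberToSpecResidueField (g (f' x'))⟩
  have hlft : LocallyOfFiniteType (f.fiberToSpecResidueField (g (f' x'))) :=
    MorphismProperty.pullback_snd (P := @LocallyOfFiniteType) _ _ inferInstance
  have hlft' : LocallyOfFiniteType ((f.fiber (g (f' x'))) ↘
      Spec (CommRingCat.of (Y.residueField (g (f' x'))))) := hlft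
  let E : f'.fiber (f' x') ≅ Curv2.bc (Y.residueField (g (f' x'))) (f.fiber (g (f' x')))
      (Y'.residueField (f' x')) := (isPullback_fibMap hc (f' x')).isoPullback
  have hEfst : E.hom ≫ Curv2.bcFst (Y.residueField (g (f' x'))) (f.fiber (g (f' x')))
      (Y'.residueField (f' x')) = fibMap hc (f' x') :=
    (isPullback_fibMap hc (f' x')).isoPullback_hom_fst
  have hR : LocCoh.IsCohenMacaulayRing
      ((f.fiber (g (f' x'))).presheaf.stalk (fibMap hc (f' x') (f'.asFiber x'))) :=
    H8CM.isCMRing_of_isCMLocalRing
  let _ := Curv2.stalkAlgebra (Y.residueField (g (f' x'))) (f.fiber (g (f' x')))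
    (fibMap hc (f' x') (f'.asFiber x'))
  have hess : Algebra.EssFiniteType (Y.residueField (g (f' x')))
      ((f.fiber (g (f' x'))).presheaf.stalk (fibMap hc (f' x') (f'.asFiber x'))) :=
    essFiniteType_stalkMap (Y.residueField (g (f' x'))) (f.fiber (g (f' x')))
      (fibMap hc (f' x') (f'.asFiber x'))
  have h3 := isCohenMacaulayRing_tensor_of_essFiniteType_left
    (Y.residueField (g (f' x')))
    ((f.fiber (g (f' x'))).presheaf.stalk (fibMap hc (f' x') (f'.asFiber x')))
    (Y'.residueField (f' x'))
  have h4 := cm_of_tensor (Y.residueField (g (f' x'))) (f.fiber (g (f' x')))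
    (fibMap hc (f' x') (f'.asFiber x')) (Y'.residueField (f' x')) h3 (E.hom (f'.asFiber x'))
    (congrArg (fun φ : f'.fiber (f' x') ⟶ f.fiber (g (f' x')) => φ (f'.asFiber x')) hEfst)
  exact H30StalkProd.Q_stalk_of_iso (fun R _ => LocCoh.IsCohenMacaulayLocalRing R)
    (fun R R' _ _ e hR => CMRingEquiv96.isCohenMacaulayLocalRing_of_ringEquiv e) E _ h4

end Square

end Groth.Agent.Lib.CMBaseChange33
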