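import Groth.Agent.Lib.CMQF33g
import Groth.Agent.Lib.CMBaseChange33b
import Mathlib

/-!
# The locus where the fibres are Cohen–Macaulay: locality and base change (helper33)
-/

set_option autoImplicit false
universe u

open IsLocalRing Groth.Agent.Lib CategoryTheory AlgebraicGeometry Limits

namespace Groth.Agent.Lib.CMCons33

open Groth.Agent.Lib.CMQF33

/-- The local ring at `x` of the fibre of `f` through `x` is Cohen–Macaulay. -/
def CMFib {X S : Scheme.{u}} (f : X ⟶ S) (x : X) : Prop :=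
  LocCoh.IsCohenMacaulayLocalRing ((f.fiber (f.base x)).presheaf.stalk (f.asFiber x))

/-- The ring-hom property: `C ⧸ 𝔪_A C` is a Cohen–Macaulay local ring. -/
def FibCM₀ {A C : Type u} [CommRing A] [CommRing C] (ψ : A →+* C) : Prop :=
  ∃ _ : IsLocalRing A, LocCoh.IsCohenMacaulayLocalRing (C ⧸ Ideal.map ψ (maximalIdeal A))

theorem fibCM₀_respectsIso : RingHom.RespectsIso @FibCM₀ := by
  constructor
  · intro R S T _ _ _ f e ⟨hloc, hcm⟩
    refine ⟨hloc, ?_⟩
    have hmap : Ideal.map (e.toRingHom.comp f) (maximalIdeal R) =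
        Ideal.map (e : S →+* T) (Ideal.map f (maximalIdeal R)) := by
      rw [Ideal.map_map]; rfl
    exact CMRingEquiv96.isCohenMacaulayLocalRing_of_ringEquiv
      (Ideal.quotientEquiv (Ideal.map f (maximalIdeal R))
        (Ideal.map (e.toRingHom.comp f) (maximalIdeal R)) e hmap)
  · intro R S T _ _ _ f e ⟨hloc, hcm⟩
    have hlocR : IsLocalRing R := e.symm.isLocalRing
    refine ⟨hlocR, ?_⟩
    have hm : Ideal.map (e : R →+* S) (maximalIdeal R) = maximalIdeal S :=
      IsLocalRing.eq_maximalIdeal (Ideal.map_isMaximal_of_equiv e)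
    have hmap : Ideal.map (f.comp e.toRingHom) (maximalIdeal R) =
        Ideal.map f (maximalIdeal S) := by
      rw [← hm, Ideal.map_map]; rfl
    exact CMRingEquiv96.isCohenMacaulayLocalRing_of_ringEquiv
      (Ideal.quotEquivOfEq hmap.symm)

theorem cmFib_iff_fibCM₀ {X S : Scheme.{u}} (f : X ⟶ S) (x : X) :
    CMFib f x ↔ FibCM₀ (f.stalkMap x).hom := by
  unfold CMFib FibCM₀
  constructor
  · intro h
    exact ⟨inferInstance, CMRingEquiv96.isCohenMacaulayLocalRing_of_ringEquiv
      (FibreStalk33.fibreStalkEquiv f x).symm⟩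
  · rintro ⟨_, h⟩
    exact CMRingEquiv96.isCohenMacaulayLocalRing_of_ringEquiv
      (FibreStalk33.fibreStalkEquiv f x)

theorem isCMAt_iff_cmFib {X S : Scheme.{u}} (f : X ⟶ S) (x : X) :
    MoreMor.IsCMAt f x ↔ (f.stalkMap x).hom.Flat ∧ CMFib f x := Iff.rfl

theorem cmFib_comp_openImmersion_left {U X S : Scheme.{u}} (j : U ⟶ X) [IsOpenImmersion j]
    (f : X ⟶ S) (u : U) : CMFib (j ≫ f) u ↔ CMFib f (j u) := by
  rw [cmFib_iff_fibCM₀, cmFib_iff_fibCM₀]
  have e : (j ≫ f).stalkMap u = f.stalkMap (j u) ≫ j.stalkMap u := Scheme.Hom.stalkMap_comp j f u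
  rw [e]
  exact fibCM₀_respectsIso.cancel_right_isIso (f.stalkMap (j u)) (j.stalkMap u)

theorem cmFib_comp_openImmersion_right {X V Y : Scheme.{u}} (f : X ⟶ V) (j : V ⟶ Y)
    [IsOpenImmersion j] (x : X) : CMFib (f ≫ j) x ↔ CMFib f x := by
  rw [cmFib_iff_fibCM₀, cmFib_iff_fibCM₀]
  have e : (f ≫ j).stalkMap x = j.stalkMap (f x) ≫ f.stalkMap x := Scheme.Hom.stalkMap_comp f j x
  rw [e]
  exact fibCM₀_respectsIso.cancel_left_isIso (j.stalkMap (f x)) (f.stalkMap x)

/-- `CMFib` is invariant under open immersions on both sides. -/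
theorem cmFib_iff_of_comm {X Y X' Y' : Scheme.{u}} (f : X ⟶ Y) (f' : X' ⟶ Y') (a : X ⟶ X')
    (b : Y ⟶ Y') [IsOpenImmersion a] [IsOpenImmersion b] (w : f ≫ b = a ≫ f') (x : X) :
    CMFib f x ↔ CMFib f' (a x) := by
  rw [← cmFib_comp_openImmersion_right f b x, w, cmFib_comp_openImmersion_left]

/-- `CMFib` commutes with arbitrary base change, for morphisms locally of finite type. -/
theorem cmFib_iff_of_isPullback {X Y X' Y' : Scheme.{u}} {f : X ⟶ Y} {f' : X' ⟶ Y'} {g' : X' ⟶ X}
    {g : Y' ⟶ Y} (hc : IsPullback g' f' f g) [LocallyOfFiniteType f] (x' : X') :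
    CMFib f' x' ↔ CMFib f (g' x') := by
  constructor
  · intro h
    have hN : IsLocallyNoetherian (f.fiber (g (f' x'))) := by
      unfold Scheme.Hom.fiber
      infer_instance
    exact CMBaseChange33.cm_fibre_descent hc x' hN h
  · intro h
    exact CMBaseChange33.cm_fibre_ascent_of_locallyOfFiniteType hc x' h

end Groth.Agent.Lib.CMCons33
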