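import Groth.Agent.Lib.ConstrTop
import Groth.Agent.Lib.H69RedInduced
import Groth.Prelude.Def_ProCons
import Mathlib.AlgebraicGeometry.Noetherian
import Mathlib.AlgebraicGeometry.Morphisms.FinitePresentation

/-!
# Constructibility criteria in Noetherian spaces and schemes (EGA 0_III 9.2.3, helper62)

* `isConstructible_of_dichotomy`: in a Noetherian space, a set `E` such that on every irreducible
  closed `Z` either `E ∩ Z` or `Z \ E` contains a nonempty open subset of `Z`, is constructible.
* `isUnionCons_of_nhds`: if every `x ∈ E` has a neighbourhood `U` with `U ∩ closure {x} ⊆ E`, then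
  `E` is a union of constructible sets.
* scheme versions `isConstructible_of_forall_integral`, `isUnionCons_of_forall_integral` in terms
  of integral closed subschemes.
* `IsUnionCons` and its transport properties.
-/

set_option autoImplicit false
universe u

open CategoryTheory Limits AlgebraicGeometry Topology TopologicalSpace Set

namespace Groth.Agent.Lib.ConsLocusGen

section topology

variable {X : Type*} [TopologicalSpace X]

/-- `E` is a union of constructible sets. -/
def IsUnionCons (E : Set X) : Prop :=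
  ∃ 𝒮 : Set (Set X), (∀ T ∈ 𝒮, IsConstructible T) ∧ E = ⋃₀ 𝒮

/-- EGA 0_III 9.2.3. -/
theorem isConstructible_of_dichotomy [NoetherianSpace X] {E : Set X}
    (h : ∀ Z : Set X, IsClosed Z → IsIrreducible Z →
      ∃ U : Set X, IsOpen U ∧ (U ∩ Z).Nonempty ∧ (U ∩ Z ⊆ E ∨ U ∩ Z ⊆ Eᶜ)) :
    IsConstructible E := by
  have key : ∀ Z : Set X, IsClosed Z → IsConstructible (E ∩ Z) := by
    intro Z hZ
    refine Groth.Agent.Lib.ConstrTop.closed_induction (P := fun Z => IsConstructible (E ∩ Z))
      ?_ ?_ ?_ Z hZ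
    · simp
    · intro Z₁ Z₂ _ _ h₁ h₂
      rw [inter_union_distrib_left]
      exact h₁.union h₂
    · intro Z hZc hZi ih
      obtain ⟨U, hU, hne, hUE⟩ := h Z hZc hZi
      have hlt : Z \ U ⊂ Z := by
        refine ⟨diff_subset, fun hsub => ?_⟩
        obtain ⟨x, hxU, hxZ⟩ := hne
        exact (hsub hxZ).2 hxU
      have h1 : IsConstructible (E ∩ (Z \ U)) := ih (Z \ U) (hZc.sdiff hU) hlt
      have hUZ : IsConstructible (U ∩ Z) :=
        (Groth.Agent.Lib.ConstrTop.isConstructible_of_isOpen hU).inter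
          (Groth.Agent.Lib.ConstrTop.isConstructible_of_isClosed hZc)
      rcases hUE with hUE | hUE
      · have e : E ∩ Z = (E ∩ (Z \ U)) ∪ (U ∩ Z) := by
          ext x
          constructor
          · rintro ⟨hxE, hxZ⟩
            by_cases hxU : x ∈ U
            · exact Or.inr ⟨hxU, hxZ⟩
            · exact Or.inl ⟨hxE, hxZ, hxU⟩
          · rintro (⟨hxE, hxZ, -⟩ | hx)
            · exact ⟨hxE, hxZ⟩
            · exact ⟨hUE hx, hx.2⟩
        rw [e]
        exact h1.union hUZ
      · have e : E ∩ Z = E ∩ (Z \ U) := by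
          ext x
          constructor
          · rintro ⟨hxE, hxZ⟩
            exact ⟨hxE, hxZ, fun hxU => hUE ⟨hxU, hxZ⟩ hxE⟩
          · rintro ⟨hxE, hxZ, -⟩
            exact ⟨hxE, hxZ⟩
        rw [e]
        exact h1
  simpa using key univ isClosed_univ

/-- In a Noetherian space, a set containing a neighbourhood in `closure {x}` of each of its points
`x` is a union of constructible sets. -/
theorem isUnionCons_of_nhds [NoetherianSpace X] {E : Set X}
    (h : ∀ x ∈ E, ∃ U : Set X, IsOpen U ∧ x ∈ U ∧ U ∩ closure {x} ⊆ E) : IsUnionCons E := by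
  refine ⟨{T | ∃ x ∈ E, ∃ U : Set X, IsOpen U ∧ x ∈ U ∧ U ∩ closure {x} ⊆ E ∧
    T = U ∩ closure {x}}, ?_, ?_⟩
  · rintro T ⟨x, -, U, hU, -, -, rfl⟩
    exact (Groth.Agent.Lib.ConstrTop.isConstructible_of_isOpen hU).inter
      (Groth.Agent.Lib.ConstrTop.isConstructible_of_isClosed isClosed_closure)
  · ext x
    constructor
    · intro hx
      obtain ⟨U, hU, hxU, hUE⟩ := h x hx
      exact ⟨U ∩ closure {x}, ⟨x, hx, U, hU, hxU, hUE, rfl⟩, hxU, subset_closure rfl⟩
    · rintro ⟨T, ⟨y, -, U, -, -, hUE, rfl⟩, hxT⟩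
      exact hUE hxT

theorem IsUnionCons.of_isConstructible {E : Set X} (h : IsConstructible E) : IsUnionCons E :=
  ⟨{E}, by simpa using h, by simp⟩

end topology

section scheme

/-- Preimages of unions of constructible sets under morphisms of schemes. -/
theorem IsUnionCons.preimage {S S' : Scheme.{u}} (π : S' ⟶ S) {E : Set S} (h : IsUnionCons E) :
    IsUnionCons (π ⁻¹' E) := by
  obtain ⟨𝒮, h𝒮, rfl⟩ := h
  refine ⟨(fun T => π ⁻¹' T) '' 𝒮, ?_, ?_⟩
  · rintro _ ⟨T, hT, rfl⟩
    exact π.isConstructible_preimage (h𝒮 T hT)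
  · rw [preimage_sUnion, sUnion_image]

/-- The reduced induced structure on `closure {y₀}`, in continuation passing style. -/
theorem with_redClosure {S : Scheme.{u}} [IsNoetherian S] (y₀ : S) {C : Prop}
    (k : ∀ (Z : Scheme.{u}) [IsIntegral Z] [IsNoetherian Z] (i : Z ⟶ S) [IsClosedImmersion i],
      Set.range i = closure {y₀} → i (genericPoint Z) = y₀ → C) : C := by
  let W : Closeds S := ⟨closure {y₀}, isClosed_closure⟩
  let Z := Groth.Agent.Lib.H69RedInduced.redSub W
  let i : Z ⟶ S := Groth.Agent.Lib.H69RedInduced.redSubι W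
  have hrange : Set.range i = closure {y₀} := Groth.Agent.Lib.H69RedInduced.range_redSubι W
  obtain ⟨z₀, hz₀⟩ : y₀ ∈ Set.range i := hrange ▸ subset_closure (Set.mem_singleton y₀)
  have hgen : IsGenericPoint z₀ (⊤ : Set Z) := by
    change closure {z₀} = Set.univ
    rw [i.isEmbedding.isInducing.closure_eq_preimage_closure_image, Set.image_singleton, hz₀,
      ← hrange]
    ext z
    simp
  haveI : IrreducibleSpace Z := (irreducibleSpace_def Z).mpr hgen.isIrreducible
  haveI : IsIntegral Z := isIntegral_of_irreducibleSpace_of_isReduced Z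
  haveI : IsLocallyNoetherian Z := LocallyOfFiniteType.isLocallyNoetherian i
  haveI : CompactSpace Z := QuasiCompact.compactSpace_of_compactSpace i
  haveI : IsNoetherian Z := { }
  have hgp : genericPoint Z = z₀ := (genericPoint_spec Z).eq hgen
  exact k Z i hrange (by rw [hgp, hz₀])

/-- Scheme version of the constructibility criterion. -/
theorem isConstructible_of_forall_integral {S : Scheme.{u}} [IsNoetherian S] (E : Set S)
    (h : ∀ (Z : Scheme.{u}) [IsIntegral Z] [IsNoetherian Z] (i : Z ⟶ S) [IsClosedImmersion i],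
      (interior (i ⁻¹' E)).Nonempty ∨ (interior (i ⁻¹' E)ᶜ).Nonempty) : IsConstructible E := by
  refine isConstructible_of_dichotomy (fun Z hZc hZi => ?_)
  have hcl : closure ({hZi.genericPoint} : Set S) = Z := hZi.closure_genericPoint hZc
  refine with_redClosure hZi.genericPoint (fun Zs _ _ i _ hrange _ => ?_)
  rw [hcl] at hrange
  have aux : ∀ F : Set S, (interior (i ⁻¹' F)).Nonempty →
      ∃ U : Set S, IsOpen U ∧ (U ∩ Z).Nonempty ∧ U ∩ Z ⊆ F := by
    intro F ⟨z, hz⟩
    obtain ⟨U, hU, hUV⟩ := i.isEmbedding.isInducing.isOpen_iff.mp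
      (isOpen_interior (s := i ⁻¹' F))
    refine ⟨U, hU, ⟨i z, ?_, hrange ▸ ⟨z, rfl⟩⟩, ?_⟩
    · have : z ∈ i ⁻¹' U := hUV ▸ hz
      exact this
    · rintro y ⟨hyU, hyZ⟩
      rw [← hrange] at hyZ
      obtain ⟨z', rfl⟩ := hyZ
      have h2 : z' ∈ interior (i ⁻¹' F) := by rw [← hUV]; exact hyU
      have h3 : z' ∈ i ⁻¹' F := interior_subset h2
      exact h3
  rcases h Zs i with h1 | h1
  · obtain ⟨U, hU, hne, hsub⟩ := aux E h1
    exact ⟨U, hU, hne, Or.inl hsub⟩
  · obtain ⟨U, hU, hne, hsub⟩ := aux Eᶜ (by rwa [Set.preimage_compl])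
    exact ⟨U, hU, hne, Or.inr hsub⟩

/-- Scheme version of the ind-constructibility criterion. -/
theorem isUnionCons_of_forall_integral {S : Scheme.{u}} [IsNoetherian S] (E : Set S)
    (h : ∀ (Z : Scheme.{u}) [IsIntegral Z] [IsNoetherian Z] (i : Z ⟶ S) [IsClosedImmersion i],
      genericPoint Z ∈ i ⁻¹' E → (interior (i ⁻¹' E)).Nonempty) : IsUnionCons E := by
  refine isUnionCons_of_nhds (fun y₀ hy₀ => ?_)
  refine with_redClosure y₀ (fun Z _ _ i _ hrange hgp => ?_)
  have h1 : genericPoint Z ∈ i ⁻¹' E := by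
    change i (genericPoint Z) ∈ E
    rw [hgp]; exact hy₀
  obtain ⟨z, hz⟩ := h Z i h1
  have hgW : genericPoint Z ∈ interior (i ⁻¹' E) :=
    ((genericPoint_spec Z).mem_open_set_iff isOpen_interior).mpr ⟨z, trivial, hz⟩
  obtain ⟨V, hV, hVW⟩ := i.isEmbedding.isInducing.isOpen_iff.mp
    (isOpen_interior (s := i ⁻¹' E))
  refine ⟨V, hV, ?_, ?_⟩
  · have : genericPoint Z ∈ i ⁻¹' V := hVW ▸ hgW
    rwa [Set.mem_preimage, hgp] at this
  · rintro y ⟨hyV, hy⟩
    rw [← hrange] at hy
    obtain ⟨z', rfl⟩ := hy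
    have h2 : z' ∈ interior (i ⁻¹' E) := by rw [← hVW]; exact hyV
    have h3 : z' ∈ i ⁻¹' E := interior_subset h2
    exact h3

/-- Local constructibility from constructibility on affine opens (pulled back). -/
theorem isLocallyConstructible_of_affine {S : Scheme.{u}} (E : Set S)
    (h : ∀ U : S.Opens, IsAffineOpen U → IsConstructible (U.ι ⁻¹' E)) :
    IsLocallyConstructible E := by
  intro x
  obtain ⟨U, hU, hxU, -⟩ := exists_isAffineOpen_mem_and_subset (x := x) (U := ⊤) trivial
  exact ⟨U, U.isOpen.mem_nhds hxU, U.isOpen, h U hU⟩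

/-- Ind-constructibility from unions of constructibles on affine opens (pulled back). -/
theorem isIndConstructible_of_affine {S : Scheme.{u}} (E : Set S)
    (h : ∀ U : S.Opens, IsAffineOpen U → IsUnionCons (U.ι ⁻¹' E)) :
    ProCons.IsIndConstructible E := by
  intro x
  obtain ⟨U, hU, hxU, -⟩ := exists_isAffineOpen_mem_and_subset (x := x) (U := ⊤) trivial
  obtain ⟨𝒮, h𝒮, he⟩ := h U hU
  exact ⟨U, U.isOpen, hxU, 𝒮, fun T hT => (h𝒮 T hT).isLocallyConstructible, he⟩

end scheme

end Groth.Agent.Lib.ConsLocusGen
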