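import Groth.Agent.Lib.H77GenFreeRedFinal
import Mathlib.AlgebraicGeometry.Morphisms.Flat
import Mathlib.AlgebraicGeometry.Morphisms.FinitePresentation
import Mathlib.AlgebraicGeometry.Morphisms.FiniteType
import Mathlib.AlgebraicGeometry.Morphisms.QuasiCompact
import Mathlib.AlgebraicGeometry.Properties

/-!
# Generic flatness over a reduced base scheme (helper77)

`exists_dense_open_flat_lfp`: `S` reduced, `f : X ⟶ S` quasi-compact and locally of finite type:
there is a dense open `U ⊆ S` with `f ∣_ U` flat and locally of finite presentation.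
-/

set_option autoImplicit false
set_option linter.style.haveILetI false
universe u

open CategoryTheory AlgebraicGeometry TopologicalSpace Opposite

namespace Groth.Agent.Lib.H77GenFlatRedSch

open Groth.Agent.Lib.H77GenFreeRed

section Ring

variable {R : Type u} [CommRing R]

/-- `GoodAlg` for a ring homomorphism. -/
def GoodHom {A : Type u} [CommRing A] (φ : R →+* A) (r : R) : Prop :=
  letI := φ.toAlgebra
  GoodAlg R A r

lemma GoodHom.mul_right {A : Type u} [CommRing A] {φ : R →+* A} {r : R} (h : GoodHom φ r)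
    (g : R) : GoodHom φ (r * g) := by
  letI := φ.toAlgebra
  exact GoodAlg.mul_right h g

lemma GoodHom.flat_finitePresentation {A : Type u} [CommRing A] {φ : R →+* A} {r : R}
    (h : GoodHom φ r)
    (Rf : Type*) [CommRing Rf] [Algebra R Rf] [IsLocalization.Away r Rf]
    (Af : Type*) [CommRing Af] [Algebra A Af] [IsLocalization.Away (φ r) Af] :
    (IsLocalization.Away.map Rf Af φ r).Flat ∧
      (IsLocalization.Away.map Rf Af φ r).FinitePresentation := by
  letI := φ.toAlgebra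
  obtain ⟨⟨s, hs⟩, n, π, G, hp⟩ := h
  exact flat_finitePresentation_awayMap hs hp Rf Af

lemma exists_goodHom [IsReduced R] {A : Type u} [CommRing A] (φ : R →+* A) (hφ : φ.FiniteType)
    {g : R} (hg : g ≠ 0) : ∃ h : R, g * h ≠ 0 ∧ GoodHom φ (g * h) := by
  letI := φ.toAlgebra
  haveI : Algebra.FiniteType R A := hφ
  exact exists_goodAlg (R := R) A hg

lemma exists_goodHom_finset [IsReduced R] {ι : Type*} (A : ι → Type u) [∀ i, CommRing (A i)]
    (φ : ∀ i, R →+* A i) (t : Finset ι) (hφ : ∀ i ∈ t, (φ i).FiniteType)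
    {g : R} (hg : g ≠ 0) : ∃ h : R, g * h ≠ 0 ∧ ∀ i ∈ t, GoodHom (φ i) (g * h) := by
  classical
  induction t using Finset.induction_on with
  | empty => exact ⟨1, by rwa [mul_one], by simp⟩
  | insert i t hi ih =>
    obtain ⟨h₁, hh₁, H₁⟩ := ih (fun j hj => hφ j (Finset.mem_insert_of_mem hj))
    obtain ⟨h₂, hh₂, H₂⟩ := exists_goodHom (φ i) (hφ i (Finset.mem_insert_self i t)) hh₁
    refine ⟨h₁ * h₂, by rwa [← mul_assoc], fun j hj => ?_⟩
    rw [← mul_assoc]
    rcases Finset.mem_insert.mp hj with rfl | hj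
    · exact H₂
    · exact (H₁ j hj).mul_right h₂

end Ring

section Restrict

variable {X S : Scheme.{u}}

/-- A property of morphisms induced by a property of ring maps holds for a restriction `f ∣_ U` as
soon as it holds on affine charts lying over `U` around every point of `f ⁻¹ U`. -/
theorem morphismRestrict_of_forall_exists_appLE {P : MorphismProperty Scheme.{u}}
    {Q : ∀ {R S : Type u} [CommRing R] [CommRing S], (R →+* S) → Prop} [HasRingHomProperty P Q]
    (hQ : RingHom.StableUnderCompositionWithLocalizationAwaySource Q)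
    (f : X ⟶ S) (U : S.Opens)
    (H : ∀ x : X, f x ∈ U → ∃ (V : S.affineOpens) (W : X.affineOpens) (_ : x ∈ W.1)
      (_ : V.1 ≤ U) (e : W.1 ≤ f ⁻¹ᵁ V.1), Q (f.appLE V W e).hom) : P (f ∣_ U) := by
  rw [HasRingHomProperty.iff_exists_appLE (P := P) hQ]
  intro x
  obtain ⟨V, W, hxW, hVU, e, hQf⟩ := H x.1 x.2
  have hWU : W.1 ≤ f ⁻¹ᵁ U := e.trans (f.preimage_mono hVU)
  have hV' : IsAffineOpen (U.ι ⁻¹ᵁ V.1) :=
    V.2.preimage_of_isOpenImmersion U.ι (by rwa [Scheme.Opens.opensRange_ι])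
  have hW' : IsAffineOpen ((f ⁻¹ᵁ U).ι ⁻¹ᵁ W.1) :=
    W.2.preimage_of_isOpenImmersion (f ⁻¹ᵁ U).ι (by rwa [Scheme.Opens.opensRange_ι])
  have e1 : U.ι ''ᵁ (U.ι ⁻¹ᵁ V.1) = V.1 := by
    rw [Scheme.Hom.image_preimage_eq_opensRange_inf, Scheme.Opens.opensRange_ι]
    exact inf_eq_right.mpr hVU
  have e2 : (f ⁻¹ᵁ U).ι ''ᵁ ((f ⁻¹ᵁ U).ι ⁻¹ᵁ W.1) = W.1 := by
    rw [Scheme.Hom.image_preimage_eq_opensRange_inf, Scheme.Opens.opensRange_ι]
    exact inf_eq_right.mpr hWU
  have e' : (f ⁻¹ᵁ U).ι ⁻¹ᵁ W.1 ≤ (f ∣_ U) ⁻¹ᵁ (U.ι ⁻¹ᵁ V.1) := by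
    rw [← Scheme.Hom.comp_preimage, morphismRestrict_ι, Scheme.Hom.comp_preimage]
    exact (f ⁻¹ᵁ U).ι.preimage_mono e
  refine ⟨⟨_, hV'⟩, ⟨_, hW'⟩, hxW, e', ?_⟩
  rw [morphismRestrict_appLE]
  exact (Scheme.Hom.appLE_congr f _ e1 e2 (fun φ => Q φ.hom)).mpr hQf

end Restrict

section Main

variable {X S : Scheme.{u}}

/-- Over the basic open of a good element, the ring map of `f` on basic opens is flat and of
finite presentation. -/
theorem flat_finitePresentation_appLE_basicOpen (f : X ⟶ S) {V : S.Opens} (hV : IsAffineOpen V)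
    {W : X.Opens} (hW : IsAffineOpen W) (e : W ≤ f ⁻¹ᵁ V) {r : Γ(S, V)}
    (hr : GoodHom (f.appLE V W e).hom r) :
    (f.appLE (S.basicOpen r) (X.basicOpen (f.appLE V W e r))
        (by simp [Scheme.Hom.appLE])).hom.Flat ∧
      (f.appLE (S.basicOpen r) (X.basicOpen (f.appLE V W e r))
        (by simp [Scheme.Hom.appLE])).hom.FinitePresentation := by
  have := hV.isLocalization_basicOpen r
  have := hW.isLocalization_basicOpen (f.appLE V W e r)
  rw [IsAffineOpen.appLE_eq_away_map f hV hW e r]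
  exact hr.flat_finitePresentation _ _

/-- **Generic flatness over a reduced base**: a quasi-compact morphism locally of finite type to a
reduced scheme is flat and locally of finite presentation over a dense open of the base. -/
theorem exists_dense_open_flat_lfp (f : X ⟶ S) [IsReduced S] [LocallyOfFiniteType f]
    [QuasiCompact f] :
    ∃ U : S.Opens, Dense (U : Set S) ∧ Flat (f ∣_ U) ∧ LocallyOfFinitePresentation (f ∣_ U) := by
  classical
  let Good : (V : S.affineOpens) → Γ(S, V.1) → Prop := fun V r =>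
    ∀ x : X, f x ∈ S.basicOpen r → ∃ (W : X.affineOpens) (_ : x ∈ W.1) (e : W.1 ≤ f ⁻¹ᵁ V.1),
      GoodHom (f.appLE V.1 W.1 e).hom r
  let U : S.Opens := ⨆ (V : S.affineOpens) (r : {r : Γ(S, V.1) // Good V r}), S.basicOpen r.1
  have key : ∀ x : X, f x ∈ U → ∃ (V' : S.affineOpens) (W' : X.affineOpens) (_ : x ∈ W'.1)
      (_ : V'.1 ≤ U) (e : W'.1 ≤ f ⁻¹ᵁ V'.1),
      (f.appLE V' W' e).hom.Flat ∧ (f.appLE V' W' e).hom.FinitePresentation := by
    intro x hx
    obtain ⟨V, r, hxr⟩ : ∃ (V : S.affineOpens) (r : {r : Γ(S, V.1) // Good V r}),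
        f x ∈ S.basicOpen r.1 := by
      simpa [U, Opens.mem_iSup] using hx
    obtain ⟨W, hxW, e, hG⟩ := r.2 x hxr
    refine ⟨⟨S.basicOpen r.1, V.2.basicOpen r.1⟩,
      ⟨X.basicOpen (f.appLE V.1 W.1 e r.1), W.2.basicOpen _⟩, ?_, ?_, _,
      flat_finitePresentation_appLE_basicOpen f V.2 W.2 e hG⟩
    · change x ∈ X.basicOpen (f.appLE V.1 W.1 e r.1)
      rw [Scheme.basicOpen_appLE]
      exact ⟨hxW, hxr⟩
    · exact le_iSup₂_of_le V r le_rfl
  refine ⟨U, ?_, ?_, ?_⟩
  · rw [dense_iff_inter_open]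
    intro O hO ⟨y, hyO⟩
    obtain ⟨_, ⟨V, hV, rfl⟩, hyV, hVO⟩ :=
      S.isBasis_affineOpens.exists_subset_of_mem_open hyO hO
    have hc : IsCompact (f ⁻¹ᵁ V : Set X) :=
      QuasiCompact.isCompact_preimage (f := f) _ V.isOpen hV.isCompact
    obtain ⟨s, hs, hsU⟩ :=
      isCompact_and_isOpen_iff_finite_and_eq_biUnion_affineOpens.mp ⟨hc, (f ⁻¹ᵁ V).isOpen⟩
    have hle : ∀ W ∈ s, (W : X.Opens) ≤ f ⁻¹ᵁ V := by
      intro W hW x hx
      have : x ∈ (f ⁻¹ᵁ V : Set X) := by
        rw [hsU]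
        exact Set.mem_biUnion hW hx
      exact this
    have h1 : (1 : Γ(S, V)) ≠ 0 := by
      intro h10
      have hb : S.basicOpen (1 : Γ(S, V)) = ⊥ := by rw [h10]; exact S.basicOpen_zero V
      rw [S.basicOpen_of_isUnit isUnit_one] at hb
      exact (hb ▸ hyV : y ∈ (⊥ : S.Opens))
    haveI : Fintype s := hs.fintype
    obtain ⟨h, hh, Hh⟩ := exists_goodHom_finset (R := Γ(S, V)) (ι := s)
      (fun W => Γ(X, W.1.1)) (fun W => (f.appLE V W.1.1 (hle W.1 W.2)).hom)
      Finset.univ (fun W _ => f.finiteType_appLE hV W.1.2 (hle W.1 W.2)) h1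
    rw [one_mul] at hh
    simp only [one_mul] at Hh
    have hGood : Good ⟨V, hV⟩ h := by
      intro x hx
      have hxV : f x ∈ V := S.basicOpen_le h hx
      have hx' : x ∈ (f ⁻¹ᵁ V : Set X) := hxV
      rw [hsU] at hx'
      obtain ⟨W, hWs, hxW⟩ := Set.mem_iUnion₂.mp hx'
      exact ⟨W, hxW, hle W hWs, Hh ⟨W, hWs⟩ (Finset.mem_univ _)⟩
    have hne : S.basicOpen h ≠ ⊥ := fun h0 => hh ((basicOpen_eq_bot_iff h).mp h0)
    obtain ⟨z, hz⟩ : ((S.basicOpen h : S.Opens) : Set S).Nonempty := by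
      rw [Set.nonempty_iff_ne_empty]
      intro h0
      exact hne (Opens.ext h0)
    refine ⟨z, hVO (S.basicOpen_le h hz), ?_⟩
    exact (le_iSup₂_of_le (f := fun (V : S.affineOpens) (r : {r : Γ(S, V.1) // Good V r}) =>
      S.basicOpen r.1) ⟨V, hV⟩ ⟨h, hGood⟩ le_rfl : S.basicOpen h ≤ U) hz
  · refine morphismRestrict_of_forall_exists_appLE (P := @Flat)
      (RingHom.Flat.stableUnderComposition.stableUnderCompositionWithLocalizationAway
        RingHom.Flat.holdsForLocalizationAway).1 f U (fun x hx => ?_)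
    obtain ⟨V', W', h1, h2, e, h3, -⟩ := key x hx
    exact ⟨V', W', h1, h2, e, h3⟩
  · refine morphismRestrict_of_forall_exists_appLE (P := @LocallyOfFinitePresentation)
      (RingHom.finitePresentation_stableUnderComposition.stableUnderCompositionWithLocalizationAway
        RingHom.finitePresentation_holdsForLocalizationAway).1 f U (fun x hx => ?_)
    obtain ⟨V', W', h1, h2, e, -, h4⟩ := key x hx
    exact ⟨V', W', h1, h2, e, h4⟩

end Main

end Groth.Agent.Lib.H77GenFlatRedSch
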