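import Groth.Agent.Lib.CMCons33a
import Groth.Agent.Lib.ConsLocusGen
import Groth.Agent.Lib.H77GenFlatRedSch
import Mathlib

/-!
# The locus where the fibres are Cohen–Macaulay is constructible: Noetherian case (helper33)
-/

set_option autoImplicit false
universe u

open IsLocalRing Groth.Agent.Lib CategoryTheory AlgebraicGeometry Limits Topology

namespace Groth.Agent.Lib.CMCons33

open Groth.Agent.Lib.CMQF33

/-- Over a dense open `W'` of the base on which `f` is flat and lfp, the locus `CMFib` is open. -/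
theorem isOpen_cmFib_inter_preimage {X W : Scheme.{u}} (f : X ⟶ W) (W' : W.Opens)
    [Flat (f ∣_ W')] [LocallyOfFinitePresentation (f ∣_ W')] :
    IsOpen {x : X | f x ∈ W' ∧ CMFib f x} := by
  have hopen := isOpen_CMLocus_of_flat (f ∣_ W')
  have hO : IsOpen ((f ⁻¹ᵁ W').ι '' {u | MoreMor.IsCMAt (f ∣_ W') u}) :=
    (f ⁻¹ᵁ W').ι.isOpenEmbedding.isOpenMap _ hopen
  have hsq : (f ∣_ W') ≫ W'.ι = (f ⁻¹ᵁ W').ι ≫ f := morphismRestrict_ι f W'
  convert hO using 1
  ext x
  constructor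
  · rintro ⟨hxW, hx⟩
    refine ⟨⟨x, hxW⟩, ⟨Flat.stalkMap (f ∣_ W') _, ?_⟩, rfl⟩
    exact (cmFib_iff_of_comm (f ∣_ W') f (f ⁻¹ᵁ W').ι W'.ι hsq ⟨x, hxW⟩).mpr hx
  · rintro ⟨u, hu, rfl⟩
    exact ⟨u.2, (cmFib_iff_of_comm (f ∣_ W') f (f ⁻¹ᵁ W').ι W'.ι hsq u).mp hu.2⟩


/-- **Noetherian case.** For `f : X ⟶ S` of finite type over a Noetherian scheme, the set of points
at which the fibre is Cohen–Macaulay is constructible. -/
theorem isConstructible_cmFib_of_isNoetherian {X S : Scheme.{u}} [IsNoetherian S] (f : X ⟶ S)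
    [LocallyOfFiniteType f] [QuasiCompact f] : IsConstructible {x : X | CMFib f x} := by
  have hXln : IsLocallyNoetherian X := LocallyOfFiniteType.isLocallyNoetherian f
  have hXc : CompactSpace X := QuasiCompact.compactSpace_of_compactSpace f
  have hXN : IsNoetherian X := { }
  refine ConsLocusGen.isConstructible_of_dichotomy (fun Z hZc hZi => ?_)
  have hcl : closure ({hZi.genericPoint} : Set X) = Z := hZi.closure_genericPoint hZc
  set ζ := hZi.genericPoint with hζ
  refine ConsLocusGen.with_redClosure (f ζ) (fun W _ _ j _ hrange hgp => ?_)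
  have hc : IsPullback (pullback.fst f j) (pullback.snd f j) f j := IsPullback.of_hasPullback f j
  have hE : ∀ x', CMFib (pullback.snd f j) x' ↔ CMFib f (pullback.fst f j x') :=
    cmFib_iff_of_isPullback hc
  obtain ⟨W', hW'dense, hflat, hlfp⟩ :=
    H77GenFlatRedSch.exists_dense_open_flat_lfp (pullback.snd f j)
  have hO := isOpen_cmFib_inter_preimage (pullback.snd f j) W'
  obtain ⟨ζ', hζ'1, hζ'2⟩ := Scheme.Pullback.exists_preimage_pullback (f := f) (g := j) ζ
    (genericPoint W) hgp.symm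
  have hζ'W : pullback.snd f j ζ' ∈ W' := by
    rw [hζ'2]
    have h1 := (genericPoint_spec W).mem_open_set_iff W'.2
    obtain ⟨w, hw⟩ := hW'dense.nonempty
    exact h1.mpr ⟨w, trivial, hw⟩
  -- every point of `Z` lifts to the pullback
  have hlift : ∀ z ∈ Z, ∃ z', pullback.fst f j z' = z := by
    intro z hz
    have h1 : f z ∈ closure ({f ζ} : Set S) := by
      have h2 : z ∈ closure ({ζ} : Set X) := hcl ▸ hz
      have h3 := image_closure_subset_closure_image f.continuous (s := {ζ}) ⟨z, h2, rfl⟩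
      rwa [Set.image_singleton] at h3
    rw [← hrange] at h1
    obtain ⟨w, hw⟩ := h1
    obtain ⟨z', hz'1, -⟩ := Scheme.Pullback.exists_preimage_pullback (f := f) (g := j) z w hw.symm
    exact ⟨z', hz'1⟩
  have hemb : IsInducing (pullback.fst f j) := (pullback.fst f j).isEmbedding.isInducing
  have hζZ : ζ ∈ Z := hcl ▸ subset_closure (Set.mem_singleton ζ)
  by_cases hζE : CMFib f ζ
  · obtain ⟨U, hU, hUO⟩ := hemb.isOpen_iff.mp hO
    have hζ'O : ζ' ∈ {x | pullback.snd f j x ∈ W' ∧ CMFib (pullback.snd f j) x} :=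
      ⟨hζ'W, (hE ζ').mpr (hζ'1 ▸ hζE)⟩
    refine ⟨U, hU, ⟨ζ, ?_, hζZ⟩, Or.inl ?_⟩
    · rw [← hUO] at hζ'O
      have : pullback.fst f j ζ' ∈ U := hζ'O
      rwa [hζ'1] at this
    · rintro z ⟨hzU, hzZ⟩
      obtain ⟨z', rfl⟩ := hlift z hzZ
      have hz' : z' ∈ (pullback.fst f j) ⁻¹' U := hzU
      rw [hUO] at hz'
      exact (hE z').mp hz'.2
  · obtain ⟨U, hU, hUO⟩ := hemb.isOpen_iff.mp ((pullback.snd f j) ⁻¹ᵁ W').2
    refine ⟨U, hU, ⟨ζ, ?_, hζZ⟩, Or.inr ?_⟩
    · have : ζ' ∈ (pullback.fst f j) ⁻¹' U := by rw [hUO]; exact hζ'W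
      have h2 : pullback.fst f j ζ' ∈ U := this
      rwa [hζ'1] at h2
    · rintro z ⟨hzU, hzZ⟩ hzE
      obtain ⟨z', rfl⟩ := hlift z hzZ
      have hz'W : z' ∈ (pullback.fst f j) ⁻¹' U := hzU
      rw [hUO] at hz'W
      have hz'O : z' ∈ {x | pullback.snd f j x ∈ W' ∧ CMFib (pullback.snd f j) x} :=
        ⟨hz'W, (hE z').mpr hzE⟩
      have hspec : ζ ⤳ pullback.fst f j z' := by
        rw [specializes_iff_mem_closure, hcl]; exact hzZ
      rw [← hζ'1] at hspec
      have hspec' : ζ' ⤳ z' := hemb.specializes_iff.mp hspec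
      have hζ'O := hO.stableUnderGeneralization hspec' hz'O
      exact hζE (hζ'1 ▸ (hE ζ').mp hζ'O.2)

end Groth.Agent.Lib.CMCons33
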