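import Groth.Agent.Lib.CMCons33b
import Mathlib

/-!
# The locus where the fibres are Cohen–Macaulay is locally constructible (helper33)

Noetherian approximation, following the pattern of `Lib/QuasiFiniteLocusCons`.
-/

set_option autoImplicit false
universe u

open CategoryTheory Limits AlgebraicGeometry Topology TensorProduct TopologicalSpace

namespace Groth.Agent.Lib.CMCons33

section affine

variable {R S : CommRingCat.{u}} (φ : R ⟶ S)

set_option maxHeartbeats 800000 in
/-- The locus `CMFib` of `Spec S ⟶ Spec R`, for `S` an `R`-algebra of finite presentation,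
is constructible. -/
theorem isConstructible_cmFib_Spec [LocallyOfFinitePresentation (Spec.map φ)] :
    IsConstructible {x : Spec S | CMFib (Spec.map φ) x} := by
  have hφ : φ.hom.FinitePresentation :=
    (HasRingHomProperty.Spec_iff (P := @LocallyOfFinitePresentation)).mp inferInstance
  algebraize [φ.hom]
  let P := Algebra.Presentation.ofFinitePresentation R S
  let R₀ := P.Core
  let S₀ := P.ModelOfHasCoeffs R₀
  let e : R ⊗[R₀] S₀ ≃ₐ[R] S := P.tensorModelOfHasCoeffsEquiv R₀
  have : IsNoetherianRing R₀ := Algebra.FiniteType.isNoetherianRing ℤ R₀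
  have : IsNoetherianRing S₀ := Algebra.FiniteType.isNoetherianRing R₀ S₀
  let φ₀ : CommRingCat.of R₀ ⟶ CommRingCat.of S₀ := CommRingCat.ofHom (algebraMap R₀ S₀)
  let a : CommRingCat.of R₀ ⟶ R := CommRingCat.ofHom (algebraMap R₀ R)
  let inl : R ⟶ CommRingCat.of (R ⊗[R₀] S₀) :=
    CommRingCat.ofHom Algebra.TensorProduct.includeLeftRingHom
  let inr : CommRingCat.of S₀ ⟶ CommRingCat.of (R ⊗[R₀] S₀) :=
    CommRingCat.ofHom Algebra.TensorProduct.includeRight.toRingHom
  have po : IsPushout a φ₀ inl inr := CommRingCat.isPushout_tensorProduct R₀ R S₀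
  let eC : CommRingCat.of (R ⊗[R₀] S₀) ⟶ S := CommRingCat.ofHom e.toRingEquiv.toRingHom
  have : IsIso eC := by
    have : eC = e.toRingEquiv.toCommRingCatIso.hom := rfl
    rw [this]; infer_instance
  have hcomm : inl ≫ eC = φ := by
    ext r
    have h1 := e.commutes r
    rw [Algebra.TensorProduct.algebraMap_apply] at h1
    change e ((r : (R : Type u)) ⊗ₜ[R₀] (1 : S₀)) = algebraMap R S r
    simpa using h1
  have pb : IsPullback (Spec.map inr) (Spec.map inl) (Spec.map φ₀) (Spec.map a) :=
    (isPullback_SpecMap_of_isPushout a φ₀ inl inr po).flip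
  have : LocallyOfFinitePresentation (Spec.map φ₀) :=
    (HasRingHomProperty.Spec_iff (P := @LocallyOfFinitePresentation)).mpr
      (RingHom.finitePresentation_algebraMap.mpr inferInstance)
  have h0 : IsConstructible {x : Spec (CommRingCat.of S₀) | CMFib (Spec.map φ₀) x} :=
    isConstructible_cmFib_of_isNoetherian (Spec.map φ₀)
  have h1 : {x | CMFib (Spec.map inl) x} = Spec.map inr ⁻¹' {x | CMFib (Spec.map φ₀) x} := by
    ext x
    exact cmFib_iff_of_isPullback pb x
  have h2 : Spec.map φ = Spec.map eC ≫ Spec.map inl := by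
    rw [← Spec.map_comp, hcomm]
  have h3 : {x | CMFib (Spec.map φ) x} = Spec.map eC ⁻¹' {x | CMFib (Spec.map inl) x} := by
    ext x
    change CMFib (Spec.map φ) x ↔ CMFib (Spec.map inl) (Spec.map eC x)
    rw [h2]
    exact cmFib_comp_openImmersion_left (Spec.map eC) (Spec.map inl) x
  rw [h3, h1]
  exact (Spec.map eC).isConstructible_preimage ((Spec.map inr).isConstructible_preimage h0)

end affine

section general

variable {X Y : Scheme.{u}} (f : X ⟶ Y)

theorem isConstructible_cmFib_of_isAffine [IsAffine X] [IsAffine Y]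
    [LocallyOfFinitePresentation f] : IsConstructible {x : X | CMFib f x} := by
  have hnat : X.isoSpec.hom ≫ Spec.map f.appTop = f ≫ Y.isoSpec.hom :=
    Scheme.isoSpec_hom_naturality f
  have e1 : Spec.map f.appTop = X.isoSpec.inv ≫ f ≫ Y.isoSpec.hom := by
    rw [← hnat, Iso.inv_hom_id_assoc]
  have : LocallyOfFinitePresentation (Spec.map f.appTop) := by rw [e1]; infer_instance
  have h : {x : X | CMFib f x} = X.isoSpec.hom ⁻¹' {x | CMFib (Spec.map f.appTop) x} := by
    ext x
    exact cmFib_iff_of_comm f (Spec.map f.appTop) X.isoSpec.hom Y.isoSpec.hom hnat.symm x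
  rw [h]
  exact X.isoSpec.hom.isConstructible_preimage (isConstructible_cmFib_Spec _)

/-- **The locus where the fibres of a morphism locally of finite presentation are
Cohen–Macaulay is locally constructible** (EGA IV 9.9.3). -/
theorem isLocallyConstructible_cmFib [LocallyOfFinitePresentation f] :
    IsLocallyConstructible {x : X | CMFib f x} := by
  intro x
  obtain ⟨_, ⟨V : Y.Opens, hV, rfl⟩, hxV, -⟩ := Y.isBasis_affineOpens.exists_subset_of_mem_open
    (Set.mem_univ (f x)) isOpen_univ
  obtain ⟨_, ⟨U : X.Opens, hU, rfl⟩, hxU, hUV⟩ := X.isBasis_affineOpens.exists_subset_of_mem_open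
    hxV (f ⁻¹ᵁ V).2
  refine ⟨U, U.2.mem_nhds hxU, U.2, ?_⟩
  have : IsAffine U := hU
  have : IsAffine V := hV
  have h : (Subtype.val : ↥(U : Set X) → X) ⁻¹' {x : X | CMFib f x} =
      {u : U | CMFib (f.resLE V U hUV) u} := by
    ext u
    exact (cmFib_iff_of_comm (f.resLE V U hUV) f U.ι V.ι (f.resLE_comp_ι _) u).symm
  rw [h]
  exact isConstructible_cmFib_of_isAffine (f.resLE V U hUV)

end general

end Groth.Agent.Lib.CMCons33
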