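import Mathlib

/-!
# Decomposing a ring along a locally constant function on its spectrum (helper33)

`exists_idempotents_of_isLocallyConstant`: for a locally constant `δ : PrimeSpectrum S → ℕ` there are
`N` and complete orthogonal idempotents `e : Fin (N+1) → S` with `D(e d) = δ⁻¹{d}`.
-/

set_option autoImplicit false
universe u

open PrimeSpectrum

namespace Groth.Agent.Lib.CMDimDecomp33

variable {S : Type u} [CommRing S]

theorem exists_idempotents_of_isLocallyConstant (δ : PrimeSpectrum S → ℕ)
    (hδ : IsLocallyConstant δ) :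
    ∃ (N : ℕ) (e : Fin (N + 1) → S), CompleteOrthogonalIdempotents e ∧
      ∀ (d : Fin (N + 1)) (q : PrimeSpectrum S), e d ∉ q.asIdeal ↔ δ q = (d : ℕ) := by
  classical
  -- bound for `δ`
  have hfin : (Set.range δ).Finite := hδ.range_finite
  obtain ⟨N, hN⟩ : ∃ N : ℕ, ∀ q, δ q ≤ N := by
    obtain ⟨N, hN⟩ := hfin.bddAbove
    exact ⟨N, fun q => hN ⟨q, rfl⟩⟩
  have hcl : ∀ d : Fin (N + 1), IsClopen {q : PrimeSpectrum S | δ q = (d : ℕ)} :=
    fun d => hδ.isClopen_fiber _
  choose e he hbe using fun d => exists_idempotent_basicOpen_eq_of_isClopen (hcl d)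
  have hmem : ∀ (d : Fin (N + 1)) (q : PrimeSpectrum S), e d ∉ q.asIdeal ↔ δ q = (d : ℕ) := by
    intro d q
    have : q ∈ {q : PrimeSpectrum S | δ q = (d : ℕ)} ↔ q ∈ (basicOpen (e d) : Set _) := by
      rw [hbe d]
    exact this.symm
  refine ⟨N, e, ⟨⟨he, ?_⟩, ?_⟩, hmem⟩
  · -- orthogonality
    intro i j hij
    have hidem : IsIdempotentElem (e i * e j) := (he i).mul (he j)
    have h0 : IsIdempotentElem (0 : S) := IsIdempotentElem.zero
    refine basicOpen_injOn_isIdempotentElem hidem h0 ?_
    ext q
    simp only [basicOpen_mul, basicOpen_zero]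
    constructor
    · rintro ⟨h1, h2⟩
      have h1' := (hmem i q).mp h1
      have h2' := (hmem j q).mp h2
      exact (hij (Fin.ext (h1'.symm.trans h2'))).elim
    · intro h
      exact h.elim
  · -- completeness
    have horth : OrthogonalIdempotents e := ⟨he, fun i j hij => by
      have hidem : IsIdempotentElem (e i * e j) := (he i).mul (he j)
      refine basicOpen_injOn_isIdempotentElem hidem IsIdempotentElem.zero ?_
      ext q
      simp only [basicOpen_mul, basicOpen_zero]
      constructor
      · rintro ⟨h1, h2⟩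
        have h1' := (hmem i q).mp h1
        have h2' := (hmem j q).mp h2
        exact (hij (Fin.ext (h1'.symm.trans h2'))).elim
      · intro h
        exact h.elim⟩
    have hsum : IsIdempotentElem (∑ i, e i) := horth.isIdempotentElem_sum (s := Finset.univ)
    refine basicOpen_injOn_isIdempotentElem hsum IsIdempotentElem.one ?_
    ext q
    simp only [basicOpen_one]
    refine ⟨fun _ => trivial, fun _ => ?_⟩
    -- the index of `q`
    let d : Fin (N + 1) := ⟨δ q, Nat.lt_succ_of_le (hN q)⟩
    have hd : e d ∉ q.asIdeal := (hmem d q).mpr rfl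
    have hothers : ∀ i, i ≠ d → e i ∈ q.asIdeal := by
      intro i hi
      have h0 : e i * e d ∈ q.asIdeal := by
        rw [horth.ortho hi]; exact Ideal.zero_mem _
      exact (q.2.mem_or_mem h0).resolve_right hd
    change (∑ i, e i) ∉ q.asIdeal
    intro hcon
    apply hd
    have hsplit : ∑ i, e i = e d + ∑ i ∈ Finset.univ.erase d, e i := by
      rw [Finset.add_sum_erase _ _ (Finset.mem_univ d)]
    have hrest : ∑ i ∈ Finset.univ.erase d, e i ∈ q.asIdeal :=
      Ideal.sum_mem _ fun i hi => hothers i (Finset.ne_of_mem_erase hi)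
    have : e d = (∑ i, e i) - ∑ i ∈ Finset.univ.erase d, e i := by rw [hsplit]; ring
    rw [this]
    exact Ideal.sub_mem _ hcon hrest

end Groth.Agent.Lib.CMDimDecomp33
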