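import Mathlib
import Groth.Agent.Lib.H30FlatDim
import Groth.Agent.Lib.FibreDimAtFormula
import Groth.Agent.Lib.CMComp33
import Groth.Agent.Lib.DimFibre33

/-!
helper79: dimension of fibres of a composite (Stacks 02JS / EGA IV 5.?): for `f : X ⟶ Y`, `g : Y ⟶ S`
locally of finite type, `dim_x X_s ≤ dim_x X_y + dim_y Y_s` with equality when `O_{Y,y} → O_{X,x}` is flat.
Also `fibreDimAt f x = dim (O_{X,x}/m_{f x} O_{X,x}) + trdeg κ(x)/κ(f x)`.
-/

set_option autoImplicit false
universe u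

namespace Groth.Agent.Lib.H79FibDimComp

open AlgebraicGeometry CategoryTheory IsLocalRing
open Groth.Agent.Lib Groth.Agent.Lib.H30DimRel Groth.Agent.Lib.H30FibRes Groth.Agent.Lib.H30DimField
  Groth.Agent.Lib.FibreStalk33 Groth.Agent.Lib.CMComp33

section Alg
variable {A B C : Type u} [CommRing A] [CommRing B] [CommRing C]
  [IsLocalRing A] [IsLocalRing B] [IsLocalRing C]
  (φ : A →+* B) (χ : B →+* C) [IsLocalHom φ] [IsLocalHom χ]

theorem dim_comp_le [IsNoetherianRing (B ⧸ Ideal.map φ (maximalIdeal A))]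
    [IsNoetherianRing (C ⧸ Ideal.map χ (Ideal.map φ (maximalIdeal A)))] :
    ringKrullDim (C ⧸ Ideal.map χ (Ideal.map φ (maximalIdeal A))) ≤
      ringKrullDim (B ⧸ Ideal.map φ (maximalIdeal A)) +
        ringKrullDim (C ⧸ Ideal.map χ (maximalIdeal B)) := by
  have hI : Ideal.map φ (maximalIdeal A) ≤ maximalIdeal B := map_le_maximalIdeal φ
  have hI' : Ideal.map φ (maximalIdeal A) ≠ ⊤ := (map_maximalIdeal_lt_top φ).ne
  have hJ' : Ideal.map χ (Ideal.map φ (maximalIdeal A)) ≠ ⊤ := fun h =>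
    map_maximalIdeal_ne_top χ (top_le_iff.mp (h ▸ map_map_le φ χ))
  have hlB : IsLocalRing (B ⧸ Ideal.map φ (maximalIdeal A)) := isLocalRing_quotient _ hI'
  have hlC : IsLocalRing (C ⧸ Ideal.map χ (Ideal.map φ (maximalIdeal A))) :=
    isLocalRing_quotient _ hJ'
  have hloc := isLocalHom_quotMap χ (Ideal.map φ (maximalIdeal A))
  have key := DimFibre33.ringKrullDim_le_add' (quotMap χ (Ideal.map φ (maximalIdeal A)))
  rwa [ringKrullDim_eq_of_ringEquiv (fibreEquiv χ _ hI)] at key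

theorem dim_comp_eq (hχ : χ.Flat) [IsNoetherianRing (B ⧸ Ideal.map φ (maximalIdeal A))]
    [IsNoetherianRing (C ⧸ Ideal.map χ (Ideal.map φ (maximalIdeal A)))] :
    ringKrullDim (C ⧸ Ideal.map χ (Ideal.map φ (maximalIdeal A))) =
      ringKrullDim (B ⧸ Ideal.map φ (maximalIdeal A)) +
        ringKrullDim (C ⧸ Ideal.map χ (maximalIdeal B)) := by
  have hI : Ideal.map φ (maximalIdeal A) ≤ maximalIdeal B := map_le_maximalIdeal φ
  have hI' : Ideal.map φ (maximalIdeal A) ≠ ⊤ := (map_maximalIdeal_lt_top φ).ne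
  have hJ' : Ideal.map χ (Ideal.map φ (maximalIdeal A)) ≠ ⊤ := fun h =>
    map_maximalIdeal_ne_top χ (top_le_iff.mp (h ▸ map_map_le φ χ))
  have hlB : IsLocalRing (B ⧸ Ideal.map φ (maximalIdeal A)) := isLocalRing_quotient _ hI'
  have hlC : IsLocalRing (C ⧸ Ideal.map χ (Ideal.map φ (maximalIdeal A))) :=
    isLocalRing_quotient _ hJ'
  have hloc := isLocalHom_quotMap χ (Ideal.map φ (maximalIdeal A))
  have key := CMFlat33.ringKrullDim_eq_add' (quotMap χ (Ideal.map φ (maximalIdeal A)))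
    (quotMap_flat χ _ hχ)
  rwa [ringKrullDim_eq_of_ringEquiv (fibreEquiv χ _ hI)] at key

end Alg

section Sch
variable {X Y S : Scheme.{u}}

theorem isNoetherianRing_fibreStalk (f : X ⟶ Y) [LocallyOfFiniteType f] (x : X) :
    IsNoetherianRing ((f.fiber (f x)).presheaf.stalk (f.asFiber x)) := by
  let _ := fiberOver f (f x)
  have := lft_fiber f (f x)
  have := isLocallyNoetherian (Y.residueField (f x)) (f.fiber (f x))
  infer_instance

theorem isNoetherianRing_quot (f : X ⟶ Y) [LocallyOfFiniteType f] (x : X) :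
    IsNoetherianRing (X.presheaf.stalk x ⧸
      Ideal.map (f.stalkMap x).hom (maximalIdeal (Y.presheaf.stalk (f x)))) := by
  have := isNoetherianRing_fibreStalk f x
  exact isNoetherianRing_of_ringEquiv _ (fibreStalkEquiv f x).symm

theorem fibreDimAt_eq_quot (f : X ⟶ Y) [LocallyOfFiniteType f] (x : X) :
    FlatMor.fibreDimAt f x = ringKrullDim (X.presheaf.stalk x ⧸
      Ideal.map (f.stalkMap x).hom (maximalIdeal (Y.presheaf.stalk (f x)))) +
        ((rt f x : ℕ) : WithBot ℕ∞) := by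
  rw [FibreDimAtFormula.fibreDimAt_eq_add f x (rt f x) (trdeg_eq_rt f x),
    ringKrullDim_eq_of_ringEquiv (fibreStalkEquiv f x)]

/-- **fibre dimension of a composite** -/
theorem fibreDimAt_comp (f : X ⟶ Y) (g : Y ⟶ S) [LocallyOfFiniteType f] [LocallyOfFiniteType g] (x : X) :
    FlatMor.fibreDimAt (f ≫ g) x ≤ FlatMor.fibreDimAt f x + FlatMor.fibreDimAt g (f.base x) ∧
      ((f.stalkMap x).hom.Flat →
        FlatMor.fibreDimAt (f ≫ g) x = FlatMor.fibreDimAt f x + FlatMor.fibreDimAt g (f.base x)) := by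
  have hideal : Ideal.map ((f ≫ g).stalkMap x).hom
        (maximalIdeal (S.presheaf.stalk ((f ≫ g) x))) =
      Ideal.map (f.stalkMap x).hom (Ideal.map (g.stalkMap (f x)).hom
        (maximalIdeal (S.presheaf.stalk (g (f x))))) := by
    rw [Ideal.map_map, Scheme.Hom.stalkMap_comp]
    rfl
  have h1 := fibreDimAt_eq_quot (f ≫ g) x
  rw [ringKrullDim_eq_of_ringEquiv (Ideal.quotEquivOfEq hideal)] at h1
  have h2 := fibreDimAt_eq_quot f x
  have h3 := fibreDimAt_eq_quot g (f x)
  have hrt : rt (f ≫ g) x = rt g (f x) + rt f x := rt_comp f g x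
  have hN1 := isNoetherianRing_quot g (f x)
  have hN2 : IsNoetherianRing (X.presheaf.stalk x ⧸ Ideal.map (f.stalkMap x).hom
      (Ideal.map (g.stalkMap (f x)).hom (maximalIdeal (S.presheaf.stalk (g (f x)))))) := by
    have := isNoetherianRing_quot (f ≫ g) x
    exact isNoetherianRing_of_ringEquiv _ (Ideal.quotEquivOfEq hideal)
  have hle := dim_comp_le (g.stalkMap (f x)).hom (f.stalkMap x).hom
  rw [h1, h2, h3, hrt]
  push_cast
  refine ⟨?_, fun hflat => ?_⟩
  · calc _ ≤ (ringKrullDim (Y.presheaf.stalk (f x) ⧸ Ideal.map (g.stalkMap (f x)).hom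
            (maximalIdeal (S.presheaf.stalk (g (f x))))) +
          ringKrullDim (X.presheaf.stalk x ⧸ Ideal.map (f.stalkMap x).hom
            (maximalIdeal (Y.presheaf.stalk (f x))))) + ((rt g (f x) : WithBot ℕ∞) + (rt f x : WithBot ℕ∞)) :=
          add_le_add_left hle _
      _ = _ := by abel
  · rw [dim_comp_eq (g.stalkMap (f x)).hom (f.stalkMap x).hom hflat]
    abel
end Sch

end Groth.Agent.Lib.H79FibDimComp
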