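import Groth.Prelude.Def_Dual3
import Mathlib

set_option autoImplicit false
universe u
open CategoryTheory CategoryTheory.Limits AlgebraicGeometry

namespace Groth.Agent.Lib.ResTrdeg91

/-- Tower law for the transcendence degree of residue field extensions. -/
theorem resTrdeg_comp {X Y Z : Scheme.{u}} (f : X ⟶ Y) (g : Y ⟶ Z) (x : X) :
    Dual3.resTrdeg (f ≫ g) x = Dual3.resTrdeg g (f x) + Dual3.resTrdeg f x := by
  unfold Dual3.resTrdeg
  let a1 := (g.residueFieldMap (f x)).hom.toAlgebra
  let a2 := (f.residueFieldMap x).hom.toAlgebra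
  let a3 : Algebra (Z.residueField (g (f x))) (X.residueField x) :=
    ((f ≫ g).residueFieldMap x).hom.toAlgebra
  have : IsScalarTower (Z.residueField (g (f x))) (Y.residueField (f x)) (X.residueField x) := by
    refine IsScalarTower.of_algebraMap_eq' ?_
    show ((f ≫ g).residueFieldMap x).hom = _
    rw [Scheme.residueFieldMap_comp]
    rfl
  exact (trdeg_add_eq (Z.residueField (g (f x))) (Y.residueField (f x))
    (A := X.residueField x)).symm


/-- The residue field extensions of an unramified morphism are algebraic. -/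
theorem resTrdeg_eq_zero_of_unramified {X Y : Scheme.{u}} (f : X ⟶ Y) [FormallyUnramified f]
    [LocallyOfFiniteType f] (x : X) : Dual3.resTrdeg f x = 0 := by
  unfold Dual3.resTrdeg
  let a := (f.residueFieldMap x).hom.toAlgebra
  have : Algebra.IsSeparable (Y.residueField (f x)) (X.residueField x) := inferInstance
  exact trdeg_eq_zero

/-- The residue field extensions of an étale morphism are algebraic. -/
theorem resTrdeg_eq_zero_of_etale {X Y : Scheme.{u}} (f : X ⟶ Y) [Etale f] (x : X) :
    Dual3.resTrdeg f x = 0 :=
  resTrdeg_eq_zero_of_unramified f x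

/-- Precomposition with an étale morphism does not change the transcendence degree. -/
theorem resTrdeg_etale_comp {X Y Z : Scheme.{u}} (f : X ⟶ Y) [Etale f] (g : Y ⟶ Z) (x : X) :
    Dual3.resTrdeg (f ≫ g) x = Dual3.resTrdeg g (f x) := by
  rw [resTrdeg_comp, resTrdeg_eq_zero_of_etale f x, add_zero]

/-- Postcomposition with an étale morphism does not change the transcendence degree. -/
theorem resTrdeg_comp_etale {X Y Z : Scheme.{u}} (f : X ⟶ Y) (g : Y ⟶ Z) [Etale g] (x : X) :
    Dual3.resTrdeg (f ≫ g) x = Dual3.resTrdeg f x := by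
  rw [resTrdeg_comp, resTrdeg_eq_zero_of_etale g (f x), zero_add]


/-- The residue field extensions of a locally quasi-finite morphism are finite, hence algebraic. -/
theorem resTrdeg_eq_zero_of_locallyQuasiFinite {X Y : Scheme.{u}} (f : X ⟶ Y) [LocallyQuasiFinite f]
    (x : X) : Dual3.resTrdeg f x = 0 := by
  have h1 : LocallyQuasiFinite (X.fromSpecResidueField x ≫ f) := inferInstance
  rw [← f.SpecMap_residueFieldMap_fromSpecResidueField x] at h1
  have h2 : LocallyQuasiFinite (Spec.map (f.residueFieldMap x)) :=
    LocallyQuasiFinite.of_comp _ (Y.fromSpecResidueField (f x))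
  rw [HasRingHomProperty.Spec_iff (P := @LocallyQuasiFinite)] at h2
  unfold Dual3.resTrdeg
  let a := (f.residueFieldMap x).hom.toAlgebra
  have h3 : Algebra.QuasiFinite (Y.residueField (f x)) (X.residueField x) := h2
  have : Module.Finite (Y.residueField (f x)) (X.residueField x) := Module.Finite.of_quasiFinite
  exact trdeg_eq_zero

theorem resTrdeg_congr {X Y : Scheme.{u}} {f g : X ⟶ Y} (h : f = g) (x : X) :
    Dual3.resTrdeg f x = Dual3.resTrdeg g x := by
  subst h; rfl

end Groth.Agent.Lib.ResTrdeg91
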