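import Groth.Agent.Lib.H30DimField
import Groth.Agent.Lib.ResTrdeg91
import Groth.Agent.Lib.TopKrullDim
import Groth.Agent.Lib.H56LocDim

set_option autoImplicit false
universe u
open CategoryTheory CategoryTheory.Limits AlgebraicGeometry Topology TopologicalSpace

namespace Groth.Agent.Lib.SchFieldIso91

open Groth.Agent.Lib.H30DimField

/-- In a scheme locally of finite type over a field, a specialization between points with the same transcendence
degree is trivial. -/
theorem eq_of_specializes_of_resTrdeg_eq (k : Type u) [Field k] (X : Scheme.{u})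
    (f : X ⟶ Spec (CommRingCat.of k)) [LocallyOfFiniteType f] (x' x : X) (h : x' ⤳ x)
    (he : Dual3.resTrdeg f x' = Dual3.resTrdeg f x) : x' = x := by
  let _ : X.Over (Spec (CommRingCat.of k)) := ⟨f⟩
  have : LocallyOfFiniteType (X ↘ Spec (CommRingCat.of k)) := ‹LocallyOfFiniteType f›
  by_contra hne
  have h1 := (isDimFun k X x' x h hne).1
  have e1 := trdeg_eq k X x
  have e2 := trdeg_eq k X x'
  have : td k X x' = td k X x := by
    unfold td
    unfold Dual3.resTrdeg at he
    rw [e1, e2]
    exact congrArg _ (congrArg _ he)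
  omega

/-- In a locally Noetherian scheme, a point without proper generizations and without proper specializations inside
an open neighbourhood is isolated. -/
theorem isOpen_singleton_of_isolated (U : Scheme.{u}) [IsLocallyNoetherian U] (u : U) (G : Set U)
    (hG : IsOpen G) (huG : u ∈ G) (hgen : ∀ u' : U, u' ⤳ u → u' = u)
    (hspec : ∀ u'' ∈ G, u ⤳ u'' → u'' = u) : IsOpen ({u} : Set U) := by
  obtain ⟨_, ⟨W, hW, rfl⟩, huW, hWG⟩ :=
    (U.isBasis_affineOpens).exists_subset_of_mem_open huG hG
  have hNR : IsNoetherianRing Γ(U, W) := IsLocallyNoetherian.component_noetherian ⟨W, hW⟩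
  have hN : NoetherianSpace ↥W := noetherianSpace_of_isAffineOpen W hW
  have hQS : QuasiSober ↥W := W.isOpen.isOpenEmbedding_subtypeVal.quasiSober
  let w : ↥W := ⟨u, huW⟩
  have hfin : (irreducibleComponents ↥W).Finite := NoetherianSpace.finite_irreducibleComponents
  -- every irreducible component through `w` is `{w}`
  have hcomp : ∀ Z ∈ irreducibleComponents ↥W, w ∈ Z → Z = {w} := by
    intro Z hZ hwZ
    have hZc : IsClosed Z := isClosed_of_mem_irreducibleComponents Z hZ
    have hZi : IsIrreducible Z := hZ.1
    obtain ⟨η, hη⟩ := QuasiSober.sober hZi hZc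
    have h1 : η ⤳ w := hη.specializes hwZ
    have h2 : η = w := Subtype.ext (hgen η.1 (h1.map continuous_subtype_val))
    subst h2
    ext w''
    constructor
    · intro hw''
      have h3 : w ⤳ w'' := hη.specializes hw''
      exact Subtype.ext (hspec w''.1 (hWG w''.2) (h3.map continuous_subtype_val))
    · rintro rfl
      exact hwZ
  have hcompl : ({w} : Set ↥W)ᶜ = ⋃₀ {Z ∈ irreducibleComponents ↥W | w ∉ Z} := by
    ext w'
    constructor
    · intro hw'
      have : w' ∈ ⋃₀ irreducibleComponents ↥W := by
        rw [sUnion_irreducibleComponents]; trivial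
      obtain ⟨Z, hZ, hw'Z⟩ := this
      refine ⟨Z, ⟨hZ, fun hwZ => hw' ?_⟩, hw'Z⟩
      rw [hcomp Z hZ hwZ] at hw'Z
      exact hw'Z
    · rintro ⟨Z, ⟨_, hwZ⟩, hw'Z⟩ rfl
      exact hwZ hw'Z
  have hopen : IsOpen ({w} : Set ↥W) := by
    rw [← isClosed_compl_iff, hcompl]
    rw [Set.sUnion_eq_biUnion]
    exact (hfin.subset (fun Z hZ => hZ.1)).isClosed_biUnion
      (fun Z hZ => isClosed_of_mem_irreducibleComponents Z hZ.1)
  have := W.isOpen.isOpenMap_subtype_val _ hopen
  simpa [w] using this

/-- In a locally Noetherian scheme a point is isolated iff the local dimension there is zero. -/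
theorem isOpen_singleton_iff_localDim_eq_zero (U : Scheme.{u}) [IsLocallyNoetherian U] (u : U) :
    IsOpen ({u} : Set U) ↔ FlatMor.localDim U u = 0 := by
  obtain ⟨_, ⟨W, hW, rfl⟩, huW, -⟩ :=
    (U.isBasis_affineOpens).exists_subset_of_mem_open (Set.mem_univ u) isOpen_univ
  have hNR : IsNoetherianRing Γ(U, W) := IsLocallyNoetherian.component_noetherian ⟨W, hW⟩
  have hN : NoetherianSpace ↥W := noetherianSpace_of_isAffineOpen W hW
  have hemb : IsOpenEmbedding (Subtype.val : ↥W → U) := W.isOpen.isOpenEmbedding_subtypeVal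
  rw [← Groth.Agent.Lib.H56LocDim.localDim_eq_of_isOpenEmbedding hemb ⟨u, huW⟩,
    ← Groth.Agent.Lib.TopKrullDim.isOpen_singleton_iff_localDim_eq_zero]
  constructor
  · intro h
    have := h.preimage hemb.continuous
    convert this using 1
    ext w; simp [Subtype.ext_iff]
  · intro h
    have := hemb.isOpenMap _ h
    simpa using this

end Groth.Agent.Lib.SchFieldIso91
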