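import Groth.Prelude.Def_Flat
import Groth.Agent.Lib.SchFieldIso91
import Mathlib

set_option autoImplicit false
universe u
open CategoryTheory CategoryTheory.Limits AlgebraicGeometry Topology TopologicalSpace

namespace Groth.Agent.Lib.QFAt91

/-- For a morphism locally of finite type, quasi-finiteness at `x` means that `x` is isolated in its fibre. -/
theorem quasiFiniteAt_iff_isolated {X Y : Scheme.{u}} (f : X ⟶ Y) [LocallyOfFiniteType f] (x : X) :
    f.QuasiFiniteAt x ↔ ∃ O : Set X, IsOpen O ∧ x ∈ O ∧ ∀ x' ∈ O, f x' = f x → x' = x := by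
  rw [Scheme.Hom.quasiFiniteAt_iff_isOpen_singleton_asFiber,
    ← (f.fiberHomeo (f x)).isOpen_image]
  have h1 : (f.fiberHomeo (f x)) '' {f.asFiber x} = {(⟨x, rfl⟩ : ↥(f ⁻¹' {f x}))} := by
    rw [Set.image_singleton]
    simp [Scheme.Hom.asFiber]
  rw [h1, isOpen_induced_iff]
  constructor
  · rintro ⟨O, hO, hOx⟩
    refine ⟨O, hO, ?_, fun x' hx' hfx' => ?_⟩
    · have : (⟨x, rfl⟩ : ↥(f ⁻¹' {f x})) ∈ Subtype.val ⁻¹' O := by rw [hOx]; rfl
      exact this
    · have : (⟨x', hfx'⟩ : ↥(f ⁻¹' {f x})) ∈ Subtype.val ⁻¹' O := hx'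
      rw [hOx] at this
      exact congrArg Subtype.val this
  · rintro ⟨O, hO, hxO, hOx⟩
    refine ⟨O, hO, ?_⟩
    ext ⟨x', hx'⟩
    constructor
    · intro h
      exact Subtype.ext (hOx x' h hx')
    · intro h
      rw [Set.mem_singleton_iff, Subtype.ext_iff] at h
      have h' : x' = x := h
      show x' ∈ O
      rw [h']
      exact hxO

/-- Étale morphisms are locally quasi-finite. -/
theorem locallyQuasiFinite_of_etale {X Y : Scheme.{u}} (f : X ⟶ Y) [Etale f] :
    LocallyQuasiFinite f where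
  quasiFinite_appLE {U} hU {V} hV e := by
    have h := f.etale_appLE hU hV e
    algebraize [(f.appLE U V e).hom]
    rw [RingHom.QuasiFinite]
    infer_instance

/-- Precomposition with an open, locally quasi-finite morphism (for instance an étale morphism) does not change
quasi-finiteness at a point. -/
theorem quasiFiniteAt_etale_comp_iff {P X Y : Scheme.{u}} (e : P ⟶ X) [Etale e] (f : X ⟶ Y)
    [LocallyOfFiniteType f] (p : P) : (e ≫ f).QuasiFiniteAt p ↔ f.QuasiFiniteAt (e p) := by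
  rw [quasiFiniteAt_iff_isolated, quasiFiniteAt_iff_isolated]
  constructor
  · rintro ⟨O, hO, hpO, hOp⟩
    refine ⟨e '' O, e.isOpenMap _ hO, ⟨p, hpO, rfl⟩, ?_⟩
    rintro _ ⟨o, ho, rfl⟩ hfo
    rw [hOp o ho hfo]
  · rintro ⟨O', hO', hpO', hO'p⟩
    have := locallyQuasiFinite_of_etale e
    have he : e.QuasiFiniteAt p := e.quasiFiniteAt p
    rw [quasiFiniteAt_iff_isolated] at he
    obtain ⟨O'', hO'', hpO'', hO''p⟩ := he
    refine ⟨e ⁻¹' O' ∩ O'', (hO'.preimage e.continuous).inter hO'', ⟨hpO', hpO''⟩, ?_⟩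
    rintro o ⟨ho', ho''⟩ hfo
    exact hO''p o ho'' (hO'p (e o) ho' hfo)


/-- Postcomposition with an étale morphism does not change quasi-finiteness at a point. -/
theorem quasiFiniteAt_comp_etale_iff {X Y Z : Scheme.{u}} (f : X ⟶ Y) (g : Y ⟶ Z) [Etale g] (x : X) :
    (f ≫ g).QuasiFiniteAt x ↔ f.QuasiFiniteAt x := by
  have := locallyQuasiFinite_of_etale g
  exact Scheme.Hom.quasiFiniteAt_comp_iff

theorem quasiFiniteAt_congr {X Y : Scheme.{u}} {f g : X ⟶ Y} (h : f = g) (x : X) :
    f.QuasiFiniteAt x ↔ g.QuasiFiniteAt x := by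
  subst h; rfl

/-- The fibres of a morphism locally of finite type are locally Noetherian. -/
theorem isLocallyNoetherian_fiber {X Y : Scheme.{u}} (f : X ⟶ Y) [LocallyOfFiniteType f] (y : Y) :
    IsLocallyNoetherian (f.fiber y) := by
  have : LocallyOfFiniteType (f.fiberToSpecResidueField y) :=
    MorphismProperty.pullback_snd _ _ inferInstance
  exact LocallyOfFiniteType.isLocallyNoetherian (f.fiberToSpecResidueField y)

/-- For a morphism locally of finite type: relative dimension `0` at `x` iff quasi-finite at `x`. -/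
theorem fibreDimAt_eq_zero_iff {X Y : Scheme.{u}} (f : X ⟶ Y) [LocallyOfFiniteType f] (x : X) :
    FlatMor.fibreDimAt f x = 0 ↔ f.QuasiFiniteAt x := by
  have := isLocallyNoetherian_fiber f (f x)
  rw [Scheme.Hom.quasiFiniteAt_iff_isOpen_singleton_asFiber,
    Groth.Agent.Lib.SchFieldIso91.isOpen_singleton_iff_localDim_eq_zero]
  rfl

/-- The "quasi-finite on an open neighbourhood" predicate is quasi-finiteness at the point. -/
theorem exists_opens_lqf_iff {X Y : Scheme.{u}} (f : X ⟶ Y) [LocallyOfFiniteType f] (x : X) :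
    (∃ W : X.Opens, x ∈ W ∧ LocallyQuasiFinite (W.ι ≫ f) ∧ LocallyOfFiniteType (W.ι ≫ f)) ↔
      f.QuasiFiniteAt x := by
  constructor
  · rintro ⟨W, hxW, h1, h2⟩
    have h3 := (W.ι ≫ f).quasiFiniteAt ⟨x, hxW⟩
    rwa [Scheme.Hom.quasiFiniteAt_comp_iff_of_isOpenImmersion] at h3
  · intro h
    refine ⟨f.quasiFiniteLocus, h, ?_, inferInstance⟩
    rw [← Scheme.Hom.quasiFiniteLocus_eq_top_iff, Scheme.Hom.quasiFiniteLocus_comp]
    ext z
    simp

end Groth.Agent.Lib.QFAt91
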