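import Groth.Agent.Lib.CMQF33k
import Groth.Agent.Lib.H56FibDimSmooth2
import Groth.Agent.Lib.H79FibLocDimBC
import Groth.Agent.Lib.H79FibDimComp
import Groth.Agent.Lib.H56OpenFibDim4
import Groth.Agent.Lib.QFAt91
import Mathlib

/-!
# Quasi-finite flat charts to affine space of the right dimension (helper33)
-/

set_option autoImplicit false
universe u

open IsLocalRing Groth.Agent.Lib TensorProduct CategoryTheory AlgebraicGeometry Limits
open Groth.Agent.Lib.H56LocDim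

namespace Groth.Agent.Lib.CMQF33

section FibDim

/-- The local dimension of fibres is invariant under open immersions on both sides. -/
theorem fibreDimAt_of_comm {X Y X' Y' : Scheme.{u}} (f : X ⟶ Y) (f' : X' ⟶ Y') (a : X ⟶ X')
    (b : Y ⟶ Y') [IsOpenImmersion a] [IsOpenImmersion b] (w : f ≫ b = a ≫ f') (x : X) :
    FlatMor.fibreDimAt f x = FlatMor.fibreDimAt f' (a x) := by
  rw [fibreDimAt_eq_fibLocDim, fibreDimAt_eq_fibLocDim]
  refine fibLocDim_eq_of_square a.isOpenEmbedding b.isOpenEmbedding.injective _ _ (fun x' => ?_) x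
  change f' (a x') = b (f x')
  rw [← Scheme.Hom.comp_apply, ← w, Scheme.Hom.comp_apply]

/-- The fibres of `Spec R[T₁..T_d] → Spec R` have local dimension `d` everywhere. -/
theorem fibreDimAt_Spec_mvPolynomial (d : ℕ) (R : CommRingCat.{u})
    (z : Spec (.of (MvPolynomial (ULift.{u} (Fin d)) R))) :
    FlatMor.fibreDimAt (Spec.map (CommRingCat.ofHom
      (MvPolynomial.C : R →+* MvPolynomial (ULift.{u} (Fin d)) R))) z = d := by
  rw [fibreDimAt_SpecMap]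
  let e : MvPolynomial (Fin d) R ≃ₐ[R] MvPolynomial (ULift.{u} (Fin d)) R :=
    MvPolynomial.renameEquiv R Equiv.ulift.symm
  have h1 := H79FibLocDimBC.fibLocDim_algEquiv (R := R) e z
  have h2 := fibLocDim_mvPolynomial R d (PrimeSpectrum.comap (e : MvPolynomial (Fin d) R →+*
    MvPolynomial (ULift.{u} (Fin d)) R) z)
  rw [h2] at h1
  exact h1

/-- The fibres of `𝔸^d_Y → Y` have local dimension `d` everywhere. -/
theorem fibreDimAt_affineSpace_over (d : ℕ) (Y : Scheme.{u}) (z : 𝔸(ULift.{u} (Fin d); Y)) :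
    FlatMor.fibreDimAt (𝔸(ULift.{u} (Fin d); Y) ↘ Y) z = d := by
  obtain ⟨_, ⟨U, hU, rfl⟩, hzU, -⟩ := Y.isBasis_affineOpens.exists_subset_of_mem_open
    (Set.mem_univ ((𝔸(ULift.{u} (Fin d); Y) ↘ Y) z)) isOpen_univ
  have sq := AffineSpace.isPullback_map (n := ULift.{u} (Fin d)) hU.fromSpec
  have hopen : IsOpenImmersion (AffineSpace.map (ULift.{u} (Fin d)) hU.fromSpec) :=
    isOpenImmersion_affineSpace_map _ _
  have hmem : (𝔸(ULift.{u} (Fin d); Y) ↘ Y) z ∈ Set.range hU.fromSpec := by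
    rw [hU.range_fromSpec]; exact hzU
  obtain ⟨y', hy'⟩ := hmem
  obtain ⟨z', hz'1, -⟩ := Scheme.exists_preimage_of_isPullback sq z y' hy'.symm
  have hz' : AffineSpace.map (ULift.{u} (Fin d)) hU.fromSpec z' = z := hz'1
  rw [← hz', ← fibreDimAt_of_comm (𝔸(ULift.{u} (Fin d); Spec Γ(Y, U)) ↘ Spec Γ(Y, U))
    (𝔸(ULift.{u} (Fin d); Y) ↘ Y)
    (AffineSpace.map (ULift.{u} (Fin d)) hU.fromSpec) hU.fromSpec sq.w.symm z']
  have w : (𝔸(ULift.{u} (Fin d); Spec Γ(Y, U)) ↘ Spec Γ(Y, U)) ≫ 𝟙 _ =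
      (AffineSpace.SpecIso (ULift.{u} (Fin d)) Γ(Y, U)).hom ≫
      Spec.map (CommRingCat.ofHom (MvPolynomial.C : Γ(Y, U) →+* MvPolynomial _ Γ(Y, U))) := by
    rw [Category.comp_id, ← Iso.inv_comp_eq, AffineSpace.SpecIso_inv_over]
  rw [fibreDimAt_of_comm _ _ (AffineSpace.SpecIso (ULift.{u} (Fin d)) Γ(Y, U)).hom (𝟙 _) w z']
  exact fibreDimAt_Spec_mvPolynomial d _ _

end FibDim

section Chart

/-- The number of coordinates of a quasi-finite flat chart is the local dimension of the fibre. -/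
theorem chart_dim_eq {X Y : Scheme.{u}} (f : X ⟶ Y) [LocallyOfFiniteType f] (x : X) (n : ℕ)
    (U : X.Opens) (hx : x ∈ U) (g : (U : Scheme.{u}) ⟶ 𝔸(ULift.{u} (Fin n); Y))
    (hg : g ≫ (𝔸(ULift.{u} (Fin n); Y) ↘ Y) = U.ι ≫ f) [LocallyQuasiFinite g]
    (hfl : (g.stalkMap ⟨x, hx⟩).hom.Flat) : FlatMor.fibreDimAt f x = n := by
  have hlft : LocallyOfFiniteType (g ≫ (𝔸(ULift.{u} (Fin n); Y) ↘ Y)) := by
    rw [hg]; infer_instance
  have hglft : LocallyOfFiniteType g := locallyOfFiniteType_of_comp g (𝔸(ULift.{u} (Fin n); Y) ↘ Y)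
  have h1 : FlatMor.fibreDimAt (U.ι ≫ f) ⟨x, hx⟩ = FlatMor.fibreDimAt f x :=
    H56OpenDim.fibreDimAt_ι_comp f U ⟨x, hx⟩
  have h2 := (H79FibDimComp.fibreDimAt_comp g (𝔸(ULift.{u} (Fin n); Y) ↘ Y) ⟨x, hx⟩).2 hfl
  have h3 : FlatMor.fibreDimAt g ⟨x, hx⟩ = 0 :=
    (QFAt91.fibreDimAt_eq_zero_iff g ⟨x, hx⟩).mpr (g.quasiFiniteAt _)
  have h4 := fibreDimAt_affineSpace_over n Y (g ⟨x, hx⟩)
  rw [← h1, ← hg, h2, h3, zero_add]
  exact h4

end Chart

end Groth.Agent.Lib.CMQF33
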