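import Mathlib
import Groth.Agent.Lib.CMQF33l

/-!
# The fibre dimension of a flat finitely presented algebra with Cohen–Macaulay fibres is locally
constant (helper33)
-/

set_option autoImplicit false
universe u

open IsLocalRing Groth.Agent.Lib TensorProduct CategoryTheory AlgebraicGeometry
open Groth.Agent.Lib.H56LocDim Groth.Agent.Lib.CMQF33

namespace Groth.Agent.Lib.CMDimDecomp33

variable (R S : Type u) [CommRing R] [CommRing S] [Algebra R S]

/-- A flat algebra with Cohen–Macaulay fibre rings is Cohen–Macaulay at every point. -/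
theorem isCMAt_of_fiber_isCM [Module.Flat R S]
    (hCM : ∀ p : PrimeSpectrum R, LocCoh.IsCohenMacaulayRing (p.asIdeal.Fiber S))
    (q : PrimeSpectrum S) :
    MoreMor.IsCMAt (Spec.map (CommRingCat.ofHom (algebraMap R S))) q := by
  rw [isCMAt_Spec_iff, fibCM_iff]
  refine ⟨?_, ?_⟩
  · have h1 : Module.Flat R (LocalizedModule q.asIdeal.primeCompl S) := by
      have : Module.Flat S (LocalizedModule q.asIdeal.primeCompl S) :=
        inferInstance
      exact Module.Flat.trans R S _
    exact (flat_localRingHom_iff (P := R) q.asIdeal).mpr h1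
  · set p : Ideal R := q.asIdeal.under R with hp
    obtain ⟨Q, hQprime, hQ⟩ := exists_fiber_prime p q.asIdeal rfl
    have h1 : LocCoh.IsCohenMacaulayLocalRing (Localization.AtPrime Q) :=
      (hCM ⟨p, inferInstance⟩).isCohenMacaulayLocalRing_localization Q
    have h2 := (isCM_localization_fiber_iff p Q).mp h1
    have h3 := cm_fibre_congr p hQ h2
    have h4 := map_localRingHom_maximalIdeal (R := R) (S := S) p q.asIdeal rfl
    change LocCoh.IsCohenMacaulayLocalRing (Localization.AtPrime q.asIdeal ⧸
      Ideal.map (Localization.localRingHom p q.asIdeal (algebraMap R S) rfl)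
        (maximalIdeal (Localization.AtPrime p)))
    rw [h4]
    exact h3

/-- The local dimension of the fibres is a locally constant natural number. -/
theorem exists_locallyConstant_fibLocDim [Module.Flat R S] [Algebra.FinitePresentation R S]
    (hCM : ∀ p : PrimeSpectrum R, LocCoh.IsCohenMacaulayRing (p.asIdeal.Fiber S)) :
    ∃ δ : PrimeSpectrum S → ℕ, IsLocallyConstant δ ∧
      ∀ q, fibLocDim (PrimeSpectrum.comap (algebraMap R S)) q = (δ q : WithBot ℕ∞) := by
  classical
  set f : Spec (CommRingCat.of S) ⟶ Spec (CommRingCat.of R) :=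
    Spec.map (CommRingCat.ofHom (algebraMap R S)) with hf
  have hfp : LocallyOfFinitePresentation f := by
    rw [hf, HasRingHomProperty.Spec_iff (P := @LocallyOfFinitePresentation)]
    change (algebraMap R S).FinitePresentation
    exact RingHom.finitePresentation_algebraMap.mpr inferInstance
  have key : ∀ q : PrimeSpectrum S, ∃ (n : ℕ) (U : Set (PrimeSpectrum S)), IsOpen U ∧ q ∈ U ∧
      ∀ q' ∈ U, fibLocDim (PrimeSpectrum.comap (algebraMap R S)) q' = (n : WithBot ℕ∞) := by
    intro q
    have hcm := isCMAt_of_fiber_isCM R S hCM q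
    obtain ⟨n, U, hqU, g, hg, hqf, hfl⟩ := HasQFChart.exists_opens f q (hasQFChart f q hcm)
    refine ⟨n, U.1, U.2, hqU, fun q' hq' => ?_⟩
    have h1 := chart_dim_eq f q' n U hq' g hg (Flat.stalkMap g ⟨q', hq'⟩)
    rw [← h1, hf, fibreDimAt_SpecMap]
    rfl
  choose n U hUo hqU hU using key
  refine ⟨n, ?_, fun q => hU q q (hqU q)⟩
  rw [IsLocallyConstant.iff_exists_open]
  intro q
  refine ⟨U q, hUo q, hqU q, fun q' hq' => ?_⟩
  have h1 := hU q q' hq'
  have h2 := hU q' q' (hqU q')
  rw [h1] at h2
  exact_mod_cast h2.symm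

end Groth.Agent.Lib.CMDimDecomp33
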