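import Mathlib
import Groth.Agent.Lib.CMFieldExt33
import Groth.Agent.Lib.H56LocDim
import Groth.Agent.Lib.H56FibDimSmooth

/-!
# Quotients by idempotents and fibres; dimension of components via local dimension (helper33)
-/

set_option autoImplicit false
universe u

open TensorProduct Groth.Agent.Lib.H56LocDim

namespace Groth.Agent.Lib.CMDimDecomp33

section Idem

variable (R : Type u) {S : Type u} [CommRing R] [CommRing S] [Algebra R S] {e : S}

theorem flat_quotient_idempotent [Module.Flat R S] (he : IsIdempotentElem e) :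
    Module.Flat R (S ⧸ Ideal.span {1 - e}) := by
  have : IsLocalization.Away e (S ⧸ Ideal.span {1 - e}) :=
    IsLocalization.Away.quotient_of_isIdempotentElem he
  have : Module.Flat S (S ⧸ Ideal.span {1 - e}) := IsLocalization.flat _ (Submonoid.powers e)
  exact Module.Flat.trans R S _

theorem finitePresentation_quotient_idempotent [Algebra.FinitePresentation R S] (e : S) :
    Algebra.FinitePresentation R (S ⧸ Ideal.span {1 - e}) :=
  Algebra.FinitePresentation.quotient ⟨{1 - e}, by simp⟩

/-- The fibre rings of `S ⧸ (1 - e)` are localizations of the fibre rings of `S`. -/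
theorem isCohenMacaulayRing_fiber_quotient_idempotent (he : IsIdempotentElem e) (p : Ideal R)
    [p.IsPrime] [hF : LocCoh.IsCohenMacaulayRing (p.Fiber S)] :
    LocCoh.IsCohenMacaulayRing (p.Fiber (S ⧸ Ideal.span {1 - e})) := by
  set ι : S →ₐ[R] p.Fiber S := Algebra.TensorProduct.includeRight with hι
  have hē : IsIdempotentElem (ι e) := he.map ι
  have hloc : IsLocalization.Away (ι e) (p.Fiber S ⧸ Ideal.span {1 - ι e}) :=
    IsLocalization.Away.quotient_of_isIdempotentElem hē
  have hCM : LocCoh.IsCohenMacaulayRing (p.Fiber S ⧸ Ideal.span {1 - ι e}) :=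
    CMFieldExt33.isCohenMacaulayRing_of_isLocalization (Submonoid.powers (ι e)) _
  let e1 := Algebra.TensorProduct.tensorQuotientEquiv (R := R) p.ResidueField S p.ResidueField
    (Ideal.span {1 - e})
  have hmap : (Ideal.span {1 - e}).map (Algebra.TensorProduct.includeRight :
      S →ₐ[R] p.ResidueField ⊗[R] S) = Ideal.span {1 - ι e} := by
    rw [Ideal.map_span, Set.image_singleton, map_sub, map_one]
  let e2 : ((p.ResidueField ⊗[R] S) ⧸ (Ideal.span {1 - e}).map
      (Algebra.TensorProduct.includeRight : S →ₐ[R] p.ResidueField ⊗[R] S)) ≃+*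
      (p.Fiber S ⧸ Ideal.span {1 - ι e}) := Ideal.quotEquivOfEq hmap
  have e3 : (p.Fiber S ⧸ Ideal.span {1 - ι e}) ≃+* p.Fiber (S ⧸ Ideal.span {1 - e}) :=
    (e1.toRingEquiv.trans e2).symm
  exact CMRingEquiv96.isCohenMacaulayRing_of_ringEquiv
    (R := p.Fiber S ⧸ Ideal.span {1 - ι e}) (R' := p.Fiber (S ⧸ Ideal.span {1 - e})) e3

/-- Fibre dimensions of `S ⧸ (1 - e)` agree with those of `S`. -/
theorem fibLocDim_quotient_idempotent (he : IsIdempotentElem e)
    (q' : PrimeSpectrum (S ⧸ Ideal.span {1 - e})) :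
    fibLocDim (PrimeSpectrum.comap (algebraMap R (S ⧸ Ideal.span {1 - e}))) q' =
      fibLocDim (PrimeSpectrum.comap (algebraMap R S))
        (PrimeSpectrum.comap (Ideal.Quotient.mk (Ideal.span {1 - e})) q') := by
  have : IsLocalization.Away e (S ⧸ Ideal.span {1 - e}) :=
    IsLocalization.Away.quotient_of_isIdempotentElem he
  have hj : Topology.IsOpenEmbedding (PrimeSpectrum.comap
      (algebraMap S (S ⧸ Ideal.span {1 - e}))) :=
    PrimeSpectrum.localization_away_isOpenEmbedding (S ⧸ Ideal.span {1 - e}) e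
  refine fibLocDim_eq_of_square hj (i := id) Function.injective_id _ _ (fun x' => ?_) q'
  rw [← PrimeSpectrum.comap_comp_apply, ← IsScalarTower.algebraMap_eq]
  rfl

end Idem

end Groth.Agent.Lib.CMDimDecomp33
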