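import Mathlib
import Groth.Agent.Lib.H56LocDim
import Groth.Agent.Lib.H56FibDimSmooth
import Groth.Agent.Lib.TopKrullDim

/-!
# Local dimension at the generic point of an irreducible component (helper33)

For a finite type algebra `F` over a field and a minimal prime `P` of `F`, the local dimension of
`Spec F` at `P` equals `dim F ⧸ P`.
-/

set_option autoImplicit false
universe u

open TensorProduct Groth.Agent.Lib.H56LocDim

namespace Groth.Agent.Lib.CMDimDecomp33

/-- Lower bound: for a prime `P` of a finite type algebra over a field, the local dimension at `P`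
is at least `dim F ⧸ P`. -/
theorem ringKrullDim_quotient_le_localDim (k F : Type u) [Field k] [CommRing F] [Algebra k F]
    [Algebra.FiniteType k F] (P : PrimeSpectrum F) :
    ringKrullDim (F ⧸ P.asIdeal) ≤ FlatMor.localDim (PrimeSpectrum F) P := by
  apply le_localDim_primeSpectrum
  intro h hh
  have hne : Ideal.Quotient.mk P.asIdeal h ≠ 0 := by
    rwa [Ne, Ideal.Quotient.eq_zero_iff_mem]
  have hdom : IsDomain (F ⧸ P.asIdeal) := Ideal.Quotient.isDomain P.asIdeal
  rw [← ringKrullDim_away_eq k (F ⧸ P.asIdeal) _ hne]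
  refine ringKrullDim_le_of_surjective (Localization.awayMap (Ideal.Quotient.mk P.asIdeal) h) ?_
  rw [Localization.awayMap_surjective_iff]
  intro a
  obtain ⟨b, rfl⟩ := Ideal.Quotient.mk_surjective a
  exact ⟨b, 0, by simp⟩

/-- Upper bound at a minimal prime of a Noetherian ring. -/
theorem localDim_le_ringKrullDim_quotient_of_mem_minimalPrimes {F : Type u} [CommRing F]
    [IsNoetherianRing F] (P : PrimeSpectrum F) (hP : P.asIdeal ∈ minimalPrimes F) :
    FlatMor.localDim (PrimeSpectrum F) P ≤ ringKrullDim (F ⧸ P.asIdeal) := by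
  classical
  have hfin : (minimalPrimes F).Finite := minimalPrimes.finite_of_isNoetherianRing F
  set T : Finset (Ideal F) := hfin.toFinset.erase P.asIdeal with hT
  have hex : ∃ g, (∀ Q ∈ T, g ∈ Q) ∧ g ∉ P.asIdeal := by
    by_contra hcon
    push Not at hcon
    have hle : T.inf id ≤ P.asIdeal := by
      intro g hg
      apply hcon g
      intro Q hQ
      exact (Finset.inf_le hQ : T.inf id ≤ id Q) hg
    obtain ⟨Q, hQT, hQP⟩ := (Ideal.IsPrime.inf_le' P.2).mp hle
    have hQmin : Q ∈ minimalPrimes F := hfin.mem_toFinset.mp (Finset.mem_of_mem_erase hQT)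
    have : Q = P.asIdeal := le_antisymm hQP (hP.2 ⟨hQmin.1.1, bot_le⟩ hQP)
    exact (Finset.ne_of_mem_erase hQT) this
  obtain ⟨g, hgT, hgP⟩ := hex
  have hsub : (PrimeSpectrum.basicOpen g : Set (PrimeSpectrum F)) ⊆
      Set.range (PrimeSpectrum.comap (Ideal.Quotient.mk P.asIdeal)) := by
    rw [range_comap_of_surjective _ _ Ideal.Quotient.mk_surjective, Ideal.mk_ker]
    intro q hq
    rw [PrimeSpectrum.mem_zeroLocus]
    obtain ⟨Q, hQ, hQq⟩ := Ideal.exists_minimalPrimes_le (bot_le : ⊥ ≤ q.asIdeal)
    by_cases hQP : Q = P.asIdeal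
    · rw [← hQP]; exact hQq
    · exfalso
      apply hq
      exact hQq (hgT Q (Finset.mem_erase.mpr ⟨hQP, hfin.mem_toFinset.mpr hQ⟩))
  refine (Groth.Agent.Lib.TopKrullDim.localDim_le_dim_open P (PrimeSpectrum.basicOpen g)
    hgP).trans ?_
  have h1 : topologicalKrullDim (PrimeSpectrum.basicOpen g : Set (PrimeSpectrum F)) ≤
      topologicalKrullDim (Set.range (PrimeSpectrum.comap (Ideal.Quotient.mk P.asIdeal))) :=
    (Topology.IsEmbedding.inclusion hsub).isInducing.topologicalKrullDim_le
  refine h1.trans ?_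
  have hemb := (PrimeSpectrum.isClosedEmbedding_comap_of_surjective _ _
    (Ideal.Quotient.mk_surjective (I := P.asIdeal))).isEmbedding
  rw [← PrimeSpectrum.topologicalKrullDim_eq_ringKrullDim]
  exact le_of_eq (IsHomeomorph.topologicalKrullDim_eq _ hemb.toHomeomorph.isHomeomorph).symm

/-- The local dimension at the generic point of an irreducible component. -/
theorem localDim_eq_ringKrullDim_quotient_of_mem_minimalPrimes (k F : Type u) [Field k]
    [CommRing F] [Algebra k F] [Algebra.FiniteType k F] (P : PrimeSpectrum F)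
    (hP : P.asIdeal ∈ minimalPrimes F) :
    FlatMor.localDim (PrimeSpectrum F) P = ringKrullDim (F ⧸ P.asIdeal) := by
  have : IsNoetherianRing F := Algebra.FiniteType.isNoetherianRing k F
  exact le_antisymm (localDim_le_ringKrullDim_quotient_of_mem_minimalPrimes P hP)
    (ringKrullDim_quotient_le_localDim k F P)

end Groth.Agent.Lib.CMDimDecomp33
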