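/-
helper8: the depth lemma for short exact sequences (via helper29's Ext characterization), and
`depth R/(𝔞 ⊓ 𝔟) ≥ min (depth R/𝔞, depth R/𝔟, depth R/(𝔞 ⊔ 𝔟) + 1)`.
-/
import Mathlib
import Groth.Agent.Lib.H29Depth

set_option autoImplicit false
universe u

namespace Groth.Agent.Lib.H8DepthLemma

open CategoryTheory Abelian Groth.Agent.Lib.H29Depth

variable {R : Type u} [CommRing R] [IsNoetherianRing R] (I : Ideal R)
variable {M₁ M₂ M₃ : Type u} [AddCommGroup M₁] [Module R M₁] [AddCommGroup M₂] [Module R M₂]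
  [AddCommGroup M₃] [Module R M₃] [Module.Finite R M₁] [Module.Finite R M₂] [Module.Finite R M₃]

/-- Depth lemma, middle term: `depth M₂ ≥ min (depth M₁) (depth M₃)`. -/
theorem le_idealDepth_middle (f : M₁ →ₗ[R] M₂) (g : M₂ →ₗ[R] M₃) (hf : Function.Injective f)
    (hfg : Function.Exact f g) (hg : Function.Surjective g) (n : ℕ)
    (h₁ : (n : ℕ∞) ≤ LocCoh.idealDepth I M₁) (h₃ : (n : ℕ∞) ≤ LocCoh.idealDepth I M₃) :
    (n : ℕ∞) ≤ LocCoh.idealDepth I M₂ := by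
  have eq0 : g.comp f = 0 := by
    ext x; exact hfg.apply_apply_eq_zero x
  have hS : (ModuleCat.shortComplexOfCompEqZero f g eq0).ShortExact :=
    ModuleCat.shortComplex_shortExact _ hfg hf hg
  rw [le_idealDepth_iff_ext' I M₂ n]
  intro i hi
  exact subsingleton_ext_X₂ hS _ i ((le_idealDepth_iff_ext' I M₁ n).mp h₁ i hi)
    ((le_idealDepth_iff_ext' I M₃ n).mp h₃ i hi)

/-- Depth lemma, left term: `depth M₁ ≥ min (depth M₂) (depth M₃ + 1)`. -/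
theorem le_idealDepth_left (f : M₁ →ₗ[R] M₂) (g : M₂ →ₗ[R] M₃) (hf : Function.Injective f)
    (hfg : Function.Exact f g) (hg : Function.Surjective g) (n : ℕ)
    (h₂ : (n : ℕ∞) ≤ LocCoh.idealDepth I M₂) (h₃ : (n : ℕ∞) ≤ LocCoh.idealDepth I M₃ + 1) :
    (n : ℕ∞) ≤ LocCoh.idealDepth I M₁ := by
  have eq0 : g.comp f = 0 := by
    ext x; exact hfg.apply_apply_eq_zero x
  have hS : (ModuleCat.shortComplexOfCompEqZero f g eq0).ShortExact :=
    ModuleCat.shortComplex_shortExact _ hfg hf hg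
  rw [le_idealDepth_iff_ext' I M₁ n]
  intro i hi
  rcases i with _ | j
  · exact subsingleton_ext_X₁_zero hS _ ((le_idealDepth_iff_ext' I M₂ n).mp h₂ 0 hi)
  · have h3' : ((j + 1 : ℕ) : ℕ∞) ≤ LocCoh.idealDepth I M₃ := by
      have h4 : ((j + 1 : ℕ) : ℕ∞) + 1 ≤ LocCoh.idealDepth I M₃ + 1 := by
        refine le_trans ?_ h₃
        exact_mod_cast hi
      exact (ENat.add_le_add_iff_right ENat.one_ne_top).mp h4
    exact subsingleton_ext_X₁_succ hS _ j ((le_idealDepth_iff_ext' I M₂ n).mp h₂ (j + 1) hi)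
      ((le_idealDepth_iff_ext' I M₃ (j + 1)).mp h3' j (Nat.lt_succ_self j))

end Groth.Agent.Lib.H8DepthLemma

namespace Groth.Agent.Lib.H8DepthLemma

variable {R : Type u} [CommRing R] [IsNoetherianRing R] (I : Ideal R)

/-- Depth of a product. -/
theorem le_idealDepth_prod {M N : Type u} [AddCommGroup M] [Module R M] [AddCommGroup N]
    [Module R N] [Module.Finite R M] [Module.Finite R N] (n : ℕ)
    (hM : (n : ℕ∞) ≤ LocCoh.idealDepth I M) (hN : (n : ℕ∞) ≤ LocCoh.idealDepth I N) :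
    (n : ℕ∞) ≤ LocCoh.idealDepth I (M × N) := by
  refine le_idealDepth_middle I (LinearMap.inl R M N) (LinearMap.snd R M N)
    LinearMap.inl_injective ?_ LinearMap.snd_surjective n hM hN
  intro x
  constructor
  · intro h
    refine ⟨x.1, ?_⟩
    ext
    · simp
    · simpa using h.symm
  · rintro ⟨y, rfl⟩
    simp

/-- `depth R/(𝔞 ⊓ 𝔟) ≥ min (depth R/𝔞) (depth R/𝔟) (depth R/(𝔞 ⊔ 𝔟) + 1)`. -/
theorem le_idealDepth_quotient_inf (𝔞 𝔟 : Ideal R) (n : ℕ)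
    (h𝔞 : (n : ℕ∞) ≤ LocCoh.idealDepth I (R ⧸ 𝔞)) (h𝔟 : (n : ℕ∞) ≤ LocCoh.idealDepth I (R ⧸ 𝔟))
    (h𝔞𝔟 : (n : ℕ∞) ≤ LocCoh.idealDepth I (R ⧸ (𝔞 ⊔ 𝔟)) + 1) :
    (n : ℕ∞) ≤ LocCoh.idealDepth I (R ⧸ (𝔞 ⊓ 𝔟)) := by
  let f1 : (R ⧸ (𝔞 ⊓ 𝔟)) →ₗ[R] (R ⧸ 𝔞) :=
    Submodule.liftQ (𝔞 ⊓ 𝔟) (Submodule.mkQ 𝔞) (by
      intro x hx
      rw [LinearMap.mem_ker, Submodule.mkQ_apply, Submodule.Quotient.mk_eq_zero]
      exact hx.1)
  let f2 : (R ⧸ (𝔞 ⊓ 𝔟)) →ₗ[R] (R ⧸ 𝔟) :=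
    Submodule.liftQ (𝔞 ⊓ 𝔟) (Submodule.mkQ 𝔟) (by
      intro x hx
      rw [LinearMap.mem_ker, Submodule.mkQ_apply, Submodule.Quotient.mk_eq_zero]
      exact hx.2)
  let g1 : (R ⧸ 𝔞) →ₗ[R] (R ⧸ (𝔞 ⊔ 𝔟)) :=
    Submodule.liftQ 𝔞 (Submodule.mkQ (𝔞 ⊔ 𝔟)) (by
      intro x hx
      rw [LinearMap.mem_ker, Submodule.mkQ_apply, Submodule.Quotient.mk_eq_zero]
      exact Ideal.mem_sup_left hx)
  let g2 : (R ⧸ 𝔟) →ₗ[R] (R ⧸ (𝔞 ⊔ 𝔟)) :=
    Submodule.liftQ 𝔟 (Submodule.mkQ (𝔞 ⊔ 𝔟)) (by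
      intro x hx
      rw [LinearMap.mem_ker, Submodule.mkQ_apply, Submodule.Quotient.mk_eq_zero]
      exact Ideal.mem_sup_right hx)
  let f : (R ⧸ (𝔞 ⊓ 𝔟)) →ₗ[R] (R ⧸ 𝔞) × (R ⧸ 𝔟) := f1.prod f2
  let g : (R ⧸ 𝔞) × (R ⧸ 𝔟) →ₗ[R] (R ⧸ (𝔞 ⊔ 𝔟)) :=
    g1.comp (LinearMap.fst R _ _) - g2.comp (LinearMap.snd R _ _)
  have hf1 : ∀ x : R, f1 (Submodule.Quotient.mk x) = Submodule.Quotient.mk x := fun x => rfl
  have hf2 : ∀ x : R, f2 (Submodule.Quotient.mk x) = Submodule.Quotient.mk x := fun x => rfl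
  have hg1 : ∀ x : R, g1 (Submodule.Quotient.mk x) = Submodule.Quotient.mk x := fun x => rfl
  have hg2 : ∀ x : R, g2 (Submodule.Quotient.mk x) = Submodule.Quotient.mk x := fun x => rfl
  refine le_idealDepth_left I f g ?_ ?_ ?_ n (le_idealDepth_prod I n h𝔞 h𝔟) h𝔞𝔟
  · -- injective
    rw [← LinearMap.ker_eq_bot, LinearMap.ker_eq_bot']
    intro x hx
    obtain ⟨a, rfl⟩ := Submodule.Quotient.mk_surjective _ x
    have h1 : f1 (Submodule.Quotient.mk a) = 0 := congrArg Prod.fst hx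
    have h2 : f2 (Submodule.Quotient.mk a) = 0 := congrArg Prod.snd hx
    rw [hf1, Submodule.Quotient.mk_eq_zero] at h1
    rw [hf2, Submodule.Quotient.mk_eq_zero] at h2
    rw [Submodule.Quotient.mk_eq_zero]
    exact ⟨h1, h2⟩
  · -- exact
    rintro ⟨y, z⟩
    obtain ⟨a, rfl⟩ := Submodule.Quotient.mk_surjective _ y
    obtain ⟨b, rfl⟩ := Submodule.Quotient.mk_surjective _ z
    constructor
    · intro h
      have h' : (Submodule.Quotient.mk (a - b) : R ⧸ (𝔞 ⊔ 𝔟)) = 0 := by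
        have : g1 (Submodule.Quotient.mk a) - g2 (Submodule.Quotient.mk b) = 0 := h
        rw [hg1, hg2, ← Submodule.Quotient.mk_sub] at this
        exact this
      rw [Submodule.Quotient.mk_eq_zero] at h'
      obtain ⟨u, hu, v, hv, huv⟩ := Submodule.mem_sup.mp h'
      refine ⟨Submodule.Quotient.mk (a - u), ?_⟩
      refine Prod.ext ?_ ?_
      · change f1 (Submodule.Quotient.mk (a - u)) = _
        rw [hf1, Submodule.Quotient.eq]
        simpa using 𝔞.neg_mem hu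
      · change f2 (Submodule.Quotient.mk (a - u)) = _
        rw [hf2, Submodule.Quotient.eq]
        have : a - u - b = v := by linear_combination -huv
        rw [this]; exact hv
    · rintro ⟨x, hx⟩
      obtain ⟨c, rfl⟩ := Submodule.Quotient.mk_surjective _ x
      have h1 : f1 (Submodule.Quotient.mk c) = Submodule.Quotient.mk a := congrArg Prod.fst hx
      have h2 : f2 (Submodule.Quotient.mk c) = Submodule.Quotient.mk b := congrArg Prod.snd hx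
      change g1 (Submodule.Quotient.mk a) - g2 (Submodule.Quotient.mk b) = 0
      rw [← h1, ← h2, hf1, hf2, hg1, hg2, sub_self]
  · -- surjective
    intro w
    obtain ⟨c, rfl⟩ := Submodule.Quotient.mk_surjective _ w
    refine ⟨(Submodule.Quotient.mk c, 0), ?_⟩
    change g1 (Submodule.Quotient.mk c) - g2 0 = _
    rw [hg1, map_zero, sub_zero]

end Groth.Agent.Lib.H8DepthLemma
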