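import Groth.Agent.Lib.H8GradedCM
import Groth.Agent.Lib.H8DepthLemma
import Groth.Agent.Lib.H14CMQuot
import Groth.Agent.Lib.H8CM10
import Groth.Agent.Lib.CMRingEquiv96

/-!
# Gluing Cohen–Macaulay rings (global forms)

* `isCMLocalRing_atPrime_of_isLocalization`: primes of a localization `L = M⁻¹A` of `A`: `A_q ≅ L_{qL}`.
* `isCMRing_of_forall_isMaximal`: Cohen–Macaulay can be tested at maximal ideals.
* `isCMLocalRing_of_quotient_regular`: `R/(x)` CM local with `x` regular in the maximal ideal ⇒ `R` CM local.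
* `isCMRing_of_quotient_of_away`: `A` domain, `x ≠ 0`, `A/(x)` and `A[1/x]` CM ⇒ `A` CM.
* `isCMRing_quotient_inf`: `A/I`, `A/J`, `A/(I+J)` CM with the right local dimensions ⇒ `A/(I ∩ J)` CM.
-/

set_option autoImplicit false
set_option linter.unusedSectionVars false
universe u

namespace Groth.Agent.Lib.CMGlue

open LocCoh IsLocalRing Pointwise

variable {A : Type u} [CommRing A]

/-- If `L = M⁻¹A` is a Cohen–Macaulay ring and `q` is a prime of `A` disjoint from `M`, then `A_q` is a
Cohen–Macaulay local ring. -/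
theorem isCMLocalRing_atPrime_of_isLocalization (M : Submonoid A) (L : Type u) [CommRing L]
    [Algebra A L] [IsLocalization M L] [hL : IsCohenMacaulayRing L] (q : Ideal A) [hq : q.IsPrime]
    (hd : Disjoint (M : Set A) (q : Set A)) :
    IsCohenMacaulayLocalRing (Localization.AtPrime q) := by
  have hq' : (q.map (algebraMap A L)).IsPrime := IsLocalization.isPrime_of_isPrime_disjoint M L q hq hd
  have hcomap : (q.map (algebraMap A L)).comap (algebraMap A L) = q :=
    IsLocalization.under_map_of_isPrime_disjoint M L hq hd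
  let T := Localization.AtPrime (q.map (algebraMap A L))
  have h1 : IsLocalization.AtPrime T ((q.map (algebraMap A L)).comap (algebraMap A L)) :=
    IsLocalization.isLocalization_isLocalization_atPrime_isLocalization M T (q.map (algebraMap A L))
  have h2 : IsLocalization.AtPrime T q := by
    have : ((q.map (algebraMap A L)).comap (algebraMap A L)).primeCompl = q.primeCompl := by
      ext x
      simp only [Ideal.primeCompl, Submonoid.mem_mk, Subsemigroup.mem_mk, Set.mem_compl_iff,
        SetLike.mem_coe, hcomap]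
    unfold IsLocalization.AtPrime at h1 ⊢
    rwa [this] at h1
  have hT : IsCohenMacaulayLocalRing T := hL.isCohenMacaulayLocalRing_localization _
  let e : T ≃ₐ[A] Localization.AtPrime q :=
    IsLocalization.algEquiv q.primeCompl T (Localization.AtPrime q)
  exact Groth.Agent.Lib.CMRingEquiv96.isCohenMacaulayLocalRing_of_ringEquiv e.toRingEquiv

/-- A localization of a Cohen–Macaulay ring is a Cohen–Macaulay ring. -/
theorem isCMRing_of_isLocalization (M : Submonoid A) (L : Type u) [CommRing L]
    [Algebra A L] [IsLocalization M L] [hA : IsCohenMacaulayRing A] : IsCohenMacaulayRing L := by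
  have hN : IsNoetherianRing L := IsLocalization.isNoetherianRing M L inferInstance
  refine ⟨fun p hp => ?_⟩
  have hq : (p.comap (algebraMap A L)).IsPrime := Ideal.comap_isPrime _ _
  have h1 : IsLocalization.AtPrime (Localization.AtPrime p) (p.comap (algebraMap A L)) :=
    IsLocalization.isLocalization_isLocalization_atPrime_isLocalization M (Localization.AtPrime p) p
  have hT : IsCohenMacaulayLocalRing (Localization.AtPrime (p.comap (algebraMap A L))) :=
    hA.isCohenMacaulayLocalRing_localization _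
  let e : Localization.AtPrime (p.comap (algebraMap A L)) ≃ₐ[A] Localization.AtPrime p :=
    IsLocalization.algEquiv (p.comap (algebraMap A L)).primeCompl _ _
  exact Groth.Agent.Lib.CMRingEquiv96.isCohenMacaulayLocalRing_of_ringEquiv e.toRingEquiv

/-- The Cohen–Macaulay property can be tested at the maximal ideals. -/
theorem isCMRing_of_forall_isMaximal [IsNoetherianRing A]
    (h : ∀ (m : Ideal A) [m.IsMaximal], IsCohenMacaulayLocalRing (Localization.AtPrime m)) :
    IsCohenMacaulayRing A := by
  refine ⟨fun p hp => ?_⟩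
  obtain ⟨m, hm, hpm⟩ := Ideal.exists_le_maximal p hp.ne_top
  have h1 := h m
  have h2 : IsCohenMacaulayRing (Localization.AtPrime m) :=
    Groth.Agent.Lib.H8CM.isCMRing_of_isCMLocalRing
  refine isCMLocalRing_atPrime_of_isLocalization m.primeCompl (Localization.AtPrime m) p ?_
  rw [Set.disjoint_left]
  intro x hx hxp
  exact hx (hpm hxp)

/-- If `x` is a regular element of the maximal ideal of the Noetherian local ring `R` and `R/(x)` is a
Cohen–Macaulay local ring, then so is `R`. -/
theorem isCMLocalRing_of_quotient_regular (R : Type u) [CommRing R] [IsNoetherianRing R]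
    [IsLocalRing R] {x : R} (hx : x ∈ maximalIdeal R) (reg : IsSMulRegular R x)
    (h : IsCohenMacaulayLocalRing (R ⧸ Ideal.span {x})) : IsCohenMacaulayLocalRing R := by
  have : IsLocalHom (algebraMap R (R ⧸ Ideal.span {x})) :=
    IsLocalHom.of_surjective _ Ideal.Quotient.mk_surjective
  have hsub : x • (⊤ : Submodule R R) = (Ideal.span {x} : Ideal R) := by
    rw [← Submodule.ideal_span_singleton_smul]
    simp
  have h2 : IsCohenMacaulayModule R (R ⧸ (Ideal.span {x} : Ideal R)) := by
    have h1 := h.supportDim_eq_depth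
    rw [Module.supportDim_self_eq_ringKrullDim] at h1
    unfold IsCohenMacaulayModule
    rw [Module.supportDim_quotient_eq_ringKrullDim, h1,
      Groth.Agent.Lib.H8DepthBC.depth_eq_depth_of_isLocalHom (A := R) (B := R ⧸ Ideal.span {x})]
  have h3 : IsCohenMacaulayModule R (QuotSMulTop x R) :=
    Groth.Agent.Lib.H8CM.isCM_of_equiv (Submodule.quotEquivOfEq _ _ hsub).symm h2
  exact Groth.Agent.Lib.H8CM.isCMLocalRing_of_isCM_self
    (Groth.Agent.Lib.H8CM.isCM_of_quotSMulTop hx reg h3)

/-- `(P/𝔞)` pulls back to `P` when `𝔞 ≤ P`. -/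
lemma comap_map_mk {𝔞 P : Ideal A} (h : 𝔞 ≤ P) :
    (P.map (Ideal.Quotient.mk 𝔞)).comap (Ideal.Quotient.mk 𝔞) = P := by
  rw [Ideal.comap_map_of_surjective _ Ideal.Quotient.mk_surjective, ← RingHom.ker_eq_comap_bot,
    Ideal.mk_ker, sup_eq_left]
  exact h

/-- If `A` is a Noetherian domain, `x ≠ 0`, and both `A/(x)` and `A[1/x]` are Cohen–Macaulay rings, then `A` is
a Cohen–Macaulay ring. -/
theorem isCMRing_of_quotient_of_away [IsDomain A] [IsNoetherianRing A] (x : A) (hx : x ≠ 0)
    (hq : IsCohenMacaulayRing (A ⧸ Ideal.span {x})) (L : Type u) [CommRing L] [Algebra A L]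
    [IsLocalization.Away x L] [hL : IsCohenMacaulayRing L] : IsCohenMacaulayRing A := by
  refine ⟨fun p hp => ?_⟩
  by_cases hxp : x ∈ p
  · have hxm : algebraMap A (Localization.AtPrime p) x ∈ maximalIdeal (Localization.AtPrime p) :=
      (IsLocalization.AtPrime.to_map_mem_maximal_iff _ p _).mpr hxp
    have hinj : Function.Injective (algebraMap A (Localization.AtPrime p)) :=
      IsLocalization.injective _ p.primeCompl_le_nonZeroDivisors
    have hx0 : algebraMap A (Localization.AtPrime p) x ≠ 0 := by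
      intro h0
      exact hx (hinj (by rw [h0, map_zero]))
    have hreg : IsSMulRegular (Localization.AtPrime p) (algebraMap A (Localization.AtPrime p) x) :=
      fun a b h => mul_left_cancel₀ hx0 h
    have hle : Ideal.span {x} ≤ p := by
      rw [Ideal.span_le, Set.singleton_subset_iff]; exact hxp
    have hq' : (p.map (Ideal.Quotient.mk (Ideal.span {x}))).IsPrime :=
      Ideal.isPrime_map_quotientMk_of_isPrime hle
    have hCM : IsCohenMacaulayLocalRing
        (Localization.AtPrime (p.map (Ideal.Quotient.mk (Ideal.span {x})))) :=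
      hq.isCohenMacaulayLocalRing_localization _
    have e := Groth.Agent.Lib.H8GradedCM.localizationQuotientEquiv p (Ideal.span {x})
      (p.map (Ideal.Quotient.mk (Ideal.span {x}))) (comap_map_mk hle)
    have hJ : (Ideal.span {x}).map (algebraMap A (Localization.AtPrime p)) =
        Ideal.span {algebraMap A (Localization.AtPrime p) x} := by
      rw [Ideal.map_span, Set.image_singleton]
    rw [hJ] at e
    have h3 : IsCohenMacaulayLocalRing
        (Localization.AtPrime p ⧸ Ideal.span {algebraMap A (Localization.AtPrime p) x}) :=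
      Groth.Agent.Lib.CMRingEquiv96.isCohenMacaulayLocalRing_of_ringEquiv e
    exact isCMLocalRing_of_quotient_regular (Localization.AtPrime p) hxm hreg h3
  · exact isCMLocalRing_atPrime_of_isLocalization (Submonoid.powers x) L p
      ((Ideal.disjoint_powers_iff_notMem_of_isPrime x).2 hxp)

/-- The local dimension of `A/𝔞` at the prime `P` (`⊥` when `𝔞 ≰ P`). -/
noncomputable abbrev dimAt (𝔞 P : Ideal A) [P.IsPrime] : WithBot ℕ∞ :=
  ringKrullDim (Localization.AtPrime P ⧸ 𝔞.map (algebraMap A (Localization.AtPrime P)))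

lemma map_eq_top_of_not_le {𝔞 P : Ideal A} [P.IsPrime] (h : ¬ 𝔞 ≤ P) :
    𝔞.map (algebraMap A (Localization.AtPrime P)) = ⊤ := by
  by_contra hne
  apply h
  have := (IsLocalization.map_algebraMap_ne_top_iff_disjoint P.primeCompl
    (Localization.AtPrime P) 𝔞).1 hne
  intro x hx
  by_contra hxP
  exact Set.disjoint_left.1 this hxP hx

lemma dimAt_eq_bot_of_not_le {𝔞 P : Ideal A} [P.IsPrime] (h : ¬ 𝔞 ≤ P) : dimAt 𝔞 P = ⊥ := by
  unfold dimAt
  rw [map_eq_top_of_not_le h]
  have : Subsingleton (Localization.AtPrime P ⧸ (⊤ : Ideal (Localization.AtPrime P))) :=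
    Ideal.Quotient.subsingleton_iff.mpr rfl
  exact ringKrullDim_eq_bot_of_subsingleton

lemma depth_eq_top_of_not_le {𝔞 P : Ideal A} [P.IsPrime] (h : ¬ 𝔞 ≤ P) :
    depth (Localization.AtPrime P)
      (Localization.AtPrime P ⧸ 𝔞.map (algebraMap A (Localization.AtPrime P))) = ⊤ := by
  rw [map_eq_top_of_not_le h]
  have : Subsingleton (Localization.AtPrime P ⧸ (⊤ : Ideal (Localization.AtPrime P))) :=
    Ideal.Quotient.subsingleton_iff.mpr rfl
  exact Groth.Agent.Lib.H8CM.depth_eq_top_of_subsingleton _

/-- For a Cohen–Macaulay quotient `A/𝔞` and a prime `P ⊇ 𝔞`: the depth of `A_P/𝔞A_P` is its dimension. -/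
theorem depth_eq_dimAt_of_isCMRing [IsNoetherianRing A] {𝔞 P : Ideal A} [P.IsPrime] (h : 𝔞 ≤ P)
    (hcm : IsCohenMacaulayRing (A ⧸ 𝔞)) :
    ((depth (Localization.AtPrime P)
      (Localization.AtPrime P ⧸ 𝔞.map (algebraMap A (Localization.AtPrime P))) : ℕ∞) : WithBot ℕ∞) =
      dimAt 𝔞 P := by
  have hq : (P.map (Ideal.Quotient.mk 𝔞)).IsPrime := Ideal.isPrime_map_quotientMk_of_isPrime h
  have h1 := Groth.Agent.Lib.H8GradedCM.depth_localization_quotient P 𝔞 _ (comap_map_mk h)
  have h2 := Groth.Agent.Lib.H8GradedCM.ringKrullDim_localization_quotient P 𝔞 _ (comap_map_mk h)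
  have hCM : IsCohenMacaulayLocalRing (Localization.AtPrime (P.map (Ideal.Quotient.mk 𝔞))) :=
    hcm.isCohenMacaulayLocalRing_localization _
  have h3 := hCM.supportDim_eq_depth
  rw [Module.supportDim_self_eq_ringKrullDim] at h3
  unfold dimAt
  rw [← h1, ← h2, h3]

/-- The depth lemma at a prime of `A/(I ⊓ J)`. -/
theorem isCMLocalRing_quotient_inf_aux [IsNoetherianRing A] (I J P : Ideal A) [P.IsPrime]
    (q : Ideal (A ⧸ (I ⊓ J))) [q.IsPrime] (hq : q.comap (Ideal.Quotient.mk (I ⊓ J)) = P) (e : ℕ)
    (hI : (e : ℕ∞) ≤ depth (Localization.AtPrime P)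
      (Localization.AtPrime P ⧸ I.map (algebraMap A (Localization.AtPrime P))))
    (hJ : (e : ℕ∞) ≤ depth (Localization.AtPrime P)
      (Localization.AtPrime P ⧸ J.map (algebraMap A (Localization.AtPrime P))))
    (hIJ : (e : ℕ∞) ≤ depth (Localization.AtPrime P)
      (Localization.AtPrime P ⧸ (I ⊔ J).map (algebraMap A (Localization.AtPrime P))) + 1)
    (hdI : dimAt I P ≤ e) (hdJ : dimAt J P ≤ e) :
    IsCohenMacaulayLocalRing (Localization.AtPrime q) ∧
      ringKrullDim (Localization.AtPrime q) = e := by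
  have hdepth : (e : ℕ∞) ≤ depth (Localization.AtPrime P)
      (Localization.AtPrime P ⧸ (I ⊓ J).map (algebraMap A (Localization.AtPrime P))) := by
    rw [IsLocalization.map_inf P.primeCompl (Localization.AtPrime P) I J]
    refine Groth.Agent.Lib.H8DepthLemma.le_idealDepth_quotient_inf
      (IsLocalRing.maximalIdeal (Localization.AtPrime P)) _ _ e hI hJ ?_
    rw [← Ideal.map_sup]
    exact hIJ
  have h3 := Groth.Agent.Lib.H8GradedCM.depth_localization_quotient P (I ⊓ J) q hq
  rw [← h3] at hdepth
  have hdim : ringKrullDim (Localization.AtPrime q) ≤ (e : WithBot ℕ∞) := by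
    rw [Groth.Agent.Lib.H8GradedCM.ringKrullDim_localization_quotient P (I ⊓ J) q hq,
      IsLocalization.map_inf P.primeCompl (Localization.AtPrime P) I J]
    exact Groth.Agent.Lib.H8GradedCM.ringKrullDim_quotient_inf_le _ _ e hdI hdJ
  have hle := Groth.Agent.Lib.DepthRees.depth_le_supportDim
    (R := Localization.AtPrime q) (Localization.AtPrime q)
  rw [Module.supportDim_self_eq_ringKrullDim] at hle
  have hde : ((e : ℕ∞) : WithBot ℕ∞) ≤
      ((depth (Localization.AtPrime q) (Localization.AtPrime q) : ℕ∞) : WithBot ℕ∞) :=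
    WithBot.coe_le_coe.mpr hdepth
  have hdimeq : ringKrullDim (Localization.AtPrime q) = (e : WithBot ℕ∞) :=
    le_antisymm hdim (le_trans hde hle)
  refine ⟨?_, hdimeq⟩
  refine { supportDim_eq_depth := ?_ }
  rw [Module.supportDim_self_eq_ringKrullDim]
  refine le_antisymm ?_ hle
  rw [hdimeq]
  exact hde

/-- **Gluing**: if `A/I`, `A/J` are Cohen–Macaulay of local dimension `e` at every maximal ideal and `A/(I+J)` is
Cohen–Macaulay of local dimension at least `e - 1`, then `A/(I ∩ J)` is Cohen–Macaulay of local dimension `e`. -/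
theorem isCMRing_quotient_inf [IsNoetherianRing A] (I J : Ideal A) (e : ℕ)
    (hI : IsCohenMacaulayRing (A ⧸ I)) (hJ : IsCohenMacaulayRing (A ⧸ J))
    (hIJ : IsCohenMacaulayRing (A ⧸ (I ⊔ J)))
    (hdI : ∀ (P : Ideal A) [P.IsMaximal], I ≤ P → dimAt I P = e)
    (hdJ : ∀ (P : Ideal A) [P.IsMaximal], J ≤ P → dimAt J P = e)
    (hdIJ : ∀ (P : Ideal A) [P.IsMaximal], I ⊔ J ≤ P → (e : WithBot ℕ∞) ≤ dimAt (I ⊔ J) P + 1) :
    IsCohenMacaulayRing (A ⧸ (I ⊓ J)) ∧
      ∀ (P : Ideal A) [P.IsMaximal], I ⊓ J ≤ P → dimAt (I ⊓ J) P = e := by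
  have key : ∀ (P : Ideal A) [P.IsMaximal] (q : Ideal (A ⧸ (I ⊓ J))) [q.IsPrime],
      q.comap (Ideal.Quotient.mk (I ⊓ J)) = P →
      IsCohenMacaulayLocalRing (Localization.AtPrime q) ∧
        ringKrullDim (Localization.AtPrime q) = e := by
    intro P hP q _ hq
    have hI' : (e : ℕ∞) ≤ depth (Localization.AtPrime P)
        (Localization.AtPrime P ⧸ I.map (algebraMap A (Localization.AtPrime P))) := by
      by_cases h : I ≤ P
      · have h1 := depth_eq_dimAt_of_isCMRing h hI
        rw [hdI P h] at h1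
        exact le_of_eq (by exact_mod_cast h1.symm)
      · rw [depth_eq_top_of_not_le h]; exact le_top
    have hJ' : (e : ℕ∞) ≤ depth (Localization.AtPrime P)
        (Localization.AtPrime P ⧸ J.map (algebraMap A (Localization.AtPrime P))) := by
      by_cases h : J ≤ P
      · have h1 := depth_eq_dimAt_of_isCMRing h hJ
        rw [hdJ P h] at h1
        exact le_of_eq (by exact_mod_cast h1.symm)
      · rw [depth_eq_top_of_not_le h]; exact le_top
    have hIJ' : (e : ℕ∞) ≤ depth (Localization.AtPrime P)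
        (Localization.AtPrime P ⧸ (I ⊔ J).map (algebraMap A (Localization.AtPrime P))) + 1 := by
      by_cases h : I ⊔ J ≤ P
      · have h1 := depth_eq_dimAt_of_isCMRing h hIJ
        have h2 := hdIJ P h
        rw [← h1] at h2
        exact_mod_cast h2
      · rw [depth_eq_top_of_not_le h]; exact le_top
    have hdI' : dimAt I P ≤ e := by
      by_cases h : I ≤ P
      · exact (hdI P h).le
      · rw [dimAt_eq_bot_of_not_le h]; exact bot_le
    have hdJ' : dimAt J P ≤ e := by
      by_cases h : J ≤ P
      · exact (hdJ P h).le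
      · rw [dimAt_eq_bot_of_not_le h]; exact bot_le
    exact isCMLocalRing_quotient_inf_aux I J P q hq e hI' hJ' hIJ' hdI' hdJ'
  have hN : IsNoetherianRing (A ⧸ (I ⊓ J)) := inferInstance
  refine ⟨?_, ?_⟩
  · apply isCMRing_of_forall_isMaximal
    intro m hm
    have hP : (m.comap (Ideal.Quotient.mk (I ⊓ J))).IsMaximal :=
      Ideal.comap_isMaximal_of_surjective _ Ideal.Quotient.mk_surjective
    exact (key _ m rfl).1
  · intro P hP hle
    have hq : (P.map (Ideal.Quotient.mk (I ⊓ J))).IsPrime :=
      Ideal.isPrime_map_quotientMk_of_isPrime hle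
    have h1 := (key P (P.map (Ideal.Quotient.mk (I ⊓ J))) (comap_map_mk hle)).2
    rw [Groth.Agent.Lib.H8GradedCM.ringKrullDim_localization_quotient P (I ⊓ J) _
      (comap_map_mk hle)] at h1
    exact h1

end Groth.Agent.Lib.CMGlue
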