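import Groth.Agent.Lib.H8CMOpen
import Groth.Agent.Lib.ComplUC33
import Groth.Agent.Lib.H87Serre2
import Groth.Agent.Lib.FibreDimDepth33
import Groth.Agent.Lib.CMRingEquiv96
import Groth.Prelude.Def_EGA4b
import Mathlib

/-!
# Openness of the Cohen–Macaulay locus from Cohen–Macaulay formal fibres (helper33)

* `isCMLocalRing_iff_of_fibre`: for a flat map `R → S` of Noetherian rings with CM fibres and a
  prime `r` of `S`: `S_r` is CM iff `R_{r ∩ R}` is CM.
* `isOpen_CMLocus_of_ringEquiv`: the CM locus transports along ring isomorphisms.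
* `isOpen_CMLocus_of_isAdicComplete`: the CM locus of a complete Noetherian local ring is open
  (Cohen structure theorem `S0580` + helper8 `H8CMOpen.isOpen_CMLocus_quotient`).
* `isOpen_CMLocus_of_hasCMFormalFibres` (EGA IV 7.x, Matsumura 32 for CM): a Noetherian local ring
  with CM formal fibres has open CM locus (`Spec Â → Spec A` is a quotient map).
-/

set_option autoImplicit false
universe u

namespace Groth.Agent.Lib.CMOpenFormal33

open IsLocalRing Groth.Agent.Lib

/-- The Cohen–Macaulay locus of a ring. -/
def CMLocus (R : Type u) [CommRing R] : Set (PrimeSpectrum R) :=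
  {q | LocCoh.IsCohenMacaulayLocalRing (Localization.AtPrime q.asIdeal)}

section Fibre

variable {R S : Type u} [CommRing R] [CommRing S] [Algebra R S] [Module.Flat R S]
  [IsNoetherianRing R] [IsNoetherianRing S]

/-- Along a flat map of Noetherian rings with Cohen–Macaulay fibres, the local ring at a prime `r`
upstairs is CM iff the local ring at its contraction is. -/
theorem isCMLocalRing_iff_of_fibre
    (hfib : ∀ (p : Ideal R) [p.IsPrime], LocCoh.IsCohenMacaulayRing (p.Fiber S))
    (r : Ideal S) [r.IsPrime] :
    LocCoh.IsCohenMacaulayLocalRing (Localization.AtPrime r) ↔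
      LocCoh.IsCohenMacaulayLocalRing (Localization.AtPrime (r.comap (algebraMap R S))) := by
  have key := FibreDimDepth33.codepth_eq_of_fibre hfib r
  set p := r.comap (algebraMap R S) with hp
  obtain ⟨a, ha⟩ := CMFlat33.exists_nat_ringKrullDim (Localization.AtPrime p)
  obtain ⟨b, hb⟩ := CMFlat33.exists_nat_ringKrullDim (Localization.AtPrime r)
  obtain ⟨c, hc⟩ := CMFlat33.exists_nat_depth (Localization.AtPrime p)
  obtain ⟨d, hd⟩ := CMFlat33.exists_nat_depth (Localization.AtPrime r)
  have h1 := CMFlat33.depth_le_ringKrullDim (Localization.AtPrime p)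
  have h2 := CMFlat33.depth_le_ringKrullDim (Localization.AtPrime r)
  rw [ha, hb, hc, hd] at key
  rw [ha, hc] at h1
  rw [hb, hd] at h2
  have key' : a + d = b + c := by exact_mod_cast key
  have h1' : c ≤ a := by exact_mod_cast h1
  have h2' : d ≤ b := by exact_mod_cast h2
  constructor
  · intro h
    have h3 := h.supportDim_eq_depth
    rw [Module.supportDim_self_eq_ringKrullDim, hb, hd] at h3
    have h3' : b = d := by exact_mod_cast h3
    refine ⟨?_⟩
    rw [Module.supportDim_self_eq_ringKrullDim, ha, hc]
    have : a = c := by omega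
    rw [this]; rfl
  · intro h
    have h3 := h.supportDim_eq_depth
    rw [Module.supportDim_self_eq_ringKrullDim, ha, hc] at h3
    have h3' : a = c := by exact_mod_cast h3
    refine ⟨?_⟩
    rw [Module.supportDim_self_eq_ringKrullDim, hb, hd]
    have : b = d := by omega
    rw [this]; rfl

/-- The CM locus upstairs is the preimage of the CM locus downstairs. -/
theorem CMLocus_eq_preimage
    (hfib : ∀ (p : Ideal R) [p.IsPrime], LocCoh.IsCohenMacaulayRing (p.Fiber S)) :
    CMLocus S = PrimeSpectrum.comap (algebraMap R S) ⁻¹' CMLocus R := by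
  ext q
  exact isCMLocalRing_iff_of_fibre hfib q.asIdeal

end Fibre

section Equiv

variable {R R' : Type u} [CommRing R] [CommRing R']

theorem CMLocus_eq_preimage_of_ringEquiv (e : R ≃+* R') :
    CMLocus R' = PrimeSpectrum.comap (e : R →+* R') ⁻¹' CMLocus R := by
  ext q
  have hq : (q.asIdeal.comap e).IsPrime := Ideal.comap_isPrime _ _
  let e' : Localization.AtPrime (q.asIdeal.comap e) ≃+* Localization.AtPrime q.asIdeal :=
    IsLocalization.ringEquivOfRingEquiv
      (Localization.AtPrime (q.asIdeal.comap e)) (Localization.AtPrime q.asIdeal) e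
      (e.map_primeCompl_comap_eq q.asIdeal)
  constructor
  · intro h
    have h' : LocCoh.IsCohenMacaulayLocalRing (Localization.AtPrime q.asIdeal) := h
    exact CMRingEquiv96.isCohenMacaulayLocalRing_of_ringEquiv e'.symm
  · intro h
    have h' : LocCoh.IsCohenMacaulayLocalRing (Localization.AtPrime (q.asIdeal.comap e)) := h
    exact CMRingEquiv96.isCohenMacaulayLocalRing_of_ringEquiv e'

theorem isOpen_CMLocus_of_ringEquiv (e : R ≃+* R') (h : IsOpen (CMLocus R)) :
    IsOpen (CMLocus R') := by
  rw [CMLocus_eq_preimage_of_ringEquiv e]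
  exact h.preimage (PrimeSpectrum.continuous_comap _)

end Equiv

section Complete

/-- **The Cohen–Macaulay locus of a complete Noetherian local ring is open.** -/
theorem isOpen_CMLocus_of_isAdicComplete (R : Type u) [CommRing R] [IsLocalRing R]
    [IsNoetherianRing R] [IsAdicComplete (maximalIdeal R) R] : IsOpen (CMLocus R) := by
  obtain ⟨Λ, _, n, f, hΛ, hf⟩ := Groth.Agent.S0580.result R
    ((isNoetherianRing_iff_ideal_fg R).mp inferInstance _)
  have : IsRegularLocalRing Λ := by
    rcases hΛ with h | h
    · exact ComplUC33.isRegularLocalRing_of_isField Λ h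
    · exact ComplUC33.isRegularLocalRing_of_isCohenRing Λ h
  have := PSRegular33.isRegularLocalRing_mvPowerSeries_fin Λ n
  have : IsRegularRing (MvPowerSeries (Fin n) Λ) := H87Serre2.isRegularRing_of_isRegularLocalRing
  have h1 := H8CMOpen.isOpen_CMLocus_quotient (P := MvPowerSeries (Fin n) Λ) (I := RingHom.ker f)
  exact isOpen_CMLocus_of_ringEquiv (RingHom.quotientKerEquivOfSurjective hf) h1

end Complete

section Formal

/-- **EGA IV 7.x for 'Cohen–Macaulay'**: a Noetherian local ring whose formal fibres are
Cohen–Macaulay has an open Cohen–Macaulay locus. -/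
theorem isOpen_CMLocus_of_hasCMFormalFibres (A : Type u) [CommRing A] [IsNoetherianRing A]
    [IsLocalRing A] (hA : EGA4.HasCMFormalFibres A) : IsOpen (CMLocus A) := by
  have hfl : Module.Flat A (EGA4.Cpl A) := AdicCompletion.flat_of_isNoetherian (maximalIdeal A)
  have hff : Module.FaithfullyFlat A (EGA4.Cpl A) := Module.FaithfullyFlat.of_flat_of_isLocalHom
  have hN : IsNoetherianRing (EGA4.Cpl A) := AdicNoeth.isNoetherianRing_adicCompletion _
  have hsurj : Function.Surjective (PrimeSpectrum.comap (algebraMap A (EGA4.Cpl A))) :=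
    PrimeSpectrum.comap_surjective_of_faithfullyFlat
  have hgen : GeneralizingMap (PrimeSpectrum.comap (algebraMap A (EGA4.Cpl A))) :=
    RingHom.Flat.generalizingMap_comap (RingHom.flat_algebraMap_iff.mpr hfl)
  have hq := PrimeSpectrum.isQuotientMap_of_generalizingMap hsurj hgen
  rw [← hq.isOpen_preimage, ← CMLocus_eq_preimage hA]
  exact isOpen_CMLocus_of_isAdicComplete (EGA4.Cpl A)

end Formal

end Groth.Agent.Lib.CMOpenFormal33
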