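import Mathlib
import Groth.Agent.Lib.CMHom33
import Groth.Agent.Lib.CMOpenFormal33
import Groth.Agent.Lib.CMGlue
import Groth.Agent.Lib.FSFlat1
import Groth.Agent.Lib.AdicPi
import Groth.Agent.Lib.H14ComplFlat2

/-!
# Cohen–Macaulay fibres of flat local homomorphisms (EGA IV 7.5.1 for 'Cohen–Macaulay') (helper98)

* `isCMLocalRing_of_fibre_at`: flat `R → S`, `r` over `p`, `R_p` CM and the fibre over `p` CM ⇒ `S_r` CM.
* `cm_field_tensor_iff`: for a field `K` essentially of finite type over `R` with kernel `q`: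
  `q.Fiber T` CM ↔ `K ⊗[R] T` CM.
* `cm_maxFib_iff`: for a maximal ideal `m`: `m.Fiber T` CM ↔ `T ⧸ mT` CM.
* `krullDimLE_one_of_forall_mem`: a Noetherian domain with a nonzero element contained in every
  nonzero prime has dimension `≤ 1`.
* `finite_of_primary'`: complete local `P → R` local, `m_P R` primary, residue extension finite ⇒ finite.
* `gen`: the generic fibre step (complete local domain base).
* `thmA`: `A` complete, `A → B` flat local with finite residue field extension and CM closed fibre ⇒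
  all fibres CM.
* `main`: `A` with CM formal fibres, `A → B` flat local, finite residue extension,
  closed fibre of `A → B̂` CM ⇒ `A → B` is a CM homomorphism.
-/

set_option autoImplicit false
set_option maxHeartbeats 400000
universe u

namespace Groth.Agent.Lib.CMFlatFibres98

open IsLocalRing TensorProduct Groth.Agent.Lib

section Basic

/-- Single-fibre version of `CMOpenFormal33.isCMLocalRing_iff_of_fibre` (ascent direction). -/
theorem isCMLocalRing_of_fibre_at {R S : Type u} [CommRing R] [CommRing S] [Algebra R S]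
    [Module.Flat R S] [IsNoetherianRing R] [IsNoetherianRing S]
    (p : Ideal R) [p.IsPrime] (r : Ideal S) [r.IsPrime] [r.LiesOver p]
    (hfib : LocCoh.IsCohenMacaulayRing (p.Fiber S))
    (hp : LocCoh.IsCohenMacaulayLocalRing (Localization.AtPrime p)) :
    LocCoh.IsCohenMacaulayLocalRing (Localization.AtPrime r) := by
  obtain ⟨Q, hQp, hQ⟩ := H56SkFibre.exists_fiber_prime p r
  have hQcm := hfib.isCohenMacaulayLocalRing_localization Q
  have key := FibreDimDepth33.codepth_eq_of_fiber' p Q r hQ hQcm
  obtain ⟨a, ha⟩ := CMFlat33.exists_nat_ringKrullDim (Localization.AtPrime p)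
  obtain ⟨b, hb⟩ := CMFlat33.exists_nat_ringKrullDim (Localization.AtPrime r)
  obtain ⟨c, hc⟩ := CMFlat33.exists_nat_depth (Localization.AtPrime p)
  obtain ⟨d, hd⟩ := CMFlat33.exists_nat_depth (Localization.AtPrime r)
  have h2 := CMFlat33.depth_le_ringKrullDim (Localization.AtPrime r)
  rw [ha, hb, hc, hd] at key
  rw [hb, hd] at h2
  have key' : a + d = b + c := by exact_mod_cast key
  have h2' : d ≤ b := by exact_mod_cast h2
  have h3 := hp.supportDim_eq_depth
  rw [Module.supportDim_self_eq_ringKrullDim, ha, hc] at h3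
  have h3' : a = c := by exact_mod_cast h3
  refine ⟨?_⟩
  rw [Module.supportDim_self_eq_ringKrullDim, hb, hd]
  have : b = d := by omega
  rw [this]; rfl

/-- Localizations of CM local rings at smaller primes are CM. -/
theorem isCMLocalRing_of_le {T : Type u} [CommRing T] (Q Q' : Ideal T) [Q.IsPrime] [Q'.IsPrime]
    (hle : Q ≤ Q') (h : LocCoh.IsCohenMacaulayLocalRing (Localization.AtPrime Q')) :
    LocCoh.IsCohenMacaulayLocalRing (Localization.AtPrime Q) := by
  have hL : LocCoh.IsCohenMacaulayRing (Localization.AtPrime Q') := H8CM.isCMRing_of_isCMLocalRing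
  refine CMGlue.isCMLocalRing_atPrime_of_isLocalization Q'.primeCompl (Localization.AtPrime Q') Q ?_
  rw [Set.disjoint_left]
  intro x hx hxQ
  exact hx (hle hxQ)

/-- A prime of the fibre over `p` contracts to `p`. -/
theorem comap_comap_includeRight {R S : Type u} [CommRing R] [CommRing S] [Algebra R S]
    (p : Ideal R) [p.IsPrime] (Q : Ideal (p.Fiber S)) [Q.IsPrime] :
    (Q.comap (Algebra.TensorProduct.includeRight (R := R) (A := p.ResidueField)
      (B := S))).comap (algebraMap R S) = p := by
  ext a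
  rw [Ideal.mem_comap, Ideal.mem_comap, AlgHom.commutes]
  exact (Ideal.mem_of_liesOver Q p a).symm

end Basic

section FieldTensor

/-- For a field `K` essentially of finite type over `R` with kernel `q`: the fibre over `q` is CM iff
`K ⊗[R] T` is CM. -/
theorem cm_field_tensor_iff (R T K : Type u) [CommRing R] [CommRing T] [Algebra R T] [Field K]
    [Algebra R K] [Algebra.EssFiniteType R K] (q : Ideal R) [q.IsPrime]
    (hq : RingHom.ker (algebraMap R K) = q) :
    LocCoh.IsCohenMacaulayRing (q.Fiber T) ↔ LocCoh.IsCohenMacaulayRing (K ⊗[R] T) := by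
  subst hq
  let σ : (RingHom.ker (algebraMap R K)).ResidueField →+* K :=
    Ideal.ResidueField.lift _ (algebraMap R K) le_rfl (by
      intro x hx
      exact IsUnit.mk0 _ (fun h0 => hx (RingHom.mem_ker.mpr h0)))
  letI : Algebra (RingHom.ker (algebraMap R K)).ResidueField K := σ.toAlgebra
  have : IsScalarTower R (RingHom.ker (algebraMap R K)).ResidueField K :=
    IsScalarTower.of_algebraMap_eq (fun x => by
      rw [RingHom.algebraMap_toAlgebra]
      exact (Ideal.ResidueField.lift_algebraMap _ (algebraMap R K) _ _ x).symm)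
  have : Algebra.EssFiniteType (RingHom.ker (algebraMap R K)).ResidueField K :=
    Algebra.EssFiniteType.of_comp R _ _
  constructor
  · intro h
    have h1 : LocCoh.IsCohenMacaulayRing
        (K ⊗[(RingHom.ker (algebraMap R K)).ResidueField]
          ((RingHom.ker (algebraMap R K)).Fiber T)) :=
      CMFieldExt33.isCohenMacaulayRing_tensor_of_essFiniteType _ K _
    exact CMRingEquiv96.isCohenMacaulayRing_of_ringEquiv
      (Algebra.TensorProduct.cancelBaseChange R (RingHom.ker (algebraMap R K)).ResidueField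
        (RingHom.ker (algebraMap R K)).ResidueField K T).toRingEquiv
  · intro h
    have h1 : LocCoh.IsCohenMacaulayRing
        (K ⊗[(RingHom.ker (algebraMap R K)).ResidueField]
          ((RingHom.ker (algebraMap R K)).Fiber T)) :=
      CMRingEquiv96.isCohenMacaulayRing_of_ringEquiv
        (Algebra.TensorProduct.cancelBaseChange R (RingHom.ker (algebraMap R K)).ResidueField
          (RingHom.ker (algebraMap R K)).ResidueField K T).symm.toRingEquiv
    have h2 : LocCoh.IsCohenMacaulayRing
        (((RingHom.ker (algebraMap R K)).Fiber T)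
          ⊗[(RingHom.ker (algebraMap R K)).ResidueField] K) :=
      CMRingEquiv96.isCohenMacaulayRing_of_ringEquiv
        (R := K ⊗[(RingHom.ker (algebraMap R K)).ResidueField]
          ((RingHom.ker (algebraMap R K)).Fiber T))
        (Algebra.TensorProduct.comm (RingHom.ker (algebraMap R K)).ResidueField K
          ((RingHom.ker (algebraMap R K)).Fiber T)).toRingEquiv
    have hff : Module.FaithfullyFlat (RingHom.ker (algebraMap R K)).ResidueField K := inferInstance
    exact H14ComplFlat.isCohenMacaulayRing_of_faithfullyFlat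
      ((RingHom.ker (algebraMap R K)).Fiber T)
      (((RingHom.ker (algebraMap R K)).Fiber T) ⊗[(RingHom.ker (algebraMap R K)).ResidueField] K)

/-- The fibre over a maximal ideal is the quotient. -/
theorem cm_maxFib_iff (R T : Type u) [CommRing R] [CommRing T] [Algebra R T] (m : Ideal R)
    [m.IsMaximal] :
    LocCoh.IsCohenMacaulayRing (m.Fiber T) ↔
      LocCoh.IsCohenMacaulayRing (T ⧸ m.map (algebraMap R T)) := by
  let e₀ : (R ⧸ m) ≃ₐ[R] m.ResidueField :=
    AlgEquiv.ofBijective (IsScalarTower.toAlgHom R (R ⧸ m) m.ResidueField)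
      (Ideal.bijective_algebraMap_quotient_residueField m)
  let e : m.Fiber T ≃+* T ⧸ m.map (algebraMap R T) :=
    (Algebra.TensorProduct.congr e₀.symm (AlgEquiv.refl : T ≃ₐ[R] T)).toRingEquiv.trans
      (Algebra.TensorProduct.quotIdealMapEquivQuotTensor T m).symm.toRingEquiv
  exact ⟨fun h => CMRingEquiv96.isCohenMacaulayRing_of_ringEquiv e,
    fun h => CMRingEquiv96.isCohenMacaulayRing_of_ringEquiv e.symm⟩

/-- Fibres of `A/p → B/pB` are fibres of `A → B`. -/
noncomputable def quotFibreEquiv (A B : Type u) [CommRing A] [CommRing B] [Algebra A B]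
    (p : Ideal A) (K : Type u) [CommRing K] [Algebra A K] [Algebra (A ⧸ p) K]
    [IsScalarTower A (A ⧸ p) K] :
    K ⊗[A ⧸ p] (B ⧸ p.map (algebraMap A B)) ≃+* K ⊗[A] B :=
  (Algebra.TensorProduct.congr (AlgEquiv.refl : K ≃ₐ[A ⧸ p] K)
      (Algebra.TensorProduct.quotIdealMapEquivQuotTensor B p)).toRingEquiv.trans
    (Algebra.TensorProduct.cancelBaseChange A (A ⧸ p) (A ⧸ p) K B).toRingEquiv

end FieldTensor

section Dim

theorem enat_eq_zero_of_add_one_le_one (a : ℕ∞) (h : a + 1 ≤ 1) : a = 0 := by
  induction a using ENat.recTopCoe with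
  | top => simp at h
  | coe n =>
    have h' : n + 1 ≤ 1 := by exact_mod_cast h
    have : n = 0 := by omega
    simp [this]

/-- A Noetherian domain with a nonzero element contained in every nonzero prime has dimension
at most one. -/
theorem krullDimLE_one_of_forall_mem (D : Type u) [CommRing D] [IsDomain D] [IsNoetherianRing D]
    (f : D) (hf : f ≠ 0) (h : ∀ (P : Ideal D), P.IsPrime → P ≠ ⊥ → f ∈ P) :
    Ring.KrullDimLE 1 D := by
  have key : ∀ (P : Ideal D), P.IsPrime → P.height ≤ 1 := by
    intro P hP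
    by_contra hht
    have hP0 : P ≠ ⊥ := by
      rintro rfl
      apply hht
      rw [Ideal.height_bot]
      exact zero_le_one
    have hfP : f ∈ P := h P hP hP0
    have hfin : (Ideal.span {f}).minimalPrimes.Finite :=
      Ideal.finite_minimalPrimes_of_isNoetherianRing D _
    have hex : ∃ x ∈ P, ∀ Pi ∈ (Ideal.span {f}).minimalPrimes, x ∉ Pi := by
      by_contra hcon
      have hcon' : ∀ x ∈ P, ∃ Pi ∈ (Ideal.span {f}).minimalPrimes, x ∈ Pi := by
        intro x hx
        by_contra hno
        exact hcon ⟨x, hx, fun Pi hPi hxPi => hno ⟨Pi, hPi, hxPi⟩⟩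
      have hsub : ((P : Set D) ⊆ ⋃ i ∈ (↑hfin.toFinset : Set (Ideal D)),
          ((i : Ideal D) : Set D)) := by
        intro x hx
        obtain ⟨Pi, hPi, hxPi⟩ := hcon' x hx
        rw [Set.Finite.coe_toFinset]
        exact Set.mem_biUnion hPi hxPi
      obtain ⟨Pi, hPi, hle⟩ := (Ideal.subset_union_prime (s := hfin.toFinset)
        (f := fun i => i) ⊥ ⊥ (fun i hi _ _ =>
          ((Set.Finite.mem_toFinset hfin).mp hi).1.1)).mp hsub
      have hPi' : Pi ∈ (Ideal.span {f}).minimalPrimes := (Set.Finite.mem_toFinset hfin).mp hPi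
      exact hht ((Ideal.height_mono hle).trans
        (Ideal.height_le_one_of_isPrincipal_of_mem_minimalPrimes _ Pi hPi'))
    obtain ⟨x, hxP, hx⟩ := hex
    obtain ⟨P1, hP1, hP1le⟩ := Ideal.exists_minimalPrimes_le
      (show Ideal.span {f} ≤ P from (Ideal.span_singleton_le_iff_mem _).mpr hfP)
    have hx0 : x ≠ 0 := by
      rintro rfl
      exact hx P1 hP1 (zero_mem _)
    obtain ⟨P', hP', hP'le⟩ := Ideal.exists_minimalPrimes_le
      (show Ideal.span {x} ≤ P from (Ideal.span_singleton_le_iff_mem _).mpr hxP)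
    have hP'prime : P'.IsPrime := hP'.1.1
    have hxP' : x ∈ P' := hP'.1.2 (Ideal.mem_span_singleton_self x)
    have hP'0 : P' ≠ ⊥ := by
      intro h0
      rw [h0] at hxP'
      exact hx0 (Ideal.mem_bot.mp hxP')
    have hfP' : f ∈ P' := h P' hP'prime hP'0
    obtain ⟨P2, hP2, hP2le⟩ := Ideal.exists_minimalPrimes_le
      (show Ideal.span {f} ≤ P' from (Ideal.span_singleton_le_iff_mem _).mpr hfP')
    have hP2prime : P2.IsPrime := hP2.1.1
    have hlt : P2 < P' := lt_of_le_of_ne hP2le (by
      intro h0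
      rw [← h0] at hxP'
      exact hx P2 hP2 hxP')
    have h1 : P2.height + 1 ≤ P'.height := Ideal.height_add_one_le_of_lt_of_isPrime hlt
    have h2 : P'.height ≤ 1 :=
      Ideal.height_le_one_of_isPrincipal_of_mem_minimalPrimes _ P' hP'
    have h3 : P2.height = 0 := enat_eq_zero_of_add_one_le_one _ (h1.trans h2)
    rw [Ideal.height_eq_zero_iff_eq_bot] at h3
    have hf2 : f ∈ P2 := hP2.1.2 (Ideal.mem_span_singleton_self f)
    rw [h3] at hf2
    exact hf (Ideal.mem_bot.mp hf2)
  refine Ring.KrullDimLE.mk₁' fun I hI0 hI => ?_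
  obtain ⟨M, hM, hIM⟩ := Ideal.exists_le_maximal I hI.ne_top
  by_contra hnot
  have hlt : I < M := lt_of_le_of_ne hIM (by
    intro h0
    rw [h0] at hnot
    exact hnot hM)
  have hMp : M.IsPrime := hM.isPrime
  have h2 : I.height + 1 ≤ M.height := Ideal.height_add_one_le_of_lt_of_isPrime hlt
  have h3 : I.height = 0 := enat_eq_zero_of_add_one_le_one _ (h2.trans (key M hMp))
  rw [Ideal.height_eq_zero_iff_eq_bot] at h3
  exact hI0 h3

/-- Dimension `≤ 1` descends along injective integral extensions into a domain. -/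
theorem krullDimLE_one_of_integral {R S : Type*} [CommRing R] [CommRing S] [IsDomain S]
    [Algebra R S] [Algebra.IsIntegral R S] (hinj : Function.Injective (algebraMap R S))
    [Ring.KrullDimLE 1 S] : Ring.KrullDimLE 1 R := by
  have hker : (⊥ : Ideal S).comap (algebraMap R S) = ⊥ := by
    rw [← RingHom.ker_eq_comap_bot, (RingHom.injective_iff_ker_eq_bot _).mp hinj]
  refine Ring.KrullDimLE.mk₁' fun q hq0 hq => ?_
  obtain ⟨Q, -, hQ, hQc⟩ := Ideal.exists_ideal_over_prime_of_isIntegral (S := S) q ⊥ (by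
    rw [hker]; exact bot_le)
  have hQ0 : Q ≠ ⊥ := by
    intro h0
    rw [h0] at hQc
    exact hq0 (hQc.symm.trans hker)
  have hQmax : Q.IsMaximal := hQ.isMaximal_of_ne_bot hQ0
  rw [← hQc]
  exact Ideal.isMaximal_comap_of_isIntegral_of_isMaximal Q

/-- A Noetherian local domain of dimension `≤ 1` which is not a field is Cohen–Macaulay. -/
theorem isCMLocalRing_of_krullDimLE_one (R : Type u) [CommRing R] [IsDomain R] [IsLocalRing R]
    [IsNoetherianRing R] [Ring.KrullDimLE 1 R] (hne : maximalIdeal R ≠ ⊥) :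
    LocCoh.IsCohenMacaulayLocalRing R := by
  obtain ⟨x, hxm, hx0⟩ := Submodule.exists_mem_ne_zero_of_ne_bot hne
  have reg : IsSMulRegular R x := by
    intro a b hab
    have hab' : x * a = x * b := hab
    exact mul_left_cancel₀ hx0 hab'
  have hne_top : Ideal.span {x} ≠ ⊤ := by
    intro h
    have h1 : Ideal.span {x} ≤ maximalIdeal R := (Ideal.span_singleton_le_iff_mem _).mpr hxm
    rw [h, top_le_iff] at h1
    exact (maximalIdeal.isMaximal R).ne_top h1
  have hloc : IsLocalRing (R ⧸ Ideal.span {x}) := H56SkFibre.isLocalRing_quotient _ hne_top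
  have hdim : Ring.KrullDimLE 0 (R ⧸ Ideal.span {x}) := by
    refine Ring.KrullDimLE.mk₀ fun I hI => ?_
    have hc : (I.comap (Ideal.Quotient.mk (Ideal.span {x}))).IsPrime := Ideal.comap_isPrime _ _
    have hc0 : I.comap (Ideal.Quotient.mk (Ideal.span {x})) ≠ ⊥ := by
      intro h0
      have hx' : x ∈ I.comap (Ideal.Quotient.mk (Ideal.span {x})) := by
        rw [Ideal.mem_comap, Ideal.Quotient.eq_zero_iff_mem.mpr (Ideal.mem_span_singleton_self x)]
        exact zero_mem _
      rw [h0] at hx'
      exact hx0 (Ideal.mem_bot.mp hx')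
    have hmax := hc.isMaximal_of_ne_bot hc0
    have h1 := Ideal.map_eq_top_or_isMaximal_of_surjective (Ideal.Quotient.mk (Ideal.span {x}))
      Ideal.Quotient.mk_surjective hmax
    rw [Ideal.map_comap_of_surjective _ Ideal.Quotient.mk_surjective] at h1
    rcases h1 with h1 | h1
    · exact absurd h1 hI.ne_top
    · exact h1
  have h0 : LocCoh.IsCohenMacaulayLocalRing (R ⧸ Ideal.span {x}) :=
    CMFieldExt33.isCohenMacaulayLocalRing_of_krullDimLE_zero _
  exact CMGlue.isCMLocalRing_of_quotient_regular R hxm reg h0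

end Dim

section Finite

/-- Variant of `CohenStructure.finite_of_primary` with finite residue field extension. -/
theorem finite_of_primary' {P R : Type*} [CommRing P] [IsLocalRing P] [CommRing R] [IsLocalRing R]
    [IsNoetherianRing R] [Algebra P R] [IsPrecomplete (maximalIdeal P) P]
    (hloc : (maximalIdeal P).map (algebraMap P R) ≤ maximalIdeal R)
    (hrad : maximalIdeal R ≤ ((maximalIdeal P).map (algebraMap P R)).radical)
    (hfinres : Module.Finite P (ResidueField R)) : Module.Finite P R := by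
  have hne : (maximalIdeal P).map (algebraMap P R) ≠ ⊤ := fun h =>
    (maximalIdeal.isMaximal R).ne_top (top_le_iff.mp (h ▸ hloc))
  have hH : IsHausdorff (maximalIdeal P) R := by
    rw [← IsHausdorff.map_algebraMap_iff (S := R)]
    exact IsHausdorff.of_isLocalRing _ _ hne
  have hfq : Module.Finite P (R ⧸ (maximalIdeal P).map (algebraMap P R)) := by
    let f : (R ⧸ (maximalIdeal P).map (algebraMap P R)) →ₐ[P] ResidueField R :=
      Ideal.Quotient.liftₐ _ (IsScalarTower.toAlgHom P R (ResidueField R))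
        (fun a ha => by
          change residue R a = 0
          rw [residue_eq_zero_iff]
          exact hloc ha)
    have hf : ∀ a : R, f (Ideal.Quotient.mk _ a) = residue R a := fun a => rfl
    have hker : RingHom.ker f =
        (maximalIdeal R).map (Ideal.Quotient.mk ((maximalIdeal P).map (algebraMap P R))) := by
      ext y
      obtain ⟨a, rfl⟩ := Ideal.Quotient.mk_surjective y
      rw [RingHom.mem_ker, hf, residue_eq_zero_iff]
      constructor
      · intro ha
        exact Ideal.mem_map_of_mem _ ha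
      · intro ha
        rw [Ideal.mem_map_iff_of_surjective _ Ideal.Quotient.mk_surjective] at ha
        obtain ⟨b, hb, hba⟩ := ha
        rw [Ideal.Quotient.eq] at hba
        have : a = b - (b - a) := by ring
        rw [this]
        exact Ideal.sub_mem _ hb (hloc hba)
    refine Module.finite_of_surjective_of_ker_le_nilradical f ?_ ?_ ?_
    · intro y
      obtain ⟨a, rfl⟩ := residue_surjective y
      exact ⟨Ideal.Quotient.mk _ a, hf a⟩
    · rw [hker, Ideal.map_le_iff_le_comap]
      intro a ha
      obtain ⟨n, hn⟩ := hrad ha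
      rw [Ideal.mem_comap, mem_nilradical]
      refine ⟨n, ?_⟩
      rw [← map_pow]
      exact Ideal.Quotient.eq_zero_iff_mem.mpr hn
    · rw [hker]
      exact Ideal.FG.map (IsNoetherian.noetherian _) _
  apply Groth.Agent.Lib.AdicPi.finite_of_finite_quotient (maximalIdeal P) R
  have hJ : (maximalIdeal P • ⊤ : Submodule P R) =
      ((maximalIdeal P).map (algebraMap P R)).restrictScalars P := Ideal.smul_top_eq_map _
  have e1 := Submodule.Quotient.restrictScalarsEquiv P ((maximalIdeal P).map (algebraMap P R))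
  have e3 := Submodule.quotEquivOfEq _ _ hJ
  exact Module.Finite.equiv (e3.trans e1).symm

/-- Finiteness of residue fields passes along surjective algebra maps. -/
theorem finite_residueField_of_surjective (A : Type*) {S T : Type*} [CommRing A] [CommRing S]
    [CommRing T] [IsLocalRing S] [IsLocalRing T] [Algebra A S] [Algebra A T] (e : S →ₐ[A] T)
    (he : Function.Surjective e) (h : Module.Finite A (ResidueField S)) :
    Module.Finite A (ResidueField T) := by
  have hloc : IsLocalHom e := by
    have h1 : IsLocalHom (e : S →+* T) := IsLocalHom.of_surjective (e : S →+* T) he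
    exact ⟨fun a ha => h1.map_nonunit a ha⟩
  refine Module.Finite.of_surjective (ResidueField.mapAlgHom e).toLinearMap ?_
  intro y
  obtain ⟨t, rfl⟩ := residue_surjective y
  obtain ⟨s, rfl⟩ := he t
  exact ⟨residue S s, ResidueField.mapAlgHom_residue e s⟩

/-- The residue field of the completion is finite over `A` if that of `B` is. -/
theorem finite_residueField_cpl (A B : Type u) [CommRing A] [CommRing B] [IsNoetherianRing B]
    [IsLocalRing B] [Algebra A B] (h : Module.Finite A (ResidueField B)) :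
    Module.Finite A (ResidueField (EGA4.Cpl B)) := by
  have : IsScalarTower A B (EGA4.Cpl B) := IsScalarTower.of_algebraMap_eq fun _ => rfl
  let e : B →ₐ[A] EGA4.Cpl B := IsScalarTower.toAlgHom A B (EGA4.Cpl B)
  have hloc : IsLocalHom e :=
    ⟨fun a ha => IsLocalHom.map_nonunit (f := algebraMap B (EGA4.Cpl B)) a ha⟩
  refine Module.Finite.of_surjective (ResidueField.mapAlgHom e).toLinearMap ?_
  intro y
  obtain ⟨x, hx⟩ := (AdicCompletion.residueField_map_bijective B).2 y
  obtain ⟨b, rfl⟩ := residue_surjective x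
  refine ⟨residue B b, ?_⟩
  rw [← hx]
  have h1 : (ResidueField.mapAlgHom e) (residue B b) = residue _ (e b) :=
    ResidueField.mapAlgHom_residue e b
  have h2 : ResidueField.map (algebraMap B (EGA4.Cpl B)) (residue B b) =
      residue _ (algebraMap B (EGA4.Cpl B) b) := ResidueField.map_residue _ b
  exact h1.trans h2.symm

end Finite

section Gen

variable (A₁ B₁ : Type u) [CommRing A₁] [CommRing B₁] [IsNoetherianRing A₁] [IsNoetherianRing B₁]
  [IsLocalRing A₁] [IsLocalRing B₁] [IsDomain A₁] [Algebra A₁ B₁] [IsLocalHom (algebraMap A₁ B₁)]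
  [Module.Flat A₁ B₁] [IsAdicComplete (maximalIdeal A₁) A₁]

/-- Key step: over a complete local domain `A₁` (not a field) all of whose non-generic fibres in
`B₁` are CM, the local rings of `B₁` at primes over `0` are CM. -/
theorem gen_aux (hfin : Module.Finite A₁ (ResidueField B₁)) (hne : maximalIdeal A₁ ≠ ⊥)
    (hfib : ∀ (q : Ideal A₁) [q.IsPrime], q ≠ ⊥ → LocCoh.IsCohenMacaulayRing (q.Fiber B₁))
    (Q₀ : Ideal B₁) [hQ₀ : Q₀.IsPrime] (hQ₀0 : Q₀.comap (algebraMap A₁ B₁) = ⊥) :
    LocCoh.IsCohenMacaulayLocalRing (Localization.AtPrime Q₀) := by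
  have hopen := CMOpenFormal33.isOpen_CMLocus_of_isAdicComplete A₁
  have hmin : (⊥ : Ideal A₁) ∈ minimalPrimes A₁ := by
    rw [IsDomain.minimalPrimes_eq_singleton_bot]; exact Set.mem_singleton _
  have hK0 : Ring.KrullDimLE 0 (Localization.AtPrime (⊥ : Ideal A₁)) :=
    Ring.KrullDimLE.of_isLocalization (⊥ : Ideal A₁) hmin _
  have hcm0 : LocCoh.IsCohenMacaulayLocalRing (Localization.AtPrime (⊥ : Ideal A₁)) :=
    CMFieldExt33.isCohenMacaulayLocalRing_of_krullDimLE_zero _
  have hη : (⟨⊥, Ideal.isPrime_bot⟩ : PrimeSpectrum A₁) ∈ CMOpenFormal33.CMLocus A₁ := hcm0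
  obtain ⟨U, ⟨f, rfl⟩, hfη, hfU⟩ :=
    PrimeSpectrum.isTopologicalBasis_basic_opens.exists_subset_of_mem_open hη hopen
  have hf0 : f ≠ 0 := by
    intro h0
    rw [h0] at hfη
    have h1 : (0 : A₁) ∉ (⊥ : Ideal A₁) := hfη
    exact h1 (zero_mem _)
  have main : ∀ (Q : Ideal B₁), ∀ (hQ : Q.IsPrime), Q.comap (algebraMap A₁ B₁) = ⊥ →
      LocCoh.IsCohenMacaulayLocalRing (Localization.AtPrime Q) := by
    intro Q
    refine WellFoundedGT.induction (motive := fun (Q : Ideal B₁) => ∀ (hQ : Q.IsPrime),
      Q.comap (algebraMap A₁ B₁) = ⊥ →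
        LocCoh.IsCohenMacaulayLocalRing (Localization.AtPrime Q)) Q ?_
    intro Q ih hQ hQ0
    by_cases hex : ∃ (Q' : Ideal B₁) (_ : Q'.IsPrime), Q < Q' ∧ algebraMap A₁ B₁ f ∉ Q'
    · obtain ⟨Q', hQ', hlt, hfQ'⟩ := hex
      have hcm' : LocCoh.IsCohenMacaulayLocalRing (Localization.AtPrime Q') := by
        by_cases hq : Q'.comap (algebraMap A₁ B₁) = ⊥
        · exact ih Q' hlt hQ' hq
        · have hqprime : (Q'.comap (algebraMap A₁ B₁)).IsPrime := Ideal.comap_isPrime _ _
          have hlo : Q'.LiesOver (Q'.comap (algebraMap A₁ B₁)) := ⟨rfl⟩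
          have hmem : (⟨Q'.comap (algebraMap A₁ B₁), hqprime⟩ : PrimeSpectrum A₁) ∈
              ((PrimeSpectrum.basicOpen f : TopologicalSpace.Opens (PrimeSpectrum A₁)) :
                Set (PrimeSpectrum A₁)) := hfQ'
          have hcmq : LocCoh.IsCohenMacaulayLocalRing
              (Localization.AtPrime (Q'.comap (algebraMap A₁ B₁))) := hfU hmem
          exact isCMLocalRing_of_fibre_at (Q'.comap (algebraMap A₁ B₁)) Q' (hfib _ hq) hcmq
      exact isCMLocalRing_of_le Q Q' hlt.le hcm'
    · have hall : ∀ (Q' : Ideal B₁), Q'.IsPrime → Q < Q' → algebraMap A₁ B₁ f ∈ Q' := by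
        intro Q' hQ' hlt
        by_contra hn
        exact hex ⟨Q', hQ', hlt, hn⟩
      have hQm : Q ≠ maximalIdeal B₁ := by
        intro h
        apply hne
        rw [← IsLocalRing.maximalIdeal_comap (algebraMap A₁ B₁), ← h, hQ0]
      have hQltm : Q < maximalIdeal B₁ := lt_of_le_of_ne (le_maximalIdeal hQ.ne_top) hQm
      have hfm : f ∈ maximalIdeal A₁ := by
        have h1 : algebraMap A₁ B₁ f ∈ maximalIdeal B₁ := hall _ inferInstance hQltm
        rw [← IsLocalRing.maximalIdeal_comap (algebraMap A₁ B₁)]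
        exact h1
      have hlocD : IsLocalRing (B₁ ⧸ Q) := H56SkFibre.isLocalRing_quotient Q hQ.ne_top
      have hmk : IsLocalHom (Ideal.Quotient.mk Q) :=
        IsLocalHom.of_surjective (Ideal.Quotient.mk Q) Ideal.Quotient.mk_surjective
      have hfbar : algebraMap A₁ (B₁ ⧸ Q) f ≠ 0 := by
        intro h0
        have h0' : Ideal.Quotient.mk Q (algebraMap A₁ B₁ f) = 0 := h0
        have h1 : algebraMap A₁ B₁ f ∈ Q := Ideal.Quotient.eq_zero_iff_mem.mp h0'
        have h2 : f ∈ Q.comap (algebraMap A₁ B₁) := h1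
        rw [hQ0] at h2
        exact hf0 (Ideal.mem_bot.mp h2)
      have hdimD : Ring.KrullDimLE 1 (B₁ ⧸ Q) := by
        refine krullDimLE_one_of_forall_mem (B₁ ⧸ Q) (algebraMap A₁ (B₁ ⧸ Q) f) hfbar ?_
        intro P hP hP0
        have hc : (P.comap (Ideal.Quotient.mk Q)).IsPrime := Ideal.comap_isPrime _ _
        have hlt : Q < P.comap (Ideal.Quotient.mk Q) := by
          refine lt_of_le_of_ne ?_ ?_
          · intro x hx
            rw [Ideal.mem_comap, Ideal.Quotient.eq_zero_iff_mem.mpr hx]
            exact zero_mem _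
          · intro h
            apply hP0
            rw [← Ideal.map_comap_of_surjective (Ideal.Quotient.mk Q)
              Ideal.Quotient.mk_surjective P, ← h, Ideal.map_quotient_self]
        exact hall _ hc hlt
      have hlocD' : (maximalIdeal A₁).map (algebraMap A₁ (B₁ ⧸ Q)) ≤ maximalIdeal (B₁ ⧸ Q) := by
        rw [Ideal.map_le_iff_le_comap]
        intro a ha
        rw [Ideal.mem_comap, IsLocalRing.mem_maximalIdeal, mem_nonunits_iff]
        intro hu
        have hu' : IsUnit (Ideal.Quotient.mk Q (algebraMap A₁ B₁ a)) := hu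
        have h1 : IsUnit (algebraMap A₁ B₁ a) := isUnit_of_map_unit (Ideal.Quotient.mk Q) _ hu'
        have h2 : IsUnit a := isUnit_of_map_unit (algebraMap A₁ B₁) a h1
        exact ((IsLocalRing.mem_maximalIdeal a).mp ha) h2
      have hradD : maximalIdeal (B₁ ⧸ Q) ≤
          ((maximalIdeal A₁).map (algebraMap A₁ (B₁ ⧸ Q))).radical := by
        rw [Ideal.radical_eq_sInf]
        refine le_sInf ?_
        rintro J ⟨hJle, hJprime⟩
        have hfJ : algebraMap A₁ (B₁ ⧸ Q) f ∈ J := hJle (Ideal.mem_map_of_mem _ hfm)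
        have hJ0 : J ≠ ⊥ := by
          intro h0
          rw [h0] at hfJ
          exact hfbar (Ideal.mem_bot.mp hfJ)
        have hJmax : J.IsMaximal := hJprime.isMaximal_of_ne_bot hJ0
        exact (IsLocalRing.eq_maximalIdeal hJmax).ge
      have hfinD : Module.Finite A₁ (ResidueField (B₁ ⧸ Q)) :=
        finite_residueField_of_surjective A₁ (Ideal.Quotient.mkₐ A₁ Q)
          (Ideal.Quotient.mkₐ_surjective A₁ Q) hfin
      have hfinite : Module.Finite A₁ (B₁ ⧸ Q) := finite_of_primary' hlocD' hradD hfinD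
      have hint : Algebra.IsIntegral A₁ (B₁ ⧸ Q) := Algebra.IsIntegral.of_finite A₁ _
      have hinj : Function.Injective (algebraMap A₁ (B₁ ⧸ Q)) := by
        rw [injective_iff_map_eq_zero]
        intro a ha
        have ha' : Ideal.Quotient.mk Q (algebraMap A₁ B₁ a) = 0 := ha
        have h1' : algebraMap A₁ B₁ a ∈ Q := Ideal.Quotient.eq_zero_iff_mem.mp ha'
        have h1 : a ∈ Q.comap (algebraMap A₁ B₁) := h1'
        rw [hQ0] at h1
        exact Ideal.mem_bot.mp h1
      have hdimA : Ring.KrullDimLE 1 A₁ := krullDimLE_one_of_integral hinj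
      have hcmA : LocCoh.IsCohenMacaulayLocalRing A₁ := isCMLocalRing_of_krullDimLE_one A₁ hne
      have hcmA' : LocCoh.IsCohenMacaulayRing A₁ := H8CM.isCMRing_of_isCMLocalRing
      have hcmAm : LocCoh.IsCohenMacaulayLocalRing (Localization.AtPrime (maximalIdeal A₁)) :=
        hcmA'.isCohenMacaulayLocalRing_localization _
      have hcmB : LocCoh.IsCohenMacaulayLocalRing (Localization.AtPrime (maximalIdeal B₁)) :=
        isCMLocalRing_of_fibre_at (maximalIdeal A₁) (maximalIdeal B₁) (hfib _ hne) hcmAm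
      exact isCMLocalRing_of_le Q (maximalIdeal B₁) (le_maximalIdeal hQ.ne_top) hcmB
  exact main Q₀ hQ₀ hQ₀0

/-- **Generic fibre step**: over a complete local domain `A₁` (not a field), if all fibres of the flat
local `A₁ → B₁` over nonzero primes are CM, so is the generic fibre. -/
theorem gen (hfin : Module.Finite A₁ (ResidueField B₁)) (hne : maximalIdeal A₁ ≠ ⊥)
    (hfib : ∀ (q : Ideal A₁) [q.IsPrime], q ≠ ⊥ → LocCoh.IsCohenMacaulayRing (q.Fiber B₁)) :
    LocCoh.IsCohenMacaulayRing ((⊥ : Ideal A₁).Fiber B₁) := by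
  have hN : IsNoetherianRing ((⊥ : Ideal A₁).Fiber B₁) := H56SkFibre.isNoetherianRing_fiber _
  refine ⟨fun Q hQ => ?_⟩
  refine CMHom33.isCohenMacaulayLocalRing_fiber_localization (⊥ : Ideal A₁) Q ?_
  have hr : (Q.comap (Algebra.TensorProduct.includeRight (R := A₁)
      (A := (⊥ : Ideal A₁).ResidueField) (B := B₁))).IsPrime := Ideal.comap_isPrime _ _
  exact gen_aux A₁ B₁ hfin hne hfib _ (comap_comap_includeRight ⊥ Q)

end Gen

section ThmA

variable (A B : Type u) [CommRing A] [CommRing B] [IsNoetherianRing A] [IsNoetherianRing B]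
  [IsLocalRing A] [IsLocalRing B] [Algebra A B] [IsLocalHom (algebraMap A B)] [Module.Flat A B]
  [IsAdicComplete (maximalIdeal A) A]

/-- **EGA IV 7.5.1, complete base, for 'Cohen–Macaulay'**: a flat local homomorphism from a
complete Noetherian local ring with finite residue field extension and CM closed fibre has all
fibres CM. -/
theorem thmA (hfin : Module.Finite A (ResidueField B))
    (hcl : LocCoh.IsCohenMacaulayRing (B ⧸ (maximalIdeal A).map (algebraMap A B))) :
    ∀ (p : Ideal A) [p.IsPrime], LocCoh.IsCohenMacaulayRing (p.Fiber B) := by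
  intro p
  refine WellFoundedGT.induction
    (motive := fun (p : Ideal A) => ∀ [p.IsPrime], LocCoh.IsCohenMacaulayRing (p.Fiber B)) p ?_
  intro p ih hp
  by_cases hpm : p = maximalIdeal A
  · subst hpm
    exact (cm_maxFib_iff A B (maximalIdeal A)).mpr hcl
  · have hlocA₁ : IsLocalRing (A ⧸ p) := H56SkFibre.isLocalRing_quotient p hp.ne_top
    have hpB : p.map (algebraMap A B) ≠ ⊤ := H56SkFibre.map_ne_top_of_ne_top p hp.ne_top
    have hlocB₁ : IsLocalRing (B ⧸ p.map (algebraMap A B)) :=
      H56SkFibre.isLocalRing_quotient _ hpB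
    have hlh : IsLocalHom (algebraMap (A ⧸ p) (B ⧸ p.map (algebraMap A B))) :=
      H56SkFibre.isLocalHom_quotient p
    have hflat : Module.Flat (A ⧸ p) (B ⧸ p.map (algebraMap A B)) := H56SkFibre.flat_quotient p
    have hcompl : IsAdicComplete (maximalIdeal (A ⧸ p)) (A ⧸ p) :=
      FSFlat.isAdicComplete_of_surjective (Ideal.Quotient.mk p) Ideal.Quotient.mk_surjective
    have hfin₁ : Module.Finite (A ⧸ p) (ResidueField (B ⧸ p.map (algebraMap A B))) := by
      have h1 : Module.Finite A (ResidueField (B ⧸ p.map (algebraMap A B))) :=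
        finite_residueField_of_surjective A (Ideal.Quotient.mkₐ A (p.map (algebraMap A B)))
          (Ideal.Quotient.mkₐ_surjective A _) hfin
      exact Module.Finite.of_restrictScalars_finite A (A ⧸ p) _
    have hmk : IsLocalHom (Ideal.Quotient.mk p) :=
      IsLocalHom.of_surjective (Ideal.Quotient.mk p) Ideal.Quotient.mk_surjective
    have hne₁ : maximalIdeal (A ⧸ p) ≠ ⊥ := by
      intro h0
      apply hpm
      have h1 := IsLocalRing.maximalIdeal_comap (Ideal.Quotient.mk p)
      rw [h0, ← RingHom.ker_eq_comap_bot, Ideal.mk_ker] at h1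
      exact h1
    have hfib₁ : ∀ (q₁ : Ideal (A ⧸ p)) [q₁.IsPrime], q₁ ≠ ⊥ →
        LocCoh.IsCohenMacaulayRing (q₁.Fiber (B ⧸ p.map (algebraMap A B))) := by
      intro q₁ hq₁ hq₁0
      have hqprime : (q₁.comap (Ideal.Quotient.mk p)).IsPrime := Ideal.comap_isPrime _ _
      have hlt : p < q₁.comap (Ideal.Quotient.mk p) := by
        refine lt_of_le_of_ne ?_ ?_
        · intro x hx
          rw [Ideal.mem_comap, Ideal.Quotient.eq_zero_iff_mem.mpr hx]
          exact zero_mem _
        · intro h
          apply hq₁0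
          rw [← Ideal.map_comap_of_surjective (Ideal.Quotient.mk p)
            Ideal.Quotient.mk_surjective q₁, ← h, Ideal.map_quotient_self]
      have hcmq : LocCoh.IsCohenMacaulayRing ((q₁.comap (Ideal.Quotient.mk p)).Fiber B) :=
        ih _ hlt
      have hker : RingHom.ker (algebraMap A q₁.ResidueField) =
          q₁.comap (Ideal.Quotient.mk p) := by
        ext a
        rw [RingHom.mem_ker, Ideal.mem_comap,
          IsScalarTower.algebraMap_apply A (A ⧸ p) q₁.ResidueField]
        exact Ideal.algebraMap_residueField_eq_zero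
      have hess : Algebra.EssFiniteType A q₁.ResidueField :=
        Algebra.EssFiniteType.comp A (A ⧸ p) q₁.ResidueField
      have h1 : LocCoh.IsCohenMacaulayRing (q₁.ResidueField ⊗[A] B) :=
        (cm_field_tensor_iff A B q₁.ResidueField _ hker).mp hcmq
      exact CMRingEquiv96.isCohenMacaulayRing_of_ringEquiv (R := q₁.ResidueField ⊗[A] B)
        (quotFibreEquiv A B p q₁.ResidueField).symm
    have hgen : LocCoh.IsCohenMacaulayRing
        ((⊥ : Ideal (A ⧸ p)).Fiber (B ⧸ p.map (algebraMap A B))) :=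
      gen (A ⧸ p) (B ⧸ p.map (algebraMap A B)) hfin₁ hne₁ hfib₁
    have hker0 : RingHom.ker (algebraMap A (⊥ : Ideal (A ⧸ p)).ResidueField) = p := by
      ext a
      rw [RingHom.mem_ker,
        IsScalarTower.algebraMap_apply A (A ⧸ p) (⊥ : Ideal (A ⧸ p)).ResidueField,
        Ideal.algebraMap_residueField_eq_zero, Ideal.mem_bot]
      exact Ideal.Quotient.eq_zero_iff_mem
    have hess0 : Algebra.EssFiniteType A (⊥ : Ideal (A ⧸ p)).ResidueField :=
      Algebra.EssFiniteType.comp A (A ⧸ p) _
    have h2 : LocCoh.IsCohenMacaulayRing ((⊥ : Ideal (A ⧸ p)).ResidueField ⊗[A] B) :=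
      CMRingEquiv96.isCohenMacaulayRing_of_ringEquiv
        (R := (⊥ : Ideal (A ⧸ p)).Fiber (B ⧸ p.map (algebraMap A B)))
        (quotFibreEquiv A B p (⊥ : Ideal (A ⧸ p)).ResidueField)
    exact (cm_field_tensor_iff A B (⊥ : Ideal (A ⧸ p)).ResidueField p hker0).mpr h2

end ThmA

section Main

/-- **EGA IV 7.5.1 for 'Cohen–Macaulay'**: `A` with CM formal fibres, `A → B` flat local with finite
residue field extension, and the closed fibre of `A → B̂` CM ⇒ `A → B` is a CM homomorphism. -/
theorem main (A B : Type u) [CommRing A] [CommRing B]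
    [IsNoetherianRing A] [IsNoetherianRing B] [IsLocalRing A] [IsLocalRing B] [Algebra A B]
    [IsLocalHom (algebraMap A B)] [Module.Flat A B]
    [Module.Finite (ResidueField A) (ResidueField B)]
    (hA : EGA4.HasCMFormalFibres A)
    (h : LocCoh.IsCohenMacaulayRing ((maximalIdeal A).Fiber (EGA4.Cpl B))) :
    CMHom33.IsCMHom A B := by
  have hNA : IsNoetherianRing (EGA4.Cpl A) := AdicNoeth.isNoetherianRing_adicCompletion _
  have hNB : IsNoetherianRing (EGA4.Cpl B) := AdicNoeth.isNoetherianRing_adicCompletion _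
  let alg : Algebra (EGA4.Cpl A) (EGA4.Cpl B) := (H14ComplFlat.cplMap A B).toAlgebra
  have tower : IsScalarTower A (EGA4.Cpl A) (EGA4.Cpl B) := H14ComplFlat.isScalarTower_cplMap A B
  have hff : Module.FaithfullyFlat (EGA4.Cpl A) (EGA4.Cpl B) :=
    H14ComplFlat.cplMap_faithfullyFlat A B
  have hflat : Module.Flat (EGA4.Cpl A) (EGA4.Cpl B) := inferInstance
  have hloc : IsLocalHom (algebraMap (EGA4.Cpl A) (EGA4.Cpl B)) :=
    H14ComplFlat.isLocalHom_cplMap A B
  have towerB : IsScalarTower A B (EGA4.Cpl B) := IsScalarTower.of_algebraMap_eq fun _ => rfl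
  have hfinA : Module.Finite A (ResidueField B) :=
    Module.Finite.trans (ResidueField A) (ResidueField B)
  have hfin1 : Module.Finite A (ResidueField (EGA4.Cpl B)) := finite_residueField_cpl A B hfinA
  have hfin2 : Module.Finite (EGA4.Cpl A) (ResidueField (EGA4.Cpl B)) :=
    Module.Finite.of_restrictScalars_finite A (EGA4.Cpl A) _
  have hcl1 : LocCoh.IsCohenMacaulayRing
      (EGA4.Cpl B ⧸ (maximalIdeal A).map (algebraMap A (EGA4.Cpl B))) :=
    (cm_maxFib_iff A (EGA4.Cpl B) (maximalIdeal A)).mp h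
  have hideal : (maximalIdeal (EGA4.Cpl A)).map (algebraMap (EGA4.Cpl A) (EGA4.Cpl B)) =
      (maximalIdeal A).map (algebraMap A (EGA4.Cpl B)) := by
    rw [AdicCompletion.maximalIdeal_eq_map, Ideal.map_map, ← IsScalarTower.algebraMap_eq]
  have hcl2 : LocCoh.IsCohenMacaulayRing
      (EGA4.Cpl B ⧸ (maximalIdeal (EGA4.Cpl A)).map (algebraMap (EGA4.Cpl A) (EGA4.Cpl B))) :=
    CMRingEquiv96.isCohenMacaulayRing_of_ringEquiv
      (R := EGA4.Cpl B ⧸ (maximalIdeal A).map (algebraMap A (EGA4.Cpl B)))
      (Ideal.quotEquivOfEq hideal.symm)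
  have hAB : CMHom33.IsCMHom (EGA4.Cpl A) (EGA4.Cpl B) :=
    ⟨hflat, thmA (EGA4.Cpl A) (EGA4.Cpl B) hfin2 hcl2⟩
  have hA' : CMHom33.IsCMHom A (EGA4.Cpl A) :=
    ⟨AdicCompletion.flat_of_isNoetherian (maximalIdeal A), hA⟩
  have hcomp : CMHom33.IsCMHom A (EGA4.Cpl B) := hA'.comp hAB
  have hffB : Module.FaithfullyFlat B (EGA4.Cpl B) := by
    have : Module.Flat B (EGA4.Cpl B) := AdicCompletion.flat_of_isNoetherian (maximalIdeal B)
    exact Module.FaithfullyFlat.of_flat_of_isLocalHom
  exact hcomp.of_faithfullyFlat (T := B)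

end Main

end Groth.Agent.Lib.CMFlatFibres98
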