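import Groth.Agent.Lib.CMComp33
import Groth.Agent.Lib.CMFieldExt33
import Groth.Agent.Lib.H8CM6
import Groth.Agent.Lib.FibreStalkCM33
import Mathlib

/-!
# Cohen–Macaulay homomorphisms: the ring-hom property `FibCM` (helper33)

* `FibCM ψ`: for a ring hom `ψ : A → C` out of a local ring: `ψ` flat and `C ⧸ 𝔪_A C` a
  Cohen–Macaulay local ring.
* `fibCM_respectsIso`: invariance under isomorphisms.
* `isCMAt_iff_fibCM`: `MoreMor.IsCMAt f x ↔ FibCM (f.stalkMap x).hom`.
* `isCMAt_iff_fibCM_localRingHom`: in affine charts.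
-/

set_option autoImplicit false
universe u

open IsLocalRing Groth.Agent.Lib CategoryTheory AlgebraicGeometry

namespace Groth.Agent.Lib.CMQF33

/-- The Cohen–Macaulay condition on a ring homomorphism `ψ : A → C` out of a local ring: `ψ` is flat
and `C ⧸ 𝔪_A C` is a Cohen–Macaulay local ring. -/
def FibCM {A C : Type u} [CommRing A] [CommRing C] (ψ : A →+* C) : Prop :=
  ψ.Flat ∧ ∃ _ : IsLocalRing A, LocCoh.IsCohenMacaulayLocalRing (C ⧸ Ideal.map ψ (maximalIdeal A))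

theorem fibCM_iff {A C : Type u} [CommRing A] [CommRing C] [IsLocalRing A] (ψ : A →+* C) :
    FibCM ψ ↔ ψ.Flat ∧ LocCoh.IsCohenMacaulayLocalRing (C ⧸ Ideal.map ψ (maximalIdeal A)) :=
  ⟨fun ⟨h1, _, h2⟩ => ⟨h1, h2⟩, fun ⟨h1, h2⟩ => ⟨h1, inferInstance, h2⟩⟩

theorem fibCM_respectsIso : RingHom.RespectsIso @FibCM := by
  constructor
  · intro R S T _ _ _ f e ⟨hfl, hloc, hcm⟩
    refine ⟨RingHom.Flat.respectsIso.1 f e hfl, hloc, ?_⟩
    have hmap : Ideal.map (e.toRingHom.comp f) (maximalIdeal R) =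
        Ideal.map (e : S →+* T) (Ideal.map f (maximalIdeal R)) := by
      rw [Ideal.map_map]; rfl
    exact CMRingEquiv96.isCohenMacaulayLocalRing_of_ringEquiv
      (Ideal.quotientEquiv (Ideal.map f (maximalIdeal R))
        (Ideal.map (e.toRingHom.comp f) (maximalIdeal R)) e hmap)
  · intro R S T _ _ _ f e ⟨hfl, hloc, hcm⟩
    have hlocR : IsLocalRing R := e.symm.isLocalRing
    refine ⟨RingHom.Flat.respectsIso.2 f e hfl, hlocR, ?_⟩
    have hm : Ideal.map (e : R →+* S) (maximalIdeal R) = maximalIdeal S :=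
      IsLocalRing.eq_maximalIdeal (Ideal.map_isMaximal_of_equiv e)
    have hmap : Ideal.map (f.comp e.toRingHom) (maximalIdeal R) =
        Ideal.map f (maximalIdeal S) := by
      rw [← hm, Ideal.map_map]; rfl
    exact CMRingEquiv96.isCohenMacaulayLocalRing_of_ringEquiv
      (Ideal.quotEquivOfEq hmap.symm)

/-- `f` is Cohen–Macaulay at `x` iff the stalk map at `x` satisfies `FibCM`. -/
theorem isCMAt_iff_fibCM {X S : Scheme.{u}} (f : X ⟶ S) (x : X) :
    MoreMor.IsCMAt f x ↔ FibCM (f.stalkMap x).hom := by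
  rw [FibreStalkCM33.isCMAt_iff, fibCM_iff]

/-- In affine charts: `f` is Cohen–Macaulay at `x ∈ V ⊆ f⁻¹ U` iff the localization of
`Γ(Y, U) → Γ(X, V)` at the prime of `x` satisfies `FibCM`. -/
theorem isCMAt_iff_fibCM_appLE {X Y : Scheme.{u}} (f : X ⟶ Y) {x : X} (U : Y.Opens)
    (hU : IsAffineOpen U) (V : X.Opens) (hV : IsAffineOpen V) (hVU : V ≤ f ⁻¹ᵁ U) (hx : x ∈ V) :
    MoreMor.IsCMAt f x ↔ FibCM (Localization.localRingHom _ _ (f.appLE U V hVU).hom
      congr($(IsAffineOpen.comap_primeIdealOf_appLE U hU V hV hVU hx).1).symm) := by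
  rw [isCMAt_iff_fibCM]
  exact fibCM_respectsIso.arrow_mk_iso_iff (IsAffineOpen.arrowStalkMapIso f U hU V hV hVU hx)

/-- For `Spec.map φ`. -/
theorem isCMAt_Spec_iff {R S : CommRingCat.{u}} (φ : R ⟶ S) (q : PrimeSpectrum S) :
    MoreMor.IsCMAt (Spec.map φ) q ↔ FibCM (Localization.localRingHom
      (q.comap φ.hom).asIdeal q.asIdeal φ.hom rfl) := by
  rw [isCMAt_iff_fibCM]
  exact fibCM_respectsIso.arrow_mk_iso_iff (Scheme.arrowStalkMapSpecIso φ q)

/-- Source-locality: precomposing with an open immersion. -/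
theorem isCMAt_comp_openImmersion_left {U X S : Scheme.{u}} (j : U ⟶ X) [IsOpenImmersion j]
    (f : X ⟶ S) (u : U) : MoreMor.IsCMAt (j ≫ f) u ↔ MoreMor.IsCMAt f (j u) := by
  rw [isCMAt_iff_fibCM, isCMAt_iff_fibCM]
  have e : (j ≫ f).stalkMap u = f.stalkMap (j u) ≫ j.stalkMap u := Scheme.Hom.stalkMap_comp j f u
  rw [e]
  exact fibCM_respectsIso.cancel_right_isIso (f.stalkMap (j u)) (j.stalkMap u)

/-- Target-locality: postcomposing with an open immersion. -/
theorem isCMAt_comp_openImmersion_right {X V Y : Scheme.{u}} (f : X ⟶ V) (j : V ⟶ Y)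
    [IsOpenImmersion j] (x : X) : MoreMor.IsCMAt (f ≫ j) x ↔ MoreMor.IsCMAt f x := by
  rw [isCMAt_iff_fibCM, isCMAt_iff_fibCM]
  have e : (f ≫ j).stalkMap x = j.stalkMap (f x) ≫ f.stalkMap x := Scheme.Hom.stalkMap_comp f j x
  rw [e]
  exact fibCM_respectsIso.cancel_left_isIso (j.stalkMap (f x)) (f.stalkMap x)

end Groth.Agent.Lib.CMQF33
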