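import Groth.Agent.Lib.CMQF33a
import Groth.Agent.Lib.CMAscent33
import Mathlib

/-!
# Quasi-finite flat maps to polynomial rings have Cohen–Macaulay fibres (helper33)

Ring-level "Theorem B": if `R → P = R[T₁..Tₙ] → S` and `S` is quasi-finite and flat over `P` at a
prime `q`, then `R → S` is Cohen–Macaulay at `q`.
-/

set_option autoImplicit false
universe u

open IsLocalRing Groth.Agent.Lib TensorProduct

namespace Groth.Agent.Lib.CMQF33

section Artinian

variable {P S : Type u} [CommRing P] [CommRing S] [Algebra P S] (q : Ideal S) [q.IsPrime]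

/-- The local ring of the fibre at a quasi-finite point is a zero-dimensional local ring. -/
theorem krullDimLE_zero_of_quasiFiniteAt [Algebra.QuasiFiniteAt P q] :
    IsLocalRing (Localization.AtPrime q ⧸
      (q.under P).map (algebraMap P (Localization.AtPrime q))) ∧
    Ring.KrullDimLE 0 (Localization.AtPrime q ⧸
      (q.under P).map (algebraMap P (Localization.AtPrime q))) := by
  set J := (q.under P).map (algebraMap P (Localization.AtPrime q)) with hJ
  have hqf : Algebra.QuasiFinite P (Localization.AtPrime q ⧸ J) :=
    (Algebra.weaklyQuasiFiniteAt_iff q).mp inferInstance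
  have hJle : J ≤ maximalIdeal (Localization.AtPrime q) := by
    rw [hJ, Ideal.map_le_iff_le_comap]
    intro x hx
    rw [Ideal.mem_comap, IsScalarTower.algebraMap_apply P S (Localization.AtPrime q)]
    have h1 : algebraMap P S x ∈ q := hx
    have h2 := IsLocalization.AtPrime.under_maximalIdeal (Localization.AtPrime q) q
    rw [← h2] at h1
    exact h1
  have hJtop : J ≠ ⊤ := fun h => (Ideal.IsPrime.ne_top inferInstance) (top_le_iff.mp (h ▸ hJle))
  have hloc : IsLocalRing (Localization.AtPrime q ⧸ J) := CMComp33.isLocalRing_quotient J hJtop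
  have hmax_under : (maximalIdeal (Localization.AtPrime q ⧸ J)).under P = q.under P := by
    have h1 : (maximalIdeal (Localization.AtPrime q ⧸ J)).comap (Ideal.Quotient.mk J) =
        maximalIdeal (Localization.AtPrime q) := by
      have : IsLocalHom (Ideal.Quotient.mk J) :=
        IsLocalHom.of_surjective _ Ideal.Quotient.mk_surjective
      exact ((local_hom_TFAE (Ideal.Quotient.mk J)).out 0 4).mp this
    have h2 := IsLocalization.AtPrime.under_maximalIdeal (Localization.AtPrime q) q
    rw [Ideal.under_def, IsScalarTower.algebraMap_eq P (Localization.AtPrime q)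
      (Localization.AtPrime q ⧸ J), ← Ideal.comap_comap]
    change Ideal.comap (algebraMap P (Localization.AtPrime q))
      (Ideal.comap (Ideal.Quotient.mk J) (maximalIdeal (Localization.AtPrime q ⧸ J))) = _
    rw [h1, IsScalarTower.algebraMap_eq P S (Localization.AtPrime q), ← Ideal.comap_comap]
    change Ideal.comap (algebraMap P S) (Ideal.under S (maximalIdeal (Localization.AtPrime q))) = _
    rw [h2]
  have hdim : Ring.KrullDimLE 0 (Localization.AtPrime q ⧸ J) := by
    rw [Ring.krullDimLE_zero_iff]
    intro I hI
    have hle : I ≤ maximalIdeal (Localization.AtPrime q ⧸ J) := le_maximalIdeal hI.ne_top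
    have hunder : I.under P = (maximalIdeal (Localization.AtPrime q ⧸ J)).under P := by
      refine le_antisymm (Ideal.comap_mono hle) ?_
      rw [hmax_under]
      intro x hx
      rw [Ideal.under_def, Ideal.mem_comap, IsScalarTower.algebraMap_apply P (Localization.AtPrime q)
        (Localization.AtPrime q ⧸ J)]
      have : algebraMap P (Localization.AtPrime q) x ∈ J := Ideal.mem_map_of_mem _ hx
      have h0 : algebraMap (Localization.AtPrime q) (Localization.AtPrime q ⧸ J)
          (algebraMap P (Localization.AtPrime q) x) = 0 :=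
        Ideal.Quotient.eq_zero_iff_mem.mpr this
      rw [h0]
      exact I.zero_mem
    have := Algebra.QuasiFinite.eq_of_le_of_under_eq (R := P) I
      (maximalIdeal (Localization.AtPrime q ⧸ J)) hle hunder
    rw [this]
    infer_instance
  exact ⟨hloc, hdim⟩

/-- The local ring of the fibre at a quasi-finite point is zero-dimensional, hence CM. -/
theorem isCM_quotient_of_quasiFiniteAt [Algebra.QuasiFiniteAt P q]
    [IsNoetherianRing (Localization.AtPrime q ⧸
      (q.under P).map (algebraMap P (Localization.AtPrime q)))] :
    LocCoh.IsCohenMacaulayLocalRing (Localization.AtPrime q ⧸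
      (q.under P).map (algebraMap P (Localization.AtPrime q))) := by
  obtain ⟨hloc, hdim⟩ := krullDimLE_zero_of_quasiFiniteAt (P := P) q
  exact CMFieldExt33.isCohenMacaulayLocalRing_of_krullDimLE_zero _

end Artinian

section Fibre

variable {R S : Type u} [CommRing R] [CommRing S] [Algebra R S]

/-- Every prime `q` of `S` over `p` comes from a prime of the fibre ring `κ(p) ⊗ S`. -/
theorem exists_fiber_prime (p : Ideal R) [p.IsPrime] (q : Ideal S) [q.IsPrime]
    (hq : q.under R = p) :
    ∃ (Q : Ideal (p.Fiber S)) (_ : Q.IsPrime),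
      Q.comap (Algebra.TensorProduct.includeRight : S →ₐ[R] p.Fiber S) = q := by
  let e := PrimeSpectrum.preimageEquivFiber R S ⟨p, inferInstance⟩
  have hmem : (⟨q, inferInstance⟩ : PrimeSpectrum S) ∈
      PrimeSpectrum.comap (algebraMap R S) ⁻¹' {⟨p, inferInstance⟩} := by
    rw [Set.mem_preimage, Set.mem_singleton_iff]
    exact PrimeSpectrum.ext hq
  refine ⟨(e ⟨⟨q, inferInstance⟩, hmem⟩).asIdeal, (e ⟨⟨q, inferInstance⟩, hmem⟩).2, ?_⟩
  exact congr($(e.symm_apply_apply ⟨⟨q, inferInstance⟩, hmem⟩).1.asIdeal)

/-- The local ring of the fibre `κ(p) ⊗ S` at a prime `Q` is `S_q ⧸ p S_q`, `q` the contraction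
of `Q`. -/
noncomputable def fiberLocEquiv (p : Ideal R) [p.IsPrime] (Q : Ideal (p.Fiber S)) [Q.IsPrime] :
    Localization.AtPrime Q ≃+*
      (Localization.AtPrime (Q.comap (Algebra.TensorProduct.includeRight :
          S →ₐ[R] p.Fiber S)) ⧸
          p.map (algebraMap R (Localization.AtPrime (Q.comap (Algebra.TensorProduct.includeRight :
            S →ₐ[R] p.Fiber S))))) :=
  (Ideal.Fiber.algEquivAux₂ p Q).toRingEquiv.trans (Ideal.quotEquivOfEq (by
    rw [Ideal.map_map, ← IsScalarTower.algebraMap_eq]))

/-- The local ring of the fibre `κ(p) ⊗ S` at a prime `Q` is CM iff `S_q ⧸ p S_q` is, `q` the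
contraction of `Q`. -/
theorem isCM_localization_fiber_iff (p : Ideal R) [p.IsPrime] (Q : Ideal (p.Fiber S)) [Q.IsPrime] :
    LocCoh.IsCohenMacaulayLocalRing (Localization.AtPrime Q) ↔
      LocCoh.IsCohenMacaulayLocalRing
        (Localization.AtPrime (Q.comap (Algebra.TensorProduct.includeRight :
          S →ₐ[R] p.Fiber S)) ⧸
          p.map (algebraMap R (Localization.AtPrime (Q.comap (Algebra.TensorProduct.includeRight :
            S →ₐ[R] p.Fiber S))))) :=
  ⟨fun _ => CMRingEquiv96.isCohenMacaulayLocalRing_of_ringEquiv
      (R := Localization.AtPrime Q) (fiberLocEquiv p Q),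
    fun _ => CMRingEquiv96.isCohenMacaulayLocalRing_of_ringEquiv
      (R' := Localization.AtPrime Q) (fiberLocEquiv p Q).symm⟩

/-- For `S` of finite type over `R`, the local rings of the fibres are Noetherian. -/
theorem isNoetherianRing_fibreLocalRing [Algebra.FiniteType R S] (p : Ideal R) [p.IsPrime]
    (q : Ideal S) [q.IsPrime] (hq : q.under R = p) :
    IsNoetherianRing (Localization.AtPrime q ⧸ p.map (algebraMap R (Localization.AtPrime q))) := by
  obtain ⟨Q, hQ, rfl⟩ := exists_fiber_prime p q hq
  have h1 : IsNoetherianRing (p.Fiber S) := Algebra.FiniteType.isNoetherianRing p.ResidueField _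
  have h2 : IsNoetherianRing (Localization.AtPrime Q) :=
    IsLocalization.isNoetherianRing Q.primeCompl _ h1
  exact isNoetherianRing_of_ringEquiv _ (fiberLocEquiv p Q)

/-- The fibres of a polynomial ring are regular of dimension at most the number of variables. -/
theorem isRegularLocalRing_fibreLocalRing_mvPolynomial (σ : Type u) [Finite σ] (p : Ideal R)
    [p.IsPrime] (r : Ideal (MvPolynomial σ R)) [r.IsPrime] (hr : r.under R = p) :
    IsRegularLocalRing
      (Localization.AtPrime r ⧸ p.map (algebraMap R (Localization.AtPrime r))) ∧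
    ringKrullDim (Localization.AtPrime r ⧸ p.map (algebraMap R (Localization.AtPrime r))) ≤
      (Nat.card σ : WithBot ℕ∞) := by
  obtain ⟨Q, hQ, rfl⟩ := exists_fiber_prime p r hr
  let e : p.ResidueField ⊗[R] MvPolynomial σ R ≃ₐ[p.ResidueField] MvPolynomial σ p.ResidueField :=
    MvPolynomial.algebraTensorAlgEquiv R p.ResidueField
  have hreg : IsRegularRing (p.Fiber (MvPolynomial σ R)) :=
    IsRegularRing.of_ringEquiv e.symm.toRingEquiv
  have hloc : IsRegularLocalRing (Localization.AtPrime Q) :=
    IsRegularRing.isRegularLocalRing_localization Q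
  refine ⟨IsRegularLocalRing.of_ringEquiv (R := Localization.AtPrime Q) (fiberLocEquiv p Q), ?_⟩
  rw [← ringKrullDim_eq_of_ringEquiv (fiberLocEquiv p Q),
    IsLocalization.AtPrime.ringKrullDim_eq_height Q (Localization.AtPrime Q)]
  have h1 := Ideal.height_le_ringKrullDim_of_ne_top (Ideal.IsPrime.ne_top hQ)
  have h2 : ringKrullDim (p.Fiber (MvPolynomial σ R)) = (Nat.card σ : WithBot ℕ∞) := by
    rw [ringKrullDim_eq_of_ringEquiv e.toRingEquiv, MvPolynomial.ringKrullDim_of_isNoetherianRing,
      ringKrullDim_eq_zero_of_field, zero_add]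
  rw [h2] at h1
  exact h1

/-- The fibres of a polynomial ring are Cohen–Macaulay (indeed regular). -/
theorem isCM_fibreLocalRing_mvPolynomial (σ : Type u) [Finite σ] (p : Ideal R) [p.IsPrime]
    (r : Ideal (MvPolynomial σ R)) [r.IsPrime] (hr : r.under R = p) :
    LocCoh.IsCohenMacaulayLocalRing
      (Localization.AtPrime r ⧸ p.map (algebraMap R (Localization.AtPrime r))) := by
  have := (isRegularLocalRing_fibreLocalRing_mvPolynomial σ p r hr).1
  exact H8CM.isCMLocalRing_of_isRegularLocalRing

end Fibre

section TheoremB

/-- The image of the maximal ideal under a localized ring hom. -/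
theorem map_localRingHom_maximalIdeal {R S : Type u} [CommRing R] [CommRing S] [Algebra R S]
    (p : Ideal R) [p.IsPrime] (q : Ideal S) [q.IsPrime] (h : p = q.comap (algebraMap R S)) :
    Ideal.map (Localization.localRingHom p q (algebraMap R S) h)
      (maximalIdeal (Localization.AtPrime p)) = p.map (algebraMap R (Localization.AtPrime q)) := by
  rw [← Localization.AtPrime.map_eq_maximalIdeal, Ideal.map_map]
  congr 1
  ext x
  simp only [RingHom.comp_apply, Localization.localRingHom_to_map]
  rw [IsScalarTower.algebraMap_apply R S (Localization.AtPrime q)]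

variable {R P S : Type u} [CommRing R] [CommRing P] [CommRing S] [Algebra R P] [Algebra P S]
  [Algebra R S] [IsScalarTower R P S]

/-- **Theorem B.** `R → P → S` with `P` flat over `R` with Cohen–Macaulay fibres (e.g. a polynomial
ring), `S` of finite type over `R`. If `S` is quasi-finite and flat over `P` at `q`, then `R → S` is
Cohen–Macaulay at `q`. -/
theorem fibCM_of_quasiFiniteAt_of_flat [Module.Flat R P] [Algebra.FiniteType R S]
    (hP : ∀ (r : Ideal P) [r.IsPrime], LocCoh.IsCohenMacaulayLocalRing
      (Localization.AtPrime r ⧸ (r.under R).map (algebraMap R (Localization.AtPrime r))))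
    (q : Ideal S) [q.IsPrime] [Algebra.QuasiFiniteAt P q]
    (hflat : (Localization.localRingHom (q.under P) q (algebraMap P S) rfl).Flat) :
    FibCM (Localization.localRingHom (q.under R) q (algebraMap R S) rfl) := by
  set p := q.under R with hp
  set r := q.under P with hr
  have hrp : p = r.comap (algebraMap R P) := by
    rw [hp, hr, Ideal.under_def, Ideal.under_def, Ideal.comap_comap,
      ← IsScalarTower.algebraMap_eq]
  have hFT : Algebra.FiniteType P S := Algebra.FiniteType.of_restrictScalars_finiteType R P S
  have hNS : IsNoetherianRing (Localization.AtPrime q ⧸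
      r.map (algebraMap P (Localization.AtPrime q))) :=
    isNoetherianRing_fibreLocalRing (R := P) r q rfl
  set φ := Localization.localRingHom p r (algebraMap R P) hrp with hφ
  set χ := Localization.localRingHom r q (algebraMap P S) rfl with hχ
  have hcomp : Localization.localRingHom p q (algebraMap R S) rfl = χ.comp φ := by
    rw [hφ, hχ, ← Localization.localRingHom_comp]
    congr 1
    exact (IsScalarTower.algebraMap_eq R P S)
  have hφloc : IsLocalHom φ := Localization.isLocalHom_localRingHom p r _ hrp
  have hχloc : IsLocalHom χ := Localization.isLocalHom_localRingHom r q _ rfl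
  have hφflat : φ.Flat := RingHom.Flat.localRingHom
    (RingHom.flat_algebraMap_iff.mpr inferInstance) r p hrp
  rw [fibCM_iff, hcomp]
  refine ⟨RingHom.Flat.comp hφflat hflat, ?_⟩
  -- the three quotient rings
  have hB : LocCoh.IsCohenMacaulayLocalRing
      (Localization.AtPrime r ⧸ Ideal.map φ (maximalIdeal (Localization.AtPrime p))) := by
    rw [hφ, map_localRingHom_maximalIdeal p r hrp]
    have := hP r
    rw [show r.under R = p from hrp.symm] at this
    exact this
  have hC : LocCoh.IsCohenMacaulayLocalRing
      (Localization.AtPrime q ⧸ Ideal.map χ (maximalIdeal (Localization.AtPrime r))) := by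
    rw [hχ, map_localRingHom_maximalIdeal r q rfl]
    exact isCM_quotient_of_quasiFiniteAt q
  have hNB : IsNoetherianRing
      (Localization.AtPrime r ⧸ Ideal.map φ (maximalIdeal (Localization.AtPrime p))) := hB.1
  have hmapeq : Ideal.map (χ.comp φ) (maximalIdeal (Localization.AtPrime p)) =
      Ideal.map χ (Ideal.map φ (maximalIdeal (Localization.AtPrime p))) := by
    rw [Ideal.map_map]
  have hNC : IsNoetherianRing (Localization.AtPrime q ⧸
      Ideal.map χ (Ideal.map φ (maximalIdeal (Localization.AtPrime p)))) := by
    have h1 := isNoetherianRing_fibreLocalRing (R := R) p q rfl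
    have h2 : Ideal.map χ (Ideal.map φ (maximalIdeal (Localization.AtPrime p))) =
        p.map (algebraMap R (Localization.AtPrime q)) := by
      rw [← hmapeq, ← hcomp, map_localRingHom_maximalIdeal p q rfl]
    rw [h2]
    exact h1
  have key := (CMComp33.isCohenMacaulayLocalRing_comp_iff φ χ hflat).mpr ⟨hB, hC⟩
  rw [hmapeq]
  exact key

end TheoremB

end Groth.Agent.Lib.CMQF33
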