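import Mathlib

/-!
# Regular sequences and the first Tor obstruction

If `rs` is a weakly regular sequence on `M` then `(rs) ⊗ M → R ⊗ M` is injective
(i.e. `Tor₁(R/(rs), M) = 0`), proved by hand (no Koszul complex).
-/

set_option autoImplicit false
set_option linter.style.haveILetI false

open TensorProduct RingTheory.Sequence

namespace Groth.Agent.Lib.RegSeqTorOne

variable {R M : Type*} [CommRing R] [AddCommGroup M] [Module R M]

/-- Abstract core: if `r₀, r₁, …` (images of `e i ∈ I`) form a "regular sequence on `M`" in the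
elementwise sense, then every relation `∑ rᵢ mᵢ = 0` gives `∑ eᵢ ⊗ mᵢ = 0` in `I ⊗ M`. -/
theorem sum_tmul_eq_zero (I : Ideal R) (e : ℕ → I) (n : ℕ)
    (hreg : ∀ k < n, ∀ (m : M) (f : ℕ → M),
      (e k : R) • m = ∑ i ∈ Finset.range k, (e i : R) • f i →
      ∃ g : ℕ → M, m = ∑ i ∈ Finset.range k, (e i : R) • g i) :
    ∀ k ≤ n, ∀ m : ℕ → M, ∑ i ∈ Finset.range k, (e i : R) • m i = 0 →
      ∑ i ∈ Finset.range k, e i ⊗ₜ[R] m i = 0 := by
  intro k
  induction k with
  | zero => intro _ m _; simp
  | succ k ih =>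
    intro hk m hm
    rw [Finset.sum_range_succ] at hm
    obtain ⟨g, hg⟩ := hreg k (by omega) (m k) (fun i => - m i) (by
      simp only [smul_neg, Finset.sum_neg_distrib]
      exact eq_neg_of_add_eq_zero_right hm)
    have h1 := ih (by omega) (fun i => m i + (e k : R) • g i) (by
      simp only [smul_add, Finset.sum_add_distrib]
      rw [← hm, hg, Finset.smul_sum]
      congr 1
      exact Finset.sum_congr rfl fun i _ => smul_comm _ _ _)
    rw [Finset.sum_range_succ]
    simp only [tmul_add, Finset.sum_add_distrib] at h1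
    rw [← h1]
    congr 1
    rw [hg, tmul_sum]
    refine Finset.sum_congr rfl fun i _ => ?_
    rw [tmul_smul, tmul_smul, smul_tmul', smul_tmul']
    congr 1
    exact Subtype.ext (by simp [mul_comm])

theorem exists_sum_of_mem_ofList (rs : List R) (a : R) (ha : a ∈ Ideal.ofList rs) :
    ∃ c : ℕ → R, a = ∑ i ∈ Finset.range rs.length, c i * rs.getD i 0 := by
  induction ha using Submodule.span_induction with
  | mem x hx =>
    obtain ⟨i, hi, rfl⟩ := List.getElem_of_mem hx
    refine ⟨Pi.single i 1, ?_⟩
    rw [Finset.sum_eq_single i]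
    · rw [Pi.single_eq_same, one_mul, List.getD_eq_getElem _ _ hi]
    · intro j _ hji; simp [Pi.single_eq_of_ne hji]
    · intro h; exact absurd (Finset.mem_range.mpr hi) h
  | zero => exact ⟨0, by simp⟩
  | add x y _ _ hx hy =>
    obtain ⟨c, rfl⟩ := hx
    obtain ⟨d, rfl⟩ := hy
    exact ⟨c + d, by simp [add_mul, Finset.sum_add_distrib]⟩
  | smul b x _ hx =>
    obtain ⟨c, rfl⟩ := hx
    exact ⟨b • c, by simp [Finset.mul_sum, mul_assoc]⟩

theorem exists_sum_of_mem_ofList_smul_top (l : List R) (x : M)
    (hx : x ∈ Ideal.ofList l • (⊤ : Submodule R M)) :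
    ∃ f : ℕ → M, x = ∑ i ∈ Finset.range l.length, l.getD i 0 • f i := by
  refine Submodule.smul_induction_on hx ?_ ?_
  · intro a ha m _
    obtain ⟨c, rfl⟩ := exists_sum_of_mem_ofList l a ha
    refine ⟨fun i => c i • m, ?_⟩
    rw [Finset.sum_smul]
    exact Finset.sum_congr rfl fun i _ => by rw [mul_comm, mul_smul]
  · intro x y hx hy
    obtain ⟨f, rfl⟩ := hx
    obtain ⟨g, rfl⟩ := hy
    exact ⟨f + g, by simp [smul_add, Finset.sum_add_distrib]⟩

theorem getD_mem_ofList (rs : List R) (i : ℕ) : rs.getD i 0 ∈ Ideal.ofList rs := by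
  by_cases hi : i < rs.length
  · rw [List.getD_eq_getElem _ _ hi]
    exact Ideal.subset_span (List.getElem_mem hi)
  · rw [List.getD_eq_default _ _ (by omega)]
    exact zero_mem _

/-- **Regular sequences have vanishing first Koszul/Tor obstruction**: if `rs` is weakly regular
on `M`, then `(rs) ⊗ M → R ⊗ M` is injective. -/
theorem rTensor_injective_of_isWeaklyRegular (rs : List R) (h : IsWeaklyRegular M rs) :
    Function.Injective ((Ideal.ofList rs).subtype.rTensor M) := by
  set I := Ideal.ofList rs with hI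
  obtain ⟨n, hn⟩ : ∃ n, n = rs.length := ⟨_, rfl⟩
  let e : ℕ → I := fun i => ⟨rs.getD i 0, getD_mem_ofList rs i⟩
  have he : ∀ i, (e i : R) = rs.getD i 0 := fun i => rfl
  -- Step A: every tensor is a sum of `e i ⊗ m i`
  have hA : ∀ z : I ⊗[R] M, ∃ m : ℕ → M, z = ∑ i ∈ Finset.range n, e i ⊗ₜ[R] m i := by
    intro z
    induction z using TensorProduct.induction_on with
    | zero => exact ⟨0, by simp⟩
    | tmul a m =>
      obtain ⟨c, hc⟩ := exists_sum_of_mem_ofList rs a a.2
      rw [← hn] at hc
      refine ⟨fun i => c i • m, ?_⟩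
      have : a = ∑ i ∈ Finset.range n, c i • e i := by
        apply Subtype.ext
        rw [hc]
        simp [he]
      rw [this, sum_tmul]
      exact Finset.sum_congr rfl fun i _ => by rw [smul_tmul]
    | add x y hx hy =>
      obtain ⟨f, rfl⟩ := hx
      obtain ⟨g, rfl⟩ := hy
      exact ⟨f + g, by simp [tmul_add, Finset.sum_add_distrib]⟩
  -- regularity in elementwise form
  have hreg : ∀ k < n, ∀ (m : M) (f : ℕ → M),
      (e k : R) • m = ∑ i ∈ Finset.range k, (e i : R) • f i →
      ∃ g : ℕ → M, m = ∑ i ∈ Finset.range k, (e i : R) • g i := by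
    intro k hk m f hmf
    have hk' : k < rs.length := hn ▸ hk
    have hr := h.regular_mod_prev k hk'
    have hlen : (rs.take k).length = k := by simp; omega
    have hget : ∀ i < k, (rs.take k).getD i 0 = rs.getD i 0 := by
      intro i hi
      rw [List.getD_eq_getElem _ _ (by omega), List.getD_eq_getElem _ _ (by omega)]
      simp
    have hmem : rs[k] • m ∈ Ideal.ofList (rs.take k) • (⊤ : Submodule R M) := by
      have : rs[k] = (e k : R) := by rw [he, List.getD_eq_getElem _ _ hk']
      rw [this, hmf]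
      refine Submodule.sum_mem _ fun i hi => Submodule.smul_mem_smul ?_ Submodule.mem_top
      have hi' : i < k := Finset.mem_range.mp hi
      rw [he, ← hget i hi']
      exact getD_mem_ofList _ _
    have hm0 : Submodule.Quotient.mk (p := Ideal.ofList (rs.take k) • (⊤ : Submodule R M)) m = 0 := by
      apply hr
      simp only [smul_zero]
      rw [← Submodule.Quotient.mk_smul, Submodule.Quotient.mk_eq_zero]
      exact hmem
    rw [Submodule.Quotient.mk_eq_zero] at hm0
    obtain ⟨g, hg⟩ := exists_sum_of_mem_ofList_smul_top _ m hm0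
    refine ⟨g, ?_⟩
    rw [hg, hlen]
    exact Finset.sum_congr rfl fun i hi => by rw [hget i (Finset.mem_range.mp hi), he]
  rw [injective_iff_map_eq_zero]
  intro z hz
  obtain ⟨m, rfl⟩ := hA z
  apply sum_tmul_eq_zero I e n hreg n le_rfl m
  have := congrArg (TensorProduct.lid R M) hz
  simpa [map_sum] using this

end Groth.Agent.Lib.RegSeqTorOne
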