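import Groth.Agent.Lib.CMQF33b
import Groth.Agent.S2599
import Groth.Agent.S0392
import Mathlib

/-!
# Miracle flatness + fibrewise criterion, local form (helper33)

`A → B → C` local homomorphisms of Noetherian local rings with `C` flat over `A`,
`D = B ⧸ 𝔪_A B` regular, `C̄ = C ⧸ 𝔪_A C` Cohen–Macaulay with `dim D ≤ dim C̄` and
`C ⧸ 𝔪_B C` zero-dimensional.  Then `C` is flat over `B`.
-/

set_option autoImplicit false
universe u

open IsLocalRing Groth.Agent.Lib TensorProduct

namespace Groth.Agent.Lib.CMQF33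

section ALocal

variable {A B C : Type u} [CommRing A] [CommRing B] [CommRing C]
  [IsLocalRing A] [IsLocalRing B] [IsLocalRing C]
  [IsNoetherianRing A] [IsNoetherianRing B] [IsNoetherianRing C]
  (φ : A →+* B) (χ : B →+* C) [IsLocalHom φ] [IsLocalHom χ]

theorem flat_of_miracle (hcomp : (χ.comp φ).Flat)
    [hD : IsRegularLocalRing (B ⧸ Ideal.map φ (maximalIdeal A))]
    (hC : LocCoh.IsCohenMacaulayLocalRing (C ⧸ Ideal.map χ (Ideal.map φ (maximalIdeal A))))
    (hdim : ringKrullDim (B ⧸ Ideal.map φ (maximalIdeal A)) ≤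
      ringKrullDim (C ⧸ Ideal.map χ (Ideal.map φ (maximalIdeal A))))
    [h0 : Ring.KrullDimLE 0 (C ⧸ Ideal.map χ (maximalIdeal B))] : χ.Flat := by
  let _ : Algebra A B := φ.toAlgebra
  let _ : Algebra B C := χ.toAlgebra
  let _ : Algebra A C := (χ.comp φ).toAlgebra
  have hst : IsScalarTower A B C := IsScalarTower.of_algebraMap_eq (fun _ => rfl)
  have hφl : IsLocalHom (algebraMap A B) := ‹IsLocalHom φ›
  have hχl : IsLocalHom (algebraMap B C) := ‹IsLocalHom χ›
  set I := Ideal.map φ (maximalIdeal A) with hI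
  have hIle : I ≤ maximalIdeal B := CMComp33.map_le_maximalIdeal φ
  have hlD : IsLocalRing (B ⧸ I) := inferInstance
  have hlC : IsLocalRing (C ⧸ Ideal.map χ I) := inferInstance
  have hNC : IsNoetherianRing (C ⧸ Ideal.map χ I) := inferInstance
  have hψloc : IsLocalHom (algebraMap (B ⧸ I) (C ⧸ Ideal.map (algebraMap B C) I)) :=
    CMComp33.isLocalHom_quotMap χ I
  -- the closed fibre of `D → C̄` is zero-dimensional
  let e := CMComp33.fibreEquiv χ I hIle
  have hnt : Nontrivial (C ⧸ Ideal.map χ (maximalIdeal B)) :=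
    Ideal.Quotient.nontrivial_iff.mpr (CMComp33.map_maximalIdeal_ne_top χ)
  have hfib0 : ringKrullDim ((C ⧸ Ideal.map χ I) ⧸
      Ideal.map (CMComp33.quotMap χ I) (maximalIdeal (B ⧸ I))) = 0 := by
    rw [ringKrullDim_eq_of_ringEquiv e]
    apply le_antisymm
    · have := Ring.krullDimLE_iff.mp h0
      simpa using this
    · exact ringKrullDim_nonneg_of_nontrivial
  -- the dimension inequality `dim C̄ ≤ dim D`
  have hlo : (maximalIdeal (C ⧸ Ideal.map (algebraMap B C) I)).LiesOver (maximalIdeal (B ⧸ I)) := by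
    have hcomap : (maximalIdeal (C ⧸ Ideal.map (algebraMap B C) I)).comap
        (algebraMap (B ⧸ I) (C ⧸ Ideal.map (algebraMap B C) I)) = maximalIdeal (B ⧸ I) :=
      ((local_hom_TFAE (algebraMap (B ⧸ I) (C ⧸ Ideal.map (algebraMap B C) I))).out 0 4).mp hψloc
    exact ⟨hcomap.symm⟩
  have hle : ringKrullDim (C ⧸ Ideal.map χ I) ≤ ringKrullDim (B ⧸ I) := by
    have h1 := Ideal.height_le_height_add_of_liesOver (maximalIdeal (B ⧸ I))
      (maximalIdeal (C ⧸ Ideal.map (algebraMap B C) I))
    have hprime : (Ideal.map (Ideal.Quotient.mk (Ideal.map (algebraMap (B ⧸ I)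
        (C ⧸ Ideal.map (algebraMap B C) I)) (maximalIdeal (B ⧸ I))))
        (maximalIdeal (C ⧸ Ideal.map (algebraMap B C) I))).IsPrime := by
      apply Ideal.map_isPrime_of_surjective Ideal.Quotient.mk_surjective
      rw [Ideal.mk_ker]
      exact ((local_hom_TFAE (algebraMap (B ⧸ I) (C ⧸ Ideal.map (algebraMap B C) I))).out 0 2).mp
        hψloc
    have h2 : (Ideal.map (Ideal.Quotient.mk (Ideal.map (algebraMap (B ⧸ I)
        (C ⧸ Ideal.map (algebraMap B C) I)) (maximalIdeal (B ⧸ I))))
        (maximalIdeal (C ⧸ Ideal.map (algebraMap B C) I))).height = 0 := by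
      have h3 := Ideal.height_le_ringKrullDim_of_ne_top hprime.ne_top
      have h4 : ringKrullDim ((C ⧸ Ideal.map (algebraMap B C) I) ⧸
          Ideal.map (algebraMap (B ⧸ I) (C ⧸ Ideal.map (algebraMap B C) I))
            (maximalIdeal (B ⧸ I))) = 0 := hfib0
      rw [h4] at h3
      have : (Ideal.map (Ideal.Quotient.mk (Ideal.map (algebraMap (B ⧸ I)
        (C ⧸ Ideal.map (algebraMap B C) I)) (maximalIdeal (B ⧸ I))))
        (maximalIdeal (C ⧸ Ideal.map (algebraMap B C) I))).height ≤ 0 := by exact_mod_cast h3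
      exact le_antisymm this zero_le
    rw [h2, add_zero] at h1
    have h5 := IsLocalRing.maximalIdeal_height_eq_ringKrullDim (R := B ⧸ I)
    have h6 := IsLocalRing.maximalIdeal_height_eq_ringKrullDim
      (R := C ⧸ Ideal.map (algebraMap B C) I)
    change ringKrullDim (C ⧸ Ideal.map (algebraMap B C) I) ≤ _
    rw [← h5, ← h6]
    exact_mod_cast h1
  have hdimeq : ringKrullDim (C ⧸ Ideal.map χ I) = ringKrullDim (B ⧸ I) := le_antisymm hle hdim
  -- miracle flatness
  have hCMmod : LocCoh.IsCohenMacaulayModule (C ⧸ Ideal.map (algebraMap B C) I)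
      (C ⧸ Ideal.map (algebraMap B C) I) := hC.supportDim_eq_depth
  have hdim' : Module.supportDim (C ⧸ Ideal.map (algebraMap B C) I)
      (C ⧸ Ideal.map (algebraMap B C) I) = ringKrullDim (B ⧸ I) +
        Module.supportDim (C ⧸ Ideal.map (algebraMap B C) I)
          (EGA4.FibMod (B ⧸ I) (C ⧸ Ideal.map (algebraMap B C) I)
            (C ⧸ Ideal.map (algebraMap B C) I)) := by
    rw [Module.supportDim_self_eq_ringKrullDim]
    have h7 : Module.supportDim (C ⧸ Ideal.map (algebraMap B C) I)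
          (EGA4.FibMod (B ⧸ I) (C ⧸ Ideal.map (algebraMap B C) I)
            (C ⧸ Ideal.map (algebraMap B C) I)) = 0 := by
      unfold EGA4.FibMod EGA4.mB
      rw [show (Ideal.map (algebraMap (B ⧸ I) (C ⧸ Ideal.map (algebraMap B C) I))
          (maximalIdeal (B ⧸ I)) • (⊤ : Submodule (C ⧸ Ideal.map (algebraMap B C) I)
            (C ⧸ Ideal.map (algebraMap B C) I))) =
          Ideal.map (algebraMap (B ⧸ I) (C ⧸ Ideal.map (algebraMap B C) I))
          (maximalIdeal (B ⧸ I)) from by simp]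
      rw [Module.supportDim_quotient_eq_ringKrullDim]
      exact hfib0
    rw [h7, add_zero]
    exact hdimeq
  have hflatD : Module.Flat (B ⧸ I) (C ⧸ Ideal.map (algebraMap B C) I) :=
    Groth.Agent.S2599.result (B ⧸ I) (C ⧸ Ideal.map (algebraMap B C) I)
      (C ⧸ Ideal.map (algebraMap B C) I) hCMmod hdim'
  -- fibrewise criterion
  have hflatT : Module.Flat (B ⧸ I) ((B ⧸ I) ⊗[B] C) :=
    Module.Flat.of_linearEquiv
      (Algebra.TensorProduct.quotIdealMapEquivQuotTensor C I).symm.toLinearEquiv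
  have hAC : Module.Flat A C := hcomp
  exact (Groth.Agent.S0392.result (R := A) (S := B) (S' := C) (M := C) hflatT).2

end ALocal

end Groth.Agent.Lib.CMQF33
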