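import Groth.Agent.Lib.CMQF33c
import Mathlib

/-!
# Quasi-finiteness at a prime isolated in its fibre, order-theoretic form (helper33)
-/

set_option autoImplicit false
universe u

open IsLocalRing Groth.Agent.Lib TensorProduct

namespace Groth.Agent.Lib.CMQF33

section A1

variable {P S : Type u} [CommRing P] [CommRing S] [Algebra P S] [Algebra.FiniteType P S]

/-- If `q` is comparable to no other prime of its fibre over `P`, then `S` is quasi-finite over `P`
at `q`. -/
theorem quasiFiniteAt_of_forall_eq (q : Ideal S) [q.IsPrime]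
    (H : ∀ (q' : Ideal S) [q'.IsPrime], q'.under P = q.under P → (q' ≤ q ∨ q ≤ q') → q' = q) :
    Algebra.QuasiFiniteAt P q := by
  set r := q.under P with hr
  let rr : PrimeSpectrum P := ⟨r, inferInstance⟩
  let e := PrimeSpectrum.preimageOrderIsoFiber P S rr
  have hmem : (⟨q, inferInstance⟩ : PrimeSpectrum S) ∈
      PrimeSpectrum.comap (algebraMap P S) ⁻¹' {rr} := by
    rw [Set.mem_preimage, Set.mem_singleton_iff]
    exact PrimeSpectrum.ext rfl
  let x : PrimeSpectrum.comap (algebraMap P S) ⁻¹' {rr} := ⟨⟨q, inferInstance⟩, hmem⟩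
  -- every point of the fibre comparable to `x` equals `x`
  have hx : ∀ y : PrimeSpectrum.comap (algebraMap P S) ⁻¹' {rr}, (y ≤ x ∨ x ≤ y) → y = x := by
    intro y hy
    have hy2 : PrimeSpectrum.comap (algebraMap P S) y.1 = rr := y.2
    have hyu : y.1.asIdeal.under P = r := congr($(hy2).asIdeal)
    have := H y.1.asIdeal hyu hy
    exact Subtype.ext (PrimeSpectrum.ext this)
  have hN : IsNoetherianRing (r.Fiber S) := Algebra.FiniteType.isNoetherianRing r.ResidueField _
  have hJ : IsJacobsonRing (r.Fiber S) := isJacobsonRing_of_finiteType (A := r.ResidueField)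
  have hopen : IsOpen ({e x} : Set (PrimeSpectrum (r.Fiber S))) := by
    have htfae : IsOpen ({e x} : Set (PrimeSpectrum (r.Fiber S))) ↔
        IsClosed ({e x} : Set (PrimeSpectrum (r.Fiber S))) ∧
          StableUnderGeneralization ({e x} : Set (PrimeSpectrum (r.Fiber S))) :=
      (PrimeSpectrum.isOpen_singleton_tfae_of_isNoetherian_of_isJacobsonRing (e x)).out 0 2
    refine htfae.mpr ⟨?_, ?_⟩
    · rw [PrimeSpectrum.isClosed_singleton_iff_isMaximal]
      obtain ⟨M, hM, hle⟩ := Ideal.exists_le_maximal (e x).asIdeal (e x).2.ne_top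
      have hMp : M.IsPrime := hM.isPrime
      have h1 : e x ≤ ⟨M, hMp⟩ := hle
      have h2 : x ≤ e.symm ⟨M, hMp⟩ := by
        rw [← e.le_iff_le, e.apply_symm_apply]; exact h1
      have h3 := hx _ (Or.inr h2)
      have h4 : (⟨M, hMp⟩ : PrimeSpectrum (r.Fiber S)) = e x := by
        rw [← h3, e.apply_symm_apply]
      have h5 : M = (e x).asIdeal := congr($(h4).asIdeal)
      rw [← h5]
      exact hM
    · intro y z hzy hy
      rw [Set.mem_singleton_iff] at hy ⊢
      subst hy
      rw [← PrimeSpectrum.le_iff_specializes] at hzy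
      have h2 : e.symm z ≤ x := by
        rw [← e.le_iff_le, e.apply_symm_apply]; exact hzy
      have h3 := hx _ (Or.inl h2)
      rw [← h3, e.apply_symm_apply]
  have hqf : Algebra.QuasiFiniteAt r.ResidueField (e x).asIdeal :=
    Algebra.QuasiFiniteAt.of_isOpen_singleton (R := r.ResidueField) (e x) hopen
  have hcomap : (e x).asIdeal.comap
      (Algebra.TensorProduct.includeRight : S →ₐ[P] r.Fiber S).toRingHom = q :=
    congr($(e.symm_apply_apply x).1.asIdeal)
  exact Algebra.QuasiFiniteAt.of_quasiFiniteAt_residueField r q (e x).asIdeal hcomap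

end A1

end Groth.Agent.Lib.CMQF33
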