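import Groth.Agent.Lib.CMQF33d
import Mathlib

/-!
# Theorem A: Cohen–Macaulay at a closed point of the fibre ⟹ quasi-finite flat over `R[T₁..T_d]`
(helper33)
-/

set_option autoImplicit false
universe u

open IsLocalRing Groth.Agent.Lib TensorProduct

namespace Groth.Agent.Lib.CMQF33

section Dim

variable {R S : Type u} [CommRing R] [CommRing S] [Algebra R S]

/-- The image of a prime `q ⊇ pS` in `S ⧸ pS` is prime. -/
theorem isPrime_map_mk (p : Ideal R) (q : Ideal S) [q.IsPrime] (hq : q.under R = p) :
    (q.map (Ideal.Quotient.mk (p.map (algebraMap R S)))).IsPrime := by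
  apply Ideal.map_isPrime_of_surjective Ideal.Quotient.mk_surjective
  rw [Ideal.mk_ker, Ideal.map_le_iff_le_comap, ← hq]

theorem comap_map_mk (p : Ideal R) (q : Ideal S) (hq : p.map (algebraMap R S) ≤ q) :
    (q.map (Ideal.Quotient.mk (p.map (algebraMap R S)))).comap
      (Ideal.Quotient.mk (p.map (algebraMap R S))) = q := by
  rw [Ideal.comap_map_of_surjective _ Ideal.Quotient.mk_surjective, ← RingHom.ker_eq_comap_bot,
    Ideal.mk_ker, sup_eq_left]
  exact hq

/-- The dimension of the local ring of the fibre at `q` is the height of the image of `q` in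
`S ⧸ pS`. -/
theorem ringKrullDim_fibreLocalRing (p : Ideal R) [p.IsPrime] (q : Ideal S) [q.IsPrime]
    (hq : q.under R = p) :
    haveI := isPrime_map_mk p q hq
    ringKrullDim (Localization.AtPrime q ⧸ p.map (algebraMap R (Localization.AtPrime q))) =
      ((q.map (Ideal.Quotient.mk (p.map (algebraMap R S)))).height : WithBot ℕ∞) := by
  have hprime := isPrime_map_mk p q hq
  have hpq : p.map (algebraMap R S) ≤ q := by
    rw [Ideal.map_le_iff_le_comap, ← hq]
  set I := p.map (algebraMap R S) with hI
  have hmon : Algebra.algebraMapSubmonoid (S ⧸ I) q.primeCompl =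
      (q.map (Ideal.Quotient.mk I)).primeCompl := by
    ext x
    constructor
    · rintro ⟨s, hs, rfl⟩
      intro hmem
      apply hs
      have : s ∈ (q.map (Ideal.Quotient.mk I)).comap (Ideal.Quotient.mk I) := hmem
      rwa [comap_map_mk p q hpq] at this
    · intro hx
      obtain ⟨s, rfl⟩ := Ideal.Quotient.mk_surjective x
      refine ⟨s, fun hs => hx (Ideal.mem_map_of_mem _ hs), rfl⟩
  have hloc : IsLocalization.AtPrime (Localization.AtPrime q ⧸
      I.map (algebraMap S (Localization.AtPrime q))) (q.map (Ideal.Quotient.mk I)) := by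
    unfold IsLocalization.AtPrime
    rw [← hmon]
    infer_instance
  have hmap : I.map (algebraMap S (Localization.AtPrime q)) =
      p.map (algebraMap R (Localization.AtPrime q)) := by
    rw [hI, Ideal.map_map, ← IsScalarTower.algebraMap_eq]
  rw [← hmap]
  exact IsLocalization.AtPrime.ringKrullDim_eq_height (q.map (Ideal.Quotient.mk I)) _

end Dim

section TheoremA

variable {R S : Type u} [CommRing R] [CommRing S] [Algebra R S] [IsNoetherianRing R]
  [Algebra.FiniteType R S]

/-- **Theorem A.** `R` Noetherian, `S` of finite type, `q` a prime of `S` which is maximal in its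
fibre over `R`, and `R → S` Cohen–Macaulay at `q`.  Then there are `t₁, …, t_d ∈ S` such that `S` is
quasi-finite and flat at `q` over `R[T₁, …, T_d]`. -/
theorem exists_quasiFiniteAt_flat (q : Ideal S) [q.IsPrime]
    (hCM : FibCM (Localization.localRingHom (q.under R) q (algebraMap R S) rfl))
    (hclosed : ∀ (q' : Ideal S) [q'.IsPrime], q ≤ q' → q'.under R = q.under R → q' = q) :
    ∃ (d : ℕ) (t : ULift.{u} (Fin d) → S),
      letI : Algebra (MvPolynomial (ULift.{u} (Fin d)) R) S :=
        (MvPolynomial.aeval t).toRingHom.toAlgebra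
      Algebra.QuasiFiniteAt (MvPolynomial (ULift.{u} (Fin d)) R) q ∧
        (Localization.localRingHom (q.under (MvPolynomial (ULift.{u} (Fin d)) R)) q
          (algebraMap (MvPolynomial (ULift.{u} (Fin d)) R) S) rfl).Flat := by
  classical
  set p := q.under R with hp
  have hNS : IsNoetherianRing S := Algebra.FiniteType.isNoetherianRing R S
  set I := p.map (algebraMap R S) with hI
  have hIq : I ≤ q := by rw [hI, Ideal.map_le_iff_le_comap]
  have hprime := isPrime_map_mk p q rfl
  set qt := q.map (Ideal.Quotient.mk I) with hqt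
  obtain ⟨s, hmin, hcard⟩ := Ideal.exists_finset_card_eq_height_of_isNoetherianRing qt
  let lift : (S ⧸ I) → S := Function.surjInv Ideal.Quotient.mk_surjective
  have hlift : ∀ x, Ideal.Quotient.mk I (lift x) = x := Function.surjInv_eq _
  let t : ULift.{u} (Fin s.card) → S := fun i => lift (s.equivFin.symm i.down).1
  refine ⟨s.card, t, ?_⟩
  let _ : Algebra (MvPolynomial (ULift.{u} (Fin s.card)) R) S :=
    (MvPolynomial.aeval t).toRingHom.toAlgebra
  have hst : IsScalarTower R (MvPolynomial (ULift.{u} (Fin s.card)) R) S :=
    IsScalarTower.of_algebraMap_eq (fun x => by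
      change algebraMap R S x = MvPolynomial.aeval t (algebraMap R _ x)
      rw [AlgHom.commutes])
  have hX : ∀ i, algebraMap (MvPolynomial (ULift.{u} (Fin s.card)) R) S (MvPolynomial.X i) = t i :=
    fun i => MvPolynomial.aeval_X t i
  have hFT : Algebra.FiniteType (MvPolynomial (ULift.{u} (Fin s.card)) R) S :=
    Algebra.FiniteType.of_restrictScalars_finiteType R _ S
  have htq : ∀ i, t i ∈ q := by
    intro i
    have h1 : Ideal.Quotient.mk I (t i) ∈ qt :=
      hmin.1.2 (Ideal.subset_span (by rw [hlift]; exact (s.equivFin.symm i.down).2))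
    have : t i ∈ qt.comap (Ideal.Quotient.mk I) := h1
    rwa [comap_map_mk p q hIq] at this
  set r := q.under (MvPolynomial (ULift.{u} (Fin s.card)) R) with hr
  have hiso : ∀ (q' : Ideal S) [q'.IsPrime],
      q'.under (MvPolynomial (ULift.{u} (Fin s.card)) R) = r → (q' ≤ q ∨ q ≤ q') → q' = q := by
    intro q' _ hq'r hcmp
    have hq'p : q'.under R = p := by
      rw [← Ideal.under_under (B := MvPolynomial (ULift.{u} (Fin s.card)) R), hq'r, hr,
        Ideal.under_under]
    rcases hcmp with hle | hle
    · have htq' : ∀ i, t i ∈ q' := by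
        intro i
        have h1 : MvPolynomial.X i ∈ r := by
          rw [hr]
          change algebraMap _ S (MvPolynomial.X i) ∈ q
          rw [hX]; exact htq i
        rw [← hq'r] at h1
        have h2 : algebraMap _ S (MvPolynomial.X i) ∈ q' := h1
        rwa [hX] at h2
      have hIq' : I ≤ q' := by rw [hI, Ideal.map_le_iff_le_comap, ← hq'p]
      have hprime' := isPrime_map_mk p q' hq'p
      have hspan : Ideal.span (s : Set (S ⧸ I)) ≤ q'.map (Ideal.Quotient.mk I) := by
        rw [Ideal.span_le]
        intro x hx
        have hx' : x = Ideal.Quotient.mk I (t ⟨s.equivFin ⟨x, hx⟩⟩) := by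
          simp only [t, Equiv.symm_apply_apply, hlift]
        rw [hx']
        exact Ideal.mem_map_of_mem _ (htq' _)
      have hle' : q'.map (Ideal.Quotient.mk I) ≤ qt := Ideal.map_mono hle
      have h2 := hmin.2 ⟨hprime', hspan⟩ hle'
      have h3 : q ≤ q' := by
        rw [← comap_map_mk p q hIq, ← comap_map_mk p q' hIq']
        exact Ideal.comap_mono h2
      exact le_antisymm hle h3
    · exact hclosed q' hle hq'p
  have hqf : Algebra.QuasiFiniteAt (MvPolynomial (ULift.{u} (Fin s.card)) R) q :=
    quasiFiniteAt_of_forall_eq q hiso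
  refine ⟨hqf, ?_⟩
  -- flatness via miracle flatness and the fibrewise criterion
  have hrp : p = r.comap (algebraMap R (MvPolynomial (ULift.{u} (Fin s.card)) R)) := by
    rw [hp, hr, Ideal.under_def, Ideal.under_def, Ideal.comap_comap,
      ← IsScalarTower.algebraMap_eq]
  set φ := Localization.localRingHom p r (algebraMap R _) hrp with hφ
  set χ := Localization.localRingHom r q
    (algebraMap (MvPolynomial (ULift.{u} (Fin s.card)) R) S) rfl with hχ
  have hcomp : Localization.localRingHom p q (algebraMap R S) rfl = χ.comp φ := by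
    rw [hφ, hχ, ← Localization.localRingHom_comp]
    congr 1
    exact (IsScalarTower.algebraMap_eq R _ S)
  have hφloc : IsLocalHom φ := Localization.isLocalHom_localRingHom p r _ hrp
  have hχloc : IsLocalHom χ := Localization.isLocalHom_localRingHom r q _ rfl
  have hN1 : IsNoetherianRing (Localization.AtPrime p) :=
    IsLocalization.isNoetherianRing p.primeCompl _ inferInstance
  have hN2 : IsNoetherianRing (Localization.AtPrime r) :=
    IsLocalization.isNoetherianRing r.primeCompl _ inferInstance
  have hN3 : IsNoetherianRing (Localization.AtPrime q) :=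
    IsLocalization.isNoetherianRing q.primeCompl _ inferInstance
  obtain ⟨hflat, hloc, hcm⟩ := hCM
  have hcompflat : (χ.comp φ).Flat := hcomp ▸ hflat
  have hmapeq : Ideal.map (χ.comp φ) (maximalIdeal (Localization.AtPrime p)) =
      Ideal.map χ (Ideal.map φ (maximalIdeal (Localization.AtPrime p))) := by
    rw [Ideal.map_map]
  have hJ1 : Ideal.map φ (maximalIdeal (Localization.AtPrime p)) =
      p.map (algebraMap R (Localization.AtPrime r)) := map_localRingHom_maximalIdeal p r hrp
  have hJ2 : Ideal.map χ (Ideal.map φ (maximalIdeal (Localization.AtPrime p))) =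
      p.map (algebraMap R (Localization.AtPrime q)) := by
    rw [← hmapeq, ← hcomp, map_localRingHom_maximalIdeal p q rfl]
  have hJ3 : Ideal.map χ (maximalIdeal (Localization.AtPrime r)) =
      r.map (algebraMap _ (Localization.AtPrime q)) := map_localRingHom_maximalIdeal r q rfl
  obtain ⟨hreg, hdimD⟩ := isRegularLocalRing_fibreLocalRing_mvPolynomial
    (ULift.{u} (Fin s.card)) p r hrp.symm
  have hD : IsRegularLocalRing (Localization.AtPrime r ⧸
      Ideal.map φ (maximalIdeal (Localization.AtPrime p))) := by
    rw [hJ1]; exact hreg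
  have hC : LocCoh.IsCohenMacaulayLocalRing (Localization.AtPrime q ⧸
      Ideal.map χ (Ideal.map φ (maximalIdeal (Localization.AtPrime p)))) := by
    rw [hJ2]
    have := map_localRingHom_maximalIdeal p q rfl
    rw [this] at hcm
    exact hcm
  have hdim : ringKrullDim (Localization.AtPrime r ⧸
      Ideal.map φ (maximalIdeal (Localization.AtPrime p))) ≤
      ringKrullDim (Localization.AtPrime q ⧸
        Ideal.map χ (Ideal.map φ (maximalIdeal (Localization.AtPrime p)))) := by
    rw [hJ2, hJ1, ringKrullDim_fibreLocalRing p q rfl, ← hcard]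
    refine hdimD.trans ?_
    simp
  have h0 : Ring.KrullDimLE 0 (Localization.AtPrime q ⧸
      Ideal.map χ (maximalIdeal (Localization.AtPrime r))) := by
    rw [hJ3]
    exact (krullDimLE_zero_of_quasiFiniteAt (P := MvPolynomial (ULift.{u} (Fin s.card)) R) q).2
  exact flat_of_miracle φ χ hcompflat hC hdim

end TheoremA

end Groth.Agent.Lib.CMQF33
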