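import Groth.Agent.Lib.H77GenFreeMain
import Mathlib.RingTheory.Flat.Localization
import Mathlib.RingTheory.Flat.Stability
import Mathlib.RingTheory.Localization.BaseChange

/-!
# Generic flatness: algebra helpers (helper77)

* `flat_of_isLocalizedModule`: `R → A`, `M` an `A`-module flat over `R`, `N` a localization of `M`
  at a submonoid of `A` ⟹ `N` flat over `R`.
* `isLocalizedModule_of_comp`: localization in stages.
* `IsGenBasis.flat_of_isLocalizedModule`: if `M` has a generic `R`-basis for `f` and `N` is a
  localization of the `A`-module `M` at a submonoid containing the image of `f`, then `N` is flat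
  over `R`.
* `exists_flat_of_finiteType`: generic flatness over a domain in this form.
-/

set_option autoImplicit false

namespace Groth.Agent.Lib.H77GenFlatAlg

open TensorProduct Groth.Agent.Lib.H77GenFree

section

variable (R : Type*) {A M N : Type*} [CommRing R] [CommRing A] [Algebra R A]
  [AddCommGroup M] [Module A M] [Module R M] [IsScalarTower R A M]
  [AddCommGroup N] [Module A N] [Module R N] [IsScalarTower R A N]

/-- A localization (at a submonoid of `A`) of an `A`-module which is flat over `R` is flat over
`R`. -/
theorem flat_of_isLocalizedModule (S : Submonoid A) (g : M →ₗ[A] N) [IsLocalizedModule S g]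
    [Module.Flat R M] : Module.Flat R N := by
  rw [Module.Flat.iff_lTensor_injectiveₛ]
  intro P _ _ Q
  have hM : Function.Injective (AlgebraTensorModule.lTensor A M Q.subtype) := by
    have := Module.Flat.lTensor_preserves_injective_linearMap (M := M) Q.subtype
      Q.injective_subtype
    exact this
  have h2 := IsLocalizedModule.map_injective S (AlgebraTensorModule.rTensor R Q g)
    (AlgebraTensorModule.rTensor R P g) (AlgebraTensorModule.lTensor A M Q.subtype) hM
  rw [IsLocalizedModule.map_lTensor] at h2
  exact h2

end

section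

variable {A M M' N : Type*} [CommRing A] [AddCommGroup M] [Module A M] [AddCommGroup M']
  [Module A M'] [AddCommGroup N] [Module A N]

/-- Localization in stages. -/
theorem isLocalizedModule_of_comp (T S : Submonoid A) (hTS : T ≤ S) (g₁ : M →ₗ[A] M')
    [IsLocalizedModule T g₁] (g : M →ₗ[A] N) [IsLocalizedModule S g] (g' : M' →ₗ[A] N)
    (hg' : g' ∘ₗ g₁ = g) : IsLocalizedModule S g' where
  map_units s := IsLocalizedModule.map_units g s
  surj y := by
    obtain ⟨⟨m, s⟩, hm⟩ := IsLocalizedModule.surj S g y
    exact ⟨⟨g₁ m, s⟩, by rw [hm, ← hg']; rfl⟩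
  exists_of_eq {x₁ x₂} h := by
    obtain ⟨⟨m₁, t₁⟩, h₁⟩ := IsLocalizedModule.surj T g₁ x₁
    obtain ⟨⟨m₂, t₂⟩, h₂⟩ := IsLocalizedModule.surj T g₁ x₂
    simp only at h₁ h₂
    have e1 : g ((t₂ : A) • m₁) = g ((t₁ : A) • m₂) := by
      rw [← hg']
      simp only [LinearMap.coe_comp, Function.comp_apply, map_smul]
      rw [← h₁, ← h₂]
      simp only [Submonoid.smul_def, map_smul, h]
      rw [smul_comm]
    obtain ⟨s, hs⟩ := IsLocalizedModule.exists_of_eq (S := S) (f := g) e1
    refine ⟨s * ⟨t₁ * t₂, hTS (t₁ * t₂).2⟩, ?_⟩
    simp only [Submonoid.smul_def, Submonoid.coe_mul] at hs ⊢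
    have a1 : ((s : A) * ((t₁ : A) * (t₂ : A))) • x₁ = g₁ ((s : A) • (t₂ : A) • m₁) := by
      rw [map_smul, map_smul, ← h₁, Submonoid.smul_def, smul_smul, smul_smul]
      congr 1; ring
    have a2 : ((s : A) * ((t₁ : A) * (t₂ : A))) • x₂ = g₁ ((s : A) • (t₁ : A) • m₂) := by
      rw [map_smul, map_smul, ← h₂, Submonoid.smul_def, smul_smul, smul_smul]
      congr 1; ring
    rw [a1, a2, hs]

end

section

variable {R A M N : Type*} [CommRing R] [CommRing A] [Algebra R A]
  [AddCommGroup M] [Module A M] [Module R M] [IsScalarTower R A M]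
  [AddCommGroup N] [Module A N] [Module R N] [IsScalarTower R A N]

/-- If `M` has a generic `R`-basis for `f` and `N` is a localization of the `A`-module `M` at a
submonoid containing the image of `f`, then `N` is flat over `R`. -/
theorem flat_of_isGenBasis {f : R} {ι : Type*} {b : ι → M} (h : IsGenBasis R M f b)
    (S : Submonoid A) (g : M →ₗ[A] N) [IsLocalizedModule S g] (hf : algebraMap R A f ∈ S) :
    Module.Flat R N := by
  let T : Submonoid A := Submonoid.powers (algebraMap R A f)
  have hTS : T ≤ S := (Submonoid.powers_le).mpr hf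
  let M' := LocalizedModule T M
  let mk : M →ₗ[A] M' := LocalizedModule.mkLinearMap T M
  have hloc : IsLocalizedModule (Submonoid.powers f) (mk.restrictScalars R) :=
    IsLocalizedModule.restrictScalars_powers f mk
  let Rf := Localization.Away f
  let modRf : Module Rf M' :=
    (IsLocalizedModule.iso (Submonoid.powers f) (mk.restrictScalars R)).symm.toAddEquiv.module Rf
  have : IsScalarTower R Rf M' :=
    (IsLocalizedModule.iso (Submonoid.powers f) (mk.restrictScalars R)).symm.isScalarTower Rf
  have : Module.Free Rf M' := h.free_of_isLocalizedModule Rf (mk.restrictScalars R)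
  have : Module.Flat R Rf := IsLocalization.flat Rf (Submonoid.powers f)
  have : Module.Flat R M' := Module.Flat.trans R Rf M'
  let g' : M' →ₗ[A] N := IsLocalizedModule.lift T mk g
    (fun t => IsLocalizedModule.map_units g ⟨t, hTS t.2⟩)
  have hg' : g' ∘ₗ mk = g := IsLocalizedModule.lift_comp T mk g _
  have : IsLocalizedModule S g' := isLocalizedModule_of_comp T S hTS mk g g' hg'
  exact flat_of_isLocalizedModule R S g'

end

end Groth.Agent.Lib.H77GenFlatAlg
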