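import Groth.Agent.Lib.H87Serre2
import Groth.Prelude.Def_EGA4b
import Mathlib.RingTheory.Localization.LocalizationLocalization
import Mathlib.RingTheory.Ideal.MinimalPrime.Noetherian
import Mathlib.RingTheory.Spectrum.Prime.Topology

set_option autoImplicit false
universe u
open PrimeSpectrum

namespace Groth.Agent.Lib.H87Nagata

/-- The regular locus is stable under generization (Serre). -/
theorem regLocus_of_le {R : Type u} [CommRing R] (p q : Ideal R) [hp : p.IsPrime] [q.IsPrime]
    (hpq : p ≤ q) (hq : IsRegularLocalRing (Localization.AtPrime q)) :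
    IsRegularLocalRing (Localization.AtPrime p) := by
  have hdisj : Disjoint (q.primeCompl : Set R) (p : Set R) := by
    rw [Set.disjoint_left]
    intro x hx hxp
    exact hx (hpq hxp)
  let P : Ideal (Localization.AtPrime q) := p.map (algebraMap R (Localization.AtPrime q))
  have hPprime : P.IsPrime :=
    IsLocalization.isPrime_of_isPrime_disjoint q.primeCompl (Localization.AtPrime q) p hp hdisj
  have hPcomap : P.comap (algebraMap R (Localization.AtPrime q)) = p :=
    IsLocalization.under_map_of_isPrime_disjoint q.primeCompl (Localization.AtPrime q) hp hdisj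
  have hreg : IsRegularLocalRing (Localization.AtPrime P) :=
    Groth.Agent.Lib.H87Serre2.isRegularLocalRing_localization P
  have e := IsLocalization.localizationLocalizationAtPrimeIsoLocalization q.primeCompl P
  have hreg' : IsRegularLocalRing
      (Localization.AtPrime (P.comap (algebraMap R (Localization.AtPrime q)))) :=
    IsRegularLocalRing.of_ringEquiv e.symm.toRingEquiv
  have key : ∀ (q' : Ideal R) [q'.IsPrime], q' = p →
      IsRegularLocalRing (Localization.AtPrime q') → IsRegularLocalRing (Localization.AtPrime p) := by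
    intro q' _ hq' hr
    subst hq'
    exact hr
  exact key _ hPcomap hreg'

theorem regLocus_generization {R : Type u} [CommRing R] (p q : PrimeSpectrum R)
    (hpq : p.asIdeal ≤ q.asIdeal) (hq : q ∈ EGA4.regLocus R) : p ∈ EGA4.regLocus R :=
  regLocus_of_le p.asIdeal q.asIdeal hpq hq

/-- **Nagata's topological criterion** for openness in the spectrum of a Noetherian ring. -/
theorem isOpen_of_nagata {R : Type u} [CommRing R] [IsNoetherianRing R]
    (U : Set (PrimeSpectrum R))
    (hgen : ∀ p q : PrimeSpectrum R, p.asIdeal ≤ q.asIdeal → q ∈ U → p ∈ U)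
    (hloc : ∀ p ∈ U, ∃ V : Set (PrimeSpectrum R), IsOpen V ∧
      (V ∩ zeroLocus (p.asIdeal : Set R)).Nonempty ∧ V ∩ zeroLocus (p.asIdeal : Set R) ⊆ U) :
    IsOpen U := by
  classical
  rw [← isClosed_compl_iff, isClosed_iff_zeroLocus_ideal]
  set Y := Uᶜ with hY
  set I := vanishingIdeal Y with hI
  refine ⟨I, Set.Subset.antisymm (subset_zeroLocus_vanishingIdeal Y) ?_⟩
  intro q hq
  have hIq : I ≤ q.asIdeal := by
    intro a ha
    exact hq ha
  obtain ⟨p, hpmin, hpq⟩ := Ideal.exists_minimalPrimes_le hIq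
  have hpprime : p.IsPrime := hpmin.1.1
  have hIp : I ≤ p := hpmin.1.2
  by_contra hqY
  have hqU : q ∈ U := by
    by_contra h
    exact hqY h
  have hPU : (⟨p, hpprime⟩ : PrimeSpectrum R) ∈ U := hgen ⟨p, hpprime⟩ q hpq hqU
  obtain ⟨V, hVopen, ⟨t, htV, htp⟩, hVU⟩ := hloc _ hPU
  obtain ⟨J, hJ⟩ := (isOpen_iff V).mp hVopen
  -- an element of `J` outside `p`
  have htJ : t ∉ zeroLocus J := by
    rw [← hJ]
    exact fun h => h htV
  obtain ⟨j, hjJ, hjt⟩ : ∃ j ∈ J, j ∉ t.asIdeal := by
    by_contra hcon
    push Not at hcon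
    exact htJ (fun j hj => hcon j hj)
  have hpt : p ≤ t.asIdeal := fun a ha => htp ha
  have hjp : j ∉ p := fun h => hjt (hpt h)
  -- an element outside `p` lying in all other minimal primes
  have hfin : (I.minimalPrimes).Finite := Ideal.finite_minimalPrimes_of_isNoetherianRing R I
  obtain ⟨k, hkp, hk⟩ : ∃ k, k ∉ p ∧ ∀ p' ∈ I.minimalPrimes, p' ≠ p → k ∈ p' := by
    by_contra hcon
    push Not at hcon
    have hle : (hfin.toFinset.erase p).inf id ≤ p := by
      intro k hk
      by_contra hkp
      obtain ⟨p', hp', hne, hkp'⟩ := hcon k hkp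
      apply hkp'
      have : (hfin.toFinset.erase p).inf id ≤ p' :=
        Finset.inf_le (f := id) (Finset.mem_erase.mpr ⟨hne, hfin.mem_toFinset.mpr hp'⟩)
      exact this hk
    obtain ⟨p', hp', hp'p⟩ := (Ideal.IsPrime.inf_le' hpprime).mp hle
    rw [Finset.mem_erase, Set.Finite.mem_toFinset] at hp'
    have : p ≤ p' := hpmin.2 hp'.2.1 hp'p
    exact hp'.1 (le_antisymm hp'p this)
  -- `k * j` vanishes on `Y`
  have hkj : k * j ∈ I := by
    rw [hI, mem_vanishingIdeal]
    intro y hy
    have hIy : I ≤ y.asIdeal := fun a ha => (mem_vanishingIdeal _ _).mp ha y hy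
    obtain ⟨p', hp'min, hp'y⟩ := Ideal.exists_minimalPrimes_le hIy
    by_cases hpp : p' = p
    · subst hpp
      have hyV : y ∉ V := by
        intro hyV
        have : y ∈ U := hVU ⟨hyV, fun a ha => hp'y ha⟩
        exact hy this
      have hyJ : y ∈ zeroLocus J := by
        rw [← hJ]; exact hyV
      exact Ideal.mul_mem_left _ _ (hyJ hjJ)
    · exact Ideal.mul_mem_right _ _ (hp'y (hk p' hp'min hpp))
  rcases hpprime.mem_or_mem (hIp hkj) with h | h
  · exact hkp h
  · exact hjp h

/-- S9296. -/
theorem isOpen_regLocus_iff (R : Type u) [CommRing R] [IsNoetherianRing R] :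
    IsOpen (EGA4.regLocus R) ↔
      ∀ p ∈ EGA4.regLocus R, ∃ U : Set (PrimeSpectrum R), IsOpen U ∧
        (U ∩ PrimeSpectrum.zeroLocus (p.asIdeal : Set R)).Nonempty ∧
        U ∩ PrimeSpectrum.zeroLocus (p.asIdeal : Set R) ⊆ EGA4.regLocus R := by
  constructor
  · intro h p hp
    exact ⟨_, h, ⟨p, hp, fun a ha => ha⟩, Set.inter_subset_left⟩
  · intro h
    exact isOpen_of_nagata _ (fun p q hpq hq => regLocus_generization p q hpq hq) h

end Groth.Agent.Lib.H87Nagata
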