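import Groth.Agent.Lib.FlatLimCore88
import Groth.Agent.Lib.H77GenFlatAlg
import Groth.Agent.Lib.H87Nagata

/-!
# Openness of the flat locus over a Noetherian base (helper88)

* `flat_of_mu_injective`: local criterion of flatness in the `mu`-form.
* `flat_localizedModule_of_le`: flatness at a prime passes to generizations.
* `exists_notMem_forall_flat`: spreading flatness along `V(Q) ∩ D(c)` (generic freeness + local
  criterion).
* `isOpen_flatLocus_of_noetherian`: `A` Noetherian, `C` of finite type, `X` finite over `C`: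
  `{Q | X_Q flat over A}` is open (Nagata criterion).
-/

set_option autoImplicit false
set_option maxHeartbeats 400000

namespace Groth.Agent.Lib.FlatLimOpen88

open TensorProduct Function Groth.Agent.Lib.FlatLimT88 Groth.Agent.Lib.FlatLimLoc88
  Groth.Agent.Lib.FlatLimStage88 Groth.Agent.Lib.FlatLimBC88 Groth.Agent.Lib.FlatLimCore88
  Groth.Agent.Lib.FlatCrit
open scoped Groth.Agent.Lib.FlatLimStage88

section LocalCrit

variable {A : Type*} [CommRing A] (J : Ideal A) {X' : Type*} [AddCommGroup X'] [Module A X']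

/-- Local criterion of flatness in the `mu`-form. -/
theorem flat_of_mu_injective [IsNoetherianRing A]
    (C' : Type*) [CommRing C'] [Algebra A C'] [IsNoetherianRing C'] [Module C' X']
    [IsScalarTower A C' X'] [Module.Finite C' X']
    (hJ : J.map (algebraMap A C') ≤ Ideal.jacobson ⊥)
    [Module.Flat (A ⧸ J) ((A ⧸ J) ⊗[A] X')]
    (h2 : Injective (mu J X')) : Module.Flat A X' := by
  have hinj : Injective (J.subtype.rTensor X') := by
    rw [← LinearMap.lTensor_inj_iff_rTensor_inj]
    intro x y hxy
    apply h2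
    simp only [mu, LinearMap.coe_comp, LinearEquiv.coe_coe, Function.comp_apply, hxy]
  refine flat_of_idealSeparated J ?_ hinj
  intro 𝔞 x hx
  exact eq_zero_of_forall_mem_pow_smul_top (S := C') J hJ x hx

end LocalCrit

section Gen

variable {A : Type*} [CommRing A] {C : Type*} [CommRing C] [Algebra A C]
  {X : Type*} [AddCommGroup X] [Module C X] [Module A X] [IsScalarTower A C X]

/-- Flatness at a prime passes to generizations. -/
theorem flat_localizedModule_of_le (P Q : Ideal C) [P.IsPrime] [Q.IsPrime] (hPQ : P ≤ Q)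
    [Module.Flat A (LocalizedModule Q.primeCompl X)] :
    Module.Flat A (LocalizedModule P.primeCompl X) := by
  have hle : Q.primeCompl ≤ P.primeCompl := fun x hx hxP => hx (hPQ hxP)
  let g' : LocalizedModule Q.primeCompl X →ₗ[C] LocalizedModule P.primeCompl X :=
    IsLocalizedModule.lift Q.primeCompl (LocalizedModule.mkLinearMap Q.primeCompl X)
      (LocalizedModule.mkLinearMap P.primeCompl X)
      (fun x => IsLocalizedModule.map_units (LocalizedModule.mkLinearMap P.primeCompl X)
        ⟨x, hle x.2⟩)
  have hg' : g' ∘ₗ LocalizedModule.mkLinearMap Q.primeCompl X =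
      LocalizedModule.mkLinearMap P.primeCompl X := IsLocalizedModule.lift_comp _ _ _ _
  have : IsLocalizedModule P.primeCompl g' :=
    isLocalizedModule_of_comp Q.primeCompl P.primeCompl hle
      (LocalizedModule.mkLinearMap Q.primeCompl X) (LocalizedModule.mkLinearMap P.primeCompl X)
      g' hg'
  exact Groth.Agent.Lib.H77GenFlatAlg.flat_of_isLocalizedModule A P.primeCompl g'

/-- If `X_Q` is flat over `A`, every element of `ker (X ⊗ J → X)` is killed by an element
outside `Q`. -/
theorem exists_smul_eq_zero_of_flat (J : Ideal A) (Q : Ideal C) [Q.IsPrime]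
    [Module.Flat A (LocalizedModule Q.primeCompl X)] (t : X ⊗[A] J) (ht : mu J X t = 0) :
    ∃ v, v ∉ Q ∧ v • t = 0 := by
  set g := LocalizedModule.mkLinearMap Q.primeCompl X with hg
  have h1 : mu J (LocalizedModule Q.primeCompl X) ((AlgebraTensorModule.rTensor A J g) t) = 0 := by
    have h := mu_rTensor (Y' := LocalizedModule Q.primeCompl X) J (g.restrictScalars A) t
    have e : (LinearMap.rTensor J (g.restrictScalars A)) t =
        (AlgebraTensorModule.rTensor A J g) t := rfl
    rw [e, ht, map_zero] at h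
    exact h
  have h2 : (AlgebraTensorModule.rTensor A J g) t = (AlgebraTensorModule.rTensor A J g) 0 := by
    rw [map_zero]
    apply mu_injective_of_flat J (Y := LocalizedModule Q.primeCompl X)
    rw [h1, map_zero]
  obtain ⟨c, hc⟩ := IsLocalizedModule.exists_of_eq (S := Q.primeCompl) h2
  exact ⟨c.1, c.2, by rw [smul_zero] at hc; exact hc⟩

end Gen

section Spread

variable {A : Type*} [CommRing A] [IsNoetherianRing A] {C : Type*} [CommRing C] [Algebra A C]
  [Algebra.FiniteType A C]
  {X : Type*} [AddCommGroup X] [Module C X] [Module A X] [IsScalarTower A C X] [Module.Finite C X]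

open Groth.Agent.Lib.H77GenFree in
/-- **Spreading flatness along a closed set** (Noetherian case): if `X_Q` is flat over `A`, there
is `c ∉ Q` such that `X_{Q'}` is flat over `A` for all primes `Q' ⊇ Q` with `c ∉ Q'`. -/
theorem exists_notMem_forall_flat (Q : Ideal C) [Q.IsPrime]
    [Module.Flat A (LocalizedModule Q.primeCompl X)] :
    ∃ c, c ∉ Q ∧ ∀ (Q' : Ideal C) [Q'.IsPrime], Q ≤ Q' → c ∉ Q' →
      Module.Flat A (LocalizedModule Q'.primeCompl X) := by
  classical
  have : IsNoetherianRing C := Algebra.FiniteType.isNoetherianRing A C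
  set J : Ideal A := Q.comap (algebraMap A C) with hJdef
  -- generic freeness modulo `J`
  obtain ⟨f, hf, s, hs⟩ := genFree_of_finiteType (R := A ⧸ J) ((A ⧸ J) ⊗[A] C)
    ((A ⧸ J) ⊗[A] X)
  obtain ⟨a, rfl⟩ := Ideal.Quotient.mk_surjective f
  have ha : a ∉ J := fun h => hf (Ideal.Quotient.eq_zero_iff_mem.mpr h)
  -- a common annihilator of `ker (X ⊗ J → X)` outside `Q`
  obtain ⟨T, hT0, hTspan⟩ := exists_finset_ker_mu (S := C) (M := X) J (IsNoetherian.noetherian J)
  have hv : ∀ t : X ⊗[A] J, ∃ v : C, v ∉ Q ∧ (t ∈ T → v • t = 0) := by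
    intro t
    by_cases ht : t ∈ T
    · obtain ⟨v, hv, hv0⟩ := exists_smul_eq_zero_of_flat J Q t (hT0 t ht)
      exact ⟨v, hv, fun _ => hv0⟩
    · exact ⟨1, fun h => (Ideal.IsPrime.ne_top ‹_›) ((Ideal.eq_top_iff_one _).mpr h),
        fun h => absurd h ht⟩
  choose v hvQ hv0 using hv
  set b : C := ∏ t ∈ T, v t with hb
  have hbQ : b ∉ Q := by
    rw [hb, Ideal.IsPrime.prod_mem_iff]
    push Not
    intro t _
    exact hvQ t
  have hbT : ∀ z : X ⊗[A] J, mu J X z = 0 → b • z = 0 := by
    intro z hz
    refine Submodule.span_induction (p := fun z _ => b • z = 0) ?_ ?_ ?_ ?_ (hTspan z hz)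
    · intro t ht
      obtain ⟨d, hd⟩ := Finset.dvd_prod_of_mem v ht
      rw [hb, hd, mul_comm, mul_smul, hv0 t ht, smul_zero]
    · simp
    · intro x y _ _ hx hy
      rw [smul_add, hx, hy, add_zero]
    · intro c x _ hx
      rw [smul_comm, hx, smul_zero]
  refine ⟨algebraMap A C a * b, fun h => ?_, ?_⟩
  · rcases Ideal.IsPrime.mem_or_mem ‹_› h with h | h
    · exact ha h
    · exact hbQ h
  intro Q' _ hQQ' hc
  have ha' : algebraMap A C a ∉ Q' := fun h => hc (Ideal.mul_mem_right _ _ h)
  have hb' : b ∉ Q' := fun h => hc (Ideal.mul_mem_left _ _ h)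
  set g := LocalizedModule.mkLinearMap Q'.primeCompl X with hg
  -- flat mod J
  have hloc := isLocalizedModule_stageMap A (A ⧸ J) Q'.primeCompl g
  have hfmem : algebraMap (A ⧸ J) ((A ⧸ J) ⊗[A] C) (Ideal.Quotient.mk J a) ∈
      stageSubmonoid A (A ⧸ J) Q'.primeCompl := by
    rw [mem_stageSubmonoid]
    refine ⟨algebraMap A C a, ha', ?_⟩
    rw [one_tmul_algebraMap, IsScalarTower.algebraMap_apply A (A ⧸ J) ((A ⧸ J) ⊗[A] C)]
    rfl
  have hflatJ : Module.Flat (A ⧸ J) ((A ⧸ J) ⊗[A] LocalizedModule Q'.primeCompl X) :=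
    Groth.Agent.Lib.H77GenFlatAlg.flat_of_isGenBasis hs (stageSubmonoid A (A ⧸ J) Q'.primeCompl)
      (stageMap A (A ⧸ J) g) hfmem
  -- mu injective
  have hinj : Injective (mu J (LocalizedModule Q'.primeCompl X)) := by
    refine mu_injective_of_localized J Q'.primeCompl g ?_
    intro z hz
    apply IsLocalizedModule.smul_injective (S := Q'.primeCompl)
      (AlgebraTensorModule.rTensor A J g) ⟨b, hb'⟩
    simp only
    rw [smul_zero, Submonoid.smul_def]
    simp only
    rw [← map_smul, hbT z hz, map_zero]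
  -- local criterion
  refine flat_of_mu_injective J (Localization Q'.primeCompl) ?_ hinj
  rw [IsLocalRing.jacobson_eq_maximalIdeal ⊥ bot_ne_top, Ideal.map_le_iff_le_comap]
  intro d hd
  rw [Ideal.mem_comap, IsScalarTower.algebraMap_apply A C (Localization Q'.primeCompl),
    ← Localization.AtPrime.map_eq_maximalIdeal]
  exact Ideal.mem_map_of_mem _ (hQQ' hd)

end Spread

section OpenNoeth

universe u

variable {A : Type*} [CommRing A] [IsNoetherianRing A] {C : Type u} [CommRing C] [Algebra A C]
  [Algebra.FiniteType A C]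
  {X : Type*} [AddCommGroup X] [Module C X] [Module A X] [IsScalarTower A C X] [Module.Finite C X]

/-- **Openness of the flat locus, Noetherian case**: `A` Noetherian, `C` of finite type over `A`,
`X` a finite `C`-module. The set of primes `Q` of `C` with `X_Q` flat over `A` is open. -/
theorem isOpen_flatLocus_of_noetherian :
    IsOpen {Q : PrimeSpectrum C | Module.Flat A (LocalizedModule Q.asIdeal.primeCompl X)} := by
  have : IsNoetherianRing C := Algebra.FiniteType.isNoetherianRing A C
  refine Groth.Agent.Lib.H87Nagata.isOpen_of_nagata _ ?_ ?_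
  · intro p q hpq hq
    have : Module.Flat A (LocalizedModule q.asIdeal.primeCompl X) := hq
    exact flat_localizedModule_of_le p.asIdeal q.asIdeal hpq
  · intro p hp
    have : Module.Flat A (LocalizedModule p.asIdeal.primeCompl X) := hp
    obtain ⟨c, hc, h⟩ := exists_notMem_forall_flat (A := A) (X := X) p.asIdeal
    refine ⟨PrimeSpectrum.basicOpen c, (PrimeSpectrum.basicOpen c).isOpen,
      ⟨p, hc, fun x hx => hx⟩, ?_⟩
    rintro Q' ⟨hQ'c, hQ'p⟩
    exact h Q'.asIdeal ((PrimeSpectrum.mem_zeroLocus _ _).mp hQ'p) hQ'c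

end OpenNoeth

end Groth.Agent.Lib.FlatLimOpen88
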