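import Groth.Agent.Lib.H87Vasc
import Mathlib.RingTheory.Spectrum.Prime.FreeLocus

/-!
# Projective dimension spreads out from `R_p` to `R_s` (helper87)

* `exists_syzygy` : for a finite module `M` over a Noetherian ring and `n : ℕ` there is a finite
  module `K` (an `n`-th syzygy) such that for every submonoid `S`,
  `pd (S⁻¹M) ≤ n ↔ S⁻¹K` projective.
* `hasProjectiveDimensionLT_atPrime_of_away` : `pd_{R_s} M_s < i → pd_{R_p} M_p < i` for `s ∉ p`.
* `exists_away_hasProjectiveDimensionLT` : `pd_{R_p} M_p < i → ∃ s ∉ p, pd_{R_s} M_s < i`.
* `exists_projectiveDimension_away_eq_atPrime` : S11657.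
-/

set_option autoImplicit false
universe u
open CategoryTheory

namespace Groth.Agent.Lib.H87PdSpread

variable {R : Type u} [CommRing R]

/-- The comparison between the categorical localized module and `LocalizedModule`. -/
noncomputable def locIso (S : Submonoid R) (M : Type u) [AddCommGroup M] [Module R M] :
    (ModuleCat.of R M).localizedModule S ≅ ModuleCat.of (Localization S) (LocalizedModule S M) := by
  have hloc := ModuleCat.localizedModule_isLocalizedModule (ModuleCat.of R M) S
  exact (LinearEquiv.extendScalarsOfIsLocalization S (Localization S)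
      (IsLocalizedModule.linearEquiv S ((ModuleCat.of R M).localizedModuleMkLinearMap S)
        (LocalizedModule.mkLinearMap S M))).toModuleIso

theorem exists_syzygy [IsNoetherianRing R] (n : ℕ) :
    ∀ (M : Type u) [AddCommGroup M] [Module R M] [Module.Finite R M],
    ∃ (K : Type u) (_ : AddCommGroup K) (_ : Module R K) (_ : Module.Finite R K),
      ∀ S : Submonoid R,
        HasProjectiveDimensionLT (ModuleCat.of (Localization S) (LocalizedModule S M)) (n + 1) ↔
          Module.Projective (Localization S) (LocalizedModule S K) := by
  induction n with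
  | zero =>
    intro M _ _ _
    refine ⟨M, inferInstance, inferInstance, inferInstance, fun S => ?_⟩
    have : Small.{u} (Localization S) := small_of_surjective Localization.mkHom_surjective
    rw [zero_add, ← projective_iff_hasProjectiveDimensionLT_one, ← IsProjective.iff_projective]
  | succ n ih =>
    intro M _ _ _
    rcases Module.exists_finite_presentation R M with ⟨P, _, _, _, _, f, surjf⟩
    obtain ⟨K, _, _, _, hK⟩ := ih (LinearMap.ker f)
    refine ⟨K, inferInstance, inferInstance, inferInstance, fun S => ?_⟩
    have : Small.{u} (Localization S) := small_of_surjective Localization.mkHom_surjective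
    rw [← hK S]
    let T := f.shortComplexKer
    have T_exact := LinearMap.shortExact_shortComplexKer surjf
    have proj := ModuleCat.projective_of_categoryTheory_projective T.X₂
    let TS := T.map (ModuleCat.localizedModuleFunctor S)
    have TS_exact : TS.ShortExact := T_exact.map_of_exact (ModuleCat.localizedModuleFunctor S)
    have projS : Projective TS.X₂ :=
      (ModuleCat.localizedModuleFunctor.{u} S).projective_obj_of_projective proj
    have h1 := TS_exact.hasProjectiveDimensionLT_X₃_iff n projS
    have e3 : TS.X₃ ≅ ModuleCat.of (Localization S) (LocalizedModule S M) := locIso S M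
    have e1 : TS.X₁ ≅ ModuleCat.of (Localization S) (LocalizedModule S (LinearMap.ker f)) :=
      locIso S (LinearMap.ker f)
    constructor
    · intro h
      have h3 : HasProjectiveDimensionLT TS.X₃ (n + 1 + 1) :=
        hasProjectiveDimensionLT_of_iso e3.symm _
      have := h1.mp h3
      exact hasProjectiveDimensionLT_of_iso e1 _
    · intro h
      have h3 : HasProjectiveDimensionLT TS.X₁ (n + 1) :=
        hasProjectiveDimensionLT_of_iso e1.symm _
      have := h1.mpr h3
      exact hasProjectiveDimensionLT_of_iso e3 _

/-- `pd_{R_s} M_s < i → pd_{R_p} M_p < i` for `s ∉ p`. -/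
theorem hasProjectiveDimensionLT_atPrime_of_away [IsNoetherianRing R] (M : Type u)
    [AddCommGroup M] [Module R M] [Module.Finite R M] (p : Ideal R) [p.IsPrime] {s : R}
    (hs : s ∉ p) (i : ℕ)
    (h : HasProjectiveDimensionLT
      (ModuleCat.of (Localization.Away s) (LocalizedModule (Submonoid.powers s) M)) i) :
    HasProjectiveDimensionLT
      (ModuleCat.of (Localization.AtPrime p) (LocalizedModule p.primeCompl M)) i := by
  cases i with
  | zero =>
    have hz := isZero_of_hasProjectiveDimensionLT_zero
      (ModuleCat.of (Localization.Away s) (LocalizedModule (Submonoid.powers s) M))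
    have hsub : Subsingleton (LocalizedModule (Submonoid.powers s) M) :=
      ModuleCat.subsingleton_of_isZero hz
    have hsub' : Subsingleton (LocalizedModule p.primeCompl M) := by
      rw [LocalizedModule.subsingleton_iff] at hsub ⊢
      intro m
      obtain ⟨r, ⟨k, rfl⟩, hr⟩ := hsub m
      exact ⟨s ^ k, fun hk => hs (Ideal.IsPrime.mem_of_pow_mem inferInstance k hk), hr⟩
    exact (ModuleCat.isZero_of_subsingleton _).hasProjectiveDimensionLT_zero
  | succ k =>
    obtain ⟨K, _, _, _, hK⟩ := exists_syzygy (R := R) k M
    have hproj := (hK (Submonoid.powers s)).mp h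
    have : Module.FinitePresentation R K := Module.finitePresentation_of_finite R K
    have hsub : (PrimeSpectrum.basicOpen s : Set (PrimeSpectrum R)) ⊆ Module.freeLocus R K :=
      Module.basicOpen_subset_freeLocus_iff.mpr hproj
    have hp : (⟨p, inferInstance⟩ : PrimeSpectrum R) ∈ Module.freeLocus R K := hsub hs
    rw [Module.mem_freeLocus] at hp
    exact (hK p.primeCompl).mpr inferInstance

/-- `pd_{R_p} M_p < i → ∃ s ∉ p, pd_{R_s} M_s < i`. -/
theorem exists_away_hasProjectiveDimensionLT [IsNoetherianRing R] (M : Type u)
    [AddCommGroup M] [Module R M] [Module.Finite R M] (p : Ideal R) [p.IsPrime] (i : ℕ)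
    (h : HasProjectiveDimensionLT
      (ModuleCat.of (Localization.AtPrime p) (LocalizedModule p.primeCompl M)) i) :
    ∃ s : R, s ∉ p ∧ HasProjectiveDimensionLT
      (ModuleCat.of (Localization.Away s) (LocalizedModule (Submonoid.powers s) M)) i := by
  cases i with
  | zero =>
    have hz := isZero_of_hasProjectiveDimensionLT_zero
      (ModuleCat.of (Localization.AtPrime p) (LocalizedModule p.primeCompl M))
    have hsub : Subsingleton (LocalizedModule p.primeCompl M) :=
      ModuleCat.subsingleton_of_isZero hz
    obtain ⟨s, hs, hs'⟩ := LocalizedModule.exists_subsingleton_away (M := M) p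
    have hs'' : Subsingleton (LocalizedModule (Submonoid.powers s) M) := hs'
    exact ⟨s, hs, (ModuleCat.isZero_of_subsingleton _).hasProjectiveDimensionLT_zero⟩
  | succ k =>
    obtain ⟨K, _, _, _, hK⟩ := exists_syzygy (R := R) k M
    have hproj := (hK p.primeCompl).mp h
    have : Module.FinitePresentation R K := Module.finitePresentation_of_finite R K
    have hfree : Module.Free (Localization.AtPrime p) (LocalizedModule p.primeCompl K) :=
      Module.free_of_flat_of_isLocalRing
    have hp : (⟨p, inferInstance⟩ : PrimeSpectrum R) ∈ Module.freeLocus R K := hfree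
    obtain ⟨U, ⟨s, rfl⟩, hpU, hU⟩ :=
      PrimeSpectrum.isTopologicalBasis_basic_opens.exists_subset_of_mem_open hp
        (Module.isOpen_freeLocus (R := R) (M := K))
    refine ⟨s, hpU, (hK (Submonoid.powers s)).mpr ?_⟩
    exact Module.basicOpen_subset_freeLocus_iff.mp hU

theorem withBot_enat_le_of_forall_lt {a b : WithBot ℕ∞}
    (h : ∀ i : ℕ, b < i → a < i) : a ≤ b := by
  induction b with
  | bot =>
    have := h 0 (by simp)
    rw [Nat.cast_zero, WithBot.lt_zero_iff_eq_bot] at this
    exact this.le
  | coe b =>
    induction b with
    | top => exact le_top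
    | coe n =>
      have := h (n + 1) (by
        rw [Nat.cast_add, Nat.cast_one, ENat.WithBot.lt_add_one_iff]
        rfl)
      rw [Nat.cast_add, Nat.cast_one, ENat.WithBot.lt_add_one_iff] at this
      exact this

/-- **S11657**: projective dimension spreads out from `R_p` to some `R_s`. -/
theorem exists_projectiveDimension_away_eq_atPrime [IsNoetherianRing R] (M : Type u)
    [AddCommGroup M] [Module R M] [Module.Finite R M] (p : Ideal R) [p.IsPrime]
    (hfin : projectiveDimension
      (ModuleCat.of (Localization.AtPrime p) (LocalizedModule p.primeCompl M)) ≠ ⊤) :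
    ∃ s : R, s ∉ p ∧ projectiveDimension
      (ModuleCat.of (Localization.Away s) (LocalizedModule (Submonoid.powers s) M)) =
      projectiveDimension
        (ModuleCat.of (Localization.AtPrime p) (LocalizedModule p.primeCompl M)) := by
  have hlow : ∀ s : R, s ∉ p → projectiveDimension
      (ModuleCat.of (Localization.AtPrime p) (LocalizedModule p.primeCompl M)) ≤
      projectiveDimension
        (ModuleCat.of (Localization.Away s) (LocalizedModule (Submonoid.powers s) M)) := by
    intro s hs
    apply withBot_enat_le_of_forall_lt
    intro i hi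
    rw [projectiveDimension_lt_iff] at hi ⊢
    exact hasProjectiveDimensionLT_atPrime_of_away M p hs i hi
  generalize hd : projectiveDimension
      (ModuleCat.of (Localization.AtPrime p) (LocalizedModule p.primeCompl M)) = d at hfin hlow
  have key : ∃ i : ℕ, d < i ∧ ∀ a : WithBot ℕ∞, a < i → a ≤ d := by
    induction d with
    | bot =>
      refine ⟨0, by simp, fun a ha => ?_⟩
      rw [Nat.cast_zero, WithBot.lt_zero_iff_eq_bot] at ha
      exact ha.le
    | coe d =>
      induction d with
      | top => exact absurd rfl hfin
      | coe n =>
        refine ⟨n + 1, ?_, fun a ha => ?_⟩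
        · rw [Nat.cast_add, Nat.cast_one, ENat.WithBot.lt_add_one_iff]
          rfl
        · rw [Nat.cast_add, Nat.cast_one, ENat.WithBot.lt_add_one_iff] at ha
          exact ha
  obtain ⟨i, hi, hia⟩ := key
  rw [← hd, projectiveDimension_lt_iff] at hi
  obtain ⟨s, hs, hs'⟩ := exists_away_hasProjectiveDimensionLT M p i hi
  refine ⟨s, hs, le_antisymm (hia _ (projectiveDimension_lt_iff.mpr hs')) (hlow s hs)⟩

end Groth.Agent.Lib.H87PdSpread
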