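/-
helper8: ℕ-graded algebras `A` over a field `K` with `A₀ = K`: the irrelevant ideal is maximal,
proper homogeneous ideals lie in it, and a Noetherian such `A` is of finite type over `K`.
-/
import Mathlib

set_option autoImplicit false
universe u v

namespace Groth.Agent.Lib.H8GradedFT

open DirectSum

variable {K : Type u} [Field K] {A : Type v} [CommRing A] [Algebra K A]
  (𝒜 : ℕ → Submodule K A) [GradedAlgebra 𝒜]
  (h0 : ∀ a ∈ 𝒜 0, ∃ c : K, algebraMap K A c = a)

include h0

/-- The irrelevant ideal is maximal. -/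
theorem irrelevant_isMaximal [Nontrivial A] :
    (HomogeneousIdeal.irrelevant 𝒜).toIdeal.IsMaximal := by
  rw [Ideal.isMaximal_iff]
  constructor
  · intro h1
    have h1' : (1 : A) ∈ HomogeneousIdeal.irrelevant 𝒜 := h1
    rw [HomogeneousIdeal.mem_irrelevant_iff, GradedRing.proj_apply,
      DirectSum.decompose_of_mem_same 𝒜 (SetLike.one_mem_graded 𝒜)] at h1'
    exact one_ne_zero h1'
  · intro J x hPJ hx hxJ
    have hx' : ¬ (x ∈ HomogeneousIdeal.irrelevant 𝒜) := hx
    rw [HomogeneousIdeal.mem_irrelevant_iff, GradedRing.proj_apply] at hx'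
    obtain ⟨c, hc⟩ := h0 _ (decompose 𝒜 x 0).2
    have hc0 : c ≠ 0 := by
      rintro rfl
      rw [map_zero] at hc
      exact hx' hc.symm
    have hmem : x - (decompose 𝒜 x 0 : A) ∈ (HomogeneousIdeal.irrelevant 𝒜).toIdeal := by
      change x - (decompose 𝒜 x 0 : A) ∈ HomogeneousIdeal.irrelevant 𝒜
      rw [HomogeneousIdeal.mem_irrelevant_iff, GradedRing.proj_apply, decompose_sub,
        DirectSum.sub_apply, Submodule.coe_sub, decompose_coe, DirectSum.of_eq_same, sub_self]
    have h2 : (decompose 𝒜 x 0 : A) ∈ J := by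
      have : (decompose 𝒜 x 0 : A) = x - (x - (decompose 𝒜 x 0 : A)) := by ring
      rw [this]
      exact J.sub_mem hxJ (hPJ hmem)
    have h3 : (1 : A) = algebraMap K A c⁻¹ * (decompose 𝒜 x 0 : A) := by
      rw [← hc, ← map_mul, inv_mul_cancel₀ hc0, map_one]
    rw [h3]
    exact J.mul_mem_left _ h2

/-- A proper homogeneous ideal lies in the irrelevant ideal. -/
theorem le_irrelevant {𝔞 : Ideal A} (h𝔞 : 𝔞.IsHomogeneous 𝒜) (hne : 𝔞 ≠ ⊤) :
    𝔞 ≤ (HomogeneousIdeal.irrelevant 𝒜).toIdeal := by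
  intro x hx
  change x ∈ HomogeneousIdeal.irrelevant 𝒜
  rw [HomogeneousIdeal.mem_irrelevant_iff, GradedRing.proj_apply]
  have hx0 : (decompose 𝒜 x 0 : A) ∈ 𝔞 := h𝔞 0 hx
  obtain ⟨c, hc⟩ := h0 _ (decompose 𝒜 x 0).2
  by_contra hne0
  have hc0 : c ≠ 0 := by
    rintro rfl
    rw [map_zero] at hc
    exact hne0 hc.symm
  apply hne
  rw [Ideal.eq_top_iff_one]
  have h3 : (1 : A) = algebraMap K A c⁻¹ * (decompose 𝒜 x 0 : A) := by
    rw [← hc, ← map_mul, inv_mul_cancel₀ hc0, map_one]
  rw [h3]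
  exact 𝔞.mul_mem_left _ hx0

/-- A Noetherian ℕ-graded `K`-algebra with `A₀ = K` is of finite type over `K`. -/
theorem finiteType [IsNoetherianRing A] : Algebra.FiniteType K A := by
  classical
  set P := (HomogeneousIdeal.irrelevant 𝒜).toIdeal with hP
  have hPhom : P.IsHomogeneous 𝒜 := (HomogeneousIdeal.irrelevant 𝒜).isHomogeneous
  obtain ⟨S, hS⟩ := (Ideal.IsHomogeneous.iff_exists 𝒜 P).mp hPhom
  have hfg : (Ideal.span ((↑) '' S : Set A)).FG := hS ▸ (IsNoetherian.noetherian P)
  obtain ⟨T, hTS, hT⟩ := (Submodule.fg_span_iff_fg_span_finset_subset _).mp hfg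
  have hPT : P = Ideal.span (T : Set A) := by rw [hS]; exact hT
  have hThom : ∀ t ∈ T, SetLike.IsHomogeneousElem 𝒜 t := by
    intro t ht
    obtain ⟨s, -, rfl⟩ := hTS ht
    exact s.2
  have hTP : ∀ t ∈ T, t ∈ P := fun t ht => hPT ▸ Ideal.subset_span ht
  -- key claim
  have key : ∀ n : ℕ, ∀ a ∈ 𝒜 n, a ∈ Algebra.adjoin K (T : Set A) := by
    intro n
    induction n using Nat.strong_induction_on with
    | _ n ih =>
      intro a ha
      rcases Nat.eq_zero_or_pos n with rfl | hn
      · obtain ⟨c, rfl⟩ := h0 a ha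
        exact Subalgebra.algebraMap_mem _ c
      · have haP : a ∈ P := HomogeneousIdeal.mem_irrelevant_of_mem 𝒜 hn ha
        rw [hPT] at haP
        obtain ⟨f, hf⟩ := (Submodule.mem_span_finset' ).mp haP
        have ha' : a = GradedRing.proj 𝒜 n a := by
          rw [GradedRing.proj_apply, DirectSum.decompose_of_mem_same 𝒜 ha]
        rw [ha', ← hf, map_sum]
        refine Subalgebra.sum_mem _ fun t _ => ?_
        obtain ⟨d, hd⟩ := hThom t.1 t.2
        rw [smul_eq_mul, GradedRing.proj_apply]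
        by_cases hdn : d ≤ n
        · rw [DirectSum.coe_decompose_mul_of_right_mem_of_le 𝒜 hd hdn]
          rcases Nat.eq_zero_or_pos d with rfl | hd0
          · have ht0 : (t.1 : A) = 0 := by
              have h1 : t.1 ∈ HomogeneousIdeal.irrelevant 𝒜 := hTP t.1 t.2
              rw [HomogeneousIdeal.mem_irrelevant_iff, GradedRing.proj_apply,
                DirectSum.decompose_of_mem_same 𝒜 hd] at h1
              exact h1
            rw [ht0, mul_zero]
            exact Subalgebra.zero_mem _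
          · refine Subalgebra.mul_mem _ (ih (n - d) (by omega) _ (decompose 𝒜 (f t) (n - d)).2) ?_
            exact Algebra.subset_adjoin t.2
        · rw [DirectSum.coe_decompose_mul_of_right_mem_of_not_le 𝒜 hd hdn]
          exact Subalgebra.zero_mem _
  refine ⟨⟨T, ?_⟩⟩
  rw [eq_top_iff]
  intro a _
  rw [← DirectSum.sum_support_decompose 𝒜 a]
  exact Subalgebra.sum_mem _ fun i _ => key i _ (decompose 𝒜 a i).2

end Groth.Agent.Lib.H8GradedFT
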