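/-
helper8: dimension of a Cohen–Macaulay finite type algebra at a maximal ideal containing all
minimal primes; graded consequences; transfer of depth/dimension between `(A/𝔞)_q` and
`A_P/𝔞A_P`.
-/
import Mathlib
import Groth.Agent.Lib.H8GradedFT
import Groth.Agent.Lib.H8LCICM2
import Groth.Agent.Lib.H8DoubleLink
import Groth.Agent.Lib.H8DepthBC2
import Groth.Agent.Lib.CMRingEquiv96

set_option autoImplicit false
set_option linter.style.haveILetI false
universe u v

namespace Groth.Agent.Lib.H8GradedCM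

open IsLocalRing LocCoh

/-- In a Cohen–Macaulay finite type algebra over a field, a maximal ideal containing all minimal
primes has height equal to the dimension. -/
theorem ringKrullDim_eq_height_of_minimalPrimes_le (k S : Type v) [Field k] [CommRing S]
    [Algebra k S] [Algebra.FiniteType k S] [IsCohenMacaulayRing S] (n : Ideal S) [hn : n.IsMaximal]
    (h : ∀ p ∈ minimalPrimes S, p ≤ n) : ringKrullDim S = n.height := by
  refine le_antisymm ?_ (Ideal.height_le_ringKrullDim_of_ne_top hn.ne_top)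
  rw [ringKrullDim_le_iff_isMaximal_height_le]
  intro m hm
  obtain ⟨p, hp, hpm⟩ := Ideal.exists_minimalPrimes_le (bot_le : ⊥ ≤ m)
  have hpn : p ≤ n := h p hp
  haveI : p.IsPrime := hp.1.1
  have hsurj : Function.Surjective (Ideal.Quotient.mk p) := Ideal.Quotient.mk_surjective
  have hker : ∀ {J : Ideal S}, p ≤ J → RingHom.ker (Ideal.Quotient.mk p) ≤ J := by
    intro J hJ; rw [Ideal.mk_ker]; exact hJ
  haveI hm' : (m.map (Ideal.Quotient.mk p)).IsMaximal :=
    Ideal.IsMaximal.map_of_surjective_of_ker_le hsurj (hker hpm)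
  haveI hn' : (n.map (Ideal.Quotient.mk p)).IsMaximal :=
    Ideal.IsMaximal.map_of_surjective_of_ker_le hsurj (hker hpn)
  have hcm : (m.map (Ideal.Quotient.mk p)).comap (Ideal.Quotient.mk p) = m := by
    rw [Ideal.comap_map_of_surjective _ hsurj, ← RingHom.ker_eq_comap_bot, Ideal.mk_ker,
      sup_eq_left]
    exact hpm
  have hcn : (n.map (Ideal.Quotient.mk p)).comap (Ideal.Quotient.mk p) = n := by
    rw [Ideal.comap_map_of_surjective _ hsurj, ← RingHom.ker_eq_comap_bot, Ideal.mk_ker,
      sup_eq_left]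
    exact hpn
  have h1 := Groth.Agent.Lib.H8LCICM.height_comap_quotient_of_minimalPrime p hp
    (m.map (Ideal.Quotient.mk p))
  have h2 := Groth.Agent.Lib.H8LCICM.height_comap_quotient_of_minimalPrime p hp
    (n.map (Ideal.Quotient.mk p))
  rw [hcm] at h1
  rw [hcn] at h2
  obtain ⟨N, -, hN⟩ := Groth.Agent.Lib.FTDim.exists_ringKrullDim_eq k (S ⧸ p)
  rw [h1, h2, hN _ hm', hN _ hn']


section graded

open DirectSum

variable {K : Type u} [Field K] {A : Type v} [CommRing A] [Algebra K A]
  (𝒜 : ℕ → Submodule K A) [GradedAlgebra 𝒜]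
  (h0 : ∀ a ∈ 𝒜 0, ∃ c : K, algebraMap K A c = a)

include h0

/-- For a Noetherian ℕ-graded `K`-algebra `A` with `A₀ = K` and a proper homogeneous ideal `𝔞`
with `A/𝔞` Cohen–Macaulay, `dim A/𝔞` is the height of the image of the irrelevant ideal. -/
theorem ringKrullDim_quotient_eq_height_irrelevant [IsNoetherianRing A] {𝔞 : Ideal A}
    (h𝔞 : 𝔞.IsHomogeneous 𝒜) (hne : 𝔞 ≠ ⊤) [IsCohenMacaulayRing (A ⧸ 𝔞)] :
    ringKrullDim (A ⧸ 𝔞) =
      ((HomogeneousIdeal.irrelevant 𝒜).toIdeal.map (Ideal.Quotient.mk 𝔞)).height := by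
  haveI : Nontrivial A := by
    by_contra hA
    rw [not_nontrivial_iff_subsingleton] at hA
    exact hne (Subsingleton.elim _ _)
  set P := (HomogeneousIdeal.irrelevant 𝒜).toIdeal with hP
  haveI hPmax : P.IsMaximal := Groth.Agent.Lib.H8GradedFT.irrelevant_isMaximal 𝒜 h0
  have h𝔞P : 𝔞 ≤ P := Groth.Agent.Lib.H8GradedFT.le_irrelevant 𝒜 h0 h𝔞 hne
  letI : Field (A ⧸ P) := Ideal.Quotient.field P
  let φ : A ⧸ P →+* A := Ideal.Quotient.lift P (GradedRing.projZeroRingHom 𝒜) (by
    intro x hx
    rw [hP, HomogeneousIdeal.toIdeal_irrelevant, RingHom.mem_ker] at hx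
    exact hx)
  letI : Algebra (A ⧸ P) A := φ.toAlgebra
  haveI : IsScalarTower K (A ⧸ P) A := by
    refine IsScalarTower.of_algebraMap_eq fun x => ?_
    change algebraMap K A x = φ (Ideal.Quotient.mk P (algebraMap K A x))
    rw [Ideal.Quotient.lift_mk, GradedRing.projZeroRingHom_apply,
      DirectSum.decompose_of_mem_same 𝒜 (SetLike.algebraMap_mem_graded 𝒜 x)]
  haveI : Algebra.FiniteType K A := Groth.Agent.Lib.H8GradedFT.finiteType 𝒜 h0
  haveI : Algebra.FiniteType (A ⧸ P) A := Algebra.FiniteType.of_restrictScalars_finiteType K _ A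
  haveI : Algebra.FiniteType (A ⧸ P) (A ⧸ 𝔞) :=
    Algebra.FiniteType.of_surjective (Ideal.Quotient.mkₐ (A ⧸ P) 𝔞)
      (Ideal.Quotient.mkₐ_surjective _ _)
  have hsurj : Function.Surjective (Ideal.Quotient.mk 𝔞) := Ideal.Quotient.mk_surjective
  haveI hn : (P.map (Ideal.Quotient.mk 𝔞)).IsMaximal :=
    Ideal.IsMaximal.map_of_surjective_of_ker_le hsurj (by rw [Ideal.mk_ker]; exact h𝔞P)
  refine ringKrullDim_eq_height_of_minimalPrimes_le (A ⧸ P) (A ⧸ 𝔞) _ ?_
  intro p hp
  have h1 : p.comap (Ideal.Quotient.mk 𝔞) ∈ 𝔞.minimalPrimes := by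
    rw [Ideal.minimalPrimes_eq_comap]
    exact ⟨p, hp, rfl⟩
  have h2 : (p.comap (Ideal.Quotient.mk 𝔞)).IsHomogeneous 𝒜 :=
    Groth.Agent.Lib.H8DoubleLink.isHomogeneous_of_mem_minimalPrimes h𝔞 h1
  have h3 : p.comap (Ideal.Quotient.mk 𝔞) ≤ P :=
    Groth.Agent.Lib.H8GradedFT.le_irrelevant 𝒜 h0 h2 h1.1.1.ne_top
  rw [← Ideal.map_comap_of_surjective _ hsurj p]
  exact Ideal.map_mono h3

end graded


section transfer

variable {A : Type v} [CommRing A] (P : Ideal A) [P.IsPrime] (𝔞 : Ideal A)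
  (q : Ideal (A ⧸ 𝔞)) [q.IsPrime] (hq : q.comap (Ideal.Quotient.mk 𝔞) = P)

include hq

/-- `(A/𝔞)_q ≅ A_P/𝔞A_P` where `P` is the preimage of `q`. -/
noncomputable def localizationQuotientEquiv :
    Localization.AtPrime q ≃+*
      (Localization.AtPrime P ⧸ 𝔞.map (algebraMap A (Localization.AtPrime P))) := by
  subst hq
  exact Groth.Agent.Lib.H14CMQuot.localizationQuotientEquiv 𝔞 q

theorem ringKrullDim_localization_quotient :
    ringKrullDim (Localization.AtPrime q) =
      ringKrullDim (Localization.AtPrime P ⧸ 𝔞.map (algebraMap A (Localization.AtPrime P))) :=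
  ringKrullDim_eq_of_ringEquiv (localizationQuotientEquiv P 𝔞 q hq)

theorem depth_localization_quotient [IsNoetherianRing A] :
    depth (Localization.AtPrime q) (Localization.AtPrime q) =
      depth (Localization.AtPrime P)
        (Localization.AtPrime P ⧸ 𝔞.map (algebraMap A (Localization.AtPrime P))) := by
  set R := Localization.AtPrime P
  set B := R ⧸ 𝔞.map (algebraMap A R)
  let e : Localization.AtPrime q ≃+* B := localizationQuotientEquiv P 𝔞 q hq
  haveI : IsLocalRing B := e.isLocalRing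
  have hsurj : Function.Surjective (algebraMap R B) := Ideal.Quotient.mk_surjective
  haveI : IsLocalHom (algebraMap R B) := IsLocalHom.of_surjective _ hsurj
  rw [Groth.Agent.Lib.CMRingEquiv96.depth_eq e]
  exact (Groth.Agent.Lib.H8DepthBC.depth_eq_depth_of_isLocalHom (A := R) (B := B) B).symm

end transfer


/-- `dim A/(I ⊓ J) ≤ n` as soon as `dim A/I ≤ n` and `dim A/J ≤ n`. -/
theorem ringKrullDim_quotient_inf_le {A : Type v} [CommRing A] (I J : Ideal A) (n : WithBot ℕ∞)
    (hI : ringKrullDim (A ⧸ I) ≤ n) (hJ : ringKrullDim (A ⧸ J) ≤ n) :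
    ringKrullDim (A ⧸ (I ⊓ J)) ≤ n := by
  rw [ringKrullDim_quotient] at hI hJ ⊢
  refine iSup_le fun l => ?_
  have hhead : I ≤ l.head.1.asIdeal ∨ J ≤ l.head.1.asIdeal := by
    have h1 : I ⊓ J ≤ l.head.1.asIdeal := by
      have := l.head.2
      rw [PrimeSpectrum.mem_zeroLocus] at this
      exact this
    exact (Ideal.IsPrime.inf_le l.head.1.isPrime).mp h1
  have hmono : ∀ i, l.head.1.asIdeal ≤ (l i).1.asIdeal := fun i => by
    have : l.head ≤ l i := LTSeries.head_le l i
    exact this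
  rcases hhead with h | h
  · let l' : LTSeries (PrimeSpectrum.zeroLocus (I : Set A)) :=
      { length := l.length
        toFun := fun i => ⟨(l i).1, by
          rw [PrimeSpectrum.mem_zeroLocus]; exact (h.trans (hmono i))⟩
        step := fun i => l.step i }
    exact le_trans (Order.LTSeries.length_le_krullDim l') hI
  · let l' : LTSeries (PrimeSpectrum.zeroLocus (J : Set A)) :=
      { length := l.length
        toFun := fun i => ⟨(l i).1, by
          rw [PrimeSpectrum.mem_zeroLocus]; exact (h.trans (hmono i))⟩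
        step := fun i => l.step i }
    exact le_trans (Order.LTSeries.length_le_krullDim l') hJ

end Groth.Agent.Lib.H8GradedCM
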