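/-
helper8: the Cohen–Macaulay locus of a quotient of a regular ring is open
(via Auslander–Buchsbaum and spreading out of projective dimension).
-/
import Groth.Agent.Lib.H87AB
import Groth.Agent.Lib.H87GlDim2
import Groth.Agent.Lib.H87PdSpread
import Groth.Agent.Lib.H8CM8
import Groth.Agent.Lib.H8CM6
import Groth.Agent.Lib.CMFlat33
import Groth.Agent.Lib.CMComp33
import Groth.Agent.Lib.H8GradedCM
import Groth.Agent.Lib.DepthRees

set_option autoImplicit false
set_option linter.style.haveILetI false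
universe u

namespace Groth.Agent.Lib.H8CMOpen

open LocCoh IsLocalRing CategoryTheory Groth.Agent.Lib

section Local

variable {A : Type u} [CommRing A] [IsRegularLocalRing A]

/-- Over a regular local ring `A`, the quotient `A/J` is Cohen–Macaulay iff
`pd_A (A/J) ≤ ht J`. -/
theorem isCMLocalRing_quotient_iff (J : Ideal A) (hJ : J ≠ ⊤) (h : ℕ) (hh : J.height = h) :
    IsCohenMacaulayLocalRing (A ⧸ J) ↔
      HasProjectiveDimensionLT (ModuleCat.of A (A ⧸ J)) (h + 1) := by
  haveI : IsCohenMacaulayLocalRing A := H8CM.isCMLocalRing_of_isRegularLocalRing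
  haveI : IsCohenMacaulayRing A := H8CM.isCMRing_of_isCMLocalRing
  haveI : Nontrivial (A ⧸ J) := Ideal.Quotient.nontrivial_iff.mpr hJ
  haveI : IsLocalRing (A ⧸ J) := CMComp33.isLocalRing_quotient J hJ
  obtain ⟨d, hd⟩ := CMFlat33.exists_nat_ringKrullDim A
  have h1 := H8CM.ringKrullDim_eq_add_idealDepth hJ
  rw [H8CM.idealDepth_eq_height hJ, hh, hd] at h1
  have hdepthA : ((depth A A : ℕ∞) : WithBot ℕ∞) = d := by
    rw [← hd, ← Module.supportDim_self_eq_ringKrullDim]
    exact (IsCohenMacaulayLocalRing.supportDim_eq_depth (R := A)).symm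
  have hpd := H87GlDim2.hasProjectiveDimensionLT_of_isRegularLocalRing d hd
    (ModuleCat.of A (A ⧸ J))
  obtain ⟨e, -, he2, he3⟩ := H87AB.exists_projectiveDimension_eq (A ⧸ J) (d + 1) hpd
  have hAB := H87AB.auslander_buchsbaum' (A ⧸ J) e he2 he3
  have hle := DepthRees.depth_le_supportDim (R := A) (A ⧸ J)
  rw [Module.supportDim_quotient_eq_ringKrullDim] at hle
  obtain ⟨n, hn⟩ := H8CM.exists_nat_depth (R := A) (M := A ⧸ J)
  obtain ⟨r, hr⟩ := CMFlat33.exists_nat_ringKrullDim (A ⧸ J)
  rw [hn] at hAB hle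
  rw [hr] at h1 hle
  rw [hAB] at hdepthA
  have e1 : d = r + h := by
    have : ((d : ℕ) : WithBot ℕ∞) = ((r + h : ℕ) : WithBot ℕ∞) := by push_cast; exact h1
    exact Nat.cast_injective (R := WithBot ℕ∞) this
  have e2 : e + n = d := by
    have : ((e + n : ℕ) : WithBot ℕ∞) = ((d : ℕ) : WithBot ℕ∞) := by
      push_cast; exact_mod_cast hdepthA
    exact Nat.cast_injective (R := WithBot ℕ∞) this
  have e3 : n ≤ r := by exact_mod_cast hle
  have hCM : IsCohenMacaulayLocalRing (A ⧸ J) ↔ r = n := by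
    constructor
    · intro hcm
      have := hcm.supportDim_eq_depth
      rw [Module.supportDim_self_eq_ringKrullDim, hr, ← CMFlat33.depth_quotient_eq, hn] at this
      exact_mod_cast this
    · intro hrn
      refine { supportDim_eq_depth := ?_ }
      rw [Module.supportDim_self_eq_ringKrullDim, hr, ← CMFlat33.depth_quotient_eq, hn, hrn]
      rfl
  rw [hCM]
  constructor
  · intro hrn
    have : e = h := by omega
    rw [← this]
    exact he2
  · intro hlt
    by_contra hne
    have : h + 1 ≤ e := by omega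
    exact he3 (hasProjectiveDimensionLT_of_ge _ (h + 1) e this)

end Local

section Global

variable {P : Type u} [CommRing P] (I : Ideal P) (Q : Ideal P) [Q.IsPrime]

/-- The localisation of `P/I` at `Q`, as a module, is `P_Q / I P_Q`. -/
noncomputable def localizedQuotEquiv :
    LocalizedModule Q.primeCompl (P ⧸ I) ≃ₗ[Localization.AtPrime Q]
      (Localization.AtPrime Q ⧸ I.map (algebraMap P (Localization.AtPrime Q))) := by
  have heq := Ideal.localized'_eq_map (Localization.AtPrime Q) Q.primeCompl I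
  let e1 : LocalizedModule Q.primeCompl (P ⧸ I) ≃ₗ[P]
      (Localization.AtPrime Q ⧸ Submodule.localized' (Localization.AtPrime Q) Q.primeCompl
        (Algebra.linearMap P (Localization.AtPrime Q)) I) :=
    IsLocalizedModule.linearEquiv Q.primeCompl (LocalizedModule.mkLinearMap Q.primeCompl (P ⧸ I))
      (Submodule.toLocalizedQuotient' (Localization.AtPrime Q) Q.primeCompl
        (Algebra.linearMap P (Localization.AtPrime Q)) I)
  let e2 := e1.extendScalarsOfIsLocalization Q.primeCompl (Localization.AtPrime Q)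
  exact e2.trans (Submodule.quotEquivOfEq _ _ heq)

theorem map_ne_top (hIQ : I ≤ Q) : I.map (algebraMap P (Localization.AtPrime Q)) ≠ ⊤ := by
  intro h
  have h1 : I.map (algebraMap P (Localization.AtPrime Q)) ≤ maximalIdeal (Localization.AtPrime Q) := by
    rw [Ideal.map_le_iff_le_comap]
    have h2 := IsLocalization.AtPrime.under_maximalIdeal (Localization.AtPrime Q) Q
    change I ≤ Ideal.under P (maximalIdeal (Localization.AtPrime Q))
    rw [h2]
    exact hIQ
  rw [h] at h1
  exact (Ideal.IsPrime.ne_top inferInstance) (top_le_iff.mp h1)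

variable [IsRegularRing P]

/-- For a quotient `P/I` of a regular ring and a prime `q` of `P/I` with preimage `Q`, the local
ring `(P/I)_q` is Cohen–Macaulay iff `pd_{P_Q} (P/I)_Q ≤ ht (I P_Q)`. -/
theorem isCMLocalRing_localization_quotient_iff (q : Ideal (P ⧸ I)) [q.IsPrime]
    (hq : q.comap (Ideal.Quotient.mk I) = Q) (h : ℕ)
    (hh : (I.map (algebraMap P (Localization.AtPrime Q))).height = h) :
    IsCohenMacaulayLocalRing (Localization.AtPrime q) ↔
      HasProjectiveDimensionLT (ModuleCat.of (Localization.AtPrime Q)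
        (LocalizedModule Q.primeCompl (P ⧸ I))) (h + 1) := by
  have hIQ : I ≤ Q := by
    rw [← hq]
    intro x hx
    rw [Ideal.mem_comap, Ideal.Quotient.eq_zero_iff_mem.mpr hx]
    exact Ideal.zero_mem _
  have hJ := map_ne_top I Q hIQ
  let e := H8GradedCM.localizationQuotientEquiv Q I q hq
  have h1 : IsCohenMacaulayLocalRing (Localization.AtPrime q) ↔
      IsCohenMacaulayLocalRing
        (Localization.AtPrime Q ⧸ I.map (algebraMap P (Localization.AtPrime Q))) :=
    ⟨fun _ => CMRingEquiv96.isCohenMacaulayLocalRing_of_ringEquiv e,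
      fun _ => CMRingEquiv96.isCohenMacaulayLocalRing_of_ringEquiv e.symm⟩
  rw [h1, isCMLocalRing_quotient_iff _ hJ h hh]
  have iso := (localizedQuotEquiv I Q).toModuleIso
  exact ⟨fun hh' => hasProjectiveDimensionLT_of_iso iso.symm _,
    fun hh' => hasProjectiveDimensionLT_of_iso iso _⟩

omit [IsRegularRing P] in
/-- Height of `I P_Q` only grows when fewer minimal primes of `I` are visible. -/
theorem height_map_le_height_map [IsNoetherianRing P] (Q₀ : Ideal P) [Q₀.IsPrime] (hIQ : I ≤ Q)
    (hcond : ∀ P₀ ∈ I.minimalPrimes, P₀ ≤ Q → P₀ ≤ Q₀) :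
    (I.map (algebraMap P (Localization.AtPrime Q₀))).height ≤
      (I.map (algebraMap P (Localization.AtPrime Q))).height := by
  have hJ := map_ne_top I Q hIQ
  obtain ⟨n, hn⟩ := ENat.ne_top_iff_exists.mp (Ideal.height_ne_top hJ)
  obtain ⟨p, hp, hJp, hph⟩ := Ideal.exists_isPrime_height_eq hn.symm
  have h1 : (p.under P).height = p.height := IsLocalization.height_under Q.primeCompl p
  haveI : (p.under P).IsPrime := Ideal.comap_isPrime _ _
  have hIp : I ≤ p.under P := by
    intro x hx
    exact hJp (Ideal.mem_map_of_mem _ hx)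
  have hpQ : p.under P ≤ Q := by
    have h2 := IsLocalization.AtPrime.under_maximalIdeal (Localization.AtPrime Q) Q
    exact (Ideal.comap_mono (le_maximalIdeal hp.ne_top)).trans h2.le
  obtain ⟨P₀, hP₀min, hP₀p⟩ := Ideal.exists_minimalPrimes_le hIp
  haveI : P₀.IsPrime := hP₀min.1.1
  have hP₀Q₀ : P₀ ≤ Q₀ := hcond P₀ hP₀min (hP₀p.trans hpQ)
  have hdisj : Disjoint (Q₀.primeCompl : Set P) (P₀ : Set P) := by
    rw [Set.disjoint_left]
    intro x hx hx'
    exact hx (hP₀Q₀ hx')
  have h3 := IsLocalization.height_map_of_disjoint (S := Localization.AtPrime Q₀)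
    Q₀.primeCompl P₀ hdisj
  calc (I.map (algebraMap P (Localization.AtPrime Q₀))).height
      ≤ (P₀.map (algebraMap P (Localization.AtPrime Q₀))).height :=
        Ideal.height_mono (Ideal.map_mono hP₀min.1.2)
    _ = P₀.height := h3
    _ ≤ (p.under P).height := Ideal.height_mono hP₀p
    _ = p.height := h1
    _ = n := hph
    _ = (I.map (algebraMap P (Localization.AtPrime Q))).height := hn

/-- **The Cohen–Macaulay locus of a quotient of a regular ring is open.** -/
theorem isOpen_CMLocus_quotient :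
    IsOpen {q : PrimeSpectrum (P ⧸ I) |
      IsCohenMacaulayLocalRing (Localization.AtPrime q.asIdeal)} := by
  classical
  rw [isOpen_iff_forall_mem_open]
  intro q₀ hq₀
  haveI hQ₀ : (q₀.asIdeal.comap (Ideal.Quotient.mk I)).IsPrime := Ideal.comap_isPrime _ _
  have hIQ : ∀ q : PrimeSpectrum (P ⧸ I), I ≤ q.asIdeal.comap (Ideal.Quotient.mk I) := by
    intro q x hx
    rw [Ideal.mem_comap, Ideal.Quotient.eq_zero_iff_mem.mpr hx]
    exact Ideal.zero_mem _
  obtain ⟨c, hc⟩ := ENat.ne_top_iff_exists.mp (Ideal.height_ne_top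
    (map_ne_top I (q₀.asIdeal.comap (Ideal.Quotient.mk I)) (hIQ q₀)))
  have hpd₀ := (isCMLocalRing_localization_quotient_iff I _ q₀.asIdeal rfl c hc.symm).mp hq₀
  obtain ⟨s, hs, hpds⟩ := H87PdSpread.exists_away_hasProjectiveDimensionLT (P ⧸ I)
    (q₀.asIdeal.comap (Ideal.Quotient.mk I)) (c + 1) hpd₀
  set bad : Set (Ideal P) :=
    {P₀ | P₀ ∈ I.minimalPrimes ∧ ¬ P₀ ≤ q₀.asIdeal.comap (Ideal.Quotient.mk I)} with hbad
  have hbadfin : bad.Finite :=
    (Ideal.finite_minimalPrimes_of_isNoetherianRing P I).subset fun _ h => h.1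
  refine ⟨(PrimeSpectrum.basicOpen (Ideal.Quotient.mk I s) : Set (PrimeSpectrum (P ⧸ I))) ∩
    ⋂ P₀ ∈ bad, (PrimeSpectrum.zeroLocus
      ((P₀.map (Ideal.Quotient.mk I) : Ideal (P ⧸ I)) : Set (P ⧸ I)))ᶜ, ?_, ?_, ?_⟩
  · -- contained in the CM locus
    rintro q ⟨hqs, hqbad⟩
    rw [SetLike.mem_coe, PrimeSpectrum.mem_basicOpen] at hqs
    haveI hQ : (q.asIdeal.comap (Ideal.Quotient.mk I)).IsPrime := Ideal.comap_isPrime _ _
    have hsQ : s ∉ q.asIdeal.comap (Ideal.Quotient.mk I) := hqs
    have hpdQ := H87PdSpread.hasProjectiveDimensionLT_atPrime_of_away (P ⧸ I)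
      (q.asIdeal.comap (Ideal.Quotient.mk I)) hsQ (c + 1) hpds
    obtain ⟨h, hh⟩ := ENat.ne_top_iff_exists.mp (Ideal.height_ne_top
      (map_ne_top I (q.asIdeal.comap (Ideal.Quotient.mk I)) (hIQ q)))
    have hcond : ∀ P₀ ∈ I.minimalPrimes, P₀ ≤ q.asIdeal.comap (Ideal.Quotient.mk I) →
        P₀ ≤ q₀.asIdeal.comap (Ideal.Quotient.mk I) := by
      intro P₀ hP₀ hle
      by_contra hnot
      have hmem : P₀ ∈ bad := ⟨hP₀, hnot⟩
      have := Set.mem_iInter₂.mp hqbad P₀ hmem
      apply this
      rw [PrimeSpectrum.mem_zeroLocus, SetLike.coe_subset_coe, Ideal.map_le_iff_le_comap]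
      exact hle
    have hle := height_map_le_height_map I (q.asIdeal.comap (Ideal.Quotient.mk I))
      (q₀.asIdeal.comap (Ideal.Quotient.mk I)) (hIQ q) hcond
    rw [← hc, ← hh] at hle
    have hch : c ≤ h := by exact_mod_cast hle
    rw [Set.mem_setOf_eq, isCMLocalRing_localization_quotient_iff I _ q.asIdeal rfl h hh.symm]
    exact hasProjectiveDimensionLT_of_ge _ (c + 1) (h + 1) (by omega)
  · -- open
    refine PrimeSpectrum.isOpen_basicOpen.inter (hbadfin.isOpen_biInter fun P₀ _ => ?_)
    exact (PrimeSpectrum.isClosed_zeroLocus _).isOpen_compl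
  · -- contains q₀
    refine ⟨?_, Set.mem_iInter₂.mpr fun P₀ hP₀ => ?_⟩
    · rw [SetLike.mem_coe, PrimeSpectrum.mem_basicOpen]
      exact hs
    · intro hmem
      rw [PrimeSpectrum.mem_zeroLocus, SetLike.coe_subset_coe, Ideal.map_le_iff_le_comap] at hmem
      exact hP₀.2 hmem

end Global

end Groth.Agent.Lib.H8CMOpen
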