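import Groth.Agent.Lib.CMQF33e
import Groth.Agent.Lib.CMOpenFormal33
import Groth.Agent.Lib.H8CMOpen
import Groth.Agent.Lib.FlatLimFP88
import Groth.Agent.Lib.FlatLimOpen88
import Mathlib

/-!
# Openness of the Cohen–Macaulay locus of a flat finite type algebra over a Noetherian ring
(helper33)
-/

set_option autoImplicit false
universe u

open IsLocalRing Groth.Agent.Lib TensorProduct

namespace Groth.Agent.Lib.CMQF33

section Aux

/-- The CM locus of a finite type algebra over a field is open. -/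
theorem isOpen_CMLocus_of_finiteType_field (k F : Type u) [Field k] [CommRing F] [Algebra k F]
    [Algebra.FiniteType k F] : IsOpen (CMOpenFormal33.CMLocus F) := by
  obtain ⟨n, f, hf⟩ := Algebra.FiniteType.iff_quotient_mvPolynomial''.mp
    (inferInstance : Algebra.FiniteType k F)
  have h1 := H8CMOpen.isOpen_CMLocus_quotient (P := MvPolynomial (Fin n) k) (RingHom.ker f.toRingHom)
  exact CMOpenFormal33.isOpen_CMLocus_of_ringEquiv
    (RingHom.quotientKerEquivOfSurjective (f := f.toRingHom) hf) h1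

/-- In a Jacobson ring every nonempty open subset of `V(Q₀)` contains a closed point. -/
theorem exists_maximal_mem_of_isOpen {F : Type u} [CommRing F] [IsJacobsonRing F]
    (Q₀ : PrimeSpectrum F) (U : Set (PrimeSpectrum F)) (hU : IsOpen U) (hQ₀ : Q₀ ∈ U) :
    ∃ (M : Ideal F) (hM : M.IsMaximal), Q₀.asIdeal ≤ M ∧ (⟨M, hM.isPrime⟩ : PrimeSpectrum F) ∈ U := by
  obtain ⟨_, ⟨f, rfl⟩, hf, hfU⟩ :=
    PrimeSpectrum.isTopologicalBasis_basic_opens.exists_subset_of_mem_open hQ₀ hU
  have hfQ : f ∉ Q₀.asIdeal := hf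
  have hjac : Q₀.asIdeal.jacobson = Q₀.asIdeal :=
    IsJacobsonRing.out (R := F) inferInstance Q₀.2.isRadical
  rw [← hjac, Ideal.jacobson, Submodule.mem_sInf] at hfQ
  push Not at hfQ
  obtain ⟨M, ⟨hle, hM⟩, hfM⟩ := hfQ
  exact ⟨M, hM, hle, hfU hfM⟩

end Aux

section QF

/-- The quasi-finite locus is open (ring level). -/
theorem exists_notMem_forall_quasiFiniteAt {R S : Type*} [CommRing R] [CommRing S] [Algebra R S]
    [Algebra.FiniteType R S] (p : Ideal S) [p.IsPrime] [Algebra.QuasiFiniteAt R p] :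
    ∃ r : S, r ∉ p ∧ ∀ (q : Ideal S) [q.IsPrime], r ∉ q → Algebra.QuasiFiniteAt R q := by
  obtain ⟨S', hS', r, hrp, H⟩ :=
    Algebra.QuasiFiniteAt.exists_fg_and_exists_notMem_and_awayMap_bijective (R := R) p
  have : Module.Finite R S' := ⟨(Submodule.fg_top _).mpr hS'⟩
  have : Algebra.QuasiFinite R (Localization.Away r) := .trans _ S' _
  have : Algebra.QuasiFinite R (Localization.Away r.1) :=
    .of_surjective_algHom (Localization.awayMapₐ S'.val r) H.2
  refine ⟨r.1, hrp, fun q _ hrq => ?_⟩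
  let f : Localization.Away r.1 →ₐ[S] Localization.AtPrime q :=
    IsLocalization.Away.liftAlgHom r.1 (f := Algebra.ofId _ _) <|
      IsLocalization.map_units (M := q.primeCompl) (Localization.AtPrime q) ⟨r, hrq⟩
  refine .of_forall_exists_mul_mem_range (f.restrictScalars R) fun x ↦ ?_
  obtain ⟨x, ⟨s, hs⟩, rfl⟩ := IsLocalization.exists_mk'_eq q.primeCompl x
  exact ⟨algebraMap _ _ s, by simpa using IsLocalization.map_units _ ⟨s, hs⟩,
    algebraMap _ _ x, by simp⟩

/-- Flatness of the local homomorphism at `q` in terms of the localized module. -/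
theorem flat_localRingHom_iff {P S : Type*} [CommRing P] [CommRing S] [Algebra P S]
    (q : Ideal S) [q.IsPrime] :
    (Localization.localRingHom (q.under P) q (algebraMap P S) rfl).Flat ↔
      Module.Flat P (LocalizedModule q.primeCompl S) := by
  algebraize [Localization.localRingHom (q.under P) q (algebraMap P S) rfl]
  have : IsScalarTower P (Localization.AtPrime (q.under P)) (Localization.AtPrime q) :=
    .of_algebraMap_eq fun x ↦ (Localization.localRingHom_to_map _ _ _ rfl x).symm
  rw [RingHom.Flat, Module.flat_iff_of_isLocalization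
    (S := (Localization.AtPrime (q.under P))) (p := (q.under P).primeCompl)]

end QF

section FibreOrder

variable {R S : Type u} [CommRing R] [CommRing S] [Algebra R S]

theorem under_comap_includeRight (p : Ideal R) [p.IsPrime] (Q : Ideal (p.Fiber S)) [Q.IsPrime] :
    (Q.comap (Algebra.TensorProduct.includeRight : S →ₐ[R] p.Fiber S)).under R = p := by
  have h := ((PrimeSpectrum.preimageEquivFiber R S ⟨p, inferInstance⟩).symm ⟨Q, inferInstance⟩).2
  exact congr($(h).asIdeal)

theorem comap_includeRight_le_iff (p : Ideal R) [p.IsPrime] (Q₁ Q₂ : Ideal (p.Fiber S))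
    [Q₁.IsPrime] [Q₂.IsPrime] :
    Q₁.comap (Algebra.TensorProduct.includeRight : S →ₐ[R] p.Fiber S) ≤
      Q₂.comap (Algebra.TensorProduct.includeRight : S →ₐ[R] p.Fiber S) ↔ Q₁ ≤ Q₂ := by
  have h := (PrimeSpectrum.preimageOrderIsoFiber R S ⟨p, inferInstance⟩).symm.le_iff_le
    (x := ⟨Q₁, inferInstance⟩) (y := ⟨Q₂, inferInstance⟩)
  exact h

end FibreOrder

section TheoremC

variable {R S : Type u} [CommRing R] [CommRing S] [Algebra R S]

theorem cm_fibre_congr (p : Ideal R) {q q' : Ideal S} [q.IsPrime] [q'.IsPrime] (h : q = q')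
    (H : LocCoh.IsCohenMacaulayLocalRing
      (Localization.AtPrime q ⧸ p.map (algebraMap R (Localization.AtPrime q)))) :
    LocCoh.IsCohenMacaulayLocalRing
      (Localization.AtPrime q' ⧸ p.map (algebraMap R (Localization.AtPrime q'))) := by
  subst h; exact H

theorem flat_localizedModule_congr {q q' : Ideal S} [q.IsPrime] [q'.IsPrime] (h : q = q')
    (H : Module.Flat R (LocalizedModule q.primeCompl S)) :
    Module.Flat R (LocalizedModule q'.primeCompl S) := by
  subst h; exact H

/-- **Theorem C.** For `R` Noetherian and `S` of finite type over `R`, the Cohen–Macaulay locus of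
`R → S` is open in `Spec S`. -/
theorem isOpen_fibCM [IsNoetherianRing R] [Algebra.FiniteType R S] :
    IsOpen {q : PrimeSpectrum S | FibCM (Localization.localRingHom (q.asIdeal.under R) q.asIdeal
      (algebraMap R S) rfl)} := by
  classical
  rw [isOpen_iff_forall_mem_open]
  intro q₀ hq₀
  set p := q₀.asIdeal.under R with hp
  obtain ⟨Q₀, hQ₀prime, hQ₀⟩ := exists_fiber_prime p q₀.asIdeal rfl
  have hflatOpen : IsOpen {Q : PrimeSpectrum S |
      Module.Flat R (LocalizedModule Q.asIdeal.primeCompl S)} :=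
    FlatLimOpen88.isOpen_flatLocus_of_noetherian
  let ι : S →ₐ[R] p.Fiber S := Algebra.TensorProduct.includeRight
  let U : Set (PrimeSpectrum (p.Fiber S)) := CMOpenFormal33.CMLocus (p.Fiber S) ∩
    PrimeSpectrum.comap ι.toRingHom ⁻¹' {Q : PrimeSpectrum S |
      Module.Flat R (LocalizedModule Q.asIdeal.primeCompl S)}
  have hUopen : IsOpen U :=
    (isOpen_CMLocus_of_finiteType_field p.ResidueField (p.Fiber S)).inter
      (hflatOpen.preimage (PrimeSpectrum.continuous_comap _))
  rw [Set.mem_ofPred_eq, fibCM_iff] at hq₀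
  have hQ₀U : (⟨Q₀, hQ₀prime⟩ : PrimeSpectrum (p.Fiber S)) ∈ U := by
    refine ⟨?_, ?_⟩
    · change LocCoh.IsCohenMacaulayLocalRing (Localization.AtPrime Q₀)
      rw [isCM_localization_fiber_iff p Q₀]
      have h2 := hq₀.2
      rw [map_localRingHom_maximalIdeal] at h2
      exact cm_fibre_congr p hQ₀.symm h2
    · change Module.Flat R (LocalizedModule (Q₀.comap ι.toRingHom).primeCompl S)
      have h1 := (flat_localRingHom_iff (P := R) q₀.asIdeal).mp hq₀.1
      exact flat_localizedModule_congr hQ₀.symm h1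
  have hJac : IsJacobsonRing (p.Fiber S) := isJacobsonRing_of_finiteType (A := p.ResidueField)
  obtain ⟨M, hM, hle, hMU⟩ := exists_maximal_mem_of_isOpen ⟨Q₀, hQ₀prime⟩ U hUopen hQ₀U
  have hMprime : M.IsPrime := hM.isPrime
  set q₁ : Ideal S := M.comap ι with hq₁
  have hq₁prime : q₁.IsPrime := Ideal.comap_isPrime _ _
  have hq₁p : q₁.under R = p := under_comap_includeRight p M
  have hq₀q₁ : q₀.asIdeal ≤ q₁ := by
    rw [← hQ₀]; exact Ideal.comap_mono hle
  -- `R → S` is Cohen–Macaulay at `q₁`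
  have hfib₁ : FibCM (Localization.localRingHom (q₁.under R) q₁ (algebraMap R S) rfl) := by
    rw [fibCM_iff]
    refine ⟨(flat_localRingHom_iff (P := R) q₁).mpr hMU.2, ?_⟩
    rw [map_localRingHom_maximalIdeal, hq₁p]
    exact (isCM_localization_fiber_iff p M).mp hMU.1
  -- `q₁` is closed in its fibre
  have hclosed : ∀ (q' : Ideal S) [q'.IsPrime], q₁ ≤ q' → q'.under R = q₁.under R → q' = q₁ := by
    intro q' _ hle' hunder
    obtain ⟨Q', hQ'prime, hQ'⟩ := exists_fiber_prime p q' (hunder.trans hq₁p)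
    have h1 : M ≤ Q' := by
      rw [← comap_includeRight_le_iff p M Q', hQ']
      exact hle'
    have h2 : M = Q' := hM.eq_of_le hQ'prime.ne_top h1
    rw [← hQ', ← h2]
  obtain ⟨d, t, hqf, hfl⟩ := exists_quasiFiniteAt_flat q₁ hfib₁ hclosed
  letI alg : Algebra (MvPolynomial (ULift.{u} (Fin d)) R) S :=
    (MvPolynomial.aeval t).toRingHom.toAlgebra
  have hst : IsScalarTower R (MvPolynomial (ULift.{u} (Fin d)) R) S :=
    IsScalarTower.of_algebraMap_eq (fun x => by
      change algebraMap R S x = MvPolynomial.aeval t (algebraMap R _ x)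
      rw [AlgHom.commutes])
  have hFT : Algebra.FiniteType (MvPolynomial (ULift.{u} (Fin d)) R) S :=
    Algebra.FiniteType.of_restrictScalars_finiteType R _ S
  obtain ⟨r, hr, hrqf⟩ :=
    exists_notMem_forall_quasiFiniteAt (R := MvPolynomial (ULift.{u} (Fin d)) R) q₁
  have hflatOpenP : IsOpen {Q : PrimeSpectrum S | Module.Flat (MvPolynomial (ULift.{u} (Fin d)) R)
      (LocalizedModule Q.asIdeal.primeCompl S)} :=
    FlatLimOpen88.isOpen_flatLocus_of_noetherian
  have hWopen : IsOpen ((PrimeSpectrum.basicOpen r : Set (PrimeSpectrum S)) ∩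
      {Q : PrimeSpectrum S | Module.Flat (MvPolynomial (ULift.{u} (Fin d)) R)
        (LocalizedModule Q.asIdeal.primeCompl S)}) :=
    (PrimeSpectrum.basicOpen r).isOpen.inter hflatOpenP
  refine ⟨_, ?_, hWopen, ?_⟩
  · rintro Q ⟨hQr, hQfl⟩
    have hQqf : Algebra.QuasiFiniteAt (MvPolynomial (ULift.{u} (Fin d)) R) Q.asIdeal :=
      hrqf Q.asIdeal hQr
    exact fibCM_of_quasiFiniteAt_of_flat (P := MvPolynomial (ULift.{u} (Fin d)) R)
      (fun r' _ => isCM_fibreLocalRing_mvPolynomial _ _ r' rfl) Q.asIdeal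
      ((flat_localRingHom_iff (P := MvPolynomial (ULift.{u} (Fin d)) R) Q.asIdeal).mpr hQfl)
  · have hq₁W : (⟨q₁, hq₁prime⟩ : PrimeSpectrum S) ∈
        (PrimeSpectrum.basicOpen r : Set (PrimeSpectrum S)) ∩
        {Q : PrimeSpectrum S | Module.Flat (MvPolynomial (ULift.{u} (Fin d)) R)
          (LocalizedModule Q.asIdeal.primeCompl S)} :=
      ⟨hr, (flat_localRingHom_iff (P := MvPolynomial (ULift.{u} (Fin d)) R) q₁).mp hfl⟩
    have hspec : q₀ ⤳ (⟨q₁, hq₁prime⟩ : PrimeSpectrum S) :=
      (PrimeSpectrum.le_iff_specializes _ _).mp hq₀q₁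
    exact hWopen.stableUnderGeneralization hspec hq₁W

end TheoremC

end Groth.Agent.Lib.CMQF33
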