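import Groth.Agent.Lib.FlatLimFP88
import Mathlib.RingTheory.Flat.Localization
import Mathlib.RingTheory.Localization.LocalizationLocalization
import Mathlib.RingTheory.FinitePresentation

/-!
# Local Noetherian flat models of flat finitely presented algebras

Namespace `Groth.Agent.Lib.FlatLocalModel`.  Built on helper88's `FlatLim*88` libraries.

* `exists_away_flat_of_noetherian` : `A` Noetherian, `C` of finite type over `A`, `Q` a prime of `C`
  with `C_Q` flat over `A`; then `C_g` is flat over `A` for some `g ∉ Q`.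
* `exists_local_flat_model` : `A → B` flat of finite presentation, `q` a prime of `B`; then there are
  `g ∉ q`, a finite type `ℤ`-algebra `A₁` with `A₁ → A`, and a flat finite type `A₁`-algebra `D₁`
  with `A ⊗[A₁] D₁ ≃ₐ[A] B_g`.
-/

set_option autoImplicit false
set_option maxHeartbeats 400000

namespace Groth.Agent.Lib.FlatLocalModel

open TensorProduct Function

universe u

section Away

variable {A : Type*} [CommRing A] {C : Type u} [CommRing C] [Algebra A C]

/-- if `C_Q` is flat over `A` for all primes `Q` of `C` not containing `g`, then `C_g` is flat over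
`A`. -/
theorem flat_away_of_forall (g : C)
    (h : ∀ (Q : Ideal C) [Q.IsPrime], g ∉ Q → Module.Flat A (LocalizedModule Q.primeCompl C)) :
    Module.Flat A (Localization.Away g) := by
  refine Module.flat_of_isLocalized_maximal (Localization.Away g) (Localization.Away g)
    (fun P _ => Localization.AtPrime P) (fun P _ => Algebra.linearMap _ _) ?_
  intro P hP
  set Q : Ideal C := P.comap (algebraMap C (Localization.Away g)) with hQ
  have hgQ : g ∉ Q := by
    intro hg
    have h1 : algebraMap C (Localization.Away g) g ∈ P := hg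
    exact hP.ne_top (Ideal.eq_top_of_isUnit_mem _ h1 (IsLocalization.Away.algebraMap_isUnit g))
  have hfl := h Q hgQ
  have hloc : IsLocalization.AtPrime (Localization.AtPrime P) Q :=
    IsLocalization.isLocalization_isLocalization_atPrime_isLocalization (Submonoid.powers g)
      (Localization.AtPrime P) P
  have hlm : IsLocalizedModule Q.primeCompl (Algebra.linearMap C (Localization.AtPrime P)) :=
    (isLocalizedModule_iff_isLocalization' _ _).mpr hloc
  let e : LocalizedModule Q.primeCompl C ≃ₗ[C] Localization.AtPrime P :=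
    IsLocalizedModule.iso Q.primeCompl (Algebra.linearMap C (Localization.AtPrime P))
  exact Module.Flat.of_linearEquiv (e.restrictScalars A).symm

/-- **Noetherian openness, ring form**: `A` Noetherian, `C` of finite type over `A`, `Q` a prime of
`C` with `C_Q` flat over `A`; then `C_g` is flat over `A` for some `g ∉ Q`. -/
theorem exists_away_flat_of_noetherian [IsNoetherianRing A] [Algebra.FiniteType A C]
    (Q : Ideal C) [Q.IsPrime] (h : Module.Flat A (LocalizedModule Q.primeCompl C)) :
    ∃ g, g ∉ Q ∧ Module.Flat A (Localization.Away g) := by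
  have hopen := Groth.Agent.Lib.FlatLimOpen88.isOpen_flatLocus_of_noetherian
    (A := A) (C := C) (X := C)
  let Q₀ : PrimeSpectrum C := ⟨Q, inferInstance⟩
  have hQ₀ : Q₀ ∈ {Q : PrimeSpectrum C |
      Module.Flat A (LocalizedModule Q.asIdeal.primeCompl C)} := h
  obtain ⟨_, ⟨g, rfl⟩, hg, hsub⟩ :=
    PrimeSpectrum.isTopologicalBasis_basic_opens.exists_subset_of_mem_open hQ₀ hopen
  refine ⟨g, hg, flat_away_of_forall g ?_⟩
  intro Q' _ hQ'
  exact hsub (show (⟨Q', inferInstance⟩ : PrimeSpectrum C) ∈ (PrimeSpectrum.basicOpen g : Set _)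
    from hQ')

end Away

section Self

/-- a copy of `S`, viewed as a module over `S` (used to select helper88's stage module structure
without instance ambiguity) -/
def Self (S : Type*) : Type _ := S

variable (k : Type*) [CommRing k] (S : Type*) [CommRing S] [Algebra k S]

instance : AddCommGroup (Self S) := inferInstanceAs (AddCommGroup S)
instance : Module S (Self S) := inferInstanceAs (Module S S)
instance : Module k (Self S) := inferInstanceAs (Module k S)
instance : IsScalarTower k S (Self S) := inferInstanceAs (IsScalarTower k S S)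
instance : Module.Finite S (Self S) := inferInstanceAs (Module.Finite S S)

open scoped Groth.Agent.Lib.FlatLimStage88

variable (R : Type*) [CommRing R] [Algebra k R]

/-- the identity `R ⊗ S ≃ R ⊗ Self S` -/
def toSelf : R ⊗[k] S ≃ₗ[R] R ⊗[k] Self S := LinearEquiv.refl _ _

lemma toSelf_tmul (r : R) (s : S) : toSelf k S R (r ⊗ₜ[k] s) = r ⊗ₜ[k] (show Self S from s) := rfl

lemma toSelf_mul (c x : R ⊗[k] S) : toSelf k S R (c * x) = c • toSelf k S R x := by
  induction c with
  | zero => simp
  | add c₁ c₂ h₁ h₂ => simp only [add_mul, map_add, add_smul, h₁, h₂]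
  | tmul a s =>
    induction x with
    | zero => simp
    | add x₁ x₂ h₁ h₂ => simp only [mul_add, map_add, smul_add, h₁, h₂]
    | tmul a' s' =>
      rw [Algebra.TensorProduct.tmul_mul_tmul, toSelf_tmul, toSelf_tmul,
        Groth.Agent.Lib.FlatLimStage88.tmul_smul_tmul]
      rfl

end Self

end Groth.Agent.Lib.FlatLocalModel

namespace Groth.Agent.Lib.FlatLocalModel

open TensorProduct Function Groth.Agent.Lib.FlatLimStage88 Groth.Agent.Lib.FlatLimCore88
  Groth.Agent.Lib.FlatLimOpenBC88 Groth.Agent.Lib.FlatLimFP88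
open scoped Groth.Agent.Lib.FlatLimStage88

universe u

section M1

variable {k : Type u} [CommRing k] [IsNoetherianRing k]
  {S₀ : Type u} [CommRing S₀] [Algebra k S₀] [Algebra.FiniteType k S₀]
  {R : Type u} [CommRing R] [Algebra k R]

theorem exists_stage_away_flat [Module.Flat R (R ⊗[k] S₀)] (q : Ideal (R ⊗[k] S₀)) [q.IsPrime] :
    ∃ A₁ : Subalgebra k R, A₁.FG ∧ ∃ g₁ : A₁ ⊗[k] S₀, sMap A₁.val S₀ g₁ ∉ q ∧
      Module.Flat A₁ (Localization.Away g₁) := by
  have hflS : Module.Flat R (R ⊗[k] Self S₀) :=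
    Module.Flat.of_linearEquiv (toSelf k S₀ R).symm
  have hfl1 : Module.Flat R (LocalizedModule q.primeCompl (R ⊗[k] Self S₀)) :=
    Groth.Agent.Lib.H77GenFlatAlg.flat_of_isLocalizedModule R (M := R ⊗[k] Self S₀)
      (N := LocalizedModule q.primeCompl (R ⊗[k] Self S₀)) q.primeCompl
      (LocalizedModule.mkLinearMap q.primeCompl (R ⊗[k] Self S₀))
  obtain ⟨A₁, hA₁, hst⟩ := exists_fg_flat_stage (k := k) (S := S₀) (M := Self S₀) (R := R) q
  have hst1 := hst A₁ le_rfl hA₁
  have h1 : Algebra.FiniteType k A₁ := (Subalgebra.fg_iff_finiteType A₁).mp hA₁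
  have h2 : IsNoetherianRing A₁ := Algebra.FiniteType.isNoetherianRing k A₁
  have hst2 : Module.Flat A₁ (LocalizedModule (q.comap (sMap A₁.val S₀)).primeCompl
      (A₁ ⊗[k] S₀)) := by
    refine flat_transport (RingEquiv.refl (A₁ ⊗[k] S₀)) (toSelf k S₀ A₁).symm ?_
      (q.comap (sMap A₁.val S₀)) (q.comap (sMap A₁.val S₀)) ?_ hst1
    · intro c x
      apply (toSelf k S₀ A₁).injective
      rw [LinearEquiv.apply_symm_apply]
      show _ = toSelf k S₀ A₁ (c * _)
      rw [toSelf_mul, LinearEquiv.apply_symm_apply]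
    · ext x
      simp
  obtain ⟨g₁, hg₁, hflg⟩ := exists_away_flat_of_noetherian (A := A₁) (C := A₁ ⊗[k] S₀)
    (q.comap (sMap A₁.val S₀)) hst2
  exact ⟨A₁, hA₁, g₁, hg₁, hflg⟩

end M1

end Groth.Agent.Lib.FlatLocalModel

namespace Groth.Agent.Lib.FlatLocalModel

open TensorProduct Function

universe u

section M2

variable (R₁ R C₁ B : Type u) [CommRing R₁] [CommRing R] [CommRing C₁] [CommRing B]
  [Algebra R₁ R] [Algebra R₁ C₁] [Algebra R B]

theorem nonempty_tensor_away_equiv (E : R ⊗[R₁] C₁ ≃ₐ[R] B) (g₁ : C₁) :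
    Nonempty (R ⊗[R₁] Localization.Away g₁ ≃ₐ[R] Localization.Away (E (1 ⊗ₜ[R₁] g₁))) := by
  let T := Localization.Away (E (1 ⊗ₜ[R₁] g₁))
  let _ : Algebra (R ⊗[R₁] C₁) T := ((algebraMap B T).comp E.toRingEquiv.toRingHom).toAlgebra
  have hst : IsScalarTower R (R ⊗[R₁] C₁) T := by
    refine IsScalarTower.of_algebraMap_eq fun r => ?_
    show _ = algebraMap B T (E (algebraMap R _ r))
    rw [E.commutes, ← IsScalarTower.algebraMap_apply]
  have hloc : IsLocalization ((Submonoid.powers g₁).map
      (Algebra.TensorProduct.includeRight (R := R₁) (A := R))) T := by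
    refine IsLocalization.of_ringEquiv_left (K := T) E.toRingEquiv
      (M₁ := Submonoid.powers (E (1 ⊗ₜ[R₁] g₁))) ?_ (fun x => rfl)
    rw [Submonoid.map_powers, Submonoid.map_powers]
    rfl
  exact ⟨IsLocalization.tensorProductEquivOfMapIncludeRight R₁ R (Submonoid.powers g₁)
    (Localization.Away g₁) T⟩

end M2

end Groth.Agent.Lib.FlatLocalModel

namespace Groth.Agent.Lib.FlatLocalModel

open TensorProduct Function Groth.Agent.Lib.FlatLimStage88 Groth.Agent.Lib.FlatLimOpenBC88

universe u

section Main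

variable (A B : Type u) [CommRing A] [CommRing B] [Algebra A B]

/-- model form -/
theorem exists_local_flat_model_of_model {k S₀ : Type u} [CommRing k] [Algebra.FiniteType ℤ k]
    [CommRing S₀] [Algebra k S₀] [Algebra.FiniteType k S₀] [Algebra k A]
    (e₀ : A ⊗[k] S₀ ≃ₐ[A] B) [Module.Flat A B] (q : Ideal B) [q.IsPrime] :
    ∃ g, g ∉ q ∧ ∃ (A₁ D₁ : Type u) (_ : CommRing A₁) (_ : CommRing D₁) (_ : Algebra A₁ A)
      (_ : Algebra A₁ D₁), Algebra.FiniteType ℤ A₁ ∧ Algebra.FiniteType A₁ D₁ ∧
        Module.Flat A₁ D₁ ∧ Nonempty (A ⊗[A₁] D₁ ≃ₐ[A] Localization.Away g) := by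
  have hkN : IsNoetherianRing k := Algebra.FiniteType.isNoetherianRing ℤ k
  have hfl0 : Module.Flat A (A ⊗[k] S₀) := Module.Flat.of_linearEquiv e₀.toLinearEquiv
  obtain ⟨A₁, hA₁, g₁, hg₁, hfl⟩ := exists_stage_away_flat (k := k) (S₀ := S₀) (R := A)
    (q.comap (e₀ : A ⊗[k] S₀ →+* B))
  have h1 : Algebra.FiniteType k A₁ := (Subalgebra.fg_iff_finiteType A₁).mp hA₁
  have h2 : Algebra.FiniteType ℤ A₁ := Algebra.FiniteType.trans (S := k) inferInstance inferInstance
  let E : A ⊗[A₁] (A₁ ⊗[k] S₀) ≃ₐ[A] B :=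
    (Algebra.TensorProduct.cancelBaseChange k A₁ A A S₀).trans e₀
  have hE : E (1 ⊗ₜ[A₁] g₁) = e₀ (sMap A₁.val S₀ g₁) := by
    show e₀ (Algebra.TensorProduct.cancelBaseChange k A₁ A A S₀ (1 ⊗ₜ[A₁] g₁)) = _
    rw [cancelBaseChange_one_tmul]
  refine ⟨E (1 ⊗ₜ[A₁] g₁), ?_, A₁, Localization.Away g₁, inferInstance, inferInstance,
    inferInstance, inferInstance, h2, ?_, hfl, nonempty_tensor_away_equiv A₁ A (A₁ ⊗[k] S₀) B E g₁⟩
  · rw [hE]
    exact hg₁
  · have : Algebra.FiniteType A₁ (A₁ ⊗[k] S₀) := inferInstance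
    have : Algebra.FiniteType (A₁ ⊗[k] S₀) (Localization.Away g₁) :=
      Algebra.FiniteType.of_finitePresentation
    exact Algebra.FiniteType.trans (S := A₁ ⊗[k] S₀) inferInstance inferInstance

/-- **Local Noetherian flat model**: `A → B` flat of finite presentation, `q` a prime of `B`. -/
theorem exists_local_flat_model [Module.Flat A B] [Algebra.FinitePresentation A B]
    (q : Ideal B) [q.IsPrime] :
    ∃ g, g ∉ q ∧ ∃ (A₁ D₁ : Type u) (_ : CommRing A₁) (_ : CommRing D₁) (_ : Algebra A₁ A)
      (_ : Algebra A₁ D₁), Algebra.FiniteType ℤ A₁ ∧ Algebra.FiniteType A₁ D₁ ∧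
        Module.Flat A₁ D₁ ∧ Nonempty (A ⊗[A₁] D₁ ≃ₐ[A] Localization.Away g) := by
  classical
  let P := Algebra.Presentation.ofFinitePresentation A B
  have hft : Algebra.FiniteType P.Core (P.ModelOfHasCoeffs P.Core) :=
    Algebra.FiniteType.of_finitePresentation
  exact exists_local_flat_model_of_model A B (k := P.Core) (S₀ := P.ModelOfHasCoeffs P.Core)
    (P.tensorModelOfHasCoeffsEquiv P.Core) q

end Main

end Groth.Agent.Lib.FlatLocalModel
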