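import Groth.Agent.Lib.CMQF33f
import Groth.Agent.Lib.FlatLocalModel
import Groth.Agent.S1342
import Groth.Agent.S0386
import Mathlib

/-!
# Openness of the Cohen–Macaulay locus of a morphism locally of finite presentation (helper33)
-/

set_option autoImplicit false
universe u

open IsLocalRing Groth.Agent.Lib TensorProduct CategoryTheory AlgebraicGeometry

namespace Groth.Agent.Lib.CMQF33

section Locality

/-- `IsCMAt` is invariant under open immersions on both sides. -/
theorem isCMAt_iff_of_comm {X Y X' Y' : Scheme.{u}} (f : X ⟶ Y) (f' : X' ⟶ Y') (a : X ⟶ X')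
    (b : Y ⟶ Y') [IsOpenImmersion a] [IsOpenImmersion b] (w : f ≫ b = a ≫ f') (x : X) :
    MoreMor.IsCMAt f x ↔ MoreMor.IsCMAt f' (a x) := by
  rw [← isCMAt_comp_openImmersion_right f b x, w, isCMAt_comp_openImmersion_left]

/-- Openness of the CM locus pulls back along such squares. -/
theorem isOpen_CMLocus_of_comm {X Y X' Y' : Scheme.{u}} (f : X ⟶ Y) (f' : X' ⟶ Y') (a : X ⟶ X')
    (b : Y ⟶ Y') [IsOpenImmersion a] [IsOpenImmersion b] (w : f ≫ b = a ≫ f')
    (h : IsOpen {x' : X' | MoreMor.IsCMAt f' x'}) : IsOpen {x : X | MoreMor.IsCMAt f x} := by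
  have : {x : X | MoreMor.IsCMAt f x} = a ⁻¹' {x' : X' | MoreMor.IsCMAt f' x'} := by
    ext x
    exact isCMAt_iff_of_comm f f' a b w x
  rw [this]
  exact h.preimage a.continuous

/-- Openness of the CM locus can be checked locally on the source and target. -/
theorem isOpen_CMLocus_of_local {X' Y' : Scheme.{u}} (f' : X' ⟶ Y')
    (H : ∀ x' : X', MoreMor.IsCMAt f' x' → ∃ (X Y : Scheme.{u}) (f : X ⟶ Y) (a : X ⟶ X')
      (b : Y ⟶ Y') (_ : IsOpenImmersion a) (_ : IsOpenImmersion b), f ≫ b = a ≫ f' ∧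
      x' ∈ Set.range a ∧ IsOpen {x : X | MoreMor.IsCMAt f x}) :
    IsOpen {x' : X' | MoreMor.IsCMAt f' x'} := by
  rw [isOpen_iff_forall_mem_open]
  intro x' hx'
  obtain ⟨X, Y, f, a, b, ha, hb, w, hxa, hopen⟩ := H x' hx'
  refine ⟨a '' {x : X | MoreMor.IsCMAt f x}, ?_, a.isOpenEmbedding.isOpenMap _ hopen, ?_⟩
  · rintro _ ⟨x, hx, rfl⟩
    exact (isCMAt_iff_of_comm f f' a b w x).mp hx
  · obtain ⟨x, rfl⟩ := hxa
    exact ⟨x, (isCMAt_iff_of_comm f f' a b w x).mpr hx', rfl⟩

end Locality

section SpecLevel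

/-- Theorem C for `Spec`: Noetherian base, finite type. -/
theorem isOpen_CMLocus_Spec_of_noetherian (A D : Type u) [CommRing A] [CommRing D] [Algebra A D]
    [IsNoetherianRing A] [Algebra.FiniteType A D] :
    IsOpen {q : Spec (.of D) | MoreMor.IsCMAt (Spec.map (CommRingCat.ofHom (algebraMap A D))) q} := by
  have h := isOpen_fibCM (R := A) (S := D)
  have e : {q : Spec (.of D) | MoreMor.IsCMAt (Spec.map (CommRingCat.ofHom (algebraMap A D))) q} =
      {q : PrimeSpectrum D | FibCM (Localization.localRingHom (q.asIdeal.under A) q.asIdeal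
      (algebraMap A D) rfl)} := by
    ext q
    exact isCMAt_Spec_iff (CommRingCat.ofHom (algebraMap A D)) q
  rw [e]
  exact h

/-- The CM locus of a flat finitely presented morphism of affine schemes is open. -/
theorem isOpen_CMLocus_Spec_of_flat (A B : Type u) [CommRing A] [CommRing B] [Algebra A B]
    [Module.Flat A B] [Algebra.FinitePresentation A B] :
    IsOpen {q : Spec (.of B) | MoreMor.IsCMAt (Spec.map (CommRingCat.ofHom (algebraMap A B))) q} := by
  apply isOpen_CMLocus_of_local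
  intro q hq
  obtain ⟨g, hg, A₁, D₁, _, _, _, _, hA₁, hD₁, hfl, ⟨E⟩⟩ :=
    FlatLocalModel.exists_local_flat_model A B q.asIdeal
  have hN : IsNoetherianRing A₁ := Algebra.FiniteType.isNoetherianRing ℤ A₁
  let a : Spec (.of (A ⊗[A₁] D₁)) ⟶ Spec (.of B) :=
    Spec.map (E.symm.toRingEquiv.toCommRingCatIso).hom ≫
      Spec.map (CommRingCat.ofHom (algebraMap B (Localization.Away g)))
  refine ⟨Spec (.of (A ⊗[A₁] D₁)), Spec (.of A),
    Spec.map (CommRingCat.ofHom (algebraMap A (A ⊗[A₁] D₁))), a, 𝟙 _, inferInstance, inferInstance,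
    ?_, ?_, ?_⟩
  · rw [Category.comp_id]
    simp only [a, Category.assoc, ← Spec.map_comp]
    congr 1
    ext x
    change algebraMap A (A ⊗[A₁] D₁) x =
      E.symm (algebraMap B (Localization.Away g) (algebraMap A B x))
    rw [← IsScalarTower.algebraMap_apply A B (Localization.Away g), AlgEquiv.commutes]
  · have hq' : q ∈ Set.range (Spec.map (CommRingCat.ofHom (algebraMap B (Localization.Away g)))) := by
      have h1 := PrimeSpectrum.localization_away_comap_range (Localization.Away g) g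
      have h2 : q ∈ (PrimeSpectrum.basicOpen g : Set (PrimeSpectrum B)) := hg
      rw [← h1] at h2
      exact h2
    obtain ⟨y, hy⟩ := hq'
    obtain ⟨z, rfl⟩ := (Spec.map (E.symm.toRingEquiv.toCommRingCatIso).hom).surjective y
    exact ⟨z, by rw [← hy]; rfl⟩
  · have hpo := CommRingCat.isPushout_tensorProduct A₁ A D₁
    have hpb := (isPullback_SpecMap_of_isPushout _ _ _ _ hpo).flip
    have hfp : Algebra.FinitePresentation A₁ D₁ := Algebra.FinitePresentation.of_finiteType.mp hD₁
    have hflat : Flat (Spec.map (CommRingCat.ofHom (algebraMap A₁ D₁))) := by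
      rw [HasRingHomProperty.Spec_iff (P := @Flat)]
      exact RingHom.flat_algebraMap_iff.mpr hfl
    have hlfp : LocallyOfFinitePresentation (Spec.map (CommRingCat.ofHom (algebraMap A₁ D₁))) := by
      rw [HasRingHomProperty.Spec_iff (P := @LocallyOfFinitePresentation)]
      exact RingHom.finitePresentation_algebraMap.mpr hfp
    have key := Groth.Agent.S1342.result (Spec.map (CommRingCat.ofHom (algebraMap A₁ D₁))) _ _ _ hpb
    have hopen := (isOpen_CMLocus_Spec_of_noetherian A₁ D₁).preimage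
      (Spec.map (CommRingCat.ofHom (S := A ⊗[A₁] D₁)
        (Algebra.TensorProduct.includeRight : D₁ →ₐ[A₁] A ⊗[A₁] D₁).toRingHom)).continuous
    rw [← key] at hopen
    exact hopen

end SpecLevel

section General

/-- The CM locus of a flat finitely presented morphism of affine schemes is open. -/
theorem isOpen_CMLocus_of_isAffine {X Y : Scheme.{u}} [IsAffine X] [IsAffine Y] (f : X ⟶ Y)
    [Flat f] [LocallyOfFinitePresentation f] : IsOpen {x : X | MoreMor.IsCMAt f x} := by
  refine isOpen_CMLocus_of_comm f (Spec.map f.appTop) X.isoSpec.hom Y.isoSpec.hom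
    (Scheme.isoSpec_hom_naturality f).symm ?_
  algebraize [f.appTop.hom]
  have h1 : Module.Flat Γ(Y, ⊤) Γ(X, ⊤) :=
    (HasRingHomProperty.iff_of_isAffine (P := @Flat)).mp inferInstance
  have h2 : Algebra.FinitePresentation Γ(Y, ⊤) Γ(X, ⊤) :=
    (HasRingHomProperty.iff_of_isAffine (P := @LocallyOfFinitePresentation)).mp inferInstance
  exact isOpen_CMLocus_Spec_of_flat Γ(Y, ⊤) Γ(X, ⊤)

/-- **The CM locus of a flat morphism locally of finite presentation is open.** -/
theorem isOpen_CMLocus_of_flat {X Y : Scheme.{u}} (f : X ⟶ Y) [Flat f]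
    [LocallyOfFinitePresentation f] : IsOpen {x : X | MoreMor.IsCMAt f x} := by
  apply isOpen_CMLocus_of_local
  intro x hx
  obtain ⟨_, ⟨U, hU, rfl⟩, hxU, -⟩ :=
    Y.isBasis_affineOpens.exists_subset_of_mem_open (Set.mem_univ (f x)) isOpen_univ
  obtain ⟨_, ⟨V, hV, rfl⟩, hxV, hVU⟩ :=
    X.isBasis_affineOpens.exists_subset_of_mem_open hxU (U.2.preimage f.continuous)
  replace hVU : V ≤ f ⁻¹ᵁ U := hVU
  have hVaff : IsAffine (V : Scheme.{u}) := hV
  have hUaff : IsAffine (U : Scheme.{u}) := hU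
  exact ⟨V, U, f.resLE U V hVU, Scheme.Opens.ι V, Scheme.Opens.ι U, inferInstance, inferInstance,
    f.resLE_comp_ι _, ⟨⟨x, hxV⟩, rfl⟩, isOpen_CMLocus_of_isAffine (f.resLE U V hVU)⟩

end General

section LFP

/-- **The CM locus of a morphism locally of finite presentation is open.** -/
theorem isOpen_CMLocus {X Y : Scheme.{u}} (f : X ⟶ Y) [LocallyOfFinitePresentation f] :
    IsOpen {x : X | MoreMor.IsCMAt f x} := by
  apply isOpen_CMLocus_of_local
  intro x hx
  let W : X.Opens := ⟨{x : X | (f.stalkMap x).hom.Flat}, Groth.Agent.S0386.result f⟩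
  have hflat : Flat (Scheme.Opens.ι W ≫ f) := by
    apply Flat.of_stalkMap
    intro w
    have e : (Scheme.Opens.ι W ≫ f).stalkMap w =
        f.stalkMap (Scheme.Opens.ι W w) ≫ (Scheme.Opens.ι W).stalkMap w :=
      Scheme.Hom.stalkMap_comp _ f w
    rw [e]
    exact (RingHom.Flat.respectsIso.cancel_right_isIso (f.stalkMap _)
      ((Scheme.Opens.ι W).stalkMap w)).mpr w.2
  refine ⟨W, Y, Scheme.Opens.ι W ≫ f, Scheme.Opens.ι W, 𝟙 Y, inferInstance, inferInstance,
    Category.comp_id _, ⟨⟨x, hx.1⟩, rfl⟩, isOpen_CMLocus_of_flat _⟩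

end LFP

end Groth.Agent.Lib.CMQF33
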