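import Groth.Agent.Lib.CMQF33g
import Mathlib

/-!
# Density of the Cohen–Macaulay locus in the fibres of a flat morphism (helper33)
-/

set_option autoImplicit false
universe u

open IsLocalRing Groth.Agent.Lib TensorProduct CategoryTheory AlgebraicGeometry

namespace Groth.Agent.Lib.CMQF33

section RingLevel

/-- Every prime `q` of a flat finite type algebra has a generization in the same fibre at which the
algebra is Cohen–Macaulay (a generic point of the fibre). -/
theorem exists_le_fibCM {R S : Type u} [CommRing R] [CommRing S] [Algebra R S]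
    [Algebra.FiniteType R S] [Module.Flat R S] (q : Ideal S) [q.IsPrime] :
    ∃ (q' : Ideal S) (_ : q'.IsPrime), q' ≤ q ∧ q'.under R = q.under R ∧
      FibCM (Localization.localRingHom (q'.under R) q' (algebraMap R S) rfl) := by
  set p := q.under R with hp
  set I := p.map (algebraMap R S) with hI
  have hIq : I ≤ q := by rw [hI, Ideal.map_le_iff_le_comap]
  obtain ⟨q', hq'min, hq'le⟩ := Ideal.exists_minimalPrimes_le hIq
  have hq'prime : q'.IsPrime := hq'min.1.1
  have hIq' : I ≤ q' := hq'min.1.2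
  have hunder : q'.under R = p := by
    apply le_antisymm
    · exact Ideal.comap_mono hq'le
    · rw [Ideal.under_def, ← Ideal.map_le_iff_le_comap]; exact hIq'
  refine ⟨q', hq'prime, hq'le, hunder, ?_⟩
  rw [fibCM_iff]
  refine ⟨RingHom.Flat.localRingHom (RingHom.flat_algebraMap_iff.mpr inferInstance) q' _ rfl, ?_⟩
  rw [map_localRingHom_maximalIdeal, hunder]
  have hN := isNoetherianRing_fibreLocalRing p q' hunder
  have hdim := ringKrullDim_fibreLocalRing p q' hunder
  have hprime := isPrime_map_mk p q' hunder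
  have hmin : q'.map (Ideal.Quotient.mk I) ∈ minimalPrimes (S ⧸ I) := by
    have := Ideal.minimalPrimes_map_of_surjective (f := Ideal.Quotient.mk I)
      Ideal.Quotient.mk_surjective I
    rw [Ideal.map_quotient_self, Ideal.mk_ker, sup_idem] at this
    change q'.map (Ideal.Quotient.mk I) ∈ (⊥ : Ideal (S ⧸ I)).minimalPrimes
    rw [this]
    exact ⟨q', hq'min, rfl⟩
  have h0 : (q'.map (Ideal.Quotient.mk I)).height = 0 := Ideal.height_eq_zero_iff.mpr hmin
  rw [h0] at hdim
  have hnt : Nontrivial (Localization.AtPrime q' ⧸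
      p.map (algebraMap R (Localization.AtPrime q'))) := by
    by_contra hne
    rw [not_nontrivial_iff_subsingleton] at hne
    have h1 := ringKrullDim_eq_bot_of_subsingleton (R := Localization.AtPrime q' ⧸
      p.map (algebraMap R (Localization.AtPrime q')))
    rw [hdim] at h1
    exact absurd h1 (by decide)
  have hloc : IsLocalRing (Localization.AtPrime q' ⧸
      p.map (algebraMap R (Localization.AtPrime q'))) :=
    IsLocalRing.of_surjective' (Ideal.Quotient.mk _) Ideal.Quotient.mk_surjective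
  have hK : Ring.KrullDimLE 0 (Localization.AtPrime q' ⧸
      p.map (algebraMap R (Localization.AtPrime q'))) :=
    Ring.krullDimLE_iff.mpr (le_of_eq hdim)
  exact CMFieldExt33.isCohenMacaulayLocalRing_of_krullDimLE_zero _

end RingLevel

section SchemeLevel

/-- Every point has a generization in its fibre at which `f` is Cohen–Macaulay. -/
def GenCM {X Y : Scheme.{u}} (f : X ⟶ Y) : Prop :=
  ∀ x : X, ∃ x' : X, x' ⤳ x ∧ f x' = f x ∧ MoreMor.IsCMAt f x'

theorem GenCM.of_comm {X Y X' Y' : Scheme.{u}} (f : X ⟶ Y) (f' : X' ⟶ Y') (a : X ⟶ X')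
    (b : Y ⟶ Y') [IsOpenImmersion a] [IsOpenImmersion b] (w : f ≫ b = a ≫ f')
    (h : GenCM f') : GenCM f := by
  intro x
  obtain ⟨x'', hspec, hfx, hcm⟩ := h (a x)
  have hmem : x'' ∈ Set.range a :=
    a.isOpenEmbedding.isOpen_range.stableUnderGeneralization hspec ⟨x, rfl⟩
  obtain ⟨x', rfl⟩ := hmem
  refine ⟨x', a.isOpenEmbedding.isInducing.specializes_iff.mp hspec, ?_,
    (isCMAt_iff_of_comm f f' a b w x').mpr hcm⟩
  apply b.isOpenEmbedding.injective
  have h1 : b (f x') = f' (a x') := by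
    rw [← Scheme.Hom.comp_apply, w, Scheme.Hom.comp_apply]
  have h2 : b (f x) = f' (a x) := by
    rw [← Scheme.Hom.comp_apply, w, Scheme.Hom.comp_apply]
  rw [h1, h2, hfx]

theorem GenCM.of_local {X' Y' : Scheme.{u}} (f' : X' ⟶ Y')
    (H : ∀ x' : X', ∃ (X Y : Scheme.{u}) (f : X ⟶ Y) (a : X ⟶ X')
      (b : Y ⟶ Y') (_ : IsOpenImmersion a) (_ : IsOpenImmersion b), f ≫ b = a ≫ f' ∧
      x' ∈ Set.range a ∧ GenCM f) : GenCM f' := by
  intro x'
  obtain ⟨X, Y, f, a, b, ha, hb, w, ⟨x, rfl⟩, h⟩ := H x'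
  obtain ⟨x₁, hspec, hfx, hcm⟩ := h x
  refine ⟨a x₁, hspec.map a.continuous, ?_, (isCMAt_iff_of_comm f f' a b w x₁).mp hcm⟩
  have h1 : f' (a x₁) = b (f x₁) := by
    rw [← Scheme.Hom.comp_apply, ← w, Scheme.Hom.comp_apply]
  have h2 : f' (a x) = b (f x) := by
    rw [← Scheme.Hom.comp_apply, ← w, Scheme.Hom.comp_apply]
  rw [h1, h2, hfx]

theorem genCM_Spec (A B : Type u) [CommRing A] [CommRing B] [Algebra A B]
    [Module.Flat A B] [Algebra.FiniteType A B] :
    GenCM (Spec.map (CommRingCat.ofHom (algebraMap A B))) := by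
  intro q
  obtain ⟨q', hq'prime, hle, hunder, hcm⟩ := exists_le_fibCM (R := A) (S := B) q.asIdeal
  refine ⟨⟨q', hq'prime⟩, (PrimeSpectrum.le_iff_specializes _ _).mp hle, PrimeSpectrum.ext hunder,
    (isCMAt_Spec_iff (CommRingCat.ofHom (algebraMap A B)) ⟨q', hq'prime⟩).mpr hcm⟩

theorem genCM_of_isAffine {X Y : Scheme.{u}} [IsAffine X] [IsAffine Y] (f : X ⟶ Y)
    [Flat f] [LocallyOfFiniteType f] : GenCM f := by
  refine GenCM.of_comm f (Spec.map f.appTop) X.isoSpec.hom Y.isoSpec.hom
    (Scheme.isoSpec_hom_naturality f).symm ?_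
  algebraize [f.appTop.hom]
  have h1 : Module.Flat Γ(Y, ⊤) Γ(X, ⊤) :=
    (HasRingHomProperty.iff_of_isAffine (P := @Flat)).mp inferInstance
  have h2 : Algebra.FiniteType Γ(Y, ⊤) Γ(X, ⊤) :=
    (HasRingHomProperty.iff_of_isAffine (P := @LocallyOfFiniteType)).mp inferInstance
  exact genCM_Spec Γ(Y, ⊤) Γ(X, ⊤)

/-- For a flat morphism locally of finite type, every point has a generization in its fibre at
which `f` is Cohen–Macaulay. -/
theorem genCM_of_flat {X Y : Scheme.{u}} (f : X ⟶ Y) [Flat f] [LocallyOfFiniteType f] :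
    GenCM f := by
  apply GenCM.of_local
  intro x
  obtain ⟨_, ⟨U, hU, rfl⟩, hxU, -⟩ :=
    Y.isBasis_affineOpens.exists_subset_of_mem_open (Set.mem_univ (f x)) isOpen_univ
  obtain ⟨_, ⟨V, hV, rfl⟩, hxV, hVU⟩ :=
    X.isBasis_affineOpens.exists_subset_of_mem_open hxU (U.2.preimage f.continuous)
  replace hVU : V ≤ f ⁻¹ᵁ U := hVU
  have hVaff : IsAffine (V : Scheme.{u}) := hV
  have hUaff : IsAffine (U : Scheme.{u}) := hU
  exact ⟨V, U, f.resLE U V hVU, Scheme.Opens.ι V, Scheme.Opens.ι U, inferInstance, inferInstance,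
    f.resLE_comp_ι _, ⟨⟨x, hxV⟩, rfl⟩, genCM_of_isAffine (f.resLE U V hVU)⟩

end SchemeLevel

section Density

/-- For a flat morphism locally of finite type, the Cohen–Macaulay locus is dense in every fibre. -/
theorem dense_CMLocus_fiber {X Y : Scheme.{u}} (f : X ⟶ Y) [Flat f] [LocallyOfFiniteType f]
    (s : Y) : Dense ((f.fiberι s) ⁻¹' {x : X | MoreMor.IsCMAt f x}) := by
  rw [dense_iff_inter_open]
  rintro N hN ⟨z, hz⟩
  obtain ⟨x', hspec, hfx, hcm⟩ := genCM_of_flat f (f.fiberι s z)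
  have hzs : f (f.fiberι s z) = s := by
    have : f.fiberι s z ∈ Set.range (f.fiberι s) := ⟨z, rfl⟩
    rw [f.range_fiberι s] at this
    exact this
  have hx's : x' ∈ Set.range (f.fiberι s) := by
    rw [f.range_fiberι s]
    exact hfx.trans hzs
  obtain ⟨z', rfl⟩ := hx's
  have hspec' : z' ⤳ z := (f.fiberι s).isEmbedding.isInducing.specializes_iff.mp hspec
  exact ⟨z', hN.stableUnderGeneralization hspec' hz, hcm⟩

end Density

end Groth.Agent.Lib.CMQF33
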