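import Groth.Agent.Lib.CMQF33h
import Mathlib

/-!
# Quasi-finite flat charts of a Cohen–Macaulay morphism: ring level (helper33)
-/

set_option autoImplicit false
universe u

open IsLocalRing Groth.Agent.Lib TensorProduct

namespace Groth.Agent.Lib.CMQF33

section QF

/-- Localizing a quasi-finite localization further stays quasi-finite. -/
theorem quasiFinite_away_mul {R S : Type*} [CommRing R] [CommRing S] [Algebra R S] (r₁ r₂ : S)
    [Algebra.QuasiFinite R (Localization.Away r₁)] :
    Algebra.QuasiFinite R (Localization.Away (r₁ * r₂)) := by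
  have hunit : IsUnit (algebraMap S (Localization.Away (r₁ * r₂)) r₁) := by
    have h := IsLocalization.Away.algebraMap_isUnit (S := Localization.Away (r₁ * r₂)) (r₁ * r₂)
    rw [map_mul] at h
    exact isUnit_of_mul_isUnit_left h
  let f : Localization.Away r₁ →ₐ[S] Localization.Away (r₁ * r₂) :=
    IsLocalization.Away.liftAlgHom r₁ (f := Algebra.ofId _ _) hunit
  refine .of_forall_exists_mul_mem_range (f.restrictScalars R) fun x ↦ ?_
  obtain ⟨x, ⟨s, hs⟩, rfl⟩ := IsLocalization.exists_mk'_eq (Submonoid.powers (r₁ * r₂)) x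
  exact ⟨algebraMap _ _ s, by simpa using IsLocalization.map_units _ ⟨s, hs⟩,
    algebraMap _ _ x, by simp⟩

/-- Around a quasi-finite point, a basic open is quasi-finite. -/
theorem exists_away_quasiFinite {R S : Type*} [CommRing R] [CommRing S] [Algebra R S]
    [Algebra.FiniteType R S] (p : Ideal S) [p.IsPrime] [Algebra.QuasiFiniteAt R p] :
    ∃ r : S, r ∉ p ∧ Algebra.QuasiFinite R (Localization.Away r) := by
  obtain ⟨S', hS', r, hrp, H⟩ :=
    Algebra.QuasiFiniteAt.exists_fg_and_exists_notMem_and_awayMap_bijective (R := R) p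
  have : Module.Finite R S' := ⟨(Submodule.fg_top _).mpr hS'⟩
  have : Algebra.QuasiFinite R (Localization.Away r) := .trans _ S' _
  have : Algebra.QuasiFinite R (Localization.Away r.1) :=
    .of_surjective_algHom (Localization.awayMapₐ S'.val r) H.2
  exact ⟨r.1, hrp, this⟩

end QF

section TheoremA2

variable {R S : Type u} [CommRing R] [CommRing S] [Algebra R S]

/-- A point at which `R → S` is Cohen–Macaulay specializes, inside its fibre, to a point closed in
the fibre at which `R → S` is still Cohen–Macaulay. -/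
theorem exists_closed_specialization_fibCM [IsNoetherianRing R] [Algebra.FiniteType R S]
    (q₀ : Ideal S) [q₀.IsPrime]
    (hq₀ : FibCM (Localization.localRingHom (q₀.under R) q₀ (algebraMap R S) rfl)) :
    ∃ (q₁ : Ideal S) (_ : q₁.IsPrime), q₀ ≤ q₁ ∧
      FibCM (Localization.localRingHom (q₁.under R) q₁ (algebraMap R S) rfl) ∧
      ∀ (q' : Ideal S) [q'.IsPrime], q₁ ≤ q' → q'.under R = q₁.under R → q' = q₁ := by
  classical
  set p := q₀.under R with hp
  obtain ⟨Q₀, hQ₀prime, hQ₀⟩ := exists_fiber_prime p q₀ rfl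
  have hflatOpen : IsOpen {Q : PrimeSpectrum S |
      Module.Flat R (LocalizedModule Q.asIdeal.primeCompl S)} :=
    FlatLimOpen88.isOpen_flatLocus_of_noetherian
  let ι : S →ₐ[R] p.Fiber S := Algebra.TensorProduct.includeRight
  let U : Set (PrimeSpectrum (p.Fiber S)) := CMOpenFormal33.CMLocus (p.Fiber S) ∩
    PrimeSpectrum.comap ι.toRingHom ⁻¹' {Q : PrimeSpectrum S |
      Module.Flat R (LocalizedModule Q.asIdeal.primeCompl S)}
  have hUopen : IsOpen U :=
    (isOpen_CMLocus_of_finiteType_field p.ResidueField (p.Fiber S)).inter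
      (hflatOpen.preimage (PrimeSpectrum.continuous_comap _))
  rw [fibCM_iff] at hq₀
  have hQ₀U : (⟨Q₀, hQ₀prime⟩ : PrimeSpectrum (p.Fiber S)) ∈ U := by
    refine ⟨?_, ?_⟩
    · change LocCoh.IsCohenMacaulayLocalRing (Localization.AtPrime Q₀)
      rw [isCM_localization_fiber_iff p Q₀]
      have h2 := hq₀.2
      rw [map_localRingHom_maximalIdeal] at h2
      exact cm_fibre_congr p hQ₀.symm h2
    · change Module.Flat R (LocalizedModule (Q₀.comap ι.toRingHom).primeCompl S)
      have h1 := (flat_localRingHom_iff (P := R) q₀).mp hq₀.1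
      exact flat_localizedModule_congr hQ₀.symm h1
  have hJac : IsJacobsonRing (p.Fiber S) := isJacobsonRing_of_finiteType (A := p.ResidueField)
  obtain ⟨M, hM, hle, hMU⟩ := exists_maximal_mem_of_isOpen ⟨Q₀, hQ₀prime⟩ U hUopen hQ₀U
  have hMprime : M.IsPrime := hM.isPrime
  set q₁ : Ideal S := M.comap ι with hq₁
  have hq₁prime : q₁.IsPrime := Ideal.comap_isPrime _ _
  have hq₁p : q₁.under R = p := under_comap_includeRight p M
  have hq₀q₁ : q₀ ≤ q₁ := by
    rw [← hQ₀]; exact Ideal.comap_mono hle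
  refine ⟨q₁, hq₁prime, hq₀q₁, ?_, ?_⟩
  · rw [fibCM_iff]
    refine ⟨(flat_localRingHom_iff (P := R) q₁).mpr hMU.2, ?_⟩
    rw [map_localRingHom_maximalIdeal, hq₁p]
    exact (isCM_localization_fiber_iff p M).mp hMU.1
  · intro q' _ hle' hunder
    obtain ⟨Q', hQ'prime, hQ'⟩ := exists_fiber_prime p q' (hunder.trans hq₁p)
    have h1 : M ≤ Q' := by
      rw [← comap_includeRight_le_iff p M Q', hQ']
      exact hle'
    have h2 : M = Q' := hM.eq_of_le hQ'prime.ne_top h1
    rw [← hQ', ← h2]

/-- **Theorem A, open form.** `R` Noetherian, `S` of finite type, `R → S` Cohen–Macaulay at `q`.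
Then there are `t₁, …, t_d ∈ S` and `r ∉ q` such that `S_r` is quasi-finite and flat over
`R[T₁, …, T_d]`. -/
theorem exists_away_quasiFinite_flat [IsNoetherianRing R] [Algebra.FiniteType R S]
    (q : Ideal S) [q.IsPrime]
    (hCM : FibCM (Localization.localRingHom (q.under R) q (algebraMap R S) rfl)) :
    ∃ (d : ℕ) (t : ULift.{u} (Fin d) → S) (r : S), r ∉ q ∧
      letI : Algebra (MvPolynomial (ULift.{u} (Fin d)) R) S :=
        (MvPolynomial.aeval t).toRingHom.toAlgebra
      Algebra.QuasiFinite (MvPolynomial (ULift.{u} (Fin d)) R) (Localization.Away r) ∧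
        Module.Flat (MvPolynomial (ULift.{u} (Fin d)) R) (Localization.Away r) := by
  obtain ⟨q₁, hq₁prime, hle, hfib₁, hclosed⟩ := exists_closed_specialization_fibCM q hCM
  obtain ⟨d, t, hqf, hfl⟩ := exists_quasiFiniteAt_flat q₁ hfib₁ hclosed
  letI alg : Algebra (MvPolynomial (ULift.{u} (Fin d)) R) S :=
    (MvPolynomial.aeval t).toRingHom.toAlgebra
  have hst : IsScalarTower R (MvPolynomial (ULift.{u} (Fin d)) R) S :=
    IsScalarTower.of_algebraMap_eq (fun x => by
      change algebraMap R S x = MvPolynomial.aeval t (algebraMap R _ x)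
      rw [AlgHom.commutes])
  have hFT : Algebra.FiniteType (MvPolynomial (ULift.{u} (Fin d)) R) S :=
    Algebra.FiniteType.of_restrictScalars_finiteType R _ S
  obtain ⟨r₁, hr₁, hr₁qf⟩ :=
    exists_away_quasiFinite (R := MvPolynomial (ULift.{u} (Fin d)) R) q₁
  have hflatOpenP : IsOpen {Q : PrimeSpectrum S | Module.Flat (MvPolynomial (ULift.{u} (Fin d)) R)
      (LocalizedModule Q.asIdeal.primeCompl S)} :=
    FlatLimOpen88.isOpen_flatLocus_of_noetherian
  have hq₁fl : (⟨q₁, hq₁prime⟩ : PrimeSpectrum S) ∈ {Q : PrimeSpectrum S |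
      Module.Flat (MvPolynomial (ULift.{u} (Fin d)) R) (LocalizedModule Q.asIdeal.primeCompl S)} :=
    (flat_localRingHom_iff (P := MvPolynomial (ULift.{u} (Fin d)) R) q₁).mp hfl
  obtain ⟨_, ⟨r₂, rfl⟩, hr₂, hr₂fl⟩ :=
    PrimeSpectrum.isTopologicalBasis_basic_opens.exists_subset_of_mem_open hq₁fl hflatOpenP
  have hr₂' : r₂ ∉ q₁ := hr₂
  refine ⟨d, t, r₁ * r₂, ?_, quasiFinite_away_mul r₁ r₂, ?_⟩
  · intro h
    rcases hq₁prime.mem_or_mem (hle h) with h | h
    · exact hr₁ h
    · exact hr₂' h
  · refine FlatLocalModel.flat_away_of_forall (r₁ * r₂) (fun Q _ hQ => ?_)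
    have hr₂Q : r₂ ∉ Q := fun h => hQ (Q.mul_mem_left r₁ h)
    exact hr₂fl (show (⟨Q, inferInstance⟩ : PrimeSpectrum S) ∈
      (PrimeSpectrum.basicOpen r₂ : Set (PrimeSpectrum S)) from hr₂Q)

end TheoremA2

section LemmaQ

/-- The closed fibre ring of a quasi-finite algebra over a local ring is Artinian. -/
theorem isArtinianRing_quotient_of_quasiFinite {A C : Type u} [CommRing A] [CommRing C]
    [IsLocalRing A] [Algebra A C] [Algebra.QuasiFinite A C] :
    IsArtinianRing (C ⧸ (maximalIdeal A).map (algebraMap A C)) := by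
  let e : (maximalIdeal A).Fiber C ≃ₐ[A] C ⧸ (maximalIdeal A).map (algebraMap A C) :=
    (Algebra.TensorProduct.congr (.symm <| .ofBijective _
      (Ideal.bijective_algebraMap_quotient_residueField (maximalIdeal A))) .refl).trans <|
    (Algebra.TensorProduct.comm _ _ _).trans
    ((Algebra.TensorProduct.quotIdealMapEquivTensorQuot C (maximalIdeal A)).symm.restrictScalars _)
  exact e.toRingEquiv.isArtinianRing

/-- For a quasi-finite local homomorphism of local rings, the closed fibre ring is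
Cohen–Macaulay (it is Artinian). -/
theorem isCM_quotient_of_quasiFinite {A C : Type u} [CommRing A] [CommRing C]
    [IsLocalRing A] [IsLocalRing C] (ψ : A →+* C) [IsLocalHom ψ] (hψ : ψ.QuasiFinite) :
    LocCoh.IsCohenMacaulayLocalRing (C ⧸ Ideal.map ψ (maximalIdeal A)) := by
  algebraize [ψ]
  have hart : IsArtinianRing (C ⧸ (maximalIdeal A).map (algebraMap A C)) :=
    isArtinianRing_quotient_of_quasiFinite
  have hloc : IsLocalRing (C ⧸ (maximalIdeal A).map (algebraMap A C)) :=
    CMComp33.isLocalRing_quotient _ (CMComp33.map_maximalIdeal_ne_top (algebraMap A C))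
  obtain ⟨hN, hK⟩ := isArtinianRing_iff_isNoetherianRing_krullDimLE_zero.mp hart
  exact CMFieldExt33.isCohenMacaulayLocalRing_of_krullDimLE_zero _

/-- A quasi-finite flat local homomorphism is Cohen–Macaulay. -/
theorem fibCM_of_quasiFinite_of_flat {A C : Type u} [CommRing A] [CommRing C]
    [IsLocalRing A] [IsLocalRing C] (ψ : A →+* C) [IsLocalHom ψ] (hψ : ψ.QuasiFinite)
    (hfl : ψ.Flat) : FibCM ψ :=
  (fibCM_iff ψ).mpr ⟨hfl, isCM_quotient_of_quasiFinite ψ hψ⟩

end LemmaQ

end Groth.Agent.Lib.CMQF33
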