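import Groth.Agent.Lib.CMQF33i
import Groth.Agent.S9766
import Mathlib

/-!
# Quasi-finite flat charts of a Cohen–Macaulay morphism: scheme level, easy direction (helper33)
-/

set_option autoImplicit false
universe u

open IsLocalRing Groth.Agent.Lib TensorProduct CategoryTheory AlgebraicGeometry

namespace Groth.Agent.Lib.CMQF33

section Easy

/-- A morphism which is quasi-finite and flat at a point is Cohen–Macaulay there. -/
theorem isCMAt_of_quasiFiniteAt_of_flat {X Y : Scheme.{u}} (g : X ⟶ Y) (x : X)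
    (hqf : g.QuasiFiniteAt x) (hfl : (g.stalkMap x).hom.Flat) : MoreMor.IsCMAt g x := by
  rw [isCMAt_iff_fibCM]
  exact fibCM_of_quasiFinite_of_flat (g.stalkMap x).hom hqf hfl

/-- `Spec R[T] → Spec R` is Cohen–Macaulay at every point. -/
theorem isCMAt_Spec_mvPolynomial (n : Type u) [Finite n] (R : CommRingCat.{u})
    (z : Spec (.of (MvPolynomial n R))) :
    MoreMor.IsCMAt (Spec.map (CommRingCat.ofHom (MvPolynomial.C : R →+* MvPolynomial n R))) z := by
  rw [isCMAt_Spec_iff, fibCM_iff]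
  refine ⟨RingHom.Flat.localRingHom
    (f := (MvPolynomial.C : R →+* MvPolynomial n R))
    (RingHom.flat_algebraMap_iff.mpr (inferInstance : Module.Flat R (MvPolynomial n R))) _ _ rfl, ?_⟩
  have h := map_localRingHom_maximalIdeal (R := R) (S := MvPolynomial n R)
    (z.asIdeal.comap (algebraMap R (MvPolynomial n R))) z.asIdeal rfl
  have hcm := isCM_fibreLocalRing_mvPolynomial (R := R) n
    (z.asIdeal.comap (algebraMap R (MvPolynomial n R))) z.asIdeal rfl
  rw [← h] at hcm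
  exact hcm

/-- `𝔸ⁿ_{Spec R} → Spec R` is Cohen–Macaulay at every point. -/
theorem isCMAt_affineSpace_Spec (n : Type u) [Finite n] (R : CommRingCat.{u})
    (z : 𝔸(n; Spec R)) : MoreMor.IsCMAt (𝔸(n; Spec R) ↘ Spec R) z := by
  have w : (𝔸(n; Spec R) ↘ Spec R) ≫ 𝟙 _ = (AffineSpace.SpecIso n R).hom ≫
      Spec.map (CommRingCat.ofHom (MvPolynomial.C : R →+* MvPolynomial n R)) := by
    rw [Category.comp_id, ← Iso.inv_comp_eq, AffineSpace.SpecIso_inv_over]
  rw [isCMAt_iff_of_comm _ _ (AffineSpace.SpecIso n R).hom (𝟙 _) w z]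
  exact isCMAt_Spec_mvPolynomial n R _

/-- `𝔸ⁿ_Y → Y` is Cohen–Macaulay at every point. -/
theorem isCMAt_affineSpace_over (n : Type u) [Finite n] (Y : Scheme.{u}) (z : 𝔸(n; Y)) :
    MoreMor.IsCMAt (𝔸(n; Y) ↘ Y) z := by
  obtain ⟨_, ⟨U, hU, rfl⟩, hzU, -⟩ := Y.isBasis_affineOpens.exists_subset_of_mem_open
    (Set.mem_univ ((𝔸(n; Y) ↘ Y) z)) isOpen_univ
  have sq := AffineSpace.isPullback_map (n := n) hU.fromSpec
  have hopen : IsOpenImmersion (AffineSpace.map n hU.fromSpec) :=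
    MorphismProperty.of_isPullback (P := @IsOpenImmersion) sq.flip inferInstance
  have hmem : (𝔸(n; Y) ↘ Y) z ∈ Set.range hU.fromSpec := by
    rw [hU.range_fromSpec]; exact hzU
  obtain ⟨y', hy'⟩ := hmem
  obtain ⟨z', hz'1, -⟩ := Scheme.exists_preimage_of_isPullback sq z y' hy'.symm
  have hz' : AffineSpace.map n hU.fromSpec z' = z := hz'1
  rw [← hz', ← isCMAt_iff_of_comm (𝔸(n; Spec Γ(Y, U)) ↘ Spec Γ(Y, U)) (𝔸(n; Y) ↘ Y)
    (AffineSpace.map n hU.fromSpec) hU.fromSpec sq.w.symm z']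
  exact isCMAt_affineSpace_Spec n _ z'

/-- **Easy direction of the chart criterion.** -/
theorem isCMAt_of_chart {X Y : Scheme.{u}} (f : X ⟶ Y) [LocallyOfFiniteType f] (x : X) (n : ℕ)
    (U : X.Opens) (hx : x ∈ U) (g : (U : Scheme.{u}) ⟶ 𝔸(ULift.{u} (Fin n); Y))
    (hg : g ≫ (𝔸(ULift.{u} (Fin n); Y) ↘ Y) = U.ι ≫ f) [LocallyQuasiFinite g]
    (hfl : (g.stalkMap ⟨x, hx⟩).hom.Flat) : MoreMor.IsCMAt f x := by
  have h1 : MoreMor.IsCMAt f (U.ι ⟨x, hx⟩) := by
    rw [← isCMAt_comp_openImmersion_left U.ι f ⟨x, hx⟩, ← hg]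
    have hlft : LocallyOfFiniteType (g ≫ (𝔸(ULift.{u} (Fin n); Y) ↘ Y)) := by
      rw [hg]; infer_instance
    have hN : IsLocallyNoetherian ((g ≫ (𝔸(ULift.{u} (Fin n); Y) ↘ Y)).fiber
        ((𝔸(ULift.{u} (Fin n); Y) ↘ Y) (g ⟨x, hx⟩))) := by
      unfold Scheme.Hom.fiber
      infer_instance
    exact Groth.Agent.S9766.result g _ ⟨x, hx⟩ hN
      (isCMAt_of_quasiFiniteAt_of_flat g _ (g.quasiFiniteAt _) hfl)
      (isCMAt_affineSpace_over _ Y _)
  exact h1

end Easy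

end Groth.Agent.Lib.CMQF33
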