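import Groth.Agent.Lib.CMQF33j
import Mathlib

/-!
# Quasi-finite flat charts of a Cohen–Macaulay morphism: scheme level, hard direction (helper33)
-/

set_option autoImplicit false
universe u

open IsLocalRing Groth.Agent.Lib TensorProduct CategoryTheory AlgebraicGeometry Limits

namespace Groth.Agent.Lib.CMQF33

/-- `f` has a quasi-finite flat chart at `x`: an open neighbourhood `W` of `x` and a flat, locally
quasi-finite `Y`-morphism `W → 𝔸ⁿ_Y`. -/
def HasQFChart {X Y : Scheme.{u}} (f : X ⟶ Y) (x : X) : Prop :=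
  ∃ (n : ℕ) (W : Scheme.{u}) (j : W ⟶ X) (_ : IsOpenImmersion j)
    (g : W ⟶ 𝔸(ULift.{u} (Fin n); Y)),
    x ∈ Set.range j ∧ g ≫ (𝔸(ULift.{u} (Fin n); Y) ↘ Y) = j ≫ f ∧ LocallyQuasiFinite g ∧ Flat g

section Transfer

theorem isOpenImmersion_affineSpace_map (n : Type u) {S T : Scheme.{u}} (b : S ⟶ T)
    [IsOpenImmersion b] : IsOpenImmersion (AffineSpace.map n b) :=
  MorphismProperty.of_isPullback (P := @IsOpenImmersion)
    (AffineSpace.isPullback_map (n := n) b).flip inferInstance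

/-- Charts transfer along squares of open immersions. -/
theorem HasQFChart.of_comm {X₀ Y₀ X Y : Scheme.{u}} (f₀ : X₀ ⟶ Y₀) (f : X ⟶ Y) (a : X₀ ⟶ X)
    (b : Y₀ ⟶ Y) [IsOpenImmersion a] [IsOpenImmersion b] (w : f₀ ≫ b = a ≫ f) (x₀ : X₀)
    (h : HasQFChart f₀ x₀) : HasQFChart f (a x₀) := by
  obtain ⟨n, W, j₀, hj₀, g₀, ⟨w₀, rfl⟩, hg₀, hqf, hfl⟩ := h
  have hb := isOpenImmersion_affineSpace_map (ULift.{u} (Fin n)) b
  refine ⟨n, W, j₀ ≫ a, inferInstance, g₀ ≫ AffineSpace.map _ b, ⟨w₀, rfl⟩, ?_, inferInstance,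
    inferInstance⟩
  rw [Category.assoc, AffineSpace.map_over, reassoc_of% hg₀, w, Category.assoc]

/-- Charts pull back along cartesian squares. -/
theorem HasQFChart.of_isPullback {X' Y' X₁ Y₁ : Scheme.{u}} (f' : X' ⟶ Y') (f₁ : X₁ ⟶ Y₁)
    (a₁ : X' ⟶ X₁) (b₁ : Y' ⟶ Y₁) (sq : IsPullback a₁ f' f₁ b₁) (x' : X')
    (h : HasQFChart f₁ (a₁ x')) : HasQFChart f' x' := by
  obtain ⟨n, W₁, j₁, hj₁, g₁, ⟨w₁, hw₁⟩, hg₁, hqf, hfl⟩ := h
  have s1 : IsPullback (pullback.snd a₁ j₁) (pullback.fst a₁ j₁) j₁ a₁ :=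
    (IsPullback.of_hasPullback a₁ j₁).flip
  have s2 : IsPullback (pullback.snd a₁ j₁) (pullback.fst a₁ j₁ ≫ f')
      (g₁ ≫ (𝔸(ULift.{u} (Fin n); Y₁) ↘ Y₁)) b₁ := by
    rw [hg₁]
    exact s1.paste_vert sq
  have t := AffineSpace.isPullback_map (n := ULift.{u} (Fin n)) b₁
  have top := IsPullback.of_bot' s2 t
  obtain ⟨z, hz1, -⟩ := Scheme.Pullback.exists_preimage_pullback (f := a₁) (g := j₁) x' w₁ hw₁.symm
  refine ⟨n, pullback a₁ j₁, pullback.fst a₁ j₁, inferInstance, _, ⟨z, hz1⟩, t.lift_snd _ _ _,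
    MorphismProperty.of_isPullback (P := @LocallyQuasiFinite) top hqf,
    MorphismProperty.of_isPullback (P := @Flat) top hfl⟩

end Transfer

section Noetherian

/-- Charts exist for finite type algebras over Noetherian rings. -/
theorem hasQFChart_Spec_of_noetherian (R S : Type u) [CommRing R] [CommRing S] [Algebra R S]
    [IsNoetherianRing R] [Algebra.FiniteType R S] (q : Spec (.of S))
    (hq : MoreMor.IsCMAt (Spec.map (CommRingCat.ofHom (algebraMap R S))) q) :
    HasQFChart (Spec.map (CommRingCat.ofHom (algebraMap R S))) q := by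
  have hq' : FibCM (Localization.localRingHom (q.asIdeal.under R) q.asIdeal (algebraMap R S) rfl) :=
    (isCMAt_Spec_iff (CommRingCat.ofHom (algebraMap R S)) q).mp hq
  obtain ⟨d, t, r, hr, hqf, hfl⟩ := exists_away_quasiFinite_flat q.asIdeal hq'
  letI alg : Algebra (MvPolynomial (ULift.{u} (Fin d)) R) S :=
    (MvPolynomial.aeval t).toRingHom.toAlgebra
  have hcomp : (algebraMap (MvPolynomial (ULift.{u} (Fin d)) R) (Localization.Away r)).comp
      (MvPolynomial.C : R →+* MvPolynomial (ULift.{u} (Fin d)) R) =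
      (algebraMap S (Localization.Away r)).comp (algebraMap R S) := by
    ext x
    simp only [RingHom.comp_apply]
    rw [IsScalarTower.algebraMap_apply (MvPolynomial (ULift.{u} (Fin d)) R) S (Localization.Away r)]
    congr 1
    change MvPolynomial.aeval t (MvPolynomial.C x) = _
    rw [MvPolynomial.aeval_C]
  refine ⟨d, Spec (.of (Localization.Away r)),
    Spec.map (CommRingCat.ofHom (algebraMap S (Localization.Away r))), inferInstance,
    Spec.map (CommRingCat.ofHom (algebraMap (MvPolynomial (ULift.{u} (Fin d)) R)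
      (Localization.Away r))) ≫ (AffineSpace.SpecIso (ULift.{u} (Fin d)) (.of R)).inv, ?_, ?_, ?_, ?_⟩
  · have h1 := PrimeSpectrum.localization_away_comap_range (Localization.Away r) r
    have h2 : q ∈ (PrimeSpectrum.basicOpen r : Set (PrimeSpectrum S)) := hr
    rw [← h1] at h2
    exact h2
  · rw [Category.assoc, AffineSpace.SpecIso_inv_over, ← Spec.map_comp, ← Spec.map_comp,
      ← CommRingCat.ofHom_comp, ← CommRingCat.ofHom_comp, hcomp]
  · have h1 : LocallyQuasiFinite (Spec.map (CommRingCat.ofHom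
        (algebraMap (MvPolynomial (ULift.{u} (Fin d)) R) (Localization.Away r)))) := by
      rw [HasRingHomProperty.Spec_iff (P := @LocallyQuasiFinite)]
      exact RingHom.quasiFinite_algebraMap.mpr hqf
    infer_instance
  · have h1 : Flat (Spec.map (CommRingCat.ofHom
        (algebraMap (MvPolynomial (ULift.{u} (Fin d)) R) (Localization.Away r)))) := by
      rw [HasRingHomProperty.Spec_iff (P := @Flat)]
      exact RingHom.flat_algebraMap_iff.mpr hfl
    infer_instance

end Noetherian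

section Main

/-- Charts for flat finitely presented morphisms of affine schemes `Spec B → Spec A`. -/
theorem hasQFChart_Spec_of_flat (A B : Type u) [CommRing A] [CommRing B] [Algebra A B]
    [Module.Flat A B] [Algebra.FinitePresentation A B] (q : Spec (.of B))
    (hq : MoreMor.IsCMAt (Spec.map (CommRingCat.ofHom (algebraMap A B))) q) :
    HasQFChart (Spec.map (CommRingCat.ofHom (algebraMap A B))) q := by
  obtain ⟨g, hg, A₁, D₁, _, _, _, _, hA₁, hD₁, hfl, ⟨E⟩⟩ :=
    FlatLocalModel.exists_local_flat_model A B q.asIdeal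
  have hN : IsNoetherianRing A₁ := Algebra.FiniteType.isNoetherianRing ℤ A₁
  let a : Spec (.of (A ⊗[A₁] D₁)) ⟶ Spec (.of B) :=
    Spec.map (E.symm.toRingEquiv.toCommRingCatIso).hom ≫
      Spec.map (CommRingCat.ofHom (algebraMap B (Localization.Away g)))
  have w : Spec.map (CommRingCat.ofHom (algebraMap A (A ⊗[A₁] D₁))) ≫ 𝟙 _ =
      a ≫ Spec.map (CommRingCat.ofHom (algebraMap A B)) := by
    rw [Category.comp_id]
    simp only [a, Category.assoc, ← Spec.map_comp]
    congr 1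
    ext x
    change algebraMap A (A ⊗[A₁] D₁) x =
      E.symm (algebraMap B (Localization.Away g) (algebraMap A B x))
    rw [← IsScalarTower.algebraMap_apply A B (Localization.Away g), AlgEquiv.commutes]
  have hqa : q ∈ Set.range a := by
    have hq' : q ∈ Set.range (Spec.map (CommRingCat.ofHom
        (algebraMap B (Localization.Away g)))) := by
      have h1 := PrimeSpectrum.localization_away_comap_range (Localization.Away g) g
      have h2 : q ∈ (PrimeSpectrum.basicOpen g : Set (PrimeSpectrum B)) := hg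
      rw [← h1] at h2
      exact h2
    obtain ⟨y, hy⟩ := hq'
    obtain ⟨z, rfl⟩ := (Spec.map (E.symm.toRingEquiv.toCommRingCatIso).hom).surjective y
    exact ⟨z, by rw [← hy]; rfl⟩
  obtain ⟨z, rfl⟩ := hqa
  refine HasQFChart.of_comm _ _ a (𝟙 _) w z ?_
  have hz : MoreMor.IsCMAt (Spec.map (CommRingCat.ofHom (algebraMap A (A ⊗[A₁] D₁)))) z :=
    (isCMAt_iff_of_comm _ _ a (𝟙 _) w z).mpr hq
  have hpo := CommRingCat.isPushout_tensorProduct A₁ A D₁
  have hpb := (isPullback_SpecMap_of_isPushout _ _ _ _ hpo).flip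
  have hfp : Algebra.FinitePresentation A₁ D₁ := Algebra.FinitePresentation.of_finiteType.mp hD₁
  have hflat : Flat (Spec.map (CommRingCat.ofHom (algebraMap A₁ D₁))) := by
    rw [HasRingHomProperty.Spec_iff (P := @Flat)]
    exact RingHom.flat_algebraMap_iff.mpr hfl
  have hlfp : LocallyOfFinitePresentation (Spec.map (CommRingCat.ofHom (algebraMap A₁ D₁))) := by
    rw [HasRingHomProperty.Spec_iff (P := @LocallyOfFinitePresentation)]
    exact RingHom.finitePresentation_algebraMap.mpr hfp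
  have key := Groth.Agent.S1342.result (Spec.map (CommRingCat.ofHom (algebraMap A₁ D₁))) _ _ _ hpb
  have hz' : z ∈ {x' | MoreMor.IsCMAt (Spec.map (CommRingCat.ofHom (S := A ⊗[A₁] D₁)
      (Algebra.TensorProduct.includeLeftRingHom : A →+* A ⊗[A₁] D₁))) x'} := hz
  rw [key] at hz'
  exact HasQFChart.of_isPullback _ _ _ _ hpb z (hasQFChart_Spec_of_noetherian A₁ D₁ _ hz')

/-- Charts for flat finitely presented morphisms of affine schemes. -/
theorem hasQFChart_of_isAffine {X Y : Scheme.{u}} [IsAffine X] [IsAffine Y] (f : X ⟶ Y)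
    [Flat f] [LocallyOfFinitePresentation f] (x : X) (hx : MoreMor.IsCMAt f x) :
    HasQFChart f x := by
  have w : Spec.map f.appTop ≫ Y.isoSpec.inv = X.isoSpec.inv ≫ f :=
    Scheme.isoSpec_inv_naturality f
  have hxx : X.isoSpec.inv (X.isoSpec.hom x) = x := by
    rw [← Scheme.Hom.comp_apply, Iso.hom_inv_id]; rfl
  rw [← hxx]
  refine HasQFChart.of_comm _ _ X.isoSpec.inv Y.isoSpec.inv w _ ?_
  have hx' : MoreMor.IsCMAt (Spec.map f.appTop) (X.isoSpec.hom x) :=
    (isCMAt_iff_of_comm f (Spec.map f.appTop) X.isoSpec.hom Y.isoSpec.hom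
      (Scheme.isoSpec_hom_naturality f).symm x).mp hx
  algebraize [f.appTop.hom]
  have h1 : Module.Flat Γ(Y, ⊤) Γ(X, ⊤) :=
    (HasRingHomProperty.iff_of_isAffine (P := @Flat)).mp inferInstance
  have h2 : Algebra.FinitePresentation Γ(Y, ⊤) Γ(X, ⊤) :=
    (HasRingHomProperty.iff_of_isAffine (P := @LocallyOfFinitePresentation)).mp inferInstance
  exact hasQFChart_Spec_of_flat Γ(Y, ⊤) Γ(X, ⊤) _ hx'

/-- Charts for flat morphisms locally of finite presentation. -/
theorem hasQFChart_of_flat {X Y : Scheme.{u}} (f : X ⟶ Y) [Flat f]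
    [LocallyOfFinitePresentation f] (x : X) (hx : MoreMor.IsCMAt f x) : HasQFChart f x := by
  obtain ⟨_, ⟨U, hU, rfl⟩, hxU, -⟩ :=
    Y.isBasis_affineOpens.exists_subset_of_mem_open (Set.mem_univ (f x)) isOpen_univ
  obtain ⟨_, ⟨V, hV, rfl⟩, hxV, hVU⟩ :=
    X.isBasis_affineOpens.exists_subset_of_mem_open hxU (U.2.preimage f.continuous)
  replace hVU : V ≤ f ⁻¹ᵁ U := hVU
  have hVaff : IsAffine (V : Scheme.{u}) := hV
  have hUaff : IsAffine (U : Scheme.{u}) := hU
  have hx' : MoreMor.IsCMAt (f.resLE U V hVU) ⟨x, hxV⟩ :=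
    (isCMAt_iff_of_comm (f.resLE U V hVU) f (Scheme.Opens.ι V) (Scheme.Opens.ι U)
      (f.resLE_comp_ι _) ⟨x, hxV⟩).mpr hx
  exact HasQFChart.of_comm (f.resLE U V hVU) f (Scheme.Opens.ι V) (Scheme.Opens.ι U)
    (f.resLE_comp_ι _) ⟨x, hxV⟩ (hasQFChart_of_isAffine _ _ hx')

/-- **Charts for morphisms locally of finite presentation at Cohen–Macaulay points.** -/
theorem hasQFChart {X Y : Scheme.{u}} (f : X ⟶ Y) [LocallyOfFinitePresentation f] (x : X)
    (hx : MoreMor.IsCMAt f x) : HasQFChart f x := by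
  let W : X.Opens := ⟨{x : X | (f.stalkMap x).hom.Flat}, Groth.Agent.S0386.result f⟩
  have hflat : Flat (Scheme.Opens.ι W ≫ f) := by
    apply Flat.of_stalkMap
    intro w
    have e : (Scheme.Opens.ι W ≫ f).stalkMap w =
        f.stalkMap (Scheme.Opens.ι W w) ≫ (Scheme.Opens.ι W).stalkMap w :=
      Scheme.Hom.stalkMap_comp _ f w
    rw [e]
    exact (RingHom.Flat.respectsIso.cancel_right_isIso (f.stalkMap _)
      ((Scheme.Opens.ι W).stalkMap w)).mpr w.2
  have hx' : MoreMor.IsCMAt (Scheme.Opens.ι W ≫ f) ⟨x, hx.1⟩ :=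
    (isCMAt_iff_of_comm (Scheme.Opens.ι W ≫ f) f (Scheme.Opens.ι W) (𝟙 Y)
      (Category.comp_id _) ⟨x, hx.1⟩).mpr hx
  exact HasQFChart.of_comm (Scheme.Opens.ι W ≫ f) f (Scheme.Opens.ι W) (𝟙 Y)
    (Category.comp_id _) ⟨x, hx.1⟩ (hasQFChart_of_flat _ _ hx')

/-- Unpacking a chart in terms of an open subscheme. -/
theorem HasQFChart.exists_opens {X Y : Scheme.{u}} (f : X ⟶ Y) (x : X) (h : HasQFChart f x) :
    ∃ (n : ℕ) (U : X.Opens) (_ : x ∈ U) (g : (U : Scheme.{u}) ⟶ 𝔸(ULift.{u} (Fin n); Y)),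
      g ≫ (𝔸(ULift.{u} (Fin n); Y) ↘ Y) = U.ι ≫ f ∧ LocallyQuasiFinite g ∧ Flat g := by
  obtain ⟨n, W, j, hj, g, hxj, hg, hqf, hfl⟩ := h
  refine ⟨n, j.opensRange, hxj, j.isoOpensRange.inv ≫ g, ?_, inferInstance, inferInstance⟩
  rw [Category.assoc, hg, ← Category.assoc, Scheme.Hom.isoOpensRange_inv_comp]

end Main

end Groth.Agent.Lib.CMQF33
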