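import Mathlib.Tactic
import Groth.Agent.S7137
import Groth.Agent.S5672

/-!
# Rees' change of rings for `Ext` (vanishing form)  (helper26)

`A` a commutative ring, `f : A` regular on `A` and on an `A`-module `M`, `B = A/(f)`, and
`p : M → M'` a surjection onto a `B`-module with kernel `fM` (so `M' = M/fM`).
For a finite `B`-module `N` (with compatible `A`-structure) and `i ≥ 1`:
`Ext^{i+1}_A(N, M) = 0 ↔ Ext^i_B(N, M') = 0`  (`rees_vanish`).
-/

set_option autoImplicit false
universe u
open CategoryTheory Abelian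

namespace Groth.Agent.Lib.H26Rees

variable {A : Type u} [CommRing A] (f : A)

section theta

variable {M M' : Type u} [AddCommGroup M] [Module A M] [AddCommGroup M'] [Module A M']
  [Module (A ⧸ Ideal.span {f}) M'] [IsScalarTower A (A ⧸ Ideal.span {f}) M']
  (p : M →ₗ[A] M') (hp : Function.Surjective p)
  (hex : Function.Exact (f • (LinearMap.id : M →ₗ[A] M)) p) (hreg : IsSMulRegular M f)

/-- the sequence `0 → M --f--> M → M' → 0`. -/
noncomputable abbrev sesM : ShortComplex (ModuleCat.{u} A) :=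
  ShortComplex.mk (ModuleCat.ofHom (f • (LinearMap.id : M →ₗ[A] M))) (ModuleCat.ofHom p) (by
    ext x
    exact hex.apply_apply_eq_zero x)

include hp hreg in
lemma sesM_shortExact : (sesM f p hex).ShortExact :=
  ModuleCat.shortComplex_shortExact _ (fun y => hex y) (by
    intro a b hab
    exact hreg (show f • a = f • b from hab)) hp

omit [Module A M'] [IsScalarTower A (A ⧸ Ideal.span {f}) M'] in
/-- `f` kills modules over `A/(f)`. -/
lemma smul_eq_zero_of_quot {E : Type u} [AddCommGroup E] [Module A E]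
    [Module (A ⧸ Ideal.span {f}) E] [IsScalarTower A (A ⧸ Ideal.span {f}) E] (x : E) :
    f • x = 0 := by
  have h1 : f • x = (algebraMap A (A ⧸ Ideal.span {f}) f) • x := by
    rw [algebraMap_smul]
  rw [h1]
  have h2 : algebraMap A (A ⧸ Ideal.span {f}) f = 0 :=
    Ideal.Quotient.eq_zero_iff_mem.2 (Ideal.subset_span (Set.mem_singleton f))
  rw [h2, zero_smul]

variable (E : Type u) [AddCommGroup E] [Module A E] [Module (A ⧸ Ideal.span {f}) E]
  [IsScalarTower A (A ⧸ Ideal.span {f}) E]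

/-- `θ : Hom_B(E, M') → Ext^1_A(E, M)`. -/
noncomputable def theta (φ : E →ₗ[A ⧸ Ideal.span {f}] M') :
    Ext (ModuleCat.of A E) (ModuleCat.of A M) 1 :=
  (Ext.mk₀ (ModuleCat.ofHom (φ.restrictScalars A))).comp
    (sesM_shortExact f p hp hex hreg).extClass (zero_add 1)

lemma theta_add (φ ψ : E →ₗ[A ⧸ Ideal.span {f}] M') :
    theta f p hp hex hreg E (φ + ψ) = theta f p hp hex hreg E φ + theta f p hp hex hreg E ψ := by
  unfold theta
  have h1 : (ModuleCat.ofHom ((φ + ψ).restrictScalars A) :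
      ModuleCat.of A E ⟶ ModuleCat.of A M') =
      ModuleCat.ofHom (φ.restrictScalars A) + ModuleCat.ofHom (ψ.restrictScalars A) := rfl
  rw [h1, Ext.mk₀_add, Ext.add_comp]

/-- every `A`-linear map between `B`-modules is `B`-linear. -/
def toB {E' : Type u} [AddCommGroup E'] [Module A E'] [Module (A ⧸ Ideal.span {f}) E']
    [IsScalarTower A (A ⧸ Ideal.span {f}) E'] (ψ : E →ₗ[A] E') :
    E →ₗ[A ⧸ Ideal.span {f}] E' where
  toFun := ψ
  map_add' := ψ.map_add
  map_smul' := by
    intro b x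
    obtain ⟨a, rfl⟩ := Ideal.Quotient.mk_surjective b
    have h1 : ∀ (y : E), (Ideal.Quotient.mk (Ideal.span {f}) a) • y = a • y := fun y => by
      rw [← Ideal.Quotient.algebraMap_eq, algebraMap_smul]
    have h2 : ∀ (y : E'), (Ideal.Quotient.mk (Ideal.span {f}) a) • y = a • y := fun y => by
      rw [← Ideal.Quotient.algebraMap_eq, algebraMap_smul]
    simp only [RingHom.id_apply]
    rw [h1, h2, map_smul]

lemma theta_injective : Function.Injective (theta f p hp hex hreg E) := by
  have hS := sesM_shortExact f p hp hex hreg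
  intro φ ψ h
  have h0 : theta f p hp hex hreg E (φ - ψ) = 0 := by
    have := theta_add f p hp hex hreg E (φ - ψ) ψ
    rw [sub_add_cancel, h] at this
    exact (add_eq_right.mp this.symm)
  unfold theta at h0
  obtain ⟨z, hz⟩ := Ext.covariant_sequence_exact₃ _ hS _ rfl h0
  obtain ⟨ζ, rfl⟩ := (Ext.mk₀_bijective (ModuleCat.of A E) (ModuleCat.of A M)).2 z
  have hζ : ζ = 0 := by
    ext x
    have h1 : f • ζ.hom x = 0 := by
      rw [← map_smul, smul_eq_zero_of_quot f x, map_zero]
    have h2 : f • ζ.hom x = f • (0 : M) := by rw [h1, smul_zero]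
    exact hreg h2
  rw [hζ, Ext.mk₀_zero] at hz
  have h1 := (Ext.mk₀_eq_zero_iff _).1 (hz.symm.trans (Ext.zero_comp _ _ _ _ _))
  have h2 : (φ - ψ).restrictScalars A = 0 := by
    have := congrArg ModuleCat.Hom.hom h1
    exact this
  have h3 : φ - ψ = 0 := by
    ext x
    exact LinearMap.congr_fun h2 x
  exact sub_eq_zero.1 h3

lemma theta_surjective : Function.Surjective (theta f p hp hex hreg E) := by
  have hS := sesM_shortExact f p hp hex hreg
  intro x
  have hx' : x.comp (Ext.mk₀ (f • 𝟙 (ModuleCat.of A M))) (add_zero 1) = 0 := by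
    have h2 : f • 𝟙 (ModuleCat.of A E) = 0 := by
      ext y
      exact smul_eq_zero_of_quot f y
    rw [Ext.mk₀_smul, Ext.comp_smul, Ext.comp_mk₀_id, ← Ext.mk₀_id_comp x, ← Ext.smul_comp,
      ← Ext.mk₀_smul, h2, Ext.mk₀_zero, Ext.zero_comp]
  have hx : x.comp (Ext.mk₀ (sesM f p hex).f) (add_zero 1) = 0 := hx'
  obtain ⟨y, hy⟩ := Ext.covariant_sequence_exact₁ _ hS x hx rfl
  obtain ⟨ψ, rfl⟩ := (Ext.mk₀_bijective (ModuleCat.of A E) (ModuleCat.of A M')).2 y
  refine ⟨toB f E ψ.hom, ?_⟩
  unfold theta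
  rw [← hy]
  rfl

end theta

section shift

variable {C : Type*} [Category C] [Abelian C] [HasExt C]

/-- dimension shifting in the first variable (vanishing form). -/
lemma subsingleton_shift_iff {S : ShortComplex C} (hS : S.ShortExact) (Y : C) (n : ℕ)
    (h1 : ∀ x : Ext S.X₂ Y n, x = 0) (h2 : ∀ x : Ext S.X₂ Y (n + 1), x = 0) :
    Subsingleton (Ext S.X₁ Y n) ↔ Subsingleton (Ext S.X₃ Y (n + 1)) := by
  constructor
  · intro h
    refine subsingleton_of_forall_eq 0 fun x₃ => ?_
    obtain ⟨x₁, rfl⟩ := Ext.contravariant_sequence_exact₃ hS Y x₃ (h2 _)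
      (show 1 + n = n + 1 by omega)
    rw [Subsingleton.elim x₁ 0, Ext.comp_zero]
  · intro h
    refine subsingleton_of_forall_eq 0 fun x₁ => ?_
    obtain ⟨x₂, rfl⟩ := Ext.contravariant_sequence_exact₁ hS Y x₁
      (show 1 + n = n + 1 by omega) (Subsingleton.elim _ _)
    rw [h1 x₂, Ext.comp_zero]

end shift

section main

variable {M M' : Type u} [AddCommGroup M] [Module A M] [AddCommGroup M'] [Module A M']
  [Module (A ⧸ Ideal.span {f}) M'] [IsScalarTower A (A ⧸ Ideal.span {f}) M']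
  (p : M →ₗ[A] M') (hp : Function.Surjective p)
  (hex : Function.Exact (f • (LinearMap.id : M →ₗ[A] M)) p) (hreg : IsSMulRegular M f)

omit [Module A M'] [IsScalarTower A (A ⧸ Ideal.span {f}) M'] in
/-- exactness of `A --f--> A → A/(f)`. -/
lemma exact_mkQ : Function.Exact (f • (LinearMap.id : A →ₗ[A] A))
    (Submodule.mkQ (Ideal.span {f})) := by
  rw [LinearMap.exact_iff, Submodule.ker_mkQ]
  ext x
  rw [Ideal.mem_span_singleton', LinearMap.mem_range]
  constructor
  · rintro ⟨a, rfl⟩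
    exact ⟨a, by simp [mul_comm]⟩
  · rintro ⟨a, rfl⟩
    exact ⟨a, by simp [mul_comm]⟩

/-- `pd_A (A/(f)) ≤ 1` for `f` regular. -/
lemma pd_quot (hregA : IsSMulRegular A f) :
    HasProjectiveDimensionLT (ModuleCat.of A (A ⧸ Ideal.span {f})) 2 := by
  have hexA := exact_mkQ f
  have hS := sesM_shortExact f (M := A) (M' := A ⧸ Ideal.span {f})
    (Submodule.mkQ (Ideal.span {f})) (Submodule.mkQ_surjective _) hexA hregA
  have hP : Projective (ModuleCat.of A A) :=
    (IsProjective.iff_projective (R := A) (P := A)).mp inferInstance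
  have h1 : HasProjectiveDimensionLT (sesM f (Submodule.mkQ (Ideal.span {f})) hexA).X₁ 1 :=
    inferInstanceAs (HasProjectiveDimensionLT (ModuleCat.of A A) 1)
  have h2 : HasProjectiveDimensionLT (sesM f (Submodule.mkQ (Ideal.span {f})) hexA).X₂ 2 :=
    inferInstanceAs (HasProjectiveDimensionLT (ModuleCat.of A A) (1 + 1))
  exact hS.hasProjectiveDimensionLT_X₃ 1 h1 h2

/-- naturality of `θ`. -/
lemma theta_comp {K F : Type u} [AddCommGroup K] [Module A K] [Module (A ⧸ Ideal.span {f}) K]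
    [IsScalarTower A (A ⧸ Ideal.span {f}) K] [AddCommGroup F] [Module A F]
    [Module (A ⧸ Ideal.span {f}) F] [IsScalarTower A (A ⧸ Ideal.span {f}) F]
    (u : K →ₗ[A ⧸ Ideal.span {f}] F) (φ : F →ₗ[A ⧸ Ideal.span {f}] M') :
    theta f p hp hex hreg K (φ ∘ₗ u) =
      (Ext.mk₀ (ModuleCat.ofHom (u.restrictScalars A))).comp (theta f p hp hex hreg F φ)
        (zero_add 1) := by
  unfold theta
  have h1 : (ModuleCat.ofHom ((φ ∘ₗ u).restrictScalars A) :
      ModuleCat.of A K ⟶ ModuleCat.of A M') =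
      ModuleCat.ofHom (u.restrictScalars A) ≫ ModuleCat.ofHom (φ.restrictScalars A) := rfl
  rw [h1, ← Ext.mk₀_comp_mk₀, Ext.comp_assoc _ _ _ (zero_add 0) (zero_add 1) (by omega)]

/-- the restriction to `A` of a presentation sequence over `B`. -/
noncomputable abbrev resSC {N F : Type u} [AddCommGroup N] [Module A N]
    [Module (A ⧸ Ideal.span {f}) N] [IsScalarTower A (A ⧸ Ideal.span {f}) N]
    [AddCommGroup F] [Module A F] [Module (A ⧸ Ideal.span {f}) F]
    [IsScalarTower A (A ⧸ Ideal.span {f}) F] (π : F →ₗ[A ⧸ Ideal.span {f}] N) :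
    ShortComplex (ModuleCat.{u} A) :=
  ShortComplex.mk (ModuleCat.ofHom ((LinearMap.ker π).subtype.restrictScalars A))
    (ModuleCat.ofHom (π.restrictScalars A)) (by
      apply ModuleCat.hom_ext
      apply LinearMap.ext
      intro x
      exact x.2)

lemma resSC_shortExact {N F : Type u} [AddCommGroup N] [Module A N]
    [Module (A ⧸ Ideal.span {f}) N] [IsScalarTower A (A ⧸ Ideal.span {f}) N]
    [AddCommGroup F] [Module A F] [Module (A ⧸ Ideal.span {f}) F]
    [IsScalarTower A (A ⧸ Ideal.span {f}) F] (π : F →ₗ[A ⧸ Ideal.span {f}] N)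
    (hπ : Function.Surjective π) : (resSC f π).ShortExact := by
  refine ModuleCat.shortComplex_shortExact _ ?_ Subtype.val_injective hπ
  intro y
  constructor
  · intro hy; exact ⟨⟨y, hy⟩, rfl⟩
  · rintro ⟨z, rfl⟩; exact z.2

/-- a presentation sequence over `B`. -/
noncomputable abbrev sB {R : Type u} [CommRing R] {N F : Type u} [AddCommGroup N] [Module R N]
    [AddCommGroup F] [Module R F] (π : F →ₗ[R] N) : ShortComplex (ModuleCat.{u} R) :=
  ShortComplex.mk (ModuleCat.ofHom (LinearMap.ker π).subtype) (ModuleCat.ofHom π) (by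
    apply ModuleCat.hom_ext
    apply LinearMap.ext
    intro x
    exact x.2)

lemma sB_shortExact {R : Type u} [CommRing R] {N F : Type u} [AddCommGroup N] [Module R N]
    [AddCommGroup F] [Module R F] (π : F →ₗ[R] N) (hπ : Function.Surjective π) :
    (sB π).ShortExact := by
  refine ModuleCat.shortComplex_shortExact _ ?_ Subtype.val_injective hπ
  intro y
  constructor
  · intro hy; exact ⟨⟨y, hy⟩, rfl⟩
  · rintro ⟨z, rfl⟩; exact z.2

end main

section rees

open Groth.Agent.S5672

variable [IsNoetherianRing A]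
  {M M' : Type u} [AddCommGroup M] [Module A M] [AddCommGroup M'] [Module A M']
  [Module (A ⧸ Ideal.span {f}) M'] [IsScalarTower A (A ⧸ Ideal.span {f}) M']
  (p : M →ₗ[A] M') (hp : Function.Surjective p)
  (hex : Function.Exact (f • (LinearMap.id : M →ₗ[A] M)) p) (hreg : IsSMulRegular M f)
  (hregA : IsSMulRegular A f)

omit [IsNoetherianRing A] in
include hregA in
lemma ext_pi_eq_zero (k j : ℕ) (hj : 2 ≤ j) (Y : ModuleCat.{u} A)
    (x : Ext (ModuleCat.of A (Fin k → A ⧸ Ideal.span {f})) Y j) : x = 0 := by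
  have := Groth.Agent.S7137.hasProjectiveDimensionLT_pi (R := A) (A ⧸ Ideal.span {f}) 2
    (pd_quot f hregA) k
  exact Ext.eq_zero_of_hasProjectiveDimensionLT x 2 hj

omit [IsNoetherianRing A] in
include hp hex hreg hregA in
/-- the base case `Ext^2_A(N, M) = 0 ↔ Ext^1_B(N, M') = 0`. -/
theorem rees_vanish_one (N : Type u) [AddCommGroup N] [Module A N]
    [Module (A ⧸ Ideal.span {f}) N] [IsScalarTower A (A ⧸ Ideal.span {f}) N]
    [Module.Finite (A ⧸ Ideal.span {f}) N] :
    Subsingleton (Ext (ModuleCat.of A N) (ModuleCat.of A M) 2) ↔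
      Subsingleton (Ext (ModuleCat.of (A ⧸ Ideal.span {f}) N)
        (ModuleCat.of (A ⧸ Ideal.span {f}) M') 1) := by
  obtain ⟨k, π, hπ⟩ := Module.Finite.exists_fin' (A ⧸ Ideal.span {f}) N
  have hSB := sB_shortExact π hπ
  have hSA := resSC_shortExact f π hπ
  have hFB : Projective (ModuleCat.of (A ⧸ Ideal.span {f}) (Fin k → A ⧸ Ideal.span {f})) :=
    (IsProjective.iff_projective (R := A ⧸ Ideal.span {f})
      (P := (Fin k → A ⧸ Ideal.span {f}))).mp inferInstance
  constructor
  · intro hA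
    refine subsingleton_of_forall_eq 0 fun y => ?_
    have hy0 : (Ext.mk₀ (sB π).g).comp y (zero_add 1) = 0 := Ext.eq_zero_of_projective _
    obtain ⟨x₁, rfl⟩ := Ext.contravariant_sequence_exact₃ hSB _ y hy0 (show 1 + 0 = 1 by omega)
    obtain ⟨φc, rfl⟩ := (Ext.mk₀_bijective
      (ModuleCat.of (A ⧸ Ideal.span {f}) (LinearMap.ker π))
      (ModuleCat.of (A ⧸ Ideal.span {f}) M')).2 x₁
    have h1 : hSA.extClass.comp (theta f p hp hex hreg (LinearMap.ker π) φc.hom)
        (show 1 + 1 = 2 by omega) = 0 := Subsingleton.elim _ _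
    obtain ⟨x₂, hx₂⟩ := Ext.contravariant_sequence_exact₁ hSA _
      (theta f p hp hex hreg (LinearMap.ker π) φc.hom) (show 1 + 1 = 2 by omega) h1
    obtain ⟨ψ, rfl⟩ := theta_surjective f p hp hex hreg (Fin k → A ⧸ Ideal.span {f}) x₂
    have h2 : theta f p hp hex hreg (LinearMap.ker π) (ψ ∘ₗ (LinearMap.ker π).subtype) =
        theta f p hp hex hreg (LinearMap.ker π) φc.hom := by
      rw [theta_comp]
      exact hx₂
    have h3 : ψ ∘ₗ (LinearMap.ker π).subtype = φc.hom := theta_injective f p hp hex hreg _ h2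
    have h4 : φc = (sB π).f ≫ ModuleCat.ofHom ψ := by
      apply ModuleCat.hom_ext
      exact h3.symm
    rw [h4, ← Ext.mk₀_comp_mk₀]
    exact hSB.extClass_comp_assoc _
  · intro hB
    refine subsingleton_of_forall_eq 0 fun y => ?_
    have hy0 : (Ext.mk₀ (resSC f π).g).comp y (zero_add 2) = 0 :=
      ext_pi_eq_zero f hregA k 2 le_rfl _ _
    obtain ⟨x₁, rfl⟩ := Ext.contravariant_sequence_exact₃ hSA _ y hy0 (show 1 + 1 = 2 by omega)
    obtain ⟨φ, rfl⟩ := theta_surjective f p hp hex hreg (LinearMap.ker π) x₁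
    have h1 : hSB.extClass.comp (Ext.mk₀ (ModuleCat.ofHom φ)) (show 1 + 0 = 1 by omega) = 0 :=
      Subsingleton.elim _ _
    obtain ⟨x₂, hx₂⟩ := Ext.contravariant_sequence_exact₁ hSB _ (Ext.mk₀ (ModuleCat.ofHom φ))
      (show 1 + 0 = 1 by omega) h1
    obtain ⟨ψc, rfl⟩ := (Ext.mk₀_bijective
      (ModuleCat.of (A ⧸ Ideal.span {f}) (Fin k → A ⧸ Ideal.span {f}))
      (ModuleCat.of (A ⧸ Ideal.span {f}) M')).2 x₂
    rw [Ext.mk₀_comp_mk₀] at hx₂
    have h2 := (Ext.mk₀_bijective _ _).1 hx₂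
    have h3 : ψc.hom ∘ₗ (LinearMap.ker π).subtype = φ := by
      have := congrArg ModuleCat.Hom.hom h2
      exact this
    rw [← h3, theta_comp]
    exact hSA.extClass_comp_assoc _

include hp hex hreg hregA in
/-- **Rees' change of rings** (vanishing form): for `i ≥ 1` and a finite `B`-module `N`,
`Ext^{i+1}_A(N, M) = 0 ↔ Ext^i_B(N, M/fM) = 0`. -/
theorem rees_vanish (i : ℕ) (hi : 1 ≤ i) :
    ∀ (N : Type u) [AddCommGroup N] [Module A N]
      [Module (A ⧸ Ideal.span {f}) N] [IsScalarTower A (A ⧸ Ideal.span {f}) N]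
      [Module.Finite (A ⧸ Ideal.span {f}) N],
    Subsingleton (Ext (ModuleCat.of A N) (ModuleCat.of A M) (i + 1)) ↔
      Subsingleton (Ext (ModuleCat.of (A ⧸ Ideal.span {f}) N)
        (ModuleCat.of (A ⧸ Ideal.span {f}) M') i) := by
  induction i, hi using Nat.le_induction with
  | base => exact fun N _ _ _ _ _ => rees_vanish_one f p hp hex hreg hregA N
  | succ i hi ih =>
    intro N _ _ _ _ _
    obtain ⟨k, π, hπ⟩ := Module.Finite.exists_fin' (A ⧸ Ideal.span {f}) N
    have hSB := sB_shortExact π hπ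
    have hSA := resSC_shortExact f π hπ
    have hFB : Projective (ModuleCat.of (A ⧸ Ideal.span {f}) (Fin k → A ⧸ Ideal.span {f})) :=
      (IsProjective.iff_projective (R := A ⧸ Ideal.span {f})
        (P := (Fin k → A ⧸ Ideal.span {f}))).mp inferInstance
    have hK : Module.Finite (A ⧸ Ideal.span {f}) (LinearMap.ker π) := inferInstance
    have e1 := subsingleton_shift_iff hSA (ModuleCat.of A M) (i + 1)
      (fun x => ext_pi_eq_zero f hregA k (i + 1) (by omega) _ x)
      (fun x => ext_pi_eq_zero f hregA k (i + 1 + 1) (by omega) _ x)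
    have e2 := subsingleton_shift_iff hSB (ModuleCat.of (A ⧸ Ideal.span {f}) M') i
      (fun x => by
        obtain ⟨j, rfl⟩ := Nat.exists_eq_succ_of_ne_zero (by omega : i ≠ 0)
        exact Ext.eq_zero_of_projective x)
      (fun x => Ext.eq_zero_of_projective x)
    exact e1.symm.trans ((ih (LinearMap.ker π)).trans e2)

end rees

end Groth.Agent.Lib.H26Rees
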