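import Groth.Agent.Lib.H14GorHom
import Groth.Agent.S0343

/-!
# Gorenstein localizations from a Gorenstein quotient by a regular element (helper12)

* `isGorensteinLocalRing_of_isLocalization_atPrime` : any localization of a Gorenstein ring at a
  prime is a Gorenstein local ring;
* `isGorensteinLocalRing_atPrime_of_quotient` : `R` Noetherian, `x` regular, `R/(x)` a Gorenstein
  ring, `P ∋ x` prime ⟹ `R_P` Gorenstein;
* `isGorensteinLocalRing_quotient_atPrime` : conversely `R_P` Gorenstein ⟹ `(R/(x))_{P/(x)}`
  Gorenstein.
-/

set_option autoImplicit false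
set_option linter.unusedSectionVars false
set_option linter.style.haveILetI false
universe u

namespace Groth.Agent.Lib.GorQuotLoc12

open IsLocalRing

theorem isGorensteinLocalRing_of_isLocalization_atPrime {R₁ S₁ : Type u} [CommRing R₁]
    [CommRing S₁] [Algebra R₁ S₁] (hR : LocCoh.IsGorensteinRing R₁) (q : Ideal R₁) [q.IsPrime]
    [IsLocalization.AtPrime S₁ q] : LocCoh.IsGorensteinLocalRing S₁ :=
  Groth.Agent.Lib.H14GorHom.isGorensteinLocalRing_of_ringEquiv
    (IsLocalization.algEquiv q.primeCompl (Localization.AtPrime q) S₁).toRingEquiv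
    (hR.isGorensteinLocalRing_localization q)

section Quot

variable {R : Type u} [CommRing R] (x : R) (P : Ideal R) [hP : P.IsPrime] (hxP : x ∈ P)

include hxP in
theorem span_le : Ideal.span {x} ≤ P := by
  rw [Ideal.span_le, Set.singleton_subset_iff]; exact hxP

include hxP in
theorem isPrime_map : (P.map (Ideal.Quotient.mk (Ideal.span {x}))).IsPrime :=
  Ideal.map_isPrime_of_surjective Ideal.Quotient.mk_surjective
    (by rw [Ideal.mk_ker]; exact span_le x P hxP)

include hxP in
theorem algebraMapSubmonoid_eq :
    haveI := isPrime_map x P hxP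
    Algebra.algebraMapSubmonoid (R ⧸ Ideal.span {x}) P.primeCompl =
      (P.map (Ideal.Quotient.mk (Ideal.span {x}))).primeCompl := by
  haveI := isPrime_map x P hxP
  ext z
  constructor
  · rintro ⟨r, hr, rfl⟩
    intro hmem
    exact hr ((Ideal.mem_quotient_iff_mem (span_le x P hxP)).1 hmem)
  · intro hz
    obtain ⟨r, rfl⟩ := Ideal.Quotient.mk_surjective z
    refine ⟨r, ?_, rfl⟩
    intro hr
    exact hz ((Ideal.mem_quotient_iff_mem (span_le x P hxP)).2 hr)

include hxP in
/-- `R_P/(x)` is the localization of `R/(x)` at `P/(x)`. -/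
theorem isLocalization_quotient :
    haveI := isPrime_map x P hxP
    IsLocalization.AtPrime
      (Localization.AtPrime P ⧸ (Ideal.span {x}).map (algebraMap R (Localization.AtPrime P)))
      (P.map (Ideal.Quotient.mk (Ideal.span {x}))) := by
  haveI := isPrime_map x P hxP
  have h : IsLocalization (Algebra.algebraMapSubmonoid (R ⧸ Ideal.span {x}) P.primeCompl)
      (Localization.AtPrime P ⧸ (Ideal.span {x}).map (algebraMap R (Localization.AtPrime P))) :=
    inferInstance
  rw [algebraMapSubmonoid_eq x P hxP] at h
  exact h

theorem map_span_singleton :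
    (Ideal.span {x}).map (algebraMap R (Localization.AtPrime P)) =
      Ideal.span {algebraMap R (Localization.AtPrime P) x} := by
  rw [Ideal.map_span, Set.image_singleton]

variable [IsNoetherianRing R] (hreg : IsSMulRegular R x)

include hxP hreg in
theorem isGorensteinLocalRing_atPrime_iff :
    LocCoh.IsGorensteinLocalRing (Localization.AtPrime P) ↔
      LocCoh.IsGorensteinLocalRing
        (Localization.AtPrime P ⧸ Ideal.span {algebraMap R (Localization.AtPrime P) x}) := by
  have hmem : algebraMap R (Localization.AtPrime P) x ∈ maximalIdeal (Localization.AtPrime P) :=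
    (IsLocalization.AtPrime.to_map_mem_maximal_iff (Localization.AtPrime P) P x).2 hxP
  have hreg' : IsSMulRegular (Localization.AtPrime P) (algebraMap R (Localization.AtPrime P) x) :=
    hreg.of_flat
  exact Groth.Agent.S0343.result (Localization.AtPrime P) _ hmem hreg'

include hxP hreg in
/-- If `R/(x)` is Gorenstein, `x` regular, then `R_P` is Gorenstein for every prime `P ∋ x`. -/
theorem isGorensteinLocalRing_atPrime_of_quotient
    (hG : LocCoh.IsGorensteinRing (R ⧸ Ideal.span {x})) :
    LocCoh.IsGorensteinLocalRing (Localization.AtPrime P) := by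
  rw [isGorensteinLocalRing_atPrime_iff x P hxP hreg, ← map_span_singleton]
  haveI := isPrime_map x P hxP
  haveI := isLocalization_quotient x P hxP
  exact isGorensteinLocalRing_of_isLocalization_atPrime hG
    (P.map (Ideal.Quotient.mk (Ideal.span {x})))

end Quot

end Groth.Agent.Lib.GorQuotLoc12
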