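import Groth.Agent.Lib.H14CMQuot
import Groth.Agent.Lib.CMRingEquiv96
import Groth.Agent.Lib.GorQuotLoc12

/-!
# Cohen–Macaulay localizations from a Cohen–Macaulay quotient by a regular element (helper12)

* `isCMLocalRing_of_quotient_regular` : `S` Noetherian local, `x ∈ 𝔪` regular, `S/(x)` CM ⟹ `S` CM;
* `isCMLocalRing_atPrime_of_quotient` : `R` Noetherian, `x` regular, `R/(x)` a CM ring, `P ∋ x`
  prime ⟹ `R_P` CM;
* `isCohenMacaulayRing_quotient_span_singleton` : `R` CM ring, `x` regular ⟹ `R/(x)` CM ring.
-/

set_option autoImplicit false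
set_option linter.unusedSectionVars false
set_option linter.style.haveILetI false
universe u

namespace Groth.Agent.Lib.CMQuotLoc12

open IsLocalRing LocCoh Module Groth.Agent.Lib.H8CM Pointwise

/-- If `S/(x)` is Cohen–Macaulay for a regular element `x` of the maximal ideal, so is `S`. -/
theorem isCMLocalRing_of_quotient_regular (S : Type u) [CommRing S] [IsLocalRing S]
    [IsNoetherianRing S] {x : S} (hx : x ∈ maximalIdeal S) (reg : IsSMulRegular S x)
    (h : IsCohenMacaulayLocalRing (S ⧸ Ideal.span {x})) : IsCohenMacaulayLocalRing S := by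
  haveI : IsLocalHom (algebraMap S (S ⧸ Ideal.span {x})) :=
    IsLocalHom.of_surjective _ Ideal.Quotient.mk_surjective
  have h2 : IsCohenMacaulayModule S (S ⧸ (Ideal.span {x} : Ideal S)) := by
    have h3 := h.supportDim_eq_depth
    rw [IsCohenMacaulayModule, supportDim_quotient_eq_ringKrullDim,
      ← supportDim_self_eq_ringKrullDim, h3,
      Groth.Agent.Lib.H8DepthBC.depth_eq_depth_of_isLocalHom (A := S) (B := S ⧸ Ideal.span {x})]
  have hsub : x • (⊤ : Submodule S S) = (Ideal.span {x} : Ideal S) := by
    rw [← Submodule.ideal_span_singleton_smul]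
    simp
  have h1 : IsCohenMacaulayModule S (QuotSMulTop x S) :=
    isCM_of_equiv (Submodule.quotEquivOfEq _ _ hsub).symm h2
  exact isCMLocalRing_of_isCM_self (isCM_of_quotSMulTop hx reg h1)

theorem isCMLocalRing_of_isLocalization_atPrime {R₁ S₁ : Type u} [CommRing R₁]
    [CommRing S₁] [Algebra R₁ S₁] (hR : IsCohenMacaulayRing R₁) (q : Ideal R₁) [q.IsPrime]
    [IsLocalization.AtPrime S₁ q] : IsCohenMacaulayLocalRing S₁ := by
  haveI := hR.isCohenMacaulayLocalRing_localization q
  exact Groth.Agent.Lib.CMRingEquiv96.isCohenMacaulayLocalRing_of_ringEquiv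
    (IsLocalization.algEquiv q.primeCompl (Localization.AtPrime q) S₁).toRingEquiv

section Quot

open Groth.Agent.Lib.GorQuotLoc12

variable {R : Type u} [CommRing R] [IsNoetherianRing R] (x : R) (hreg : IsSMulRegular R x)

include hreg in
/-- If `R/(x)` is a CM ring, `x` regular, then `R_P` is CM for every prime `P ∋ x`. -/
theorem isCMLocalRing_atPrime_of_quotient (P : Ideal R) [hP : P.IsPrime] (hxP : x ∈ P)
    (hG : IsCohenMacaulayRing (R ⧸ Ideal.span {x})) :
    IsCohenMacaulayLocalRing (Localization.AtPrime P) := by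
  have hmem : algebraMap R (Localization.AtPrime P) x ∈ maximalIdeal (Localization.AtPrime P) :=
    (IsLocalization.AtPrime.to_map_mem_maximal_iff (Localization.AtPrime P) P x).2 hxP
  have hreg' : IsSMulRegular (Localization.AtPrime P) (algebraMap R (Localization.AtPrime P) x) :=
    hreg.of_flat
  apply isCMLocalRing_of_quotient_regular (Localization.AtPrime P) hmem hreg'
  rw [← map_span_singleton]
  haveI := isPrime_map x P hxP
  haveI := isLocalization_quotient x P hxP
  exact isCMLocalRing_of_isLocalization_atPrime hG (P.map (Ideal.Quotient.mk (Ideal.span {x})))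

include hreg in
/-- The quotient of a CM ring by a regular element is a CM ring. -/
theorem isCohenMacaulayRing_quotient_span_singleton (hR : IsCohenMacaulayRing R) :
    IsCohenMacaulayRing (R ⧸ Ideal.span {x}) := by
  refine ⟨fun q hq => ?_⟩
  set P := q.comap (Ideal.Quotient.mk (Ideal.span {x})) with hP
  haveI : P.IsPrime := Ideal.comap_isPrime _ _
  have hxP : x ∈ P := by
    rw [hP, Ideal.mem_comap]
    have : (Ideal.Quotient.mk (Ideal.span {x})) x = 0 :=
      Ideal.Quotient.eq_zero_iff_mem.mpr (Ideal.subset_span rfl)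
    rw [this]; exact q.zero_mem
  have hmem : algebraMap R (Localization.AtPrime P) x ∈ maximalIdeal (Localization.AtPrime P) :=
    (IsLocalization.AtPrime.to_map_mem_maximal_iff (Localization.AtPrime P) P x).2 hxP
  have hreg' : IsSMulRegular (Localization.AtPrime P) (algebraMap R (Localization.AtPrime P) x) :=
    hreg.of_flat
  haveI := hR.isCohenMacaulayLocalRing_localization P
  haveI := Groth.Agent.Lib.H14CMQuot.isCMLocalRing_quotient_of_regular (Localization.AtPrime P)
    hmem hreg' _ (map_span_singleton x P)
  exact Groth.Agent.Lib.CMRingEquiv96.isCohenMacaulayLocalRing_of_ringEquiv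
    (Groth.Agent.Lib.H14CMQuot.localizationQuotientEquiv (Ideal.span {x}) q).symm

end Quot

end Groth.Agent.Lib.CMQuotLoc12
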