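import Groth.Agent.Lib.CMQuotLoc12

/-!
# Cohen–Macaulayness along a surjection with principal regular kernel (helper12)

`φ : R → G` surjective with kernel `(x)`, `x` regular, `R` Noetherian, `p` a prime of `G`.  Then
`R_{φ⁻¹ p}` is Cohen–Macaulay iff `G_p` is.
-/

set_option autoImplicit false
set_option linter.unusedSectionVars false
set_option linter.style.haveILetI false
universe u

namespace Groth.Agent.Lib.CMQuotLoc12

open IsLocalRing LocCoh

variable {R G : Type u} [CommRing R] [CommRing G] (φ : R →+* G) (hφ : Function.Surjective φ)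
  (x : R) (hker : RingHom.ker φ = Ideal.span {x}) (p : Ideal G) [hp : p.IsPrime]

include hφ in
theorem map_primeCompl_comap : (p.comap φ).primeCompl.map φ = p.primeCompl := by
  ext z
  constructor
  · rintro ⟨r, hr, rfl⟩
    exact hr
  · intro hz
    obtain ⟨r, rfl⟩ := hφ z
    exact ⟨r, hz, rfl⟩

include hφ hker in
/-- `R_P/(x)` is the localization of `G` at `p`, where `P = φ⁻¹ p`. -/
theorem nonempty_quotient_equiv :
    Nonempty ((Localization.AtPrime (p.comap φ) ⧸
        Ideal.span {algebraMap R (Localization.AtPrime (p.comap φ)) x}) ≃+*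
      Localization.AtPrime p) := by
  set P := p.comap φ with hP
  set S := Localization.AtPrime P
  set J : Ideal S := Ideal.span {algebraMap R S x} with hJ
  let g : S →+* S ⧸ J := Ideal.Quotient.mk J
  have hle : RingHom.ker φ ≤ RingHom.ker (g.comp (algebraMap R S)) := by
    rw [hker, Ideal.span_le, Set.singleton_subset_iff]
    change g (algebraMap R S x) = 0
    exact Ideal.Quotient.eq_zero_iff_mem.2 (Ideal.subset_span rfl)
  let ψ : G →+* S ⧸ J := RingHom.liftOfSurjective φ hφ ⟨g.comp (algebraMap R S), hle⟩
  have hψ : ψ.comp φ = g.comp (algebraMap R S) :=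
    RingHom.liftOfRightInverse_comp _ _ _ _
  letI : Algebra G (S ⧸ J) := ψ.toAlgebra
  have H : g.comp (algebraMap R S) = (algebraMap G (S ⧸ J)).comp φ := hψ.symm
  have H' : RingHom.ker g ≤ (RingHom.ker φ).map (algebraMap R S) := by
    rw [Ideal.mk_ker, hker, Ideal.map_span, Set.image_singleton]
  have h1 : IsLocalization (P.primeCompl.map φ) (S ⧸ J) :=
    IsLocalization.of_surjective P.primeCompl S φ hφ g Ideal.Quotient.mk_surjective H H'
  rw [map_primeCompl_comap φ hφ p] at h1
  exact ⟨(IsLocalization.algEquiv p.primeCompl (S ⧸ J) (Localization.AtPrime p)).toRingEquiv⟩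

variable [IsNoetherianRing R] (hreg : IsSMulRegular R x)

include hφ hker hreg in
theorem isCMLocalRing_comap_iff :
    IsCohenMacaulayLocalRing (Localization.AtPrime (p.comap φ)) ↔
      IsCohenMacaulayLocalRing (Localization.AtPrime p) := by
  obtain ⟨e⟩ := nonempty_quotient_equiv φ hφ x hker p
  have hxP : x ∈ p.comap φ := by
    rw [Ideal.mem_comap]
    have : x ∈ RingHom.ker φ := by rw [hker]; exact Ideal.subset_span rfl
    rw [RingHom.mem_ker] at this
    rw [this]; exact p.zero_mem
  have hmem : algebraMap R (Localization.AtPrime (p.comap φ)) x ∈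
      maximalIdeal (Localization.AtPrime (p.comap φ)) :=
    (IsLocalization.AtPrime.to_map_mem_maximal_iff _ (p.comap φ) x).2 hxP
  have hreg' : IsSMulRegular (Localization.AtPrime (p.comap φ))
      (algebraMap R (Localization.AtPrime (p.comap φ)) x) := hreg.of_flat
  constructor
  · intro h
    haveI := Groth.Agent.Lib.H14CMQuot.isCMLocalRing_quotient_of_regular
      (Localization.AtPrime (p.comap φ)) hmem hreg' _ rfl
    exact Groth.Agent.Lib.CMRingEquiv96.isCohenMacaulayLocalRing_of_ringEquiv e
  · intro h
    apply isCMLocalRing_of_quotient_regular (Localization.AtPrime (p.comap φ)) hmem hreg'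
    exact Groth.Agent.Lib.CMRingEquiv96.isCohenMacaulayLocalRing_of_ringEquiv e.symm

end Groth.Agent.Lib.CMQuotLoc12
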