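import Mathlib
import Groth.Prelude.Def_GSzCSA
import Groth.Agent.Lib.CSAPeriodIndex
import Groth.Agent.Lib.CSABrArith
import Groth.Agent.Lib.CSAIndexArith
import Groth.Agent.S0201

/-!
# Period divides index: consequences

helper16.  `splits_tpow_of_division`, `splits_tpow_of_matrix_division`, `splits_tpow_of_isIndex`
(the `d`-fold tensor power of an algebra of index `d` splits), `splits_tpow_finrank_of_splits`
(`Br(K|k)` is killed by `[K:k]`), `isPeriod_dvd_isIndex`.
-/

universe u v w

open scoped TensorProduct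

namespace Groth.Agent.Lib.CSAPeriodIndex

open Groth.Agent.Lib.CSABrArith Groth.Agent.Lib.CSAIndexArith Groth.Agent.Lib.CSA

section Apps

variable (k : Type u) [Field k]

/-- a central division algebra of dimension `d²` has split `d`-th tensor power -/
theorem splits_tpow_of_division (D : Type v) [DivisionRing D] [Algebra k D]
    [Algebra.IsCentral k D] [FiniteDimensional k D] (d : ℕ) (hd : Module.finrank k D = d ^ 2) :
    Curves.Splits k (⨂[k] _ : Fin d, D) k := by
  obtain ⟨K, _, _, hfd, hgal, n, hn, ⟨φ⟩⟩ := Groth.Agent.S0201.result k D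
  have h1 : Module.finrank K (K ⊗[k] D) = Module.finrank k D := Module.finrank_baseChange
  have h2 : n ^ 2 = d ^ 2 := by
    rw [← hd, ← h1, φ.toLinearEquiv.finrank_eq, Module.finrank_matrix]
    simp [sq]
  have h3 : n = d := Nat.pow_left_injective (by norm_num) h2
  subst h3
  exact splits_tpow_of_galois hn φ

variable {k}

/-- S7738 without the infinite hypothesis -/
theorem splits_tpow_of_matrix_division {A : Type v} [Ring A] [Algebra k A] [Algebra.IsCentral k A]
    [IsSimpleRing A] [FiniteDimensional k A]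
    {D : Type w} [DivisionRing D] [Algebra k D] [Algebra.IsCentral k D] [FiniteDimensional k D]
    {m : ℕ} (e : A ≃ₐ[k] Matrix (Fin m) (Fin m) D) (d : ℕ) (hd : Module.finrank k D = d ^ 2) :
    Curves.Splits k (⨂[k] _ : Fin d, A) k := by
  have hm : m ≠ 0 := by
    rintro rfl
    exact not_subsingleton A e.toEquiv.subsingleton
  have hD := splits_tpow_of_division k D d hd
  have hbr : BrEq k A D := (BrEq.of_algEquiv e).trans (brEq_matrix m hm)
  rw [splits_tpow_iff_brEq] at hD ⊢
  exact (brEq_tpow_congr k A hbr d).trans hD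

theorem splits_tpow_of_isIndex {A : Type v} [Ring A] [Algebra k A] [Algebra.IsCentral k A]
    [IsSimpleRing A] [FiniteDimensional k A] {d : ℕ} (hd : CSAGal.IsIndex k A d) :
    Curves.Splits k (⨂[k] _ : Fin d, A) k := by
  obtain ⟨hd0, m, D, _, _, hm, hdim, ⟨e⟩⟩ := hd
  have : Algebra.IsCentral k D := isCentral_of_matrix_algEquiv hm.ne' e
  have : FiniteDimensional k D := Module.finite_of_finrank_pos (by rw [hdim]; positivity)
  exact splits_tpow_of_matrix_division e d hdim

/-- the period divides the index -/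
theorem isPeriod_dvd_isIndex {A : Type v} [Ring A] [Algebra k A] [Algebra.IsCentral k A]
    [IsSimpleRing A] [FiniteDimensional k A] {d e : ℕ} (hd : CSAGal.IsIndex k A d)
    (he : CSAGal.IsPeriod k A e) : e ∣ d :=
  (splits_tpow_iff_dvd k A he d).mp (splits_tpow_of_isIndex hd)

/-- `Br(K|k)` is killed by `[K:k]` -/
theorem splits_tpow_finrank_of_splits (K : Type v) [Field K] [Algebra k K]
    [FiniteDimensional k K] [IsGalois k K]
    {A : Type w} [Ring A] [Algebra k A] [Algebra.IsCentral k A] [IsSimpleRing A]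
    [FiniteDimensional k A] (hA : Curves.Splits k A K) :
    Curves.Splits k (⨂[k] _ : Fin (Module.finrank k K), A) k := by
  obtain ⟨n, hn, ⟨e⟩⟩ := hA
  obtain ⟨B, hR, hAlg, hC, hS, hF, ι, a, b, ha, hb, ⟨e0⟩, hdimB⟩ := exists_brauer_of_splits hn e
  obtain ⟨φ⟩ := splits_of_subfield ι hdimB
  have hB := splits_tpow_of_galois (Module.finrank_pos (R := k) (M := K)).ne' φ
  have hbr : BrEq k A B := ⟨a, b, ha, hb, ⟨e0⟩⟩
  rw [splits_tpow_iff_brEq] at hB ⊢
  exact (brEq_tpow_congr k A hbr _).trans hB

end Apps

end Groth.Agent.Lib.CSAPeriodIndex
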