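import Mathlib
import Groth.Prelude.Def_GSzCSA
import Groth.Agent.Lib.CSAPeriodIndex2

/-!
# Period and index have the same prime factors

helper16.  Base change of tensor powers (`brEq_baseChange_tpow`, `splits_baseChange_tpow`),
fixed fields of Sylow subgroups (`exists_sylow_fixedField`) and
`prime_dvd_of_splits_tpow`: if `A` has index `d`, `A^{⊗ e}` is split and `p ∣ d` is prime then
`p ∣ e`; `isIndex_dvd_pow`: `d ∣ e ^ (d - 1)`.
-/

universe u v w

open scoped TensorProduct

namespace Groth.Agent.Lib.CSAPeriodIndex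

open Groth.Agent.Lib.CSABrArith Groth.Agent.Lib.CSAIndexArith Groth.Agent.Lib.CSA
  Groth.Agent.Lib.CSATpow

section BaseChangeTpow

variable (k : Type u) [Field k] (F : Type v) [Field F] [Algebra k F]
  (A : Type w) [Ring A] [Algebra k A]

/-- base change commutes with tensor powers, up to Brauer equivalence -/
theorem brEq_baseChange_tpow (e : ℕ) :
    BrEq F (F ⊗[k] (⨂[k] _ : Fin e, A)) (⨂[F] _ : Fin e, (F ⊗[k] A)) := by
  induction e with
  | zero =>
    have e1 : F ⊗[k] (⨂[k] _ : Fin 0, A) ≃ₐ[F] F ⊗[k] k :=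
      Algebra.TensorProduct.congr AlgEquiv.refl (tpowZeroEquiv k A)
    have e2 : F ⊗[k] k ≃ₐ[F] F := Algebra.TensorProduct.rid k F F
    exact BrEq.of_algEquiv ((e1.trans e2).trans (tpowZeroEquiv F (F ⊗[k] A)).symm)
  | succ e ih =>
    have e1 : F ⊗[k] (⨂[k] _ : Fin (e + 1), A) ≃ₐ[F] F ⊗[k] ((⨂[k] _ : Fin e, A) ⊗[k] A) :=
      Algebra.TensorProduct.congr AlgEquiv.refl (tpowSuccEquiv k A e)
    have e2 := distribAlg k F (⨂[k] _ : Fin e, A) A
    have h3 := ih.tensor_right (F ⊗[k] A)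
    have e4 := (tpowSuccEquiv F (F ⊗[k] A) e).symm
    exact (BrEq.of_algEquiv (e1.trans e2)).trans (h3.trans (BrEq.of_algEquiv e4))

variable [Algebra.IsCentral k A] [IsSimpleRing A] [FiniteDimensional k A]

theorem isSimpleRing_baseChange : IsSimpleRing (F ⊗[k] A) := isSimpleRing_tensor

variable {k A}

/-- a split tensor power stays split after base change -/
theorem splits_baseChange_tpow {e : ℕ} (h : Curves.Splits k (⨂[k] _ : Fin e, A) k) :
    Curves.Splits F (⨂[F] _ : Fin e, (F ⊗[k] A)) F := by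
  haveI : IsSimpleRing (F ⊗[k] A) := isSimpleRing_baseChange k F A
  haveI : Algebra.IsCentral F (F ⊗[k] A) := isCentral_baseChange
  obtain ⟨h1, h2, h3, -⟩ := tpow_csa k A e
  have hk : BrEq k (⨂[k] _ : Fin e, A) k := brEq_of_splits h
  obtain ⟨N, hN, ⟨φ⟩⟩ : Curves.Splits k (⨂[k] _ : Fin e, A) F := splits_of_brEq hk splits_self
  have h4 : BrEq F (F ⊗[k] (⨂[k] _ : Fin e, A)) F :=
    (BrEq.of_algEquiv φ).trans (brEq_matrix N hN)
  rw [splits_tpow_iff_brEq]
  exact (brEq_baseChange_tpow k F A e).symm.trans h4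

end BaseChangeTpow

section Sylow

variable (k : Type u) [Field k] (K : Type v) [Field K] [Algebra k K]
  [FiniteDimensional k K] [IsGalois k K]

/-- the fixed field of a Sylow `p`-subgroup of the Galois group -/
theorem exists_sylow_fixedField (p : ℕ) [hp : Fact p.Prime] :
    ∃ F : IntermediateField k K, ¬ p ∣ Module.finrank k F ∧ ∃ r : ℕ, Module.finrank F K = p ^ r := by
  let P : Sylow p (K ≃ₐ[k] K) := default
  refine ⟨IntermediateField.fixedField (P : Subgroup (K ≃ₐ[k] K)), ?_, ?_⟩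
  · have h1 := IntermediateField.finrank_fixedField_eq_card (P : Subgroup (K ≃ₐ[k] K))
    have h2 := Module.finrank_mul_finrank k
      (IntermediateField.fixedField (P : Subgroup (K ≃ₐ[k] K))) K
    have h3 : Nat.card (K ≃ₐ[k] K) = Module.finrank k K := IsGalois.card_aut_eq_finrank k K
    have h4 := (P : Subgroup (K ≃ₐ[k] K)).index_mul_card
    have h5 : Module.finrank k (IntermediateField.fixedField (P : Subgroup (K ≃ₐ[k] K)))
        = (P : Subgroup (K ≃ₐ[k] K)).index := by
      have hpos : 0 < Nat.card (P : Subgroup (K ≃ₐ[k] K)) := Nat.card_pos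
      apply Nat.eq_of_mul_eq_mul_right hpos
      rw [h4, h3, ← h2, h1]
    rw [h5]
    exact P.not_dvd_index
  · obtain ⟨r, hr⟩ := P.2.exists_card_eq
    exact ⟨r, by rw [IntermediateField.finrank_fixedField_eq_card]; exact hr⟩

end Sylow

section Cancel

variable (k : Type u) [Field k] (F : Type v) [Field F] [Algebra k F]
  (K : Type w) [Field K] [Algebra k K] [Algebra F K] [IsScalarTower k F K]
  (A : Type*) [Ring A] [Algebra k A]

/-- `K ⊗[F] (F ⊗[k] A) ≃ K ⊗[k] A` for a non-commutative algebra `A` -/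
noncomputable def cancelBaseChangeAlg : K ⊗[F] (F ⊗[k] A) ≃ₐ[K] K ⊗[k] A :=
  AlgEquiv.symm <| AlgEquiv.ofLinearEquiv
    (TensorProduct.AlgebraTensorModule.cancelBaseChange k F K K A).symm
    (by simp [Algebra.TensorProduct.one_def]) <|
      LinearMap.map_mul_of_map_mul_tmul (fun _ _ _ _ ↦ by simp)

end Cancel

section Period

variable (k : Type u) [Field k] (A : Type v) [Ring A] [Algebra k A]
  [Algebra.IsCentral k A] [IsSimpleRing A] [FiniteDimensional k A]

/-- a period exists as soon as some positive tensor power splits -/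
theorem exists_isPeriod_of_splits {e : ℕ} (he : 0 < e)
    (h : Curves.Splits k (⨂[k] _ : Fin e, A) k) : ∃ q : ℕ, CSAGal.IsPeriod k A q := by
  classical
  have hex : ∃ j : ℕ, 0 < j ∧ Curves.Splits k (⨂[k] _ : Fin j, A) k := ⟨e, he, h⟩
  refine ⟨Nat.find hex, (Nat.find_spec hex).1, (Nat.find_spec hex).2, ?_⟩
  intro e' he' hlt hs
  exact Nat.find_min hex hlt ⟨he', hs⟩

/-- every central simple algebra has a period -/
theorem exists_isPeriod : ∃ q : ℕ, CSAGal.IsPeriod k A q := by
  obtain ⟨d, hd⟩ := exists_isIndex (k := k) A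
  exact exists_isPeriod_of_splits k A hd.1 (splits_tpow_of_isIndex hd)

/-- the exponents of split tensor powers are closed under gcd -/
theorem splits_tpow_gcd {a b : ℕ} (ha : Curves.Splits k (⨂[k] _ : Fin a, A) k)
    (hb : Curves.Splits k (⨂[k] _ : Fin b, A) k) :
    Curves.Splits k (⨂[k] _ : Fin (Nat.gcd a b), A) k := by
  obtain ⟨q, hq⟩ := exists_isPeriod k A
  rw [splits_tpow_iff_dvd k A hq] at ha hb ⊢
  exact Nat.dvd_gcd ha hb

end Period

section Primes

variable {k : Type u} [Field k] {A : Type v} [Ring A] [Algebra k A]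
  [Algebra.IsCentral k A] [IsSimpleRing A] [FiniteDimensional k A]

/-- auxiliary form of `prime_dvd_of_splits_tpow` with the Sylow fixed field as a plain type -/
theorem prime_dvd_aux {d : ℕ} (hd : CSAGal.IsIndex k A d) {e : ℕ}
    (hsplit : Curves.Splits k (⨂[k] _ : Fin e, A) k) {p : ℕ} (hp : p.Prime) (hpe : ¬ p ∣ e)
    (K : Type w) [Field K] [Algebra k K] {n : ℕ} (hn : n ≠ 0)
    (φ : K ⊗[k] A ≃ₐ[K] Matrix (Fin n) (Fin n) K)
    (F : Type w) [Field F] [Algebra k F] [Algebra F K] [IsScalarTower k F K]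
    [FiniteDimensional k F] [FiniteDimensional F K] [IsGalois F K]
    (r : ℕ) (hF2 : Module.finrank F K = p ^ r) : d ∣ Module.finrank k F := by
  haveI : IsSimpleRing (F ⊗[k] A) := isSimpleRing_baseChange k F A
  haveI : Algebra.IsCentral F (F ⊗[k] A) := isCentral_baseChange
  have hAFK : Curves.Splits F (F ⊗[k] A) K := ⟨n, hn, ⟨(cancelBaseChangeAlg k F K A).trans φ⟩⟩
  have hB1 : Curves.Splits F (⨂[F] _ : Fin (p ^ r), (F ⊗[k] A)) F := by
    rw [← hF2]
    exact splits_tpow_finrank_of_splits K hAFK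
  have hB2 : Curves.Splits F (⨂[F] _ : Fin e, (F ⊗[k] A)) F := splits_baseChange_tpow F hsplit
  have hcop : Nat.gcd e (p ^ r) = 1 :=
    Nat.Coprime.pow_right r ((Nat.Prime.coprime_iff_not_dvd hp).mpr hpe).symm
  have hB3 := splits_tpow_gcd F (F ⊗[k] A) hB2 hB1
  rw [hcop] at hB3
  have hB4 : BrEq F (F ⊗[k] A) F :=
    (brEq_tpow_one F (F ⊗[k] A)).symm.trans ((splits_tpow_iff_brEq F (F ⊗[k] A) 1).mp hB3)
  obtain ⟨N, hN, ⟨ψ⟩⟩ := Groth.Agent.Lib.CSABrArith.splits_of_brEq hB4
  have hAF : Curves.Splits k A F :=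
    ⟨N, hN, ⟨(Algebra.TensorProduct.lid F (F ⊗[k] A)).symm.trans ψ⟩⟩
  exact isIndex_dvd_of_splits hd F hAF

/-- **Period and index have the same prime factors.** -/
theorem prime_dvd_of_splits_tpow {d : ℕ} (hd : CSAGal.IsIndex k A d) {e : ℕ}
    (hsplit : Curves.Splits k (⨂[k] _ : Fin e, A) k) {p : ℕ} (hp : p.Prime) (hpd : p ∣ d) :
    p ∣ e := by
  by_contra hpe
  obtain ⟨K, _, _, hfd, hgal, n, hn, ⟨φ⟩⟩ := Groth.Agent.S0201.result k A
  haveI := Fact.mk hp
  obtain ⟨F, hF1, r, hF2⟩ := exists_sylow_fixedField k K p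
  have := prime_dvd_aux hd hsplit hp hpe K hn φ F r hF2
  exact hF1 (hpd.trans this)

/-- the index divides a power of any exponent killing the class -/
theorem isIndex_dvd_pow {d : ℕ} (hd : CSAGal.IsIndex k A d) {e : ℕ}
    (hsplit : Curves.Splits k (⨂[k] _ : Fin e, A) k) (he : 0 < e) : d ∣ e ^ (d - 1) := by
  have hd0 : d ≠ 0 := hd.1.ne'
  rw [← Nat.factorization_prime_le_iff_dvd hd0 (pow_ne_zero _ he.ne')]
  intro p hp
  rw [Nat.factorization_pow, Finsupp.smul_apply, smul_eq_mul]
  by_cases hpd : p ∣ d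
  · have hpe : p ∣ e := prime_dvd_of_splits_tpow hd hsplit hp hpd
    have h1 : 1 ≤ e.factorization p := (hp.dvd_iff_one_le_factorization he.ne').mp hpe
    have h2 : d.factorization p < d := Nat.factorization_lt p hd0
    calc d.factorization p ≤ (d - 1) * 1 := by omega
      _ ≤ (d - 1) * e.factorization p := Nat.mul_le_mul_left _ h1
  · rw [Nat.factorization_eq_zero_of_not_dvd hpd]
    exact Nat.zero_le _

end Primes

section IsIndexOf

variable {k : Type u} [Field k] {A : Type v} [Ring A] [Algebra k A] [Nontrivial A]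

theorem isIndex_of_algEquiv {D : Type v} [DivisionRing D] [Algebra k D] [FiniteDimensional k D]
    {m : ℕ} (iso : A ≃ₐ[k] Matrix (Fin m) (Fin m) D) {d : ℕ} (hd : Module.finrank k D = d ^ 2) :
    CSAGal.IsIndex k A d := by
  have hm : m ≠ 0 := by
    rintro rfl
    exact not_subsingleton A iso.toEquiv.subsingleton
  have hd0 : 0 < d := by
    have : 0 < Module.finrank k D := Module.finrank_pos
    rw [hd] at this
    exact Nat.pos_of_ne_zero (fun h => by simp [h] at this)
  exact ⟨hd0, m, D, inferInstance, inferInstance, Nat.pos_of_ne_zero hm, hd, ⟨iso⟩⟩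

end IsIndexOf

end Groth.Agent.Lib.CSAPeriodIndex
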