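import Mathlib.LinearAlgebra.Matrix.Vec
import Mathlib.LinearAlgebra.Matrix.Kronecker
import Mathlib.LinearAlgebra.Matrix.Charpoly.Coeff
import Mathlib.LinearAlgebra.Charpoly.ToMatrix
import Mathlib.LinearAlgebra.Charpoly.BaseChange
import Mathlib.LinearAlgebra.Trace
import Mathlib.LinearAlgebra.Determinant
import Mathlib.LinearAlgebra.Dimension.Constructions
import Mathlib.LinearAlgebra.FreeModule.Finite.Matrix
import Mathlib.RingTheory.TensorProduct.Basic
import Mathlib.RingTheory.Norm.Defs
import Mathlib.RingTheory.Trace.Defs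
import Mathlib.Algebra.Algebra.Bilinear

/-!
# Reduced norm / trace helper library (helper55)

Left multiplication on a matrix algebra and on a split algebra:
* `charpoly_mulLeft`, `det_mulLeft`, `trace_mulLeft` : for `M : Matrix m m R`, left multiplication by
  `M` on `Matrix m m R` has charpoly `M.charpoly ^ card m`, det `M.det ^ card m`, trace `card m • tr M`.
* `charpoly_one_kronecker`, `charpoly_kronecker_one`.
* `baseChange_mulLeft`, `conj_mulLeft_algEquiv`.
* `charpoly_map`, `det_map`, `trace_map` : for `φ : K ⊗[k] A ≃ₐ[K] Matrix (Fin m) (Fin m) K`, the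
  charpoly / det / trace of left multiplication by `a` on `A` over `k`, mapped to `K`.
* `size_eq` : `m = n` if `finrank k A = n ^ 2`.
* `isUnit_of_det_ne_zero`.
-/

set_option autoImplicit false
universe u v w

namespace Groth.Agent.Lib.RedNorm

open Matrix Kronecker Polynomial

section Mat

variable {R : Type*} [CommRing R] {m l : Type*} [Fintype m] [DecidableEq m] [Fintype l] [DecidableEq l]

/-- Vectorization as a linear equivalence. -/
def vecEquiv (R : Type*) [CommRing R] (m : Type*) : Matrix m m R ≃ₗ[R] (m × m → R) where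
  toFun := vec
  invFun f := of fun i j => f (j, i)
  map_add' _ _ := rfl
  map_smul' _ _ := rfl
  left_inv _ := rfl
  right_inv _ := rfl

lemma conj_mulLeft (M : Matrix m m R) :
    (vecEquiv R m).conj (LinearMap.mulLeft R M) = Matrix.toLin' ((1 : Matrix m m R) ⊗ₖ M) := by
  apply LinearMap.ext
  intro f
  obtain ⟨B, rfl⟩ := (vecEquiv R m).surjective f
  simp only [LinearEquiv.conj_apply_apply, LinearEquiv.symm_apply_apply, LinearMap.mulLeft_apply,
    Matrix.toLin'_apply]
  exact vec_mul_eq_mulVec M B

lemma charmatrix_one_kronecker (M : Matrix m m R) :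
    charmatrix ((1 : Matrix l l R) ⊗ₖ M) = (1 : Matrix l l R[X]) ⊗ₖ charmatrix M := by
  ext ⟨i, j⟩ ⟨i', j'⟩
  simp only [charmatrix_apply, kroneckerMap_apply, one_apply, diagonal_apply, Prod.mk.injEq]
  by_cases hi : i = i' <;> by_cases hj : j = j' <;> simp [hi, hj]

lemma charmatrix_kronecker_one (M : Matrix m m R) :
    charmatrix (M ⊗ₖ (1 : Matrix l l R)) = charmatrix M ⊗ₖ (1 : Matrix l l R[X]) := by
  ext ⟨i, j⟩ ⟨i', j'⟩
  simp only [charmatrix_apply, kroneckerMap_apply, one_apply, diagonal_apply, Prod.mk.injEq]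
  by_cases hi : i = i' <;> by_cases hj : j = j' <;> simp [hi, hj]

lemma charpoly_one_kronecker (M : Matrix m m R) :
    ((1 : Matrix l l R) ⊗ₖ M).charpoly = M.charpoly ^ Fintype.card l := by
  rw [Matrix.charpoly, charmatrix_one_kronecker, det_kronecker, det_one, one_pow, one_mul,
    Matrix.charpoly]

lemma charpoly_kronecker_one (M : Matrix m m R) :
    (M ⊗ₖ (1 : Matrix l l R)).charpoly = M.charpoly ^ Fintype.card l := by
  rw [Matrix.charpoly, charmatrix_kronecker_one, det_kronecker, det_one, one_pow, mul_one,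
    Matrix.charpoly]

lemma charpoly_mulLeft (M : Matrix m m R) :
    (LinearMap.mulLeft R M).charpoly = M.charpoly ^ Fintype.card m := by
  rw [← LinearEquiv.charpoly_conj (vecEquiv R m), conj_mulLeft, Matrix.charpoly_toLin',
    charpoly_one_kronecker]

lemma det_mulLeft (M : Matrix m m R) :
    LinearMap.det (LinearMap.mulLeft R M) = M.det ^ Fintype.card m := by
  have := LinearMap.det_conj (LinearMap.mulLeft R M) (vecEquiv R m)
  rw [← this]
  have h2 := conj_mulLeft M
  rw [LinearEquiv.conj_apply, LinearMap.comp_assoc] at h2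
  rw [h2, LinearMap.det_toLin', det_kronecker, det_one, one_pow, one_mul]

lemma trace_mulLeft (M : Matrix m m R) :
    LinearMap.trace R _ (LinearMap.mulLeft R M) = Fintype.card m • M.trace := by
  rw [← LinearMap.trace_conj' (LinearMap.mulLeft R M) (vecEquiv R m), conj_mulLeft,
    Matrix.trace_toLin'_eq, trace_kronecker, trace_one, nsmul_eq_mul]

end Mat

open scoped TensorProduct

section BaseChange

variable (k : Type u) (K : Type w) (A : Type v) [Field k] [Field K] [Algebra k K] [Ring A] [Algebra k A]

lemma baseChange_mulLeft (a : A) :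
    (LinearMap.mulLeft k a).baseChange K = LinearMap.mulLeft K ((1 : K) ⊗ₜ[k] a) := by
  apply TensorProduct.AlgebraTensorModule.curry_injective
  ext x
  simp [Algebra.TensorProduct.tmul_mul_tmul]

variable {K} {B C : Type*} [Ring B] [Algebra K B] [Ring C] [Algebra K C]

lemma conj_mulLeft_algEquiv (φ : B ≃ₐ[K] C) (x : B) :
    φ.toLinearEquiv.conj (LinearMap.mulLeft K x) = LinearMap.mulLeft K (φ x) := by
  apply LinearMap.ext
  intro y
  simp [LinearEquiv.conj_apply]

end BaseChange

section Main

variable {k : Type u} {K : Type w} {A : Type v} [Field k] [Field K] [Algebra k K] [Ring A]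
  [Algebra k A] [FiniteDimensional k A] {m : ℕ}
  (φ : K ⊗[k] A ≃ₐ[K] Matrix (Fin m) (Fin m) K) (a : A)

theorem charpoly_map :
    (LinearMap.mulLeft k a).charpoly.map (algebraMap k K) = (φ ((1 : K) ⊗ₜ[k] a)).charpoly ^ m := by
  rw [← LinearMap.charpoly_baseChange, baseChange_mulLeft,
    ← LinearEquiv.charpoly_conj φ.toLinearEquiv, conj_mulLeft_algEquiv, charpoly_mulLeft,
    Fintype.card_fin]

theorem det_map :
    algebraMap k K (LinearMap.det (LinearMap.mulLeft k a)) = (φ ((1 : K) ⊗ₜ[k] a)).det ^ m := by
  rw [← LinearMap.det_baseChange, baseChange_mulLeft,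
    ← LinearMap.det_conj _ φ.toLinearEquiv]
  have := conj_mulLeft_algEquiv φ ((1 : K) ⊗ₜ[k] a)
  rw [LinearEquiv.conj_apply, LinearMap.comp_assoc] at this
  rw [this, det_mulLeft, Fintype.card_fin]

theorem trace_map :
    algebraMap k K (LinearMap.trace k A (LinearMap.mulLeft k a)) =
      m • (φ ((1 : K) ⊗ₜ[k] a)).trace := by
  rw [← LinearMap.trace_baseChange, baseChange_mulLeft,
    ← LinearMap.trace_conj' _ φ.toLinearEquiv, conj_mulLeft_algEquiv, trace_mulLeft,
    Fintype.card_fin]

include φ in
theorem size_eq (n : ℕ) (hn : Module.finrank k A = n ^ 2) : m = n := by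
  have h1 : Module.finrank K (K ⊗[k] A) = Module.finrank k A := Module.finrank_baseChange
  have h2 := φ.toLinearEquiv.finrank_eq
  rw [Module.finrank_matrix, Module.finrank_self, Fintype.card_fin, mul_one, h1, hn] at h2
  have : n ^ 2 = m ^ 2 := by rw [h2, sq]
  exact (Nat.pow_left_injective two_ne_zero this).symm

omit [FiniteDimensional k A] in
/-- An element of an algebra is a unit iff left multiplication by it is invertible. -/
theorem isUnit_of_isUnit_mulLeft (h : IsUnit (LinearMap.mulLeft k a)) : IsUnit a := by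
  obtain ⟨u, hu⟩ := h
  let g : Module.End k A := ((u⁻¹ : (Module.End k A)ˣ) : Module.End k A)
  have hug : (u : Module.End k A) * g = 1 := Units.mul_inv u
  have hgu : g * (u : Module.End k A) = 1 := Units.inv_mul u
  have h1 : ∀ x, a * g x = x := by
    intro x
    have : ((u : Module.End k A) * g) x = x := by rw [hug]; rfl
    rw [Module.End.mul_apply, hu] at this
    exact this
  have h2 : ∀ x, g (a * x) = x := by
    intro x
    have : (g * (u : Module.End k A)) x = x := by rw [hgu]; rfl
    rw [Module.End.mul_apply, hu] at this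
    exact this
  refine ⟨⟨a, g 1, h1 1, ?_⟩, rfl⟩
  have := h2 (g 1 * a)
  rw [← mul_assoc, h1 1, one_mul] at this
  have h3 := h2 1
  rw [mul_one] at h3
  rw [← this, h3]

theorem isUnit_of_det_ne_zero (h : LinearMap.det (LinearMap.mulLeft k a) ≠ 0) : IsUnit a := by
  apply isUnit_of_isUnit_mulLeft (k := k)
  rw [LinearMap.isUnit_iff_isUnit_det]
  exact isUnit_iff_ne_zero.mpr h

end Main

end Groth.Agent.Lib.RedNorm
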