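import Mathlib

/-!
# Units of exact order `d` modulo the centre in a non-division simple algebra
-/

set_option autoImplicit false

namespace Groth.Agent.Lib.CSATorsionUnit

open Polynomial

/-- If `X ^ d - 1` splits over the field `K` and `d ≠ 0` in `K`, then `K` has a primitive `d`-th
root of unity. -/
theorem exists_isPrimitiveRoot {K : Type*} [Field K] (d : ℕ) (hd : 0 < d)
    (hsplit : (X ^ d - 1 : K[X]).Splits) (hdK : (d : K) ≠ 0) : ∃ ζ : K, IsPrimitiveRoot ζ d := by
  classical
  haveI : NeZero d := ⟨hd.ne'⟩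
  rw [← card_rootsOfUnity_eq_iff_exists_isPrimitiveRoot]
  have hP : (X ^ d - 1 : K[X]) = X ^ d - C 1 := by rw [map_one]
  have hsep : (X ^ d - C (1 : K)).Separable := separable_X_pow_sub_C 1 hdK one_ne_zero
  have hnodup : (nthRoots d (1 : K)).Nodup := nodup_roots hsep
  have hcard : Multiset.card (nthRoots d (1 : K)) = d := by
    rw [hP] at hsplit
    have := hsplit.natDegree_eq_card_roots
    rw [natDegree_X_pow_sub_C] at this
    exact this.symm
  rw [Nat.card_congr (rootsOfUnityEquivNthRoots K d), Nat.card_eq_fintype_card,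
    Fintype.card_of_subtype (nthRoots d (1 : K)).toFinset (fun x => Multiset.mem_toFinset),
    Multiset.toFinset_card_of_nodup hnodup, hcard]

variable {K : Type*} [Field K] {A : Type*} [Ring A] [Algebra K A]

/-- powers of `ζ • e + (1 - e)` for an idempotent `e` -/
theorem pow_idem (e : A) (he : e * e = e) (ζ : K) (k : ℕ) :
    (ζ • e + (1 - e)) ^ k = ζ ^ k • e + (1 - e) := by
  induction k with
  | zero => simp
  | succ k ih =>
    rw [pow_succ, ih]
    have h1 : e * (1 - e) = 0 := by rw [mul_sub, mul_one, he, sub_self]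
    have h2 : (1 - e) * e = 0 := by rw [sub_mul, one_mul, he, sub_self]
    have h3 : (1 - e) * (1 - e) = 1 - e := by
      rw [sub_mul, one_mul, h1, sub_zero]
    rw [add_mul, mul_add, mul_add, smul_mul_smul_comm, he, smul_mul_assoc, h1, smul_zero,
      mul_smul_comm, h2, smul_zero, h3, ← pow_succ]
    abel

/-- A left-invertible element of a finite-dimensional algebra is a unit. -/
theorem isUnit_of_mul_eq_one [FiniteDimensional K A] (y z : A) (h : z * y = 1) : IsUnit y := by
  have hinj : Function.Injective (LinearMap.mulLeft K y) := by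
    intro a b hab
    have : z * (y * a) = z * (y * b) := congrArg (z * ·) hab
    rwa [← mul_assoc, ← mul_assoc, h, one_mul, one_mul] at this
  obtain ⟨a, ha⟩ := LinearMap.surjective_of_injective hinj 1
  have ha' : y * a = 1 := ha
  have : z = a := by
    calc z = z * (y * a) := by rw [ha', mul_one]
      _ = a := by rw [← mul_assoc, h, one_mul]
  exact ⟨⟨y, z, this ▸ ha', h⟩, rfl⟩

/-- A finite-dimensional simple algebra which is not a division algebra has a nontrivial
idempotent. -/
theorem exists_idempotent [IsSimpleRing A] [FiniteDimensional K A]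
    (hA : ∃ y : A, y ≠ 0 ∧ ¬ IsUnit y) : ∃ e : A, e * e = e ∧ e ≠ 0 ∧ e ≠ 1 := by
  obtain ⟨y, hy0, hyu⟩ := hA
  haveI : IsArtinianRing A := IsArtinianRing.of_finite K A
  obtain ⟨e, he, hspan⟩ := IsSemisimpleRing.ideal_eq_span_idempotent (Ideal.span {y} : Ideal A)
  refine ⟨e, he, ?_, ?_⟩
  · rintro rfl
    have : y ∈ (Ideal.span {(0 : A)} : Ideal A) := hspan ▸ Ideal.subset_span rfl
    rw [Ideal.span_singleton_eq_bot.mpr rfl] at this
    exact hy0 this
  · rintro rfl
    have : (1 : A) ∈ (Ideal.span {y} : Ideal A) := hspan ▸ Ideal.subset_span rfl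
    obtain ⟨z, hz⟩ := Ideal.mem_span_singleton'.mp this
    exact hyu (isUnit_of_mul_eq_one (K := K) y z hz)

/-- In a finite-dimensional simple `K`-algebra which is not a division algebra, where `K` has
a primitive `d`-th root of unity, there is a unit of exact order `d` modulo `K`. -/
theorem exists_unit_of_exact_order [IsSimpleRing A] [FiniteDimensional K A]
    (hA : ∃ y : A, y ≠ 0 ∧ ¬ IsUnit y) (d : ℕ) (hd : 0 < d) (ζ : K) (hζ : IsPrimitiveRoot ζ d) :
    ∃ x : A, IsUnit x ∧ x ^ d ∈ (algebraMap K A).range ∧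
      ∀ k : ℕ, 0 < k → k < d → x ^ k ∉ (algebraMap K A).range := by
  obtain ⟨e, he, he0, he1⟩ := exists_idempotent (K := K) hA
  have hζ0 : ζ ≠ 0 := hζ.ne_zero hd.ne'
  have h1 : e * (1 - e) = 0 := by rw [mul_sub, mul_one, he, sub_self]
  have h2 : (1 - e) * e = 0 := by rw [sub_mul, one_mul, he, sub_self]
  have h3 : (1 - e) * (1 - e) = 1 - e := by rw [sub_mul, one_mul, h1, sub_zero]
  have hmul : ∀ a b : K, (a • e + (1 - e)) * (b • e + (1 - e)) = (a * b) • e + (1 - e) := by
    intro a b
    rw [add_mul, mul_add, mul_add, smul_mul_smul_comm, he, smul_mul_assoc, h1, smul_zero,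
      mul_smul_comm, h2, smul_zero, h3]
    abel
  refine ⟨ζ • e + (1 - e), ?_, ?_, ?_⟩
  · refine ⟨⟨ζ • e + (1 - e), ζ⁻¹ • e + (1 - e), ?_, ?_⟩, rfl⟩
    · rw [hmul, mul_inv_cancel₀ hζ0, one_smul]; abel
    · rw [hmul, inv_mul_cancel₀ hζ0, one_smul]; abel
  · refine ⟨1, ?_⟩
    rw [pow_idem e he, hζ.pow_eq_one, one_smul, map_one]; abel
  · rintro k hk hkd ⟨c, hc⟩
    rw [pow_idem e he, Algebra.algebraMap_eq_smul_one] at hc
    have e1 : c • e = ζ ^ k • e := by
      have := congrArg (e * ·) hc
      simp only [mul_smul_comm, mul_one, mul_add, he, h1, add_zero] at this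
      exact this
    have e2 : c • (1 - e) = 1 - e := by
      have := congrArg ((1 - e) * ·) hc
      simp only [mul_smul_comm, mul_one, mul_add, h2, smul_zero, h3, zero_add] at this
      exact this
    have hc1 : c = 1 := by
      have : (c - 1) • (1 - e) = 0 := by rw [sub_smul, one_smul, e2, sub_self]
      rcases smul_eq_zero.mp this with h | h
      · exact sub_eq_zero.mp h
      · exact absurd (sub_eq_zero.mp h).symm he1
    have hck : ζ ^ k = c := by
      have : (ζ ^ k - c) • e = 0 := by rw [sub_smul, e1, sub_self]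
      rcases smul_eq_zero.mp this with h | h
      · exact sub_eq_zero.mp h
      · exact absurd h he0
    exact hζ.pow_ne_one_of_pos_of_lt hk.ne' hkd (hck.trans hc1)

end Groth.Agent.Lib.CSATorsionUnit
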