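import Mathlib

/-! Locally factorial: commutative algebra lemmas (helper82). -/

namespace Groth.Agent.Lib.LocFact82

variable {A : Type*} [CommRing A]

/-- A Noetherian local ring with a principal prime generated by a non-zero-divisor is a domain. -/
theorem isDomain_of_prime_span_nzd [IsNoetherianRing A] [IsLocalRing A] (P : Ideal A) [P.IsPrime]
    (t : A) (ht : t ∈ nonZeroDivisors A) (hP : P = Ideal.span {t}) : IsDomain A := by
  obtain ⟨Q, hQmin, hQP⟩ := Ideal.exists_minimalPrimes_le (show (⊥ : Ideal A) ≤ P from bot_le)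
  have hQprime : Q.IsPrime := hQmin.1.1
  have htQ : t ∉ Q := fun h =>
    Set.disjoint_left.mp (Ideal.disjoint_nonZeroDivisors_of_mem_minimalPrimes hQmin) h ht
  have hQ : Q ≤ Ideal.span {t} • Q := by
    intro q hq
    have hqP : q ∈ Ideal.span {t} := hP ▸ hQP hq
    obtain ⟨a, rfl⟩ := Ideal.mem_span_singleton'.mp hqP
    have ha : a ∈ Q := (hQprime.mem_or_mem hq).resolve_right htQ
    rw [mul_comm]
    exact Submodule.smul_mem_smul (Ideal.mem_span_singleton_self t) ha
  have htm : t ∈ IsLocalRing.maximalIdeal A := by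
    have : t ∈ P := hP ▸ Ideal.mem_span_singleton_self t
    exact IsLocalRing.le_maximalIdeal (Ideal.IsPrime.ne_top inferInstance) this
  have hQbot : Q = ⊥ := by
    refine Submodule.eq_bot_of_le_smul_of_le_jacobson_bot (Ideal.span {t}) Q
      (IsNoetherian.noetherian Q) hQ ?_
    rw [IsLocalRing.jacobson_eq_maximalIdeal ⊥ bot_ne_top]
    rw [Ideal.span_singleton_le_iff_mem]
    exact htm
  rw [hQbot] at hQprime
  exact IsDomain.of_bot_isPrime A

/-- A Noetherian local ring having a prime different from the maximal ideal has a prime of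
height exactly one. -/
theorem exists_height_eq_one [IsNoetherianRing A] [IsLocalRing A] (𝔭 : Ideal A) [𝔭.IsPrime]
    (h : 𝔭 ≠ IsLocalRing.maximalIdeal A) : ∃ P : Ideal A, P.IsPrime ∧ P.height = 1 := by
  classical
  have hfin : (minimalPrimes A).Finite := minimalPrimes.finite_of_isNoetherianRing A
  have hnot : ¬ ((IsLocalRing.maximalIdeal A : Ideal A) : Set A) ⊆
      ⋃ Q ∈ (hfin.toFinset : Set (Ideal A)), (Q : Set A) := by
    intro hsub
    rw [Ideal.subset_union_prime (f := fun Q : Ideal A => Q) ⊥ ⊥] at hsub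
    · obtain ⟨Q, hQ, hmQ⟩ := hsub
      rw [Set.Finite.mem_toFinset] at hQ
      have hQprime : Q.IsPrime := hQ.1.1
      have hQm : Q = IsLocalRing.maximalIdeal A :=
        le_antisymm (IsLocalRing.le_maximalIdeal hQprime.ne_top) hmQ
      have h𝔭Q : 𝔭 ≤ Q := hQm ▸ IsLocalRing.le_maximalIdeal (Ideal.IsPrime.ne_top inferInstance)
      have : Q ≤ 𝔭 := hQ.2 ⟨inferInstance, bot_le⟩ h𝔭Q
      exact h ((le_antisymm h𝔭Q this).trans hQm)
    · intro Q hQ _ _
      rw [Set.Finite.mem_toFinset] at hQ
      exact hQ.1.1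
  obtain ⟨a, ham, haQ⟩ := Set.not_subset.mp hnot
  obtain ⟨P, hPmin, hPm⟩ := Ideal.exists_minimalPrimes_le
    (show Ideal.span {a} ≤ IsLocalRing.maximalIdeal A from
      (Ideal.span_singleton_le_iff_mem _).mpr ham)
  have hPprime : P.IsPrime := hPmin.1.1
  refine ⟨P, hPprime, le_antisymm
    (Ideal.height_le_one_of_isPrincipal_of_mem_minimalPrimes (Ideal.span {a}) P hPmin) ?_⟩
  rw [Order.one_le_iff_ne_zero, Ne, Ideal.height_eq_zero_iff]
  intro hPmin'
  apply haQ
  simp only [Set.mem_iUnion]
  exact ⟨P, by simpa using hPmin', hPmin.1.2 (Ideal.mem_span_singleton_self a)⟩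

/-- A Noetherian domain in which every prime of height one is principal is factorial. -/
theorem ufm_of_height_one_principal [IsNoetherianRing A] [IsDomain A]
    (H : ∀ P : Ideal A, P.IsPrime → P.height = 1 → ∃ t, P = Ideal.span {t}) :
    UniqueFactorizationMonoid A := by
  refine UniqueFactorizationMonoid.iff_exists_prime_mem_of_isPrime.mpr fun I hI hIprime => ?_
  obtain ⟨a, haI, ha0⟩ := Submodule.exists_mem_ne_zero_of_ne_bot hI
  obtain ⟨P, hPmin, hPI⟩ := Ideal.exists_minimalPrimes_le
    (show Ideal.span {a} ≤ I from (Ideal.span_singleton_le_iff_mem _).mpr haI)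
  have hPprime : P.IsPrime := hPmin.1.1
  have haP : a ∈ P := hPmin.1.2 (Ideal.mem_span_singleton_self a)
  have hPbot : P ≠ ⊥ := fun h => ha0 (by simpa [h] using haP)
  have hP1 : P.height = 1 := by
    refine le_antisymm
      (Ideal.height_le_one_of_isPrincipal_of_mem_minimalPrimes (Ideal.span {a}) P hPmin) ?_
    rw [Order.one_le_iff_ne_zero, Ne, Ideal.height_eq_zero_iff_eq_bot]
    exact hPbot
  obtain ⟨t, ht⟩ := H P hPprime hP1
  have ht0 : t ≠ 0 := by
    rintro rfl
    exact hPbot (by simpa using ht)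
  refine ⟨t, hPI (ht ▸ Ideal.mem_span_singleton_self t), ?_⟩
  rw [← Ideal.span_singleton_prime ht0, ← ht]
  exact hPprime

/-- In a factorial domain, primes of height one are principal, generated by a nonzero element. -/
theorem exists_span_of_height_eq_one [IsDomain A] [UniqueFactorizationMonoid A] (P : Ideal A)
    [P.IsPrime] (h : P.height = 1) : ∃ t : A, t ≠ 0 ∧ P = Ideal.span {t} := by
  obtain ⟨t, htP, ht⟩ := Ideal.IsPrime.exists_mem_prime_of_ne_bot inferInstance
    (Ideal.ne_bot_of_height_eq_one h)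
  exact ⟨t, ht.ne_zero, Ideal.eq_span_singleton_of_height_eq_one h htP ht⟩

/-- A local ring with a unique prime which is reduced is a domain (in fact a field). -/
theorem isDomain_of_isReduced_of_unique_prime [IsLocalRing A] [IsReduced A]
    (h : ∀ P : Ideal A, P.IsPrime → P = IsLocalRing.maximalIdeal A) : IsDomain A := by
  have hnil : nilradical A = IsLocalRing.maximalIdeal A := by
    rw [nilradical_eq_sInf]
    refine le_antisymm (sInf_le (by exact (inferInstance : (IsLocalRing.maximalIdeal A).IsPrime)))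
      (le_sInf fun P hP => (h P hP).ge)
  have : (⊥ : Ideal A).IsPrime := by
    rw [← nilradical_eq_bot_iff.mpr inferInstance, hnil]
    infer_instance
  exact IsDomain.of_bot_isPrime A


section Scheme

open AlgebraicGeometry CategoryTheory TopologicalSpace

universe u

variable (X : Scheme.{u})

/-- The prime of `O_{X,x}` attached to a generization `ζ` of `x`: the preimage of the maximal
ideal of `O_{X,ζ}` under the specialization map. -/
noncomputable def genPrime {ζ x : X} (h : ζ ⤳ x) : Ideal (X.presheaf.stalk x) :=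
  (IsLocalRing.maximalIdeal (X.presheaf.stalk ζ)).comap (X.presheaf.stalkSpecializes h).hom

instance genPrime_isPrime {ζ x : X} (h : ζ ⤳ x) : (genPrime X h).IsPrime :=
  Ideal.comap_isPrime _ _

theorem fromSpecStalk_genPrime {ζ x : X} (h : ζ ⤳ x) :
    X.fromSpecStalk x (⟨genPrime X h, inferInstance⟩ : PrimeSpectrum (X.presheaf.stalk x)) = ζ := by
  have := Scheme.fromSpecStalk_closedPoint (X := X) (x := ζ)
  rw [← Scheme.SpecMap_stalkSpecializes_fromSpecStalk h] at this
  exact this

/-- Every prime of `O_{X,x}` comes from a generization of `x`. -/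
theorem exists_genPrime_eq (x : X) (P : Ideal (X.presheaf.stalk x)) [P.IsPrime] :
    ∃ (ζ : X) (h : ζ ⤳ x), genPrime X h = P := by
  have hmem : X.fromSpecStalk x (⟨P, inferInstance⟩ : PrimeSpectrum (X.presheaf.stalk x)) ∈
      {y | y ⤳ x} := by
    rw [← Scheme.range_fromSpecStalk]
    exact ⟨_, rfl⟩
  refine ⟨_, hmem, ?_⟩
  have h1 := fromSpecStalk_genPrime X hmem
  have := (X.fromSpecStalk x).isEmbedding.injective h1
  exact congrArg PrimeSpectrum.asIdeal this

/-- The generization is determined by its prime. -/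
theorem eq_of_genPrime_eq {ζ ζ' x : X} (h : ζ ⤳ x) (h' : ζ' ⤳ x)
    (e : genPrime X h = genPrime X h') : ζ = ζ' := by
  rw [← fromSpecStalk_genPrime X h, ← fromSpecStalk_genPrime X h']
  congr 1
  exact PrimeSpectrum.ext e

theorem genPrime_refl (x : X) :
    genPrime X (specializes_rfl : x ⤳ x) = IsLocalRing.maximalIdeal (X.presheaf.stalk x) := by
  have : X.presheaf.stalkSpecializes (specializes_rfl : x ⤳ x) = 𝟙 _ := by simp
  rw [genPrime, this]
  rfl

/-- `O_{X,ζ}` is the localization of `O_{X,x}` at the prime attached to `ζ ⤳ x`. -/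
theorem isLocalization_genPrime {ζ x : X} (h : ζ ⤳ x) :
    letI := (X.presheaf.stalkSpecializes h).hom.toAlgebra
    IsLocalization.AtPrime (X.presheaf.stalk ζ) (genPrime X h) := by
  let _ := (X.presheaf.stalkSpecializes h).hom.toAlgebra
  obtain ⟨U, hU, hxU, -⟩ := exists_isAffineOpen_mem_and_subset (U := ⊤) (x := x) (by simp)
  have hζU : ζ ∈ U := h.mem_open U.2 hxU
  let algx : Algebra Γ(X, U) (X.presheaf.stalk x) :=
    TopCat.Presheaf.algebra_section_stalk X.presheaf ⟨x, hxU⟩
  let algζ : Algebra Γ(X, U) (X.presheaf.stalk ζ) :=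
    TopCat.Presheaf.algebra_section_stalk X.presheaf ⟨ζ, hζU⟩
  have locx : IsLocalization.AtPrime (X.presheaf.stalk x) (hU.primeIdealOf ⟨x, hxU⟩).asIdeal :=
    hU.isLocalization_stalk ⟨x, hxU⟩
  have locζ : IsLocalization.AtPrime (X.presheaf.stalk ζ) (hU.primeIdealOf ⟨ζ, hζU⟩).asIdeal :=
    hU.isLocalization_stalk ⟨ζ, hζU⟩
  have htower : IsScalarTower Γ(X, U) (X.presheaf.stalk x) (X.presheaf.stalk ζ) := by
    refine IsScalarTower.of_algebraMap_eq' ?_
    change (X.presheaf.germ U ζ hζU).hom =
      (X.presheaf.stalkSpecializes h).hom.comp (X.presheaf.germ U x hxU).hom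
    rw [← CommRingCat.hom_comp, TopCat.Presheaf.germ_stalkSpecializes]
  have hle : (hU.primeIdealOf ⟨x, hxU⟩).asIdeal.primeCompl ≤
      (hU.primeIdealOf ⟨ζ, hζU⟩).asIdeal.primeCompl := by
    intro a ha
    rw [← IsLocalization.AtPrime.isUnit_to_map_iff (X.presheaf.stalk x)] at ha
    rw [← IsLocalization.AtPrime.isUnit_to_map_iff (X.presheaf.stalk ζ),
      IsScalarTower.algebraMap_apply Γ(X, U) (X.presheaf.stalk x) (X.presheaf.stalk ζ)]
    exact ha.map _
  have hloc : IsLocalization ((hU.primeIdealOf ⟨ζ, hζU⟩).asIdeal.primeCompl.map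
      (algebraMap Γ(X, U) (X.presheaf.stalk x))) (X.presheaf.stalk ζ) :=
    IsLocalization.isLocalization_of_submonoid_le (X.presheaf.stalk x) (X.presheaf.stalk ζ) _ _ hle
  have hunit : ∀ r : X.presheaf.stalk x, r ∈ (genPrime X h).primeCompl ↔
      IsUnit (algebraMap (X.presheaf.stalk x) (X.presheaf.stalk ζ) r) := by
    intro r
    change ¬ (r ∈ genPrime X h) ↔ _
    rw [genPrime, Ideal.mem_comap, IsLocalRing.mem_maximalIdeal, mem_nonunits_iff, not_not]
    rfl
  refine IsLocalization.of_le ((hU.primeIdealOf ⟨ζ, hζU⟩).asIdeal.primeCompl.map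
      (algebraMap Γ(X, U) (X.presheaf.stalk x))) (genPrime X h).primeCompl ?_
      fun r hr => (hunit r).mp hr
  rintro _ ⟨a, ha, rfl⟩
  rw [hunit, ← IsScalarTower.algebraMap_apply]
  exact (IsLocalization.AtPrime.isUnit_to_map_iff (X.presheaf.stalk ζ) _ a).mpr ha

theorem ringKrullDim_stalk_eq_height {ζ x : X} (h : ζ ⤳ x) :
    ringKrullDim (X.presheaf.stalk ζ) = (genPrime X h).height := by
  let _ := (X.presheaf.stalkSpecializes h).hom.toAlgebra
  have := isLocalization_genPrime X h
  exact IsLocalization.AtPrime.ringKrullDim_eq_height (genPrime X h) (X.presheaf.stalk ζ)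

/-- If `O_{X,x}` is a domain then so is `O_{X,ζ}` for every generization `ζ` of `x`. -/
theorem isDomain_stalk_of_specializes {ζ x : X} (h : ζ ⤳ x) [IsDomain (X.presheaf.stalk x)] :
    IsDomain (X.presheaf.stalk ζ) := by
  let _ := (X.presheaf.stalkSpecializes h).hom.toAlgebra
  have := isLocalization_genPrime X h
  exact IsLocalization.isDomain_of_le_nonZeroDivisors (R := X.presheaf.stalk x)
    (X.presheaf.stalk ζ) (Ideal.primeCompl_le_nonZeroDivisors (genPrime X h))

/-- In a locally Noetherian scheme, a point without proper generizations and without proper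
specializations is isolated. -/
theorem isOpen_singleton_of_forall_specializes [IsLocallyNoetherian X] (x : X)
    (h1 : ∀ ζ : X, ζ ⤳ x → ζ = x) (h2 : ∀ y : X, x ⤳ y → y = x) : IsOpen ({x} : Set X) := by
  obtain ⟨U, hU, hxU, -⟩ := exists_isAffineOpen_mem_and_subset (U := ⊤) (x := x) (by simp)
  have hN : IsNoetherianRing Γ(X, U) := IsLocallyNoetherian.component_noetherian ⟨U, hU⟩
  set p : PrimeSpectrum Γ(X, U) := hU.primeIdealOf ⟨x, hxU⟩ with hp
  have hpx : hU.fromSpec p = x := hU.fromSpec_primeIdealOf ⟨x, hxU⟩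
  have hinj : Function.Injective hU.fromSpec := hU.fromSpec.isOpenEmbedding.injective
  have key : ∀ q : PrimeSpectrum Γ(X, U), (q ≤ p ∨ p ≤ q) → q = p := by
    rintro q (hq | hq)
    · apply hinj
      rw [hpx]
      apply h1
      rw [← hpx]
      exact ((PrimeSpectrum.le_iff_specializes q p).mp hq).map hU.fromSpec.continuous
    · apply hinj
      rw [hpx]
      apply h2
      rw [← hpx]
      exact ((PrimeSpectrum.le_iff_specializes p q).mp hq).map hU.fromSpec.continuous
  have hopen : IsOpen ({p} : Set (PrimeSpectrum Γ(X, U))) := by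
    have hfin : (minimalPrimes Γ(X, U)).Finite := minimalPrimes.finite_of_isNoetherianRing _
    have hcompl : ({p} : Set (PrimeSpectrum Γ(X, U)))ᶜ =
        ⋃ Q ∈ (minimalPrimes Γ(X, U) \ {p.asIdeal}), PrimeSpectrum.zeroLocus (Q : Set Γ(X, U)) := by
      ext q
      simp only [Set.mem_compl_iff, Set.mem_singleton_iff, Set.mem_iUnion, Set.mem_sdiff,
        PrimeSpectrum.mem_zeroLocus, SetLike.coe_subset_coe, exists_prop]
      constructor
      · intro hq
        obtain ⟨Q, hQmin, hQq⟩ := Ideal.exists_minimalPrimes_le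
          (show (⊥ : Ideal Γ(X, U)) ≤ q.asIdeal from bot_le)
        refine ⟨Q, ⟨hQmin, ?_⟩, hQq⟩
        rintro rfl
        exact hq (key q (Or.inr hQq))
      · rintro ⟨Q, ⟨hQmin, hQp⟩, hQq⟩ rfl
        have hQprime : Q.IsPrime := hQmin.1.1
        have := key ⟨Q, hQprime⟩ (Or.inl hQq)
        exact hQp (congrArg PrimeSpectrum.asIdeal this)
    rw [← isClosed_compl_iff, hcompl]
    exact (hfin.subset Set.sdiff_subset).isClosed_biUnion fun Q _ =>
      PrimeSpectrum.isClosed_zeroLocus _
  have : ({x} : Set X) = hU.fromSpec '' {p} := by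
    ext y
    simp only [Set.mem_singleton_iff, Set.mem_image]
    constructor
    · rintro rfl
      exact ⟨p, rfl, hpx⟩
    · rintro ⟨q, rfl, rfl⟩
      exact hpx
  rw [this]
  exact hU.fromSpec.isOpenEmbedding.isOpenMap _ hopen

end Scheme

end Groth.Agent.Lib.LocFact82
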