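import Groth.Prelude.Def_Algz
import Groth.Prelude.Def_Formal

/-!
# Basic lemmas on `Formal.smulMod`, `Formal.KilledBy`, `Formal.IsCohFormal` (helper85)

* `Formal.smulModΓ_naturality`, `Formal.smulMod_naturality`: multiplication by a scalar commutes with
  every morphism of modules.
* `Formal.KilledBy.comp_eq_zero`: a map to a module killed by `J` kills `J M`.
* `Formal.IsCohFormal.epi_tr`, `Formal.IsCohFormal.exists_desc`: for a coherent formal system `G` and
  `n ≤ m`, the transition map `G_m ⟶ G_n` is an epimorphism and every map `G_m ⟶ T` with `T` killed by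
  `I^(n+1)` factors through it.
* `Algz.nonempty_iso_of_isProIsomorphic`: pro-isomorphic coherent formal systems are isomorphic.
-/

set_option autoImplicit false
universe u
open CategoryTheory CategoryTheory.Limits AlgebraicGeometry Opposite
namespace Formal
variable {A : Type u} [CommRing A] {X : Scheme.{u}} [X.Over (Spec (CommRingCat.of A))]

theorem smulModΓ_app {M : X.Modules} (r : Coh.Γtop X) (U : X.Opens) (m : Γ(M, U)) :
    (smulModΓ M r).app U m = (X.presheaf.map (homOfLE (le_top (a := U))).op r : Γ(X, U)) • m := rfl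

theorem smulModΓ_naturality {M N : X.Modules} (φ : M ⟶ N) (r : Coh.Γtop X) :
    smulModΓ M r ≫ φ = φ ≫ smulModΓ N r := by
  ext U m
  rw [Scheme.Modules.Hom.comp_app, Scheme.Modules.Hom.comp_app]
  change φ.app U ((smulModΓ M r).app U m) = (smulModΓ N r).app U (φ.app U m)
  rw [smulModΓ_app, smulModΓ_app, Scheme.Modules.Hom.app_smul]

theorem smulMod_naturality {M N : X.Modules} (φ : M ⟶ N) (a : A) :
    smulMod A M a ≫ φ = φ ≫ smulMod A N a :=
  smulModΓ_naturality φ _

theorem KilledBy.comp_eq_zero {J : Ideal A} {M T : X.Modules} (hT : KilledBy J T) (g : M ⟶ T) :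
    smulFamily J M ≫ g = 0 := by
  apply Sigma.hom_ext
  intro a
  simp only [smulFamily, colimit.ι_desc_assoc, Cofan.mk_ι_app, comp_zero]
  have := smulMod_naturality g (a : A)
  rw [this, hT a a.2, comp_zero]

theorem KilledBy.mono {J J' : Ideal A} (h : J' ≤ J) {M : X.Modules} (hM : KilledBy J M) :
    KilledBy J' M := fun a ha => hM a (h ha)

namespace IsCohFormal

variable {I : Ideal A} {G : ℕᵒᵖ ⥤ X.Modules}

theorem killedBy (hG : IsCohFormal I G) (n : ℕ) : KilledBy (I ^ (n + 1)) (G.obj (op n)) := hG.2.1 n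

theorem epi_succ (hG : IsCohFormal I G) (n : ℕ) : Epi (G.map (homOfLE (Nat.le_succ n)).op) := by
  obtain ⟨h, hiso⟩ := hG.2.2 n
  have : G.map (homOfLE (Nat.le_succ n)).op = cokernel.π _ ≫ cokernel.desc _ _ h := by simp
  rw [this]
  infer_instance

theorem epi_tr (hG : IsCohFormal I G) {n m : ℕ} (h : n ≤ m) : Epi (G.map (homOfLE h).op) := by
  induction m, h using Nat.le_induction with
  | base =>
    have : (homOfLE (le_refl n)).op = 𝟙 (op n) := rfl
    rw [this, G.map_id]; infer_instance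
  | succ m hnm ih =>
    have : (homOfLE (hnm.trans (Nat.le_succ m))).op = (homOfLE (Nat.le_succ m)).op ≫ (homOfLE hnm).op := rfl
    rw [this, G.map_comp]
    have := hG.epi_succ m
    exact epi_comp _ _

theorem exists_desc (hG : IsCohFormal I G) {n m : ℕ} (h : n ≤ m) {T : X.Modules}
    (hT : KilledBy (I ^ (n + 1)) T) (g : G.obj (op m) ⟶ T) :
    ∃ g' : G.obj (op n) ⟶ T, G.map (homOfLE h).op ≫ g' = g := by
  induction m, h using Nat.le_induction with
  | base =>
    refine ⟨g, ?_⟩
    have : (homOfLE (le_refl n)).op = 𝟙 (op n) := rfl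
    rw [this, G.map_id, Category.id_comp]
  | succ m hnm ih =>
    obtain ⟨h0, hiso⟩ := hG.2.2 m
    have hT' : KilledBy (I ^ (m + 1)) T := hT.mono (Ideal.pow_le_pow_right (by omega))
    have hz : smulFamily (I ^ (m + 1)) (G.obj (op (m + 1))) ≫ g = 0 := hT'.comp_eq_zero g
    obtain ⟨g', hg'⟩ := ih (inv (cokernel.desc _ _ h0) ≫ cokernel.desc _ g hz)
    refine ⟨g', ?_⟩
    have e : (homOfLE (hnm.trans (Nat.le_succ m))).op = (homOfLE (Nat.le_succ m)).op ≫ (homOfLE hnm).op := rfl
    rw [e, G.map_comp, Category.assoc, hg']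
    have e2 : G.map (homOfLE (Nat.le_succ m)).op = cokernel.π _ ≫ cokernel.desc _ _ h0 := by simp
    calc G.map (homOfLE (Nat.le_succ m)).op ≫ inv (cokernel.desc _ _ h0) ≫ cokernel.desc _ g hz
        = (cokernel.π _ ≫ cokernel.desc _ _ h0) ≫ inv (cokernel.desc _ _ h0) ≫ cokernel.desc _ g hz := by
          rw [← e2]
      _ = g := by rw [Category.assoc, IsIso.hom_inv_id_assoc, cokernel.π_desc]

end IsCohFormal

end Formal

namespace Algz

open Formal

variable {A : Type u} [CommRing A] {X : Scheme.{u}} [X.Over (Spec (CommRingCat.of A))]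

/-- Pro-isomorphic coherent formal systems are isomorphic (no Noetherian hypothesis needed). -/
theorem nonempty_iso_of_isProIsomorphic {I : Ideal A} {F G : ℕᵒᵖ ⥤ X.Modules}
    (hF : IsCohFormal I F) (hG : IsCohFormal I G) (h : IsProIsomorphic F G) : Nonempty (F ≅ G) := by
  obtain ⟨m, hm, hle, a₀, ha⟩ := h
  -- the components
  let a : ∀ n : ℕ, F.obj (op (m n)) ⟶ G.obj (op n) := fun n => a₀.app (op n)
  choose α hα using fun n => hF.exists_desc (hle n) (hG.killedBy n) (a n)
  have trF : ∀ {i j k : ℕ} (h₁ : i ≤ j) (h₂ : j ≤ k) {T : X.Modules} (g : F.obj (op i) ⟶ T),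
      F.map (homOfLE h₂).op ≫ F.map (homOfLE h₁).op ≫ g = F.map (homOfLE (h₁.trans h₂)).op ≫ g := by
    intro i j k h₁ h₂ T g
    rw [← Category.assoc, ← F.map_comp]; rfl
  have anat : ∀ {n k : ℕ} (h : n ≤ k),
      F.map (homOfLE (hm h)).op ≫ a n = a k ≫ G.map (homOfLE h).op := by
    intro n k h
    exact a₀.naturality (homOfLE h).op
  have αnat : ∀ {n k : ℕ} (h : n ≤ k),
      F.map (homOfLE h).op ≫ α n = α k ≫ G.map (homOfLE h).op := by
    intro n k h
    have := hF.epi_tr (hle k)
    rw [← cancel_epi (F.map (homOfLE (hle k)).op)]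
    calc F.map (homOfLE (hle k)).op ≫ F.map (homOfLE h).op ≫ α n
        = F.map (homOfLE (h.trans (hle k))).op ≫ α n := trF _ _ _
      _ = F.map (homOfLE (hm h)).op ≫ F.map (homOfLE (hle n)).op ≫ α n := (trF _ _ _).symm
      _ = F.map (homOfLE (hm h)).op ≫ a n := by rw [hα n]
      _ = a k ≫ G.map (homOfLE h).op := anat h
      _ = (F.map (homOfLE (hle k)).op ≫ α k) ≫ G.map (homOfLE h).op := by rw [hα k]
      _ = _ := Category.assoc _ _ _
  have αiso : ∀ n, IsIso (α n) := by
    intro n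
    obtain ⟨k, hk, b₀, hb₁, hb₂⟩ := ha n
    let b : G.obj (op k) ⟶ F.obj (op (m n)) := b₀
    have hb₁' : a k ≫ b = F.map (homOfLE (hm hk)).op := hb₁
    have hb₂' : b ≫ a n = G.map (homOfLE hk).op := hb₂
    obtain ⟨β, hβ⟩ := hG.exists_desc hk (hF.killedBy n) (b ≫ F.map (homOfLE (hle n)).op)
    refine ⟨β, ?_, ?_⟩
    · have := hF.epi_tr ((hk.trans (hle k)))
      rw [← cancel_epi (F.map (homOfLE (hk.trans (hle k))).op), Category.comp_id]
      calc F.map (homOfLE (hk.trans (hle k))).op ≫ α n ≫ β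
          = F.map (homOfLE (hle k)).op ≫ F.map (homOfLE hk).op ≫ α n ≫ β := (trF _ _ _).symm
        _ = F.map (homOfLE (hle k)).op ≫ (F.map (homOfLE hk).op ≫ α n) ≫ β := by
            rw [Category.assoc]
        _ = F.map (homOfLE (hle k)).op ≫ (α k ≫ G.map (homOfLE hk).op) ≫ β := by rw [αnat hk]
        _ = (F.map (homOfLE (hle k)).op ≫ α k) ≫ G.map (homOfLE hk).op ≫ β := by
            simp only [Category.assoc]
        _ = a k ≫ b ≫ F.map (homOfLE (hle n)).op := by rw [hα k, hβ]
        _ = (a k ≫ b) ≫ F.map (homOfLE (hle n)).op := (Category.assoc _ _ _).symm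
        _ = F.map (homOfLE (hm hk)).op ≫ F.map (homOfLE (hle n)).op ≫ 𝟙 _ := by
            rw [hb₁', Category.comp_id]
        _ = F.map (homOfLE ((hle n).trans (hm hk))).op ≫ 𝟙 _ := trF _ _ _
        _ = F.map (homOfLE (hk.trans (hle k))).op := Category.comp_id _
    · have := hG.epi_tr hk
      rw [← cancel_epi (G.map (homOfLE hk).op), Category.comp_id, ← Category.assoc, hβ,
        Category.assoc, hα n, hb₂']
  refine ⟨NatIso.ofComponents (fun n => @asIso _ _ _ _ (α n.unop) (αiso n.unop)) ?_⟩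
  intro k n f
  obtain ⟨k⟩ := k
  obtain ⟨n⟩ := n
  have hnk : n ≤ k := leOfHom f.unop
  have : f = (homOfLE hnk).op := Subsingleton.elim _ _
  subst this
  exact αnat hnk

end Algz
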