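import Groth.Agent.Lib.ComplMap

/-!
# Adic completions for two ideals defining the same topology (helper51)

For ideals `K ≤ 𝔯` of `A` with `𝔯 ^ c ≤ K` (`c ≥ 1`), a ring map
`tau : AdicCompletion 𝔯 A →+* AdicCompletion K A` which is a section of the canonical map
`FSch.complMap K 𝔯 (RingHom.id A)` and is compatible with the maps from `A`.
-/

set_option autoImplicit false
universe u

namespace Groth.Agent.Lib.ComplCofinal51

open Groth.Agent.Lib.ComplMap

variable {A : Type u} [CommRing A] (K 𝔯 : Ideal A) (c : ℕ) (hc : 𝔯 ^ c ≤ K)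

include hc in
theorem pow_mul_le (n : ℕ) : 𝔯 ^ (c * n) ≤ K ^ n := by
  rw [pow_mul]
  exact Ideal.pow_right_mono hc n

/-- The level maps `Â_𝔯 → A/𝔯^{cn} → A/K^n`. -/
noncomputable def tauLevel (n : ℕ) : AdicCompletion 𝔯 A →+* A ⧸ K ^ n :=
  (Ideal.Quotient.factor (pow_mul_le K 𝔯 c hc n)).comp (AdicCompletion.evalₐ 𝔯 (c * n)).toRingHom

theorem tauLevel_apply (n : ℕ) (x : AdicCompletion 𝔯 A) :
    tauLevel K 𝔯 c hc n x =
      Ideal.Quotient.factor (pow_mul_le K 𝔯 c hc n) (AdicCompletion.evalₐ 𝔯 (c * n) x) := rfl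

theorem tauLevel_compat {m n : ℕ} (hle : m ≤ n) :
    (Ideal.Quotient.factorPow K hle).comp (tauLevel K 𝔯 c hc n) = tauLevel K 𝔯 c hc m := by
  ext x
  simp only [RingHom.comp_apply, tauLevel_apply]
  rw [← factorPow_evalₐ 𝔯 (Nat.mul_le_mul_left c hle) x]
  obtain ⟨y, hy⟩ := Ideal.Quotient.mk_surjective (AdicCompletion.evalₐ 𝔯 (c * n) x)
  rw [← hy]
  simp [Ideal.Quotient.factorPow]

/-- The comparison map `Â_𝔯 → Â_K`. -/
noncomputable def tau : AdicCompletion 𝔯 A →+* AdicCompletion K A :=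
  AdicCompletion.liftRingHom K (tauLevel K 𝔯 c hc) (fun hle => tauLevel_compat K 𝔯 c hc hle)

theorem evalₐ_tau (n : ℕ) (x : AdicCompletion 𝔯 A) :
    AdicCompletion.evalₐ K n (tau K 𝔯 c hc x) =
      Ideal.Quotient.factor (pow_mul_le K 𝔯 c hc n) (AdicCompletion.evalₐ 𝔯 (c * n) x) := by
  unfold tau
  rw [AdicCompletion.evalₐ_liftRingHom]
  rfl

theorem tau_of (a : A) :
    tau K 𝔯 c hc (AdicCompletion.of 𝔯 A a) = AdicCompletion.of K A a := by
  refine AdicCompletion.ext_evalₐ fun n => ?_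
  rw [evalₐ_tau, AdicCompletion.evalₐ_of, AdicCompletion.evalₐ_of]
  simp

theorem tau_algebraMap (a : A) :
    tau K 𝔯 c hc (algebraMap A (AdicCompletion 𝔯 A) a) = algebraMap A (AdicCompletion K A) a :=
  tau_of K 𝔯 c hc a

/-- `tau` is a section of the canonical map `Â_K → Â_𝔯`. -/
theorem complMap_tau (hK : K.map (RingHom.id A) ≤ 𝔯) (hc1 : 1 ≤ c) (x : AdicCompletion 𝔯 A) :
    FSch.complMap K 𝔯 (RingHom.id A) hK (tau K 𝔯 c hc x) = x := by
  refine AdicCompletion.ext_evalₐ fun n => ?_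
  rw [evalₐ_complMap, evalₐ_tau]
  have hn : n ≤ c * n := Nat.le_mul_of_pos_left n hc1
  rw [← factorPow_evalₐ 𝔯 hn x]
  obtain ⟨y, hy⟩ := Ideal.Quotient.mk_surjective (AdicCompletion.evalₐ 𝔯 (c * n) x)
  rw [← hy]
  simp [Ideal.Quotient.factorPow]

end Groth.Agent.Lib.ComplCofinal51
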