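import Mathlib

/-!
# Jacobson radicals of finite algebras over semi-local Noetherian rings (helper51)

For `A₀` semi-local Noetherian and `A` a module-finite `A₀`-algebra:
`rad(A₀) A ≤ rad(A)` and `rad(A) ^ c ≤ rad(A₀) A` for some `c ≥ 1`.
-/

set_option autoImplicit false
universe u

namespace Groth.Agent.Lib.SemilocalRad51

/-- The quotient of a semi-local Noetherian ring by its Jacobson radical is Artinian. -/
theorem isArtinianRing_quotient_jacobson (A₀ : Type*) [CommRing A₀] [IsNoetherianRing A₀]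
    [Finite (MaximalSpectrum A₀)] : IsArtinianRing (A₀ ⧸ Ideal.jacobson (⊥ : Ideal A₀)) := by
  classical
  rw [isArtinianRing_iff_krullDimLE_zero, Ring.krullDimLE_zero_iff]
  intro P hP
  haveI : Fintype (MaximalSpectrum A₀) := Fintype.ofFinite _
  set Q := P.comap (Ideal.Quotient.mk (Ideal.jacobson (⊥ : Ideal A₀))) with hQ
  haveI : Q.IsPrime := Ideal.comap_isPrime _ P
  have hJQ : Ideal.jacobson (⊥ : Ideal A₀) ≤ Q := by
    intro x hx
    rw [hQ, Ideal.mem_comap, Ideal.Quotient.eq_zero_iff_mem.mpr hx]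
    exact P.zero_mem
  obtain ⟨m, hm⟩ : ∃ m : MaximalSpectrum A₀, m.asIdeal ≤ Q := by
    by_contra hcon
    push Not at hcon
    have hex : ∀ m : MaximalSpectrum A₀, ∃ x ∈ m.asIdeal, x ∉ Q := fun m =>
      Set.not_subset.mp (hcon m)
    choose x hxm hxQ using hex
    have hprod : ∏ m, x m ∈ Ideal.jacobson (⊥ : Ideal A₀) := by
      rw [Ideal.jacobson, Ideal.mem_sInf]
      rintro M ⟨-, hM⟩
      exact Ideal.prod_mem M (Finset.mem_univ (⟨M, hM⟩ : MaximalSpectrum A₀)) (hxm ⟨M, hM⟩)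
    have := hJQ hprod
    rw [Ideal.IsPrime.prod_mem_iff] at this
    obtain ⟨m, -, hm⟩ := this
    exact hxQ m hm
  have hQm : Q = m.asIdeal := (m.isMaximal.eq_of_le (Ideal.IsPrime.ne_top inferInstance) hm).symm
  have hPQ : P = Q.map (Ideal.Quotient.mk (Ideal.jacobson (⊥ : Ideal A₀))) :=
    (Ideal.map_comap_of_surjective _ Ideal.Quotient.mk_surjective P).symm
  haveI : Q.IsMaximal := hQm ▸ m.isMaximal
  rcases Ideal.map_eq_top_or_isMaximal_of_surjective
    (Ideal.Quotient.mk (Ideal.jacobson (⊥ : Ideal A₀))) Ideal.Quotient.mk_surjective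
    (inferInstance : Q.IsMaximal) with h | h
  · exact absurd (hPQ.trans h) hP.ne_top
  · rw [hPQ]; exact h

section Finite

variable (A₀ : Type*) [CommRing A₀] (A : Type*) [CommRing A] [Algebra A₀ A]

/-- `rad(A₀) A ≤ rad(A)` for an integral algebra. -/
theorem map_jacobson_le [Algebra.IsIntegral A₀ A] :
    (Ideal.jacobson (⊥ : Ideal A₀)).map (algebraMap A₀ A) ≤ Ideal.jacobson (⊥ : Ideal A) := by
  rw [Ideal.map_le_iff_le_comap]
  intro x hx
  rw [Ideal.mem_comap, Ideal.jacobson, Ideal.mem_sInf]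
  rintro M ⟨-, hM⟩
  haveI := hM
  have hmax : (M.comap (algebraMap A₀ A)).IsMaximal :=
    Ideal.isMaximal_comap_of_isIntegral_of_isMaximal M
  have : x ∈ M.comap (algebraMap A₀ A) := by
    rw [Ideal.jacobson, Ideal.mem_sInf] at hx
    exact hx ⟨bot_le, hmax⟩
  exact this

/-- `rad(A) ^ c ≤ rad(A₀) A` for some `c ≥ 1`, when `A₀` is semi-local Noetherian and `A` is
module-finite over `A₀`. -/
theorem exists_pow_jacobson_le [IsNoetherianRing A₀] [Finite (MaximalSpectrum A₀)]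
    [Module.Finite A₀ A] :
    ∃ c : ℕ, 1 ≤ c ∧ (Ideal.jacobson (⊥ : Ideal A)) ^ c ≤
      (Ideal.jacobson (⊥ : Ideal A₀)).map (algebraMap A₀ A) := by
  set I₀ := Ideal.jacobson (⊥ : Ideal A₀) with hI₀
  set K := I₀.map (algebraMap A₀ A) with hK
  haveI : IsArtinianRing (A₀ ⧸ I₀) := isArtinianRing_quotient_jacobson A₀
  haveI : IsArtinianRing (A ⧸ K) := IsArtinianRing.of_finite (A₀ ⧸ I₀) (A ⧸ K)
  obtain ⟨n, hn⟩ := IsArtinianRing.isNilpotent_jacobson_bot (R := A ⧸ K)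
  have hmap : (Ideal.jacobson (⊥ : Ideal A)).map (Ideal.Quotient.mk K) ≤
      Ideal.jacobson (⊥ : Ideal (A ⧸ K)) := by
    rw [Ideal.map_le_iff_le_comap]
    intro x hx
    rw [Ideal.mem_comap, Ideal.jacobson, Ideal.mem_sInf]
    rintro N ⟨-, hN⟩
    haveI := hN
    have hmax : (N.comap (Ideal.Quotient.mk K)).IsMaximal :=
      Ideal.comap_isMaximal_of_surjective _ Ideal.Quotient.mk_surjective
    rw [Ideal.jacobson, Ideal.mem_sInf] at hx
    exact hx ⟨bot_le, hmax⟩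
  refine ⟨n + 1, by omega, ?_⟩
  have h1 : ((Ideal.jacobson (⊥ : Ideal A)) ^ (n + 1)).map (Ideal.Quotient.mk K) ≤ ⊥ := by
    rw [Ideal.map_pow]
    calc (Ideal.map (Ideal.Quotient.mk K) (Ideal.jacobson ⊥)) ^ (n + 1)
        ≤ (Ideal.jacobson (⊥ : Ideal (A ⧸ K))) ^ (n + 1) := Ideal.pow_right_mono hmap _
      _ ≤ (Ideal.jacobson (⊥ : Ideal (A ⧸ K))) ^ n := Ideal.pow_le_pow_right (Nat.le_succ n)
      _ = ⊥ := by rw [hn]; rfl
  rw [le_bot_iff, Ideal.map_eq_bot_iff_le_ker, Ideal.mk_ker] at h1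
  exact h1

end Finite

end Groth.Agent.Lib.SemilocalRad51
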