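import Groth.Agent.Lib.ComplQuotient96
import Groth.Agent.Lib.ComplCofinal51
import Groth.Agent.Lib.SemilocalRad51
import Groth.Prelude.Def_EGA4b

/-!
# The radical-adic completion of a finite algebra over a Noetherian local ring (helper51)

For a Noetherian local ring `A` and a finite `A`-algebra `C`, the completion of `C` for the topology
of its Jacobson radical is `C ⊗_A Â`, as rings.  We only record the consequence for reducedness:
`isReduced_cpl_iff`.
-/

set_option autoImplicit false
universe u

namespace Groth.Agent.Lib.ComplFiniteAlg51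

open Groth.Agent.Lib Groth.Agent.Lib.ComplMap TensorProduct

section Cofinal

variable {A : Type u} [CommRing A] (K 𝔯 : Ideal A) (c : ℕ) (hc : 𝔯 ^ c ≤ K)

/-- `tau` is also a retraction of the canonical map `Â_K → Â_𝔯`. -/
theorem tau_complMap (hK : K.map (RingHom.id A) ≤ 𝔯) (hc1 : 1 ≤ c) (y : AdicCompletion K A) :
    ComplCofinal51.tau K 𝔯 c hc (FSch.complMap K 𝔯 (RingHom.id A) hK y) = y := by
  refine AdicCompletion.ext_evalₐ fun n => ?_
  rw [ComplCofinal51.evalₐ_tau, evalₐ_complMap]
  have hn : n ≤ c * n := Nat.le_mul_of_pos_left n hc1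
  rw [← factorPow_evalₐ K hn y]
  obtain ⟨t, ht⟩ := Ideal.Quotient.mk_surjective (AdicCompletion.evalₐ K (c * n) y)
  rw [← ht]
  simp [Ideal.Quotient.factorPow]

end Cofinal

instance finite_maximalSpectrum_of_isLocalRing (A : Type*) [CommRing A] [IsLocalRing A] :
    Finite (MaximalSpectrum A) := by
  haveI : Subsingleton (MaximalSpectrum A) := ⟨fun M M' => MaximalSpectrum.ext
    ((IsLocalRing.eq_maximalIdeal M.isMaximal).trans
      (IsLocalRing.eq_maximalIdeal M'.isMaximal).symm)⟩
  infer_instance

variable (A : Type u) [CommRing A] [IsNoetherianRing A] [IsLocalRing A]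
  (C : Type u) [CommRing C] [Algebra A C] [Module.Finite A C]

/-- The completion of a finite `A`-algebra `C` for its radical topology is reduced iff `C ⊗_A Â`
is. -/
theorem isReduced_cpl_iff :
    IsReduced (AdicCompletion (Ideal.jacobson (⊥ : Ideal C)) C) ↔ IsReduced (C ⊗[A] EGA4.Cpl A) := by
  set m := IsLocalRing.maximalIdeal A with hm
  set 𝔯 := Ideal.jacobson (⊥ : Ideal C) with h𝔯
  set K := m.map (algebraMap A C) with hK
  haveI : Algebra.IsIntegral A C := Algebra.IsIntegral.of_finite A C
  have hm' : m = Ideal.jacobson (⊥ : Ideal A) := (IsLocalRing.jacobson_eq_maximalIdeal ⊥ bot_ne_top).symm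
  have hK𝔯 : K ≤ 𝔯 := by
    have := SemilocalRad51.map_jacobson_le A C
    rwa [← hm'] at this
  obtain ⟨c, hc1, hc⟩ : ∃ c : ℕ, 1 ≤ c ∧ 𝔯 ^ c ≤ K := by
    have := SemilocalRad51.exists_pow_jacobson_le A C
    rwa [← hm'] at this
  letI alg : Algebra (AdicCompletion m A) (AdicCompletion K C) :=
    (FSch.complMap m K (algebraMap A C) le_rfl).toAlgebra
  have halg : ∀ y, algebraMap (AdicCompletion m A) (AdicCompletion K C) y =
      FSch.complMap m K (algebraMap A C) le_rfl y := fun y => rfl
  haveI tower : IsScalarTower A (AdicCompletion m A) (AdicCompletion K C) :=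
    IsScalarTower.of_algebraMap_eq (fun x => by
      rw [halg, AdicCompletion.algebraMap_apply, AdicCompletion.algebraMap_apply]
      exact (complMap_algebraMap m K (algebraMap A C) le_rfl x).symm)
  haveI hpush : Algebra.IsPushout A C (AdicCompletion m A) (AdicCompletion K C) :=
    ComplQuotient96.isPushout m C K rfl rfl
  let e : C ⊗[A] AdicCompletion m A ≃ₐ[C] AdicCompletion K C :=
    Algebra.IsPushout.equiv A C (AdicCompletion m A) (AdicCompletion K C)
  have hKid : K.map (RingHom.id C) ≤ 𝔯 := by rw [Ideal.map_id]; exact hK𝔯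
  let κ : AdicCompletion K C →+* AdicCompletion 𝔯 C := FSch.complMap K 𝔯 (RingHom.id C) hKid
  let τ : AdicCompletion 𝔯 C →+* AdicCompletion K C := ComplCofinal51.tau K 𝔯 c hc
  have hκτ : ∀ x, κ (τ x) = x := ComplCofinal51.complMap_tau K 𝔯 c hc hKid hc1
  have hτκ : ∀ y, τ (κ y) = y := tau_complMap K 𝔯 c hc hKid hc1
  have hκinj : Function.Injective κ := Function.LeftInverse.injective hτκ
  have hτinj : Function.Injective τ := Function.LeftInverse.injective hκτ
  constructor
  · intro h
    haveI : IsReduced (AdicCompletion K C) := isReduced_of_injective κ hκinj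
    exact isReduced_of_injective e.toRingEquiv e.injective
  · intro h
    haveI : IsReduced (AdicCompletion K C) :=
      isReduced_of_injective e.symm.toRingEquiv e.symm.injective
    exact isReduced_of_injective τ hτinj

end Groth.Agent.Lib.ComplFiniteAlg51
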