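import Groth.Agent.Lib.H87Japanese
import Mathlib.RingTheory.Algebraic.Integral
import Mathlib.RingTheory.IntegralClosure.IsIntegralClosure.Basic

set_option autoImplicit false
universe u

namespace Groth.Agent.Lib.H87Japanese2
open Groth.Agent.Lib.H87Japanese

theorem isFractionRing_of_forall_exists_div {A L : Type*} [CommRing A] [Field L] [Algebra A L]
    (hinj : Function.Injective (algebraMap A L))
    (hsurj : ∀ x : L, ∃ a b : A, b ≠ 0 ∧ x * algebraMap A L b = algebraMap A L a) :
    IsFractionRing A L := by
  have : IsDomain A := hinj.isDomain (algebraMap A L)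
  refine ⟨⟨?_, ?_, ?_⟩⟩
  · rintro ⟨y, hy⟩
    have : y ≠ 0 := nonZeroDivisors.ne_zero hy
    exact IsUnit.mk0 _ ((map_ne_zero_iff _ hinj).mpr this)
  · intro x
    obtain ⟨a, b, hb, h⟩ := hsurj x
    exact ⟨⟨a, ⟨b, mem_nonZeroDivisors_of_ne_zero hb⟩⟩, h⟩
  · intro x y h
    exact ⟨1, by rw [hinj h]⟩

theorem isN2_of_forall_finite_isN1 (S : Type u) [CommRing S] [IsDomain S]
    (h : ∀ (S' : Type u) [CommRing S'] [IsDomain S'] [Algebra S S'] [Module.Finite S S'],
      Function.Injective (algebraMap S S') → CAlg.IsN1 S') : CAlg.IsN2 S := by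
  intro L _ _ _ _ hfin
  classical
  have hinjSL : Function.Injective (algebraMap S L) := by
    rw [IsScalarTower.algebraMap_eq S (FractionRing S) L]
    exact (algebraMap (FractionRing S) L).injective.comp (IsFractionRing.injective S _)
  have : Algebra.IsAlgebraic (FractionRing S) L := Algebra.IsAlgebraic.of_finite _ L
  have : Algebra.IsAlgebraic S (FractionRing S) :=
    IsLocalization.isAlgebraic (FractionRing S) (nonZeroDivisors S)
  have : Algebra.IsAlgebraic S L := Algebra.IsAlgebraic.trans S (FractionRing S) L
  obtain ⟨s, hs⟩ := (hfin : Module.Finite (FractionRing S) L).fg_top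
  have hy : ∀ b : L, ∃ y : S, y ≠ 0 ∧ IsIntegral S (y • b) := fun b =>
    (Algebra.IsAlgebraic.isAlgebraic b).exists_integral_multiple
  choose y hy0 hyint using hy
  have htfin : ((fun b => y b • b) '' (s : Set L)).Finite := s.finite_toSet.image _
  have htint : ∀ x ∈ ((fun b => y b • b) '' (s : Set L)), IsIntegral S x := by
    rintro _ ⟨b, -, rfl⟩; exact hyint b
  have hfinS' : Module.Finite S (Algebra.adjoin S ((fun b => y b • b) '' (s : Set L))) :=
    Algebra.finite_adjoin_of_finite_of_isIntegral htfin htint
  generalize hS' : Algebra.adjoin S ((fun b => y b • b) '' (s : Set L)) = S' at hfinS'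
  have hinjS' : Function.Injective (algebraMap S S') := by
    intro a b hab
    apply hinjSL
    exact congrArg Subtype.val hab
  have hN1 : CAlg.IsN1 S' := h S' hinjS'
  have hfrac : IsFractionRing S' L := by
    refine isFractionRing_of_forall_exists_div Subtype.val_injective ?_
    intro x
    have hx : x ∈ Submodule.span (FractionRing S) (s : Set L) := by rw [hs]; trivial
    refine Submodule.span_induction ?_ ?_ ?_ ?_ hx
    · intro b hb
      refine ⟨⟨y b • b, ?_⟩, algebraMap S S' (y b), ?_, ?_⟩
      · rw [← hS']; exact Algebra.subset_adjoin ⟨b, hb, rfl⟩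
      · exact (map_ne_zero_iff _ hinjS').mpr (hy0 b)
      · change b * algebraMap S L (y b) = y b • b
        rw [Algebra.smul_def, mul_comm]
    · exact ⟨0, 1, one_ne_zero, by simp⟩
    · rintro x1 x2 _ _ ⟨a1, b1, hb1, h1⟩ ⟨a2, b2, hb2, h2⟩
      refine ⟨a1 * b2 + a2 * b1, b1 * b2, mul_ne_zero hb1 hb2, ?_⟩
      simp only [map_mul, map_add]
      rw [← h1, ← h2]; ring
    · rintro k x1 _ ⟨a1, b1, hb1, h1⟩
      obtain ⟨c, d, hd, rfl⟩ := IsFractionRing.div_surjective (A := S) k
      have hd0 : d ≠ 0 := nonZeroDivisors.ne_zero hd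
      refine ⟨algebraMap S S' c * a1, algebraMap S S' d * b1,
        mul_ne_zero ((map_ne_zero_iff _ hinjS').mpr hd0) hb1, ?_⟩
      have hdL : algebraMap S L d ≠ 0 := (map_ne_zero_iff _ hinjSL).mpr hd0
      simp only [map_mul]
      rw [← h1, Algebra.smul_def, map_div₀, ← IsScalarTower.algebraMap_apply,
        ← IsScalarTower.algebraMap_apply]
      change algebraMap S L c / algebraMap S L d * x1 * (algebraMap S L d * algebraMap S' L b1)
        = algebraMap S L c * (x1 * algebraMap S' L b1)
      field_simp
  have h1 : Module.Finite S' (integralClosure S' L) := finite_of_isN1 S' hN1 L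
  have h2 : Module.Finite S (integralClosure S' L) := Module.Finite.trans S' _
  have : Algebra.IsIntegral S S' := Algebra.IsIntegral.of_finite S S'
  have heq : (Subalgebra.toSubmodule (integralClosure S' L)).restrictScalars S
      = Subalgebra.toSubmodule (integralClosure S L) := by
    ext x
    constructor
    · intro hx; exact isIntegral_trans x (show IsIntegral S' x from hx)
    · intro hx; exact (show IsIntegral S x from hx).tower_top
  have h3 : Module.Finite S
      ((Subalgebra.toSubmodule (integralClosure S' L)).restrictScalars S) := h2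
  exact Module.Finite.equiv (LinearEquiv.ofEq _ _ heq)

end Groth.Agent.Lib.H87Japanese2
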