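import Mathlib
import Groth.Prelude.Def_Found
import Groth.Agent.Lib.AnalyticN1_98
import Groth.Agent.Lib.H87Japanese2

/-!
A Noetherian local ring all of whose finite local domain extensions are analytically unramified
is Nagata (Stacks 0BI2-ish, direction (3) ⇒ (1)).

Key construction: for a finite `R`-algebra `T` over a local ring `R`, the subalgebra
`locSub R T = R·1 + 𝔪_R T` is local, finite over `R`, and (if `𝔪_R T ≠ 0`) has the same fraction
field as `T`.
-/

set_option autoImplicit false
set_option maxHeartbeats 400000
universe u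

namespace Groth.Agent.Lib.NagataLocalCrit98

open IsLocalRing Groth.Agent.Lib

section locSub

variable (R : Type u) [CommRing R] [IsLocalRing R] (T : Type u) [CommRing T] [Algebra R T]

/-- The subalgebra `R·1 + 𝔪_R T` of `T`. -/
def locSub : Subalgebra R T where
  carrier := {x | ∃ r : R, x - algebraMap R T r ∈ (maximalIdeal R).map (algebraMap R T)}
  mul_mem' := by
    rintro x y ⟨r, hr⟩ ⟨r', hr'⟩
    refine ⟨r * r', ?_⟩
    have : x * y - algebraMap R T (r * r') =
        (x - algebraMap R T r) * y + algebraMap R T r * (y - algebraMap R T r') := by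
      rw [map_mul]; ring
    rw [this]
    exact Ideal.add_mem _ (Ideal.mul_mem_right _ _ hr) (Ideal.mul_mem_left _ _ hr')
  add_mem' := by
    rintro x y ⟨r, hr⟩ ⟨r', hr'⟩
    refine ⟨r + r', ?_⟩
    have : x + y - algebraMap R T (r + r') =
        (x - algebraMap R T r) + (y - algebraMap R T r') := by
      rw [map_add]; ring
    rw [this]; exact Ideal.add_mem _ hr hr'
  algebraMap_mem' := fun r => ⟨r, by rw [sub_self]; exact Ideal.zero_mem _⟩

variable {R T}

theorem mem_locSub_of_mem_map {x : T} (hx : x ∈ (maximalIdeal R).map (algebraMap R T)) :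
    x ∈ locSub R T :=
  ⟨0, by rwa [map_zero, sub_zero]⟩

theorem map_le_jacobson [Module.Finite R T] :
    (maximalIdeal R).map (algebraMap R T) ≤ (⊥ : Ideal T).jacobson := by
  rw [Ideal.jacobson]
  apply le_sInf
  rintro M ⟨-, hM⟩
  haveI := hM
  haveI : Algebra.IsIntegral R T := Algebra.IsIntegral.of_finite R T
  have h1 : (M.comap (algebraMap R T)).IsMaximal :=
    Ideal.isMaximal_comap_of_isIntegral_of_isMaximal M
  rw [Ideal.map_le_iff_le_comap]
  exact (IsLocalRing.eq_maximalIdeal h1).ge

theorem isUnit_one_add [Module.Finite R T] {j : T}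
    (hj : j ∈ (maximalIdeal R).map (algebraMap R T)) (h1 : 1 + j ∈ locSub R T) :
    IsUnit (⟨1 + j, h1⟩ : locSub R T) := by
  have hjac : j ∈ (⊥ : Ideal T).jacobson := map_le_jacobson hj
  have hu : IsUnit (j * 1 + 1) := Ideal.mem_jacobson_bot.mp hjac 1
  obtain ⟨u, hu⟩ := hu.exists_right_inv
  have hu' : (1 + j) * u = 1 := by
    have h0 : (1 + j) * u = (j * 1 + 1) * u := by ring
    rw [h0, hu]
  have humem : u ∈ locSub R T := by
    refine ⟨1, ?_⟩
    have : u - algebraMap R T 1 = -(j * u) := by rw [map_one]; linear_combination hu'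
    rw [this]
    exact (Ideal.neg_mem_iff _).mpr (Ideal.mul_mem_right _ _ hj)
  exact IsUnit.of_mul_eq_one ⟨u, humem⟩ (Subtype.ext hu')

theorem isLocalRing_locSub [Nontrivial T] [Module.Finite R T] : IsLocalRing (locSub R T) := by
  apply IsLocalRing.of_isUnit_or_isUnit_one_sub_self
  rintro ⟨x, r, hx⟩
  by_cases hr : r ∈ maximalIdeal R
  · right
    have hxJ : x ∈ (maximalIdeal R).map (algebraMap R T) := by
      have : x = (x - algebraMap R T r) + algebraMap R T r := by ring
      rw [this]; exact Ideal.add_mem _ hx (Ideal.mem_map_of_mem _ hr)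
    have hmem : 1 + -x ∈ locSub R T :=
      Subalgebra.add_mem _ (Subalgebra.one_mem _) (Subalgebra.neg_mem _ ⟨r, hx⟩)
    have e : (1 : locSub R T) - ⟨x, r, hx⟩ = ⟨1 + -x, hmem⟩ := Subtype.ext (sub_eq_add_neg _ _)
    rw [e]
    exact isUnit_one_add ((Ideal.neg_mem_iff _).mpr hxJ) hmem
  · left
    have hru : IsUnit r := by rwa [mem_maximalIdeal, mem_nonunits_iff, not_not] at hr
    obtain ⟨v, hv⟩ := hru.exists_left_inv
    have hj : algebraMap R T v * (x - algebraMap R T r) ∈ (maximalIdeal R).map (algebraMap R T) :=
      Ideal.mul_mem_left _ _ hx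
    have hmem : 1 + algebraMap R T v * (x - algebraMap R T r) ∈ locSub R T :=
      Subalgebra.add_mem _ (Subalgebra.one_mem _) (mem_locSub_of_mem_map hj)
    have e : (⟨x, r, hx⟩ : locSub R T) = algebraMap R (locSub R T) r *
        ⟨1 + algebraMap R T v * (x - algebraMap R T r), hmem⟩ := by
      apply Subtype.ext
      show x = algebraMap R T r * (1 + algebraMap R T v * (x - algebraMap R T r))
      have hvr : algebraMap R T r * algebraMap R T v = 1 := by
        rw [← map_mul, mul_comm, hv, map_one]
      linear_combination (-(x - algebraMap R T r)) * hvr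
    rw [e]
    exact (hru.map (algebraMap R (locSub R T))).mul (isUnit_one_add hj hmem)

theorem isLocalHom_locSub [Nontrivial T] [Module.Finite R T] :
    IsLocalHom (algebraMap R (locSub R T)) := by
  constructor
  intro a ha
  by_contra hna
  have ham : a ∈ maximalIdeal R := by rwa [mem_maximalIdeal, mem_nonunits_iff]
  have h1 : algebraMap R T a ∈ (⊥ : Ideal T).jacobson :=
    map_le_jacobson (Ideal.mem_map_of_mem _ ham)
  have h2 : IsUnit (algebraMap R T a) := ha.map (locSub R T).val
  have h3 : (⊥ : Ideal T).jacobson = ⊤ := Ideal.eq_top_of_isUnit_mem _ h1 h2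
  rw [Ideal.jacobson_eq_top_iff] at h3
  exact bot_ne_top h3

theorem isField_of_map_eq_zero [IsDomain T] [Module.Finite R T]
    (h : ∀ r ∈ maximalIdeal R, algebraMap R T r = 0) : IsField T := by
  haveI : Algebra.IsIntegral R T := Algebra.IsIntegral.of_finite R T
  have hker : (⊥ : Ideal T).comap (algebraMap R T) = maximalIdeal R := by
    apply le_antisymm
    · apply IsLocalRing.le_maximalIdeal
      rw [Ne, Ideal.comap_eq_top_iff]
      exact bot_ne_top
    · intro r hr
      rw [Ideal.mem_comap, Ideal.mem_bot]
      exact h r hr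
  haveI : (⊥ : Ideal T).IsPrime := Ideal.isPrime_bot
  have hmax : (⊥ : Ideal T).IsMaximal :=
    Ideal.isMaximal_of_isIntegral_of_isMaximal_comap (R := R) ⊥ (by rw [hker]; infer_instance)
  exact Ring.isField_iff_maximal_bot.mpr hmax

end locSub

/-- Under the hypothesis that all finite local domain extensions of the Noetherian local ring `R`
are analytically unramified, every finite `R`-algebra which is a domain is N-1. -/
theorem isN1_of_hyp (R : Type u) [CommRing R] [IsLocalRing R] [IsNoetherianRing R]
    (H : ∀ (S : Type u) [CommRing S] [IsDomain S] [IsLocalRing S] [Algebra R S]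
      [IsLocalHom (algebraMap R S)] [Module.Finite R S],
      IsReduced (AdicCompletion (maximalIdeal S) S))
    (T : Type u) [CommRing T] [IsDomain T] [Algebra R T] [Module.Finite R T] : CAlg.IsN1 T := by
  haveI : IsNoetherianRing T := IsNoetherianRing.of_finite R T
  by_cases hJ : ∀ r ∈ maximalIdeal R, algebraMap R T r = 0
  · have hT : IsField T := isField_of_map_eq_zero hJ
    have hsurj : Function.Surjective (algebraMap T (FractionRing T)) :=
      IsFractionRing.surjective_iff_isField.mpr hT
    haveI : Module.Finite T (FractionRing T) :=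
      Module.Finite.of_surjective (Algebra.linearMap T (FractionRing T)) hsurj
    haveI : IsNoetherian T (FractionRing T) := isNoetherian_of_isNoetherianRing_of_finite T _
    exact Module.Finite.of_injective (integralClosure T (FractionRing T)).val.toLinearMap
      Subtype.val_injective
  · push_neg at hJ
    obtain ⟨r₀, hr₀m, hr₀⟩ := hJ
    haveI : IsLocalRing (locSub R T) := isLocalRing_locSub
    haveI : IsLocalHom (algebraMap R (locSub R T)) := isLocalHom_locSub
    haveI : IsNoetherian R T := isNoetherian_of_isNoetherianRing_of_finite R T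
    haveI : Module.Finite R (locSub R T) :=
      Module.Finite.of_injective (locSub R T).val.toLinearMap Subtype.val_injective
    haveI : IsNoetherianRing (locSub R T) := IsNoetherianRing.of_finite R _
    haveI hred : IsReduced (AdicCompletion (maximalIdeal (locSub R T)) (locSub R T)) :=
      H (locSub R T)
    have hN1B : CAlg.IsN1 (locSub R T) :=
      AnalyticN1_98.isN1_of_isReduced_completion (locSub R T)
    have ht0 : algebraMap R T r₀ ∈ (maximalIdeal R).map (algebraMap R T) :=
      Ideal.mem_map_of_mem _ hr₀m
    have hinjB : Function.Injective (algebraMap (locSub R T) (FractionRing T)) := by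
      rw [IsScalarTower.algebraMap_eq (locSub R T) T (FractionRing T)]
      exact (IsFractionRing.injective T (FractionRing T)).comp Subtype.val_injective
    haveI : IsFractionRing (locSub R T) (FractionRing T) := by
      refine H87Japanese2.isFractionRing_of_forall_exists_div hinjB ?_
      intro x
      obtain ⟨c, d, hd, rfl⟩ := IsFractionRing.div_surjective (A := T) x
      have hd0 : d ≠ 0 := nonZeroDivisors.ne_zero hd
      refine ⟨⟨algebraMap R T r₀ * c, mem_locSub_of_mem_map (Ideal.mul_mem_right _ _ ht0)⟩,
        ⟨algebraMap R T r₀ * d, mem_locSub_of_mem_map (Ideal.mul_mem_right _ _ ht0)⟩, ?_, ?_⟩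
      · intro h0
        have h1 := congrArg Subtype.val h0
        exact mul_ne_zero hr₀ hd0 h1
      · have hdK : algebraMap T (FractionRing T) d ≠ 0 := by
          rwa [Ne, map_eq_zero_iff _ (IsFractionRing.injective T (FractionRing T))]
        show algebraMap T (FractionRing T) c / algebraMap T (FractionRing T) d *
          algebraMap T (FractionRing T) (algebraMap R T r₀ * d) =
          algebraMap T (FractionRing T) (algebraMap R T r₀ * c)
        rw [map_mul, map_mul]
        field_simp
    have hfinB : Module.Finite (locSub R T) (integralClosure (locSub R T) (FractionRing T)) :=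
      H87Japanese.finite_of_isN1 (locSub R T) hN1B (FractionRing T)
    haveI : Algebra.IsIntegral R T := Algebra.IsIntegral.of_finite R T
    haveI : Algebra.IsIntegral (locSub R T) T := Algebra.IsIntegral.tower_top (R := R)
    let φ : (integralClosure (locSub R T) (FractionRing T)) →ₗ[locSub R T]
        (integralClosure T (FractionRing T)) :=
      { toFun := fun c => ⟨c.1, c.2.tower_top⟩
        map_add' := fun _ _ => rfl
        map_smul' := fun _ _ => rfl }
    have hφ : Function.Surjective φ := fun y =>
      ⟨⟨y.1, isIntegral_trans (R := locSub R T) (A := T) y.1 y.2⟩, rfl⟩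
    haveI : Module.Finite (locSub R T) (integralClosure T (FractionRing T)) :=
      Module.Finite.of_surjective φ hφ
    exact Module.Finite.of_restrictScalars_finite (locSub R T) T _

/-- A Noetherian local ring all of whose finite local domain extensions are analytically
unramified is Nagata. -/
theorem isNagata_of_hyp (R : Type u) [CommRing R] [IsLocalRing R] [IsNoetherianRing R]
    (H : ∀ (S : Type u) [CommRing S] [IsDomain S] [IsLocalRing S] [Algebra R S]
      [IsLocalHom (algebraMap R S)] [Module.Finite R S],
      IsReduced (AdicCompletion (maximalIdeal S) S)) : CAlg.IsNagata R := by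
  refine ⟨inferInstance, fun p _ => ?_⟩
  apply H87Japanese2.isN2_of_forall_finite_isN1
  intro S' _ _ _ _ _
  letI : Algebra R S' := ((algebraMap (R ⧸ p) S').comp (Ideal.Quotient.mk p)).toAlgebra
  haveI : IsScalarTower R (R ⧸ p) S' := IsScalarTower.of_algebraMap_eq (fun _ => rfl)
  haveI : Module.Finite R S' := Module.Finite.trans (R ⧸ p) S'
  exact isN1_of_hyp R H S'

end Groth.Agent.Lib.NagataLocalCrit98
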