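import Mathlib
import Groth.Prelude.Def_Found
import Groth.Prelude.Def_EGA4b
import Groth.Agent.Lib.NagataLocalCrit98
import Groth.Agent.Lib.ComplFiniteAlg51

/-!
A Noetherian local ring with geometrically reduced formal fibres is Nagata (EGA IV 7.6.4 /
Stacks 0BI2 + 07QV direction).
-/

set_option autoImplicit false
set_option maxHeartbeats 400000
universe u

namespace Groth.Agent.Lib.FormalFibreNagata98

open IsLocalRing TensorProduct Groth.Agent.Lib

/-- If `S` is a domain integral over `A` with `ker (A → S) = p`, `C` is a flat `A`-algebra whose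
fibre over `p` is geometrically reduced, then `S ⊗[A] C` is reduced. -/
theorem isReduced_tensor_of_fiber (A : Type u) [CommRing A] (p : Ideal A) [p.IsPrime]
    (C : Type u) [CommRing C] [Algebra A C] [Module.Flat A C]
    [Algebra.IsGeometricallyReduced p.ResidueField (p.Fiber C)]
    (S : Type u) [CommRing S] [IsDomain S] [Algebra A S] [Algebra.IsIntegral A S]
    (hker : RingHom.ker (algebraMap A S) = p) : IsReduced (S ⊗[A] C) := by
  have hinjSL : Function.Injective (algebraMap S (FractionRing S)) :=
    IsFractionRing.injective S (FractionRing S)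
  have hf₁ : p ≤ RingHom.ker (algebraMap A (FractionRing S)) := by
    intro a ha
    rw [← hker, RingHom.mem_ker] at ha
    rw [RingHom.mem_ker, IsScalarTower.algebraMap_apply A S (FractionRing S), ha, map_zero]
  have hf₂ : p.primeCompl ≤ (IsUnit.submonoid (FractionRing S)).comap
      (algebraMap A (FractionRing S)) := by
    intro a ha
    rw [Submonoid.mem_comap, IsUnit.mem_submonoid_iff, isUnit_iff_ne_zero,
      IsScalarTower.algebraMap_apply A S (FractionRing S), Ne, map_eq_zero_iff _ hinjSL]
    intro h0
    apply ha
    rw [← hker]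
    exact h0
  letI algκL : Algebra p.ResidueField (FractionRing S) :=
    (Ideal.ResidueField.lift p (algebraMap A (FractionRing S)) hf₁ hf₂).toAlgebra
  haveI : IsScalarTower A p.ResidueField (FractionRing S) :=
    IsScalarTower.of_algebraMap_eq (fun a =>
      (Ideal.ResidueField.lift_algebraMap p (algebraMap A (FractionRing S)) hf₁ hf₂ a).symm)
  haveI : Algebra.IsAlgebraic p.ResidueField (FractionRing S) := ⟨fun x => by
    obtain ⟨s₁, s₂, hs₂, rfl⟩ := IsFractionRing.div_surjective (A := S) x
    have h1 : IsAlgebraic p.ResidueField (algebraMap S (FractionRing S) s₁) :=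
      ((Algebra.IsIntegral.isIntegral (R := A) s₁).algebraMap.tower_top).isAlgebraic
    have h2 : IsAlgebraic p.ResidueField (algebraMap S (FractionRing S) s₂) :=
      ((Algebra.IsIntegral.isIntegral (R := A) s₂).algebraMap.tower_top).isAlgebraic
    rw [div_eq_mul_inv]
    exact h1.mul h2.inv⟩
  haveI h1 : IsReduced (FractionRing S ⊗[p.ResidueField] (p.ResidueField ⊗[A] C)) :=
    inferInstance
  let e1 : FractionRing S ⊗[p.ResidueField] (p.ResidueField ⊗[A] C) ≃ₐ[FractionRing S]
      FractionRing S ⊗[A] C :=
    Algebra.TensorProduct.cancelBaseChange A p.ResidueField (FractionRing S) (FractionRing S) C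
  haveI h2 : IsReduced (FractionRing S ⊗[A] C) :=
    isReduced_of_injective e1.symm.toRingEquiv (RingEquiv.injective _)
  exact isReduced_of_injective
    (Algebra.TensorProduct.map (IsScalarTower.toAlgHom A S (FractionRing S)) 1)
    (Module.Flat.rTensor_preserves_injective_linearMap
      (IsScalarTower.toAlgHom A S (FractionRing S)).toLinearMap hinjSL)

/-- A Noetherian local ring with geometrically reduced formal fibres is Nagata. -/
theorem isNagata_of_geomReducedFormalFibres (A : Type u) [CommRing A] [IsNoetherianRing A]
    [IsLocalRing A] (hA : EGA4.HasGeomReducedFormalFibres A) : CAlg.IsNagata A := by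
  apply NagataLocalCrit98.isNagata_of_hyp A
  intro S _ _ _ _ _ _
  haveI hflat : Module.Flat A (AdicCompletion (maximalIdeal A) A) :=
    AdicCompletion.flat_of_isNoetherian _
  haveI : (RingHom.ker (algebraMap A S)).IsPrime := RingHom.ker_isPrime _
  haveI : Algebra.IsGeometricallyReduced (RingHom.ker (algebraMap A S)).ResidueField
      ((RingHom.ker (algebraMap A S)).Fiber (AdicCompletion (maximalIdeal A) A)) :=
    hA (RingHom.ker (algebraMap A S))
  haveI : Algebra.IsIntegral A S := Algebra.IsIntegral.of_finite A S
  have hred : IsReduced (S ⊗[A] AdicCompletion (maximalIdeal A) A) :=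
    isReduced_tensor_of_fiber A (RingHom.ker (algebraMap A S))
      (AdicCompletion (maximalIdeal A) A) S rfl
  have h := (ComplFiniteAlg51.isReduced_cpl_iff A S).mpr hred
  rwa [IsLocalRing.jacobson_eq_maximalIdeal (⊥ : Ideal S) bot_ne_top] at h

end Groth.Agent.Lib.FormalFibreNagata98
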