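import Groth.Agent.Lib.NagataNormFin96B

/-!
# Nagata rings: integral closure in essentially finite type fields and in reduced finite type
algebras (Stacks 03GH, ring form)
-/

set_option autoImplicit false
set_option linter.style.haveILetI false
universe u

namespace Groth.Agent.Lib.NagataNormFin96

/-- `R` Nagata, `K` a field which is essentially of finite type over `R`: the integral closure
of `R` in `K` is a finite `R`-module. -/
theorem finite_integralClosure_field' {R : Type u} [CommRing R] (hR : CAlg.IsNagata R)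
    (K : Type u) [Field K] [Algebra R K] [Algebra.EssFiniteType R K] :
    Module.Finite R (integralClosure R K) := by
  let p : Ideal R := RingHom.ker (algebraMap R K)
  haveI : p.IsPrime := RingHom.ker_isPrime _
  letI algK : Algebra (R ⧸ p) K :=
    (Ideal.Quotient.lift p (algebraMap R K) (fun a ha => ha)).toAlgebra
  haveI : IsScalarTower R (R ⧸ p) K := .of_algebraMap_eq (fun r => rfl)
  have hinj : Function.Injective (algebraMap (R ⧸ p) K) :=
    RingHom.lift_injective_of_ker_le_ideal p (fun a ha => ha) le_rfl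
  haveI : FaithfulSMul (R ⧸ p) K := (faithfulSMul_iff_algebraMap_injective (R ⧸ p) K).mpr hinj
  letI algFK : Algebra (FractionRing (R ⧸ p)) K := FractionRing.liftAlgebra (R ⧸ p) K
  haveI : IsScalarTower (R ⧸ p) (FractionRing (R ⧸ p)) K :=
    FractionRing.isScalarTower_liftAlgebra (R ⧸ p) K
  haveI : IsScalarTower R (FractionRing (R ⧸ p)) K := .of_algebraMap_eq (fun r => by
    rw [IsScalarTower.algebraMap_apply R (R ⧸ p) K,
      IsScalarTower.algebraMap_apply (R ⧸ p) (FractionRing (R ⧸ p)) K,
      ← IsScalarTower.algebraMap_apply R (R ⧸ p) (FractionRing (R ⧸ p))])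
  haveI : Algebra.EssFiniteType (FractionRing (R ⧸ p)) K :=
    Algebra.EssFiniteType.of_comp R (FractionRing (R ⧸ p)) K
  refine finite_integralClosure_field hR (FractionRing (R ⧸ p)) K (fun x => ?_)
  obtain ⟨a', b', rfl⟩ := IsLocalization.exists_mk'_eq (nonZeroDivisors (R ⧸ p)) x
  obtain ⟨a, rfl⟩ := Ideal.Quotient.mk_surjective a'
  obtain ⟨b, hb⟩ := Ideal.Quotient.mk_surjective b'.1
  refine ⟨a, b, ?_, ?_⟩
  · rw [IsScalarTower.algebraMap_apply R (R ⧸ p) (FractionRing (R ⧸ p))]
    change algebraMap (R ⧸ p) (FractionRing (R ⧸ p)) (Ideal.Quotient.mk p b) ≠ 0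
    rw [hb]
    exact IsFractionRing.to_map_ne_zero_of_mem_nonZeroDivisors b'.2
  · rw [IsScalarTower.algebraMap_apply R (R ⧸ p) (FractionRing (R ⧸ p)),
      IsScalarTower.algebraMap_apply R (R ⧸ p) (FractionRing (R ⧸ p)) a]
    change _ * algebraMap (R ⧸ p) (FractionRing (R ⧸ p)) (Ideal.Quotient.mk p b) =
      algebraMap (R ⧸ p) (FractionRing (R ⧸ p)) (Ideal.Quotient.mk p a)
    rw [hb]
    exact IsLocalization.mk'_spec _ _ _

/-- Stacks 03GH (ring form): the integral closure of a Nagata ring in a reduced algebra of finite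
type is finite. -/
theorem finite_integralClosure_of_finiteType {R : Type u} [CommRing R] (hR : CAlg.IsNagata R)
    (S : Type u) [CommRing S] [IsReduced S] [Algebra R S] [Algebra.FiniteType R S] :
    Module.Finite R (integralClosure R S) := by
  haveI : IsNoetherianRing R := hR.1
  haveI : IsNoetherianRing S := Algebra.FiniteType.isNoetherianRing R S
  have hfin : (minimalPrimes S).Finite := minimalPrimes.finite_of_isNoetherianRing S
  haveI : Finite (minimalPrimes S) := hfin
  haveI : ∀ q : minimalPrimes S, q.1.IsPrime := fun q => q.2.1.1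
  let φ : S →ₐ[R] (∀ q : minimalPrimes S, FractionRing (S ⧸ q.1)) :=
    AlgHom.pi (fun q => (IsScalarTower.toAlgHom R (S ⧸ q.1) (FractionRing (S ⧸ q.1))).comp
      (Ideal.Quotient.mkₐ R q.1))
  have hφ : Function.Injective φ := by
    rw [injective_iff_map_eq_zero]
    intro s hs
    have hs' : s ∈ nilradical S := by
      rw [nilradical_eq_sInf, Ideal.mem_sInf]
      intro J hJ
      haveI : J.IsPrime := hJ
      obtain ⟨q, hq, hqJ⟩ := Ideal.exists_minimalPrimes_le (bot_le : ⊥ ≤ J)
      have h1 : algebraMap (S ⧸ q) (FractionRing (S ⧸ q)) (Ideal.Quotient.mk q s) = 0 :=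
        congrFun hs ⟨q, hq⟩
      haveI : q.IsPrime := hq.1.1
      have h2 : Ideal.Quotient.mk q s = 0 :=
        IsFractionRing.injective (S ⧸ q) (FractionRing (S ⧸ q)) (by rw [h1, map_zero])
      exact hqJ (Ideal.Quotient.eq_zero_iff_mem.mp h2)
    rwa [nilradical_eq_zero, Ideal.zero_eq_bot, Ideal.mem_bot] at hs'
  refine finite_integralClosure_of_injective_pi
    (fun q : minimalPrimes S => FractionRing (S ⧸ q.1)) φ hφ (fun q => ?_)
  haveI : Algebra.FiniteType R (S ⧸ q.1) :=
    Algebra.FiniteType.of_surjective (Ideal.Quotient.mkₐ R q.1) (Ideal.Quotient.mkₐ_surjective R q.1)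
  haveI : Algebra.EssFiniteType (S ⧸ q.1) (FractionRing (S ⧸ q.1)) :=
    Algebra.EssFiniteType.of_isLocalization _ (nonZeroDivisors (S ⧸ q.1))
  haveI : Algebra.EssFiniteType R (FractionRing (S ⧸ q.1)) :=
    Algebra.EssFiniteType.comp R (S ⧸ q.1) (FractionRing (S ⧸ q.1))
  exact finite_integralClosure_field' hR (FractionRing (S ⧸ q.1))

end Groth.Agent.Lib.NagataNormFin96
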