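/-
helper6: normal Noetherian local domains of dimension two — principal radical ideals through
prescribed height-one primes (Stacks-style "eliminating multiplicities" by an Artinian
minimality argument).

Main results (namespace `Groth.Agent.Lib.NormalDimTwo6`):
* `InSymSq q a` : `a` lies in the symbolic square `q^{(2)}` (∃ s ∉ q, s * a ∈ q ^ 2);
* `exists_mem_not_inSymSq` : a nonzero prime of a Noetherian domain is not contained in its
  symbolic square;
* `isReduced_quotient_span_of_forall_not_inSymSq` : in a normal Noetherian domain, `A/(f)` is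
  reduced as soon as `f ∉ q^{(2)}` for every minimal prime `q` of `(f)`;
* `exists_approx` : approximation lemma for finitely many incomparable primes;
* `exists_reduced_of_primes` : `A` normal Noetherian local of dimension 2, `s` a finite set of
  height-one primes ⇒ ∃ `f ≠ 0` in all of them with `A/(f)` reduced.
-/
import Mathlib
import Groth.Agent.Lib.H14SerreNormal

set_option autoImplicit false
universe u

namespace Groth.Agent.Lib.NormalDimTwo6

open IsLocalRing LocCoh

section symsq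

variable {A : Type u} [CommRing A]

/-- Membership in the symbolic square of `q`. -/
def InSymSq (q : Ideal A) (a : A) : Prop := ∃ s : A, s ∉ q ∧ s * a ∈ q ^ 2

theorem inSymSq_of_mem_sq {q : Ideal A} [hq : q.IsPrime] {a : A} (ha : a ∈ q ^ 2) :
    InSymSq q a :=
  ⟨1, (Ideal.ne_top_iff_one q).mp hq.ne_top, by simpa using ha⟩

theorem InSymSq.mem {q : Ideal A} [hq : q.IsPrime] {a : A} (h : InSymSq q a) : a ∈ q := by
  obtain ⟨s, hs, hsa⟩ := h
  exact (hq.mem_or_mem (Ideal.pow_le_self two_ne_zero hsa)).resolve_left hs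

theorem InSymSq.add {q : Ideal A} [hq : q.IsPrime] {a b : A} (ha : InSymSq q a)
    (hb : InSymSq q b) : InSymSq q (a + b) := by
  obtain ⟨s, hs, hsa⟩ := ha
  obtain ⟨t, ht, htb⟩ := hb
  refine ⟨s * t, fun h => (hq.mem_or_mem h).elim hs ht, ?_⟩
  have : s * t * (a + b) = t * (s * a) + s * (t * b) := by ring
  rw [this]
  exact Ideal.add_mem _ (Ideal.mul_mem_left _ _ hsa) (Ideal.mul_mem_left _ _ htb)

theorem InSymSq.neg {q : Ideal A} {a : A} (ha : InSymSq q a) : InSymSq q (-a) := by
  obtain ⟨s, hs, hsa⟩ := ha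
  exact ⟨s, hs, by rw [mul_neg]; exact neg_mem hsa⟩

theorem not_inSymSq_mul {q : Ideal A} [hq : q.IsPrime] {a u : A} (ha : ¬ InSymSq q a)
    (hu : u ∉ q) : ¬ InSymSq q (a * u) := by
  rintro ⟨s, hs, hsa⟩
  exact ha ⟨s * u, fun h => (hq.mem_or_mem h).elim hs hu, by
    have : s * u * a = s * (a * u) := by ring
    rwa [this]⟩

theorem not_inSymSq_add {q : Ideal A} [hq : q.IsPrime] {a b : A} (ha : ¬ InSymSq q a)
    (hb : InSymSq q b) : ¬ InSymSq q (a + b) := by
  intro h
  apply ha
  have := h.add hb.neg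
  simpa using this

theorem not_inSymSq_add' {q : Ideal A} [hq : q.IsPrime] {a b : A} (ha : InSymSq q a)
    (hb : ¬ InSymSq q b) : ¬ InSymSq q (a + b) := by
  rw [add_comm]; exact not_inSymSq_add hb ha

/-- A nonzero prime of a Noetherian domain is not contained in its symbolic square. -/
theorem exists_mem_not_inSymSq [IsDomain A] [IsNoetherianRing A] (q : Ideal A) [hq : q.IsPrime]
    (hq0 : q ≠ ⊥) : ∃ t ∈ q, ¬ InSymSq q t := by
  by_contra hcon
  push Not at hcon
  apply hq0
  set S := Localization.AtPrime q with hS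
  have hmap : q.map (algebraMap A S) = maximalIdeal S := Localization.AtPrime.map_eq_maximalIdeal
  have hle : maximalIdeal S ≤ maximalIdeal S • (maximalIdeal S : Submodule S S) := by
    rw [smul_eq_mul, ← pow_two, ← hmap, ← Ideal.map_pow, Ideal.map_le_iff_le_comap]
    intro t ht
    obtain ⟨s, hs, hst⟩ := hcon t ht
    rw [Ideal.mem_comap]
    have hu : IsUnit (algebraMap A S s) := IsLocalization.map_units S (⟨s, hs⟩ : q.primeCompl)
    have h1 : algebraMap A S (s * t) ∈ (q ^ 2).map (algebraMap A S) := Ideal.mem_map_of_mem _ hst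
    rw [map_mul] at h1
    have h2 := Ideal.mul_mem_left _ (↑hu.unit⁻¹ : S) h1
    rwa [← mul_assoc, IsUnit.val_inv_mul, one_mul] at h2
  have hbot : maximalIdeal S = ⊥ :=
    Submodule.eq_bot_of_le_smul_of_le_jacobson_bot (maximalIdeal S) (maximalIdeal S)
      (IsNoetherian.noetherian _) hle (maximalIdeal_le_jacobson ⊥)
  rw [eq_bot_iff]
  intro t ht
  have h3 : algebraMap A S t ∈ q.map (algebraMap A S) := Ideal.mem_map_of_mem _ ht
  rw [hmap, hbot, Ideal.mem_bot] at h3
  rw [Ideal.mem_bot]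
  exact (IsLocalization.injective S q.primeCompl_le_nonZeroDivisors)
    (by rw [h3, map_zero])

end symsq

section reduced

variable {A : Type u} [CommRing A] [IsDomain A] [IsNoetherianRing A]

/-- A prime of height `≤ 1` containing `f ≠ 0` is minimal over `(f)`. -/
theorem mem_minimalPrimes_of_height_le_one {f : A} (hf : f ≠ 0) (p : Ideal A) [hp : p.IsPrime]
    (hht : p.height ≤ 1) (hfp : f ∈ p) : p ∈ (Ideal.span {f}).minimalPrimes := by
  obtain ⟨q', hq', hle⟩ := Ideal.exists_minimalPrimes_le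
    (show Ideal.span {f} ≤ p from (Ideal.span_singleton_le_iff_mem _).mpr hfp)
  have := hq'.1.1
  have hq'0 : q' ≠ ⊥ := by
    rintro rfl
    exact hf (by simpa using hq'.1.2 (Ideal.subset_span rfl))
  rcases eq_or_lt_of_le hle with h | h
  · exact h ▸ hq'
  · exfalso
    have h1 : (⊥ : Ideal A).height < q'.height :=
      Ideal.height_strict_mono_of_isPrime (bot_lt_iff_ne_bot.mpr hq'0)
    have h2 : q'.height < p.height := Ideal.height_strict_mono_of_isPrime h
    rw [Ideal.height_bot] at h1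
    have h3 : q'.height < 1 := lt_of_lt_of_le h2 hht
    exact absurd (Order.one_le_iff_pos.mpr h1) (not_le.mpr h3)

variable [IsIntegrallyClosed A]

/-- In a normal Noetherian domain, `A/(f)` is reduced as soon as `f ∉ q^{(2)}` for every minimal
prime `q` of `(f)`. -/
theorem isReduced_quotient_span_of_forall_not_inSymSq {f : A} (hf : f ≠ 0)
    (h : ∀ q ∈ (Ideal.span {f}).minimalPrimes, ¬ InSymSq q f) :
    IsReduced (A ⧸ Ideal.span {f}) := by
  rw [← Ideal.isRadical_iff_quotient_reduced]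
  intro a ha
  by_contra hna
  have hS : HasSk 2 A A := Groth.Agent.Lib.H14SerreNormal.hasSk_two_of_normal A
    (fun p _ => ⟨inferInstance,
      isIntegrallyClosed_of_isLocalization _ p.primeCompl p.primeCompl_le_nonZeroDivisors⟩)
  have hreg : IsSMulRegular A f := fun x y hxy => mul_left_cancel₀ hf hxy
  obtain ⟨p, hp, hht, hfp, hap⟩ :=
    Groth.Agent.Lib.H14SerreNormal.exists_prime_of_notMem_span hS hreg hna
  have hpmin := mem_minimalPrimes_of_height_le_one hf p hht hfp
  have hnot := h p hpmin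
  set S := Localization.AtPrime p with hSdef
  have : IsIntegrallyClosed S :=
    isIntegrallyClosed_of_isLocalization _ p.primeCompl p.primeCompl_le_nonZeroDivisors
  have hdim : ringKrullDim S ≤ 1 := by
    rw [IsLocalization.AtPrime.ringKrullDim_eq_height p]
    exact_mod_cast hht
  have hK : Ring.KrullDimLE 1 S := Ring.krullDimLE_iff.mpr hdim
  have hmax : ∀ P : Ideal S, P ≠ ⊥ → P.IsPrime → P = maximalIdeal S := fun P hP hPp =>
    IsLocalRing.eq_maximalIdeal ((Ring.krullDimLE_one_iff_of_isPrime_bot.mp hK) P hP hPp)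
  have h34 : (IsIntegrallyClosed S ∧ ∀ P : Ideal S, P ≠ ⊥ → P.IsPrime → P = maximalIdeal S) ↔
      (maximalIdeal S).IsPrincipal := (tfae_of_isNoetherianRing_of_isLocalRing_of_isDomain S).out 3 4
  have hprin : (maximalIdeal S).IsPrincipal := h34.mp ⟨inferInstance, hmax⟩
  obtain ⟨ϖ, hϖ⟩ := hprin.principal
  have hϖ' : maximalIdeal S = Ideal.span {ϖ} := hϖ
  have hfm : algebraMap A S f ∈ maximalIdeal S :=
    (IsLocalization.AtPrime.to_map_mem_maximal_iff S p f).mpr hfp
  rw [hϖ', Ideal.mem_span_singleton'] at hfm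
  obtain ⟨c, hc⟩ := hfm
  by_cases hcu : IsUnit c
  · -- `(f) = m_p`, so `a ∈ (f)` locally
    apply hap
    have hspan : Ideal.span {algebraMap A S f} = maximalIdeal S := by
      rw [hϖ', ← hc]
      exact Ideal.span_singleton_mul_left_unit hcu ϖ
    rw [hspan]
    obtain ⟨k, hk⟩ := ha
    have : (algebraMap A S a) ^ k ∈ maximalIdeal S := by
      rw [← hspan, ← map_pow]
      obtain ⟨y, hy⟩ := Ideal.mem_span_singleton'.mp hk
      rw [← hy, map_mul]
      exact Ideal.mul_mem_left _ _ (Ideal.subset_span rfl)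
    exact (inferInstance : (maximalIdeal S).IsPrime).mem_of_pow_mem k this
  · -- `f ∈ m_p²`, contradiction
    apply hnot
    have hcm : c ∈ maximalIdeal S := (IsLocalRing.mem_maximalIdeal c).mpr hcu
    rw [hϖ', Ideal.mem_span_singleton'] at hcm
    obtain ⟨c', hc'⟩ := hcm
    have hf2 : algebraMap A S f ∈ (p ^ 2).map (algebraMap A S) := by
      rw [Ideal.map_pow, Localization.AtPrime.map_eq_maximalIdeal, hϖ', ← hc, ← hc',
        Ideal.span_singleton_pow]
      exact Ideal.mem_span_singleton'.mpr ⟨c', by ring⟩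
    obtain ⟨⟨⟨i, hi⟩, ⟨s, hs⟩⟩, hx⟩ := (IsLocalization.mem_map_algebraMap_iff p.primeCompl S).mp hf2
    simp only at hx
    rw [← map_mul] at hx
    have hinj := IsLocalization.injective S p.primeCompl_le_nonZeroDivisors hx
    exact ⟨s, hs, by rw [mul_comm, hinj]; exact hi⟩

end reduced

section approx

variable {A : Type u} [CommRing A] [IsDomain A] [IsNoetherianRing A]

/-- Approximation lemma: for a finite set `T` of pairwise incomparable nonzero primes, a subset
`Bad ⊆ T` and an ideal `K` contained in none of them, there is `g ∈ K` which lies in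
`q \ q^{(2)}` for `q ∈ Bad` and in `q²` for `q ∈ T \ Bad`. -/
theorem exists_approx (T Bad : Finset (Ideal A)) (hBad : Bad ⊆ T)
    (hT : ∀ q ∈ T, q.IsPrime ∧ q ≠ ⊥) (hinc : ∀ q ∈ T, ∀ q' ∈ T, q' ≤ q → q' = q)
    (K : Ideal A) (hK : ∀ q ∈ T, ¬ K ≤ q) :
    ∃ g ∈ K, (∀ q ∈ Bad, g ∈ q ∧ ¬ InSymSq q g) ∧ (∀ q ∈ T, q ∉ Bad → g ∈ q ^ 2) := by
  classical
  have h1 : ∀ q ∈ T, ∃ t ∈ q, ¬ InSymSq q t := fun q hq => by
    have := (hT q hq).1
    exact exists_mem_not_inSymSq q (hT q hq).2
  have h2 : ∀ q ∈ T, ∃ u ∈ K * ∏ q' ∈ T.erase q, q' ^ 2, u ∉ q := fun q hq => by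
    have hqp := (hT q hq).1
    by_contra hcon
    push Not at hcon
    have hle : K * ∏ q' ∈ T.erase q, q' ^ 2 ≤ q := fun u hu => hcon u hu
    rcases (Ideal.IsPrime.mul_le hqp).mp hle with h | h
    · exact hK q hq h
    · obtain ⟨q', hq', hle'⟩ := (Ideal.IsPrime.prod_le hqp).mp h
      have := Ideal.IsPrime.le_of_pow_le hle'
      exact (Finset.ne_of_mem_erase hq') (hinc q hq q' (Finset.mem_of_mem_erase hq') this)
  choose! t ht1 ht2 using h1
  choose! u hu1 hu2 using h2
  have huK : ∀ q ∈ T, u q ∈ K := fun q hq => Ideal.mul_le_left (hu1 q hq)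
  have husq : ∀ q ∈ T, ∀ q₀ ∈ T, q₀ ≠ q → u q ∈ q₀ ^ 2 := fun q hq q₀ hq₀ hne => by
    have h3 : u q ∈ ∏ q' ∈ T.erase q, q' ^ 2 := Ideal.mul_le_right (hu1 q hq)
    have h4 : ∏ q' ∈ T.erase q, q' ^ 2 ≤ q₀ ^ 2 :=
      (Ideal.prod_le_inf (s := T.erase q) (f := fun q' : Ideal A => q' ^ 2)).trans
        (Finset.inf_le (f := fun q' : Ideal A => q' ^ 2) (b := q₀)
          (Finset.mem_erase.mpr ⟨hne, hq₀⟩))
    exact h4 h3
  refine ⟨∑ q ∈ Bad, t q * u q, ?_, ?_, ?_⟩
  · exact Ideal.sum_mem _ fun q hq => Ideal.mul_mem_left _ _ (huK q (hBad hq))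
  · intro q₀ hq₀
    have hq₀T := hBad hq₀
    have hq₀p := (hT q₀ hq₀T).1
    rw [← Finset.add_sum_erase _ _ hq₀]
    have hrest : ∑ q ∈ Bad.erase q₀, t q * u q ∈ q₀ ^ 2 :=
      Ideal.sum_mem _ fun q hq => Ideal.mul_mem_left _ _
        (husq q (hBad (Finset.mem_of_mem_erase hq)) q₀ hq₀T (Finset.ne_of_mem_erase hq).symm)
    refine ⟨Ideal.add_mem _ (Ideal.mul_mem_right _ _ (ht1 q₀ hq₀T))
      (Ideal.pow_le_self two_ne_zero hrest), ?_⟩
    exact not_inSymSq_add (not_inSymSq_mul (ht2 q₀ hq₀T) (hu2 q₀ hq₀T)) (inSymSq_of_mem_sq hrest)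
  · intro q₀ hq₀T hq₀
    exact Ideal.sum_mem _ fun q hq => Ideal.mul_mem_left _ _
      (husq q (hBad hq) q₀ hq₀T (fun h => hq₀ (h ▸ hq)))

end approx

section dimtwo

variable {A : Type u} [CommRing A] [IsDomain A] [IsNoetherianRing A] [IsLocalRing A]

theorem maximalIdeal_height_eq_two (hdim : ringKrullDim A = 2) :
    (maximalIdeal A).height = 2 := by
  have := IsLocalRing.maximalIdeal_height_eq_ringKrullDim (R := A)
  rw [hdim] at this
  exact WithBot.coe_injective this

/-- In a two-dimensional local domain, a prime strictly containing a nonzero prime is the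
maximal ideal. -/
theorem eq_maximalIdeal_of_lt (hdim : ringKrullDim A = 2) {q' q : Ideal A} [hq' : q'.IsPrime]
    [hq : q.IsPrime] (h0 : q' ≠ ⊥) (hlt : q' < q) : q = maximalIdeal A := by
  by_contra hne
  have hqm : q < maximalIdeal A := lt_of_le_of_ne (IsLocalRing.le_maximalIdeal hq.ne_top) hne
  have h1 : (⊥ : Ideal A).height < q'.height :=
    Ideal.height_strict_mono_of_isPrime (bot_lt_iff_ne_bot.mpr h0)
  have h2 : q'.height < q.height := Ideal.height_strict_mono_of_isPrime hlt
  have h3 : q.height < (maximalIdeal A).height := Ideal.height_strict_mono_of_isPrime hqm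
  rw [Ideal.height_bot] at h1
  rw [maximalIdeal_height_eq_two hdim] at h3
  have h4 : (1 : ℕ∞) ≤ q'.height := Order.one_le_iff_pos.mpr h1
  have h5 : q'.height + 1 ≤ q.height := Order.add_one_le_of_lt h2
  have h6 : (2 : ℕ∞) ≤ q.height := by
    calc (2 : ℕ∞) = 1 + 1 := by norm_num
      _ ≤ q'.height + 1 := by gcongr
      _ ≤ q.height := h5
  exact absurd h6 (not_le.mpr h3)

/-- "Middle" primes of a two-dimensional local domain: nonzero, non-maximal. -/
def Mid (q : Ideal A) : Prop := q.IsPrime ∧ q ≠ ⊥ ∧ q ≠ maximalIdeal A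

theorem Mid.eq_of_le (hdim : ringKrullDim A = 2) {q' q : Ideal A} (hq' : Mid q') (hq : Mid q)
    (hle : q' ≤ q) : q' = q := by
  have := hq'.1
  have := hq.1
  rcases eq_or_lt_of_le hle with h | h
  · exact h
  · exact absurd (eq_maximalIdeal_of_lt hdim hq'.2.1 h) hq.2.2

theorem mid_of_height_eq_one (hdim : ringKrullDim A = 2) {p : Ideal A} (hp : p.IsPrime)
    (hht : p.height = 1) : Mid p := by
  refine ⟨hp, ?_, ?_⟩
  · rintro rfl
    rw [Ideal.height_bot] at hht
    exact zero_ne_one hht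
  · rintro rfl
    rw [maximalIdeal_height_eq_two hdim] at hht
    norm_num at hht

theorem mid_of_mem_minimalPrimes (hdim : ringKrullDim A = 2) {f : A} (hf : f ≠ 0) {q : Ideal A}
    (hq : q ∈ (Ideal.span {f}).minimalPrimes) : Mid q := by
  refine ⟨hq.1.1, ?_, ?_⟩
  · rintro rfl
    exact hf (by simpa using hq.1.2 (Ideal.subset_span rfl))
  · rintro rfl
    have := Ideal.height_le_one_of_isPrincipal_of_mem_minimalPrimes _ _ hq
    rw [maximalIdeal_height_eq_two hdim] at this
    norm_num at this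

end dimtwo

section main

variable {A : Type u} [CommRing A] [IsDomain A] [IsNoetherianRing A] [IsLocalRing A]

/-- Existence of a parameter avoiding the minimal primes of `(x)`. -/
theorem exists_mem_maximalIdeal_notMem_minimalPrimes (hdim : ringKrullDim A = 2) {x : A}
    (hx : x ≠ 0) :
    ∃ h ∈ maximalIdeal A, ∀ q ∈ (Ideal.span {x}).minimalPrimes, h ∉ q := by
  classical
  by_contra hcon
  push Not at hcon
  have hfin := Ideal.finite_minimalPrimes_of_isNoetherianRing A (Ideal.span {x})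
  have hsub : ((maximalIdeal A : Ideal A) : Set A) ⊆
      ⋃ q ∈ (↑hfin.toFinset : Set (Ideal A)), ((fun q : Ideal A => q) q : Ideal A) := by
    intro h hh
    obtain ⟨q, hq, hhq⟩ := hcon h hh
    exact Set.mem_biUnion (by simpa using hq) hhq
  obtain ⟨q, hq, hle⟩ := (Ideal.subset_union_prime (f := fun q : Ideal A => q) ⊥ ⊥
    (fun q hq _ _ => ((hfin.mem_toFinset).mp hq).1.1)).mp hsub
  have hq' := (hfin.mem_toFinset).mp hq
  have hmid := mid_of_mem_minimalPrimes hdim hx hq'
  exact hmid.2.2 ((IsLocalRing.maximalIdeal.isMaximal A).eq_of_le hmid.1.ne_top hle).symm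

end main

section main

variable {A : Type u} [CommRing A] [IsDomain A] [IsNoetherianRing A] [IsLocalRing A]

/-- The only prime containing `(x, h)` is the maximal ideal, when `h` avoids the minimal primes
of `(x)`. -/
theorem eq_maximalIdeal_of_span_pair_le (hdim : ringKrullDim A = 2) {x h : A} (hx : x ≠ 0)
    (hh : ∀ q ∈ (Ideal.span {x}).minimalPrimes, h ∉ q) (Q : Ideal A) [hQ : Q.IsPrime]
    (hle : Ideal.span {x, h} ≤ Q) : Q = maximalIdeal A := by
  have hxQ : Ideal.span {x} ≤ Q :=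
    (Ideal.span_mono (by simp)).trans hle
  obtain ⟨q', hq', hq'Q⟩ := Ideal.exists_minimalPrimes_le hxQ
  have hmid := mid_of_mem_minimalPrimes hdim hx hq'
  have := hmid.1
  have hhQ : h ∈ Q := hle (Ideal.subset_span (by simp))
  have hlt : q' < Q := lt_of_le_of_ne hq'Q (fun heq => hh q' hq' (heq ▸ hhQ))
  exact eq_maximalIdeal_of_lt hdim hmid.2.1 hlt

theorem isArtinianRing_quotient_span_pair (hdim : ringKrullDim A = 2) {x h : A} (hx : x ≠ 0)
    (hh : ∀ q ∈ (Ideal.span {x}).minimalPrimes, h ∉ q) :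
    IsArtinianRing (A ⧸ Ideal.span {x, h}) := by
  rw [isArtinianRing_iff_krullDimLE_zero, Ring.krullDimLE_zero_iff]
  intro I hI
  have hcomap : (I.comap (Ideal.Quotient.mk (Ideal.span {x, h}))).IsPrime := inferInstance
  have hle : Ideal.span {x, h} ≤ I.comap (Ideal.Quotient.mk (Ideal.span {x, h})) := by
    intro a ha
    rw [Ideal.mem_comap, Ideal.Quotient.eq_zero_iff_mem.mpr ha]
    exact zero_mem _
  have heq := eq_maximalIdeal_of_span_pair_le hdim hx hh _ hle
  have hmap : I = (maximalIdeal A).map (Ideal.Quotient.mk (Ideal.span {x, h})) := by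
    rw [← heq, Ideal.map_comap_of_surjective _ Ideal.Quotient.mk_surjective]
  rcases Ideal.map_eq_top_or_isMaximal_of_surjective (Ideal.Quotient.mk (Ideal.span {x, h}))
    Ideal.Quotient.mk_surjective (IsLocalRing.maximalIdeal.isMaximal A) with h1 | h1
  · exact absurd (hmap.trans h1) hI.ne_top
  · rw [hmap]; exact h1

end main

section main

variable {A : Type u} [CommRing A] [IsDomain A] [IsNoetherianRing A] [IsLocalRing A]

omit [IsDomain A] in
theorem span_pair_add_eq (x h g : A) (hg : g ∈ maximalIdeal A * Ideal.span {x, h}) :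
    Ideal.span {x + g, h} = Ideal.span {x, h} := by
  have hg' : g ∈ Ideal.span {x, h} := Ideal.mul_le_right hg
  apply le_antisymm
  · rw [Ideal.span_le]
    intro y hy
    rcases hy with rfl | rfl
    · exact Ideal.add_mem _ (Ideal.subset_span (by simp)) hg'
    · exact Ideal.subset_span (by simp)
  · refine Submodule.le_of_le_smul_of_le_jacobson_bot (I := maximalIdeal A)
      (N := Ideal.span {x + g, h}) (N' := Ideal.span {x, h}) (IsNoetherian.noetherian _)
      (maximalIdeal_le_jacobson ⊥) ?_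
    rw [Ideal.span_le]
    intro y hy
    rcases hy with rfl | rfl
    · refine Submodule.mem_sup.mpr ⟨y + g, Ideal.subset_span (by simp), -g, ?_, by ring⟩
      exact neg_mem (by rwa [smul_eq_mul])
    · exact Submodule.mem_sup_left (Ideal.subset_span (by simp))

variable [IsIntegrallyClosed A]

/-- Core of the argument, for a nonempty set of height-one primes. -/
theorem exists_reduced_of_primes_aux (hdim : ringKrullDim A = 2) (s : Finset (Ideal A))
    (hs : ∀ p ∈ s, p.IsPrime ∧ p.height = 1) (hne : s.Nonempty) :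
    ∃ f : A, f ≠ 0 ∧ (∀ p ∈ s, f ∈ p) ∧ IsReduced (A ⧸ Ideal.span {f}) := by
  classical
  have hsMid : ∀ p ∈ s, Mid p := fun p hp => mid_of_height_eq_one hdim (hs p hp).1 (hs p hp).2
  -- Step 1: x
  obtain ⟨x, -, hxs, -⟩ := exists_approx s s subset_rfl
    (fun q hq => ⟨(hsMid q hq).1, (hsMid q hq).2.1⟩)
    (fun q hq q' hq' hle => (hsMid q' hq').eq_of_le hdim (hsMid q hq) hle) ⊤
    (fun q hq hle => (hsMid q hq).1.ne_top (top_le_iff.mp hle))
  obtain ⟨p0, hp0⟩ := hne
  have nz_of : ∀ f : A, (∀ p ∈ s, f ∈ p ∧ ¬ InSymSq p f) → f ≠ 0 := by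
    rintro f hf rfl
    have := (hsMid p0 hp0).1
    exact (hf p0 hp0).2 (inSymSq_of_mem_sq (zero_mem _))
  have hx0 : x ≠ 0 := nz_of x hxs
  -- Step 2: h and 𝔞
  obtain ⟨h, hhm, hh⟩ := exists_mem_maximalIdeal_notMem_minimalPrimes hdim hx0
  set 𝔞 : Ideal A := Ideal.span {x, h} with h𝔞
  have hArt : IsArtinianRing (A ⧸ 𝔞) := isArtinianRing_quotient_span_pair hdim hx0 hh
  have h𝔞max : ∀ (Q : Ideal A), Q.IsPrime → 𝔞 ≤ Q → Q = maximalIdeal A := fun Q hQ hle =>
    eq_maximalIdeal_of_span_pair_le hdim hx0 hh Q hle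
  -- the admissible perturbations
  let G : A → Prop := fun g => g ∈ maximalIdeal A * 𝔞 ∧ ∀ p ∈ s, InSymSq p g
  have hG0 : G 0 := ⟨zero_mem _, fun p hp => by
    have := (hsMid p hp).1
    exact inSymSq_of_mem_sq (zero_mem _)⟩
  have key1 : ∀ g, G g → ∀ p ∈ s, x + g ∈ p ∧ ¬ InSymSq p (x + g) := fun g hg p hp => by
    have := (hsMid p hp).1
    exact ⟨Ideal.add_mem _ (hxs p hp).1 (hg.2 p hp).mem, not_inSymSq_add (hxs p hp).2 (hg.2 p hp)⟩
  have key2 : ∀ g, G g → Ideal.span {x + g, h} = 𝔞 := fun g hg => span_pair_add_eq x h g hg.1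
  have key3 : ∀ g, G g → ∀ q ∈ (Ideal.span {x + g}).minimalPrimes,
      Mid q ∧ h ∉ q ∧ ¬ (maximalIdeal A * 𝔞 ≤ q) := fun g hg q hq => by
    have hmid := mid_of_mem_minimalPrimes hdim (nz_of _ (key1 g hg)) hq
    have hqp := hmid.1
    have h𝔞q : ¬ 𝔞 ≤ q := fun hle => hmid.2.2 (h𝔞max q hqp hle)
    refine ⟨hmid, fun hhq => h𝔞q ?_, fun hle => ?_⟩
    · rw [← key2 g hg, Ideal.span_le]
      intro y hy
      rcases hy with rfl | rfl
      · exact hq.1.2 (Ideal.subset_span rfl)
      · exact hhq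
    · rcases (Ideal.IsPrime.mul_le hqp).mp hle with h1 | h1
      · exact hmid.2.2 ((IsLocalRing.maximalIdeal.isMaximal A).eq_of_le hqp.ne_top h1).symm
      · exact h𝔞q h1
  -- Step 3: minimal choice
  let 𝒮 : Set (Ideal (A ⧸ 𝔞)) :=
    {I | ∃ g, G g ∧ I = (Ideal.span {x + g}).radical.map (Ideal.Quotient.mk 𝔞)}
  have h𝒮 : 𝒮.Nonempty := ⟨_, 0, hG0, rfl⟩
  obtain ⟨I₀, ⟨g, hg, rfl⟩, hmin⟩ := IsArtinian.set_has_minimal 𝒮 h𝒮
  have hfin := Ideal.finite_minimalPrimes_of_isNoetherianRing A (Ideal.span {x + g})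
  set T : Finset (Ideal A) := hfin.toFinset with hT
  have hTmem : ∀ q, q ∈ T ↔ q ∈ (Ideal.span {x + g}).minimalPrimes := fun q => hfin.mem_toFinset
  set Bad : Finset (Ideal A) := T.filter (fun q => InSymSq q (x + g)) with hBad
  obtain ⟨g', hg'K, hg'Bad, hg'Good⟩ := exists_approx T Bad (Finset.filter_subset _ _)
    (fun q hq => ⟨(key3 g hg q ((hTmem q).mp hq)).1.1, (key3 g hg q ((hTmem q).mp hq)).1.2.1⟩)
    (fun q hq q' hq' hle => (key3 g hg q' ((hTmem q').mp hq')).1.eq_of_le hdim
      (key3 g hg q ((hTmem q).mp hq)).1 hle)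
    (maximalIdeal A * 𝔞) (fun q hq => (key3 g hg q ((hTmem q).mp hq)).2.2)
  -- s ⊆ T and the primes of s are good
  have hsT : ∀ p ∈ s, p ∈ T ∧ p ∉ Bad := fun p hp => by
    have hpp := (hsMid p hp).1
    have hmem : p ∈ T := by
      rw [hTmem]
      obtain ⟨q', hq', hle⟩ := Ideal.exists_minimalPrimes_le
        (show Ideal.span {x + g} ≤ p from
          (Ideal.span_singleton_le_iff_mem _).mpr (key1 g hg p hp).1)
      have := (key3 g hg q' hq').1.eq_of_le hdim (hsMid p hp) hle
      exact this ▸ hq'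
    refine ⟨hmem, fun hbad => ?_⟩
    exact (key1 g hg p hp).2 (Finset.mem_filter.mp hbad).2
  have hGg' : G (g + g') := by
    refine ⟨Ideal.add_mem _ hg.1 hg'K, fun p hp => ?_⟩
    have hpp := (hsMid p hp).1
    exact (hg.2 p hp).add (inSymSq_of_mem_sq (hg'Good p (hsT p hp).1 (hsT p hp).2))
  have hf'T : ∀ q ∈ T, x + (g + g') ∈ q ∧ ¬ InSymSq q (x + (g + g')) := fun q hq => by
    have hq' := (hTmem q).mp hq
    have hqp := hq'.1.1
    have hfq : x + g ∈ q := hq'.1.2 (Ideal.subset_span rfl)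
    rw [← add_assoc]
    by_cases hb : q ∈ Bad
    · exact ⟨Ideal.add_mem _ hfq (hg'Bad q hb).1,
        not_inSymSq_add' (Finset.mem_filter.mp hb).2 (hg'Bad q hb).2⟩
    · have h1 : ¬ InSymSq q (x + g) := fun h2 => hb (Finset.mem_filter.mpr ⟨hq, h2⟩)
      have h3 := hg'Good q hq hb
      exact ⟨Ideal.add_mem _ hfq (Ideal.pow_le_self two_ne_zero h3),
        not_inSymSq_add h1 (inSymSq_of_mem_sq h3)⟩
  -- radicals
  have hrad : (Ideal.span {x + (g + g')}).radical ≤ (Ideal.span {x + g}).radical := by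
    rw [← Ideal.sInf_minimalPrimes (I := Ideal.span {x + g})]
    refine le_sInf fun q hq => ?_
    have hqp := hq.1.1
    rw [hqp.radical_le_iff, Ideal.span_singleton_le_iff_mem]
    exact (hf'T q ((hTmem q).mpr hq)).1
  have heq : (Ideal.span {x + (g + g')}).radical.map (Ideal.Quotient.mk 𝔞) =
      (Ideal.span {x + g}).radical.map (Ideal.Quotient.mk 𝔞) := by
    by_contra hne'
    exact hmin _ ⟨g + g', hGg', rfl⟩ (lt_of_le_of_ne (Ideal.map_mono hrad) hne')
  have hle : (Ideal.span {x + g}).radical ≤ (Ideal.span {x + (g + g')}).radical := by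
    refine Submodule.le_of_le_smul_of_le_jacobson_bot (I := maximalIdeal A)
      (N := (Ideal.span {x + (g + g')}).radical) (N' := (Ideal.span {x + g}).radical)
      (IsNoetherian.noetherian _) (maximalIdeal_le_jacobson ⊥) ?_
    intro a ha
    have h1 : Ideal.Quotient.mk 𝔞 a ∈
        (Ideal.span {x + (g + g')}).radical.map (Ideal.Quotient.mk 𝔞) := by
      rw [heq]; exact Ideal.mem_map_of_mem _ ha
    obtain ⟨b, hb, hba⟩ := (Ideal.mem_map_iff_of_surjective _ Ideal.Quotient.mk_surjective).mp h1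
    have h2 : a - b ∈ 𝔞 := by
      rw [← Ideal.Quotient.eq, hba]
    rw [← key2 (g + g') hGg', Ideal.mem_span_pair] at h2
    obtain ⟨α, β, hαβ⟩ := h2
    have hf'rad : x + (g + g') ∈ (Ideal.span {x + (g + g')}).radical :=
      Ideal.le_radical (Ideal.subset_span rfl)
    have hβ : β ∈ (Ideal.span {x + g}).radical := by
      rw [← Ideal.sInf_minimalPrimes (I := Ideal.span {x + g}), Submodule.mem_sInf]
      intro q hq
      have hqp := hq.1.1
      have h3 : β * h ∈ (Ideal.span {x + g}).radical := by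
        have : β * h = a - b - α * (x + (g + g')) := by rw [← hαβ]; ring
        rw [this]
        exact sub_mem (sub_mem ha (hrad hb)) (Ideal.mul_mem_left _ _ (hrad hf'rad))
      have h4 : β * h ∈ q := by
        rw [← Ideal.sInf_minimalPrimes (I := Ideal.span {x + g}), Submodule.mem_sInf] at h3
        exact h3 q hq
      exact (hqp.mem_or_mem h4).resolve_right (key3 g hg q hq).2.1
    refine Submodule.mem_sup.mpr ⟨b + α * (x + (g + g')),
      Ideal.add_mem _ hb (Ideal.mul_mem_left _ _ hf'rad), h • β,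
      Submodule.smul_mem_smul hhm hβ, ?_⟩
    rw [smul_eq_mul, mul_comm h β]
    linear_combination hαβ
  -- conclusion
  refine ⟨x + (g + g'), nz_of _ (key1 _ hGg'), fun p hp => (key1 _ hGg' p hp).1, ?_⟩
  apply isReduced_quotient_span_of_forall_not_inSymSq (nz_of _ (key1 _ hGg'))
  intro q hq
  have hqp := hq.1.1
  have h1 : Ideal.span {x + g} ≤ q :=
    Ideal.le_radical.trans (hle.trans (hqp.radical_le_iff.mpr hq.1.2))
  obtain ⟨q', hq', hq'q⟩ := Ideal.exists_minimalPrimes_le h1
  have hq'T := (hTmem q').mpr hq'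
  have h2 : q ≤ q' := hq.2 ⟨hq'.1.1, (Ideal.span_singleton_le_iff_mem _).mpr (hf'T q' hq'T).1⟩ hq'q
  have h3 : q = q' := le_antisymm h2 hq'q
  rw [h3]
  exact (hf'T q' hq'T).2

end main

section main

variable {A : Type u} [CommRing A] [IsDomain A] [IsNoetherianRing A] [IsLocalRing A]
  [IsIntegrallyClosed A]

/-- `A` a normal Noetherian local domain of dimension two, `s` a finite set of height-one
primes: there is `f ≠ 0` in all of them with `A/(f)` reduced. -/
theorem exists_reduced_of_primes (hdim : ringKrullDim A = 2) (s : Finset (Ideal A))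
    (hs : ∀ p ∈ s, p.IsPrime ∧ p.height = 1) :
    ∃ f : A, f ≠ 0 ∧ (∀ p ∈ s, f ∈ p) ∧ IsReduced (A ⧸ Ideal.span {f}) := by
  rcases s.eq_empty_or_nonempty with rfl | hne
  · refine ⟨1, one_ne_zero, by simp, ?_⟩
    have : Subsingleton (A ⧸ Ideal.span {(1 : A)}) := by
      rw [Ideal.span_singleton_one]
      exact Ideal.Quotient.subsingleton_iff.mpr rfl
    exact ⟨fun x _ => Subsingleton.elim _ _⟩
  · exact exists_reduced_of_primes_aux hdim s hs hne

/-- `A` a normal Noetherian local domain of dimension two, `a ≠ 0` in the maximal ideal: there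
is `c ≠ 0` with `A/(c)` reduced and `a ∣ c ^ n` for some `n`. -/
theorem exists_reduced_dvd_pow (hdim : ringKrullDim A = 2) (a : A) (ha0 : a ≠ 0) :
    ∃ c : A, c ≠ 0 ∧ IsReduced (A ⧸ Ideal.span {c}) ∧ ∃ n : ℕ, a ∣ c ^ n := by
  classical
  have hfin := Ideal.finite_minimalPrimes_of_isNoetherianRing A (Ideal.span {a})
  have hs : ∀ p ∈ hfin.toFinset, p.IsPrime ∧ p.height = 1 := fun p hp => by
    have hp' := hfin.mem_toFinset.mp hp
    have hpp := hp'.1.1
    refine ⟨hpp, le_antisymm
      (Ideal.height_le_one_of_isPrincipal_of_mem_minimalPrimes _ _ hp') ?_⟩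
    have hp0 : p ≠ ⊥ := by
      rintro rfl
      exact ha0 (by simpa using hp'.1.2 (Ideal.subset_span rfl))
    have h1 : (⊥ : Ideal A).height < p.height :=
      Ideal.height_strict_mono_of_isPrime (bot_lt_iff_ne_bot.mpr hp0)
    rw [Ideal.height_bot] at h1
    exact Order.one_le_iff_pos.mpr h1
  obtain ⟨c, hc0, hcs, hred⟩ := exists_reduced_of_primes hdim hfin.toFinset hs
  refine ⟨c, hc0, hred, ?_⟩
  have hrad : c ∈ (Ideal.span {a}).radical := by
    rw [← Ideal.sInf_minimalPrimes, Submodule.mem_sInf]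
    intro q hq
    exact hcs q (hfin.mem_toFinset.mpr hq)
  obtain ⟨n, hn⟩ := hrad
  exact ⟨n, Ideal.mem_span_singleton.mp hn⟩

end main

end Groth.Agent.Lib.NormalDimTwo6
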