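import Mathlib
import Groth.Agent.Lib.FormalFibreQuotient96
import Groth.Agent.Lib.AdicNoeth

/-!
# Zariski's criterion for the completion of a Noetherian local ring to be reduced (EGA IV 7.6.x)

Abstract form `isReduced_of_zariski`: let `A` be Noetherian, `S` a flat Noetherian `A`-algebra,
`t ∈ A` a nonzerodivisor mapping into the Jacobson radical of `S`, such that `A/tA` has no embedded
primes, `A_q` is a DVR for every minimal prime `q` of `tA`, and `qS` is a radical ideal for each such
`q`.  Then `S` is reduced.  (Nilradical `N` of `S` satisfies `N = tN`.)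

* `exists_eq_pow_mul_of_isNilpotent`: in a flat algebra `E` over a domain `D` with `ϖE` radical,
  nilpotents are infinitely `ϖ`-divisible.
* `exists_smul_mem_span_of_isNilpotent`: the local step at a minimal prime of `tA`.
* `mem_span_of_smul_mem_of_isSMulRegular`: flat base change of regularity mod `t` (elementwise).
* `mem_span_of_isNilpotent`, `isReduced_of_zariski`, `isReduced_cpl_of_zariski`.
-/

set_option autoImplicit false
universe u

namespace Groth.Agent.Lib.ZariskiReduced6

open IsLocalRing

section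
variable {A : Type u} [CommRing A] {S : Type u} [CommRing S] [Algebra A S] [Module.Flat A S]

/-- In a flat algebra `E` over a DVR `D` such that `ϖE` is a radical ideal, every nilpotent element
is divisible by every power of `ϖ` (with nilpotent quotient). -/
theorem exists_eq_pow_mul_of_isNilpotent {D E : Type u} [CommRing D] [IsDomain D] [CommRing E]
    [Algebra D E] [Module.Flat D E] (ϖ : D) (hϖ : ϖ ≠ 0)
    (hrad : (Ideal.span {algebraMap D E ϖ}).IsRadical) (j : ℕ) (z : E) (hz : IsNilpotent z) :
    ∃ w : E, IsNilpotent w ∧ z = algebraMap D E ϖ ^ j * w := by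
  have hreg : IsSMulRegular E (algebraMap D E ϖ) := by
    have h1 : IsSMulRegular D ϖ := by
      rw [isSMulRegular_iff_right_eq_zero_of_smul]
      intro x hx
      rcases mul_eq_zero.mp hx with h | h
      · exact absurd h hϖ
      · exact h
    exact h1.of_flat
  induction j with
  | zero => exact ⟨z, hz, by simp⟩
  | succ j ih =>
    obtain ⟨w, hw, rfl⟩ := ih
    have hwmem : w ∈ Ideal.span {algebraMap D E ϖ} := by
      apply hrad
      obtain ⟨n, hn⟩ := hw
      exact ⟨n, by rw [hn]; exact Ideal.zero_mem _⟩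
    obtain ⟨w', rfl⟩ := Ideal.mem_span_singleton'.mp hwmem
    refine ⟨w', ?_, by ring⟩
    obtain ⟨n, hn⟩ := hw
    refine ⟨n, ?_⟩
    rw [mul_pow] at hn
    have hreg' : IsSMulRegular E (algebraMap D E ϖ ^ n) := hreg.pow n
    apply hreg'
    simp only [smul_eq_mul, mul_zero]
    rw [mul_comm]; exact hn

end

section
variable {A : Type u} [CommRing A] {S : Type u} [CommRing S] [Algebra A S] [Module.Flat A S]

set_option maxHeartbeats 800000 in
/-- Local step: if `A_q` is a DVR, `t ∈ q` a nonzerodivisor, `qS` radical, and `x ∈ S` nilpotent,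
then `s • x ∈ tS` for some `s ∉ q`. -/
theorem exists_smul_mem_span_of_isNilpotent
    (t : A) (q : Ideal A) [q.IsPrime] (ht : t ∈ nonZeroDivisors A)
    [IsDomain (Localization.AtPrime q)] [IsDiscreteValuationRing (Localization.AtPrime q)]
    (hrad : (q.map (algebraMap A S)).IsRadical) (x : S) (hx : IsNilpotent x) :
    ∃ s : A, s ∉ q ∧ s • x ∈ Ideal.span {algebraMap A S t} := by
  obtain ⟨ϖ, hϖ⟩ := IsDiscreteValuationRing.exists_irreducible (Localization.AtPrime q)
  have hmD : maximalIdeal (Localization.AtPrime q) = Ideal.span {ϖ} := hϖ.maximalIdeal_eq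
  have hqD : q.map (algebraMap A (Localization.AtPrime q)) = maximalIdeal (Localization.AtPrime q) :=
    Localization.AtPrime.map_eq_maximalIdeal
  have htD : algebraMap A (Localization.AtPrime q) t ≠ 0 := by
    intro h0
    rw [IsLocalization.map_eq_zero_iff q.primeCompl] at h0
    obtain ⟨m, hm⟩ := h0
    have : (m : A) = 0 := by
      have := (mem_nonZeroDivisors_iff.mp ht).2 (m : A) hm
      exact this
    exact m.2 (by rw [this]; exact q.zero_mem)
  obtain ⟨e, he⟩ := IsDiscreteValuationRing.associated_pow_irreducible htD hϖ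
  obtain ⟨u, hu⟩ := he.symm
  -- hu : ϖ ^ e * u = t_D
  have hradE : (Ideal.span {algebraMap (Localization.AtPrime q)
      (Localization (Algebra.algebraMapSubmonoid S q.primeCompl)) ϖ}).IsRadical := by
    have h1 : Ideal.span {algebraMap (Localization.AtPrime q)
        (Localization (Algebra.algebraMapSubmonoid S q.primeCompl)) ϖ} =
        (q.map (algebraMap A S)).map
          (algebraMap S (Localization (Algebra.algebraMapSubmonoid S q.primeCompl))) := by
      rw [← Set.image_singleton, ← Ideal.map_span, ← hmD, ← hqD, Ideal.map_map, Ideal.map_map,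
        ← IsScalarTower.algebraMap_eq, ← IsScalarTower.algebraMap_eq]
    rw [h1]
    have h2 := IsLocalization.map_radical (Algebra.algebraMapSubmonoid S q.primeCompl)
      (Localization (Algebra.algebraMapSubmonoid S q.primeCompl)) (q.map (algebraMap A S))
    rw [hrad.radical] at h2
    intro z hz
    rw [h2]
    exact hz
  obtain ⟨w, -, hw⟩ := exists_eq_pow_mul_of_isNilpotent
    (D := Localization.AtPrime q) (E := Localization (Algebra.algebraMapSubmonoid S q.primeCompl))
    ϖ hϖ.ne_zero hradE e
    (algebraMap S (Localization (Algebra.algebraMapSubmonoid S q.primeCompl)) x) (hx.map _)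
  have hxE : algebraMap S (Localization (Algebra.algebraMapSubmonoid S q.primeCompl)) x ∈
      (Ideal.span {algebraMap A S t}).map
        (algebraMap S (Localization (Algebra.algebraMapSubmonoid S q.primeCompl))) := by
    rw [Ideal.map_span, Set.image_singleton, ← IsScalarTower.algebraMap_apply,
      IsScalarTower.algebraMap_apply A (Localization.AtPrime q)
        (Localization (Algebra.algebraMapSubmonoid S q.primeCompl)), hw, ← map_pow,
      Ideal.mem_span_singleton']
    refine ⟨algebraMap (Localization.AtPrime q) _ ((u⁻¹ : (Localization.AtPrime q)ˣ) :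
      Localization.AtPrime q) * w, ?_⟩
    rw [← hu, map_mul]
    have : algebraMap (Localization.AtPrime q)
        (Localization (Algebra.algebraMapSubmonoid S q.primeCompl))
        ((u⁻¹ : (Localization.AtPrime q)ˣ) : Localization.AtPrime q) *
        algebraMap (Localization.AtPrime q)
        (Localization (Algebra.algebraMapSubmonoid S q.primeCompl)) (u : Localization.AtPrime q) = 1 := by
      rw [← map_mul, Units.inv_mul, map_one]
    calc _ = (algebraMap (Localization.AtPrime q)
        (Localization (Algebra.algebraMapSubmonoid S q.primeCompl))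
        ((u⁻¹ : (Localization.AtPrime q)ˣ) : Localization.AtPrime q) *
        algebraMap (Localization.AtPrime q)
        (Localization (Algebra.algebraMapSubmonoid S q.primeCompl)) (u : Localization.AtPrime q)) *
        (algebraMap (Localization.AtPrime q) _ (ϖ ^ e) * w) := by ring
      _ = _ := by rw [this, one_mul]
  rw [IsLocalization.mem_map_algebraMap_iff (Algebra.algebraMapSubmonoid S q.primeCompl)] at hxE
  obtain ⟨⟨⟨i, hi⟩, ⟨c, hc⟩⟩, hic⟩ := hxE
  simp only at hic
  rw [← map_mul, IsLocalization.eq_iff_exists (Algebra.algebraMapSubmonoid S q.primeCompl)] at hic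
  obtain ⟨⟨c', hc'⟩, hcc⟩ := hic
  simp only at hcc
  obtain ⟨s₁, hs₁, rfl⟩ := hc
  obtain ⟨s₂, hs₂, rfl⟩ := hc'
  refine ⟨s₂ * s₁, ?_, ?_⟩
  · exact (‹q.IsPrime›.mul_notMem hs₂ hs₁)
  · have : (s₂ * s₁) • x = algebraMap A S s₂ * i := by
      rw [← hcc, Algebra.smul_def, map_mul]; ring
    rw [this]
    exact Ideal.mul_mem_left _ _ hi

end

section
variable {A : Type u} [CommRing A] {S : Type u} [CommRing S] [Algebra A S] [Module.Flat A S]

/-- Flatness: if `s` is regular on `A/tA` and `s • x ∈ tS` then `x ∈ tS`. -/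
theorem mem_span_of_smul_mem_of_isSMulRegular (t s : A)
    (hs : IsSMulRegular (A ⧸ Ideal.span {t}) s) (x : S)
    (hx : s • x ∈ Ideal.span {algebraMap A S t}) : x ∈ Ideal.span {algebraMap A S t} := by
  obtain ⟨y, hy⟩ := Ideal.mem_span_singleton'.mp hx
  have hrel : ∑ i : Fin 2, (![s, -t] i) • (![x, y] i) = 0 := by
    simp only [Fin.sum_univ_two, Matrix.cons_val_zero, Matrix.cons_val_one]
    rw [← hy, neg_smul, Algebra.smul_def t y, mul_comm]
    exact add_neg_cancel _
  have htriv : Module.IsTrivialRelation (R := A) (M := S) ![s, -t] ![x, y] :=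
    Module.Flat.isTrivialRelation_of_sum_smul_eq_zero (R := A) (M := S) hrel
  obtain ⟨κ, a, z, hxz, hfa⟩ := htriv
  have h0 := hxz 0
  simp only [Matrix.cons_val_zero] at h0
  rw [h0]
  refine Ideal.sum_mem _ fun j _ => ?_
  have hj := hfa j
  simp only [Fin.sum_univ_two, Matrix.cons_val_zero, Matrix.cons_val_one] at hj
  -- s * a 0 j = t * a 1 j
  have h1 : s * a 0 j ∈ Ideal.span {t} := by
    rw [Ideal.mem_span_singleton']
    refine ⟨a 1 j, ?_⟩
    have : s * a 0 j = t * a 1 j := by linear_combination hj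
    rw [this, mul_comm]
  have h2 : a 0 j ∈ Ideal.span {t} := by
    rw [← Ideal.Quotient.eq_zero_iff_mem] at h1 ⊢
    apply hs
    simp only [smul_zero]
    rw [← h1, map_mul]
    rfl
  obtain ⟨b, hb⟩ := Ideal.mem_span_singleton'.mp h2
  rw [← hb, Algebra.smul_def, map_mul]
  have : algebraMap A S b * algebraMap A S t * z j = (algebraMap A S b * z j) * algebraMap A S t := by
    ring
  rw [this]
  exact Ideal.mul_mem_left _ _ (Ideal.mem_span_singleton_self _)

end

section
variable {A : Type u} [CommRing A] {S : Type u} [CommRing S] [Algebra A S] [Module.Flat A S]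

set_option maxHeartbeats 800000 in
theorem mem_span_of_isNilpotent [IsNoetherianRing A]
    (t : A) (ht : t ∈ nonZeroDivisors A)
    (hemb : associatedPrimes A (A ⧸ Ideal.span {t}) ⊆ (Ideal.span {t}).minimalPrimes)
    (hdvr : ∀ (q : Ideal A) [q.IsPrime], q ∈ (Ideal.span {t}).minimalPrimes →
      ∃ (_ : IsDomain (Localization.AtPrime q)), IsDiscreteValuationRing (Localization.AtPrime q))
    (hrad : ∀ (q : Ideal A) [q.IsPrime], q ∈ (Ideal.span {t}).minimalPrimes →
      (q.map (algebraMap A S)).IsRadical)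
    (x : S) (hx : IsNilpotent x) : x ∈ Ideal.span {algebraMap A S t} := by
  classical
  -- the ideal of multipliers
  let 𝔞 : Ideal A := Submodule.comap (LinearMap.toSpanSingleton A S x)
    ((Ideal.span {algebraMap A S t}).restrictScalars A)
  have h𝔞 : ∀ a : A, a ∈ 𝔞 ↔ a • x ∈ Ideal.span {algebraMap A S t} := by
    intro a
    simp only [𝔞, Submodule.mem_comap, LinearMap.toSpanSingleton_apply,
      Submodule.restrictScalars_mem]
  have hfin : (Ideal.span {t}).minimalPrimes.Finite :=
    Ideal.finite_minimalPrimes_of_isNoetherianRing A _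
  have hnotle : ∀ q ∈ hfin.toFinset, ¬ 𝔞 ≤ q := by
    intro q hq hle
    rw [Set.Finite.mem_toFinset] at hq
    have : q.IsPrime := hq.1.1
    obtain ⟨hdom, hd⟩ := hdvr q hq
    obtain ⟨s, hsq, hs⟩ := exists_smul_mem_span_of_isNilpotent t q ht (hrad q hq) x hx
    exact hsq (hle ((h𝔞 s).mpr hs))
  have havoid : ¬ ((𝔞 : Set A) ⊆ ⋃ q ∈ (hfin.toFinset : Set (Ideal A)), (q : Set A)) := by
    intro hsub
    rw [Ideal.subset_union_prime (f := fun q : Ideal A => q) ⊥ ⊥
      (fun q hq _ _ => ((Set.Finite.mem_toFinset hfin).mp hq).1.1)] at hsub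
    obtain ⟨q, hq, hle⟩ := hsub
    exact hnotle q hq hle
  rw [Set.not_subset] at havoid
  obtain ⟨s, hs𝔞, hsU⟩ := havoid
  have hsreg : IsSMulRegular (A ⧸ Ideal.span {t}) s := by
    by_contra hnreg
    have hmem : s ∈ ({r : A | IsSMulRegular (A ⧸ Ideal.span {t}) r}ᶜ : Set A) := hnreg
    rw [← biUnion_associatedPrimes_eq_compl_regular A (A ⧸ Ideal.span {t})] at hmem
    simp only [Set.mem_iUnion] at hmem
    obtain ⟨p, hp, hsp⟩ := hmem
    apply hsU
    simp only [Set.mem_iUnion]
    exact ⟨p, Finset.mem_coe.mpr ((Set.Finite.mem_toFinset hfin).mpr (hemb hp)), hsp⟩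
  exact mem_span_of_smul_mem_of_isSMulRegular t s hsreg x ((h𝔞 s).mp hs𝔞)

set_option maxHeartbeats 800000 in
/-- Zariski's criterion, abstract form: `S` a flat Noetherian `A`-algebra with `t` in its radical. -/
theorem isReduced_of_zariski [IsNoetherianRing A] [IsNoetherianRing S]
    (t : A) (ht : t ∈ nonZeroDivisors A)
    (htjac : algebraMap A S t ∈ (⊥ : Ideal S).jacobson)
    (hemb : associatedPrimes A (A ⧸ Ideal.span {t}) ⊆ (Ideal.span {t}).minimalPrimes)
    (hdvr : ∀ (q : Ideal A) [q.IsPrime], q ∈ (Ideal.span {t}).minimalPrimes →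
      ∃ (_ : IsDomain (Localization.AtPrime q)), IsDiscreteValuationRing (Localization.AtPrime q))
    (hrad : ∀ (q : Ideal A) [q.IsPrime], q ∈ (Ideal.span {t}).minimalPrimes →
      (q.map (algebraMap A S)).IsRadical) : IsReduced S := by
  have hreg : IsSMulRegular S (algebraMap A S t) := by
    have h1 : IsSMulRegular A t := by
      rw [isSMulRegular_iff_right_eq_zero_of_smul]
      intro x hx
      exact (mem_nonZeroDivisors_iff.mp ht).1 x (by simpa [smul_eq_mul] using hx)
    exact h1.of_flat
  have hle : nilradical S ≤ Ideal.span {algebraMap A S t} • nilradical S := by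
    intro x hx
    have hxn : IsNilpotent x := mem_nilradical.mp hx
    have hmem := mem_span_of_isNilpotent t ht hemb hdvr hrad x hxn
    obtain ⟨y, rfl⟩ := Ideal.mem_span_singleton'.mp hmem
    have hyn : IsNilpotent y := by
      obtain ⟨n, hn⟩ := hxn
      refine ⟨n, ?_⟩
      rw [mul_pow] at hn
      have hreg' : IsSMulRegular S (algebraMap A S t ^ n) := hreg.pow n
      apply hreg'
      simp only [smul_eq_mul, mul_zero]
      rw [mul_comm]; exact hn
    rw [mul_comm, smul_eq_mul]
    exact Ideal.mul_mem_mul (Ideal.mem_span_singleton_self _) (mem_nilradical.mpr hyn)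
  have hbot : nilradical S = ⊥ :=
    Submodule.eq_bot_of_le_smul_of_le_jacobson_bot (Ideal.span {algebraMap A S t}) (nilradical S)
      (IsNoetherian.noetherian _) hle
      ((Ideal.span_singleton_le_iff_mem _).mpr htjac)
  exact nilradical_eq_bot_iff.mp hbot

end

section Cpl
open scoped TensorProduct

set_option maxHeartbeats 800000 in
/-- Zariski's criterion for the completion of a Noetherian local ring. -/
theorem isReduced_cpl_of_zariski (A : Type u) [CommRing A] [IsNoetherianRing A] [IsLocalRing A]
    (t : A) (ht : t ∈ IsLocalRing.maximalIdeal A) (hreg : t ∈ nonZeroDivisors A)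
    (hemb : associatedPrimes A (A ⧸ Ideal.span {t}) ⊆ (Ideal.span {t}).minimalPrimes)
    (hdvr : ∀ (q : Ideal A) [q.IsPrime], q ∈ (Ideal.span {t}).minimalPrimes →
      ∃ (_ : IsDomain (Localization.AtPrime q)), IsDiscreteValuationRing (Localization.AtPrime q))
    (hred : ∀ (q : Ideal A) [q.IsPrime], q ∈ (Ideal.span {t}).minimalPrimes →
      IsReduced (EGA4.Cpl (A ⧸ q))) :
    IsReduced (EGA4.Cpl A) := by
  have hN : IsNoetherianRing (EGA4.Cpl A) :=
    Groth.Agent.Lib.AdicNoeth.isNoetherianRing_adicCompletion _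
  refine isReduced_of_zariski (A := A) (S := EGA4.Cpl A) t hreg ?_ hemb hdvr ?_
  · rw [IsLocalRing.jacobson_eq_maximalIdeal ⊥ bot_ne_top, AdicCompletion.maximalIdeal_eq_map]
    exact Ideal.mem_map_of_mem _ ht
  · intro q hqp hq
    have hredq : IsReduced (EGA4.Cpl (A ⧸ q)) := hred q hq
    obtain ⟨alg, tower, hpush⟩ := Groth.Agent.Lib.FormalFibreQuotient96.exists_isPushout A q
    have hpush' : Algebra.IsPushout A (EGA4.Cpl A) (A ⧸ q) (EGA4.Cpl (A ⧸ q)) := hpush.symm
    let e1 : (EGA4.Cpl A ⧸ q.map (algebraMap A (EGA4.Cpl A))) ≃ₐ[EGA4.Cpl A]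
        (EGA4.Cpl A) ⊗[A] (A ⧸ q) :=
      Algebra.TensorProduct.quotIdealMapEquivTensorQuot (EGA4.Cpl A) q
    let e2 : (EGA4.Cpl A) ⊗[A] (A ⧸ q) ≃ₐ[EGA4.Cpl A] EGA4.Cpl (A ⧸ q) :=
      Algebra.IsPushout.equiv A (EGA4.Cpl A) (A ⧸ q) (EGA4.Cpl (A ⧸ q))
    have hredquot : IsReduced (EGA4.Cpl A ⧸ q.map (algebraMap A (EGA4.Cpl A))) :=
      isReduced_of_injective (e1.trans e2).toRingEquiv.toRingHom (e1.trans e2).injective
    exact (Ideal.isRadical_iff_quotient_reduced _).mpr hredquot

end Cpl

end Groth.Agent.Lib.ZariskiReduced6
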