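/-
helper98: Nagata local rings are analytically unramified (Stacks 0331), in the strong form:
for a Noetherian local Nagata ring `R` and a finite `R`-algebra `C` which is a domain,
`C ⊗[R] R^` is reduced.

* `assoc_subset_minimalPrimes`, `dvr_of_mem_minimalPrimes` : principal ideals in normal Noetherian
  domains have no embedded primes, and the localizations at their minimal primes are DVRs.
* `isReduced_tensor_of_maximalIdeal_le` : the residue-field case.
* `algebraMap_mem_jacobson`, `isNoetherianRing_tensor`, `isRadical_map_of_isReduced`.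
* `isReduced_tensor_of_isDomain` : the core theorem.
* `isReduced_completion` : a Nagata local domain has reduced completion.
-/
import Mathlib
import Groth.Prelude.Def_Found
import Groth.Agent.Lib.ZariskiReduced6
import Groth.Agent.Lib.NagataNormFin96F
import Groth.Agent.Lib.NormalDimTwo6
import Groth.Agent.Lib.H14AdicLocal
import Groth.Agent.Lib.AdicNoeth

set_option autoImplicit false
set_option maxHeartbeats 400000
universe u

namespace Groth.Agent.Lib.NagataAnalytic98

open IsLocalRing TensorProduct

section normal

variable (B : Type u) [CommRing B] [IsDomain B] [IsNoetherianRing B] [IsIntegrallyClosed B]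

/-- In a normal Noetherian domain, `B/tB` has no embedded primes. -/
theorem assoc_subset_minimalPrimes (t : B) (ht : t ≠ 0) :
    associatedPrimes B (B ⧸ Ideal.span {t}) ⊆ (Ideal.span {t}).minimalPrimes := by
  intro p hp
  have hpp : p.IsPrime := hp.isPrime
  have hS : LocCoh.HasSk 2 B B := Groth.Agent.Lib.H14SerreNormal.hasSk_two_of_normal B
    (fun p _ => ⟨inferInstance,
      isIntegrallyClosed_of_isLocalization _ p.primeCompl p.primeCompl_le_nonZeroDivisors⟩)
  have hreg : IsSMulRegular B t := fun x y hxy => mul_left_cancel₀ ht hxy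
  have htp : t ∈ p := by
    apply hp.annihilator_le
    rw [Submodule.mem_annihilator]
    intro m _
    obtain ⟨b, rfl⟩ := Submodule.Quotient.mk_surjective _ m
    rw [← Submodule.Quotient.mk_smul, Submodule.Quotient.mk_eq_zero, smul_eq_mul]
    exact Ideal.mul_mem_right _ _ (Ideal.mem_span_singleton_self t)
  have hdepth := (Groth.Agent.Lib.H8CM.depth_localization_of_mem_associatedPrimes p htp hreg).1 hp
  have hht := Groth.Agent.Lib.H14SerreNormal.height_le_one_of_depth_eq_one hS p hdepth
  exact Groth.Agent.Lib.NormalDimTwo6.mem_minimalPrimes_of_height_le_one ht p hht htp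

/-- In a normal Noetherian domain, the localization at a minimal prime of `(t)` is a DVR. -/
theorem dvr_of_mem_minimalPrimes (t : B) (ht : t ≠ 0) (q : Ideal B) [hq : q.IsPrime]
    (hmin : q ∈ (Ideal.span {t}).minimalPrimes) :
    ∃ (_ : IsDomain (Localization.AtPrime q)),
      IsDiscreteValuationRing (Localization.AtPrime q) := by
  refine ⟨inferInstance, ?_⟩
  have hic : IsIntegrallyClosed (Localization.AtPrime q) :=
    isIntegrallyClosed_of_isLocalization _ q.primeCompl q.primeCompl_le_nonZeroDivisors
  have hht : q.height ≤ 1 := Ideal.height_le_one_of_isPrincipal_of_mem_minimalPrimes _ q hmin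
  have hdim : ringKrullDim (Localization.AtPrime q) ≤ 1 := by
    rw [IsLocalization.AtPrime.ringKrullDim_eq_height q]
    exact_mod_cast hht
  have hK : Ring.KrullDimLE 1 (Localization.AtPrime q) := Ring.krullDimLE_iff.mpr hdim
  have hmax : ∀ P : Ideal (Localization.AtPrime q), P ≠ ⊥ → P.IsPrime →
      P = maximalIdeal (Localization.AtPrime q) := fun P hP hPp =>
    IsLocalRing.eq_maximalIdeal ((Ring.krullDimLE_one_iff_of_isPrime_bot.mp hK) P hP hPp)
  have h30 : (IsIntegrallyClosed (Localization.AtPrime q) ∧
      ∀ P : Ideal (Localization.AtPrime q), P ≠ ⊥ → P.IsPrime →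
        P = maximalIdeal (Localization.AtPrime q)) ↔
      IsPrincipalIdealRing (Localization.AtPrime q) :=
    (tfae_of_isNoetherianRing_of_isLocalRing_of_isDomain (Localization.AtPrime q)).out 3 0
  have hpir : IsPrincipalIdealRing (Localization.AtPrime q) := h30.mp ⟨hic, hmax⟩
  have htq : t ∈ q := hmin.1.2 (Ideal.mem_span_singleton_self t)
  have hne : maximalIdeal (Localization.AtPrime q) ≠ ⊥ := by
    intro hbot
    have hmem : algebraMap B (Localization.AtPrime q) t ∈ maximalIdeal (Localization.AtPrime q) :=
      (IsLocalization.AtPrime.to_map_mem_maximal_iff (Localization.AtPrime q) q t).mpr htq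
    rw [hbot, Ideal.mem_bot] at hmem
    exact ht (IsLocalization.injective (Localization.AtPrime q) q.primeCompl_le_nonZeroDivisors
      (hmem.trans (map_zero _).symm))
  exact { toIsPrincipalIdealRing := hpir, toIsLocalRing := inferInstance, not_a_field' := hne }

end normal

section tensor

variable (R : Type u) [CommRing R] [IsNoetherianRing R] [IsLocalRing R]

/-- If `m_R` kills the domain `C`, then `C → C ⊗ R^` is bijective; in particular the target is
reduced. -/
theorem isReduced_tensor_of_maximalIdeal_le (C : Type u) [CommRing C] [IsDomain C] [Algebra R C]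
    (hle : maximalIdeal R ≤ RingHom.ker (algebraMap R C)) :
    IsReduced (C ⊗[R] AdicCompletion (maximalIdeal R) R) := by
  have hflat : Module.Flat R (AdicCompletion (maximalIdeal R) R) :=
    AdicCompletion.flat_of_isNoetherian _
  have hff : Module.FaithfullyFlat R (AdicCompletion (maximalIdeal R) R) :=
    Module.FaithfullyFlat.of_flat_of_isLocalHom
  let φ : C →ₐ[R] C ⊗[R] AdicCompletion (maximalIdeal R) R := Algebra.TensorProduct.includeLeft
  have hinj : Function.Injective φ := by
    have h1 := Module.FaithfullyFlat.tensorProduct_mk_injective (A := R)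
      (B := AdicCompletion (maximalIdeal R) R) C
    have h2 : ⇑φ = (TensorProduct.comm R (AdicCompletion (maximalIdeal R) R) C) ∘
        (TensorProduct.mk R (AdicCompletion (maximalIdeal R) R) C 1) := by
      ext c; simp [φ]
    rw [h2]; exact (TensorProduct.comm R _ C).injective.comp h1
  have hkill : ∀ (c : C) (z : AdicCompletion (maximalIdeal R) R),
      z ∈ (maximalIdeal R).map (algebraMap R (AdicCompletion (maximalIdeal R) R)) →
      c ⊗ₜ[R] z = 0 := by
    intro c z hz
    have hz' : z ∈ Ideal.span ((algebraMap R (AdicCompletion (maximalIdeal R) R)) ''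
        (maximalIdeal R : Set R)) := hz
    refine Submodule.span_induction ?_ ?_ ?_ ?_ hz'
    · rintro _ ⟨a, ha, rfl⟩
      have ha0 : algebraMap R C a = 0 := hle ha
      rw [Algebra.algebraMap_eq_smul_one, ← TensorProduct.smul_tmul, Algebra.smul_def, ha0,
        zero_mul, TensorProduct.zero_tmul]
    · exact TensorProduct.tmul_zero _ c
    · intro a b _ _ ha hb; rw [TensorProduct.tmul_add, ha, hb, add_zero]
    · intro s z _ hz
      have : c ⊗ₜ[R] (s • z) = ((1 : C) ⊗ₜ[R] s) * (c ⊗ₜ[R] z) := by
        rw [Algebra.TensorProduct.tmul_mul_tmul, one_mul, smul_eq_mul]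
      rw [this, hz, mul_zero]
  have hsurj : Function.Surjective φ := by
    intro z
    induction z using TensorProduct.induction_on with
    | zero => exact ⟨0, map_zero _⟩
    | tmul c r =>
      obtain ⟨a, ha⟩ := Groth.Agent.Lib.H14AdicLocal.exists_sub_mem_map R (maximalIdeal R)
        (IsNoetherian.noetherian _) r
      refine ⟨a • c, ?_⟩
      have h0 := hkill c _ ha
      rw [TensorProduct.tmul_sub, sub_eq_zero] at h0
      rw [h0]
      show (a • c) ⊗ₜ[R] (1 : AdicCompletion (maximalIdeal R) R) = c ⊗ₜ[R] (algebraMap R _ a)
      rw [Algebra.algebraMap_eq_smul_one, TensorProduct.smul_tmul]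
    | add x y hx hy =>
      obtain ⟨a, rfl⟩ := hx; obtain ⟨b, rfl⟩ := hy
      exact ⟨a + b, map_add _ _ _⟩
  let e : C ≃+* C ⊗[R] AdicCompletion (maximalIdeal R) R :=
    RingEquiv.ofBijective φ.toRingHom ⟨hinj, hsurj⟩
  exact isReduced_of_injective e.symm.toRingHom e.symm.injective

/-- `C ⊗ R^` is Noetherian for a finite `R`-algebra `C`. -/
theorem isNoetherianRing_tensor (C : Type u) [CommRing C] [Algebra R C] [Module.Finite R C] :
    IsNoetherianRing (C ⊗[R] AdicCompletion (maximalIdeal R) R) := by
  haveI : IsNoetherianRing (AdicCompletion (maximalIdeal R) R) :=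
    Groth.Agent.Lib.AdicNoeth.isNoetherianRing_adicCompletion _
  haveI : IsNoetherianRing (AdicCompletion (maximalIdeal R) R ⊗[R] C) :=
    IsNoetherianRing.of_finite (AdicCompletion (maximalIdeal R) R) _
  exact isNoetherianRing_of_ringEquiv _
    (Algebra.TensorProduct.comm R (AdicCompletion (maximalIdeal R) R) C).toRingEquiv

/-- The image of `m_R` lies in the Jacobson radical of `C ⊗ R^` for finite `C`. -/
theorem algebraMap_mem_jacobson (C : Type u) [CommRing C] [Algebra R C] [Module.Finite R C]
    (t : R) (ht : t ∈ maximalIdeal R) :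
    algebraMap C (C ⊗[R] AdicCompletion (maximalIdeal R) R) (algebraMap R C t)
      ∈ (⊥ : Ideal (C ⊗[R] AdicCompletion (maximalIdeal R) R)).jacobson := by
  rw [Ideal.jacobson, Ideal.mem_sInf]
  rintro M ⟨-, hM⟩
  let e := Algebra.TensorProduct.comm R C (AdicCompletion (maximalIdeal R) R)
  let M' : Ideal (AdicCompletion (maximalIdeal R) R ⊗[R] C) :=
    M.comap (e.symm : AdicCompletion (maximalIdeal R) R ⊗[R] C →+*
      C ⊗[R] AdicCompletion (maximalIdeal R) R)
  haveI : M'.IsMaximal := Ideal.comap_isMaximal_of_surjective _ e.symm.surjective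
  haveI : (M'.comap (algebraMap (AdicCompletion (maximalIdeal R) R)
      (AdicCompletion (maximalIdeal R) R ⊗[R] C))).IsMaximal :=
    Ideal.isMaximal_comap_of_isIntegral_of_isMaximal M'
  have h1 : M'.comap (algebraMap (AdicCompletion (maximalIdeal R) R)
      (AdicCompletion (maximalIdeal R) R ⊗[R] C)) = maximalIdeal _ :=
    IsLocalRing.eq_maximalIdeal inferInstance
  have h2 : algebraMap R (AdicCompletion (maximalIdeal R) R) t ∈
      maximalIdeal (AdicCompletion (maximalIdeal R) R) := by
    rw [AdicCompletion.maximalIdeal_eq_map]; exact Ideal.mem_map_of_mem _ ht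
  rw [← h1] at h2
  have h3 : e.symm (algebraMap (AdicCompletion (maximalIdeal R) R)
      (AdicCompletion (maximalIdeal R) R ⊗[R] C) (algebraMap R _ t)) =
      algebraMap C (C ⊗[R] AdicCompletion (maximalIdeal R) R) (algebraMap R C t) := by
    rw [← IsScalarTower.algebraMap_apply R (AdicCompletion (maximalIdeal R) R)
        (AdicCompletion (maximalIdeal R) R ⊗[R] C),
      ← IsScalarTower.algebraMap_apply R C (C ⊗[R] AdicCompletion (maximalIdeal R) R),
      AlgEquiv.commutes]
  rw [← h3]
  exact h2

/-- `qE` is radical as soon as `(C/q) ⊗ R^` is reduced. -/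
theorem isRadical_map_of_isReduced (C : Type u) [CommRing C] [Algebra R C] (q : Ideal C)
    (h : IsReduced ((C ⧸ q) ⊗[R] AdicCompletion (maximalIdeal R) R)) :
    (q.map (algebraMap C (C ⊗[R] AdicCompletion (maximalIdeal R) R))).IsRadical := by
  let f : C →ₐ[R] C ⧸ q := Ideal.Quotient.mkₐ R q
  have hf : Function.Surjective f := Ideal.Quotient.mkₐ_surjective R q
  let F := Algebra.TensorProduct.map f (AlgHom.id R (AdicCompletion (maximalIdeal R) R))
  have hker : RingHom.ker F = (RingHom.ker f).map
      (Algebra.TensorProduct.includeLeft : C →ₐ[R] C ⊗[R] AdicCompletion (maximalIdeal R) R) :=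
    Algebra.TensorProduct.rTensor_ker f hf
  have hsurjF : Function.Surjective F :=
    Algebra.TensorProduct.map_surjective f _ hf Function.surjective_id
  have hrad : (RingHom.ker F).IsRadical :=
    (RingHom.ker_isRadical_iff_reduced_of_surjective hsurjF).mpr h
  have hkf : RingHom.ker f = q := Ideal.Quotient.mkₐ_ker R q
  have heq : q.map (algebraMap C (C ⊗[R] AdicCompletion (maximalIdeal R) R)) = RingHom.ker F := by
    rw [hker, hkf]
    apply le_antisymm
    · rw [Ideal.map_le_iff_le_comap]
      intro a ha
      exact Ideal.mem_map_of_mem _ ha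
    · rw [Ideal.map_le_iff_le_comap]
      intro a ha
      exact Ideal.mem_map_of_mem (algebraMap C (C ⊗[R] AdicCompletion (maximalIdeal R) R)) ha
  rw [heq]; exact hrad

end tensor

section core

variable (R : Type u) [CommRing R] [IsLocalRing R]

/-- Inductive step. -/
theorem step (hR : CAlg.IsNagata R) [IsNoetherianRing R]
    (C : Type u) [CommRing C] [IsDomain C] [Algebra R C] [Module.Finite R C]
    (t : R) (htm : t ∈ maximalIdeal R) (htC : algebraMap R C t ≠ 0)
    (ih : ∀ (D : Type u) [CommRing D] [IsDomain D] [Algebra R D] [Module.Finite R D],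
      RingHom.ker (algebraMap R C) ≤ RingHom.ker (algebraMap R D) → algebraMap R D t = 0 →
      IsReduced (D ⊗[R] AdicCompletion (maximalIdeal R) R)) :
    IsReduced (C ⊗[R] AdicCompletion (maximalIdeal R) R) := by
  classical
  haveI hflat : Module.Flat R (AdicCompletion (maximalIdeal R) R) :=
    AdicCompletion.flat_of_isNoetherian _
  haveI : Algebra.EssFiniteType C (FractionRing C) :=
    Algebra.EssFiniteType.of_isLocalization _ (nonZeroDivisors C)
  haveI : Algebra.EssFiniteType R (FractionRing C) :=
    Algebra.EssFiniteType.comp R C (FractionRing C)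
  have hfinL : Module.Finite R (integralClosure R (FractionRing C)) :=
    Groth.Agent.Lib.NagataNormFin96.finite_integralClosure_field' hR (FractionRing C)
  let j : integralClosure C (FractionRing C) →ₗ[R] integralClosure R (FractionRing C) :=
    { toFun := fun x => ⟨x.1, isIntegral_trans (R := R) (A := C) x.1 x.2⟩
      map_add' := fun x y => rfl
      map_smul' := fun r x => rfl }
  have hj : Function.Injective j := fun x y h => Subtype.ext
    (show x.1 = y.1 from congrArg (fun z : integralClosure R (FractionRing C) => z.1) h)
  haveI : IsNoetherian R (integralClosure R (FractionRing C)) :=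
    isNoetherian_of_isNoetherianRing_of_finite R _
  haveI hfinC' : Module.Finite R (integralClosure C (FractionRing C)) :=
    Module.Finite.of_injective j hj
  haveI : IsNoetherianRing (integralClosure C (FractionRing C)) :=
    isNoetherian_of_tower R (isNoetherian_of_isNoetherianRing_of_finite R _)
  haveI : IsIntegrallyClosed (integralClosure C (FractionRing C)) :=
    integralClosure.isIntegrallyClosedOfFiniteExtension (FractionRing C)
  have hcoe : ∀ r : R, ((algebraMap R (integralClosure C (FractionRing C)) r :
      integralClosure C (FractionRing C)) : FractionRing C) =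
      algebraMap C (FractionRing C) (algebraMap R C r) := by
    intro r
    rw [← IsScalarTower.algebraMap_apply R C (FractionRing C)]
    rfl
  have ht'0 : algebraMap R (integralClosure C (FractionRing C)) t ≠ 0 := by
    intro h0
    apply htC
    have h1 := hcoe t
    rw [h0] at h1
    exact (IsFractionRing.injective C (FractionRing C)) (h1.symm.trans (map_zero _).symm)
  haveI := isNoetherianRing_tensor R (integralClosure C (FractionRing C))
  have hred' : IsReduced ((integralClosure C (FractionRing C)) ⊗[R]
      AdicCompletion (maximalIdeal R) R) := by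
    refine Groth.Agent.Lib.ZariskiReduced6.isReduced_of_zariski
      (A := integralClosure C (FractionRing C))
      (S := (integralClosure C (FractionRing C)) ⊗[R] AdicCompletion (maximalIdeal R) R)
      (algebraMap R (integralClosure C (FractionRing C)) t)
      (mem_nonZeroDivisors_of_ne_zero ht'0)
      (algebraMap_mem_jacobson R _ t htm)
      (assoc_subset_minimalPrimes _ _ ht'0)
      (fun q hq hmin => dvr_of_mem_minimalPrimes _ _ ht'0 q hmin) ?_
    intro q hq hmin
    apply isRadical_map_of_isReduced
    haveI : Module.Finite R ((integralClosure C (FractionRing C)) ⧸ q) :=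
      Module.Finite.of_surjective (Ideal.Quotient.mkₐ R q).toLinearMap
        (Ideal.Quotient.mkₐ_surjective R q)
    apply ih
    · intro a ha
      rw [RingHom.mem_ker] at ha ⊢
      rw [← Ideal.Quotient.mk_algebraMap, Ideal.Quotient.eq_zero_iff_mem]
      have : algebraMap R (integralClosure C (FractionRing C)) a = 0 := by
        apply Subtype.ext
        rw [hcoe a, ha, map_zero]; rfl
      rw [this]; exact q.zero_mem
    · rw [← Ideal.Quotient.mk_algebraMap, Ideal.Quotient.eq_zero_iff_mem]
      exact hmin.1.2 (Ideal.mem_span_singleton_self _)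
  -- descend to `C`
  let g : C →ₐ[R] integralClosure C (FractionRing C) :=
    IsScalarTower.toAlgHom R C (integralClosure C (FractionRing C))
  have hginj : Function.Injective g := by
    intro x y hxy
    apply IsFractionRing.injective C (FractionRing C)
    exact congrArg Subtype.val hxy
  let G := Algebra.TensorProduct.map g (AlgHom.id R (AdicCompletion (maximalIdeal R) R))
  have hGinj : Function.Injective G :=
    Module.Flat.rTensor_preserves_injective_linearMap (M := AdicCompletion (maximalIdeal R) R)
      g.toLinearMap hginj
  exact isReduced_of_injective G.toRingHom hGinj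

/-- **Core theorem**: for a Noetherian local Nagata ring `R` and a finite `R`-algebra `C` which is a
domain, `C ⊗[R] R^` is reduced. -/
theorem isReduced_tensor_of_isDomain (hR : CAlg.IsNagata R)
    (C : Type u) [CommRing C] [IsDomain C] [Algebra R C] [Module.Finite R C] :
    IsReduced (C ⊗[R] AdicCompletion (maximalIdeal R) R) := by
  haveI : IsNoetherianRing R := hR.1
  suffices H : ∀ p : Ideal R, ∀ (C : Type u) [CommRing C] [IsDomain C] [Algebra R C]
      [Module.Finite R C], RingHom.ker (algebraMap R C) = p →
      IsReduced (C ⊗[R] AdicCompletion (maximalIdeal R) R) from H _ C rfl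
  intro p
  refine WellFoundedGT.induction (motive := fun p => ∀ (C : Type u) [CommRing C] [IsDomain C]
    [Algebra R C] [Module.Finite R C], RingHom.ker (algebraMap R C) = p →
      IsReduced (C ⊗[R] AdicCompletion (maximalIdeal R) R)) p ?_
  intro p ih C _ _ _ _ hker
  by_cases hpm : maximalIdeal R ≤ p
  · exact isReduced_tensor_of_maximalIdeal_le R C (hker ▸ hpm)
  · obtain ⟨t, htm, htp⟩ := SetLike.not_le_iff_exists.mp hpm
    have htC : algebraMap R C t ≠ 0 := fun h => htp (hker ▸ (RingHom.mem_ker.mpr h))
    refine step R hR C t htm htC ?_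
    intro D _ _ _ _ hle ht0
    refine ih (RingHom.ker (algebraMap R D)) ?_ D rfl
    rw [← hker]
    refine lt_of_le_of_ne hle ?_
    intro heq
    apply htC
    have : t ∈ RingHom.ker (algebraMap R C) := heq ▸ (RingHom.mem_ker.mpr ht0)
    exact RingHom.mem_ker.mp this

/-- A Nagata local domain is analytically unramified. -/
theorem isReduced_completion [IsDomain R] (hR : CAlg.IsNagata R) :
    IsReduced (AdicCompletion (maximalIdeal R) R) := by
  haveI : IsNoetherianRing R := hR.1
  have h := isReduced_tensor_of_isDomain R hR R
  let e : R ⊗[R] AdicCompletion (maximalIdeal R) R ≃ₐ[R] AdicCompletion (maximalIdeal R) R :=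
    Algebra.TensorProduct.lid R _
  exact isReduced_of_injective e.symm.toAlgHom.toRingHom e.symm.injective

end core

end Groth.Agent.Lib.NagataAnalytic98
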