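/-
helper98: extension of `NagataAnalytic98.isReduced_tensor_of_isDomain` to reduced finite algebras.
-/
import Mathlib
import Groth.Agent.Lib.NagataAnalytic98

set_option autoImplicit false
set_option maxHeartbeats 400000
universe u

namespace Groth.Agent.Lib.NagataAnalytic98

open IsLocalRing TensorProduct

/-- For a Noetherian local Nagata ring `R` and a reduced finite `R`-algebra `C`, `C ⊗[R] R^` is
reduced. -/
theorem isReduced_tensor_of_isReduced (R : Type u) [CommRing R] [IsLocalRing R]
    (hR : CAlg.IsNagata R)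
    (C : Type u) [CommRing C] [IsReduced C] [Algebra R C] [Module.Finite R C] :
    IsReduced (C ⊗[R] AdicCompletion (maximalIdeal R) R) := by
  classical
  haveI : IsNoetherianRing R := hR.1
  haveI : IsNoetherianRing C := IsNoetherianRing.of_finite R C
  haveI hflat : Module.Flat R (AdicCompletion (maximalIdeal R) R) :=
    AdicCompletion.flat_of_isNoetherian _
  have hfin : (minimalPrimes C).Finite := minimalPrimes.finite_of_isNoetherianRing C
  haveI : Fintype (minimalPrimes C) := hfin.fintype
  haveI : ∀ q : minimalPrimes C, q.1.IsPrime := fun q => q.2.1.1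
  let φ : C →ₐ[R] (∀ q : minimalPrimes C, C ⧸ q.1) :=
    AlgHom.pi (fun q => Ideal.Quotient.mkₐ R q.1)
  have hφ : Function.Injective φ := by
    rw [injective_iff_map_eq_zero]
    intro s hs
    have hs' : s ∈ nilradical C := by
      rw [nilradical_eq_sInf, Ideal.mem_sInf]
      intro J hJ
      haveI : J.IsPrime := hJ
      obtain ⟨q, hq, hqJ⟩ := Ideal.exists_minimalPrimes_le (bot_le : ⊥ ≤ J)
      have h1 : Ideal.Quotient.mk q s = 0 := congrFun hs ⟨q, hq⟩
      exact hqJ (Ideal.Quotient.eq_zero_iff_mem.mp h1)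
    rwa [nilradical_eq_zero, Ideal.zero_eq_bot, Ideal.mem_bot] at hs'
  have hfac : ∀ q : minimalPrimes C,
      IsReduced (AdicCompletion (maximalIdeal R) R ⊗[R] (C ⧸ q.1)) := by
    intro q
    haveI : Module.Finite R (C ⧸ q.1) :=
      Module.Finite.of_surjective (Ideal.Quotient.mkₐ R q.1).toLinearMap
        (Ideal.Quotient.mkₐ_surjective R q.1)
    have h := isReduced_tensor_of_isDomain R hR (C ⧸ q.1)
    let e := Algebra.TensorProduct.comm R (AdicCompletion (maximalIdeal R) R) (C ⧸ q.1)
    exact isReduced_of_injective e.toAlgHom.toRingHom e.injective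
  haveI := hfac
  let Ψ₁ : AdicCompletion (maximalIdeal R) R ⊗[R] C →ₐ[R]
      AdicCompletion (maximalIdeal R) R ⊗[R] (∀ q : minimalPrimes C, C ⧸ q.1) :=
    Algebra.TensorProduct.map (AlgHom.id R (AdicCompletion (maximalIdeal R) R)) φ
  have hΨ₁ : Function.Injective Ψ₁ :=
    Module.Flat.lTensor_preserves_injective_linearMap (M := AdicCompletion (maximalIdeal R) R)
      φ.toLinearMap hφ
  let Ψ₂ := Algebra.TensorProduct.piRight R R (AdicCompletion (maximalIdeal R) R)
    (fun q : minimalPrimes C => C ⧸ q.1)
  have h2 : IsReduced (AdicCompletion (maximalIdeal R) R ⊗[R]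
      (∀ q : minimalPrimes C, C ⧸ q.1)) :=
    isReduced_of_injective Ψ₂.toAlgHom.toRingHom Ψ₂.injective
  have h3 : IsReduced (AdicCompletion (maximalIdeal R) R ⊗[R] C) :=
    isReduced_of_injective Ψ₁.toRingHom hΨ₁
  let e := Algebra.TensorProduct.comm R C (AdicCompletion (maximalIdeal R) R)
  exact isReduced_of_injective e.toAlgHom.toRingHom e.injective

end Groth.Agent.Lib.NagataAnalytic98
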