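import Mathlib
import Groth.Prelude.Def_Found
import Groth.Prelude.Def_EGA4b
import Groth.Agent.Lib.FormalFibreNagata98
import Groth.Agent.Lib.NagataAnalyticB98
import Groth.Agent.Lib.TotalFrac

/-!
EGA IV 7.6.1: a reduced Noetherian local ring with geometrically normal formal fibres has reduced
completion and finite normalization.
-/

set_option autoImplicit false
set_option maxHeartbeats 400000
universe u

namespace Groth.Agent.Lib.GeomNormalFibres98

open IsLocalRing TensorProduct Groth.Agent.Lib

/-- A normal ring (all localizations at primes are integrally closed domains) is reduced. -/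
theorem isReduced_of_isNormalRing (R : Type u) [CommRing R] (h : EGA4.IsNormalRing R) :
    IsReduced R := by
  apply isReduced_ofLocalizationMaximal R
  intro J hJ
  haveI := hJ.isPrime
  haveI := (h J).1
  infer_instance

/-- Geometrically normal (in the sense of finite extensions) implies geometrically reduced. -/
theorem isGeometricallyReduced_of_isGeomNormal (k : Type u) [Field k] (F : Type u) [CommRing F]
    [Algebra k F] (h : EGA4.IsGeomNormal k F) : Algebra.IsGeometricallyReduced k F := by
  rw [Algebra.isGeometricallyReduced_field_iff]
  have key : IsReduced (F ⊗[k] AlgebraicClosure k) := by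
    apply IsReduced.tensorProduct_of_flat_of_forall_fg
    intro B hB
    obtain ⟨s, hs⟩ := hB
    haveI : FiniteDimensional k
        (IntermediateField.adjoin k ((s : Set (AlgebraicClosure k)))) :=
      IntermediateField.finiteDimensional_adjoin (fun x _ => Algebra.IsIntegral.isIntegral x)
    have hle : B ≤ (IntermediateField.adjoin k ((s : Set (AlgebraicClosure k)))).toSubalgebra := by
      rw [← hs]; exact IntermediateField.algebra_adjoin_le_adjoin k _
    have hE : IsReduced
        ((IntermediateField.adjoin k ((s : Set (AlgebraicClosure k)))) ⊗[k] F) :=
      isReduced_of_isNormalRing _ (h _ inferInstance)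
    have hE' : IsReduced
        (F ⊗[k] (IntermediateField.adjoin k ((s : Set (AlgebraicClosure k))))) :=
      isReduced_of_injective (Algebra.TensorProduct.comm k F _).toRingEquiv
        (RingEquiv.injective _)
    exact isReduced_of_injective
      (Algebra.TensorProduct.map (AlgHom.id k F) (Subalgebra.inclusion hle))
      (Module.Flat.lTensor_preserves_injective_linearMap _ (Subalgebra.inclusion_injective hle))
  exact isReduced_of_injective (Algebra.TensorProduct.comm k (AlgebraicClosure k) F).toRingEquiv
    (RingEquiv.injective _)

theorem hasGeomReduced_of_hasGeomNormal (A : Type u) [CommRing A] [IsLocalRing A]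
    (h : EGA4.HasGeomNormalFormalFibres A) : EGA4.HasGeomReducedFormalFibres A :=
  fun p _ => isGeometricallyReduced_of_isGeomNormal _ _ (h p)

/-- A reduced Nagata ring has finite normalization in its total ring of fractions. -/
theorem finite_integralClosure_of_isNagata (A : Type u) [CommRing A] [IsReduced A]
    (hNag : CAlg.IsNagata A) : Module.Finite A (integralClosure A (FractionRing A)) := by
  haveI := hNag.1
  have hq : ∀ p : TotalFrac.MinPrime A, Module.Finite A (TotalFrac.Cq A p) := by
    intro p
    have h2 : CAlg.IsN2 (A ⧸ p.1) := hNag.2 p.1
    have h1 : Module.Finite (A ⧸ p.1) (TotalFrac.Cq A p) :=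
      h2 (FractionRing (A ⧸ p.1)) inferInstance
    exact Module.Finite.trans (A ⧸ p.1) _
  haveI := hq
  exact Module.Finite.equiv (TotalFrac.integralClosureEquivPi A).symm.toLinearEquiv

/-- A reduced Noetherian local Nagata ring is analytically unramified. -/
theorem isReduced_cpl_of_isNagata (A : Type u) [CommRing A] [IsLocalRing A] [IsReduced A]
    (hNag : CAlg.IsNagata A) : IsReduced (AdicCompletion (maximalIdeal A) A) := by
  haveI h1 : IsReduced (A ⊗[A] AdicCompletion (maximalIdeal A) A) :=
    NagataAnalytic98.isReduced_tensor_of_isReduced A hNag A
  exact isReduced_of_injective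
    (Algebra.TensorProduct.lid A (AdicCompletion (maximalIdeal A) A)).symm.toRingEquiv
    (RingEquiv.injective _)

theorem main (A : Type u) [CommRing A] [IsNoetherianRing A] [IsLocalRing A] [IsReduced A]
    (hA : EGA4.HasGeomNormalFormalFibres A) :
    IsReduced (EGA4.Cpl A) ∧ Module.Finite A (integralClosure A (FractionRing A)) := by
  have hNag := FormalFibreNagata98.isNagata_of_geomReducedFormalFibres A
    (hasGeomReduced_of_hasGeomNormal A hA)
  exact ⟨isReduced_cpl_of_isNagata A hNag, finite_integralClosure_of_isNagata A hNag⟩

end Groth.Agent.Lib.GeomNormalFibres98
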