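import Groth.Agent.Lib.MacLane4H44
import Groth.Agent.Lib.GeomReducedFibres
import Groth.Agent.Lib.GeomReducedProd

/-!
# helper44: MacLane's criterion, part 5 (perfect base fields, reduced algebras)

* `LD_of_perfectRing`: over a perfect field every field extension satisfies `LD`.
* `isReduced_tensor_of_perfect`: over a perfect field `k`, `K ⊗[k] R` is reduced for every field
  extension `K` and every reduced `k`-algebra `R` (all characteristics).
* `isReduced_tensor_of_isGeometricallyReduced_field`: for a separable field extension `K/k`
  (geometrically reduced), `K ⊗[k] R` is reduced for every reduced `k`-algebra `R`.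
* `isGeometricallyReduced_of_forall_finite_purelyInseparable`: a `k`-algebra that stays reduced
  after every finite purely inseparable extension is geometrically reduced.
-/

set_option autoImplicit false
universe u
open TensorProduct

namespace Groth.Agent.Lib.MacLane5H44

open Groth.Agent.Lib.MacLaneH44 Groth.Agent.Lib.MacLane4H44

theorem LD_of_perfectRing (p : ℕ) [hp : Fact p.Prime] (k K : Type*) [Field k] [Field K]
    [Algebra k K] [CharP k p] [PerfectRing k p] : LD p k K := by
  intro n s hs
  have hK : CharP K p := charP_of_injective_algebraMap (algebraMap k K).injective p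
  rw [Fintype.linearIndependent_iff] at hs ⊢
  intro g hg
  choose b hb using fun i => surjective_frobenius k p (g i)
  have h1 : (∑ i, b i • s i) ^ p = 0 := by
    rw [sum_pow_char, ← hg]
    apply Finset.sum_congr rfl
    intro i _
    rw [Algebra.smul_def, Algebra.smul_def, mul_pow, ← map_pow, ← hb i]
    rfl
  have h2 : ∑ i, b i • s i = 0 := pow_eq_zero_iff hp.out.ne_zero |>.1 h1
  intro i
  rw [← hb i, hs b h2 i, map_zero]

/-- A separable (geometrically reduced) field extension stays reduced after tensoring with any
reduced algebra. -/
theorem isReduced_tensor_of_isGeometricallyReduced_field (k K R : Type u) [Field k] [Field K]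
    [Algebra k K] [CommRing R] [Algebra k R] [IsReduced R]
    [Algebra.IsGeometricallyReduced k K] : IsReduced (K ⊗[k] R) := by
  apply Groth.Agent.Lib.GeomReducedProd.isReduced_tensorProduct
  intro K' _ _
  have := Groth.Agent.Lib.GeomReducedFibres.isReduced_tensorProduct_of_isGeometricallyReduced k K K'
  exact isReduced_of_injective (Algebra.TensorProduct.comm k K K').toRingHom
    (Algebra.TensorProduct.comm k K K').injective

theorem isGeometricallyReduced_of_perfectField (k K : Type u) [Field k] [Field K] [Algebra k K]
    [PerfectField k] : Algebra.IsGeometricallyReduced k K := by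
  obtain h0 | ⟨p, hp, hchar⟩ := CharP.exists' k
  · exact isGeometricallyReduced_of_charZero k K
  · have : PerfectRing k p := PerfectField.toPerfectRing p
    exact (isGeometricallyReduced_iff_LD p k K).2 (LD_of_perfectRing p k K)

/-- Over a perfect field, `K ⊗[k] R` is reduced for every field `K` and reduced algebra `R`. -/
theorem isReduced_tensor_of_perfect (k K R : Type u) [Field k] [Field K]
    [Algebra k K] [CommRing R] [Algebra k R] [IsReduced R] [PerfectField k] :
    IsReduced (K ⊗[k] R) := by
  have := isGeometricallyReduced_of_perfectField k K
  exact isReduced_tensor_of_isGeometricallyReduced_field k K R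

theorem isReduced_tensor_of_tower_perfect (k k₁ Ω S : Type u) [Field k] [Field k₁] [Field Ω]
    [CommRing S] [Algebra k S] [Algebra k k₁] [Algebra k₁ Ω] [Algebra k Ω] [IsScalarTower k k₁ Ω]
    [PerfectField k₁] (h : IsReduced (k₁ ⊗[k] S)) : IsReduced (Ω ⊗[k] S) := by
  have hB : IsReduced (Ω ⊗[k₁] (k₁ ⊗[k] S)) := isReduced_tensor_of_perfect k₁ Ω (k₁ ⊗[k] S)
  exact isReduced_of_injective (Algebra.TensorProduct.cancelBaseChange k k₁ Ω Ω S).symm
    (Algebra.TensorProduct.cancelBaseChange k k₁ Ω Ω S).symm.injective

/-- A `k`-algebra that stays reduced after every finite purely inseparable extension of `k` is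
geometrically reduced. -/
theorem isGeometricallyReduced_of_forall_finite_purelyInseparable (k S : Type u) [Field k]
    [CommRing S] [Algebra k S]
    (h : ∀ (k' : Type u) [Field k'] [Algebra k k'] [Module.Finite k k'] [IsPurelyInseparable k k'],
      IsReduced (k' ⊗[k] S)) : Algebra.IsGeometricallyReduced k S := by
  rw [Algebra.isGeometricallyReduced_field_iff]
  -- Step A
  have hA' : IsReduced (S ⊗[k] (perfectClosure k (AlgebraicClosure k))) := by
    apply IsReduced.tensorProduct_of_flat_of_forall_fg
    intro B hB
    obtain ⟨t, rfl⟩ := hB
    let L := IntermediateField.adjoin k (t : Set (perfectClosure k (AlgebraicClosure k)))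
    have hfin : FiniteDimensional k L :=
      IntermediateField.finiteDimensional_adjoin (fun x _ => Algebra.IsIntegral.isIntegral x)
    have hpi : IsPurelyInseparable k L := IsPurelyInseparable.tower_bot k L (perfectClosure k (AlgebraicClosure k))
    have hred : IsReduced (L ⊗[k] S) := h L
    have hred' : IsReduced (S ⊗[k] L) :=
      isReduced_of_injective (Algebra.TensorProduct.comm k S L).toRingHom
        (Algebra.TensorProduct.comm k S L).injective
    have hle : Algebra.adjoin k (t : Set (perfectClosure k (AlgebraicClosure k))) ≤ L.toSubalgebra :=
      IntermediateField.algebra_adjoin_le_adjoin k _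
    let ι : Algebra.adjoin k (t : Set (perfectClosure k (AlgebraicClosure k))) →ₐ[k] L := Subalgebra.inclusion hle
    exact isReduced_of_injective (Algebra.TensorProduct.map (AlgHom.id k S) ι)
      (Module.Flat.lTensor_preserves_injective_linearMap (M := S) ι.toLinearMap
        (Subalgebra.inclusion_injective hle))
  have hA : IsReduced ((perfectClosure k (AlgebraicClosure k)) ⊗[k] S) :=
    isReduced_of_injective (Algebra.TensorProduct.comm k (perfectClosure k (AlgebraicClosure k)) S).toRingHom
      (Algebra.TensorProduct.comm k (perfectClosure k (AlgebraicClosure k)) S).injective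
  -- Step B
  exact isReduced_tensor_of_tower_perfect k (perfectClosure k (AlgebraicClosure k))
    (AlgebraicClosure k) S hA

end Groth.Agent.Lib.MacLane5H44
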