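import Groth.Agent.Lib.EssEtaleLift
import Mathlib.RingTheory.LocalRing.ResidueField.Ideal

set_option autoImplicit false
universe u

namespace Groth.Agent.Lib.H56HenselEtale

open IsLocalRing

/-- Over a henselian local ring `R`, an etale `R`-algebra `R'` with a prime `P` over the maximal
ideal whose residue field extension is trivial has a section `σ : R' → R` with `σ⁻¹(m) = P` and
`r' ≡ σ r'` modulo `P`. -/
theorem exists_section (R : Type u) [CommRing R] [HenselianLocalRing R]
    (R' : Type u) [CommRing R'] [Algebra R R'] [Algebra.Etale R R'] (P : Ideal R') [P.IsPrime]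
    [P.LiesOver (maximalIdeal R)]
    (hres : Function.Surjective (algebraMap R P.ResidueField)) :
    ∃ σ : R' →ₐ[R] R, Ideal.comap σ.toRingHom (maximalIdeal R) = P ∧
      ∀ r' : R', r' - algebraMap R R' (σ r') ∈ P := by
  have hker : ∀ r : R, algebraMap R P.ResidueField r = 0 ↔ r ∈ maximalIdeal R := by
    intro r
    rw [IsScalarTower.algebraMap_apply R R' P.ResidueField, Ideal.algebraMap_residueField_eq_zero,
      ← Ideal.mem_comap, ← Ideal.under_def, ← Ideal.over_def P (maximalIdeal R)]
  -- the residue field of `R` maps isomorphically to `κ(P)`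
  let θ : ResidueField R →+* P.ResidueField :=
    Ideal.Quotient.lift (maximalIdeal R) (algebraMap R P.ResidueField) (fun r hr => (hker r).mpr hr)
  have hθ : ∀ r, θ (residue R r) = algebraMap R P.ResidueField r := fun r => rfl
  have hθbij : Function.Bijective θ := by
    refine ⟨θ.injective, fun x => ?_⟩
    obtain ⟨r, rfl⟩ := hres x
    exact ⟨residue R r, rfl⟩
  let θe : ResidueField R ≃+* P.ResidueField := RingEquiv.ofBijective θ hθbij
  let χ : R' →ₐ[R] ResidueField R :=
    { (θe.symm : P.ResidueField →+* ResidueField R).comp (algebraMap R' P.ResidueField) with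
      commutes' := fun r => by
        change θe.symm (algebraMap R' P.ResidueField (algebraMap R R' r)) = residue R r
        rw [RingEquiv.symm_apply_eq, ← IsScalarTower.algebraMap_apply R R' P.ResidueField]
        rfl }
  have hχ_apply : ∀ a, χ a = θe.symm (algebraMap R' P.ResidueField a) := fun _ => rfl
  have hχ : ∀ x, χ x = 0 ↔ x ∈ P := by
    intro x
    rw [hχ_apply, map_eq_zero_iff _ θe.symm.injective, Ideal.algebraMap_residueField_eq_zero]
  obtain ⟨σ, hσ⟩ := Groth.Agent.Lib.EssEtaleLift.exists_algHom_lift P χ (fun x hx => (hχ x).mp hx)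
  refine ⟨σ, ?_, fun r' => ?_⟩
  · ext x
    rw [Ideal.mem_comap, ← residue_eq_zero_iff]
    change residue R (σ x) = 0 ↔ _
    rw [hσ, hχ]
  · rw [← Ideal.algebraMap_residueField_eq_zero, map_sub, sub_eq_zero,
      ← IsScalarTower.algebraMap_apply R R' P.ResidueField, ← hθ, hσ, hχ_apply]
    exact (θe.apply_symm_apply _).symm

end Groth.Agent.Lib.H56HenselEtale
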