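import Groth.Agent.S7703
import Groth.Agent.S0299

/-! helper12: global End(C) = R for a module that is canonical at every prime of a CM ring (local-global from S7703). -/

set_option autoImplicit false
universe u

namespace Groth.Agent.Lib.CanonEndGlobal

open IsLocalizedModule

variable (R : Type u) [CommRing R] [LocCoh.IsCohenMacaulayRing R]
  (C : Type u) [AddCommGroup C] [Module R C] [Module.Finite R C]

theorem exists_nat_ringKrullDim (A : Type u) [CommRing A] [IsNoetherianRing A] [IsLocalRing A] :
    ∃ n : ℕ, ringKrullDim A = n := by
  have h1 : ringKrullDim A < ⊤ := ringKrullDim_lt_top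
  have h2 : ringKrullDim A ≠ ⊥ := ringKrullDim_ne_bot
  obtain ⟨d, hd⟩ := WithBot.ne_bot_iff_exists.1 h2
  rw [← hd] at h1
  have h3 : d ≠ ⊤ := by
    intro h
    rw [h] at h1
    exact lt_irrefl _ h1
  obtain ⟨n, hn⟩ := ENat.ne_top_iff_exists.1 h3
  exact ⟨n, by rw [← hd, ← hn]; rfl⟩

theorem toEnd_bijective
    (hC : ∀ (q : Ideal R) [q.IsPrime] (nq : ℕ), ringKrullDim (Localization.AtPrime q) = nq →
      ∀ (E₀ : Type u) [AddCommGroup E₀] [Module (Localization.AtPrime q) E₀]
        (f₀ : IsLocalRing.ResidueField (Localization.AtPrime q) →ₗ[(Localization.AtPrime q)] E₀),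
        InjHull.IsInjectiveHull f₀ →
        Nonempty ((LocalizedModule q.primeCompl C →ₗ[(Localization.AtPrime q)] E₀)
          ≃ₗ[(Localization.AtPrime q)]
          LocCoh.H (IsLocalRing.maximalIdeal (Localization.AtPrime q)) nq
            (Localization.AtPrime q))) :
    Function.Bijective (fun r : R => r • (LinearMap.id : C →ₗ[R] C)) := by
  haveI : IsNoetherianRing R := inferInstance
  haveI : Module.FinitePresentation R C := Module.finitePresentation_of_finite R C
  have key := bijective_of_isLocalized_maximal
    (fun (P : Ideal R) [P.IsMaximal] => Localization.AtPrime P)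
    (fun (P : Ideal R) [P.IsMaximal] => Algebra.linearMap R (Localization.AtPrime P))
    (fun (P : Ideal R) [P.IsMaximal] => (LocalizedModule P.primeCompl C →ₗ[Localization.AtPrime P]
      LocalizedModule P.primeCompl C))
    (fun (P : Ideal R) [P.IsMaximal] => LocalizedModule.map P.primeCompl (M := C) (N := C))
    (LinearMap.lsmul R C) ?_
  · exact key
  · intro P _
    haveI : LocCoh.IsCohenMacaulayLocalRing (Localization.AtPrime P) :=
      LocCoh.IsCohenMacaulayRing.isCohenMacaulayLocalRing_localization P
    obtain ⟨nq, hnq⟩ := exists_nat_ringKrullDim (Localization.AtPrime P)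
    obtain ⟨E₀, _, _, f₀, hf₀⟩ := Groth.Agent.S0299.result (Localization.AtPrime P)
      (IsLocalRing.ResidueField (Localization.AtPrime P))
    obtain ⟨eK⟩ := hC P nq hnq E₀ f₀ hf₀
    have hb := Groth.Agent.S7703.result (Localization.AtPrime P) nq hnq E₀ f₀ hf₀
      (LocalizedModule P.primeCompl C) eK
    have heq : map P.primeCompl (Algebra.linearMap R (Localization.AtPrime P))
        (LocalizedModule.map P.primeCompl (M := C) (N := C)) (LinearMap.lsmul R C) =
        (LinearMap.lsmul (Localization.AtPrime P) (LocalizedModule P.primeCompl C)).restrictScalars R := by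
      apply IsLocalizedModule.linearMap_ext P.primeCompl (Algebra.linearMap R (Localization.AtPrime P))
        (LocalizedModule.map P.primeCompl (M := C) (N := C))
      refine LinearMap.ext fun r => LinearMap.ext fun x => ?_
      induction x using LocalizedModule.induction_on with
      | h m s =>
        show (map P.primeCompl (Algebra.linearMap R (Localization.AtPrime P))
          (LocalizedModule.map P.primeCompl (M := C) (N := C)) (LinearMap.lsmul R C))
          (Algebra.linearMap R (Localization.AtPrime P) r) (LocalizedModule.mk m s) =
          algebraMap R (Localization.AtPrime P) r • LocalizedModule.mk m s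
        rw [IsLocalizedModule.map_apply, LocalizedModule.map_mk, algebraMap_smul,
          LocalizedModule.smul'_mk]
        rfl
    rw [heq]
    exact hb

end Groth.Agent.Lib.CanonEndGlobal
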