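import Groth.Agent.Lib.TFinCoprod
import Mathlib.CategoryTheory.Limits.VanKampen
import Mathlib.CategoryTheory.Limits.Shapes.DisjointCoproduct

/-!
# Coproducts in sheaf topoi: recognition, disjointness and universality

For sheaves of sets on a small site we show that a cofan whose injections are jointly covering,
injective on sections and pairwise disjoint is a colimit cofan, and deduce that small coproducts
of sheaves are disjoint (`CoproductDisjoint`) and universal (`IsUniversalColimit`).
-/

set_option autoImplicit false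
open CategoryTheory CategoryTheory.Limits Opposite
universe u
open ToposFin

namespace Groth.Agent.Lib.TFinCoprod
open Groth.Agent.Lib.TFin

variable {C : Type u} [SmallCategory C] {J : GrothendieckTopology C}

section HomExt

universe w

/-- Morphisms out of the target of a covering family are determined by their restrictions. -/
lemma hom_ext_of_cov {ι : Type w} {X Z : Sh J} {F : ι → Sh J} (π : ∀ i, F i ⟶ X) (hπ : Cov π)
    {a b : X ⟶ Z} (h : ∀ i, π i ≫ a = π i ≫ b) : a = b := by
  apply hom_ext_sec
  intro U x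
  apply sec_ext _ _ (covSieve π x) (hπ U x)
  rintro V f ⟨i, y, hy⟩
  rw [← ap_res, ← ap_res, ← hy, ← ap_comp, ← ap_comp, h i]

/-- A morphism which is injective on sections is a monomorphism. -/
lemma mono_of_ap_injective {X Y : Sh J} (f : X ⟶ Y)
    (h : ∀ (U : C) (x x' : sec X U), ap f x = ap f x' → x = x') : Mono f := by
  constructor
  intro Z a b hab
  apply hom_ext_sec
  intro U z
  apply h
  rw [← ap_comp, ← ap_comp, hab]

/-- A monomorphism of sheaves is injective on sections. -/
lemma ap_injective_of_mono {X Y : Sh J} (f : X ⟶ Y) [Mono f] {U : C} (x x' : sec X U)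
    (h : ap f x = ap f x') : x = x' := by
  have sq : IsPullback (𝟙 X) (𝟙 X) f f := IsKernelPair.id_of_mono f
  obtain ⟨z, hz1, hz2⟩ := exists_sec_of_isPullback sq x x' h
  rw [ap_id] at hz1 hz2
  rw [← hz1, hz2]

end HomExt

section Conv

variable {ι : Type u} {X : ι → Sh J}

/-- Recognition of coproducts of sheaves: a cofan with jointly covering, sectionwise injective and
pairwise disjoint injections is a colimit cofan. -/
theorem nonempty_isColimit_cofan_of_cov_disjoint (c : Cofan X) (hcov : Cov c.inj)
    (hinj : ∀ (i : ι) (V : C) (y y' : sec (X i) V), ap (c.inj i) y = ap (c.inj i) y' → y = y')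
    (hdisj : ∀ (i j : ι), i ≠ j → ∀ (V : C) (y : sec (X i) V) (y' : sec (X j) V),
      ap (c.inj i) y = ap (c.inj j) y' → (⊥ : Sieve V) ∈ J V) :
    Nonempty (IsColimit c) := by
  classical
  let c₀ : Cofan X := Cofan.mk (∐ X) (Sigma.ι X)
  have hc₀ : IsColimit c₀ := coproductIsCoproduct X
  let d : ∐ X ⟶ c.pt := Sigma.desc c.inj
  have hd : ∀ i, Sigma.ι X i ≫ d = c.inj i := fun i => Sigma.ι_desc _ _
  have hepi : Epi d := by
    constructor
    intro Z a b hab
    refine hom_ext_of_cov c.inj hcov (fun i => ?_)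
    rw [← hd i, Category.assoc, Category.assoc, hab]
  have hmono : Mono d := by
    apply mono_of_ap_injective
    intro U z z' hzz
    have hS := J.intersection_covering (cov_inj c₀ hc₀ U z) (cov_inj c₀ hc₀ U z')
    refine sec_ext _ _ _ hS ?_
    rintro V g ⟨⟨i, y, hy⟩, ⟨j, y', hy'⟩⟩
    have hy2 : ap (Sigma.ι X i) y = res g z := hy
    have hy2' : ap (Sigma.ι X j) y' = res g z' := hy'
    have e : ap (c.inj i) y = ap (c.inj j) y' := by
      rw [← hd i, ← hd j, ap_comp, ap_comp, hy2, hy2', ap_res, ap_res, hzz]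
    by_cases hij : i = j
    · subst hij
      rw [← hy2, ← hy2', hinj i V y y' e]
    · have := subsingleton_sec_of_bot_mem (∐ X) (hdisj i j hij V y y' e)
      exact Subsingleton.elim _ _
  have hiso : IsIso d := isIso_of_mono_of_epi d
  refine ⟨IsColimit.ofIsoColimit hc₀ (Cocone.ext (asIso d) ?_)⟩
  rintro ⟨i⟩
  exact hd i

/-- The same recognition principle for cocones over arbitrary discrete diagrams. -/
theorem nonempty_isColimit_of_cov_disjoint {F : Discrete ι ⥤ Sh J} (c : Cocone F)
    (hcov : Cov (fun i => c.ι.app ⟨i⟩))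
    (hinj : ∀ (i : ι) (V : C) (y y' : sec (F.obj ⟨i⟩) V),
      ap (c.ι.app ⟨i⟩) y = ap (c.ι.app ⟨i⟩) y' → y = y')
    (hdisj : ∀ (i j : ι), i ≠ j → ∀ (V : C) (y : sec (F.obj ⟨i⟩) V) (y' : sec (F.obj ⟨j⟩) V),
      ap (c.ι.app ⟨i⟩) y = ap (c.ι.app ⟨j⟩) y' → (⊥ : Sieve V) ∈ J V) :
    Nonempty (IsColimit c) := by
  let e : Discrete.functor (fun i => F.obj ⟨i⟩) ≅ F := Discrete.natIso (fun _ => Iso.refl _)
  let c' : Cofan (fun i => F.obj ⟨i⟩) := (Cocone.precompose e.hom).obj c
  have hc' : ∀ i, c'.inj i = c.ι.app ⟨i⟩ := by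
    intro i
    show e.hom.app ⟨i⟩ ≫ c.ι.app ⟨i⟩ = _
    simp [e]
  obtain ⟨h⟩ := nonempty_isColimit_cofan_of_cov_disjoint c'
    (by
      intro U x
      refine J.superset_covering ?_ (hcov U x)
      rintro V g ⟨i, y, hy⟩
      exact ⟨i, y, by rw [hc' i]; exact hy⟩)
    (by
      intro i V y y' h
      rw [hc' i] at h
      exact hinj i V y y' h)
    (by
      intro i j hij V y y' h
      rw [hc' i, hc' j] at h
      exact hdisj i j hij V y y' h)
  exact ⟨IsColimit.precomposeHomEquiv e c h⟩

end Conv

section Giraud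

variable {ι : Type u} (X : ι → Sh J)

/-- Small coproducts of sheaves of sets are disjoint. -/
instance coproductDisjoint : CoproductDisjoint X where
  mono_inj {c} hc i := mono_inj c hc i
  nonempty_isInitial_of_ne {c} hc {i j} hij s hs := by
    refine ⟨isInitialOfForallSec s.pt (fun V z => ?_)⟩
    refine bot_mem_of_ap_inj_eq c hc hij (ap s.fst z) (ap s.snd z) ?_
    rw [← ap_comp, ← ap_comp, s.condition]

/-- Small coproducts of sheaves of sets are universal (stable under base change). -/
theorem isUniversalColimit_cofan {X : ι → Sh J} (c : Cofan X) (hc : IsColimit c) :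
    IsUniversalColimit c := by
  intro F' c' α f _ _ hpb
  have sq : ∀ i : ι, IsPullback (c'.ι.app ⟨i⟩) (α.app ⟨i⟩) f (c.inj i) := fun i => hpb ⟨i⟩
  refine nonempty_isColimit_of_cov_disjoint c' ?_ ?_ ?_
  · exact Cov.pullback c.inj (cov_inj c hc) f (fun i => α.app ⟨i⟩) _ (fun i => (sq i).flip)
  · intro i V y y' h
    refine sec_ext_of_isPullback (sq i) y y' h ?_
    apply ap_inj_injective c hc i
    have e1 := ap_eq_of_isPullback (sq i) y
    have e2 := ap_eq_of_isPullback (sq i) y'
    rw [← e1, ← e2, h]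
  · intro i j hij V y y' h
    refine bot_mem_of_ap_inj_eq c hc hij (ap (α.app ⟨i⟩) y) (ap (α.app ⟨j⟩) y') ?_
    have e1 := ap_eq_of_isPullback (sq i) y
    have e2 := ap_eq_of_isPullback (sq j) y'
    rw [← e1, ← e2, h]

end Giraud

end Groth.Agent.Lib.TFinCoprod
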