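import Groth.Agent.Lib.TFinEps
import Groth.Agent.Lib.TFinCoprod2
import Mathlib.CategoryTheory.Sites.Canonical
import Mathlib.CategoryTheory.Sites.EffectiveEpimorphic
import Mathlib.CategoryTheory.Sites.LeftExact
import Mathlib.CategoryTheory.Sites.RegularEpi
import Mathlib.CategoryTheory.Limits.Preserves.Yoneda
import Mathlib.CategoryTheory.Limits.Shapes.RegularMono
import Mathlib.CategoryTheory.Limits.Shapes.KernelPair

/-!
# The canonical functor `ε : C ⥤ Sh(C, J)` for a subcanonical topology on a small category

* `epsIso`, `epsFullyFaithful`: for subcanonical `J`, `ε` is fully faithful.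
* `epi_eps_map_of_generate_mem`: a morphism generating a covering sieve is sent to an epimorphism.
* `isColimit_cofork_of_isKernelPair_of_epi`: epimorphisms of sheaves are coequalizers of their
  kernel pairs.
* `generate_singleton_mem_canonical`: universally effective epimorphisms generate covering sieves
  of the canonical topology.
* `effectiveEpi_of_epi_eps_map`: for subcanonical `J`, a morphism sent to an epimorphism by `ε` is
  an effective epimorphism.
-/

set_option autoImplicit false
open CategoryTheory CategoryTheory.Limits Opposite
universe u
open ToposFin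

namespace Groth.Agent.Lib.CanonEps
open Groth.Agent.Lib.TFin Groth.Agent.Lib.TFinEps Groth.Agent.Lib.TFinCoprod

variable {C : Type u} [SmallCategory C] (J : GrothendieckTopology C)

/-- The canonical functor from a small site to its topos. -/
noncomputable abbrev ε : C ⥤ Sheaf J (Type u) := yoneda ⋙ presheafToSheaf J (Type u)

section Subcanonical

variable [J.Subcanonical]

/-- For a subcanonical topology, `ε` is the sheaf-valued Yoneda embedding. -/
noncomputable def epsIso : ε J ≅ J.yoneda :=
  Functor.isoWhiskerLeft J.yoneda (sheafificationNatIso J (Type u)).symm ≪≫ J.yoneda.rightUnitor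

/-- For a subcanonical topology, `ε` is fully faithful. -/
noncomputable def epsFullyFaithful : (ε J).FullyFaithful :=
  J.yonedaFullyFaithful.ofIso (epsIso J).symm

instance : (ε J).Full := (epsFullyFaithful J).full

instance : (ε J).Faithful := (epsFullyFaithful J).faithful

end Subcanonical

/-- A morphism generating a covering sieve is sent to an epimorphism by `ε`. -/
lemma epi_eps_map_of_generate_mem {X B : C} (π : X ⟶ B)
    (h : Sieve.generate (Presieve.singleton π) ∈ J B) : Epi ((ε J).map π) := by
  have hcov : Cov (fun _ : Unit => epsMap J π) := by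
    refine Cov.of_factor _ _ (cov_epsMap_of_mem J B _ h) ?_
    rintro ⟨V, g, hg⟩
    rw [Sieve.generateSingleton_eq] at hg
    obtain ⟨e, he⟩ := hg
    refine ⟨(), epsMap J e, ?_⟩
    show epsMap J e ≫ epsMap J π = epsMap J g
    rw [← he]
    exact ((ε J).map_comp e π).symm
  constructor
  intro Z a b hab
  exact hom_ext_of_cov _ hcov (fun _ => hab)

/-- In a category of sheaves of sets, an epimorphism is the coequalizer of its kernel pair. -/
noncomputable def isColimit_cofork_of_isKernelPair_of_epi {R X Y : Sheaf J (Type u)} {f : X ⟶ Y}
    {a b : R ⟶ X} (k : IsKernelPair f a b) [Epi f] : IsColimit (Cofork.ofπ f k.w) :=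
  k.toCoequalizer (regularEpiOfEpi f)

/-- A universally effective epimorphism generates a covering sieve of the canonical topology. -/
lemma generate_singleton_mem_canonical [HasPullbacks C] {X B : C} (π : X ⟶ B)
    (h : ∀ (B' : C) (g : B' ⟶ B), EffectiveEpi (pullback.snd π g)) :
    Sieve.generate (Presieve.singleton π) ∈ Sheaf.canonicalTopology C B := by
  apply Sheaf.mem_finestTopology_of_forall_isSheafFor
  rintro P ⟨Z, rfl⟩ Y f
  rw [← Sieve.pullbackArrows_comm, Presieve.pullback_singleton,
    ← Presieve.isSheafFor_iff_generate]
  have := h Y f
  exact Presieve.IsSheafFor.singleton_of_isRepresentable_of_effectiveEpi _ _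

/-- For a subcanonical topology, a morphism which `ε` sends to an epimorphism is an effective
epimorphism. -/
lemma effectiveEpi_of_epi_eps_map [HasPullbacks C] [J.Subcanonical] {X B : C} (f : X ⟶ B)
    (h : Epi ((ε J).map f)) : EffectiveEpi f := by
  have hk : IsKernelPair ((ε J).map f) ((ε J).map (pullback.fst f f))
      ((ε J).map (pullback.snd f f)) :=
    (IsPullback.of_hasPullback f f).map (ε J)
  have hc := isColimit_cofork_of_isKernelPair_of_epi J hk
  have hc' := (isColimitMapCoconeCoforkEquiv (ε J) (pullback.condition (f := f) (g := f))).symm hc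
  exact effectiveEpi_of_kernelPair f (isColimitOfReflects (ε J) hc')

end Groth.Agent.Lib.CanonEps
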