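import Groth.Prelude.Def_SGA4a
import Mathlib.CategoryTheory.EquivalenceRelation

/-!
# From pointwise equivalence relations (`SGA4.IsEquivRel`) to Mathlib's `EquivalenceRelation`
-/

set_option autoImplicit false
open CategoryTheory CategoryTheory.Limits
universe v u

namespace Groth.Agent.Lib.SGA4EqRel

variable {E : Type v} [Category.{u} E] {R A : E} {p₁ p₂ : R ⟶ A}

lemma jointlyMono₂_of_isEquivRel (h : SGA4.IsEquivRel p₁ p₂) : JointlyMono₂ p₁ p₂ where
  right_cancellation Y f g h₁ h₂ := (h Y).1 (Prod.ext h₁ h₂)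

/-- An equivalence relation tested on generalized points yields an internal equivalence
relation. -/
noncomputable def equivalenceRelation [HasPullbacks E] (h : SGA4.IsEquivRel p₁ p₂) :
    EquivalenceRelation p₁ p₂ where
  toJointlyMono₂ := jointlyMono₂_of_isEquivRel h
  r := ((h A).2.refl (𝟙 A)).choose
  reflexivity₁ := ((h A).2.refl (𝟙 A)).choose_spec.1
  reflexivity₂ := ((h A).2.refl (𝟙 A)).choose_spec.2
  s := ((h R).2.symm ⟨𝟙 R, Category.id_comp _, Category.id_comp _⟩).choose
  symmetry₁ := ((h R).2.symm ⟨𝟙 R, Category.id_comp _, Category.id_comp _⟩).choose_spec.1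
  symmetry₂ := ((h R).2.symm ⟨𝟙 R, Category.id_comp _, Category.id_comp _⟩).choose_spec.2
  c := pullback.cone p₂ p₁
  isLimit := pullback.isLimit p₂ p₁
  t := ((h (pullback p₂ p₁)).2.trans
      ⟨pullback.fst p₂ p₁, rfl, rfl⟩
      ⟨pullback.snd p₂ p₁, pullback.condition.symm, rfl⟩).choose
  transitivity₁ := ((h (pullback p₂ p₁)).2.trans
      ⟨pullback.fst p₂ p₁, rfl, rfl⟩
      ⟨pullback.snd p₂ p₁, pullback.condition.symm, rfl⟩).choose_spec.1
  transitivity₂ := ((h (pullback p₂ p₁)).2.trans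
      ⟨pullback.fst p₂ p₁, rfl, rfl⟩
      ⟨pullback.snd p₂ p₁, pullback.condition.symm, rfl⟩).choose_spec.2

end Groth.Agent.Lib.SGA4EqRel
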