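import Groth.Agent.Lib.CanonEps
import Groth.Agent.Lib.TFinSite
import Groth.Agent.Lib.EqRelSheaf
import Groth.Agent.Lib.SGA4EqRel

/-!
# Effective universal equivalence relations and the canonical topology
-/

set_option autoImplicit false
open CategoryTheory CategoryTheory.Limits Opposite
universe u
open ToposFin

namespace Groth.Agent.Lib.CanonEps
open Groth.Agent.Lib.TFin Groth.Agent.Lib.TFinEps Groth.Agent.Lib.TFinCoprod
open Groth.Agent.Lib.TFinSite

variable {C : Type u} [SmallCategory C] (J : GrothendieckTopology C)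

/-- For a subcanonical topology `ε` preserves jointly monic pairs. -/
lemma jointlyMono₂_eps_map [J.Subcanonical] {R X : C} (p₁ p₂ : R ⟶ X) [JointlyMono₂ p₁ p₂] :
    JointlyMono₂ ((ε J).map p₁) ((ε J).map p₂) where
  right_cancellation Y f g h₁ h₂ := by
    apply hom_ext_of_cov _ (cov_homOfSec J Y)
    rintro ⟨U, y⟩
    obtain ⟨f', hf'⟩ := (ε J).map_surjective (X := U) (Y := R) (homOfSec J y ≫ f)
    obtain ⟨g', hg'⟩ := (ε J).map_surjective (X := U) (Y := R) (homOfSec J y ≫ g)
    have e1 : f' ≫ p₁ = g' ≫ p₁ := (ε J).map_injective (by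
      rw [Functor.map_comp, Functor.map_comp, hf', hg', Category.assoc, Category.assoc, h₁])
    have e2 : f' ≫ p₂ = g' ≫ p₂ := (ε J).map_injective (by
      rw [Functor.map_comp, Functor.map_comp, hf', hg', Category.assoc, Category.assoc, h₂])
    have e3 : f' = g' := JointlyMono₂.right_cancellation _ _ e1 e2
    show homOfSec J y ≫ f = homOfSec J y ≫ g
    rw [← hf', ← hg', e3]

section General

variable {D : Type*} [Category D] {R X B : D} {p₁ p₂ : R ⟶ X} {π : X ⟶ B}

/-- A pushout square with both legs equal exhibits a coequalizer. -/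
noncomputable def isColimitCoforkOfIsPushout (h : IsPushout p₁ p₂ π π) :
    IsColimit (Cofork.ofπ π h.w) :=
  Cofork.IsColimit.mk' _ (fun s => ⟨h.desc s.π s.π s.condition, h.inl_desc _ _ _, by
    intro m hm
    apply h.hom_ext
    · rw [h.inl_desc]; exact hm
    · rw [h.inr_desc]; exact hm⟩)

/-- A coequalizer of a pair with a common section is a pushout. -/
lemma isPushout_of_isColimit_cofork (w : p₁ ≫ π = p₂ ≫ π) (h : IsColimit (Cofork.ofπ π w))
    (r : X ⟶ R) (hr₁ : r ≫ p₁ = 𝟙 X) (hr₂ : r ≫ p₂ = 𝟙 X) : IsPushout p₁ p₂ π π := by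
  refine ⟨⟨w⟩, ⟨PushoutCocone.IsColimit.mk _ (fun s => Cofork.IsColimit.desc h s.inl ?_)
    (fun s => ?_) (fun s => ?_) (fun s m hm₁ hm₂ => ?_)⟩⟩
  · have e : s.inl = s.inr := by
      calc s.inl = r ≫ p₁ ≫ s.inl := by rw [reassoc_of% hr₁]
        _ = r ≫ p₂ ≫ s.inr := by rw [s.condition]
        _ = s.inr := by rw [reassoc_of% hr₂]
    rw [s.condition, e]
  · exact Cofork.IsColimit.π_desc' h _ _
  · have e : s.inl = s.inr := by
      calc s.inl = r ≫ p₁ ≫ s.inl := by rw [reassoc_of% hr₁]
        _ = r ≫ p₂ ≫ s.inr := by rw [s.condition]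
        _ = s.inr := by rw [reassoc_of% hr₂]
    exact (Cofork.IsColimit.π_desc' h _ _).trans e
  · apply Cofork.IsColimit.hom_ext h
    rw [Cofork.IsColimit.π_desc' h]
    exact hm₁

end General

variable [HasPullbacks C] {R X B : C} {p₁ p₂ : R ⟶ X}

/-- Forward direction: an effective universal equivalence relation has its quotient preserved by
`ε` for the canonical topology. -/
theorem isColimit_eps_of_effectiveUniversal {π : X ⟶ B} (hpb : IsPullback p₁ p₂ π π)
    (huniv : ∀ (B' : C) (g : B' ⟶ B), EffectiveEpi (pullback.snd π g)) :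
    Nonempty (IsColimit ((ε (Sheaf.canonicalTopology C)).mapCocone (Cofork.ofπ π hpb.w))) := by
  have hS := generate_singleton_mem_canonical π huniv
  have hepi := epi_eps_map_of_generate_mem (Sheaf.canonicalTopology C) π hS
  have hk : IsKernelPair ((ε (Sheaf.canonicalTopology C)).map π)
      ((ε (Sheaf.canonicalTopology C)).map p₁) ((ε (Sheaf.canonicalTopology C)).map p₂) :=
    hpb.map (ε (Sheaf.canonicalTopology C))
  exact ⟨(isColimitMapCoconeCoforkEquiv (ε (Sheaf.canonicalTopology C)) hpb.w).symm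
    (isColimit_cofork_of_isKernelPair_of_epi _ hk)⟩

/-- Backward direction. -/
theorem effectiveUniversal_of_isColimit_eps [J.Subcanonical] (e : EquivalenceRelation p₁ p₂)
    {π : X ⟶ B} (w : p₁ ≫ π = p₂ ≫ π) (hπ : IsColimit (Cofork.ofπ π w))
    (hε : IsColimit ((ε J).mapCocone (Cofork.ofπ π w))) :
    IsPullback p₁ p₂ π π ∧ IsPushout p₁ p₂ π π ∧
      ∀ (B' : C) (g : B' ⟶ B), EffectiveEpi (pullback.snd π g) := by
  have : JointlyMono₂ p₁ p₂ := e.toJointlyMono₂
  have := jointlyMono₂_eps_map J p₁ p₂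
  let e' : EquivalenceRelation ((ε J).map p₁) ((ε J).map p₂) :=
    Groth.Agent.Lib.EqRelQuot.equivalenceRelationMap e (ε J)
  have hk' := Groth.Agent.Lib.EqRelSheaf.sheaf_isKernelPair J e'
  have hpo' := Groth.Agent.Lib.EqRelSheaf.sheaf_isPushout J e'
  have hq := isColimitCoforkOfIsPushout hpo'
  have hε' := isColimitMapCoconeCoforkEquiv (ε J) w hε
  let i := hq.coconePointUniqueUpToIso hε'
  have hi : Groth.Agent.Lib.EqRelSheaf.quotSheafπ J ((ε J).map p₁) ((ε J).map p₂) ≫ i.hom =
      (ε J).map π :=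
    hq.comp_coconePointUniqueUpToIso_hom hε' WalkingParallelPair.one
  have hk : IsKernelPair ((ε J).map π) ((ε J).map p₁) ((ε J).map p₂) := by
    rw [← hi]
    exact hk'.comp_of_mono
  have hepi : Epi ((ε J).map π) := by
    rw [← hi]
    have : Epi (Groth.Agent.Lib.EqRelSheaf.quotSheafπ J ((ε J).map p₁) ((ε J).map p₂)) :=
      Cofork.IsColimit.epi hq
    infer_instance
  refine ⟨IsPullback.of_map (ε J) w hk,
    isPushout_of_isColimit_cofork w hπ e.r e.reflexivity₁ e.reflexivity₂, fun B' g => ?_⟩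
  apply effectiveEpi_of_epi_eps_map J
  have hsq : IsPullback ((ε J).map (pullback.snd π g)) ((ε J).map (pullback.fst π g))
      ((ε J).map g) ((ε J).map π) :=
    (IsPullback.of_hasPullback π g).flip.map (ε J)
  exact Groth.Agent.Lib.SheafEpi.epi_of_isPullback J hsq

/-- The main theorem. -/
theorem isEffectiveUniversal_iff (hR : SGA4.IsEquivRel p₁ p₂) (c : Cofork p₁ p₂)
    (hc : IsColimit c) :
    SGA4.IsEffectiveUniversalEquivRel p₁ p₂ ↔
      Nonempty (IsColimit ((ε (Sheaf.canonicalTopology C)).mapCocone c)) := by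
  constructor
  · rintro ⟨B, π, hpb, hpo, huniv⟩
    obtain ⟨h⟩ := isColimit_eps_of_effectiveUniversal hpb huniv
    have hπ := isColimitCoforkOfIsPushout hpo
    have iso : Cofork.ofπ π hpb.w ≅ c := hπ.uniqueUpToIso hc
    exact ⟨h.ofIsoColimit ((Cocone.functoriality _ (ε (Sheaf.canonicalTopology C))).mapIso iso)⟩
  · rintro ⟨h⟩
    have iso : c ≅ Cofork.ofπ c.π c.condition := Cofork.isoCoforkOfπ c
    have h' := h.ofIsoColimit
      ((Cocone.functoriality _ (ε (Sheaf.canonicalTopology C))).mapIso iso)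
    have hc' := hc.ofIsoColimit iso
    exact ⟨c.pt, c.π, effectiveUniversal_of_isColimit_eps (Sheaf.canonicalTopology C)
      (Groth.Agent.Lib.SGA4EqRel.equivalenceRelation hR) c.condition hc' h'⟩

end Groth.Agent.Lib.CanonEps
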