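import Groth.Agent.Lib.Giraud3
import Mathlib.CategoryTheory.Sites.DenseSubsite.InducedTopology
import Mathlib.CategoryTheory.EssentiallySmall
import Mathlib.CategoryTheory.ObjectProperty.Small
import Mathlib.CategoryTheory.Generator.Basic
import Mathlib.CategoryTheory.Limits.Types.Limits

/-!
# Giraud's theorem: a category satisfying Giraud's axioms is a topos
-/

set_option autoImplicit false
set_option linter.unusedSectionVars false
open CategoryTheory CategoryTheory.Limits Opposite
universe w w' v u

namespace Groth.Agent.Lib.Giraud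

variable {E : Type v} [Category.{u} E] [HasFiniteLimits E]

section

variable (hb : SGA4.HasDisjointUniversalCoproducts.{v, u} E) (hc : EffEqRel E)
  {C : Type u} [SmallCategory C] (G : C ⥤ E)
  (hG : ∀ ⦃X Y : E⦄ (f : X ⟶ Y),
    (∀ (c : C) (h : G.obj c ⟶ Y), ∃! h' : G.obj c ⟶ X, h' ≫ f = h) → IsIso f)

include hb hc hG in
/-- The Yoneda embedding into sheaves for the canonical topology is essentially surjective. -/
lemma essSurj_yoneda : (Sheaf.canonicalTopology E).yoneda.EssSurj := by
  refine ⟨fun F => ?_⟩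
  obtain ⟨Q, ⟨hQ⟩⟩ := exists_representableBy hb hc G.obj hG F.obj
    ((isSheaf_iff_isSheaf_of_type _ _).1 F.property)
  exact ⟨Q, ⟨(fullyFaithfulSheafToPresheaf (Sheaf.canonicalTopology E) (Type u)).preimageIso
    hQ.toIso⟩⟩

include hb hc hG in
/-- The generators form a dense subsite for the canonical topology. -/
lemma isCoverDense : G.IsCoverDense (Sheaf.canonicalTopology E) := by
  refine ⟨fun X => ?_⟩
  have hp := genMap_univEffEpi hb hc G.obj hG X
  refine (Sheaf.canonicalTopology E).transitive hp.generate_singleton_mem_canonical _ ?_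
  rintro Y g ⟨W, g', p, ⟨⟩, rfl⟩
  rw [Sieve.pullback_comp]
  apply (Sheaf.canonicalTopology E).pullback_stable
  refine (Sheaf.canonicalTopology E).superset_covering ?_
    (ofArrows_mem_canonical _ (cofan_universal hb (fun k : (Σ c, (G.obj c ⟶ X)) => G.obj k.1)))
  rintro W h hh
  rw [Sieve.mem_ofArrows_iff] at hh
  obtain ⟨k, a, rfl⟩ := hh
  rw [Sieve.pullback_apply]
  exact ⟨⟨k.1, a, k.2, by rw [Category.assoc, inj_genMap]⟩⟩

include hb hc hG in
theorem isTopos_of_generators [G.Full] [G.Faithful] : SGA4.IsTopos.{v, u} E := by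
  have := essSurj_yoneda hb hc G hG
  have : (Sheaf.canonicalTopology E).yoneda.IsEquivalence := {}
  have := isCoverDense hb hc G hG
  exact ⟨C, inferInstance, G.inducedTopology (Sheaf.canonicalTopology E),
    ⟨(Sheaf.canonicalTopology E).yoneda.asEquivalence.trans
      (G.sheafInducedTopologyEquivOfIsCoverDense (Sheaf.canonicalTopology E) (Type u)).symm⟩⟩

end

/-- Giraud's theorem. -/
theorem isTopos_of_giraud (hb : SGA4.HasDisjointUniversalCoproducts.{v, u} E) (hc : EffEqRel E)
    (P : ObjectProperty E) [ObjectProperty.Small.{u} P] (hP : P.IsDetecting) :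
    SGA4.IsTopos.{v, u} E := by
  let e := equivSmallModel.{u} P.FullSubcategory
  refine isTopos_of_generators hb hc (e.inverse ⋙ P.ι) ?_
  intro X Y f hf
  apply hP
  intro A hA h
  let a : P.FullSubcategory := ⟨A, hA⟩
  let i : (e.inverse ⋙ P.ι).obj (e.functor.obj a) ≅ A := P.ι.mapIso (e.unitIso.app a).symm
  obtain ⟨h', hh', hu⟩ := hf (e.functor.obj a) (i.hom ≫ h)
  refine ⟨i.inv ≫ h', ?_, fun y hy => ?_⟩
  · show (i.inv ≫ h') ≫ f = h
    rw [Category.assoc, hh', Iso.inv_hom_id_assoc]
  · have hy' : y ≫ f = h := hy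
    have := hu (i.hom ≫ y) (show (i.hom ≫ y) ≫ f = i.hom ≫ h by rw [Category.assoc, hy'])
    rw [← this, Iso.inv_hom_id_assoc]

end Groth.Agent.Lib.Giraud
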