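import Groth.Agent.Lib.TFinFilt
import Mathlib.CategoryTheory.Presentable.Presheaf
import Mathlib.CategoryTheory.Presentable.LocallyPresentable
import Mathlib.CategoryTheory.Presentable.Type
import Mathlib.CategoryTheory.Sites.Sheafification

/-!
# Accessible functors between sheaf topoi: local factorisation of sections

For an accessible functor `ρ : Sh(C, J) ⥤ Sh(D, K)` there is a small family of presheaves `Q` on `C`
such that every section of `ρ X` comes, locally, from a section of `ρ (a Q)` for some morphism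
`a Q ⟶ X`.
-/

set_option autoImplicit false
open CategoryTheory CategoryTheory.Limits Opposite
universe u
open ToposFin

namespace Groth.Agent.Lib.GlueTopos
open Groth.Agent.Lib.TFin Groth.Agent.Lib.TFinEps Groth.Agent.Lib.TFinFilt

variable {C D : Type u} [SmallCategory C] [SmallCategory D] {J : GrothendieckTopology C}
  {K : GrothendieckTopology D} (ρ : Sh J ⥤ Sh K)

/-- The sieve of arrows along which a section of `ρ X` comes from `ρ (a Q)` with `Q` in a given
family of presheaves. -/
def factorSieve (P : ObjectProperty (Cᵒᵖ ⥤ Type u)) (X : Sh J) {e : D} (s : sec (ρ.obj X) e) :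
    Sieve e where
  arrows e' h := ∃ (Q : Cᵒᵖ ⥤ Type u) (_ : P Q) (a : (presheafToSheaf J (Type u)).obj Q ⟶ X)
    (y : sec (ρ.obj ((presheafToSheaf J (Type u)).obj Q)) e'), ap (ρ.map a) y = res h s
  downward_closed := by
    rintro e' e'' h ⟨Q, hQ, a, y, hy⟩ g
    exact ⟨Q, hQ, a, res g y, by rw [ap_res, hy, res_comp]⟩

theorem exists_small_factorSieve_mem [ρ.IsAccessible.{u}] :
    ∃ (P : ObjectProperty (Cᵒᵖ ⥤ Type u)) (_ : ObjectProperty.Small.{u} P),
      ∀ (X : Sh J) (e : D) (s : sec (ρ.obj X) e), factorSieve ρ P X s ∈ K e := by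
  obtain ⟨κ, hκ, hρ⟩ := Functor.IsAccessible.exists_cardinal (F := ρ)
  obtain ⟨P, hPs, hP⟩ := HasCardinalFilteredGenerator.exists_small_generator (Cᵒᵖ ⥤ Type u) κ
  refine ⟨P, hPs, fun X e s => ?_⟩
  obtain ⟨I, _, _, ⟨pres⟩⟩ := hP.exists_colimitsOfShape X.obj
  have hc' : IsColimit ((presheafToSheaf J (Type u)).mapCocone (Cocone.mk _ pres.ι)) :=
    isColimitOfPreserves _ pres.isColimit
  let eX : (presheafToSheaf J (Type u)).obj X.obj ≅ X :=
    (sheafificationIso X).symm
  have := ρ.preservesColimitsOfShape_of_isCardinalAccessible κ I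
  have hc'' := isColimitOfPreserves ρ hc'
  have hcov := cov_cocone _ _ hc'' e (ap (ρ.map eX.inv) s)
  refine K.superset_covering ?_ hcov
  rintro e' h ⟨i, y, hy⟩
  refine ⟨pres.diag.obj i, pres.prop_diag_obj i,
    (presheafToSheaf J (Type u)).map (pres.ι.app i) ≫ eX.hom, y, ?_⟩
  have h1 : ap (ρ.map ((presheafToSheaf J (Type u)).map (pres.ι.app i))) y =
      res h (ap (ρ.map eX.inv) s) := hy
  rw [Functor.map_comp, ap_comp, h1, ← ap_res, ← ap_comp, ← Functor.map_comp, Iso.inv_hom_id,
    CategoryTheory.Functor.map_id, ap_id]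

end Groth.Agent.Lib.GlueTopos
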