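import Groth.Agent.Lib.GlueTopos2
import Groth.Agent.Lib.GlueTopos4
import Groth.Agent.Lib.Giraud4
import Groth.Agent.S3081

/-!
# The glued category of two sheaf topoi along a left exact accessible functor is a topos
-/

set_option autoImplicit false
set_option linter.unusedSectionVars false
open CategoryTheory CategoryTheory.Limits Opposite
universe u
open ToposFin

namespace Groth.Agent.Lib.GlueTopos
open Groth.Agent.Lib.TFin Groth.Agent.Lib.TFinEps Groth.Agent.Lib.TFinFilt
  Groth.Agent.Lib.TFinCoprod Groth.Agent.Lib.Giraud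

section Sheaf

variable {D : Type u} [SmallCategory D] {K : GrothendieckTopology D}

lemma isIso_of_ap_bijective {X Y : Sh K} (f : X ⟶ Y)
    (h : ∀ e : D, Function.Bijective (fun x : sec X e => ap f x)) : IsIso f := by
  have h1 : ∀ U : Dᵒᵖ, IsIso (f.hom.app U) := fun U => (isIso_iff_bijective _).2 (h U.unop)
  have h2 : IsIso f.hom := NatIso.isIso_of_isIso_app _
  have h3 : IsIso ((sheafToPresheaf K (Type u)).map f) := h2
  exact isIso_of_reflects_iso f (sheafToPresheaf K (Type u))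

lemma exists_glue {X : Sh K} {e : D} (S : Sieve e) (hS : S ∈ K e)
    (x : ∀ ⦃e' : D⦄ (h : e' ⟶ e), S h → sec X e')
    (hx : ∀ ⦃e' e'' : D⦄ (h : e' ⟶ e) (g : e'' ⟶ e') (hh : S h),
      x (g ≫ h) (S.downward_closed hh g) = res g (x h hh)) :
    ∃ t : sec X e, ∀ ⦃e' : D⦄ (h : e' ⟶ e) (hh : S h), res h t = x h hh := by
  have hsh := (isSheaf_iff_isSheaf_of_type _ _).1 X.property S hS
  have hc : Presieve.FamilyOfElements.Compatible (P := X.obj) (R := S.arrows)
      (fun e' h hh => x h hh) :=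
    (Presieve.compatible_iff_sieveCompatible _).2 (fun e' e'' h g hh => hx h g hh)
  exact ⟨hsh.amalgamate _ hc, fun e' h hh => hsh.valid_glue hc h hh⟩

lemma homOfSec_ap_eta {X : Sh K} {e : D} (t : sec X e) :
    ap (homOfSec K t) (etaSec K e (𝟙 e)) = t := by
  rw [ap_homOfSec, res_id]

lemma homOfSec_injective {X : Sh K} {e : D} {t t' : sec X e}
    (h : homOfSec K t = homOfSec K t') : t = t' := by
  rw [← homOfSec_ap_eta t, ← homOfSec_ap_eta t', h]

lemma homOfSec_comp {X Y : Sh K} {e : D} (t : sec X e) (f : X ⟶ Y) :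
    homOfSec K t ≫ f = homOfSec K (ap f t) := by
  apply eps_hom_ext
  rw [ap_comp, homOfSec_ap_eta, homOfSec_ap_eta]

lemma eq_homOfSec {X : Sh K} {e : D} (m : eps K e ⟶ X) :
    m = homOfSec K (ap m (etaSec K e (𝟙 e))) := by
  apply eps_hom_ext
  rw [homOfSec_ap_eta]

end Sheaf

variable {C D : Type u} [SmallCategory C] [SmallCategory D] {J : GrothendieckTopology C}
  {K : GrothendieckTopology D} (ρ : Sh J ⥤ Sh K)

/-- Generators of the first kind. -/
noncomputable def gen₁ (c : C) : Comma (𝟭 (Sh K)) ρ where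
  left := ⊥_ (Sh K)
  right := eps J c
  hom := initial.to _

/-- Generators of the second kind. -/
noncomputable def gen₂ (e : D) (Q : Cᵒᵖ ⥤ Type u)
    (y : sec (ρ.obj ((presheafToSheaf J (Type u)).obj Q)) e) : Comma (𝟭 (Sh K)) ρ where
  left := eps K e
  right := (presheafToSheaf J (Type u)).obj Q
  hom := homOfSec K y

variable {ρ}

/-- Morphisms out of generators of the first kind. -/
noncomputable def gen₁Hom {Y : Comma (𝟭 (Sh K)) ρ} {c : C} (x : sec Y.right c) :
    gen₁ ρ c ⟶ Y where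
  left := initial.to _
  right := homOfSec J x
  w := initial.hom_ext _ _

/-- Morphisms out of generators of the second kind. -/
noncomputable def gen₂Hom {Y : Comma (𝟭 (Sh K)) ρ} {e : D} {Q : Cᵒᵖ ⥤ Type u}
    {y : sec (ρ.obj ((presheafToSheaf J (Type u)).obj Q)) e} (t : sec Y.left e)
    (a : (presheafToSheaf J (Type u)).obj Q ⟶ Y.right) (h : ap Y.hom t = ap (ρ.map a) y) :
    gen₂ ρ e Q y ⟶ Y where
  left := homOfSec K t
  right := a
  w := by
    show homOfSec K t ≫ Y.hom = homOfSec K y ≫ ρ.map a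
    rw [homOfSec_comp, homOfSec_comp, h]

section Detect

variable (P : ObjectProperty (Cᵒᵖ ⥤ Type u))
  (hP : ∀ (X : Sh J) (e : D) (s : sec (ρ.obj X) e), factorSieve ρ P X s ∈ K e)
  {X Y : Comma (𝟭 (Sh K)) ρ} (φ : X ⟶ Y)
  (h1 : ∀ (c : C) (h : gen₁ ρ c ⟶ Y), ∃! h' : gen₁ ρ c ⟶ X, h' ≫ φ = h)
  (h2 : ∀ (e : D) (Q : Cᵒᵖ ⥤ Type u) (_ : P Q)
    (y : sec (ρ.obj ((presheafToSheaf J (Type u)).obj Q)) e) (h : gen₂ ρ e Q y ⟶ Y),
    ∃! h' : gen₂ ρ e Q y ⟶ X, h' ≫ φ = h)

include h1 in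
lemma isIso_right : IsIso φ.right := by
  apply isIso_of_ap_bijective
  intro c
  constructor
  · intro x₁ x₂ hx
    have hx' : ap φ.right x₁ = ap φ.right x₂ := hx
    obtain ⟨h', _, hu⟩ := h1 c (gen₁Hom (ap φ.right x₁))
    have e1 : gen₁Hom x₁ = h' := hu _ (by
      refine Comma.hom_ext _ _ ?_ ?_
      · exact initial.hom_ext _ _
      · show homOfSec J x₁ ≫ φ.right = homOfSec J (ap φ.right x₁)
        rw [homOfSec_comp])
    have e2 : gen₁Hom x₂ = h' := hu _ (by
      refine Comma.hom_ext _ _ ?_ ?_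
      · exact initial.hom_ext _ _
      · show homOfSec J x₂ ≫ φ.right = homOfSec J (ap φ.right x₁)
        rw [homOfSec_comp, hx'])
    have e3 : homOfSec J x₁ = homOfSec J x₂ := congrArg CommaMorphism.right (e1.trans e2.symm)
    exact homOfSec_injective e3
  · intro x'
    obtain ⟨h', hh', _⟩ := h1 c (gen₁Hom x')
    refine ⟨ap h'.right (etaSec J c (𝟙 c)), ?_⟩
    have e1 : h'.right ≫ φ.right = homOfSec J x' := congrArg CommaMorphism.right hh'
    show ap φ.right (ap h'.right (etaSec J c (𝟙 c))) = x'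
    rw [← ap_comp, e1]
    exact homOfSec_ap_eta x'

include hP h2 in
lemma left_injective [IsIso φ.right] {e : D} (t₁ t₂ : sec X.left e)
    (ht : ap φ.left t₁ = ap φ.left t₂) : t₁ = t₂ := by
  have hw : φ.left ≫ Y.hom = X.hom ≫ ρ.map φ.right := φ.w
  have hs : ap X.hom t₁ = ap X.hom t₂ := by
    apply ap_injective_of_mono (ρ.map φ.right)
    rw [← ap_comp, ← ap_comp, ← hw, ap_comp, ap_comp, ht]
  refine sec_ext _ _ _ (hP X.right e (ap X.hom t₁)) ?_
  rintro e' h ⟨Q, hQ, a, y, hy⟩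
  have c1 : ap X.hom (res h t₁) = ap (ρ.map a) y := by rw [ap_res, hy]
  have c2 : ap X.hom (res h t₂) = ap (ρ.map a) y := by rw [ap_res, ← hs, hy]
  obtain ⟨h', _, hu⟩ := h2 e' Q hQ y (gen₂Hom (res h t₁) a c1 ≫ φ)
  have e1 : gen₂Hom (res h t₁) a c1 = h' := hu _ rfl
  have e2 : gen₂Hom (res h t₂) a c2 = h' := hu _ (by
    refine Comma.hom_ext _ _ ?_ ?_
    · show homOfSec K (res h t₂) ≫ φ.left = homOfSec K (res h t₁) ≫ φ.left
      rw [homOfSec_comp, homOfSec_comp, ap_res, ap_res, ht]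
    · rfl)
  have e3 : homOfSec K (res h t₁) = homOfSec K (res h t₂) :=
    congrArg CommaMorphism.left (e1.trans e2.symm)
  exact homOfSec_injective e3

include hP h2 in
lemma left_surjective [IsIso φ.right] {e : D} (t' : sec Y.left e) :
    ∃ t : sec X.left e, ap φ.left t = t' := by
  have hw : φ.left ≫ Y.hom = X.hom ≫ ρ.map φ.right := φ.w
  let s : sec (ρ.obj X.right) e := ap (ρ.map (inv φ.right)) (ap Y.hom t')
  have hs : ap (ρ.map φ.right) s = ap Y.hom t' := by
    show ap (ρ.map φ.right) (ap (ρ.map (inv φ.right)) (ap Y.hom t')) = _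
    rw [← ap_comp, ← ρ.map_comp, IsIso.inv_hom_id, CategoryTheory.Functor.map_id, ap_id]
  have hloc : ∀ ⦃e' : D⦄ (h : e' ⟶ e), (factorSieve ρ P X.right s) h →
      ∃ t : sec X.left e', ap φ.left t = res h t' := by
    rintro e' h ⟨Q, hQ, a, y, hy⟩
    have c1 : ap Y.hom (res h t') = ap (ρ.map (a ≫ φ.right)) y := by
      rw [ρ.map_comp, ap_comp, hy, ap_res, ap_res, hs]
    obtain ⟨h', hh', _⟩ := h2 e' Q hQ y (gen₂Hom (res h t') (a ≫ φ.right) c1)
    refine ⟨ap h'.left (etaSec K e' (𝟙 e')), ?_⟩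
    have e1 : h'.left ≫ φ.left = homOfSec K (res h t') := congrArg CommaMorphism.left hh'
    rw [← ap_comp, e1]
    exact homOfSec_ap_eta _
  obtain ⟨t, ht⟩ := exists_glue (X := X.left) (factorSieve ρ P X.right s) (hP _ _ _)
    (fun e' h hh => (hloc h hh).choose) (by
      intro e' e'' h g hh
      apply left_injective P hP φ h2
      rw [(hloc (g ≫ h) ((factorSieve ρ P X.right s).downward_closed hh g)).choose_spec, ap_res,
        (hloc h hh).choose_spec, res_comp])
  refine ⟨t, sec_ext _ _ _ (hP X.right e s) ?_⟩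
  intro e' h hh
  rw [← ap_res, ht h hh, (hloc h hh).choose_spec]

include hP h1 h2 in
theorem isIso_of_unique_lifts : IsIso φ := by
  have := isIso_right φ h1
  have : IsIso φ.left := by
    apply isIso_of_ap_bijective
    intro e
    exact ⟨fun t₁ t₂ ht => left_injective P hP φ h2 t₁ t₂ ht,
      fun t' => left_surjective P hP φ h2 t'⟩
  exact isIso_of_isIso_left_right φ

end Detect

variable (J K ρ) in
/-- The glued category of two sheaf topoi along a left exact accessible functor is a topos. -/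
theorem isTopos_comma [PreservesFiniteLimits ρ] [ρ.IsAccessible.{u}] :
    SGA4.IsTopos.{u + 1, u} (Comma (𝟭 (Sheaf K (Type u))) ρ) := by
  obtain ⟨P, hPs, hP⟩ := exists_small_factorSieve_mem ρ
  have hb := hb_comma (R := ρ) (Groth.Agent.S3081.result K).1 (Groth.Agent.S3081.result J).1
  have hc := hc_comma (R := ρ) (Groth.Agent.S3081.result K).2 (Groth.Agent.S3081.result J).2
  let G : (C ⊕ (Σ (e : D) (Q : Subtype P),
      sec (ρ.obj ((presheafToSheaf J (Type u)).obj Q.1)) e)) → Comma (𝟭 (Sh K)) ρ :=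
    Sum.elim (gen₁ ρ) (fun p => gen₂ ρ p.1 p.2.1.1 p.2.2)
  refine isTopos_of_giraud hb hc (ObjectProperty.ofObj G) ?_
  intro X Y φ hφ
  refine isIso_of_unique_lifts P hP φ ?_ ?_
  · intro c h
    exact hφ _ (ObjectProperty.ofObj_apply G (Sum.inl c)) h
  · intro e Q hQ y h
    exact hφ _ (ObjectProperty.ofObj_apply G (Sum.inr ⟨e, ⟨Q, hQ⟩, y⟩)) h

end Groth.Agent.Lib.GlueTopos
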