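import Groth.Agent.Lib.GiraudKR
import Groth.Agent.Lib.GlueTopos5
import Mathlib.CategoryTheory.Limits.Constructions.LimitsOfProductsAndEqualizers
import Mathlib.CategoryTheory.Limits.Shapes.Opposites.Products
import Mathlib.CategoryTheory.Limits.Shapes.Opposites.Equalizers
import Mathlib.CategoryTheory.Limits.Types.Equalizers
import Mathlib.CategoryTheory.Limits.Types.Limits
import Mathlib.CategoryTheory.Limits.Opposites

/-!
# Sheaves for the canonical topology of a sheaf topos turn small colimits into limits
-/

set_option autoImplicit false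
set_option linter.unusedSectionVars false
open CategoryTheory CategoryTheory.Limits Opposite
universe w v u
open ToposFin

namespace Groth.Agent.Lib.CanonLim
open Groth.Agent.Lib.TFin Groth.Agent.Lib.TFinEps Groth.Agent.Lib.Giraud Groth.Agent.Lib.GlueTopos

variable {C : Type u} [SmallCategory C] (J : GrothendieckTopology C)

/-- The sheaves `eps J c` detect isomorphisms. -/
lemma eps_detecting ⦃X Y : Sh J⦄ (f : X ⟶ Y)
    (hf : ∀ (c : C) (h : eps J c ⟶ Y), ∃! h' : eps J c ⟶ X, h' ≫ f = h) : IsIso f := by
  apply isIso_of_ap_bijective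
  intro c
  constructor
  · intro x₁ x₂ hx
    have hx' : ap f x₁ = ap f x₂ := hx
    obtain ⟨h', _, hu⟩ := hf c (homOfSec J (ap f x₁))
    have e1 : homOfSec J x₁ = h' := hu _ (homOfSec_comp _ _)
    have e2 : homOfSec J x₂ = h' := hu _ (by
      show homOfSec J x₂ ≫ f = homOfSec J (ap f x₁)
      rw [homOfSec_comp, hx'])
    exact homOfSec_injective (e1.trans e2.symm)
  · intro x'
    obtain ⟨h', hh', _⟩ := hf c (homOfSec J x')
    refine ⟨ap h' (etaSec J c (𝟙 c)), ?_⟩
    show ap f (ap h' (etaSec J c (𝟙 c))) = x'
    rw [← ap_comp, hh', homOfSec_ap_eta]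

variable {J}

section

variable (G : (Sh J)ᵒᵖ ⥤ Type w)
  (hG : Presieve.IsSheaf (Sheaf.canonicalTopology (Sh J)) G)

include hG

lemma preservesLimit_discrete {ι : Type u} (f : ι → (Sh J)ᵒᵖ) :
    PreservesLimit (Discrete.functor f) G := by
  have hb := (Groth.Agent.S3081.result J).1
  have hl : IsLimit (Cofan.op (cofan hb (fun i => (f i).unop))) :=
    Cofan.IsColimit.op (cofanIsColimit hb _)
  refine preservesLimit_of_preserves_limit_cone hl ?_
  refine ((Types.isLimit_iff _).2 ?_).some
  intro s hs
  obtain ⟨t, ht, hu⟩ := existsUnique_section hb hG (X := fun i => (f i).unop) (fun i => s ⟨i⟩)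
  exact ⟨t, fun ⟨i⟩ => ht i, fun t' ht' => hu t' (fun i => ht' ⟨i⟩)⟩

lemma preservesLimit_parallelPair {A B : (Sh J)ᵒᵖ} (f g : A ⟶ B) :
    PreservesLimit (parallelPair f g) G := by
  have hb := (Groth.Agent.S3081.result J).1
  have hc : EffEqRel (Sh J) := (Groth.Agent.S3081.result J).2
  have w : f.unop ≫ coequalizer.π f.unop g.unop = g.unop ≫ coequalizer.π f.unop g.unop :=
    coequalizer.condition _ _
  have hq : IsColimit (Cofork.ofπ (coequalizer.π f.unop g.unop) w) :=
    coequalizerIsCoequalizer _ _
  have w' : (coequalizer.π f.unop g.unop).op ≫ f = (coequalizer.π f.unop g.unop).op ≫ g := by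
    have := congrArg Quiver.Hom.op w
    simpa using this
  have hl : IsLimit (Fork.ofι (coequalizer.π f.unop g.unop).op w') :=
    Cofork.isColimitOfπEquivIsLimitOp _ _ w w' rfl hq
  refine preservesLimit_of_preserves_limit_cone hl ?_
  refine (isLimitMapConeForkEquiv G w').symm ?_
  refine ((Types.type_equalizer_iff_unique _ _).2 ?_).some
  intro y hy
  exact existsUnique_of_isColimit_cofork hc w hq hb (fun c : C => eps J c) (eps_detecting J) G hG
    y hy

/-- A sheaf of types for the canonical topology of a sheaf topos turns small colimits into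
limits. -/
theorem preservesLimitsOfSize_of_isSheaf : PreservesLimitsOfSize.{u, u} G := by
  have h1 : ∀ (ι : Type u), PreservesLimitsOfShape (Discrete ι) G := fun ι =>
    have := fun f : ι → (Sh J)ᵒᵖ => preservesLimit_discrete G hG f
    preservesLimitsOfShape_of_discrete G
  have h2 : PreservesLimitsOfShape WalkingParallelPair G :=
    ⟨fun {K} =>
      have := preservesLimit_parallelPair G hG (K.map WalkingParallelPairHom.left)
        (K.map WalkingParallelPairHom.right)
      preservesLimit_of_iso_diagram G (diagramIsoParallelPair K).symm⟩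
  exact preservesLimits_of_preservesEqualizers_and_products G

end

end Groth.Agent.Lib.CanonLim
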