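import Groth.Agent.Lib.TFin
import Groth.Prelude.Def_ToposFin2

/-!
# Algebraic and locally coherent sheaf topoi: helper lemmas
-/

set_option autoImplicit false
universe u
open CategoryTheory CategoryTheory.Limits Opposite

namespace Groth.Agent.Lib.TFinAlg

open _root_.ToposFin Groth.Agent.Lib.TFin

variable {C : Type u} [SmallCategory C] {J : GrothendieckTopology C}

/-- Joint epimorphy in the hom-cancellation sense implies covering. -/
lemma cov_of_jointlyEpi {ι : Type u} {X : Sh J} {F : ι → Sh J} (π : ∀ i, F i ⟶ X)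
    (h : ∀ (Z : Sh J) (a b : X ⟶ Z), (∀ i, π i ≫ a = π i ≫ b) → a = b) : Cov π := by
  rw [← epi_sigmaDesc_iff_cov]
  constructor
  intro Z a b hab
  apply h
  intro i
  have := congrArg (fun t => Sigma.ι F i ≫ t) hab
  simpa using this

lemma jointlyEpi_of_cov {ι : Type u} {X : Sh J} {F : ι → Sh J} (π : ∀ i, F i ⟶ X)
    (h : Cov π) (Z : Sh J) (a b : X ⟶ Z) (hab : ∀ i, π i ≫ a = π i ≫ b) : a = b := by
  have := (epi_sigmaDesc_iff_cov π).2 h
  rw [← cancel_epi (Sigma.desc π)]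
  apply Sigma.hom_ext
  intro i
  simpa using hab i

/-- The fibre products of members of covering families of `A` and `B` cover `A ×_Y B`. -/
lemma cov_pullback_map {A B Y : Sh J} (a : A ⟶ Y) (b : B ⟶ Y) {ι κ : Type u}
    {Ai : ι → Sh J} (α : ∀ i, Ai i ⟶ A) (hα : Cov α) {Bj : κ → Sh J} (β : ∀ j, Bj j ⟶ B)
    (hβ : Cov β) :
    Cov (fun p : ι × κ => pullback.map (α p.1 ≫ a) (β p.2 ≫ b) a b (α p.1) (β p.2) (𝟙 Y)
      (Category.comp_id _) (Category.comp_id _)) := by
  intro U w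
  have hw := pb_condition a b w
  refine J.superset_covering ?_ (J.intersection_covering (hα U (ap (pullback.fst a b) w))
    (hβ U (ap (pullback.snd a b) w)))
  rintro V h ⟨⟨i, x1, h1⟩, ⟨j, x2, h2⟩⟩
  obtain ⟨v, hv1, hv2⟩ := pb_exists (α i ≫ a) (β j ≫ b) x1 x2
    (by rw [ap_comp, ap_comp, h1, h2, ap_res, ap_res, hw])
  refine ⟨(i, j), v, ?_⟩
  apply pb_ext a b
  · rw [← ap_comp, pb_map_fst, ap_comp, hv1, h1, ap_res]
  · rw [← ap_comp, pb_map_snd, ap_comp, hv2, h2, ap_res]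

/-- A generating set of quasi-compact objects yields quasi-compact generators. -/
lemma hasQCGenerators_of_isGenerating (S : Set (Sh J)) (hqc : ∀ K ∈ S, IsQC K)
    (hgen : IsGenerating S) : HasQCGenerators J := by
  intro X
  obtain ⟨ι, F, π, hF, hπ⟩ := hgen X
  exact ⟨ι, F, π, fun i => hqc _ (hF i), (epi_sigmaDesc_iff_cov π).2 (cov_of_jointlyEpi π hπ)⟩

/-- A quasi-compact object is covered by finitely many members of a generating set. -/
lemma exists_finite_cov_of_isQC (S : Set (Sh J)) (hgen : IsGenerating S) {A : Sh J}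
    (hA : IsQC A) : ∃ (κ : Type u) (_ : Finite κ) (F : κ → Sh J) (π : ∀ k, F k ⟶ A),
      (∀ k, F k ∈ S) ∧ Cov π := by
  obtain ⟨ι, F, π, hF, hπ⟩ := hgen A
  obtain ⟨s, hs⟩ := (isQC_iff_cov A).1 hA ι F π (cov_of_jointlyEpi π hπ)
  exact ⟨s, inferInstance, fun i => F i, fun i => π i, fun i => hF i, hs⟩

/-- A fibre product of two quasi-compact objects is quasi-compact as soon as this holds for
members of finite covering families. -/
lemma isQC_pullback_of_finite_cov {A B Y : Sh J} (a : A ⟶ Y) (b : B ⟶ Y) {ι κ : Type u}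
    [Finite ι] [Finite κ] {Ai : ι → Sh J} (α : ∀ i, Ai i ⟶ A) (hα : Cov α) {Bj : κ → Sh J}
    (β : ∀ j, Bj j ⟶ B) (hβ : Cov β)
    (h : ∀ i j, IsQC (pullback (α i ≫ a) (β j ≫ b))) : IsQC (pullback a b) :=
  isQC_of_cov_finite _ _ (cov_pullback_map a b α hα β hβ) (fun p => h p.1 p.2)

/-- Members of a generating set of quasi-compact objects closed under fibre products are
quasi-separated. -/
lemma isQS_of_mem (S : Set (Sh J)) (hqc : ∀ K ∈ S, IsQC K) (hgen : IsGenerating S)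
    (hpb : ClosedUnderPullbacks S) {K : Sh J} (hK : K ∈ S) : IsQS K := by
  intro A B a b hA hB
  obtain ⟨ι, _, Ai, α, hAi, hα⟩ := exists_finite_cov_of_isQC S hgen hA
  obtain ⟨κ, _, Bj, β, hBj, hβ⟩ := exists_finite_cov_of_isQC S hgen hB
  refine isQC_pullback_of_finite_cov a b α hα β hβ (fun i j => ?_)
  obtain ⟨P, p, q, hP, sq⟩ := hpb (α i ≫ a) (β j ≫ b) (hAi i) (hBj j) hK
  exact isQC_of_iso sq.isoPullback (hqc P hP)

lemma isCoherent_of_mem (S : Set (Sh J)) (hqc : ∀ K ∈ S, IsQC K) (hgen : IsGenerating S)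
    (hpb : ClosedUnderPullbacks S) {K : Sh J} (hK : K ∈ S) : IsCoherent K :=
  ⟨hqc K hK, isQS_of_mem S hqc hgen hpb hK⟩

/-- Fibre products over a binary product of members of `S` are quasi-compact when `S` is closed
under fibre products and equalizers. -/
lemma isQC_pullback_over_prod (S : Set (Sh J)) (hqc : ∀ K ∈ S, IsQC K)
    (hpb : ClosedUnderPullbacks S) (heq : ClosedUnderEqualizers S) {P Q K L : Sh J}
    (hP : P ∈ S) (hQ : Q ∈ S) (hK : K ∈ S) (hL : L ∈ S) (u : P ⟶ K ⨯ L) (v : Q ⟶ K ⨯ L) :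
    IsQC (pullback u v) := by
  obtain ⟨R, r1, r2, hR, sqR⟩ := hpb (u ≫ prod.fst) (v ≫ prod.fst) hP hQ hK
  obtain ⟨E, e, w, hE, ⟨limE⟩⟩ := heq (r1 ≫ u ≫ prod.snd) (r2 ≫ v ≫ prod.snd) hR hL
  have w' : (e ≫ r1) ≫ u = (e ≫ r2) ≫ v := by
    apply Limits.prod.hom_ext
    · simp only [Category.assoc]
      rw [sqR.w]
    · simpa only [Category.assoc] using w
  have sq : IsPullback (e ≫ r1) (e ≫ r2) u v := by
    refine ⟨⟨w'⟩, ⟨PullbackCone.IsLimit.mk _ (fun s => Fork.IsLimit.lift limE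
      (sqR.lift s.fst s.snd (by simp only [← Category.assoc, s.condition])) ?_) ?_ ?_ ?_⟩⟩
    · simp only [← Category.assoc, sqR.lift_fst, sqR.lift_snd, s.condition]
    · intro s
      have := Fork.IsLimit.lift_ι' limE (sqR.lift s.fst s.snd
        (by simp only [← Category.assoc, s.condition]))
        (by simp only [← Category.assoc, sqR.lift_fst, sqR.lift_snd, s.condition])
      rw [Fork.ι_ofι] at this
      rw [← Category.assoc, this, sqR.lift_fst]
    · intro s
      have := Fork.IsLimit.lift_ι' limE (sqR.lift s.fst s.snd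
        (by simp only [← Category.assoc, s.condition]))
        (by simp only [← Category.assoc, sqR.lift_fst, sqR.lift_snd, s.condition])
      rw [Fork.ι_ofι] at this
      rw [← Category.assoc, this, sqR.lift_snd]
    · intro s m h1 h2
      apply Fork.IsLimit.hom_ext limE
      rw [Fork.IsLimit.lift_ι', Fork.ι_ofι]
      apply sqR.hom_ext
      · rw [sqR.lift_fst, ← h1]
        simp
      · rw [sqR.lift_snd, ← h2]
        simp
  exact isQC_of_iso sq.isoPullback (hqc E hE)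

/-- Binary products of members of `S` are quasi-separated. -/
lemma isQS_prod_of_mem (S : Set (Sh J)) (hqc : ∀ K ∈ S, IsQC K) (hgen : IsGenerating S)
    (hpb : ClosedUnderPullbacks S) (heq : ClosedUnderEqualizers S) {K L : Sh J}
    (hK : K ∈ S) (hL : L ∈ S) : IsQS (K ⨯ L) := by
  intro A B a b hA hB
  obtain ⟨ι, _, Ai, α, hAi, hα⟩ := exists_finite_cov_of_isQC S hgen hA
  obtain ⟨κ, _, Bj, β, hBj, hβ⟩ := exists_finite_cov_of_isQC S hgen hB
  exact isQC_pullback_of_finite_cov a b α hα β hβ (fun i j =>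
    isQC_pullback_over_prod S hqc hpb heq (hAi i) (hBj j) hK hL _ _)

/-- In an algebraic topos every morphism with quasi-separated source is quasi-separated. -/
theorem isQSHom_of_isQS_of_isAlgebraic (hE : IsAlgebraic J) {X Y : Sh J} (f : X ⟶ Y)
    (hX : IsQS X) : IsQSHom f := by
  obtain ⟨S, hqc, hgen, hpb, heq⟩ := hE
  obtain ⟨ι, F, π, hF, hπ⟩ := hgen X
  refine isQSHom_of_cover_with_qs_products (hasQCGenerators_of_isGenerating S hqc hgen) f F π
    (cov_of_jointlyEpi π hπ) (fun i => hqc _ (hF i)) (fun i j => ?_) hX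
  exact isQS_of_mono
    (prod.lift (pullback.fst (π i ≫ f) (π j ≫ f)) (pullback.snd (π i ≫ f) (π j ≫ f)))
    (isQS_prod_of_mem S hqc hgen hpb heq (hF i) (hF j))

lemma hasQCGenerators_of_isAlgebraic (hE : IsAlgebraic J) : HasQCGenerators J := by
  obtain ⟨S, hqc, hgen, -, -⟩ := hE
  exact hasQCGenerators_of_isGenerating S hqc hgen

/-- If `f` is quasi-compact and the target is quasi-compact, so is the source. -/
lemma isQC_of_isQCHom {X Y : Sh J} (f : X ⟶ Y) (hf : IsQCHom f) (hY : IsQC Y) : IsQC X :=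
  IsQCHom.isQC_of_isPullback hf (IsPullback.of_horiz_isIso ⟨by simp⟩ :
    IsPullback (𝟙 X) f f (𝟙 Y)) hY

theorem isQS_iff_isQSHom_of_isAlgebraic (hE : IsAlgebraic J) {X Y : Sh J} (f : X ⟶ Y)
    (hY : IsQS Y) : IsQS X ↔ IsQSHom f :=
  ⟨fun hX => isQSHom_of_isQS_of_isAlgebraic hE f hX, fun hf => isQS_of_isQSHom f hf hY⟩

theorem isCoherent_iff_isCohHom_of_isAlgebraic (hE : IsAlgebraic J) {X Y : Sh J} (f : X ⟶ Y)
    (hY : IsCoherent Y) : IsCoherent X ↔ IsCohHom f :=
  ⟨fun hX => ⟨(isQS_iff Y).1 hY.2 X f hX.1, isQSHom_of_isQS_of_isAlgebraic hE f hX.2⟩,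
    fun hf => ⟨isQC_of_isQCHom f hf.1 hY.1, isQS_of_isQSHom f hf.2 hY.2⟩⟩

end Groth.Agent.Lib.TFinAlg
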