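import Groth.Agent.Lib.CanonLim1
import Groth.Agent.Lib.TFinSite
import Groth.Agent.Lib.TFinAlg
import Groth.Agent.Lib.CanonEps
import Mathlib.CategoryTheory.Limits.Preserves.Finite

/-!
# Functors on a sheaf topos turning small colimits into limits are sheaves for the canonical
topology
-/

set_option autoImplicit false
set_option linter.unusedSectionVars false
open CategoryTheory CategoryTheory.Limits Opposite
universe w v u
open ToposFin

namespace Groth.Agent.Lib.CanonLim
open Groth.Agent.Lib.TFin Groth.Agent.Lib.TFinEps Groth.Agent.Lib.Giraud Groth.Agent.Lib.GlueTopos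
  Groth.Agent.Lib.TFinCoprod Groth.Agent.Lib.TFinAlg Groth.Agent.Lib.TFinSite
  Groth.Agent.Lib.CanonEps

variable {C : Type u} [SmallCategory C] {J : GrothendieckTopology C}

section

variable (G : (Sh J)ᵒᵖ ⥤ Type w) [PreservesLimitsOfSize.{u, u} G]

lemma map_comp_op' {X Y Z : Sh J} (f : X ⟶ Y) (g : Y ⟶ Z) (x : G.obj (op Z)) :
    G.map (f ≫ g).op x = G.map f.op (G.map g.op x) := by
  rw [op_comp, Functor.map_comp_apply]

lemma map_op_injective_of_epi {X Y : Sh J} (p : X ⟶ Y) [Epi p] :
    Function.Injective (G.map p.op) := by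
  have : PreservesFiniteLimits G := PreservesLimitsOfSize.preservesFiniteLimits.{u, u} G
  have : Mono (G.map p.op) := inferInstance
  exact (mono_iff_injective (G.map p.op)).1 this

/-- Sections over a coproduct are determined by, and can be assembled from, their components. -/
lemma existsUnique_sigma {ι : Type u} (F : ι → Sh J) (x : ∀ i, G.obj (op (F i))) :
    ∃! t : G.obj (op (∐ F)), ∀ i, G.map (Sigma.ι F i).op t = x i := by
  have hl : IsLimit (G.mapCone (Cofan.op (Cofan.mk (∐ F) (Sigma.ι F)))) :=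
    isLimitOfPreserves G (Cofan.IsColimit.op (coproductIsCoproduct F))
  obtain ⟨t, ht, hu⟩ := (Types.isLimit_iff _).1 ⟨hl⟩ (fun j => x j.as) (by
    rintro ⟨i⟩ ⟨j⟩ ⟨⟨h⟩⟩
    cases h
    simp)
  exact ⟨t, fun i => ht ⟨i⟩, fun t' ht' => hu t' (fun ⟨i⟩ => ht' i)⟩

/-- Joint injectivity along covering families. -/
lemma eq_of_cov {ι : Type u} {X : Sh J} {F : ι → Sh J} (π : ∀ i, F i ⟶ X) (hπ : Cov π)
    (z₁ z₂ : G.obj (op X)) (h : ∀ i, G.map (π i).op z₁ = G.map (π i).op z₂) : z₁ = z₂ := by
  have : Epi (Sigma.desc π) := (epi_sigmaDesc_iff_cov π).2 hπ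
  apply map_op_injective_of_epi G (Sigma.desc π)
  apply (existsUnique_sigma G F (fun i => G.map (π i).op z₁)).unique
  · intro i
    rw [← map_comp_op', Sigma.ι_desc]
  · intro i
    rw [← map_comp_op', Sigma.ι_desc, h]

/-- Gluing along covering families. -/
lemma exists_of_cov_compatible {ι : Type u} {X : Sh J} {F : ι → Sh J} (π : ∀ i, F i ⟶ X)
    (hπ : Cov π) (x : ∀ i, G.obj (op (F i))) (hx : Presieve.Arrows.Compatible G π x) :
    ∃ t : G.obj (op X), ∀ i, G.map (π i).op t = x i := by
  have hepi : Epi (Sigma.desc π) := (epi_sigmaDesc_iff_cov π).2 hπ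
  obtain ⟨σ, hσ, -⟩ := existsUnique_sigma G F x
  have hk : IsKernelPair (Sigma.desc π) (pullback.fst (Sigma.desc π) (Sigma.desc π))
      (pullback.snd (Sigma.desc π) (Sigma.desc π)) := IsPullback.of_hasPullback _ _
  have hq := isColimit_cofork_of_isKernelPair_of_epi J hk
  have w' : (Sigma.desc π).op ≫ (pullback.fst (Sigma.desc π) (Sigma.desc π)).op =
      (Sigma.desc π).op ≫ (pullback.snd (Sigma.desc π) (Sigma.desc π)).op := by
    rw [← op_comp, ← op_comp, pullback.condition]
  have hl : IsLimit (Fork.ofι (Sigma.desc π).op w') :=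
    Cofork.isColimitOfπEquivIsLimitOp _ _ hk.w w' rfl hq
  have : PreservesFiniteLimits G := PreservesLimitsOfSize.preservesFiniteLimits.{u, u} G
  have hl' := isLimitForkMapOfIsLimit G w' hl
  have key : G.map (pullback.fst (Sigma.desc π) (Sigma.desc π)).op σ =
      G.map (pullback.snd (Sigma.desc π) (Sigma.desc π)).op σ := by
    have hcov := cov_pullback_map (Sigma.desc π) (Sigma.desc π) (Sigma.ι F)
      (cov_inj _ (coproductIsCoproduct F)) (Sigma.ι F) (cov_inj _ (coproductIsCoproduct F))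
    apply eq_of_cov G _ hcov
    rintro ⟨i, j⟩
    rw [← map_comp_op', ← map_comp_op', pullback.lift_fst, pullback.lift_snd, map_comp_op',
      map_comp_op', hσ, hσ]
    apply hx
    have := pullback.condition (f := Sigma.ι F i ≫ Sigma.desc π) (g := Sigma.ι F j ≫ Sigma.desc π)
    simpa using this
  obtain ⟨t, ht, -⟩ := (Types.type_equalizer_iff_unique _ _).1 ⟨hl'⟩ σ key
  refine ⟨t, fun i => ?_⟩
  have ht' : G.map (Sigma.desc π).op t = σ := ht
  rw [← hσ i, ← ht', ← map_comp_op', Sigma.ι_desc]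

/-- A functor on a sheaf topos turning small colimits into limits is a sheaf for the canonical
topology. -/
theorem isSheaf_of_preservesLimits :
    Presieve.IsSheaf (Sheaf.canonicalTopology (Sh J)) G := by
  intro X S hS
  let f : ∀ i : (Σ c : C, {x : sec X c // S (homOfSec J x)}), eps J i.1 ⟶ X :=
    fun i => homOfSec J i.2.1
  have hmem : ∀ {Y : Sh J} (g : Y ⟶ X), S g → ∀ (c : C) (y : sec Y c),
      S (homOfSec J (ap g y)) := by
    intro Y g hg c y
    rw [← homOfSec_comp]
    exact S.downward_closed hg _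
  have hcov : Cov f := by
    apply cov_of_jointlyEpi
    intro Z a b hab
    refine (((Sheaf.isSheaf_yoneda_obj Z) S hS).isSeparatedFor).ext ?_
    intro Y g hg
    show g ≫ a = g ≫ b
    apply jointlyEpi_of_cov _ (cov_homOfSec J Y)
    rintro ⟨c, y⟩
    have := hab ⟨c, ⟨ap g y, hmem g hg c y⟩⟩
    simp only [f] at this
    rw [← Category.assoc, ← Category.assoc, homOfSec_comp]
    exact this
  have hle : ((Sieve.ofArrows _ f : Sieve X) : Presieve X) ≤ S.arrows := by
    intro Y g hg
    rw [Sieve.mem_ofArrows_iff] at hg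
    obtain ⟨i, a, rfl⟩ := hg
    exact S.downward_closed i.2.2 a
  refine Presieve.isSheafFor_subsieve_aux G hle ?_ ?_
  · rw [Sieve.ofArrows, ← Presieve.isSheafFor_iff_generate, Presieve.isSheafFor_arrows_iff]
    intro x hx
    obtain ⟨t, ht⟩ := exists_of_cov_compatible G f hcov x hx
    exact ⟨t, ht, fun t' ht' => eq_of_cov G f hcov _ _ (fun i => (ht' i).trans (ht i).symm)⟩
  · intro Y g hg x t₁ t₂ h₁ h₂
    apply eq_of_cov G _ (cov_homOfSec J Y)
    rintro ⟨c, y⟩
    have hm : ((Sieve.ofArrows _ f).pullback g).arrows (homOfSec J y) := by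
      rw [Sieve.pullback_apply, Sieve.mem_ofArrows_iff]
      exact ⟨⟨c, ⟨ap g y, hmem g hg c y⟩⟩, 𝟙 _, by simp [f, homOfSec_comp]⟩
    exact (h₁ _ hm).trans (h₂ _ hm).symm

end

end Groth.Agent.Lib.CanonLim
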