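import Groth.Agent.Lib.CanonLim2
import Mathlib.CategoryTheory.Sites.CoverPreserving
import Mathlib.CategoryTheory.Functor.Flat
import Mathlib.CategoryTheory.Adjunction.PartialAdjoint

/-!
# Left exact functors between sheaf topoi preserving epimorphic families
-/

set_option autoImplicit false
set_option linter.unusedSectionVars false
open CategoryTheory CategoryTheory.Limits Opposite
universe w v u
open ToposFin

namespace Groth.Agent.Lib.CanonLim
open Groth.Agent.Lib.TFin Groth.Agent.Lib.TFinEps Groth.Agent.Lib.Giraud Groth.Agent.Lib.GlueTopos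
  Groth.Agent.Lib.TFinCoprod Groth.Agent.Lib.TFinAlg Groth.Agent.Lib.TFinSite
  Groth.Agent.Lib.CanonEps

variable {C : Type u} [SmallCategory C] {J : GrothendieckTopology C}

/-- A small covering family generates a covering sieve of the canonical topology. -/
lemma ofArrows_mem_canonical_of_cov {ι : Type u} {X : Sh J} {F : ι → Sh J} (π : ∀ i, F i ⟶ X)
    (hπ : Cov π) : Sieve.ofArrows F π ∈ Sheaf.canonicalTopology (Sh J) X := by
  have hc : EffEqRel (Sh J) := (Groth.Agent.S3081.result J).2
  have hepi : Epi (Sigma.desc π) := (epi_sigmaDesc_iff_cov π).2 hπ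
  have hk : IsKernelPair (Sigma.desc π) (pullback.fst (Sigma.desc π) (Sigma.desc π))
      (pullback.snd (Sigma.desc π) (Sigma.desc π)) := IsPullback.of_hasPullback _ _
  have hp : UnivEffEpi (Sigma.desc π) :=
    univEffEpi_of_isColimit_cofork hc hk.w (isColimit_cofork_of_isKernelPair_of_epi J hk)
  refine (Sheaf.canonicalTopology (Sh J)).transitive hp.generate_singleton_mem_canonical _ ?_
  rintro Y g ⟨W, g', p', ⟨⟩, rfl⟩
  rw [Sieve.pullback_comp]
  apply (Sheaf.canonicalTopology (Sh J)).pullback_stable
  refine (Sheaf.canonicalTopology (Sh J)).superset_covering ?_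
    (ofArrows_mem_canonical (Cofan.mk (∐ F) (Sigma.ι F))
      (isUniversalColimit_cofan _ (coproductIsCoproduct F)))
  rintro W h hh
  rw [Sieve.mem_ofArrows_iff] at hh
  obtain ⟨i, a, rfl⟩ := hh
  rw [Sieve.pullback_apply, Sieve.mem_ofArrows_iff]
  refine ⟨i, a, ?_⟩
  rw [Category.assoc]
  congr 1
  exact Sigma.ι_desc _ _

/-- Every covering sieve of the canonical topology contains a small covering family of morphisms
from the sheaves `eps J c`. -/
lemma cov_of_mem_canonical {X : Sh J} (S : Sieve X)
    (hS : S ∈ Sheaf.canonicalTopology (Sh J) X) :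
    Cov (fun i : (Σ c : C, {x : sec X c // S (homOfSec J x)}) => homOfSec J i.2.1) := by
  have hmem : ∀ {Y : Sh J} (g : Y ⟶ X), S g → ∀ (c : C) (y : sec Y c),
      S (homOfSec J (ap g y)) := by
    intro Y g hg c y
    rw [← homOfSec_comp]
    exact S.downward_closed hg _
  apply cov_of_jointlyEpi
  intro Z a b hab
  refine (((Sheaf.isSheaf_yoneda_obj Z) S hS).isSeparatedFor).ext ?_
  intro Y g hg
  show g ≫ a = g ≫ b
  apply jointlyEpi_of_cov _ (cov_homOfSec J Y)
  rintro ⟨c, y⟩
  have := hab ⟨c, ⟨ap g y, hmem g hg c y⟩⟩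
  rw [← Category.assoc, ← Category.assoc, homOfSec_comp]
  exact this

variable {D : Type u} [SmallCategory D] {K : GrothendieckTopology D} (f : Sh J ⥤ Sh K)

/-- A functor preserving small epimorphic families preserves covers for the canonical
topologies. -/
lemma coverPreserving_of_preservesEpiFamilies (hf : SGA4.PreservesEpiFamilies.{u + 1, u + 1, u} f) :
    CoverPreserving (Sheaf.canonicalTopology (Sh J)) (Sheaf.canonicalTopology (Sh K)) f := by
  refine ⟨fun {X S} hS => ?_⟩
  have hcov := cov_of_mem_canonical S hS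
  have h1 := hf _ X _ _ (fun Z a b hab => jointlyEpi_of_cov _ hcov Z a b hab)
  have hcov' : Cov (fun i : (Σ c : C, {x : sec X c // S (homOfSec J x)}) =>
      f.map (homOfSec J i.2.1)) := cov_of_jointlyEpi _ h1
  refine (Sheaf.canonicalTopology (Sh K)).superset_covering ?_
    (ofArrows_mem_canonical_of_cov _ hcov')
  rintro W h hh
  rw [Sieve.mem_ofArrows_iff] at hh
  obtain ⟨i, a, rfl⟩ := hh
  exact ⟨_, homOfSec J i.2.1, a, i.2.2, rfl⟩

variable [PreservesFiniteLimits f]

lemma isContinuous_of_preservesEpiFamilies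
    (hf : SGA4.PreservesEpiFamilies.{u + 1, u + 1, u} f) :
    f.IsContinuous (Sheaf.canonicalTopology (Sh J)) (Sheaf.canonicalTopology (Sh K)) := by
  have : RepresentablyFlat f := flat_of_preservesFiniteLimits f
  exact Functor.isContinuous_iff_coverPreserving.2
    (coverPreserving_of_preservesEpiFamilies f hf)

/-- A continuous functor (for the canonical topologies) between sheaf topoi is a left adjoint. -/
lemma isLeftAdjoint_of_isContinuous
    [f.IsContinuous (Sheaf.canonicalTopology (Sh J)) (Sheaf.canonicalTopology (Sh K))] :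
    f.IsLeftAdjoint := by
  apply Functor.isLeftAdjoint_of_rightAdjointObjIsDefined_eq_top
  ext Z
  simp only [Pi.top_apply, Prop.top_eq_true, iff_true]
  rw [Functor.rightAdjointObjIsDefined_iff]
  have hs : Presieve.IsSheaf (Sheaf.canonicalTopology (Sh J)) (f.op ⋙ yoneda.obj Z) :=
    Functor.op_comp_isSheaf_of_isSheaf_type f _ (Sheaf.isSheaf_yoneda_obj Z)
  obtain ⟨Q, ⟨hQ⟩⟩ := exists_representableBy (Groth.Agent.S3081.result J).1
    (Groth.Agent.S3081.result J).2 (fun c : C => eps J c) (eps_detecting J)
    (f.op ⋙ yoneda.obj Z) hs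
  exact hQ.isRepresentable

end Groth.Agent.Lib.CanonLim
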