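import Groth.Agent.Lib.H74GrVan

/-!
# Finiteness of the graded pieces of graded local cohomology (helper74)
-/

set_option autoImplicit false
set_option linter.unusedSectionVars false
universe u

namespace Groth.Agent.Lib.H74GrFin

open DirectSum GrLC Groth.Agent.Lib.H87GrMod Groth.Agent.Lib.H87GrMod2 Groth.Agent.Lib.H87GrShift
  Groth.Agent.S18662 Groth.Agent.S18661 Groth.Agent.Lib.H74GrLES Groth.Agent.Lib.H74GrArt
  Groth.Agent.Lib.H74GrVan

section Noeth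

variable {ι : Type} [AddCommGroup ι] [DecidableEq ι]
variable {R : Type u} [CommRing R] (𝒜 : ι → AddSubgroup R) [GradedRing 𝒜]
variable {H : Type u} [AddCommGroup H] [Module R H] (ℋ : ι → AddSubgroup H) [Decomposition ℋ]
  [SetLike.GradedSMul 𝒜 ℋ]

/-- The pieces of a Noetherian graded module are Noetherian over the degree zero subring. -/
theorem isNoetherian_comp [IsNoetherian R H] (n : ι) : IsNoetherian (deg0 𝒜) (comp 𝒜 ℋ n) := by
  rw [isNoetherian_iff']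
  have hR : WellFoundedGT (Submodule R H) := isNoetherian_iff'.mp inferInstance
  let Φ : Submodule (deg0 𝒜) (comp 𝒜 ℋ n) → Submodule R H := fun P =>
    Submodule.span R ((P.map (comp 𝒜 ℋ n).subtype : Submodule (deg0 𝒜) H) : Set H)
  have hΦ : ∀ P P', Φ P ≤ Φ P' ↔ P ≤ P' := by
    intro P P'
    constructor
    · intro h p hp
      have h1 : (p : H) ∈ Φ P := Submodule.subset_span ⟨p, hp, rfl⟩
      have h2 : (p : H) ∈ Φ P' := h h1
      have hS : ∀ s ∈ ((P'.map (comp 𝒜 ℋ n).subtype : Submodule (deg0 𝒜) H) : Set H),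
          s ∈ ℋ n := by
        rintro _ ⟨q, -, rfl⟩
        exact q.2
      have h3 := mem_span_deg0 𝒜 ℋ _ hS (show (p : H) ∈ ℋ n from p.2) h2
      rw [Submodule.span_eq] at h3
      obtain ⟨q, hq, hqp⟩ := h3
      have : q = p := Subtype.ext hqp
      rw [← this]
      exact hq
    · intro h
      exact Submodule.span_mono (Submodule.map_mono h)
  exact (OrderEmbedding.ofMapLEIff Φ hΦ).wellFoundedGT

/-- The degree zero subring of a Noetherian graded ring is Noetherian. -/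
theorem isNoetherianRing_deg0 [IsNoetherianRing R] : IsNoetherianRing (deg0 𝒜) := by
  haveI := isNoetherian_comp 𝒜 𝒜 (0 : ι)
  let e : comp 𝒜 𝒜 (0 : ι) ≃ₗ[deg0 𝒜] deg0 𝒜 :=
    { toFun := fun x => ⟨x.1, x.2⟩
      invFun := fun x => ⟨x.1, x.2⟩
      map_add' := fun _ _ => rfl
      map_smul' := fun _ _ => rfl
      left_inv := fun _ => rfl
      right_inv := fun _ => rfl }
  exact isNoetherian_of_linearEquiv e

end Noeth

section Fin

open Groth.Agent.S13229 Groth.Agent.S13215 Groth.Agent.Lib.LocCohH0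

variable {R : Type u} [CommRing R] [IsNoetherianRing R] (𝒜 : ℤ → AddSubgroup R) [GradedRing 𝒜]
variable (hpos : ∀ n : ℤ, n < 0 → 𝒜 n = ⊥) (a : HomogeneousIdeal 𝒜)
  (ha : a.toIdeal = Ideal.span (⋃ n ∈ Set.Ioi (0 : ℤ), (𝒜 n : Set R)))

/-- The statement "the pieces of `H^i` are finite over `R_0`, for all finite graded modules". -/
def PFin (i : ℕ) : Prop :=
  ∀ (M : Type u) [AddCommGroup M] [Module R M] [Module.Finite R M] (ℳ : ℤ → AddSubgroup M)
    [Decomposition ℳ] [SetLike.GradedSMul 𝒜 ℳ] (E : StarInjRes 𝒜 ℳ) (n : ℤ),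
    Module.Finite (deg0 𝒜) (E.Hcomp a i n)

theorem pFin_zero : PFin 𝒜 a 0 := by
  intro M _ _ _ ℳ _ _ E n
  have : IsNoetherian R M := isNoetherian_of_isNoetherianRing_of_finite R M
  obtain ⟨e⟩ := Groth.Agent.S13224.main a E 0
  haveI : IsNoetherian R (E.H a 0) :=
    isNoetherian_of_linearEquiv (e.trans (gammaEquiv a.toIdeal M)).symm
  letI := decompositionHgr 𝒜 ℳ a E 0
  haveI := isNoetherian_comp 𝒜 (E.Hgr a 0) n
  have heq : comp 𝒜 (E.Hgr a 0) n = E.Hcomp a 0 n := Submodule.ext fun x => Iff.rfl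
  rw [← heq]
  exact Module.IsNoetherian.finite _ _

include hpos ha in
theorem fin_step_tf (i : ℕ) (IH : PFin 𝒜 a i) {M : Type u} [AddCommGroup M] [Module R M]
    [Module.Finite R M] (ℳ : ℤ → AddSubgroup M) [Decomposition ℳ] [SetLike.GradedSMul 𝒜 ℳ]
    (hΓ : gam a.toIdeal M = ⊥) (E : StarInjRes 𝒜 ℳ) (n : ℤ) :
    Module.Finite (deg0 𝒜) (E.Hcomp a (i + 1) n) := by
  haveI := isNoetherianRing_deg0 𝒜
  obtain ⟨x, d, hd, hxd, hxa, hreg⟩ := exists_homogeneous_regular 𝒜 (M := M) a.toIdeal ha hΓ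
  have hxdeg : IsGrHomDeg ℳ ℳ (x • (LinearMap.id : M →ₗ[R] M)) (d : ℤ) := fun g m hm => by
    have := SetLike.GradedSMul.smul_mem (A := 𝒜) (B := ℳ) hxd hm
    rw [vadd_eq_add, add_comm] at this
    exact this
  have hB : (LinearMap.range (x • (LinearMap.id : M →ₗ[R] M))).IsHomogeneous ℳ :=
    isHomogeneous_range_deg ℳ ℳ hxdeg
  have hπgr := quotMap_isGrHom 𝒜 ℳ _ hB
  have hπs := quotMap_surjective 𝒜 ℳ _ hB
  have hker : LinearMap.ker (quotMap 𝒜 ℳ _ hB) =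
      LinearMap.range (x • (LinearMap.id : M →ₗ[R] M)) := by
    ext m
    exact quotMap_eq_zero_iff 𝒜 ℳ _ hB m
  haveI : Module.Finite R (quotGMod 𝒜 ℳ _ hB).carrier :=
    Module.Finite.of_surjective (quotMap 𝒜 ℳ _ hB) hπs
  obtain ⟨cπ, hcπ⟩ := exists_cmap E (res (quotGMod 𝒜 ℳ _ hB).gr) (isGrHomDeg_zero_of hπgr)
  obtain ⟨δ, hδ, h1, h2, h3⟩ := exists_les_smul E (res (quotGMod 𝒜 ℳ _ hB).gr) hxd hreg hπgr
    hπs hker a cπ hcπ
  letI := decompositionHgr 𝒜 ℳ a E (i + 1)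
  letI := decompositionHgr 𝒜 (quotGMod 𝒜 ℳ _ hB).gr a (res (quotGMod 𝒜 ℳ _ hB).gr) i
  have hδdeg : IsGrHomDeg ((res (quotGMod 𝒜 ℳ _ hB).gr).Hgr a i) (E.Hgr a (i + 1)) (δ i)
      (-(d : ℤ)) := fun n ξ hξ => hδ i n ξ hξ
  obtain ⟨r, hr⟩ := pVan 𝒜 hpos a ha (i + 1) M ℳ E
  -- one step down
  have hstep : ∀ n : ℤ, Module.Finite (deg0 𝒜) (E.Hcomp a (i + 1) (n + d)) →
      Module.Finite (deg0 𝒜) (E.Hcomp a (i + 1) n) := by
    intro n hfin
    haveI := hfin
    haveI : IsNoetherian (deg0 𝒜) (E.Hcomp a (i + 1) (n + d)) :=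
      isNoetherian_of_isNoetherianRing_of_finite _ _
    have hmemf : ∀ ξ ∈ E.Hcomp a (i + 1) n,
        ((LinearMap.lsmul R (E.H a (i + 1)) x).restrictScalars (deg0 𝒜)) ξ ∈
          E.Hcomp a (i + 1) (n + d) := by
      intro ξ hξ
      have hξ' : ξ ∈ E.Hgr a (i + 1) n := hξ
      have := SetLike.GradedSMul.smul_mem (A := 𝒜) (B := E.Hgr a (i + 1)) hxd hξ'
      rw [vadd_eq_add, add_comm (d : ℤ) n] at this
      exact this
    have hmemg : ∀ w ∈ (res (quotGMod 𝒜 ℳ _ hB).gr).Hcomp a i (n + d),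
        ((δ i).restrictScalars (deg0 𝒜)) w ∈ E.Hcomp a (i + 1) n := by
      intro w hw
      have := hδ i (n + d) w hw
      rw [add_neg_cancel_right] at this
      exact this
    let f := ((LinearMap.lsmul R (E.H a (i + 1)) x).restrictScalars (deg0 𝒜)).restrict hmemf
    let g := ((δ i).restrictScalars (deg0 𝒜)).restrict hmemg
    haveI := IH (quotGMod 𝒜 ℳ _ hB).carrier (quotGMod 𝒜 ℳ _ hB).gr
      (res (quotGMod 𝒜 ℳ _ hB).gr) (n + d)
    have hkg : LinearMap.ker f = LinearMap.range g := by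
      ext ξ
      constructor
      · intro hξ
        have hξ0 : x • (ξ : E.H a (i + 1)) = 0 := congrArg Subtype.val hξ
        have hrange := (h3 i ξ).mp hξ0
        obtain ⟨w, hw, hwξ⟩ := exists_homogeneous_preimage
          ((res (quotGMod 𝒜 ℳ _ hB).gr).Hgr a i) (E.Hgr a (i + 1)) hδdeg
          (show (ξ : E.H a (i + 1)) ∈ E.Hgr a (i + 1) n from ξ.2) hrange
        rw [sub_neg_eq_add] at hw
        exact ⟨⟨w, hw⟩, Subtype.ext hwξ⟩
      · rintro ⟨w, rfl⟩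
        apply Subtype.ext
        show x • (δ i (w : _)) = 0
        exact (h3 i _).mpr ⟨w, rfl⟩
    have htop : (⊤ : Submodule (deg0 𝒜) ↥(E.Hcomp a (i + 1) n)).FG := by
      apply Submodule.fg_of_fg_map_of_fg_inf_ker f
      · exact IsNoetherian.noetherian _
      · rw [top_inf_eq, hkg, LinearMap.range_eq_map]
        exact Module.Finite.fg_top.map g
    exact ⟨htop⟩
  have hall : ∀ j : ℕ, ∀ n : ℤ, r ≤ n + j * d →
      Module.Finite (deg0 𝒜) (E.Hcomp a (i + 1) n) := by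
    intro j
    induction j with
    | zero =>
      intro n hn
      rw [hr n (by simpa using hn)]
      infer_instance
    | succ j ihj =>
      intro n hn
      apply hstep n
      apply ihj (n + d)
      push_cast at hn ⊢
      linarith
  have hdpos : (0 : ℤ) < d := by exact_mod_cast hd
  refine hall (r - n).toNat n ?_
  have h1 : (r - n) ≤ ((r - n).toNat : ℤ) := Int.self_le_toNat _
  have h2 : ((r - n).toNat : ℤ) ≤ ((r - n).toNat : ℤ) * d := by
    have : (0 : ℤ) ≤ ((r - n).toNat : ℤ) := Int.natCast_nonneg _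
    nlinarith
  linarith

include hpos ha in
theorem pFin_succ (i : ℕ) (IH : PFin 𝒜 a i) : PFin 𝒜 a (i + 1) := by
  intro M _ _ _ ℳ _ _ E n
  haveI := isNoetherianRing_deg0 𝒜
  have : IsNoetherian R M := isNoetherian_of_isNoetherianRing_of_finite R M
  have hΓhom : (gam a.toIdeal M).IsHomogeneous ℳ := isHomogeneous_gam 𝒜 ℳ a
  have hπgr := quotMap_isGrHom 𝒜 ℳ _ hΓhom
  have hπs := quotMap_surjective 𝒜 ℳ _ hΓhom
  haveI : Module.Finite R (quotGMod 𝒜 ℳ _ hΓhom).carrier :=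
    Module.Finite.of_surjective (quotMap 𝒜 ℳ _ hΓhom) hπs
  have hQΓ : gam a.toIdeal (quotGMod 𝒜 ℳ _ hΓhom).carrier = ⊥ := by
    rw [eq_bot_iff]
    intro q hq
    obtain ⟨m, rfl⟩ := hπs q
    obtain ⟨k, hk⟩ := hq
    rw [Submodule.mem_bot, quotMap_eq_zero_iff]
    apply mem_gam_of_pow_smul_mem (IsNoetherian.noetherian a.toIdeal) k m
    intro r hr
    rw [← quotMap_eq_zero_iff 𝒜 ℳ _ hΓhom, map_smul]
    exact hk r hr
  haveI := fin_step_tf 𝒜 hpos a ha i IH (quotGMod 𝒜 ℳ _ hΓhom).gr hQΓ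
    (res (quotGMod 𝒜 ℳ _ hΓhom).gr) n
  haveI : IsNoetherian (deg0 𝒜) ((res (quotGMod 𝒜 ℳ _ hΓhom).gr).Hcomp a (i + 1) n) :=
    isNoetherian_of_isNoetherianRing_of_finite _ _
  obtain ⟨G₀, j, hjgr, hjinj, hjrange⟩ := exists_sub_ses 𝒜 ℳ (gam a.toIdeal M) hΓhom
  have hjπ : Function.Exact j (quotMap 𝒜 ℳ _ hΓhom) := by
    intro m
    rw [quotMap_eq_zero_iff, ← hjrange]
    rfl
  have hG0 : gam a.toIdeal G₀.carrier = ⊤ := by
    rw [eq_top_iff]
    intro q _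
    have hjq : j q ∈ gam a.toIdeal M := by
      rw [← hjrange]; exact ⟨q, rfl⟩
    obtain ⟨k, hk⟩ := hjq
    refine ⟨k, fun r hr => hjinj ?_⟩
    rw [map_smul, hk r hr, map_zero]
  haveI := H_subsingleton_of_torsion (res G₀.gr) a hG0 (i + 1) (by omega)
  obtain ⟨cf, hcf⟩ := exists_cmap (res G₀.gr) E (isGrHomDeg_zero_of hjgr)
  obtain ⟨cg, hcg⟩ := exists_cmap E (res (quotGMod 𝒜 ℳ _ hΓhom).gr) (isGrHomDeg_zero_of hπgr)
  obtain ⟨δ, hδ, h1, h2, h3⟩ := exists_les (res G₀.gr) E (res (quotGMod 𝒜 ℳ _ hΓhom).gr)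
    hjgr hπgr hjinj hjπ hπs a cf hcf cg hcg
  have hmem : ∀ ξ ∈ E.Hcomp a (i + 1) n,
      ((cg.Hmap a (i + 1)).restrictScalars (deg0 𝒜)) ξ ∈
        (res (quotGMod 𝒜 ℳ _ hΓhom).gr).Hcomp a (i + 1) n := by
    intro ξ hξ
    have := cg.Hmap_mem_Hcomp a (i + 1) hξ
    rwa [add_zero] at this
  refine Module.Finite.of_injective
    (((cg.Hmap a (i + 1)).restrictScalars (deg0 𝒜)).restrict hmem) ?_
  rw [injective_iff_map_eq_zero]
  intro ξ hξ
  have hξ0 : cg.Hmap a (i + 1) (ξ : E.H a (i + 1)) = 0 := congrArg Subtype.val hξ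
  obtain ⟨η, hη⟩ := (h1 (i + 1) ξ).mp hξ0
  apply Subtype.ext
  rw [← hη, Subsingleton.elim η 0, map_zero]
  rfl

include hpos ha in
theorem pFin (i : ℕ) : PFin 𝒜 a i := by
  induction i with
  | zero => exact pFin_zero 𝒜 a
  | succ i ih => exact pFin_succ 𝒜 hpos a ha i ih

end Fin

end Groth.Agent.Lib.H74GrFin
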