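import Groth.Agent.Lib.H87GrMod

set_option autoImplicit false
set_option linter.unusedSectionVars false
universe u

namespace Groth.Agent.Lib.H87GrMod2
open DirectSum Groth.Agent.Lib.H87GrMod

variable {ι : Type} [AddCommGroup ι] [DecidableEq ι]
variable {R : Type u} [CommRing R]

/-- The quotient of a homogeneous submodule by a homogeneous submodule is the internal direct
sum of the images of the homogeneous pieces. -/
theorem isInternal_quotient_pieces {X : Type u} [AddCommGroup X] [Module R X]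
    (𝒳 : ι → AddSubgroup X) [Decomposition 𝒳] (Z B : Submodule R X)
    (hZ : Z.IsHomogeneous 𝒳) (hB : B.IsHomogeneous 𝒳)
    (𝒢 : ι → AddSubgroup (↥Z ⧸ B.comap Z.subtype))
    (h𝒢 : ∀ g x, x ∈ 𝒢 g ↔ ∃ z : Z, (z : X) ∈ 𝒳 g ∧ (B.comap Z.subtype).mkQ z = x) :
    DirectSum.IsInternal 𝒢 := by
  classical
  constructor
  · rw [injective_iff_map_eq_zero]
    intro v hv
    have hrep : ∀ g, ∃ z : Z, (z : X) ∈ 𝒳 g ∧ (B.comap Z.subtype).mkQ z = (v g : _) :=
      fun g => (h𝒢 g _).mp (v g).2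
    choose z hzdeg hzv using hrep
    rw [DirectSum.coeAddMonoidHom_eq_dfinsuppSum, DFinsupp.sum] at hv
    have h1 : (B.comap Z.subtype).mkQ (∑ g ∈ v.support, z g) = 0 := by
      rw [map_sum]; simp_rw [hzv]; exact hv
    rw [Submodule.mkQ_apply, Submodule.Quotient.mk_eq_zero, Submodule.mem_comap] at h1
    apply DFinsupp.ext
    intro g
    by_cases hg : g ∈ v.support
    · have h2 := hB g h1
      have h3 : (decompose 𝒳 (Z.subtype (∑ g' ∈ v.support, z g')) g : X) = z g := by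
        rw [map_sum, decompose_sum, DFinsupp.finsetSum_apply, AddSubmonoidClass.coe_finsetSum,
          Finset.sum_eq_single g]
        · exact decompose_of_mem_same 𝒳 (hzdeg g)
        · intro g' _ hne
          exact decompose_of_mem_ne 𝒳 (hzdeg g') hne
        · intro hg'; exact absurd hg hg'
      rw [h3] at h2
      have h4 : ((v g : _) : ↥Z ⧸ B.comap Z.subtype) = 0 := by
        rw [← hzv, Submodule.mkQ_apply, Submodule.Quotient.mk_eq_zero, Submodule.mem_comap]
        exact h2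
      exact Subtype.ext h4
    · rw [DFinsupp.notMem_support_iff] at hg
      rw [hg]; rfl
  · intro x
    obtain ⟨z, rfl⟩ := Submodule.mkQ_surjective _ x
    have hzg : ∀ g, (decompose 𝒳 (z : X) g : X) ∈ Z := fun g => hZ g z.2
    have hsum : z = ∑ g ∈ (decompose 𝒳 (z : X)).support, ⟨_, hzg g⟩ := by
      apply Subtype.ext
      rw [AddSubmonoidClass.coe_finsetSum]
      exact (DirectSum.sum_support_decompose 𝒳 (z : X)).symm
    rw [hsum, map_sum]
    have hmem : ∀ g, (B.comap Z.subtype).mkQ ⟨_, hzg g⟩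
        ∈ (DirectSum.coeAddMonoidHom 𝒢).range := by
      intro g
      have hg : (B.comap Z.subtype).mkQ ⟨_, hzg g⟩ ∈ 𝒢 g :=
        (h𝒢 g _).mpr ⟨⟨_, hzg g⟩, (decompose 𝒳 (z : X) g).2, rfl⟩
      exact ⟨DirectSum.of (fun i => 𝒢 i) g ⟨_, hg⟩, DirectSum.coeAddMonoidHom_of 𝒢 g _⟩
    exact sum_mem (fun g _ => hmem g)

variable (𝒜 : ι → AddSubgroup R) [GradedRing 𝒜]
variable {M : Type u} [AddCommGroup M] [Module R M] (ℳ : ι → AddSubgroup M)
variable {N : Type u} [AddCommGroup N] [Module R N] (𝒩 : ι → AddSubgroup N)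

theorem isHomogeneous_pow {I : Ideal R} (hI : I.IsHomogeneous 𝒜) (n : ℕ) :
    (I ^ n).IsHomogeneous 𝒜 := by
  induction n with
  | zero => rw [pow_zero, Ideal.one_eq_top]; exact Ideal.IsHomogeneous.top 𝒜
  | succ n ih => rw [pow_succ]; exact ih.mul hI

theorem isHomogeneous_inf [Decomposition ℳ] {P Q : Submodule R M}
    (hP : P.IsHomogeneous ℳ) (hQ : Q.IsHomogeneous ℳ) : (P ⊓ Q).IsHomogeneous ℳ :=
  fun g _ hm => ⟨hP g hm.1, hQ g hm.2⟩

theorem isHomogeneous_bot [Decomposition ℳ] : (⊥ : Submodule R M).IsHomogeneous ℳ := by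
  intro g m hm
  rw [Submodule.mem_bot] at hm
  rw [hm, decompose_zero, DirectSum.zero_apply, ZeroMemClass.coe_zero]
  exact Submodule.zero_mem _

theorem isHomogeneous_map [Decomposition ℳ] [Decomposition 𝒩] {f : M →ₗ[R] N}
    (hf : GrLC.IsGrHom ℳ 𝒩 f) {P : Submodule R M} (hP : P.IsHomogeneous ℳ) :
    (P.map f).IsHomogeneous 𝒩 := by
  rintro g _ ⟨m, hm, rfl⟩
  rw [decompose_map ℳ 𝒩 hf]
  exact ⟨_, hP g hm, rfl⟩

/-- The torsion submodule of a graded module with respect to a homogeneous ideal is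
homogeneous. -/
theorem isHomogeneous_gam [Decomposition ℳ] [SetLike.GradedSMul 𝒜 ℳ] (a : HomogeneousIdeal 𝒜) :
    (GrLC.gam a.toIdeal M).IsHomogeneous ℳ := by
  classical
  rintro g m ⟨n, hn⟩
  refine ⟨n, fun r hr => ?_⟩
  have hpow : (a.toIdeal ^ n).IsHomogeneous 𝒜 := isHomogeneous_pow 𝒜 a.isHomogeneous n
  rw [← DirectSum.sum_support_decompose 𝒜 r, Finset.sum_smul]
  refine Finset.sum_eq_zero (fun j _ => ?_)
  have hj : (decompose 𝒜 r j : R) ∈ a.toIdeal ^ n := hpow j hr
  rw [← decompose_smul_of_mem_left ℳ 𝒜 (decompose 𝒜 r j).2, hn _ hj, decompose_zero,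
    DirectSum.zero_apply, ZeroMemClass.coe_zero]

/-- Graded local cohomology computed from a *injective resolution is the internal direct sum
of its homogeneous pieces. -/
theorem starInjRes_Hgr_isInternal [Decomposition ℳ] [SetLike.GradedSMul 𝒜 ℳ]
    (a : HomogeneousIdeal 𝒜) (E : GrLC.StarInjRes 𝒜 ℳ) (i : ℕ) :
    DirectSum.IsInternal (E.Hgr a i) := by
  have hZ : (E.cocyc a i).IsHomogeneous (E.X i).gr :=
    isHomogeneous_inf _ (isHomogeneous_gam 𝒜 _ a) (isHomogeneous_ker _ _ (E.d_grHom i))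
  have hB : (E.cobdy a i).IsHomogeneous (E.X i).gr := by
    cases i with
    | zero => exact isHomogeneous_bot _
    | succ n => exact isHomogeneous_map _ _ (E.d_grHom n) (isHomogeneous_gam 𝒜 _ a)
  exact isInternal_quotient_pieces (E.X i).gr (E.cocyc a i) (E.cobdy a i) hZ hB (E.Hgr a i)
    (fun g x => Iff.rfl)

end Groth.Agent.Lib.H87GrMod2
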