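import Groth.Prelude.Def_GrLC
import Mathlib.RingTheory.GradedAlgebra.Homogeneous.Submodule

/-!
Basics on graded modules for the `GrLC` statements: homogeneous maps commute with taking
components, kernels and ranges of homogeneous maps are homogeneous, retractions onto
*injective submodules, *essential extensions.
-/

set_option autoImplicit false
set_option linter.unusedSectionVars false
universe u

namespace Groth.Agent.Lib.H87GrMod

open DirectSum

variable {ι : Type} [AddCommGroup ι] [DecidableEq ι]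
variable {R : Type u} [CommRing R]
variable {M : Type u} [AddCommGroup M] [Module R M] (ℳ : ι → AddSubgroup M)
variable {N : Type u} [AddCommGroup N] [Module R N] (𝒩 : ι → AddSubgroup N)
variable {P : Type u} [AddCommGroup P] [Module R P] (𝒬 : ι → AddSubgroup P)

/-- A homogeneous map commutes with taking homogeneous components. -/
theorem decompose_map [Decomposition ℳ] [Decomposition 𝒩] {f : M →ₗ[R] N}
    (hf : GrLC.IsGrHom ℳ 𝒩 f) (m : M) (g : ι) :
    (decompose 𝒩 (f m) g : N) = f (decompose ℳ m g : M) := by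
  induction m using Decomposition.inductionOn ℳ with
  | zero => simp
  | @homogeneous i m =>
    have hfm : f (m : M) ∈ 𝒩 i := hf i m m.2
    by_cases hig : i = g
    · subst hig
      rw [decompose_of_mem_same 𝒩 hfm, decompose_of_mem_same ℳ m.2]
    · rw [decompose_of_mem_ne 𝒩 hfm hig, decompose_of_mem_ne ℳ m.2 hig, map_zero]
  | add m m' hm hm' =>
    rw [map_add, decompose_add, decompose_add, DirectSum.add_apply, DirectSum.add_apply,
      AddSubgroup.coe_add, AddSubgroup.coe_add, map_add, hm, hm']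

theorem isHomogeneous_ker [Decomposition ℳ] [Decomposition 𝒩] {f : M →ₗ[R] N}
    (hf : GrLC.IsGrHom ℳ 𝒩 f) : (LinearMap.ker f).IsHomogeneous ℳ := by
  intro g m hm
  rw [LinearMap.mem_ker] at hm ⊢
  rw [← decompose_map ℳ 𝒩 hf, hm, decompose_zero, DirectSum.zero_apply, ZeroMemClass.coe_zero]

theorem isHomogeneous_range [Decomposition ℳ] [Decomposition 𝒩] {f : M →ₗ[R] N}
    (hf : GrLC.IsGrHom ℳ 𝒩 f) : (LinearMap.range f).IsHomogeneous 𝒩 := by
  rintro g _ ⟨m, rfl⟩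
  rw [decompose_map ℳ 𝒩 hf]
  exact ⟨_, rfl⟩

theorem isGrHom_id : GrLC.IsGrHom ℳ ℳ (LinearMap.id : M →ₗ[R] M) := fun _ _ hm => hm

theorem isGrHom_comp {f : M →ₗ[R] N} {h : N →ₗ[R] P} (hf : GrLC.IsGrHom ℳ 𝒩 f)
    (hh : GrLC.IsGrHom 𝒩 𝒬 h) : GrLC.IsGrHom ℳ 𝒬 (h ∘ₗ f) :=
  fun g m hm => hh g _ (hf g m hm)

variable (𝒜 : ι → AddSubgroup R) [GradedRing 𝒜]

/-- The defining lifting property of a *injective module, for unbundled graded modules. -/
theorem IsStarInj.extend [Decomposition ℳ] [SetLike.GradedSMul 𝒜 ℳ]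
    [Decomposition 𝒩] [SetLike.GradedSMul 𝒜 𝒩] [Decomposition 𝒬] [SetLike.GradedSMul 𝒜 𝒬]
    (hP : GrLC.IsStarInj 𝒜 𝒬) {f : M →ₗ[R] N} (hf : GrLC.IsGrHom ℳ 𝒩 f)
    (hinj : Function.Injective f) {g : M →ₗ[R] P} (hg : GrLC.IsGrHom ℳ 𝒬 g) :
    ∃ h : N →ₗ[R] P, GrLC.IsGrHom 𝒩 𝒬 h ∧ h ∘ₗ f = g :=
  hP (GrLC.GMod.of 𝒜 M ℳ) (GrLC.GMod.of 𝒜 N 𝒩) f hf hinj g hg

/-- A homogeneous injection out of a *injective module has a homogeneous retraction. -/
theorem IsStarInj.exists_retraction [Decomposition ℳ] [SetLike.GradedSMul 𝒜 ℳ]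
    [Decomposition 𝒩] [SetLike.GradedSMul 𝒜 𝒩]
    (hM : GrLC.IsStarInj 𝒜 ℳ) {f : M →ₗ[R] N} (hf : GrLC.IsGrHom ℳ 𝒩 f)
    (hinj : Function.Injective f) :
    ∃ r : N →ₗ[R] M, GrLC.IsGrHom 𝒩 ℳ r ∧ r ∘ₗ f = LinearMap.id :=
  IsStarInj.extend ℳ 𝒩 ℳ 𝒜 hM hf hinj (isGrHom_id ℳ)

/-- A homogeneous map out of a *essential extension which is injective on the base is
injective. The source family need not be a decomposition. -/
theorem IsStarEss.injective_of_comp {M' : Type u} [AddCommGroup M'] [Module R M']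
    (ℳ' : ι → AddSubgroup M') [Decomposition 𝒩] [Decomposition 𝒬]
    {f : M' →ₗ[R] N} (hf : GrLC.IsStarEss ℳ' 𝒩 f) {h : N →ₗ[R] P}
    (hh : GrLC.IsGrHom 𝒩 𝒬 h) (hinj : Function.Injective (h ∘ₗ f)) :
    Function.Injective h := by
  rw [← LinearMap.ker_eq_bot]
  by_contra hne
  have h1 := hf.essential (LinearMap.ker h) (isHomogeneous_ker 𝒩 𝒬 hh) hne
  apply h1
  rw [eq_bot_iff]
  rintro y ⟨hy1, ⟨m, rfl⟩⟩
  have : (h ∘ₗ f) m = (h ∘ₗ f) 0 := by
    rw [map_zero]; exact hy1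
  rw [hinj this, map_zero]
  exact Submodule.zero_mem _

/-- Uniqueness of *injective envelopes. -/
theorem isStarInjHull_unique [Decomposition ℳ] [SetLike.GradedSMul 𝒜 ℳ]
    [Decomposition 𝒩] [SetLike.GradedSMul 𝒜 𝒩] [Decomposition 𝒬] [SetLike.GradedSMul 𝒜 𝒬]
    {f₁ : M →ₗ[R] N} {f₂ : M →ₗ[R] P}
    (h₁ : GrLC.IsStarInjHull 𝒜 ℳ 𝒩 f₁) (h₂ : GrLC.IsStarInjHull 𝒜 ℳ 𝒬 f₂) :
    ∃ β : N ≃ₗ[R] P, GrLC.IsGrHom 𝒩 𝒬 β.toLinearMap ∧ β.toLinearMap ∘ₗ f₁ = f₂ := by
  obtain ⟨β, hβ, hβf⟩ := IsStarInj.extend ℳ 𝒩 𝒬 𝒜 h₂.starInj h₁.grHom h₁.injective h₂.grHom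
  have hβinj : Function.Injective β :=
    IsStarEss.injective_of_comp 𝒩 𝒬 ℳ h₁.toIsStarEss hβ (by rw [hβf]; exact h₂.injective)
  obtain ⟨r, hr, hrβ⟩ := IsStarInj.exists_retraction 𝒩 𝒬 𝒜 h₁.starInj hβ hβinj
  have hrinj : Function.Injective r := by
    refine IsStarEss.injective_of_comp 𝒬 𝒩 ℳ h₂.toIsStarEss hr ?_
    have : r ∘ₗ f₂ = f₁ := by
      rw [← hβf, ← LinearMap.comp_assoc, hrβ, LinearMap.id_comp]
    rw [this]; exact h₁.injective
  have hβsurj : Function.Surjective β := by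
    intro y
    refine ⟨r y, hrinj ?_⟩
    exact LinearMap.congr_fun hrβ (r y)
  refine ⟨LinearEquiv.ofBijective β ⟨hβinj, hβsurj⟩, hβ, ?_⟩
  ext m
  exact LinearMap.congr_fun hβf m

/-- Components of `r • y` for a homogeneous element `y`. -/
theorem decompose_smul_of_mem_right [Decomposition ℳ] [SetLike.GradedSMul 𝒜 ℳ]
    {k : ι} {y : M} (hy : y ∈ ℳ k) (r : R) (h : ι) :
    (decompose ℳ (r • y) (h + k) : M) = (decompose 𝒜 r h : R) • y := by
  induction r using Decomposition.inductionOn 𝒜 with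
  | zero => simp
  | @homogeneous i r =>
    have hry : (r : R) • y ∈ ℳ (i + k) := by
      have := SetLike.GradedSMul.smul_mem (A := 𝒜) (B := ℳ) r.2 hy
      rwa [vadd_eq_add] at this
    by_cases hih : i = h
    · subst hih
      rw [decompose_of_mem_same ℳ hry, decompose_of_mem_same 𝒜 r.2]
    · have hne : i + k ≠ h + k := fun hh => hih (add_right_cancel hh)
      rw [decompose_of_mem_ne ℳ hry hne, decompose_of_mem_ne 𝒜 r.2 hih, zero_smul]
  | add r r' hr hr' =>
    rw [add_smul, decompose_add, decompose_add, DirectSum.add_apply, DirectSum.add_apply,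
      AddSubgroup.coe_add, AddSubgroup.coe_add, add_smul, hr, hr']

/-- Components of `r • x` for a homogeneous scalar `r`. -/
theorem decompose_smul_of_mem_left [Decomposition ℳ] [SetLike.GradedSMul 𝒜 ℳ]
    {g : ι} {r : R} (hr : r ∈ 𝒜 g) (x : M) (h : ι) :
    (decompose ℳ (r • x) (g + h) : M) = r • (decompose ℳ x h : M) := by
  induction x using Decomposition.inductionOn ℳ with
  | zero => simp
  | @homogeneous i x =>
    have hrx : r • (x : M) ∈ ℳ (g + i) := by
      have := SetLike.GradedSMul.smul_mem (A := 𝒜) (B := ℳ) hr x.2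
      rwa [vadd_eq_add] at this
    by_cases hih : i = h
    · subst hih
      rw [decompose_of_mem_same ℳ hrx, decompose_of_mem_same ℳ x.2]
    · have hne : g + i ≠ g + h := fun hh => hih (add_left_cancel hh)
      rw [decompose_of_mem_ne ℳ hrx hne, decompose_of_mem_ne ℳ x.2 hih, smul_zero]
  | add x x' hx hx' =>
    rw [smul_add, decompose_add, decompose_add, DirectSum.add_apply, DirectSum.add_apply,
      AddSubgroup.coe_add, AddSubgroup.coe_add, smul_add, hx, hx']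

/-- The submodule spanned by a homogeneous element is homogeneous. -/
theorem isHomogeneous_span_singleton [Decomposition ℳ] [SetLike.GradedSMul 𝒜 ℳ]
    {k : ι} {y : M} (hy : y ∈ ℳ k) : (R ∙ y).IsHomogeneous ℳ := by
  intro j z hz
  rw [Submodule.mem_span_singleton] at hz
  obtain ⟨r, rfl⟩ := hz
  have hj : j = (j - k) + k := by abel
  rw [hj, decompose_smul_of_mem_right ℳ 𝒜 hy]
  exact Submodule.smul_mem _ _ (Submodule.mem_span_singleton_self y)

/-- The kernel of multiplication by a homogeneous scalar is homogeneous. -/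
theorem isHomogeneous_ker_smul [Decomposition ℳ] [SetLike.GradedSMul 𝒜 ℳ]
    {g : ι} {r : R} (hr : r ∈ 𝒜 g) :
    (LinearMap.ker (LinearMap.lsmul R M r)).IsHomogeneous ℳ := by
  intro h x hx
  rw [LinearMap.mem_ker, LinearMap.lsmul_apply] at hx ⊢
  rw [← decompose_smul_of_mem_left ℳ 𝒜 hr, hx, decompose_zero, DirectSum.zero_apply,
    ZeroMemClass.coe_zero]

theorem one_mem_quotGr_zero (p : HomogeneousIdeal 𝒜) : (1 : R ⧸ p.toIdeal) ∈ GrLC.quotGr 𝒜 p 0 :=
  ⟨1, (SetLike.GradedOne.one_mem : (1 : R) ∈ 𝒜 0), rfl⟩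

theorem mk_mul_eq_smul (I : Ideal R) (r : R) (b : R ⧸ I) :
    Ideal.Quotient.mk I r * b = r • b := by
  obtain ⟨s, rfl⟩ := Ideal.Quotient.mk_surjective b
  rfl

end Groth.Agent.Lib.H87GrMod
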