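import Groth.Prelude.Def_GrLC
import Groth.Agent.Lib.H87GrMod
import Mathlib.Algebra.DirectSum.Ring
import Mathlib.Algebra.DirectSum.Decomposition
import Mathlib.RingTheory.GradedAlgebra.Basic
import Mathlib.Data.Finsupp.Basic
import Mathlib.Algebra.Module.Hom
import Mathlib.Algebra.Category.ModuleCat.EnoughInjectives
import Mathlib.Algebra.Category.ModuleCat.Injective

/-!
# The coinduced graded module and enough *injectives (helper74)

For a graded ring `R` (pieces `𝒜 : ι → AddSubgroup R`) and an `R`-module `N`, the graded module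
`Coind 𝒜 N = ⨁_g N` (carrier `ι →₀ N`, a homogeneous element of degree `i` acts coefficientwise
followed by translation by `i`), the value at `N` of the right adjoint of the functor forgetting
the grading: `csum` (counit), `adj` (adjunct), `isStarInj_coind` (coinduced of injective is
*injective), `exists_starInj_embedding` (enough *injectives in the graded category).
-/

set_option autoImplicit false
set_option linter.unusedSectionVars false
universe u

namespace Groth.Agent.Lib.H74Coind

open DirectSum GrLC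

variable {ι : Type} [AddCommGroup ι] [DecidableEq ι]
variable {R : Type u} [CommRing R] (𝒜 : ι → AddSubgroup R) [GradedRing 𝒜]
variable (N : Type u) [AddCommGroup N] [Module R N]

/-- Coefficientwise scalar action followed by translation by `i`. -/
noncomputable def act (i : ι) (r : R) : (ι →₀ N) →+ (ι →₀ N) :=
  (Finsupp.mapDomain.addMonoidHom (fun g => i + g)).comp
    (DistribSMul.toAddMonoidHom (ι →₀ N) r)

theorem act_single (i : ι) (r : R) (g : ι) (n : N) :
    act N i r (Finsupp.single g n) = Finsupp.single (i + g) (r • n) := by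
  show Finsupp.mapDomain (fun g => i + g) (r • Finsupp.single g n) = _
  rw [Finsupp.smul_single, Finsupp.mapDomain_single]

/-- The family of additive maps defining the action. -/
noncomputable def actFam (i : ι) : 𝒜 i →+ AddMonoid.End (ι →₀ N) where
  toFun r := act N i (r : R)
  map_zero' := by
    refine Finsupp.addHom_ext (fun g n => ?_)
    rw [ZeroMemClass.coe_zero, act_single, zero_smul, Finsupp.single_zero]
    rfl
  map_add' r s := by
    refine Finsupp.addHom_ext (fun g n => ?_)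
    show act N i ((r + s : 𝒜 i) : R) (Finsupp.single g n) =
      act N i (r : R) (Finsupp.single g n) + act N i (s : R) (Finsupp.single g n)
    rw [AddSubgroup.coe_add, act_single, act_single, act_single, add_smul, Finsupp.single_add]

theorem actFam_apply (i : ι) (r : 𝒜 i) (v : ι →₀ N) : actFam 𝒜 N i r v = act N i (r : R) v := rfl

theorem actFam_one :
    actFam 𝒜 N 0 (GradedMonoid.GOne.one (A := fun i => 𝒜 i)) = (1 : AddMonoid.End (ι →₀ N)) := by
  refine Finsupp.addHom_ext (fun g n => ?_)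
  show act N 0 ((1 : R)) (Finsupp.single g n) = Finsupp.single g n
  rw [act_single, one_smul, zero_add]

theorem actFam_mul {i j : ι} (a : 𝒜 i) (b : 𝒜 j) :
    actFam 𝒜 N (i + j) (GradedMonoid.GMul.mul (A := fun i => 𝒜 i) a b) =
      (actFam 𝒜 N i a * actFam 𝒜 N j b : AddMonoid.End (ι →₀ N)) := by
  refine Finsupp.addHom_ext (fun g n => ?_)
  show act N (i + j) ((a : R) * b) (Finsupp.single g n) =
    act N i (a : R) (act N j (b : R) (Finsupp.single g n))
  rw [act_single, act_single, act_single, mul_smul, add_assoc]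

/-- The action of `R` on `ι →₀ N` as a ring hom: a homogeneous element of degree `i` acts
coefficientwise followed by translation by `i`. -/
noncomputable def actHom : R →+* AddMonoid.End (ι →₀ N) :=
  (DirectSum.toSemiring (actFam 𝒜 N) (actFam_one 𝒜 N) (actFam_mul 𝒜 N)).comp
    (DirectSum.decomposeRingEquiv 𝒜).toRingHom

theorem actHom_of_mem {i : ι} {r : R} (hr : r ∈ 𝒜 i) (v : ι →₀ N) :
    actHom 𝒜 N r v = act N i r v := by
  unfold actHom
  rw [RingHom.comp_apply]
  have : (DirectSum.decomposeRingEquiv 𝒜).toRingHom r = DirectSum.of (fun i => 𝒜 i) i ⟨r, hr⟩ :=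
    DirectSum.decompose_of_mem 𝒜 hr
  rw [this, DirectSum.toSemiring_of, actFam_apply]

/-- The coinduced graded module `⨁_g N`, the value at `N` of the right adjoint of the
functor forgetting the grading. -/
def Coind (_𝒜 : ι → AddSubgroup R) (N : Type u) [AddCommGroup N] : Type u := ι →₀ N

noncomputable instance : AddCommGroup (Coind 𝒜 N) := inferInstanceAs (AddCommGroup (ι →₀ N))

noncomputable instance : Module R (Coind 𝒜 N) := Module.compHom (ι →₀ N) (actHom 𝒜 N)

/-- `n` placed in degree `g`. -/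
noncomputable def csingle (g : ι) : N →+ Coind 𝒜 N := Finsupp.singleAddHom g

/-- The coefficient in degree `g`. -/
noncomputable def ccoef (g : ι) : Coind 𝒜 N →+ N := Finsupp.applyAddHom g

theorem ccoef_csingle (g h : ι) (n : N) :
    ccoef 𝒜 N h (csingle 𝒜 N g n) = if g = h then n else 0 := by
  show (Finsupp.single g n) h = _
  rw [Finsupp.single_apply]

theorem smul_def (r : R) (v : Coind 𝒜 N) : r • v = actHom 𝒜 N r v := rfl

theorem smul_csingle {i : ι} {r : R} (hr : r ∈ 𝒜 i) (g : ι) (n : N) :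
    r • csingle 𝒜 N g n = csingle 𝒜 N (i + g) (r • n) := by
  rw [smul_def]
  exact (actHom_of_mem 𝒜 N hr _).trans (act_single N i r g n)

theorem coind_ext {v w : Coind 𝒜 N} (h : ∀ g, ccoef 𝒜 N g v = ccoef 𝒜 N g w) : v = w :=
  Finsupp.ext h

theorem addHom_ext {A : Type*} [AddZeroClass A] {f f' : Coind 𝒜 N →+ A}
    (h : ∀ g n, f (csingle 𝒜 N g n) = f' (csingle 𝒜 N g n)) : f = f' :=
  Finsupp.addHom_ext h

/-- The pieces of the coinduced module. -/
noncomputable def cgr : ι → AddSubgroup (Coind 𝒜 N) := fun g => (csingle 𝒜 N g).range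

theorem csingle_mem (g : ι) (n : N) : csingle 𝒜 N g n ∈ cgr 𝒜 N g := ⟨n, rfl⟩

/-- The decomposition map. -/
noncomputable def cdecomp : Coind 𝒜 N →+ ⨁ g, cgr 𝒜 N g :=
  Finsupp.liftAddHom (fun g =>
    (DirectSum.of (fun g => cgr 𝒜 N g) g).comp (csingle 𝒜 N g).rangeRestrict)

theorem cdecomp_csingle (g : ι) (n : N) :
    cdecomp 𝒜 N (csingle 𝒜 N g n) =
      DirectSum.of (fun g => cgr 𝒜 N g) g ⟨csingle 𝒜 N g n, csingle_mem 𝒜 N g n⟩ := by
  show Finsupp.liftAddHom _ (Finsupp.single g n) = _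
  rw [Finsupp.liftAddHom_apply_single]
  rfl

noncomputable instance : Decomposition (cgr 𝒜 N) :=
  Decomposition.ofAddHom (cgr 𝒜 N) (cdecomp 𝒜 N)
    (by
      refine addHom_ext 𝒜 N (fun g n => ?_)
      rw [AddMonoidHom.comp_apply, cdecomp_csingle, DirectSum.coeAddMonoidHom_of]
      rfl)
    (by
      refine DirectSum.addHom_ext (fun g x => ?_)
      obtain ⟨_, n, rfl⟩ := x
      rw [AddMonoidHom.comp_apply, DirectSum.coeAddMonoidHom_of]
      exact cdecomp_csingle 𝒜 N g n)

instance : SetLike.GradedSMul 𝒜 (cgr 𝒜 N) where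
  smul_mem := by
    rintro i g r _ hr ⟨n, rfl⟩
    rw [smul_csingle 𝒜 N hr]
    exact csingle_mem 𝒜 N _ _

/-- The sum of the coefficients, as an additive map. -/
noncomputable def csumAdd : Coind 𝒜 N →+ N := Finsupp.liftAddHom (fun _ => AddMonoidHom.id N)

theorem csumAdd_csingle (g : ι) (n : N) : csumAdd 𝒜 N (csingle 𝒜 N g n) = n := by
  show Finsupp.liftAddHom _ (Finsupp.single g n) = _
  rw [Finsupp.liftAddHom_apply_single]
  rfl

theorem csumAdd_smul (r : R) (v : Coind 𝒜 N) : csumAdd 𝒜 N (r • v) = r • csumAdd 𝒜 N v := by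
  induction r using Decomposition.inductionOn 𝒜 with
  | zero => rw [zero_smul, zero_smul, map_zero]
  | @homogeneous i r =>
    have h : (csumAdd 𝒜 N).comp (DistribSMul.toAddMonoidHom (Coind 𝒜 N) (r : R)) =
        (DistribSMul.toAddMonoidHom N (r : R)).comp (csumAdd 𝒜 N) := by
      refine addHom_ext 𝒜 N (fun g n => ?_)
      show csumAdd 𝒜 N ((r : R) • csingle 𝒜 N g n) = (r : R) • csumAdd 𝒜 N (csingle 𝒜 N g n)
      rw [smul_csingle 𝒜 N r.2, csumAdd_csingle, csumAdd_csingle]
    exact DFunLike.congr_fun h v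
  | add r r' hr hr' => rw [add_smul, add_smul, map_add, hr, hr']

/-- The sum of the coefficients: the counit of the adjunction. -/
noncomputable def csum : Coind 𝒜 N →ₗ[R] N where
  toFun := csumAdd 𝒜 N
  map_add' := map_add _
  map_smul' := csumAdd_smul 𝒜 N

theorem csum_csingle (g : ι) (n : N) : csum 𝒜 N (csingle 𝒜 N g n) = n := csumAdd_csingle 𝒜 N g n

section Adj

variable {B : Type u} [AddCommGroup B] [Module R B] (ℬ : ι → AddSubgroup B)
  [Decomposition ℬ] [SetLike.GradedSMul 𝒜 ℬ]

variable {N}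

/-- The adjunct of a linear map `B → N`, as an additive map. -/
noncomputable def adjAdd (φ : B →ₗ[R] N) : B →+ Coind 𝒜 N :=
  (DirectSum.toAddMonoid (fun k => (csingle 𝒜 N k).comp
    (φ.toAddMonoidHom.comp (ℬ k).subtype))).comp (decomposeAddEquiv ℬ).toAddMonoidHom

theorem adjAdd_of_mem (φ : B →ₗ[R] N) {k : ι} {b : B} (hb : b ∈ ℬ k) :
    adjAdd 𝒜 ℬ φ b = csingle 𝒜 N k (φ b) := by
  unfold adjAdd
  rw [AddMonoidHom.comp_apply]
  have : (decomposeAddEquiv ℬ).toAddMonoidHom b = DirectSum.of (fun k => ℬ k) k ⟨b, hb⟩ :=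
    DirectSum.decompose_of_mem ℬ hb
  rw [this, DirectSum.toAddMonoid_of]
  rfl

theorem adjAdd_smul (φ : B →ₗ[R] N) (r : R) (b : B) :
    adjAdd 𝒜 ℬ φ (r • b) = r • adjAdd 𝒜 ℬ φ b := by
  induction r using Decomposition.inductionOn 𝒜 with
  | zero => rw [zero_smul, zero_smul, map_zero]
  | @homogeneous i r =>
    induction b using Decomposition.inductionOn ℬ with
    | zero => rw [smul_zero, map_zero, smul_zero]
    | @homogeneous k b =>
      have hrb : (r : R) • (b : B) ∈ ℬ (i + k) := by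
        have := SetLike.GradedSMul.smul_mem (A := 𝒜) (B := ℬ) r.2 b.2
        rwa [vadd_eq_add] at this
      rw [adjAdd_of_mem 𝒜 ℬ φ hrb, adjAdd_of_mem 𝒜 ℬ φ b.2, smul_csingle 𝒜 N r.2, map_smul]
    | add b b' hb hb' => rw [smul_add, map_add, map_add, smul_add, hb, hb']
  | add r r' hr hr' => rw [add_smul, add_smul, map_add, hr, hr']

/-- The adjunct of a linear map `B → N`. -/
noncomputable def adj (φ : B →ₗ[R] N) : B →ₗ[R] Coind 𝒜 N where
  toFun := adjAdd 𝒜 ℬ φ
  map_add' := map_add _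
  map_smul' := adjAdd_smul 𝒜 ℬ φ

theorem adj_of_mem (φ : B →ₗ[R] N) {k : ι} {b : B} (hb : b ∈ ℬ k) :
    adj 𝒜 ℬ φ b = csingle 𝒜 N k (φ b) := adjAdd_of_mem 𝒜 ℬ φ hb

theorem adj_isGrHom (φ : B →ₗ[R] N) : IsGrHom ℬ (cgr 𝒜 N) (adj 𝒜 ℬ φ) := by
  intro k b hb
  rw [adj_of_mem 𝒜 ℬ φ hb]
  exact csingle_mem 𝒜 N k _

theorem csum_adj (φ : B →ₗ[R] N) (b : B) : csum 𝒜 N (adj 𝒜 ℬ φ b) = φ b := by
  induction b using Decomposition.inductionOn ℬ with
  | zero => rw [map_zero, map_zero, map_zero]
  | @homogeneous k b => rw [adj_of_mem 𝒜 ℬ φ b.2, csum_csingle]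
  | add b b' hb hb' => rw [map_add, map_add, map_add, hb, hb']

/-- A homogeneous map into the coinduced module is the adjunct of its composite with the
counit. -/
theorem adj_csum_comp {g : B →ₗ[R] Coind 𝒜 N} (hg : IsGrHom ℬ (cgr 𝒜 N) g) (b : B) :
    adj 𝒜 ℬ (csum 𝒜 N ∘ₗ g) b = g b := by
  induction b using Decomposition.inductionOn ℬ with
  | zero => rw [map_zero, map_zero]
  | @homogeneous k b =>
    rw [adj_of_mem 𝒜 ℬ _ b.2, LinearMap.comp_apply]
    obtain ⟨n, hn⟩ := hg k b b.2
    rw [← hn, csum_csingle]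
  | add b b' hb hb' => rw [map_add, map_add, hb, hb']

theorem adj_injective {φ : B →ₗ[R] N} (hφ : Function.Injective φ) :
    Function.Injective (adj 𝒜 ℬ φ) := by
  intro b b' h
  apply hφ
  rw [← csum_adj 𝒜 ℬ φ b, ← csum_adj 𝒜 ℬ φ b', h]

end Adj

/-- The coinduced module of an injective module is *injective. -/
theorem isStarInj_coind [Module.Injective R N] : IsStarInj 𝒜 (cgr 𝒜 N) := by
  intro A B f hf hfinj g hg
  obtain ⟨φ, hφ⟩ := Module.Injective.out f hfinj (csum 𝒜 N ∘ₗ g)
  refine ⟨adj 𝒜 B.gr φ, adj_isGrHom 𝒜 B.gr φ, ?_⟩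
  ext a
  rw [LinearMap.comp_apply, ← adj_csum_comp 𝒜 A.gr hg a]
  induction a using Decomposition.inductionOn A.gr with
  | zero => rw [map_zero, map_zero, map_zero]
  | @homogeneous k a =>
    rw [adj_of_mem 𝒜 B.gr φ (hf k a a.2), adj_of_mem 𝒜 A.gr _ a.2, hφ]
  | add a a' ha ha' => rw [map_add, map_add, map_add, ha, ha']

/-- Enough *injectives. -/
theorem exists_starInj_embedding {M : Type u} [AddCommGroup M] [Module R M]
    (ℳ : ι → AddSubgroup M) [Decomposition ℳ] [SetLike.GradedSMul 𝒜 ℳ] :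
    ∃ (X : GMod.{u} 𝒜) (f : M →ₗ[R] X.carrier), IsStarInj 𝒜 X.gr ∧ IsGrHom ℳ X.gr f ∧
      Function.Injective f := by
  obtain ⟨⟨J, hJ, e, he⟩⟩ :=
    (inferInstance : CategoryTheory.EnoughInjectives (ModuleCat.{u} R)).presentation
      (ModuleCat.of R M)
  have : Module.Injective R J := Module.injective_module_of_injective_object R J
  have heinj : Function.Injective e.hom := (ModuleCat.mono_iff_injective e).mp he
  refine ⟨GMod.of 𝒜 (Coind 𝒜 J) (cgr 𝒜 J), adj 𝒜 ℳ e.hom, isStarInj_coind 𝒜 J,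
    adj_isGrHom 𝒜 ℳ e.hom, adj_injective 𝒜 ℳ heinj⟩

end Groth.Agent.Lib.H74Coind
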