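import Groth.Agent.Lib.H87GrMod2

set_option autoImplicit false
set_option linter.unusedSectionVars false
universe u

namespace Groth.Agent.Lib.H87GrShift
open DirectSum Groth.Agent.Lib.H87GrMod Groth.Agent.Lib.H87GrMod2

variable {ι : Type} [AddCommGroup ι] [DecidableEq ι]
variable {R : Type u} [CommRing R]
variable {X : Type u} [AddCommGroup X] [Module R X] (𝒳 : ι → AddSubgroup X)

/-- The shifted family of pieces `X(d)_h = X_{h+d}`. -/
def shiftGr (d : ι) : ι → AddSubgroup X := fun h => 𝒳 (h + d)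

theorem mem_shiftGr {d h : ι} {x : X} : x ∈ shiftGr 𝒳 d h ↔ x ∈ 𝒳 (h + d) := Iff.rfl

theorem isInternal_shiftGr [Decomposition 𝒳] (d : ι) : DirectSum.IsInternal (shiftGr 𝒳 d) := by
  classical
  constructor
  · rw [injective_iff_map_eq_zero]
    intro v hv
    rw [DirectSum.coeAddMonoidHom_eq_dfinsuppSum, DFinsupp.sum] at hv
    apply DFinsupp.ext
    intro h
    by_cases hh : h ∈ v.support
    · have h1 : (decompose 𝒳 (∑ h' ∈ v.support, ((v h' : shiftGr 𝒳 d h') : X)) (h + d) : X)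
          = (v h : X) := by
        rw [decompose_sum, DFinsupp.finsetSum_apply, AddSubmonoidClass.coe_finsetSum,
          Finset.sum_eq_single h]
        · exact decompose_of_mem_same 𝒳 (v h).2
        · intro h' _ hne
          exact decompose_of_mem_ne 𝒳 (v h').2 (fun e => hne (add_right_cancel e))
        · intro hh'; exact absurd hh hh'
      rw [hv, decompose_zero, DirectSum.zero_apply, ZeroMemClass.coe_zero] at h1
      exact Subtype.ext h1.symm
    · rw [DFinsupp.notMem_support_iff] at hh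
      rw [hh]; rfl
  · intro x
    rw [← DirectSum.sum_support_decompose 𝒳 x]
    have hmem : ∀ k, ((decompose 𝒳 x k : 𝒳 k) : X)
        ∈ (DirectSum.coeAddMonoidHom (shiftGr 𝒳 d)).range := by
      intro k
      have hk : ((decompose 𝒳 x k : 𝒳 k) : X) ∈ shiftGr 𝒳 d (k - d) := by
        rw [mem_shiftGr, sub_add_cancel]
        exact (decompose 𝒳 x k).2
      exact ⟨DirectSum.of (fun i => shiftGr 𝒳 d i) (k - d) ⟨_, hk⟩,
        DirectSum.coeAddMonoidHom_of (shiftGr 𝒳 d) (k - d) _⟩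
    exact sum_mem (fun k _ => hmem k)

/-- The decomposition of the shifted family. -/
@[instance_reducible]
noncomputable def shiftDecomposition [Decomposition 𝒳] (d : ι) : Decomposition (shiftGr 𝒳 d) :=
  (isInternal_shiftGr 𝒳 d).chooseDecomposition

/-- Components for the shifted decomposition are the components for the original one. -/
theorem decompose_shiftGr [Decomposition 𝒳] (d : ι) (x : X) (h : ι) :
    letI := shiftDecomposition 𝒳 d
    (decompose (shiftGr 𝒳 d) x h : X) = (decompose 𝒳 x (h + d) : X) := by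
  let _ := shiftDecomposition 𝒳 d
  induction x using Decomposition.inductionOn 𝒳 with
  | zero => simp
  | @homogeneous k x =>
    have hk : (x : X) ∈ shiftGr 𝒳 d (k - d) := by
      rw [mem_shiftGr, sub_add_cancel]; exact x.2
    by_cases hkh : k - d = h
    · subst hkh
      rw [decompose_of_mem_same (shiftGr 𝒳 d) hk]
      have : (x : X) ∈ 𝒳 (k - d + d) := hk
      rw [decompose_of_mem_same 𝒳 this]
    · rw [decompose_of_mem_ne (shiftGr 𝒳 d) hk hkh]
      have hne : k ≠ h + d := fun e => hkh (by rw [e, add_sub_cancel_right])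
      rw [decompose_of_mem_ne 𝒳 x.2 hne]
  | add x x' hx hx' =>
    rw [decompose_add, decompose_add, DirectSum.add_apply, DirectSum.add_apply,
      AddSubgroup.coe_add, AddSubgroup.coe_add, hx, hx']

theorem isHomogeneous_shiftGr_iff [Decomposition 𝒳] (d : ι) (P : Submodule R X) :
    letI := shiftDecomposition 𝒳 d
    P.IsHomogeneous (shiftGr 𝒳 d) ↔ P.IsHomogeneous 𝒳 := by
  let _ := shiftDecomposition 𝒳 d
  constructor
  · intro hP k x hx
    have := hP (k - d) hx
    rwa [decompose_shiftGr, sub_add_cancel] at this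
  · intro hP h x hx
    rw [decompose_shiftGr]
    exact hP (h + d) hx

variable (𝒜 : ι → AddSubgroup R) [GradedRing 𝒜]

theorem gradedSMul_shiftGr [SetLike.GradedSMul 𝒜 𝒳] (d : ι) :
    SetLike.GradedSMul 𝒜 (shiftGr 𝒳 d) where
  smul_mem := by
    intro i h r x hr hx
    have := SetLike.GradedSMul.smul_mem (A := 𝒜) (B := 𝒳) hr hx
    rw [vadd_eq_add] at this ⊢
    rw [mem_shiftGr, add_assoc]
    exact this

/-- The shifted graded module, bundled. -/
noncomputable def shiftGMod [Decomposition 𝒳] [SetLike.GradedSMul 𝒜 𝒳] (d : ι) :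
    GrLC.GMod.{u} 𝒜 :=
  letI := shiftDecomposition 𝒳 d
  letI := gradedSMul_shiftGr 𝒳 𝒜 d
  GrLC.GMod.of 𝒜 X (shiftGr 𝒳 d)

variable {M : Type u} [AddCommGroup M] [Module R M] (ℳ : ι → AddSubgroup M)
variable {N : Type u} [AddCommGroup N] [Module R N] (𝒩 : ι → AddSubgroup N)
variable {P : Type u} [AddCommGroup P] [Module R P] (𝒬 : ι → AddSubgroup P)

/-- A map homogeneous of degree `d` shifts components by `d`. -/
theorem decompose_map_deg [Decomposition ℳ] [Decomposition 𝒩] {f : M →ₗ[R] N} {d : ι}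
    (hf : GrLC.IsGrHomDeg ℳ 𝒩 f d) (m : M) (g : ι) :
    (decompose 𝒩 (f m) (g + d) : N) = f (decompose ℳ m g : M) := by
  induction m using Decomposition.inductionOn ℳ with
  | zero => simp
  | @homogeneous i m =>
    have hfm : f (m : M) ∈ 𝒩 (i + d) := hf i m m.2
    by_cases hig : i = g
    · subst hig
      rw [decompose_of_mem_same 𝒩 hfm, decompose_of_mem_same ℳ m.2]
    · have hne : i + d ≠ g + d := fun e => hig (add_right_cancel e)
      rw [decompose_of_mem_ne 𝒩 hfm hne, decompose_of_mem_ne ℳ m.2 hig, map_zero]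
  | add m m' hm hm' =>
    rw [map_add, decompose_add, decompose_add, DirectSum.add_apply, DirectSum.add_apply,
      AddSubgroup.coe_add, AddSubgroup.coe_add, map_add, hm, hm']

theorem isHomogeneous_ker_deg [Decomposition ℳ] [Decomposition 𝒩] {f : M →ₗ[R] N} {d : ι}
    (hf : GrLC.IsGrHomDeg ℳ 𝒩 f d) : (LinearMap.ker f).IsHomogeneous ℳ := by
  intro g m hm
  rw [LinearMap.mem_ker] at hm ⊢
  rw [← decompose_map_deg ℳ 𝒩 hf, hm, decompose_zero, DirectSum.zero_apply,
    ZeroMemClass.coe_zero]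

theorem isHomogeneous_range_deg [Decomposition ℳ] [Decomposition 𝒩] {f : M →ₗ[R] N} {d : ι}
    (hf : GrLC.IsGrHomDeg ℳ 𝒩 f d) : (LinearMap.range f).IsHomogeneous 𝒩 := by
  rintro g _ ⟨m, rfl⟩
  have hg : g = (g - d) + d := by abel
  rw [hg, decompose_map_deg ℳ 𝒩 hf]
  exact ⟨_, rfl⟩

theorem isGrHomDeg_lsmul [SetLike.GradedSMul 𝒜 ℳ] {g : ι} {r : R} (hr : r ∈ 𝒜 g) :
    GrLC.IsGrHomDeg ℳ ℳ (LinearMap.lsmul R M r) g := by
  intro h m hm
  have := SetLike.GradedSMul.smul_mem (A := 𝒜) (B := ℳ) hr hm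
  rw [vadd_eq_add, add_comm] at this
  exact this

/-- Lifting along an injection homogeneous of degree `d` into a *injective module. -/
theorem IsStarInj.extend_deg [Decomposition ℳ] [SetLike.GradedSMul 𝒜 ℳ]
    [Decomposition 𝒩] [SetLike.GradedSMul 𝒜 𝒩] [Decomposition 𝒬] [SetLike.GradedSMul 𝒜 𝒬]
    (hP : GrLC.IsStarInj 𝒜 𝒬) {f : M →ₗ[R] N} {d : ι} (hf : GrLC.IsGrHomDeg ℳ 𝒩 f d)
    (hinj : Function.Injective f) {g : M →ₗ[R] P} (hg : GrLC.IsGrHom ℳ 𝒬 g) :
    ∃ h : N →ₗ[R] P, GrLC.IsGrHomDeg 𝒩 𝒬 h (-d) ∧ h ∘ₗ f = g := by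
  let _ := shiftDecomposition 𝒩 d
  let _ := gradedSMul_shiftGr 𝒩 𝒜 d
  have hf' : GrLC.IsGrHom ℳ (shiftGr 𝒩 d) f := hf
  obtain ⟨h, hh, hhf⟩ := hP (GrLC.GMod.of 𝒜 M ℳ) (GrLC.GMod.of 𝒜 N (shiftGr 𝒩 d)) f hf' hinj g hg
  refine ⟨h, ?_, hhf⟩
  intro j y hy
  have hy' : y ∈ shiftGr 𝒩 d (j + -d) := by
    rw [mem_shiftGr, neg_add_cancel_right]; exact hy
  exact hh (j + -d) y hy'

end Groth.Agent.Lib.H87GrShift
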