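import Groth.Agent.Lib.H74Matlis3
import Groth.Agent.S13216
import Groth.Agent.Lib.H74GrFin

/-! Graded Matlis duality, part 4: decomposition of `Hom_R(C, E)` into homogeneous maps for
finitely generated `C`, and the canonical pairing for `GrLC.IsStarCanonical`. -/

set_option autoImplicit false
set_option linter.unusedSectionVars false
universe u

namespace Groth.Agent.Lib.H74Matlis

open DirectSum GrLC Groth.Agent.Lib.H87GrMod Groth.Agent.Lib.H87GrMod2 Groth.Agent.Lib.H74GrArt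

section HomDecomp

variable {ι : Type} [AddCommGroup ι] [DecidableEq ι]
variable {R : Type u} [CommRing R] (𝒜 : ι → AddSubgroup R) [GradedRing 𝒜]
variable {X : Type u} [AddCommGroup X] [Module R X] (𝒳 : ι → AddSubgroup X)
  [Decomposition 𝒳] [SetLike.GradedSMul 𝒜 𝒳]
variable {C : Type u} [AddCommGroup C] [Module R C] (𝒞 : ι → AddSubgroup C)
  [Decomposition 𝒞] [SetLike.GradedSMul 𝒜 𝒞]

open Groth.Agent.S13216 in
/-- A linear map out of a finitely generated graded module is a finite sum of homogeneous maps. -/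
theorem exists_finset_sum_hcomp [Module.Finite R C] (f : C →ₗ[R] X) :
    ∃ D : Finset ι, f = ∑ d ∈ D, hcomp 𝒜 𝒳 𝒞 f d := by
  classical
  have hT : (⊤ : Submodule R C).IsHomogeneous 𝒞 := fun _ _ _ => Submodule.mem_top
  obtain ⟨S, hShom, hSspan⟩ := exists_homogeneous_generators 𝒞 hT
    (Module.finite_def.mp inferInstance)
  choose! dg hdg using hShom
  let D : Finset ι := S.biUnion (fun s => (decompose 𝒳 (f s)).support.image (fun c => c - dg s))
  refine ⟨D, ?_⟩
  apply LinearMap.ext_on (s := (S : Set C)) hSspan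
  intro s hs
  have hs' : s ∈ S := hs
  rw [LinearMap.sum_apply]
  have h0 : ∀ d ∈ D, hcomp 𝒜 𝒳 𝒞 f d s = (decompose 𝒳 (f s) (dg s + d) : X) := fun d _ =>
    hcomp_of_mem 𝒜 𝒳 𝒞 f d (hdg s hs')
  rw [Finset.sum_congr rfl h0]
  have h1 : ∑ d ∈ D, (decompose 𝒳 (f s) (dg s + d) : X) =
      ∑ c ∈ D.image (fun d => dg s + d), (decompose 𝒳 (f s) c : X) :=
    (Finset.sum_image (f := fun c => (decompose 𝒳 (f s) c : X)) (g := fun d => dg s + d)
      (fun a _ b _ h => add_left_cancel h)).symm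
  rw [h1]
  have hsub : (decompose 𝒳 (f s)).support ⊆ D.image (fun d => dg s + d) := by
    intro c hc
    refine Finset.mem_image.mpr ⟨c - dg s, ?_, by abel⟩
    exact Finset.mem_biUnion.mpr ⟨s, hs', Finset.mem_image.mpr ⟨c, hc, rfl⟩⟩
  conv_lhs => rw [← DirectSum.sum_support_decompose 𝒳 (f s)]
  refine Finset.sum_subset hsub ?_
  intro c _ hc
  rw [DFinsupp.notMem_support_iff] at hc
  rw [hc]
  rfl

end HomDecomp

section Canonical

variable {R : Type u} [CommRing R] (𝒜 : ℤ → AddSubgroup R) [GradedRing 𝒜]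
variable {E' : Type u} [AddCommGroup E'] [Module R E'] (𝓔 : ℤ → AddSubgroup E')
  [Decomposition 𝓔] [SetLike.GradedSMul 𝒜 𝓔]
variable {C : Type u} [AddCommGroup C] [Module R C] (𝒞 : ℤ → AddSubgroup C)
  [Decomposition 𝒞] [SetLike.GradedSMul 𝒜 𝒞]
variable (m : HomogeneousIdeal 𝒜) (n : ℕ) (I : StarInjRes 𝒜 𝒜)
  (φ : (C →ₗ[R] E') ≃ₗ[R] I.H m n)
  (hφ : IsGrHom (fun d => (homDeg 𝒜 𝒞 𝓔 d).toAddSubgroup) (I.Hgr m n) φ.toLinearMap)

open Groth.Agent.S13216 in
include hφ in
/-- The inverse of the canonical isomorphism is homogeneous too. -/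
theorem symm_isGrHomDeg [Module.Finite R C] {d : ℤ} {h : I.H m n} (hh : h ∈ I.Hgr m n d) :
    IsGrHomDeg 𝒞 𝓔 (φ.symm h) d := by
  classical
  let _ : Decomposition (I.Hgr m n) := decompositionHgr 𝒜 𝒜 m I n
  set f := φ.symm h with hf
  obtain ⟨D, hD⟩ := exists_finset_sum_hcomp 𝒜 𝓔 𝒞 f
  have hmem : ∀ d', φ (hcomp 𝒜 𝓔 𝒞 f d') ∈ I.Hgr m n d' := fun d' =>
    hφ d' _ (hcomp_deg 𝒜 𝓔 𝒞 f d')
  have hsum : h = ∑ d' ∈ D, φ (hcomp 𝒜 𝓔 𝒞 f d') := by
    rw [← map_sum, ← hD, hf, LinearEquiv.apply_symm_apply]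
  have hzero : ∀ d' ∈ D, d' ≠ d → hcomp 𝒜 𝓔 𝒞 f d' = 0 := by
    intro d' hd' hne
    have h1 : (decompose (I.Hgr m n) h d' : I.H m n) = φ (hcomp 𝒜 𝓔 𝒞 f d') := by
      conv_lhs => rw [hsum]
      rw [decompose_sum, DFinsupp.finsetSum_apply, AddSubmonoidClass.coe_finsetSum,
        Finset.sum_eq_single d']
      · exact decompose_of_mem_same (I.Hgr m n) (hmem d')
      · intro d'' _ hne'
        exact decompose_of_mem_ne (I.Hgr m n) (hmem d'') hne'
      · intro h'; exact absurd hd' h'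
    have h2 : (decompose (I.Hgr m n) h d' : I.H m n) = 0 :=
      decompose_of_mem_ne (I.Hgr m n) hh (Ne.symm hne)
    rw [h1] at h2
    exact φ.injective (by rw [h2, map_zero])
  have hfd : f = if d ∈ D then hcomp 𝒜 𝓔 𝒞 f d else 0 := by
    conv_lhs => rw [hD]
    split_ifs with hdD
    · exact Finset.sum_eq_single_of_mem d hdD (fun d' hd' hne => hzero d' hd' hne)
    · exact Finset.sum_eq_zero (fun d' hd' => hzero d' hd' (fun h' => hdD (h' ▸ hd')))
  rw [hfd]
  split_ifs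
  · exact hcomp_deg 𝒜 𝓔 𝒞 f d
  · intro g c _
    exact zero_mem _

end Canonical

end Groth.Agent.Lib.H74Matlis
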