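import Groth.Agent.Lib.H29QuotLift
import Groth.Agent.Lib.H29Matlis
import Groth.Agent.Lib.H29MatlisEnd

/-!
Uniqueness of modules with isomorphic Matlis duals: finite modules `K`, `K'` over a Noetherian local
ring with `Hom(K, E) ≅ Hom(K', E)` (`E` an injective hull of the residue field) are isomorphic.
-/

set_option autoImplicit false
universe u

namespace Groth.Agent.Lib.H29CanonUniq

open IsLocalRing

variable {R : Type u} [CommRing R] [IsNoetherianRing R] [IsLocalRing R]

/-- `M/m^n M` has finite length. -/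
theorem isFiniteLength_quot_pow_smul (M : Type u) [AddCommGroup M] [Module R M]
    [Module.Finite R M] (n : ℕ) :
    IsFiniteLength R (M ⧸ (maximalIdeal R ^ n) • (⊤ : Submodule R M)) := by
  rw [isFiniteLength_iff_isNoetherian_isArtinian]
  refine ⟨inferInstance, ?_⟩
  rw [Groth.Agent.S0315.result R (M ⧸ (maximalIdeal R ^ n) • (⊤ : Submodule R M))]
  constructor
  · intro x
    refine ⟨n, fun a ha => ?_⟩
    obtain ⟨y, rfl⟩ := Submodule.Quotient.mk_surjective _ x
    rw [← Submodule.Quotient.mk_smul, Submodule.Quotient.mk_eq_zero]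
    exact Submodule.smul_mem_smul ha Submodule.mem_top
  · have : Module.Finite R (LocCoh.torsionBy (maximalIdeal R)
        (M ⧸ (maximalIdeal R ^ n) • (⊤ : Submodule R M))) := inferInstance
    exact Module.Finite.of_restrictScalars_finite R (R ⧸ maximalIdeal R) _

section dual

variable {E : Type u} [AddCommGroup E] [Module R E]

/-- `Hom(M/IM, E) ≃ Hom(M, E)[I]`. -/
noncomputable def dualQuotEquiv (I : Ideal R) (M : Type u) [AddCommGroup M] [Module R M] :
    ((M ⧸ I • (⊤ : Submodule R M)) →ₗ[R] E) ≃ₗ[R]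
      Submodule.torsionBySet R (M →ₗ[R] E) (I : Set R) :=
  LinearEquiv.ofBijective
    ((LinearMap.lcomp R E (I • (⊤ : Submodule R M)).mkQ).codRestrict _ (by
      intro φ
      rw [Submodule.mem_torsionBySet_iff]
      rintro ⟨a, ha⟩
      ext x
      change a • φ (Submodule.Quotient.mk x) = 0
      rw [← map_smul, ← Submodule.Quotient.mk_smul,
        (Submodule.Quotient.mk_eq_zero _).mpr (Submodule.smul_mem_smul ha Submodule.mem_top),
        map_zero]))
    (by
      constructor
      · intro φ₁ φ₂ h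
        have h' := congrArg Subtype.val h
        simp only [LinearMap.codRestrict_apply] at h'
        ext x
        exact LinearMap.congr_fun h' x
      · rintro ⟨ψ, hψ⟩
        rw [Submodule.mem_torsionBySet_iff] at hψ
        have hle : I • (⊤ : Submodule R M) ≤ LinearMap.ker ψ := by
          rw [Submodule.smul_le]
          intro a ha x _
          rw [LinearMap.mem_ker, map_smul]
          exact LinearMap.congr_fun (hψ ⟨a, ha⟩) x
        refine ⟨(I • (⊤ : Submodule R M)).liftQ ψ hle, ?_⟩
        apply Subtype.ext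
        ext x
        rfl)

/-- A linear equivalence restricts to the `s`-torsion submodules. -/
noncomputable def torsionBySetEquiv {N N' : Type u} [AddCommGroup N] [Module R N]
    [AddCommGroup N'] [Module R N'] (e : N ≃ₗ[R] N') (s : Set R) :
    Submodule.torsionBySet R N s ≃ₗ[R] Submodule.torsionBySet R N' s :=
  LinearEquiv.ofSubmodules e _ _ (by
    ext y
    simp only [Submodule.mem_map, Submodule.mem_torsionBySet_iff]
    constructor
    · rintro ⟨x, hx, rfl⟩ a
      rw [← map_smul, hx a, map_zero]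
    · intro hy
      refine ⟨e.symm y, fun a => ?_, e.apply_symm_apply y⟩
      rw [← map_smul, hy a, map_zero])

/-- Truncations of modules with isomorphic duals have isomorphic duals. -/
noncomputable def dualQuotCongr (I : Ideal R) {K K' : Type u} [AddCommGroup K] [Module R K]
    [AddCommGroup K'] [Module R K'] (ψ : (K →ₗ[R] E) ≃ₗ[R] (K' →ₗ[R] E)) :
    ((K ⧸ I • (⊤ : Submodule R K)) →ₗ[R] E) ≃ₗ[R] ((K' ⧸ I • (⊤ : Submodule R K')) →ₗ[R] E) :=
  (dualQuotEquiv I K).trans ((torsionBySetEquiv ψ _).trans (dualQuotEquiv I K').symm)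

/-- Finite length modules with isomorphic Matlis duals are isomorphic. -/
theorem nonempty_equiv_of_dual_equiv_of_isFiniteLength
    (f : ResidueField R →ₗ[R] E) (hf : _root_.InjHull.IsInjectiveHull f)
    (X Y : Type u) [AddCommGroup X] [Module R X] [AddCommGroup Y] [Module R Y]
    (hX : IsFiniteLength R X) (hY : IsFiniteLength R Y)
    (e : (X →ₗ[R] E) ≃ₗ[R] (Y →ₗ[R] E)) : Nonempty (X ≃ₗ[R] Y) := by
  let eX : X ≃ₗ[R] ((X →ₗ[R] E) →ₗ[R] E) := LinearEquiv.ofBijective LinearMap.applyₗ
    (Groth.Agent.Lib.H29Matlis.applyₗ_bijective_of_isFiniteLength f hf X hX)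
  let eY : Y ≃ₗ[R] ((Y →ₗ[R] E) →ₗ[R] E) := LinearEquiv.ofBijective LinearMap.applyₗ
    (Groth.Agent.Lib.H29Matlis.applyₗ_bijective_of_isFiniteLength f hf Y hY)
  exact ⟨eX.trans ((LinearEquiv.congrLeft E R e).trans eY.symm)⟩

/-- Finite modules with isomorphic Matlis duals are isomorphic. -/
theorem nonempty_equiv_of_dual_equiv
    (f : ResidueField R →ₗ[R] E) (hf : _root_.InjHull.IsInjectiveHull f)
    (K K' : Type u) [AddCommGroup K] [Module R K] [AddCommGroup K'] [Module R K']
    [Module.Finite R K] [Module.Finite R K']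
    (ψ : (K →ₗ[R] E) ≃ₗ[R] (K' →ₗ[R] E)) : Nonempty (K ≃ₗ[R] K') := by
  apply Groth.Agent.Lib.H29QuotLift.nonempty_equiv_of_quot_equiv
  intro n
  exact nonempty_equiv_of_dual_equiv_of_isFiniteLength f hf _ _
    (isFiniteLength_quot_pow_smul K n) (isFiniteLength_quot_pow_smul K' n)
    (dualQuotCongr (maximalIdeal R ^ n) ψ)

end dual

end Groth.Agent.Lib.H29CanonUniq
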