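import Groth.Agent.Lib.CanonEndGlobal
import Groth.Agent.Lib.H74Matlis4
import Groth.Agent.S7691
import Groth.Agent.S7719
import Groth.Agent.S13222

/-! helper12: uniqueness up to shift of pointwise canonical graded modules over a CM *local
ring (general grading group): `exists_shift_equiv` (= S13237).

Reusable: `le_of_isStarLocal` (proper homogeneous ideals lie in the *maximal ideal, Noetherian
`R`, any grading group), `isPrime_of_isStarLocal`, `mem_of_smul_mem` (`s • y ∈ P`, `y ∉ P`
homogeneous, `P` homogeneous submodule ⇒ `s ∈ m`), `injective_of_localized`,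
`surjective_of_localized` (a homogeneous map of graded modules that is injective/surjective after
localizing at the *maximal ideal is so). -/

set_option autoImplicit false
set_option linter.unusedSectionVars false
universe u

namespace Groth.Agent.Lib.CanonShift

open DirectSum GrLC Groth.Agent.Lib.H87GrMod Groth.Agent.Lib.H87GrMod2 Groth.Agent.Lib.H87GrShift

section StarLocal

variable {ι : Type} [AddCommGroup ι] [DecidableEq ι]
variable {R : Type u} [CommRing R] (𝒜 : ι → AddSubgroup R) [GradedRing 𝒜]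

/-- In a Noetherian *local ring every proper homogeneous ideal lies in the *maximal ideal. -/
theorem le_of_isStarLocal [IsNoetherianRing R] {m : HomogeneousIdeal 𝒜} (hm : IsStarLocal 𝒜 m)
    (I : HomogeneousIdeal 𝒜) (hI : I ≠ ⊤) : I ≤ m := by
  have hwf : WellFoundedGT (HomogeneousIdeal 𝒜) := by
    have hmono : StrictMono (fun J : HomogeneousIdeal 𝒜 => J.toIdeal) := by
      intro J K hJK
      refine lt_of_le_of_ne hJK.le (fun h => hJK.ne (HomogeneousIdeal.toIdeal_injective h))
    haveI : WellFoundedGT (Ideal R) := by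
      rw [← isNoetherian_iff', ← isNoetherianRing_iff]
      infer_instance
    exact hmono.wellFoundedGT
  let S : Set (HomogeneousIdeal 𝒜) := {J | I ≤ J ∧ J ≠ ⊤}
  have hS : S.Nonempty := ⟨I, le_rfl, hI⟩
  obtain ⟨J, ⟨hIJ, hJ⟩, hmax⟩ := hwf.wf.has_min S hS
  have hcoatom : IsCoatom J := by
    refine ⟨hJ, fun K hJK => ?_⟩
    by_contra hK
    exact hmax K ⟨hIJ.trans hJK.le, hK⟩ hJK
  rw [← hm.2 J hcoatom]
  exact hIJ

/-- The *maximal ideal is prime on homogeneous elements. -/
theorem homogeneous_mem_or_mem {m : HomogeneousIdeal 𝒜} (hm : IsStarLocal 𝒜 m) {x y : R}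
    (hx : SetLike.IsHomogeneousElem 𝒜 x) (hy : SetLike.IsHomogeneousElem 𝒜 y)
    (hxy : x * y ∈ m.toIdeal) : x ∈ m.toIdeal ∨ y ∈ m.toIdeal := by
  by_contra hcon
  push Not at hcon
  obtain ⟨hxm, hym⟩ := hcon
  have hspan : ∀ z : R, SetLike.IsHomogeneousElem 𝒜 z → z ∉ m.toIdeal →
      m.toIdeal ⊔ Ideal.span {z} = ⊤ := by
    intro z hz hzm
    let J : HomogeneousIdeal 𝒜 := m ⊔ ⟨Ideal.span {z}, Ideal.homogeneous_span 𝒜 _ (by
      rintro w hw
      rw [Set.mem_singleton_iff] at hw
      rw [hw]; exact hz)⟩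
    have hlt : m < J := by
      refine lt_of_le_of_ne le_sup_left ?_
      intro h
      apply hzm
      have : z ∈ J.toIdeal := by
        show z ∈ (m.toIdeal ⊔ Ideal.span {z})
        exact Ideal.mem_sup_right (Ideal.subset_span rfl)
      rw [← h] at this
      exact this
    have := hm.1.2 J hlt
    have h2 : J.toIdeal = ⊤ := by rw [this]; rfl
    exact h2
  have h1 := hspan x hx hxm
  have h2 := hspan y hy hym
  have hone : (1 : R) ∈ m.toIdeal ⊔ Ideal.span {x} := by rw [h1]; trivial
  have hone' : (1 : R) ∈ m.toIdeal ⊔ Ideal.span {y} := by rw [h2]; trivial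
  rw [Submodule.mem_sup] at hone hone'
  obtain ⟨a, ha, b, hb, hab⟩ := hone
  obtain ⟨c, hc, d, hd, hcd⟩ := hone'
  rw [Ideal.mem_span_singleton'] at hb hd
  obtain ⟨r, rfl⟩ := hb
  obtain ⟨s, rfl⟩ := hd
  have : (1 : R) ∈ m.toIdeal := by
    have e : (1 : R) = a * (c + s * y) + (r * x) * c + (r * s) * (x * y) := by
      calc (1 : R) = (a + r * x) * (c + s * y) := by rw [hab, hcd, one_mul]
        _ = _ := by ring
    rw [e]
    refine add_mem (add_mem (Ideal.mul_mem_right _ _ ha) (Ideal.mul_mem_left _ _ hc))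
      (Ideal.mul_mem_left _ _ hxy)
  exact hm.1.1 (HomogeneousIdeal.toIdeal_injective ((Ideal.eq_top_iff_one _).2 this))

end StarLocal

section Prime

theorem isPrime_of_isStarLocal_ordered {ι : Type} [AddCommGroup ι] [LinearOrder ι]
    [IsOrderedCancelAddMonoid ι] {R : Type u} [CommRing R] (𝒜 : ι → AddSubgroup R) [GradedRing 𝒜]
    {m : HomogeneousIdeal 𝒜} (hm : IsStarLocal 𝒜 m) : m.toIdeal.IsPrime := by
  have hne : m.toIdeal ≠ ⊤ := fun h => hm.1.1 (HomogeneousIdeal.toIdeal_injective h)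
  exact m.isHomogeneous.isPrime_of_homogeneous_mem_or_mem hne
    (fun hx hy hxy => homogeneous_mem_or_mem 𝒜 hm hx hy hxy)

/-- The *maximal ideal of a *local ring graded by a finitely generated free group is prime. -/
theorem isPrime_of_isStarLocal {ι : Type} [AddCommGroup ι] [inst : DecidableEq ι]
    [Module.Free ℤ ι] [Module.Finite ℤ ι] {R : Type u} [CommRing R] (𝒜 : ι → AddSubgroup R)
    [GradedRing 𝒜] {m : HomogeneousIdeal 𝒜} (hm : IsStarLocal 𝒜 m) : m.toIdeal.IsPrime := by
  obtain ⟨lo, hlo⟩ := Groth.Agent.S7719.exists_order ι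
  obtain rfl : inst = lo.toDecidableEq := Subsingleton.elim _ _
  exact isPrime_of_isStarLocal_ordered 𝒜 hm

end Prime

section Graded

variable {ι : Type} [AddCommGroup ι] [DecidableEq ι]
variable {R : Type u} [CommRing R] [IsNoetherianRing R] (𝒜 : ι → AddSubgroup R) [GradedRing 𝒜]
variable {M : Type u} [AddCommGroup M] [Module R M] (ℳ : ι → AddSubgroup M) [Decomposition ℳ]
  [SetLike.GradedSMul 𝒜 ℳ]
variable {N : Type u} [AddCommGroup N] [Module R N] (𝒩 : ι → AddSubgroup N) [Decomposition 𝒩]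
  [SetLike.GradedSMul 𝒜 𝒩]

/-- If a multiple `s • y` of a homogeneous element `y ∉ P` lies in the homogeneous submodule `P`,
then `s` lies in the *maximal ideal. -/
theorem mem_of_smul_mem {m : HomogeneousIdeal 𝒜} (hm : IsStarLocal 𝒜 m) {P : Submodule R N}
    (hP : P.IsHomogeneous 𝒩) {k : ι} {y : N} (hy : y ∈ 𝒩 k) (hyP : y ∉ P) {s : R}
    (hs : s • y ∈ P) : s ∈ m.toIdeal := by
  let J : Ideal R := P.comap (LinearMap.toSpanSingleton R N y)
  have hJmem : ∀ r, r ∈ J ↔ r • y ∈ P := fun r => Iff.rfl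
  have hJ : J.IsHomogeneous 𝒜 := by
    intro i r hr
    rw [hJmem] at hr ⊢
    rw [← decompose_smul_of_mem_right 𝒩 𝒜 hy r i]
    exact hP (i + k) hr
  have hJtop : (⟨J, hJ⟩ : HomogeneousIdeal 𝒜) ≠ ⊤ := by
    intro h
    apply hyP
    have h1 : (1 : R) ∈ J := by
      have : J = ⊤ := congrArg HomogeneousIdeal.toIdeal h
      rw [this]; trivial
    rw [hJmem, one_smul] at h1
    exact h1
  exact le_of_isStarLocal 𝒜 hm ⟨J, hJ⟩ hJtop ((hJmem s).2 hs)

variable {ℳ 𝒩}

theorem exists_component_not_mem {P : Submodule R N} {y : N} (hy : y ∉ P) :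
    ∃ k, (decompose 𝒩 y k : N) ∉ P := by
  classical
  by_contra hcon
  push Not at hcon
  apply hy
  rw [← DirectSum.sum_support_decompose 𝒩 y]
  exact Submodule.sum_mem _ fun k _ => hcon k

/-- A homogeneous map which is injective after localizing at the *maximal ideal is injective. -/
theorem injective_of_localized {m : HomogeneousIdeal 𝒜} (hm : IsStarLocal 𝒜 m)
    [m.toIdeal.IsPrime] {φ : M →ₗ[R] N} {d : ι} (hφ : IsGrHomDeg ℳ 𝒩 φ d)
    (h : Function.Injective (LocalizedModule.map m.toIdeal.primeCompl φ)) :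
    Function.Injective φ := by
  rw [injective_iff_map_eq_zero]
  intro x hx
  by_contra hx0
  have hker := isHomogeneous_ker_deg ℳ 𝒩 hφ
  have hxbot : x ∉ (⊥ : Submodule R M) := hx0
  obtain ⟨k, hk⟩ := exists_component_not_mem (𝒩 := ℳ) hxbot
  have hyker : (decompose ℳ x k : M) ∈ LinearMap.ker φ := hker k hx
  have h0 : LocalizedModule.mk (decompose ℳ x k : M) (1 : m.toIdeal.primeCompl) = 0 := by
    apply h
    rw [LocalizedModule.map_mk, map_zero, hyker]
    exact LocalizedModule.zero_mk _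
  rw [← LocalizedModule.zero_mk (1 : m.toIdeal.primeCompl), LocalizedModule.mk_eq] at h0
  obtain ⟨s, hs⟩ := h0
  rw [one_smul, smul_zero, smul_zero] at hs
  have hs : (s : R) • (decompose ℳ x k : M) = 0 := hs
  have hsm : (s : R) ∈ m.toIdeal :=
    mem_of_smul_mem 𝒜 ℳ hm (isHomogeneous_bot ℳ) (decompose ℳ x k).2 hk
      (by rw [Submodule.mem_bot]; exact hs)
  exact s.2 hsm

/-- A homogeneous map which is surjective after localizing at the *maximal ideal is
surjective. -/
theorem surjective_of_localized {m : HomogeneousIdeal 𝒜} (hm : IsStarLocal 𝒜 m)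
    [m.toIdeal.IsPrime] {φ : M →ₗ[R] N} {d : ι} (hφ : IsGrHomDeg ℳ 𝒩 φ d)
    (h : Function.Surjective (LocalizedModule.map m.toIdeal.primeCompl φ)) :
    Function.Surjective φ := by
  intro y
  by_contra hy
  have hy' : y ∉ LinearMap.range φ := hy
  have hrange := isHomogeneous_range_deg ℳ 𝒩 hφ
  obtain ⟨k, hk⟩ := exists_component_not_mem (𝒩 := 𝒩) hy'
  obtain ⟨z, hz⟩ := h (LocalizedModule.mk (decompose 𝒩 y k : N) (1 : m.toIdeal.primeCompl))
  induction z using LocalizedModule.induction_on with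
  | h c s =>
    rw [LocalizedModule.map_mk, LocalizedModule.mk_eq] at hz
    obtain ⟨u, hu⟩ := hz
    have hmem : ((u * s : m.toIdeal.primeCompl) : R) • (decompose 𝒩 y k : N) ∈
        LinearMap.range φ := by
      refine ⟨(u : R) • c, ?_⟩
      rw [map_smul]
      have hu' : (u : R) • ((1 : m.toIdeal.primeCompl) : R) • φ c =
          (u : R) • (s : R) • (decompose 𝒩 y k : N) := hu
      rw [Submonoid.coe_one, one_smul] at hu'
      rw [hu', Submonoid.coe_mul, mul_smul]
    have hsm := mem_of_smul_mem 𝒜 𝒩 hm hrange (decompose 𝒩 y k).2 hk hmem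
    exact (u * s).2 hsm

end Graded

section Main

open Groth.Agent.S13216 Groth.Agent.Lib.H74Matlis Groth.Agent.Lib.CanonEndGlobal

variable {ι : Type} [AddCommGroup ι] [DecidableEq ι] [Module.Free ℤ ι] [Module.Finite ℤ ι]
variable (R : Type u) [CommRing R] (𝒜 : ι → AddSubgroup R) [GradedRing 𝒜]
  [LocCoh.IsCohenMacaulayRing R] (m : HomogeneousIdeal 𝒜) (hm : IsStarLocal 𝒜 m)
variable (C : Type u) [AddCommGroup C] [Module R C] (𝒞 : ι → AddSubgroup C) [Decomposition 𝒞]
  [SetLike.GradedSMul 𝒜 𝒞] [Module.Finite R C]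
variable (C' : Type u) [AddCommGroup C'] [Module R C'] (𝒞' : ι → AddSubgroup C')
  [Decomposition 𝒞'] [SetLike.GradedSMul 𝒜 𝒞'] [Module.Finite R C']

include hm in
/-- Two finitely generated graded modules over a CM *local ring which are canonical modules at
every prime are isomorphic up to a shift. -/
theorem exists_shift_equiv
    (hC : ∀ (q : Ideal R) [q.IsPrime] (nq : ℕ), ringKrullDim (Localization.AtPrime q) = nq →
      ∀ (E₀ : Type u) [AddCommGroup E₀] [Module (Localization.AtPrime q) E₀]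
        (f₀ : IsLocalRing.ResidueField (Localization.AtPrime q) →ₗ[(Localization.AtPrime q)] E₀),
        InjHull.IsInjectiveHull f₀ →
        Nonempty ((LocalizedModule q.primeCompl C →ₗ[(Localization.AtPrime q)] E₀)
          ≃ₗ[(Localization.AtPrime q)]
          LocCoh.H (IsLocalRing.maximalIdeal (Localization.AtPrime q)) nq
            (Localization.AtPrime q)))
    (hC' : ∀ (q : Ideal R) [q.IsPrime] (nq : ℕ), ringKrullDim (Localization.AtPrime q) = nq →
      ∀ (E₀ : Type u) [AddCommGroup E₀] [Module (Localization.AtPrime q) E₀]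
        (f₀ : IsLocalRing.ResidueField (Localization.AtPrime q) →ₗ[(Localization.AtPrime q)] E₀),
        InjHull.IsInjectiveHull f₀ →
        Nonempty ((LocalizedModule q.primeCompl C' →ₗ[(Localization.AtPrime q)] E₀)
          ≃ₗ[(Localization.AtPrime q)]
          LocCoh.H (IsLocalRing.maximalIdeal (Localization.AtPrime q)) nq
            (Localization.AtPrime q))) :
    ∃ (g : ι) (φ : C ≃ₗ[R] C'), IsGrHomDeg 𝒞 𝒞' φ.toLinearMap g := by
  classical
  haveI : IsNoetherianRing R := inferInstance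
  haveI hprime : m.toIdeal.IsPrime := isPrime_of_isStarLocal 𝒜 hm
  haveI : LocCoh.IsCohenMacaulayLocalRing (Localization.AtPrime m.toIdeal) :=
    LocCoh.IsCohenMacaulayRing.isCohenMacaulayLocalRing_localization m.toIdeal
  obtain ⟨n, hn⟩ := exists_nat_ringKrullDim (Localization.AtPrime m.toIdeal)
  obtain ⟨E₀, _, _, f₀, hf₀⟩ := Groth.Agent.S0299.result (Localization.AtPrime m.toIdeal)
    (IsLocalRing.ResidueField (Localization.AtPrime m.toIdeal))
  obtain ⟨eK⟩ := hC m.toIdeal n hn E₀ f₀ hf₀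
  obtain ⟨eK'⟩ := hC' m.toIdeal n hn E₀ f₀ hf₀
  obtain ⟨ψ₁⟩ := Groth.Agent.S7691.result (Localization.AtPrime m.toIdeal) n hn E₀ f₀ hf₀
    (LocalizedModule m.toIdeal.primeCompl C) eK (LocalizedModule m.toIdeal.primeCompl C') eK'
  have hb := Groth.Agent.S7703.result (Localization.AtPrime m.toIdeal) n hn E₀ f₀ hf₀
    (LocalizedModule m.toIdeal.primeCompl C) eK
  haveI : Module.FinitePresentation R C := Module.finitePresentation_of_finite R C
  obtain ⟨⟨f, s⟩, hfs⟩ := IsLocalizedModule.surj m.toIdeal.primeCompl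
    (LocalizedModule.map m.toIdeal.primeCompl (M := C) (N := C')) ψ₁.toLinearMap
  obtain ⟨D, hD⟩ := exists_finset_sum_hcomp 𝒜 𝒞' 𝒞 f
  have hr : ∀ d, ∃ r : Localization.AtPrime m.toIdeal,
      r • (LinearMap.id : LocalizedModule m.toIdeal.primeCompl C →ₗ[Localization.AtPrime m.toIdeal]
        LocalizedModule m.toIdeal.primeCompl C) =
      ψ₁.symm.toLinearMap ∘ₗ LocalizedModule.map m.toIdeal.primeCompl (hcomp 𝒜 𝒞' 𝒞 f d) :=
    fun d => hb.2 _
  choose r hr using hr
  have hfs' : algebraMap R (Localization.AtPrime m.toIdeal) (s : R) • ψ₁.toLinearMap =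
      LocalizedModule.map m.toIdeal.primeCompl f := by
    rw [algebraMap_smul]
    exact hfs
  have hsum : algebraMap R (Localization.AtPrime m.toIdeal) (s : R) = ∑ d ∈ D, r d := by
    apply hb.1
    show algebraMap R (Localization.AtPrime m.toIdeal) (s : R) • LinearMap.id =
      (∑ d ∈ D, r d) • LinearMap.id
    refine LinearMap.ext fun x => ?_
    have hx : ∀ d, r d • x = ψ₁.symm
        (LocalizedModule.map m.toIdeal.primeCompl (hcomp 𝒜 𝒞' 𝒞 f d) x) := by
      intro d
      have := LinearMap.congr_fun (hr d) x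
      rw [LinearMap.smul_apply, LinearMap.id_apply, LinearMap.comp_apply] at this
      exact this
    rw [LinearMap.smul_apply, LinearMap.smul_apply, LinearMap.id_apply, Finset.sum_smul,
      Finset.sum_congr rfl (fun d _ => hx d), ← map_sum, ← LinearMap.sum_apply, ← map_sum, ← hD,
      ← hfs', LinearMap.smul_apply, map_smul]
    congr 1
    exact (ψ₁.symm_apply_apply x).symm
  have hex : ∃ d ∈ D, IsUnit (r d) := by
    by_contra hcon
    push Not at hcon
    have hmem : ∑ d ∈ D, r d ∈ IsLocalRing.maximalIdeal (Localization.AtPrime m.toIdeal) :=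
      Ideal.sum_mem _ fun d hd => (IsLocalRing.mem_maximalIdeal _).2 (hcon d hd)
    rw [← hsum] at hmem
    exact (IsLocalRing.mem_maximalIdeal _).1 hmem
      (IsLocalization.map_units (Localization.AtPrime m.toIdeal) s)
  obtain ⟨d, -, hu⟩ := hex
  have hφ : IsGrHomDeg 𝒞 𝒞' (hcomp 𝒜 𝒞' 𝒞 f d) d := hcomp_deg 𝒜 𝒞' 𝒞 f d
  have hloc : ∀ x, LocalizedModule.map m.toIdeal.primeCompl (hcomp 𝒜 𝒞' 𝒞 f d) x =
      ψ₁ (r d • x) := by
    intro x
    have := LinearMap.congr_fun (hr d) x
    rw [LinearMap.smul_apply, LinearMap.id_apply, LinearMap.comp_apply] at this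
    rw [this]
    exact (ψ₁.apply_symm_apply _).symm
  have hbij : Function.Bijective (LocalizedModule.map m.toIdeal.primeCompl (hcomp 𝒜 𝒞' 𝒞 f d)) := by
    obtain ⟨v, hv⟩ := hu
    constructor
    · intro x y hxy
      rw [hloc, hloc] at hxy
      have h1 := ψ₁.injective hxy
      have h2 := congrArg (fun z => (↑v⁻¹ : Localization.AtPrime m.toIdeal) • z) h1
      simp only [← hv, smul_smul, Units.inv_mul, one_smul] at h2
      exact h2
    · intro y
      refine ⟨(↑v⁻¹ : Localization.AtPrime m.toIdeal) • ψ₁.symm y, ?_⟩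
      rw [hloc, ← hv, smul_smul, Units.mul_inv, one_smul, ψ₁.apply_symm_apply]
  have hinj := injective_of_localized 𝒜 hm hφ hbij.1
  have hsurj := surjective_of_localized 𝒜 hm hφ hbij.2
  exact ⟨d, LinearEquiv.ofBijective (hcomp 𝒜 𝒞' 𝒞 f d) ⟨hinj, hsurj⟩, hφ⟩

end Main

end Groth.Agent.Lib.CanonShift
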