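import Mathlib
import Groth.Prelude.Def_CotT2

/-!
# Transfer of the syzygy condition along an injective map of algebras (choice-free presentations)

For `C' → C` injective and `q` a relation of `canon k C` with coefficients in the kernel, all of whose variables come
from `C'`: if the syzygy condition holds for `canon k C'` then `q` is a trivial relation.
-/

set_option autoImplicit false
set_option linter.unusedVariables false
set_option linter.unusedSectionVars false
universe u

namespace Groth.Agent.Lib.CanonTransfer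

open CotT

variable {k C' C : Type u} [CommRing k] [CommRing C'] [CommRing C] [Algebra k C'] [Algebra k C]
  [Algebra C' C] [IsScalarTower k C' C]

theorem ringHom_eq_rename (p : (canon k C').toExtension.Ring) :
    (canonHom k C' k C).ringHom p = MvPolynomial.rename (algebraMap C' C) p := by
  have h1 : ((canonHom k C' k C).hom.toAlgHom : MvPolynomial C' k →ₐ[k] MvPolynomial C k) =
      MvPolynomial.rename (algebraMap C' C) := by
    apply MvPolynomial.algHom_ext
    intro c'
    rw [MvPolynomial.rename_X]
    change MvPolynomial.aeval _ (MvPolynomial.X c') = _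
    rw [MvPolynomial.aeval_X]
    rfl
  exact DFunLike.congr_fun h1 p

theorem ringHom_injective (hinj : Function.Injective (algebraMap C' C)) :
    Function.Injective (canonHom k C' k C).ringHom := by
  intro a b hab
  rw [ringHom_eq_rename, ringHom_eq_rename] at hab
  exact MvPolynomial.rename_injective _ hinj hab

theorem exists_ringHom_eq (hinj : Function.Injective (algebraMap C' C)) (p : (canon k C).toExtension.Ring)
    (hp : (↑(MvPolynomial.vars (p : MvPolynomial C k)) : Set C) ⊆ Set.range (algebraMap C' C)) :
    ∃ p' : (canon k C').toExtension.Ring, (canonHom k C' k C).ringHom p' = p := by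
  obtain ⟨p', hp'⟩ := MvPolynomial.exists_rename_eq_of_vars_subset_range (p : MvPolynomial C k)
    (algebraMap C' C) hinj hp
  exact ⟨p', (ringHom_eq_rename p').trans hp'⟩

theorem mem_ker_of_ringHom_mem_ker (hinj : Function.Injective (algebraMap C' C))
    (p' : (canon k C').toExtension.Ring)
    (h : (canonHom k C' k C).ringHom p' ∈ (canon k C).toExtension.ker) : p' ∈ (canon k C').toExtension.ker := by
  have h1 := (canonHom k C' k C).algebraMap_ringHom p'
  have h2 : algebraMap (canon k C).toExtension.Ring C ((canonHom k C' k C).ringHom p') = 0 := h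
  rw [h2] at h1
  exact hinj (h1.symm.trans (map_zero _).symm)

theorem transfer (hinj : Function.Injective (algebraMap C' C))
    (hsyz : ∀ q' : relMod (canon k C'), q' ∈ relKer (canon k C') →
      (∀ s, q' s ∈ (canon k C').toExtension.ker) → q' ∈ trivRel (canon k C'))
    (q : relMod (canon k C)) (hq : q ∈ relKer (canon k C)) (hc : ∀ s, q s ∈ (canon k C).toExtension.ker)
    (hV : ∀ ρ ∈ q.support,
      (↑(MvPolynomial.vars (ρ.1 : MvPolynomial C k)) : Set C) ⊆
        Set.range (algebraMap C' C) ∧
      (↑(MvPolynomial.vars ((q ρ : (canon k C).toExtension.Ring) : MvPolynomial C k)) : Set C) ⊆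
        Set.range (algebraMap C' C)) :
    q ∈ trivRel (canon k C) := by
  classical
  have h1 : ∀ ρ : CanonRels k C, ∃ (r' a' : (canon k C').toExtension.Ring), ρ ∈ q.support →
      (canonHom k C' k C).ringHom r' = ρ.1 ∧
      (canonHom k C' k C).ringHom a' = q ρ := by
    intro ρ
    by_cases hρ : ρ ∈ q.support
    · obtain ⟨r', hr'⟩ := exists_ringHom_eq (k := k) hinj ρ.1 (hV ρ hρ).1
      obtain ⟨a', ha'⟩ := exists_ringHom_eq (k := k) hinj (q ρ) (hV ρ hρ).2
      exact ⟨r', a', fun _ => ⟨hr', ha'⟩⟩
    · exact ⟨0, 0, fun h => absurd h hρ⟩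
  choose r' a' hra using h1
  have hr'ker : ∀ ρ ∈ q.support, r' ρ ∈ (canon k C').toExtension.ker := by
    intro ρ hρ
    apply mem_ker_of_ringHom_mem_ker (k := k) hinj
    rw [(hra ρ hρ).1]
    exact ρ.2
  have ha'ker : ∀ ρ ∈ q.support, a' ρ ∈ (canon k C').toExtension.ker := by
    intro ρ hρ
    apply mem_ker_of_ringHom_mem_ker (k := k) hinj
    rw [(hra ρ hρ).2]
    exact hc ρ
  let q' : relMod (canon k C') :=
    ∑ ρ ∈ q.support.attach, Finsupp.single (⟨r' ρ.1, hr'ker ρ.1 ρ.2⟩ : CanonRels k C') (a' ρ.1)
  have hq'map : (canonHom k C' k C).relModMap q' = q := by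
    change (canonHom k C' k C).relModMap (∑ ρ ∈ q.support.attach,
      Finsupp.single (⟨r' ρ.1, hr'ker ρ.1 ρ.2⟩ : CanonRels k C') (a' ρ.1)) = q
    rw [map_sum]
    have h2 : ∀ ρ ∈ q.support.attach, (canonHom k C' k C).relModMap
        (Finsupp.single (⟨r' ρ.1, hr'ker ρ.1 ρ.2⟩ : CanonRels k C') (a' ρ.1)) =
        Finsupp.single ρ.1 (q ρ.1) := by
      intro ρ _
      rw [PresHom.relModMap_single, (hra ρ.1 ρ.2).2]
      change q ρ.1 • Finsupp.single _ 1 = _
      rw [Finsupp.smul_single, smul_eq_mul, mul_one]
      congr 1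
      apply Subtype.ext
      exact (hra ρ.1 ρ.2).1
    rw [Finset.sum_congr rfl h2]
    rw [Finset.sum_attach q.support (fun ρ => Finsupp.single ρ (q ρ))]
    exact Finsupp.sum_single q
  have hq'ker : q' ∈ relKer (canon k C') := by
    change jmap (canon k C') q' = 0
    apply ringHom_injective (k := k) hinj
    rw [← PresHom.jmap_relModMap, hq'map, map_zero]
    exact hq
  have hq'c : ∀ s, q' s ∈ (canon k C').toExtension.ker := by
    intro s
    change (∑ ρ ∈ q.support.attach,
      Finsupp.single (⟨r' ρ.1, hr'ker ρ.1 ρ.2⟩ : CanonRels k C') (a' ρ.1)) s ∈ _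
    rw [Finsupp.finsetSum_apply]
    refine Ideal.sum_mem _ fun ρ _ => ?_
    rw [Finsupp.single_apply]
    split_ifs
    · exact ha'ker ρ.1 ρ.2
    · exact Ideal.zero_mem _
  have h3 := hsyz q' hq'ker hq'c
  have h4 := (canonHom k C' k C).relModMap_mem_trivRel h3
  rw [hq'map] at h4
  exact h4

end Groth.Agent.Lib.CanonTransfer
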