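import Mathlib.RingTheory.HopfAlgebra.Convolution
import Mathlib.RingTheory.Kaehler.Basic
import Mathlib.RingTheory.Unramified.Basic

/-!
# The Maurer–Cartan form of a commutative Hopf algebra (helper41)

For a commutative Hopf algebra `A` over a commutative ring `R`, with `Ω = Ω[A⁄R]`:
* `mu : A ⊗ A → Ω`, `b ⊗ c ↦ S b • D c`; `omega = mu ∘ Δ` (the Maurer–Cartan form
  `a ↦ Σ S(a₁) d(a₂)`), `omega_mul : ω(bc) = ε(b) ω(c) + ε(c) ω(b)`, `omega_one`.
* `D_eq_theta_comul : D a = Σ a₁ • ω(a₂)`.
* `formallyUnramified_of_augIdeal_sq_eq`: if `I² = I` for the augmentation ideal then `Ω = 0`.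
-/

set_option autoImplicit false
universe u v

open TensorProduct HopfAlgebra

namespace Groth.Agent.Lib.HopfMaurerCartan41

variable {R : Type u} [CommRing R] {A : Type v} [CommRing A] [HopfAlgebra R A]

/-- `b ⊗ c ↦ S b • D c`. -/
noncomputable def mu : A ⊗[R] A →ₗ[R] Ω[A⁄R] :=
  TensorProduct.lift
    (((Algebra.lsmul R R Ω[A⁄R] : A →ₐ[R] Module.End R Ω[A⁄R]).toLinearMap ∘ₗ antipode R).compl₂
      (KaehlerDifferential.D R A).toLinearMap)

@[simp] theorem mu_tmul (b c : A) :
    mu (R := R) (b ⊗ₜ[R] c) = antipode R b • KaehlerDifferential.D R A c := by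
  simp [mu]

/-- `b ⊗ c ↦ S b * c`. -/
noncomputable def mS : A ⊗[R] A →ₗ[R] A := LinearMap.mul' R A ∘ₗ (antipode R).rTensor A

@[simp] theorem mS_tmul (b c : A) : mS (R := R) (b ⊗ₜ[R] c) = antipode R b * c := by
  simp [mS]

theorem mu_mul (x y : A ⊗[R] A) :
    mu (R := R) (x * y) = mS x • mu y + mS y • mu x := by
  induction x using TensorProduct.induction_on with
  | zero => simp
  | add x x' hx hx' =>
    rw [add_mul, map_add, hx, hx', map_add, add_smul, map_add, smul_add]
    abel
  | tmul b1 b2 =>
    induction y using TensorProduct.induction_on with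
    | zero => simp
    | add y y' hy hy' =>
      rw [mul_add, map_add, hy, hy', map_add (mS (R := R)), add_smul, map_add, smul_add]
      abel
    | tmul c1 c2 =>
      rw [Algebra.TensorProduct.tmul_mul_tmul, mu_tmul, mu_tmul, mu_tmul, mS_tmul, mS_tmul,
        antipode_mul_distrib, Derivation.leibniz, smul_add, smul_smul, smul_smul, smul_smul,
        smul_smul]
      congr 1
      · congr 1; ring
      · congr 1; ring

/-- The Maurer–Cartan form `a ↦ Σ S(a₁) d(a₂)`. -/
noncomputable def omega : A →ₗ[R] Ω[A⁄R] := mu ∘ₗ CoalgebraStruct.comul (R := R) (A := A)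

theorem omega_one : omega (R := R) (1 : A) = 0 := by
  rw [omega, LinearMap.comp_apply, Bialgebra.comul_one, Algebra.TensorProduct.one_def, mu_tmul]
  simp

theorem mS_comul (a : A) :
    mS (CoalgebraStruct.comul (R := R) a) = algebraMap R A (CoalgebraStruct.counit (R := R) a) :=
  mul_antipode_rTensor_comul_apply a

theorem omega_mul (b c : A) :
    omega (R := R) (b * c) = CoalgebraStruct.counit (R := R) b • omega c +
      CoalgebraStruct.counit (R := R) c • omega b := by
  rw [omega, LinearMap.comp_apply, Bialgebra.comul_mul, mu_mul, mS_comul, mS_comul,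
    algebraMap_smul, algebraMap_smul]
  rfl

theorem omega_algebraMap (r : R) : omega (R := R) (algebraMap R A r) = 0 := by
  rw [Algebra.algebraMap_eq_smul_one, map_smul, omega_one, smul_zero]

/-- `b ⊗ c ↦ b • ω c`. -/
noncomputable def theta : A ⊗[R] A →ₗ[R] Ω[A⁄R] :=
  TensorProduct.lift
    ((Algebra.lsmul R R Ω[A⁄R] : A →ₐ[R] Module.End R Ω[A⁄R]).toLinearMap.compl₂ omega)

@[simp] theorem theta_tmul (b c : A) : theta (R := R) (b ⊗ₜ[R] c) = b • omega c := by
  simp [theta]

/-- `a ⊗ (b ⊗ c) ↦ a • (S b • D c)`. -/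
noncomputable def tri : A ⊗[R] (A ⊗[R] A) →ₗ[R] Ω[A⁄R] :=
  TensorProduct.lift
    ((Algebra.lsmul R R Ω[A⁄R] : A →ₐ[R] Module.End R Ω[A⁄R]).toLinearMap.compl₂ mu)

@[simp] theorem tri_tmul (a : A) (y : A ⊗[R] A) : tri (R := R) (a ⊗ₜ[R] y) = a • mu y := by
  simp [tri]

theorem theta_eq_tri (y : A ⊗[R] A) :
    theta (R := R) y = tri ((CoalgebraStruct.comul (R := R) (A := A)).lTensor A y) := by
  induction y using TensorProduct.induction_on with
  | zero => simp
  | add x y hx hy => simp only [map_add, hx, hy]
  | tmul b c => rw [theta_tmul, LinearMap.lTensor_tmul, tri_tmul]; rfl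

theorem tri_assoc (y : A ⊗[R] A) (c : A) :
    tri (R := R) (TensorProduct.assoc R A A A (y ⊗ₜ[R] c)) =
      (LinearMap.mul' R A ((antipode R).lTensor A y)) • KaehlerDifferential.D R A c := by
  induction y using TensorProduct.induction_on with
  | zero => simp
  | add x y hx hy => rw [TensorProduct.add_tmul, map_add, map_add, hx, hy, map_add, map_add, add_smul]
  | tmul a b =>
    rw [TensorProduct.assoc_tmul, tri_tmul, mu_tmul, LinearMap.lTensor_tmul, LinearMap.mul'_apply,
      smul_smul]

/-- `D a = Σ a₁ • ω(a₂)`. -/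
theorem D_eq_theta_comul (a : A) :
    KaehlerDifferential.D R A a = theta (CoalgebraStruct.comul (R := R) a) := by
  rw [theta_eq_tri, ← Coalgebra.coassoc_apply]
  have key : ∀ y : A ⊗[R] A,
      tri (R := R) (TensorProduct.assoc R A A A
        ((CoalgebraStruct.comul (R := R) (A := A)).rTensor A y)) =
      KaehlerDifferential.D R A (TensorProduct.lid R A
        ((CoalgebraStruct.counit (R := R) (A := A)).rTensor A y)) := by
    intro y
    induction y using TensorProduct.induction_on with
    | zero => simp
    | add x y hx hy => simp only [map_add, hx, hy]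
    | tmul b c =>
      rw [LinearMap.rTensor_tmul, tri_assoc, mul_antipode_lTensor_comul_apply,
        LinearMap.rTensor_tmul, TensorProduct.lid_tmul, algebraMap_smul, Derivation.map_smul]
  rw [key, Coalgebra.rTensor_counit_comul, TensorProduct.lid_tmul, one_smul]

/-- If the augmentation ideal is idempotent, the Maurer–Cartan form vanishes. -/
theorem omega_eq_zero
    (hI : RingHom.ker (Bialgebra.counitAlgHom R A) ^ 2 = RingHom.ker (Bialgebra.counitAlgHom R A))
    (a : A) : omega (R := R) a = 0 := by
  have hmem : ∀ x ∈ RingHom.ker (Bialgebra.counitAlgHom R A), omega (R := R) x = 0 := by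
    intro x hx
    rw [← hI, pow_two] at hx
    refine Submodule.mul_induction_on hx ?_ ?_
    · intro b hb c hc
      rw [RingHom.mem_ker, Bialgebra.counitAlgHom_apply] at hb hc
      rw [omega_mul, hb, hc, zero_smul, zero_smul, add_zero]
    · intro x y hx hy
      rw [map_add, hx, hy, add_zero]
  have h1 : a - algebraMap R A (CoalgebraStruct.counit (R := R) a) ∈
      RingHom.ker (Bialgebra.counitAlgHom R A) := by
    rw [RingHom.mem_ker, map_sub, Bialgebra.counitAlgHom_apply, AlgHom.commutes]
    simp
  have h2 := hmem _ h1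
  rw [map_sub, omega_algebraMap, sub_zero] at h2
  exact h2

/-- If the augmentation ideal of a commutative Hopf algebra is idempotent, the algebra is
formally unramified. -/
theorem formallyUnramified_of_augIdeal_sq_eq
    (hI : RingHom.ker (Bialgebra.counitAlgHom R A) ^ 2 = RingHom.ker (Bialgebra.counitAlgHom R A)) :
    Algebra.FormallyUnramified R A := by
  have hD : ∀ a : A, KaehlerDifferential.D R A a = 0 := by
    intro a
    rw [D_eq_theta_comul]
    generalize CoalgebraStruct.comul (R := R) a = y
    induction y using TensorProduct.induction_on with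
    | zero => simp
    | add x y hx hy => rw [map_add, hx, hy, add_zero]
    | tmul b c => rw [theta_tmul, omega_eq_zero hI, smul_zero]
  refine ⟨?_⟩
  have htop := KaehlerDifferential.span_range_derivation R A
  have hbot : Submodule.span A (Set.range (KaehlerDifferential.D R A)) = ⊥ := by
    rw [Submodule.span_eq_bot]
    rintro _ ⟨a, rfl⟩
    exact hD a
  rw [hbot] at htop
  exact (Submodule.subsingleton_iff A).1 (subsingleton_of_bot_eq_top htop)

end Groth.Agent.Lib.HopfMaurerCartan41
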