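import Groth.Agent.Lib.HopfTraceIntegral18
import Groth.Agent.Lib.HopfMaurerCartan41
import Mathlib.RingTheory.Smooth.Fiber
import Mathlib.LinearAlgebra.Trace
import Mathlib.RingTheory.Artinian.Ring

/-!
# Finite group schemes of order prime to the characteristic are étale (helper41)

`A` a commutative Hopf algebra over a field `k`, `lam : A →ₗ[k] k` an integral
(`Σ a₁ lam(a₂) = lam(a) 1`).

* `G_eq_Q_comul`: `Σ a₁ lam(a₂ b) = Σ lam(a b₂) S(b₁)`.
* `eq_zero_of_forall_mul`: if `lam 1 ≠ 0`, the form `(a, b) ↦ lam (a b)` is nondegenerate.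
* `isReduced_of_finrank_ne_zero`, `etale_of_finrank_ne_zero`: a finite-dimensional commutative
  Hopf algebra whose dimension is invertible in `k` is étale.
-/

set_option autoImplicit false
universe u v

open TensorProduct

namespace Groth.Agent.Lib.HopfTraceEtale41

open Groth.Agent.Lib.Comod Groth.Agent.Lib.HopfMaurerCartan41

section Integral

variable {k : Type u} [Field k] {A : Type v} [CommRing A] [HopfAlgebra k A]
variable (lam : A →ₗ[k] k)

/-- `w ↦ (id ⊗ lam)(Δ a * w)`. -/
noncomputable def H (a : A) : A ⊗[k] A →ₗ[k] A :=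
  contr A lam ∘ₗ LinearMap.mulLeft k (CoalgebraStruct.comul (R := k) a)

theorem H_apply (a : A) (w : A ⊗[k] A) :
    H lam a w = contr A lam (CoalgebraStruct.comul (R := k) a * w) := rfl

theorem H_comul (a v : A) :
    H lam a (CoalgebraStruct.comul (R := k) v) = slice lam (a * v) := by
  rw [H_apply, ← Bialgebra.comul_mul]
  rfl

theorem contr_tmul_one_mul (c : A) (t : A ⊗[k] A) :
    contr A lam ((c ⊗ₜ[k] (1 : A)) * t) = c * contr A lam t := by
  induction t using TensorProduct.induction_on with
  | zero => simp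
  | add x y hx hy => rw [mul_add, map_add, map_add, hx, hy, mul_add]
  | tmul x y =>
    rw [Algebra.TensorProduct.tmul_mul_tmul, contr_tmul, contr_tmul, one_mul, mul_smul_comm]

theorem H_tmul (a c v : A) : H lam a (c ⊗ₜ[k] v) = c * H lam a ((1 : A) ⊗ₜ[k] v) := by
  rw [H_apply, H_apply, ← contr_tmul_one_mul]
  congr 1
  rw [mul_left_comm, Algebra.TensorProduct.tmul_mul_tmul, mul_one, one_mul]

/-- `u ⊗ w ↦ S u * H a w`. -/
noncomputable def Psi (a : A) : A ⊗[k] (A ⊗[k] A) →ₗ[k] A :=
  LinearMap.mul' k A ∘ₗ TensorProduct.map (HopfAlgebra.antipode k (A := A)) (H lam a)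

@[simp] theorem Psi_tmul (a u : A) (w : A ⊗[k] A) :
    Psi lam a (u ⊗ₜ[k] w) = HopfAlgebra.antipode k u * H lam a w := by
  simp [Psi]

theorem Psi_assoc (a : A) (x : A ⊗[k] A) (v : A) :
    Psi lam a (TensorProduct.assoc k A A A (x ⊗ₜ[k] v)) =
      mS x * H lam a ((1 : A) ⊗ₜ[k] v) := by
  induction x using TensorProduct.induction_on with
  | zero => simp
  | add x y hx hy => rw [TensorProduct.add_tmul, map_add, map_add, hx, hy, map_add, add_mul]
  | tmul u v' =>
    rw [TensorProduct.assoc_tmul, Psi_tmul, H_tmul, mS_tmul, mul_assoc]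

/-- `u ⊗ v ↦ lam (a v) • S u`. -/
noncomputable def Q (a : A) : A ⊗[k] A →ₗ[k] A :=
  contr A (lam ∘ₗ LinearMap.mulLeft k a) ∘ₗ (HopfAlgebra.antipode k (A := A)).rTensor A

@[simp] theorem Q_tmul (a u v : A) :
    Q lam a (u ⊗ₜ[k] v) = lam (a * v) • HopfAlgebra.antipode k u := by
  simp [Q]

variable (hlam : ∀ a : A, slice lam a = lam a • (1 : A))

include hlam in
theorem Psi_lTensor_comul (a : A) (t : A ⊗[k] A) :
    Psi lam a ((CoalgebraStruct.comul (R := k) (A := A)).lTensor A t) = Q lam a t := by
  induction t using TensorProduct.induction_on with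
  | zero => simp
  | add x y hx hy => simp only [map_add, hx, hy]
  | tmul u v =>
    rw [LinearMap.lTensor_tmul, Psi_tmul, H_comul, hlam, Q_tmul, mul_smul_comm, mul_one]

include hlam in
/-- `Σ a₁ lam(a₂ b) = Σ lam(a b₂) S(b₁)`. -/
theorem G_eq_Q_comul (a b : A) :
    H lam a ((1 : A) ⊗ₜ[k] b) = Q lam a (CoalgebraStruct.comul (R := k) b) := by
  rw [← Psi_lTensor_comul lam hlam, ← Coalgebra.coassoc_apply]
  have key : ∀ y : A ⊗[k] A,
      Psi lam a (TensorProduct.assoc k A A A
        ((CoalgebraStruct.comul (R := k) (A := A)).rTensor A y)) =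
      H lam a ((1 : A) ⊗ₜ[k] (TensorProduct.lid k A
        ((CoalgebraStruct.counit (R := k) (A := A)).rTensor A y))) := by
    intro y
    induction y using TensorProduct.induction_on with
    | zero => simp
    | add x y hx hy => simp only [map_add, hx, hy, TensorProduct.tmul_add]
    | tmul b c =>
      rw [LinearMap.rTensor_tmul, Psi_assoc, mS_comul, LinearMap.rTensor_tmul,
        TensorProduct.lid_tmul, TensorProduct.tmul_smul, map_smul, Algebra.smul_def]
  rw [key, Coalgebra.rTensor_counit_comul, TensorProduct.lid_tmul, one_smul]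

/-- `φ(Σ t₁ lam(t₂ b)) = lam((Σ φ(t₁) t₂) b)`. -/
theorem dual_contr_mul (φ : A →ₗ[k] k) (b : A) (t : A ⊗[k] A) :
    φ (contr A lam (t * ((1 : A) ⊗ₜ[k] b))) =
      lam (TensorProduct.lid k A (φ.rTensor A t) * b) := by
  induction t using TensorProduct.induction_on with
  | zero => simp
  | add x y hx hy => rw [add_mul, map_add, map_add, hx, hy, map_add, map_add, add_mul, map_add]
  | tmul x y =>
    rw [Algebra.TensorProduct.tmul_mul_tmul, contr_tmul, mul_one, map_smul, LinearMap.rTensor_tmul,
      TensorProduct.lid_tmul, smul_mul_assoc, map_smul, smul_eq_mul, smul_eq_mul, mul_comm]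

include hlam in
/-- The radical of `(a, b) ↦ lam (a b)` is a left coideal. -/
theorem radical_coideal {a : A} (ha : ∀ b, lam (a * b) = 0) (φ : A →ₗ[k] k) (b : A) :
    lam (TensorProduct.lid k A (φ.rTensor A (CoalgebraStruct.comul (R := k) a)) * b) = 0 := by
  rw [← dual_contr_mul, ← H_apply, G_eq_Q_comul lam hlam]
  have hQ : Q lam a = 0 := by
    apply TensorProduct.ext'
    intro u v
    rw [Q_tmul, ha, zero_smul, LinearMap.zero_apply]
  rw [hQ, LinearMap.zero_apply, map_zero]

theorem lam_mS_eq_zero (R : Submodule k A) (hR : ∀ r ∈ R, ∀ b, lam (r * b) = 0)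
    (t : A ⊗[k] A)
    (ht : ∀ φ : A →ₗ[k] k, TensorProduct.lid k A (φ.rTensor A t) ∈ R) : lam (mS t) = 0 := by
  classical
  let e := Module.Free.chooseBasis k A
  obtain ⟨c, hc⟩ := TensorProduct.eq_repr_basis_left e t
  have hcj : ∀ j, c j ∈ R := by
    intro j
    have := ht (e.coord j)
    rw [← hc, Finsupp.sum, map_sum, map_sum] at this
    simp only [LinearMap.rTensor_tmul, TensorProduct.lid_tmul, Module.Basis.coord_apply,
      Module.Basis.repr_self] at this
    rw [Finset.sum_eq_single j] at this
    · simpa using this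
    · intro i _ hij
      rw [Finsupp.single_eq_of_ne (Ne.symm hij), zero_smul]
    · intro hj
      rw [Finsupp.notMem_support_iff.1 hj, smul_zero]
  rw [← hc, Finsupp.sum, map_sum, map_sum]
  refine Finset.sum_eq_zero fun i _ => ?_
  rw [mS_tmul, mul_comm]
  exact hR _ (hcj i) _

include hlam in
/-- If `lam 1 ≠ 0`, the form `(a, b) ↦ lam (a b)` is nondegenerate. -/
theorem eq_zero_of_forall_mul (h1 : lam 1 ≠ 0) {a : A} (ha : ∀ b, lam (a * b) = 0) : a = 0 := by
  let R : Submodule k A :=
    { carrier := {r | ∀ b, lam (r * b) = 0}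
      add_mem' := by
        intro x y hx hy b
        rw [add_mul, map_add, hx b, hy b, add_zero]
      zero_mem' := by
        intro b
        rw [zero_mul, map_zero]
      smul_mem' := by
        intro c x hx b
        rw [smul_mul_assoc, map_smul, hx b, smul_zero] }
  have hRco : ∀ r ∈ R, ∀ φ : A →ₗ[k] k,
      TensorProduct.lid k A (φ.rTensor A (CoalgebraStruct.comul (R := k) r)) ∈ R :=
    fun r hr φ b => radical_coideal lam hlam hr φ b
  have hcounit : ∀ r (φ : A →ₗ[k] k), CoalgebraStruct.counit (R := k)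
      (TensorProduct.lid k A (φ.rTensor A (CoalgebraStruct.comul (R := k) r))) = φ r := by
    intro r φ
    have key : ∀ t : A ⊗[k] A, CoalgebraStruct.counit (R := k)
        (TensorProduct.lid k A (φ.rTensor A t)) =
        φ (TensorProduct.rid k A ((CoalgebraStruct.counit (R := k) (A := A)).lTensor A t)) := by
      intro t
      induction t using TensorProduct.induction_on with
      | zero => simp
      | add x y hx hy => simp only [map_add, hx, hy]
      | tmul x y => simp [mul_comm]
    rw [key, Coalgebra.lTensor_counit_comul]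
    simp
  by_cases hε : ∀ r ∈ R, CoalgebraStruct.counit (R := k) r = 0
  · have hφ : ∀ φ : A →ₗ[k] k, φ a = 0 := by
      intro φ
      rw [← hcounit a φ]
      exact hε _ (hRco a ha φ)
    exact (Module.forall_dual_apply_eq_zero_iff k a).1 hφ
  · push Not at hε
    obtain ⟨r, hr, hεr⟩ := hε
    exfalso
    have h2 := lam_mS_eq_zero lam R (fun r hr => hr) (CoalgebraStruct.comul (R := k) r)
      (hRco r hr)
    rw [mS_comul, Algebra.algebraMap_eq_smul_one, map_smul, smul_eq_mul] at h2
    rcases mul_eq_zero.1 h2 with h | h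
    · exact hεr h
    · exact h1 h

end Integral

section Etale

/-- In a reduced Artinian ring every ideal is idempotent. -/
theorem sq_eq_self_of_isReduced_of_isArtinianRing {B : Type v} [CommRing B] [IsReduced B]
    [IsArtinianRing B] (I : Ideal B) : I ^ 2 = I := by
  refine le_antisymm (Ideal.pow_le_self two_ne_zero) ?_
  intro x hx
  let f : ℕ →o (Ideal B)ᵒᵈ :=
    { toFun := fun n => OrderDual.toDual (Ideal.span {x ^ n})
      monotone' := by
        intro m n hmn
        show Ideal.span {x ^ n} ≤ Ideal.span {x ^ m}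
        rw [Ideal.span_singleton_le_span_singleton]
        exact pow_dvd_pow x hmn }
  obtain ⟨n, hn⟩ := IsArtinian.monotone_stabilizes f
  have h1 : Ideal.span {x ^ (n + 1)} = Ideal.span {x ^ (n + 2)} := by
    have e1 := hn (n + 1) (by omega)
    have e2 := hn (n + 2) (by omega)
    exact (OrderDual.toDual.injective (e1.symm.trans e2))
  have h2 : x ^ (n + 1) ∈ Ideal.span {x ^ (n + 2)} := by
    rw [← h1]
    exact Ideal.subset_span rfl
  obtain ⟨y, hy⟩ := Ideal.mem_span_singleton'.1 h2
  have h3 : (x - x ^ 2 * y) ^ (n + 1) = 0 := by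
    have e : x - x ^ 2 * y = x * (1 - x * y) := by ring
    rw [e, mul_pow, pow_succ (1 - x * y) n]
    have e2 : x ^ (n + 1) * (1 - x * y) = 0 := by
      have : x ^ (n + 1) * (1 - x * y) = x ^ (n + 1) - y * x ^ (n + 2) := by ring
      rw [this, hy, sub_self]
    calc x ^ (n + 1) * ((1 - x * y) ^ n * (1 - x * y))
        = (x ^ (n + 1) * (1 - x * y)) * (1 - x * y) ^ n := by ring
      _ = 0 := by rw [e2, zero_mul]
  have h4 : x - x ^ 2 * y = 0 := IsReduced.eq_zero _ ⟨n + 1, h3⟩
  have h5 : x = x * (x * y) := by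
    have := sub_eq_zero.1 h4
    calc x = x ^ 2 * y := this
      _ = x * (x * y) := by ring
  rw [h5, pow_two]
  exact Ideal.mul_mem_mul hx (Ideal.mul_mem_right _ _ hx)

variable (k : Type u) [Field k] (A : Type v) [CommRing A] [HopfAlgebra k A] [Module.Finite k A]

theorem isReduced_of_finrank_ne_zero (h : (Module.finrank k A : k) ≠ 0) : IsReduced A := by
  refine ⟨fun x hx => ?_⟩
  have hlam : ∀ a : A, slice (Algebra.trace k A) a = Algebra.trace k A a • (1 : A) :=
    fun a => HopfTraceIntegral18.slice_trace (K := k) (A := A) a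
  have h1 : Algebra.trace k A 1 ≠ 0 := by
    have := Algebra.trace_algebraMap (R := k) (S := A) (1 : k)
    rw [map_one, nsmul_eq_mul, mul_one] at this
    rw [this]
    exact h
  apply eq_zero_of_forall_mul (Algebra.trace k A) hlam h1
  intro b
  have hnil : IsNilpotent (x * b) := (Commute.all x b).isNilpotent_mul_right hx
  rw [Algebra.trace_apply]
  have h2 : IsNilpotent (Algebra.lmul k A (x * b)) := hnil.map (Algebra.lmul k A)
  exact (LinearMap.isNilpotent_trace_of_isNilpotent h2).eq_zero

theorem etale_of_finrank_ne_zero (h : (Module.finrank k A : k) ≠ 0) : Algebra.Etale k A := by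
  have hred := isReduced_of_finrank_ne_zero k A h
  have hart : IsArtinianRing A := IsArtinianRing.of_finite k A
  have hI := sq_eq_self_of_isReduced_of_isArtinianRing
    (RingHom.ker (Bialgebra.counitAlgHom k A))
  have hunr : Algebra.FormallyUnramified k A := formallyUnramified_of_augIdeal_sq_eq hI
  have hft : Algebra.FiniteType k A := inferInstance
  have hfp : Algebra.FinitePresentation k A := Algebra.FinitePresentation.of_finiteType.1 hft
  exact Algebra.Etale.of_formallyUnramified_of_flat

end Etale

end Groth.Agent.Lib.HopfTraceEtale41
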