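import Mathlib
import Groth.Prelude.Def_CartDual
import Groth.Agent.Lib.HopfTraceEtale41

/-!
# Étale Cartier duals (helper41)

* `trace_convMul_trace`: in the dual `D = Hom(A, k)`, `Tr * Tr = dim A • Tr` (the trace is an
  integral).
* `trace_ne_zero_of_isReduced`: for a reduced finite Hopf algebra the trace is nonzero.
* `finrank_D`, `etale_and_etale_dual_iff`: `A` and its dual are both étale iff `p ∤ dim A`.
-/

set_option autoImplicit false
universe u v w
open scoped TensorProduct
open WithConv

namespace Groth.Agent.Lib.CartDualEtale41

open Groth.Agent.Lib.Comod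



section
variable {k : Type u} [Field k] {A : Type v} [CommRing A] [HopfAlgebra k A] [Module.Finite k A]

omit [Module.Finite k A] in
theorem apply_contr (φ ψ : A →ₗ[k] k) (t : A ⊗[k] A) :
    ψ (contr A φ t) = LinearMap.mul' k k (TensorProduct.map ψ φ t) := by
  induction t using TensorProduct.induction_on with
  | zero => simp
  | tmul x y => simp [mul_comm]
  | add x y hx hy => rw [map_add, map_add, hx, hy, map_add, map_add]

/-- The trace, as an element of the dual, squares to `dim A` times itself. -/
theorem trace_convMul_trace :
    (toConv (Algebra.trace k A) : WithConv (A →ₗ[k] k)) * toConv (Algebra.trace k A) =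
      (Module.finrank k A : k) • toConv (Algebra.trace k A) := by
  apply WithConv.ofConv_injective
  ext a
  show LinearMap.mul' k k (TensorProduct.map (Algebra.trace k A) (Algebra.trace k A)
    (Coalgebra.comul a)) = (Module.finrank k A : k) • Algebra.trace k A a
  rw [← apply_contr]
  have h := HopfTraceIntegral18.slice_trace (K := k) (A := A) a
  rw [slice, LinearMap.comp_apply] at h
  rw [h, map_smul, smul_eq_mul, smul_eq_mul, mul_comm]
  congr 1
  have := Algebra.trace_algebraMap (R := k) (S := A) (1 : k)
  rw [map_one, nsmul_eq_mul, mul_one] at this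
  exact this

/-- For reduced `A`, the trace is nonzero. -/
theorem trace_ne_zero_of_isReduced [IsReduced A] : Algebra.trace k A ≠ 0 := by
  have hart : IsArtinianRing A := IsArtinianRing.of_finite k A
  have hnoeth : IsNoetherianRing A := IsNoetherianRing.of_finite k A
  set I : Ideal A := RingHom.ker (Bialgebra.counitAlgHom k A) with hI
  have hI2 : IsIdempotentElem I := by
    have := HopfTraceEtale41.sq_eq_self_of_isReduced_of_isArtinianRing I
    rw [pow_two] at this
    exact this
  obtain ⟨e', he', hIe'⟩ := (Ideal.isIdempotentElem_iff_of_fg I (IsNoetherian.noetherian I)).1 hI2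
  set e : A := 1 - e' with he
  have hee : ∀ a : A, e * a = (Bialgebra.counitAlgHom k A a) • e := by
    intro a
    have h1 : a - algebraMap k A (Bialgebra.counitAlgHom k A a) ∈ I := by
      rw [hI, RingHom.mem_ker, map_sub, AlgHom.commutes, Algebra.algebraMap_self_apply, sub_self]
    rw [hIe', Ideal.mem_span_singleton'] at h1
    obtain ⟨c, hc⟩ := h1
    have h2 : e * (a - algebraMap k A (Bialgebra.counitAlgHom k A a)) = 0 := by
      rw [← hc, he]
      have : e' * e' = e' := he'
      linear_combination (-c) * this
    rw [Algebra.smul_def]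
    linear_combination h2
  have hεe : Bialgebra.counitAlgHom k A e = 1 := by
    have : e' ∈ I := by rw [hIe']; exact Ideal.mem_span_singleton_self e'
    rw [hI, RingHom.mem_ker] at this
    rw [he, map_sub, map_one, this, sub_zero]
  intro h0
  have h1 : Algebra.trace k A e = 1 := by
    rw [Algebra.trace_apply]
    have : Algebra.lmul k A e = (Bialgebra.counitAlgHom k A).toLinearMap.smulRight e := by
      ext a
      simp [hee a]
    rw [this, LinearMap.trace_smulRight]
    exact hεe
  rw [h0] at h1
  simp at h1

end



theorem finrank_D (k : Type u) [Field k] (A : Type v) [AddCommGroup A] [Module k A]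
    [Module.Finite k A] : Module.finrank k (CartDual.D k A) = Module.finrank k A :=
  (CartDual.toDual k A).finrank_eq.trans Subspace.dual_finrank_eq

theorem etale_and_etale_dual_iff (k : Type u) [Field k] (p : ℕ) [Fact p.Prime] [CharP k p]
    (A : Type v) [CommRing A] [HopfAlgebra k A] [Coalgebra.IsCocomm k A] [FiniteDimensional k A] :
    (Algebra.Etale k A ∧ Algebra.Etale k (CartDual.D k A)) ↔ ¬ p ∣ Module.finrank k A := by
  constructor
  · rintro ⟨hA, hD⟩ hdvd
    have hn0 : (Module.finrank k A : k) = 0 := (CharP.cast_eq_zero_iff k p _).2 hdvd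
    have hredA : IsReduced A := Algebra.FormallyUnramified.isReduced_of_field k A
    have hredD : IsReduced (CartDual.D k A) :=
      Algebra.FormallyUnramified.isReduced_of_field k (CartDual.D k A)
    have h1 := trace_convMul_trace (k := k) (A := A)
    rw [hn0, zero_smul] at h1
    have h2 : IsNilpotent (toConv (Algebra.trace k A) : CartDual.D k A) := ⟨2, by rw [pow_two]; exact h1⟩
    have h3 := h2.eq_zero
    exact trace_ne_zero_of_isReduced (k := k) (A := A) (WithConv.toConv_injective h3)
  · intro h
    have hn0 : (Module.finrank k A : k) ≠ 0 := fun h0 => h ((CharP.cast_eq_zero_iff k p _).1 h0)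
    refine ⟨HopfTraceEtale41.etale_of_finrank_ne_zero k A hn0, ?_⟩
    apply HopfTraceEtale41.etale_of_finrank_ne_zero k (CartDual.D k A)
    rw [finrank_D]
    exact hn0

end Groth.Agent.Lib.CartDualEtale41
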