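import Groth.Agent.Lib.ComodFP2
import Mathlib.RingTheory.Trace.Basic
import Mathlib.RingTheory.TensorProduct.Free
import Mathlib.RingTheory.FiniteType
import Mathlib.RingTheory.HopfAlgebra.Basic

/-!
# The trace form of a finite commutative Hopf algebra is an integral (helper18)

For a commutative Hopf algebra `A`, finite free over a commutative ring `K`:
* `shear : A ⊗ A →ₐ[A] A ⊗ A`, `x ⊗ y ↦ (x ⊗ 1) Δ(y)`, is bijective (`shearEquiv`);
* `slice_trace`: `Σ a₁ Tr(a₂) = Tr(a) 1` for the trace form `Tr = Algebra.trace K A`;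
* over a field of characteristic zero, every comodule over a finite-dimensional commutative Hopf
  algebra is semisimple (`isSemisimpleComod_of_finite_charZero`).
-/

set_option autoImplicit false
universe u v w

open TensorProduct

namespace Groth.Agent.Lib.HopfTraceIntegral18

open Groth.Agent.Lib.Comod

section Shear

variable {K : Type u} {A : Type v} [CommRing K] [CommRing A] [HopfAlgebra K A]

/-- The shear map `x ⊗ y ↦ (x ⊗ 1) Δ(y)`, an `A`-algebra endomorphism of `A ⊗ A` (with `A` acting
on the left factor). -/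
noncomputable def shear : A ⊗[K] A →ₐ[A] A ⊗[K] A :=
  Algebra.TensorProduct.lift (Algebra.ofId A (A ⊗[K] A)) (Bialgebra.comulAlgHom K A)
    (fun _ _ => Commute.all _ _)

theorem shear_tmul (x y : A) :
    shear (K := K) (x ⊗ₜ[K] y) = (x ⊗ₜ[K] (1 : A)) * CoalgebraStruct.comul (R := K) y := by
  rw [shear, Algebra.TensorProduct.lift_tmul]
  rfl

/-- `u ⊗ (v ⊗ w) ↦ (S u * v) ⊗ w`. -/
noncomputable def twist : A ⊗[K] (A ⊗[K] A) →ₗ[K] A ⊗[K] A :=
  (LinearMap.mul' K A ∘ₗ (HopfAlgebra.antipode K (A := A)).rTensor A).rTensor A ∘ₗ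
    (TensorProduct.assoc K A A A).symm.toLinearMap

theorem antipode_tmul_one_mul (u : A) (z : A ⊗[K] A) :
    (HopfAlgebra.antipode K u ⊗ₜ[K] (1 : A)) * z = twist (K := K) (u ⊗ₜ[K] z) := by
  induction z using TensorProduct.induction_on with
  | zero => simp
  | add x y hx hy => simp only [mul_add, TensorProduct.tmul_add, map_add, hx, hy]
  | tmul a b => simp [twist]

theorem shear_rTensor_antipode (t : A ⊗[K] A) :
    shear (K := K) ((HopfAlgebra.antipode K (A := A)).rTensor A t) =
      twist (K := K) ((CoalgebraStruct.comul (R := K) (A := A)).lTensor A t) := by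
  induction t using TensorProduct.induction_on with
  | zero => simp
  | add x y hx hy => simp only [map_add, hx, hy]
  | tmul a b =>
    rw [LinearMap.rTensor_tmul, shear_tmul, LinearMap.lTensor_tmul, antipode_tmul_one_mul]

theorem shear_antipode_comul (y : A) :
    shear (K := K) ((HopfAlgebra.antipode K (A := A)).rTensor A
      (CoalgebraStruct.comul (R := K) y)) = (1 : A) ⊗ₜ[K] y := by
  rw [shear_rTensor_antipode, ← Coalgebra.coassoc_apply, twist, LinearMap.comp_apply,
    LinearEquiv.coe_coe, LinearEquiv.symm_apply_apply, ← LinearMap.comp_apply,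
    ← LinearMap.rTensor_comp, LinearMap.comp_assoc, HopfAlgebra.mul_antipode_rTensor_comul,
    LinearMap.rTensor_comp, LinearMap.comp_apply, Coalgebra.rTensor_counit_comul]
  simp

theorem shear_surjective : Function.Surjective (shear (K := K) (A := A)) := by
  intro t
  induction t using TensorProduct.induction_on with
  | zero => exact ⟨0, map_zero _⟩
  | add x y hx hy =>
    obtain ⟨x', rfl⟩ := hx
    obtain ⟨y', rfl⟩ := hy
    exact ⟨x' + y', map_add _ _ _⟩
  | tmul x y =>
    refine ⟨x • ((HopfAlgebra.antipode K (A := A)).rTensor A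
      (CoalgebraStruct.comul (R := K) y)), ?_⟩
    rw [map_smul, shear_antipode_comul, TensorProduct.smul_tmul', smul_eq_mul, mul_one]

variable [Module.Finite K A]

theorem shear_bijective : Function.Bijective (shear (K := K) (A := A)) :=
  ⟨OrzechProperty.injective_of_surjective_endomorphism (shear (K := K) (A := A)).toLinearMap
    shear_surjective, shear_surjective⟩

/-- The shear map as an `A`-algebra automorphism of `A ⊗ A`. -/
noncomputable def shearEquiv : A ⊗[K] A ≃ₐ[A] A ⊗[K] A :=
  AlgEquiv.ofBijective shear shear_bijective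

variable [Module.Free K A]

theorem trace_one_tmul (y : A) :
    Algebra.trace A (A ⊗[K] A) ((1 : A) ⊗ₜ[K] y) = algebraMap K A (Algebra.trace K A y) := by
  have h : Algebra.lmul A (A ⊗[K] A) ((1 : A) ⊗ₜ[K] y) = (Algebra.lmul K A y).baseChange A := by
    apply TensorProduct.AlgebraTensorModule.ext
    intro a m
    simp
  rw [Algebra.trace_apply, h, LinearMap.trace_baseChange, Algebra.trace_apply]

theorem trace_eq_contr (t : A ⊗[K] A) :
    Algebra.trace A (A ⊗[K] A) t = contr A (Algebra.trace K A) t := by
  induction t using TensorProduct.induction_on with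
  | zero => simp
  | add x y hx hy => simp only [map_add, hx, hy]
  | tmul x y =>
    have : x ⊗ₜ[K] y = x • ((1 : A) ⊗ₜ[K] y) := by
      rw [TensorProduct.smul_tmul', smul_eq_mul, mul_one]
    rw [this, map_smul, trace_one_tmul, ← this, contr_tmul, smul_eq_mul, Algebra.smul_def,
      mul_comm]

/-- The trace form is an integral: `Σ a₁ Tr(a₂) = Tr(a) 1`. -/
theorem slice_trace (a : A) :
    slice (Algebra.trace K A) a = Algebra.trace K A a • (1 : A) := by
  rw [slice, LinearMap.comp_apply, ← trace_eq_contr]
  have h1 : CoalgebraStruct.comul (R := K) a = shearEquiv (K := K) ((1 : A) ⊗ₜ[K] a) := by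
    change _ = shear (K := K) ((1 : A) ⊗ₜ[K] a)
    rw [shear_tmul, ← Algebra.TensorProduct.one_def, one_mul]
  rw [h1, Algebra.trace_eq_of_algEquiv, trace_one_tmul, Algebra.algebraMap_eq_smul_one]

end Shear

section Semisimple

open Groth.Agent.Lib.ComodFP2

variable {k : Type u} [Field k] {A : Type v} [CommRing A] [HopfAlgebra k A]

/-- A functional `β` with `Σ a₁ β(a₂) = β(a) 1` and `β 1 = 1` gives the fixed-vector property. -/
theorem fpat_of_slice (β : A →ₗ[k] k) (hβ : ∀ a : A, slice β a = β a • (1 : A))
    (h1 : β 1 = 1) : FPat.{u, v, w} k A := by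
  intro X _ _ _ _ π hπ hπeq
  obtain ⟨x, hx⟩ := hπ 1
  refine ⟨act X β x, act_mem_fixedPts_of_slice β hβ x, ?_⟩
  rw [act_apply, ← contr_rTensor]
  have h2 := LinearMap.congr_fun hπeq x
  simp only [LinearMap.comp_apply] at h2
  rw [h2, hx]
  show contr k β ((1 : k) ⊗ₜ[k] (1 : A)) ≠ 0
  rw [contr_tmul, h1]
  simp

/-- Such a functional makes every comodule semisimple. -/
theorem isSemisimpleComod_of_slice (β : A →ₗ[k] k) (hβ : ∀ a : A, slice β a = β a • (1 : A))
    (h1 : β 1 = 1) (V : Type w) [AddCommGroup V] [Module k V] [c : HopfRep.Comod k A V] :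
    HopfRep.IsSemisimpleComod k A V := by
  apply isSemisimpleComod_of_forall_finite c
  intro X hX hfin W hW
  exact exists_isCompl_of_FPat (ComodSub.Comod.restr c X hX) W hW
    (fpat_of_slice.{u, v, w} β hβ h1)

/-- Over a field of characteristic zero every comodule over a finite-dimensional commutative
Hopf algebra is semisimple. -/
theorem isSemisimpleComod_of_finite_charZero [CharZero k] [Module.Finite k A]
    (V : Type w) [AddCommGroup V] [Module k V] [HopfRep.Comod k A V] :
    HopfRep.IsSemisimpleComod k A V := by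
  have hnt : Nontrivial A := by
    refine ⟨⟨1, 0, fun h => ?_⟩⟩
    have := congrArg (CoalgebraStruct.counit (R := k) (A := A)) h
    rw [Bialgebra.counit_one, map_zero] at this
    exact one_ne_zero this
  have hfr : (Module.finrank k A : k) ≠ 0 := by
    rw [Nat.cast_ne_zero]
    exact Module.finrank_pos.ne'
  refine isSemisimpleComod_of_slice ((Module.finrank k A : k)⁻¹ • Algebra.trace k A) ?_ ?_ V
  · intro a
    have h := slice_trace (K := k) a
    rw [slice, LinearMap.comp_apply] at h ⊢
    rw [LinearMap.smul_apply, smul_assoc, ← h]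
    simp [contr, LinearMap.lTensor_smul]
  · rw [LinearMap.smul_apply, ← map_one (algebraMap k A), Algebra.trace_algebraMap, smul_eq_mul,
      nsmul_eq_mul, mul_one, inv_mul_cancel₀ hfr]

end Semisimple

end Groth.Agent.Lib.HopfTraceIntegral18
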