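import Mathlib
import Groth.Agent.Lib.AffGrpd13e
import Groth.Agent.Lib.HopfTraceIntegral18

/-!
# The action groupoid of a finite flat closed subgroup, ring level (helper55)

`A` a commutative Hopf algebra over a commutative ring `R`, `I` a Hopf ideal, `H = A ⧸ I`.
`rho I : A → A ⊗ H` is the right coaction (right translation by `Spec H` on `Spec A`).  We package
the action groupoid `Spec A × Spec H ⇉ Spec A` as an `AffGrpd` (helper13) and deduce, when `A` and
`H` are finite projective over `R`, that `A` is finite locally free over the invariants `C` and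
`A ⊗_C A ≅ A ⊗_R H`.
-/

set_option autoImplicit false
universe u v
open TensorProduct CategoryTheory CategoryTheory.Limits

namespace Groth.Agent.Lib.HopfQuot55

section Pushout

variable {R : Type u} [CommRing R] {A B' S : Type v} [CommRing A] [CommRing B'] [CommRing S]
  [Algebra R A] [Algebra R B'] [Algebra R S]

/-- The base change square `A → A ⊗ S`, `A → B'`, `B' → B' ⊗ S`, `A ⊗ S → B' ⊗ S` is a pushout of
commutative rings. -/
theorem isPushout_baseChange (f : A →ₐ[R] B') :
    IsPushout (CommRingCat.ofHom f.toRingHom)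
      (CommRingCat.ofHom (Algebra.TensorProduct.includeLeft : A →ₐ[R] A ⊗[R] S).toRingHom)
      (CommRingCat.ofHom (Algebra.TensorProduct.includeLeft : B' →ₐ[R] B' ⊗[R] S).toRingHom)
      (CommRingCat.ofHom (Algebra.TensorProduct.map f (AlgHom.id R S)).toRingHom) := by
  letI : Algebra A B' := f.toRingHom.toAlgebra
  haveI : IsScalarTower R A B' := IsScalarTower.of_algebraMap_eq' (by
    ext r; simp [RingHom.algebraMap_toAlgebra])
  letI : Algebra (A ⊗[R] S) (B' ⊗[R] S) :=
    (Algebra.TensorProduct.map f (AlgHom.id R S)).toRingHom.toAlgebra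
  haveI : IsScalarTower A (A ⊗[R] S) (B' ⊗[R] S) := IsScalarTower.of_algebraMap_eq' (by
    ext a
    simp [RingHom.algebraMap_toAlgebra, Algebra.TensorProduct.algebraMap_apply])
  have H : Algebra.IsPushout A B' (A ⊗[R] S) (B' ⊗[R] S) :=
    Algebra.IsPushout.tensorProduct_tensorProduct R S A B' (by
      ext s
      simp [RingHom.algebraMap_toAlgebra])
  have := CommRingCat.isPushout_of_isPushout A B' (A ⊗[R] S) (B' ⊗[R] S)
  convert this using 2
  · ext a
    simp [Algebra.TensorProduct.algebraMap_apply]
  · ext b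
    simp [Algebra.TensorProduct.algebraMap_apply, RingHom.algebraMap_toAlgebra]

end Pushout

section Defs

variable {R : Type u} [CommRing R] {A : Type v} [CommRing A] [HopfAlgebra R A] (I : Ideal A)
  [I.IsHopfIdeal R]

/-- The right coaction of `A ⧸ I` on `A`. -/
noncomputable def rho : A →ₐ[R] A ⊗[R] (A ⧸ I) :=
  (Algebra.TensorProduct.map (AlgHom.id R A) (Ideal.Quotient.mkₐ R I)).comp
    (Bialgebra.comulAlgHom R A)

theorem rho_apply (a : A) :
    rho (R := R) I a = Algebra.TensorProduct.map (AlgHom.id R A) (Ideal.Quotient.mkₐ R I)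
      (CoalgebraStruct.comul (R := R) a) := rfl

/-- `a ↦ a ⊗ 1`. -/
noncomputable def incl : A →ₐ[R] A ⊗[R] (A ⧸ I) := Algebra.TensorProduct.includeLeft

theorem incl_apply (a : A) : incl (R := R) I a = a ⊗ₜ[R] (1 : A ⧸ I) := rfl

/-- `id ⊗ ε_H : A ⊗ H → A`. -/
noncomputable def epsR : A ⊗[R] (A ⧸ I) →ₐ[R] A :=
  ((Algebra.TensorProduct.rid R R A) : A ⊗[R] R →ₐ[R] A).comp
    (Algebra.TensorProduct.map (AlgHom.id R A) (Bialgebra.counitAlgHom R (A ⧸ I)))

theorem epsR_tmul (a : A) (h : A ⧸ I) :
    epsR (R := R) I (a ⊗ₜ[R] h) = CoalgebraStruct.counit (R := R) h • a := by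
  simp [epsR]

theorem epsR_incl (a : A) : epsR (R := R) I (incl (R := R) I a) = a := by
  rw [incl_apply, epsR_tmul, Bialgebra.counit_one, one_smul]

theorem epsR_rho (a : A) : epsR (R := R) I (rho (R := R) I a) = a := by
  have h1 : ∀ t : A ⊗[R] A,
      epsR (R := R) I
          (Algebra.TensorProduct.map (AlgHom.id R A) (Ideal.Quotient.mkₐ R I) t) =
        Algebra.TensorProduct.rid R R A
          ((CoalgebraStruct.counit (R := R) (A := A)).lTensor A t) := by
    intro t
    induction t using TensorProduct.induction_on with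
    | zero => simp
    | add s t hs ht => simp only [map_add, hs, ht]
    | tmul c d =>
      simp only [Algebra.TensorProduct.map_tmul, AlgHom.coe_id, id_eq, epsR_tmul,
        LinearMap.lTensor_tmul, Ideal.Quotient.mkₐ_eq_mk, Algebra.TensorProduct.rid_tmul]
      rfl
  rw [rho_apply, h1, Coalgebra.lTensor_counit_comul]
  simp

/-- `ρ ⊗ id`. -/
noncomputable def p0 : A ⊗[R] (A ⧸ I) →ₐ[R] (A ⊗[R] (A ⧸ I)) ⊗[R] (A ⧸ I) :=
  Algebra.TensorProduct.map (rho (R := R) I) (AlgHom.id R (A ⧸ I))

/-- `z ↦ z ⊗ 1`. -/
noncomputable def p1 : A ⊗[R] (A ⧸ I) →ₐ[R] (A ⊗[R] (A ⧸ I)) ⊗[R] (A ⧸ I) :=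
  Algebra.TensorProduct.includeLeft

/-- `id ⊗ Δ_H`, reassociated. -/
noncomputable def cc : A ⊗[R] (A ⧸ I) →ₐ[R] (A ⊗[R] (A ⧸ I)) ⊗[R] (A ⧸ I) :=
  ((Algebra.TensorProduct.assoc R R R A (A ⧸ I) (A ⧸ I)).symm : _ →ₐ[R] _).comp
    (Algebra.TensorProduct.map (AlgHom.id R A) (Bialgebra.comulAlgHom R (A ⧸ I)))

theorem cc_incl (a : A) : cc (R := R) I (incl (R := R) I a) = p1 (R := R) I (incl (R := R) I a) := by
  simp [cc, incl, p1, Algebra.TensorProduct.one_def]

theorem p0_incl (a : A) : p0 (R := R) I (incl (R := R) I a) = p1 (R := R) I (rho (R := R) I a) := by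
  simp [p0, incl, p1]

/-- Coassociativity of the coaction. -/
theorem cc_rho (a : A) : cc (R := R) I (rho (R := R) I a) = p0 (R := R) I (rho (R := R) I a) := by
  have hπ : ∀ x : A, CoalgebraStruct.comul (R := R) (Ideal.Quotient.mk I x) =
      TensorProduct.map (Ideal.Quotient.mkₐ R I).toLinearMap (Ideal.Quotient.mkₐ R I).toLinearMap
        (CoalgebraStruct.comul (R := R) x) := fun x =>
    (CoalgHomClass.map_comp_comul_apply (Bialgebra.Quotient.mkBialgHom (R := R) I) x).symm
  -- both sides as linear maps applied to `Δ a`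
  have key : ∀ t : A ⊗[R] A,
      cc (R := R) I (Algebra.TensorProduct.map (AlgHom.id R A) (Ideal.Quotient.mkₐ R I) t) =
        ((TensorProduct.assoc R A (A ⧸ I) (A ⧸ I)).symm
          (TensorProduct.map LinearMap.id
            (TensorProduct.map (Ideal.Quotient.mkₐ R I).toLinearMap
              (Ideal.Quotient.mkₐ R I).toLinearMap)
            ((CoalgebraStruct.comul (R := R) (A := A)).lTensor A t))) := by
    intro t
    induction t using TensorProduct.induction_on with
    | zero => simp
    | add s t hs ht => simp only [map_add, hs, ht]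
    | tmul c d =>
      simp only [Algebra.TensorProduct.map_tmul, AlgHom.coe_id, id_eq, cc, AlgHom.comp_apply,
        Ideal.Quotient.mkₐ_eq_mk, Bialgebra.comulAlgHom_apply, LinearMap.lTensor_tmul,
        TensorProduct.map_tmul, LinearMap.id_apply]
      rw [hπ]
      generalize CoalgebraStruct.comul (R := R) d = w
      induction w using TensorProduct.induction_on with
      | zero => simp
      | add s t hs ht => simp only [map_add, tmul_add, hs, ht]
      | tmul x y => simp
  have key2 : ∀ t : A ⊗[R] A,
      p0 (R := R) I (Algebra.TensorProduct.map (AlgHom.id R A) (Ideal.Quotient.mkₐ R I) t) =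
        ((TensorProduct.assoc R A (A ⧸ I) (A ⧸ I)).symm
          (TensorProduct.map LinearMap.id
            (TensorProduct.map (Ideal.Quotient.mkₐ R I).toLinearMap
              (Ideal.Quotient.mkₐ R I).toLinearMap)
            (TensorProduct.assoc R A A A
              ((CoalgebraStruct.comul (R := R) (A := A)).rTensor A t)))) := by
    intro t
    induction t using TensorProduct.induction_on with
    | zero => simp
    | add s t hs ht => simp only [map_add, hs, ht]
    | tmul c d =>
      simp only [Algebra.TensorProduct.map_tmul, AlgHom.coe_id, id_eq, p0,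
        Ideal.Quotient.mkₐ_eq_mk, LinearMap.rTensor_tmul, rho_apply]
      generalize CoalgebraStruct.comul (R := R) c = w
      induction w using TensorProduct.induction_on with
      | zero => simp
      | add s t hs ht => simp only [map_add, add_tmul, hs, ht]
      | tmul x y => simp
  rw [rho_apply, key, key2, Coalgebra.coassoc_apply]

end Defs

end Groth.Agent.Lib.HopfQuot55
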