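import Mathlib
import Groth.Agent.Lib.HopfQuot55a

/-!
# The action groupoid of a finite flat closed subgroup, ring level: the `AffGrpd` (helper55)
-/

set_option autoImplicit false
universe u v
open TensorProduct CategoryTheory CategoryTheory.Limits

namespace Groth.Agent.Lib.HopfQuot55

open Groth.Agent.Lib.HopfTraceIntegral18 Groth.Agent.Lib.AffGrpd13

section Theta

variable {R : Type u} [CommRing R] {A : Type v} [CommRing A] [HopfAlgebra R A] (I : Ideal A)
  [I.IsHopfIdeal R] [Module.Finite R (A ⧸ I)]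

/-- The shear automorphism `(a ⊗ y) ⊗ x ↦ (a ⊗ y x₁) ⊗ x₂` of `(A ⊗ H) ⊗ H`. -/
noncomputable def Theta :
    (A ⊗[R] (A ⧸ I)) ⊗[R] (A ⧸ I) ≃ₐ[R] (A ⊗[R] (A ⧸ I)) ⊗[R] (A ⧸ I) :=
  (Algebra.TensorProduct.assoc R R R A (A ⧸ I) (A ⧸ I)).trans
    ((Algebra.TensorProduct.congr (AlgEquiv.refl (R := R) (A₁ := A))
      ((shearEquiv (K := R) (A := A ⧸ I)).restrictScalars R)).trans
      (Algebra.TensorProduct.assoc R R R A (A ⧸ I) (A ⧸ I)).symm)

theorem Theta_p1 (z : A ⊗[R] (A ⧸ I)) :
    Theta (R := R) I (p1 (R := R) I z) = p1 (R := R) I z := by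
  induction z using TensorProduct.induction_on with
  | zero => simp
  | add s t hs ht => simp only [map_add, hs, ht]
  | tmul a y =>
    simp only [Theta, p1, AlgEquiv.trans_apply, Algebra.TensorProduct.includeLeft_apply,
      Algebra.TensorProduct.assoc_tmul, Algebra.TensorProduct.congr_apply,
      Algebra.TensorProduct.map_tmul]
    have : (shearEquiv (K := R) (A := A ⧸ I)) (y ⊗ₜ[R] (1 : A ⧸ I)) = y ⊗ₜ[R] (1 : A ⧸ I) := by
      change shear (K := R) (y ⊗ₜ[R] (1 : A ⧸ I)) = _
      rw [shear_tmul, Bialgebra.comul_one, mul_one]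
    simp [this]

theorem Theta_map_incl (z : A ⊗[R] (A ⧸ I)) :
    Theta (R := R) I (Algebra.TensorProduct.map (incl (R := R) I) (AlgHom.id R (A ⧸ I)) z) =
      cc (R := R) I z := by
  induction z using TensorProduct.induction_on with
  | zero => simp
  | add s t hs ht => simp only [map_add, hs, ht]
  | tmul a x =>
    simp only [Theta, cc, incl, AlgEquiv.trans_apply, Algebra.TensorProduct.includeLeft_apply,
      Algebra.TensorProduct.assoc_tmul, Algebra.TensorProduct.congr_apply,
      Algebra.TensorProduct.map_tmul, AlgHom.coe_id, id_eq, AlgHom.comp_apply]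
    have : (shearEquiv (K := R) (A := A ⧸ I)) ((1 : A ⧸ I) ⊗ₜ[R] x) =
        CoalgebraStruct.comul (R := R) x := by
      change shear (K := R) ((1 : A ⧸ I) ⊗ₜ[R] x) = _
      rw [shear_tmul, ← Algebra.TensorProduct.one_def, one_mul]
    simp [this]

end Theta

section Grpd

variable {R : Type u} [CommRing R] {A : Type v} [CommRing A] [HopfAlgebra R A] (I : Ideal A)
  [I.IsHopfIdeal R] [Module.Finite R (A ⧸ I)]

/-- The action groupoid `Spec A × Spec H ⇉ Spec A` (`s = pr₁`, `t =` action), at ring level. -/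
noncomputable def grpd :
    AffGrpd (CommRingCat.of A) (CommRingCat.of (A ⊗[R] (A ⧸ I)))
      (CommRingCat.of ((A ⊗[R] (A ⧸ I)) ⊗[R] (A ⧸ I))) where
  s := CommRingCat.ofHom (incl (R := R) I).toRingHom
  t := CommRingCat.ofHom (rho (R := R) I).toRingHom
  e := CommRingCat.ofHom (epsR (R := R) I).toRingHom
  p0 := CommRingCat.ofHom (p0 (R := R) I).toRingHom
  p1 := CommRingCat.ofHom (p1 (R := R) I).toRingHom
  cc := CommRingCat.ofHom (cc (R := R) I).toRingHom
  het := by
    ext a
    exact epsR_rho (R := R) I a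
  hes := by
    ext a
    exact epsR_incl (R := R) I a
  h1 := by
    ext a
    exact p0_incl (R := R) I a
  h2 := by
    ext a
    exact cc_incl (R := R) I a
  h3 := by
    ext a
    exact cc_rho (R := R) I a
  sq1 := (isPushout_baseChange (R := R) (S := A ⧸ I) (rho (R := R) I)).flip
  sq2 := by
    have h := (isPushout_baseChange (R := R) (S := A ⧸ I) (incl (R := R) I)).flip
    refine h.of_iso (Iso.refl _) (Iso.refl _) (Iso.refl _)
      (Theta (R := R) I).toRingEquiv.toCommRingCatIso ?_ ?_ ?_ ?_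
    · simp only [Iso.refl_hom, Category.comp_id, Category.id_comp]
      rfl
    · simp
    · refine CommRingCat.hom_ext (RingHom.ext fun z => ?_)
      exact Theta_map_incl (R := R) I z
    · refine CommRingCat.hom_ext (RingHom.ext fun z => ?_)
      exact Theta_p1 (R := R) I z

theorem grpd_inv_iff (a : A) :
    a ∈ (grpd (R := R) I).inv ↔ rho (R := R) I a = a ⊗ₜ[R] (1 : A ⧸ I) :=
  ⟨fun h => h.symm, fun h => h.symm⟩

end Grpd

end Groth.Agent.Lib.HopfQuot55
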