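import Mathlib
import Groth.Agent.Lib.HopfQuot55b

/-!
# Quotient of a finite flat group by a finite flat closed subgroup, ring level (helper55)

`A` finite projective Hopf algebra over `R`, `I` a Hopf ideal with `A ⧸ I` finite projective.
Then `A` is finite locally free over the ring `C` of right `A ⧸ I`-invariants and
`A ⊗_C A ≅ A ⊗_R (A ⧸ I)` (ring-level form of Grothendieck's theorem, through helper13's `AffGrpd`).
-/

set_option autoImplicit false
universe u v
open TensorProduct CategoryTheory CategoryTheory.Limits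

namespace Groth.Agent.Lib.HopfQuot55

open Groth.Agent.Lib.HopfTraceIntegral18 Groth.Agent.Lib.AffGrpd13

section Hyp

variable {R : Type u} [CommRing R] {A : Type v} [CommRing A] [HopfAlgebra R A] (I : Ideal A)
  [I.IsHopfIdeal R]

theorem tmul_one_mul (a : A) (z : A ⊗[R] (A ⧸ I)) :
    (a ⊗ₜ[R] (1 : A ⧸ I)) * z = a • z := by
  induction z using TensorProduct.induction_on with
  | zero => simp
  | add z w hz hw => simp only [smul_add, mul_add, hz, hw]
  | tmul c h =>
    rw [TensorProduct.smul_tmul', Algebra.TensorProduct.tmul_mul_tmul, one_mul, smul_eq_mul]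

/-- Every element of `A ⊗ H` is an `A`-linear combination of the `ρ(b)`. -/
theorem span_range_rho :
    Submodule.span A (Set.range (rho (R := R) I)) = (⊤ : Submodule A (A ⊗[R] (A ⧸ I))) := by
  rw [eq_top_iff]
  rintro z -
  -- `z = (id ⊗ π)(w)` and `w = shear(w')`
  obtain ⟨w, rfl⟩ : ∃ w : A ⊗[R] A,
      Algebra.TensorProduct.map (AlgHom.id R A) (Ideal.Quotient.mkₐ R I) w = z :=
    Algebra.TensorProduct.map_surjective (AlgHom.id R A) (Ideal.Quotient.mkₐ R I)
      Function.surjective_id (Ideal.Quotient.mkₐ_surjective R I) z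
  obtain ⟨w', rfl⟩ := shear_surjective (K := R) (A := A) w
  induction w' using TensorProduct.induction_on with
  | zero => simp
  | add s t hs ht =>
    simp only [map_add]
    exact Submodule.add_mem _ hs ht
  | tmul a b =>
    rw [shear_tmul, map_mul]
    have h1 : Algebra.TensorProduct.map (AlgHom.id R A) (Ideal.Quotient.mkₐ R I)
        (a ⊗ₜ[R] (1 : A)) = a ⊗ₜ[R] (1 : A ⧸ I) := by simp
    have h2 : (a ⊗ₜ[R] (1 : A ⧸ I)) * rho (R := R) I b = a • rho (R := R) I b :=
      tmul_one_mul (R := R) I a _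
    rw [h1]
    change (a ⊗ₜ[R] (1 : A ⧸ I)) * rho (R := R) I b ∈ _
    rw [h2]
    exact Submodule.smul_mem _ _ (Submodule.subset_span ⟨b, rfl⟩)

end Hyp

section Main

variable {R : Type u} [CommRing R] {A : Type v} [CommRing A] [HopfAlgebra R A] (I : Ideal A)
  [I.IsHopfIdeal R] [Module.Finite R (A ⧸ I)] [Module.Projective R (A ⧸ I)]

theorem grpd_algebra_eq :
    ((grpd (R := R) I).s.hom.toAlgebra : Algebra A (A ⊗[R] (A ⧸ I))) =
      Algebra.TensorProduct.leftAlgebra :=
  Algebra.algebra_ext _ _ fun a => by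
    rw [Algebra.TensorProduct.algebraMap_apply]
    rfl

/-- The subalgebra of right `A ⧸ I`-invariants. -/
noncomputable abbrev coinv : Subalgebra R A :=
  AlgHom.equalizer (rho (R := R) I) (incl (R := R) I)

theorem mem_coinv_iff (a : A) :
    a ∈ coinv (R := R) I ↔ rho (R := R) I a = a ⊗ₜ[R] (1 : A ⧸ I) := Iff.rfl

theorem grpd_inv_eq : (grpd (R := R) I).inv = (coinv (R := R) I).toSubring := by
  ext a
  exact grpd_inv_iff (R := R) I a

theorem grpd_hfin : @Module.Finite (CommRingCat.of A) (CommRingCat.of (A ⊗[R] (A ⧸ I))) _ _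
    ((grpd (R := R) I).s.hom.toAlgebra).toModule := by
  rw [grpd_algebra_eq]
  exact inferInstanceAs (Module.Finite A (A ⊗[R] (A ⧸ I)))

theorem grpd_hproj : @Module.Projective (CommRingCat.of A) _ (CommRingCat.of (A ⊗[R] (A ⧸ I))) _
    ((grpd (R := R) I).s.hom.toAlgebra).toModule := by
  rw [grpd_algebra_eq]
  exact inferInstanceAs (Module.Projective A (A ⊗[R] (A ⧸ I)))

theorem grpd_hsurj : @Submodule.span (CommRingCat.of A) (CommRingCat.of (A ⊗[R] (A ⧸ I))) _ _
    ((grpd (R := R) I).s.hom.toAlgebra).toModule (Set.range (grpd (R := R) I).t.hom) = ⊤ := by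
  rw [grpd_algebra_eq]
  exact span_range_rho (R := R) I

/-- `A` is finite locally free over the invariants. -/
theorem finite_flat_fp_coinv :
    Module.Finite (coinv (R := R) I) A ∧ Module.Flat (coinv (R := R) I) A ∧
      Module.FinitePresentation (coinv (R := R) I) A := by
  have h := (grpd (R := R) I).finite_flat_fp (grpd_hfin (R := R) I) (grpd_hproj (R := R) I)
    (grpd_hsurj (R := R) I)
  rw [grpd_inv_eq] at h
  exact h

/-- `A ⊗_C A → A ⊗_R H`, `a ⊗ a' ↦ ρ(a) (a' ⊗ 1)`, is bijective. -/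
theorem tensor_bijective_coinv (Ψ : A ⊗[coinv (R := R) I] A →+ A ⊗[R] (A ⧸ I))
    (hΨ : ∀ a a' : A, Ψ (a ⊗ₜ a') = rho (R := R) I a * (a' ⊗ₜ[R] (1 : A ⧸ I))) :
    Function.Bijective Ψ := by
  have key : ∀ (C : Subring A) (_ : (grpd (R := R) I).inv = C)
      (Ψ : A ⊗[C] A →+ A ⊗[R] (A ⧸ I)),
      (∀ a a' : A, Ψ (a ⊗ₜ a') = rho (R := R) I a * (a' ⊗ₜ[R] (1 : A ⧸ I))) →
      Function.Bijective Ψ := by
    rintro C rfl Ψ hΨ
    exact (grpd (R := R) I).tensor_bijective (grpd_hfin (R := R) I) (grpd_hproj (R := R) I)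
      (grpd_hsurj (R := R) I) Ψ hΨ
  exact key (coinv (R := R) I).toSubring (grpd_inv_eq (R := R) I) Ψ hΨ

end Main

end Groth.Agent.Lib.HopfQuot55
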