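import Mathlib

/-!
# Retractions of finite projective ring extensions, and transitivity of ranks (helper55)

* `exists_retraction`: if `C → A` is injective and `A` is a finite projective `C`-module then there is
  a `C`-linear `φ : A → C` with `φ 1 = 1`.
* `finite_projective_of_retraction`: then `C` is finite projective over any base over which `A` is.
* `rankAtStalk_trans`: for `R → C → A` with `C` finite flat over `R`, `A` finite flat over `C`
  of rank `h (P ∩ R)` at every prime `P` of `C`: `rank_q A = h q * rank_q C`.
Mathlib only.
-/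

set_option autoImplicit false
universe u v w
open TensorProduct

namespace Groth.Agent.Lib.HopfQuot55

section Retraction

variable {C : Type u} {A : Type v} [CommRing C] [CommRing A] [Algebra C A]

theorem exists_retraction [Module.Finite C A] [Module.Projective C A]
    (hinj : Function.Injective (algebraMap C A)) : ∃ φ : A →ₗ[C] C, φ 1 = 1 := by
  obtain ⟨n, f, g, -, -, hfg⟩ := Module.Finite.exists_comp_eq_id_of_projective C A
  let τ : Ideal C := LinearMap.range (LinearMap.applyₗ (1 : A) : (A →ₗ[C] C) →ₗ[C] C)
  have hτ : ∀ (φ : A →ₗ[C] C) (a : A), φ a ∈ τ := fun φ a =>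
    ⟨φ ∘ₗ LinearMap.mulLeft C a, by simp⟩
  have hle : (⊤ : Submodule C A) ≤ τ • (⊤ : Submodule C A) := by
    intro a _
    have h1 : a = ∑ j, g a j • f (Pi.single j 1) := by
      conv_lhs => rw [← LinearMap.id_apply (R := C) a, ← hfg, LinearMap.comp_apply]
      conv_lhs => rw [← Finset.univ_sum_single (g a)]
      rw [map_sum]
      refine Finset.sum_congr rfl fun j _ => ?_
      rw [← map_smul]
      congr 1
      ext k
      by_cases hk : k = j
      · subst hk; simp
      · simp [Pi.single_apply, hk]
    rw [h1]
    refine Submodule.sum_mem _ fun j _ => Submodule.smul_mem_smul ?_ trivial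
    exact hτ (LinearMap.proj j ∘ₗ g) a
  obtain ⟨r, hr1, hr0⟩ := Submodule.exists_sub_one_mem_and_smul_eq_zero_of_fg_of_le_smul τ
    (⊤ : Submodule C A) Module.Finite.fg_top hle
  have hr : r = 0 := by
    apply hinj
    have := hr0 1 trivial
    rw [Algebra.smul_def, mul_one] at this
    rw [this, map_zero]
  subst hr
  have h1 : (1 : C) ∈ τ := by
    have := τ.neg_mem hr1
    simpa using this
  obtain ⟨φ, hφ⟩ := h1
  exact ⟨φ, hφ⟩

variable {R : Type w} [CommRing R] [Algebra R C] [Algebra R A] [IsScalarTower R C A]

theorem finite_projective_of_retraction (φ : A →ₗ[C] C) (hφ : φ 1 = 1)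
    [Module.Finite R A] [Module.Projective R A] :
    Module.Finite R C ∧ Module.Projective R C := by
  let i : C →ₗ[R] A := (Algebra.linearMap C A).restrictScalars R
  let r : A →ₗ[R] C := φ.restrictScalars R
  have hri : ∀ c : C, r (i c) = c := by
    intro c
    change φ (algebraMap C A c) = c
    rw [Algebra.algebraMap_eq_smul_one, map_smul, hφ, smul_eq_mul, mul_one]
  refine ⟨Module.Finite.of_surjective r fun c => ⟨i c, hri c⟩, ?_⟩
  exact Module.Projective.of_split i r (LinearMap.ext hri)

end Retraction

end Groth.Agent.Lib.HopfQuot55
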