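import Mathlib

/-!
# Transitivity of ranks of finite locally free modules (helper55)

`rankAtStalk_trans`: for `R → C → A` with `C` finite flat over `R`, `A` finite flat over `C`
of rank `h (P ∩ R)` at every prime `P` of `C`: `rank_q A = h q * rank_q C`.
Mathlib only.
-/

set_option autoImplicit false
universe u v w
open TensorProduct

namespace Groth.Agent.Lib.HopfQuot55

section Field

variable {F : Type u} [Field F] {C' : Type v} [CommRing C'] [Algebra F C'] [Module.Finite F C']
  {M : Type w} [AddCommGroup M] [Module C' M] [Module F M] [IsScalarTower F C' M]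
  [Module.Finite C' M] [Module.Flat C' M]

/-- A finite flat module of constant rank `n` over a finite-dimensional algebra. -/
theorem finrank_eq_mul_of_constant_rank (n : ℕ)
    (rk : ∀ P : MaximalSpectrum C',
      Module.finrank (C' ⧸ P.1) ((C' ⧸ P.1) ⊗[C'] M) = n) :
    Module.finrank F M = n * Module.finrank F C' := by
  haveI : IsArtinianRing C' := IsArtinianRing.of_finite F C'
  obtain ⟨b⟩ := Module.nonempty_basis_of_flat_of_finrank_eq C' M n rk
  have e : M ≃ₗ[F] (Fin n → C') := b.equivFun.restrictScalars F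
  rw [e.finrank_eq, Module.finrank_pi_fintype]
  simp

end Field

section Trans

attribute [local instance] Algebra.TensorProduct.rightAlgebra

variable {R : Type u} {C : Type v} {A : Type w} [CommRing R] [CommRing C] [CommRing A]
  [Algebra R C] [Algebra C A] [Algebra R A] [IsScalarTower R C A]
  [Module.Finite R C] [Module.Flat R C] [Module.Finite C A] [Module.Flat C A]
  [Module.Finite R A] [Module.Flat R A]

theorem comap_comap_eq (q : PrimeSpectrum R)
    (P : PrimeSpectrum (q.asIdeal.ResidueField ⊗[R] C)) :
    (P.comap (algebraMap C (q.asIdeal.ResidueField ⊗[R] C))).comap (algebraMap R C) = q := by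
  let F := q.asIdeal.ResidueField
  have h1 : (algebraMap C (F ⊗[R] C)).comp (algebraMap R C) =
      (algebraMap F (F ⊗[R] C)).comp (algebraMap R F) := by
    rw [← IsScalarTower.algebraMap_eq, ← IsScalarTower.algebraMap_eq]
  ext x
  change algebraMap C (F ⊗[R] C) (algebraMap R C x) ∈ P.asIdeal ↔ x ∈ q.asIdeal
  have h2 : algebraMap C (F ⊗[R] C) (algebraMap R C x) =
      algebraMap F (F ⊗[R] C) (algebraMap R F x) := RingHom.congr_fun h1 x
  rw [h2]
  constructor
  · intro hx
    by_contra hxq
    have hne : algebraMap R F x ≠ 0 := by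
      rwa [Ne, Ideal.algebraMap_residueField_eq_zero]
    have hu : IsUnit (algebraMap F (F ⊗[R] C) (algebraMap R F x)) :=
      (isUnit_iff_ne_zero.mpr hne).map _
    exact P.isPrime.ne_top (Ideal.eq_top_of_isUnit_mem _ hx hu)
  · intro hx
    rw [Ideal.algebraMap_residueField_eq_zero.mpr hx, map_zero]
    exact zero_mem _

theorem rankAtStalk_trans (h : PrimeSpectrum R → ℕ)
    (hrank : ∀ P : PrimeSpectrum C, Module.rankAtStalk A P = h (P.comap (algebraMap R C)))
    (q : PrimeSpectrum R) :
    Module.rankAtStalk (R := R) A q = h q * Module.rankAtStalk (R := R) C q := by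
  let F := q.asIdeal.ResidueField
  let C' := F ⊗[R] C
  have hrk : ∀ P : MaximalSpectrum C',
      Module.finrank (C' ⧸ P.1) ((C' ⧸ P.1) ⊗[C'] (C' ⊗[C] A)) = h q := by
    intro P
    letI : Field (C' ⧸ P.1) := Ideal.Quotient.field P.1
    let p0 : PrimeSpectrum (C' ⧸ P.1) := ⟨⊥, Ideal.bot_prime⟩
    have e1 := congrFun (Module.rankAtStalk_eq_finrank_of_free (R := C' ⧸ P.1)
      (M := (C' ⧸ P.1) ⊗[C'] (C' ⊗[C] A))) p0
    have e2 := Module.rankAtStalk_baseChange (R := C') (M := C' ⊗[C] A) (S := C' ⧸ P.1) p0
    have e3 := Module.rankAtStalk_baseChange (R := C) (M := A) (S := C')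
      (p0.comap (algebraMap C' (C' ⧸ P.1)))
    rw [e2, e3, hrank, comap_comap_eq] at e1
    simpa using e1.symm
  have e1 : Module.finrank F (C' ⊗[C] A) = h q * Module.finrank F C' :=
    finrank_eq_mul_of_constant_rank (h q) hrk
  have e2 : Module.finrank F (C' ⊗[C] A) = Module.finrank F (F ⊗[R] A) :=
    (Algebra.IsPushout.cancelBaseChange R F C C' A).finrank_eq
  rw [Module.rankAtStalk_eq, Module.rankAtStalk_eq (M := C), ← e2, e1]

end Trans

end Groth.Agent.Lib.HopfQuot55
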