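import Mathlib
import Groth.Agent.Lib.HopfQuot55c
import Groth.Agent.Lib.HopfQuot55d
import Groth.Agent.Lib.HopfQuot55e

/-!
# Order of a finite flat group = order of a subgroup × index (helper55)
-/

set_option autoImplicit false
universe u v
open TensorProduct

namespace Groth.Agent.Lib.HopfQuot55

section Rank

variable {R : Type u} [CommRing R] {A : Type v} [CommRing A] [HopfAlgebra R A] (I : Ideal A)
  [I.IsHopfIdeal R] [Module.Finite R (A ⧸ I)] [Module.Projective R (A ⧸ I)]

theorem rho_smul_coinv (c : coinv (R := R) I) (a : A) :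
    rho (R := R) I (c • a) = c • rho (R := R) I a := by
  have hc : rho (R := R) I c.1 = c.1 ⊗ₜ[R] (1 : A ⧸ I) := c.2
  change rho (R := R) I (c.1 * a) = c.1 • rho (R := R) I a
  rw [map_mul, hc, tmul_one_mul]

/-- `ρ` as a `C`-linear map. -/
noncomputable def rhoLin : A →ₗ[coinv (R := R) I] A ⊗[R] (A ⧸ I) where
  toFun := rho (R := R) I
  map_add' := map_add _
  map_smul' := rho_smul_coinv (R := R) I

/-- `A ⊗_C A → A ⊗_R H`, `a ⊗ a' ↦ a • ρ(a')`. -/
noncomputable def PhiLin : A ⊗[coinv (R := R) I] A →ₗ[A] A ⊗[R] (A ⧸ I) :=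
  LinearMap.liftBaseChange A (rhoLin (R := R) I)

theorem PhiLin_tmul (a a' : A) :
    PhiLin (R := R) I (a ⊗ₜ a') = a • rho (R := R) I a' :=
  LinearMap.liftBaseChange_tmul A (rhoLin (R := R) I) a a'

theorem PhiLin_bijective : Function.Bijective (PhiLin (R := R) I) := by
  let Ψ : A ⊗[coinv (R := R) I] A →+ A ⊗[R] (A ⧸ I) :=
    (PhiLin (R := R) I).toAddMonoidHom.comp
      (TensorProduct.comm (coinv (R := R) I) A A).toLinearMap.toAddMonoidHom
  have hΨ : ∀ a a' : A, Ψ (a ⊗ₜ a') = rho (R := R) I a * (a' ⊗ₜ[R] (1 : A ⧸ I)) := by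
    intro a a'
    change PhiLin (R := R) I (TensorProduct.comm (coinv (R := R) I) A A (a ⊗ₜ a')) = _
    rw [TensorProduct.comm_tmul, PhiLin_tmul, mul_comm, tmul_one_mul]
  have hb := tensor_bijective_coinv (R := R) I Ψ hΨ
  have : (Ψ : _ → _) = (PhiLin (R := R) I) ∘ (TensorProduct.comm (coinv (R := R) I) A A) := rfl
  rw [this] at hb
  exact (Function.Bijective.of_comp_iff _
    (TensorProduct.comm (coinv (R := R) I) A A).bijective).mp hb

section Final

variable [Module.Finite R A] [Module.Projective R A]

/-- The invariants are a finite projective `R`-module. -/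
theorem finite_projective_coinv :
    Module.Finite R (coinv (R := R) I) ∧ Module.Projective R (coinv (R := R) I) := by
  obtain ⟨hfin, hflat, hfp⟩ := finite_flat_fp_coinv (R := R) I
  haveI := hfin
  haveI := hflat
  haveI := hfp
  haveI : Module.Projective (coinv (R := R) I) A := Module.Flat.projective_of_finitePresentation
  have hinj : Function.Injective (algebraMap (coinv (R := R) I) A) := Subtype.val_injective
  obtain ⟨φ, hφ⟩ := exists_retraction hinj
  exact finite_projective_of_retraction (R := R) φ hφ

/-- The rank of `A` over the invariants at `P` is the rank of `A ⧸ I` at `P ∩ R`. -/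
theorem rankAtStalk_over_coinv (P : PrimeSpectrum (coinv (R := R) I)) :
    Module.rankAtStalk A P =
      Module.rankAtStalk (R := R) (A ⧸ I) (P.comap (algebraMap R (coinv (R := R) I))) := by
  obtain ⟨hfin, hflat, hfp⟩ := finite_flat_fp_coinv (R := R) I
  haveI := hfin
  haveI := hflat
  have hinj : Function.Injective (algebraMap (coinv (R := R) I) A) := Subtype.val_injective
  haveI : Algebra.IsIntegral (coinv (R := R) I) A := Algebra.IsIntegral.of_finite _ _
  haveI : FaithfulSMul (coinv (R := R) I) A := (faithfulSMul_iff_algebraMap_injective _ _).mpr hinj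
  obtain ⟨Q, rfl⟩ := Algebra.IsIntegral.comap_surjective (coinv (R := R) I) A P
  have e1 := Module.rankAtStalk_baseChange (R := coinv (R := R) I) (M := A) (S := A) Q
  have e2 := Module.rankAtStalk_baseChange (R := R) (M := A ⧸ I) (S := A) Q
  have e3 := congrFun (Module.rankAtStalk_eq_of_equiv
    (LinearEquiv.ofBijective (PhiLin (R := R) I) (PhiLin_bijective (R := R) I))) Q
  rw [← e1, e3, e2]
  congr 1

/-- The order of `G` is the order of `G'` times the index. -/
theorem rankAtStalk_eq_mul (q : PrimeSpectrum R) :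
    Module.rankAtStalk A q =
      Module.rankAtStalk (A ⧸ I) q * Module.rankAtStalk (coinv (R := R) I) q := by
  obtain ⟨hfin, hflat, hfp⟩ := finite_flat_fp_coinv (R := R) I
  haveI := hfin
  haveI := hflat
  obtain ⟨hfinC, hprojC⟩ := finite_projective_coinv (R := R) I
  haveI := hfinC
  haveI := hprojC
  exact rankAtStalk_trans (R := R) (C := coinv (R := R) I) (A := A)
    (Module.rankAtStalk (R := R) (A ⧸ I)) (rankAtStalk_over_coinv (R := R) I) q

end Final

end Rank

end Groth.Agent.Lib.HopfQuot55
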