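import Mathlib
import Groth.Agent.Lib.HopfQuot55f
import Groth.Prelude.Def_SGA3

/-!
# Quotient by a finite flat closed subgroup: faithful flatness and the kernel (helper55)

* `faithfullyFlat_coinv`: `A` is faithfully flat over the right `A ⧸ I`-invariants.
* `augIdealSpan_coinv_eq`: the ideal of `A` generated by the augmentation ideal of the invariants is
  `I` (the kernel of `G → G/G'` is `G'`).
-/

set_option autoImplicit false
universe u v
open scoped TensorProduct

namespace Groth.Agent.Lib.HopfQuot55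

section FF

variable {R : Type u} [CommRing R] {A : Type v} [CommRing A] [HopfAlgebra R A] (I : Ideal A)
  [I.IsHopfIdeal R] [Module.Finite R (A ⧸ I)] [Module.Projective R (A ⧸ I)]

/-- A `C`-linear retraction of `C → A`, `C` the invariants. -/
theorem exists_retraction_coinv : ∃ φ : A →ₗ[coinv (R := R) I] coinv (R := R) I, φ 1 = 1 := by
  obtain ⟨hfin, hflat, hfp⟩ := finite_flat_fp_coinv (R := R) I
  haveI := hfin
  haveI := hflat
  haveI := hfp
  haveI : Module.Projective (coinv (R := R) I) A := Module.Flat.projective_of_finitePresentation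
  exact exists_retraction (Subtype.val_injective)

theorem faithfullyFlat_coinv : Module.FaithfullyFlat (coinv (R := R) I) A := by
  obtain ⟨hfin, hflat, hfp⟩ := finite_flat_fp_coinv (R := R) I
  obtain ⟨φ, hφ⟩ := exists_retraction_coinv (R := R) I
  refine { toFlat := hflat, submodule_ne_top := ?_ }
  intro m hm htop
  have h1 : (1 : A) ∈ m • (⊤ : Submodule (coinv (R := R) I) A) := by rw [htop]; trivial
  have h2 : ∀ x ∈ m • (⊤ : Submodule (coinv (R := R) I) A), φ x ∈ m := by
    intro x hx
    refine Submodule.smul_induction_on hx ?_ ?_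
    · intro c hc a _
      rw [map_smul, smul_eq_mul]
      exact m.mul_mem_right _ hc
    · intro x y hx hy
      rw [map_add]
      exact m.add_mem hx hy
  have h3 := h2 1 h1
  rw [hφ] at h3
  exact hm.ne_top ((Ideal.eq_top_iff_one m).mpr h3)

end FF

section Aug

variable {R A : Type u} [CommRing R] [CommRing A] [HopfAlgebra R A] (I : Ideal A)
  [I.IsHopfIdeal R]

/-- `ε ⊗ id : A ⊗ H → H`. -/
noncomputable def epsL : A ⊗[R] (A ⧸ I) →ₐ[R] (A ⧸ I) :=
  ((Algebra.TensorProduct.lid R (A ⧸ I)) : R ⊗[R] (A ⧸ I) →ₐ[R] (A ⧸ I)).comp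
    (Algebra.TensorProduct.map (Bialgebra.counitAlgHom R A) (AlgHom.id R (A ⧸ I)))

theorem epsL_tmul (a : A) (h : A ⧸ I) :
    epsL (R := R) I (a ⊗ₜ[R] h) = CoalgebraStruct.counit (R := R) a • h := by
  simp [epsL]

theorem epsL_rho (a : A) : epsL (R := R) I (rho (R := R) I a) = Ideal.Quotient.mk I a := by
  have h1 : ∀ t : A ⊗[R] A,
      epsL (R := R) I
          (Algebra.TensorProduct.map (AlgHom.id R A) (Ideal.Quotient.mkₐ R I) t) =
        Ideal.Quotient.mk I (Algebra.TensorProduct.lid R A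
          ((CoalgebraStruct.counit (R := R) (A := A)).rTensor A t)) := by
    intro t
    induction t using TensorProduct.induction_on with
    | zero => simp
    | add s t hs ht => simp only [map_add, hs, ht]
    | tmul c d =>
      simp only [Algebra.TensorProduct.map_tmul, AlgHom.coe_id, id_eq, epsL_tmul,
        LinearMap.rTensor_tmul, Ideal.Quotient.mkₐ_eq_mk, Algebra.TensorProduct.lid_tmul]
      rw [Algebra.smul_def, Algebra.smul_def, map_mul]
      rfl
  rw [rho_apply, h1, Coalgebra.rTensor_counit_comul]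
  simp

theorem sub_counit_mem_augIdealSpan (c : A) (hc : c ∈ coinv (R := R) I) :
    c - algebraMap R A (CoalgebraStruct.counit (R := R) c) ∈
      SGA3.augIdealSpan R A (coinv (R := R) I) := by
  refine Ideal.subset_span ⟨?_, ?_⟩
  · exact (coinv (R := R) I).sub_mem hc ((coinv (R := R) I).algebraMap_mem _)
  · rw [map_sub, Bialgebra.counit_algebraMap, sub_self]

theorem augIdealSpan_coinv_le : SGA3.augIdealSpan R A (coinv (R := R) I) ≤ I := by
  refine Ideal.span_le.mpr ?_
  rintro b ⟨hb, hb0⟩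
  have h1 : rho (R := R) I b = b ⊗ₜ[R] (1 : A ⧸ I) := hb
  have h2 := epsL_rho (R := R) I b
  rw [h1, epsL_tmul, hb0, zero_smul] at h2
  exact Ideal.Quotient.eq_zero_iff_mem.mp h2.symm

section AugGe

variable [Module.Finite R (A ⧸ I)] [Module.Projective R (A ⧸ I)]

local notation "C" => coinv (R := R) I
local notation "J" => SGA3.augIdealSpan R A (coinv (R := R) I)

theorem mk_coe_coinv (c : C) :
    Ideal.Quotient.mk J (c : A) =
      CoalgebraStruct.counit (R := R) (c : A) • (1 : A ⧸ J) := by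
  have h := sub_counit_mem_augIdealSpan (R := R) I c.1 c.2
  have h2 : Ideal.Quotient.mk J (c : A) =
      Ideal.Quotient.mk J (algebraMap R A (CoalgebraStruct.counit (R := R) (c : A))) :=
    Ideal.Quotient.eq.mpr h
  rw [h2, Algebra.algebraMap_eq_smul_one]
  rfl

theorem smul_quot_coinv (c : C) (x : A ⧸ J) :
    c • x = CoalgebraStruct.counit (R := R) (c : A) • x := by
  obtain ⟨a, rfl⟩ := Ideal.Quotient.mk_surjective x
  change Ideal.Quotient.mk J ((c : A) * a) = _
  rw [map_mul, mk_coe_coinv, smul_mul_assoc, one_mul]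

/-- `a ⊗ a'' ↦ ε(a) [a'']`, `A ⊗_C A → A ⧸ J`. -/
noncomputable def Eaug : A ⊗[C] A →ₗ[C] (A ⧸ J) :=
  TensorProduct.lift (LinearMap.mk₂ C
    (fun a a'' => CoalgebraStruct.counit (R := R) a • Ideal.Quotient.mk J a'')
    (fun a₁ a₂ a'' => by simp only [map_add, add_smul])
    (fun c a a'' => by
      rw [smul_quot_coinv]
      change CoalgebraStruct.counit (R := R) ((c : A) * a) • Ideal.Quotient.mk J a'' = _
      rw [Bialgebra.counit_mul, mul_smul])
    (fun a a₁ a₂ => by simp only [map_add, smul_add])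
    (fun c a a'' => by
      rw [smul_quot_coinv]
      change CoalgebraStruct.counit (R := R) a • Ideal.Quotient.mk J ((c : A) * a'') = _
      rw [map_mul, mk_coe_coinv, smul_mul_assoc, one_mul, smul_comm]))

theorem Eaug_tmul (a a'' : A) :
    Eaug (R := R) I (a ⊗ₜ a'') = CoalgebraStruct.counit (R := R) a • Ideal.Quotient.mk J a'' := rfl

theorem Eaug_smul (a : A) (z : A ⊗[C] A) :
    Eaug (R := R) I (a • z) = CoalgebraStruct.counit (R := R) a • Eaug (R := R) I z := by
  induction z using TensorProduct.induction_on with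
  | zero => simp
  | add x y hx hy => simp only [smul_add, map_add, hx, hy]
  | tmul b b' =>
    rw [TensorProduct.smul_tmul', Eaug_tmul, Eaug_tmul, smul_eq_mul, Bialgebra.counit_mul,
      mul_smul]

theorem le_augIdealSpan_coinv : I ≤ J := by
  intro a' ha'
  let Φ : A ⊗[C] A ≃ₗ[A] A ⊗[R] (A ⧸ I) :=
    LinearEquiv.ofBijective (PhiLin (R := R) I) (PhiLin_bijective (R := R) I)
  let θ : (A ⧸ I) → (A ⧸ J) := fun h => Eaug (R := R) I (Φ.symm ((1 : A) ⊗ₜ[R] h))
  have hθ0 : θ 0 = 0 := by simp [θ]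
  have hθadd : ∀ h₁ h₂, θ (h₁ + h₂) = θ h₁ + θ h₂ := by
    intro h₁ h₂
    simp [θ, TensorProduct.tmul_add]
  have hθsmul : ∀ (r : R) h, θ (r • h) = r • θ h := by
    intro r h
    simp only [θ]
    rw [TensorProduct.tmul_smul, ← algebraMap_smul A r ((1 : A) ⊗ₜ[R] h), map_smul, Eaug_smul,
      Bialgebra.counit_algebraMap]
  have key : ∀ w : A ⊗[R] (A ⧸ I), Eaug (R := R) I (Φ.symm w) = θ (epsL (R := R) I w) := by
    intro w
    induction w using TensorProduct.induction_on with
    | zero => simp [hθ0]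
    | add x y hx hy => simp only [map_add, hx, hy, hθadd]
    | tmul a h =>
      have h1 : a ⊗ₜ[R] h = a • ((1 : A) ⊗ₜ[R] h) := by
        rw [TensorProduct.smul_tmul', smul_eq_mul, mul_one]
      rw [h1, map_smul, Eaug_smul, ← h1, epsL_tmul, hθsmul]
  have h2 : Ideal.Quotient.mk J a' = Eaug (R := R) I ((1 : A) ⊗ₜ a') := by
    rw [Eaug_tmul, Bialgebra.counit_one, one_smul]
  have h3 : Φ ((1 : A) ⊗ₜ a') = rho (R := R) I a' := by
    change PhiLin (R := R) I ((1 : A) ⊗ₜ a') = _
    rw [PhiLin_tmul, one_smul]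
  have h4 : Eaug (R := R) I ((1 : A) ⊗ₜ a') = θ (epsL (R := R) I (rho (R := R) I a')) := by
    rw [← h3, ← key, LinearEquiv.symm_apply_apply]
  rw [epsL_rho, Ideal.Quotient.eq_zero_iff_mem.mpr ha', hθ0] at h4
  rw [h4] at h2
  exact Ideal.Quotient.eq_zero_iff_mem.mp h2

theorem augIdealSpan_coinv_eq : J = I :=
  le_antisymm (augIdealSpan_coinv_le (R := R) I) (le_augIdealSpan_coinv (R := R) I)

end AugGe

end Aug

end Groth.Agent.Lib.HopfQuot55
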