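import Groth.Agent.Lib.MultType58

/-!
# Groups of multiplicative type: monomorphisms into affine groups are closed immersions
-/

set_option autoImplicit false
set_option linter.unusedSectionVars false
set_option linter.unusedVariables false

universe u

open TensorProduct

namespace Groth.Agent.Lib.MultType58

section Antipode

open WithConv

variable {R : Type u} [CommRing R] {A B : Type u} [CommRing A] [CommRing B]
  [HopfAlgebra R A] [HopfAlgebra R B]

/-- A bialgebra map between Hopf algebras commutes with the antipodes (any base ring). -/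
theorem bialgHom_antipode (f : A →ₐc[R] B) (a : A) :
    f (HopfAlgebraStruct.antipode R a) = HopfAlgebraStruct.antipode R (f a) := by
  let fl : A →ₗ[R] B := (f : A →ₐ[R] B).toLinearMap
  let L : WithConv (A →ₗ[R] B) := toConv (fl ∘ₗ HopfAlgebraStruct.antipode R (A := A))
  let F : WithConv (A →ₗ[R] B) := toConv fl
  let Rr : WithConv (A →ₗ[R] B) := toConv (HopfAlgebraStruct.antipode R (A := B) ∘ₗ fl)
  have h1 : L * F = 1 := by
    have := LinearMap.algHom_comp_convMul_distrib (f : A →ₐ[R] B)
      (toConv (HopfAlgebraStruct.antipode R (A := A))) (toConv (LinearMap.id : A →ₗ[R] A))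
    rw [LinearMap.antipode_mul_id] at this
    apply WithConv.ofConv_injective
    rw [show (L * F).ofConv = _ from this.symm]
    apply LinearMap.ext
    intro x
    simp only [LinearMap.convOne_def, ofConv_toConv, LinearMap.comp_apply, Algebra.linearMap_apply,
      AlgHom.toLinearMap_apply]
    exact AlgHomClass.commutes (f : A →ₐ[R] B) _
  have h2 : F * Rr = 1 := by
    have := LinearMap.convMul_comp_coalgHom_distrib
      (toConv (LinearMap.id : B →ₗ[R] B)) (toConv (HopfAlgebraStruct.antipode R (A := B)))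
      (f : A →ₗc[R] B)
    rw [LinearMap.id_mul_antipode] at this
    apply WithConv.ofConv_injective
    rw [show (F * Rr).ofConv = _ from this.symm]
    apply LinearMap.ext
    intro x
    simp [LinearMap.convOne_def]
  have h3 : L = Rr := by
    calc L = L * (F * Rr) := by rw [h2, mul_one]
      _ = (L * F) * Rr := (mul_assoc _ _ _).symm
      _ = Rr := by rw [h1, one_mul]
  exact LinearMap.congr_fun (congrArg WithConv.ofConv h3) a

end Antipode

section DiagMono

variable {R : Type u} [CommRing R] {M : Type u} [CommGroup M]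

/-- Slicing the comultiplication of a group algebra with a coefficient functional. -/
theorem coefLin_slice (m : M) (x : MonoidAlgebra R M) :
    TensorProduct.lid R (MonoidAlgebra R M)
      (TensorProduct.map (coefLin m) LinearMap.id (Coalgebra.comul x)) =
      MonoidAlgebra.single m (coefLin m x) := by
  classical
  induction x using MonoidAlgebra.induction_linear with
  | zero => simp
  | add f g hf hg => simp only [map_add, hf, hg, MonoidAlgebra.single_add]
  | single g r =>
    rw [MonoidAlgebra.comul_single]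
    simp only [CommSemiring.comul_apply, TensorProduct.map_tmul, MonoidAlgebra.lsingle_apply,
      LinearMap.id_apply, TensorProduct.lid_tmul, coefLin_single]
    split_ifs with h
    · subst h
      simp
    · simp

variable {C : Type u} [CommRing C] [HopfAlgebra R C]

/-- The ideal of coefficients `r` such that `r·m` lies in the image. -/
noncomputable def coefIdeal (φ : C →ₐc[R] MonoidAlgebra R M) (m : M) : Ideal R :=
  Submodule.comap (MonoidAlgebra.lsingle (R := R) (S := R) m)
    (LinearMap.range (φ : C →ₗ[R] MonoidAlgebra R M))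

theorem mem_coefIdeal (φ : C →ₐc[R] MonoidAlgebra R M) (m : M) (r : R) :
    r ∈ coefIdeal φ m ↔ ∃ c : C, φ c = MonoidAlgebra.single m r := Iff.rfl

theorem coef_mem_coefIdeal (φ : C →ₐc[R] MonoidAlgebra R M) (m : M) (c : C) :
    coefLin m (φ c) ∈ coefIdeal φ m := by
  rw [mem_coefIdeal]
  refine ⟨∑ i ∈ (Coalgebra.Repr.arbitrary R c).index,
    coefLin m (φ ((Coalgebra.Repr.arbitrary R c).left i)) •
      (Coalgebra.Repr.arbitrary R c).right i, ?_⟩
  rw [← coefLin_slice m (φ c)]
  have h1 := LinearMap.congr_fun (CoalgHomClass.map_comp_comul φ) c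
  simp only [LinearMap.comp_apply] at h1
  have h2 : Coalgebra.comul (R := R) ((φ : C →ₗ[R] MonoidAlgebra R M) c) =
      Coalgebra.comul (R := R) (φ c) := rfl
  rw [← h2, ← h1, ← (Coalgebra.Repr.arbitrary R c).eq, map_sum, map_sum, map_sum, map_sum]
  refine Finset.sum_congr rfl fun i _ => ?_
  simp only [TensorProduct.map_tmul, LinearMap.id_apply, TensorProduct.lid_tmul, map_smul]
  rfl

theorem one_mem_coefIdeal_one (φ : C →ₐc[R] MonoidAlgebra R M) : (1 : R) ∈ coefIdeal φ 1 := by
  rw [mem_coefIdeal]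
  exact ⟨1, by rw [map_one]; rfl⟩

theorem mul_mem_coefIdeal (φ : C →ₐc[R] MonoidAlgebra R M) {m n : M} {r s : R}
    (hr : r ∈ coefIdeal φ m) (hs : s ∈ coefIdeal φ n) : r * s ∈ coefIdeal φ (m * n) := by
  rw [mem_coefIdeal] at hr hs ⊢
  obtain ⟨c, hc⟩ := hr
  obtain ⟨d, hd⟩ := hs
  exact ⟨c * d, by rw [map_mul, hc, hd, MonoidAlgebra.single_mul_single]⟩

theorem inv_mem_coefIdeal (φ : C →ₐc[R] MonoidAlgebra R M) {m : M} {r : R}
    (hr : r ∈ coefIdeal φ m) : r ∈ coefIdeal φ m⁻¹ := by
  rw [mem_coefIdeal] at hr ⊢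
  obtain ⟨c, hc⟩ := hr
  refine ⟨HopfAlgebraStruct.antipode R c, ?_⟩
  rw [bialgHom_antipode, hc, MonoidAlgebra.antipode_single]
  simp

end DiagMono

section DiagMono2

variable {R : Type u} [CommRing R] {M : Type u} [CommGroup M]
variable {C : Type u} [CommRing C] [HopfAlgebra R C]

/-- The subgroup of those `n` whose coefficient ideal is not contained in `𝔭`. -/
def coefSubgroup (φ : C →ₐc[R] MonoidAlgebra R M) (𝔭 : Ideal R) [𝔭.IsPrime] : Subgroup M where
  carrier := {n | ¬ coefIdeal φ n ≤ 𝔭}
  one_mem' := by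
    intro h
    exact (Ideal.IsPrime.ne_top inferInstance) ((Ideal.eq_top_iff_one 𝔭).mpr
      (h (one_mem_coefIdeal_one φ)))
  mul_mem' := by
    intro a b ha hb
    simp only [Set.mem_ofPred_eq] at ha hb ⊢
    rw [SetLike.not_le_iff_exists] at ha hb ⊢
    obtain ⟨r, hr, hr'⟩ := ha
    obtain ⟨s, hs, hs'⟩ := hb
    refine ⟨r * s, mul_mem_coefIdeal φ hr hs, fun h => ?_⟩
    rcases Ideal.IsPrime.mem_or_mem inferInstance h with h | h
    · exact hr' h
    · exact hs' h
  inv_mem' := by
    intro a ha
    simp only [Set.mem_ofPred_eq] at ha ⊢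
    rw [SetLike.not_le_iff_exists] at ha ⊢
    obtain ⟨r, hr, hr'⟩ := ha
    exact ⟨r, inv_mem_coefIdeal φ hr, hr'⟩

theorem mem_coefSubgroup (φ : C →ₐc[R] MonoidAlgebra R M) (𝔭 : Ideal R) [𝔭.IsPrime] (n : M) :
    n ∈ coefSubgroup φ 𝔭 ↔ ¬ coefIdeal φ n ≤ 𝔭 := Iff.rfl

theorem coefIdeal_eq_top (φ : C →ₐc[R] MonoidAlgebra R M)
    (hmono : ∀ (T : Type u) [CommRing T] [Algebra R T],
      Function.Injective
        (fun x : MonoidAlgebra R M →ₐ[R] T => x.comp (φ : C →ₐ[R] MonoidAlgebra R M)))
    (m₀ : M) : coefIdeal φ m₀ = ⊤ := by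
  by_contra hne
  obtain ⟨𝔭, h𝔭, hle⟩ := Ideal.exists_le_maximal _ hne
  have : 𝔭.IsPrime := h𝔭.isPrime
  let N : Subgroup M := coefSubgroup φ 𝔭
  let F : M →* MonoidAlgebra (R ⧸ 𝔭) (M ⧸ N) :=
    (MonoidAlgebra.of (R ⧸ 𝔭) (M ⧸ N)).comp (QuotientGroup.mk' N)
  let x := MonoidAlgebra.lift R (MonoidAlgebra (R ⧸ 𝔭) (M ⧸ N)) M F
  let x₀ := MonoidAlgebra.lift R (MonoidAlgebra (R ⧸ 𝔭) (M ⧸ N)) M 1
  have hx : x.comp (φ : C →ₐ[R] MonoidAlgebra R M) = x₀.comp (φ : C →ₐ[R] MonoidAlgebra R M) := by
    apply AlgHom.ext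
    intro c
    show x (φ c) = x₀ (φ c)
    rw [MonoidAlgebra.lift_apply, MonoidAlgebra.lift_apply]
    refine Finsupp.sum_congr fun m _ => ?_
    by_cases hm : m ∈ N
    · have : F m = 1 := by
        show MonoidAlgebra.of (R ⧸ 𝔭) (M ⧸ N) (QuotientGroup.mk' N m) = 1
        have h1 : (QuotientGroup.mk' N m) = 1 := (QuotientGroup.eq_one_iff m).mpr hm
        rw [h1, map_one]
      rw [this]
      rfl
    · have hmem : (φ c).coeff m ∈ 𝔭 := (not_not.mp hm) (coef_mem_coefIdeal φ m c)
      have hz : ∀ t : MonoidAlgebra (R ⧸ 𝔭) (M ⧸ N), (φ c).coeff m • t = 0 := by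
        intro t
        rw [← algebraMap_smul (R ⧸ 𝔭) ((φ c).coeff m) t]
        have : algebraMap R (R ⧸ 𝔭) ((φ c).coeff m) = 0 :=
          Ideal.Quotient.eq_zero_iff_mem.mpr hmem
        rw [this, zero_smul]
      show (φ c).coeff m • F m = (φ c).coeff m • (1 : M →* MonoidAlgebra (R ⧸ 𝔭) (M ⧸ N)) m
      rw [hz, hz]
  have hxx := hmono _ hx
  have h2 : x (MonoidAlgebra.single m₀ 1) = x₀ (MonoidAlgebra.single m₀ 1) := by rw [hxx]
  rw [MonoidAlgebra.lift_single, MonoidAlgebra.lift_single, one_smul, one_smul] at h2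
  have h3 : MonoidAlgebra.of (R ⧸ 𝔭) (M ⧸ N) (QuotientGroup.mk' N m₀) =
      MonoidAlgebra.of (R ⧸ 𝔭) (M ⧸ N) 1 := by
    rw [map_one]
    exact h2
  have : Nontrivial (R ⧸ 𝔭) := Ideal.Quotient.nontrivial_iff.mpr (Ideal.IsPrime.ne_top inferInstance)
  have h4 := MonoidAlgebra.of_injective h3
  have h5 : m₀ ∈ N := (QuotientGroup.eq_one_iff m₀).mp h4
  exact h5 hle

/-- Diagonalisable case: a monomorphism from a diagonalisable group to an affine group is a closed
immersion. -/
theorem diag_surjective_of_mono (φ : C →ₐc[R] MonoidAlgebra R M)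
    (hmono : ∀ (T : Type u) [CommRing T] [Algebra R T],
      Function.Injective
        (fun x : MonoidAlgebra R M →ₐ[R] T => x.comp (φ : C →ₐ[R] MonoidAlgebra R M))) :
    Function.Surjective φ := by
  have hrange : LinearMap.range (φ : C →ₗ[R] MonoidAlgebra R M) = ⊤ := by
    rw [eq_top_iff]
    intro y _
    clear * - hmono
    induction y using MonoidAlgebra.induction_linear with
    | zero => exact Submodule.zero_mem _
    | add f g hf hg => exact Submodule.add_mem _ hf hg
    | single g r =>
      have h1 : r ∈ coefIdeal φ g := by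
        rw [coefIdeal_eq_top φ hmono g]
        trivial
      exact h1
  intro y
  have : y ∈ LinearMap.range (φ : C →ₗ[R] MonoidAlgebra R M) := by rw [hrange]; trivial
  obtain ⟨c, hc⟩ := this
  exact ⟨c, hc⟩

end DiagMono2

section DescentMono

variable (R : Type u) [CommRing R] (A : Type u) [CommRing A] [HopfAlgebra R A]

/-- Monomorphisms out of `Spec A` are closed immersions. -/
def MonoClosed : Prop :=
  ∀ (C : Type u) [CommRing C] [HopfAlgebra R C] (φ : C →ₐc[R] A),
    (∀ (T : Type u) [CommRing T] [Algebra R T],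
      Function.Injective (fun x : A →ₐ[R] T => x.comp (φ : C →ₐ[R] A))) →
    Function.Surjective φ

theorem monoClosed_of_isDiag (h : SGA3b.IsDiag R A) : MonoClosed R A := by
  obtain ⟨M, _, ⟨e⟩⟩ := h
  intro C _ _ φ hmono
  have key := diag_surjective_of_mono ((e : A →ₐc[R] MonoidAlgebra R M).comp φ) ?_
  · intro a
    obtain ⟨c, hc⟩ := key (e a)
    exact ⟨c, e.injective hc⟩
  · intro T _ _ x y hxy
    have h1 : (x.comp (e : A →ₐ[R] MonoidAlgebra R M)).comp (φ : C →ₐ[R] A) =
        (y.comp (e : A →ₐ[R] MonoidAlgebra R M)).comp (φ : C →ₐ[R] A) := by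
      apply AlgHom.ext
      intro c
      exact AlgHom.congr_fun hxy c
    have h2 := hmono T h1
    apply AlgHom.ext
    intro z
    obtain ⟨a, rfl⟩ := e.surjective z
    exact AlgHom.congr_fun h2 a

variable {R A}

/-- Base change step. -/
theorem baseChange_surjective (S : Type u) [CommRing S] [Algebra R S]
    (hS : MonoClosed S (S ⊗[R] A))
    (C : Type u) [CommRing C] [HopfAlgebra R C] (φ : C →ₐc[R] A)
    (hmono : ∀ (T : Type u) [CommRing T] [Algebra R T],
      Function.Injective (fun x : A →ₐ[R] T => x.comp (φ : C →ₐ[R] A))) :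
    Function.Surjective ((φ : C →ₗ[R] A).lTensor S) := by
  have key := hS (S ⊗[R] C) (Bialgebra.TensorProduct.map (BialgHom.id S S) φ) ?_
  · have hcomp : ∀ z : S ⊗[R] C, (φ : C →ₗ[R] A).lTensor S z =
        Bialgebra.TensorProduct.map (BialgHom.id S S) φ z := by
      intro z
      induction z using TensorProduct.induction_on with
      | zero => simp
      | add x y hx hy => rw [map_add, map_add, hx, hy]
      | tmul s c => rfl
    intro y
    obtain ⟨z, hz⟩ := key y
    exact ⟨z, (hcomp z).trans hz⟩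
  · intro T _ _ x y hxy
    let _ : Algebra R T := Algebra.compHom T (algebraMap R S)
    have : IsScalarTower R S T := IsScalarTower.of_algebraMap_eq fun r => rfl
    have h1 : ((x.restrictScalars R).comp (Algebra.TensorProduct.includeRight : A →ₐ[R] S ⊗[R] A)).comp
        (φ : C →ₐ[R] A) =
        ((y.restrictScalars R).comp (Algebra.TensorProduct.includeRight : A →ₐ[R] S ⊗[R] A)).comp
        (φ : C →ₐ[R] A) := by
      apply AlgHom.ext
      intro c
      exact AlgHom.congr_fun hxy ((1 : S) ⊗ₜ[R] c)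
    have h2 := hmono T h1
    apply AlgHom.ext
    intro z
    induction z using TensorProduct.induction_on with
    | zero => simp
    | add a b ha hb => rw [map_add, map_add, ha, hb]
    | tmul s a =>
      have h3 : s ⊗ₜ[R] a = s • ((1 : S) ⊗ₜ[R] a) := by
        rw [TensorProduct.smul_tmul', smul_eq_mul, mul_one]
      rw [h3, map_smul, map_smul]
      congr 1
      exact AlgHom.congr_fun h2 a

theorem monoClosed_of_faithfullyFlat (S : Type u) [CommRing S] [Algebra R S]
    [Module.FaithfullyFlat R S] (hS : MonoClosed S (S ⊗[R] A)) : MonoClosed R A := by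
  intro C _ _ φ hmono
  have := baseChange_surjective S hS C φ hmono
  rw [Module.FaithfullyFlat.lTensor_surjective_iff_surjective] at this
  exact this

theorem monoClosed_of_isMultTypeConst (h : SGA3b.IsMultTypeConst R A) : MonoClosed R A := by
  obtain ⟨R', _, _, hff, hd⟩ := h
  exact monoClosed_of_faithfullyFlat R' (monoClosed_of_isDiag R' _ hd)

theorem monoClosed_of_isMultType (h : SGA3b.IsMultType R A) : MonoClosed R A := by
  obtain ⟨s, hs, hf⟩ := h
  intro C _ _ φ hmono y
  have hy : y ∈ LinearMap.range (φ : C →ₗ[R] A) := by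
    refine Submodule.mem_of_span_eq_top_of_smul_pow_mem _ s hs _ fun f => ?_
    have h1 := baseChange_surjective (Localization.Away (f : R))
      (monoClosed_of_isMultTypeConst (hf f f.2)) C φ hmono
    obtain ⟨z, hz⟩ := h1 ((1 : Localization.Away (f : R)) ⊗ₜ[R] y)
    obtain ⟨k, c', hc'⟩ := IsLocalizedModule.Away.surj
      (TensorProduct.mk R (Localization.Away (f : R)) C 1) (f : R) z
    have h2 : TensorProduct.mk R (Localization.Away (f : R)) A 1 ((f : R) ^ k • y) =
        TensorProduct.mk R (Localization.Away (f : R)) A 1 (φ c') := by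
      rw [map_smul]
      show (f : R) ^ k • ((1 : Localization.Away (f : R)) ⊗ₜ[R] y) = _
      rw [← hz, ← map_smul, hc']
      rfl
    obtain ⟨j, hj⟩ := IsLocalizedModule.Away.exists_of_eq (f : R) h2
    refine ⟨j + k, (f : R) ^ j • c', ?_⟩
    rw [map_smul]
    show (f : R) ^ j • φ c' = _
    rw [← hj, smul_smul, ← pow_add]
  obtain ⟨c, hc⟩ := hy
  exact ⟨c, hc⟩

end DescentMono

end Groth.Agent.Lib.MultType58
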