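import Groth.Prelude.Def_CartDual2
import Groth.Agent.Lib.HopfQuot55j
import Groth.Agent.Lib.MultType58c

/-!
# Exactness of Cartier duality for finite flat commutative group schemes (helper41)

Given a short exact sequence `1 → G' → G → G'' → 1` of finite flat commutative group schemes over a
Noetherian ring in Hopf-algebra form (`f : A'' → A` faithfully flat, `g : A → A'` surjective with
kernel `A·f(A''⁺)`), the dual sequence is exact: `transpose g` is faithfully flat, `transpose f` is
surjective with kernel generated by the image of the augmentation ideal.  Uses helper55's quotient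
theory (`faithfullyFlat_coinv`, `augIdealSpan_coinv_eq`) applied to the dual Hopf algebra `D(A)` and
the Hopf ideal `ker (transpose f)`, whose invariants are the image of `transpose g`.
-/

set_option autoImplicit false
set_option linter.unusedSectionVars false

universe u v w

open scoped TensorProduct

namespace Groth.Agent.Lib.CartDualExact41

open Groth.Agent.Lib.HopfQuot55 CartDual



section Split

variable {R : Type u} [CommRing R] [IsNoetherianRing R]
  {A A'' : Type u} [CommRing A] [Algebra R A] [Module.Finite R A] [Module.Projective R A]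
  [CommRing A''] [Algebra R A''] [Module.Finite R A''] [Module.Projective R A'']

/-- A faithfully flat algebra map between finite projective algebras over a Noetherian ring is a
split injection of modules. -/
theorem exists_linear_retraction (f : A'' →ₐ[R] A) (hf : f.toRingHom.FaithfullyFlat) :
    ∃ r : A →ₗ[R] A'', ∀ c, r (f c) = c := by
  let _ : Algebra A'' A := f.toRingHom.toAlgebra
  have hff : Module.FaithfullyFlat A'' A := hf
  have hst : IsScalarTower R A'' A := IsScalarTower.of_algebraMap_eq fun x => (f.commutes x).symm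
  have hfin : Module.Finite A'' A := Module.Finite.of_restrictScalars_finite R A'' A
  have hnoeth : IsNoetherianRing A'' := Algebra.FiniteType.isNoetherianRing R A''
  have hfp : Module.FinitePresentation A'' A := Module.finitePresentation_of_finite A'' A
  have hproj : Module.Projective A'' A := Module.Flat.projective_of_finitePresentation
  have hinj : Function.Injective (algebraMap A'' A) := hf.injective
  obtain ⟨φ, hφ⟩ := exists_retraction (C := A'') (A := A) hinj
  refine ⟨φ.restrictScalars R, fun c => ?_⟩
  show φ (algebraMap A'' A c) = c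
  rw [Algebra.algebraMap_eq_smul_one, map_smul, hφ, smul_eq_mul, mul_one]

end Split



section KerHopf

variable {R : Type u} [CommRing R] {H C : Type u} [CommRing H] [CommRing C] [HopfAlgebra R H]
  [HopfAlgebra R C]

/-- The kernel of a surjective bialgebra map of commutative Hopf algebras is a Hopf ideal
(any base ring). -/
theorem isHopfIdeal_ker_of_surjective (F : H →ₐc[R] C) (hF : Function.Surjective F) :
    (RingHom.ker (F : H →ₐ[R] C)).IsHopfIdeal R := by
  set I : Ideal H := RingHom.ker (F : H →ₐ[R] C) with hI
  have hmem : ∀ x : H, x ∈ I ↔ F x = 0 := fun x => RingHom.mem_ker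
  let Il : Submodule R H := I.restrictScalars R
  let Fl : H →ₗ[R] C := (F : H →ₐ[R] C).toLinearMap
  have hle : Il ≤ LinearMap.ker Fl := fun x hx => (hmem x).1 hx
  let e' : (H ⧸ Il) →ₗ[R] C := Il.liftQ Fl hle
  have he'inj : Function.Injective e' := by
    rw [← LinearMap.ker_eq_bot, Submodule.ker_liftQ, Submodule.eq_bot_iff]
    rintro _ ⟨x, hx, rfl⟩
    rw [Submodule.mkQ_apply, Submodule.Quotient.mk_eq_zero]
    exact (hmem x).2 hx
  have he'surj : Function.Surjective e' := by
    intro c
    obtain ⟨x, rfl⟩ := hF c
    exact ⟨Il.mkQ x, rfl⟩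
  let e : (H ⧸ Il) ≃ₗ[R] C := LinearEquiv.ofBijective e' ⟨he'inj, he'surj⟩
  have hcomp : (TensorProduct.congr e e).toLinearMap ∘ₗ TensorProduct.map Il.mkQ Il.mkQ =
      TensorProduct.map Fl Fl := by
    apply TensorProduct.ext'
    intro x y
    rfl
  have hco : (I.restrictScalars R).IsCoideal := by
    refine ⟨?_, ?_⟩
    · intro x hx
      have : F x = 0 := (hmem x).1 hx
      rw [← CoalgHomClass.counit_comp_apply F x, this, map_zero]
    · intro x hx
      have h0 : F x = 0 := (hmem x).1 hx
      apply (TensorProduct.congr e e).injective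
      rw [map_zero]
      have h1 := LinearMap.congr_fun hcomp (CoalgebraStruct.comul (R := R) x)
      rw [LinearMap.comp_apply] at h1
      rw [LinearEquiv.coe_coe] at h1
      rw [h1]
      have h2 : TensorProduct.map Fl Fl (CoalgebraStruct.comul (R := R) x) =
          CoalgebraStruct.comul (R := R) (F x) := CoalgHomClass.map_comp_comul_apply F x
      rw [h2, h0, map_zero]
  refine { toIsCoideal := hco, antipode_mem := ?_ }
  · intro x hx
    rw [hmem] at hx ⊢
    rw [Groth.Agent.Lib.MultType58.bialgHom_antipode, hx, map_zero]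

end KerHopf



section Pairing

variable {R : Type u} [CommRing R]
  {A A'' : Type u} [CommRing A] [HopfAlgebra R A] [Module.Finite R A]
  [Module.Projective R A] [CommRing A''] [HopfAlgebra R A''] [Module.Finite R A'']
  [Module.Projective R A'']

/-- The pairing `D(A) ⊗ D(A'') → (A ⊗ A'')^*`. -/
noncomputable def evP : D R A ⊗[R] D R A'' →ₗ[R] Module.Dual R (A ⊗[R] A'') :=
  (dualTensorEquiv R A A'').toLinearMap ∘ₗ
    (TensorProduct.congr (toDual R A) (toDual R A'')).toLinearMap

theorem evP_tmul (x : D R A) (y : D R A'') (a : A) (a'' : A'') :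
    evP (x ⊗ₜ[R] y) (a ⊗ₜ[R] a'') = x a * y a'' := by
  simp [evP]

theorem evP_injective : Function.Injective (evP (R := R) (A := A) (A'' := A'')) := by
  unfold evP
  exact (dualTensorEquiv R A A'').injective.comp
    (TensorProduct.congr (toDual R A) (toDual R A'')).injective

theorem evP_lTensor_transpose (f : A'' →ₐc[R] A) (z : D R A ⊗[R] D R A) (a : A) (a'' : A'') :
    evP (LinearMap.lTensor (D R A) ((transpose R f : D R A →ₐ[R] D R A'').toLinearMap) z)
      (a ⊗ₜ[R] a'') = ev₂ R A z (a ⊗ₜ[R] f a'') := by
  induction z using TensorProduct.induction_on with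
  | zero => simp
  | add x y hx hy => simp only [map_add, LinearMap.add_apply, hx, hy]
  | tmul x y =>
    rw [LinearMap.lTensor_tmul, evP_tmul, ev₂_tmul]
    rfl

end Pairing

section Coinv

variable {R : Type u} [CommRing R]
  {A A'' : Type u} [CommRing A] [HopfAlgebra R A] [Coalgebra.IsCocomm R A] [Module.Finite R A]
  [Module.Projective R A] [CommRing A''] [HopfAlgebra R A''] [Coalgebra.IsCocomm R A'']
  [Module.Finite R A''] [Module.Projective R A''] (f : A'' →ₐc[R] A)

/-- The kernel of the transpose of `f`. -/
noncomputable abbrev kerT : Ideal (D R A) :=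
  RingHom.ker (transpose R f : D R A →ₐ[R] D R A'')

theorem mem_coinv_kerT_iff [(kerT f).IsHopfIdeal R] (x : D R A) :
    x ∈ coinv (R := R) (kerT f) ↔
      ∀ (a : A) (a'' : A''), x (a * f a'') = x a * CoalgebraStruct.counit (R := R) a'' := by
  let F : D R A →ₐ[R] D R A'' := (transpose R f : D R A →ₐ[R] D R A'')
  let ebar : (D R A ⧸ kerT f) →ₐ[R] D R A'' := Ideal.kerLiftAlg F
  have hebar : Function.Injective ebar := Ideal.kerLiftAlg_injective F
  let ι : D R A ⊗[R] (D R A ⧸ kerT f) →ₗ[R] D R A ⊗[R] D R A'' :=
    LinearMap.lTensor (D R A) ebar.toLinearMap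
  have hι : Function.Injective ι :=
    Module.Flat.lTensor_preserves_injective_linearMap (M := D R A) ebar.toLinearMap hebar
  have h1 : ∀ z : D R A ⊗[R] D R A,
      ι (Algebra.TensorProduct.map (AlgHom.id R (D R A)) (Ideal.Quotient.mkₐ R (kerT f)) z) =
        LinearMap.lTensor (D R A) F.toLinearMap z := by
    intro z
    induction z using TensorProduct.induction_on with
    | zero => simp
    | add x y hx hy => simp only [map_add, hx, hy]
    | tmul x y => rfl
  have h2 : ι (x ⊗ₜ[R] (1 : D R A ⧸ kerT f)) = x ⊗ₜ[R] (1 : D R A'') := by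
    show x ⊗ₜ[R] ebar 1 = _
    rw [map_one]
  show rho (R := R) (kerT f) x = x ⊗ₜ[R] (1 : D R A ⧸ kerT f) ↔ _
  constructor
  · intro h a a''
    have h3 := congrArg ι h
    rw [rho_apply, h1, h2] at h3
    have h4 := congrArg (fun t => evP t (a ⊗ₜ[R] a'')) h3
    beta_reduce at h4
    rw [evP_lTensor_transpose, evP_tmul, ev₂_coalgebra_comul_tmul] at h4
    rw [h4]
    congr 1
  · intro h
    apply hι
    rw [rho_apply, h1, h2]
    apply evP_injective
    apply TensorProduct.ext'
    intro a a''
    rw [evP_lTensor_transpose, evP_tmul, ev₂_coalgebra_comul_tmul, h a a'']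
    congr 1

end Coinv

section Range

variable {R : Type u} [CommRing R]
  {A' A A'' : Type u} [CommRing A'] [HopfAlgebra R A'] [Coalgebra.IsCocomm R A']
  [Module.Finite R A'] [Module.Projective R A']
  [CommRing A] [HopfAlgebra R A] [Coalgebra.IsCocomm R A] [Module.Finite R A]
  [Module.Projective R A] [CommRing A''] [HopfAlgebra R A''] [Coalgebra.IsCocomm R A'']
  [Module.Finite R A''] [Module.Projective R A''] (f : A'' →ₐc[R] A) (g : A →ₐc[R] A')

theorem g_f_apply
    (hker : RingHom.ker (g : A →ₐ[R] A') =
      Ideal.map (f : A'' →ₐ[R] A) (RingHom.ker (Bialgebra.counitAlgHom R A'')))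
    (a'' : A'') : g (f a'') = algebraMap R A' (CoalgebraStruct.counit (R := R) a'') := by
  have h1 : a'' - algebraMap R A'' (CoalgebraStruct.counit (R := R) a'') ∈
      RingHom.ker (Bialgebra.counitAlgHom R A'') := by
    rw [RingHom.mem_ker, map_sub, Bialgebra.counitAlgHom_apply, AlgHom.commutes]
    simp
  have h2 : (f : A'' →ₐ[R] A) (a'' - algebraMap R A'' (CoalgebraStruct.counit (R := R) a'')) ∈
      RingHom.ker (g : A →ₐ[R] A') := by
    rw [hker]
    exact Ideal.mem_map_of_mem _ h1
  rw [RingHom.mem_ker, map_sub, map_sub, AlgHom.commutes, AlgHom.commutes, sub_eq_zero] at h2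
  exact h2

theorem mem_range_transpose_iff (hg : Function.Surjective g)
    (hker : RingHom.ker (g : A →ₐ[R] A') =
      Ideal.map (f : A'' →ₐ[R] A) (RingHom.ker (Bialgebra.counitAlgHom R A'')))
    (x : D R A) :
    x ∈ Set.range (transpose R g) ↔
      ∀ (a : A) (a'' : A''), x (a * f a'') = x a * CoalgebraStruct.counit (R := R) a'' := by
  constructor
  · rintro ⟨x', rfl⟩ a a''
    rw [transpose_apply, transpose_apply, map_mul, g_f_apply f g hker, mul_comm (g a),
      ← Algebra.smul_def, coe_apply, map_smul, smul_eq_mul, mul_comm]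
  · intro h
    -- `x` kills the kernel of `g`
    have hkill0 : ∀ y ∈ Ideal.span ((f : A'' →ₐ[R] A) ''
        (RingHom.ker (Bialgebra.counitAlgHom R A'') : Set A'')), ∀ b : A, x (b * y) = 0 := by
      intro y hy
      induction hy using Submodule.span_induction with
      | mem y hy0 =>
        obtain ⟨a'', ha'', rfl⟩ := hy0
        intro b
        have h0 : CoalgebraStruct.counit (R := R) a'' = 0 := ha''
        have := h b a''
        rw [h0, mul_zero] at this
        exact this
      | zero => intro b; rw [mul_zero]; exact map_zero _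
      | add y z _ _ hy hz =>
        intro b
        rw [mul_add, coe_apply, map_add]
        have h1 := hy b
        have h2 := hz b
        rw [coe_apply] at h1 h2
        rw [h1, h2, add_zero]
      | smul c y _ hy =>
        intro b
        rw [smul_eq_mul, ← mul_assoc]
        exact hy (b * c)
    have hkill : ∀ y ∈ RingHom.ker (g : A →ₐ[R] A'), x y = 0 := by
      intro y hy
      rw [hker] at hy
      have := hkill0 y hy 1
      rwa [one_mul] at this
    let gl : A →ₗ[R] A' := (g : A →ₐ[R] A').toLinearMap
    have hgl : Function.Surjective gl := hg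
    have hle : LinearMap.ker gl ≤ LinearMap.ker x.ofConv := by
      intro y hy
      rw [LinearMap.mem_ker] at hy ⊢
      exact hkill y (RingHom.mem_ker.2 hy)
    let x' : A' →ₗ[R] R :=
      (LinearMap.ker gl).liftQ x.ofConv hle ∘ₗ (gl.quotKerEquivOfSurjective hgl).symm.toLinearMap
    refine ⟨WithConv.toConv x', ?_⟩
    apply WithConv.ext
    apply LinearMap.ext
    intro a
    show x' (g a) = x.ofConv a
    have h1 : (gl.quotKerEquivOfSurjective hgl).symm (g a) = (LinearMap.ker gl).mkQ a := by
      rw [LinearEquiv.symm_apply_eq]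
      rfl
    show (LinearMap.ker gl).liftQ x.ofConv hle ((gl.quotKerEquivOfSurjective hgl).symm (g a)) = _
    rw [h1]
    rfl

end Range



section Main

variable (R : Type u) [CommRing R] [IsNoetherianRing R]
  (A' A A'' : Type u) [CommRing A'] [HopfAlgebra R A'] [Coalgebra.IsCocomm R A']
  [Module.Finite R A'] [Module.Projective R A']
  [CommRing A] [HopfAlgebra R A] [Coalgebra.IsCocomm R A] [Module.Finite R A]
  [Module.Projective R A] [CommRing A''] [HopfAlgebra R A''] [Coalgebra.IsCocomm R A'']
  [Module.Finite R A''] [Module.Projective R A'']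

theorem main (f : A'' →ₐc[R] A) (hf : (f : A'' →ₐ[R] A).toRingHom.FaithfullyFlat)
    (g : A →ₐc[R] A') (hg : Function.Surjective g)
    (hker : RingHom.ker (g : A →ₐ[R] A') =
      Ideal.map (f : A'' →ₐ[R] A) (RingHom.ker (Bialgebra.counitAlgHom R A''))) :
    (CartDual.transpose R g : CartDual.D R A' →ₐ[R] CartDual.D R A).toRingHom.FaithfullyFlat ∧
      Function.Surjective (CartDual.transpose R f) ∧
      RingHom.ker (CartDual.transpose R f : CartDual.D R A →ₐ[R] CartDual.D R A'') =
        Ideal.map (CartDual.transpose R g : CartDual.D R A' →ₐ[R] CartDual.D R A)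
          (RingHom.ker (Bialgebra.counitAlgHom R (CartDual.D R A'))) := by
  obtain ⟨r, hr⟩ := exists_linear_retraction (f : A'' →ₐ[R] A) hf
  have hsurj : Function.Surjective (transpose R f) := by
    intro ψ
    refine ⟨WithConv.toConv (ψ.ofConv ∘ₗ r), ?_⟩
    apply WithConv.ext
    apply LinearMap.ext
    intro c
    show ψ.ofConv (r ((f : A'' →ₐ[R] A) c)) = ψ.ofConv c
    rw [hr]
  have hI : (kerT f).IsHopfIdeal R := isHopfIdeal_ker_of_surjective (transpose R f) hsurj
  let eq : (D R A ⧸ kerT f) ≃ₐ[R] D R A'' :=
    Ideal.quotientKerAlgEquivOfSurjective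
      (f := (transpose R f : D R A →ₐ[R] D R A'')) hsurj
  have hfin : Module.Finite R (D R A ⧸ kerT f) := Module.Finite.equiv eq.symm.toLinearEquiv
  have hproj : Module.Projective R (D R A ⧸ kerT f) :=
    Module.Projective.of_equiv eq.symm.toLinearEquiv
  have hC : ∀ x : D R A, x ∈ coinv (R := R) (kerT f) ↔ x ∈ Set.range (transpose R g) := by
    intro x
    rw [mem_coinv_kerT_iff, mem_range_transpose_iff f g hg hker]
  have hginj : Function.Injective (transpose R g) := by
    intro x y hxy
    apply WithConv.ext
    apply LinearMap.ext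
    intro a'
    obtain ⟨a, rfl⟩ := hg a'
    have := congrArg (fun z : D R A => z a) hxy
    exact this
  refine ⟨?_, hsurj, ?_⟩
  · -- faithful flatness
    have hff : Module.FaithfullyFlat (coinv (R := R) (kerT f)) (D R A) :=
      faithfullyFlat_coinv (R := R) (kerT f)
    let G : D R A' →ₐ[R] D R A := (transpose R g : D R A' →ₐ[R] D R A)
    let e : D R A' →ₐ[R] coinv (R := R) (kerT f) :=
      G.codRestrict (coinv (R := R) (kerT f)) (fun x => (hC _).2 ⟨x, rfl⟩)
    have he : Function.Bijective e := by
      constructor
      · intro x y hxy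
        apply hginj
        exact congrArg Subtype.val hxy
      · rintro ⟨y, hy⟩
        obtain ⟨x, hx⟩ := (hC y).1 hy
        exact ⟨x, Subtype.ext hx⟩
    have h1 : (e : D R A' →+* coinv (R := R) (kerT f)).FaithfullyFlat :=
      RingHom.FaithfullyFlat.of_bijective he
    have h2 : (algebraMap (coinv (R := R) (kerT f)) (D R A)).FaithfullyFlat :=
      (RingHom.faithfullyFlat_algebraMap_iff).2 hff
    have h3 := RingHom.FaithfullyFlat.stableUnderComposition _ _ h1 h2
    exact h3
  · -- the kernel
    have haug := augIdealSpan_coinv_eq (R := R) (kerT f)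
    show kerT f = _
    rw [← haug]
    unfold SGA3.augIdealSpan
    show Ideal.span _ = Ideal.span _
    congr 1
    ext a
    constructor
    · rintro ⟨ha, ha0⟩
      obtain ⟨y, rfl⟩ := (hC a).1 ha
      refine ⟨y, ?_, rfl⟩
      rw [SetLike.mem_coe, RingHom.mem_ker, Bialgebra.counitAlgHom_apply,
        ← CoalgHomClass.counit_comp_apply (transpose R g) y]
      exact ha0
    · rintro ⟨y, hy, rfl⟩
      refine ⟨(hC _).2 ⟨y, rfl⟩, ?_⟩
      rw [SetLike.mem_coe, RingHom.mem_ker, Bialgebra.counitAlgHom_apply] at hy
      show CoalgebraStruct.counit (R := R) (transpose R g y) = 0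
      rw [CoalgHomClass.counit_comp_apply (transpose R g) y]
      exact hy

end Main

end Groth.Agent.Lib.CartDualExact41
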