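import Mathlib.RingTheory.HopfAlgebra.Convolution
import Mathlib.RingTheory.HopfAlgebra.Quotient
import Mathlib.LinearAlgebra.TensorProduct.Basis
import Mathlib.LinearAlgebra.Basis.VectorSpace

/-!
# Points of a Hopf algebra (helper41): separating families of functionals, closure of a subgroup
-/

set_option autoImplicit false
universe u v w

open TensorProduct

namespace Groth.Agent.Lib.HopfPoints

section Sep

variable {k : Type u} [Field k] {Q : Type v} {R : Type w} [AddCommGroup Q] [Module k Q]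
  [AddCommGroup R] [Module k R]

theorem repr_lid_rTensor {ι : Type*} (b : Module.Basis ι k R) [DecidableEq ι] (φ : Q →ₗ[k] k)
    (t : Q ⊗[k] R) (j : ι) :
    b.repr (TensorProduct.lid k R (φ.rTensor R t)) j =
      φ (TensorProduct.equivFinsuppOfBasisRight b t j) := by
  induction t using TensorProduct.induction_on with
  | zero => simp
  | add x y hx hy => simp only [map_add, Finsupp.add_apply, hx, hy]
  | tmul q r =>
    simp [mul_comm]

theorem mul'_map_eq (φ : Q →ₗ[k] k) (ψ : R →ₗ[k] k) (t : Q ⊗[k] R) :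
    LinearMap.mul' k k (TensorProduct.map φ ψ t) = ψ (TensorProduct.lid k R (φ.rTensor R t)) := by
  induction t using TensorProduct.induction_on with
  | zero => simp
  | add x y hx hy => simp only [map_add, hx, hy]
  | tmul q r => simp

/-- Tensor products of separating families of functionals are separating (over a field). -/
theorem eq_zero_of_forall_mul'_map_eq_zero (Φ : Set (Q →ₗ[k] k)) (Ψ : Set (R →ₗ[k] k))
    (hΦ : ∀ q : Q, (∀ φ ∈ Φ, φ q = 0) → q = 0) (hΨ : ∀ r : R, (∀ ψ ∈ Ψ, ψ r = 0) → r = 0)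
    (t : Q ⊗[k] R)
    (ht : ∀ φ ∈ Φ, ∀ ψ ∈ Ψ, LinearMap.mul' k k (TensorProduct.map φ ψ t) = 0) : t = 0 := by
  classical
  let b := Module.Basis.ofVectorSpace k R
  apply (TensorProduct.equivFinsuppOfBasisRight (M := Q) b).injective
  rw [map_zero]
  ext j
  rw [Finsupp.zero_apply]
  apply hΦ
  intro φ hφ
  have h1 : TensorProduct.lid k R (φ.rTensor R t) = 0 := by
    apply hΨ
    intro ψ hψ
    rw [← mul'_map_eq]
    exact ht φ hφ ψ hψ
  rw [← repr_lid_rTensor, h1, map_zero, Finsupp.zero_apply]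

end Sep

section Closure

variable {k : Type u} {A : Type v} [Field k] [CommRing A] [HopfAlgebra k A]

theorem lift_eq_mul'_map (f g : A →ₐ[k] k) (t : A ⊗[k] A) :
    Algebra.TensorProduct.lift f g (fun _ _ => .all ..) t =
      LinearMap.mul' k k (TensorProduct.map f.toLinearMap g.toLinearMap t) := by
  induction t using TensorProduct.induction_on with
  | zero => simp
  | add x y hx hy => simp only [map_add, hx, hy]
  | tmul a b => simp

/-- The ideal of functions vanishing on a subgroup of points is a Hopf ideal. -/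
theorem isHopfIdeal_iInf_ker (S : Subgroup (WithConv (A →ₐ[k] k))) :
    Ideal.IsHopfIdeal k (⨅ g ∈ S, RingHom.ker (WithConv.ofConv g : A →ₐ[k] k)) := by
  classical
  set I : Ideal A := ⨅ g ∈ S, RingHom.ker (WithConv.ofConv g : A →ₐ[k] k) with hI
  have hmem : ∀ x : A, x ∈ I ↔ ∀ g ∈ S, (WithConv.ofConv g : A →ₐ[k] k) x = 0 := by
    intro x
    simp only [hI, Ideal.mem_iInf, RingHom.mem_ker]
  refine @Ideal.IsHopfIdeal.mk k A _ _ _ I ⟨?_, ?_⟩ ?_
  · -- counit
    intro x hx
    have hx' : x ∈ I := hx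
    have := (hmem x).1 hx' 1 S.one_mem
    simpa using this
  · -- comultiplication
    intro x hx
    have hx' : x ∈ I := hx
    set J : Submodule k A := I.restrictScalars k with hJ
    let bar : (A →ₐ[k] k) → (A ⧸ J →ₗ[k] k) := fun g =>
      if h : J ≤ LinearMap.ker g.toLinearMap then J.liftQ g.toLinearMap h else 0
    have hbar : ∀ g ∈ S, ∀ a : A, bar (WithConv.ofConv g) (J.mkQ a) = (WithConv.ofConv g) a := by
      intro g hg a
      have hle : J ≤ LinearMap.ker (WithConv.ofConv g : A →ₐ[k] k).toLinearMap := by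
        intro y hy
        exact (hmem y).1 hy g hg
      simp only [bar, dif_pos hle]
      rfl
    let Φ : Set (A ⧸ J →ₗ[k] k) := {φ | ∃ g ∈ S, φ = bar (WithConv.ofConv g)}
    have hΦ : ∀ q : A ⧸ J, (∀ φ ∈ Φ, φ q = 0) → q = 0 := by
      intro q hq
      obtain ⟨a, rfl⟩ := J.mkQ_surjective q
      rw [Submodule.mkQ_apply, Submodule.Quotient.mk_eq_zero]
      show a ∈ I
      rw [hmem]
      intro g hg
      rw [← hbar g hg]
      exact hq _ ⟨g, hg, rfl⟩
    apply eq_zero_of_forall_mul'_map_eq_zero Φ Φ hΦ hΦ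
    rintro _ ⟨g, hg, rfl⟩ _ ⟨h, hh, rfl⟩
    rw [← LinearMap.comp_apply (TensorProduct.map _ _), ← TensorProduct.map_comp]
    have e1 : bar (WithConv.ofConv g) ∘ₗ J.mkQ = (WithConv.ofConv g : A →ₐ[k] k).toLinearMap :=
      LinearMap.ext fun a => hbar g hg a
    have e2 : bar (WithConv.ofConv h) ∘ₗ J.mkQ = (WithConv.ofConv h : A →ₐ[k] k).toLinearMap :=
      LinearMap.ext fun a => hbar h hh a
    rw [e1, e2, ← lift_eq_mul'_map]
    have := (hmem x).1 hx' (g * h) (S.mul_mem hg hh)
    rw [← AlgHom.convMul_apply]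
    exact this
  · -- antipode
    intro x hx
    rw [hmem] at hx ⊢
    intro g hg
    have := hx g⁻¹ (S.inv_mem hg)
    exact this

end Closure

end Groth.Agent.Lib.HopfPoints
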