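import Groth.Agent.Lib.HopfPointSep41b
import Groth.Agent.Lib.HopfPoints

/-!
# Finite étale Hopf algebras over an algebraically closed field (helper41)

* `finite_points`: a finite-dimensional algebra has finitely many `k`-points.
* `evPts k E : E →ₐ[k] ((E →ₐ[k] k) → k)`: evaluation at all points; `evPts_surjective`
  (Dedekind independence), `evPts_injective` (reduced, `k` algebraically closed).
* `exists_unique_bialgHom_of_monoidHom`: group homomorphisms between the groups of points of
  finite reduced commutative Hopf algebras are induced by unique bialgebra maps.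
-/

set_option autoImplicit false
set_option linter.unusedSectionVars false
universe u v

open TensorProduct

namespace Groth.Agent.Lib.FinEtaleHopf41

section Alg

variable (k : Type u) [Field k] (E : Type v) [CommRing E] [Algebra k E] [FiniteDimensional k E]

theorem finite_points : Finite (E →ₐ[k] k) :=
  (linearIndependent_algHom_toLinearMap k E k).finite_of_isNoetherian

/-- Evaluation at all rational points. -/
noncomputable def evPts : E →ₐ[k] ((E →ₐ[k] k) → k) :=
  AlgHom.pi (fun χ : E →ₐ[k] k => χ)

@[simp] theorem evPts_apply (a : E) (χ : E →ₐ[k] k) : evPts k E a χ = χ a := rfl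

theorem evPts_surjective : Function.Surjective (evPts k E) := by
  classical
  have hfin : Finite (E →ₐ[k] k) := finite_points k E
  have : Fintype (E →ₐ[k] k) := Fintype.ofFinite _
  rw [← AlgHom.coe_toLinearMap, ← LinearMap.range_eq_top]
  by_contra hne
  obtain ⟨f, hf0, hf⟩ := Submodule.exists_le_ker_of_lt_top _ (lt_top_iff_ne_top.2 hne)
  apply hf0
  have hli := linearIndependent_algHom_toLinearMap k E k
  rw [Fintype.linearIndependent_iff] at hli
  have hc : ∀ χ : E →ₐ[k] k, f (fun j => if χ = j then 1 else 0) = 0 := by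
    apply hli (fun χ => f (fun j => if χ = j then 1 else 0))
    apply LinearMap.ext
    intro a
    have h1 : f ((evPts k E).toLinearMap a) = 0 := hf ⟨a, rfl⟩
    rw [LinearMap.pi_apply_eq_sum_univ f] at h1
    rw [LinearMap.sum_apply, LinearMap.zero_apply]
    refine Eq.trans ?_ h1
    refine Finset.sum_congr rfl fun χ _ => ?_
    rw [LinearMap.smul_apply, AlgHom.toLinearMap_apply, AlgHom.toLinearMap_apply, evPts_apply,
      smul_eq_mul, smul_eq_mul, mul_comm]
  apply LinearMap.ext
  intro x
  rw [LinearMap.pi_apply_eq_sum_univ f, LinearMap.zero_apply]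
  exact Finset.sum_eq_zero fun χ _ => by rw [hc χ, smul_zero]

theorem evPts_injective [IsAlgClosed k] [IsReduced E] : Function.Injective (evPts k E) := by
  rw [injective_iff_map_eq_zero]
  intro a ha
  apply Groth.Agent.Lib.HopfPointSep41b.pointsSeparate_of_isReduced k E a
  intro g
  have := congrFun ha g
  simpa using this

end Alg

section Hopf

open Groth.Agent.Lib.HopfPoints Groth.Agent.Lib.HopfPointSep41b

variable (k : Type u) [Field k] [IsAlgClosed k]
  (E E' : Type u) [CommRing E] [HopfAlgebra k E] [FiniteDimensional k E] [IsReduced E]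
  [CommRing E'] [HopfAlgebra k E'] [FiniteDimensional k E'] [IsReduced E']

/-- The algebra map `E' → E` dual to a map of point sets. -/
noncomputable def pullPts (φ : (E →ₐ[k] k) → (E' →ₐ[k] k)) : E' →ₐ[k] E :=
  ((AlgEquiv.ofBijective (evPts k E) ⟨evPts_injective k E, evPts_surjective k E⟩).symm :
      ((E →ₐ[k] k) → k) →ₐ[k] E).comp
    ((AlgHom.pi (fun χ : E →ₐ[k] k => Pi.evalAlgHom k (fun _ : E' →ₐ[k] k => k) (φ χ))).comp
      (evPts k E'))

theorem apply_pullPts (φ : (E →ₐ[k] k) → (E' →ₐ[k] k)) (χ : E →ₐ[k] k) (a : E') :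
    χ (pullPts k E E' φ a) = φ χ a := by
  have h := (AlgEquiv.ofBijective (evPts k E)
    ⟨evPts_injective k E, evPts_surjective k E⟩).apply_symm_apply
    ((AlgHom.pi (fun χ : E →ₐ[k] k => Pi.evalAlgHom k (fun _ : E' →ₐ[k] k => k) (φ χ)))
      (evPts k E' a))
  have h2 := congrFun h χ
  exact h2

theorem comp_pullPts (φ : (E →ₐ[k] k) → (E' →ₐ[k] k)) (χ : E →ₐ[k] k) :
    χ.comp (pullPts k E E' φ) = φ χ :=
  AlgHom.ext fun a => apply_pullPts k E E' φ χ a

/-- Group homomorphisms between the groups of points of finite étale group schemes over an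
algebraically closed field are induced by unique bialgebra maps. -/
theorem existsUnique_bialgHom_of_monoidHom
    (Φ : WithConv (E →ₐ[k] k) →* WithConv (E' →ₐ[k] k)) :
    ∃! f : E' →ₐc[k] E, ∀ χ : E →ₐ[k] k,
      Φ (WithConv.toConv χ) = WithConv.toConv (χ.comp (f : E' →ₐ[k] E)) := by
  have hsep : PointsSeparate k E := pointsSeparate_of_isReduced k E
  let φ : (E →ₐ[k] k) → (E' →ₐ[k] k) := fun χ => (Φ (WithConv.toConv χ)).ofConv
  let f₀ : E' →ₐ[k] E := pullPts k E E' φ
  have hf₀ : ∀ χ : E →ₐ[k] k, χ.comp f₀ = φ χ := comp_pullPts k E E' φ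
  have hcounit : (Bialgebra.counitAlgHom k E).comp f₀ = Bialgebra.counitAlgHom k E' := by
    have h1 : (Bialgebra.counitAlgHom k E) = (1 : WithConv (E →ₐ[k] k)).ofConv := by
      ext a
      simp
    have h1' : (Bialgebra.counitAlgHom k E') = (1 : WithConv (E' →ₐ[k] k)).ofConv := by
      ext a
      simp
    rw [h1, hf₀, h1']
    show (Φ 1).ofConv = _
    rw [map_one]
  have hcomul : (Algebra.TensorProduct.map f₀ f₀).comp (Bialgebra.comulAlgHom k E') =
      (Bialgebra.comulAlgHom k E).comp f₀ := by
    ext a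
    rw [← sub_eq_zero]
    let S : Set (E →ₗ[k] k) := Set.range (fun χ : E →ₐ[k] k => χ.toLinearMap)
    have hS : ∀ q : E, (∀ ψ ∈ S, ψ q = 0) → q = 0 := by
      intro q hq
      apply hsep
      intro g
      exact hq _ ⟨g, rfl⟩
    apply eq_zero_of_forall_mul'_map_eq_zero S S hS hS
    rintro _ ⟨χ, rfl⟩ _ ⟨χ', rfl⟩
    rw [map_sub, map_sub, sub_eq_zero]
    show LinearMap.mul' k k (TensorProduct.map χ.toLinearMap χ'.toLinearMap
        ((Algebra.TensorProduct.map f₀ f₀) (CoalgebraStruct.comul (R := k) a))) =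
      LinearMap.mul' k k (TensorProduct.map χ.toLinearMap χ'.toLinearMap
        (CoalgebraStruct.comul (R := k) (f₀ a)))
    rw [← lift_eq_mul'_map, ← lift_eq_mul'_map]
    have e2 : Algebra.TensorProduct.lift χ χ' (fun _ _ => .all ..)
        (CoalgebraStruct.comul (R := k) (f₀ a)) =
        (WithConv.toConv χ * WithConv.toConv χ') (f₀ a) :=
      (AlgHom.convMul_apply (WithConv.toConv χ) (WithConv.toConv χ') (f₀ a)).symm
    rw [e2]
    have e3 : (WithConv.toConv χ * WithConv.toConv χ') (f₀ a) =
        (φ (WithConv.toConv χ * WithConv.toConv χ').ofConv) a := by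
      rw [← hf₀]
      rfl
    rw [e3]
    have e4 : φ (WithConv.toConv χ * WithConv.toConv χ').ofConv =
        (WithConv.toConv (φ χ) * WithConv.toConv (φ χ')).ofConv := by
      show (Φ (WithConv.toConv χ * WithConv.toConv χ')).ofConv = _
      rw [map_mul]
    rw [e4]
    have e5 : ((WithConv.toConv (φ χ) * WithConv.toConv (φ χ')).ofConv) a =
        Algebra.TensorProduct.lift (φ χ) (φ χ') (fun _ _ => .all ..)
          (CoalgebraStruct.comul (R := k) a) :=
      AlgHom.convMul_apply (WithConv.toConv (φ χ)) (WithConv.toConv (φ χ')) a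
    rw [e5, ← hf₀ χ, ← hf₀ χ']
    generalize CoalgebraStruct.comul (R := k) a = t
    induction t using TensorProduct.induction_on with
    | zero => simp
    | add x y hx hy => simp only [map_add, hx, hy]
    | tmul x y => simp
  refine ⟨BialgHom.ofAlgHom f₀ hcounit hcomul, ?_, ?_⟩
  · intro χ
    show Φ (WithConv.toConv χ) = WithConv.toConv (χ.comp f₀)
    rw [hf₀]
  · intro g hg
    apply BialgHom.ext
    intro a
    apply sub_eq_zero.1
    apply hsep
    intro χ
    rw [map_sub, sub_eq_zero]
    have h1 : χ (g a) = (χ.comp (g : E' →ₐ[k] E)) a := rfl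
    have h2 : (χ.comp (g : E' →ₐ[k] E)) = φ χ := by
      have := hg χ
      show _ = (Φ (WithConv.toConv χ)).ofConv
      rw [this]
    rw [h1, h2]
    show _ = χ (f₀ a)
    have h3 : χ (f₀ a) = (χ.comp f₀) a := rfl
    rw [h3, hf₀]

end Hopf

end Groth.Agent.Lib.FinEtaleHopf41
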