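import Mathlib.RingTheory.HopfAlgebra.Quotient
import Mathlib.RingTheory.Bialgebra.TensorProduct
import Mathlib.FieldTheory.Perfect
import Mathlib.RingTheory.Nilpotent.Lemmas
import Mathlib.RingTheory.Noetherian.Nilpotent
import Mathlib.LinearAlgebra.FiniteDimensional.Lemmas
import Mathlib.Algebra.CharP.Algebra
import Mathlib.RingTheory.Ideal.Quotient.Nilpotent

/-!
# The Frobenius-power section `E_red → E` of a finite commutative Hopf algebra over a perfect field
(helper41)

* `nontrivial_of_bialgebra`, `charP_of_bialgebra`: a bialgebra over a field is nontrivial and has the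
  characteristic of the field.
* `frobenius_surjective_of_finite_reduced`: a finite-dimensional reduced algebra over a perfect field
  of characteristic `p` has surjective Frobenius; `perfectRing_of_finite_reduced`.
* `exists_frobenius_pow_eq_zero`: for a Noetherian ring of char. `p` some `p^n`-th power kills the
  nilradical.
-/

set_option autoImplicit false
universe u v

open TensorProduct

namespace Groth.Agent.Lib.FrobSection41

section basics

variable {k : Type u} [Field k]

theorem nontrivial_of_bialgebra (B : Type v) [Semiring B] [Bialgebra k B] : Nontrivial B := by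
  refine ⟨⟨0, 1, fun h => ?_⟩⟩
  have h1 := congrArg (Coalgebra.counit (R := k) (A := B)) h
  rw [map_zero, Bialgebra.counit_one] at h1
  exact zero_ne_one h1

theorem charP_of_bialgebra (p : ℕ) [CharP k p] (B : Type v) [Ring B] [Bialgebra k B] :
    CharP B p := by
  have := nontrivial_of_bialgebra (k := k) B
  exact charP_of_injective_algebraMap (algebraMap k B).injective p

variable [PerfectField k] (p : ℕ) [Fact p.Prime] [CharP k p]

theorem frobenius_surjective_of_finite_reduced
    (Q : Type v) [CommRing Q] [Algebra k Q] [FiniteDimensional k Q] [IsReduced Q] [CharP Q p] :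
    Function.Surjective (frobenius Q p) := by
  classical
  let b := Module.finBasis k Q
  have hli : LinearIndependent k (fun i => (b i) ^ p) := by
    rw [Fintype.linearIndependent_iff]
    intro c hc i
    have h1 : (∑ i, (frobeniusEquiv k p).symm (c i) • b i) ^ p = 0 := by
      rw [← frobenius_def, map_sum, ← hc]
      refine Finset.sum_congr rfl fun i _ => ?_
      rw [frobenius_def, smul_pow, frobeniusEquiv_symm_pow_p]
    have h2 : ∑ i, (frobeniusEquiv k p).symm (c i) • b i = 0 :=
      IsReduced.eq_zero _ ⟨p, h1⟩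
    have h3 := (Fintype.linearIndependent_iff.1 b.linearIndependent) _ h2 i
    simpa using h3
  have hspan := hli.span_eq_top_of_card_eq_finrank' (Module.finrank_eq_card_basis b).symm
  intro y
  have hy : y ∈ Submodule.span k (Set.range fun i => (b i) ^ p) := hspan ▸ Submodule.mem_top
  obtain ⟨c, rfl⟩ := (Submodule.mem_span_range_iff_exists_fun k).1 hy
  refine ⟨∑ i, (frobeniusEquiv k p).symm (c i) • b i, ?_⟩
  rw [map_sum]
  refine Finset.sum_congr rfl fun i _ => ?_
  rw [frobenius_def, smul_pow, frobeniusEquiv_symm_pow_p]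

theorem perfectRing_of_finite_reduced
    (Q : Type v) [CommRing Q] [Algebra k Q] [FiniteDimensional k Q] [IsReduced Q] [CharP Q p] :
    PerfectRing Q p :=
  PerfectRing.ofSurjective Q p (frobenius_surjective_of_finite_reduced (k := k) p Q)

end basics

section sect

theorem isReduced_quotient_nilradical (R : Type v) [CommRing R] : IsReduced (R ⧸ nilradical R) :=
  (Ideal.isRadical_iff_quotient_reduced _).1 (Ideal.radical_isRadical _)

theorem exists_pow_eq_zero_of_mem_nilradical (R : Type v) [CommRing R] [IsNoetherianRing R]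
    (p : ℕ) (hp : 1 < p) : ∃ n : ℕ, ∀ x ∈ nilradical R, x ^ p ^ n = 0 := by
  obtain ⟨m, hm⟩ := IsNoetherianRing.isNilpotent_nilradical R
  refine ⟨m, fun x hx => ?_⟩
  have h1 : x ^ m ∈ (nilradical R) ^ m := Ideal.pow_mem_pow hx m
  rw [hm] at h1
  have h2 : x ^ m = 0 := h1
  exact pow_eq_zero_of_le (Nat.lt_pow_self hp).le h2

/-- If two algebra maps agree after taking `p^n`-th powers, so do their tensor squares. -/
theorem map_pow_eq_map_pow {k : Type u} [CommRing k] {A : Type v} {B : Type v} [CommRing A]
    [CommRing B] [Algebra k A] [Algebra k B] (p : ℕ) [Fact p.Prime] [CharP (B ⊗[k] B) p] (n : ℕ)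
    (f g : A →ₐ[k] B) (h : ∀ a, f a ^ p ^ n = g a ^ p ^ n) (t : A ⊗[k] A) :
    (Algebra.TensorProduct.map f f t) ^ p ^ n = (Algebra.TensorProduct.map g g t) ^ p ^ n := by
  induction t using TensorProduct.induction_on with
  | zero => simp
  | tmul a b =>
    rw [Algebra.TensorProduct.map_tmul, Algebra.TensorProduct.map_tmul,
      Algebra.TensorProduct.tmul_pow, Algebra.TensorProduct.tmul_pow, h a, h b]
  | add x y hx hy =>
    rw [map_add, map_add, add_pow_char_pow, add_pow_char_pow, hx, hy]

/-- The quotient of a finite-dimensional commutative Hopf algebra over a perfect field of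
characteristic `p` by its nilradical is a perfect ring. -/
theorem perfectRing_quotient_nilradical (k : Type u) [Field k] [PerfectField k] (p : ℕ)
    [Fact p.Prime] [CharP k p] (E : Type v) [CommRing E] [HopfAlgebra k E] [FiniteDimensional k E]
    [(nilradical E).IsHopfIdeal k] :
    ∃ _ : CharP (E ⧸ nilradical E) p, PerfectRing (E ⧸ nilradical E) p := by
  have hred := isReduced_quotient_nilradical E
  have hQ : CharP (E ⧸ nilradical E) p := charP_of_bialgebra (k := k) p _
  exact ⟨hQ, perfectRing_of_finite_reduced (k := k) p _⟩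

/-- **Splitting of the reduced quotient.** -/
theorem exists_section (k : Type u) [Field k] [PerfectField k] (p : ℕ)
    [Fact p.Prime] [CharP k p] (E : Type v) [CommRing E] [HopfAlgebra k E] [FiniteDimensional k E]
    [(nilradical E).IsHopfIdeal k] :
    ∃ σ : (E ⧸ nilradical E) →ₐc[k] E,
      (Bialgebra.Quotient.mkBialgHom (R := k) (nilradical E)).comp σ =
        BialgHom.id k (E ⧸ nilradical E) := by
  have hE : CharP E p := charP_of_bialgebra (k := k) p E
  have hQ : CharP (E ⧸ nilradical E) p := charP_of_bialgebra (k := k) p _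
  have hEE : CharP (E ⊗[k] E) p := charP_of_bialgebra (k := k) p _
  have hred := isReduced_quotient_nilradical E
  have hnoeth : IsNoetherianRing E := IsNoetherianRing.of_finite k E
  have hperf : PerfectRing (E ⧸ nilradical E) p := perfectRing_of_finite_reduced (k := k) p _
  obtain ⟨n, hn⟩ := exists_pow_eq_zero_of_mem_nilradical E p (Fact.out : p.Prime).one_lt
  let φ : (E ⧸ nilradical E) →+* E :=
    Ideal.Quotient.lift (nilradical E) (iterateFrobenius E p n)
      (fun x hx => by rw [iterateFrobenius_def]; exact hn x hx)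
  let σ₀ : (E ⧸ nilradical E) →+* E :=
    φ.comp ((iterateFrobeniusEquiv (E ⧸ nilradical E) p n).symm : _ →+* _)
  have hσ₀ : ∀ e : E, σ₀ (Ideal.Quotient.mk _ e ^ p ^ n) = e ^ p ^ n := by
    intro e
    show φ ((iterateFrobeniusEquiv (E ⧸ nilradical E) p n).symm
      (Ideal.Quotient.mk _ e ^ p ^ n)) = _
    rw [← iterateFrobeniusEquiv_def, RingEquiv.symm_apply_apply]
    rfl
  have hsurj : ∀ y : E ⧸ nilradical E, ∃ e : E, y = Ideal.Quotient.mk _ e ^ p ^ n := by
    intro y
    obtain ⟨e, he⟩ := Ideal.Quotient.mk_surjective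
      ((iterateFrobeniusEquiv (E ⧸ nilradical E) p n).symm y)
    refine ⟨e, ?_⟩
    rw [he, ← iterateFrobeniusEquiv_def, RingEquiv.apply_symm_apply]
  let σ₁ : (E ⧸ nilradical E) →ₐ[k] E :=
    { σ₀ with
      commutes' := by
        intro c
        have hc : c = ((iterateFrobeniusEquiv k p n).symm c) ^ p ^ n := by
          rw [← iterateFrobeniusEquiv_def, RingEquiv.apply_symm_apply]
        show σ₀ (algebraMap k (E ⧸ nilradical E) c) = algebraMap k E c
        conv_lhs => rw [hc]
        conv_rhs => rw [hc]
        rw [map_pow (algebraMap k E), map_pow (algebraMap k (E ⧸ nilradical E))]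
        exact hσ₀ (algebraMap k E ((iterateFrobeniusEquiv k p n).symm c)) }
  have hσ₁ : ∀ e : E, σ₁ (Ideal.Quotient.mk _ e ^ p ^ n) = e ^ p ^ n := hσ₀
  have hcounit : (Bialgebra.counitAlgHom k E).comp σ₁ =
      Bialgebra.counitAlgHom k (E ⧸ nilradical E) := by
    ext y
    obtain ⟨e, rfl⟩ := hsurj y
    show Coalgebra.counit (R := k) (σ₁ (Ideal.Quotient.mk _ e ^ p ^ n)) =
      Coalgebra.counit (R := k) (Ideal.Quotient.mk (nilradical E) e ^ p ^ n)
    rw [hσ₁, Bialgebra.counit_pow, Bialgebra.counit_pow, Bialgebra.Quotient.counit_mk]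
  have hcomul : (Algebra.TensorProduct.map σ₁ σ₁).comp
      (Bialgebra.comulAlgHom k (E ⧸ nilradical E)) = (Bialgebra.comulAlgHom k E).comp σ₁ := by
    ext y
    obtain ⟨e, rfl⟩ := hsurj y
    show Algebra.TensorProduct.map σ₁ σ₁
        (Coalgebra.comul (R := k) (Ideal.Quotient.mk (nilradical E) e ^ p ^ n)) =
      Coalgebra.comul (R := k) (σ₁ (Ideal.Quotient.mk _ e ^ p ^ n))
    rw [hσ₁, Bialgebra.comul_pow, Bialgebra.comul_pow, map_pow, Bialgebra.Quotient.comul_mk]
    have h1 : Algebra.TensorProduct.map σ₁ σ₁
        (TensorProduct.map (Ideal.Quotient.mkₐ k (nilradical E)).toLinearMap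
          (Ideal.Quotient.mkₐ k (nilradical E)).toLinearMap (Coalgebra.comul (R := k) e)) =
        Algebra.TensorProduct.map (σ₁.comp (Ideal.Quotient.mkₐ k (nilradical E)))
          (σ₁.comp (Ideal.Quotient.mkₐ k (nilradical E))) (Coalgebra.comul (R := k) e) := by
      generalize Coalgebra.comul (R := k) e = t
      induction t using TensorProduct.induction_on with
      | zero => simp
      | tmul a b => rfl
      | add x y hx hy => rw [map_add, map_add, map_add, hx, hy]
    rw [h1, map_pow_eq_map_pow p n _ (AlgHom.id k E)]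
    · simp
    · intro a
      show σ₁ (Ideal.Quotient.mk _ a) ^ p ^ n = a ^ p ^ n
      rw [← map_pow, hσ₁]
  refine ⟨BialgHom.ofAlgHom σ₁ hcounit hcomul, ?_⟩
  refine BialgHom.ext fun y => ?_
  obtain ⟨e, rfl⟩ := hsurj y
  show Ideal.Quotient.mk (nilradical E) (σ₁ (Ideal.Quotient.mk _ e ^ p ^ n)) = _
  rw [hσ₁, map_pow]
  rfl

end sect

end Groth.Agent.Lib.FrobSection41
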