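import Mathlib.RingTheory.HopfAlgebra.Basic
import Mathlib.RingTheory.Bialgebra.Hom
import Mathlib.RingTheory.Flat.Basic
import Mathlib.RingTheory.TensorProduct.Maps
import Mathlib.LinearAlgebra.Basis.VectorSpace
import Mathlib.LinearAlgebra.FreeModule.Basic

/-!
# Hopf subalgebras are Hopf algebras (helper41)

For a commutative Hopf algebra `A` over a field `k` and a subalgebra `B` stable under the
comultiplication (`ComulStable B`) and the antipode (`AntipodeStable B`): the induced
`Bialgebra k B` (`bialgebra`) and `HopfAlgebra k B` (`hopfAlgebra`) structures (reducible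
definitions, not instances), with `iota2_comulB : (val ⊗ val) (Δ_B b) = Δ_A b`.
-/

set_option autoImplicit false
universe u v

namespace Groth.Agent.Lib.HopfSub41

open TensorProduct

variable {k : Type u} [Field k] {A : Type v} [CommRing A] [HopfAlgebra k A] (B : Subalgebra k A)

local notation "Δ" => CoalgebraStruct.comul (R := k)
local notation "ε" => CoalgebraStruct.counit (R := k)

/-- `B ⊗ B → A ⊗ A`. -/
noncomputable abbrev iota2 : B ⊗[k] B →ₐ[k] A ⊗[k] A := Algebra.TensorProduct.map B.val B.val

theorem iota2_eq (t : B ⊗[k] B) :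
    iota2 B t = TensorProduct.map B.val.toLinearMap B.val.toLinearMap t := by
  induction t using TensorProduct.induction_on with
  | zero => simp
  | add x y hx hy => simp only [map_add, hx, hy]
  | tmul p q => simp

theorem iota2_injective : Function.Injective (iota2 B) := by
  have h : Function.Injective (TensorProduct.map B.val.toLinearMap B.val.toLinearMap) :=
    TensorProduct.map_injective_of_flat_flat _ _ Subtype.val_injective Subtype.val_injective
  intro x y hxy
  apply h
  rw [← iota2_eq, ← iota2_eq, hxy]

/-- Stability under comultiplication. -/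
def ComulStable : Prop := ∀ b ∈ B, Δ b ∈
  LinearMap.range (TensorProduct.map B.val.toLinearMap B.val.toLinearMap)

variable {B}

theorem comul_mem_range (hΔ : ComulStable B) (b : B) :
    ((Bialgebra.comulAlgHom k A).comp B.val) b ∈ (iota2 B).range := by
  obtain ⟨t, ht⟩ := hΔ b.1 b.2
  refine ⟨t, ?_⟩
  show iota2 B t = _
  rw [iota2_eq, ht]
  rfl

/-- The comultiplication of a Hopf subalgebra. -/
noncomputable def comulB (hΔ : ComulStable B) : B →ₐ[k] B ⊗[k] B :=
  ((AlgEquiv.ofInjective (iota2 B) (iota2_injective B)).symm : (iota2 B).range →ₐ[k] B ⊗[k] B).comp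
    (((Bialgebra.comulAlgHom k A).comp B.val).codRestrict (iota2 B).range (comul_mem_range hΔ))

theorem iota2_comulB (hΔ : ComulStable B) (b : B) : iota2 B (comulB hΔ b) = Δ (b : A) := by
  have := (AlgEquiv.ofInjective (iota2 B) (iota2_injective B)).apply_symm_apply
    ((((Bialgebra.comulAlgHom k A).comp B.val).codRestrict (iota2 B).range
      (comul_mem_range hΔ)) b)
  exact congrArg Subtype.val this

/-- The counit of a Hopf subalgebra. -/
noncomputable def counitB (B : Subalgebra k A) : B →ₐ[k] k := (Bialgebra.counitAlgHom k A).comp B.val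

/-- The inclusion as a linear map. -/
noncomputable abbrev io (B : Subalgebra k A) : B →ₗ[k] A := B.val.toLinearMap

theorem io_injective : Function.Injective (io B) := Subtype.val_injective

theorem map_io_comulB (hΔ : ComulStable B) :
    TensorProduct.map (io B) (io B) ∘ₗ (comulB hΔ).toLinearMap = (Δ : A →ₗ[k] A ⊗[k] A) ∘ₗ io B := by
  apply LinearMap.ext
  intro b
  simp only [LinearMap.comp_apply]
  exact (iota2_eq B _).symm.trans (iota2_comulB hΔ b)

theorem coassocB (hΔ : ComulStable B) :
    (TensorProduct.assoc k B B B).toLinearMap ∘ₗ (comulB hΔ).toLinearMap.rTensor B ∘ₗ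
      (comulB hΔ).toLinearMap =
    (comulB hΔ).toLinearMap.lTensor B ∘ₗ (comulB hΔ).toLinearMap := by
  have hinj : Function.Injective (TensorProduct.map (io B) (TensorProduct.map (io B) (io B))) :=
    TensorProduct.map_injective_of_flat_flat _ _ io_injective
      (TensorProduct.map_injective_of_flat_flat _ _ io_injective io_injective)
  have N1 : TensorProduct.map (io B) (TensorProduct.map (io B) (io B)) ∘ₗ
      (TensorProduct.assoc k B B B).toLinearMap =
      (TensorProduct.assoc k A A A).toLinearMap ∘ₗ
        TensorProduct.map (TensorProduct.map (io B) (io B)) (io B) := by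
    apply TensorProduct.ext_threefold
    intro x y z
    rfl
  have N2 : TensorProduct.map (TensorProduct.map (io B) (io B)) (io B) ∘ₗ
      (comulB hΔ).toLinearMap.rTensor B =
      (Δ : A →ₗ[k] A ⊗[k] A).rTensor A ∘ₗ TensorProduct.map (io B) (io B) := by
    rw [LinearMap.rTensor, ← TensorProduct.map_comp, map_io_comulB, LinearMap.comp_id,
      LinearMap.rTensor, ← TensorProduct.map_comp, LinearMap.id_comp]
  have N3 : TensorProduct.map (io B) (TensorProduct.map (io B) (io B)) ∘ₗ
      (comulB hΔ).toLinearMap.lTensor B =
      (Δ : A →ₗ[k] A ⊗[k] A).lTensor A ∘ₗ TensorProduct.map (io B) (io B) := by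
    rw [LinearMap.lTensor, ← TensorProduct.map_comp, map_io_comulB, LinearMap.comp_id,
      LinearMap.lTensor, ← TensorProduct.map_comp, LinearMap.id_comp]
  apply LinearMap.ext
  intro b
  apply hinj
  have e1 := LinearMap.congr_fun N1
  have e2 := LinearMap.congr_fun N2
  have e3 := LinearMap.congr_fun N3
  have e4 := LinearMap.congr_fun (map_io_comulB hΔ)
  simp only [LinearMap.comp_apply] at e1 e2 e3 e4 ⊢
  rw [e1, e2, e3, e4]
  exact Coalgebra.coassoc_apply (R := k) (b : A)

theorem rTensor_counitB (hΔ : ComulStable B) :
    (counitB B).toLinearMap.rTensor B ∘ₗ (comulB hΔ).toLinearMap = TensorProduct.mk k k B 1 := by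
  have hinj : Function.Injective ((io B).lTensor k) :=
    Module.Flat.lTensor_preserves_injective_linearMap _ io_injective
  apply LinearMap.ext
  intro b
  apply hinj
  have N : (io B).lTensor k ∘ₗ (counitB B).toLinearMap.rTensor B =
      (ε : A →ₗ[k] k).rTensor A ∘ₗ TensorProduct.map (io B) (io B) := by
    apply TensorProduct.ext'
    intro x y
    rfl
  have e1 := LinearMap.congr_fun N
  have e4 := LinearMap.congr_fun (map_io_comulB hΔ)
  simp only [LinearMap.comp_apply] at e1 e4 ⊢
  rw [e1, e4, Coalgebra.rTensor_counit_comul]
  rfl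

theorem lTensor_counitB (hΔ : ComulStable B) :
    (counitB B).toLinearMap.lTensor B ∘ₗ (comulB hΔ).toLinearMap =
      (TensorProduct.mk k B k).flip 1 := by
  have hinj : Function.Injective ((io B).rTensor k) :=
    Module.Flat.rTensor_preserves_injective_linearMap _ io_injective
  apply LinearMap.ext
  intro b
  apply hinj
  have N : (io B).rTensor k ∘ₗ (counitB B).toLinearMap.lTensor B =
      (ε : A →ₗ[k] k).lTensor A ∘ₗ TensorProduct.map (io B) (io B) := by
    apply TensorProduct.ext'
    intro x y
    rfl
  have e1 := LinearMap.congr_fun N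
  have e4 := LinearMap.congr_fun (map_io_comulB hΔ)
  simp only [LinearMap.comp_apply] at e1 e4 ⊢
  rw [e1, e4, Coalgebra.lTensor_counit_comul]
  rfl

/-- The bialgebra structure on a subalgebra stable under comultiplication. -/
@[reducible] noncomputable def bialgebra (hΔ : ComulStable B) : Bialgebra k B :=
  Bialgebra.ofAlgHom (comulB hΔ) (counitB B)
    (AlgHom.toLinearMap_injective (coassocB hΔ))
    (AlgHom.toLinearMap_injective (rTensor_counitB hΔ))
    (AlgHom.toLinearMap_injective (lTensor_counitB hΔ))

/-- Stability under the antipode. -/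
def AntipodeStable (B : Subalgebra k A) : Prop := ∀ b ∈ B, HopfAlgebraStruct.antipode k b ∈ B

/-- The antipode of a Hopf subalgebra. -/
noncomputable def antipodeB (hS : AntipodeStable B) : B →ₗ[k] B where
  toFun b := ⟨HopfAlgebraStruct.antipode k (b : A), hS b.1 b.2⟩
  map_add' x y := by
    apply Subtype.ext
    simp
  map_smul' c x := by
    apply Subtype.ext
    simp

/-- The Hopf algebra structure on a Hopf subalgebra (over a field). -/
@[reducible] noncomputable def hopfAlgebra (hΔ : ComulStable B) (hS : AntipodeStable B) :
    HopfAlgebra k B :=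
  letI := bialgebra hΔ
  { antipode := antipodeB hS
    mul_antipode_rTensor_comul := by
      apply LinearMap.ext
      intro b
      apply io_injective (B := B)
      have N : io B ∘ₗ LinearMap.mul' k B ∘ₗ (antipodeB hS).rTensor B =
          LinearMap.mul' k A ∘ₗ (HopfAlgebraStruct.antipode k (A := A)).rTensor A ∘ₗ
            TensorProduct.map (io B) (io B) := by
        apply TensorProduct.ext'
        intro x y
        rfl
      have e1 := LinearMap.congr_fun N
      have e4 := LinearMap.congr_fun (map_io_comulB hΔ)
      simp only [LinearMap.comp_apply] at e1 e4 ⊢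
      show io B (LinearMap.mul' k B ((antipodeB hS).rTensor B ((comulB hΔ).toLinearMap b))) = _
      rw [e1, e4, HopfAlgebra.mul_antipode_rTensor_comul_apply]
      rfl
    mul_antipode_lTensor_comul := by
      apply LinearMap.ext
      intro b
      apply io_injective (B := B)
      have N : io B ∘ₗ LinearMap.mul' k B ∘ₗ (antipodeB hS).lTensor B =
          LinearMap.mul' k A ∘ₗ (HopfAlgebraStruct.antipode k (A := A)).lTensor A ∘ₗ
            TensorProduct.map (io B) (io B) := by
        apply TensorProduct.ext'
        intro x y
        rfl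
      have e1 := LinearMap.congr_fun N
      have e4 := LinearMap.congr_fun (map_io_comulB hΔ)
      simp only [LinearMap.comp_apply] at e1 e4 ⊢
      show io B (LinearMap.mul' k B ((antipodeB hS).lTensor B ((comulB hΔ).toLinearMap b))) = _
      rw [e1, e4, HopfAlgebra.mul_antipode_lTensor_comul_apply]
      rfl }

theorem comul_def (hΔ : ComulStable B) (hS : AntipodeStable B) (b : B) :
    letI := hopfAlgebra hΔ hS
    CoalgebraStruct.comul (R := k) b = comulB hΔ b := rfl

theorem counit_def (hΔ : ComulStable B) (hS : AntipodeStable B) (b : B) :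
    letI := hopfAlgebra hΔ hS
    CoalgebraStruct.counit (R := k) b = ε (b : A) := rfl

end Groth.Agent.Lib.HopfSub41
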