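import Groth.Agent.Lib.HopfFlat41
import Groth.Agent.Lib.HopfSub41
import Mathlib.RingTheory.RingHom.FaithfullyFlat

/-!
# Takeuchi's theorem, user-facing forms (helper41)

* `faithfullyFlat_of_bialgHom`: an injective bialgebra map `f : K →ₐc[k] H` of commutative Hopf
  algebras over a field is faithfully flat (as a ring map).
* `faithfullyFlat_of_hopfSubalgebra`: a commutative Hopf algebra over a field is faithfully flat
  over a subalgebra stable under comultiplication and antipode.
* `faithfullyFlat_range`: `H` is faithfully flat over the range of a bialgebra map.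
-/

set_option autoImplicit false
universe u v w

namespace Groth.Agent.Lib.HopfFlat41

open TensorProduct

section

variable {k : Type u} [Field k] {K : Type v} {H : Type w} [CommRing K] [CommRing H]
  [HopfAlgebra k K] [HopfAlgebra k H]

/-- An algebra structure given by a bialgebra map satisfies `IsBialgMap`. -/
theorem isBialgMap_of_bialgHom [Algebra K H] [IsScalarTower k K H] (f : K →ₐc[k] H)
    (hfa : ∀ a, algebraMap K H a = f a) : IsBialgMap k K H := by
  have hf : (fA k K H).toLinearMap = (f : K →ₗ[k] H) := by
    apply LinearMap.ext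
    intro a
    exact hfa a
  refine ⟨fun a => ?_, fun a => ?_⟩
  · rw [hfa, hf]
    exact (CoalgHomClass.map_comp_comul_apply f a).symm
  · rw [hfa]
    exact CoalgHomClass.counit_comp_apply f a

/-- **Takeuchi**: an injective bialgebra map between commutative Hopf algebras over a field is
faithfully flat. -/
theorem faithfullyFlat_of_bialgHom (f : K →ₐc[k] H) (hf : Function.Injective f) :
    (f : K →+* H).FaithfullyFlat := by
  let _ : Algebra K H := (f : K →+* H).toAlgebra
  have : IsScalarTower k K H :=
    IsScalarTower.of_algebraMap_eq fun r => (AlgHomClass.commutes f r).symm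
  exact faithfullyFlat_of_isBialgMap (isBialgMap_of_bialgHom f fun _ => rfl) hf

end

section Sub

variable {k : Type u} [Field k] {A : Type v} [CommRing A] [HopfAlgebra k A]

open Groth.Agent.Lib.HopfSub41

/-- **Takeuchi**: a commutative Hopf algebra over a field is faithfully flat over a Hopf
subalgebra. -/
theorem faithfullyFlat_of_hopfSubalgebra (B : Subalgebra k A) (hΔ : ComulStable B)
    (hS : AntipodeStable B) : Module.FaithfullyFlat B A := by
  let _ := hopfAlgebra hΔ hS
  refine faithfullyFlat_of_isBialgMap (k := k) (K := B) (H := A) ⟨fun b => ?_, fun b => rfl⟩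
    Subtype.val_injective
  have h := iota2_comulB hΔ b
  rw [iota2_eq] at h
  exact h.symm

end Sub

section Range

open WithConv

variable {k : Type u} [Field k] {A : Type v} {B : Type w} [CommRing A] [CommRing B]
  [HopfAlgebra k A] [HopfAlgebra k B]

/-- A bialgebra map between Hopf algebras commutes with the antipodes. -/
theorem bialgHom_antipode (f : A →ₐc[k] B) (a : A) :
    f (HopfAlgebraStruct.antipode k a) = HopfAlgebraStruct.antipode k (f a) := by
  let fl : A →ₗ[k] B := (f : A →ₐ[k] B).toLinearMap
  let L : WithConv (A →ₗ[k] B) := toConv (fl ∘ₗ HopfAlgebraStruct.antipode k (A := A))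
  let F : WithConv (A →ₗ[k] B) := toConv fl
  let Rr : WithConv (A →ₗ[k] B) := toConv (HopfAlgebraStruct.antipode k (A := B) ∘ₗ fl)
  have h1 : L * F = 1 := by
    have := LinearMap.algHom_comp_convMul_distrib (f : A →ₐ[k] B)
      (toConv (HopfAlgebraStruct.antipode k (A := A))) (toConv (LinearMap.id : A →ₗ[k] A))
    rw [LinearMap.antipode_mul_id] at this
    apply WithConv.ofConv_injective
    rw [show (L * F).ofConv = _ from this.symm]
    apply LinearMap.ext
    intro x
    simp only [LinearMap.convOne_def, ofConv_toConv, LinearMap.comp_apply, Algebra.linearMap_apply,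
      AlgHom.toLinearMap_apply]
    exact AlgHomClass.commutes (f : A →ₐ[k] B) _
  have h2 : F * Rr = 1 := by
    have := LinearMap.convMul_comp_coalgHom_distrib
      (toConv (LinearMap.id : B →ₗ[k] B)) (toConv (HopfAlgebraStruct.antipode k (A := B)))
      (f : A →ₗc[k] B)
    rw [LinearMap.id_mul_antipode] at this
    apply WithConv.ofConv_injective
    rw [show (F * Rr).ofConv = _ from this.symm]
    apply LinearMap.ext
    intro x
    simp [LinearMap.convOne_def]
  have h3 : L = Rr := by
    calc L = L * (F * Rr) := by rw [h2, mul_one]
      _ = (L * F) * Rr := (mul_assoc _ _ _).symm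
      _ = Rr := by rw [h1, one_mul]
  exact LinearMap.congr_fun (congrArg WithConv.ofConv h3) a

open Groth.Agent.Lib.HopfSub41

theorem comulStable_range (f : A →ₐc[k] B) : ComulStable (f : A →ₐ[k] B).range := by
  rintro _ ⟨a, rfl⟩
  have h := (CoalgHomClass.map_comp_comul_apply f a).symm
  refine ⟨TensorProduct.map (f : A →ₐ[k] B).rangeRestrict.toLinearMap
    (f : A →ₐ[k] B).rangeRestrict.toLinearMap (CoalgebraStruct.comul (R := k) a), ?_⟩
  rw [← LinearMap.comp_apply, ← TensorProduct.map_comp]
  exact h.symm

theorem antipodeStable_range (f : A →ₐc[k] B) : AntipodeStable (f : A →ₐ[k] B).range := by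
  rintro _ ⟨a, rfl⟩
  exact ⟨HopfAlgebraStruct.antipode k a, bialgHom_antipode f a⟩

/-- **Takeuchi**: the target of a bialgebra map of commutative Hopf algebras over a field is
faithfully flat over the image. -/
theorem faithfullyFlat_range (f : A →ₐc[k] B) :
    ((f : A →ₐ[k] B).range.val : (f : A →ₐ[k] B).range →+* B).FaithfullyFlat := by
  have h := faithfullyFlat_of_hopfSubalgebra _ (comulStable_range f) (antipodeStable_range f)
  exact h

end Range

end Groth.Agent.Lib.HopfFlat41
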