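import Groth.Agent.Lib.ComodUnip41d
import Groth.Agent.Lib.FrobSection41
import Mathlib.RingTheory.Artinian.Ring
import Mathlib.RingTheory.Artinian.Algebra
import Mathlib.RingTheory.Flat.Basic
import Mathlib.RingTheory.HopfAlgebra.Convolution

/-!
# Split quotients of commutative Hopf algebras (helper41)

For commutative Hopf algebras `A`, `Q` over a field `k`, a bialgebra map `π : A → Q` and a bialgebra
section `σ : Q → A` (`π ∘ σ = id`), the Hopf ideal `I = σ(Q⁺) A` (the "kernel of the retraction")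
satisfies: `A → Q ⊗ A/I`, `a ↦ π a₁ ⊗ [a₂]`, is bijective (`G = H ⋉ K`).

* `precomp`, `postcomp`: functoriality of the convolution groups `WithConv (A →ₐ[R] C)`.
* `splitIdeal σ`, `bijective_splitMap`.
-/

set_option autoImplicit false
universe u v w x y

open TensorProduct WithConv

namespace Groth.Agent.Lib.HopfSplit41

section conv

variable {R : Type u} [CommRing R] {A : Type v} {B : Type w} [CommRing A] [CommRing B]
  [Bialgebra R A] [Bialgebra R B] {C : Type x} {D : Type y} [CommRing C] [CommRing D]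
  [Algebra R C] [Algebra R D]

/-- Precomposition with a bialgebra map, as a monoid hom of convolution monoids. -/
noncomputable def precomp (h : B →ₐc[R] A) : WithConv (A →ₐ[R] C) →* WithConv (B →ₐ[R] C) where
  toFun f := toConv (f.ofConv.comp (h : B →ₐ[R] A))
  map_one' := by
    apply WithConv.ofConv_injective
    apply AlgHom.ext
    intro b
    show algebraMap R C (Coalgebra.counit (R := R) (h b)) = algebraMap R C (Coalgebra.counit b)
    rw [CoalgHomClass.counit_comp_apply]
  map_mul' f g := by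
    apply WithConv.ofConv_injective
    exact AlgHom.convMul_comp_bialgHom_distrib f g h

@[simp] theorem precomp_apply (h : B →ₐc[R] A) (f : WithConv (A →ₐ[R] C)) :
    precomp h f = toConv (f.ofConv.comp (h : B →ₐ[R] A)) := rfl

/-- Postcomposition with an algebra map, as a monoid hom of convolution monoids. -/
noncomputable def postcomp (h : C →ₐ[R] D) : WithConv (A →ₐ[R] C) →* WithConv (A →ₐ[R] D) where
  toFun f := toConv (h.comp f.ofConv)
  map_one' := by
    apply WithConv.ofConv_injective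
    apply AlgHom.ext
    intro b
    show h (algebraMap R C (Coalgebra.counit (R := R) b)) = algebraMap R D (Coalgebra.counit b)
    rw [AlgHom.commutes]
  map_mul' f g := by
    apply WithConv.ofConv_injective
    exact AlgHom.comp_convMul_distrib h f g

@[simp] theorem postcomp_apply (h : C →ₐ[R] D) (f : WithConv (A →ₐ[R] C)) :
    postcomp h f = toConv (h.comp f.ofConv) := rfl

/-- `a ↦ f a₁ ⊗ g a₂` as a convolution product. -/
theorem toConv_map_comp_comul {C' : Type y} [CommRing C'] [Algebra R C'] (f : A →ₐ[R] C)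
    (g : A →ₐ[R] C') :
    toConv ((Algebra.TensorProduct.map f g).comp (Bialgebra.comulAlgHom R A)) =
      toConv ((Algebra.TensorProduct.includeLeft : C →ₐ[R] C ⊗[R] C').comp f) *
        toConv ((Algebra.TensorProduct.includeRight : C' →ₐ[R] C ⊗[R] C').comp g) := by
  rw [AlgHom.convMul_def]
  congr 1
  rw [← AlgHom.comp_assoc]
  congr 1
  apply Algebra.TensorProduct.ext'
  intro a b
  simp

end conv

section split

variable {k : Type u} [Field k] {A : Type v} {Q : Type w} [CommRing A] [CommRing Q]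
  [HopfAlgebra k A] [HopfAlgebra k Q]

/-- The ideal `σ(Q⁺) A`. -/
noncomputable def splitIdeal (σ : Q →ₐc[k] A) : Ideal A :=
  Ideal.map σ (RingHom.ker (Bialgebra.counitAlgHom k Q))

instance isHopfIdeal_splitIdeal (σ : Q →ₐc[k] A) : (splitIdeal σ).IsHopfIdeal k :=
  Groth.Agent.Lib.Comod.isHopfIdeal_map_augIdeal σ

theorem mk_splitIdeal_apply (σ : Q →ₐc[k] A) (y : Q) :
    Ideal.Quotient.mk (splitIdeal σ) (σ y) =
      algebraMap k (A ⧸ splitIdeal σ) (Coalgebra.counit (R := k) y) :=
  Groth.Agent.Lib.Comod.mk_map_eq_algebraMap_counit σ _ rfl y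

variable (π : A →ₐc[k] Q) (σ : Q →ₐc[k] A)

/-- The map `a ↦ π a₁ ⊗ [a₂]`, `A → Q ⊗ A/I`. -/
noncomputable def splitMap (I : Ideal A) : A →ₐ[k] Q ⊗[k] (A ⧸ I) :=
  (Algebra.TensorProduct.map (π : A →ₐ[k] Q) (Ideal.Quotient.mkₐ k I)).comp
    (Bialgebra.comulAlgHom k A)

/-- `g ↦ r(g)⁻¹ g` where `r = σ*`. -/
noncomputable def tau : WithConv (A →ₐ[k] A) :=
  (toConv (((σ.comp π : A →ₐc[k] A) : A →ₐ[k] A)))⁻¹ * toConv (AlgHom.id k A)

variable (hπσ : π.comp σ = BialgHom.id k Q)

include hπσ in
theorem precomp_tau : precomp σ (tau π σ) = 1 := by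
  have h1 : precomp (C := A) σ (toConv (((σ.comp π : A →ₐc[k] A) : A →ₐ[k] A))) =
      toConv (σ : Q →ₐ[k] A) := by
    rw [precomp_apply]
    congr 1
    apply AlgHom.ext
    intro y
    show σ (π (σ y)) = σ y
    have := BialgHom.congr_fun hπσ y
    rw [BialgHom.comp_apply] at this
    rw [this]
    rfl
  have h2 : precomp (C := A) σ (toConv (AlgHom.id k A)) = toConv (σ : Q →ₐ[k] A) := by
    rw [precomp_apply]
    rfl
  rw [tau, map_mul, map_inv, h1, h2, inv_mul_cancel]

include hπσ in
theorem tau_apply_sigma (y : Q) :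
    (tau π σ).ofConv (σ y) = algebraMap k A (Coalgebra.counit (R := k) y) := by
  have h := precomp_tau π σ hπσ
  have h2 := congrArg (fun f : WithConv (Q →ₐ[k] A) => f.ofConv y) h
  exact h2

include hπσ in
theorem splitIdeal_le_ker_tau :
    splitIdeal σ ≤ RingHom.ker ((tau π σ).ofConv : A →+* A) := by
  refine Ideal.map_le_iff_le_comap.2 ?_
  intro y hy
  rw [RingHom.mem_ker, Bialgebra.counitAlgHom_apply] at hy
  rw [Ideal.mem_comap, RingHom.mem_ker]
  show (tau π σ).ofConv (σ y) = 0
  rw [tau_apply_sigma π σ hπσ, hy, map_zero]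

/-- `τ` descended to `A ⧸ I`. -/
noncomputable def tauBar : (A ⧸ splitIdeal σ) →ₐ[k] A :=
  Ideal.Quotient.liftₐ (splitIdeal σ) (tau π σ).ofConv
    (fun _ ha => splitIdeal_le_ker_tau π σ hπσ ha)

/-- The inverse of `splitMap`. -/
noncomputable def splitInv : Q ⊗[k] (A ⧸ splitIdeal σ) →ₐ[k] A :=
  Algebra.TensorProduct.lift (σ : Q →ₐ[k] A) (tauBar π σ hπσ) (fun _ _ => Commute.all _ _)

theorem toConv_splitMap (I : Ideal A) :
    toConv (splitMap π I) =
      toConv ((Algebra.TensorProduct.includeLeft : Q →ₐ[k] Q ⊗[k] (A ⧸ I)).comp (π : A →ₐ[k] Q)) *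
        toConv ((Algebra.TensorProduct.includeRight : (A ⧸ I) →ₐ[k] Q ⊗[k] (A ⧸ I)).comp
          (Ideal.Quotient.mkₐ k I)) := by
  unfold splitMap
  exact toConv_map_comp_comul (π : A →ₐ[k] Q) (Ideal.Quotient.mkₐ k I)

theorem splitInv_comp_splitMap :
    (splitInv π σ hπσ).comp (splitMap π (splitIdeal σ)) = AlgHom.id k A := by
  have h := congrArg (postcomp (splitInv π σ hπσ)) (toConv_splitMap π (splitIdeal σ))
  rw [map_mul, postcomp_apply, postcomp_apply, postcomp_apply] at h
  have h1 : (splitInv π σ hπσ).comp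
      ((Algebra.TensorProduct.includeLeft : Q →ₐ[k] Q ⊗[k] (A ⧸ splitIdeal σ)).comp
        (π : A →ₐ[k] Q)) = ((σ.comp π : A →ₐc[k] A) : A →ₐ[k] A) := by
    apply AlgHom.ext
    intro a
    simp [splitInv]
  have h2 : (splitInv π σ hπσ).comp
      ((Algebra.TensorProduct.includeRight :
        (A ⧸ splitIdeal σ) →ₐ[k] Q ⊗[k] (A ⧸ splitIdeal σ)).comp
        (Ideal.Quotient.mkₐ k (splitIdeal σ))) = (tau π σ).ofConv := by
    apply AlgHom.ext
    intro a
    simp only [splitInv, AlgHom.comp_apply, Algebra.TensorProduct.includeRight_apply,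
      Algebra.TensorProduct.lift_tmul, map_one, one_mul]
    rfl
  rw [h1, h2, WithConv.toConv_ofConv, tau, mul_inv_cancel_left] at h
  exact WithConv.toConv_injective h

include hπσ in
theorem pi_sigma_apply (y : Q) : π (σ y) = y := by
  have := BialgHom.congr_fun hπσ y
  rw [BialgHom.comp_apply] at this
  rw [this]
  rfl

include hπσ in
theorem splitMap_comp_sigma :
    (splitMap π (splitIdeal σ)).comp (σ : Q →ₐ[k] A) = Algebra.TensorProduct.includeLeft := by
  have h := congrArg (precomp σ) (toConv_splitMap π (splitIdeal σ))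
  rw [map_mul, precomp_apply, precomp_apply, precomp_apply] at h
  have h1 : ((Algebra.TensorProduct.includeLeft : Q →ₐ[k] Q ⊗[k] (A ⧸ splitIdeal σ)).comp
      (π : A →ₐ[k] Q)).comp (σ : Q →ₐ[k] A) = Algebra.TensorProduct.includeLeft := by
    apply AlgHom.ext
    intro y
    show (π (σ y)) ⊗ₜ[k] (1 : A ⧸ splitIdeal σ) = y ⊗ₜ[k] 1
    rw [pi_sigma_apply π σ hπσ]
  have h2 : toConv (((Algebra.TensorProduct.includeRight :
        (A ⧸ splitIdeal σ) →ₐ[k] Q ⊗[k] (A ⧸ splitIdeal σ)).comp
        (Ideal.Quotient.mkₐ k (splitIdeal σ))).comp (σ : Q →ₐ[k] A)) = 1 := by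
    apply WithConv.ofConv_injective
    apply AlgHom.ext
    intro y
    show (1 : Q) ⊗ₜ[k] (Ideal.Quotient.mk (splitIdeal σ) (σ y)) =
      algebraMap k (Q ⊗[k] (A ⧸ splitIdeal σ)) (Coalgebra.counit (R := k) y)
    rw [mk_splitIdeal_apply, Algebra.TensorProduct.algebraMap_apply']
  rw [h1, h2] at h
  exact WithConv.toConv_injective (h.trans (mul_one (toConv
    (Algebra.TensorProduct.includeLeft : Q →ₐ[k] Q ⊗[k] (A ⧸ splitIdeal σ)))))

include hπσ in
theorem splitMap_comp_tau :
    (splitMap π (splitIdeal σ)).comp (tau π σ).ofConv =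
      (Algebra.TensorProduct.includeRight :
        (A ⧸ splitIdeal σ) →ₐ[k] Q ⊗[k] (A ⧸ splitIdeal σ)).comp
        (Ideal.Quotient.mkₐ k (splitIdeal σ)) := by
  have h : postcomp (splitMap π (splitIdeal σ)) (tau π σ) =
      toConv ((splitMap π (splitIdeal σ)).comp (tau π σ).ofConv) := rfl
  rw [tau, map_mul, map_inv, postcomp_apply, postcomp_apply] at h
  have h1 : (splitMap π (splitIdeal σ)).comp ((σ.comp π : A →ₐc[k] A) : A →ₐ[k] A) =
      (Algebra.TensorProduct.includeLeft : Q →ₐ[k] Q ⊗[k] (A ⧸ splitIdeal σ)).comp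
        (π : A →ₐ[k] Q) := by
    rw [← splitMap_comp_sigma π σ hπσ]
    rfl
  rw [h1, AlgHom.comp_id, toConv_splitMap, inv_mul_cancel_left] at h
  exact (WithConv.toConv_injective h).symm

theorem splitMap_comp_splitInv :
    (splitMap π (splitIdeal σ)).comp (splitInv π σ hπσ) = AlgHom.id k _ := by
  apply Algebra.TensorProduct.ext
  · rw [AlgHom.comp_assoc]
    have : (splitInv π σ hπσ).comp Algebra.TensorProduct.includeLeft = (σ : Q →ₐ[k] A) := by
      apply AlgHom.ext
      intro y
      simp [splitInv]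
    rw [this, splitMap_comp_sigma π σ hπσ]
    rfl
  · apply Ideal.Quotient.algHom_ext
    apply AlgHom.ext
    intro a
    show splitMap π (splitIdeal σ) (splitInv π σ hπσ
      ((1 : Q) ⊗ₜ[k] Ideal.Quotient.mk (splitIdeal σ) a)) =
      (1 : Q) ⊗ₜ[k] Ideal.Quotient.mk (splitIdeal σ) a
    have h1 : splitInv π σ hπσ ((1 : Q) ⊗ₜ[k] Ideal.Quotient.mk (splitIdeal σ) a) =
        (tau π σ).ofConv a := by
      simp only [splitInv, Algebra.TensorProduct.lift_tmul, map_one, one_mul]
      rfl
    rw [h1]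
    exact AlgHom.congr_fun (splitMap_comp_tau π σ hπσ) a

include hπσ in
theorem bijective_splitMap : Function.Bijective (splitMap π (splitIdeal σ)) := by
  refine Function.bijective_iff_has_inverse.2 ⟨splitInv π σ hπσ, fun a => ?_, fun t => ?_⟩
  · exact AlgHom.congr_fun (splitInv_comp_splitMap π σ hπσ) a
  · exact AlgHom.congr_fun (splitMap_comp_splitInv π σ hπσ) t

include hπσ in
/-- If `ker π` consists of nilpotents, the complement `A ⧸ σ(Q⁺)A` is a local ring. -/
theorem isLocalRing_quotient_splitIdeal (hnil : ∀ a : A, π a = 0 → IsNilpotent a) :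
    IsLocalRing (A ⧸ splitIdeal σ) := by
  have hnt : Nontrivial (A ⧸ splitIdeal σ) :=
    FrobSection41.nontrivial_of_bialgebra (k := k) _
  refine IsLocalRing.of_isUnit_or_isUnit_one_sub_self fun x => ?_
  obtain ⟨a, rfl⟩ := Ideal.Quotient.mk_surjective x
  have h1 : Ideal.Quotient.mk (splitIdeal σ) a =
      algebraMap k _ (Coalgebra.counit (R := k) a) +
        Ideal.Quotient.mk _ (a - σ (π a)) := by
    rw [map_sub, mk_splitIdeal_apply, CoalgHomClass.counit_comp_apply π a]
    ring
  have h2 : IsNilpotent (Ideal.Quotient.mk (splitIdeal σ) (a - σ (π a))) :=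
    (hnil _ (by rw [map_sub, pi_sigma_apply π σ hπσ, sub_self])).map _
  by_cases hc : Coalgebra.counit (R := k) a = 0
  · right
    rw [h1, hc, map_zero, zero_add]
    exact h2.isUnit_one_sub
  · left
    rw [h1]
    exact h2.isUnit_add_left_of_commute ((IsUnit.mk0 _ hc).map _) (Commute.all _ _)

theorem isNilpotent_of_not_isUnit {L : Type v} [CommRing L] [IsLocalRing L] [IsArtinianRing L]
    {z : L} (hz : ¬ IsUnit z) : IsNilpotent z := by
  have h1 : z ∈ IsLocalRing.maximalIdeal L := (IsLocalRing.mem_maximalIdeal z).2 hz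
  rw [← IsLocalRing.jacobson_eq_maximalIdeal ⊥ bot_ne_top] at h1
  obtain ⟨n, hn⟩ := IsArtinianRing.isNilpotent_jacobson_bot (R := L)
  refine ⟨n, ?_⟩
  have := Ideal.pow_mem_pow h1 n
  rwa [hn] at this

include hπσ in
/-- Uniqueness of the local complement when `Q` is perfect of characteristic `p`. -/
theorem eq_splitIdeal_of_bijective (p : ℕ) [Fact p.Prime] [CharP k p] [FiniteDimensional k A]
    [CharP Q p] [PerfectRing Q p]
    (I' : Ideal A) [I'.IsHopfIdeal k] [IsLocalRing (A ⧸ I')]
    (hbij : Function.Bijective (splitMap π I')) : I' = splitIdeal σ := by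
  have hL : CharP (A ⧸ I') p := FrobSection41.charP_of_bialgebra (k := k) p _
  have hart : IsArtinianRing (A ⧸ I') := IsArtinianRing.of_finite k _
  have hnoe : IsNoetherianRing (A ⧸ I') := IsNoetherianRing.of_finite k _
  obtain ⟨n, hn⟩ := FrobSection41.exists_pow_eq_zero_of_mem_nilradical (A ⧸ I') p
    (Fact.out : p.Prime).one_lt
  have key : ∀ y : Q, Ideal.Quotient.mk I' (σ y) ^ p ^ n =
      algebraMap k (A ⧸ I') (Coalgebra.counit (R := k) y) ^ p ^ n := by
    intro y
    have hz : ¬ IsUnit (Ideal.Quotient.mk I' (σ y) -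
        algebraMap k (A ⧸ I') (Coalgebra.counit (R := k) y)) := by
      intro hu
      have := hu.map (Bialgebra.counitAlgHom k (A ⧸ I'))
      rw [map_sub, AlgHom.commutes, Bialgebra.counitAlgHom_apply, Bialgebra.Quotient.counit_mk,
        CoalgHomClass.counit_comp_apply σ y] at this
      simp at this
    have hnil := isNilpotent_of_not_isUnit hz
    have := hn _ (mem_nilradical.2 hnil)
    rw [sub_pow_char_pow, sub_eq_zero] at this
    exact this
  have key2 : ∀ y : Q, Ideal.Quotient.mk I' (σ y) =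
      algebraMap k (A ⧸ I') (Coalgebra.counit (R := k) y) := by
    intro y
    obtain ⟨x, rfl⟩ : ∃ x, x ^ p ^ n = y :=
      ⟨(iterateFrobeniusEquiv Q p n).symm y, by
        rw [← iterateFrobeniusEquiv_def, RingEquiv.apply_symm_apply]⟩
    rw [map_pow, map_pow, key x, Bialgebra.counit_pow, map_pow]
  have hle : splitIdeal σ ≤ I' := by
    refine Ideal.map_le_iff_le_comap.2 fun y hy => ?_
    rw [RingHom.mem_ker, Bialgebra.counitAlgHom_apply] at hy
    rw [Ideal.mem_comap, ← Ideal.Quotient.eq_zero_iff_mem]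
    show Ideal.Quotient.mk I' (σ y) = 0
    rw [key2, hy, map_zero]
  refine le_antisymm ?_ hle
  intro a ha
  let fac : (A ⧸ splitIdeal σ) →ₐ[k] (A ⧸ I') := Ideal.Quotient.factorₐ k hle
  have hcomp : splitMap π I' =
      (Algebra.TensorProduct.map (AlgHom.id k Q) fac).comp (splitMap π (splitIdeal σ)) := by
    unfold splitMap
    rw [← AlgHom.comp_assoc, ← Algebra.TensorProduct.map_comp]
    rfl
  have hinj : Function.Injective (Algebra.TensorProduct.map (AlgHom.id k Q) fac) := by
    intro t1 t2 h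
    obtain ⟨a1, rfl⟩ := (bijective_splitMap π σ hπσ).2 t1
    obtain ⟨a2, rfl⟩ := (bijective_splitMap π σ hπσ).2 t2
    have : splitMap π I' a1 = splitMap π I' a2 := by
      rw [hcomp]
      exact h
    rw [hbij.1 this]
  have h0 : Algebra.TensorProduct.map (AlgHom.id k Q) fac
      ((1 : Q) ⊗ₜ[k] Ideal.Quotient.mk (splitIdeal σ) a) = 0 := by
    rw [Algebra.TensorProduct.map_tmul]
    have : fac (Ideal.Quotient.mk _ a) = Ideal.Quotient.mk I' a := rfl
    rw [this, Ideal.Quotient.eq_zero_iff_mem.2 ha, tmul_zero]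
  have h1 : (1 : Q) ⊗ₜ[k] Ideal.Quotient.mk (splitIdeal σ) a = 0 :=
    hinj (h0.trans (map_zero _).symm)
  have hQ : Nontrivial Q := FrobSection41.nontrivial_of_bialgebra (k := k) Q
  have h2 := Algebra.TensorProduct.includeRight_injective (R := k) (A := Q)
    (B := A ⧸ splitIdeal σ) (algebraMap k Q).injective
    (a₁ := Ideal.Quotient.mk (splitIdeal σ) a) (a₂ := 0) (by simpa using h1)
  exact Ideal.Quotient.eq_zero_iff_mem.1 h2

end split

end Groth.Agent.Lib.HopfSplit41
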