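import Groth.Agent.Lib.HopfSub41
import Mathlib.RingTheory.HopfAlgebra.GroupLike
import Mathlib.RingTheory.Bialgebra.GroupLike

/-!
# Hopf subalgebras II (helper41): the inclusion as a bialgebra map, the group-like subalgebra

* `valBialgHom hΔ hS : B →ₐc[k] A` for a Hopf subalgebra `B` (w.r.t. `hopfAlgebra hΔ hS`).
* `groupLikeSubalgebra k A`: the subalgebra spanned by the group-like elements, its stability
  (`comulStable_groupLikeSubalgebra`, `antipodeStable_groupLikeSubalgebra`) and
  `span_groupLike_groupLikeSubalgebra`: it is spanned by its own group-like elements.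
-/

set_option autoImplicit false
universe u v

namespace Groth.Agent.Lib.HopfSub41

open TensorProduct

variable {k : Type u} [Field k] {A : Type v} [CommRing A] [HopfAlgebra k A]

/-- The inclusion of a Hopf subalgebra, as a bialgebra map. -/
noncomputable def valBialgHom {B : Subalgebra k A} (hΔ : ComulStable B) (hS : AntipodeStable B) :
    letI := hopfAlgebra hΔ hS
    B →ₐc[k] A :=
  letI := hopfAlgebra hΔ hS
  BialgHom.ofAlgHom B.val
    (by
      ext b
      rfl)
    (by
      ext b
      exact iota2_comulB hΔ b)

theorem valBialgHom_apply {B : Subalgebra k A} (hΔ : ComulStable B) (hS : AntipodeStable B)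
    (b : B) :
    letI := hopfAlgebra hΔ hS
    valBialgHom hΔ hS b = (b : A) := rfl

theorem valBialgHom_injective {B : Subalgebra k A} (hΔ : ComulStable B) (hS : AntipodeStable B) :
    letI := hopfAlgebra hΔ hS
    Function.Injective (valBialgHom hΔ hS) := Subtype.val_injective

variable (k A) in
/-- The subalgebra spanned by the group-like elements. -/
noncomputable def groupLikeSubalgebra : Subalgebra k A :=
  Algebra.adjoin k {a : A | IsGroupLikeElem k a}

theorem toSubmodule_groupLikeSubalgebra :
    Subalgebra.toSubmodule (groupLikeSubalgebra k A) =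
      Submodule.span k {a : A | IsGroupLikeElem k a} := by
  rw [groupLikeSubalgebra, Algebra.adjoin_eq_span]
  congr 1
  exact congrArg (fun S : Submonoid A => (S : Set A)) (Submonoid.closure_eq (groupLikeSubmonoid k A))

theorem mem_groupLikeSubalgebra_iff {a : A} :
    a ∈ groupLikeSubalgebra k A ↔ a ∈ Submodule.span k {a : A | IsGroupLikeElem k a} := by
  rw [← toSubmodule_groupLikeSubalgebra, Subalgebra.mem_toSubmodule]

theorem mem_groupLikeSubalgebra_of_isGroupLikeElem {g : A} (hg : IsGroupLikeElem k g) :
    g ∈ groupLikeSubalgebra k A :=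
  Algebra.subset_adjoin hg

theorem comulStable_groupLikeSubalgebra : ComulStable (groupLikeSubalgebra k A) := by
  intro b hb
  rw [mem_groupLikeSubalgebra_iff] at hb
  induction hb using Submodule.span_induction with
  | mem g hg =>
    refine ⟨(⟨g, mem_groupLikeSubalgebra_of_isGroupLikeElem hg⟩ : groupLikeSubalgebra k A) ⊗ₜ[k]
      (⟨g, mem_groupLikeSubalgebra_of_isGroupLikeElem hg⟩ : groupLikeSubalgebra k A), ?_⟩
    rw [TensorProduct.map_tmul, hg.comul_eq_tmul_self]
    rfl
  | zero => rw [map_zero]; exact zero_mem _
  | add x y _ _ hx hy => rw [map_add]; exact add_mem hx hy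
  | smul r x _ hx => rw [map_smul]; exact Submodule.smul_mem _ r hx

theorem antipodeStable_groupLikeSubalgebra : AntipodeStable (groupLikeSubalgebra k A) := by
  intro b hb
  rw [mem_groupLikeSubalgebra_iff] at hb ⊢
  induction hb using Submodule.span_induction with
  | mem g hg => exact Submodule.subset_span hg.antipode
  | zero => rw [map_zero]; exact zero_mem _
  | add x y _ _ hx hy => rw [map_add]; exact add_mem hx hy
  | smul r x _ hx => rw [map_smul]; exact Submodule.smul_mem _ r hx

/-- A group-like element of `A`, viewed in the group-like subalgebra, is group-like there. -/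
theorem isGroupLikeElem_mk {g : A} (hg : IsGroupLikeElem k g) :
    letI := hopfAlgebra (comulStable_groupLikeSubalgebra (k := k) (A := A))
      antipodeStable_groupLikeSubalgebra
    IsGroupLikeElem k (⟨g, mem_groupLikeSubalgebra_of_isGroupLikeElem hg⟩ :
      groupLikeSubalgebra k A) := by
  let _ := hopfAlgebra (comulStable_groupLikeSubalgebra (k := k) (A := A))
    antipodeStable_groupLikeSubalgebra
  constructor
  · exact hg.counit_eq_one
  · apply iota2_injective (groupLikeSubalgebra k A)
    refine (iota2_comulB comulStable_groupLikeSubalgebra _).trans ?_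
    rw [Algebra.TensorProduct.map_tmul]
    exact hg.comul_eq_tmul_self

/-- The group-like subalgebra is spanned by its group-like elements (it is diagonalizable). -/
theorem span_groupLike_groupLikeSubalgebra :
    letI := hopfAlgebra (comulStable_groupLikeSubalgebra (k := k) (A := A))
      antipodeStable_groupLikeSubalgebra
    Submodule.span k {b : groupLikeSubalgebra k A | IsGroupLikeElem k b} = ⊤ := by
  let _ := hopfAlgebra (comulStable_groupLikeSubalgebra (k := k) (A := A))
    antipodeStable_groupLikeSubalgebra
  rw [eq_top_iff]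
  rintro ⟨b, hb⟩ -
  have hb' := hb
  rw [mem_groupLikeSubalgebra_iff] at hb'
  have key : ∀ a : A, a ∈ Submodule.span k {a : A | IsGroupLikeElem k a} →
      ∃ b' ∈ Submodule.span k {b : groupLikeSubalgebra k A | IsGroupLikeElem k b},
        (b' : A) = a := by
    intro a ha
    induction ha using Submodule.span_induction with
    | mem g hg =>
      exact ⟨⟨g, mem_groupLikeSubalgebra_of_isGroupLikeElem hg⟩,
        Submodule.subset_span (isGroupLikeElem_mk hg), rfl⟩
    | zero => exact ⟨0, zero_mem _, rfl⟩
    | add x y _ _ hx hy =>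
      obtain ⟨x', hx', rfl⟩ := hx
      obtain ⟨y', hy', rfl⟩ := hy
      exact ⟨x' + y', add_mem hx' hy', rfl⟩
    | smul r x _ hx =>
      obtain ⟨x', hx', rfl⟩ := hx
      exact ⟨r • x', Submodule.smul_mem _ r hx', rfl⟩
  obtain ⟨b', hb'mem, hb'eq⟩ := key b hb'
  have : b' = ⟨b, hb⟩ := Subtype.ext hb'eq
  rw [← this]
  exact hb'mem

end Groth.Agent.Lib.HopfSub41
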