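import Groth.Agent.Lib.HopfHeightOne41
import Groth.Agent.Lib.HopfSplit41
import Groth.Agent.Lib.HopfFlat41b
import Groth.Agent.Lib.HopfSub41b
import Mathlib.RingTheory.LocalRing.Quotient
import Mathlib.RingTheory.LocalRing.Module

/-!
# Infinitesimal group schemes: the order is a power of `p` (helper41)

* `isLocalRing_of_nil`, `nil_of_isLocalRing`: a finite-dimensional commutative bialgebra is local iff
  its augmentation ideal is nil.
* `frobSub k p A`: the subalgebra `k[A^p]`, a Hopf subalgebra (`comulStable_frobSub`,
  `antipodeStable_frobSub`), proper if `I ≠ 0` is nil (`frobSub_ne_top`).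
* `finrank_eq_mul`: `dim A = dim B * dim A/B⁺A` for a Hopf subalgebra `B` of a finite local `A`.
* `exists_finrank_eq_pow`: `dim A` is a power of `p` (`A` finite local, characteristic `p`).
-/

set_option autoImplicit false
universe u v

open TensorProduct

namespace Groth.Agent.Lib.HopfInfinitesimal41

open Groth.Agent.Lib.HopfSub41 Groth.Agent.Lib.HopfFlat41 Groth.Agent.Lib.HopfSplit41

section Local

variable {k : Type u} [Field k] {A : Type v} [CommRing A] [Bialgebra k A]

theorem isLocalRing_of_nil
    (h : ∀ f : A, CoalgebraStruct.counit (R := k) f = 0 → IsNilpotent f) : IsLocalRing A := by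
  have hnt : Nontrivial A := FrobSection41.nontrivial_of_bialgebra (k := k) A
  refine IsLocalRing.of_isUnit_or_isUnit_one_sub_self fun a => ?_
  by_cases hc : CoalgebraStruct.counit (R := k) a = 0
  · right
    exact (h a hc).isUnit_one_sub
  · left
    have h1 : a = algebraMap k A (CoalgebraStruct.counit (R := k) a) +
        (a - algebraMap k A (CoalgebraStruct.counit (R := k) a)) := by ring
    have h2 : IsNilpotent (a - algebraMap k A (CoalgebraStruct.counit (R := k) a)) :=
      h _ (by simp)
    rw [h1]
    exact h2.isUnit_add_left_of_commute ((IsUnit.mk0 _ hc).map _) (Commute.all _ _)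

theorem nil_of_isLocalRing [Module.Finite k A] [IsLocalRing A] (f : A)
    (hf : CoalgebraStruct.counit (R := k) f = 0) : IsNilpotent f := by
  have hart : IsArtinianRing A := IsArtinianRing.of_finite k A
  apply isNilpotent_of_not_isUnit
  intro hu
  have := hu.map (Bialgebra.counitAlgHom k A)
  rw [Bialgebra.counitAlgHom_apply, hf] at this
  exact not_isUnit_zero this

theorem finrank_eq_one_of_augIdeal_eq_bot [Module.Finite k A]
    (h : ∀ f : A, CoalgebraStruct.counit (R := k) f = 0 → f = 0) : Module.finrank k A = 1 := by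
  have hnt : Nontrivial A := FrobSection41.nontrivial_of_bialgebra (k := k) A
  have hinj : Function.Injective (CoalgebraStruct.counit (R := k) (A := A)) := by
    intro a b hab
    have := h (a - b) (by rw [map_sub, hab, sub_self])
    exact sub_eq_zero.1 this
  have h1 := LinearMap.finrank_le_finrank_of_injective hinj
  rw [Module.finrank_self] at h1
  have h2 : 0 < Module.finrank k A := Module.finrank_pos
  omega

end Local

section Frob

variable (k : Type u) [Field k] (p : ℕ) [Fact p.Prime] [CharP k p]
  (A : Type v) [CommRing A] [HopfAlgebra k A]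

/-- The subalgebra `k[A^p]` generated by the `p`-th powers. -/
def frobSub : Subalgebra k A := Algebra.adjoin k (Set.range fun a : A => a ^ p)

omit [Fact p.Prime] [CharP k p] in
theorem pow_mem_frobSub (a : A) : a ^ p ∈ frobSub k p A :=
  Algebra.subset_adjoin ⟨a, rfl⟩

theorem comulStable_frobSub : ComulStable (frobSub k p A) := by
  have hAA : CharP (A ⊗[k] A) p := FrobSection41.charP_of_bialgebra (k := k) p _
  have hpow : ∀ t : A ⊗[k] A, t ^ p ∈ (iota2 (frobSub k p A)).range := by
    intro t
    induction t using TensorProduct.induction_on with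
    | zero =>
      rw [zero_pow (Fact.out : p.Prime).ne_zero]
      exact zero_mem _
    | tmul x y =>
      refine ⟨(⟨x ^ p, pow_mem_frobSub k p A x⟩ : frobSub k p A) ⊗ₜ[k]
        (⟨y ^ p, pow_mem_frobSub k p A y⟩ : frobSub k p A), ?_⟩
      rw [Algebra.TensorProduct.tmul_pow]
      rfl
    | add s t hs ht =>
      rw [add_pow_char]
      exact add_mem hs ht
  have hle : frobSub k p A ≤
      (iota2 (frobSub k p A)).range.comap (Bialgebra.comulAlgHom k A) := by
    refine Algebra.adjoin_le ?_
    rintro _ ⟨a, rfl⟩
    show Bialgebra.comulAlgHom k A (a ^ p) ∈ (iota2 (frobSub k p A)).range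
    rw [map_pow]
    exact hpow _
  intro b hb
  obtain ⟨t, ht⟩ := hle hb
  refine ⟨t, ?_⟩
  rw [← iota2_eq]
  exact ht

omit [Fact p.Prime] [CharP k p] in
theorem antipodeStable_frobSub : AntipodeStable (frobSub k p A) := by
  have hle : frobSub k p A ≤ (frobSub k p A).comap (HopfAlgebra.antipodeAlgHom k A) := by
    refine Algebra.adjoin_le ?_
    rintro _ ⟨a, rfl⟩
    show HopfAlgebra.antipodeAlgHom k A (a ^ p) ∈ frobSub k p A
    rw [map_pow]
    exact pow_mem_frobSub k p A _
  intro b hb
  exact hle hb

/-- `k[A^p] ⊆ k + I²`. -/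
theorem sub_counit_mem_sq_of_mem_frobSub {b : A} (hb : b ∈ frobSub k p A) :
    b - algebraMap k A (CoalgebraStruct.counit (R := k) b) ∈
      RingHom.ker (Bialgebra.counitAlgHom k A) ^ 2 := by
  have hA : CharP A p := FrobSection41.charP_of_bialgebra (k := k) p A
  set I := RingHom.ker (Bialgebra.counitAlgHom k A) with hI
  have hsub : ∀ a : A, a - algebraMap k A (CoalgebraStruct.counit (R := k) a) ∈ I := by
    intro a
    rw [hI, RingHom.mem_ker, map_sub, AlgHom.commutes, Bialgebra.counitAlgHom_apply]
    simp
  let W : Subalgebra k A :=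
    { carrier := {a | a - algebraMap k A (CoalgebraStruct.counit (R := k) a) ∈ I ^ 2}
      mul_mem' := by
        intro a b ha hb
        simp only [Set.mem_ofPred_eq] at ha hb ⊢
        have e : a * b - algebraMap k A (CoalgebraStruct.counit (R := k) (a * b)) =
            (a - algebraMap k A (CoalgebraStruct.counit (R := k) a)) *
              (b - algebraMap k A (CoalgebraStruct.counit (R := k) b)) +
            algebraMap k A (CoalgebraStruct.counit (R := k) a) *
              (b - algebraMap k A (CoalgebraStruct.counit (R := k) b)) +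
            algebraMap k A (CoalgebraStruct.counit (R := k) b) *
              (a - algebraMap k A (CoalgebraStruct.counit (R := k) a)) := by
          rw [Bialgebra.counit_mul, map_mul]
          ring
        rw [e]
        refine Ideal.add_mem _ (Ideal.add_mem _ ?_ (Ideal.mul_mem_left _ _ hb))
          (Ideal.mul_mem_left _ _ ha)
        rw [pow_two]
        exact Ideal.mul_mem_mul (hsub a) (hsub b)
      add_mem' := by
        intro a b ha hb
        simp only [Set.mem_ofPred_eq] at ha hb ⊢
        have e : a + b - algebraMap k A (CoalgebraStruct.counit (R := k) (a + b)) =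
            (a - algebraMap k A (CoalgebraStruct.counit (R := k) a)) +
              (b - algebraMap k A (CoalgebraStruct.counit (R := k) b)) := by
          rw [map_add, map_add]
          ring
        rw [e]
        exact Ideal.add_mem _ ha hb
      algebraMap_mem' := by
        intro c
        simp only [Set.mem_ofPred_eq]
        rw [Bialgebra.counit_algebraMap]
        simp }
  have hle : frobSub k p A ≤ W := by
    refine Algebra.adjoin_le ?_
    rintro _ ⟨a, rfl⟩
    show a ^ p - algebraMap k A (CoalgebraStruct.counit (R := k) (a ^ p)) ∈ I ^ 2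
    rw [Bialgebra.counit_pow, map_pow, ← sub_pow_char]
    exact Ideal.pow_le_pow_right (Fact.out : p.Prime).two_le (Ideal.pow_mem_pow (hsub a) p)
  exact hle hb

theorem frobSub_ne_top [Module.Finite k A]
    (hnil : ∀ f : A, CoalgebraStruct.counit (R := k) f = 0 → IsNilpotent f)
    (hI : ∃ f : A, CoalgebraStruct.counit (R := k) f = 0 ∧ f ≠ 0) : frobSub k p A ≠ ⊤ := by
  intro htop
  set I := RingHom.ker (Bialgebra.counitAlgHom k A) with hIdef
  have hnoeth : IsNoetherianRing A := IsNoetherianRing.of_finite k A
  obtain ⟨N, hN⟩ : ∃ N, I ^ N = ⊥ := by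
    obtain ⟨N, hN⟩ := IsNoetherianRing.isNilpotent_nilradical A
    refine ⟨N, le_bot_iff.1 ?_⟩
    rw [← Ideal.zero_eq_bot, ← hN]
    refine Ideal.pow_right_mono (fun f hf => ?_) N
    exact mem_nilradical.2 (hnil f hf)
  have h2 : I ≤ I ^ 2 := by
    intro f hf
    have := sub_counit_mem_sq_of_mem_frobSub k p A (b := f) (by rw [htop]; exact Algebra.mem_top)
    have hf0 : CoalgebraStruct.counit (R := k) f = 0 := hf
    rwa [hf0, map_zero, sub_zero] at this
  have h3 : ∀ n, I ≤ I ^ (n + 1) := by
    intro n
    induction n with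
    | zero => rw [zero_add, pow_one]
    | succ n ih =>
      calc I ≤ I ^ 2 := h2
        _ = I * I := pow_two I
        _ ≤ I ^ (n + 1) * I := Ideal.mul_mono_left ih
        _ = I ^ (n + 1 + 1) := (pow_succ I (n + 1)).symm
  obtain ⟨f, hf0, hfne⟩ := hI
  have hfI : f ∈ I := hf0
  have h4 : f ∈ I ^ (N + 1) := h3 N hfI
  rw [pow_succ, hN, Ideal.bot_mul] at h4
  exact hfne (Ideal.mem_bot.1 h4)

end Frob

section Count

variable {k : Type u} [Field k] {A : Type v} [CommRing A] [HopfAlgebra k A]

theorem nil_subalgebra {B : Subalgebra k A} (hΔ : ComulStable B) (hS : AntipodeStable B)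
    (hnil : ∀ f : A, CoalgebraStruct.counit (R := k) f = 0 → IsNilpotent f) :
    letI := hopfAlgebra hΔ hS
    ∀ b : B, CoalgebraStruct.counit (R := k) b = 0 → IsNilpotent b := by
  intro b hb
  obtain ⟨n, hn⟩ := hnil (b : A) hb
  exact ⟨n, Subtype.ext (by simpa using hn)⟩

/-- `dim A = dim B * dim A/B⁺A` for a Hopf subalgebra `B` of a finite local Hopf algebra `A`. -/
theorem finrank_eq_mul {B : Subalgebra k A} (hΔ : ComulStable B) (hS : AntipodeStable B)
    [Module.Finite k A]
    (hnil : ∀ f : A, CoalgebraStruct.counit (R := k) f = 0 → IsNilpotent f) :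
    letI := hopfAlgebra hΔ hS
    Module.finrank k A = Module.finrank k B *
      Module.finrank k (A ⧸ splitIdeal (HopfSub41.valBialgHom hΔ hS)) := by
  let instB := hopfAlgebra hΔ hS
  have hBloc : IsLocalRing B := isLocalRing_of_nil (k := k) (nil_subalgebra hΔ hS hnil)
  have hff : Module.FaithfullyFlat B A := faithfullyFlat_of_hopfSubalgebra B hΔ hS
  have hfin : Module.Finite B A := Module.Finite.of_restrictScalars_finite k B A
  have hfree : Module.Free B A := Module.free_of_flat_of_isLocalRing
  have h1 : Module.finrank k B * Module.finrank B A = Module.finrank k A :=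
    Module.finrank_mul_finrank k B A
  set m := IsLocalRing.maximalIdeal B with hm
  have hsurj : Function.Surjective (Bialgebra.counitAlgHom k B) := by
    intro c
    exact ⟨algebraMap k B c, by rw [AlgHom.commutes]; rfl⟩
  have hmker : RingHom.ker (Bialgebra.counitAlgHom k B) = m :=
    IsLocalRing.eq_maximalIdeal (RingHom.ker_isMaximal_of_surjective _ hsurj)
  have hmap : Ideal.map (algebraMap B A) m = splitIdeal (HopfSub41.valBialgHom hΔ hS) := by
    rw [← hmker]
    rfl
  let _ := Ideal.Quotient.field m
  have tower : IsScalarTower k (B ⧸ m) (A ⧸ Ideal.map (algebraMap B A) m) :=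
    IsScalarTower.of_algebraMap_eq (fun c => rfl)
  have h2 : Module.finrank k (B ⧸ m) * Module.finrank (B ⧸ m) (A ⧸ Ideal.map (algebraMap B A) m) =
      Module.finrank k (A ⧸ Ideal.map (algebraMap B A) m) :=
    Module.finrank_mul_finrank k (B ⧸ m) (A ⧸ Ideal.map (algebraMap B A) m)
  have h3 : Module.finrank (B ⧸ m) (A ⧸ Ideal.map (algebraMap B A) m) = Module.finrank B A :=
    IsLocalRing.finrank_quotient_map
  have h4 : Module.finrank k (B ⧸ m) = 1 := by
    have e : (B ⧸ m) ≃ₗ[k] k :=
      (Ideal.quotientEquivAlgOfEq k hmker.symm).toLinearEquiv.trans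
        (Ideal.quotientKerAlgEquivOfSurjective hsurj).toLinearEquiv
    rw [e.finrank_eq, Module.finrank_self]
  have h5 : Module.finrank k (A ⧸ Ideal.map (algebraMap B A) m) =
      Module.finrank k (A ⧸ splitIdeal (HopfSub41.valBialgHom hΔ hS)) :=
    (Ideal.quotientEquivAlgOfEq k hmap).toLinearEquiv.finrank_eq
  rw [← h1, ← h5, ← h2, h3, h4, one_mul]

/-- The order of an infinitesimal group scheme in characteristic `p` is a power of `p`. -/
theorem exists_finrank_eq_pow (k : Type u) [Field k] (p : ℕ) [Fact p.Prime] [CharP k p] :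
    ∀ (n : ℕ) (A : Type v) [CommRing A] [HopfAlgebra k A] [Module.Finite k A],
      (∀ f : A, CoalgebraStruct.counit (R := k) f = 0 → IsNilpotent f) →
      Module.finrank k A = n → ∃ e : ℕ, n = p ^ e := by
  intro n
  induction n using Nat.strong_induction_on with
  | _ n ih =>
    intro A _ _ _ hnil hn
    by_cases hI : ∀ f : A, CoalgebraStruct.counit (R := k) f = 0 → f = 0
    · exact ⟨0, by rw [← hn, finrank_eq_one_of_augIdeal_eq_bot hI, pow_zero]⟩
    · push Not at hI
      have hΔ := comulStable_frobSub k p A
      have hS := antipodeStable_frobSub k p A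
      let instB := hopfAlgebra hΔ hS
      have hne := frobSub_ne_top k p A hnil hI
      have hlt : Module.finrank k (frobSub k p A) < Module.finrank k A := by
        have h1 : (frobSub k p A).toSubmodule ≠ ⊤ := by
          intro h
          apply hne
          exact Subalgebra.toSubmodule_injective (by rw [h]; rfl)
        exact Submodule.finrank_lt h1
      obtain ⟨e₁, he₁⟩ := ih (Module.finrank k (frobSub k p A)) (hn ▸ hlt) (frobSub k p A)
        (nil_subalgebra hΔ hS hnil) rfl
      have hh1 : ∀ f : A ⧸ splitIdeal (HopfSub41.valBialgHom hΔ hS),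
          Bialgebra.counitAlgHom k _ f = 0 → f ^ p = 0 := by
        intro f hf
        obtain ⟨a, rfl⟩ := Ideal.Quotient.mk_surjective f
        have ha : CoalgebraStruct.counit (R := k) a = 0 := hf
        rw [← map_pow, Ideal.Quotient.eq_zero_iff_mem]
        have hmem : (⟨a ^ p, pow_mem_frobSub k p A a⟩ : frobSub k p A) ∈
            RingHom.ker (Bialgebra.counitAlgHom k (frobSub k p A)) := by
          rw [RingHom.mem_ker]
          show CoalgebraStruct.counit (R := k) (a ^ p) = 0
          rw [Bialgebra.counit_pow, ha, zero_pow (Fact.out : p.Prime).ne_zero]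
        exact Ideal.mem_map_of_mem (HopfSub41.valBialgHom hΔ hS) hmem
      have h2 := HopfHeightOne41.finrank_eq_pow_of_height_one p hh1
      refine ⟨e₁ + Module.finrank k (Cartier38.augI k
        (A ⧸ splitIdeal (HopfSub41.valBialgHom hΔ hS))).Cotangent, ?_⟩
      rw [← hn, finrank_eq_mul hΔ hS hnil, he₁, h2, pow_add]

end Count

end Groth.Agent.Lib.HopfInfinitesimal41
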