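import Mathlib
import Groth.Agent.Lib.HopfSplit41
import Groth.Agent.Lib.FrobSection41
import Groth.Agent.Lib.HopfInfinitesimal41
import Groth.Agent.Lib.HopfNilrad41
import Groth.Agent.Lib.FinEtaleHopf41
import Groth.Agent.Lib.Cartier38c

/-!
# A finite group scheme over a field is killed by its order (helper41)

`convPow_finrank_eq_one`: for a finite-dimensional commutative Hopf algebra `A` over a field `k`,
`id ^ (dim A) = 1` in the convolution group of algebra endomorphisms.

Ingredients: `[p]^*(I) ⊆ I^p` in characteristic `p` (binomial theorem in the convolution ring),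
`I ^ dim A = 0` for a nilpotent ideal, Lagrange for the étale part over an algebraically closed
field, the connected-étale splitting (`HopfSplit41`), Cartier in characteristic zero, and base
change to the algebraic closure.
-/

set_option autoImplicit false
universe u v w
open scoped TensorProduct
open WithConv

namespace Groth.Agent.Lib.HopfKilledByOrder41


section conv
variable {R : Type u} [CommRing R] {A : Type v} [CommRing A] [Bialgebra R A]
  {B : Type w} [CommRing B] [Algebra R B]

/-- The convolution product of maps with values in `J₁`, `J₂` has values in `J₁ * J₂`. -/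
theorem convMul_mem (J₁ J₂ : Ideal B) (f g : WithConv (A →ₗ[R] B))
    (hf : ∀ a, f.ofConv a ∈ J₁) (hg : ∀ a, g.ofConv a ∈ J₂) (a : A) :
    (f * g).ofConv a ∈ J₁ * J₂ := by
  show LinearMap.mul' R B (TensorProduct.map f.ofConv g.ofConv (Coalgebra.comul a)) ∈ J₁ * J₂
  generalize (Coalgebra.comul a : A ⊗[R] A) = t
  induction t using TensorProduct.induction_on with
  | zero => simp
  | tmul x y =>
    rw [TensorProduct.map_tmul, LinearMap.mul'_apply]
    exact Ideal.mul_mem_mul (hf x) (hg y)
  | add x y hx hy =>
    rw [map_add, map_add]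
    exact add_mem hx hy

theorem convPow_mem (J : Ideal B) (f : WithConv (A →ₗ[R] B))
    (hf : ∀ a, f.ofConv a ∈ J) (n : ℕ) (a : A) : (f ^ n).ofConv a ∈ J ^ n := by
  induction n generalizing a with
  | zero => simp
  | succ n ih =>
    rw [pow_succ, pow_succ]
    exact convMul_mem _ _ _ _ ih hf a

/-- In characteristic `p`, if an algebra hom `g` maps the augmentation ideal into `J`, then its
`p`-th convolution power maps it into `J ^ p`. -/
theorem convPow_prime_mem (p : ℕ) [Fact p.Prime] [CharP R p] (J : Ideal B)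
    (g : WithConv (A →ₐ[R] B))
    (hg : ∀ a : A, CoalgebraStruct.counit (R := R) a = 0 → g.ofConv a ∈ J)
    (a : A) (ha : CoalgebraStruct.counit (R := R) a = 0) : (g ^ p).ofConv a ∈ J ^ p := by
  let W := WithConv (A →ₗ[R] B)
  let u : W := toConv g.ofConv.toLinearMap
  let d : W := u - 1
  have hd : ∀ a, d.ofConv a ∈ J := by
    intro a
    have e : d.ofConv a = g.ofConv (a - algebraMap R A (CoalgebraStruct.counit (R := R) a)) := by
      show g.ofConv a - algebraMap R B (CoalgebraStruct.counit (R := R) a) = _
      rw [map_sub, AlgHom.commutes]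
    rw [e]
    apply hg
    rw [map_sub, Bialgebra.counit_algebraMap, sub_self]
  have hp0 : ((p : ℕ) : W) = 0 := by
    rw [← map_natCast (algebraMap R W) p, CharP.cast_eq_zero, map_zero]
  have hu : u = 1 + d := by simp [d]
  obtain ⟨r, hr⟩ := (Commute.one_left d).exists_add_pow_prime_eq (Fact.out : p.Prime)
  have hup : u ^ p = 1 + d ^ p := by
    rw [hu, hr, hp0, one_pow]
    simp
  have h1 : toConv (g ^ p).ofConv.toLinearMap = u ^ p := AlgHom.toLinearMap_convPow g p
  have h2 : (g ^ p).ofConv a = (u ^ p).ofConv a := by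
    rw [← h1]; rfl
  rw [h2, hup]
  show (1 : W).ofConv a + (d ^ p).ofConv a ∈ J ^ p
  have h3 : (1 : W).ofConv a = 0 := by
    show algebraMap R B (CoalgebraStruct.counit (R := R) a) = 0
    rw [ha, map_zero]
  rw [h3, zero_add]
  exact convPow_mem J d hd p a

theorem convPow_prime_pow_mem (p : ℕ) [Fact p.Prime] [CharP R p] (J : Ideal B)
    (g : WithConv (A →ₐ[R] B))
    (hg : ∀ a : A, CoalgebraStruct.counit (R := R) a = 0 → g.ofConv a ∈ J) (e : ℕ)
    (a : A) (ha : CoalgebraStruct.counit (R := R) a = 0) :
    (g ^ (p ^ e)).ofConv a ∈ J ^ (p ^ e) := by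
  induction e generalizing a with
  | zero => simpa using hg a ha
  | succ e ih =>
    rw [pow_succ, pow_mul, pow_mul]
    exact convPow_prime_mem p (J ^ p ^ e) (g ^ p ^ e) ih a ha

end conv



section nilp
variable {k : Type u} [Field k] {A : Type v} [CommRing A] [Algebra k A] [Module.Finite k A]

/-- A nilpotent ideal of a finite-dimensional algebra is killed by the dimension. -/
theorem pow_finrank_eq_bot (I : Ideal A) (hI : IsNilpotent I) :
    I ^ Module.finrank k A = ⊥ := by
  classical
  -- minimal exponent
  have hex : ∃ s, I ^ s = ⊥ := hI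
  let s := Nat.find hex
  have hs : I ^ s = ⊥ := Nat.find_spec hex
  have hmin : ∀ j, j < s → I ^ j ≠ ⊥ := fun j hj => Nat.find_min hex hj
  -- strict decrease below s
  have hstrict : ∀ j, j < s → I ^ (j + 1) < I ^ j := by
    intro j hj
    refine lt_of_le_of_ne (Ideal.pow_le_pow_right (Nat.le_succ j)) ?_
    intro heq
    have hall : ∀ m, I ^ (j + m) = I ^ j := by
      intro m
      induction m with
      | zero => rfl
      | succ m ih =>
        rw [← add_assoc, pow_succ, ih, ← pow_succ, heq]
    have hsj : I ^ s = I ^ j := by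
      have := hall (s - j)
      rwa [Nat.add_sub_cancel' hj.le] at this
    exact hmin j hj (hsj ▸ hs)
  have hdim : ∀ j, j ≤ s →
      Module.finrank k ((I ^ j).restrictScalars k) + j ≤ Module.finrank k A := by
    intro j
    induction j with
    | zero =>
      intro _
      rw [add_zero]
      exact Submodule.finrank_le _
    | succ j ih =>
      intro hj
      have h1 := ih (Nat.le_of_succ_le hj)
      have h2 : (I ^ (j + 1)).restrictScalars k < (I ^ j).restrictScalars k := by
        have := hstrict j hj
        exact this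
      have h3 := Submodule.finrank_lt_finrank_of_lt h2
      omega
  have hsle : s ≤ Module.finrank k A := by
    have := hdim s le_rfl
    omega
  exact le_bot_iff.1 (hs ▸ Ideal.pow_le_pow_right hsle)

end nilp

section infinitesimal

/-- **Infinitesimal case**: a finite local Hopf algebra in characteristic `p` is killed by its
order. -/
theorem convPow_finrank_eq_one_of_isLocalRing (k : Type u) [Field k] (p : ℕ) [Fact p.Prime]
    [CharP k p] (A : Type v) [CommRing A] [HopfAlgebra k A] [Module.Finite k A] [IsLocalRing A] :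
    (toConv (AlgHom.id k A)) ^ (Module.finrank k A) = 1 := by
  have hnil : ∀ f : A, CoalgebraStruct.counit (R := k) f = 0 → IsNilpotent f :=
    fun f hf => HopfInfinitesimal41.nil_of_isLocalRing f hf
  obtain ⟨e, he⟩ := HopfInfinitesimal41.exists_finrank_eq_pow k p (Module.finrank k A) A hnil rfl
  let I : Ideal A := RingHom.ker (Bialgebra.counitAlgHom k A)
  have hInil : IsNilpotent I := by
    have : IsNoetherianRing A := IsNoetherianRing.of_finite k A
    rw [Ideal.FG.isNilpotent_iff_le_nilradical (IsNoetherian.noetherian I)]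
    intro f hf
    exact mem_nilradical.2 (hnil f hf)
  have hbot := pow_finrank_eq_bot (k := k) I hInil
  have key : ∀ a : A, CoalgebraStruct.counit (R := k) a = 0 →
      ((toConv (AlgHom.id k A)) ^ (Module.finrank k A)).ofConv a = 0 := by
    intro a ha
    have := convPow_prime_pow_mem p I (toConv (AlgHom.id k A))
      (fun a ha => by exact ha) e a ha
    rw [← he, hbot] at this
    exact this
  apply WithConv.ofConv_injective
  apply AlgHom.ext
  intro a
  have ha : CoalgebraStruct.counit (R := k)
      (a - algebraMap k A (CoalgebraStruct.counit (R := k) a)) = 0 := by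
    rw [map_sub, Bialgebra.counit_algebraMap, sub_self]
  have h1 := key _ ha
  rw [map_sub, AlgHom.commutes, sub_eq_zero] at h1
  rw [h1]
  rfl

end infinitesimal



/-- **Étale case**: a finite reduced Hopf algebra over an algebraically closed field is killed by
its order (Lagrange on the group of points). -/
theorem convPow_finrank_eq_one_of_isReduced (K : Type u) [Field K] [IsAlgClosed K]
    (E : Type v) [CommRing E] [HopfAlgebra K E] [Module.Finite K E] [IsReduced E] :
    (toConv (AlgHom.id K E)) ^ (Module.finrank K E) = 1 := by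
  classical
  have hfin : Finite (E →ₐ[K] K) := FinEtaleHopf41.finite_points K E
  have : Fintype (E →ₐ[K] K) := Fintype.ofFinite _
  have hbij : Function.Bijective (FinEtaleHopf41.evPts K E) :=
    ⟨FinEtaleHopf41.evPts_injective K E, FinEtaleHopf41.evPts_surjective K E⟩
  have hrank : Module.finrank K E = Nat.card (WithConv (E →ₐ[K] K)) := by
    have e1 := (LinearEquiv.ofBijective (FinEtaleHopf41.evPts K E).toLinearMap hbij).finrank_eq
    rw [e1, Module.finrank_fintype_fun_eq_card, ← Nat.card_eq_fintype_card]
    exact (Nat.card_congr (WithConv.equiv _)).symm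
  have hfinG : Finite (WithConv (E →ₐ[K] K)) := Finite.of_equiv _ (WithConv.equiv _).symm
  apply WithConv.ofConv_injective
  apply AlgHom.ext
  intro a
  apply FinEtaleHopf41.evPts_injective K E
  funext χ
  rw [FinEtaleHopf41.evPts_apply, FinEtaleHopf41.evPts_apply]
  have h1 : HopfSplit41.postcomp χ ((toConv (AlgHom.id K E)) ^ (Module.finrank K E)) = 1 := by
    rw [map_pow, hrank]
    exact pow_card_eq_one'
  have h2 := congrArg (fun f => f.ofConv a) h1
  simp only [HopfSplit41.postcomp_apply] at h2
  have h3 : χ (((1 : WithConv (E →ₐ[K] E))).ofConv a) =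
      (1 : WithConv (E →ₐ[K] K)).ofConv a := by
    show χ (algebraMap K E (CoalgebraStruct.counit (R := K) a)) =
      algebraMap K K (CoalgebraStruct.counit (R := K) a)
    rw [AlgHom.commutes]
  rw [h3, ← h2]
  rfl



section baseChange
variable {k : Type u} [CommRing k] (K : Type w) [CommRing K] [Algebra k K]
  {A : Type v} [CommRing A] [Bialgebra k A]

/-- Representation of the coproduct of `1 ⊗ a` in the base change. -/
noncomputable def reprBaseChange {ι : Type*} {a : A} (ℛ : Coalgebra.Repr k a ι) :
    Coalgebra.Repr K ((1 : K) ⊗ₜ[k] a) ι where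
  index := ℛ.index
  left i := (1 : K) ⊗ₜ[k] ℛ.left i
  right i := (1 : K) ⊗ₜ[k] ℛ.right i
  eq := by
    simp [← ℛ.eq, TensorProduct.tmul_sum]

theorem convMul_baseChange_apply (f g : WithConv (A →ₐ[k] A))
    (fK gK : WithConv (K ⊗[k] A →ₐ[K] K ⊗[k] A))
    (hf : ∀ a, fK.ofConv (1 ⊗ₜ a) = 1 ⊗ₜ f.ofConv a)
    (hg : ∀ a, gK.ofConv (1 ⊗ₜ a) = 1 ⊗ₜ g.ofConv a) (a : A) :
    (fK * gK).ofConv (1 ⊗ₜ a) = 1 ⊗ₜ (f * g).ofConv a := by
  have ℛ := Coalgebra.Repr.arbitrary k a
  have h1 : (fK * gK).ofConv (1 ⊗ₜ a) =
      (toConv fK.ofConv.toLinearMap * toConv gK.ofConv.toLinearMap) (1 ⊗ₜ a) := rfl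
  have h2 : (f * g).ofConv a =
      (toConv f.ofConv.toLinearMap * toConv g.ofConv.toLinearMap) a := rfl
  rw [h1, h2, (reprBaseChange K ℛ).convMul_apply, ℛ.convMul_apply, TensorProduct.tmul_sum]
  refine Finset.sum_congr rfl fun i _ => ?_
  show fK.ofConv (1 ⊗ₜ ℛ.left i) * gK.ofConv (1 ⊗ₜ ℛ.right i) = _
  rw [hf, hg, Algebra.TensorProduct.tmul_mul_tmul, one_mul]
  rfl

theorem convPow_id_baseChange_apply (n : ℕ) (a : A) :
    ((toConv (AlgHom.id K (K ⊗[k] A))) ^ n).ofConv (1 ⊗ₜ a) =
      1 ⊗ₜ ((toConv (AlgHom.id k A)) ^ n).ofConv a := by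
  induction n generalizing a with
  | zero =>
    rw [pow_zero, pow_zero]
    show algebraMap K (K ⊗[k] A) (CoalgebraStruct.counit (R := K) ((1 : K) ⊗ₜ[k] a)) =
      1 ⊗ₜ algebraMap k A (CoalgebraStruct.counit (R := k) a)
    rw [TensorProduct.counit_tmul, Algebra.TensorProduct.algebraMap_apply,
      Algebra.algebraMap_eq_smul_one (A := A), ← TensorProduct.smul_tmul]
    simp
  | succ n ih =>
    rw [pow_succ, pow_succ]
    exact convMul_baseChange_apply K _ _ _ _ ih (fun _ => rfl) a

end baseChange



open HopfSplit41 in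
/-- Gluing: if `A ≃ Q ⊗ A/σ(Q⁺)A` and both `Q` and `A/σ(Q⁺)A` are killed by their orders, so is
`A`. -/
theorem convPow_eq_one_of_split {k : Type u} [Field k] {A : Type v} {Q : Type w} [CommRing A]
    [CommRing Q] [HopfAlgebra k A] [HopfAlgebra k Q] (σ : Q →ₐc[k] A) (m q : ℕ)
    (hQ : (toConv (AlgHom.id k Q)) ^ m = 1)
    (hL : (toConv (AlgHom.id k (A ⧸ splitIdeal σ))) ^ q = 1) :
    (toConv (AlgHom.id k A)) ^ (m * q) = 1 := by
  set g : WithConv (A →ₐ[k] A) := toConv (AlgHom.id k A) with hg
  -- (a)
  have ha : precomp σ (g ^ m) = 1 := by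
    have e1 : precomp σ g = postcomp (σ : Q →ₐ[k] A) (toConv (AlgHom.id k Q)) := by
      rw [precomp_apply, postcomp_apply]
      rfl
    rw [map_pow, e1, ← map_pow, hQ, map_one]
  -- (b)
  have hb : splitIdeal σ ≤ RingHom.ker (g ^ m).ofConv := by
    rw [splitIdeal, Ideal.map_le_iff_le_comap]
    intro y hy
    rw [Ideal.mem_comap, RingHom.mem_ker]
    have h1 := congrArg (fun f => f.ofConv y) ha
    simp only [precomp_apply] at h1
    have hy0 : CoalgebraStruct.counit (R := k) y = 0 := hy
    have h2 : (1 : WithConv (Q →ₐ[k] A)).ofConv y = 0 := by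
      show algebraMap k A (CoalgebraStruct.counit (R := k) y) = 0
      rw [hy0, map_zero]
    rw [h2] at h1
    exact h1
  let h : (A ⧸ splitIdeal σ) →ₐ[k] A :=
    Ideal.Quotient.liftₐ (splitIdeal σ) (g ^ m).ofConv (fun a ha => hb ha)
  have hc : g ^ m = postcomp h (precomp (Bialgebra.Quotient.mkBialgHom (R := k) (splitIdeal σ))
      (toConv (AlgHom.id k (A ⧸ splitIdeal σ)))) := by
    rw [precomp_apply, postcomp_apply]
    apply WithConv.ofConv_injective
    apply AlgHom.ext
    intro a
    rfl
  rw [pow_mul, hc, ← map_pow, ← map_pow, hL, map_one, map_one]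



open HopfSplit41 in
theorem convPow_finrank_eq_one_of_isAlgClosed_of_charP (K : Type u) [Field K] [IsAlgClosed K]
    (p : ℕ) [Fact p.Prime] [CharP K p]
    (B : Type u) [CommRing B] [HopfAlgebra K B] [Module.Finite K B] :
    (toConv (AlgHom.id K B)) ^ (Module.finrank K B) = 1 := by
  have hperf : PerfectField K := inferInstance
  have hHI : (nilradical B).IsHopfIdeal K := HopfNilrad41.isHopfIdeal_nilradical K B
  obtain ⟨σ, hσ⟩ := FrobSection41.exists_section K p B
  have hloc : IsLocalRing (B ⧸ splitIdeal σ) :=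
    isLocalRing_quotient_splitIdeal (Bialgebra.Quotient.mkBialgHom (R := K) (nilradical B)) σ hσ
      (fun a ha => mem_nilradical.1 (Ideal.Quotient.eq_zero_iff_mem.1 ha))
  have hbij := bijective_splitMap (Bialgebra.Quotient.mkBialgHom (R := K) (nilradical B)) σ hσ
  have hred : IsReduced (B ⧸ nilradical B) :=
    (Ideal.isRadical_iff_quotient_reduced _).1 (Ideal.radical_isRadical _)
  have hdim : Module.finrank K B =
      Module.finrank K (B ⧸ nilradical B) * Module.finrank K (B ⧸ splitIdeal σ) := by
    rw [← Module.finrank_tensorProduct]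
    exact (LinearEquiv.ofBijective (splitMap (Bialgebra.Quotient.mkBialgHom (R := K) (nilradical B))
      (splitIdeal σ)).toLinearMap hbij).finrank_eq
  rw [hdim]
  exact convPow_eq_one_of_split σ _ _
    (convPow_finrank_eq_one_of_isReduced K (B ⧸ nilradical B))
    (convPow_finrank_eq_one_of_isLocalRing K p (B ⧸ splitIdeal σ))

theorem convPow_finrank_eq_one_of_isAlgClosed (K : Type u) [Field K] [IsAlgClosed K]
    (B : Type u) [CommRing B] [HopfAlgebra K B] [Module.Finite K B] :
    (toConv (AlgHom.id K B)) ^ (Module.finrank K B) = 1 := by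
  obtain ⟨p, hp⟩ := CharP.exists K
  rcases CharP.char_is_prime_or_zero K p with hpp | rfl
  · have : Fact p.Prime := ⟨hpp⟩
    exact convPow_finrank_eq_one_of_isAlgClosed_of_charP K p B
  · have : CharZero K := CharP.charP_to_charZero K
    have : IsReduced B := Cartier38.isReduced_of_charZero K B
    exact convPow_finrank_eq_one_of_isReduced K B

/-- **A finite group scheme over a field is killed by its order.** -/
theorem convPow_finrank_eq_one (k : Type u) [Field k] (A : Type u) [CommRing A] [HopfAlgebra k A]
    [Module.Finite k A] :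
    (toConv (AlgHom.id k A)) ^ (Module.finrank k A) = 1 := by
  let K := AlgebraicClosure k
  have h1 := convPow_finrank_eq_one_of_isAlgClosed K (K ⊗[k] A)
  rw [Module.finrank_baseChange] at h1
  have hinj : Function.Injective
      (Algebra.TensorProduct.includeRight : A →ₐ[k] K ⊗[k] A) :=
    Algebra.TensorProduct.includeRight_injective (algebraMap k K).injective
  apply WithConv.ofConv_injective
  apply AlgHom.ext
  intro a
  apply hinj
  show (1 : K) ⊗ₜ[k] ((toConv (AlgHom.id k A)) ^ (Module.finrank k A)).ofConv a =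
    (1 : K) ⊗ₜ[k] (1 : WithConv (A →ₐ[k] A)).ofConv a
  rw [← convPow_id_baseChange_apply K (Module.finrank k A) a, h1,
    ← pow_zero (toConv (AlgHom.id k A)), ← convPow_id_baseChange_apply K 0 a, pow_zero]

end Groth.Agent.Lib.HopfKilledByOrder41
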