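import Mathlib
import Groth.Agent.Lib.HopfKilledByOrder41

/-!
# Killed by the order: universe-polymorphic version and reduced base rings (helper41)

* `isHopfIdeal_nilradical_of_isAlgClosed`: nilradical of a finite Hopf algebra over an algebraically
  closed field is a Hopf ideal (universe polymorphic).
* `convPow_finrank_eq_one'`: `k : Type u`, `A : Type v`.
* `eq_zero_of_forall_residueField_tmul_eq_zero`, `convPow_eq_one_of_isReduced`: finite locally free
  group schemes of constant order over a reduced ring are killed by their order.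
-/

set_option autoImplicit false
universe u v w
open scoped TensorProduct
open WithConv

namespace Groth.Agent.Lib.HopfKilledByOrder41


theorem isReduced_pi {ι : Type*} (E : Type*) [CommRing E] [IsReduced E] : IsReduced (ι → E) := by
  refine ⟨fun f hf => ?_⟩
  funext i
  obtain ⟨n, hn⟩ := hf
  have : IsNilpotent (f i) := ⟨n, by simpa using congrFun hn i⟩
  exact this.eq_zero

theorem isReduced_tensor_of_algEquiv_pi (K : Type u) [Field K] (E : Type v) (E' : Type w)
    [CommRing E] [CommRing E'] [Algebra K E] [Algebra K E'] [IsReduced E] (X : Type*) [Finite X]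
    (e : E' ≃ₐ[K] (X → K)) : IsReduced (E ⊗[K] E') := by
  classical
  have : Fintype X := Fintype.ofFinite X
  let e1 : E ⊗[K] E' ≃ₐ[K] (X → E) :=
    (Algebra.TensorProduct.congr AlgEquiv.refl e).trans
      (Algebra.TensorProduct.piScalarRight K K E X)
  have := isReduced_pi (ι := X) E
  exact isReduced_of_injective e1 e1.injective

/-- Over an algebraically closed field, the nilradical of a finite commutative Hopf algebra is a
Hopf ideal (universe polymorphic). -/
theorem isHopfIdeal_nilradical_of_isAlgClosed (K : Type u) [Field K] [IsAlgClosed K]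
    (A : Type v) [CommRing A] [HopfAlgebra K A] [Module.Finite K A] :
    (nilradical A).IsHopfIdeal K := by
  have hred : IsReduced (A ⧸ nilradical A) :=
    (Ideal.isRadical_iff_quotient_reduced _).1 (Ideal.radical_isRadical _)
  have hfin : Finite ((A ⧸ nilradical A) →ₐ[K] K) := FinEtaleHopf41.finite_points K _
  have hbij : Function.Bijective (FinEtaleHopf41.evPts K (A ⧸ nilradical A)) :=
    ⟨FinEtaleHopf41.evPts_injective K _, FinEtaleHopf41.evPts_surjective K _⟩
  have hred2 : IsReduced ((A ⧸ nilradical A) ⊗[K] (A ⧸ nilradical A)) :=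
    isReduced_tensor_of_algEquiv_pi K _ _ _ (AlgEquiv.ofBijective _ hbij)
  refine { counit_eq_zero := ?_, map_mkQ_comul_eq_zero := ?_, antipode_mem := ?_ }
  · intro x hx
    have hx' : IsNilpotent x := mem_nilradical.1 hx
    have : IsNilpotent (Bialgebra.counitAlgHom K A x) := hx'.map _
    exact this.eq_zero
  · intro x hx
    have hx' : IsNilpotent x := mem_nilradical.1 hx
    let Φ : A →ₐ[K] (A ⧸ nilradical A) ⊗[K] (A ⧸ nilradical A) :=
      (Algebra.TensorProduct.map (Ideal.Quotient.mkₐ K (nilradical A))
        (Ideal.Quotient.mkₐ K (nilradical A))).comp (Bialgebra.comulAlgHom K A)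
    have : IsNilpotent (Φ x) := hx'.map Φ
    exact this.eq_zero
  · intro x hx
    have hx' : IsNilpotent x := mem_nilradical.1 hx
    have : IsNilpotent (HopfAlgebra.antipodeAlgHom K A x) := hx'.map _
    exact mem_nilradical.2 this

open HopfSplit41 in
theorem convPow_finrank_eq_one_of_isAlgClosed_of_charP' (K : Type u) [Field K] [IsAlgClosed K]
    (p : ℕ) [Fact p.Prime] [CharP K p]
    (B : Type v) [CommRing B] [HopfAlgebra K B] [Module.Finite K B] :
    (toConv (AlgHom.id K B)) ^ (Module.finrank K B) = 1 := by
  have hperf : PerfectField K := inferInstance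
  have hHI : (nilradical B).IsHopfIdeal K := isHopfIdeal_nilradical_of_isAlgClosed K B
  obtain ⟨σ, hσ⟩ := FrobSection41.exists_section K p B
  have hloc : IsLocalRing (B ⧸ splitIdeal σ) :=
    isLocalRing_quotient_splitIdeal (Bialgebra.Quotient.mkBialgHom (R := K) (nilradical B)) σ hσ
      (fun a ha => mem_nilradical.1 (Ideal.Quotient.eq_zero_iff_mem.1 ha))
  have hbij := bijective_splitMap (Bialgebra.Quotient.mkBialgHom (R := K) (nilradical B)) σ hσ
  have hred : IsReduced (B ⧸ nilradical B) :=
    (Ideal.isRadical_iff_quotient_reduced _).1 (Ideal.radical_isRadical _)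
  have hdim : Module.finrank K B =
      Module.finrank K (B ⧸ nilradical B) * Module.finrank K (B ⧸ splitIdeal σ) := by
    rw [← Module.finrank_tensorProduct]
    exact (LinearEquiv.ofBijective (splitMap (Bialgebra.Quotient.mkBialgHom (R := K) (nilradical B))
      (splitIdeal σ)).toLinearMap hbij).finrank_eq
  rw [hdim]
  exact convPow_eq_one_of_split σ _ _
    (convPow_finrank_eq_one_of_isReduced K (B ⧸ nilradical B))
    (convPow_finrank_eq_one_of_isLocalRing K p (B ⧸ splitIdeal σ))

theorem convPow_finrank_eq_one_of_isAlgClosed' (K : Type u) [Field K] [IsAlgClosed K]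
    (B : Type v) [CommRing B] [HopfAlgebra K B] [Module.Finite K B] :
    (toConv (AlgHom.id K B)) ^ (Module.finrank K B) = 1 := by
  obtain ⟨p, hp⟩ := CharP.exists K
  rcases CharP.char_is_prime_or_zero K p with hpp | rfl
  · have : Fact p.Prime := ⟨hpp⟩
    exact convPow_finrank_eq_one_of_isAlgClosed_of_charP' K p B
  · have : CharZero K := CharP.charP_to_charZero K
    have : IsReduced B := Cartier38.isReduced_of_charZero K B
    exact convPow_finrank_eq_one_of_isReduced K B

/-- **A finite group scheme over a field is killed by its order** (universe polymorphic). -/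
theorem convPow_finrank_eq_one' (k : Type u) [Field k] (A : Type v) [CommRing A] [HopfAlgebra k A]
    [Module.Finite k A] :
    (toConv (AlgHom.id k A)) ^ (Module.finrank k A) = 1 := by
  let K := AlgebraicClosure k
  have h1 := convPow_finrank_eq_one_of_isAlgClosed' K (K ⊗[k] A)
  rw [Module.finrank_baseChange] at h1
  have hinj : Function.Injective
      (Algebra.TensorProduct.includeRight : A →ₐ[k] K ⊗[k] A) :=
    Algebra.TensorProduct.includeRight_injective (algebraMap k K).injective
  apply WithConv.ofConv_injective
  apply AlgHom.ext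
  intro a
  apply hinj
  show (1 : K) ⊗ₜ[k] ((toConv (AlgHom.id k A)) ^ (Module.finrank k A)).ofConv a =
    (1 : K) ⊗ₜ[k] (1 : WithConv (A →ₐ[k] A)).ofConv a
  rw [← convPow_id_baseChange_apply K (Module.finrank k A) a, h1,
    ← pow_zero (toConv (AlgHom.id k A)), ← convPow_id_baseChange_apply K 0 a, pow_zero]



/-- An element of a projective module over a reduced ring vanishing in all residue fibres is
zero. -/
theorem eq_zero_of_forall_residueField_tmul_eq_zero {R₀ : Type u} [CommRing R₀] [IsReduced R₀]
    {A : Type v} [AddCommGroup A] [Module R₀ A] [Module.Projective R₀ A] (b : A)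
    (h : ∀ p : PrimeSpectrum R₀, (1 : p.asIdeal.ResidueField) ⊗ₜ[R₀] b = 0) : b = 0 := by
  obtain ⟨s, hs⟩ := (Module.projective_def' (R := R₀) (P := A)).1 inferInstance
  have hsb : s b = 0 := by
    ext i
    let φ : A →ₗ[R₀] R₀ := Finsupp.lapply i ∘ₗ s
    show φ b = 0
    have hmem : φ b ∈ nilradical R₀ := by
      rw [nilradical_eq_sInf, Ideal.mem_sInf]
      intro J hJ
      have hJ' : J.IsPrime := hJ
      have h1 := congrArg (LinearMap.lTensor J.ResidueField φ) (h ⟨J, hJ'⟩)
      rw [LinearMap.lTensor_tmul, map_zero] at h1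
      have h2 := congrArg (TensorProduct.rid R₀ J.ResidueField) h1
      rw [TensorProduct.rid_tmul, map_zero, ← Algebra.algebraMap_eq_smul_one,
        Ideal.algebraMap_residueField_eq_zero] at h2
      exact h2
    rw [nilradical_eq_zero] at hmem
    exact hmem
  have := LinearMap.congr_fun hs b
  rw [LinearMap.comp_apply, hsb, map_zero] at this
  exact this.symm

/-- A finite locally free group scheme of constant order `n` over a reduced ring is killed
by `n`. -/
theorem convPow_eq_one_of_isReduced (R₀ : Type u) (A : Type v) [CommRing R₀] [IsReduced R₀]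
    [CommRing A] [HopfAlgebra R₀ A] [Module.Finite R₀ A] [Module.Projective R₀ A] (n : ℕ)
    (hn : ∀ p : PrimeSpectrum R₀, Module.rankAtStalk (R := R₀) A p = n) :
    (toConv (AlgHom.id R₀ A)) ^ n = 1 := by
  apply WithConv.ofConv_injective
  apply AlgHom.ext
  intro a
  rw [← sub_eq_zero]
  apply eq_zero_of_forall_residueField_tmul_eq_zero (R₀ := R₀)
  intro p
  rw [TensorProduct.tmul_sub, sub_eq_zero]
  have hfr : Module.finrank p.asIdeal.ResidueField (p.asIdeal.ResidueField ⊗[R₀] A) = n := by
    rw [← hn p, Module.rankAtStalk_eq]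
  have h1 := convPow_finrank_eq_one' p.asIdeal.ResidueField (p.asIdeal.ResidueField ⊗[R₀] A)
  rw [hfr] at h1
  rw [← convPow_id_baseChange_apply p.asIdeal.ResidueField n a, h1,
    ← pow_zero (toConv (AlgHom.id R₀ A)), ← convPow_id_baseChange_apply p.asIdeal.ResidueField 0 a,
    pow_zero]


/-- Every point is killed by `n` once the identity is. -/
theorem convPow_eq_one_of_id {R₀ : Type u} {A : Type v} [CommRing R₀] [CommRing A]
    [Bialgebra R₀ A] (n : ℕ) (h : (toConv (AlgHom.id R₀ A)) ^ n = 1)
    {R : Type w} [CommRing R] [Algebra R₀ R] (g : A →ₐ[R₀] R) : toConv g ^ n = 1 := by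
  have e : toConv g = HopfSplit41.postcomp g (toConv (AlgHom.id R₀ A)) := by
    rw [HopfSplit41.postcomp_apply]
    rfl
  rw [e, ← map_pow, h, map_one]

end Groth.Agent.Lib.HopfKilledByOrder41
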