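import Mathlib

set_option autoImplicit false

/-!
# helper82: scheme-theoretic closure of an effective Cartier divisor across UFD points — algebra
(namespace `Groth.Agent.Lib.CartExt82`)

* `exists_max_common_divisor`: in a UFD, a set of elements with a nonzero member has a "greatest common
  divisor" `g` (a common divisor such that no `g * π`, `π` prime, is a common divisor).
* `exists_generator_of_closure`: the local algebraic core of Stacks 0BCU-type extension.
-/

namespace Groth.Agent.Lib.CartExt82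

section UFD

variable {A : Type*} [CommRing A] [IsDomain A] [UniqueFactorizationMonoid A]

theorem exists_max_common_divisor (S : Set A) (hS : ∃ a ∈ S, a ≠ 0) :
    ∃ g : A, g ≠ 0 ∧ (∀ a ∈ S, g ∣ a) ∧ ∀ π : A, Prime π → ¬ ∀ a ∈ S, g * π ∣ a := by
  obtain ⟨a₀, ha₀S, ha₀⟩ := hS
  let T : Set A := {c | ∃ g : A, (∀ a ∈ S, g ∣ a) ∧ g * c = a₀}
  have hT : T.Nonempty := ⟨a₀, 1, fun a _ => one_dvd a, one_mul a₀⟩
  obtain ⟨c, ⟨g, hg, hgc⟩, hmin⟩ := (wellFounded_dvdNotUnit (α := A)).has_min T hT
  have hg0 : g ≠ 0 := by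
    rintro rfl
    exact ha₀ (by rw [← hgc, zero_mul])
  have hc0 : c ≠ 0 := by
    rintro rfl
    exact ha₀ (by rw [← hgc, mul_zero])
  refine ⟨g, hg0, hg, fun π hπ hall => ?_⟩
  have h1 : g * π ∣ g * c := by rw [hgc]; exact hall a₀ ha₀S
  obtain ⟨c', hc'⟩ := (mul_dvd_mul_iff_left hg0).1 h1
  have hc'T : c' ∈ T := ⟨g * π, hall, by rw [mul_assoc, ← hc', hgc]⟩
  refine hmin c' hc'T ⟨?_, π, hπ.not_isUnit, ?_⟩
  · rintro rfl
    exact hc0 (by rw [hc', mul_zero])
  · rw [hc', mul_comm]

end UFD

section Main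

variable {R : Type*} [CommRing R] [IsDomain R] [IsNoetherianRing R]
  (p : Ideal R) [hp : p.IsPrime] (A : Type*) [CommRing A] [IsDomain A] [Algebra R A]
  [IsLocalization.AtPrime A p] [UniqueFactorizationMonoid A]

include hp in
/-- **Local algebraic core of the extension of effective Cartier divisors across UFD points.**
`J` is an ideal of the Noetherian domain `R`, `T` a generization-stable set of primes (the points of the
open set where the divisor is given) such that `J` is "closed" with respect to `T` (`hF1`: every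
proper colon ideal `(J : r)` lies in a prime of `T`) and locally principal at the primes of `T` (`hF2`).
If `R_p` is a UFD, then `J R_p` is principal. -/
theorem exists_generator_of_closure (J : Ideal R) (T : Set (Ideal R))
    (hT2 : ∀ P ∈ T, ∀ Q : Ideal R, Q.IsPrime → Q ≤ P → Q ∈ T)
    (hF1 : ∀ r : R, r ∉ J → ∃ P ∈ T, ∀ s : R, s * r ∈ J → s ∈ P)
    (hF2 : ∀ P ∈ T, ∃ j ∈ J, j ≠ 0 ∧ ∀ j' ∈ J, ∃ s : R, s ∉ P ∧ ∃ c : R, s * j' = c * j) :
    ∃ g : A, g ≠ 0 ∧ J.map (algebraMap R A) = Ideal.span {g} := by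
  have hinj : Function.Injective (algebraMap R A) :=
    IsLocalization.injective A (p.primeCompl_le_nonZeroDivisors)
  have hunit : ∀ s : R, s ∉ p → IsUnit (algebraMap R A s) := fun s hs =>
    IsLocalization.map_units A (⟨s, hs⟩ : p.primeCompl)
  -- a nonzero element of `J`
  obtain ⟨j₁, hj₁J, hj₁⟩ : ∃ j ∈ J, j ≠ 0 := by
    by_cases h1 : (1 : R) ∈ J
    · exact ⟨1, h1, one_ne_zero⟩
    · obtain ⟨P, hPT, -⟩ := hF1 1 h1
      obtain ⟨j, hjJ, hj0, -⟩ := hF2 P hPT
      exact ⟨j, hjJ, hj0⟩
  let S : Set A := (algebraMap R A) '' (J : Set R)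
  obtain ⟨g₀, hg₀0, hg₀S, hg₀max⟩ := exists_max_common_divisor S
    ⟨algebraMap R A j₁, ⟨j₁, hj₁J, rfl⟩, fun h => hj₁ (hinj (by rw [h, map_zero]))⟩
  -- replace `g₀` by an associate coming from `R`
  obtain ⟨gt, ⟨h, hh⟩, hgh⟩ := IsLocalization.exists_mk'_eq p.primeCompl g₀
  have hgh' : g₀ * algebraMap R A h = algebraMap R A gt := by
    rw [← hgh]; exact IsLocalization.mk'_spec A gt ⟨h, hh⟩
  obtain ⟨g, hgdef⟩ : ∃ g : A, g = algebraMap R A gt := ⟨_, rfl⟩
  have hg₀g : g₀ ∣ g := ⟨algebraMap R A h, by rw [hgdef, hgh']⟩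
  have hgg₀ : g ∣ g₀ := by
    obtain ⟨u, hu⟩ := (hunit h hh).exists_right_inv
    exact ⟨u, by rw [hgdef, ← hgh', mul_assoc, hu, mul_one]⟩
  have hg0 : g ≠ 0 := by
    rintro rfl
    exact hg₀0 (zero_dvd_iff.1 hgg₀)
  have hgS : ∀ a ∈ S, g ∣ a := fun a ha => hgg₀.trans (hg₀S a ha)
  have hgmax : ∀ π : A, Prime π → ¬ ∀ a ∈ S, g * π ∣ a := fun π hπ hall =>
    hg₀max π hπ (fun a ha => (mul_dvd_mul_right hg₀g π).trans (hall a ha))
  -- the key claim
  have hclaim : ∃ s : R, s ∉ p ∧ s * gt ∈ J := by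
    by_contra hcon
    push Not at hcon
    -- colon ideals
    let col : R → Ideal R := fun r => Submodule.colon J {r * gt}
    have hcol : ∀ r s : R, s ∈ col r ↔ s * (r * gt) ∈ J := fun r s => by
      change s ∈ Submodule.colon J {r * gt} ↔ _
      rw [Submodule.mem_colon_singleton, smul_eq_mul]
    let 𝒞 : Set (Ideal R) := {I | ∃ r : R, I = col r ∧ I ≤ p}
    have h𝒞 : 𝒞.Nonempty := by
      refine ⟨col 1, 1, rfl, fun s hs => ?_⟩
      rw [hcol, one_mul] at hs
      by_contra hsp
      exact hcon s hsp hs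
    obtain ⟨Q, ⟨r₀, hQr₀, hQp⟩, hQmax⟩ := (wellFounded_gt (α := Ideal R)).has_min 𝒞 h𝒞
    have hQmem : ∀ s : R, s ∈ Q ↔ s * (r₀ * gt) ∈ J := fun s => by rw [hQr₀, hcol]
    have hQmax' : ∀ r : R, col r ≤ p → Q ≤ col r → col r ≤ Q := by
      intro r h1 h2
      by_contra h3
      exact hQmax (col r) ⟨r, rfl, h1⟩ (lt_of_le_not_ge h2 h3)
    have hQprime : Q.IsPrime := by
      refine ⟨fun htop => hp.ne_top (top_le_iff.1 (htop ▸ hQp)), fun {a b} hab => ?_⟩
      by_contra hne
      push Not at hne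
      obtain ⟨haQ, hbQ⟩ := hne
      -- `col (a * r₀)` contains `Q` and `b`
      have h1 : Q ≤ col (a * r₀) := by
        intro s hs
        rw [hcol]
        have := J.mul_mem_left a ((hQmem s).1 hs)
        convert this using 1
        ring
      have hb1 : b ∈ col (a * r₀) := by
        rw [hcol]
        have := (hQmem (a * b)).1 hab
        convert this using 1
        ring
      have h2 : ¬ col (a * r₀) ≤ p := fun h => hbQ (hQmax' _ h h1 hb1)
      obtain ⟨s, hs1, hsp⟩ := SetLike.not_le_iff_exists.1 h2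
      rw [hcol] at hs1
      -- `col (s * r₀)` contains `Q` and `a`, and is contained in `p`
      have h3 : Q ≤ col (s * r₀) := by
        intro t ht
        rw [hcol]
        have := J.mul_mem_left s ((hQmem t).1 ht)
        convert this using 1
        ring
      have h4 : col (s * r₀) ≤ p := by
        intro t ht
        rw [hcol] at ht
        have h5 : t * s ∈ Q := by
          rw [hQmem]
          convert ht using 1
          ring
        rcases hp.mem_or_mem (hQp h5) with h6 | h6
        · exact h6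
        · exact absurd h6 hsp
      have ha1 : a ∈ col (s * r₀) := by
        rw [hcol]
        convert hs1 using 1
        ring
      exact haQ (hQmax' _ h4 h3 ha1)
    have hx₀ : r₀ * gt ∉ J := by
      intro h
      have : (1 : R) ∈ Q := by rw [hQmem, one_mul]; exact h
      exact hQprime.ne_top ((Ideal.eq_top_iff_one Q).2 this)
    obtain ⟨P, hPT, hP⟩ := hF1 _ hx₀
    have hQP : Q ≤ P := fun s hs => hP s ((hQmem s).1 hs)
    have hQT : Q ∈ T := hT2 P hPT Q hQprime hQP
    obtain ⟨j₀, hj₀J, hj₀0, hj₀⟩ := hF2 Q hQT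
    obtain ⟨β₀, hβ₀⟩ := hgS (algebraMap R A j₀) ⟨j₀, hj₀J, rfl⟩
    have hβ₀0 : β₀ ≠ 0 := by
      rintro rfl
      rw [mul_zero] at hβ₀
      exact hj₀0 (hinj (by rw [hβ₀, map_zero]))
    have hdisj : Disjoint (p.primeCompl : Set R) (Q : Set R) := by
      rw [Set.disjoint_left]
      intro s hs hsQ
      exact hs (hQp hsQ)
    have hQA : (Q.map (algebraMap R A)).IsPrime :=
      IsLocalization.isPrime_of_isPrime_disjoint p.primeCompl A Q hQprime hdisj
    have hQA' : ∀ s : R, algebraMap R A s ∈ Q.map (algebraMap R A) → s ∈ Q := by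
      intro s hs
      have := IsLocalization.under_map_of_isPrime_disjoint p.primeCompl A hQprime hdisj
      rw [← this]
      exact hs
    by_cases hβQ : β₀ ∈ Q.map (algebraMap R A)
    · -- a prime factor of `β₀` in `QA`
      obtain ⟨f, hfprime, hfprod⟩ := UniqueFactorizationMonoid.exists_prime_factors β₀ hβ₀0
      have hfQ : f.prod ∈ Q.map (algebraMap R A) := by
        obtain ⟨u, hu⟩ := hfprod.symm
        rw [← hu]
        exact Ideal.mul_mem_right _ _ hβQ
      obtain ⟨π, hπf, hπQ⟩ := (hQA.multiset_prod_mem_iff_exists_mem f).1 hfQ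
      have hπβ : π ∣ β₀ := (Multiset.dvd_prod hπf).trans hfprod.dvd
      refine hgmax π (hfprime π hπf) ?_
      rintro _ ⟨j', hj'J, rfl⟩
      obtain ⟨s, hsQ, c, hsc⟩ := hj₀ j' hj'J
      obtain ⟨β', hβ'⟩ := hgS (algebraMap R A j') ⟨j', hj'J, rfl⟩
      have h1 : algebraMap R A s * β' = algebraMap R A c * β₀ := by
        have h2 : algebraMap R A (s * j') = algebraMap R A (c * j₀) := by rw [hsc]
        rw [map_mul, map_mul, hβ', hβ₀] at h2
        have h3 : g * (algebraMap R A s * β') = g * (algebraMap R A c * β₀) := by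
          rw [← mul_assoc, mul_comm g, mul_assoc, h2]; ring
        exact mul_left_cancel₀ hg0 h3
      have h4 : π ∣ algebraMap R A s * β' := by
        rw [h1]; exact Dvd.dvd.mul_left hπβ _
      rcases (hfprime π hπf).dvd_or_dvd h4 with h5 | h5
      · exfalso
        apply hsQ
        apply hQA'
        obtain ⟨w, hw⟩ := h5
        rw [hw]
        exact Ideal.mul_mem_right _ _ hπQ
      · rw [hβ']
        exact mul_dvd_mul_left g h5
    · -- `β₀` is a unit at `Q`
      obtain ⟨b, ⟨t, ht⟩, hbt⟩ := IsLocalization.exists_mk'_eq p.primeCompl β₀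
      have hbt' : β₀ * algebraMap R A t = algebraMap R A b := by
        rw [← hbt]; exact IsLocalization.mk'_spec A b ⟨t, ht⟩
      have hbQ : b ∉ Q := by
        intro hb
        have h1 : β₀ * algebraMap R A t ∈ Q.map (algebraMap R A) := by
          rw [hbt']; exact Ideal.mem_map_of_mem _ hb
        rcases hQA.mem_or_mem h1 with h2 | h2
        · exact hβQ h2
        · exact ht (hQp (hQA' t h2))
      have h2 : t * j₀ = b * gt := by
        apply hinj
        rw [map_mul, map_mul, hβ₀, ← hbt', ← hgdef]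
        ring
      apply hbQ
      rw [hQmem]
      have h3 : b * gt ∈ J := by rw [← h2]; exact J.mul_mem_left t hj₀J
      have := J.mul_mem_left r₀ h3
      convert this using 1
      ring
  obtain ⟨s, hsp, hsJ⟩ := hclaim
  refine ⟨g, hg0, le_antisymm ?_ ?_⟩
  · rw [Ideal.map_le_iff_le_comap]
    intro j hj
    rw [Ideal.mem_comap, Ideal.mem_span_singleton]
    exact hgS _ ⟨j, hj, rfl⟩
  · rw [Ideal.span_singleton_le_iff_mem]
    have h1 : algebraMap R A (s * gt) ∈ J.map (algebraMap R A) := Ideal.mem_map_of_mem _ hsJ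
    rw [map_mul, ← hgdef] at h1
    obtain ⟨u, hu⟩ := (hunit s hsp).exists_left_inv
    have h2 : g = u * (algebraMap R A s * g) := by rw [← mul_assoc, hu, one_mul]
    rw [h2]
    exact Ideal.mul_mem_left _ _ h1

end Main

end Groth.Agent.Lib.CartExt82
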