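import Groth.Agent.Lib.Hartogs
import Groth.Agent.Lib.StructureModuleStalk
import Groth.Agent.Lib.H90Invertible
import Groth.Agent.Lib.H90InvertibleFP

/-!
# Hartogs extension for functions (helper63)

`X` locally Noetherian, `U` open with `depth O_{X,x} ≥ 2` for `x ∉ U`: restriction of functions
`Γ(X, V) → Γ(X, W)` is bijective whenever `W = V ⊓ U`; morphisms `U ⟶ Y` to an affine scheme
extend uniquely to `X`.
-/

set_option autoImplicit false
universe u
open CategoryTheory AlgebraicGeometry TopologicalSpace Opposite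

namespace Groth.Agent.Lib.Hartogs

open Groth.Agent.Lib.QCohStalk Groth.Agent.Lib

variable {X : Scheme.{u}}

theorem isCoh_structureModule (X : Scheme.{u}) : Coh.IsCoh (Coh.structureModule X) :=
  H90Invertible.isCoh_of_isInvertible (H90Invertible.isInvertible_structureModule X)

theorem res_bijective_of_eq [IsLocallyNoetherian X] (F : X.Modules) (hF : Coh.IsCoh F)
    (U : X.Opens)
    (hdepth : ∀ x : X, x ∉ U → (2 : ℕ∞) ≤ LocCoh.depth (X.presheaf.stalk x) (F.presheaf.stalk x))
    {V W : X.Opens} (hWV : W ≤ V) (hW : W = V ⊓ U) : Function.Bijective (res F hWV) := by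
  subst hW
  exact res_bijective F hF U hdepth V

theorem depth_structureModule (x : X) :
    LocCoh.depth (X.presheaf.stalk x) ((Coh.structureModule X).presheaf.stalk x) =
      LocCoh.depth (X.presheaf.stalk x) (X.presheaf.stalk x) :=
  (DepthFlat33.depth_congr (StructureModuleStalk.stalkEquiv x)).symm

/-- **Hartogs for functions.** -/
theorem resO_bijective [IsLocallyNoetherian X] (U : X.Opens)
    (hdepth : ∀ x : X, x ∉ U → (2 : ℕ∞) ≤ LocCoh.depth (X.presheaf.stalk x) (X.presheaf.stalk x))
    {V W : X.Opens} (hWV : W ≤ V) (hW : W = V ⊓ U) :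
    Function.Bijective (X.presheaf.map (homOfLE hWV).op) :=
  res_bijective_of_eq (Coh.structureModule X) (isCoh_structureModule X) U
    (fun x hx => by rw [depth_structureModule]; exact hdepth x hx) hWV hW

/-- The restriction `Γ(X, ⊤) ⟶ Γ(U, ⊤)` is an isomorphism of rings. -/
theorem isIso_ι_appTop [IsLocallyNoetherian X] (U : X.Opens)
    (hdepth : ∀ x : X, x ∉ U → (2 : ℕ∞) ≤ LocCoh.depth (X.presheaf.stalk x) (X.presheaf.stalk x)) :
    IsIso U.ι.appTop := by
  rw [Scheme.Opens.ι_appTop, ConcreteCategory.isIso_iff_bijective]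
  exact resO_bijective U hdepth _ (by rw [Scheme.Opens.ι_image_top, top_inf_eq])

/-- **Hartogs extension of morphisms to an affine scheme.** -/
theorem existsUnique_extension [IsLocallyNoetherian X] (U : X.Opens)
    (hdepth : ∀ x : X, x ∉ U → (2 : ℕ∞) ≤ LocCoh.depth (X.presheaf.stalk x) (X.presheaf.stalk x))
    {Y : Scheme.{u}} [IsAffine Y] (f : (U : Scheme.{u}) ⟶ Y) : ∃! g : X ⟶ Y, U.ι ≫ g = f := by
  haveI := isIso_ι_appTop U hdepth
  refine ⟨X.toSpecΓ ≫ Spec.map (f.appTop ≫ inv U.ι.appTop) ≫ inv Y.toSpecΓ, ?_, ?_⟩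
  · beta_reduce
    rw [← cancel_mono Y.toSpecΓ]
    simp only [Category.assoc, IsIso.inv_hom_id, Category.comp_id]
    rw [← Category.assoc, Scheme.toSpecΓ_naturality, Category.assoc, ← Spec.map_comp,
      Category.assoc, IsIso.inv_hom_id, Category.comp_id, ← Scheme.toSpecΓ_naturality]
  · intro g hg
    apply ext_of_isAffine
    have h1 : g.appTop ≫ U.ι.appTop = f.appTop := by
      rw [← Scheme.Hom.comp_appTop, hg]
    have h2 : (X.toSpecΓ ≫ Spec.map (f.appTop ≫ inv U.ι.appTop) ≫ inv Y.toSpecΓ).appTop ≫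
        U.ι.appTop = f.appTop := by
      rw [← Scheme.Hom.comp_appTop]
      congr 1
      rw [← cancel_mono Y.toSpecΓ]
      simp only [Category.assoc, IsIso.inv_hom_id, Category.comp_id]
      rw [← Category.assoc, Scheme.toSpecΓ_naturality, Category.assoc, ← Spec.map_comp,
        Category.assoc, IsIso.inv_hom_id, Category.comp_id, ← Scheme.toSpecΓ_naturality]
    rw [← cancel_mono U.ι.appTop, h1, h2]

end Groth.Agent.Lib.Hartogs
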