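import Mathlib
import Groth.Agent.Lib.IdealMod2
import Groth.Agent.Lib.LocFact82

/-!
# Parafactorial pairs and local factoriality (helper82)
-/

set_option autoImplicit false
universe u

namespace Groth.Agent.Lib.ParaFact82

section Alg

variable {A : Type u} [CommRing A]

/-- finitely many elements killed (resp. pushed into a multiple of `r`) by elements outside a prime:
a uniform element outside the prime -/
theorem exists_uniform_mul {q : Ideal A} [q.IsPrime] (N : Ideal A) (hN : N.FG) (Q : A → A → Prop)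
    (hQadd : ∀ g a b, Q g a → Q g b → Q g (a + b)) (hQsmul : ∀ g c a, Q g a → Q g (c * a))
    (hQmul : ∀ g g' a, Q g a → Q (g' * g) a) (hQzero : ∀ g, Q g 0)
    (h : ∀ a ∈ N, ∃ u : A, u ∉ q ∧ Q u a) : ∃ g : A, g ∉ q ∧ ∀ a ∈ N, Q g a := by
  classical
  obtain ⟨S, hS⟩ := hN
  have hchoose : ∀ a : A, ∃ u : q.primeCompl, a ∈ N → Q (u : A) a := by
    intro a
    by_cases ha : a ∈ N
    · obtain ⟨u, hu, hQ⟩ := h a ha
      exact ⟨⟨u, hu⟩, fun _ => hQ⟩
    · exact ⟨1, fun h => absurd h ha⟩
  choose σ hσ using hchoose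
  set g : q.primeCompl := ∏ a ∈ S, σ a with hg
  refine ⟨(g : A), g.2, ?_⟩
  have hgS : ∀ a ∈ S, Q (g : A) a := by
    intro a ha
    have haN : a ∈ N := by rw [← hS]; exact Submodule.subset_span ha
    have : (g : A) = (∏ j ∈ S.erase a, (σ j : A)) * σ a := by
      rw [hg, Submonoid.coe_finsetProd, ← Finset.prod_erase_mul _ _ ha]
    rw [this]
    exact hQmul _ _ _ (hσ a haN)
  intro a ha
  rw [← hS] at ha
  refine Submodule.span_induction (p := fun a _ => Q (g : A) a) ?_ ?_ ?_ ?_ ha
  · intro a ha; exact hgS a ha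
  · exact hQzero _
  · intro u v _ _ hu hv; exact hQadd _ _ _ hu hv
  · intro c u _ hu
    rw [smul_eq_mul]
    exact hQsmul _ _ _ hu

/-- local principality of a height-one prime at a prime whose local ring is a factorial domain
(the ambient ring need not be a domain) -/
theorem exists_local_generator' [IsNoetherianRing A] (p : Ideal A) [p.IsPrime]
    (hp : p.height = 1) (q : Ideal A) [q.IsPrime] [IsDomain (Localization.AtPrime q)]
    [UniqueFactorizationMonoid (Localization.AtPrime q)] :
    ∃ g : A, g ∉ q ∧ ∃ f : A, g * f ∈ p ∧ (∀ a ∈ p, f ∣ g * a) ∧ ∀ b : A, f * b = 0 → g * b = 0 := by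
  classical
  by_cases hpq : p ≤ q
  · set B := Localization.AtPrime q with hB
    have hdisj : Disjoint (q.primeCompl : Set A) (p : Set A) := by
      rw [Set.disjoint_left]
      intro a ha hap
      exact ha (hpq hap)
    set P : Ideal B := p.map (algebraMap A B) with hP
    have hPprime : P.IsPrime := IsLocalization.isPrime_of_isPrime_disjoint q.primeCompl B p ‹_› hdisj
    have hPh : P.height = 1 := by
      rw [hP, IsLocalization.height_map_of_disjoint q.primeCompl p hdisj, hp]
    obtain ⟨t, ht0, hPt⟩ := Groth.Agent.Lib.LocFact82.exists_span_of_height_eq_one P hPh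
    obtain ⟨r, s, hrs⟩ := IsLocalization.exists_mk'_eq q.primeCompl t
    have hφr : algebraMap A B r = t * algebraMap A B s := by
      rw [← hrs, IsLocalization.mk'_spec]
    have hsu : IsUnit (algebraMap A B (s : A)) := IsLocalization.map_units B s
    have hφr0 : algebraMap A B r ≠ 0 := by
      rw [hφr]
      exact mul_ne_zero ht0 hsu.ne_zero
    have hrp : r ∈ p := by
      have h1 : algebraMap A B r ∈ P := by
        rw [hφr, hPt]
        exact Ideal.mul_mem_right _ _ (Ideal.mem_span_singleton_self t)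
      have h2 : r ∈ (p.map (algebraMap A B)).under A := h1
      rwa [IsLocalization.under_map_of_isPrime_disjoint q.primeCompl B ‹_› hdisj] at h2
    -- each element of `p` is a multiple of `r` up to an element outside `q`
    have hmul : ∀ a ∈ p, ∃ u : A, u ∉ q ∧ r ∣ u * a := by
      intro a ha
      have h1 : algebraMap A B a ∈ P := Ideal.mem_map_of_mem _ ha
      rw [hPt, Ideal.mem_span_singleton'] at h1
      obtain ⟨z, hz⟩ := h1
      obtain ⟨c, u, hcu⟩ := IsLocalization.exists_mk'_eq q.primeCompl z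
      have hz' : z * algebraMap A B u = algebraMap A B c := by
        rw [← hcu, IsLocalization.mk'_spec]
      have h2 : algebraMap A B ((u : A) * s * a) = algebraMap A B (r * c) := by
        simp only [map_mul]
        rw [← hz, hφr, ← hz']
        ring
      obtain ⟨v, hv⟩ := (IsLocalization.eq_iff_exists q.primeCompl B).mp h2
      refine ⟨(v : A) * ((u : A) * (s : A)), (v * (u * s)).2, c * v, ?_⟩
      calc (v : A) * ((u : A) * s) * a = v * ((u : A) * s * a) := by ring
        _ = v * (r * c) := hv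
        _ = r * (c * v) := by ring
    obtain ⟨g₁, hg₁q, hg₁⟩ := exists_uniform_mul (q := q) p (IsNoetherian.noetherian p)
      (fun g a => r ∣ g * a)
      (fun g a b ha hb => by rw [mul_add]; exact dvd_add ha hb)
      (fun g c a ha => by rw [mul_left_comm]; exact Dvd.dvd.mul_left ha c)
      (fun g g' a ha => by rw [mul_assoc]; exact Dvd.dvd.mul_left ha g')
      (fun g => by rw [mul_zero]; exact dvd_zero r) hmul
    -- the annihilator of `r` is killed by an element outside `q`
    have hann : ∀ b ∈ (Ideal.span {r}).annihilator, ∃ u : A, u ∉ q ∧ u * b = 0 := by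
      intro b hb
      rw [Submodule.mem_annihilator_span_singleton, smul_eq_mul] at hb
      have h0 : algebraMap A B b * algebraMap A B r = 0 := by rw [← map_mul, hb, map_zero]
      have hb0 : algebraMap A B b = 0 := (mul_eq_zero.mp h0).resolve_right hφr0
      obtain ⟨v, hv⟩ := (IsLocalization.map_eq_zero_iff q.primeCompl B b).mp hb0
      exact ⟨v, v.2, hv⟩
    obtain ⟨g₂, hg₂q, hg₂⟩ := exists_uniform_mul (q := q) (Ideal.span {r}).annihilator
      (IsNoetherian.noetherian _) (fun g a => g * a = 0)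
      (fun g a b ha hb => by rw [mul_add, ha, hb, add_zero])
      (fun g c a ha => by rw [mul_left_comm, ha, mul_zero])
      (fun g g' a ha => by rw [mul_assoc, ha, mul_zero])
      (fun g => mul_zero g) hann
    refine ⟨g₁ * g₂, fun h => (Ideal.IsPrime.mem_or_mem ‹_› h).elim hg₁q hg₂q, r,
      Ideal.mul_mem_left _ _ hrp, ?_, ?_⟩
    · intro a ha
      obtain ⟨c, hc⟩ := hg₁ a ha
      exact ⟨g₂ * c, by rw [mul_comm g₁ g₂, mul_assoc, hc]; ring⟩
    · intro b hb
      have : b ∈ (Ideal.span {r}).annihilator := by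
        rw [Submodule.mem_annihilator_span_singleton, smul_eq_mul, mul_comm]
        exact hb
      rw [mul_assoc, hg₂ b this, mul_zero]
  · obtain ⟨g, hgp, hgq⟩ := SetLike.not_le_iff_exists.mp hpq
    refine ⟨g, hgq, 1, by rwa [mul_one], fun a _ => one_dvd _, fun b hb => ?_⟩
    rw [one_mul] at hb
    rw [hb, mul_zero]

end Alg

section Sch

open CategoryTheory AlgebraicGeometry TopologicalSpace Opposite

variable {X : Scheme.{u}}

/-- local generator data on an affine open gives a principal ideal generated by a nonzerodivisor on a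
basic open -/
theorem exists_affine_span_singleton' (I : X.IdealSheafData) (W : X.affineOpens)
    (g f : Γ(X, W.1)) (hgf : g * f ∈ I.ideal W) (hdiv : ∀ a ∈ I.ideal W, f ∣ g * a)
    (hnzd : ∀ b : Γ(X, W.1), f * b = 0 → g * b = 0) (z : X) (hz : z ∈ X.basicOpen g) :
    ∃ (V : X.affineOpens) (f' : Γ(X, V.1)), z ∈ V.1 ∧ f' ∈ nonZeroDivisors Γ(X, V.1) ∧
      I.ideal V = Ideal.span {f'} := by
  have hloc : IsLocalization.Away g Γ(X, X.basicOpen g) := W.2.isLocalization_basicOpen g
  have hgu : IsUnit (algebraMap Γ(X, W.1) Γ(X, X.basicOpen g) g) :=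
    IsLocalization.Away.algebraMap_isUnit g
  have hnz : algebraMap Γ(X, W.1) Γ(X, X.basicOpen g) f ∈ nonZeroDivisors Γ(X, X.basicOpen g) := by
    rw [mem_nonZeroDivisors_iff_right]
    intro b' hb'
    obtain ⟨n, b, hb⟩ := IsLocalization.Away.surj g b'
    have h1 : algebraMap Γ(X, W.1) Γ(X, X.basicOpen g) (f * b) = 0 := by
      rw [map_mul, ← hb, mul_left_comm, ← mul_assoc, hb', zero_mul]
    obtain ⟨⟨_, m, rfl⟩, hm⟩ := (IsLocalization.map_eq_zero_iff (Submonoid.powers g) _ (f * b)).mp h1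
    have h2 : f * (g ^ m * b) = 0 := by
      rw [mul_left_comm]; exact hm
    have h3 := hnzd _ h2
    have h4 : algebraMap Γ(X, W.1) Γ(X, X.basicOpen g) g ^ (m + 1) *
        algebraMap Γ(X, W.1) Γ(X, X.basicOpen g) b = 0 := by
      rw [← map_pow, ← map_mul, pow_succ', mul_assoc, h3, map_zero]
    have h5 : algebraMap Γ(X, W.1) Γ(X, X.basicOpen g) b = 0 :=
      ((hgu.pow (m + 1)).mul_right_eq_zero).mp h4
    rw [h5] at hb
    exact ((hgu.pow n).mul_left_eq_zero).mp hb
  have hid : I.ideal ⟨X.basicOpen g, W.2.basicOpen g⟩ =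
      Ideal.span {algebraMap Γ(X, W.1) Γ(X, X.basicOpen g) f} := by
    have hmap := I.map_ideal_basicOpen W g
    change (I.ideal W).map (algebraMap Γ(X, W.1) Γ(X, X.basicOpen g)) =
      I.ideal ⟨X.basicOpen g, W.2.basicOpen g⟩ at hmap
    rw [← hmap]
    apply le_antisymm
    · rw [Ideal.map_le_iff_le_comap]
      intro a ha
      obtain ⟨c, hc⟩ := hdiv a ha
      rw [Ideal.mem_comap, Ideal.mem_span_singleton]
      have h1 : algebraMap Γ(X, W.1) Γ(X, X.basicOpen g) g * algebraMap Γ(X, W.1) Γ(X, X.basicOpen g) a =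
          algebraMap Γ(X, W.1) Γ(X, X.basicOpen g) f * algebraMap Γ(X, W.1) Γ(X, X.basicOpen g) c := by
        rw [← map_mul, ← map_mul, hc]
      obtain ⟨u, hu⟩ := hgu
      refine ⟨↑u⁻¹ * algebraMap Γ(X, W.1) Γ(X, X.basicOpen g) c, ?_⟩
      calc algebraMap Γ(X, W.1) Γ(X, X.basicOpen g) a =
            ↑u⁻¹ * (↑u * algebraMap Γ(X, W.1) Γ(X, X.basicOpen g) a) := by
            rw [← mul_assoc, Units.inv_mul, one_mul]
        _ = ↑u⁻¹ * (algebraMap Γ(X, W.1) Γ(X, X.basicOpen g) f *
              algebraMap Γ(X, W.1) Γ(X, X.basicOpen g) c) := by rw [hu, h1]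
        _ = _ := by ring
    · rw [Ideal.span_singleton_le_iff_mem]
      have h1 : algebraMap Γ(X, W.1) Γ(X, X.basicOpen g) g *
          algebraMap Γ(X, W.1) Γ(X, X.basicOpen g) f ∈
          (I.ideal W).map (algebraMap Γ(X, W.1) Γ(X, X.basicOpen g)) := by
        rw [← map_mul]; exact Ideal.mem_map_of_mem _ hgf
      exact (Ideal.unit_mul_mem_iff_mem _ hgu).mp h1
  exact ⟨⟨X.basicOpen g, W.2.basicOpen g⟩, _, hz, hnz, hid⟩

/-- the vanishing ideal of the closure of a point on an affine open containing it -/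
theorem vanishingIdeal_closure_ideal (ζ : X) (W : X.Opens) (hW : IsAffineOpen W) (hζ : ζ ∈ W) :
    (Scheme.IdealSheafData.vanishingIdeal ⟨closure {ζ}, isClosed_closure⟩).ideal ⟨W, hW⟩ =
      (hW.primeIdealOf ⟨ζ, hζ⟩).asIdeal := by
  ext f
  have hmem : f ∈ (Scheme.IdealSheafData.vanishingIdeal ⟨closure {ζ}, isClosed_closure⟩).ideal ⟨W, hW⟩ ↔
      ∀ p : PrimeSpectrum Γ(X, W), hW.fromSpec p ∈ closure {ζ} → f ∈ p.asIdeal := by
    rw [Scheme.IdealSheafData.vanishingIdeal_ideal, PrimeSpectrum.mem_vanishingIdeal]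
    rfl
  rw [hmem]
  constructor
  · intro h
    apply h
    rw [hW.fromSpec_primeIdealOf ⟨ζ, hζ⟩]
    exact subset_closure rfl
  · intro hf p hp
    rw [← specializes_iff_mem_closure] at hp
    have h0 : hW.fromSpec (hW.primeIdealOf ⟨ζ, hζ⟩) ⤳ hW.fromSpec p := by
      rw [hW.fromSpec_primeIdealOf ⟨ζ, hζ⟩]; exact hp
    have h1 : hW.primeIdealOf ⟨ζ, hζ⟩ ⤳ p :=
      (hW.fromSpec.isOpenEmbedding.isInducing.specializes_iff).mp h0
    exact (PrimeSpectrum.le_iff_specializes _ _).mpr h1 hf

theorem vanishingIdeal_ideal_eq_top (Z : Closeds X) (W : X.Opens) (hW : IsAffineOpen W)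
    (h : Disjoint (W : Set X) (Z : Set X)) :
    (Scheme.IdealSheafData.vanishingIdeal Z).ideal ⟨W, hW⟩ = ⊤ := by
  rw [eq_top_iff]
  intro f _
  have hmem : f ∈ (Scheme.IdealSheafData.vanishingIdeal Z).ideal ⟨W, hW⟩ ↔
      ∀ p : PrimeSpectrum Γ(X, W), hW.fromSpec p ∈ (Z : Set X) → f ∈ p.asIdeal := by
    rw [Scheme.IdealSheafData.vanishingIdeal_ideal, PrimeSpectrum.mem_vanishingIdeal]
    rfl
  rw [hmem]
  intro p hp
  have hpW : hW.fromSpec p ∈ (W : Set X) := by
    rw [← hW.range_fromSpec]; exact ⟨p, rfl⟩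
  exact absurd hp (Set.disjoint_left.mp h hpW)

/-- near a point whose local ring is a factorial domain, the ideal of the closure of a point with
one-dimensional local ring is generated by a nonzerodivisor -/
theorem exists_affine_span_singleton_vanishingIdeal [IsLocallyNoetherian X] (ζ z : X)
    (hζ : ringKrullDim (X.presheaf.stalk ζ) = 1) [IsDomain (X.presheaf.stalk z)]
    [UniqueFactorizationMonoid (X.presheaf.stalk z)] :
    ∃ (V : X.affineOpens) (f' : Γ(X, V.1)), z ∈ V.1 ∧ f' ∈ nonZeroDivisors Γ(X, V.1) ∧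
      (Scheme.IdealSheafData.vanishingIdeal ⟨closure {ζ}, isClosed_closure⟩).ideal V =
        Ideal.span {f'} := by
  by_cases hz : z ∈ closure {ζ}
  · have hspec : ζ ⤳ z := specializes_iff_mem_closure.mpr hz
    obtain ⟨W, hW, hzW, -⟩ := exists_isAffineOpen_mem_and_subset (U := ⊤) (x := z) (by simp)
    have hζW : ζ ∈ W := hspec.mem_open W.2 hzW
    have hN : IsNoetherianRing Γ(X, W) := IsLocallyNoetherian.component_noetherian ⟨W, hW⟩
    let algz : Algebra Γ(X, W) (X.presheaf.stalk z) :=
      TopCat.Presheaf.algebra_section_stalk X.presheaf ⟨z, hzW⟩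
    let algζ : Algebra Γ(X, W) (X.presheaf.stalk ζ) :=
      TopCat.Presheaf.algebra_section_stalk X.presheaf ⟨ζ, hζW⟩
    have locz : IsLocalization.AtPrime (X.presheaf.stalk z) (hW.primeIdealOf ⟨z, hzW⟩).asIdeal :=
      hW.isLocalization_stalk ⟨z, hzW⟩
    have locζ : IsLocalization.AtPrime (X.presheaf.stalk ζ) (hW.primeIdealOf ⟨ζ, hζW⟩).asIdeal :=
      hW.isLocalization_stalk ⟨ζ, hζW⟩
    set p := (hW.primeIdealOf ⟨ζ, hζW⟩).asIdeal with hp
    set q := (hW.primeIdealOf ⟨z, hzW⟩).asIdeal with hq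
    have hph : p.height = 1 := by
      have h1 := IsLocalization.AtPrime.ringKrullDim_eq_height p (X.presheaf.stalk ζ)
      rw [hζ] at h1
      have : ((1 : ℕ∞) : WithBot ℕ∞) = (p.height : WithBot ℕ∞) := h1
      exact (WithBot.coe_injective this).symm
    let e : Localization.AtPrime q ≃ₐ[Γ(X, W)] X.presheaf.stalk z :=
      IsLocalization.algEquiv q.primeCompl _ _
    have hdom : IsDomain (Localization.AtPrime q) := e.toMulEquiv.isDomain _
    have hufm : UniqueFactorizationMonoid (Localization.AtPrime q) :=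
      e.symm.toMulEquiv.uniqueFactorizationMonoid inferInstance
    obtain ⟨g, hgq, f, hgf, hdiv, hnzd⟩ := exists_local_generator' p hph q
    have hid := vanishingIdeal_closure_ideal ζ W hW hζW
    refine exists_affine_span_singleton' _ ⟨W, hW⟩ g f (by rw [hid]; exact hgf)
      (fun a ha => hdiv a (by rw [hid] at ha; exact ha)) hnzd z ?_
    rw [Scheme.mem_basicOpen _ _ _ hzW]
    exact (IsLocalization.AtPrime.isUnit_to_map_iff (X.presheaf.stalk z) q g).mpr hgq
  · have hO : IsOpen ((closure {ζ})ᶜ : Set X) := isClosed_closure.isOpen_compl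
    obtain ⟨W, hW, hzW, hWO⟩ := exists_isAffineOpen_mem_and_subset (U := ⟨_, hO⟩) (x := z) hz
    refine ⟨⟨W, hW⟩, 1, hzW, one_mem _, ?_⟩
    rw [vanishingIdeal_ideal_eq_top _ W hW, Ideal.span_singleton_one]
    rw [Set.disjoint_left]
    intro y hy hyZ
    exact hWO hy hyZ

end Sch

end Groth.Agent.Lib.ParaFact82
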