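import Groth.Agent.Lib.H90Invertible
import Groth.Agent.Lib.H78TensorGen
import Mathlib.AlgebraicGeometry.Properties
import Mathlib.RingTheory.UniqueFactorizationDomain.Basic

/-! # Pic of an open subscheme of the spectrum of a UFD is trivial (helper82)

Section 1: generalities on free generators (`IsGen`, helper90). -/

set_option autoImplicit false
universe u
open CategoryTheory AlgebraicGeometry TopologicalSpace Opposite
open Groth.Agent.Lib.H90Invertible Groth.Agent.Lib.H78TensorGen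

namespace Groth.Agent.Lib.PicUFD82

variable {X : Scheme.{u}} {L : X.Modules}

/-- restriction of functions -/
noncomputable abbrev rO (X : Scheme.{u}) {V W : X.Opens} (h : W ≤ V) (a : Γ(X, V)) : Γ(X, W) :=
  X.presheaf.map (homOfLE h).op a

lemma rO_rO {V W W' : X.Opens} (h : W ≤ V) (h' : W' ≤ W) (a : Γ(X, V)) :
    rO X h' (rO X h a) = rO X (h'.trans h) a := by
  rw [rO, rO, ← ConcreteCategory.comp_apply, ← Functor.map_comp]
  rfl

lemma rO_self {V : X.Opens} (a : Γ(X, V)) : rO X le_rfl a = a := by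
  have : (homOfLE (le_refl V)).op = 𝟙 (op V) := rfl
  rw [rO, this, X.presheaf.map_id]
  rfl

lemma rs_smul (L : X.Modules) {V W : X.Opens} (h : W ≤ V) (a : Γ(X, V)) (s : Γ(L, V)) :
    rs L h (a • s) = rO X h a • rs L h s :=
  L.val.map_smul (homOfLE h).op a s

/-- functions which agree locally are equal -/
lemma fun_ext {V : X.Opens} (a b : Γ(X, V))
    (h : ∀ x ∈ V, ∃ (W : X.Opens) (hW : W ≤ V), x ∈ W ∧ rO X hW a = rO X hW b) : a = b := by
  choose W hW hxW hst using h
  refine TopCat.Sheaf.eq_of_locally_eq' X.sheaf (fun x : V => W x.1 x.2) V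
    (fun x => homOfLE (hW x.1 x.2)) ?_ a b (fun x => hst x.1 x.2)
  intro x hx
  exact Opens.mem_iSup.2 ⟨⟨x, hx⟩, hxW x hx⟩

/-- gluing functions -/
lemma fun_glue {V : X.Opens} {ι : Type*} (U : ι → X.Opens) (hU : ∀ i, U i ≤ V)
    (hcover : V ≤ iSup U) (sf : ∀ i, Γ(X, U i))
    (compat : ∀ i j, rO X (inf_le_left : U i ⊓ U j ≤ U i) (sf i) =
      rO X (inf_le_right : U i ⊓ U j ≤ U j) (sf j)) :
    ∃ s : Γ(X, V), ∀ i, rO X (hU i) s = sf i := by
  obtain ⟨s, hs, -⟩ := TopCat.Sheaf.existsUnique_gluing' X.sheaf U V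
    (fun i => homOfLE (hU i)) hcover sf (fun i j => compat i j)
  exact ⟨s, hs⟩

theorem smul_inj_of_isGen {V : X.Opens} {s : Γ(L, V)} (hs : IsGen L V s) {W : X.Opens} (h : W ≤ V)
    {a b : Γ(X, W)} (e : a • rs L h s = b • rs L h s) : a = b :=
  (hs W h).1 e

theorem exists_smul_eq_of_isGen {V : X.Opens} {s : Γ(L, V)} (hs : IsGen L V s) {W : X.Opens}
    (h : W ≤ V) (m : Γ(L, W)) : ∃ a : Γ(X, W), a • rs L h s = m :=
  (hs W h).2 m

/-- two free generators over the same open differ by a unit -/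
theorem exists_unit_of_isGen {V : X.Opens} {s t : Γ(L, V)} (hs : IsGen L V s) (ht : IsGen L V t) :
    ∃ u : (Γ(X, V))ˣ, t = (u : Γ(X, V)) • s := by
  obtain ⟨a, ha⟩ := exists_smul_eq_of_isGen hs le_rfl t
  obtain ⟨b, hb⟩ := exists_smul_eq_of_isGen ht le_rfl s
  rw [rs_self] at ha hb
  have hab : a * b = 1 := by
    apply smul_inj_of_isGen ht le_rfl
    rw [rs_self, mul_smul, hb, ha, one_smul]
  exact ⟨⟨a, b, hab, by rw [mul_comm]; exact hab⟩, ha.symm⟩

/-- a unit multiple of a free generator is a free generator -/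
theorem isGen_unit_smul {V : X.Opens} {s : Γ(L, V)} (hs : IsGen L V s) (u : Γ(X, V))
    (hu : IsUnit u) : IsGen L V (u • s) := by
  intro W h
  have hu' : IsUnit (rO X h u) := hu.map _
  have heq : (fun a : Γ(X, W) => a • L.presheaf.map (homOfLE h).op (u • s)) =
      (fun a : Γ(X, W) => a • L.presheaf.map (homOfLE h).op s) ∘ (fun a => a * rO X h u) := by
    funext a
    have h1 : L.presheaf.map (homOfLE h).op (u • s) = rO X h u • L.presheaf.map (homOfLE h).op s :=
      rs_smul L h u s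
    simp only [Function.comp]
    rw [h1, smul_smul]
  rw [heq]
  refine (hs W h).comp ?_
  obtain ⟨v, hv⟩ := hu'
  refine ⟨fun a b hab => ?_, fun c => ⟨c * (↑v⁻¹ : Γ(X, W)), ?_⟩⟩
  · have := congrArg (· * (↑v⁻¹ : Γ(X, W))) hab
    simpa [← hv, mul_assoc] using this
  · simp [← hv, mul_assoc]

/-- being a free generator is local -/
theorem isGen_of_cover {V : X.Opens} (s : Γ(L, V)) {ι : Type*} (U : ι → X.Opens)
    (hU : ∀ i, U i ≤ V) (hcover : V ≤ iSup U) (h : ∀ i, IsGen L (U i) (rs L (hU i) s)) :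
    IsGen L V s := by
  intro W hW
  have hmem : ∀ x ∈ W, ∃ i, x ∈ U i := fun x hx => Opens.mem_iSup.mp (hcover (hW hx))
  constructor
  · intro a b e
    change a • rs L hW s = b • rs L hW s at e
    refine fun_ext a b fun x hx => ?_
    obtain ⟨i, hi⟩ := hmem x hx
    refine ⟨W ⊓ U i, inf_le_left, ⟨hx, hi⟩, ?_⟩
    apply smul_inj_of_isGen (h i) (inf_le_right : W ⊓ U i ≤ U i)
    have := congrArg (rs L (inf_le_left : W ⊓ U i ≤ W)) e
    rw [rs_smul, rs_smul, rs_rs] at this
    rw [rs_rs]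
    exact this
  · intro m
    have hloc : ∀ i, ∃ a : Γ(X, W ⊓ U i), a • rs L (inf_le_right : W ⊓ U i ≤ U i) (rs L (hU i) s) =
        rs L (inf_le_left : W ⊓ U i ≤ W) m := fun i => exists_smul_eq_of_isGen (h i) _ _
    choose a ha using hloc
    obtain ⟨c, hc⟩ := fun_glue (V := W) (fun i => W ⊓ U i) (fun i => inf_le_left)
      (fun x hx => by
        obtain ⟨i, hi⟩ := hmem x hx
        exact Opens.mem_iSup.mpr ⟨i, hx, hi⟩) a (by
      intro i j
      apply smul_inj_of_isGen (h i) ((inf_le_left.trans inf_le_right) : (W ⊓ U i) ⊓ (W ⊓ U j) ≤ U i)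
      have h1 := congrArg (rs L (inf_le_left : (W ⊓ U i) ⊓ (W ⊓ U j) ≤ W ⊓ U i)) (ha i)
      have h2 := congrArg (rs L (inf_le_right : (W ⊓ U i) ⊓ (W ⊓ U j) ≤ W ⊓ U j)) (ha j)
      simp only [rs_smul, rs_rs] at h1 h2
      simp only [rs_rs]
      exact h1.trans h2.symm)
    refine ⟨c, ?_⟩
    change c • rs L hW s = m
    refine sec_ext L _ _ fun x hx => ?_
    obtain ⟨i, hi⟩ := hmem x hx
    refine ⟨W ⊓ U i, inf_le_left, ⟨hx, hi⟩, ?_⟩
    rw [rs_smul, hc i, rs_rs, ← ha i, rs_rs]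


/-! Section 2: ring theory. -/

section Ring

/-- units of the localization of a domain away from a prime element -/
theorem exists_unit_mul_pow {B B' : Type*} [CommRing B] [IsDomain B] [CommRing B'] [Algebra B B']
    (π : B) (hπ : Prime π) [IsLocalization.Away π B'] (u : B'ˣ) :
    ∃ (v : Bˣ) (a b : ℕ), (u : B') * algebraMap B B' π ^ a =
      algebraMap B B' (v : B) * algebraMap B B' π ^ b := by
  obtain ⟨k, c, hc⟩ := IsLocalization.Away.surj π (u : B')
  obtain ⟨l, d, hd⟩ := IsLocalization.Away.surj π ((u⁻¹ : B'ˣ) : B')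
  have hinj : Function.Injective (algebraMap B B') :=
    IsLocalization.injective B' (powers_le_nonZeroDivisors_of_noZeroDivisors hπ.ne_zero)
  have hcd : c * d = π ^ (k + l) := by
    apply hinj
    rw [map_mul, map_pow, ← hc, ← hd, pow_add]
    have : (u : B') * ((u⁻¹ : B'ˣ) : B') = 1 := by simp
    calc (u : B') * algebraMap B B' π ^ k * (((u⁻¹ : B'ˣ) : B') * algebraMap B B' π ^ l)
        = ((u : B') * ((u⁻¹ : B'ˣ) : B')) * (algebraMap B B' π ^ k * algebraMap B B' π ^ l) := by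
          ring
      _ = _ := by rw [this, one_mul]
  obtain ⟨i, -, w, hw⟩ := (dvd_prime_pow hπ _).mp (Dvd.intro d hcd)
  refine ⟨w⁻¹, k, i, ?_⟩
  rw [hc, ← map_pow, ← map_mul]
  congr 1
  rw [← hw]
  simp [mul_comm, mul_assoc]

/-- a power of a prime is not a unit multiple of another power -/
theorem pow_eq_of_unit_mul {B : Type*} [CommRing B] [IsDomain B] (π : B) (hπ : Prime π) (v : Bˣ)
    (a b : ℕ) (h : (v : B) * π ^ a = π ^ b) : a = b := by
  rcases lt_trichotomy a b with hab | hab | hab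
  · exfalso
    obtain ⟨d, rfl⟩ := Nat.exists_eq_add_of_lt hab
    have h1 : (v : B) = π ^ (d + 1) := by
      have h2 : π ^ a * (v : B) = π ^ a * π ^ (d + 1) := by
        rw [mul_comm, h]; ring
      exact mul_left_cancel₀ (pow_ne_zero a hπ.ne_zero) h2
    apply hπ.not_isUnit
    have : π ∣ (v : B) := h1 ▸ dvd_pow_self π (Nat.succ_ne_zero d)
    exact isUnit_of_dvd_unit this v.isUnit
  · exact hab
  · exfalso
    obtain ⟨d, rfl⟩ := Nat.exists_eq_add_of_lt hab
    have h1 : (v : B) * π ^ (d + 1) = 1 := by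
      have h2 : π ^ b * ((v : B) * π ^ (d + 1)) = π ^ b * 1 := by
        calc π ^ b * ((v : B) * π ^ (d + 1)) = (v : B) * π ^ (b + d + 1) := by ring
          _ = π ^ b := h
          _ = π ^ b * 1 := (mul_one _).symm
      exact mul_left_cancel₀ (pow_ne_zero b hπ.ne_zero) h2
    apply hπ.not_isUnit
    have : π ∣ 1 := by
      rw [← h1]
      exact Dvd.dvd.mul_left (dvd_pow_self π (Nat.succ_ne_zero d)) _
    exact isUnit_of_dvd_one this

/-- a prime element not dividing `g` stays prime in the localization away from `g` -/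
theorem prime_algebraMap_of_not_dvd {R B : Type*} [CommRing R] [IsDomain R] [CommRing B]
    [Algebra R B] (g : R) [IsLocalization.Away g B] (p : R) (hp : Prime p) (hpg : ¬ p ∣ g) :
    Prime (algebraMap R B p) := by
  have hg0 : g ≠ 0 := fun h => hpg (h ▸ dvd_zero p)
  have hle : Submonoid.powers g ≤ nonZeroDivisors R := powers_le_nonZeroDivisors_of_noZeroDivisors hg0
  have hdom : IsDomain B := IsLocalization.isDomain_of_le_nonZeroDivisors B hle
  have hinj : Function.Injective (algebraMap R B) := IsLocalization.injective B hle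
  have hprime : (Ideal.span {p}).IsPrime := (Ideal.span_singleton_prime hp.ne_zero).mpr hp
  have hdisj : Disjoint (Submonoid.powers g : Set R) (Ideal.span {p} : Ideal R) := by
    rw [Set.disjoint_left]
    rintro _ ⟨n, rfl⟩ hmem
    rw [SetLike.mem_coe, Ideal.mem_span_singleton] at hmem
    exact hpg (hp.dvd_of_dvd_pow hmem)
  have := IsLocalization.isPrime_of_isPrime_disjoint (Submonoid.powers g) B _ hprime hdisj
  rw [Ideal.map_span, Set.image_singleton] at this
  have h0 : algebraMap R B p ≠ 0 := fun h => hp.ne_zero (hinj (by rw [h, map_zero]))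
  exact (Ideal.span_singleton_prime h0).mp this

end Ring

/-! Section 3: opens of `Spec R`. -/

section Geo

variable {R : CommRingCat.{u}} (U : (Spec R).Opens)

/-- the ring map `R → Γ(U, W)` -/
noncomputable def ρ (W : (U : Scheme.{u}).Opens) : R →+* Γ((U : Scheme.{u}), W) :=
  ((U : Scheme.{u}).presheaf.map (homOfLE le_top).op).hom.comp
    (U.ι.appTop.hom.comp (Scheme.ΓSpecIso R).inv.hom)

lemma ρ_res {V W : (U : Scheme.{u}).Opens} (h : W ≤ V) (r : R) :
    (U : Scheme.{u}).presheaf.map (homOfLE h).op (ρ U V r) = ρ U W r := by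
  simp only [ρ, RingHom.comp_apply]
  rw [← ConcreteCategory.comp_apply, ← Functor.map_comp]
  rfl

/-- the basic open of `U` attached to `g : R` -/
noncomputable def DU (g : R) : (U : Scheme.{u}).Opens := (U : Scheme.{u}).basicOpen (ρ U ⊤ g)

lemma ρ_top (g : R) : ρ U ⊤ g = U.ι.appTop ((Scheme.ΓSpecIso R).inv g) := by
  simp only [ρ, RingHom.comp_apply]
  change (U : Scheme.{u}).presheaf.map (𝟙 _) _ = _
  rw [(U : Scheme.{u}).presheaf.map_id]
  rfl

lemma DU_eq_preimage (g : R) : DU U g = U.ι ⁻¹ᵁ ((Spec R).basicOpen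
    ((Scheme.ΓSpecIso R).inv g)) := by
  rw [Scheme.preimage_basicOpen_top, DU, ρ_top]

lemma mem_DU_iff (g : R) (x : (U : Scheme.{u})) :
    x ∈ DU U g ↔ g ∉ (U.ι x : PrimeSpectrum R).asIdeal := by
  rw [DU_eq_preimage, basicOpen_eq_of_affine]
  rfl

lemma DU_mul (g h : R) : DU U (g * h) = DU U g ⊓ DU U h := by
  rw [DU, DU, DU, map_mul, Scheme.basicOpen_mul]

lemma DU_of_isUnit (g : R) (hg : IsUnit g) : DU U g = ⊤ := by
  rw [DU]
  exact Scheme.basicOpen_of_isUnit _ (hg.map _)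

lemma isUnit_ρ {W : (U : Scheme.{u}).Opens} (g : R) (h : W ≤ DU U g) : IsUnit (ρ U W g) := by
  have h1 : IsUnit (ρ U (DU U g) g) := by
    rw [← ρ_res U (le_top : DU U g ≤ ⊤) g]
    exact RingedSpace.isUnit_res_basicOpen (U : Scheme.{u}).toRingedSpace (ρ U ⊤ g)
  rw [← ρ_res U h g]
  exact h1.map _


/-- the basic open of `Spec R` attached to `g : R` -/
noncomputable def DS (g : R) : (Spec R).Opens := (Spec R).basicOpen ((Scheme.ΓSpecIso R).inv g)

lemma DU_eq_preimage' (g : R) : DU U g = U.ι ⁻¹ᵁ (DS g) := DU_eq_preimage U g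

lemma DS_mul (g h : R) : DS (g * h) = DS g ⊓ DS h := by
  rw [DS, DS, DS, map_mul, Scheme.basicOpen_mul]

lemma isAffineOpen_DU (g : R) (hg : DS g ≤ U) : IsAffineOpen (DU U g) := by
  rw [DU_eq_preimage']
  refine IsAffineOpen.preimage_of_isOpenImmersion ((isAffineOpen_top (Spec R)).basicOpen _) U.ι ?_
  rw [Scheme.Opens.opensRange_ι]
  exact hg

/-- sections over a basic open contained in `U` form a localization -/
theorem isLocalization_DU (g : R) (hg : DS g ≤ U) :
    @IsLocalization.Away R _ g Γ((U : Scheme.{u}), DU U g) _ (ρ U (DU U g)).toAlgebra := by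
  obtain ⟨V, hVg⟩ : ∃ V : (Spec R).Opens, V = PrimeSpectrum.basicOpen g := ⟨_, rfl⟩
  have hVD : V = DS g := by rw [hVg, DS, basicOpen_eq_of_affine]
  have hV : V ≤ U.ι.opensRange := by
    rw [hVD, Scheme.Opens.opensRange_ι]
    exact hg
  have hiso : IsIso (U.ι.app V) := U.ι.isIso_app V hV
  have e : DU U g = U.ι ⁻¹ᵁ V := by
    rw [DU_eq_preimage', hVD]
  have key : @IsLocalization.Away R _ g Γ((U : Scheme.{u}), U.ι ⁻¹ᵁ V) _
      (ρ U (U.ι ⁻¹ᵁ V)).toAlgebra := by
    let _ := (ρ U (U.ι ⁻¹ᵁ V)).toAlgebra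
    have h0 : IsLocalization.Away g Γ(Spec R, V) := by
      subst hVg
      infer_instance
    let φ : Γ(Spec R, V) ≃+* Γ((U : Scheme.{u}), U.ι ⁻¹ᵁ V) :=
      (asIso (U.ι.app V)).commRingCatIsoToRingEquiv
    let ψ : Γ(Spec R, V) ≃ₐ[R] Γ((U : Scheme.{u}), U.ι ⁻¹ᵁ V) :=
      AlgEquiv.ofRingEquiv (f := φ) (by
        intro r
        change (U.ι.app V) ((Spec R).presheaf.map (homOfLE le_top).op
          ((Scheme.ΓSpecIso R).inv r)) = (U : Scheme.{u}).presheaf.map (homOfLE le_top).op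
            (U.ι.appTop ((Scheme.ΓSpecIso R).inv r))
        have := U.ι.naturality (homOfLE (le_top : V ≤ ⊤)).op
        exact congr($this ((Scheme.ΓSpecIso R).inv r)))
    exact IsLocalization.isLocalization_of_algEquiv (Submonoid.powers g) ψ
  rw [e]
  exact key

/-- basic opens contained in `U` form a basis of `U` -/
theorem exists_DU_le (W : (U : Scheme.{u}).Opens) (x : (U : Scheme.{u})) (hx : x ∈ W) :
    ∃ g : R, x ∈ DU U g ∧ DU U g ≤ W ∧ DS g ≤ U := by
  have hxW : U.ι x ∈ U.ι ''ᵁ W := ⟨x, hx, rfl⟩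
  obtain ⟨_, ⟨g, rfl⟩, hxg, hgW⟩ :=
    (Opens.isBasis_iff_nbhd.mp (PrimeSpectrum.isBasis_basic_opens (R := R))) hxW
  have hinj : Function.Injective U.ι := U.ι.isOpenEmbedding.injective
  refine ⟨g, ?_, ?_, ?_⟩
  · rw [mem_DU_iff]
    exact hxg
  · intro y hy
    rw [mem_DU_iff] at hy
    obtain ⟨w, hw, hwy⟩ := hgW (show U.ι y ∈ PrimeSpectrum.basicOpen g from hy)
    rw [← hinj hwy]
    exact hw
  · rw [DS, basicOpen_eq_of_affine]
    refine le_trans hgW ?_
    have := Scheme.Hom.image_le_opensRange U.ι W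
    rwa [Scheme.Opens.opensRange_ι] at this

lemma not_dvd_of_mem {p g : R} {x : (U : Scheme.{u})} (hxg : x ∈ DU U g) (hxp : x ∉ DU U p) :
    ¬ p ∣ g := by
  rw [mem_DU_iff] at hxg hxp
  rw [not_not] at hxp
  rintro ⟨c, rfl⟩
  exact hxg (Ideal.mul_mem_right _ _ hxp)

end Geo

end Groth.Agent.Lib.PicUFD82
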