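import Groth.Agent.Lib.PicUFD82

/-! # Pic of an open subscheme of the spectrum of a UFD is trivial, part 2 (helper82) -/

set_option autoImplicit false
universe u
open CategoryTheory AlgebraicGeometry TopologicalSpace Opposite
open Groth.Agent.Lib.H90Invertible Groth.Agent.Lib.H78TensorGen

namespace Groth.Agent.Lib.PicUFD82

variable {R : CommRingCat.{u}} (U : (Spec R).Opens)

/-- `p` as a unit on an open contained in `D(p)` -/
noncomputable def uP (p : R) {V : (U : Scheme.{u}).Opens} (h : V ≤ DU U p) :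
    (Γ((U : Scheme.{u}), V))ˣ := (isUnit_ρ U p h).unit

lemma uP_val (p : R) {V : (U : Scheme.{u}).Opens} (h : V ≤ DU U p) :
    ((uP U p h : (Γ((U : Scheme.{u}), V))ˣ) : Γ((U : Scheme.{u}), V)) = ρ U V p :=
  IsUnit.unit_spec _

lemma rO_uP_zpow (p : R) {V V' : (U : Scheme.{u}).Opens} (h : V ≤ DU U p) (h' : V' ≤ V) (n : ℤ) :
    rO (U : Scheme.{u}) h' ((uP U p h ^ n : (Γ((U : Scheme.{u}), V))ˣ) : Γ((U : Scheme.{u}), V)) =
      ((uP U p (h'.trans h) ^ n : (Γ((U : Scheme.{u}), V'))ˣ) : Γ((U : Scheme.{u}), V')) := by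
  have hmap : Units.map ((U : Scheme.{u}).presheaf.map (homOfLE h').op).hom.toMonoidHom (uP U p h) =
      uP U p (h'.trans h) := by
    ext
    rw [Units.coe_map, uP_val, uP_val]
    exact ρ_res U h' p
  rw [← hmap, ← map_zpow]
  rfl

/-- from a relation with natural powers to one with an integer power -/
lemma eq_zpow_smul_of_pow_smul {B M : Type*} [CommRing B] [AddCommGroup M] [Module B M] (w : Bˣ)
    (a b : ℕ) (S E : M) (h : (w : B) ^ b • S = (w : B) ^ a • E) :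
    S = ((w ^ ((a : ℤ) - b) : Bˣ) : B) • E := by
  have h' : (w ^ b) • S = (w ^ a) • E := by
    rw [Units.smul_def, Units.smul_def, Units.val_pow_eq_pow_val, Units.val_pow_eq_pow_val]
    exact h
  rw [← Units.smul_def, zpow_sub, zpow_natCast, zpow_natCast, mul_comm, mul_smul, ← h',
    inv_smul_smul]


lemma rO_ρ_pow (p : R) {V V' : (U : Scheme.{u}).Opens} (h' : V' ≤ V) (n : ℕ) :
    rO (U : Scheme.{u}) h' (ρ U V p ^ n) = ρ U V' p ^ n := by
  rw [rO, map_pow, ρ_res U h' p]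

variable [IsDomain R]

/-- near a point of `W` on `V(p)`, a free generator over `W ∩ D(p)` extends after multiplication by
a power of `p`. -/
theorem exists_local_gen (L : (U : Scheme.{u}).Modules) (hL : PicF.IsInvertible L) {p : R}
    (hp : Prime p) (W : (U : Scheme.{u}).Opens) (e₀ : Γ(L, W ⊓ DU U p))
    (he₀ : IsGen L (W ⊓ DU U p) e₀) (x : (U : Scheme.{u})) (hxW : x ∈ W) (hxp : x ∉ DU U p) :
    ∃ (g : R) (hgW : DU U g ≤ W), x ∈ DU U g ∧ DS g ≤ U ∧ ¬ p ∣ g ∧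
      ∃ (s : Γ(L, DU U g)) (_ : IsGen L (DU U g) s) (a b : ℕ),
        ρ U (DU U g ⊓ DU U p) p ^ b • rs L (inf_le_left : DU U g ⊓ DU U p ≤ DU U g) s =
          ρ U (DU U g ⊓ DU U p) p ^ a • rs L (inf_le_inf_right (DU U p) hgW) e₀ := by
  obtain ⟨V, hxV, e, he⟩ := (isInvertible_iff_exists_isGen L).mp hL x
  obtain ⟨g, hxg, hgWV, hgU⟩ := exists_DU_le U (W ⊓ V) x ⟨hxW, hxV⟩
  have hgW : DU U g ≤ W := hgWV.trans inf_le_left
  have hgV : DU U g ≤ V := hgWV.trans inf_le_right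
  have hpg : ¬ p ∣ g := not_dvd_of_mem U hxg hxp
  refine ⟨g, hgW, hxg, hgU, hpg, ?_⟩
  let algB : Algebra R Γ((U : Scheme.{u}), DU U g) := (ρ U (DU U g)).toAlgebra
  have locB : IsLocalization.Away g Γ((U : Scheme.{u}), DU U g) := isLocalization_DU U g hgU
  have hπ : Prime (ρ U (DU U g) p) := prime_algebraMap_of_not_dvd g p hp hpg
  have hg0 : g ≠ 0 := fun h => hpg (h ▸ dvd_zero p)
  have domB : IsDomain Γ((U : Scheme.{u}), DU U g) :=
    IsLocalization.isDomain_of_le_nonZeroDivisors _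
      (powers_le_nonZeroDivisors_of_noZeroDivisors hg0)
  let algB' : Algebra Γ((U : Scheme.{u}), DU U g) Γ((U : Scheme.{u}), DU U g ⊓ DU U p) :=
    ((U : Scheme.{u}).presheaf.map (homOfLE (inf_le_left : DU U g ⊓ DU U p ≤ DU U g)).op).hom.toAlgebra
  have locB' : IsLocalization.Away (ρ U (DU U g) p) Γ((U : Scheme.{u}), DU U g ⊓ DU U p) := by
    refine (isAffineOpen_DU U g hgU).isLocalization_of_eq_basicOpen (ρ U (DU U g) p)
      (homOfLE inf_le_left) ?_
    rw [← ρ_res U (le_top : DU U g ≤ ⊤) p, Scheme.basicOpen_res]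
    rfl
  have h1 : IsGen L (DU U g ⊓ DU U p) (rs L (inf_le_inf_right (DU U p) hgW) e₀) := he₀.mono _
  have h2 : IsGen L (DU U g ⊓ DU U p) (rs L (inf_le_left.trans hgV : DU U g ⊓ DU U p ≤ V) e) :=
    he.mono _
  obtain ⟨u, hu⟩ := exists_unit_of_isGen h2 h1
  obtain ⟨v, a, b, hv⟩ := exists_unit_mul_pow (ρ U (DU U g) p) hπ u
  refine ⟨(v : Γ((U : Scheme.{u}), DU U g)) • rs L hgV e,
    isGen_unit_smul (he.mono hgV) _ v.isUnit, a, b, ?_⟩
  have hπ' : algebraMap Γ((U : Scheme.{u}), DU U g) Γ((U : Scheme.{u}), DU U g ⊓ DU U p)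
      (ρ U (DU U g) p) = ρ U (DU U g ⊓ DU U p) p := ρ_res U inf_le_left p
  rw [hπ'] at hv
  rw [rs_smul, rs_rs, hu, smul_smul, smul_smul, mul_comm _ (u : Γ((U : Scheme.{u}), DU U g ⊓ DU U p)),
    hv, mul_comm]
  rfl


/-- the exponent in `exists_local_gen` does not depend on the choices -/
theorem pow_uniform (L : (U : Scheme.{u}).Modules) {p : R}
    (hp : Prime p) (W : (U : Scheme.{u}).Opens) (e₀ : Γ(L, W ⊓ DU U p))
    (g : R) (hgW : DU U g ≤ W) (hgU : DS g ≤ U) (hpg : ¬ p ∣ g)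
    (s s' : Γ(L, DU U g)) (hs : IsGen L (DU U g) s) (hs' : IsGen L (DU U g) s') (a b a' b' : ℕ)
    (h : ρ U (DU U g ⊓ DU U p) p ^ b • rs L (inf_le_left : DU U g ⊓ DU U p ≤ DU U g) s =
      ρ U (DU U g ⊓ DU U p) p ^ a • rs L (inf_le_inf_right (DU U p) hgW) e₀)
    (h' : ρ U (DU U g ⊓ DU U p) p ^ b' • rs L (inf_le_left : DU U g ⊓ DU U p ≤ DU U g) s' =
      ρ U (DU U g ⊓ DU U p) p ^ a' • rs L (inf_le_inf_right (DU U p) hgW) e₀) :
    a + b' = a' + b := by
  let algB : Algebra R Γ((U : Scheme.{u}), DU U g) := (ρ U (DU U g)).toAlgebra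
  have locB : IsLocalization.Away g Γ((U : Scheme.{u}), DU U g) := isLocalization_DU U g hgU
  have hπ : Prime (ρ U (DU U g) p) := prime_algebraMap_of_not_dvd g p hp hpg
  have hg0 : g ≠ 0 := fun h => hpg (h ▸ dvd_zero p)
  have domB : IsDomain Γ((U : Scheme.{u}), DU U g) :=
    IsLocalization.isDomain_of_le_nonZeroDivisors _
      (powers_le_nonZeroDivisors_of_noZeroDivisors hg0)
  let algB' : Algebra Γ((U : Scheme.{u}), DU U g) Γ((U : Scheme.{u}), DU U g ⊓ DU U p) :=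
    ((U : Scheme.{u}).presheaf.map (homOfLE (inf_le_left : DU U g ⊓ DU U p ≤ DU U g)).op).hom.toAlgebra
  have locB' : IsLocalization.Away (ρ U (DU U g) p) Γ((U : Scheme.{u}), DU U g ⊓ DU U p) := by
    refine (isAffineOpen_DU U g hgU).isLocalization_of_eq_basicOpen (ρ U (DU U g) p)
      (homOfLE inf_le_left) ?_
    rw [← ρ_res U (le_top : DU U g ≤ ⊤) p, Scheme.basicOpen_res]
    rfl
  have hinj : Function.Injective
      (algebraMap Γ((U : Scheme.{u}), DU U g) Γ((U : Scheme.{u}), DU U g ⊓ DU U p)) :=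
    IsLocalization.injective _ (powers_le_nonZeroDivisors_of_noZeroDivisors hπ.ne_zero)
  have hπ' : algebraMap Γ((U : Scheme.{u}), DU U g) Γ((U : Scheme.{u}), DU U g ⊓ DU U p)
      (ρ U (DU U g) p) = ρ U (DU U g ⊓ DU U p) p := ρ_res U inf_le_left p
  obtain ⟨w, hw⟩ := exists_unit_of_isGen hs hs'
  refine pow_eq_of_unit_mul (ρ U (DU U g) p) hπ w (a + b') (a' + b) ?_
  apply hinj
  rw [map_mul, map_pow, map_pow, hπ']
  apply smul_inj_of_isGen hs (inf_le_left : DU U g ⊓ DU U p ≤ DU U g)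
  have e1 : rs L (inf_le_left : DU U g ⊓ DU U p ≤ DU U g) s' =
      algebraMap Γ((U : Scheme.{u}), DU U g) Γ((U : Scheme.{u}), DU U g ⊓ DU U p) w •
        rs L (inf_le_left : DU U g ⊓ DU U p ≤ DU U g) s := by
    rw [hw, rs_smul]
    rfl
  calc (algebraMap Γ((U : Scheme.{u}), DU U g) Γ((U : Scheme.{u}), DU U g ⊓ DU U p) w *
          ρ U (DU U g ⊓ DU U p) p ^ (a + b')) • rs L (inf_le_left : DU U g ⊓ DU U p ≤ DU U g) s
      = ρ U (DU U g ⊓ DU U p) p ^ a • (ρ U (DU U g ⊓ DU U p) p ^ b' •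
          (algebraMap Γ((U : Scheme.{u}), DU U g) Γ((U : Scheme.{u}), DU U g ⊓ DU U p) w •
            rs L (inf_le_left : DU U g ⊓ DU U p ≤ DU U g) s)) := by
        rw [smul_smul, smul_smul, pow_add]
        congr 1
        ring
    _ = ρ U (DU U g ⊓ DU U p) p ^ a • (ρ U (DU U g ⊓ DU U p) p ^ a' •
          rs L (inf_le_inf_right (DU U p) hgW) e₀) := by rw [← e1, h']
    _ = ρ U (DU U g ⊓ DU U p) p ^ a' • (ρ U (DU U g ⊓ DU U p) p ^ a •
          rs L (inf_le_inf_right (DU U p) hgW) e₀) := smul_comm _ _ _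
    _ = ρ U (DU U g ⊓ DU U p) p ^ a' • (ρ U (DU U g ⊓ DU U p) p ^ b •
          rs L (inf_le_left : DU U g ⊓ DU U p ≤ DU U g) s) := by rw [h]
    _ = ρ U (DU U g ⊓ DU U p) p ^ (a' + b) • rs L (inf_le_left : DU U g ⊓ DU U p ≤ DU U g) s := by
        rw [smul_smul, pow_add]


/-- sections over a basic open `D(g)` (with `p ∤ g`) are determined by their restriction to
`D(g) ∩ D(p)`. -/
theorem eq_of_rs_eq (L : (U : Scheme.{u}).Modules) {p : R} (hp : Prime p)
    (g : R) (hgU : DS g ≤ U) (hpg : ¬ p ∣ g) (s : Γ(L, DU U g)) (hs : IsGen L (DU U g) s)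
    (t t' : Γ(L, DU U g))
    (h : rs L (inf_le_left : DU U g ⊓ DU U p ≤ DU U g) t =
      rs L (inf_le_left : DU U g ⊓ DU U p ≤ DU U g) t') : t = t' := by
  let algB : Algebra R Γ((U : Scheme.{u}), DU U g) := (ρ U (DU U g)).toAlgebra
  have locB : IsLocalization.Away g Γ((U : Scheme.{u}), DU U g) := isLocalization_DU U g hgU
  have hπ : Prime (ρ U (DU U g) p) := prime_algebraMap_of_not_dvd g p hp hpg
  have hg0 : g ≠ 0 := fun h => hpg (h ▸ dvd_zero p)
  have domB : IsDomain Γ((U : Scheme.{u}), DU U g) :=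
    IsLocalization.isDomain_of_le_nonZeroDivisors _
      (powers_le_nonZeroDivisors_of_noZeroDivisors hg0)
  let algB' : Algebra Γ((U : Scheme.{u}), DU U g) Γ((U : Scheme.{u}), DU U g ⊓ DU U p) :=
    ((U : Scheme.{u}).presheaf.map (homOfLE (inf_le_left : DU U g ⊓ DU U p ≤ DU U g)).op).hom.toAlgebra
  have locB' : IsLocalization.Away (ρ U (DU U g) p) Γ((U : Scheme.{u}), DU U g ⊓ DU U p) := by
    refine (isAffineOpen_DU U g hgU).isLocalization_of_eq_basicOpen (ρ U (DU U g) p)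
      (homOfLE inf_le_left) ?_
    rw [← ρ_res U (le_top : DU U g ≤ ⊤) p, Scheme.basicOpen_res]
    rfl
  have hinj : Function.Injective
      (algebraMap Γ((U : Scheme.{u}), DU U g) Γ((U : Scheme.{u}), DU U g ⊓ DU U p)) :=
    IsLocalization.injective _ (powers_le_nonZeroDivisors_of_noZeroDivisors hπ.ne_zero)
  obtain ⟨c, hc⟩ := exists_smul_eq_of_isGen hs le_rfl t
  obtain ⟨c', hc'⟩ := exists_smul_eq_of_isGen hs le_rfl t'
  rw [rs_self] at hc hc'
  rw [← hc, ← hc', rs_smul, rs_smul] at h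
  have := hinj (smul_inj_of_isGen hs (inf_le_left : DU U g ⊓ DU U p ≤ DU U g) h)
  rw [← hc, ← hc', this]


/-- **Key step**: a free generator over `W ∩ D(p)`, `p` prime, gives a free generator over `W`. -/
theorem exists_isGen_of_prime (L : (U : Scheme.{u}).Modules) (hL : PicF.IsInvertible L) {p : R}
    (hp : Prime p) (W : (U : Scheme.{u}).Opens)
    (h : ∃ e₀ : Γ(L, W ⊓ DU U p), IsGen L (W ⊓ DU U p) e₀) : ∃ s : Γ(L, W), IsGen L W s := by
  obtain ⟨e₀, he₀⟩ := h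
  by_cases hW : W ≤ DU U p
  · exact ⟨rs L (le_inf le_rfl hW) e₀, he₀.mono _⟩
  obtain ⟨x₀, hx₀W, hx₀p⟩ := SetLike.not_le_iff_exists.mp hW
  obtain ⟨g₀, hg₀W, hx₀g, hg₀U, hpg₀, s₀, hs₀, a₀, b₀, hab₀⟩ :=
    exists_local_gen U L hL hp W e₀ he₀ x₀ hx₀W hx₀p
  obtain ⟨n₀, hn₀⟩ : ∃ n₀ : ℤ, n₀ = (a₀ : ℤ) - b₀ := ⟨_, rfl⟩
  obtain ⟨e₁, he₁def⟩ : ∃ e₁ : Γ(L, W ⊓ DU U p),
      e₁ = ((uP U p (inf_le_right : W ⊓ DU U p ≤ DU U p) ^ n₀ :
        (Γ((U : Scheme.{u}), W ⊓ DU U p))ˣ) : Γ((U : Scheme.{u}), W ⊓ DU U p)) • e₀ := ⟨_, rfl⟩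
  have he₁ : IsGen L (W ⊓ DU U p) e₁ := by
    rw [he₁def]
    exact isGen_unit_smul he₀ _ (Units.isUnit _)
  have key : ∀ x : {x : (U : Scheme.{u}) // x ∈ W ∧ x ∉ DU U p},
      ∃ (g : R) (hgW : DU U g ≤ W), x.1 ∈ DU U g ∧ DS g ≤ U ∧ ¬ p ∣ g ∧
        ∃ s : Γ(L, DU U g), IsGen L (DU U g) s ∧
          rs L (inf_le_left : DU U g ⊓ DU U p ≤ DU U g) s =
            rs L (inf_le_inf_right (DU U p) hgW) e₁ := by
    rintro ⟨x, hxW, hxp⟩
    obtain ⟨g, hgW, hxg, hgU, hpg, s, hs, a, b, hab⟩ :=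
      exists_local_gen U L hL hp W e₀ he₀ x hxW hxp
    refine ⟨g, hgW, hxg, hgU, hpg, s, hs, ?_⟩
    have hGg : DU U (g * g₀) ≤ DU U g := (DU_mul U g g₀).le.trans inf_le_left
    have hGg₀ : DU U (g * g₀) ≤ DU U g₀ := (DU_mul U g g₀).le.trans inf_le_right
    have hGU : DS (g * g₀) ≤ U := (DS_mul g g₀).le.trans (inf_le_left.trans hgU)
    have hpG : ¬ p ∣ g * g₀ := fun h => (hp.dvd_or_dvd h).elim hpg hpg₀
    have hunif : a + b₀ = a₀ + b := by
      refine pow_uniform U L hp W e₀ (g * g₀) (hGg.trans hgW) hGU hpG (rs L hGg s) (rs L hGg₀ s₀)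
        (hs.mono hGg) (hs₀.mono hGg₀) a b a₀ b₀ ?_ ?_
      · have := congrArg (rs L (inf_le_inf_right (DU U p) hGg)) hab
        rw [rs_smul, rs_smul, rs_rs, rs_rs, rO_ρ_pow, rO_ρ_pow] at this
        rw [rs_rs]
        exact this
      · have := congrArg (rs L (inf_le_inf_right (DU U p) hGg₀)) hab₀
        rw [rs_smul, rs_smul, rs_rs, rs_rs, rO_ρ_pow, rO_ρ_pow] at this
        rw [rs_rs]
        exact this
    have h1 := eq_zpow_smul_of_pow_smul (uP U p (inf_le_right : DU U g ⊓ DU U p ≤ DU U p)) a b _ _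
      (by rw [uP_val]; exact hab)
    have hn : (a : ℤ) - b = n₀ := by omega
    rw [h1, hn, he₁def, rs_smul, rO_uP_zpow]
  choose g hgW hxg hgU hpg s hs hse using key
  -- the cover
  let Uo : Option {x : (U : Scheme.{u}) // x ∈ W ∧ x ∉ DU U p} → (U : Scheme.{u}).Opens :=
    fun i => i.elim (W ⊓ DU U p) (fun x => DU U (g x))
  have hUo : ∀ i, Uo i ≤ W := by
    rintro (_ | x)
    · exact inf_le_left
    · exact hgW x
  have hcover : W ≤ iSup Uo := by
    intro x hx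
    by_cases hxp : x ∈ DU U p
    · exact Opens.mem_iSup.mpr ⟨none, hx, hxp⟩
    · exact Opens.mem_iSup.mpr ⟨some ⟨x, hx, hxp⟩, hxg ⟨x, hx, hxp⟩⟩
  let sf : ∀ i, Γ(L, Uo i) := fun i => match i with
    | none => e₁
    | some x => s x
  have hsf : ∀ i, IsGen L (Uo i) (sf i) := by
    rintro (_ | x)
    · exact he₁
    · exact hs x
  -- compatibility between e₁ and s x
  have c1 : ∀ x, rs L (inf_le_left : (W ⊓ DU U p) ⊓ DU U (g x) ≤ W ⊓ DU U p) e₁ =
      rs L (inf_le_right : (W ⊓ DU U p) ⊓ DU U (g x) ≤ DU U (g x)) (s x) := by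
    intro x
    have hle : (W ⊓ DU U p) ⊓ DU U (g x) ≤ DU U (g x) ⊓ DU U p :=
      le_inf inf_le_right (inf_le_left.trans inf_le_right)
    have := congrArg (rs L hle) (hse x)
    rw [rs_rs, rs_rs] at this
    exact this.symm
  have c2 : ∀ x y, rs L (inf_le_left : DU U (g x) ⊓ DU U (g y) ≤ DU U (g x)) (s x) =
      rs L (inf_le_right : DU U (g x) ⊓ DU U (g y) ≤ DU U (g y)) (s y) := by
    intro x y
    have hGx : DU U (g x * g y) ≤ DU U (g x) := (DU_mul U (g x) (g y)).le.trans inf_le_left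
    have hGy : DU U (g x * g y) ≤ DU U (g y) := (DU_mul U (g x) (g y)).le.trans inf_le_right
    have hGU : DS (g x * g y) ≤ U := (DS_mul (g x) (g y)).le.trans (inf_le_left.trans (hgU x))
    have hpG : ¬ p ∣ g x * g y := fun h => (hp.dvd_or_dvd h).elim (hpg x) (hpg y)
    have ht : rs L hGx (s x) = rs L hGy (s y) := by
      refine eq_of_rs_eq U L hp (g x * g y) hGU hpG (rs L hGx (s x)) ((hs x).mono hGx) _ _ ?_
      have h1 := congrArg (rs L (inf_le_inf_right (DU U p) hGx)) (hse x)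
      have h2 := congrArg (rs L (inf_le_inf_right (DU U p) hGy)) (hse y)
      rw [rs_rs, rs_rs] at h1 h2
      rw [rs_rs, rs_rs, h1, h2]
    have := congrArg (rs L (DU_mul U (g x) (g y)).ge) ht
    rw [rs_rs, rs_rs] at this
    exact this
  have compat : ∀ i j, rs L (inf_le_left : Uo i ⊓ Uo j ≤ Uo i) (sf i) =
      rs L (inf_le_right : Uo i ⊓ Uo j ≤ Uo j) (sf j) := by
    rintro (_ | x) (_ | y)
    · rfl
    · exact c1 y
    · have hle : DU U (g x) ⊓ (W ⊓ DU U p) ≤ (W ⊓ DU U p) ⊓ DU U (g x) :=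
        le_inf inf_le_right inf_le_left
      have := congrArg (rs L hle) (c1 x)
      rw [rs_rs, rs_rs] at this
      exact this.symm
    · exact c2 x y
  obtain ⟨sg, hsg⟩ := sec_glue L Uo hUo hcover sf compat
  refine ⟨sg, isGen_of_cover sg Uo hUo hcover fun i => ?_⟩
  rw [hsg i]
  exact hsf i


variable [UniqueFactorizationMonoid R]

/-- a free generator over `W ∩ D(f)`, `f ≠ 0`, gives a free generator over `W`. -/
theorem exists_isGen_of_ne_zero (L : (U : Scheme.{u}).Modules) (hL : PicF.IsInvertible L) (f : R)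
    (hf : f ≠ 0) (W : (U : Scheme.{u}).Opens)
    (h : ∃ e : Γ(L, W ⊓ DU U f), IsGen L (W ⊓ DU U f) e) : ∃ s : Γ(L, W), IsGen L W s := by
  revert W hf
  refine UniqueFactorizationMonoid.induction_on_prime f ?_ ?_ ?_
  · intro hf
    exact absurd rfl hf
  · intro x hx _ W ⟨e, he⟩
    have hle : W ≤ W ⊓ DU U x := le_inf le_rfl ((DU_of_isUnit U x hx).ge.trans' le_top)
    exact ⟨rs L hle e, he.mono hle⟩
  · intro a p ha hp IH _ W ⟨e, he⟩
    have hle : (W ⊓ DU U a) ⊓ DU U p ≤ W ⊓ DU U (p * a) := by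
      rw [DU_mul]
      exact le_inf (inf_le_left.trans inf_le_left) (le_inf inf_le_right (inf_le_left.trans inf_le_right))
    exact IH ha W (exists_isGen_of_prime U L hL hp (W ⊓ DU U a) ⟨rs L hle e, he.mono hle⟩)

/-- **Every invertible module on an open subscheme of the spectrum of a factorial domain is
trivial.** -/
theorem nonempty_iso_structureModule (L : (U : Scheme.{u}).Modules) (hL : PicF.IsInvertible L) :
    Nonempty (L ≅ Coh.structureModule (U : Scheme.{u})) := by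
  rw [nonempty_iso_structureModule_iff]
  by_cases hne : Nonempty (U : Scheme.{u})
  · obtain ⟨x₀⟩ := hne
    obtain ⟨V, hxV, e, he⟩ := (isInvertible_iff_exists_isGen L).mp hL x₀
    obtain ⟨f, hxf, hfV, -⟩ := exists_DU_le U V x₀ hxV
    have hf : f ≠ 0 := by
      rintro rfl
      rw [mem_DU_iff] at hxf
      exact hxf (Ideal.zero_mem _)
    have hle : (⊤ : (U : Scheme.{u}).Opens) ⊓ DU U f ≤ V := inf_le_right.trans hfV
    exact exists_isGen_of_ne_zero U L hL f hf ⊤ ⟨rs L hle e, he.mono hle⟩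
  · refine ⟨0, isGen_of_cover (0 : Γ(L, ⊤)) (fun i : PEmpty.{1} => i.elim) (fun i => i.elim) ?_
      (fun i => i.elim)⟩
    intro x _
    exact absurd ⟨x⟩ hne

end Groth.Agent.Lib.PicUFD82
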