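import Groth.Agent.Lib.H90InvertibleHom

/-!
# Morphisms out of the structure sheaf and the unit of restriction/pushforward (helper90)

* `homEquivSection M : (O_X ⟶ M) ≃ Γ(M, ⊤)` (`f ↦ f.app ⊤ 1`, inverse `ofSection`).
* `bijective_comp_unit_iff`: restriction along `j` on `Hom(M, N)` is bijective iff composition with the unit
  `N ⟶ j_* j^* N` is.
* `bijective_res_top_of_bijective_restrict_map`: if restriction along `j` is bijective on `Hom(O_X, N)` then
  `Γ(N, ⊤) → Γ(N, j(Y))` is bijective.
* `bijective_res_congr`.
-/

set_option autoImplicit false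
universe u

open CategoryTheory AlgebraicGeometry TopologicalSpace Opposite Limits
open AlgebraicGeometry.Scheme AlgebraicGeometry.Scheme.Modules
open Groth.Agent.Lib.StructureModule Groth.Agent.Lib.H90OXModLocal

namespace Groth.Agent.Lib.H90Invertible

variable {X : Scheme.{u}} {M N L L' : X.Modules}

theorem ofSection_app_one (s : Γ(M, ⊤)) : (ofSection s).app ⊤ (toSec ⊤ 1) = s := by
  rw [ofSection_app, one_smul]
  change M.presheaf.map (𝟙 _) s = s
  rw [M.presheaf.map_id]
  rfl

theorem ofSection_app_top_one (f : Coh.structureModule X ⟶ M) :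
    ofSection (f.app ⊤ (toSec ⊤ 1)) = f := by
  apply (SheafOfModules.unitHomEquiv M).injective
  unfold ofSection
  rw [Equiv.apply_symm_apply]
  ext W
  obtain ⟨W⟩ := W
  change M.presheaf.map (homOfLE le_top).op (f.app ⊤ (toSec ⊤ 1)) = f.app W (toSec W 1)
  have := NatTrans.naturality_apply f.mapPresheaf (homOfLE (le_top : W ≤ ⊤)).op (toSec ⊤ 1)
  rw [mapPresheaf_app, mapPresheaf_app] at this
  erw [← this]
  congr 1
  exact map_one (X.presheaf.map (homOfLE (le_top : W ≤ ⊤)).op).hom

/-- Morphisms `O_X ⟶ M` are global sections of `M`. -/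
noncomputable def homEquivSection (M : X.Modules) : (Coh.structureModule X ⟶ M) ≃ Γ(M, ⊤) where
  toFun f := f.app ⊤ (toSec ⊤ 1)
  invFun := ofSection
  left_inv := ofSection_app_top_one
  right_inv := ofSection_app_one

section Unit

variable {Y : Scheme.{u}} (j : Y ⟶ X) [IsOpenImmersion j]

/-- Restriction along `j` on `Hom(M, N)` is, up to the adjunction bijection, composition with the unit
`N ⟶ j_* j^* N`. -/
theorem bijective_comp_unit_iff (M N : X.Modules) :
    Function.Bijective (fun φ : M ⟶ N => φ ≫ (restrictAdjunction j).unit.app N) ↔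
      Function.Bijective (fun φ : M ⟶ N => (restrictFunctor j).map φ) := by
  let adj := restrictAdjunction j
  have h2 : Function.Bijective (adj.homEquiv M ((restrictFunctor j).obj N)).symm :=
    (adj.homEquiv M _).symm.bijective
  have : (fun φ : M ⟶ N => (restrictFunctor j).map φ) =
      (adj.homEquiv M ((restrictFunctor j).obj N)).symm ∘ (fun φ : M ⟶ N => φ ≫ adj.unit.app N) := by
    funext φ
    simp [Adjunction.homEquiv_counit]
  rw [this]
  exact (Function.Bijective.of_comp_iff' h2 _).symm

/-- If restriction along `j` is bijective on `Hom(O_X, N)`, then `Γ(N, ⊤) → Γ(N, j(Y))` is bijective. -/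
theorem bijective_res_top_of_bijective_restrict_map (N : X.Modules)
    (h : Function.Bijective (fun φ : Coh.structureModule X ⟶ N => (restrictFunctor j).map φ)) :
    Function.Bijective (N.presheaf.map (homOfLE (j.image_preimage_le ⊤)).op) := by
  have h' := (bijective_comp_unit_iff j _ N).mpr h
  let N' := (restrictFunctor j ⋙ pushforward j).obj N
  have h3 := (homEquivSection N').bijective.comp (h'.comp (homEquivSection N).symm.bijective)
  have key : ∀ s : Γ(N, ⊤), (show Γ(N', ⊤) from N.presheaf.map (homOfLE (j.image_preimage_le ⊤)).op s) =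
      ((homEquivSection N') ∘ (fun φ => φ ≫ (restrictAdjunction j).unit.app N) ∘
        (homEquivSection N).symm) s := by
    intro s
    simp only [Function.comp_apply]
    change _ = (((restrictAdjunction j).unit.app N).app ⊤) ((ofSection s).app ⊤ (toSec ⊤ 1))
    rw [ofSection_app_one, restrictAdjunction_unit_app_app]
    rfl
  refine ⟨fun a b hab => h3.1 ((key a).symm.trans (Eq.trans hab (key b))), fun t => ?_⟩
  obtain ⟨s, hs⟩ := h3.2 t
  exact ⟨s, (key s).trans hs⟩

end Unit

/-- Bijectivity of a restriction map of functions only depends on the opens. -/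
theorem bijective_res_congr {A B A' B' : X.Opens} (h : A ≤ B) (h' : A' ≤ B') (eA : A = A')
    (eB : B = B') :
    Function.Bijective (X.presheaf.map (homOfLE h).op) ↔
      Function.Bijective (X.presheaf.map (homOfLE h').op) := by
  subst eA eB
  rfl

end Groth.Agent.Lib.H90Invertible
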