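import Groth.Agent.Lib.H90RestrictEquiv
import Groth.Agent.Lib.H90UnitSections
import Groth.Prelude.Def_FEt

/-!
# Parafactorial pairs: transport lemmas and the local case (helper90)

* `invRestrictEquiv_homOfLE_of_eq`, `invRestrictEquiv_homOfLE_congr`, `invRestrictEquiv_ι_iff`.
* `eq_top_of_closedPoint_mem`: an open of `Spec A` (`A` local) containing the closed point is everything.
* `nonempty_iso_of_isInvertible_of_isLocalRing`: invertible modules on `Spec A`, `A` local, are trivial.
-/

set_option autoImplicit false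
universe u

open CategoryTheory AlgebraicGeometry TopologicalSpace Opposite
open AlgebraicGeometry.Scheme AlgebraicGeometry.Scheme.Modules
open Groth.Agent.Lib.H90EquivOn Groth.Agent.Lib.H90Invertible Groth.Agent.Lib.H90RestrictEquiv

namespace Groth.Agent.Lib.H90ParaF

variable {X : Scheme.{u}}

theorem invRestrictEquiv_homOfLE_of_eq {U V : X.Opens} (e : U = V) :
    ParaF.InvRestrictEquiv (X.homOfLE e.le) := by
  haveI : IsIso (X.homOfLE e.le) := inferInstanceAs (IsIso (X.isoOfEq e).hom)
  exact invRestrictEquiv_of_isIso _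

theorem invRestrictEquiv_homOfLE_congr {U U' V V' : X.Opens} (h : U ≤ V) (h' : U' ≤ V')
    (eU : U = U') (eV : V = V') :
    ParaF.InvRestrictEquiv (X.homOfLE h) ↔ ParaF.InvRestrictEquiv (X.homOfLE h') := by
  subst eU eV
  rfl

theorem invRestrictEquiv_ι_iff (U : X.Opens) :
    ParaF.InvRestrictEquiv U.ι ↔ ParaF.InvRestrictEquiv (X.homOfLE (le_top : U ≤ ⊤)) := by
  constructor
  · intro h
    refine invRestrictEquiv_of_iso_square (X.homOfLE (le_top : U ≤ ⊤)) U.ι (Iso.refl _) X.topIso ?_ h
    simp
  · intro h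
    refine invRestrictEquiv_of_iso_square U.ι (X.homOfLE (le_top : U ≤ ⊤)) (Iso.refl _) X.topIso.symm
      ?_ h
    rw [← cancel_mono (⊤ : X.Opens).ι]
    simp

section Local

variable (A : Type u) [CommRing A] [IsLocalRing A]

theorem eq_top_of_closedPoint_mem (V : (Spec (CommRingCat.of A)).Opens)
    (h : IsLocalRing.closedPoint A ∈ V) : V = ⊤ := by
  rw [eq_top_iff]
  intro x _
  exact (IsLocalRing.specializes_closedPoint (R := A) x).mem_open V.2 h

theorem nonempty_iso_of_isInvertible_of_isLocalRing (L : (Spec (CommRingCat.of A)).Modules)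
    (hL : PicF.IsInvertible L) : Nonempty (L ≅ Coh.structureModule (Spec (CommRingCat.of A))) := by
  rw [isInvertible_iff_exists_isGen] at hL
  obtain ⟨V, hV, s, hs⟩ := hL (IsLocalRing.closedPoint A)
  obtain rfl := eq_top_of_closedPoint_mem A V hV
  exact nonempty_iso_structureModule_iff.mpr ⟨s, hs⟩

end Local

end Groth.Agent.Lib.H90ParaF
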