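import Mathlib
import Groth.Agent.Lib.LocFact82
import Groth.Agent.Lib.H29Depth
import Groth.Agent.Lib.H8CM9
import Groth.Agent.Lib.CMRingEquiv96
import Groth.Agent.Lib.IdealMod2
import Groth.Agent.Lib.H90Invertible
import Groth.Agent.S0601
import Groth.Agent.S2834

/-!
# Factoriality of a local ring and its punctured spectrum (helper82)

Algebra:
* `pow_dvd_of_pow_dvd_mul`, `isDomain_of_regular_pair`: a Noetherian local ring with a regular sequence of
  length two in the maximal ideal whose localizations at non-maximal primes are domains is a domain.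
* `exists_local_generator`: a height one prime is principal near a prime with factorial local ring.
* `exists_regular_pair_of_depth`, `depth_ge_two_of_normal`.

Schemes (`R : CommRingCat`):
* `isInvertible_restrict_idealMod`: ideal sheaf locally generated by a nonzerodivisor on `U` is invertible on `U`.
* `idealOf p`, `idealOf_ideal`, `isInvertible_idealOf`, `exists_eq_span_of_isGen`.
-/

set_option autoImplicit false
universe u

namespace Groth.Agent.Lib.UfdPunct82

section Alg

variable {A : Type u} [CommRing A]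

/-- if `x` is regular and `y` is regular modulo `x`, then `y ^ k` is regular modulo `x ^ n`. -/
theorem pow_dvd_of_pow_dvd_mul {x y : A} (hx : IsSMulRegular A x)
    (hy : ∀ c : A, x ∣ y * c → x ∣ c) (n k : ℕ) : ∀ c : A, x ^ n ∣ y ^ k * c → x ^ n ∣ c := by
  have h1 : ∀ n : ℕ, ∀ c : A, x ^ n ∣ y * c → x ^ n ∣ c := by
    intro n
    induction n with
    | zero => intro c _; simp
    | succ n ih =>
      intro c hc
      have hxc : x ∣ c := hy c (dvd_trans (dvd_pow_self x (Nat.succ_ne_zero n)) hc)
      obtain ⟨c', rfl⟩ := hxc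
      obtain ⟨d, hd⟩ := hc
      have h2 : x ^ n ∣ y * c' := by
        refine ⟨d, ?_⟩
        apply hx
        change x * (y * c') = x * (x ^ n * d)
        rw [pow_succ] at hd
        calc x * (y * c') = y * (x * c') := by ring
          _ = x ^ n * x * d := hd
          _ = x * (x ^ n * d) := by ring
      obtain ⟨e, he⟩ := ih c' h2
      exact ⟨e, by rw [he, pow_succ]; ring⟩
  induction k with
  | zero => intro c hc; simpa using hc
  | succ k ih =>
    intro c hc
    apply ih
    apply h1
    rw [pow_succ] at hc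
    convert hc using 1
    ring

/-- A Noetherian local ring with a regular sequence of length two in its maximal ideal, all of whose
localizations at non-maximal primes are domains, is a domain. -/
theorem isDomain_of_regular_pair [IsNoetherianRing A] [IsLocalRing A] (x y : A)
    (hxm : x ∈ IsLocalRing.maximalIdeal A) (hym : y ∈ IsLocalRing.maximalIdeal A)
    (hx : IsSMulRegular A x) (hy : ∀ c : A, x ∣ y * c → x ∣ c)
    (hloc : ∀ (q : Ideal A) [q.IsPrime], q ≠ IsLocalRing.maximalIdeal A →
      IsDomain (Localization.AtPrime q)) : IsDomain A := by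
  classical
  have hxpow : ∀ (n : ℕ) (c : A), x ^ n * c = 0 → c = 0 := by
    intro n c hc
    have : IsSMulRegular A (x ^ n) := hx.pow n
    apply this
    change x ^ n * c = x ^ n * 0
    rw [hc, mul_zero]
  have hnzd : NoZeroDivisors A := by
    refine ⟨fun {a b} hab => ?_⟩
    by_contra hcon
    push Not at hcon
    obtain ⟨ha0, hb0⟩ := hcon
    -- `I = Ann b`, `J = Ann I`
    set I : Ideal A := (Ideal.span {b}).annihilator with hI
    set J : Ideal A := Submodule.annihilator I with hJ
    have memI : ∀ r : A, r ∈ I ↔ r * b = 0 := by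
      intro r
      rw [hI, Submodule.mem_annihilator_span_singleton, smul_eq_mul]
    have memJ : ∀ r : A, r ∈ J ↔ ∀ i ∈ I, r * i = 0 := by
      intro r
      rw [hJ, Submodule.mem_annihilator]
      rfl
    have haI : a ∈ I := (memI a).mpr hab
    have hbJ : b ∈ J := (memJ b).mpr fun i hi => by rw [mul_comm]; exact (memI i).mp hi
    -- `I + J` is not contained in any non-maximal prime
    have hstep : ∀ (q : Ideal A) [q.IsPrime], I ⊔ J ≤ q → q = IsLocalRing.maximalIdeal A := by
      intro q _ hle
      by_contra hq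
      have := hloc q hq
      by_cases hb : algebraMap A (Localization.AtPrime q) b = 0
      · obtain ⟨s, hs⟩ := (IsLocalization.map_eq_zero_iff q.primeCompl _ b).mp hb
        have : (s : A) ∈ I := (memI s).mpr hs
        exact s.2 (hle (Ideal.mem_sup_left this))
      · have hI0 : ∀ i ∈ I, ∃ s : q.primeCompl, (s : A) * i = 0 := by
          intro i hi
          have h0 : algebraMap A (Localization.AtPrime q) i *
              algebraMap A (Localization.AtPrime q) b = 0 := by
            rw [← map_mul, (memI i).mp hi, map_zero]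
          have : algebraMap A (Localization.AtPrime q) i = 0 :=
            (mul_eq_zero.mp h0).resolve_right hb
          exact (IsLocalization.map_eq_zero_iff q.primeCompl _ i).mp this
        obtain ⟨S, hS⟩ := (IsNoetherian.noetherian I : I.FG)
        have hchoose : ∀ i : A, ∃ s : q.primeCompl, i ∈ I → (s : A) * i = 0 := by
          intro i
          by_cases hi : i ∈ I
          · obtain ⟨s, hs⟩ := hI0 i hi
            exact ⟨s, fun _ => hs⟩
          · exact ⟨1, fun h => absurd h hi⟩
        choose σ hσ using hchoose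
        set t : q.primeCompl := ∏ i ∈ S, σ i with ht
        have htS : ∀ i ∈ S, (t : A) * i = 0 := by
          intro i hi
          have hiI : i ∈ I := by rw [← hS]; exact Submodule.subset_span hi
          have : (t : A) = (∏ j ∈ S.erase i, (σ j : A)) * σ i := by
            rw [ht, Submonoid.coe_finsetProd, ← Finset.prod_erase_mul _ _ hi]
          rw [this, mul_assoc, hσ i hiI, mul_zero]
        have htJ : (t : A) ∈ J := by
          rw [memJ]
          intro i hi
          rw [← hS] at hi
          refine Submodule.span_induction (p := fun i _ => (t : A) * i = 0) ?_ ?_ ?_ ?_ hi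
          · intro i hi; exact htS i hi
          · exact mul_zero _
          · intro u v _ _ hu hv; rw [mul_add, hu, hv, add_zero]
          · intro r u _ hu
            rw [smul_eq_mul, mul_left_comm, hu, mul_zero]
        exact t.2 (hle (Ideal.mem_sup_right htJ))
    have hrad : IsLocalRing.maximalIdeal A ≤ (I ⊔ J).radical := by
      rw [Ideal.radical_eq_sInf]
      refine le_sInf ?_
      rintro q ⟨hle, hq⟩
      exact (hstep q hle).ge
    obtain ⟨n, hn⟩ := hrad hxm
    obtain ⟨k, hk⟩ := hrad hym
    obtain ⟨a₁, ha₁, b₁, hb₁, h1⟩ := Submodule.mem_sup.mp hn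
    obtain ⟨a₂, ha₂, b₂, hb₂, h2⟩ := Submodule.mem_sup.mp hk
    have hJI : ∀ j ∈ J, ∀ i ∈ I, j * i = 0 := fun j hj i hi => (memJ j).mp hj i hi
    have key : x ^ n * b₂ = y ^ k * b₁ := by
      rw [← h1, ← h2, add_mul, add_mul, mul_comm a₁ b₂, hJI b₂ hb₂ a₁ ha₁, mul_comm a₂ b₁,
        hJI b₁ hb₁ a₂ ha₂, zero_add, zero_add, mul_comm]
    obtain ⟨e, he⟩ := pow_dvd_of_pow_dvd_mul hx hy n k b₁ ⟨b₂, key.symm⟩
    have heJ : e ∈ J := by
      rw [memJ]
      intro i hi
      apply hxpow n
      rw [← mul_assoc, ← he]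
      exact hJI b₁ hb₁ i hi
    have he' : ∀ j ∈ J, (1 - e) * j = 0 := by
      intro j hj
      apply hxpow n
      have h3 : x ^ n * (1 - e) = a₁ := by
        rw [mul_sub, mul_one, ← he, ← h1]; ring
      have : x ^ n * ((1 - e) * j) = a₁ * j := by
        rw [← mul_assoc, h3]
      rw [this, mul_comm]
      exact hJI j hj a₁ ha₁
    rcases IsLocalRing.isUnit_or_isUnit_one_sub_self e with hu | hu
    · apply ha0
      have := (memJ e).mp heJ a haI
      exact (hu.mul_right_eq_zero).mp this
    · apply hb0
      have := he' b hbJ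
      exact (hu.mul_right_eq_zero).mp this
  exact NoZeroDivisors.to_isDomain A

/-- local principality of a height-one prime at a prime whose local ring is factorial -/
theorem exists_local_generator [IsDomain A] [IsNoetherianRing A] (p : Ideal A) [p.IsPrime]
    (hp : p.height = 1) (q : Ideal A) [q.IsPrime]
    [UniqueFactorizationMonoid (Localization.AtPrime q)] :
    ∃ g : A, g ∉ q ∧ ∃ f : A, f ≠ 0 ∧ g * f ∈ p ∧ ∀ a ∈ p, f ∣ g * a := by
  classical
  by_cases hpq : p ≤ q
  · set B := Localization.AtPrime q with hB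
    have hdisj : Disjoint (q.primeCompl : Set A) (p : Set A) := by
      rw [Set.disjoint_left]
      intro a ha hap
      exact ha (hpq hap)
    set P : Ideal B := p.map (algebraMap A B) with hP
    have hPprime : P.IsPrime := IsLocalization.isPrime_of_isPrime_disjoint q.primeCompl B p ‹_› hdisj
    have hPh : P.height = 1 := by
      rw [hP, IsLocalization.height_map_of_disjoint q.primeCompl p hdisj, hp]
    obtain ⟨t, ht0, hPt⟩ := Groth.Agent.Lib.LocFact82.exists_span_of_height_eq_one P hPh
    obtain ⟨r, s, hrs⟩ := IsLocalization.exists_mk'_eq q.primeCompl t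
    have hφinj : Function.Injective (algebraMap A B) :=
      IsLocalization.injective B (Ideal.primeCompl_le_nonZeroDivisors q)
    have hφr : algebraMap A B r = t * algebraMap A B s := by
      rw [← hrs, IsLocalization.mk'_spec]
    have hr0 : r ≠ 0 := by
      rintro rfl
      rw [IsLocalization.mk'_zero] at hrs
      exact ht0 hrs.symm
    have hrp : r ∈ p := by
      have h1 : algebraMap A B r ∈ P := by
        rw [hφr, hPt]
        exact Ideal.mul_mem_right _ _ (Ideal.mem_span_singleton_self t)
      have h2 : r ∈ (p.map (algebraMap A B)).under A := h1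
      rwa [IsLocalization.under_map_of_isPrime_disjoint q.primeCompl B ‹_› hdisj] at h2
    -- each element of `p` is a multiple of `r` up to an element outside `q`
    have hmul : ∀ a ∈ p, ∃ u : q.primeCompl, r ∣ (u : A) * a := by
      intro a ha
      have h1 : algebraMap A B a ∈ P := Ideal.mem_map_of_mem _ ha
      rw [hPt, Ideal.mem_span_singleton'] at h1
      obtain ⟨z, hz⟩ := h1
      obtain ⟨c, u, hcu⟩ := IsLocalization.exists_mk'_eq q.primeCompl z
      refine ⟨u * s, c, ?_⟩
      apply hφinj
      have hz' : z * algebraMap A B u = algebraMap A B c := by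
        rw [← hcu, IsLocalization.mk'_spec]
      simp only [Submonoid.coe_mul, map_mul]
      rw [← hz, hφr, ← hz']
      ring
    obtain ⟨S, hS⟩ := (IsNoetherian.noetherian p : p.FG)
    have hchoose : ∀ a : A, ∃ u : q.primeCompl, a ∈ p → r ∣ (u : A) * a := by
      intro a
      by_cases ha : a ∈ p
      · obtain ⟨u, hu⟩ := hmul a ha
        exact ⟨u, fun _ => hu⟩
      · exact ⟨1, fun h => absurd h ha⟩
    choose σ hσ using hchoose
    set g : q.primeCompl := ∏ a ∈ S, σ a with hg
    refine ⟨(g : A), g.2, r, hr0, Ideal.mul_mem_left _ _ hrp, ?_⟩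
    have hgS : ∀ a ∈ S, r ∣ (g : A) * a := by
      intro a ha
      have haI : a ∈ p := by rw [← hS]; exact Submodule.subset_span ha
      have : (g : A) = (∏ j ∈ S.erase a, (σ j : A)) * σ a := by
        rw [hg, Submonoid.coe_finsetProd, ← Finset.prod_erase_mul _ _ ha]
      rw [this, mul_assoc]
      exact Dvd.dvd.mul_left (hσ a haI) _
    intro a ha
    rw [← hS] at ha
    refine Submodule.span_induction (p := fun a _ => r ∣ (g : A) * a) ?_ ?_ ?_ ?_ ha
    · intro a ha; exact hgS a ha
    · rw [mul_zero]; exact dvd_zero r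
    · intro u v _ _ hu hv; rw [mul_add]; exact dvd_add hu hv
    · intro c u _ hu
      rw [smul_eq_mul, mul_left_comm]
      exact Dvd.dvd.mul_left hu c
  · obtain ⟨g, hgp, hgq⟩ := SetLike.not_le_iff_exists.mp hpq
    refine ⟨g, hgq, 1, one_ne_zero, by rwa [mul_one], fun a _ => one_dvd _⟩

/-- a regular sequence of length two from `depth ≥ 2` -/
theorem exists_regular_pair_of_depth [IsLocalRing A] (h : (2 : ℕ∞) ≤ LocCoh.depth A A) :
    ∃ x y : A, x ∈ IsLocalRing.maximalIdeal A ∧ y ∈ IsLocalRing.maximalIdeal A ∧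
      IsSMulRegular A x ∧ ∀ c : A, x ∣ y * c → x ∣ c := by
  have hIM : IsLocalRing.maximalIdeal A • (⊤ : Submodule A A) ≠ ⊤ := by
    rw [smul_eq_mul, Ideal.mul_top]
    exact Ideal.IsPrime.ne_top'
  obtain ⟨rs, hlen, hmem, hreg⟩ :=
    (Groth.Agent.Lib.H29Depth.le_idealDepth_iff (IsLocalRing.maximalIdeal A) A hIM 2).mp h
  match rs, hlen with
  | [x, y], _ =>
    have h1 := hreg.toIsWeaklyRegular
    rw [RingTheory.Sequence.isWeaklyRegular_cons_iff] at h1
    obtain ⟨hx, h2⟩ := h1
    rw [RingTheory.Sequence.isWeaklyRegular_cons_iff] at h2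
    obtain ⟨hy, -⟩ := h2
    refine ⟨x, y, hmem x (by simp), hmem y (by simp), hx, ?_⟩
    intro c hc
    have h3 : y • (Submodule.Quotient.mk c : QuotSMulTop x A) = y • 0 := by
      rw [smul_zero, ← Submodule.Quotient.mk_smul, Submodule.Quotient.mk_eq_zero]
      obtain ⟨d, hd⟩ := hc
      rw [Submodule.mem_smul_pointwise_iff_exists]
      exact ⟨d, trivial, by rw [smul_eq_mul, smul_eq_mul, hd]⟩
    have h4 := hy h3
    rw [Submodule.Quotient.mk_eq_zero, Submodule.mem_smul_pointwise_iff_exists] at h4
    obtain ⟨d, -, hd⟩ := h4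
    exact ⟨d, hd.symm⟩

/-- A normal Noetherian local domain of dimension at least two has depth at least two. -/
theorem depth_ge_two_of_normal [IsDomain A] [IsNoetherianRing A] [IsLocalRing A]
    [IsIntegrallyClosed A] (hdim : (2 : WithBot ℕ∞) ≤ ringKrullDim A) :
    (2 : ℕ∞) ≤ LocCoh.depth A A := by
  have hS : LocCoh.HasRk 1 A ∧ LocCoh.HasSk 2 A A := by
    rw [← Groth.Agent.S0601.result]
    intro p _
    exact ⟨inferInstance,
      isIntegrallyClosed_of_isLocalization (Localization.AtPrime p) p.primeCompl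
        (Ideal.primeCompl_le_nonZeroDivisors p)⟩
  have h1 := (Groth.Agent.Lib.H8CM.hasSk_self_iff (R := A) 2).mp hS.2 (IsLocalRing.maximalIdeal A)
  have h2 : ((IsLocalRing.maximalIdeal A).height : WithBot ℕ∞) = ringKrullDim A :=
    IsLocalRing.maximalIdeal_height_eq_ringKrullDim
  rw [← h2] at hdim
  have h3 : (2 : ℕ∞) ≤ (IsLocalRing.maximalIdeal A).height := by
    rwa [show (2 : WithBot ℕ∞) = ((2 : ℕ∞) : WithBot ℕ∞) from rfl, WithBot.coe_le_coe] at hdim
  have e2 : A ≃+* Localization.AtPrime (IsLocalRing.maximalIdeal A) :=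
    (IsLocalization.atUnits A (IsLocalRing.maximalIdeal A).primeCompl (by
      intro a ha
      have : a ∉ IsLocalRing.maximalIdeal A := ha
      rw [IsLocalRing.mem_maximalIdeal, mem_nonunits_iff, not_not] at this
      exact this)).toRingEquiv
  rw [Groth.Agent.Lib.CMRingEquiv96.depth_eq e2]
  refine le_trans ?_ h1
  exact le_min le_rfl h3

end Alg

section Sch

open CategoryTheory AlgebraicGeometry TopologicalSpace Opposite
open Groth.Agent.Lib.H90Invertible Groth.Agent.Lib.IdealMod

variable {X : Scheme.{u}}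

/-- an ideal sheaf which is locally (on `U`) generated by a nonzerodivisor restricts to an
invertible module on `U` -/
theorem isInvertible_restrict_idealMod (I : X.IdealSheafData) (U : X.Opens)
    (h : ∀ x ∈ U, ∃ (V : X.affineOpens) (f : Γ(X, V.1)), x ∈ V.1 ∧
      f ∈ nonZeroDivisors Γ(X, V.1) ∧ I.ideal V = Ideal.span {f}) :
    PicF.IsInvertible ((ClSub.idealMod I).restrict U.ι) := by
  rw [isInvertible_iff_exists_isGen]
  intro y
  obtain ⟨V, f, hxV, hf, hI⟩ := h (U.ι y) y.2
  obtain ⟨s, hs⟩ := exists_idealFn_eq I V (f := f)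
    (by rw [hI]; exact Ideal.mem_span_singleton_self f)
  have hgen := isGen_idealMod_of_span_singleton I V f hf hI s hs
  refine ⟨U.ι ⁻¹ᵁ V.1, hxV,
    (ClSub.idealMod I).presheaf.map (homOfLE (U.ι.image_preimage_le V.1)).op s, ?_⟩
  exact (isGen_restrict_iff U.ι _ _ _).mpr (hgen.mono _)

variable {R : CommRingCat.{u}}

/-- the ideal sheaf on `Spec R` of an ideal of `R` -/
noncomputable def idealOf (p : Ideal R) : (Spec R).IdealSheafData :=
  Scheme.IdealSheafData.ofIdealTop (p.map (Scheme.ΓSpecIso R).inv.hom)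

theorem idealOf_ideal (p : Ideal R) (V : (Spec R).affineOpens) :
    (idealOf p).ideal V = p.map (algebraMap R Γ(Spec R, V.1)) := by
  rw [idealOf, Scheme.IdealSheafData.ofIdealTop_ideal, Ideal.map_map]
  congr 1

theorem isAffineOpen_basicOpen (g : R) (V : (Spec R).Opens) (hV : V = PrimeSpectrum.basicOpen g) :
    IsAffineOpen V := by
  rw [hV, ← basicOpen_eq_of_affine]
  exact (isAffineOpen_top (Spec R)).basicOpen _

theorem isLocalization_basicOpen (g : R) (V : (Spec R).Opens) (hV : V = PrimeSpectrum.basicOpen g) :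
    IsLocalization.Away g Γ(Spec R, V) := by
  subst hV
  infer_instance

/-- local generator data gives a principal ideal on a basic open -/
theorem exists_affine_span_singleton [IsDomain R] (p : Ideal R) (g f : R) (x : Spec R)
    (hx : g ∉ x.asIdeal) (hf : f ≠ 0) (hgf : g * f ∈ p) (hdiv : ∀ a ∈ p, f ∣ g * a) :
    ∃ (V : (Spec R).affineOpens) (f' : Γ(Spec R, V.1)), x ∈ V.1 ∧
      f' ∈ nonZeroDivisors Γ(Spec R, V.1) ∧ (idealOf p).ideal V = Ideal.span {f'} := by
  obtain ⟨V, hV⟩ : ∃ V : (Spec R).Opens, V = PrimeSpectrum.basicOpen g := ⟨_, rfl⟩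
  have hVaff : IsAffineOpen V := isAffineOpen_basicOpen g V hV
  have hloc : IsLocalization.Away g Γ(Spec R, V) := isLocalization_basicOpen g V hV
  have hgu : IsUnit (algebraMap R Γ(Spec R, V) g) := IsLocalization.Away.algebraMap_isUnit g
  refine ⟨⟨V, hVaff⟩, algebraMap R Γ(Spec R, V) f, ?_, ?_, ?_⟩
  · change x ∈ V
    rw [hV]; exact hx
  · exact IsLocalization.map_nonZeroDivisors_le (Submonoid.powers g) Γ(Spec R, V)
      (Submonoid.mem_map_of_mem _ (mem_nonZeroDivisors_of_ne_zero hf))
  · rw [idealOf_ideal]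
    apply le_antisymm
    · rw [Ideal.map_le_iff_le_comap]
      intro a ha
      obtain ⟨c, hc⟩ := hdiv a ha
      rw [Ideal.mem_comap, Ideal.mem_span_singleton]
      have h1 : algebraMap R Γ(Spec R, V) g * algebraMap R Γ(Spec R, V) a =
          algebraMap R Γ(Spec R, V) f * algebraMap R Γ(Spec R, V) c := by
        rw [← map_mul, ← map_mul, hc]
      obtain ⟨u, hu⟩ := hgu
      refine ⟨↑u⁻¹ * algebraMap R Γ(Spec R, V) c, ?_⟩
      calc algebraMap R Γ(Spec R, V) a = ↑u⁻¹ * (↑u * algebraMap R Γ(Spec R, V) a) := by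
            rw [← mul_assoc, Units.inv_mul, one_mul]
        _ = ↑u⁻¹ * (algebraMap R Γ(Spec R, V) f * algebraMap R Γ(Spec R, V) c) := by rw [hu, h1]
        _ = _ := by ring
    · rw [Ideal.span_singleton_le_iff_mem]
      have h1 : algebraMap R Γ(Spec R, V) g * algebraMap R Γ(Spec R, V) f ∈
          p.map (algebraMap R Γ(Spec R, V)) := by
        rw [← map_mul]; exact Ideal.mem_map_of_mem _ hgf
      exact (Ideal.unit_mul_mem_iff_mem _ hgu).mp h1

/-- a height one prime whose local rings on `U` are factorial defines an invertible module on `U` -/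
theorem isInvertible_idealOf [IsDomain R] [IsNoetherianRing R] (p : Ideal R) [p.IsPrime]
    (hp : p.height = 1) (U : (Spec R).Opens)
    (hU : ∀ x : PrimeSpectrum R, (x : ↥(Spec R)) ∈ U →
      UniqueFactorizationMonoid (Localization.AtPrime x.asIdeal)) :
    PicF.IsInvertible ((ClSub.idealMod (idealOf p)).restrict U.ι) := by
  refine isInvertible_restrict_idealMod _ U fun x hx => ?_
  have := hU x hx
  have hxp : (PrimeSpectrum.asIdeal (x : PrimeSpectrum R)).IsPrime := PrimeSpectrum.isPrime _
  obtain ⟨g, hgx, f, hf0, hgf, hdiv⟩ :=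
    exists_local_generator p hp (PrimeSpectrum.asIdeal (x : PrimeSpectrum R))
  exact exists_affine_span_singleton p g f x hgx hf0 hgf hdiv

theorem algebraMap_eq_res (V : (Spec R).Opens) (r : R) :
    algebraMap R Γ(Spec R, V) r =
      (Spec R).presheaf.map (homOfLE (le_top : V ≤ ⊤)).op ((Scheme.ΓSpecIso R).inv r) := by
  rw [IsAffineOpen.algebraMap_Spec_obj]
  rfl

/-- if restriction of functions to `U` is bijective, every function on `U` comes from `R` -/
theorem exists_algebraMap_eq (U : (Spec R).Opens)
    (hbij : Function.Bijective ((Spec R).presheaf.map (homOfLE (le_top : U ≤ ⊤)).op))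
    (a : Γ(Spec R, U)) : ∃ a0 : R, algebraMap R Γ(Spec R, U) a0 = a := by
  obtain ⟨a', ha'⟩ := hbij.2 a
  refine ⟨(Scheme.ΓSpecIso R).hom a', ?_⟩
  rw [algebraMap_eq_res, Iso.hom_inv_id_apply, ha']

theorem algebraMap_injective_of_bijective (U : (Spec R).Opens)
    (hbij : Function.Bijective ((Spec R).presheaf.map (homOfLE (le_top : U ≤ ⊤)).op)) :
    Function.Injective (algebraMap R Γ(Spec R, U)) := by
  intro a b hab
  rw [algebraMap_eq_res, algebraMap_eq_res] at hab
  have h1 := hbij.1 hab
  exact ((ConcreteCategory.isIso_iff_bijective (Scheme.ΓSpecIso R).inv).mp inferInstance).1 h1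

/-- if the ideal sheaf of the prime `p` has a free generator over an open `U` to which functions
extend uniquely and which contains a basic open meeting `V(p)`, then `p` is principal. -/
theorem exists_eq_span_of_isGen (p : Ideal R) [p.IsPrime] (U : (Spec R).Opens)
    (hbij : Function.Bijective ((Spec R).presheaf.map (homOfLE (le_top : U ≤ ⊤)).op))
    (g : R) (hgp : g ∉ p) (V : (Spec R).Opens) (hV : V = PrimeSpectrum.basicOpen g) (hVU : V ≤ U)
    (s : Γ(ClSub.idealMod (idealOf p), U)) (hs : IsGen (ClSub.idealMod (idealOf p)) U s) :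
    ∃ f0 : R, p = Ideal.span {f0} := by
  obtain ⟨f0, hf0⟩ := exists_algebraMap_eq U hbij (idealFn (idealOf p) U s)
  refine ⟨f0, le_antisymm ?_ ?_⟩
  · -- `p ≤ (f0)`
    intro x hx
    have hxtop : algebraMap R Γ(Spec R, (⊤ : (Spec R).Opens)) x ∈
        (idealOf p).ideal ⟨⊤, isAffineOpen_top (Spec R)⟩ := by
      rw [idealOf_ideal]
      exact Ideal.mem_map_of_mem _ hx
    obtain ⟨t, ht⟩ := exists_idealFn_eq (idealOf p) ⟨⊤, isAffineOpen_top (Spec R)⟩ hxtop
    obtain ⟨a, ha⟩ := (hs U le_rfl).2
      ((ClSub.idealMod (idealOf p)).presheaf.map (homOfLE (le_top : U ≤ ⊤)).op t)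
    have h1 := congrArg (idealFn (idealOf p) U) ha
    rw [idealFn_smul, idealFn_map, idealFn_map, ht] at h1
    have h2 : ((Spec R).presheaf.map (homOfLE (le_refl U)).op).hom (idealFn (idealOf p) U s) =
        idealFn (idealOf p) U s := by
      have : (homOfLE (le_refl U)).op = 𝟙 (op U) := rfl
      rw [this, (Spec R).presheaf.map_id]
      rfl
    have h3 : ((Spec R).presheaf.map (homOfLE (le_top : U ≤ ⊤)).op).hom
        (algebraMap R Γ(Spec R, (⊤ : (Spec R).Opens)) x) = algebraMap R Γ(Spec R, U) x :=
      Groth.Agent.S2834.algebraMap_res le_top x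
    rw [h2, h3, ← hf0] at h1
    obtain ⟨a0, rfl⟩ := exists_algebraMap_eq U hbij a
    rw [← map_mul] at h1
    have := algebraMap_injective_of_bijective U hbij h1
    rw [Ideal.mem_span_singleton']
    exact ⟨a0, this⟩
  · -- `f0 ∈ p`
    rw [Ideal.span_singleton_le_iff_mem]
    have hVaff : IsAffineOpen V := isAffineOpen_basicOpen g V hV
    have hloc : IsLocalization.Away g Γ(Spec R, V) := isLocalization_basicOpen g V hV
    have h1 := idealFn_mem (idealOf p) ⟨V, hVaff⟩ ((ClSub.idealMod (idealOf p)).presheaf.map (homOfLE hVU).op s)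
    rw [idealFn_map, ← hf0] at h1
    have h2 : ((Spec R).presheaf.map (homOfLE hVU).op).hom (algebraMap R Γ(Spec R, U) f0) =
        algebraMap R Γ(Spec R, V) f0 := Groth.Agent.S2834.algebraMap_res hVU f0
    rw [h2, idealOf_ideal] at h1
    have hdisj : Disjoint ((Submonoid.powers g : Submonoid R) : Set R) (p : Set R) := by
      rw [Set.disjoint_left]
      rintro _ ⟨n, rfl⟩ hn
      exact hgp (Ideal.IsPrime.mem_of_pow_mem ‹_› n hn)
    have h3 : f0 ∈ (p.map (algebraMap R Γ(Spec R, V))).under R := h1
    rwa [IsLocalization.under_map_of_isPrime_disjoint (Submonoid.powers g) Γ(Spec R, V) ‹_› hdisj]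
      at h3

end Sch

end Groth.Agent.Lib.UfdPunct82
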