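import Groth.Agent.Lib.ZClos5N

/-!
# ZClos cluster, part O: local-global principle for Z-closedness, the open locus (S5859)
-/

set_option autoImplicit false
set_option linter.style.haveILetI false
universe u

open CategoryTheory CategoryTheory.Limits AlgebraicGeometry TopologicalSpace Opposite

namespace Groth.Agent.Lib.ZClos5

open Groth.Agent.Lib.QCohStalk Groth.Agent.Lib.H90OXModQcqs Groth.Agent.Lib.H90OXModSections
  Groth.Agent.Lib.H90OXModExt Groth.Agent.Lib.H90OXModExact Groth.Agent.Lib.H47Reflexive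
  Groth.Agent.Lib.ModStalkLin

variable {X : Scheme.{u}}

section LG

variable [IsLocallyNoetherian X] (Z : Set X) (F : X.Modules)

omit [IsLocallyNoetherian X] in
theorem app_bijective_of_isZClosedAt (W : X.Opens) (h : ∀ x ∈ W, ZClos.IsZClosedAt Z F x) :
    Function.Bijective ((ZClos.rhoApp Z F).app W) :=
  TopCat.Presheaf.app_bijective_of_stalkFunctor_map_bijective
    ((Groth.Agent.Lib.ModStalk.toSheafAb X).map (ZClos.rhoApp Z F)) W (fun x hx => h x hx)

/-- if `F` is Z-closed at all points of `V`, the restrictions `F(W) → F(W ∖ T)` are bijective for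
`W ≤ V` -/
theorem res_bijective_of_isZClosedAt (V : X.Opens) (h : ∀ x ∈ V, ZClos.IsZClosedAt Z F x)
    (T : ZClos.Cl Z) (W : X.Opens) (hW : W ≤ V) :
    Function.Bijective (res F (inf_le_left : W ⊓ T.U ≤ W)) := by
  have h1 := app_bijective_of_isZClosedAt Z F W (fun x hx => h x (hW hx))
  have h2 := app_bijective_of_isZClosedAt Z F (W ⊓ T.U) (fun x hx => h x (hW hx.1))
  have h3 := res_bijective_of_isZClosed Z _ (isZClosed_H0 Z F) T W
  have hcomp : ((ZClos.rhoApp Z F).app (W ⊓ T.U)) ∘ (res F (inf_le_left : W ⊓ T.U ≤ W)) =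
      (res ((ZClos.H0 Z).obj F) (inf_le_left : W ⊓ T.U ≤ W)) ∘ ((ZClos.rhoApp Z F).app W) := by
    funext s
    exact app_res (ZClos.rhoApp Z F) inf_le_left s
  have h4 : Function.Bijective (((ZClos.rhoApp Z F).app (W ⊓ T.U)) ∘
      (res F (inf_le_left : W ⊓ T.U ≤ W))) := by
    rw [hcomp]; exact h3.comp h1
  exact (Function.Bijective.of_comp_iff' h2 _).mp h4

/-- if the restrictions `F(W) → F(W ∖ T)` are bijective for all `T`, then `ρ` is bijective on
sections over the compact open `W` -/
theorem app_bijective_of_res_bijective (W : X.Opens) (hWc : IsCompact (W : Set X))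
    (h : ∀ T : ZClos.Cl Z, Function.Bijective (res F (inf_le_left : W ⊓ T.U ≤ W))) :
    Function.Bijective ((ZClos.rhoApp Z F).app W) := by
  have h' : ∀ T : ZClos.Cl Z, Function.Bijective (res F (UV_le_right T.U W)) := fun T =>
    (res_bij_congr F _ _ (UV_eq' T.U W)).mpr (h T)
  constructor
  · intro s s' hss
    rw [rhoApp_app Z F ⊥, rhoApp_app Z F ⊥] at hss
    obtain ⟨T', hT, e⟩ := H0_sec_inj' Z F W hWc ⊥ _ _ hss
    rw [res_res, res_res] at e
    exact (h' T').1 e
  · intro γ
    obtain ⟨T, t, ht⟩ := H0_sec_surj Z F W hWc γ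
    obtain ⟨s, hs⟩ := (h' T).2 t
    exact ⟨s, by rw [rhoApp_app Z F T, hs, ht]⟩

/-- if the restrictions `F(W) → F(W ∖ T)` are bijective for all `T` and all `W ≤ V`, then `F` is
Z-closed at the points of `V` -/
theorem isZClosedAt_of_res_bijective (V : X.Opens)
    (h : ∀ (T : ZClos.Cl Z) (W : X.Opens), W ≤ V →
      Function.Bijective (res F (inf_le_left : W ⊓ T.U ≤ W))) (x : X) (hx : x ∈ V) :
    ZClos.IsZClosedAt Z F x := by
  have key : ∀ W : X.Opens, W ≤ V → IsCompact (W : Set X) →
      Function.Bijective ((ZClos.rhoApp Z F).app W) := fun W hW hWc =>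
    app_bijective_of_res_bijective Z F W hWc (fun T => h T W hW)
  show Function.Bijective (stalkLin (ZClos.rhoApp Z F) x)
  constructor
  · rw [injective_iff_map_eq_zero]
    intro a ha
    obtain ⟨U₀, hxU₀, s₀, rfl⟩ := F.presheaf.exists_germ_eq a
    rw [stalkLin_germ] at ha
    obtain ⟨W₁, hW₁, hxW₁, e1⟩ := exists_res_eq_zero_of_germ_eq_zero _ x hxU₀ _ ha
    obtain ⟨W, hW, hxW, hWle⟩ := exists_affine_nhds (x := x) (W := W₁ ⊓ V) ⟨hxW₁, hx⟩
    have hWV : W ≤ V := hWle.trans inf_le_right
    have hWU : W ≤ U₀ := (hWle.trans inf_le_left).trans hW₁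
    have e2 : (ZClos.rhoApp Z F).app W (res F hWU s₀) = 0 := by
      rw [app_res, ← res_res _ (hWle.trans inf_le_left) hW₁, e1, res_zero]
    have e3 : res F hWU s₀ = 0 := by
      apply (key W hWV hW.isCompact).1
      rw [e2, map_zero]
    rw [← germ_res' F hWU x hxW s₀, e3, map_zero]
  · intro b
    obtain ⟨U₀, hxU₀, γ₀, rfl⟩ := ((ZClos.H0 Z).obj F).presheaf.exists_germ_eq b
    obtain ⟨W, hW, hxW, hWle⟩ := exists_affine_nhds (x := x) (W := U₀ ⊓ V) ⟨hxU₀, hx⟩
    have hWV : W ≤ V := hWle.trans inf_le_right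
    have hWU : W ≤ U₀ := hWle.trans inf_le_left
    obtain ⟨s, hs⟩ := (key W hWV hW.isCompact).2 (res _ hWU γ₀)
    refine ⟨F.presheaf.germ W x hxW s, ?_⟩
    rw [stalkLin_germ, hs, germ_res']

variable (hZ : StableUnderSpecialization Z)

include hZ in
/-- **local-global principle**: `F|_V` is `(Z ∩ V)`-closed iff `F` is Z-closed at every point of
`V`. -/
theorem isZClosed_restr_iff_isZClosedAt (V : X.Opens) :
    ZClos.IsZClosed (V.ι.base ⁻¹' Z) (restr V F) ↔ ∀ x ∈ V, ZClos.IsZClosedAt Z F x := by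
  rw [isZClosed_restr_iff V Z hZ F]
  exact ⟨fun h x hx => isZClosedAt_of_res_bijective Z F V h x hx,
    fun h T W hW => res_bijective_of_isZClosedAt Z F V h T W hW⟩

end LG

section OpenLocus

open Groth.Agent.Lib.ModStalk

variable {M N : X.Modules} (φ : M ⟶ N)

theorem stalk_exact_kernel (x : X) :
    Function.Exact ((stalkFunctor x).map (kernel.ι φ)) ((stalkFunctor x).map φ) := by
  have h := (ShortComplex.exact_kernel φ).map (stalkFunctor x)
  exact (ShortComplex.ab_exact_iff_function_exact _).mp h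

theorem stalk_exact_cokernel (x : X) :
    Function.Exact ((stalkFunctor x).map φ) ((stalkFunctor x).map (cokernel.π φ)) := by
  have h := (ShortComplex.exact_cokernel φ).map (stalkFunctor x)
  exact (ShortComplex.ab_exact_iff_function_exact _).mp h

theorem stalkLin_injective_iff (x : X) :
    Function.Injective (stalkLin φ x) ↔ Subsingleton ((kernel φ).presheaf.stalk x) := by
  constructor
  · intro h
    refine ⟨fun a b => ?_⟩
    apply stalk_injective_of_mono (kernel.ι φ) x
    apply h
    have h1 : ∀ c, (stalkFunctor x).map φ ((stalkFunctor x).map (kernel.ι φ) c) = 0 := fun c =>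
      (stalk_exact_kernel φ x).apply_apply_eq_zero c
    exact (h1 a).trans (h1 b).symm
  · intro h
    rw [injective_iff_map_eq_zero]
    intro a ha
    obtain ⟨c, hc⟩ := (stalk_exact_kernel φ x a).mp ha
    have hc0 : c = 0 := h.elim (α := (kernel φ).presheaf.stalk x) c 0
    rw [← hc, hc0]
    exact map_zero _

theorem stalkLin_surjective_iff (x : X) :
    Function.Surjective (stalkLin φ x) ↔ Subsingleton ((cokernel φ).presheaf.stalk x) := by
  constructor
  · intro h
    refine ⟨fun a b => ?_⟩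
    have h0 : ∀ c : (cokernel φ).presheaf.stalk x, c = 0 := by
      intro c
      obtain ⟨n, rfl⟩ := stalk_surjective_of_epi (cokernel.π φ) x c
      obtain ⟨m, rfl⟩ := h n
      exact (stalk_exact_cokernel φ x).apply_apply_eq_zero m
    rw [h0 a, h0 b]
  · intro h b
    have h1 : (stalkFunctor x).map (cokernel.π φ) b = 0 :=
      h.elim (α := (cokernel φ).presheaf.stalk x) _ _
    obtain ⟨a, ha⟩ := (stalk_exact_cokernel φ x b).mp h1
    exact ⟨a, ha⟩

/-- the locus where a morphism of coherent modules is bijective on stalks is open -/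
theorem isOpen_setOf_stalkLin_bijective [IsLocallyNoetherian X] (hM : Coh.IsCoh M)
    (hN : Coh.IsCoh N) : IsOpen {x : X | Function.Bijective (stalkLin φ x)} := by
  haveI : M.IsQuasicoherent := hM.1
  haveI : N.IsQuasicoherent := hN.1
  have hK : Coh.IsCoh (kernel φ) := isCoh_kernel φ hM
  have hC : Coh.IsCoh (cokernel φ) := isCoh_cokernel φ hN
  haveI : (kernel φ).IsFiniteType := hK.2
  haveI : (cokernel φ).IsFiniteType := hC.2
  have h1 : IsClosed (CohB1.support (kernel φ)) := isClosed_support_of_isFiniteType _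
  have h2 : IsClosed (CohB1.support (cokernel φ)) := isClosed_support_of_isFiniteType _
  have : {x : X | Function.Bijective (stalkLin φ x)} =
      (CohB1.support (kernel φ))ᶜ ∩ (CohB1.support (cokernel φ))ᶜ := by
    ext x
    simp only [Set.mem_ofPred_eq, Set.mem_inter_iff, Set.mem_compl_iff, CohB1.support, not_not,
      Function.Bijective, stalkLin_injective_iff, stalkLin_surjective_iff]
  rw [this]
  exact h1.isOpen_compl.inter h2.isOpen_compl

end OpenLocus

section Main

variable [IsLocallyNoetherian X] (Z : Set X) (hZ : StableUnderSpecialization Z)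
  (F : X.Modules) (hF : Coh.IsCoh F)

include hZ hF in
/-- **S5859** -/
theorem exists_open_depth_locus (hH : Coh.IsCoh ((ZClos.H0 Z).obj F)) :
    ∃ U : X.Opens, (U : Set X) = {x | ∀ x' : X, x' ⤳ x → x' ∈ Z →
        (2 : ℕ∞) ≤ LocCoh.depth (X.presheaf.stalk x') (F.presheaf.stalk x')} ∧
      (U : Set X)ᶜ ⊆ Z ∧
      ZClos.IsZClosed (U.ι.base ⁻¹' Z) ((Scheme.Modules.restrictFunctor U.ι).obj F) ∧
      ∀ V : X.Opens, ZClos.IsZClosed (V.ι.base ⁻¹' Z)
        ((Scheme.Modules.restrictFunctor V.ι).obj F) → V ≤ U := by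
  let U : X.Opens := ⟨{x : X | Function.Bijective (stalkLin (ZClos.rhoApp Z F) x)},
    isOpen_setOf_stalkLin_bijective (ZClos.rhoApp Z F) hF hH⟩
  have hU : ∀ x : X, x ∈ U ↔ ZClos.IsZClosedAt Z F x := fun x => Iff.rfl
  refine ⟨U, ?_, ?_, ?_, ?_⟩
  · ext x
    exact (hU x).trans (isZClosedAt_iff Z hZ F hF x)
  · intro x hx
    by_contra hxZ
    exact hx ((hU x).mpr (isZClosedAt_of_not_mem Z F x hxZ))
  · exact (isZClosed_restr_iff_isZClosedAt Z F hZ U).mpr (fun x hx => (hU x).mp hx)
  · intro V hV x hx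
    exact (hU x).mpr ((isZClosed_restr_iff_isZClosedAt Z F hZ V).mp hV x hx)

end Main

end Groth.Agent.Lib.ZClos5
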