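import Groth.Agent.Lib.ZClos5M
import Groth.Agent.Lib.HartogsConverse
import Groth.Agent.Lib.ModStalkLin
import Mathlib.Algebra.Module.FinitePresentation

/-!
# ZClos cluster, part N: pointwise Z-closedness and depth ≥ 2 (S5856)
-/

set_option autoImplicit false
set_option linter.style.haveILetI false
universe u

open CategoryTheory CategoryTheory.Limits AlgebraicGeometry TopologicalSpace Opposite

namespace Groth.Agent.Lib.ZClos5

open Groth.Agent.Lib.QCohStalk Groth.Agent.Lib.H90OXModQcqs Groth.Agent.Lib.H90OXModSections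
  Groth.Agent.Lib.H90OXModExt Groth.Agent.Lib.H90OXModExact Groth.Agent.Lib.H47Reflexive

section Alg

variable {A : Type u} [CommRing A] (P : Ideal A) [P.IsPrime]
  {M : Type u} [AddCommGroup M] [Module A M]
  (O : Type u) [CommRing O] [Algebra A O] [IsLocalization.AtPrime O P] [IsLocalRing O]
  {N : Type u} [AddCommGroup N] [Module A N] [Module O N] [IsScalarTower A O N]
  (f : M →ₗ[A] N) [IsLocalizedModule P.primeCompl f]

include f in
/-- `TF` localizes at a finitely generated prime. -/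
theorem tf_localized (hP : P.FG) (h : TF P M) : TF (IsLocalRing.maximalIdeal O) N := by
  classical
  intro ξ hξ
  obtain ⟨⟨m₀, s⟩, hs⟩ := IsLocalizedModule.surj P.primeCompl f ξ
  have hs' : (s : A) • ξ = f m₀ := hs
  obtain ⟨G, hG⟩ := hP
  have hmem : ∀ c ∈ P, algebraMap A O c ∈ IsLocalRing.maximalIdeal O := fun c hc =>
    (IsLocalization.AtPrime.to_map_mem_maximal_iff O P c).mpr hc
  have hkill : ∀ c ∈ P, f (c • m₀) = 0 := by
    intro c hc
    rw [map_smul, ← hs', smul_comm, ← algebraMap_smul O c ξ, hξ _ (hmem c hc), smul_zero]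
  have hex : ∀ c ∈ G, ∃ t : P.primeCompl, t • (c • m₀) = 0 := by
    intro c hc
    have hcP : c ∈ P := by rw [← hG]; exact Ideal.subset_span hc
    exact (IsLocalizedModule.eq_zero_iff P.primeCompl f).mp (hkill c hcP)
  choose! t ht using hex
  let τ : P.primeCompl := ∏ c ∈ G, t c
  have hτ : ∀ c ∈ G, c • ((τ : A) • m₀) = 0 := by
    intro c hc
    have h1 : (τ : A) = (∏ c' ∈ G.erase c, (t c' : A)) * (t c : A) := by
      rw [Finset.prod_erase_mul G (fun c' => (t c' : A)) hc]
      simp [τ]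
    have h2 : (t c : A) • (c • m₀) = 0 := ht c hc
    rw [smul_comm, h1, mul_smul, h2, smul_zero]
  have hτm : (τ : A) • m₀ = 0 := by
    apply h
    intro c hc
    rw [← hG] at hc
    refine Submodule.span_induction (p := fun c _ => c • ((τ : A) • m₀) = 0) ?_ ?_ ?_ ?_ hc
    · intro c hc; exact hτ c hc
    · exact zero_smul _ _
    · intro x y _ _ hx hy; rw [add_smul, hx, hy, add_zero]
    · intro a x _ hx; rw [smul_eq_mul, mul_smul, hx, smul_zero]
  have h3 : f m₀ = 0 := by
    have h4 : (τ : A) • f m₀ = 0 := by rw [← map_smul, hτm, map_zero]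
    exact (IsLocalizedModule.smul_injective f τ) (by
      show τ • f m₀ = τ • (0 : N)
      rw [smul_zero]; exact h4)
  rw [h3] at hs'
  exact (IsLocalizedModule.smul_injective f s) (by
    show s • ξ = s • (0 : N)
    rw [smul_zero]; exact hs')

include f in
/-- `E1` localizes at a prime of a Noetherian ring. -/
theorem e1_localized [IsNoetherianRing A] (h : E1 P M) : E1 (IsLocalRing.maximalIdeal O) N := by
  intro φ
  have hmem : ∀ c ∈ P, algebraMap A O c ∈ IsLocalRing.maximalIdeal O := fun c hc =>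
    (IsLocalization.AtPrime.to_map_mem_maximal_iff O P c).mpr hc
  let g : ↥P →ₗ[A] N :=
    { toFun := fun c => φ ⟨algebraMap A O c, hmem c c.2⟩
      map_add' := fun c c' => by
        rw [← map_add]
        congr 1
        apply Subtype.ext
        simp
      map_smul' := fun a c => by
        rw [RingHom.id_apply, ← algebraMap_smul O a (φ ⟨algebraMap A O c, hmem c c.2⟩), ← map_smul]
        congr 1
        apply Subtype.ext
        simp [Algebra.smul_def] }
  have : Module.FinitePresentation A ↥P := Module.finitePresentation_of_finite A ↥P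
  obtain ⟨h', s, hs⟩ := Module.FinitePresentation.exists_lift_of_isLocalizedModule P.primeCompl f g
  obtain ⟨γ, hγ⟩ := h h'
  refine ⟨IsLocalizedModule.mk' f γ s, fun μ => ?_⟩
  obtain ⟨⟨c, u⟩, hcu⟩ := IsLocalization.surj P.primeCompl (μ : O)
  have hcu' : (μ : O) * algebraMap A O u = algebraMap A O c := hcu
  have hcP : c ∈ P := by
    rw [← IsLocalization.AtPrime.to_map_mem_maximal_iff O P c, ← hcu']
    exact Ideal.mul_mem_right _ _ μ.2
  -- `u • φ μ = g c`
  have e1 : (u : A) • φ μ = g ⟨c, hcP⟩ := by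
    show (u : A) • φ μ = φ ⟨algebraMap A O c, hmem c hcP⟩
    rw [← algebraMap_smul O (u : A) (φ μ), ← map_smul]
    congr 1
    apply Subtype.ext
    show algebraMap A O u * (μ : O) = algebraMap A O c
    rw [mul_comm]; exact hcu'
  -- `s • g c = c • f γ`
  have e2 : (s : A) • g ⟨c, hcP⟩ = c • f γ := by
    have := LinearMap.congr_fun hs ⟨c, hcP⟩
    calc (s : A) • g ⟨c, hcP⟩ = (s • g) ⟨c, hcP⟩ := rfl
      _ = f (h' ⟨c, hcP⟩) := this.symm
      _ = f (c • γ) := by rw [hγ]
      _ = c • f γ := map_smul f c γ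
  have e3 : (s : A) • (IsLocalizedModule.mk' f γ s) = f γ := IsLocalizedModule.mk'_cancel' f γ s
  apply IsLocalizedModule.smul_injective f (s * u)
  show (s * u) • φ μ = (s * u) • ((μ : O) • IsLocalizedModule.mk' f γ s)
  have l1 : (s * u) • φ μ = c • f γ := by
    show ((s : A) * (u : A)) • φ μ = c • f γ
    rw [mul_smul, e1, e2]
  have l2 : (s * u) • ((μ : O) • IsLocalizedModule.mk' f γ s) = c • f γ := by
    show ((s : A) * (u : A)) • ((μ : O) • IsLocalizedModule.mk' f γ s) = c • f γ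
    have e4 : (u : A) • ((μ : O) • IsLocalizedModule.mk' f γ s) =
        c • IsLocalizedModule.mk' f γ s := by
      rw [← algebraMap_smul O (u : A), ← mul_smul, mul_comm, hcu', algebraMap_smul]
    rw [mul_smul, e4, smul_comm, e3]
  rw [l1, l2]

end Alg

section AlgCore

variable {O : Type u} [CommRing O] [IsLocalRing O] {N G : Type u} [AddCommGroup N] [Module O N]
  [AddCommGroup G] [Module O G] (φ : N →ₗ[O] G)

/-- if `N` satisfies `E1` and `G` satisfies `TF`, an element of `G` which the maximal ideal maps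
into the image of the injective map `φ : N → G` lies in the image -/
theorem mem_range_of_smul_mem (hinj : Function.Injective φ)
    (he1 : E1 (IsLocalRing.maximalIdeal O) N) (htf : TF (IsLocalRing.maximalIdeal O) G)
    (ζ : G) (h : ∀ μ ∈ IsLocalRing.maximalIdeal O, μ • ζ ∈ LinearMap.range φ) :
    ζ ∈ LinearMap.range φ := by
  choose! pre hpre using h
  -- the linear map `μ ↦ φ⁻¹(μ ζ)`
  let ψ : ↥(IsLocalRing.maximalIdeal O) →ₗ[O] N :=
    { toFun := fun μ => pre μ.1
      map_add' := fun μ ν => by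
        apply hinj
        rw [map_add, hpre _ (μ + ν).2, hpre _ μ.2, hpre _ ν.2]
        exact add_smul _ _ _
      map_smul' := fun a μ => by
        apply hinj
        rw [RingHom.id_apply, map_smul, hpre _ (a • μ).2, hpre _ μ.2]
        exact mul_smul _ _ _ }
  obtain ⟨n₀, hn₀⟩ := he1 ψ
  refine ⟨n₀, ?_⟩
  rw [← sub_eq_zero]
  apply htf
  intro μ hμ
  have h1 : φ (pre μ) = μ • ζ := hpre μ hμ
  have h2 : pre μ = μ • n₀ := hn₀ ⟨μ, hμ⟩
  rw [smul_sub, ← map_smul, ← h2, h1, sub_self]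

theorem mem_range_of_pow_smul_mem (hinj : Function.Injective φ)
    (he1 : E1 (IsLocalRing.maximalIdeal O) N) (htf : TF (IsLocalRing.maximalIdeal O) G) (k : ℕ) :
    ∀ ζ : G, (∀ μ ∈ (IsLocalRing.maximalIdeal O) ^ k, μ • ζ ∈ LinearMap.range φ) →
      ζ ∈ LinearMap.range φ := by
  induction k with
  | zero =>
    intro ζ h
    have h1 : (1 : O) ∈ (IsLocalRing.maximalIdeal O) ^ 0 := by
      rw [pow_zero, Ideal.one_eq_top]; trivial
    have := h (1 : O) h1
    rwa [one_smul] at this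
  | succ k ih =>
    intro ζ h
    apply mem_range_of_smul_mem φ hinj he1 htf
    intro ν hν
    apply ih
    intro μ hμ
    rw [← mul_smul]
    apply h
    rw [pow_succ]
    exact Ideal.mul_mem_mul hμ hν

end AlgCore

variable {X : Scheme.{u}}

section VanIdeal

variable (Z : Set X) (hZ : StableUnderSpecialization Z)

open Groth.Agent.Lib.Hartogs in
theorem vanIdeal_clPoint {V : X.Opens} (hV : IsAffineOpen V) (y : X) (hy : y ∈ Z) (hyV : y ∈ V) :
    vanIdeal hV (clPoint Z hZ y hy).U = (hV.primeIdealOf ⟨y, hyV⟩).asIdeal := by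
  apply le_antisymm
  · exact iInf₂_le (⟨y, hyV⟩ : V) (not_mem_clPoint_U Z hZ y hy)
  · refine le_iInf₂ fun q hq => ?_
    have hq' : q.1 ∈ closure {y} := by
      by_contra hcon
      exact hq hcon
    exact (primeIdealOf_le_iff hV ⟨y, hyV⟩ q).mpr (specializes_iff_mem_closure.mpr hq')

end VanIdeal

section StalkTFE1

variable [IsLocallyNoetherian X] (Z : Set X) (hZ : StableUnderSpecialization Z)
  (G : X.Modules) [G.IsQuasicoherent]

include hZ in
/-- the stalk of a Z-pure quasi-coherent module at a point of `Z` has no element killed by the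
maximal ideal -/
theorem tf_stalk_of_isZPure (hG : ZClos.IsZPure Z G) (y : X) (hy : y ∈ Z) :
    TF (IsLocalRing.maximalIdeal (X.presheaf.stalk y)) (G.presheaf.stalk y) := by
  obtain ⟨V, hV, hyV, -⟩ := exists_affine_nhds (x := y) (W := ⊤) trivial
  haveI : IsNoetherianRing Γ(X, V) := IsLocallyNoetherian.component_noetherian ⟨V, hV⟩
  let T := clPoint Z hZ y hy
  have h1 : TF (Groth.Agent.Lib.Hartogs.vanIdeal hV T.U) Γ(G, V) :=
    Groth.Agent.Lib.HartogsConverse.tf_of_res_injective G hV T.U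
      ((isZPure_iff_sections' Z G).mp hG T V)
  rw [vanIdeal_clPoint Z hZ hV y hy hyV] at h1
  letI : Algebra Γ(X, V) (X.presheaf.stalk y) := X.presheaf.algebra_section_stalk ⟨y, hyV⟩
  letI := moduleSectionStalk G (⟨y, hyV⟩ : V)
  haveI := isScalarTower_sectionStalk G (⟨y, hyV⟩ : V)
  haveI : IsLocalizedModule (hV.primeIdealOf ⟨y, hyV⟩).asIdeal.primeCompl
      (germLinear G (⟨y, hyV⟩ : V)) := isLocalizedModule_germ G hV ⟨y, hyV⟩
  haveI := hV.isLocalization_stalk ⟨y, hyV⟩
  exact tf_localized (hV.primeIdealOf ⟨y, hyV⟩).asIdeal (X.presheaf.stalk y)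
    (germLinear G (⟨y, hyV⟩ : V))
    ((isNoetherianRing_iff_ideal_fg Γ(X, V)).mp inferInstance _) h1

include hZ in
/-- the stalk of a Z-closed quasi-coherent module at a point of `Z` satisfies `E1` for the
maximal ideal -/
theorem e1_stalk_of_isZClosed (hG : ZClos.IsZClosed Z G) (y : X) (hy : y ∈ Z) :
    E1 (IsLocalRing.maximalIdeal (X.presheaf.stalk y)) (G.presheaf.stalk y) := by
  obtain ⟨V, hV, hyV, -⟩ := exists_affine_nhds (x := y) (W := ⊤) trivial
  haveI : IsNoetherianRing Γ(X, V) := IsLocallyNoetherian.component_noetherian ⟨V, hV⟩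
  let T := clPoint Z hZ y hy
  have h1 : E1 (Groth.Agent.Lib.Hartogs.vanIdeal hV T.U) Γ(G, V) :=
    Groth.Agent.Lib.HartogsConverse.e1_of_res_bijective G hV T.U
      (res_bijective_of_isZClosed Z G hG T V)
  rw [vanIdeal_clPoint Z hZ hV y hy hyV] at h1
  letI : Algebra Γ(X, V) (X.presheaf.stalk y) := X.presheaf.algebra_section_stalk ⟨y, hyV⟩
  letI := moduleSectionStalk G (⟨y, hyV⟩ : V)
  haveI := isScalarTower_sectionStalk G (⟨y, hyV⟩ : V)
  haveI : IsLocalizedModule (hV.primeIdealOf ⟨y, hyV⟩).asIdeal.primeCompl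
      (germLinear G (⟨y, hyV⟩ : V)) := isLocalizedModule_germ G hV ⟨y, hyV⟩
  haveI := hV.isLocalization_stalk ⟨y, hyV⟩
  exact e1_localized (hV.primeIdealOf ⟨y, hyV⟩).asIdeal (X.presheaf.stalk y)
    (germLinear G (⟨y, hyV⟩ : V)) h1

end StalkTFE1

section Generize

open Groth.Agent.Lib.ModStalkLin

lemma isUnit_germ_of_specializes {V : X.Opens} {x y : X} (hyx : y ⤳ x) (hxV : x ∈ V)
    (w : Γ(X, V)) (hw : IsUnit (X.presheaf.germ V x hxV w)) :
    IsUnit (X.presheaf.germ V y (hyx.mem_open V.2 hxV) w) := by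
  have hx : x ∈ X.basicOpen w := (X.mem_basicOpen w x hxV).mpr hw
  have hy : y ∈ X.basicOpen w := hyx.mem_open (X.basicOpen w).2 hx
  exact (X.mem_basicOpen w y (hyx.mem_open V.2 hxV)).mp hy

/-- surjectivity of the stalk map of a morphism of quasi-coherent modules passes to
generizations -/
theorem stalkLin_surjective_of_specializes {M N : X.Modules} [M.IsQuasicoherent]
    [N.IsQuasicoherent] (φ : M ⟶ N) {x y : X} (hyx : y ⤳ x)
    (hs : Function.Surjective (stalkLin φ x)) : Function.Surjective (stalkLin φ y) := by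
  intro ζ
  obtain ⟨V, hV, hxV, -⟩ := exists_affine_nhds (x := x) (W := ⊤) trivial
  have hyV : y ∈ V := hyx.mem_open V.2 hxV
  obtain ⟨g, n, hg, hgn⟩ := exists_germ_smul_eq_germ N hV y hyV ζ
  obtain ⟨η, hη⟩ := hs (N.presheaf.germ V x hxV n)
  obtain ⟨v, s, hv, hvs⟩ := exists_germ_smul_eq_germ M hV x hxV η
  have h1 : N.presheaf.germ V x hxV (φ.app V s - v • n) = 0 := by
    rw [map_sub, ← stalkLin_germ, ← hvs, map_smul, hη, germ_smul, sub_self]
  obtain ⟨w, hw, hw0⟩ := exists_smul_eq_zero_of_germ_eq_zero N hV x hxV _ h1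
  have hvy : IsUnit (X.presheaf.germ V y hyV v) := isUnit_germ_of_specializes hyx hxV v hv
  have hwy : IsUnit (X.presheaf.germ V y hyV w) := isUnit_germ_of_specializes hyx hxV w hw
  have h2 : N.presheaf.germ V y hyV (φ.app V s) =
      X.presheaf.germ V y hyV v • N.presheaf.germ V y hyV n := by
    have h3 := congrArg (N.presheaf.germ V y hyV) hw0
    rw [germ_smul, map_zero, map_sub, germ_smul] at h3
    have h4 := hwy.smul_eq_zero.mp h3
    exact sub_eq_zero.mp h4
  refine ⟨((hg.unit⁻¹ * hvy.unit⁻¹ : (X.presheaf.stalk y)ˣ) : X.presheaf.stalk y) •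
    M.presheaf.germ V y hyV s, ?_⟩
  rw [map_smul, stalkLin_germ, h2, ← hgn, ← mul_smul, ← mul_smul, Units.val_mul]
  have : ((hg.unit⁻¹ : (X.presheaf.stalk y)ˣ) : X.presheaf.stalk y) *
      ((hvy.unit⁻¹ : (X.presheaf.stalk y)ˣ) : X.presheaf.stalk y) *
      X.presheaf.germ V y hyV v * X.presheaf.germ V y hyV g = 1 := by
    rw [mul_assoc (hg.unit⁻¹ : (X.presheaf.stalk y)ˣ).1, IsUnit.val_inv_mul, mul_one,
      IsUnit.val_inv_mul]
  rw [this, one_smul]

end Generize

section Main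

open Groth.Agent.Lib.ModStalkLin

variable [IsLocallyNoetherian X] (Z : Set X) (hZ : StableUnderSpecialization Z)
  (F : X.Modules) (hF : Coh.IsCoh F)

omit [IsLocallyNoetherian X] in
lemma rhoStalk_eq_stalkLin (x : X) :
    ⇑(ConcreteCategory.hom (ZClos.rhoStalk Z F x)) = ⇑(stalkLin (ZClos.rhoApp Z F) x) := rfl

include hZ hF in
/-- `⇒` of S5856 -/
theorem two_le_depth_of_isZClosedAt (x : X) (hc : ZClos.IsZClosedAt Z F x) (y : X)
    (hyx : y ⤳ x) (hyZ : y ∈ Z) :
    (2 : ℕ∞) ≤ LocCoh.depth (X.presheaf.stalk y) (F.presheaf.stalk y) := by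
  haveI : F.IsQuasicoherent := hF.1
  haveI : ((ZClos.H0 Z).obj F).IsQuasicoherent := isQuasicoherent_H0 Z F
  have hclosed : ZClos.IsZClosed Z ((ZClos.H0 Z).obj F) := isZClosed_H0 Z F
  have hpure : ZClos.IsZPure Z ((ZClos.H0 Z).obj F) := isZPure_of_isZClosed Z _ hclosed
  -- `ρ_y` is bijective
  have hinj : Function.Injective (stalkLin (ZClos.rhoApp Z F) y) := by
    have h1 : ZClos.IsZPureAt Z F x := hc.1
    rw [isZPureAt_iff Z hZ F hF] at h1
    have h2 : ZClos.IsZPureAt Z F y := by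
      rw [isZPureAt_iff Z hZ F hF]
      intro x' hx'y hx'Z
      exact h1 x' (hx'y.trans hyx) hx'Z
    exact h2
  have hsurj : Function.Surjective (stalkLin (ZClos.rhoApp Z F) y) :=
    stalkLin_surjective_of_specializes (ZClos.rhoApp Z F) hyx hc.2
  let e : F.presheaf.stalk y ≃ₗ[X.presheaf.stalk y] ((ZClos.H0 Z).obj F).presheaf.stalk y :=
    LinearEquiv.ofBijective (stalkLin (ZClos.rhoApp Z F) y) ⟨hinj, hsurj⟩
  have htf : TF (IsLocalRing.maximalIdeal (X.presheaf.stalk y)) (F.presheaf.stalk y) :=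
    (tf_stalk_of_isZPure Z hZ _ hpure y hyZ).of_equiv e
  have he1 : E1 (IsLocalRing.maximalIdeal (X.presheaf.stalk y)) (F.presheaf.stalk y) :=
    (e1_stalk_of_isZClosed Z hZ _ hclosed y hyZ).of_equiv e
  haveI := Groth.Agent.Lib.CohFinite.finite_stalk_of_isCoh F hF y
  exact (two_le_idealDepth_iff _ _).mpr ⟨htf, he1⟩

set_option quotPrecheck false in
local notation "ρ" => ZClos.rhoApp Z F
set_option quotPrecheck false in
local notation "G" => Functor.obj (ZClos.H0 Z) F

open Groth.Agent.Lib.AssPoints Groth.Agent.Lib.WeakAssFinite in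
include hZ hF in
/-- `⇐` of S5856 -/
theorem isZClosedAt_of_depth (x : X)
    (h : ∀ x' : X, x' ⤳ x → x' ∈ Z →
      (2 : ℕ∞) ≤ LocCoh.depth (X.presheaf.stalk x') (F.presheaf.stalk x')) :
    ZClos.IsZClosedAt Z F x := by
  haveI : F.IsQuasicoherent := hF.1
  haveI : ((ZClos.H0 Z).obj F).IsQuasicoherent := isQuasicoherent_H0 Z F
  have hclosed : ZClos.IsZClosed Z ((ZClos.H0 Z).obj F) := isZClosed_H0 Z F
  have hpure : ZClos.IsZPure Z ((ZClos.H0 Z).obj F) := isZPure_of_isZClosed Z _ hclosed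
  have h1 : ∀ x' : X, x' ⤳ x → x' ∈ Z →
      (1 : ℕ∞) ≤ LocCoh.depth (X.presheaf.stalk x') (F.presheaf.stalk x') :=
    fun x' a b => le_trans (by norm_num) (h x' a b)
  refine ⟨isZPureAt_of_depth Z F hF x h1, ?_⟩
  show Function.Surjective (stalkLin ρ x)
  by_contra hns
  rw [Function.Surjective] at hns
  push Not at hns
  obtain ⟨ξ, hξ⟩ := hns
  obtain ⟨V, hV, hxV, -⟩ := exists_affine_nhds (x := x) (W := ⊤) trivial
  haveI : IsNoetherianRing Γ(X, V) := IsLocallyNoetherian.component_noetherian ⟨V, hV⟩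
  obtain ⟨g₀, γ, hg₀, hgγ⟩ := exists_germ_smul_eq_germ G hV x hxV ξ
  have hγ : (G).presheaf.germ V x hxV γ ∉ LinearMap.range (stalkLin ρ x) := by
    rintro ⟨a, ha⟩
    apply hξ (((hg₀.unit⁻¹ : (X.presheaf.stalk x)ˣ) : X.presheaf.stalk x) • a)
    rw [map_smul, ha, ← hgγ, ← mul_smul, IsUnit.val_inv_mul, one_smul]
  let I : Ideal Γ(X, V) := (LinearMap.range (appLin ρ V)).colon {γ}
  have hI : ∀ a : Γ(X, V), a ∈ I ↔ ∃ s : Γ(F, V), (ρ).app V s = a • γ := by
    intro a
    rw [Submodule.mem_colon_singleton, LinearMap.mem_range]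
    rfl
  have hIx : I ≤ (hV.primeIdealOf ⟨x, hxV⟩).asIdeal := by
    intro a ha
    by_contra hax
    have hu : IsUnit (X.presheaf.germ V x hxV a) := (isUnit_germ_iff hV ⟨x, hxV⟩ a).mpr hax
    obtain ⟨s, hs⟩ := (hI a).mp ha
    apply hγ
    refine ⟨((hu.unit⁻¹ : (X.presheaf.stalk x)ˣ) : X.presheaf.stalk x) •
      F.presheaf.germ V x hxV s, ?_⟩
    rw [map_smul, stalkLin_germ, hs, germ_smul, ← mul_smul, IsUnit.val_inv_mul, one_smul]
  obtain ⟨P, hP, hPx⟩ := Ideal.exists_minimalPrimes_le hIx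
  haveI : P.IsPrime := hP.1.1
  let Q : PrimeSpectrum Γ(X, V) := ⟨P, inferInstance⟩
  set y : X := hV.fromSpec Q with hy
  have hyV : y ∈ V := fromSpec_mem hV Q
  have hprime : (hV.primeIdealOf ⟨y, hyV⟩).asIdeal = P := by
    rw [primeIdealOf_fromSpec hV Q]
  have hyx : y ⤳ x :=
    (primeIdealOf_le_iff hV ⟨y, hyV⟩ ⟨x, hxV⟩).mp (by rw [hprime]; exact hPx)
  have hunit : ∀ g : Γ(X, V), IsUnit (X.presheaf.germ V y hyV g) ↔ g ∉ P := by
    intro g
    rw [isUnit_germ_iff hV ⟨y, hyV⟩ g, hprime]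
  set ζ := (G).presheaf.germ V y hyV γ with hζ
  -- Claim A
  have hA : ζ ∉ LinearMap.range (stalkLin ρ y) := by
    rintro ⟨η, hη⟩
    obtain ⟨v, s, hv, hvs⟩ := exists_germ_smul_eq_germ F hV y hyV η
    have h0 : (G).presheaf.germ V y hyV ((ρ).app V s - v • γ) = 0 := by
      rw [map_sub, ← stalkLin_germ, ← hvs, map_smul, hη, germ_smul, sub_self]
    obtain ⟨w, hw, hw0⟩ := exists_smul_eq_zero_of_germ_eq_zero G hV y hyV _ h0
    have hwv : w * v ∈ I := by
      rw [hI]
      refine ⟨w • s, ?_⟩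
      rw [smul_sub, sub_eq_zero] at hw0
      rw [Scheme.Modules.Hom.app_smul, hw0, mul_smul]
    have hmem := hP.1.2 hwv
    rcases (inferInstance : P.IsPrime).mem_or_mem hmem with h3 | h3
    · exact (hunit w).mp hw h3
    · exact (hunit v).mp hv h3
  -- Claim B
  have hyZ : y ∈ Z := by
    by_contra hyZ
    obtain ⟨η, hη⟩ := (isZClosedAt_of_not_mem Z F y hyZ).2 ζ
    exact hA ⟨η, (hη : stalkLin ρ y η = ζ)⟩
  -- Claim C
  have hd2 := h y hyx hyZ
  have hinj : Function.Injective (stalkLin ρ y) := by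
    have h2 : ZClos.IsZPureAt Z F y :=
      isZPureAt_of_depth Z F hF y (fun x' a b => h1 x' (a.trans hyx) b)
    exact h2
  haveI := Groth.Agent.Lib.CohFinite.finite_stalk_of_isCoh F hF y
  have he1 : E1 (IsLocalRing.maximalIdeal (X.presheaf.stalk y)) (F.presheaf.stalk y) :=
    ((two_le_idealDepth_iff _ _).mp hd2).2
  have htf : TF (IsLocalRing.maximalIdeal (X.presheaf.stalk y)) ((G).presheaf.stalk y) :=
    tf_stalk_of_isZPure Z hZ G hpure y hyZ
  -- Claim F
  obtain ⟨k, hk⟩ : ∃ k : ℕ, ∀ μ ∈ (IsLocalRing.maximalIdeal (X.presheaf.stalk y)) ^ k,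
      μ • ζ ∈ LinearMap.range (stalkLin ρ y) := by
    let Iy : Ideal (X.presheaf.stalk y) := (LinearMap.range (stalkLin ρ y)).colon {ζ}
    have hrad : IsLocalRing.maximalIdeal (X.presheaf.stalk y) ≤ Iy.radical := by
      intro μ hμ
      letI : Algebra Γ(X, V) (X.presheaf.stalk y) := X.presheaf.algebra_section_stalk ⟨y, hyV⟩
      haveI := hV.isLocalization_stalk ⟨y, hyV⟩
      obtain ⟨⟨c, u⟩, hcu⟩ :=
        IsLocalization.surj (hV.primeIdealOf ⟨y, hyV⟩).asIdeal.primeCompl μ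
      have hcu' : μ * X.presheaf.germ V y hyV u.1 = X.presheaf.germ V y hyV c := hcu
      have huu : IsUnit (X.presheaf.germ V y hyV u.1) :=
        (hunit _).mpr (by rw [← hprime]; exact u.2)
      have hcP : c ∈ P := by
        by_contra hc
        have hcu2 := (hunit c).mpr hc
        rw [← hcu'] at hcu2
        exact (IsLocalRing.mem_maximalIdeal μ).mp hμ (isUnit_of_mul_isUnit_left hcu2)
      obtain ⟨s, hs, n, hn⟩ := exists_mul_pow_mem_of_mem_minimalPrimes hP hcP
      obtain ⟨t, ht⟩ := (hI _).mp hn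
      have hsu : IsUnit (X.presheaf.germ V y hyV s) := (hunit s).mpr hs
      refine ⟨n, ?_⟩
      rw [Submodule.mem_colon_singleton]
      refine ⟨(((hsu.unit⁻¹ * (huu.unit⁻¹) ^ n : (X.presheaf.stalk y)ˣ)) : X.presheaf.stalk y) •
        F.presheaf.germ V y hyV t, ?_⟩
      rw [map_smul, stalkLin_germ, ht, germ_smul, map_mul, map_pow, ← hcu', mul_pow, ← mul_smul]
      congr 1
      rw [Units.val_mul, Units.val_pow_eq_pow_val]
      have e1 : ((hsu.unit⁻¹ : (X.presheaf.stalk y)ˣ) : X.presheaf.stalk y) *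
          X.presheaf.germ V y hyV s = 1 := IsUnit.val_inv_mul hsu
      have e2 : ((huu.unit⁻¹ : (X.presheaf.stalk y)ˣ) : X.presheaf.stalk y) ^ n *
          X.presheaf.germ V y hyV u.1 ^ n = 1 := by
        rw [← mul_pow, IsUnit.val_inv_mul huu, one_pow]
      calc _ = (((hsu.unit⁻¹ : (X.presheaf.stalk y)ˣ) : X.presheaf.stalk y) *
            X.presheaf.germ V y hyV s) * ((((huu.unit⁻¹ : (X.presheaf.stalk y)ˣ) :
            X.presheaf.stalk y) ^ n * X.presheaf.germ V y hyV u.1 ^ n)) * μ ^ n := by ring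
        _ = μ ^ n := by rw [e1, e2, one_mul, one_mul]
    have hfg : (IsLocalRing.maximalIdeal (X.presheaf.stalk y)).FG :=
      (isNoetherianRing_iff_ideal_fg _).mp inferInstance _
    obtain ⟨k, hk⟩ := Ideal.exists_pow_le_of_le_radical_of_fg hrad hfg
    exact ⟨k, fun μ hμ => (Submodule.mem_colon_singleton).mp (hk hμ)⟩
  exact hA (mem_range_of_pow_smul_mem (stalkLin ρ y) hinj he1 htf k ζ hk)

include hZ hF in
/-- **S5856** -/
theorem isZClosedAt_iff (x : X) :
    ZClos.IsZClosedAt Z F x ↔ ∀ x' : X, x' ⤳ x → x' ∈ Z →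
      (2 : ℕ∞) ≤ LocCoh.depth (X.presheaf.stalk x') (F.presheaf.stalk x') :=
  ⟨fun hc x' h1 h2 => two_le_depth_of_isZClosedAt Z hZ F hF x hc x' h1 h2,
    fun h => isZClosedAt_of_depth Z hZ F hF x h⟩

end Main

end Groth.Agent.Lib.ZClos5
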