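import Mathlib
import Groth.Agent.Lib.ParaFact82a
import Groth.Agent.Lib.UfdPunct82
import Groth.Agent.Lib.PicUFD82
import Groth.Agent.Lib.ZClos5O
import Groth.Agent.Lib.HartogsO
import Groth.Agent.S5856
import Groth.Prelude.Def_ParaF

/-!
# Parafactorial pairs and local factoriality, part b (helper82)
-/

set_option autoImplicit false
universe u

namespace Groth.Agent.Lib.ParaFact82

section Sch2

open CategoryTheory AlgebraicGeometry TopologicalSpace Opposite
open Groth.Agent.Lib.H90Invertible Groth.Agent.Lib.IdealMod Groth.Agent.Lib.PicUFD82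
open Groth.Agent.Lib.LocFact82

variable {X : Scheme.{u}}

/-- membership in a basic open of an affine open in terms of the prime ideal of the point -/
theorem mem_basicOpen_iff_notMem_primeIdealOf {W : X.Opens} (hW : IsAffineOpen W) (g : Γ(X, W))
    (z : X) (hz : z ∈ W) : z ∈ X.basicOpen g ↔ g ∉ (hW.primeIdealOf ⟨z, hz⟩).asIdeal := by
  let algz : Algebra Γ(X, W) (X.presheaf.stalk z) :=
    TopCat.Presheaf.algebra_section_stalk X.presheaf ⟨z, hz⟩
  have locz : IsLocalization.AtPrime (X.presheaf.stalk z) (hW.primeIdealOf ⟨z, hz⟩).asIdeal :=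
    hW.isLocalization_stalk ⟨z, hz⟩
  rw [Scheme.mem_basicOpen _ _ _ hz]
  exact IsLocalization.AtPrime.isUnit_to_map_iff (X.presheaf.stalk z) _ g

/-- an open set containing all proper generizations of `x` contains a punctured neighbourhood of `x`
relative to the closure of `x` -/
theorem exists_open_subset_of_generizations [IsLocallyNoetherian X] (x : X) (G : X.Opens)
    (hG : ∀ z : X, z ⤳ x → z ≠ x → z ∈ G) :
    ∃ V : X.Opens, x ∈ V ∧ ∀ z ∈ V, z ∉ closure {x} → z ∈ G := by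
  classical
  obtain ⟨W, hW, hxW, -⟩ := exists_isAffineOpen_mem_and_subset (U := ⊤) (x := x) (by simp)
  have hN : IsNoetherianRing Γ(X, W) := IsLocallyNoetherian.component_noetherian ⟨W, hW⟩
  set px := hW.primeIdealOf ⟨x, hxW⟩ with hpx
  have hfx : hW.fromSpec px = x := hW.fromSpec_primeIdealOf ⟨x, hxW⟩
  -- the closed complement of `G` in `Spec Γ(X, W)`
  have hC : IsClosed {p : PrimeSpectrum Γ(X, W) | hW.fromSpec p ∉ G} := by
    have : {p : PrimeSpectrum Γ(X, W) | hW.fromSpec p ∉ G} = (hW.fromSpec ⁻¹' (G : Set X))ᶜ := rfl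
    rw [this]
    exact (G.2.preimage hW.fromSpec.continuous).isClosed_compl
  obtain ⟨J, hJ⟩ := (PrimeSpectrum.isClosed_iff_zeroLocus_ideal _).mp hC
  have key : ∀ a ∈ px.asIdeal, ∃ v : Γ(X, W), v ∉ px.asIdeal ∧ v * a ∈ J.radical := by
    intro a ha
    by_contra hcon
    push Not at hcon
    set S : Submonoid Γ(X, W) := px.asIdeal.primeCompl ⊔ Submonoid.powers a with hS
    have hdisj : Disjoint (J : Set Γ(X, W)) (S : Set Γ(X, W)) := by
      rw [Set.disjoint_left]
      intro s hsJ hsS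
      obtain ⟨v, hv, y, ⟨n, rfl⟩, rfl⟩ := Submonoid.mem_sup.mp hsS
      refine hcon v hv ⟨n + 1, ?_⟩
      have : (v * a) ^ (n + 1) = (v ^ n * a) * (v * a ^ n) := by ring
      rw [this]
      exact Ideal.mul_mem_left _ _ hsJ
    obtain ⟨q', hq'prime, hJq', hq'S⟩ := Ideal.exists_le_prime_disjoint J S hdisj
    have hq'le : q' ≤ px.asIdeal := by
      intro b hb
      by_contra hbn
      exact Set.disjoint_left.mp hq'S hb (Submonoid.mem_sup_left hbn)
    have haq' : a ∉ q' := fun h =>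
      Set.disjoint_left.mp hq'S h (Submonoid.mem_sup_right (Submonoid.mem_powers a))
    set pq' : PrimeSpectrum Γ(X, W) := ⟨q', hq'prime⟩ with hpq'
    have hmemC : pq' ∈ {p : PrimeSpectrum Γ(X, W) | hW.fromSpec p ∉ G} := by
      rw [hJ, PrimeSpectrum.mem_zeroLocus]
      exact hJq'
    have hspec : hW.fromSpec pq' ⤳ x := by
      rw [← hfx]
      exact ((PrimeSpectrum.le_iff_specializes pq' px).mp hq'le).map hW.fromSpec.continuous
    have hne : hW.fromSpec pq' ≠ x := by
      rw [← hfx]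
      intro e
      have := hW.fromSpec.isOpenEmbedding.injective e
      rw [← this] at ha
      exact haq' ha
    exact hmemC (hG _ hspec hne)
  obtain ⟨g, hgpx, hg⟩ := exists_uniform_mul (q := px.asIdeal) px.asIdeal
    (IsNoetherian.noetherian _) (fun g a => g * a ∈ J.radical)
    (fun g a b ha hb => by rw [mul_add]; exact Ideal.add_mem _ ha hb)
    (fun g c a ha => by rw [mul_left_comm]; exact Ideal.mul_mem_left _ _ ha)
    (fun g g' a ha => by rw [mul_assoc]; exact Ideal.mul_mem_left _ _ ha)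
    (fun g => by rw [mul_zero]; exact Ideal.zero_mem _) key
  refine ⟨X.basicOpen g, (mem_basicOpen_iff_notMem_primeIdealOf hW g x hxW).mpr hgpx, ?_⟩
  intro z hz hzcl
  by_contra hzG
  have hzW : z ∈ W := X.basicOpen_le g hz
  set pz := hW.primeIdealOf ⟨z, hzW⟩ with hpz
  have hfz : hW.fromSpec pz = z := hW.fromSpec_primeIdealOf ⟨z, hzW⟩
  have hgz : g ∉ pz.asIdeal := (mem_basicOpen_iff_notMem_primeIdealOf hW g z hzW).mp hz
  have hmemC : pz ∈ {p : PrimeSpectrum Γ(X, W) | hW.fromSpec p ∉ G} := by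
    change hW.fromSpec pz ∉ G
    rw [hfz]; exact hzG
  rw [hJ, PrimeSpectrum.mem_zeroLocus] at hmemC
  have hrad : J.radical ≤ pz.asIdeal := (Ideal.IsPrime.radical_le_iff pz.isPrime).mpr hmemC
  have hle : px.asIdeal ≤ pz.asIdeal := by
    intro a ha
    exact (pz.isPrime.mem_or_mem (hrad (hg a ha))).resolve_left hgz
  apply hzcl
  rw [← specializes_iff_mem_closure, ← hfx, ← hfz]
  exact ((PrimeSpectrum.le_iff_specializes px pz).mp hle).map hW.fromSpec.continuous

/-- a section on an affine open lies in the prime of a point iff its germ is in the maximal ideal -/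
theorem mem_primeIdealOf_iff_germ_mem {W : X.Opens} (hW : IsAffineOpen W) (g : Γ(X, W))
    (z : X) (hz : z ∈ W) : g ∈ (hW.primeIdealOf ⟨z, hz⟩).asIdeal ↔
      X.presheaf.germ W z hz g ∈ IsLocalRing.maximalIdeal (X.presheaf.stalk z) := by
  rw [IsLocalRing.mem_maximalIdeal, mem_nonunits_iff, ← Scheme.mem_basicOpen _ _ _ hz,
    mem_basicOpen_iff_notMem_primeIdealOf hW g z hz, not_not]

/-- from the essential surjectivity of restriction of invertible modules: an ideal sheaf which is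
locally generated by a nonzerodivisor on `V₀ ∖ Y'` has a free generator on `N' ∖ Y'` for some open
neighbourhood `N'` of any given point of `V₀` -/
theorem exists_isGen_punctured (I : X.IdealSheafData) (Y' : Closeds X) (V₀ : X.Opens)
    (hire : ParaF.InvRestrictEquiv (X.homOfLE (inf_le_left : V₀ ⊓ Y'.compl ≤ V₀)))
    (hI : ∀ z ∈ V₀ ⊓ Y'.compl, ∃ (V : X.affineOpens) (f : Γ(X, V.1)), z ∈ V.1 ∧
      f ∈ nonZeroDivisors Γ(X, V.1) ∧ I.ideal V = Ideal.span {f})
    (x : X) (hx : x ∈ V₀) :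
    ∃ N' : X.Opens, x ∈ N' ∧ ∃ s : Γ(ClSub.idealMod I, N' ⊓ Y'.compl),
      IsGen (ClSub.idealMod I) (N' ⊓ Y'.compl) s := by
  set j := X.homOfLE (inf_le_left : V₀ ⊓ Y'.compl ≤ V₀) with hj
  have hL₀ := Groth.Agent.Lib.UfdPunct82.isInvertible_restrict_idealMod I (V₀ ⊓ Y'.compl) hI
  obtain ⟨L, hL, ⟨e⟩⟩ := hire.2 _ hL₀
  obtain ⟨N, hxN, t, ht⟩ := (isInvertible_iff_exists_isGen L).mp hL ⟨x, hx⟩
  have h1 : IsGen (L.restrict j) (j ⁻¹ᵁ N) (L.presheaf.map (homOfLE (j.image_preimage_le N)).op t) :=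
    (isGen_restrict_iff j L _ _).mpr (ht.mono _)
  have h2 := h1.of_iso e
  have h3 := (isGen_restrict_iff (V₀ ⊓ Y'.compl).ι (ClSub.idealMod I) (j ⁻¹ᵁ N) _).mp h2
  have eq1 : (V₀ ⊓ Y'.compl).ι ''ᵁ (j ⁻¹ᵁ N) = V₀.ι ''ᵁ N ⊓ Y'.compl := by
    rw [hj, Scheme.ι_image_homOfLE_eq_ι_image_inf, ← inf_assoc, inf_eq_left.mpr (V₀.ι_image_le N)]
  exact ⟨V₀.ι ''ᵁ N, ⟨⟨x, hx⟩, hxN, rfl⟩, _, h3.of_eq eq1.symm⟩

/-- if the ideal sheaf `I` of the closure of a generization `ζ ∉ Y'` of `x` has a free generator on a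
punctured neighbourhood `N' ∖ Y'` and functions extend uniquely across `Y'`, the
prime of `O_{X,x}` attached to `ζ` is principal -/
theorem exists_genPrime_eq_span (I : X.IdealSheafData) (Y' : Closeds X) (x ζ : X) (h : ζ ⤳ x)
    (hζY : ζ ∉ Y')
    (hIζ : ∀ (W : X.Opens) (hW : IsAffineOpen W) (hζ : ζ ∈ W),
      I.ideal ⟨W, hW⟩ = (hW.primeIdealOf ⟨ζ, hζ⟩).asIdeal)
    (hA : ∀ V : X.Opens, Function.Bijective (X.presheaf.map
      (homOfLE (inf_le_left : V ⊓ Y'.compl ≤ V)).op))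
    (N' : X.Opens) (hx : x ∈ N') (s : Γ(ClSub.idealMod I, N' ⊓ Y'.compl))
    (hs : IsGen (ClSub.idealMod I) (N' ⊓ Y'.compl) s) :
    ∃ f : X.presheaf.stalk x, genPrime X h = Ideal.span {f} := by
  obtain ⟨f, hf⟩ := (hA N').2 (idealFn I _ s)
  have hf' : rO X (inf_le_left : N' ⊓ Y'.compl ≤ N') f = idealFn I _ s := hf
  have hζN : ζ ∈ N' := h.mem_open N'.2 hx
  have hζU : ζ ∈ N' ⊓ Y'.compl := ⟨hζN, hζY⟩
  refine ⟨X.presheaf.germ N' x hx f, le_antisymm ?_ ?_⟩
  · intro a ha
    obtain ⟨O₁, hxO₁, a₁, ha₁⟩ := TopCat.Presheaf.exists_germ_eq X.presheaf (x := x) a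
    obtain ⟨O', hO', hxO', hO'le⟩ := exists_isAffineOpen_mem_and_subset (U := O₁ ⊓ N') (x := x)
      ⟨hxO₁, hx⟩
    have hO'O₁ : O' ≤ O₁ := fun y hy => (hO'le hy).1
    have hO'N : O' ≤ N' := fun y hy => (hO'le hy).2
    have hζO' : ζ ∈ O' := h.mem_open O'.2 hxO'
    set α : Γ(X, O') := rO X hO'O₁ a₁ with hα
    have hαa : X.presheaf.germ O' x hxO' α = a := by
      rw [hα, rO, TopCat.Presheaf.germ_res_apply]
      exact ha₁
    have hαI : α ∈ I.ideal ⟨O', hO'⟩ := by
      rw [hIζ O' hO' hζO', mem_primeIdealOf_iff_germ_mem]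
      have : X.presheaf.germ O' ζ hζO' α = (X.presheaf.stalkSpecializes h).hom a := by
        rw [← hαa]
        exact (TopCat.Presheaf.germ_stalkSpecializes_apply X.presheaf hxO' h α).symm
      rw [this]
      exact ha
    obtain ⟨t, ht⟩ := exists_idealFn_eq I ⟨O', hO'⟩ hαI
    have hW : O' ⊓ Y'.compl ≤ N' ⊓ Y'.compl := inf_le_inf_right _ hO'N
    obtain ⟨b, hb⟩ := (hs (O' ⊓ Y'.compl) hW).2
      ((ClSub.idealMod I).presheaf.map (homOfLE (inf_le_left : O' ⊓ Y'.compl ≤ O')).op t)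
    have hb' := congrArg (idealFn I (O' ⊓ Y'.compl)) hb
    rw [idealFn_smul, idealFn_map, idealFn_map, ht, ← hf'] at hb'
    obtain ⟨β, hβ⟩ := (hA O').2 b
    have hβ' : rO X (inf_le_left : O' ⊓ Y'.compl ≤ O') β = b := hβ
    have hprod : β * rO X hO'N f = α := by
      apply (hA O').1
      change rO X (inf_le_left : O' ⊓ Y'.compl ≤ O') (β * rO X hO'N f) =
        rO X (inf_le_left : O' ⊓ Y'.compl ≤ O') α
      rw [rO, map_mul]
      change rO X _ β * rO X _ (rO X hO'N f) = rO X _ α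
      rw [hβ', rO_rO]
      change b * rO X hW (rO X _ f) = rO X _ α at hb'
      rw [rO_rO] at hb'
      exact hb'
    rw [Ideal.mem_span_singleton']
    refine ⟨X.presheaf.germ O' x hxO' β, ?_⟩
    rw [← hαa, ← hprod, map_mul]
    congr 1
    rw [rO, TopCat.Presheaf.germ_res_apply]
  · rw [Ideal.span_singleton_le_iff_mem]
    obtain ⟨O'', hO'', hζO'', hO''le⟩ := exists_isAffineOpen_mem_and_subset
      (U := N' ⊓ Y'.compl) (x := ζ) hζU
    have hle : O'' ≤ N' ⊓ Y'.compl := hO''le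
    have h1 := idealFn_mem I ⟨O'', hO''⟩ ((ClSub.idealMod I).presheaf.map (homOfLE hle).op s)
    rw [idealFn_map, ← hf'] at h1
    change rO X hle (rO X _ f) ∈ _ at h1
    rw [rO_rO, hIζ O'' hO'' hζO'', mem_primeIdealOf_iff_germ_mem, rO,
      TopCat.Presheaf.germ_res_apply] at h1
    rw [genPrime, Ideal.mem_comap]
    have : (X.presheaf.stalkSpecializes h).hom (X.presheaf.germ N' x hx f) =
        X.presheaf.germ N' ζ hζN f :=
      TopCat.Presheaf.germ_stalkSpecializes_apply X.presheaf hx h f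
    rw [this]
    exact h1

/-- if functions extend uniquely across every closed subset of `Y`, the local rings at the points of
`Y` have depth at least two -/
theorem depth_ge_two_of_res_bijective [IsLocallyNoetherian X] (Y : Closeds X)
    (hA : ∀ T : Closeds X, (T : Set X) ⊆ (Y : Set X) → ∀ W : X.Opens,
      Function.Bijective (X.presheaf.map (homOfLE (inf_le_left : W ⊓ T.compl ≤ W)).op))
    (x : X) (hx : x ∈ Y) :
    (2 : ℕ∞) ≤ LocCoh.depth (X.presheaf.stalk x) (X.presheaf.stalk x) := by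
  have hcl : ZClos.IsZClosedAt (Y : Set X) (Coh.structureModule X) x :=
    Groth.Agent.Lib.ZClos5.isZClosedAt_of_res_bijective (Y : Set X) (Coh.structureModule X) ⊤
      (fun T W _ => hA T.1 T.2 W) x trivial
  have h2 := (Groth.Agent.S5856.result X (Y : Set X) Y.isClosed.stableUnderSpecialization _
    (Groth.Agent.Lib.Hartogs.isCoh_structureModule X) x).mp hcl x specializes_rfl hx
  rwa [Groth.Agent.Lib.Hartogs.depth_structureModule] at h2

end Sch2

end Groth.Agent.Lib.ParaFact82
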