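import Mathlib
import Groth.Agent.Lib.UfdPunct82
import Groth.Agent.Lib.ParaFact82b
import Groth.Agent.Lib.PicUFD82b

set_option autoImplicit false
universe u

namespace Groth.Agent.Lib.GlueExt82


section Alg

variable {R : Type u} [CommRing R]

/-- Near a prime `P` whose local ring is factorial, the zero locus of a nonzero element `f` is cut
out by finitely many elements which become prime or invertible after inverting some `s ∉ P`. -/
theorem exists_away_primes [IsDomain R] [IsNoetherianRing R] (P : Ideal R) [P.IsPrime]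
    [UniqueFactorizationMonoid (Localization.AtPrime P)] (f : R) (hf : f ≠ 0) :
    ∃ (s : R) (cs : List R), s ∉ P ∧
      ∀ (R' : Type u) [CommRing R'] [Algebra R R'] [IsLocalization.Away s R'],
        (∀ c ∈ cs, Prime (algebraMap R R' c) ∨ IsUnit (algebraMap R R' c)) ∧
        (∀ 𝔮 : Ideal R', 𝔮.IsPrime →
          (algebraMap R R' f ∈ 𝔮 ↔ ∃ c ∈ cs, algebraMap R R' c ∈ 𝔮)) := by
  classical
  have hfin : (Ideal.span {f}).minimalPrimes.Finite :=
    Ideal.finite_minimalPrimes_of_isNoetherianRing R _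
  have hQ : ∀ Q ∈ (Ideal.span {f}).minimalPrimes, ∃ g : R, g ∉ P ∧ ∃ c : R, c ≠ 0 ∧ g * c ∈ Q ∧
      ∀ a ∈ Q, c ∣ g * a := by
    intro Q hQ
    have hQp : Q.IsPrime := hQ.1.1
    have hfQ : f ∈ Q := hQ.1.2 (Ideal.mem_span_singleton_self f)
    have hh : Q.height = 1 := by
      refine le_antisymm (Ideal.height_le_one_of_isPrincipal_of_mem_minimalPrimes _ Q hQ) ?_
      rw [Order.one_le_iff_ne_zero, Ne, Ideal.height_eq_zero_iff_eq_bot]
      rintro rfl
      exact hf (by simpa using hfQ)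
    exact Groth.Agent.Lib.UfdPunct82.exists_local_generator Q hh P
  choose! g hgP c hc0 hgc hdiv using hQ
  set S : Finset (Ideal R) := hfin.toFinset with hS
  refine ⟨∏ Q ∈ S, g Q, S.toList.map c, ?_, ?_⟩
  · intro hmem
    obtain ⟨Q, hQS, hgQ⟩ := (Ideal.IsPrime.prod_mem_iff (hp := ‹P.IsPrime›)).mp hmem
    exact hgP Q (hfin.mem_toFinset.mp hQS) hgQ
  intro R' _ _ _
  have hinj : Function.Injective (algebraMap R R') := by
    refine IsLocalization.injective R' (M := Submonoid.powers (∏ Q ∈ S, g Q)) ?_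
    refine Submonoid.powers_le.mpr (mem_nonZeroDivisors_of_ne_zero ?_)
    rw [Finset.prod_ne_zero_iff]
    intro Q hQS hg0
    exact hgP Q (hfin.mem_toFinset.mp hQS) (hg0 ▸ P.zero_mem)
  have hsu : IsUnit (algebraMap R R' (∏ Q ∈ S, g Q)) := IsLocalization.Away.algebraMap_isUnit _
  have hgu : ∀ Q ∈ S, IsUnit (algebraMap R R' (g Q)) := by
    intro Q hQS
    rw [← Finset.mul_prod_erase S g hQS, map_mul] at hsu
    exact isUnit_of_mul_isUnit_left hsu
  -- the ideal generated by `c Q` in `R'` is the extension of `Q`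
  have hspan : ∀ Q ∈ S, Ideal.span {algebraMap R R' (c Q)} = Q.map (algebraMap R R') := by
    intro Q hQS
    have hQm := hfin.mem_toFinset.mp hQS
    apply le_antisymm
    · rw [Ideal.span_singleton_le_iff_mem]
      have h1 : algebraMap R R' (g Q) * algebraMap R R' (c Q) ∈ Q.map (algebraMap R R') := by
        rw [← map_mul]; exact Ideal.mem_map_of_mem _ (hgc Q hQm)
      exact (Ideal.unit_mul_mem_iff_mem _ (hgu Q hQS)).mp h1
    · rw [Ideal.map_le_iff_le_comap]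
      intro a ha
      obtain ⟨b, hb⟩ := hdiv Q hQm a ha
      rw [Ideal.mem_comap]
      have h1 : algebraMap R R' (g Q) * algebraMap R R' a ∈ Ideal.span {algebraMap R R' (c Q)} := by
        rw [← map_mul, hb, map_mul]
        exact Ideal.mul_mem_right _ _ (Ideal.mem_span_singleton_self _)
      exact (Ideal.unit_mul_mem_iff_mem _ (hgu Q hQS)).mp h1
  constructor
  · intro c' hc'
    obtain ⟨Q, hQl, rfl⟩ := List.mem_map.mp hc'
    have hQS : Q ∈ S := Finset.mem_toList.mp hQl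
    have hQm := hfin.mem_toFinset.mp hQS
    have hQp : Q.IsPrime := hQm.1.1
    have hne : algebraMap R R' (c Q) ≠ 0 := fun h => hc0 Q hQm (hinj (by rw [h, map_zero]))
    by_cases hd : Disjoint ((Submonoid.powers (∏ Q ∈ S, g Q) : Submonoid R) : Set R) (Q : Set R)
    · left
      have := IsLocalization.isPrime_of_isPrime_disjoint (Submonoid.powers (∏ Q ∈ S, g Q)) R' Q hQp hd
      rw [← hspan Q hQS] at this
      exact (Ideal.span_singleton_prime hne).mp this
    · right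
      rw [Set.not_disjoint_iff] at hd
      obtain ⟨x, hxpow, hxQ⟩ := hd
      have h1 : algebraMap R R' x ∈ Ideal.span {algebraMap R R' (c Q)} := by
        rw [hspan Q hQS]; exact Ideal.mem_map_of_mem _ hxQ
      have h2 : IsUnit (algebraMap R R' x) := IsLocalization.map_units R' ⟨x, hxpow⟩
      obtain ⟨b, hb⟩ := Ideal.mem_span_singleton.mp h1
      rw [hb] at h2
      exact isUnit_of_mul_isUnit_left h2
  · intro 𝔮 h𝔮
    constructor
    · intro hfq
      have hle : Ideal.span {f} ≤ 𝔮.comap (algebraMap R R') := by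
        rw [Ideal.span_singleton_le_iff_mem, Ideal.mem_comap]; exact hfq
      obtain ⟨Q, hQm, hQle⟩ := Ideal.exists_minimalPrimes_le hle
      have hQS : Q ∈ S := hfin.mem_toFinset.mpr hQm
      refine ⟨c Q, List.mem_map.mpr ⟨Q, Finset.mem_toList.mpr hQS, rfl⟩, ?_⟩
      have h1 : algebraMap R R' (g Q) * algebraMap R R' (c Q) ∈ 𝔮 := by
        rw [← map_mul]; exact hQle (hgc Q hQm)
      exact (h𝔮.mem_or_mem h1).resolve_left
        (fun h => h𝔮.ne_top (Ideal.eq_top_of_isUnit_mem _ h (hgu Q hQS)))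
    · rintro ⟨c', hc', hcq⟩
      obtain ⟨Q, hQl, rfl⟩ := List.mem_map.mp hc'
      have hQS : Q ∈ S := Finset.mem_toList.mp hQl
      have hQm := hfin.mem_toFinset.mp hQS
      have hfQ : f ∈ Q := hQm.1.2 (Ideal.mem_span_singleton_self f)
      obtain ⟨b, hb⟩ := hdiv Q hQm f hfQ
      have h1 : algebraMap R R' (g Q) * algebraMap R R' f ∈ 𝔮 := by
        rw [← map_mul, hb, map_mul]
        exact Ideal.mul_mem_right _ _ hcq
      exact (h𝔮.mem_or_mem h1).resolve_left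
        (fun h => h𝔮.ne_top (Ideal.eq_top_of_isUnit_mem _ h (hgu Q hQS)))

end Alg




open CategoryTheory AlgebraicGeometry TopologicalSpace Opposite
open Groth.Agent.Lib.H90Invertible Groth.Agent.Lib.H78TensorGen Groth.Agent.Lib.PicUFD82

section SpecPicture

variable {R : CommRingCat.{u}} [IsDomain R] (U : (Spec R).Opens)

/-- peeling off elements which are prime or invertible -/
theorem exists_isGen_of_primes (L : (U : Scheme.{u}).Modules) (hL : PicF.IsInvertible L)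
    (cs : List R) (hcs : ∀ c ∈ cs, Prime c ∨ IsUnit c) (W : (U : Scheme.{u}).Opens)
    (h : ∃ e : Γ(L, W ⊓ cs.foldr (fun c acc => DU U c ⊓ acc) ⊤),
      IsGen L (W ⊓ cs.foldr (fun c acc => DU U c ⊓ acc) ⊤) e) :
    ∃ s : Γ(L, W), IsGen L W s := by
  induction cs generalizing W with
  | nil =>
    obtain ⟨e, he⟩ := h
    have hle : W ≤ W ⊓ ([] : List R).foldr (fun c acc => DU U c ⊓ acc) ⊤ := le_inf le_rfl le_top
    exact ⟨rs L hle e, he.mono hle⟩
  | cons c cs ih =>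
    obtain ⟨e, he⟩ := h
    have hle : (W ⊓ DU U c) ⊓ cs.foldr (fun c acc => DU U c ⊓ acc) ⊤ ≤
        W ⊓ (c :: cs).foldr (fun c acc => DU U c ⊓ acc) ⊤ := by
      rw [List.foldr_cons, inf_assoc]
    have h1 := ih (fun c' hc' => hcs c' (List.mem_cons_of_mem _ hc')) (W ⊓ DU U c)
      ⟨rs L hle e, he.mono hle⟩
    rcases hcs c (List.mem_cons_self) with hp | hu
    · exact exists_isGen_of_prime U L hL hp W h1
    · obtain ⟨e1, he1⟩ := h1
      have hle2 : W ≤ W ⊓ DU U c := le_inf le_rfl ((DU_of_isUnit U c hu).ge.trans' le_top)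
      exact ⟨rs L hle2 e1, he1.mono hle2⟩

omit [IsDomain R] in
theorem mem_foldr_DU_iff (cs : List R) (x : (U : Scheme.{u})) :
    x ∈ cs.foldr (fun c acc => DU U c ⊓ acc) ⊤ ↔ ∀ c ∈ cs, x ∈ DU U c := by
  induction cs with
  | nil => simp
  | cons c cs ih =>
    rw [List.foldr_cons]
    constructor
    · rintro ⟨h1, h2⟩ c' hc'
      rcases List.mem_cons.mp hc' with rfl | h
      · exact h1
      · exact (ih.mp h2) c' h
    · intro h
      exact ⟨h c List.mem_cons_self, ih.mpr fun c' hc' => h c' (List.mem_cons_of_mem _ hc')⟩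

/-- if the zero locus of `f` is cut out by elements which are prime or invertible, a generator
over `D(f)` gives a generator over everything -/
theorem exists_isGen_top_of_primes (L : (U : Scheme.{u}).Modules) (hL : PicF.IsInvertible L)
    (f : R) (cs : List R) (hcs : ∀ c ∈ cs, Prime c ∨ IsUnit c)
    (hf : ∀ 𝔮 : Ideal R, 𝔮.IsPrime → (f ∈ 𝔮 ↔ ∃ c ∈ cs, c ∈ 𝔮))
    (h : ∃ e : Γ(L, DU U f), IsGen L (DU U f) e) : ∃ s : Γ(L, ⊤), IsGen L ⊤ s := by
  obtain ⟨e, he⟩ := h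
  have hle : (⊤ : (U : Scheme.{u}).Opens) ⊓ cs.foldr (fun c acc => DU U c ⊓ acc) ⊤ ≤ DU U f := by
    rintro x ⟨-, hx⟩
    rw [SetLike.mem_coe, mem_foldr_DU_iff] at hx
    rw [mem_DU_iff, hf _ (PrimeSpectrum.isPrime _)]
    rintro ⟨c, hc, hcx⟩
    have := hx c hc
    rw [mem_DU_iff] at this
    exact this hcx
  exact exists_isGen_of_primes U L hL cs hcs ⊤ ⟨rs L hle e, he.mono hle⟩

end SpecPicture




open CategoryTheory AlgebraicGeometry TopologicalSpace Opposite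

variable {X : Scheme.{u}}

/-- a point whose local ring is a domain has an affine open neighbourhood with a domain of
sections -/
theorem exists_isAffineOpen_isDomain [IsLocallyNoetherian X] (x : X)
    [IsDomain (X.presheaf.stalk x)] :
    ∃ W : X.Opens, IsAffineOpen W ∧ x ∈ W ∧ IsDomain Γ(X, W) := by
  obtain ⟨W₁, hW₁, hxW₁, -⟩ := exists_isAffineOpen_mem_and_subset (U := ⊤) (x := x) (by simp)
  have hN : IsNoetherianRing Γ(X, W₁) := IsLocallyNoetherian.component_noetherian ⟨W₁, hW₁⟩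
  let algx : Algebra Γ(X, W₁) (X.presheaf.stalk x) :=
    TopCat.Presheaf.algebra_section_stalk X.presheaf ⟨x, hxW₁⟩
  have locx : IsLocalization.AtPrime (X.presheaf.stalk x) (hW₁.primeIdealOf ⟨x, hxW₁⟩).asIdeal :=
    hW₁.isLocalization_stalk ⟨x, hxW₁⟩
  set P := (hW₁.primeIdealOf ⟨x, hxW₁⟩).asIdeal with hP
  set K : Ideal Γ(X, W₁) := RingHom.ker (algebraMap Γ(X, W₁) (X.presheaf.stalk x)) with hK
  obtain ⟨s, hsP, hs⟩ := Groth.Agent.Lib.ParaFact82.exists_uniform_mul (q := P) K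
    (IsNoetherian.noetherian _) (fun g a => g * a = 0)
    (fun g a b ha hb => by rw [mul_add, ha, hb, add_zero])
    (fun g c a ha => by rw [mul_left_comm, ha, mul_zero])
    (fun g g' a ha => by rw [mul_assoc, ha, mul_zero])
    (fun g => mul_zero g)
    (fun a ha => by
      rw [hK, RingHom.mem_ker, IsLocalization.map_eq_zero_iff P.primeCompl] at ha
      obtain ⟨m, hm⟩ := ha
      exact ⟨m.1, m.2, hm⟩)
  have hxs : x ∈ X.basicOpen s :=
    (Groth.Agent.Lib.ParaFact82.mem_basicOpen_iff_notMem_primeIdealOf hW₁ s x hxW₁).mpr hsP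
  refine ⟨X.basicOpen s, hW₁.basicOpen s, hxs, ?_⟩
  have hloc : IsLocalization.Away s Γ(X, X.basicOpen s) := hW₁.isLocalization_basicOpen s
  have hsu : IsUnit (algebraMap Γ(X, W₁) Γ(X, X.basicOpen s) s) :=
    IsLocalization.Away.algebraMap_isUnit s
  have hinj : Function.Injective (X.presheaf.germ (X.basicOpen s) x hxs).hom := by
    rw [injective_iff_map_eq_zero]
    intro a' ha'
    obtain ⟨n, a, ha⟩ := IsLocalization.Away.surj s a'
    have h1 : algebraMap Γ(X, W₁) (X.presheaf.stalk x) a = 0 := by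
      have h2 : algebraMap Γ(X, W₁) (X.presheaf.stalk x) a =
          (X.presheaf.germ (X.basicOpen s) x hxs).hom (algebraMap Γ(X, W₁) Γ(X, X.basicOpen s) a) :=
        (TopCat.Presheaf.germ_res_apply X.presheaf (homOfLE (X.basicOpen_le s)) x hxs a).symm
      rw [h2, ← ha, map_mul, ha', zero_mul]
    have h3 : s * a = 0 := hs a h1
    have h4 : algebraMap Γ(X, W₁) Γ(X, X.basicOpen s) s *
        algebraMap Γ(X, W₁) Γ(X, X.basicOpen s) a = 0 := by
      rw [← map_mul, h3, map_zero]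
    have h5 : algebraMap Γ(X, W₁) Γ(X, X.basicOpen s) a = 0 := (hsu.mul_right_eq_zero).mp h4
    rw [h5] at ha
    exact ((hsu.pow n).mul_left_eq_zero).mp ha
  exact hinj.isDomain (X.presheaf.germ (X.basicOpen s) x hxs).hom




open CategoryTheory AlgebraicGeometry TopologicalSpace Opposite
open Groth.Agent.Lib.H90Invertible Groth.Agent.Lib.H78TensorGen Groth.Agent.Lib.PicUFD82


/-- any section over the empty open is a free generator -/
lemma isGen_of_eq_bot {Z : Scheme.{u}} (L : Z.Modules) (O : Z.Opens) (hO : O = ⊥) (e : Γ(L, O)) :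
    IsGen L O e := by
  intro W hW
  have hW' : W = ⊥ := by rw [eq_bot_iff]; exact hW.trans hO.le
  subst hW'
  have : Subsingleton Γ(L, (⊥ : Z.Opens)) := Module.subsingleton Γ(Z, (⊥ : Z.Opens)) _
  exact ⟨fun a b _ => Subsingleton.elim _ _, fun y => ⟨0, Subsingleton.elim _ _⟩⟩







/-- **Local triviality near a factorial point.** An invertible module on an open `T` of a locally
Noetherian scheme is trivial on `T ∩ W` for some open neighbourhood `W` of any point whose local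
ring is a factorial domain. -/
theorem exists_isGen_near_ufd [IsLocallyNoetherian X] (T : X.Opens) (M : (T : Scheme.{u}).Modules)
    (hM : PicF.IsInvertible M) (x : X) [IsDomain (X.presheaf.stalk x)]
    [UniqueFactorizationMonoid (X.presheaf.stalk x)] :
    ∃ W : X.Opens, x ∈ W ∧ ∃ s : Γ(M, T.ι ⁻¹ᵁ W), IsGen M (T.ι ⁻¹ᵁ W) s := by
  obtain ⟨W₀, hW₀, hxW₀, hdom₀⟩ := exists_isAffineOpen_isDomain x
  by_cases hne : ∃ t₀ : X, t₀ ∈ T ∧ t₀ ∈ W₀
  swap
  · refine ⟨W₀, hxW₀, 0, isGen_of_eq_bot M _ ?_ _⟩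
    rw [eq_bot_iff]
    intro t ht
    exact (hne ⟨t.1, t.2, ht⟩).elim
  obtain ⟨t₀, ht₀T, ht₀W⟩ := hne
  -- a generator near `t₀`
  obtain ⟨N', ht₀N, e, he⟩ := (isInvertible_iff_exists_isGen M).mp hM ⟨t₀, ht₀T⟩
  have ht₀O : t₀ ∈ T.ι ''ᵁ N' ⊓ W₀ := ⟨⟨⟨t₀, ht₀T⟩, ht₀N, rfl⟩, ht₀W⟩
  obtain ⟨f₀, hf₀le, ht₀f⟩ := hW₀.exists_basicOpen_le (V := T.ι ''ᵁ N' ⊓ W₀) ⟨t₀, ht₀O⟩ ht₀W
  have hf₀ : f₀ ≠ 0 := by
    rintro rfl
    rw [Scheme.basicOpen_zero] at ht₀f
    exact ht₀f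
  have hGle : T.ι ⁻¹ᵁ (X.basicOpen f₀) ≤ N' := by
    intro y hy
    obtain ⟨n, hn, hny⟩ := (hf₀le hy).1
    have : n = y := T.ι.isOpenEmbedding.injective hny
    rwa [← this]
  have heG : IsGen M (T.ι ⁻¹ᵁ (X.basicOpen f₀)) (rs M hGle e) := he.mono hGle
  -- the algebra
  have hN₀ : IsNoetherianRing Γ(X, W₀) := IsLocallyNoetherian.component_noetherian ⟨W₀, hW₀⟩
  let algx : Algebra Γ(X, W₀) (X.presheaf.stalk x) :=
    TopCat.Presheaf.algebra_section_stalk X.presheaf ⟨x, hxW₀⟩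
  have locx : IsLocalization.AtPrime (X.presheaf.stalk x) (hW₀.primeIdealOf ⟨x, hxW₀⟩).asIdeal :=
    hW₀.isLocalization_stalk ⟨x, hxW₀⟩
  set P := (hW₀.primeIdealOf ⟨x, hxW₀⟩).asIdeal with hP
  let eq : Localization.AtPrime P ≃ₐ[Γ(X, W₀)] X.presheaf.stalk x :=
    IsLocalization.algEquiv P.primeCompl _ _
  have hufm : UniqueFactorizationMonoid (Localization.AtPrime P) :=
    eq.symm.toMulEquiv.uniqueFactorizationMonoid inferInstance
  obtain ⟨s, cs, hsP, hcs⟩ := exists_away_primes P f₀ hf₀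
  have hxs : x ∈ X.basicOpen s :=
    (Groth.Agent.Lib.ParaFact82.mem_basicOpen_iff_notMem_primeIdealOf hW₀ s x hxW₀).mpr hsP
  have hW : IsAffineOpen (X.basicOpen s) := hW₀.basicOpen s
  have hloc : IsLocalization.Away s Γ(X, X.basicOpen s) := hW₀.isLocalization_basicOpen s
  obtain ⟨hcs1, hcs2⟩ := hcs Γ(X, X.basicOpen s)
  have hs0 : s ≠ 0 := fun h => hsP (h ▸ P.zero_mem)
  have hdom' : IsDomain Γ(X, X.basicOpen s) :=
    IsLocalization.isDomain_of_le_nonZeroDivisors (R := Γ(X, W₀)) Γ(X, X.basicOpen s)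
      (M := Submonoid.powers s) (Submonoid.powers_le.mpr (mem_nonZeroDivisors_of_ne_zero hs0))
  -- the Spec picture
  set φ : Spec Γ(X, X.basicOpen s) ⟶ X := hW.fromSpec with hφ
  set ψ : ((φ ⁻¹ᵁ T : (Spec Γ(X, X.basicOpen s)).Opens) : Scheme.{u}) ⟶ (T : Scheme.{u}) := φ ∣_ T with hψ
  have hψι : ∀ u, T.ι (ψ u) = φ ((φ ⁻¹ᵁ T).ι u) := fun u =>
    congr($(morphismRestrict_ι φ T) u)
  have hM' : PicF.IsInvertible (M.restrict ψ) := isInvertible_restrict ψ hM
  set f' : Γ(X, X.basicOpen s) := algebraMap Γ(X, W₀) Γ(X, X.basicOpen s) f₀ with hf'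
  have hcs' : ∀ c ∈ cs.map (algebraMap Γ(X, W₀) Γ(X, X.basicOpen s)), Prime c ∨ IsUnit c := by
    intro c hc
    obtain ⟨c₀, hc₀, rfl⟩ := List.mem_map.mp hc
    exact hcs1 c₀ hc₀
  have hff' : ∀ 𝔮 : Ideal Γ(X, X.basicOpen s), 𝔮.IsPrime →
      (f' ∈ 𝔮 ↔ ∃ c ∈ cs.map (algebraMap Γ(X, W₀) Γ(X, X.basicOpen s)), c ∈ 𝔮) := by
    intro 𝔮 h𝔮
    rw [hcs2 𝔮 h𝔮]
    constructor
    · rintro ⟨c, hc, hcq⟩
      exact ⟨_, List.mem_map.mpr ⟨c, hc, rfl⟩, hcq⟩
    · rintro ⟨c, hc, hcq⟩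
      obtain ⟨c₀, hc₀, rfl⟩ := List.mem_map.mp hc
      exact ⟨c₀, hc₀, hcq⟩
  have hle1 : ψ ''ᵁ (DU (φ ⁻¹ᵁ T) f') ≤ T.ι ⁻¹ᵁ (X.basicOpen f₀) := by
    rintro _ ⟨u, hu, rfl⟩
    have hu' := (mem_DU_iff (φ ⁻¹ᵁ T) f' u).mp hu
    change T.ι (ψ u) ∈ X.basicOpen f₀
    rw [hψι]
    have h1 : (φ ⁻¹ᵁ T).ι u ∈ φ ⁻¹ᵁ (X.basicOpen f') := by
      rw [hW.fromSpec_preimage_basicOpen]
      exact hu'
    have h2 : X.basicOpen f' ≤ X.basicOpen f₀ := by
      have : f' = X.presheaf.map (homOfLE (X.basicOpen_le s)).op f₀ := rfl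
      rw [this, Scheme.basicOpen_res]
      exact inf_le_right
    exact h2 h1
  obtain ⟨σ, hσ⟩ := exists_isGen_top_of_primes (R := Γ(X, X.basicOpen s)) (φ ⁻¹ᵁ T) (M.restrict ψ) hM' f'
    _ hcs' hff' ⟨_, (isGen_restrict_iff ψ M (DU (φ ⁻¹ᵁ T) f') _).mpr (heG.mono hle1)⟩
  have h2 := (isGen_restrict_iff ψ M ⊤ σ).mp hσ
  have hle2 : T.ι ⁻¹ᵁ (X.basicOpen s) ≤ ψ ''ᵁ ⊤ := by
    intro t ht
    have ht' : (T.ι t : X) ∈ Set.range φ := by
      rw [hφ, hW.range_fromSpec]; exact ht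
    obtain ⟨p, hp⟩ := ht'
    have hpT : p ∈ φ ⁻¹ᵁ T := by
      change φ p ∈ T
      rw [hp]; exact t.2
    refine ⟨⟨p, hpT⟩, trivial, ?_⟩
    apply T.ι.isOpenEmbedding.injective
    exact (hψι ⟨p, hpT⟩).trans hp
  exact ⟨X.basicOpen s, hxs, rs M hle2 σ, h2.mono hle2⟩


end Groth.Agent.Lib.GlueExt82
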