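import Mathlib.RingTheory.Localization.AtPrime.Basic
import Mathlib.RingTheory.Localization.Away.Basic
import Mathlib.RingTheory.Localization.Ideal
import Mathlib.RingTheory.Noetherian.Basic
import Mathlib.Algebra.GroupWithZero.NonZeroDivisors

set_option autoImplicit false

namespace Groth.Agent.Lib.SpreadPrincipal

variable {A : Type*} [CommRing A]

/-- Elementary spreading out: if every element of a finite set is killed into `J` by an element
outside the prime `p`, one element outside `p` works for the span. -/
lemma exists_notMem_forall_mul_mem (p : Ideal A) [p.IsPrime] (J : Ideal A) (s : Finset A)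
    (hs : ∀ x ∈ s, ∃ u : A, u ∉ p ∧ u * x ∈ J) :
    ∃ h : A, h ∉ p ∧ ∀ y ∈ Ideal.span (s : Set A), h * y ∈ J := by
  classical
  induction s using Finset.induction_on with
  | empty =>
    refine ⟨1, fun h1 ↦ (Ideal.IsPrime.ne_top inferInstance) ((Ideal.eq_top_iff_one p).mpr h1), ?_⟩
    intro y hy
    simp only [Finset.coe_empty, Ideal.span_empty, Ideal.mem_bot] at hy
    rw [hy, mul_zero]
    exact J.zero_mem
  | insert x s hx ih =>
    obtain ⟨h, hh, hspan⟩ := ih (fun y hy ↦ hs y (Finset.mem_insert_of_mem hy))
    obtain ⟨u, hu, hux⟩ := hs x (Finset.mem_insert_self x s)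
    refine ⟨u * h, fun hmem ↦ ?_, ?_⟩
    · rcases (Ideal.IsPrime.mem_or_mem inferInstance hmem) with h1 | h1
      · exact hu h1
      · exact hh h1
    · intro y hy
      rw [Finset.coe_insert, Ideal.span_insert, Submodule.mem_sup] at hy
      obtain ⟨y1, hy1, y2, hy2, rfl⟩ := hy
      rw [Ideal.mem_span_singleton'] at hy1
      obtain ⟨c, rfl⟩ := hy1
      rw [mul_add]
      refine J.add_mem ?_ ?_
      · have : u * h * (c * x) = (h * c) * (u * x) := by ring
        rw [this]
        exact J.mul_mem_left _ hux
      · have : u * h * y2 = u * (h * y2) := by ring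
        rw [this]
        exact J.mul_mem_left _ (hspan y2 hy2)

/-- Spreading out a principal generator from the local ring at a prime of a Noetherian ring. -/
lemma exists_spread (I p : Ideal A) [p.IsPrime] [IsNoetherianRing A]
    (S : Type*) [CommRing S] [Algebra A S] [IsLocalization.AtPrime S p]
    (g : S) (hg : g ∈ nonZeroDivisors S) (hI : I.map (algebraMap A S) = Ideal.span {g}) :
    ∃ h : A, h ∉ p ∧ ∃ a ∈ I, (∀ y ∈ I, h * y ∈ Ideal.span {a}) ∧
      (∀ y : A, a * y = 0 → h * y = 0) := by
  classical
  -- write g as a fraction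
  obtain ⟨a0, s, hgs⟩ := IsLocalization.exists_mk'_eq p.primeCompl g
  have hsunit : IsUnit (algebraMap A S s) := IsLocalization.map_units S s
  have ha0 : algebraMap A S a0 = g * algebraMap A S s := by
    rw [← hgs, IsLocalization.mk'_spec]
  -- a0/1 lies in the extended ideal
  have ha0mem : algebraMap A S a0 ∈ I.map (algebraMap A S) := by
    rw [hI, ha0]
    exact Ideal.mul_mem_right _ _ (Ideal.mem_span_singleton_self g)
  obtain ⟨⟨i, m⟩, him⟩ := (IsLocalization.mem_map_algebraMap_iff p.primeCompl S).mp ha0mem
  simp only at him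
  rw [← map_mul, IsLocalization.eq_iff_exists p.primeCompl S] at him
  obtain ⟨c, hc⟩ := him
  -- the new generator
  set a : A := (c : A) * (a0 * m) with ha
  have haI : a ∈ I := by
    rw [hc]
    exact I.mul_mem_left _ i.2
  have hcm : IsUnit (algebraMap A S ((c : A) * m)) := by
    rw [map_mul]
    exact (IsLocalization.map_units S c).mul (IsLocalization.map_units S m)
  have haS : algebraMap A S a = g * (algebraMap A S s * algebraMap A S ((c : A) * m)) := by
    rw [← mul_assoc, ← ha0, ← map_mul, ha]
    congr 1
    ring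
  have hunit : IsUnit (algebraMap A S s * algebraMap A S ((c : A) * m)) := hsunit.mul hcm
  have hspan : Ideal.span {algebraMap A S a} = Ideal.span {g} := by
    rw [haS]
    exact Ideal.span_singleton_mul_right_unit hunit g
  have hanzd : algebraMap A S a ∈ nonZeroDivisors S := by
    rw [haS]
    exact mul_mem hg hunit.mem_nonZeroDivisors
  -- first spreading: I into span {a}
  obtain ⟨t, ht⟩ := (isNoetherianRing_iff_ideal_fg A).mp inferInstance I
  have h1 : ∀ x ∈ t, ∃ u : A, u ∉ p ∧ u * x ∈ Ideal.span {a} := by
    intro x hx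
    have hxI : x ∈ I := by rw [← ht]; exact Ideal.subset_span hx
    have : algebraMap A S x ∈ (Ideal.span {a}).map (algebraMap A S) := by
      rw [Ideal.map_span, Set.image_singleton, hspan, ← hI]
      exact Ideal.mem_map_of_mem _ hxI
    obtain ⟨⟨j, n⟩, hjn⟩ := (IsLocalization.mem_map_algebraMap_iff p.primeCompl S).mp this
    simp only at hjn
    rw [← map_mul, IsLocalization.eq_iff_exists p.primeCompl S] at hjn
    obtain ⟨d, hd⟩ := hjn
    refine ⟨(d : A) * n, (d * n).2, ?_⟩
    have : (d : A) * n * x = d * (x * n) := by ring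
    rw [this, hd]
    exact Ideal.mul_mem_left _ _ j.2
  obtain ⟨hA, hAp, hAspan⟩ := exists_notMem_forall_mul_mem p (Ideal.span {a}) t h1
  rw [ht] at hAspan
  -- second spreading: the annihilator of a
  let K : Ideal A := LinearMap.ker (LinearMap.mulLeft A a)
  obtain ⟨t', ht'⟩ := (isNoetherianRing_iff_ideal_fg A).mp inferInstance K
  have h2 : ∀ x ∈ t', ∃ u : A, u ∉ p ∧ u * x ∈ (⊥ : Ideal A) := by
    intro x hx
    have hxK : x ∈ K := by rw [← ht']; exact Ideal.subset_span hx
    have hax : a * x = 0 := hxK
    have : algebraMap A S x = 0 := by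
      have h0 : algebraMap A S x * algebraMap A S a = 0 := by
        rw [← map_mul, mul_comm, hax, map_zero]
      exact (mem_nonZeroDivisors_iff_right.mp hanzd) _ h0
    obtain ⟨d, hd⟩ := (IsLocalization.map_eq_zero_iff p.primeCompl S x).mp this
    exact ⟨d, d.2, by rw [hd]; exact Ideal.zero_mem _⟩
  obtain ⟨hB, hBp, hBspan⟩ := exists_notMem_forall_mul_mem p ⊥ t' h2
  rw [ht'] at hBspan
  refine ⟨hA * hB, fun hmem ↦ ?_, a, haI, ?_, ?_⟩
  · rcases (Ideal.IsPrime.mem_or_mem inferInstance hmem) with h | h
    · exact hAp h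
    · exact hBp h
  · intro y hy
    have : hA * hB * y = hB * (hA * y) := by ring
    rw [this]
    exact Ideal.mul_mem_left _ _ (hAspan y hy)
  · intro y hy
    have hyK : y ∈ K := hy
    have := hBspan y hyK
    rw [Ideal.mem_bot] at this
    have e : hA * hB * y = hA * (hB * y) := by ring
    rw [e, this, mul_zero]

/-- The conclusion of `exists_spread` gives a principal ideal generated by a nonzerodivisor in the
localisation away from `h`. -/
lemma away_principal (I : Ideal A) (h a : A) (haI : a ∈ I)
    (h1 : ∀ y ∈ I, h * y ∈ Ideal.span {a}) (h2 : ∀ y : A, a * y = 0 → h * y = 0)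
    (B : Type*) [CommRing B] [Algebra A B] [IsLocalization.Away h B] :
    algebraMap A B a ∈ nonZeroDivisors B ∧
      I.map (algebraMap A B) = Ideal.span {algebraMap A B a} := by
  have hunit : IsUnit (algebraMap A B h) := IsLocalization.Away.algebraMap_isUnit h
  constructor
  · rw [mem_nonZeroDivisors_iff_right]
    intro z hz
    obtain ⟨y, n, rfl⟩ := IsLocalization.exists_mk'_eq (Submonoid.powers h) z
    rw [IsLocalization.mk'_eq_zero_iff]
    have hz' : algebraMap A B (y * a) = 0 := by
      have := congrArg (· * algebraMap A B n) hz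
      simp only [zero_mul] at this
      rw [mul_assoc, mul_comm (algebraMap A B a), ← mul_assoc, IsLocalization.mk'_spec] at this
      rw [map_mul]; exact this
    obtain ⟨m, hm⟩ := (IsLocalization.map_eq_zero_iff (Submonoid.powers h) B _).mp hz'
    have h3 : a * ((m : A) * y) = 0 := by
      have : a * ((m : A) * y) = m * (y * a) := by ring
      rw [this, hm]
    have h4 := h2 _ h3
    obtain ⟨k, hk⟩ := m.2
    refine ⟨⟨h * m, ?_⟩, ?_⟩
    · rw [← hk, ← pow_succ']
      exact ⟨k + 1, rfl⟩
    · simp only
      rw [mul_assoc]; exact h4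
  · apply le_antisymm
    · rw [Ideal.map_le_iff_le_comap]
      intro y hy
      rw [Ideal.mem_comap]
      obtain ⟨c, hc⟩ := Ideal.mem_span_singleton'.mp (h1 y hy)
      have : algebraMap A B y = ↑hunit.unit⁻¹ * algebraMap A B c * algebraMap A B a := by
        rw [mul_assoc, ← map_mul, hc, map_mul, ← mul_assoc]
        have : ↑hunit.unit⁻¹ * algebraMap A B h = 1 := hunit.val_inv_mul
        rw [this, one_mul]
      rw [this]
      exact Ideal.mul_mem_left _ _ (Ideal.mem_span_singleton_self _)
    · rw [Ideal.span_le, Set.singleton_subset_iff]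
      exact Ideal.mem_map_of_mem _ haI

end Groth.Agent.Lib.SpreadPrincipal
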