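import Groth.Agent.Lib.CartExt82a
import Groth.Agent.Lib.SpreadPrincipal
import Groth.Agent.Lib.GlueExt82b
import Groth.Prelude.Def_BlowUp2

set_option autoImplicit false
universe u
open CategoryTheory CategoryTheory.Limits AlgebraicGeometry TopologicalSpace Opposite

/-!
# helper82: scheme-theoretic closure of an effective Cartier divisor across UFD points — geometry I
(namespace `Groth.Agent.Lib.CartExt82`)
-/

namespace Groth.Agent.Lib.CartExt82

/-- principal extended ideals in a localization at a prime are generated by an element of the ideal -/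
theorem exists_mem_generator_of_map_eq_span {R : Type*} [CommRing R] (P : Ideal R) [P.IsPrime]
    (B : Type*) [CommRing B] [Algebra R B] [IsLocalization.AtPrime B P] (J : Ideal R) (d : B)
    (hd : d ∈ nonZeroDivisors B) (hJ : J.map (algebraMap R B) = Ideal.span {d}) :
    ∃ j ∈ J, j ≠ 0 ∧ ∀ j' ∈ J, ∃ s : R, s ∉ P ∧ ∃ c : R, s * j' = c * j := by
  have hloc : IsLocalRing B := IsLocalization.AtPrime.isLocalRing B P
  have hd0 : d ≠ 0 := nonZeroDivisors.ne_zero hd
  have hdJ : d ∈ J.map (algebraMap R B) := by rw [hJ]; exact Ideal.mem_span_singleton_self d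
  obtain ⟨⟨⟨j₀, hj₀⟩, ⟨t, ht⟩⟩, hjt⟩ := (IsLocalization.mem_map_algebraMap_iff P.primeCompl B).1 hdJ
  simp only at hjt
  refine ⟨j₀, hj₀, ?_, fun j' hj' => ?_⟩
  · rintro rfl
    rw [map_zero] at hjt
    have hu : IsUnit (algebraMap R B t) := IsLocalization.map_units B (⟨t, ht⟩ : P.primeCompl)
    exact hd0 ((hu.mul_left_eq_zero).1 hjt)
  · have h1 : algebraMap R B j' ∈ Ideal.span {d} := by
      rw [← hJ]; exact Ideal.mem_map_of_mem _ hj'
    obtain ⟨x, hx⟩ := Ideal.mem_span_singleton'.1 h1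
    obtain ⟨c, ⟨s, hs⟩, hcs⟩ := IsLocalization.exists_mk'_eq P.primeCompl x
    have hcs' : x * algebraMap R B s = algebraMap R B c := by
      rw [← hcs]; exact IsLocalization.mk'_spec B c ⟨s, hs⟩
    have h2 : algebraMap R B (s * t * j') = algebraMap R B (c * j₀) := by
      rw [map_mul, map_mul, map_mul, ← hx, ← hcs', ← hjt]
      ring
    obtain ⟨⟨w, hw⟩, hw'⟩ := (IsLocalization.eq_iff_exists P.primeCompl B).1 h2
    simp only at hw'
    refine ⟨w * (s * t), ?_, w * c, ?_⟩
    · intro h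
      rcases Ideal.IsPrime.mem_or_mem inferInstance h with h3 | h3
      · exact hw h3
      · rcases Ideal.IsPrime.mem_or_mem inferInstance h3 with h4 | h4
        · exact hs h4
        · exact ht h4
    · calc w * (s * t) * j' = w * (s * t * j') := by ring
        _ = w * (c * j₀) := hw'
        _ = w * c * j₀ := by ring

variable {X : Scheme.{u}}

/-- the stalk ideal of an ideal sheaf does not depend on the affine neighbourhood, nested case -/
theorem map_germ_eq_of_le (I : X.IdealSheafData) {V W : X.affineOpens} (h : W ≤ V) (y : X)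
    (hyW : y ∈ W.1) :
    (I.ideal V).map (X.presheaf.germ V.1 y (h hyW)).hom =
      (I.ideal W).map (X.presheaf.germ W.1 y hyW).hom := by
  have h1 : X.presheaf.germ V.1 y (h hyW) =
      X.presheaf.map (homOfLE h).op ≫ X.presheaf.germ W.1 y hyW :=
    (X.presheaf.germ_res (homOfLE h) y hyW).symm
  rw [← I.map_ideal h, Ideal.map_map, ← CommRingCat.hom_comp, h1]

/-- the stalk ideal of an ideal sheaf does not depend on the affine neighbourhood -/
theorem map_germ_eq (I : X.IdealSheafData) (V W : X.affineOpens) (y : X) (hyV : y ∈ V.1)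
    (hyW : y ∈ W.1) :
    (I.ideal V).map (X.presheaf.germ V.1 y hyV).hom =
      (I.ideal W).map (X.presheaf.germ W.1 y hyW).hom := by
  obtain ⟨W₃, hW₃, hyW₃, hle⟩ := exists_isAffineOpen_mem_and_subset (U := V.1 ⊓ W.1) (x := y)
    ⟨hyV, hyW⟩
  have h1 := map_germ_eq_of_le I (V := V) (W := ⟨W₃, hW₃⟩) (fun z hz => (hle hz).1) y hyW₃
  have h2 := map_germ_eq_of_le I (V := W) (W := ⟨W₃, hW₃⟩) (fun z hz => (hle hz).2) y hyW₃
  rw [h1, h2]

section Closure

variable [IsLocallyNoetherian X] (U : X.Opens) (D : (U : Scheme.{u}).IdealSheafData)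

/-- **sections of the scheme-theoretic closure**: a function on an affine open `V` of `X` lies in the
ideal of the closure of `D` iff all its restrictions to affine opens of `U` inside `V` lie in `D`. -/
theorem mem_ideal_map_ι_iff (V : X.affineOpens) (a : Γ(X, V.1)) :
    a ∈ (D.map U.ι).ideal V ↔
      ∀ (W : (U : Scheme.{u}).affineOpens) (e : W.1 ≤ U.ι ⁻¹ᵁ V.1),
        (U.ι.appLE V.1 W.1 e).hom a ∈ D.ideal W := by
  rw [show D.map U.ι = (D.subschemeι ≫ U.ι).ker from rfl, Scheme.Hom.ker_apply, RingHom.mem_ker]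
  have key : ∀ (W : (U : Scheme.{u}).affineOpens) (e : W.1 ≤ U.ι ⁻¹ᵁ V.1),
      (D.subschemeι.app W.1).hom ((U.ι.appLE V.1 W.1 e).hom a) =
        (D.subscheme.presheaf.map (homOfLE (show D.subschemeι ⁻¹ᵁ W.1 ≤
          (D.subschemeι ≫ U.ι) ⁻¹ᵁ V.1 from fun z hz => e hz)).op).hom
          (((D.subschemeι ≫ U.ι).app V.1).hom a) := by
    intro W e
    have h1 : U.ι.appLE V.1 W.1 e ≫ D.subschemeι.app W.1 =
        (D.subschemeι ≫ U.ι).app V.1 ≫ D.subscheme.presheaf.map (homOfLE (show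
          D.subschemeι ⁻¹ᵁ W.1 ≤ (D.subschemeι ≫ U.ι) ⁻¹ᵁ V.1 from fun z hz => e hz)).op := by
      rw [Scheme.Hom.app_eq_appLE, Scheme.Hom.appLE_comp_appLE]
      rfl
    exact congrArg (fun φ => φ.hom a) h1
  constructor
  · intro h W e
    rw [← D.ker_subschemeι_app W, RingHom.mem_ker, key W e, h, map_zero]
  · intro h
    let ι' := {W : (U : Scheme.{u}).affineOpens // W.1 ≤ U.ι ⁻¹ᵁ V.1}
    refine TopCat.Sheaf.eq_of_locally_eq' D.subscheme.sheaf
      (fun W : ι' => D.subschemeι ⁻¹ᵁ W.1.1) ((D.subschemeι ≫ U.ι) ⁻¹ᵁ V.1)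
      (fun W => homOfLE (fun z hz => W.2 hz)) ?_ _ _ (fun W => ?_)
    · intro z hz
      have hz' : D.subschemeι z ∈ U.ι ⁻¹ᵁ V.1 := hz
      obtain ⟨W, hW, hzW, hle⟩ := exists_isAffineOpen_mem_and_subset hz'
      exact Opens.mem_iSup.2 ⟨⟨⟨W, hW⟩, hle⟩, hzW⟩
    · have h2 := h W.1 W.2
      rw [← D.ker_subschemeι_app W.1, RingHom.mem_ker, key W.1 W.2] at h2
      exact h2.trans (map_zero _).symm

end Closure

end Groth.Agent.Lib.CartExt82
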