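import Groth.Agent.Lib.CartExt82b

set_option autoImplicit false
universe u
open CategoryTheory CategoryTheory.Limits AlgebraicGeometry TopologicalSpace Opposite

/-!
# helper82: scheme-theoretic closure of an effective Cartier divisor across UFD points — geometry II
(namespace `Groth.Agent.Lib.CartExt82`)
-/

namespace Groth.Agent.Lib.CartExt82

variable {X : Scheme.{u}}

lemma fromSpec_mem' {W : X.Opens} (hW : IsAffineOpen W) (q : PrimeSpectrum Γ(X, W)) :
    hW.fromSpec q ∈ W := by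
  have : hW.fromSpec q ∈ Set.range hW.fromSpec := ⟨q, rfl⟩
  rw [hW.range_fromSpec] at this
  exact this

lemma primeIdealOf_fromSpec' {W : X.Opens} (hW : IsAffineOpen W) (q : PrimeSpectrum Γ(X, W)) :
    hW.primeIdealOf ⟨hW.fromSpec q, fromSpec_mem' hW q⟩ = q := by
  apply hW.fromSpec.isOpenEmbedding.injective
  exact hW.fromSpec_primeIdealOf ⟨hW.fromSpec q, fromSpec_mem' hW q⟩

lemma nzd_of_iso {A B : CommRingCat.{u}} (e : A ≅ B) (f : A) (hf : f ∈ nonZeroDivisors A) :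
    e.hom.hom f ∈ nonZeroDivisors B := by
  rw [mem_nonZeroDivisors_iff_right]
  intro z hz
  have h1 : e.inv.hom z * f = 0 := by
    have := congrArg e.inv.hom hz
    rwa [map_mul, map_zero, Iso.hom_inv_id_apply] at this
  have h2 : e.inv.hom z = 0 := (mem_nonZeroDivisors_iff_right.1 hf) _ h1
  have := congrArg e.hom.hom h2
  rwa [Iso.inv_hom_id_apply, map_zero] at this

/-- a stalkwise principal ideal sheaf is effective Cartier near the point (one chosen affine) -/
theorem exists_principal_of_stalk [IsLocallyNoetherian X] (D' : X.IdealSheafData) (x : X)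
    (V : X.affineOpens) (hxV : x ∈ V.1) (g : X.presheaf.stalk x)
    (hg : g ∈ nonZeroDivisors (X.presheaf.stalk x))
    (hgI : (D'.ideal V).map (X.presheaf.germ V.1 x hxV).hom = Ideal.span {g}) :
    ∃ U' : X.affineOpens, x ∈ U'.1 ∧
      ∃ f : Γ(X, U'.1), f ∈ nonZeroDivisors Γ(X, U'.1) ∧ D'.ideal U' = Ideal.span {f} := by
  have hV : IsAffineOpen V.1 := V.2
  have hnoeth : IsNoetherianRing Γ(X, V.1) := IsLocallyNoetherian.component_noetherian V
  let p := (hV.primeIdealOf ⟨x, hxV⟩).asIdeal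
  let := TopCat.Presheaf.algebra_section_stalk X.presheaf (⟨x, hxV⟩ : V.1)
  have hloc : IsLocalization.AtPrime (X.presheaf.stalk x) p := hV.isLocalization_stalk ⟨x, hxV⟩
  have hgI' : (D'.ideal V).map (algebraMap Γ(X, V.1) (X.presheaf.stalk x)) = Ideal.span {g} := hgI
  obtain ⟨h0, hh0, a, haI, h1, h2⟩ :=
    Groth.Agent.Lib.SpreadPrincipal.exists_spread (D'.ideal V) p (X.presheaf.stalk x) g hg hgI'
  refine ⟨X.affineBasicOpen h0, ?_, ?_⟩
  · show x ∈ X.basicOpen h0
    rw [X.mem_basicOpen h0 x hxV]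
    exact IsLocalization.map_units (X.presheaf.stalk x) (⟨h0, hh0⟩ : p.primeCompl)
  · have hlocB : IsLocalization.Away h0 Γ(X, X.basicOpen h0) := hV.isLocalization_basicOpen h0
    obtain ⟨hnzd, hspan⟩ := Groth.Agent.Lib.SpreadPrincipal.away_principal (D'.ideal V) h0 a haI h1 h2
      Γ(X, X.basicOpen h0)
    refine ⟨algebraMap Γ(X, V.1) Γ(X, X.basicOpen h0) a, hnzd, ?_⟩
    exact (D'.map_ideal_basicOpen V h0).symm.trans hspan

section Closure

variable [IsLocallyNoetherian X] (U : X.Opens) (D : (U : Scheme.{u}).IdealSheafData)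

/-- the closure restricts to the original ideal sheaf -/
theorem comap_map_ι : (D.map U.ι).comap U.ι = D := by
  refine Scheme.IdealSheafData.ext ?_
  funext W
  ext x
  rw [Scheme.IdealSheafData.ideal_comap_of_isOpenImmersion, Ideal.mem_comap, mem_ideal_map_ι_iff]
  have key : ∀ (W' : (U : Scheme.{u}).affineOpens) (e : W'.1 ≤ U.ι ⁻¹ᵁ (U.ι ''ᵁ W.1)),
      (U.ι.appLE (U.ι ''ᵁ W.1) W'.1 e).hom ((U.ι.appIso W.1).inv.hom x) =
        ((U : Scheme.{u}).presheaf.map (homOfLE (show W'.1 ≤ W.1 by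
          rwa [Scheme.Hom.preimage_image_eq] at e)).op).hom x := by
    intro W' e
    exact congrArg (fun φ => φ.hom x) (Scheme.Hom.appIso_inv_appLE U.ι e)
  constructor
  · intro h
    have h1 := h W (by rw [Scheme.Hom.preimage_image_eq])
    rw [key] at h1
    have h2 : ((U : Scheme.{u}).presheaf.map (homOfLE (le_refl W.1)).op) = 𝟙 _ := by
      rw [show homOfLE (le_refl W.1) = 𝟙 _ from rfl, op_id, CategoryTheory.Functor.map_id]
    rw [h2] at h1
    exact h1
  · intro hx W' e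
    rw [key]
    exact D.ideal_le_comap_ideal (U := W') (V := W) (by
      rwa [Scheme.Hom.preimage_image_eq] at e) hx

variable {D}

/-- at the points of `U` the closure is locally principal -/
theorem exists_principal_of_mem (hD : BlowUp.IsEffCartierIdeal D) (y : X) (hyU : y ∈ U) :
    ∃ W : X.affineOpens, y ∈ W.1 ∧
      ∃ f : Γ(X, W.1), f ∈ nonZeroDivisors Γ(X, W.1) ∧ (D.map U.ι).ideal W = Ideal.span {f} := by
  obtain ⟨W₀, hyW₀, f, hf, hDf⟩ := hD ⟨y, hyU⟩
  have hW₀ : IsAffineOpen W₀.1 := W₀.2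
  refine ⟨⟨U.ι ''ᵁ W₀.1, hW₀.image_of_isOpenImmersion U.ι⟩, ⟨⟨y, hyU⟩, hyW₀, rfl⟩,
    (U.ι.appIso W₀.1).inv.hom f, nzd_of_iso (U.ι.appIso W₀.1).symm f hf, ?_⟩
  have h1 : D.ideal W₀ = ((D.map U.ι).ideal ⟨U.ι ''ᵁ W₀.1, hW₀.image_of_isOpenImmersion U.ι⟩).comap
      (U.ι.appIso W₀.1).inv.hom := by
    rw [← Scheme.IdealSheafData.ideal_comap_of_isOpenImmersion, comap_map_ι]
  have hsurj : Function.Surjective (U.ι.appIso W₀.1).inv.hom := fun z =>
    ⟨(U.ι.appIso W₀.1).hom.hom z, Iso.hom_inv_id_apply _ z⟩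
  have h2 := Ideal.map_comap_of_surjective _ hsurj
    ((D.map U.ι).ideal ⟨U.ι ''ᵁ W₀.1, hW₀.image_of_isOpenImmersion U.ι⟩)
  rw [← h1, hDf, Ideal.map_span, Set.image_singleton] at h2
  exact h2.symm

/-- at the points of `U` the stalk ideal of the closure is generated by a nonzerodivisor -/
theorem exists_stalk_generator_of_mem (hD : BlowUp.IsEffCartierIdeal D) (y : X) (hyU : y ∈ U)
    (V : X.affineOpens) (hyV : y ∈ V.1) :
    ∃ d : X.presheaf.stalk y, d ∈ nonZeroDivisors (X.presheaf.stalk y) ∧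
      ((D.map U.ι).ideal V).map (X.presheaf.germ V.1 y hyV).hom = Ideal.span {d} := by
  obtain ⟨W, hyW, f, hf, hW⟩ := exists_principal_of_mem U hD y hyU
  refine ⟨(X.presheaf.germ W.1 y hyW).hom f, ?_, ?_⟩
  · let := TopCat.Presheaf.algebra_section_stalk X.presheaf (⟨y, hyW⟩ : W.1)
    have hloc : IsLocalization.AtPrime (X.presheaf.stalk y) (W.2.primeIdealOf ⟨y, hyW⟩).asIdeal :=
      W.2.isLocalization_stalk ⟨y, hyW⟩
    exact IsLocalization.nonZeroDivisors_le_comap
      (W.2.primeIdealOf ⟨y, hyW⟩).asIdeal.primeCompl (X.presheaf.stalk y) hf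
  · rw [map_germ_eq _ V W y hyV hyW, hW, Ideal.map_span, Set.image_singleton]

variable (D)

/-- a function not in the ideal of the closure fails to be in it at some point of `U` -/
theorem exists_point_of_notMem (V : X.affineOpens) (r : Γ(X, V.1))
    (hr : r ∉ (D.map U.ι).ideal V) :
    ∃ (y : X) (hyV : y ∈ V.1), y ∈ U ∧ ∀ s : Γ(X, V.1), s * r ∈ (D.map U.ι).ideal V →
      s ∈ (V.2.primeIdealOf ⟨y, hyV⟩).asIdeal := by
  rw [mem_ideal_map_ι_iff] at hr
  push Not at hr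
  obtain ⟨W, e, hW⟩ := hr
  set r' := (U.ι.appLE V.1 W.1 e).hom r with hr'
  have hK : Submodule.colon (D.ideal W) {r'} ≠ ⊤ := by
    intro h
    have h1 : (1 : Γ((U : Scheme.{u}), W.1)) ∈ Submodule.colon (D.ideal W) {r'} := by
      rw [h]; trivial
    rw [Submodule.mem_colon_singleton, one_smul] at h1
    exact hW h1
  obtain ⟨m, hm, hKm⟩ := Ideal.exists_le_maximal _ hK
  let q : PrimeSpectrum Γ((U : Scheme.{u}), W.1) := ⟨m, hm.isPrime⟩
  have hy'W : W.2.fromSpec q ∈ W.1 := fromSpec_mem' W.2 q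
  have hq : W.2.primeIdealOf ⟨W.2.fromSpec q, hy'W⟩ = q := primeIdealOf_fromSpec' W.2 q
  refine ⟨U.ι (W.2.fromSpec q), e hy'W, (W.2.fromSpec q).2, fun s hs => ?_⟩
  rw [mem_ideal_map_ι_iff] at hs
  have h1 := hs W e
  rw [map_mul] at h1
  have h2 : (U.ι.appLE V.1 W.1 e).hom s ∈ m := by
    apply hKm
    rw [Submodule.mem_colon_singleton, smul_eq_mul]
    exact h1
  have h3 := IsAffineOpen.comap_primeIdealOf_appLE (f := U.ι) V.1 V.2 W.1 W.2 e hy'W
  rw [hq] at h3
  rw [← h3]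
  exact h2

variable {D}

/-- **the stalk of the closure at a UFD point is principal** -/
theorem exists_stalk_generator_of_ufd (hD : BlowUp.IsEffCartierIdeal D) (x : X)
    [IsDomain (X.presheaf.stalk x)] [UniqueFactorizationMonoid (X.presheaf.stalk x)]
    (V : X.affineOpens) (hxV : x ∈ V.1) [IsDomain Γ(X, V.1)] :
    ∃ g : X.presheaf.stalk x, g ∈ nonZeroDivisors (X.presheaf.stalk x) ∧
      ((D.map U.ι).ideal V).map (X.presheaf.germ V.1 x hxV).hom = Ideal.span {g} := by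
  have hV : IsAffineOpen V.1 := V.2
  have hnoeth : IsNoetherianRing Γ(X, V.1) := IsLocallyNoetherian.component_noetherian V
  let := TopCat.Presheaf.algebra_section_stalk X.presheaf (⟨x, hxV⟩ : V.1)
  have hloc : IsLocalization.AtPrime (X.presheaf.stalk x) (hV.primeIdealOf ⟨x, hxV⟩).asIdeal :=
    hV.isLocalization_stalk ⟨x, hxV⟩
  let T : Set (Ideal Γ(X, V.1)) := {P | ∃ (y : X) (hyV : y ∈ V.1), y ∈ U ∧
    P = (hV.primeIdealOf ⟨y, hyV⟩).asIdeal}
  refine (exists_generator_of_closure (hV.primeIdealOf ⟨x, hxV⟩).asIdeal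
    (X.presheaf.stalk x) ((D.map U.ι).ideal V) T ?_ ?_ ?_).imp
      (fun g hg => ⟨mem_nonZeroDivisors_of_ne_zero hg.1, hg.2⟩)
  · -- stability under generization
    rintro P ⟨y, hyV, hyU, rfl⟩ Q hQ hQP
    let q : PrimeSpectrum Γ(X, V.1) := ⟨Q, hQ⟩
    have hzV : hV.fromSpec q ∈ V.1 := fromSpec_mem' hV q
    have hq : hV.primeIdealOf ⟨hV.fromSpec q, hzV⟩ = q := primeIdealOf_fromSpec' hV q
    refine ⟨hV.fromSpec q, hzV, ?_, by rw [hq]⟩
    have h1 : q ⤳ hV.primeIdealOf ⟨y, hyV⟩ := (PrimeSpectrum.le_iff_specializes _ _).1 hQP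
    have h2 := h1.map hV.fromSpec.continuous
    rw [hV.fromSpec_primeIdealOf ⟨y, hyV⟩] at h2
    exact h2.mem_open U.2 hyU
  · intro r hr
    obtain ⟨y, hyV, hyU, hy⟩ := exists_point_of_notMem U D V r hr
    exact ⟨_, ⟨y, hyV, hyU, rfl⟩, hy⟩
  · rintro P ⟨y, hyV, hyU, rfl⟩
    obtain ⟨d, hd, hdI⟩ := exists_stalk_generator_of_mem U hD y hyU V hyV
    let := TopCat.Presheaf.algebra_section_stalk X.presheaf (⟨y, hyV⟩ : V.1)
    have hlocy : IsLocalization.AtPrime (X.presheaf.stalk y) (hV.primeIdealOf ⟨y, hyV⟩).asIdeal :=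
      hV.isLocalization_stalk ⟨y, hyV⟩
    exact exists_mem_generator_of_map_eq_span (hV.primeIdealOf ⟨y, hyV⟩).asIdeal
      (X.presheaf.stalk y) ((D.map U.ι).ideal V) d hd hdI

end Closure

end Groth.Agent.Lib.CartExt82
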