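import Mathlib.RingTheory.Valuation.ValuationRing
import Mathlib.LinearAlgebra.Matrix.Transvection
import Mathlib.LinearAlgebra.Matrix.Determinant.Basic
import Mathlib.LinearAlgebra.Matrix.Adjugate
import Mathlib.Data.Matrix.Block
import Mathlib.RingTheory.Localization.FractionRing

/-!
# Cartan (elementary divisor) decomposition over a valuation ring (helper38)

For a valuation ring `R` with fraction field `K` and a square matrix `Ξ` over `K` there are matrices
`A`, `B` over `R` of determinant one with `A Ξ B` diagonal.  Mathlib-only.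
-/

set_option autoImplicit false
set_option linter.unusedSectionVars false
universe u v
open Matrix

namespace Groth.Agent.Lib.Cartan38

section
variable (R : Type u) [CommRing R] [IsDomain R] [ValuationRing R] (K : Type v) [Field K]
  [Algebra R K] [IsFractionRing R K]

/-- `Ξ` can be diagonalised by matrices of determinant one over `R` -/
def GoodMat {ι : Type} [Fintype ι] [DecidableEq ι] (Ξ : Matrix ι ι K) : Prop :=
  ∃ A B : Matrix ι ι R, A.det = 1 ∧ B.det = 1 ∧ ∃ d : ι → K,
    A.map (algebraMap R K) * Ξ * B.map (algebraMap R K) = diagonal d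

variable {R K}

theorem goodMat_of_submatrix {ι ι' : Type} [Fintype ι] [DecidableEq ι] [Fintype ι'] [DecidableEq ι']
    (e : ι ≃ ι') (Ξ : Matrix ι' ι' K) (h : GoodMat R K (Ξ.submatrix e e)) : GoodMat R K Ξ := by
  obtain ⟨A, B, hA, hB, d, hd⟩ := h
  refine ⟨A.submatrix e.symm e.symm, B.submatrix e.symm e.symm, ?_, ?_, d ∘ e.symm, ?_⟩
  · rw [det_submatrix_equiv_self, hA]
  · rw [det_submatrix_equiv_self, hB]
  · have h1 : Ξ = (Ξ.submatrix e e).submatrix e.symm e.symm := by
      ext i j; simp
    have h2 := congrArg (fun M => M.submatrix e.symm e.symm) hd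
    beta_reduce at h2
    rw [submatrix_diagonal_equiv] at h2
    rw [← h2, ← submatrix_mul_equiv _ _ _ e.symm, ← submatrix_mul_equiv _ _ _ e.symm, ← h1]
    rfl

theorem goodMat_of_mul_left {ι : Type} [Fintype ι] [DecidableEq ι] (Ξ : Matrix ι ι K)
    (A₀ : Matrix ι ι R) (hA₀ : A₀.det = 1) (h : GoodMat R K (A₀.map (algebraMap R K) * Ξ)) :
    GoodMat R K Ξ := by
  obtain ⟨A, B, hA, hB, d, hd⟩ := h
  refine ⟨A * A₀, B, ?_, hB, d, ?_⟩
  · rw [det_mul, hA, hA₀, one_mul]
  · rw [Matrix.map_mul, ← hd]
    simp only [Matrix.mul_assoc]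

theorem goodMat_zero {ι : Type} [Fintype ι] [DecidableEq ι] : GoodMat R K (0 : Matrix ι ι K) :=
  ⟨1, 1, det_one, det_one, 0, by simp⟩

theorem map_transvection {ι : Type} [Fintype ι] [DecidableEq ι] (i j : ι) (c : R) :
    (transvection i j c).map (algebraMap R K) = transvection i j (algebraMap R K c) := by
  ext a b
  simp only [transvection, Matrix.map_apply, Matrix.add_apply, Matrix.one_apply,
    Matrix.single_apply, map_add]
  split_ifs <;> simp

/-- a matrix of determinant one moving row `b` to row `a` -/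
theorem exists_swap {ι : Type} [Fintype ι] [DecidableEq ι] {a b : ι} (hab : a ≠ b) :
    ∃ A : Matrix ι ι R, A.det = 1 ∧ ∀ (M : Matrix ι ι K) (j : ι),
      (A.map (algebraMap R K) * M) a j = M b j := by
  refine ⟨transvection a b 1 * transvection b a (-1) * transvection a b 1, ?_, ?_⟩
  · rw [det_mul, det_mul, det_transvection_of_ne _ _ hab, det_transvection_of_ne _ _ hab.symm]
    simp
  · intro M j
    rw [Matrix.map_mul, Matrix.map_mul, map_transvection, map_transvection, Matrix.mul_assoc,
      Matrix.mul_assoc]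
    simp [hab, hab.symm]

/-- the block step: a pivot dividing its row and column -/
theorem goodMat_block {ι₁ ι₂ : Type} [Fintype ι₁] [DecidableEq ι₁] [Unique ι₁] [Fintype ι₂]
    [DecidableEq ι₂] (hgood : ∀ X : Matrix ι₂ ι₂ K, GoodMat R K X)
    (M : Matrix (ι₁ ⊕ ι₂) (ι₁ ⊕ ι₂) K)
    (hcol : ∀ i : ι₂, ∃ c : R, M (Sum.inr i) (Sum.inl default) =
      algebraMap R K c * M (Sum.inl default) (Sum.inl default))
    (hrow : ∀ j : ι₂, ∃ r : R, M (Sum.inl default) (Sum.inr j) =
      M (Sum.inl default) (Sum.inl default) * algebraMap R K r) :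
    GoodMat R K M := by
  choose c hc using hcol
  choose r hr using hrow
  set p := M (Sum.inl default) (Sum.inl default) with hp
  let C : Matrix ι₂ ι₁ R := fun i _ => c i
  let Rr : Matrix ι₁ ι₂ R := fun _ j => r j
  let L : Matrix (ι₁ ⊕ ι₂) (ι₁ ⊕ ι₂) R := fromBlocks 1 0 (-C) 1
  let U : Matrix (ι₁ ⊕ ι₂) (ι₁ ⊕ ι₂) R := fromBlocks 1 (-Rr) 0 1
  have hL : L.det = 1 := by
    rw [det_fromBlocks_zero₁₂, det_one, det_one, one_mul]
  have hU : U.det = 1 := by
    rw [det_fromBlocks_zero₂₁, det_one, det_one, one_mul]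
  let Cf : Matrix ι₂ ι₁ K := C.map (algebraMap R K)
  let Rf : Matrix ι₁ ι₂ K := Rr.map (algebraMap R K)
  have hLf : L.map (algebraMap R K) = fromBlocks 1 0 (-Cf) 1 := by
    rw [fromBlocks_map]
    congr 1
    · exact Matrix.map_one _ (map_zero _) (map_one _)
    · exact Matrix.map_zero _ (map_zero _)
    · ext i j; simp [Cf]
    · exact Matrix.map_one _ (map_zero _) (map_one _)
  have hUf : U.map (algebraMap R K) = fromBlocks 1 (-Rf) 0 1 := by
    rw [fromBlocks_map]
    congr 1
    · exact Matrix.map_one _ (map_zero _) (map_one _)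
    · ext i j; simp [Rf]
    · exact Matrix.map_zero _ (map_zero _)
    · exact Matrix.map_one _ (map_zero _) (map_one _)
  have hM : M = fromBlocks M.toBlocks₁₁ M.toBlocks₁₂ M.toBlocks₂₁ M.toBlocks₂₂ :=
    (fromBlocks_toBlocks M).symm
  have h21 : -Cf * M.toBlocks₁₁ + M.toBlocks₂₁ = 0 := by
    ext i x
    have hx : x = default := Subsingleton.elim _ _
    subst hx
    simp only [Matrix.add_apply, Matrix.neg_mul, Matrix.neg_apply, Matrix.mul_apply,
      Fintype.sum_unique, toBlocks₁₁, toBlocks₂₁, Matrix.of_apply, Matrix.zero_apply, Cf, C,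
      Matrix.map_apply]
    rw [hc i]
    ring
  have h12 : M.toBlocks₁₁ * (-Rf) + M.toBlocks₁₂ = 0 := by
    ext x j
    have hx : x = default := Subsingleton.elim _ _
    subst hx
    simp only [Matrix.add_apply, Matrix.mul_neg, Matrix.neg_apply, Matrix.mul_apply,
      Fintype.sum_unique, toBlocks₁₁, toBlocks₁₂, Matrix.of_apply, Matrix.zero_apply, Rf, Rr,
      Matrix.map_apply]
    rw [hr j]
    ring
  set X : Matrix ι₂ ι₂ K := -Cf * M.toBlocks₁₂ + M.toBlocks₂₂ with hX
  have hLMU : L.map (algebraMap R K) * M * U.map (algebraMap R K) =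
      fromBlocks M.toBlocks₁₁ 0 0 X := by
    rw [hLf, hUf]
    conv_lhs => rw [hM]
    rw [fromBlocks_multiply, fromBlocks_multiply]
    simp only [Matrix.one_mul, Matrix.zero_mul, add_zero, Matrix.mul_one, Matrix.mul_zero, zero_add]
    rw [h21, h12]
    simp only [Matrix.zero_mul, zero_add]
    rfl
  obtain ⟨A', B', hA', hB', d', hd'⟩ := hgood X
  refine ⟨fromBlocks 1 0 0 A' * L, U * fromBlocks 1 0 0 B', ?_, ?_, Sum.elim (fun _ => p) d', ?_⟩
  · rw [det_mul, hL, det_fromBlocks_zero₂₁, det_one, hA']; simp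
  · rw [det_mul, hU, det_fromBlocks_zero₂₁, det_one, hB']; simp
  · rw [Matrix.map_mul, Matrix.map_mul]
    have e1 : (fromBlocks 1 0 0 A').map (algebraMap R K) * L.map (algebraMap R K) * M *
        (U.map (algebraMap R K) * (fromBlocks 1 0 0 B').map (algebraMap R K)) =
        (fromBlocks 1 0 0 A').map (algebraMap R K) *
          (L.map (algebraMap R K) * M * U.map (algebraMap R K)) *
            (fromBlocks 1 0 0 B').map (algebraMap R K) := by
      simp only [Matrix.mul_assoc]
    rw [e1, hLMU, fromBlocks_map, fromBlocks_map, fromBlocks_multiply, fromBlocks_multiply]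
    have h1 : (1 : Matrix ι₁ ι₁ R).map (algebraMap R K) = 1 :=
      Matrix.map_one _ (map_zero _) (map_one _)
    have h0a : (0 : Matrix ι₁ ι₂ R).map (algebraMap R K) = 0 := Matrix.map_zero _ (map_zero _)
    have h0b : (0 : Matrix ι₂ ι₁ R).map (algebraMap R K) = 0 := Matrix.map_zero _ (map_zero _)
    rw [h1, h0a, h0b]
    simp only [Matrix.one_mul, Matrix.zero_mul, add_zero, Matrix.mul_one, Matrix.mul_zero, zero_add]
    rw [hd', ← fromBlocks_diagonal]
    congr 1
    ext x y
    have hx : x = default := Subsingleton.elim _ _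
    have hy : y = default := Subsingleton.elim _ _
    subst hx hy
    simp [toBlocks₁₁, hp]

theorem goodMat_of_card : ∀ (n : ℕ) (ι : Type) [Fintype ι] [DecidableEq ι], Fintype.card ι = n →
    ∀ Ξ : Matrix ι ι K, GoodMat R K Ξ := by
  intro n
  induction n with
  | zero =>
    intro ι _ _ hcard Ξ
    have : IsEmpty ι := Fintype.card_eq_zero_iff.mp hcard
    exact ⟨1, 1, det_one, det_one, 0, Subsingleton.elim _ _⟩
  | succ n ih =>
    intro ι _ _ hcard Ξ
    have hne : Nonempty ι := Fintype.card_pos_iff.mp (by omega)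
    let v := ValuationRing.valuation R K
    obtain ⟨⟨i₀, j₀⟩, -, hmax⟩ := Finset.exists_max_image (Finset.univ : Finset (ι × ι))
      (fun ij => v (Ξ ij.1 ij.2)) Finset.univ_nonempty
    set p := Ξ i₀ j₀ with hp
    by_cases hp0 : p = 0
    · have hz : Ξ = 0 := by
        ext i j
        have h := hmax (i, j) (Finset.mem_univ _)
        simp only at h
        rw [hp0, map_zero] at h
        exact (map_eq_zero v).mp (le_antisymm h zero_le)
      rw [hz]
      exact goodMat_zero
    · have hmult : ∀ i j, ∃ r : R, Ξ i j = algebraMap R K r * p := by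
        intro i j
        have h := hmax (i, j) (Finset.mem_univ _)
        simp only at h
        have hv : v (Ξ i j / p) ≤ 1 := by
          rw [map_div₀]
          exact div_le_one_of_le₀ h zero_le
        obtain ⟨a, ha⟩ := (ValuationRing.mem_integer_iff R K _).mp hv
        exact ⟨a, by rw [ha, div_mul_cancel₀ _ hp0]⟩
      choose r hr using hmult
      -- move the pivot to the diagonal position `(j₀, j₀)`
      obtain ⟨A₀, hA₀, hA₀row⟩ : ∃ A₀ : Matrix ι ι R, A₀.det = 1 ∧
          (A₀.map (algebraMap R K) * Ξ) j₀ j₀ = p := by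
        by_cases hij : i₀ = j₀
        · refine ⟨1, det_one, ?_⟩
          rw [Matrix.map_one _ (map_zero _) (map_one _), Matrix.one_mul, hp, hij]
        · obtain ⟨A, hA, hAr⟩ := exists_swap (R := R) (K := K) (a := j₀) (b := i₀) (Ne.symm hij)
          exact ⟨A, hA, hAr Ξ j₀⟩
      apply goodMat_of_mul_left Ξ A₀ hA₀
      set Ξ₁ := A₀.map (algebraMap R K) * Ξ with hΞ₁
      have hmult₁ : ∀ i j, ∃ s : R, Ξ₁ i j = algebraMap R K s * p := by
        intro i j
        refine ⟨∑ l, A₀ i l * r l j, ?_⟩
        rw [hΞ₁, mul_apply, map_sum, Finset.sum_mul]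
        apply Finset.sum_congr rfl
        intro l _
        rw [map_apply, hr l j, map_mul]
        ring
      -- reindex
      let e : ι ≃ {x // x = j₀} ⊕ {x // ¬ x = j₀} := (Equiv.sumCompl (· = j₀)).symm
      have huniq : Unique {x // x = j₀} := ⟨⟨⟨j₀, rfl⟩⟩, fun x => Subtype.ext x.2⟩
      apply goodMat_of_submatrix e.symm
      have hcard₂ : Fintype.card {x // ¬ x = j₀} = n := by
        rw [Fintype.card_subtype_compl, Fintype.card_subtype_eq, hcard]
        rfl
      have hdef : e.symm (Sum.inl (default : {x // x = j₀})) = j₀ := by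
        have : (default : {x // x = j₀}) = ⟨j₀, rfl⟩ := Subsingleton.elim _ _
        rw [this]
        rfl
      apply goodMat_block (ih _ hcard₂)
      · intro i
        obtain ⟨s, hs⟩ := hmult₁ (e.symm (Sum.inr i)) j₀
        refine ⟨s, ?_⟩
        simp only [submatrix_apply, hdef]
        rw [hs, hA₀row]
      · intro j
        obtain ⟨s, hs⟩ := hmult₁ j₀ (e.symm (Sum.inr j))
        refine ⟨s, ?_⟩
        simp only [submatrix_apply, hdef]
        rw [hs, hA₀row, mul_comm]

/-- **Cartan decomposition over a valuation ring** -/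
theorem exists_cartan (n : ℕ) (Ξ : Matrix (Fin n) (Fin n) K) :
    ∃ (A B : Matrix (Fin n) (Fin n) R) (d : Fin n → K), A.det = 1 ∧ B.det = 1 ∧
      Ξ = A.map (algebraMap R K) * Matrix.diagonal d * B.map (algebraMap R K) := by
  obtain ⟨A, B, hA, hB, d, hd⟩ := goodMat_of_card (R := R) (K := K) n (Fin n) (Fintype.card_fin n) Ξ
  refine ⟨A.adjugate, B.adjugate, d, ?_, ?_, ?_⟩
  · rw [det_adjugate, hA, one_pow]
  · rw [det_adjugate, hB, one_pow]
  · rw [← hd]
    have hAA : A.adjugate.map (algebraMap R K) * A.map (algebraMap R K) = 1 := by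
      rw [← Matrix.map_mul, adjugate_mul, hA, one_smul, Matrix.map_one _ (map_zero _) (map_one _)]
    have hBB : B.map (algebraMap R K) * B.adjugate.map (algebraMap R K) = 1 := by
      rw [← Matrix.map_mul, mul_adjugate, hB, one_smul, Matrix.map_one _ (map_zero _) (map_one _)]
    calc Ξ = 1 * Ξ * 1 := by rw [Matrix.one_mul, Matrix.mul_one]
      _ = (A.adjugate.map (algebraMap R K) * A.map (algebraMap R K)) * Ξ *
            (B.map (algebraMap R K) * B.adjugate.map (algebraMap R K)) := by rw [hAA, hBB]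
      _ = _ := by simp only [Matrix.mul_assoc]

end

end Groth.Agent.Lib.Cartan38
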