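import Groth.Agent.Lib.CechDelta
import Mathlib.Algebra.Homology.ShortComplex.ExactFunctor

/-!
# Cech cohomology of presheaves is the right derived functor of `Ȟ^0`
-/

set_option autoImplicit false

universe w v u

open CategoryTheory Limits Opposite DeltaF

namespace Groth.Agent.Lib.CechDelta

open Groth.Agent.Lib.CechLow Groth.Agent.Lib.CechLES Groth.Agent.Lib.CechSES

variable {C : Type u} [Category.{v} C] {U : C} [HasFiniteProducts (Over U)] {ι : Type w}
  (Uf : ι → Over U)

/-- a morphism of cochain complexes which is injective in degree `0` is injective on `H^0` -/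
lemma homologyMap_zero_injective {K L : CochainComplex AddCommGrpCat.{w} ℕ} (φ : K ⟶ L)
    (h : Function.Injective (φ.f 0)) :
    Function.Injective (HomologicalComplex.homologyMap φ 0) := by
  intro x y hxy
  apply (H0equiv K).injective
  apply Subtype.ext
  apply h
  rw [← H0equiv_naturality, ← H0equiv_naturality, hxy]

lemma mono_cechH_zero_map {S : ShortComplex (Cᵒᵖ ⥤ AddCommGrpCat.{w})} (hS : S.ShortExact) :
    Mono ((EtCech.cechHFunctor (C := C) Uf 0).map S.f) := by
  have hT := (shortExact_map Uf hS).map_of_exact (HomologicalComplex.eval _ _ 0)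
  have hm : Function.Injective (((cechG Uf).map S.f).f 0) :=
    (AddCommGrpCat.mono_iff_injective _).1 hT.mono_f
  exact (AddCommGrpCat.mono_iff_injective _).2 (homologyMap_zero_injective _ hm)

instance preservesFiniteLimits_cechH_zero :
    PreservesFiniteLimits (EtCech.cechHFunctor (C := C) Uf 0) := by
  rw [Functor.preservesFiniteLimits_iff_forall_exact_map_and_mono]
  intro S hS
  exact ⟨(cechDelta Uf).exact₂ S hS 0, mono_cechH_zero_map Uf hS⟩

/-- effaceability of Cech cohomology of presheaves -/
theorem cechDelta_isEffaceable [LocallySmall.{w} C]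
    [HasInjectiveResolutions (Cᵒᵖ ⥤ AddCommGrpCat.{w})] :
    (cechDelta Uf).IsEffaceable := by
  intro n X
  let I := injectiveResolution X
  have hm : Mono (I.ι.f 0) := inferInstance
  have hI : Injective (I.cocomplex.X 0) := inferInstance
  refine ⟨I.cocomplex.X 0, I.ι.f 0, hm, ?_⟩
  exact (CechInjGen.isZero_homology_of_injective Uf (I.cocomplex.X 0) n).eq_of_tgt _ _

/-- the delta-functor of right derived functors is universal -/
theorem derived_isUniversal {A : Type*} [Category A] [Abelian A] [HasInjectiveResolutions A]
    {B : Type*} [Category B] [Abelian B] (F : A ⥤ B) [F.Additive] :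
    (DerivedLES.derivedLES F).toCohDeltaFunctor.IsUniversal := by
  apply DeltaUniv.isUniversal_of_isEffaceable
  intro n X
  let I := injectiveResolution X
  have hm : Mono (I.ι.f 0) := inferInstance
  refine ⟨I.cocomplex.X 0, I.ι.f 0, hm, ?_⟩
  exact (Functor.isZero_rightDerived_obj_injective_succ F n (I.cocomplex.X 0)).eq_of_tgt _ _

/-- **Cech cohomology of presheaves is the right derived functor of `Ȟ^0`.** -/
theorem nonempty_cechHFunctor_iso [LocallySmall.{w} C]
    [HasInjectiveResolutions (Cᵒᵖ ⥤ AddCommGrpCat.{w})]
    [(EtCech.cechHFunctor (C := C) Uf 0).Additive] (p : ℕ) :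
    Nonempty (EtCech.cechHFunctor (C := C) Uf p ≅
      (EtCech.cechHFunctor (C := C) Uf 0).rightDerived p) := by
  have h1 := DeltaUniv.isUniversal_of_isEffaceable _ (cechDelta_isEffaceable Uf)
  have h2 := derived_isUniversal (EtCech.cechHFunctor (C := C) Uf 0)
  exact DeltaIso.nonempty_natIso_of_isUniversal _ _ h1 h2
    (Functor.rightDerivedZeroIsoSelf (EtCech.cechHFunctor (C := C) Uf 0)).symm p

end Groth.Agent.Lib.CechDelta
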