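/-
Groth.Agent.Lib.CohPre1 (helper49): the cohomology presheaf `U ↦ Ext^p(ℤ[h_U]^#, F)` of an abelian
sheaf on a small site with explicit structure (`Sp'`), identified with Mathlib's
`Sheaf.cohomologyPresheaf` (`Sp'Iso`).  Proofs are written in term mode to keep kernel time low.
-/
import Groth.Prelude.Def_CohSite
import Groth.Agent.Lib.SiteCoh

set_option autoImplicit false
universe u

namespace Groth.Agent.Lib.CohPresheafDerived

open CategoryTheory Limits Opposite Abelian Groth.Agent.Lib.SiteCoh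

variable {C : Type u} [SmallCategory C] (J : GrothendieckTopology C)

/-- the transition maps of the free sheaves -/
noncomputable def freeMap {U V : C} (f : U ⟶ V) : freeYoneda J U ⟶ freeYoneda J V :=
  (presheafToSheaf J AddCommGrpCat.{u}).map
    (((Functor.whiskeringRight _ _ _).obj AddCommGrpCat.free.{u}).map (yoneda.map f))

lemma freeMap_id (U : C) : freeMap J (𝟙 U) = 𝟙 _ := by
  unfold freeMap
  rw [yoneda.map_id, CategoryTheory.Functor.map_id]
  exact (presheafToSheaf J AddCommGrpCat.{u}).map_id _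

lemma freeMap_comp {U V W : C} (f : U ⟶ V) (g : V ⟶ W) :
    freeMap J (f ≫ g) = freeMap J f ≫ freeMap J g := by
  unfold freeMap
  rw [yoneda.map_comp, CategoryTheory.Functor.map_comp]
  exact (presheafToSheaf J AddCommGrpCat.{u}).map_comp _ _

variable {J}

/-- precomposition with `freeMap` on `Ext` -/
noncomputable def pre (F : Sheaf J AddCommGrpCat.{u}) (p : ℕ) {U V : C} (f : U ⟶ V) :
    Ext.{u} (freeYoneda J V) F p →+ Ext.{u} (freeYoneda J U) F p :=
  (Ext.mk₀ (freeMap J f)).precomp F (zero_add p)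

lemma pre_id (F : Sheaf J AddCommGrpCat.{u}) (p : ℕ) (U : C)
    (x : Ext.{u} (freeYoneda J U) F p) : pre F p (𝟙 U) x = x :=
  (congrArg (fun g => (Ext.mk₀ g).comp x (zero_add p)) (freeMap_id J U)).trans
    (Ext.mk₀_id_comp x)

lemma pre_comp (F : Sheaf J AddCommGrpCat.{u}) (p : ℕ) {U V W : C} (f : U ⟶ V) (g : V ⟶ W)
    (x : Ext.{u} (freeYoneda J W) F p) : pre F p (f ≫ g) x = pre F p f (pre F p g x) :=
  (congrArg (fun h => (Ext.mk₀ h).comp x (zero_add p)) (freeMap_comp J f g)).trans
    ((congrArg (fun e => Ext.comp e x (zero_add p))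
        (Ext.mk₀_comp_mk₀ (freeMap J f) (freeMap J g)).symm).trans
      (Ext.comp_assoc (Ext.mk₀ (freeMap J f)) (Ext.mk₀ (freeMap J g)) x (zero_add 0)
        (zero_add p) (by omega)))

/-- the cohomology presheaf `U ↦ Ext^p(ℤ[h_U]^#, F)`, with explicit structure -/
noncomputable def Sp' (F : Sheaf J AddCommGrpCat.{u}) (p : ℕ) : Cᵒᵖ ⥤ AddCommGrpCat.{u} where
  obj U := AddCommGrpCat.of (Ext.{u} (freeYoneda J U.unop) F p)
  map {U V} f := AddCommGrpCat.ofHom (pre F p f.unop)
  map_id U := AddCommGrpCat.hom_ext (AddMonoidHom.ext (pre_id F p U.unop))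
  map_comp {U V W} f g := AddCommGrpCat.hom_ext (AddMonoidHom.ext (pre_comp F p g.unop f.unop))

end Groth.Agent.Lib.CohPresheafDerived
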