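/-
Groth.Agent.Lib.CohPre2 (helper49): functoriality of the cohomology presheaf in the sheaf (`SpF p`),
the connecting morphism `conn hX p : Sp' X₃ p ⟶ Sp' X₁ (p+1)` of a short exact sequence of abelian
sheaves on a small site, which is an epimorphism (all `p`) resp. isomorphism (`p ≥ 1`) when `X₂`
is injective.
-/
import Groth.Agent.Lib.CohPre1
import Mathlib.Algebra.Homology.ShortComplex.Ab
import Mathlib.Algebra.Homology.ShortComplex.PreservesHomology
import Mathlib.Algebra.Homology.ShortComplex.ExactFunctor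
import Mathlib.CategoryTheory.Limits.FunctorCategory.EpiMono

set_option autoImplicit false
set_option linter.unusedVariables false
universe u

namespace Groth.Agent.Lib.CohPresheafDerived

open CategoryTheory Limits Opposite Abelian Groth.Agent.Lib.SiteCoh

variable {C : Type u} [SmallCategory C] {J : GrothendieckTopology C}

/-- postcomposition on `Ext` -/
noncomputable def post {F G : Sheaf J AddCommGrpCat.{u}} (φ : F ⟶ G) (p : ℕ) (U : C) :
    Ext.{u} (freeYoneda J U) F p →+ Ext.{u} (freeYoneda J U) G p :=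
  (Ext.mk₀ φ).postcomp (freeYoneda J U) (add_zero p)

lemma post_pre {F G : Sheaf J AddCommGrpCat.{u}} (φ : F ⟶ G) (p : ℕ) {U V : C} (f : U ⟶ V)
    (x : Ext.{u} (freeYoneda J V) F p) :
    post φ p U (pre F p f x) = pre G p f (post φ p V x) :=
  Ext.comp_assoc (Ext.mk₀ (freeMap J f)) x (Ext.mk₀ φ) (zero_add p) (add_zero p) (by omega)

/-- functoriality of `Sp'` in the sheaf -/
noncomputable def Sp'map {F G : Sheaf J AddCommGrpCat.{u}} (φ : F ⟶ G) (p : ℕ) :
    Sp' F p ⟶ Sp' G p where
  app U := AddCommGrpCat.ofHom (post φ p U.unop)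
  naturality {U V} f := AddCommGrpCat.hom_ext (AddMonoidHom.ext (fun x =>
    post_pre φ p f.unop x))

/-- the cohomology presheaf functor with explicit structure -/
noncomputable def SpF (p : ℕ) : Sheaf J AddCommGrpCat.{u} ⥤ Cᵒᵖ ⥤ AddCommGrpCat.{u} where
  obj F := Sp' F p
  map φ := Sp'map φ p
  map_id F := NatTrans.ext (funext fun U => AddCommGrpCat.hom_ext (AddMonoidHom.ext fun x =>
    Ext.comp_mk₀_id x))
  map_comp {F G H} φ ψ := NatTrans.ext (funext fun U => AddCommGrpCat.hom_ext
    (AddMonoidHom.ext fun x =>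
      (congrArg (fun e => Ext.comp x e (add_zero p)) (Ext.mk₀_comp_mk₀ φ ψ).symm).trans
        (Ext.comp_assoc x (Ext.mk₀ φ) (Ext.mk₀ ψ) (add_zero p) (add_zero 0)
          (by omega)).symm))


section Conn

variable {X : ShortComplex (Sheaf J AddCommGrpCat.{u})} (hX : X.ShortExact)

/-- the connecting map on `Ext` -/
noncomputable def connHom (p : ℕ) (U : C) :
    Ext.{u} (freeYoneda J U) X.X₃ p →+ Ext.{u} (freeYoneda J U) X.X₁ (p + 1) :=
  hX.extClass.postcomp (freeYoneda J U) rfl

lemma connHom_pre (p : ℕ) {U V : C} (f : U ⟶ V) (x : Ext.{u} (freeYoneda J V) X.X₃ p) :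
    connHom hX p U (pre X.X₃ p f x) = pre X.X₁ (p + 1) f (connHom hX p V x) :=
  Ext.comp_assoc (Ext.mk₀ (freeMap J f)) x hX.extClass (zero_add p) rfl (by omega)

/-- the connecting morphism of presheaves `H^p(-, X₃) ⟶ H^{p+1}(-, X₁)` -/
noncomputable def conn (p : ℕ) : Sp' X.X₃ p ⟶ Sp' X.X₁ (p + 1) where
  app U := AddCommGrpCat.ofHom (connHom hX p U.unop)
  naturality {U V} f := AddCommGrpCat.hom_ext (AddMonoidHom.ext (fun x =>
    connHom_pre hX p f.unop x))

lemma connHom_surjective [Injective X.X₂] (p : ℕ) (U : C) :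
    Function.Surjective (connHom hX p U) := fun y =>
  Ext.covariant_sequence_exact₁ _ hX y (Ext.eq_zero_of_injective _) rfl

lemma connHom_eq_zero_iff (p : ℕ) (U : C) (x : Ext.{u} (freeYoneda J U) X.X₃ p) :
    connHom hX p U x = 0 ↔ ∃ y : Ext.{u} (freeYoneda J U) X.X₂ p, post X.g p U y = x :=
  ⟨fun h => Ext.covariant_sequence_exact₃ _ hX x rfl h, fun ⟨y, hy⟩ => by
    rw [← hy]
    change (y.comp (Ext.mk₀ X.g) (add_zero p)).comp hX.extClass rfl = 0
    rw [Ext.comp_assoc_of_second_deg_zero, hX.comp_extClass, Ext.comp_zero]⟩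

lemma connHom_injective [Injective X.X₂] (p : ℕ) (U : C) :
    Function.Injective (connHom hX (p + 1) U) := by
  rw [injective_iff_map_eq_zero]
  intro x hx
  obtain ⟨y, rfl⟩ := (connHom_eq_zero_iff hX (p + 1) U x).1 hx
  rw [Ext.eq_zero_of_injective y, map_zero]

instance isIso_conn [Injective X.X₂] (p : ℕ) : IsIso (conn hX (p + 1)) := by
  have : ∀ U, IsIso ((conn hX (p + 1)).app U) := fun U => by
    rw [ConcreteCategory.isIso_iff_bijective]
    exact ⟨connHom_injective hX p U.unop, connHom_surjective hX (p + 1) U.unop⟩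
  exact NatIso.isIso_of_isIso_app _

instance epi_conn [Injective X.X₂] (p : ℕ) : Epi (conn hX p) := by
  have : ∀ U, Epi ((conn hX p).app U) := fun U => by
    rw [AddCommGrpCat.epi_iff_surjective]
    exact connHom_surjective hX p U.unop
  exact NatTrans.epi_of_epi_app _

end Conn

end Groth.Agent.Lib.CohPresheafDerived
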