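/-
Groth.Agent.Lib.CohPre3 (helper49): for abelian sheaves on a small site: exactness in functor
categories is objectwise (`exact_of_evaluation`); exactness of `Sp' X₂ p → Sp' X₃ p → Sp' X₁ (p+1)`;
`SpFZeroIso : SpF 0 ≅ sheafToPresheaf`; `Sp'Iso : Sp' F p ≅ Sheaf.cohomologyPresheaf F p`.
-/
import Groth.Agent.Lib.CohPre2

set_option autoImplicit false
set_option linter.unusedVariables false
universe u

namespace Groth.Agent.Lib.CohPresheafDerived

open CategoryTheory Limits Opposite Abelian Groth.Agent.Lib.SiteCoh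

section General

variable {K : Type*} [Category K] {D : Type*} [Category D] [Abelian D]

/-- exactness in a functor category is checked objectwise -/
lemma exact_of_evaluation (S : ShortComplex (K ⥤ D))
    (h : ∀ k, (S.map ((evaluation K D).obj k)).Exact) : S.Exact := by
  rw [ShortComplex.exact_iff_isZero_homology]
  apply Functor.isZero
  intro k
  have := (h k)
  rw [ShortComplex.exact_iff_isZero_homology] at this
  exact IsZero.of_iso this (S.mapHomologyIso ((evaluation K D).obj k)).symm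

end General

variable {C : Type u} [SmallCategory C] {J : GrothendieckTopology C}

section Exact0

variable {X : ShortComplex (Sheaf J AddCommGrpCat.{u})} (hX : X.ShortExact)

lemma Sp'map_conn (p : ℕ) : Sp'map X.g p ≫ conn hX p = 0 :=
  NatTrans.ext (funext fun U => AddCommGrpCat.hom_ext (AddMonoidHom.ext fun y =>
    (connHom_eq_zero_iff hX p U.unop _).2 ⟨y, rfl⟩))

lemma exact_Sp'map_conn (p : ℕ) :
    (ShortComplex.mk (Sp'map X.g p) (conn hX p) (Sp'map_conn hX p)).Exact := by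
  apply exact_of_evaluation
  intro U
  rw [ShortComplex.ab_exact_iff]
  intro x hx
  obtain ⟨y, hy⟩ := (connHom_eq_zero_iff hX p U.unop x).1 hx
  exact ⟨y, hy⟩

end Exact0


section Zero

/-- `Hom(ℤ[h_U]^#, F) ≃+ F(U)` -/
noncomputable def ev (F : Sheaf J AddCommGrpCat.{u}) (U : C) :
    (freeYoneda J U ⟶ F) ≃+ F.obj.obj (op U) where
  __ := freeYonedaHomEquiv U F
  map_add' φ ψ := by
    have key : ∀ χ : freeYoneda J U ⟶ F, freeYonedaHomEquiv U F χ =
        χ.hom.app (op U) (freeYonedaHomEquiv U _ (𝟙 (freeYoneda J U))) := by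
      intro χ
      rw [← freeYonedaHomEquiv_comp, Category.id_comp]
    change freeYonedaHomEquiv U F (φ + ψ) = freeYonedaHomEquiv U F φ + freeYonedaHomEquiv U F ψ
    rw [key (φ + ψ), key φ, key ψ, Sheaf.Hom.add_app]
    rfl

lemma ev_comp {F G : Sheaf J AddCommGrpCat.{u}} (U : C) (a : freeYoneda J U ⟶ F) (φ : F ⟶ G) :
    ev G U (a ≫ φ) = φ.hom.app (op U) (ev F U a) :=
  freeYonedaHomEquiv_comp U a φ

lemma ev_map (F : Sheaf J AddCommGrpCat.{u}) {U V : C} (f : U ⟶ V) (a : freeYoneda J V ⟶ F) :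
    ev F U (freeMap J f ≫ a) = F.obj.map f.op (ev F V a) := by
  change freeYonedaHomEquiv U F (freeMap J f ≫ a) = F.obj.map f.op (freeYonedaHomEquiv V F a)
  simp only [freeYonedaHomEquiv, Equiv.trans_apply, freeMap]
  rw [Adjunction.homEquiv_naturality_left, Adjunction.homEquiv_naturality_left]
  exact (yonedaEquiv_naturality _ f).symm

lemma addEquiv₀_comp_left {A B F : Sheaf J AddCommGrpCat.{u}} (a : A ⟶ B) (x : Ext.{u} B F 0) :
    Ext.addEquiv₀ ((Ext.mk₀ a).comp x (zero_add 0)) = a ≫ Ext.addEquiv₀ x := by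
  apply Ext.addEquiv₀.symm.injective
  rw [AddEquiv.symm_apply_apply, Ext.addEquiv₀_symm_apply, ← Ext.mk₀_comp_mk₀,
    Ext.mk₀_addEquiv₀_apply]

lemma addEquiv₀_comp_right {A F G : Sheaf J AddCommGrpCat.{u}} (x : Ext.{u} A F 0) (φ : F ⟶ G) :
    Ext.addEquiv₀ (x.comp (Ext.mk₀ φ) (add_zero 0)) = Ext.addEquiv₀ x ≫ φ := by
  apply Ext.addEquiv₀.symm.injective
  rw [AddEquiv.symm_apply_apply, Ext.addEquiv₀_symm_apply, ← Ext.mk₀_comp_mk₀,
    Ext.mk₀_addEquiv₀_apply]

/-- `Ext^0(ℤ[h_U]^#, F) ≃+ F(U)` -/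
noncomputable def sec (F : Sheaf J AddCommGrpCat.{u}) (U : C) :
    Ext.{u} (freeYoneda J U) F 0 ≃+ F.obj.obj (op U) :=
  Ext.addEquiv₀.trans (ev F U)

lemma sec_pre (F : Sheaf J AddCommGrpCat.{u}) {U V : C} (f : U ⟶ V)
    (x : Ext.{u} (freeYoneda J V) F 0) :
    sec F U (pre F 0 f x) = F.obj.map f.op (sec F V x) :=
  (congrArg (ev F U) (addEquiv₀_comp_left (freeMap J f) x)).trans (ev_map F f _)

lemma sec_post {F G : Sheaf J AddCommGrpCat.{u}} (φ : F ⟶ G) (U : C)
    (x : Ext.{u} (freeYoneda J U) F 0) :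
    sec G U (post φ 0 U x) = φ.hom.app (op U) (sec F U x) :=
  (congrArg (ev G U) (addEquiv₀_comp_right x φ)).trans (ev_comp U _ φ)

/-- `H^0(-, F) ≅ F` as presheaves -/
noncomputable def secIsoApp (F : Sheaf J AddCommGrpCat.{u}) (U : Cᵒᵖ) :
    (Sp' F 0).obj U ≅ F.obj.obj U := (sec F U.unop).toAddCommGrpIso

lemma secIsoApp_naturality (F : Sheaf J AddCommGrpCat.{u}) {U V : Cᵒᵖ} (f : U ⟶ V) :
    (Sp' F 0).map f ≫ (secIsoApp F V).hom = (secIsoApp F U).hom ≫ F.obj.map f :=
  AddCommGrpCat.hom_ext (AddMonoidHom.ext fun x => sec_pre F f.unop x)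

/-- `H^0(-, F) ≅ F` as presheaves -/
noncomputable def secIso (F : Sheaf J AddCommGrpCat.{u}) :
    Sp' F 0 ≅ (sheafToPresheaf J AddCommGrpCat.{u}).obj F :=
  NatIso.ofComponents (secIsoApp F) (fun {U V} f => secIsoApp_naturality F f)

lemma secIso_naturality {F G : Sheaf J AddCommGrpCat.{u}} (φ : F ⟶ G) :
    (SpF 0).map φ ≫ (secIso G).hom = (secIso F).hom ≫ (sheafToPresheaf J AddCommGrpCat.{u}).map φ :=
  NatTrans.ext (funext fun U =>
    AddCommGrpCat.hom_ext (AddMonoidHom.ext fun x => sec_post φ U.unop x))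

/-- `H^0 ≅` the forgetful functor -/
noncomputable def SpFZeroIso : SpF (J := J) 0 ≅ sheafToPresheaf J AddCommGrpCat.{u} :=
  NatIso.ofComponents secIso (fun {F G} φ => secIso_naturality φ)

end Zero

section Compare

lemma Sp'_map_eq (F : Sheaf J AddCommGrpCat.{u}) (p : ℕ) {U V : Cᵒᵖ} (f : U ⟶ V) :
    (Sp' F p).map f = (Sheaf.cohomologyPresheaf.{u} F p).map f := rfl

/-- `Sp'` is Mathlib's cohomology presheaf -/
noncomputable def Sp'Iso (F : Sheaf J AddCommGrpCat.{u}) (p : ℕ) :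
    Sp' F p ≅ Sheaf.cohomologyPresheaf.{u} F p :=
  NatIso.ofComponents (fun U => Iso.refl _) (fun {U V} f =>
    (Category.comp_id ((Sp' F p).map f)).trans
      ((Sp'_map_eq F p f).trans (Category.id_comp _).symm))


end Compare

end Groth.Agent.Lib.CohPresheafDerived
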