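/-
Groth.Agent.Lib.DeltaUnique (helper49): objectwise uniqueness of effaceable δ-functors (`nonempty_iso`), by dimension shifting along `0 → F → I → Q → 0`; imports only Mathlib.
-/
import Mathlib.CategoryTheory.Abelian.Injective.Basic
import Mathlib.Algebra.Homology.ShortComplex.ShortExact
import Mathlib.Algebra.Homology.ShortComplex.Exact
import Mathlib.CategoryTheory.Limits.Shapes.Kernels

set_option autoImplicit false
universe v v' u u'

namespace Groth.Agent.Lib.DeltaUnique

open CategoryTheory CategoryTheory.Limits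

variable {A : Type u} [Category.{v} A] [Abelian A] [EnoughInjectives A]
  {B : Type u'} [Category.{v'} B] [Abelian B]

/-- the short exact sequence `0 → F → I → Q → 0` with `I` injective -/
noncomputable def ses (F : A) : ShortComplex A :=
  ShortComplex.mk (Injective.ι F) (cokernel.π (Injective.ι F)) (cokernel.condition _)

lemma ses_shortExact (F : A) : (ses F).ShortExact where
  exact := ShortComplex.exact_cokernel _
  mono_f := inferInstanceAs (Mono (Injective.ι F))
  epi_g := inferInstanceAs (Epi (cokernel.π (Injective.ι F)))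

instance (F : A) : Injective (ses F).X₂ := inferInstanceAs (Injective (Injective.under F))

/-- Uniqueness of effaceable δ-functors, objectwise and without naturality: two sequences of
functors `T p`, `S p` with `T 0 ≅ S 0`, such that for every short exact sequence
`0 → X₁ → X₂ → X₃ → 0` with `X₂` injective, `T 1 X₁` is the cokernel of `T 0 X₂ → T 0 X₃` and
`T (p+1) X₃ ≅ T (p+2) X₁` (same for `S`), agree on objects. -/
theorem nonempty_iso (T S : ℕ → A ⥤ B)
    (hT0 : ∀ X : ShortComplex A, X.ShortExact → Injective X.X₂ →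
      ∃ δ : (T 0).obj X.X₃ ⟶ (T 1).obj X.X₁, Epi δ ∧
        ∃ w, (ShortComplex.mk ((T 0).map X.g) δ w).Exact)
    (hT1 : ∀ X : ShortComplex A, X.ShortExact → Injective X.X₂ →
      ∀ p : ℕ, Nonempty ((T (p + 1)).obj X.X₃ ≅ (T (p + 2)).obj X.X₁))
    (hS0 : ∀ X : ShortComplex A, X.ShortExact → Injective X.X₂ →
      ∃ δ : (S 0).obj X.X₃ ⟶ (S 1).obj X.X₁, Epi δ ∧
        ∃ w, (ShortComplex.mk ((S 0).map X.g) δ w).Exact)
    (hS1 : ∀ X : ShortComplex A, X.ShortExact → Injective X.X₂ →
      ∀ p : ℕ, Nonempty ((S (p + 1)).obj X.X₃ ≅ (S (p + 2)).obj X.X₁))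
    (e0 : T 0 ≅ S 0) (p : ℕ) (F : A) : Nonempty ((T p).obj F ≅ (S p).obj F) := by
  induction p using Nat.strong_induction_on generalizing F with
  | _ p ih =>
    match p, ih with
    | 0, _ => exact ⟨e0.app F⟩
    | 1, _ =>
      obtain ⟨δT, hδT, wT, exT⟩ := hT0 (ses F) (ses_shortExact F) inferInstance
      obtain ⟨δS, hδS, wS, exS⟩ := hS0 (ses F) (ses_shortExact F) inferInstance
      have cT : IsColimit (CokernelCofork.ofπ δT wT) := exT.gIsCokernel
      have cS : IsColimit (CokernelCofork.ofπ δS wS) := exS.gIsCokernel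
      exact ⟨CokernelCofork.mapIsoOfIsColimit cT cS
        (Arrow.isoMk (e0.app _) (e0.app _) (e0.hom.naturality _).symm)⟩
    | p + 2, ih =>
      obtain ⟨a⟩ := hT1 (ses F) (ses_shortExact F) inferInstance p
      obtain ⟨b⟩ := hS1 (ses F) (ses_shortExact F) inferInstance p
      obtain ⟨c⟩ := ih (p + 1) (by omega) (ses F).X₃
      exact ⟨a.symm ≪≫ c ≪≫ b⟩

end Groth.Agent.Lib.DeltaUnique
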