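/-
Groth.Agent.Lib.CohPre4 (helper49): `nonempty_rightDerived_sheafToPresheaf_iso`: for an abelian sheaf
`F` on a small site, `R^p(sheafToPresheaf) F ≅ Sheaf.cohomologyPresheaf F p` (iso of presheaves), by
objectwise uniqueness of effaceable δ-functors (Lib/DeltaUnique) and helper31's long exact sequence
of right derived functors (Lib/RDLES31).
-/
import Groth.Agent.Lib.CohPre3
import Groth.Agent.Lib.RDLES31
import Groth.Agent.Lib.DeltaUnique

set_option autoImplicit false
set_option linter.unusedVariables false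
universe u

namespace Groth.Agent.Lib.CohPresheafDerived

open CategoryTheory Limits Opposite Abelian Groth.Agent.Lib.SiteCoh

section TSide

variable {A : Type*} [Category A] [Abelian A] [EnoughInjectives A]
  {B : Type*} [Category B] [Abelian B] (G : A ⥤ B) [G.Additive]

lemma hT0 (X : ShortComplex A) (hX : X.ShortExact) (hI : Injective X.X₂) :
    ∃ δ : (G.rightDerived 0).obj X.X₃ ⟶ (G.rightDerived 1).obj X.X₁, Epi δ ∧
      ∃ w, (ShortComplex.mk ((G.rightDerived 0).map X.g) δ w).Exact := by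
  obtain ⟨δ, -, h⟩ := Groth.Agent.RDPlus31.rightDerived_les G hX
  obtain ⟨-, ⟨w2, h2⟩, ⟨w3, h3⟩⟩ := h 0
  refine ⟨δ 0, ?_, w2, h2⟩
  have hz : IsZero ((G.rightDerived (0 + 1)).obj X.X₂) :=
    Functor.isZero_rightDerived_obj_injective_succ G 0 X.X₂
  exact h3.epi_f (hz.eq_of_tgt _ _)

lemma hT1 (X : ShortComplex A) (hX : X.ShortExact) (hI : Injective X.X₂) (p : ℕ) :
    Nonempty ((G.rightDerived (p + 1)).obj X.X₃ ≅ (G.rightDerived (p + 2)).obj X.X₁) := by
  obtain ⟨δ, -, h⟩ := Groth.Agent.RDPlus31.rightDerived_les G hX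
  obtain ⟨-, ⟨w2, h2⟩, ⟨w3, h3⟩⟩ := h (p + 1)
  have hz : IsZero ((G.rightDerived (p + 1)).obj X.X₂) :=
    Functor.isZero_rightDerived_obj_injective_succ G p X.X₂
  have hz' : IsZero ((G.rightDerived (p + 1 + 1)).obj X.X₂) :=
    Functor.isZero_rightDerived_obj_injective_succ G (p + 1) X.X₂
  have hm : Mono (δ (p + 1)) := h2.mono_g (hz.eq_of_src _ _)
  have he : Epi (δ (p + 1)) := h3.epi_f (hz'.eq_of_tgt _ _)
  have : IsIso (δ (p + 1)) := isIso_of_mono_of_epi _
  exact ⟨asIso (δ (p + 1))⟩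

end TSide

variable {C : Type u} [SmallCategory C] (J : GrothendieckTopology C)

/-- The right derived functors of the forgetful functor from abelian sheaves to presheaves are the
cohomology presheaves. -/
theorem nonempty_rightDerived_sheafToPresheaf_iso (F : Sheaf J AddCommGrpCat.{u}) (p : ℕ) :
    Nonempty (((sheafToPresheaf J AddCommGrpCat.{u}).rightDerived p).obj F ≅
      Sheaf.cohomologyPresheaf.{u} F p) := by
  obtain ⟨e⟩ := Groth.Agent.Lib.DeltaUnique.nonempty_iso
    (fun p => (sheafToPresheaf J AddCommGrpCat.{u}).rightDerived p) (fun p => SpF (J := J) p)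
    (hT0 _) (hT1 _)
    (fun X hX hI => by
      have := hI
      exact ⟨conn hX 0, epi_conn hX 0, Sp'map_conn hX 0, exact_Sp'map_conn hX 0⟩)
    (fun X hX hI p => by
      have := hI
      exact ⟨@asIso _ _ _ _ (conn hX (p + 1)) (isIso_conn hX p)⟩)
    ((sheafToPresheaf J AddCommGrpCat.{u}).rightDerivedZeroIsoSelf ≪≫ SpFZeroIso.symm) p F
  exact ⟨e ≪≫ Sp'Iso F p⟩

end Groth.Agent.Lib.CohPresheafDerived
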