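import Groth.Agent.S11918

/-!
# The Grothendieck spectral sequence with flexible identifications

A consumer-friendly form of `Groth.Agent.S11918.result` (helper21): the abutment objects and the
`E₂`-terms may be replaced by any isomorphic objects, and the zero object by any zero object.
-/

set_option autoImplicit false

universe v u

open CategoryTheory CategoryTheory.Limits
open scoped ZeroObject

namespace Groth.Agent.Lib.GrothSSFlex

open Groth.Agent.Lib.SpObjAbut

theorem exists_grothendieck_flex {C C' C'' : Type u} [Category.{v} C] [Category.{v} C']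
    [Category.{v} C''] [Abelian C] [Abelian C'] [Abelian C''] [HasInjectiveResolutions C]
    [HasInjectiveResolutions C']
    (T : C ⥤ C') [T.Additive] (S : C' ⥤ C'') [S.Additive] [PreservesFiniteLimits S]
    (hT : ∀ Q : C, Injective Q → ∀ q : ℕ, 0 < q → IsZero ((S.rightDerived q).obj (T.obj Q)))
    (A : C) (Z : C'') (hZ : IsZero Z) (Hn : ℕ → C'')
    (eH : ∀ n : ℕ, Nonempty (((T ⋙ S).rightDerived n).obj A ≅ Hn n))
    (E2 : ℕ → ℕ → C'')
    (eE : ∀ p q : ℕ, Nonempty ((S.rightDerived p).obj ((T.rightDerived q).obj A) ≅ E2 p q)) :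
    ∃ (E : E₂CohomologicalSpectralSequence C'')
      (a : SpSeq.Abutment E (fun n : ℤ => if 0 ≤ n then Hn n.toNat else Z)),
      (∀ n, a.IsFinite n) ∧ SpSeq.IsBounded E ∧
      ∀ p q : ℤ, Nonempty ((E.page 2 le_rfl).X (p, q) ≅
        (if 0 ≤ p ∧ 0 ≤ q then E2 p.toNat q.toNat else Z)) := by
  obtain ⟨E, a, ha, hb, hE⟩ := Groth.Agent.S11918.result T S hT A
  have key : ∀ n : ℤ, Nonempty ((if 0 ≤ n then ((T ⋙ S).rightDerived n.toNat).obj A else 0) ≅
      (if 0 ≤ n then Hn n.toNat else Z)) := by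
    intro n
    by_cases h : 0 ≤ n
    · rw [if_pos h, if_pos h]
      exact eH _
    · rw [if_neg h, if_neg h]
      exact ⟨(isZero_zero _).iso hZ⟩
  refine ⟨E, abutmentOfIso a (fun n => (key n).some),
    fun n => abutmentOfIso_isFinite _ _ n (ha n), hb, fun p q => ?_⟩
  obtain ⟨e⟩ := hE p q
  by_cases h : 0 ≤ p ∧ 0 ≤ q
  · rw [if_pos h] at e ⊢
    obtain ⟨e'⟩ := eE p.toNat q.toNat
    exact ⟨e ≪≫ e'⟩
  · rw [if_neg h] at e ⊢
    exact ⟨e ≪≫ (isZero_zero _).iso hZ⟩

end Groth.Agent.Lib.GrothSSFlex
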