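/-
helper11: right derived functors and post-composition with an exact functor (natural isomorphism),
and functoriality of `rightDerived` in isomorphisms of functors.  Mathlib only.
-/
import Mathlib.CategoryTheory.Abelian.RightDerived
import Mathlib.Algebra.Homology.ShortComplex.ExactFunctor

universe v₁ v₂ v₃ u₁ u₂ u₃
open CategoryTheory Limits

namespace Groth.Agent.Lib.RightDerivedPostComp

section HC

variable {B : Type u₂} [Category.{v₂} B] [Abelian B] {B' : Type u₃} [Category.{v₃} B'] [Abelian B']
  (G : B ⥤ B') [G.Additive] [PreservesFiniteLimits G] [PreservesFiniteColimits G]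
  {ι : Type*} (c : ComplexShape ι)

/-- an exact functor commutes with homology of complexes -/
noncomputable def mapHCHomologyIso (q : ι) :
    G.mapHomologicalComplex c ⋙ HomologicalComplex.homologyFunctor B' c q ≅
      HomologicalComplex.homologyFunctor B c q ⋙ G :=
  NatIso.ofComponents (fun K => (K.sc q).mapHomologyIso G)
    (fun {_ _} f => ShortComplex.mapHomologyIso_hom_naturality
      ((HomologicalComplex.shortComplexFunctor B c q).map f) G)

end HC

variable {A : Type u₁} [Category.{v₁} A] [Abelian A] [HasInjectiveResolutions A]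
  {B : Type u₂} [Category.{v₂} B] [Abelian B] {B' : Type u₃} [Category.{v₃} B'] [Abelian B']

/-- isomorphic functors have isomorphic right derived functors -/
noncomputable def rightDerivedIsoOfIso {F F' : A ⥤ B} [F.Additive] [F'.Additive] (e : F ≅ F') (n : ℕ) :
    F.rightDerived n ≅ F'.rightDerived n where
  hom := NatTrans.rightDerived e.hom n
  inv := NatTrans.rightDerived e.inv n
  hom_inv_id := by rw [← NatTrans.rightDerived_comp, e.hom_inv_id, NatTrans.rightDerived_id]
  inv_hom_id := by rw [← NatTrans.rightDerived_comp, e.inv_hom_id, NatTrans.rightDerived_id]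

variable (F : A ⥤ B) [F.Additive]
  (G : B ⥤ B') [G.Additive] [PreservesFiniteLimits G] [PreservesFiniteColimits G]

/-- the comparison of the two ways of computing on complexes -/
noncomputable def θ (q : ℕ) :
    F.mapHomologicalComplex (ComplexShape.up ℕ) ⋙
      (HomologicalComplex.homologyFunctor B (ComplexShape.up ℕ) q ⋙ G) ≅
    (F ⋙ G).mapHomologicalComplex (ComplexShape.up ℕ) ⋙
      HomologicalComplex.homologyFunctor B' (ComplexShape.up ℕ) q :=
  Functor.isoWhiskerLeft _ (mapHCHomologyIso G (ComplexShape.up ℕ) q).symm ≪≫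
    (Functor.associator _ _ _).symm ≪≫
    Functor.isoWhiskerRight
      (Functor.mapHomologicalComplexCompIso (Iso.refl (F ⋙ G)) (ComplexShape.up ℕ)) _

/-- objectwise comparison -/
noncomputable def postCompIsoApp (q : ℕ) (X : A) :
    G.obj ((F.rightDerived q).obj X) ≅ ((F ⋙ G).rightDerived q).obj X :=
  G.mapIso ((injectiveResolution X).isoRightDerivedObj F q) ≪≫
    (θ F G q).app (injectiveResolution X).cocomplex ≪≫
    ((injectiveResolution X).isoRightDerivedObj (F ⋙ G) q).symm

lemma three_squares {D : Type*} [Category D] {A₀ A₁ A₂ A₃ B₀ B₁ B₂ B₃ : D}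
    {a : A₀ ⟶ B₀} {s' : B₀ ⟶ B₁} {p' : B₁ ⟶ B₂} {t' : B₂ ⟶ B₃}
    {s : A₀ ⟶ A₁} {p : A₁ ⟶ A₂} {t : A₂ ⟶ A₃} {b : A₁ ⟶ B₁} {c : A₂ ⟶ B₂} {d : A₃ ⟶ B₃}
    (ha : a ≫ s' = s ≫ b) (hb : b ≫ p' = p ≫ c) (hc : c ≫ t' = t ≫ d) :
    a ≫ s' ≫ p' ≫ t' = (s ≫ p ≫ t) ≫ d := by
  rw [← Category.assoc, ha, Category.assoc, ← Category.assoc b, hb, Category.assoc, hc]
  simp only [Category.assoc]

/-- For `G` exact, `R^q F ⋙ G ≅ R^q (F ⋙ G)`, naturally. -/
noncomputable def rightDerivedPostCompIso (q : ℕ) :
    F.rightDerived q ⋙ G ≅ (F ⋙ G).rightDerived q :=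
  NatIso.ofComponents (postCompIsoApp F G q) (by
    intro X Y φ
    let ψ := InjectiveResolution.desc φ (injectiveResolution Y) (injectiveResolution X)
    have comm : (injectiveResolution X).ι.f 0 ≫ ψ.f 0 = φ ≫ (injectiveResolution Y).ι.f 0 :=
      InjectiveResolution.desc_commutes_zero φ _ _
    have h1 := congrArg G.map (InjectiveResolution.isoRightDerivedObj_hom_naturality φ
      (injectiveResolution X) (injectiveResolution Y) ψ comm F q)
    rw [Functor.map_comp, Functor.map_comp] at h1
    have h2 := (θ F G q).hom.naturality ψ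
    have h3 := (InjectiveResolution.isoRightDerivedObj_inv_naturality φ
      (injectiveResolution X) (injectiveResolution Y) ψ comm (F ⋙ G) q).symm
    exact three_squares h1 h2 h3)

end Groth.Agent.Lib.RightDerivedPostComp
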