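import Groth.Prelude.Def_CechEdge
import Groth.Agent.Lib.ExtDelta
import Mathlib.CategoryTheory.Sites.Abelian

/-!
# `P ↦ H^n(U, P^#)` as a cohomological delta-functor on abelian presheaves; interface lemmas
for `CechEdge.HUmap`, `CechEdge.extδ`, `CechEdge.sectH0`
-/

set_option autoImplicit false



universe u

open CategoryTheory Limits Opposite DeltaF Abelian

namespace Groth.Agent.Lib.CechEdgeB

open Groth.Agent.Lib.ExtDelta CechEdge

variable {C : Type u} [SmallCategory C] (J : GrothendieckTopology C) (U : C)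

/-- `F ↦ H^n(U, F)` as a cohomological delta-functor on abelian sheaves -/
noncomputable abbrev hDeltaSh : CohDeltaFunctor (Sheaf J AddCommGrpCat.{u}) AddCommGrpCat.{u} ℕ :=
  extDelta (CohCx.freeSheaf J U)

/-- `P ↦ H^n(U, P^#)` as a cohomological delta-functor on abelian presheaves -/
noncomputable def hDelta : CohDeltaFunctor (Cᵒᵖ ⥤ AddCommGrpCat.{u}) AddCommGrpCat.{u} ℕ :=
  precomp (presheafToSheaf J AddCommGrpCat.{u}) (hDeltaSh J U)

variable {J}

lemma HUmap_apply {F G : Sheaf J AddCommGrpCat.{u}} (ψ : F ⟶ G) (p : ℕ)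
    (x : Ext (CohCx.freeSheaf J U) F p) :
    HUmap ψ p U x = x.comp (Ext.mk₀ ψ) (add_zero p) := rfl

lemma extδ_apply {S : ShortComplex (Sheaf J AddCommGrpCat.{u})} (hS : S.ShortExact) (p : ℕ)
    (x : Ext (CohCx.freeSheaf J U) S.X₃ p) :
    extδ hS U p x = x.comp hS.extClass rfl := rfl

lemma sectH0_apply (F : Sheaf J AddCommGrpCat.{u}) (s : F.obj.obj (op U)) :
    sectH0 J U F s = Ext.mk₀ (CohFree.ofSect J U F s) := rfl

end Groth.Agent.Lib.CechEdgeB
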