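import Groth.Agent.Lib.RHZExt
import Groth.Agent.Lib.CechEdgeB

/-!
# The right derived functors of sections over an object of a small site are `H^p(V, -)`

`(Γ(V, -)).rightDerived p ≅ Ext^p(ℤ_V, -)` as functors, and objectwise
`(R^p Γ(V, -))(F) ≅ H^p(V, F)` (the prelude's `CohSite.HU` / `CohTop.HU`).
-/

set_option autoImplicit false

universe u

open CategoryTheory CategoryTheory.Limits Opposite DeltaF Abelian

namespace Groth.Agent.Lib.SectDerived

open Groth.Agent.Lib.ExtDelta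

variable {C : Type u} [SmallCategory C] (J : GrothendieckTopology C) (V : C)

/-- sections over `V` -/
noncomputable abbrev sect : Sheaf J AddCommGrpCat.{u} ⥤ AddCommGrpCat.{u} :=
  sheafToPresheaf J AddCommGrpCat.{u} ⋙ (evaluation Cᵒᵖ AddCommGrpCat.{u}).obj (op V)

/-- `Ext^0(ℤ_V, F) ≃+ F(V)` -/
noncomputable def e0 (F : Sheaf J AddCommGrpCat.{u}) :
    Ext (CohCx.freeSheaf J V) F 0 ≃+ F.obj.obj (op V) :=
  Ext.addEquiv₀.trans (CohFree.homEquivSect J V F)

lemma e0_mk₀ (F : Sheaf J AddCommGrpCat.{u}) (g : CohCx.freeSheaf J V ⟶ F) :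
    e0 J V F (Ext.mk₀ g) = CohFree.evalGen J V F g := by
  unfold e0
  rw [AddEquiv.trans_apply, ← Ext.addEquiv₀_symm_apply, AddEquiv.apply_symm_apply]
  rfl

/-- degree zero -/
noncomputable def iso0 : hF (CohCx.freeSheaf J V) 0 ≅ sect J V :=
  NatIso.ofComponents (fun F => (e0 J V F).toAddCommGrpIso) (by
    intro F G φ
    ext (x : Ext (CohCx.freeSheaf J V) F 0)
    obtain ⟨g, rfl⟩ : ∃ g : CohCx.freeSheaf J V ⟶ F, Ext.mk₀ g = x :=
      ⟨_, Ext.mk₀_addEquiv₀_apply x⟩
    change e0 J V G ((hF (CohCx.freeSheaf J V) 0).map φ (Ext.mk₀ g)) =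
      (sect J V).map φ (e0 J V F (Ext.mk₀ g))
    rw [hF_map_apply, Ext.mk₀_comp_mk₀, e0_mk₀, e0_mk₀]
    rfl)

/-- **The derived functors of sections over `V` are `Ext^•(ℤ_V, -)`.** -/
theorem nonempty_rightDerived_iso (p : ℕ) :
    Nonempty ((sect J V).rightDerived p ≅ hF (CohCx.freeSheaf J V) p) := by
  have h1 := Groth.Agent.Lib.CechDelta.derived_isUniversal (sect J V)
  have h2 := DeltaUniv.isUniversal_of_isEffaceable _
    (Groth.Agent.Lib.RHZExt.extDelta_isEffaceable.{u} (CohCx.freeSheaf J V))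
  exact DeltaIso.nonempty_natIso_of_isUniversal _ _ h1 h2
    ((Functor.rightDerivedZeroIsoSelf (sect J V)) ≪≫ (iso0 J V).symm) p

/-- objectwise form with the prelude's `HU` -/
theorem nonempty_rightDerived_obj_iso (F : Sheaf J AddCommGrpCat.{u}) (p : ℕ) :
    Nonempty (((sect J V).rightDerived p).obj F ≅ AddCommGrpCat.of (CohSite.HU F p V)) := by
  obtain ⟨e⟩ := nonempty_rightDerived_iso J V p
  exact ⟨e.app F⟩

end Groth.Agent.Lib.SectDerived
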