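import Groth.Agent.Lib.CechEdgeF
import Groth.Agent.Lib.CechDelta2
import Groth.Agent.Lib.SectDerived
import Groth.Agent.Lib.CohPre4
import Groth.Agent.Lib.GrothSSFlex
import Groth.Agent.Lib.RightDerivedPostComp

/-!
# The spectral sequence of a covering (Cartan–Leray / Cech-to-derived)

`E₂^{p,q} = Ȟ^p(Y, ℋ^q(M)) ⇒ H^{p+q}(X, M)` for a covering family `Y` of `X` in a small site with
fibre products: the Grothendieck spectral sequence for `T = ` forget to presheaves and
`S = Ȟ^0(Y, -)`.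
-/

set_option autoImplicit false

universe u

open CategoryTheory Limits Opposite DeltaF Abelian

namespace Groth.Agent.Lib.CartanLeray

open Groth.Agent.Lib.ExtDelta Groth.Agent.Lib.CechEdgeA Groth.Agent.Lib.CechEdgeB
  Groth.Agent.Lib.CechEdgeC Groth.Agent.Lib.CechEdgeD Groth.Agent.Lib.CechEdgeF
  Groth.Agent.Lib.CechDelta CechEdge

variable {C : Type u} [SmallCategory C] [HasPullbacks C] (J : GrothendieckTopology C)
  {X : C} {ι : Type u} (Y : ι → Over X)
  (hY : Sieve.ofArrows (fun i => (Y i).left) (fun i => (Y i).hom) ∈ J X)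

/-- `Ȟ^0(Y, -)` on sheaves is sections over `X` -/
noncomputable def isoTS :
    sheafToPresheaf J AddCommGrpCat.{u} ⋙ EtCech.cechHFunctor Y 0 ≅
      Groth.Agent.Lib.SectDerived.sect J X :=
  NatIso.ofComponents (fun G => (h0e Y hY G).toAddCommGrpIso) (by
    intro F G ψ
    ext y
    exact h0e_natural Y hY ψ y)

include hY in
/-- **The spectral sequence of a covering.** -/
theorem exists_spectralSequence (M : Sheaf J AddCommGrpCat.{u}) :
    ∃ (E : E₂CohomologicalSpectralSequence AddCommGrpCat.{u})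
      (a : SpSeq.Abutment E (fun n : ℤ =>
        if 0 ≤ n then AddCommGrpCat.of (CohSite.HU M n.toNat X) else AddCommGrpCat.of PUnit.{u + 1})),
      (∀ n, a.IsFinite n) ∧ SpSeq.IsBounded E ∧
      ∀ p q : ℤ, Nonempty ((E.page 2 le_rfl).X (p, q) ≅
        (if 0 ≤ p ∧ 0 ≤ q then CohCx.cechH (M.cohomologyPresheaf q.toNat) Y p.toNat
         else AddCommGrpCat.of PUnit.{u + 1})) := by
  have := Groth.Agent.Lib.FunctorialInjective.isGrothendieckAbelian_presheafAb (C := C)
  have hS : ∀ p : ℕ, Nonempty (EtCech.cechHFunctor (C := C) Y p ≅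
      (EtCech.cechHFunctor (C := C) Y 0).rightDerived p) := fun p => nonempty_cechHFunctor_iso Y p
  have hT : ∀ Q : Sheaf J AddCommGrpCat.{u}, Injective Q → ∀ q : ℕ, 0 < q →
      IsZero (((EtCech.cechHFunctor (C := C) Y 0).rightDerived q).obj
        ((sheafToPresheaf J AddCommGrpCat.{u}).obj Q)) := by
    intro Q hQ q hq
    obtain ⟨n, rfl⟩ : ∃ n, q = n + 1 := ⟨q - 1, by omega⟩
    obtain ⟨e⟩ := hS (n + 1)
    have := injective_obj Q
    exact (CechInjGen.isZero_homology_of_injective Y Q.obj n).of_iso (e.app Q.obj).symm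
  have eH : ∀ n : ℕ, Nonempty (((sheafToPresheaf J AddCommGrpCat.{u} ⋙
      EtCech.cechHFunctor (C := C) Y 0).rightDerived n).obj M ≅
      AddCommGrpCat.of (CohSite.HU M n X)) := by
    intro n
    obtain ⟨e⟩ := Groth.Agent.Lib.SectDerived.nonempty_rightDerived_obj_iso J X M n
    exact ⟨(Groth.Agent.Lib.RightDerivedPostComp.rightDerivedIsoOfIso (isoTS J Y hY) n).app M ≪≫ e⟩
  have eE : ∀ p q : ℕ, Nonempty (((EtCech.cechHFunctor (C := C) Y 0).rightDerived p).obj
      (((sheafToPresheaf J AddCommGrpCat.{u}).rightDerived q).obj M) ≅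
      CohCx.cechH (M.cohomologyPresheaf q) Y p) := by
    intro p q
    obtain ⟨e⟩ := hS p
    obtain ⟨e'⟩ := Groth.Agent.Lib.CohPresheafDerived.nonempty_rightDerived_sheafToPresheaf_iso J M q
    exact ⟨(e.app _).symm ≪≫ (EtCech.cechHFunctor (C := C) Y p).mapIso e'⟩
  exact Groth.Agent.Lib.GrothSSFlex.exists_grothendieck_flex (sheafToPresheaf J AddCommGrpCat.{u})
    (EtCech.cechHFunctor (C := C) Y 0) hT M (AddCommGrpCat.of PUnit.{u + 1})
    (AddCommGrpCat.isZero_of_subsingleton _)
    (fun n => AddCommGrpCat.of (CohSite.HU M n X)) eH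
    (fun p q => CohCx.cechH (M.cohomologyPresheaf q) Y p) eE

end Groth.Agent.Lib.CartanLeray
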