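import Mathlib

/-!
# Fixed ideal of a finite-order automorphism of a local algebra (for S18399)

`P = 1 - (1/n) ∑ σ^i` is a `k`-linear idempotent with `P(A) ⊆ I_σ`, `P(a - σ a) = a - σ a` and
`P(m²) ⊆ m · I_σ`; Nakayama then shows `I_σ` is generated by `P x_j` for `x_j ∈ m` whose classes form
a basis of the span of all classes `[P x]` in `m/m²`.
-/

namespace Groth.Agent.Lib.CartanLinear

open IsLocalRing

section Avg

variable {k A : Type*} [Field k] [CommRing A] [Algebra k A]
  (σ : A →ₐ[k] A) (n : ℕ)

/-- The sum `∑_{i<n} σ^i` as a `k`-linear endomorphism. -/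
noncomputable def sumPow : Module.End k A := ∑ i ∈ Finset.range n, σ.toLinearMap ^ i

/-- The projector `P = 1 - (1/n) ∑ σ^i`. -/
noncomputable def P : Module.End k A := 1 - (n : k)⁻¹ • sumPow σ n

variable {σ n}

theorem pow_apply' (i : ℕ) (a : A) : (σ.toLinearMap ^ i) a = (⇑σ)^[i] a := by
  rw [Module.End.pow_apply]
  rfl

variable (hσ : ∀ a : A, (⇑σ)^[n] a = a)

include hσ in
theorem pow_n : σ.toLinearMap ^ n = 1 := by
  ext a
  rw [pow_apply', hσ, Module.End.one_apply]

include hσ in
theorem sumPow_mul : sumPow σ n * σ.toLinearMap = sumPow σ n := by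
  unfold sumPow
  rw [Finset.sum_mul]
  have h1 : ∀ i, σ.toLinearMap ^ i * σ.toLinearMap = σ.toLinearMap ^ (i + 1) := fun i =>
    (pow_succ _ _).symm
  simp_rw [h1]
  have h2 := Finset.sum_range_succ (fun i => σ.toLinearMap ^ i) n
  have h3 := Finset.sum_range_succ' (fun i => σ.toLinearMap ^ i) n
  rw [h2, pow_n hσ, pow_zero] at h3
  exact (add_right_cancel h3).symm

include hσ in
theorem sumPow_mul_pow (i : ℕ) : sumPow σ n * σ.toLinearMap ^ i = sumPow σ n := by
  induction i with
  | zero => rw [pow_zero, mul_one]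
  | succ i ih => rw [pow_succ, ← mul_assoc, ih, sumPow_mul hσ]

include hσ in
theorem sumPow_sq : sumPow σ n * sumPow σ n = (n : k) • sumPow σ n := by
  conv_lhs => rhs; unfold sumPow
  rw [Finset.mul_sum]
  simp_rw [sumPow_mul_pow hσ]
  rw [Finset.sum_const, Finset.card_range, Nat.cast_smul_eq_nsmul]

variable (hn : (n : k) ≠ 0)

include hσ hn in
theorem P_idem : P σ n * P σ n = P σ n := by
  unfold P
  have he : ((n : k)⁻¹ • sumPow σ n) * ((n : k)⁻¹ • sumPow σ n) = (n : k)⁻¹ • sumPow σ n := by
    rw [smul_mul_smul_comm, sumPow_sq hσ, smul_smul, mul_assoc, inv_mul_cancel₀ hn, mul_one]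
  generalize (n : k)⁻¹ • sumPow σ n = e at he
  rw [sub_mul, mul_sub, mul_sub, one_mul, mul_one, one_mul, he]
  abel

include hσ in
theorem P_mul_sigma_sub (a : A) : P σ n (a - σ a) = a - σ a := by
  unfold P
  rw [LinearMap.sub_apply, Module.End.one_apply, LinearMap.smul_apply, map_sub]
  have h1 : sumPow σ n (σ a) = sumPow σ n a := by
    have := congrArg (fun f : Module.End k A => f a) (sumPow_mul hσ)
    simpa using this
  rw [h1, sub_self, smul_zero, sub_zero]

include hn in
theorem P_apply (a : A) : P σ n a = (n : k)⁻¹ • ∑ i ∈ Finset.range n, (a - (⇑σ)^[i] a) := by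
  unfold P sumPow
  rw [LinearMap.sub_apply, Module.End.one_apply, LinearMap.smul_apply, LinearMap.sum_apply,
    Finset.sum_sub_distrib, Finset.sum_const, Finset.card_range, smul_sub,
    ← Nat.cast_smul_eq_nsmul k, smul_smul, inv_mul_cancel₀ hn, one_smul]
  simp_rw [pow_apply']

end Avg

section Local

variable {k A : Type*} [Field k] [CommRing A] [Algebra k A] [IsLocalRing A]
  {σ : A →ₐ[k] A} {n : ℕ}

/-- The ideal generated by the `a - σ a`. -/
def Iσ (σ : A →ₐ[k] A) : Ideal A := Ideal.span (Set.range fun a : A => a - σ a)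

theorem iterate_isUnit (i : ℕ) {x : A} (hx : IsUnit x) : IsUnit ((⇑σ)^[i] x) := by
  induction i with
  | zero => exact hx
  | succ i ih => rw [Function.iterate_succ_apply']; exact ih.map σ

variable (hσ : ∀ a : A, (⇑σ)^[n] a = a) (hn : (n : k) ≠ 0)

include hσ hn in
theorem sigma_mem_maximalIdeal {x : A} (hx : x ∈ maximalIdeal A) : σ x ∈ maximalIdeal A := by
  have hn0 : n ≠ 0 := fun h => hn (by rw [h, Nat.cast_zero])
  obtain ⟨j, rfl⟩ := Nat.exists_eq_succ_of_ne_zero hn0
  rw [mem_maximalIdeal, mem_nonunits_iff] at hx ⊢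
  intro h
  apply hx
  have := iterate_isUnit (σ := σ) j h
  rwa [← Function.iterate_succ_apply, hσ] at this

include hσ hn in
theorem iterate_mem_maximalIdeal (i : ℕ) {x : A} (hx : x ∈ maximalIdeal A) :
    (⇑σ)^[i] x ∈ maximalIdeal A := by
  induction i with
  | zero => exact hx
  | succ i ih => rw [Function.iterate_succ_apply']; exact sigma_mem_maximalIdeal hσ hn ih

theorem sub_iterate_mem (i : ℕ) (a : A) : a - (⇑σ)^[i] a ∈ Iσ σ := by
  induction i with
  | zero => simp
  | succ i ih =>
    rw [Function.iterate_succ_apply']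
    have h1 : (⇑σ)^[i] a - σ ((⇑σ)^[i] a) ∈ Iσ σ := Ideal.subset_span ⟨_, rfl⟩
    have := (Iσ σ).add_mem ih h1
    convert this using 1
    ring

include hn in
theorem P_mem_Iσ (a : A) : P σ n a ∈ Iσ σ := by
  rw [P_apply hn]
  exact Submodule.smul_of_tower_mem _ _ (Submodule.sum_mem _ fun i _ => sub_iterate_mem i a)

include hσ hn in
theorem P_mem_maximalIdeal {x : A} (hx : x ∈ maximalIdeal A) : P σ n x ∈ maximalIdeal A := by
  rw [P_apply hn]
  exact Submodule.smul_of_tower_mem _ _ (Submodule.sum_mem _ fun i _ =>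
    Ideal.sub_mem _ hx (iterate_mem_maximalIdeal hσ hn i hx))

include hσ hn in
theorem P_mul_mem {x y : A} (hx : x ∈ maximalIdeal A) (hy : y ∈ maximalIdeal A) :
    P σ n (x * y) ∈ maximalIdeal A * Iσ σ := by
  rw [P_apply hn]
  refine Submodule.smul_of_tower_mem _ _ (Submodule.sum_mem _ fun i _ => ?_)
  rw [iterate_map_mul]
  have h1 : x * y - (⇑σ)^[i] x * (⇑σ)^[i] y =
      x * (y - (⇑σ)^[i] y) + (⇑σ)^[i] y * (x - (⇑σ)^[i] x) := by ring
  rw [h1]
  exact Ideal.add_mem _ (Ideal.mul_mem_mul hx (sub_iterate_mem i y))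
    (Ideal.mul_mem_mul (iterate_mem_maximalIdeal hσ hn i hy) (sub_iterate_mem i x))

include hσ hn in
theorem P_sq_mem {z : A} (hz : z ∈ maximalIdeal A ^ 2) : P σ n z ∈ maximalIdeal A * Iσ σ := by
  rw [pow_two] at hz
  induction hz using Submodule.mul_induction_on' with
  | mem_mul_mem x hx y hy => exact P_mul_mem hσ hn hx hy
  | add a _ b _ ha hb => rw [map_add]; exact Ideal.add_mem _ ha hb

variable (hres : Function.Surjective (algebraMap k (ResidueField A)))

include hσ hn hres in
theorem sub_sigma_mem_maximalIdeal (a : A) : a - σ a ∈ maximalIdeal A := by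
  obtain ⟨c, hc⟩ := hres (residue A a)
  have h1 : a - algebraMap k A c ∈ maximalIdeal A := by
    rw [← residue_eq_zero_iff, map_sub, ← hc, sub_eq_zero]
    rfl
  have h2 := sigma_mem_maximalIdeal hσ hn h1
  rw [map_sub, AlgHom.commutes] at h2
  have := Ideal.sub_mem _ h1 h2
  convert this using 1
  ring

end Local

section Main

universe u

theorem main {k : Type u} [Field k] {A : Type u} [CommRing A] [Algebra k A] [IsLocalRing A]
    [IsNoetherianRing A]
    (hres : Function.Surjective ⇑(algebraMap k (IsLocalRing.ResidueField A))) (σ : A →ₐ[k] A) (n : ℕ)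
    (hσ : ∀ a : A, (⇑σ)^[n] a = a) (hn : (n : k) ≠ 0) :
    ∃ (m : ℕ) (f : Fin m → ↥(IsLocalRing.maximalIdeal A)),
      Ideal.span (Set.range fun i : Fin m => (f i : A)) =
        Ideal.span (Set.range fun a : A => a - σ a) ∧
      LinearIndependent (IsLocalRing.ResidueField A)
        (fun i : Fin m => (IsLocalRing.maximalIdeal A).toCotangent (f i)) := by
  classical
  -- the classes of the `P x`
  let g : maximalIdeal A → maximalIdeal A := fun x => ⟨P σ n x, P_mem_maximalIdeal hσ hn x.2⟩
  let s : Set (CotangentSpace A) := Set.range fun x : maximalIdeal A =>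
    (maximalIdeal A).toCotangent (g x)
  obtain ⟨b, hbs, hspan, hli⟩ := exists_linearIndependent (ResidueField A) s
  have hbfin : b.Finite := hli.setFinite
  haveI : Finite b := hbfin.to_subtype
  let e : Fin (Nat.card b) ≃ b := (Finite.equivFin b).symm
  have hchoose : ∀ v : b, ∃ x : maximalIdeal A, (maximalIdeal A).toCotangent (g x) = v :=
    fun v => hbs v.2
  choose x hx using hchoose
  let f : Fin (Nat.card b) → maximalIdeal A := fun i => g (x (e i))
  have hf : ∀ i, (maximalIdeal A).toCotangent (f i) = (e i : CotangentSpace A) := fun i => hx (e i)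
  have hPf : ∀ i, P σ n (f i : A) = (f i : A) := by
    intro i
    have := congrArg (fun T : Module.End k A => T (x (e i) : A)) (P_idem hσ hn)
    exact this
  refine ⟨Nat.card b, f, ?_, ?_⟩
  swap
  · have : (fun i => (maximalIdeal A).toCotangent (f i)) = (fun v : b => (v : CotangentSpace A)) ∘ e := by
      funext i
      exact hf i
    rw [this]
    exact hli.comp e e.injective
  apply le_antisymm
  · rw [Ideal.span_le]
    rintro _ ⟨i, rfl⟩
    exact P_mem_Iσ hn _
  · change Iσ σ ≤ _
    apply Submodule.le_of_le_smul_of_le_jacobson_bot (I := maximalIdeal A)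
      (IsNoetherian.noetherian _) (IsLocalRing.jacobson_eq_maximalIdeal ⊥ bot_ne_top).ge
    unfold Iσ
    rw [Ideal.span_le]
    rintro _ ⟨a, rfl⟩
    have hy : a - σ a ∈ maximalIdeal A := sub_sigma_mem_maximalIdeal hσ hn hres a
    change a - σ a ∈ _
    rw [← P_mul_sigma_sub hσ a]
    set y : maximalIdeal A := ⟨a - σ a, hy⟩ with hydef
    have hmem : (maximalIdeal A).toCotangent (g y) ∈
        Submodule.span (ResidueField A) (Set.range fun i => (maximalIdeal A).toCotangent (f i)) := by
      have h1 : (maximalIdeal A).toCotangent (g y) ∈ Submodule.span (ResidueField A) b := by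
        rw [hspan]
        exact Submodule.subset_span ⟨y, rfl⟩
      have h2 : (Set.range fun i => (maximalIdeal A).toCotangent (f i)) = b := by
        ext v
        constructor
        · rintro ⟨i, rfl⟩
          change (maximalIdeal A).toCotangent (f i) ∈ b
          rw [hf]
          exact (e i).2
        · intro hv
          refine ⟨e.symm ⟨v, hv⟩, ?_⟩
          change (maximalIdeal A).toCotangent (f (e.symm ⟨v, hv⟩)) = v
          rw [hf, Equiv.apply_symm_apply]
      rwa [h2]
    rw [Submodule.mem_span_range_iff_exists_fun] at hmem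
    obtain ⟨c, hc⟩ := hmem
    choose c' hc' using fun i => hres (c i)
    -- the error term
    set z : A := P σ n (a - σ a) - ∑ i, algebraMap k A (c' i) * (f i : A) with hz
    have hzm : z ∈ maximalIdeal A :=
      Ideal.sub_mem _ (g y).2 (Ideal.sum_mem _ fun i _ => Ideal.mul_mem_left _ _ (f i).2)
    have hz2 : z ∈ maximalIdeal A ^ 2 := by
      rw [← Ideal.toCotangent_eq_zero _ ⟨z, hzm⟩]
      have h3 : (⟨z, hzm⟩ : maximalIdeal A) = g y - ∑ i, algebraMap k A (c' i) • f i := by
        apply Subtype.ext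
        simp [hz, g, y, Algebra.smul_def]
      rw [h3, map_sub, map_sum, ← hc, sub_eq_zero]
      refine Finset.sum_congr rfl fun i _ => ?_
      rw [map_smul, ← hc' i, IsScalarTower.algebraMap_apply k A (ResidueField A), algebraMap_smul]
    have hPz : P σ n z = z := by
      rw [hz, map_sub, map_sum]
      have h4 : P σ n (P σ n (a - σ a)) = P σ n (a - σ a) := by
        have := congrArg (fun T : Module.End k A => T (a - σ a)) (P_idem hσ hn)
        exact this
      rw [h4]
      congr 1
      refine Finset.sum_congr rfl fun i _ => ?_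
      rw [← Algebra.smul_def, map_smul, hPf]
    have hzI : z ∈ maximalIdeal A * Iσ σ := hPz ▸ P_sq_mem hσ hn hz2
    have hfinal : P σ n (a - σ a) = ∑ i, algebraMap k A (c' i) * (f i : A) + z := by
      rw [hz]; ring
    rw [hfinal]
    refine Submodule.add_mem_sup (Ideal.sum_mem _ fun i _ => Ideal.mul_mem_left _ _
      (Ideal.subset_span ⟨i, rfl⟩)) ?_
    exact hzI

end Main

end Groth.Agent.Lib.CartanLinear
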