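import Groth.Agent.Lib.ComodDualAlg
import Mathlib.RingTheory.MvPolynomial.EulerIdentity
import Mathlib.RingTheory.Filtration
import Mathlib.RingTheory.HopfAlgebra.Convolution

set_option autoImplicit false
set_option linter.unusedSectionVars false
universe u v
open TensorProduct

namespace Groth.Agent.Lib.Cartier38
open Groth.Agent.Lib.Comod

section EpsDer
variable {k : Type u} [Field k] {A : Type v} [CommRing A] [Bialgebra k A]

/-- functionals with `d (a b) = ε a · d b + d a · ε b` -/
def IsEpsDer (d : A →ₗ[k] k) : Prop :=
  ∀ a b : A, d (a * b) = CoalgebraStruct.counit (R := k) a * d b + d a * CoalgebraStruct.counit (R := k) b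

theorem contr_mul_of_isEpsDer {d : A →ₗ[k] k} (hd : IsEpsDer d) (s t : A ⊗[k] A) :
    contr A d (s * t) = contr A (CoalgebraStruct.counit (R := k) (A := A)) s * contr A d t +
      contr A d s * contr A (CoalgebraStruct.counit (R := k) (A := A)) t := by
  induction s using TensorProduct.induction_on with
  | zero => simp
  | add a b ha hb => rw [add_mul, map_add, ha, hb, map_add, map_add]; ring
  | tmul a a' =>
    induction t using TensorProduct.induction_on with
    | zero => simp
    | add c e hc he => rw [mul_add, map_add, hc, he, map_add, map_add]; ring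
    | tmul b b' =>
      simp only [Algebra.TensorProduct.tmul_mul_tmul, contr_tmul, hd a' b', add_smul, mul_smul,
        Algebra.smul_mul_assoc, Algebra.mul_smul_comm]
      module

theorem contr_counit_comul (a : A) :
    contr A (CoalgebraStruct.counit (R := k) (A := A)) (CoalgebraStruct.comul (R := k) a) = a := by
  have h := LinearMap.congr_fun (Coalgebra.lTensor_counit_comp_comul (R := k) (A := A)) a
  simp only [LinearMap.coe_comp, Function.comp_apply, LinearMap.flip_apply,
    TensorProduct.mk_apply] at h
  rw [contr, LinearMap.comp_apply, h]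
  simp

/-- Leibniz rule for the slice by an ε-derivation. -/
theorem slice_mul {d : A →ₗ[k] k} (hd : IsEpsDer d) (a b : A) :
    slice d (a * b) = a * slice d b + slice d a * b := by
  simp only [slice, LinearMap.comp_apply, Bialgebra.comul_mul, contr_mul_of_isEpsDer hd,
    contr_counit_comul]

theorem counit_slice (d : A →ₗ[k] k) (a : A) :
    CoalgebraStruct.counit (R := k) (slice d a) = d a := by
  have h := comp_slice (k := k) (C := A) (1 : DualAlg k A) (WithConv.toConv d)
  have h1 : (1 : DualAlg k A).ofConv = CoalgebraStruct.counit (R := k) (A := A) := by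
    apply LinearMap.ext
    intro c
    simp [LinearMap.convOne_def]
  rw [one_mul, h1] at h
  exact LinearMap.congr_fun h a

end EpsDer

section DerPow
variable {k : Type u} [Field k] {A : Type v} [CommRing A] [Algebra k A]

theorem der_one (D : A →ₗ[k] A) (hD : ∀ a b, D (a * b) = a * D b + D a * b) : D 1 = 0 := by
  have h := hD 1 1
  simp only [one_mul, mul_one] at h
  have : D 1 + D 1 = D 1 + 0 := by rw [add_zero]; exact h.symm
  exact add_left_cancel this

theorem der_pow_le (D : A →ₗ[k] A) (hD : ∀ a b, D (a * b) = a * D b + D a * b) (I : Ideal A) :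
    ∀ n : ℕ, ∀ a ∈ I ^ (n + 1), D a ∈ I ^ n := by
  intro n
  induction n with
  | zero => intro a _; simp
  | succ n ih =>
    intro a ha
    rw [pow_succ] at ha
    refine Submodule.mul_induction_on ha ?_ ?_
    · intro m hm b hb
      rw [hD, pow_succ]
      refine Ideal.add_mem _ ?_ (Ideal.mul_mem_mul (ih m hm) hb)
      rw [← pow_succ]
      exact Ideal.mul_mem_right _ _ hm
    · intro x y hx hy
      rw [map_add]
      exact Ideal.add_mem _ hx hy

end DerPow


section Coords
variable (k : Type u) [Field k] (A : Type v) [CommRing A] [Bialgebra k A]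

/-- the augmentation ideal -/
abbrev augI : Ideal A := RingHom.ker (Bialgebra.counitAlgHom k A)

variable {k A}

theorem mem_augI {a : A} : a ∈ augI k A ↔ CoalgebraStruct.counit (R := k) a = 0 := by
  rw [RingHom.mem_ker]; rfl

theorem sub_counit_mem (a : A) :
    a - algebraMap k A (CoalgebraStruct.counit (R := k) a) ∈ augI k A := by
  rw [mem_augI, map_sub, Bialgebra.counit_algebraMap, sub_self]

variable (k A) in
/-- coordinates at the identity: elements `x i` of the augmentation ideal and functionals `d i`
dual to them modulo the square of the augmentation ideal -/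
structure Coords (ι : Type) [Fintype ι] [DecidableEq ι] where
  x : ι → A
  d : ι → A →ₗ[k] k
  hx : ∀ i, x i ∈ augI k A
  hd_one : ∀ i, d i 1 = 0
  hd_sq : ∀ i, ∀ a ∈ augI k A ^ 2, d i a = 0
  hd_x : ∀ i j, d i (x j) = if i = j then 1 else 0
  hspan : ∀ a ∈ augI k A, a - ∑ i, d i a • x i ∈ augI k A ^ 2

theorem exists_coords [IsNoetherianRing A] :
    ∃ (r : ℕ) (_ : Coords k A (Fin r)), True := by
  classical
  set I := augI k A with hI
  let U : Submodule k A := Submodule.span k {(1 : A)} ⊔ (I ^ 2).restrictScalars k
  let W := A ⧸ U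
  let π : A →ₗ[k] W := U.mkQ
  have hπ1 : π 1 = 0 := by
    rw [Submodule.mkQ_apply, Submodule.Quotient.mk_eq_zero]
    exact Submodule.mem_sup_left (Submodule.mem_span_singleton_self 1)
  have hπsq : ∀ a ∈ I ^ 2, π a = 0 := by
    intro a ha
    rw [Submodule.mkQ_apply, Submodule.Quotient.mk_eq_zero]
    exact Submodule.mem_sup_right ha
  -- finite-dimensionality
  obtain ⟨S, hS⟩ := (IsNoetherian.noetherian I : I.FG)
  have hπsmul : ∀ (b a : A), a ∈ I → π (b * a) = CoalgebraStruct.counit (R := k) b • π a := by
    intro b a ha
    have h1 : b * a = CoalgebraStruct.counit (R := k) b • a +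
        (b - algebraMap k A (CoalgebraStruct.counit (R := k) b)) * a := by
      rw [Algebra.smul_def]; ring
    have h2 : (b - algebraMap k A (CoalgebraStruct.counit (R := k) b)) * a ∈ I ^ 2 := by
      rw [pow_two]; exact Ideal.mul_mem_mul (sub_counit_mem (k := k) b) ha
    rw [h1, map_add, map_smul, hπsq _ h2, add_zero]
  have hIspan : ∀ a ∈ I, π a ∈ Submodule.span k (π '' (S : Set A)) := by
    intro a ha
    rw [← hS] at ha
    have hSI : ∀ y ∈ (S : Set A), y ∈ I := fun y hy => hS ▸ Submodule.subset_span hy
    induction ha using Submodule.span_induction with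
    | mem y hy => exact Submodule.subset_span ⟨y, hy, rfl⟩
    | zero => rw [map_zero]; exact zero_mem _
    | add x y _ _ hx hy => rw [map_add]; exact add_mem hx hy
    | smul b y hy h =>
      rw [smul_eq_mul, hπsmul b y (by rw [← hS]; exact hy)]
      exact Submodule.smul_mem _ _ h
  have hfin : Module.Finite k W := by
    refine ⟨⟨S.image π, ?_⟩⟩
    rw [eq_top_iff]
    intro w _
    obtain ⟨a, rfl⟩ := U.mkQ_surjective w
    have h1 : a = algebraMap k A (CoalgebraStruct.counit (R := k) a) +
        (a - algebraMap k A (CoalgebraStruct.counit (R := k) a)) := by ring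
    show π a ∈ _
    rw [h1, map_add, Algebra.algebraMap_eq_smul_one, map_smul, hπ1, smul_zero, zero_add,
      Finset.coe_image]
    have := hIspan _ (sub_counit_mem (k := k) a)
    rwa [Algebra.algebraMap_eq_smul_one] at this
  let b := Module.finBasis k W
  choose x' hx' using fun i => U.mkQ_surjective (b i)
  let x : Fin (Module.finrank k W) → A :=
    fun i => x' i - algebraMap k A (CoalgebraStruct.counit (R := k) (x' i))
  have hπx : ∀ i, π (x i) = b i := by
    intro i
    show π (x' i - _) = _
    rw [map_sub, Algebra.algebraMap_eq_smul_one, map_smul, hπ1, smul_zero, sub_zero]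
    exact hx' i
  refine ⟨Module.finrank k W, ⟨x, fun i => (b.coord i) ∘ₗ π, fun i => sub_counit_mem (k := k) _, ?_, ?_, ?_, ?_⟩,
    trivial⟩
  · intro i
    rw [LinearMap.comp_apply, hπ1, map_zero]
  · intro i a ha
    rw [LinearMap.comp_apply, hπsq a ha, map_zero]
  · intro i j
    rw [LinearMap.comp_apply, hπx, Module.Basis.coord_apply, Module.Basis.repr_self,
      Finsupp.single_apply]
    simp [eq_comm]
  · intro a ha
    set z := a - ∑ i, ((b.coord i) ∘ₗ π) a • x i with hz
    have hzI : z ∈ I := by
      refine Ideal.sub_mem _ ha (Ideal.sum_mem _ fun i _ => ?_)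
      rw [Algebra.smul_def]
      exact Ideal.mul_mem_left _ _ (sub_counit_mem (k := k) _)
    have hπz : π z = 0 := by
      rw [hz, map_sub, map_sum]
      simp only [map_smul, hπx, LinearMap.comp_apply, Module.Basis.coord_apply]
      rw [b.sum_repr, sub_self]
    have hzU : z ∈ U := by
      rwa [Submodule.mkQ_apply, Submodule.Quotient.mk_eq_zero] at hπz
    obtain ⟨p, hp, q, hq, hpq⟩ := Submodule.mem_sup.1 hzU
    obtain ⟨c, rfl⟩ := Submodule.mem_span_singleton.1 hp
    have hqI : q ∈ I := Ideal.pow_le_self two_ne_zero hq
    have hc : c = 0 := by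
      have h1 := mem_augI.1 hzI
      rw [← hpq, map_add, map_smul, Bialgebra.counit_one, mem_augI.1 hqI, add_zero, smul_eq_mul,
        mul_one] at h1
      exact h1
    rw [← hpq, hc, zero_smul, zero_add]
    exact hq

end Coords

end Groth.Agent.Lib.Cartier38
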