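import Groth.Agent.Lib.Cartier38
import Mathlib.RingTheory.Jacobson.Ring
import Mathlib.FieldTheory.IsAlgClosed.Basic
import Mathlib.RingTheory.FiniteType

set_option autoImplicit false
set_option linter.unusedSectionVars false
universe u v
open TensorProduct

namespace Groth.Agent.Lib.Cartier38
open Groth.Agent.Lib.Comod

section Main
variable {k : Type u} [Field k] {A : Type v} [CommRing A] [Bialgebra k A]
variable {ι : Type} [Fintype ι] [DecidableEq ι] (c : Coords k A ι)

theorem Coords.isEpsDer (i : ι) : IsEpsDer (c.d i) := by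
  intro a b
  have ha := sub_counit_mem (k := k) a
  have hb := sub_counit_mem (k := k) b
  generalize CoalgebraStruct.counit (R := k) a = ea at *
  generalize CoalgebraStruct.counit (R := k) b = eb at *
  have hab : a * b = (ea * eb) • (1 : A) + ea • (b - algebraMap k A eb) +
      eb • (a - algebraMap k A ea) + (a - algebraMap k A ea) * (b - algebraMap k A eb) := by
    simp only [Algebra.smul_def, map_mul]; ring
  have hsq : (a - algebraMap k A ea) * (b - algebraMap k A eb) ∈ augI k A ^ 2 := by
    rw [pow_two]; exact Ideal.mul_mem_mul ha hb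
  rw [hab, map_add, map_add, map_add, map_smul, map_smul, map_smul, c.hd_one, c.hd_sq i _ hsq,
    map_sub, map_sub, Algebra.algebraMap_eq_smul_one, Algebra.algebraMap_eq_smul_one, map_smul,
    map_smul, c.hd_one]
  simp only [smul_eq_mul]; ring

/-- the left-invariant derivation attached to the `i`-th coordinate functional -/
noncomputable def Coords.D (i : ι) : A →ₗ[k] A := slice (c.d i)

theorem Coords.D_mul (i : ι) (a b : A) : c.D i (a * b) = a * c.D i b + c.D i a * b :=
  slice_mul (c.isEpsDer i) a b

theorem Coords.D_x_sub_mem (i j : ι) :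
    c.D i (c.x j) - (if i = j then (1 : A) else 0) ∈ augI k A := by
  rw [mem_augI, map_sub, Coords.D, counit_slice, c.hd_x]
  by_cases h : i = j
  · simp [h]
  · simp [h]

/-- evaluation of polynomials at the coordinates -/
noncomputable def Coords.evx : MvPolynomial ι k →ₐ[k] A := MvPolynomial.aeval c.x

theorem Coords.evx_monomial_mem (s : ι →₀ ℕ) :
    c.evx (MvPolynomial.monomial s 1) ∈ augI k A ^ (Finsupp.degree s) := by
  induction s using Finsupp.induction_linear with
  | zero =>
    simp
  | add s t hs ht =>
    have : MvPolynomial.monomial (s + t) (1 : k) =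
        MvPolynomial.monomial s 1 * MvPolynomial.monomial t 1 := by
      rw [MvPolynomial.monomial_mul, one_mul]
    rw [this, map_mul, map_add, pow_add]
    exact Ideal.mul_mem_mul hs ht
  | single i n =>
    rw [Finsupp.degree_single, ← MvPolynomial.X_pow_eq_monomial, map_pow, Coords.evx,
      MvPolynomial.aeval_X]
    exact Ideal.pow_mem_pow (c.hx i) n

theorem Coords.evx_mem_pow {P : MvPolynomial ι k} {n : ℕ} (hP : P.IsHomogeneous n) :
    c.evx P ∈ augI k A ^ n := by
  rw [← MvPolynomial.support_sum_monomial_coeff P, map_sum]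
  refine Ideal.sum_mem _ fun α hα => ?_
  have h1 : MvPolynomial.monomial α (MvPolynomial.coeff α P) =
      MvPolynomial.coeff α P • MvPolynomial.monomial α (1 : k) := by
    rw [MvPolynomial.smul_monomial, smul_eq_mul, mul_one]
  rw [h1, map_smul, Algebra.smul_def]
  refine Ideal.mul_mem_left _ _ ?_
  have hdeg : α.degree = n := by
    have := hP (MvPolynomial.mem_support_iff.1 hα)
    rw [← this, Finsupp.degree_eq_weight_one]
    rfl
  rw [← hdeg]
  exact c.evx_monomial_mem α

/-- the linear form `Σ d_i(b) X_i` -/
noncomputable def Coords.lin (b : A) : MvPolynomial ι k :=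
  ∑ i, MvPolynomial.C (c.d i b) * MvPolynomial.X i

theorem Coords.lin_isHomogeneous (b : A) : (c.lin b).IsHomogeneous 1 := by
  refine MvPolynomial.IsHomogeneous.sum _ _ _ fun i _ => ?_
  have := (MvPolynomial.isHomogeneous_C ι (c.d i b)).mul (MvPolynomial.isHomogeneous_X k i)
  rwa [zero_add] at this

theorem Coords.evx_lin (b : A) : c.evx (c.lin b) = ∑ i, c.d i b • c.x i := by
  rw [Coords.lin, map_sum]
  refine Finset.sum_congr rfl fun i _ => ?_
  rw [map_mul, Coords.evx, MvPolynomial.aeval_C, MvPolynomial.aeval_X, Algebra.smul_def]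

/-- every element of `I^n` is the value of a homogeneous polynomial of degree `n` modulo
`I^(n+1)`. -/
theorem Coords.exists_hom_sub_mem (n : ℕ) : ∀ a ∈ augI k A ^ n,
    ∃ P : MvPolynomial ι k, P.IsHomogeneous n ∧ a - c.evx P ∈ augI k A ^ (n + 1) := by
  induction n with
  | zero =>
    intro a _
    refine ⟨MvPolynomial.C (CoalgebraStruct.counit (R := k) a), MvPolynomial.isHomogeneous_C _ _, ?_⟩
    rw [Coords.evx, MvPolynomial.aeval_C, zero_add, pow_one]
    exact sub_counit_mem (k := k) a
  | succ n ih =>
    intro a ha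
    rw [pow_succ] at ha
    refine Submodule.mul_induction_on ha ?_ ?_
    · intro m hm b hb
      obtain ⟨P, hP, hPm⟩ := ih m hm
      refine ⟨P * c.lin b, hP.mul (c.lin_isHomogeneous b), ?_⟩
      have hb' := c.hspan b hb
      rw [← c.evx_lin] at hb'
      have e : m * b - c.evx (P * c.lin b) =
          c.evx P * (b - c.evx (c.lin b)) + (m - c.evx P) * b := by
        rw [map_mul]; ring
      rw [e]
      refine Ideal.add_mem _ ?_ ?_
      · have := Ideal.mul_mem_mul (c.evx_mem_pow hP) hb'
        rwa [← pow_add] at this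
      · have := Ideal.mul_mem_mul hPm hb
        rwa [← pow_succ] at this
    · intro x y ⟨P, hP, hPx⟩ ⟨Q, hQ, hQy⟩
      refine ⟨P + Q, hP.add hQ, ?_⟩
      have e : x + y - c.evx (P + Q) = (x - c.evx P) + (y - c.evx Q) := by
        rw [map_add]; ring
      rw [e]
      exact Ideal.add_mem _ hPx hQy

/-- chain rule for a Leibniz map -/
theorem Coords.chain (D : A →ₗ[k] A) (hD : ∀ a b, D (a * b) = a * D b + D a * b)
    (P : MvPolynomial ι k) :
    D (c.evx P) = ∑ j, c.evx (MvPolynomial.pderiv j P) * D (c.x j) := by
  induction P using MvPolynomial.induction_on with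
  | C a =>
    simp only [MvPolynomial.pderiv_C, map_zero, zero_mul, Finset.sum_const_zero]
    rw [Coords.evx, MvPolynomial.aeval_C, Algebra.algebraMap_eq_smul_one, map_smul,
      der_one D hD, smul_zero]
  | add p q hp hq =>
    simp only [map_add, hp, hq, add_mul, Finset.sum_add_distrib]
  | mul_X p i hp =>
    rw [map_mul, hD, hp]
    simp only [MvPolynomial.pderiv_mul, MvPolynomial.pderiv_X, map_add, map_mul, add_mul,
      Finset.sum_add_distrib]
    have hX : c.evx (MvPolynomial.X i) = c.x i := by
      rw [Coords.evx, MvPolynomial.aeval_X]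
    rw [hX, add_comm]
    congr 1
    · rw [Finset.sum_mul]
      refine Finset.sum_congr rfl fun j _ => ?_
      ring
    · rw [Finset.sum_eq_single i]
      · simp
      · intro j _ hj
        simp [Ne.symm hj]
      · intro h; exact absurd (Finset.mem_univ i) h

variable [CharZero k]

/-- the key point: in characteristic zero the coordinates are "algebraically independent modulo
powers of the augmentation ideal". -/
theorem Coords.eq_zero_of_evx_mem (n : ℕ) : ∀ P : MvPolynomial ι k, P.IsHomogeneous n →
    c.evx P ∈ augI k A ^ (n + 1) → P = 0 := by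
  induction n with
  | zero =>
    intro P hP hmem
    rw [← MvPolynomial.totalDegree_zero_iff_isHomogeneous,
      MvPolynomial.totalDegree_eq_zero_iff_eq_C] at hP
    rw [hP, Coords.evx, MvPolynomial.aeval_C, zero_add, pow_one, mem_augI,
      Bialgebra.counit_algebraMap] at hmem
    rw [hP]
    simpa using hmem
  | succ n ih =>
    intro P hP hmem
    have hpd : ∀ i, MvPolynomial.pderiv i P = 0 := by
      intro i
      have hh : ∀ j, (MvPolynomial.pderiv j P).IsHomogeneous n := fun j => hP.pderiv
      apply ih _ (hh i)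
      have h1 := der_pow_le (c.D i) (c.D_mul i) (augI k A) (n + 1) _ hmem
      rw [c.chain (c.D i) (c.D_mul i)] at h1
      have e : c.evx (MvPolynomial.pderiv i P) =
          ∑ j, c.evx (MvPolynomial.pderiv j P) * c.D i (c.x j) -
          ∑ j, c.evx (MvPolynomial.pderiv j P) *
            (c.D i (c.x j) - (if i = j then (1 : A) else 0)) := by
        rw [← Finset.sum_sub_distrib]
        simp only [mul_sub, sub_sub_cancel, mul_ite, mul_one, mul_zero]
        rw [Finset.sum_ite_eq]
        simp
      rw [e]
      refine Ideal.sub_mem _ h1 (Ideal.sum_mem _ fun j _ => ?_)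
      have := Ideal.mul_mem_mul (c.evx_mem_pow (hh j)) (c.D_x_sub_mem i j)
      rwa [← pow_succ] at this
    have hE := hP.sum_X_mul_pderiv
    simp only [hpd, mul_zero, Finset.sum_const_zero] at hE
    rw [nsmul_eq_mul] at hE
    rcases mul_eq_zero.1 hE.symm with h | h
    · exfalso
      have : ((n + 1 : ℕ) : MvPolynomial ι k) = MvPolynomial.C ((n + 1 : ℕ) : k) := by simp
      rw [this, MvPolynomial.C_eq_zero] at h
      exact Nat.cast_ne_zero.2 (Nat.succ_ne_zero n) h
    · exact h

include c in
theorem Coords.mem_pow_of_isNilpotent {y : A} (hy : IsNilpotent y) :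
    ∀ n, y ∈ augI k A ^ n := by
  obtain ⟨e, he⟩ := hy
  intro n
  induction n with
  | zero => simp
  | succ n ih =>
    obtain ⟨P, hP, hz⟩ := c.exists_hom_sub_mem n y ih
    have hxn : c.evx P ∈ augI k A ^ n := c.evx_mem_pow hP
    have hpw : ∀ (a : A), a ∈ augI k A ^ n → ∀ i : ℕ, a ^ i ∈ augI k A ^ (n * i) := by
      intro a ha i
      rw [pow_mul]
      exact Ideal.pow_mem_pow ha i
    have hPe : P ^ e = 0 := by
      apply c.eq_zero_of_evx_mem (n * e) _ (hP.pow e)
      rw [map_pow]
      have hg := Commute.geom_sum₂_mul (Commute.all (c.evx P) y) e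
      rw [he, sub_zero] at hg
      rw [← hg]
      have hsum : ∑ i ∈ Finset.range e, c.evx P ^ i * y ^ (e - 1 - i) ∈
          augI k A ^ (n * (e - 1)) := by
        refine Ideal.sum_mem _ fun i hi => ?_
        have := Ideal.mul_mem_mul (hpw _ hxn i) (hpw _ ih (e - 1 - i))
        rw [← pow_add, ← mul_add] at this
        have h2 : i + (e - 1 - i) = e - 1 := by
          have := Finset.mem_range.1 hi; omega
        rwa [h2] at this
      have hdiff : c.evx P - y ∈ augI k A ^ (n + 1) := by
        have := Ideal.neg_mem_iff _ |>.2 hz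
        rwa [neg_sub] at this
      have := Ideal.mul_mem_mul hsum hdiff
      rw [← pow_add] at this
      refine Ideal.pow_le_pow_right ?_ this
      cases e with
      | zero => simp
      | succ e' => simp only [Nat.add_sub_cancel, Nat.mul_succ]; omega
    have hP0 : P = 0 := IsNilpotent.eq_zero ⟨e, hPe⟩
    rw [hP0, map_zero, sub_zero] at hz
    exact hz

include c in
theorem Coords.exists_mul_eq_of_isNilpotent [IsNoetherianRing A] {y : A} (hy : IsNilpotent y) :
    ∃ r ∈ augI k A, r * y = y := by
  have h := (Ideal.mem_iInf_smul_pow_eq_bot_iff (augI k A) (M := A) y).1 ?_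
  · obtain ⟨r, hr⟩ := h
    exact ⟨r.1, r.2, hr⟩
  · rw [Submodule.mem_iInf]
    intro i
    rw [smul_eq_mul, Ideal.mul_top]
    exact c.mem_pow_of_isNilpotent hy i

end Main

end Groth.Agent.Lib.Cartier38
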