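import Groth.Prelude.Def_CartDual
import Groth.Prelude.Def_ConstGrp
import Mathlib

/-!
# Cartier duality between the constant group and the group algebra (helper18)

* `pair_injective` : `ConstGrp.pair R G : F ⊗ F → F (G × G)` is injective.
* `dualMonoidAlgebraEquiv` : `D(R[G]) ≃ₐc[R] F R G`, `y ↦ (g ↦ y (single g 1))`.
-/

set_option maxHeartbeats 400000
set_option autoImplicit false
set_option linter.unusedSectionVars false
set_option linter.unusedSimpArgs false

namespace Groth.Agent.Lib.CartierConst18

open TensorProduct CartDual ConstGrp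

universe u v

variable (R : Type u) [CommRing R] (G : Type v) [Group G] [Fintype G] [DecidableEq G]

/-- left inverse of `pair` -/
noncomputable def unpair : F R (G × G) →ₗ[R] F R G ⊗[R] F R G where
  toFun f := ∑ a : G, ∑ b : G, f (a, b) • (e R a ⊗ₜ[R] e R b)
  map_add' f f' := by
    simp only [ConstGrp.add_apply, add_smul, Finset.sum_add_distrib]
  map_smul' r f := by
    simp only [ConstGrp.smul_apply, RingHom.id_apply, Finset.smul_sum, smul_smul]

lemma unpair_pair (t : F R G ⊗[R] F R G) : unpair R G (pair R G t) = t := by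
  induction t using TensorProduct.induction_on with
  | zero => simp
  | add x y hx hy => rw [map_add, map_add, hx, hy]
  | tmul u v =>
    simp only [unpair, LinearMap.coe_mk, AddHom.coe_mk, pair_tmul]
    conv_rhs => rw [eq_sum_smul_e u, eq_sum_smul_e v]
    simp only [TensorProduct.sum_tmul, TensorProduct.tmul_sum, TensorProduct.smul_tmul_smul]
    exact Finset.sum_comm

lemma pair_injective : Function.Injective (pair R G) :=
  Function.LeftInverse.injective (unpair_pair R G)

/-! ### `D(R[G]) ≃ F R G` -/

/-- the underlying linear map `y ↦ (g ↦ y (single g 1))` -/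
noncomputable def toFunLin : D R (MonoidAlgebra R G) →ₗ[R] F R G where
  toFun y := fun g => y (MonoidAlgebra.single g 1)
  map_add' y y' := by ext g; rfl
  map_smul' r y := by ext g; rfl

@[simp] lemma toFunLin_apply (y : D R (MonoidAlgebra R G)) (g : G) :
    toFunLin R G y g = y (MonoidAlgebra.single g 1) := rfl

lemma toFunLin_injective : Function.Injective (toFunLin R G) := by
  intro y y' h
  apply WithConv.ext
  apply MonoidAlgebra.lhom_ext'
  intro g
  apply LinearMap.ext_ring
  have := congrFun h g
  simpa using this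

lemma toFunLin_surjective : Function.Surjective (toFunLin R G) := by
  intro f
  refine ⟨WithConv.toConv ((Finsupp.linearCombination R (fun g => f g)) ∘ₗ
    (MonoidAlgebra.coeffLinearEquiv R).toLinearMap), ?_⟩
  ext g
  simp [CartDual.coe_apply]

lemma toFunLin_one : toFunLin R G 1 = 1 := by
  ext g
  simp [LinearMap.convOne_def, CartDual.coe_apply]

lemma toFunLin_mul (x y : D R (MonoidAlgebra R G)) :
    toFunLin R G (x * y) = toFunLin R G x * toFunLin R G y := by
  ext g
  simp [CartDual.coe_apply, LinearMap.convMul_def]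

/-- the algebra equivalence `D(R[G]) ≃ₐ F R G` -/
noncomputable def dualMonoidAlgebraAlgEquiv : D R (MonoidAlgebra R G) ≃ₐ[R] F R G :=
  AlgEquiv.ofLinearEquiv
    (LinearEquiv.ofBijective (toFunLin R G) ⟨toFunLin_injective R G, toFunLin_surjective R G⟩)
    (toFunLin_one R G) (toFunLin_mul R G)

@[simp] lemma dualMonoidAlgebraAlgEquiv_apply (y : D R (MonoidAlgebra R G)) (g : G) :
    dualMonoidAlgebraAlgEquiv R G y g = y (MonoidAlgebra.single g 1) := rfl

lemma pair_map_toFunLin (t : D R (MonoidAlgebra R G) ⊗[R] D R (MonoidAlgebra R G)) (a b : G) :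
    pair R G (TensorProduct.map (toFunLin R G) (toFunLin R G) t) (a, b) =
      ev₂ R (MonoidAlgebra R G) t (MonoidAlgebra.single a 1 ⊗ₜ MonoidAlgebra.single b 1) := by
  induction t using TensorProduct.induction_on with
  | zero => simp
  | add x y hx hy => simp only [map_add, ConstGrp.add_apply, LinearMap.add_apply, hx, hy]
  | tmul x y => simp

/-- `D(R[G]) ≃ₐc[R] F R G`, `y ↦ (g ↦ y (single g 1))`. -/
noncomputable def dualMonoidAlgebraEquiv : D R (MonoidAlgebra R G) ≃ₐc[R] F R G :=
  BialgEquiv.ofAlgEquiv (dualMonoidAlgebraAlgEquiv R G)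
    (by
      ext y
      simp [MonoidAlgebra.one_def, CartDual.coe_apply])
    (by
      ext y
      apply pair_injective
      ext ⟨a, b⟩
      have h1 := pair_map_toFunLin R G (Coalgebra.comul (R := R) y) a b
      rw [ev₂_coalgebra_comul_tmul] at h1
      have h2 := pair_comul R G (dualMonoidAlgebraAlgEquiv R G y) a b
      simp only [AlgHom.coe_comp, Function.comp_apply, Bialgebra.comulAlgHom_apply,
        AlgHom.coe_coe]
      have e1 : ∀ t : D R (MonoidAlgebra R G) ⊗[R] D R (MonoidAlgebra R G),
          (Algebra.TensorProduct.map (dualMonoidAlgebraAlgEquiv R G : _ →ₐ[R] _)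
            (dualMonoidAlgebraAlgEquiv R G : _ →ₐ[R] _)) t =
          TensorProduct.map (toFunLin R G) (toFunLin R G) t := by
        intro t
        induction t using TensorProduct.induction_on with
        | zero => simp
        | add x y hx hy => rw [map_add, map_add, hx, hy]
        | tmul x y => rfl
      refine (congrArg (fun f => pair R G f (a, b)) (e1 _)).trans (h1.trans (Eq.trans ?_ h2.symm))
      rw [MonoidAlgebra.single_mul_single, mul_one]
      rfl)

/-! ### `D(F R G) ≃ R[G]` -/

/-- the underlying linear map `y ↦ Σ_g y(e_g) g` -/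
noncomputable def toMA : D R (F R G) →ₗ[R] MonoidAlgebra R G where
  toFun y := ∑ g : G, MonoidAlgebra.single g (y (e R g))
  map_add' y y' := by
    rw [← Finset.sum_add_distrib]
    refine Finset.sum_congr rfl fun g _ => ?_
    rw [← MonoidAlgebra.single_add]; rfl
  map_smul' r y := by
    rw [Finset.smul_sum]
    refine Finset.sum_congr rfl fun g _ => ?_
    rw [MonoidAlgebra.smul_single]; rfl

lemma toMA_apply (y : D R (F R G)) :
    toMA R G y = ∑ g : G, MonoidAlgebra.single g (y (e R g)) := rfl

lemma coeff_toMA (y : D R (F R G)) (h : G) : (toMA R G y).coeff h = y (e R h) := by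
  rw [toMA_apply, MonoidAlgebra.coeff_sum, Finsupp.finsetSum_apply, Finset.sum_eq_single h]
  · simp
  · intro g _ hg
    simp [MonoidAlgebra.coeff_single, Finsupp.single_apply, hg]
  · intro hh; exact absurd (Finset.mem_univ h) hh

lemma toMA_injective : Function.Injective (toMA R G) := by
  intro y y' h
  apply WithConv.ext
  apply ConstGrp.linearMap_ext
  intro g
  have := congrArg (fun m => m.coeff g) h
  simpa [coeff_toMA] using this

lemma toMA_surjective : Function.Surjective (toMA R G) := by
  intro m
  let φ : F R G →ₗ[R] R :=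
    { toFun := fun f => ∑ g : G, m.coeff g * f g
      map_add' := fun f f' => by
        simp only [ConstGrp.add_apply, mul_add, Finset.sum_add_distrib]
      map_smul' := fun r f => by
        simp only [ConstGrp.smul_apply, RingHom.id_apply, smul_eq_mul, Finset.mul_sum]
        refine Finset.sum_congr rfl fun g _ => by ring }
  have hφ : ∀ h : G, φ (e R h) = m.coeff h := by
    intro h
    change ∑ g : G, m.coeff g * e R h g = m.coeff h
    rw [Finset.sum_eq_single h]
    · rw [e_apply_self, mul_one]
    · intro g _ hg; rw [e_apply_of_ne hg, mul_zero]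
    · intro hh; exact absurd (Finset.mem_univ h) hh
  refine ⟨WithConv.toConv φ, ?_⟩
  apply MonoidAlgebra.coeff_injective
  ext h
  rw [coeff_toMA]
  exact hφ h

lemma toMA_one : toMA R G 1 = 1 := by
  apply MonoidAlgebra.coeff_injective
  ext h
  rw [coeff_toMA, MonoidAlgebra.one_def, MonoidAlgebra.coeff_single, Finsupp.single_apply]
  simp [LinearMap.convOne_def, CartDual.coe_apply, e_apply, eq_comm]

lemma conv_e (x y : D R (F R G)) (g : G) :
    (x * y) (e R g) = ∑ a : G, x (e R a) * y (e R (a⁻¹ * g)) := by
  simp [CartDual.coe_apply, LinearMap.convMul_def, comul_e]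

lemma toMA_mul (x y : D R (F R G)) : toMA R G (x * y) = toMA R G x * toMA R G y := by
  rw [toMA_apply, toMA_apply, toMA_apply, Finset.sum_mul_sum]
  simp only [MonoidAlgebra.single_mul_single, conv_e]
  -- LHS: Σ_g single g (Σ_a x(e_a) y(e_{a⁻¹g})) ; RHS: Σ_a Σ_b single (ab) (x e_a * y e_b)
  have hs : ∀ (g : G) (c : G → R), MonoidAlgebra.single g (∑ a : G, c a) =
      ∑ a : G, (MonoidAlgebra.single g (c a) : MonoidAlgebra R G) := fun g c =>
    map_sum (MonoidAlgebra.lsingle (R := R) g) c Finset.univ
  simp_rw [hs]
  rw [Finset.sum_comm]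
  refine Finset.sum_congr rfl fun a _ => ?_
  exact Fintype.sum_equiv (Equiv.mulLeft a⁻¹) _ _ (fun g => by simp)

/-- the algebra equivalence `D(F R G) ≃ₐ R[G]` -/
noncomputable def dualConstAlgEquiv : D R (F R G) ≃ₐ[R] MonoidAlgebra R G :=
  AlgEquiv.ofLinearEquiv
    (LinearEquiv.ofBijective (toMA R G) ⟨toMA_injective R G, toMA_surjective R G⟩)
    (toMA_one R G) (toMA_mul R G)

lemma dualConstAlgEquiv_apply (y : D R (F R G)) :
    dualConstAlgEquiv R G y = ∑ g : G, MonoidAlgebra.single g (y (e R g)) := rfl

lemma map_toMA (t : D R (F R G) ⊗[R] D R (F R G)) :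
    TensorProduct.map (toMA R G) (toMA R G) t =
      ∑ a : G, ∑ b : G, ev₂ R (F R G) t (e R a ⊗ₜ e R b) •
        ((MonoidAlgebra.single a 1 : MonoidAlgebra R G) ⊗ₜ[R]
          (MonoidAlgebra.single b 1 : MonoidAlgebra R G)) := by
  induction t using TensorProduct.induction_on with
  | zero => simp
  | add x y hx hy =>
    simp only [map_add, LinearMap.add_apply, add_smul, Finset.sum_add_distrib, hx, hy]
  | tmul x y =>
    simp only [TensorProduct.map_tmul, toMA_apply, TensorProduct.sum_tmul, TensorProduct.tmul_sum,
      ev₂_tmul]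
    rw [Finset.sum_comm]
    refine Finset.sum_congr rfl fun a _ => Finset.sum_congr rfl fun b _ => ?_
    rw [← TensorProduct.smul_tmul_smul, MonoidAlgebra.smul_single, MonoidAlgebra.smul_single,
      smul_eq_mul, smul_eq_mul, mul_one, mul_one]

/-- `D(F R G) ≃ₐc[R] R[G]`, `y ↦ Σ_g y(e_g) g`. -/
noncomputable def dualConstEquiv : D R (F R G) ≃ₐc[R] MonoidAlgebra R G :=
  BialgEquiv.ofAlgEquiv (dualConstAlgEquiv R G)
    (by
      ext y
      have e0 : ((dualConstAlgEquiv R G : D R (F R G) →ₐ[R] MonoidAlgebra R G)) y =
          ∑ g : G, MonoidAlgebra.single g (y (e R g)) := rfl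
      simp only [AlgHom.coe_comp, Function.comp_apply, Bialgebra.counitAlgHom_apply]
      rw [e0, map_sum]
      simp only [MonoidAlgebra.counit_single, CommSemiring.counit_apply,
        CartDual.coalgebra_counit_apply]
      rw [CartDual.coe_apply, ← sum_e, map_sum])
    (by
      ext y
      have e0 : ((dualConstAlgEquiv R G : D R (F R G) →ₐ[R] MonoidAlgebra R G)) y =
          ∑ g : G, MonoidAlgebra.single g (y (e R g)) := rfl
      simp only [AlgHom.coe_comp, Function.comp_apply, Bialgebra.comulAlgHom_apply]
      have e1 : ∀ t : D R (F R G) ⊗[R] D R (F R G),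
          (Algebra.TensorProduct.map (dualConstAlgEquiv R G : _ →ₐ[R] _)
            (dualConstAlgEquiv R G : _ →ₐ[R] _)) t =
          TensorProduct.map (toMA R G) (toMA R G) t := by
        intro t
        induction t using TensorProduct.induction_on with
        | zero => simp
        | add x y hx hy => rw [map_add, map_add, hx, hy]
        | tmul x y => rfl
      rw [e1, map_toMA, e0, map_sum]
      refine Finset.sum_congr rfl fun a _ => ?_
      simp only [ev₂_coalgebra_comul_tmul, e_mul_e]
      rw [Finset.sum_eq_single a]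
      · simp [MonoidAlgebra.comul_single, TensorProduct.smul_tmul']
        rw [← mul_one (y.ofConv (e R a)), ← smul_eq_mul, ← MonoidAlgebra.smul_single,
          TensorProduct.smul_tmul]
      · intro b _ hb
        rw [if_neg hb, map_zero, zero_smul]
      · intro h; exact absurd (Finset.mem_univ a) h)

end Groth.Agent.Lib.CartierConst18
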