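import Groth.Agent.Lib.DimDrop
import Mathlib.Topology.Sets.Closeds
import Mathlib.Order.KrullDimension

/-!
# Chains of irreducible closed subsets and the dimension of subsets (helper48)

Pure topology.  For a subset `S` of a topological space `X`:

* `length_le_dim` : a chain of irreducible closed subsets of `X` whose last member lies in `S` has length `≤ dim S`.
* `exists_chain_of_le_dim` : if `n ≤ dim S` there is such a chain of length `n` (with last member in `closure S`).
* `dim_lt_of_subset_union` : `S ⊆ A ∪ B` with `A`, `B` closed, `dim A < d`, `dim B < d` ⇒ `dim S < d`.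
* `exists_irreducible_closed_dim_pred` : an irreducible closed `Z` with `dim Z = d + 1` contains an irreducible closed
  `W ≠ Z` with `dim W = d`.
-/

set_option autoImplicit false
set_option linter.style.haveILetI false

open Set Function Order TopologicalSpace Topology TopologicalSpace.IrreducibleCloseds

namespace Groth.Agent.Lib.DimChain48

variable {X : Type*} [TopologicalSpace X]

theorem isPreirreducible_of_image {Y : Type*} [TopologicalSpace Y] {f : Y → X} (hf : IsInducing f)
    {A : Set Y} (h : IsPreirreducible (f '' A)) : IsPreirreducible A := by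
  intro U' V' hU' hV' hAU hAV
  obtain ⟨U, hU, rfl⟩ := hf.isOpen_iff.mp hU'
  obtain ⟨V, hV, rfl⟩ := hf.isOpen_iff.mp hV'
  obtain ⟨a, haA, haU⟩ := hAU
  obtain ⟨b, hbA, hbV⟩ := hAV
  obtain ⟨x, ⟨c, hcA, rfl⟩, hxU, hxV⟩ := h U V hU hV ⟨f a, ⟨a, haA, rfl⟩, haU⟩ ⟨f b, ⟨b, hbA, rfl⟩, hbV⟩
  exact ⟨c, hcA, hxU, hxV⟩

/-- the map on irreducible closed subsets induced by the inclusion of a subset -/
noncomputable def incl (S : Set X) : IrreducibleCloseds S → IrreducibleCloseds X :=
  IrreducibleCloseds.map Subtype.val continuous_subtype_val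

theorem incl_strictMono (S : Set X) : StrictMono (incl S) :=
  map_strictMono_of_isInducing IsInducing.subtypeVal

theorem incl_subset_closure (S : Set X) (c : IrreducibleCloseds S) : (incl S c : Set X) ⊆ closure S := by
  change closure (Subtype.val '' (c : Set S)) ⊆ closure S
  refine closure_mono ?_
  rintro _ ⟨s, -, rfl⟩
  exact s.2

/-- an irreducible closed subset of `X` contained in `S`, as an irreducible closed subset of `S` -/
noncomputable def lift {S : Set X} (T : IrreducibleCloseds X) (hT : (T : Set X) ⊆ S) :
    IrreducibleCloseds S where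
  carrier := Subtype.val ⁻¹' (T : Set X)
  isIrreducible' := by
    have himg : (Subtype.val : S → X) '' (Subtype.val ⁻¹' (T : Set X)) = (T : Set X) := by
      rw [Subtype.image_preimage_coe]
      exact Set.inter_eq_right.mpr hT
    refine ⟨?_, isPreirreducible_of_image IsInducing.subtypeVal ?_⟩
    swap
    · rw [himg]; exact T.isIrreducible.isPreirreducible
    obtain ⟨x, hx⟩ := T.isIrreducible.nonempty
    exact ⟨⟨x, hT hx⟩, hx⟩
  isClosed' := T.isClosed.preimage continuous_subtype_val

theorem lift_lt {S : Set X} {T T' : IrreducibleCloseds X} (hT : (T : Set X) ⊆ S)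
    (hT' : (T' : Set X) ⊆ S) (h : T < T') : lift T hT < lift T' hT' := by
  refine lt_of_le_of_ne (fun x hx => h.le hx) ?_
  intro heq
  apply h.ne
  apply SetLike.coe_injective
  have h1 : (Subtype.val ⁻¹' (T : Set X) : Set S) = Subtype.val ⁻¹' (T' : Set X) :=
    congrArg (fun z : IrreducibleCloseds S => (z : Set S)) heq
  have h2 := congrArg (fun A : Set S => Subtype.val '' A) h1
  simp only [Subtype.image_preimage_coe] at h2
  rwa [Set.inter_eq_right.mpr hT, Set.inter_eq_right.mpr hT'] at h2

/-- A chain of irreducible closed subsets of `X` ending inside `S` has length at most `dim S`. -/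
theorem length_le_dim {S : Set X} (l : LTSeries (IrreducibleCloseds X)) (hl : (l.last : Set X) ⊆ S) :
    (l.length : WithBot ℕ∞) ≤ topologicalKrullDim S := by
  have hsub : ∀ i, ((l i : IrreducibleCloseds X) : Set X) ⊆ S := fun i =>
    (show ((l i : IrreducibleCloseds X) : Set X) ⊆ (l.last : Set X) from
      l.monotone (Fin.le_last i)).trans hl
  let l' : LTSeries (IrreducibleCloseds S) :=
    LTSeries.mk l.length (fun i => lift (l i) (hsub i))
      (fun i j hij => lift_lt (hsub i) (hsub j) (l.strictMono hij))
  exact l'.length_le_krullDim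

/-- If `n ≤ dim S` there is a chain of irreducible closed subsets of `X` of length `n` ending inside `closure S`. -/
theorem exists_chain_of_le_dim {S : Set X} {n : ℕ} (h : (n : WithBot ℕ∞) ≤ topologicalKrullDim S) :
    ∃ l : LTSeries (IrreducibleCloseds X), l.length = n ∧ (l.last : Set X) ⊆ closure S := by
  obtain ⟨l', hl'⟩ := le_krullDim_iff.mp h
  exact ⟨l'.map (incl S) (incl_strictMono S), hl', incl_subset_closure S l'.last⟩

/-- The dimension of a subset of a union of two closed sets of dimension `< d` is `< d`. -/
theorem dim_lt_of_subset_union {S A B : Set X} (hA : IsClosed A) (hB : IsClosed B) (h : S ⊆ A ∪ B)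
    {d : ℕ} (hdA : topologicalKrullDim A < (d : WithBot ℕ∞))
    (hdB : topologicalKrullDim B < (d : WithBot ℕ∞)) :
    topologicalKrullDim S < (d : WithBot ℕ∞) := by
  unfold topologicalKrullDim
  rw [krullDim_lt_coe_iff]
  intro l'
  let l := l'.map (incl S) (incl_strictMono S)
  have hl : (l.last : Set X) ⊆ A ∪ B :=
    (incl_subset_closure S l'.last).trans (closure_minimal h (hA.union hB))
  have hirr : IsPreirreducible (l.last : Set X) := l.last.isIrreducible.isPreirreducible
  rcases isPreirreducible_iff_isClosed_union_isClosed.mp hirr A B hA hB hl with hA' | hB'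
  · have := lt_of_le_of_lt (length_le_dim l hA') hdA
    exact_mod_cast this
  · have := lt_of_le_of_lt (length_le_dim l hB') hdB
    exact_mod_cast this

/-- An irreducible closed subset of dimension `d + 1` contains a proper irreducible closed subset of dimension `d`. -/
theorem exists_irreducible_closed_dim_pred {Z : Set X} (hZc : IsClosed Z) (hZ : IsIrreducible Z) {d : ℕ}
    (hd : topologicalKrullDim Z = ((d + 1 : ℕ) : WithBot ℕ∞)) :
    ∃ W : Set X, IsClosed W ∧ IsIrreducible W ∧ W ⊆ Z ∧ W ≠ Z ∧
      topologicalKrullDim W = (d : WithBot ℕ∞) := by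
  obtain ⟨l, hlen, hlast⟩ := exists_chain_of_le_dim (S := Z) (n := d + 1) hd.ge
  rw [hZc.closure_eq] at hlast
  have hne : l.length ≠ 0 := by omega
  have hrel : l.eraseLast.last < l.last := l.eraseLast_last_rel_last hne
  let W : IrreducibleCloseds X := l.eraseLast.last
  have hWZ : (W : Set X) ⊆ Z := (show (W : Set X) ⊆ (l.last : Set X) from hrel.le).trans hlast
  have hWne : (W : Set X) ≠ Z := by
    intro heq
    have h1 : (l.last : Set X) ⊆ (W : Set X) := heq ▸ hlast
    exact hrel.not_ge h1
  refine ⟨W, W.isClosed, W.isIrreducible, hWZ, hWne, le_antisymm ?_ ?_⟩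
  · have h1 := Groth.Agent.Lib.DimDrop.topologicalKrullDim_add_one_le_of_ssubset W.isClosed hZ hWZ hWne
    rw [hd] at h1
    generalize topologicalKrullDim (W : Set X) = x at h1
    induction x using WithBot.recBotCoe with
    | bot => exact bot_le
    | coe y =>
      have h2 : y + 1 ≤ ((d : ℕ∞) + 1) := by exact_mod_cast h1
      have hy : y ≠ ⊤ := by
        rintro rfl
        simp at h2
      lift y to ℕ using hy
      have : y + 1 ≤ d + 1 := by exact_mod_cast h2
      exact_mod_cast Nat.le_of_succ_le_succ this
  · have h1 := length_le_dim l.eraseLast (S := (W : Set X)) (le_refl _)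
    have h2 : l.eraseLast.length = d := by
      rw [RelSeries.eraseLast_length]; omega
    rw [h2] at h1
    exact h1

end Groth.Agent.Lib.DimChain48
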