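import Mathlib
import Groth.Prelude.Def_BlowUp2
import Groth.Agent.Lib.DimChain48

/-!
# The support of an effective Cartier divisor on a scheme of dimension `≤ 1` (helper48, K6/D3)

* `exists_generization_notMem_support`: every point of the support of an effective Cartier ideal sheaf has a generization
  outside the support (a minimal prime of an affine chart; it does not contain the nonzerodivisor local equation).
* `dim_support_le_zero_of_isEffCartierIdeal`: `dim X ≤ 1 ⟹ dim Supp D ≤ 0`.
* `finite_of_noetherianSpace_of_dim_le_zero`: a Noetherian `T0` space of Krull dimension `≤ 0` is finite.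
-/

set_option autoImplicit false
universe u
open CategoryTheory AlgebraicGeometry TopologicalSpace Opposite

namespace Groth.Agent.Lib.CartierDim48

variable {X : Scheme.{u}}

/-- every point of the support of an effective Cartier divisor has a generization outside the support -/
theorem exists_generization_notMem_support (D : X.IdealSheafData) (hD : BlowUp.IsEffCartierIdeal D)
    (b : X) : ∃ c : X, c ⤳ b ∧ c ∉ D.support := by
  obtain ⟨U, hbU, f, hf, hfU⟩ := hD b
  have hU : IsAffineOpen U.1 := U.2
  let p : PrimeSpectrum Γ(X, U.1) := hU.primeIdealOf ⟨b, hbU⟩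
  obtain ⟨q, hq, hqp⟩ := Ideal.exists_minimalPrimes_le (I := (⊥ : Ideal Γ(X, U.1))) (J := p.asIdeal) bot_le
  have hqprime : q.IsPrime := hq.1.1
  let qpt : PrimeSpectrum Γ(X, U.1) := ⟨q, hqprime⟩
  refine ⟨hU.fromSpec qpt, ?_, ?_⟩
  · have h1 : qpt ⤳ p := (PrimeSpectrum.le_iff_specializes qpt p).mp hqp
    have h2 := h1.map hU.fromSpec.continuous
    rwa [hU.fromSpec_primeIdealOf ⟨b, hbU⟩] at h2
  · have hcU : hU.fromSpec qpt ∈ U.1 := by
      have : hU.fromSpec qpt ∈ Set.range hU.fromSpec := ⟨qpt, rfl⟩
      rwa [hU.range_fromSpec] at this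
    rw [Scheme.IdealSheafData.mem_support_iff_of_mem (U := U) hcU, Scheme.mem_zeroLocus_iff]
    intro hall
    have hfmem : f ∈ (D.ideal U : Set Γ(X, U.1)) := by
      rw [hfU]
      exact Ideal.subset_span rfl
    apply hall f hfmem
    have hfq : f ∉ q := fun hfq =>
      Set.disjoint_left.mp (Ideal.disjoint_nonZeroDivisors_of_mem_minimalPrimes hq) hfq hf
    have : qpt ∈ (PrimeSpectrum.basicOpen f : Set (PrimeSpectrum Γ(X, U.1))) := hfq
    have h3 : qpt ∈ (hU.fromSpec ⁻¹ᵁ X.basicOpen f : (Spec Γ(X, U.1)).Opens) := by
      rw [hU.fromSpec_preimage_basicOpen f]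
      exact this
    exact h3

theorem one_le_of_not_le_zero {x : WithBot ℕ∞} (h : ¬ x ≤ 0) : 1 ≤ x := by
  induction x using WithBot.recBotCoe with
  | bot => exact absurd bot_le h
  | coe y =>
    have h1 : ¬ y ≤ 0 := fun hy => h (by exact_mod_cast hy)
    have h2 : 1 ≤ y := by
      rw [ENat.one_le_iff_ne_zero]
      intro h0
      exact h1 (le_of_eq h0)
    exact_mod_cast h2

/-- the support of an effective Cartier divisor on a scheme of dimension `≤ 1` has dimension `≤ 0` -/
theorem dim_support_le_zero_of_isEffCartierIdeal (hdim : topologicalKrullDim X ≤ 1)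
    (D : X.IdealSheafData) (hD : BlowUp.IsEffCartierIdeal D) :
    topologicalKrullDim ↥(D.support : Set X) ≤ 0 := by
  by_contra hcon
  have h1 : ((1 : ℕ) : WithBot ℕ∞) ≤ topologicalKrullDim ↥(D.support : Set X) := by
    exact_mod_cast one_le_of_not_le_zero hcon
  obtain ⟨l, hlen, hlast⟩ := Groth.Agent.Lib.DimChain48.exists_chain_of_le_dim h1
  rw [D.support.isClosed.closure_eq] at hlast
  obtain ⟨b, hb⟩ := QuasiSober.sober l.last.isIrreducible l.last.isClosed
  obtain ⟨c, hcb, hcS⟩ := exists_generization_notMem_support D hD b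
  let C : IrreducibleCloseds X := ⟨closure {c}, isIrreducible_singleton.closure, isClosed_closure⟩
  have hbl : b ∈ (l.last : Set X) := by
    have h2 : closure {b} = (l.last : Set X) := hb
    rw [← h2]
    exact subset_closure rfl
  have hBC : l.last < C := by
    refine lt_of_le_of_ne ?_ ?_
    · change (l.last : Set X) ⊆ closure {c}
      have h2 : closure {b} = (l.last : Set X) := hb
      rw [← h2]
      exact closure_minimal (Set.singleton_subset_iff.mpr (specializes_iff_mem_closure.mp hcb))
        isClosed_closure
    · intro heq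
      apply hcS
      apply hlast
      rw [heq]
      exact subset_closure rfl
  let l' : LTSeries (IrreducibleCloseds X) := l.snoc C hBC
  have h3 : ((l'.length : ℕ) : WithBot ℕ∞) ≤ topologicalKrullDim X := Order.LTSeries.length_le_krullDim l'
  have hl' : l'.length = 1 + 1 := by
    change (l.snoc C hBC).length = 1 + 1
    rw [RelSeries.snoc_length, hlen]
  rw [hl'] at h3
  have h4 : ((1 + 1 : ℕ) : WithBot ℕ∞) ≤ 1 := h3.trans hdim
  have h5 : ((1 + 1 : ℕ) : ℕ∞) ≤ ((1 : ℕ) : ℕ∞) := by exact_mod_cast h4
  have h6 : (1 + 1 : ℕ) ≤ 1 := by exact_mod_cast h5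
  omega

/-- a Noetherian `T0` space of Krull dimension `≤ 0` is finite -/
theorem finite_of_noetherianSpace_of_dim_le_zero {T : Type*} [TopologicalSpace T] [NoetherianSpace T]
    [T0Space T] (h : topologicalKrullDim T ≤ 0) : Finite T := by
  have hfin : (irreducibleComponents T).Finite := NoetherianSpace.finite_irreducibleComponents
  have hsub : ∀ C ∈ irreducibleComponents T, (C : Set T).Subsingleton := by
    intro C hC x hx y hy
    have hCirr : IsIrreducible C := hC.1
    have hCcl : IsClosed C := isClosed_of_mem_irreducibleComponents C hC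
    let Cc : IrreducibleCloseds T := ⟨C, hCirr, hCcl⟩
    have hmin : IsMin Cc := (Order.krullDim_nonpos_iff_forall_isMin.mp h) Cc
    have key : ∀ z ∈ C, C ⊆ closure {z} := by
      intro z hz
      let Zc : IrreducibleCloseds T := ⟨closure {z}, isIrreducible_singleton.closure, isClosed_closure⟩
      have hle : Zc ≤ Cc := by
        change closure {z} ⊆ C
        exact closure_minimal (Set.singleton_subset_iff.mpr hz) hCcl
      exact hmin hle
    have hxy : x ∈ closure ({y} : Set T) := key y hy hx
    have hyx : y ∈ closure ({x} : Set T) := key x hx hy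
    have hins : Inseparable x y := by
      rw [inseparable_iff_specializes_and]
      exact ⟨specializes_iff_mem_closure.mpr hyx, specializes_iff_mem_closure.mpr hxy⟩
    exact hins.eq
  have huniv : (Set.univ : Set T).Finite := by
    rw [← sUnion_irreducibleComponents]
    exact hfin.sUnion fun C hC => (hsub C hC).finite
  exact Set.finite_univ_iff.mp huniv

end Groth.Agent.Lib.CartierDim48
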