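import Mathlib.RingTheory.Etale.Kaehler
import Mathlib.RingTheory.AlgebraicIndependent.Adjoin
import Mathlib.RingTheory.Kaehler.Polynomial
import Mathlib.RingTheory.Localization.Module
import Mathlib.LinearAlgebra.Dimension.Free

/-!
# helper44: Kähler differentials of purely transcendental field extensions

`Ω[K(x)⁄K]` is free on the `d x_i` for an algebraically independent family `x`.
-/

set_option autoImplicit false
open Algebra KaehlerDifferential TensorProduct MvPolynomial

universe u v w

namespace Groth.Agent.Lib.PureTransH44

/-- Abstract version: a fraction field of a polynomial ring has `Ω` free on the `d X_i`. -/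
theorem exists_basis_of_isFractionRing (K : Type u) (E : Type v) (ι : Type w) [Field K] [Field E]
    [Algebra K E] [Algebra (MvPolynomial ι K) E] [IsScalarTower K (MvPolynomial ι K) E]
    [IsFractionRing (MvPolynomial ι K) E] :
    ∃ b : Module.Basis ι E Ω[E⁄K],
      ∀ i, b i = D K E (algebraMap (MvPolynomial ι K) E (X i)) := by
  let b := (KaehlerDifferential.mvPolynomialBasis K ι).ofIsLocalizedModule E
    (nonZeroDivisors (MvPolynomial ι K)) (KaehlerDifferential.map K K (MvPolynomial ι K) E)
  refine ⟨b, fun i => ?_⟩
  simp [b]


/-- `Ω` of a purely transcendental extension `K(x)` is free on the `d x_i`. -/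
theorem exists_basis_adjoin (K : Type u) (L : Type v) (ι : Type w) [Field K] [Field L]
    [Algebra K L] (x : ι → L) (hx : AlgebraicIndependent K x) :
    ∃ b : Module.Basis ι (IntermediateField.adjoin K (Set.range x))
        Ω[IntermediateField.adjoin K (Set.range x)⁄K],
      ∀ i, b i = D K _ (⟨x i, IntermediateField.subset_adjoin K _ ⟨i, rfl⟩⟩ :
        IntermediateField.adjoin K (Set.range x)) := by
  let e := hx.aevalEquivField
  let _ : Algebra (MvPolynomial ι K) (IntermediateField.adjoin K (Set.range x)) :=
    (e.toRingHom.comp (algebraMap _ (FractionRing (MvPolynomial ι K)))).toAlgebra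
  have : IsScalarTower K (MvPolynomial ι K) (IntermediateField.adjoin K (Set.range x)) :=
    IsScalarTower.of_algebraMap_eq (fun r => by
      change _ = e (algebraMap _ (FractionRing (MvPolynomial ι K)) (algebraMap K _ r))
      rw [← IsScalarTower.algebraMap_apply K (MvPolynomial ι K) (FractionRing (MvPolynomial ι K)),
        e.commutes])
  let e' : FractionRing (MvPolynomial ι K) ≃ₐ[MvPolynomial ι K]
      (IntermediateField.adjoin K (Set.range x)) :=
    { e.toRingEquiv with commutes' := fun _ => rfl }
  have : IsFractionRing (MvPolynomial ι K) (IntermediateField.adjoin K (Set.range x)) :=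
    IsLocalization.isLocalization_of_algEquiv _ e'
  obtain ⟨b, hb⟩ := exists_basis_of_isFractionRing K (IntermediateField.adjoin K (Set.range x)) ι
  refine ⟨b, fun i => ?_⟩
  rw [hb]
  congr 1
  apply Subtype.ext
  change (e (algebraMap _ (FractionRing (MvPolynomial ι K)) (X i)) : L) = x i
  rw [hx.aevalEquivField_algebraMap_apply_coe, aeval_X]

theorem finrank_adjoin (K : Type u) (L : Type v) (ι : Type w) [Fintype ι] [Field K] [Field L]
    [Algebra K L] (x : ι → L) (hx : AlgebraicIndependent K x) :
    Module.Finite (IntermediateField.adjoin K (Set.range x))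
        Ω[IntermediateField.adjoin K (Set.range x)⁄K] ∧
      Module.finrank (IntermediateField.adjoin K (Set.range x))
        Ω[IntermediateField.adjoin K (Set.range x)⁄K] = Fintype.card ι := by
  obtain ⟨b, -⟩ := exists_basis_adjoin K L ι x hx
  exact ⟨Module.Finite.of_basis b, Module.finrank_eq_card_basis b⟩

end Groth.Agent.Lib.PureTransH44
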