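import Mathlib.RingTheory.Kaehler.JacobiZariski
import Mathlib.RingTheory.Polynomial.Basic
import Mathlib.FieldTheory.Minpoly.Field
import Mathlib.RingTheory.PrincipalIdealDomain
import Mathlib.LinearAlgebra.FiniteDimensional.Lemmas

/-!
# helper44: field extensions generated by one algebraic element

For `M = E[x]` with `x` algebraic, the one-variable presentation gives
`finrank H¹(L_{M/E}) = finrank Ω[M⁄E]` (both at most one).
-/

set_option autoImplicit false
open Algebra KaehlerDifferential TensorProduct MvPolynomial

universe u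

namespace Groth.Agent.Lib.SimpleExtH44

variable (E M : Type u) [Field E] [Field M] [Algebra E M]

theorem aeval_surjective (x : M) (hx : Algebra.adjoin E {x} = ⊤) :
    Function.Surjective (aeval (R := E) (fun _ : Unit => x)) := by
  rw [← AlgHom.range_eq_top, ← Algebra.adjoin_range_eq_range_aeval, Set.range_const, hx]

/-- one-variable generators -/
noncomputable def gens (x : M) (hx : Algebra.adjoin E {x} = ⊤) : Generators E M Unit :=
  Generators.ofSurjective (fun _ : Unit => x) (aeval_surjective E M x hx)

instance : IsPrincipalIdealRing (MvPolynomial Unit E) :=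
  IsPrincipalIdealRing.of_surjective (MvPolynomial.uniqueAlgEquiv E Unit).symm.toRingHom
    (MvPolynomial.uniqueAlgEquiv E Unit).symm.surjective

theorem exists_ne_zero_mem_ker (x : M) (hx : Algebra.adjoin E {x} = ⊤) (halg : IsIntegral E x) :
    ∃ g : MvPolynomial Unit E, g ≠ 0 ∧ g ∈ (gens E M x hx).ker := by
  refine ⟨(MvPolynomial.uniqueAlgEquiv E Unit).symm (minpoly E x), ?_, ?_⟩
  · rw [Ne, EmbeddingLike.map_eq_zero_iff]
    exact minpoly.ne_zero halg
  · rw [Generators.ker_eq_ker_aeval_val, RingHom.mem_ker]
    have h : ((aeval (gens E M x hx).val).comp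
        (MvPolynomial.uniqueAlgEquiv E Unit).symm.toAlgHom : Polynomial E →ₐ[E] M) =
        Polynomial.aeval x := by
      apply Polynomial.algHom_ext
      simp [gens]
    have := congrArg (fun f : Polynomial E →ₐ[E] M => f (minpoly E x)) h
    simpa using this


variable {E M}

/-- The conormal module of the one-variable presentation is one-dimensional. -/
theorem finrank_cotangent (x : M) (hx : Algebra.adjoin E {x} = ⊤) (halg : IsIntegral E x) :
    Module.finrank M (gens E M x hx).toExtension.Cotangent = 1 := by
  set Q := gens E M x hx with hQ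
  obtain ⟨g₀, hg₀, hg₀I⟩ := exists_ne_zero_mem_ker E M x hx halg
  obtain ⟨g, hg⟩ := (IsPrincipalIdealRing.principal Q.ker).principal
  have hgI : g ∈ Q.ker := by rw [hg]; exact Submodule.mem_span_singleton_self g
  have hg0 : g ≠ 0 := by
    rintro rfl
    rw [hg] at hg₀I
    simp at hg₀I
    exact hg₀ hg₀I
  let v : Q.toExtension.Cotangent := Extension.Cotangent.mk ⟨g, hgI⟩
  have hv : v ≠ 0 := by
    intro h0
    have h1 : g ∈ Q.ker ^ 2 := (Extension.Cotangent.mk_eq_zero_iff (P := Q.toExtension) ⟨g, hgI⟩).1 h0
    have hg' : Q.ker = Ideal.span {g} := hg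
    rw [hg', Ideal.span_singleton_pow, Ideal.mem_span_singleton'] at h1
    obtain ⟨a, ha⟩ := h1
    have h2 : g * (a * g - 1) = 0 := by linear_combination ha
    have h3 : a * g - 1 = 0 := (mul_eq_zero.1 h2).resolve_left hg0
    have h4 : (1 : MvPolynomial Unit E) ∈ Q.ker := by
      have : (1 : MvPolynomial Unit E) = a * g := by linear_combination -h3
      rw [this]
      exact Ideal.mul_mem_left _ _ hgI
    have h5 : Q.ker = ⊤ := (Ideal.eq_top_iff_one _).2 h4
    have h6 : (algebraMap Q.toExtension.Ring M) 1 = 0 := by
      have : (1 : Q.toExtension.Ring) ∈ Q.toExtension.ker := h4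
      exact this
    rw [map_one] at h6
    exact one_ne_zero h6
  rw [finrank_eq_one_iff_of_nonzero' v hv]
  intro w
  obtain ⟨⟨f, hf⟩, rfl⟩ := Extension.Cotangent.mk_surjective w
  have hg' : Q.ker = Ideal.span {g} := hg
  have hf' : f ∈ Ideal.span {g} := hg' ▸ hf
  obtain ⟨a, ha⟩ := Ideal.mem_span_singleton'.1 hf'
  refine ⟨algebraMap Q.toExtension.Ring M a, ?_⟩
  rw [algebraMap_smul, ← map_smul]
  congr 1
  ext
  simp only [← ha]
  rfl


/-- For a field extension generated as an algebra by one algebraic element, `H¹(L)` and `Ω`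
are finite-dimensional of the same dimension. -/
theorem simple_main (x : M) (hx : Algebra.adjoin E {x} = ⊤) (halg : IsIntegral E x) :
    Module.Finite M Ω[M⁄E] ∧ Module.Finite M (H1Cotangent E M) ∧
      Module.finrank M (H1Cotangent E M) = Module.finrank M Ω[M⁄E] := by
  set Q := gens E M x hx with hQ
  have hcs : Module.finrank M Q.toExtension.CotangentSpace = 1 := by
    rw [Module.finrank_eq_card_basis Q.cotangentSpaceBasis]; simp
  have fcs : Module.Finite M Q.toExtension.CotangentSpace :=
    Module.Finite.of_basis Q.cotangentSpaceBasis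
  have hc : Module.finrank M Q.toExtension.Cotangent = 1 := finrank_cotangent x hx halg
  have fc : Module.Finite M Q.toExtension.Cotangent :=
    Module.finite_of_finrank_pos (by rw [hc]; exact one_pos)
  have fΩ : Module.Finite M Ω[M⁄E] :=
    Module.Finite.of_surjective Q.toExtension.toKaehler Q.toExtension.toKaehler_surjective
  have e := Generators.H1Cotangent.equiv Q (Generators.self E M)
  have fh : Module.Finite M Q.toExtension.H1Cotangent :=
    inferInstanceAs (Module.Finite M (LinearMap.ker Q.toExtension.cotangentComplex))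
  refine ⟨fΩ, Module.Finite.equiv e, ?_⟩
  rw [← e.finrank_eq]
  have h1 := LinearMap.finrank_range_add_finrank_ker Q.toExtension.cotangentComplex
  have h2 := LinearMap.finrank_range_add_finrank_ker Q.toExtension.toKaehler
  have h3 : LinearMap.ker Q.toExtension.toKaehler = LinearMap.range Q.toExtension.cotangentComplex :=
    LinearMap.exact_iff.1 Q.toExtension.exact_cotangentComplex_toKaehler
  have h4 : Module.finrank M (LinearMap.range Q.toExtension.toKaehler) = Module.finrank M Ω[M⁄E] := by
    rw [LinearMap.range_eq_top.2 Q.toExtension.toKaehler_surjective, finrank_top]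
  rw [h3, h4, hcs] at h2
  rw [hc] at h1
  change Module.finrank M (LinearMap.ker Q.toExtension.cotangentComplex) = _
  omega

end Groth.Agent.Lib.SimpleExtH44
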