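import Groth.Agent.Lib.SixTermH44
import Groth.Agent.Lib.SimpleExtH44
import Groth.Agent.Lib.PureTransH44
import Mathlib.RingTheory.Smooth.Field
import Mathlib.FieldTheory.FinTrdeg
import Mathlib.RingTheory.Adjoin.PowerBasis
import Mathlib.FieldTheory.IntermediateField.Adjoin.Basic

/-!
# helper44: Cartier equality for finitely generated field extensions

`finrank Ω[L⁄K] - finrank H¹(L_{L/K}) = trdeg_K L` (`cartier`), finite extensions have
Euler characteristic zero (`finite_chi`).
-/

set_option autoImplicit false
open Algebra KaehlerDifferential TensorProduct IntermediateField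
open Groth.Agent.Lib.SixTermH44 Groth.Agent.Lib.SimpleExtH44 Groth.Agent.Lib.PureTransH44

universe u

namespace Groth.Agent.Lib.CartierH44

/-- simple algebraic extension: `chi = 0`. -/
theorem simple_chi (E M : Type u) [Field E] [Field M] [Algebra E M] (x : M)
    (hx : Algebra.adjoin E {x} = ⊤) (halg : IsIntegral E x) :
    Module.Finite M Ω[M⁄E] ∧ Module.Finite M (H1Cotangent E M) ∧ chi E M = 0 := by
  obtain ⟨h1, h2, h3⟩ := simple_main x hx halg
  refine ⟨h1, h2, ?_⟩
  unfold chi
  rw [h3]; ring

/-- finite extensions have `chi = 0`. -/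
theorem finite_chi (n : ℕ) : ∀ (E M : Type u) [Field E] [Field M] [Algebra E M]
    [FiniteDimensional E M], Module.finrank E M = n →
    Module.Finite M Ω[M⁄E] ∧ Module.Finite M (H1Cotangent E M) ∧ chi E M = 0 := by
  induction n using Nat.strong_induction_on with
  | _ n ih =>
    intro E M _ _ _ _ hn
    by_cases hcase : ∃ x : M, x ∉ (⊥ : IntermediateField E M)
    · obtain ⟨x, hx⟩ := hcase
      have halg : IsIntegral E x := Algebra.IsIntegral.isIntegral x
      have hgen : Algebra.adjoin E {AdjoinSimple.gen E x} = ⊤ := by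
        have := (IntermediateField.adjoin.powerBasis halg).adjoin_gen_eq_top
        rwa [IntermediateField.adjoin.powerBasis_gen] at this
      have hint : IsIntegral E (AdjoinSimple.gen E x) :=
        (AdjoinSimple.isIntegral_gen E x).2 halg
      obtain ⟨a1, a2, a3⟩ := simple_chi E E⟮x⟯ (AdjoinSimple.gen E x) hgen hint
      have hmul := Module.finrank_mul_finrank E E⟮x⟯ M
      have hne1 : Module.finrank E E⟮x⟯ ≠ 1 := fun h =>
        hx (IntermediateField.finrank_adjoin_simple_eq_one_iff.1 h)
      have hpos1 : 0 < Module.finrank E E⟮x⟯ := Module.finrank_pos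
      have hpos2 : 0 < Module.finrank E⟮x⟯ M := Module.finrank_pos
      have hlt : Module.finrank E⟮x⟯ M < n := by
        rw [← hn, ← hmul]
        have h2 : 2 ≤ Module.finrank E E⟮x⟯ := by omega
        calc Module.finrank E⟮x⟯ M < 2 * Module.finrank E⟮x⟯ M := by omega
          _ ≤ Module.finrank E E⟮x⟯ * Module.finrank E⟮x⟯ M := Nat.mul_le_mul_right _ h2
      obtain ⟨b1, b2, b3⟩ := ih _ hlt E⟮x⟯ M rfl
      obtain ⟨c1, c2, c3⟩ := tower E E⟮x⟯ M
      exact ⟨c1, c2, by rw [c3, a3, b3]; rfl⟩
    · push Not at hcase
      have hx : Algebra.adjoin E {(1 : M)} = ⊤ := by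
        rw [_root_.eq_top_iff]
        intro y _
        obtain ⟨e, rfl⟩ := IntermediateField.mem_bot.1 (hcase y)
        exact Subalgebra.algebraMap_mem _ e
      exact simple_chi E M 1 hx isIntegral_one


/-- **Cartier's equality**: for a finitely generated field extension,
`dim Ω[L⁄K] - dim H¹(L_{L/K}) = trdeg_K L`. -/
theorem cartier (K L : Type u) [Field K] [Field L] [Algebra K L] [Algebra.EssFiniteType K L] :
    Module.Finite L Ω[L⁄K] ∧ Module.Finite L (H1Cotangent K L) ∧
      chi K L = Cardinal.toNat (Algebra.trdeg K L) := by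
  obtain ⟨s, hs⟩ := exists_isTranscendenceBasis K L
  have hfin : Finite s := finite_of_isTranscendenceBasis hs
  have : Fintype s := Fintype.ofFinite s
  obtain ⟨a1, a2⟩ := finrank_adjoin K L s ((↑) : s → L) hs.1
  have hsm : Algebra.FormallySmooth K (IntermediateField.adjoin K (Set.range ((↑) : s → L))) :=
    Algebra.FormallySmooth.adjoin_of_algebraicIndependent hs.1
  have hsub : Subsingleton (H1Cotangent K (IntermediateField.adjoin K (Set.range ((↑) : s → L)))) :=
    inferInstance
  have a3 : Module.Finite (IntermediateField.adjoin K (Set.range ((↑) : s → L)))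
      (H1Cotangent K (IntermediateField.adjoin K (Set.range ((↑) : s → L)))) :=
    Module.Finite.of_finite
  have a4 : chi K (IntermediateField.adjoin K (Set.range ((↑) : s → L))) = Fintype.card s := by
    unfold chi
    rw [a2, Module.finrank_zero_of_subsingleton]; simp
  have halg : Algebra.IsAlgebraic (IntermediateField.adjoin K (Set.range ((↑) : s → L))) L :=
    hs.isAlgebraic_field
  have hess : Algebra.EssFiniteType (IntermediateField.adjoin K (Set.range ((↑) : s → L))) L :=
    Algebra.EssFiniteType.of_comp K _ L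
  have hfd : Module.Finite (IntermediateField.adjoin K (Set.range ((↑) : s → L))) L :=
    Algebra.finite_of_essFiniteType_of_isAlgebraic
  obtain ⟨b1, b2, b3⟩ := finite_chi _ (IntermediateField.adjoin K (Set.range ((↑) : s → L))) L rfl
  obtain ⟨c1, c2, c3⟩ := tower K (IntermediateField.adjoin K (Set.range ((↑) : s → L))) L
  refine ⟨c1, c2, ?_⟩
  rw [c3, a4, b3, add_zero, ← hs.cardinalMk_eq_trdeg]
  simp

end Groth.Agent.Lib.CartierH44
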