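import Groth.Agent.Lib.KoszulEuler3
import Groth.Agent.Lib.FiniteLengthSupport
import Mathlib.RingTheory.KrullDimension.Regular

/-!
# Serre's Euler characteristic of Koszul complexes, III: dimension (helper25)

`A` Noetherian local, `l` a list in the maximal ideal, `M` finite with `Good M l`.
* `supportDim_le_length_of_good`: `dim M ≤ |l|`;
* `supportDim_le_max_of_exact`;
* `kchi_eq_zero_of_supportDim_lt`: `dim M < |l| → χ(l; M) = 0`;
* `kchi_pos_of_supportDim_eq`: `dim M = |l| → 0 < χ(l; M)`;
* `kchi_nil`: `χ([]; M) = length M`.
-/

set_option autoImplicit false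
universe u

open CategoryTheory Limits CochainComplex
open Groth.Agent.Lib.EulerLES Groth.Agent.Lib.EulerD Groth.Agent.Lib.KoszulCone
  Groth.Agent.Lib.KoszulElem

namespace Groth.Agent.Lib.KoszulEuler

variable {A : Type u} [CommRing A]

/-- `dim M ≤ max (dim N) (dim Q)` for an exact sequence `N → M → Q`. -/
lemma supportDim_le_max_of_exact {N M Q : Type u} [AddCommGroup N] [Module A N] [AddCommGroup M]
    [Module A M] [AddCommGroup Q] [Module A Q] (f : N →ₗ[A] M) (g : M →ₗ[A] Q)
    (hf : Function.Injective f) (hg : Function.Surjective g) (hfg : Function.Exact f g) :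
    Module.supportDim A M ≤ max (Module.supportDim A N) (Module.supportDim A Q) := by
  unfold Module.supportDim Order.krullDim
  apply iSup_le
  intro p
  have hmem : p.head.1 ∈ Module.support A N ∪ Module.support A Q := by
    rw [← Module.support_of_exact hfg hf hg]; exact p.head.2
  rcases hmem with h | h
  · refine le_trans ?_ (le_max_left _ _)
    let q : LTSeries (Module.support A N) :=
      { length := p.length
        toFun := fun i => ⟨(p i).1, Module.mem_support_mono (p.head_le i) h⟩
        step := fun i => p.step i }
    exact le_iSup (fun q : LTSeries (Module.support A N) => (q.length : WithBot ℕ∞)) q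
  · refine le_trans ?_ (le_max_right _ _)
    let q : LTSeries (Module.support A Q) :=
      { length := p.length
        toFun := fun i => ⟨(p i).1, Module.mem_support_mono (p.head_le i) h⟩
        step := fun i => p.step i }
    exact le_iSup (fun q : LTSeries (Module.support A Q) => (q.length : WithBot ℕ∞)) q

lemma supportDim_le_zero_of_good_nil {P : Type u} [AddCommGroup P] [Module A P]
    (h : Good (A := A) P []) : Module.supportDim A P ≤ 0 := by
  unfold Module.supportDim
  rw [Order.krullDim_nonpos_iff_forall_isMax]
  intro x y hxy
  have hmax := h x.1 x.2 (fun f hf => by simp at hf)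
  have : x.1.asIdeal = y.1.asIdeal := hmax.eq_of_le y.1.2.ne_top hxy
  exact le_of_eq (Subtype.ext (PrimeSpectrum.ext this)).symm

lemma Good.quotSMulTop {P : Type u} [AddCommGroup P] [Module A P] [Module.Finite A P]
    {x : A} {l : List A} (h : Good P (x :: l)) : Good (QuotSMulTop x P) l := by
  intro p hp hpl
  rw [Module.support_quotSMulTop] at hp
  refine h p hp.1 fun g hg => ?_
  rcases List.mem_cons.mp hg with rfl | hg
  · simpa using hp.2
  · exact hpl g hg

variable [IsNoetherianRing A] [IsLocalRing A]

theorem supportDim_le_length_of_good : ∀ (l : List A) (_ : ∀ a ∈ l, a ∈ IsLocalRing.maximalIdeal A)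
    (P : Type u) [AddCommGroup P] [Module A P] [Module.Finite A P], Good P l →
    Module.supportDim A P ≤ (l.length : WithBot ℕ∞)
  | [], _, P, _, _, _, h => by simpa using supportDim_le_zero_of_good_nil h
  | x :: l, hl, P, _, _, _, h => by
    have h1 := Module.supportDim_le_supportDim_quotSMulTop_succ (M := P) (x := x)
      (hl x (List.mem_cons_self))
    have h2 := supportDim_le_length_of_good l (fun a ha => hl a (List.mem_cons_of_mem _ ha))
      (QuotSMulTop x P) h.quotSMulTop
    refine h1.trans ?_
    rw [List.length_cons]
    push_cast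
    gcongr

omit [IsLocalRing A] [IsNoetherianRing A] in
/-- `χ([]; M) = length M`. -/
theorem kchi_nil (M : Type u) [AddCommGroup M] [Module A M] : kchi M ([] : List A) = len A M := by
  unfold kchi chi eul
  rw [finsum_eq_single _ (0 : ℤ)]
  · have e := (HomologicalComplex.singleObjHomologySelfIso (ComplexShape.up ℤ) 0
      (ModuleCat.of A M)).toLinearEquiv
    have : Module.length A ((kcx (ModuleCat.of A M) ([] : List A)).homology 0) =
        Module.length A M := e.length_eq
    rw [this]
    simp [len]
  · intro i hi
    have hz : IsZero ((kcx (ModuleCat.of A M) ([] : List A)).homology i) :=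
      HomologicalComplex.isZero_single_obj_homology (ComplexShape.up ℤ) 0 (ModuleCat.of A M) i hi
    have : Subsingleton ((kcx (ModuleCat.of A M) ([] : List A)).homology i) :=
      ModuleCat.subsingleton_of_isZero hz
    rw [Module.length_eq_zero, ENat.toNat_zero, Nat.cast_zero, mul_zero]

private lemma withBot_lt_of_succ_le {a b : WithBot ℕ∞} {n : ℕ} (h1 : a + 1 ≤ b)
    (h2 : b < ((n + 1 : ℕ) : WithBot ℕ∞)) : a < (n : WithBot ℕ∞) := by
  have h := lt_of_le_of_lt h1 h2
  induction a using WithBot.recBotCoe with
  | bot => exact WithBot.bot_lt_coe _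
  | coe a =>
    have h' : (a + 1 : ℕ∞) < ((n + 1 : ℕ) : ℕ∞) := by exact_mod_cast h
    have : a < (n : ℕ∞) := by
      push_cast at h'
      exact (ENat.add_lt_add_iff_right (by simp)).mp h'
    exact_mod_cast this

theorem kchi_eq_zero_of_supportDim_lt : ∀ (l : List A)
    (_ : ∀ a ∈ l, a ∈ IsLocalRing.maximalIdeal A)
    (M : Type u) [AddCommGroup M] [Module A M] [Module.Finite A M], Good M l →
    Module.supportDim A M < (l.length : WithBot ℕ∞) → kchi M l = 0
  | [], _, M, _, _, _, _, hd => by
    have hbot : Module.supportDim A M = ⊥ := by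
      by_contra hne
      have hne := (Module.supportDim_ne_bot_iff_nontrivial A M).mp hne
      have : (0 : WithBot ℕ∞) ≤ Module.supportDim A M := by
        unfold Module.supportDim
        have : Nonempty (Module.support A M) := Module.nonempty_support_of_nontrivial.to_subtype
        exact Order.krullDim_nonneg
      exact absurd (lt_of_le_of_lt this hd) (by simp)
    rw [Module.supportDim_eq_bot_iff_subsingleton] at hbot
    apply kchi_eq_zero_of_disjoint
    intro p hp
    rw [Module.support_eq_empty] at hp
    exact hp.elim
  | x :: l, hl, M, _, _, _, h, hd => by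
    obtain ⟨n, hn⟩ := exists_torsionBy_stable M x
    rw [kchi_cons_eq M x n hn l h]
    apply kchi_eq_zero_of_supportDim_lt l (fun a ha => hl a (List.mem_cons_of_mem _ ha)) _
      (h.reduction n)
    have reg := isSMulRegular_quotient_torsionBy M x n hn
    have h1 := Module.supportDim_quotSMulTop_succ_eq_supportDim reg (hl x List.mem_cons_self)
    have h2 := Module.supportDim_le_of_surjective (Submodule.torsionBy A M (x ^ n)).mkQ
      (Submodule.mkQ_surjective _)
    rw [List.length_cons] at hd
    exact withBot_lt_of_succ_le (h1.le.trans h2) hd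

private lemma withBot_succ_cancel {a : WithBot ℕ∞} {n : ℕ}
    (h : a + 1 = ((n + 1 : ℕ) : WithBot ℕ∞)) : a = (n : WithBot ℕ∞) := by
  induction a using WithBot.recBotCoe with
  | bot => simp at h; exact absurd h WithBot.bot_ne_coe
  | coe a =>
    have h' : (a + 1 : ℕ∞) = ((n + 1 : ℕ) : ℕ∞) := by exact_mod_cast h
    have : a = (n : ℕ∞) := by
      push_cast at h'
      exact ENat.add_left_injective_of_ne_top (n := 1) (by simp) h'
    exact_mod_cast this

theorem kchi_pos_of_supportDim_eq : ∀ (l : List A)
    (_ : ∀ a ∈ l, a ∈ IsLocalRing.maximalIdeal A)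
    (M : Type u) [AddCommGroup M] [Module A M] [Module.Finite A M], Good M l →
    Module.supportDim A M = (l.length : WithBot ℕ∞) → 0 < kchi M l
  | [], _, M, _, _, _, h, hd => by
    rw [kchi_nil]
    have hfl : IsFiniteLength A M :=
      Groth.Agent.Lib.FiniteLengthSupport.isFiniteLength_of_support_isMaximal
        (fun p hp => h p hp (fun f hf => by simp at hf))
    have hnt : Nontrivial M := by
      rw [← Module.supportDim_ne_bot_iff_nontrivial A M, hd]
      simp
    have h1 : Module.length A M ≠ ⊤ := Module.length_ne_top_iff.mpr hfl
    have h2 : Module.length A M ≠ 0 := by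
      rw [Ne, Module.length_eq_zero_iff]
      exact not_subsingleton M
    unfold len
    have : 0 < (Module.length A M).toNat := ENat.toNat_pos h2 h1
    exact_mod_cast this
  | x :: l, hl, M, _, _, _, h, hd => by
    obtain ⟨n, hn⟩ := exists_torsionBy_stable M x
    rw [kchi_cons_eq M x n hn l h]
    apply kchi_pos_of_supportDim_eq l (fun a ha => hl a (List.mem_cons_of_mem _ ha)) _
      (h.reduction n)
    have reg := isSMulRegular_quotient_torsionBy M x n hn
    have h1 := Module.supportDim_quotSMulTop_succ_eq_supportDim reg (hl x List.mem_cons_self)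
    have h2 := Module.supportDim_le_of_surjective (Submodule.torsionBy A M (x ^ n)).mkQ
      (Submodule.mkQ_surjective _)
    have h3 := supportDim_le_max_of_exact (Submodule.torsionBy A M (x ^ n)).subtype
      (Submodule.torsionBy A M (x ^ n)).mkQ (Submodule.injective_subtype _)
      (Submodule.mkQ_surjective _) (LinearMap.exact_subtype_mkQ _)
    have hgN : Good (Submodule.torsionBy A M (x ^ n)) l := by
      refine Good.tail_of_pow_smul n (fun m => ?_) (h.of_support_subset
        (Module.support_subset_of_injective (Submodule.torsionBy A M (x ^ n)).subtype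
          (Submodule.injective_subtype _)))
      exact Subtype.ext (by simp)
    have h4 := supportDim_le_length_of_good l (fun a ha => hl a (List.mem_cons_of_mem _ ha))
      (Submodule.torsionBy A M (x ^ n)) hgN
    rw [List.length_cons] at hd
    have h5 : Module.supportDim A (M ⧸ Submodule.torsionBy A M (x ^ n)) =
        ((l.length + 1 : ℕ) : WithBot ℕ∞) := by
      refine le_antisymm (h2.trans hd.le) ?_
      rw [← hd]
      rcases le_max_iff.mp h3 with h' | h'
      · exfalso
        have := (h'.trans h4)
        rw [hd] at this
        have h6 : (l.length + 1 : ℕ) ≤ l.length := by exact_mod_cast this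
        omega
      · exact h'
    rw [h5] at h1
    exact withBot_succ_cancel h1

end Groth.Agent.Lib.KoszulEuler
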