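import Groth.Agent.Lib.KoszulTor
import Groth.Agent.Lib.KoszulEuler4
import Groth.Prelude.Def_IntMult

/-!
# Serre's Tor multiplicity against a Cartier divisor (helper84)

`chi_symm`: `IntMult.chi A M N = IntMult.chi A N M` (from helper25 `TorBalance.tor_symm`).
`chi_eq_length`: `χ(A/P, A/(g)) = length A/(P + (g))` if `g` is regular on `A` and on `A/P`
(via helper25 Koszul libs).
-/

set_option autoImplicit false
set_option linter.style.haveILetI false
universe u
open CategoryTheory Pointwise
open Groth.Agent.Lib.KoszulEuler Groth.Agent.Lib.KoszulTor Groth.Agent.Lib.TorBalance Groth.Agent.Lib.EulerLES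

namespace Groth.Agent.Lib.CartierMult84

variable {A : Type u} [CommRing A]

theorem chi_symm (M N : Type u) [AddCommGroup M] [Module A M] [AddCommGroup N] [Module A N] :
    IntMult.chi A M N = IntMult.chi A N M := by
  unfold IntMult.chi
  refine finsum_congr fun i => ?_
  obtain ⟨e⟩ := tor_symm (ModuleCat.of A M) (ModuleCat.of A N) i
  have : Module.length A (DRing.Tor A i M N) = Module.length A (DRing.Tor A i N M) :=
    e.toLinearEquiv.length_eq
  rw [this]


theorem chi_eq_length [IsNoetherianRing A] (P : Ideal A) (g : A)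
    (hg : IsSMulRegular A g) (hgP : IsSMulRegular (A ⧸ P) g) :
    IntMult.chi A (A ⧸ P) (A ⧸ Ideal.span {g}) =
      (Module.length A (A ⧸ (P ⊔ Ideal.span {g}))).toNat := by
  have h0 := chi_tor_eq_kchi [g] ((RingTheory.Sequence.isWeaklyRegular_cons_iff A g []).mpr
      ⟨hg, RingTheory.Sequence.IsWeaklyRegular.nil _ _⟩) (A ⧸ P)
  rw [Ideal.ofList_singleton] at h0
  rw [chi_symm, h0, kchi_cons_of_regular (A ⧸ P) g hgP [], kchi_nil]
  unfold len
  congr 2
  refine LinearEquiv.length_eq ?_
  have h1 : (g • (⊤ : Submodule A (A ⧸ P))) =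
      Submodule.map (Submodule.mkQ P) (Ideal.span {g}) := by
    ext x
    rw [Submodule.mem_smul_pointwise_iff_exists, Submodule.mem_map]
    constructor
    · rintro ⟨y, -, rfl⟩
      obtain ⟨a, rfl⟩ := Submodule.Quotient.mk_surjective _ y
      exact ⟨g * a, Ideal.mul_mem_right _ _ (Ideal.mem_span_singleton_self g), rfl⟩
    · rintro ⟨a, ha, rfl⟩
      obtain ⟨c, rfl⟩ := Ideal.mem_span_singleton'.mp ha
      exact ⟨Submodule.Quotient.mk c, Submodule.mem_top, by
        rw [mul_comm]; rfl⟩
  unfold QuotSMulTop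
  exact (Submodule.quotEquivOfEq _ _ h1) ≪≫ₗ
    (Submodule.quotientQuotientEquivQuotientSup P (Ideal.span {g}))

end Groth.Agent.Lib.CartierMult84
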