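import Groth.Agent.Lib.OrdHtOne6
import Groth.Agent.Lib.IdealComap

/-!
# Effective Cartier divisors on a normal scheme are determined by their pullback along a proper
dominant morphism (helper5), part A: algebra

* `exists_mul_eq_of_ord_lt`: `ord_p a < ord_p b` gives `c ∉ p`, `x ∈ p` with `c * b = a * x`.
* `ord_eq_of_span_map_eq`: the local step.
* `span_eq_of_forall_ord_eq`.
-/

set_option autoImplicit false
universe u

namespace Groth.Agent.Lib.CartierPull5

open Groth.Agent.Lib.OrdHtOne6 IsDiscreteValuationRing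

variable {A : Type u} [CommRing A] [IsDomain A] [IsNoetherianRing A] [IsIntegrallyClosed A]

theorem exists_mul_eq_of_ord_lt {p : Ideal A} (hp : HtOne p) {a b : A}
    (h : ord p a < ord p b) : ∃ c ∉ p, ∃ x ∈ p, c * b = a * x := by
  haveI := hp.1
  haveI := hp.isDVR
  rw [ord_eq hp, ord_eq hp] at h
  set R := Localization.AtPrime p
  have hdvd : algebraMap A R a ∣ algebraMap A R b := (addVal_le_iff_dvd).mp h.le
  obtain ⟨y, hy⟩ := hdvd
  have hy0 : 0 < addVal R y := by
    by_contra hcon
    have h0 : addVal R y = 0 := by simpa using hcon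
    rw [hy, addVal_mul, h0, add_zero] at h
    exact lt_irrefl _ h
  have hymem : y ∈ IsLocalRing.maximalIdeal R := by
    rw [IsLocalRing.mem_maximalIdeal, mem_nonunits_iff]
    intro hu
    rw [← addVal_eq_zero_iff] at hu
    rw [hu] at hy0
    exact lt_irrefl _ hy0
  obtain ⟨x, s, hs⟩ := IsLocalization.exists_mk'_eq p.primeCompl y
  obtain ⟨c, hc⟩ := s
  subst hs
  rw [IsLocalization.AtPrime.mk'_mem_maximal_iff R p] at hymem
  refine ⟨c, hc, x, hymem, ?_⟩
  have hinj : Function.Injective (algebraMap A R) :=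
    IsLocalization.injective R p.primeCompl_le_nonZeroDivisors
  apply hinj
  rw [map_mul, map_mul, hy]
  have hspec : algebraMap A R c * IsLocalization.mk' R x ⟨c, hc⟩ = algebraMap A R x :=
    IsLocalization.mk'_spec' R x ⟨c, hc⟩
  rw [← hspec]
  ring

/-- One inequality of the local step. -/
theorem ord_le_of_span_map_le {p : Ideal A} (hp : HtOne p) {a b : A}
    {B : Type u} [CommRing B] (φ : A →+* B) (q : Ideal B) (hq : Ideal.comap φ q = p)
    (hb : φ b ∈ nonZeroDivisors B) (hab : Ideal.span {φ a} ≤ Ideal.span {φ b}) :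
    ord p b ≤ ord p a := by
  by_contra hlt
  rw [not_le] at hlt
  obtain ⟨c, hc, x, hx, hcx⟩ := exists_mul_eq_of_ord_lt hp hlt
  obtain ⟨u, hu⟩ : ∃ u, φ a = u * φ b := by
    have : φ a ∈ Ideal.span {φ b} := hab (Ideal.mem_span_singleton_self _)
    rw [Ideal.mem_span_singleton'] at this
    obtain ⟨u, hu⟩ := this
    exact ⟨u, hu.symm⟩
  have h1 : (φ c - u * φ x) * φ b = 0 := by
    have := congrArg φ hcx
    rw [map_mul, map_mul, hu] at this
    rw [sub_mul, this]
    ring
  have h2 : φ c - u * φ x = 0 := (mem_nonZeroDivisors_iff_right.mp hb) _ h1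
  have hxq : φ x ∈ q := by
    have : x ∈ Ideal.comap φ q := by rw [hq]; exact hx
    exact this
  have hcq : φ c ∈ q := by
    rw [sub_eq_zero] at h2
    rw [h2]
    exact q.mul_mem_left u hxq
  have : c ∈ Ideal.comap φ q := hcq
  rw [hq] at this
  exact hc this

/-- The local step: if `a` and `b` generate the same ideal of `B` and both are nonzerodivisors
there, then they have the same order at the prime `p = φ⁻¹ q`. -/
theorem ord_eq_of_span_map_eq {p : Ideal A} (hp : HtOne p) {a b : A}
    {B : Type u} [CommRing B] (φ : A →+* B) (q : Ideal B) (hq : Ideal.comap φ q = p)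
    (ha : φ a ∈ nonZeroDivisors B) (hb : φ b ∈ nonZeroDivisors B)
    (hab : Ideal.span {φ a} = Ideal.span {φ b}) : ord p a = ord p b :=
  le_antisymm (ord_le_of_span_map_le hp φ q hq ha hab.ge)
    (ord_le_of_span_map_le hp φ q hq hb hab.le)

theorem span_eq_of_forall_ord_eq {a b : A} (ha : a ≠ 0) (hb : b ≠ 0)
    (h : ∀ p, HtOne p → ord p a = ord p b) : Ideal.span {a} = Ideal.span {b} := by
  apply le_antisymm
  · rw [Ideal.span_singleton_le_span_singleton]
    exact dvd_of_forall_ord_le hb fun p hp _ => (h p hp).ge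
  · rw [Ideal.span_singleton_le_span_singleton]
    exact dvd_of_forall_ord_le ha fun p hp _ => (h p hp).le

end Groth.Agent.Lib.CartierPull5
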