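import Groth.Agent.Lib.CartierPull5A
import Groth.Prelude.Def_CInt

/-!
# Effective Cartier divisors on a normal scheme are determined by their pullback along a proper
dominant morphism (helper5), part B: geometry
-/

set_option autoImplicit false
universe u

open CategoryTheory AlgebraicGeometry TopologicalSpace

namespace Groth.Agent.Lib.CartierPull5

open Groth.Agent.Lib.OrdHtOne6

variable {S S' : Scheme.{u}}

/-- Sections over an affine open with domain of sections, on a scheme with integrally closed stalks,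
form an integrally closed domain. -/
theorem isIntegrallyClosed_sections (hX : ∀ x : S, IsIntegrallyClosed (S.presheaf.stalk x))
    {V : S.Opens} (hV : IsAffineOpen V) [IsDomain Γ(S, V)] : IsIntegrallyClosed Γ(S, V) := by
  have hmem : ∀ y : PrimeSpectrum Γ(S, V), hV.fromSpec y ∈ V := fun y ↦ (hV.isoSpec.inv y).2
  exact @IsIntegrallyClosed.of_isLocalization_maximal Γ(S, V) _
    (fun P hP ↦ S.presheaf.stalk (hV.fromSpec ⟨P, hP.isPrime⟩)) (fun P hP ↦ inferInstance)
    (fun P hP ↦ TopCat.Presheaf.algebra_section_stalk S.presheaf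
      ⟨hV.fromSpec ⟨P, hP.isPrime⟩, hmem _⟩)
    (fun P hP ↦ hV.isLocalization_stalk' ⟨P, hP.isPrime⟩ (hmem _)) _ (fun P hP ↦ hX _)

/-- A proper morphism with zero kernel is surjective. -/
theorem surjective_of_ker_eq_bot (f : S' ⟶ S) [IsProper f] (h : f.ker = ⊥) :
    Function.Surjective f.base := by
  have h1 : (f.ker.support : Set S) = closure (Set.range f.base) := by
    rw [Scheme.Hom.support_ker]
  rw [h, Scheme.IdealSheafData.support_bot] at h1
  have h2 : IsClosed (Set.range f.base) := f.isClosedMap.isClosed_range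
  rw [h2.closure_eq] at h1
  intro y
  have : y ∈ Set.range f.base := by rw [← h1]; trivial
  exact this

/-- Membership in a prime of the ring of sections of an affine open, via basic opens. -/
theorem mem_asIdeal_iff_notMem_basicOpen {W : S.Opens} (hW : IsAffineOpen W)
    (P : PrimeSpectrum Γ(S, W)) (x : Γ(S, W)) :
    x ∈ P.asIdeal ↔ hW.fromSpec P ∉ S.basicOpen x := by
  have h := hW.fromSpec_preimage_basicOpen x
  have h2 : hW.fromSpec P ∈ S.basicOpen x ↔ P ∈ PrimeSpectrum.basicOpen x := by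
    rw [← h]; rfl
  rw [h2, PrimeSpectrum.mem_basicOpen, not_not]

/-- Away from the support of a locally principal ideal sheaf, the generator is invertible. -/
theorem inf_le_basicOpen (E : S.IdealSheafData) (U : S.Opens)
    (hEU : (E.support : Set S) ⊆ (U : Set S)ᶜ) (W : S.affineOpens) (b : Γ(S, W.1))
    (hb : E.ideal W = Ideal.span {b}) : W.1 ⊓ U ≤ S.basicOpen b := by
  rintro t ⟨htW, htU⟩
  have hns : t ∉ E.support := fun hmem => hEU hmem htU
  rw [Scheme.IdealSheafData.mem_support_iff_of_mem (U := W) htW, Scheme.mem_zeroLocus_iff] at hns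
  push_neg at hns
  obtain ⟨g, hg, htg⟩ := hns
  rw [SetLike.mem_coe, hb, Ideal.mem_span_singleton'] at hg
  obtain ⟨r, rfl⟩ := hg
  rw [Scheme.basicOpen_mul] at htg
  exact htg.2

theorem res_res {X : Scheme.{u}} {U V W : X.Opens} (h1 : V ≤ U) (h2 : W ≤ V) (x : Γ(X, U)) :
    X.presheaf.map (homOfLE h2).op (X.presheaf.map (homOfLE h1).op x) =
      X.presheaf.map (homOfLE (h2.trans h1)).op x := by
  rw [← CommRingCat.comp_apply, ← Functor.map_comp]
  rfl

/-- The pullback of a section invertible on `W ⊓ U` is a nonzerodivisor when `f⁻¹ U` is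
schematically dense. -/
theorem appLE_mem_nonZeroDivisors (f : S' ⟶ S) (U : S.Opens)
    (hU' : CInt.IsSchematicallyDense (f ⁻¹ᵁ U)) (W : S.Opens) (W' : S'.Opens)
    (hle : W' ≤ f ⁻¹ᵁ W) (b : Γ(S, W)) (hb : W ⊓ U ≤ S.basicOpen b) :
    (f.appLE W W' hle).hom b ∈ nonZeroDivisors Γ(S', W') := by
  rw [mem_nonZeroDivisors_iff_right]
  intro c hc
  apply hU' W'
  rw [map_zero]
  -- `b'` is invertible on `W' ⊓ f⁻¹ U`
  have hle2 : W' ⊓ f ⁻¹ᵁ U ≤ S'.basicOpen ((f.appLE W W' hle).hom b) := by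
    erw [Scheme.basicOpen_appLE]
    rintro t ⟨htW', htU⟩
    exact ⟨htW', hb ⟨hle htW', htU⟩⟩
  have hunit : IsUnit (S'.presheaf.map (homOfLE (inf_le_left : W' ⊓ f ⁻¹ᵁ U ≤ W')).op
      ((f.appLE W W' hle).hom b)) := by
    have h1 := S'.toRingedSpace.isUnit_res_basicOpen ((f.appLE W W' hle).hom b)
    rw [← res_res (S'.basicOpen_le ((f.appLE W W' hle).hom b)) hle2]
    exact h1.map _
  have h3 : S'.presheaf.map (homOfLE (inf_le_left : W' ⊓ f ⁻¹ᵁ U ≤ W')).op c *
      S'.presheaf.map (homOfLE (inf_le_left : W' ⊓ f ⁻¹ᵁ U ≤ W')).op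
        ((f.appLE W W' hle).hom b) = 0 := by
    rw [← map_mul, hc, map_zero]
  exact hunit.mul_left_eq_zero.mp h3

/-- The main local statement: on an affine open `W` of `S` with `Γ(S, W)` a domain on which `D`
and `E` are generated by nonzero `a` and `b`, the two ideals agree. -/
theorem span_eq_of_comap_eq [IsLocallyNoetherian S]
    (hnorm : ∀ x : S, IsDomain (S.presheaf.stalk x) ∧ IsIntegrallyClosed (S.presheaf.stalk x))
    (f : S' ⟶ S) [IsProper f] (hdom : f.ker = ⊥) (U : S.Opens)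
    (hU' : CInt.IsSchematicallyDense (f ⁻¹ᵁ U)) (D E : S.IdealSheafData)
    (hDU : (D.support : Set S) ⊆ (U : Set S)ᶜ) (hEU : (E.support : Set S) ⊆ (U : Set S)ᶜ)
    (h : D.comap f = E.comap f) (W : S.affineOpens) [IsDomain Γ(S, W.1)] (a b : Γ(S, W.1))
    (ha0 : a ≠ 0) (hb0 : b ≠ 0) (hDa : D.ideal W = Ideal.span {a})
    (hEb : E.ideal W = Ideal.span {b}) : Ideal.span {a} = Ideal.span {b} := by
  haveI : IsNoetherianRing Γ(S, W.1) := IsLocallyNoetherian.component_noetherian W
  haveI : IsIntegrallyClosed Γ(S, W.1) :=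
    isIntegrallyClosed_sections (fun x => (hnorm x).2) W.2
  apply span_eq_of_forall_ord_eq ha0 hb0
  intro p hp
  haveI := hp.1
  let P : PrimeSpectrum Γ(S, W.1) := ⟨p, hp.1⟩
  have hsW : W.2.fromSpec P ∈ W.1 := (W.2.isoSpec.inv P).2
  obtain ⟨s', hs'⟩ := surjective_of_ker_eq_bot f hdom (W.2.fromSpec P)
  have hs'mem : s' ∈ ((f ⁻¹ᵁ W.1 : S'.Opens) : Set S') := by
    change f.base s' ∈ W.1
    rw [hs']
    exact hsW
  obtain ⟨_, ⟨W', hW', rfl⟩, hs'W', hle⟩ :=
    S'.isBasis_affineOpens.exists_subset_of_mem_open hs'mem (f ⁻¹ᵁ W.1).2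
  let Q : PrimeSpectrum Γ(S', W') := hW'.primeIdealOf ⟨s', hs'W'⟩
  have hQ : hW'.fromSpec Q = s' := hW'.fromSpec_primeIdealOf ⟨s', hs'W'⟩
  have hq : Ideal.comap (f.appLE W.1 W' hle).hom Q.asIdeal = p := by
    ext x
    rw [Ideal.mem_comap, mem_asIdeal_iff_notMem_basicOpen hW' Q, hQ]
    erw [Scheme.basicOpen_appLE]
    have hP : x ∈ p ↔ W.2.fromSpec P ∉ S.basicOpen x :=
      mem_asIdeal_iff_notMem_basicOpen W.2 P x
    rw [hP, ← hs']
    constructor
    · intro h1 h2
      exact h1 ⟨hs'W', h2⟩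
    · intro h1 h2
      exact h1 h2.2
  have hDc := Groth.Agent.Lib.IdealComap.ideal_comap D f W.1 W.2 W' hW' hle
  have hEc := Groth.Agent.Lib.IdealComap.ideal_comap E f W.1 W.2 W' hW' hle
  have hab : Ideal.span {(f.appLE W.1 W' hle).hom a} = Ideal.span {(f.appLE W.1 W' hle).hom b} := by
    have hDa' : D.ideal ⟨W.1, W.2⟩ = Ideal.span {a} := hDa
    have hEb' : E.ideal ⟨W.1, W.2⟩ = Ideal.span {b} := hEb
    rw [hDa', Ideal.map_span, Set.image_singleton] at hDc
    rw [hEb', Ideal.map_span, Set.image_singleton] at hEc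
    rw [← hDc, ← hEc, h]
  exact ord_eq_of_span_map_eq hp (f.appLE W.1 W' hle).hom Q.asIdeal hq
    (appLE_mem_nonZeroDivisors f U hU' W.1 W' hle a (inf_le_basicOpen D U hDU W a hDa))
    (appLE_mem_nonZeroDivisors f U hU' W.1 W' hle b (inf_le_basicOpen E U hEU W b hEb)) hab

end Groth.Agent.Lib.CartierPull5
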