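import Groth.Agent.Lib.DescendMor45

/-!
# Pushout squares of schemes from local data (helper24)

`isPushout_of_basis`: a commutative square of schemes `Z → X → P`, `Z → Y → P` is a pushout as soon
as `X ⊔ Y → P` is surjective and there is a family `𝓑` of opens of `P` such that over members of
`𝓑` the sections of `O_P` are the fibre product of the sections of `O_X` and `O_Y` over `O_Z`,
and `𝓑` satisfies the topological pushout property (`htop`).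
-/

set_option autoImplicit false
universe u

namespace Groth.Agent.Lib.SchemePushout24

open AlgebraicGeometry CategoryTheory CategoryTheory.Limits TopologicalSpace Opposite
open Groth.Agent.Lib.DescendMor45

/-- Two jointly surjective morphisms which are jointly injective on sections are jointly
epimorphic. -/
theorem hom_ext_of_jointly {T Y₁ Y₂ W : Scheme.{u}} (f₁ : Y₁ ⟶ T) (f₂ : Y₂ ⟶ T)
    (hs : ∀ t : T, t ∈ Set.range f₁ ∨ t ∈ Set.range f₂)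
    (hinj : ∀ (V : T.Opens) (s : Γ(T, V)), f₁.app V s = 0 → f₂.app V s = 0 → s = 0)
    (k₁ k₂ : T ⟶ W) (h₁ : f₁ ≫ k₁ = f₁ ≫ k₂) (h₂ : f₂ ≫ k₁ = f₂ ≫ k₂) : k₁ = k₂ := by
  have hbase : k₁.base = k₂.base := by
    ext t
    rcases hs t with ⟨y, rfl⟩ | ⟨y, rfl⟩
    · exact congr($h₁ y)
    · exact congr($h₂ y)
  refine Scheme.Hom.ext hbase ?_
  intro U
  have hmono : ∀ {R : CommRingCat.{u}} (x y : R ⟶ Γ(T, k₂ ⁻¹ᵁ U)),
      x ≫ f₁.app (k₂ ⁻¹ᵁ U) = y ≫ f₁.app (k₂ ⁻¹ᵁ U) →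
      x ≫ f₂.app (k₂ ⁻¹ᵁ U) = y ≫ f₂.app (k₂ ⁻¹ᵁ U) → x = y := by
    intro R x y hxy₁ hxy₂
    ext r
    rw [← sub_eq_zero]
    apply hinj (k₂ ⁻¹ᵁ U)
    · rw [map_sub, sub_eq_zero]; exact congr($(hxy₁).hom r)
    · rw [map_sub, sub_eq_zero]; exact congr($(hxy₂).hom r)
  have hid : ∀ {Y : Scheme.{u}} (V : Y.Opens) (i : op V ⟶ op V), Y.presheaf.map i = 𝟙 _ := by
    intro Y V i
    rw [Subsingleton.elim i (𝟙 _), Y.presheaf.map_id]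
  have aux : ∀ {Y : Scheme.{u}} (g : Y ⟶ T) (h : g ≫ k₁ = g ≫ k₂),
      (k₁.app U ≫ T.presheaf.map (eqToHom (by rw [hbase])).op) ≫ g.app (k₂ ⁻¹ᵁ U) =
        k₂.app U ≫ g.app (k₂ ⁻¹ᵁ U) := by
    intro Y g h
    have hU : g ⁻¹ᵁ (k₁ ⁻¹ᵁ U) = g ⁻¹ᵁ (k₂ ⁻¹ᵁ U) := by
      change (g ≫ k₁) ⁻¹ᵁ U = (g ≫ k₂) ⁻¹ᵁ U
      rw [h]
    have key : k₁.app U ≫ g.app (k₁ ⁻¹ᵁ U) =
        (k₂.app U ≫ g.app (k₂ ⁻¹ᵁ U)) ≫ Y.presheaf.map (eqToHom hU).op :=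
      Scheme.Hom.congr_app h U
    rw [Category.assoc, Scheme.Hom.naturality, reassoc_of% key, ← Functor.map_comp]
    rw [hid, Category.comp_id]
  apply hmono
  · exact aux f₁ h₁
  · exact aux f₂ h₂


section Main

variable {X Y Z P : Scheme.{u}} (i : Z ⟶ X) (j : Z ⟶ Y) (a : X ⟶ P) (b : Y ⟶ P)

/-- `hom_ext_of_jointly` over an open of the target. -/
theorem hom_ext_restrict
    (hsurj : ∀ t : P, t ∈ Set.range a ∨ t ∈ Set.range b)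
    (hinj : ∀ (V : P.Opens) (s : Γ(P, V)), a.app V s = 0 → b.app V s = 0 → s = 0)
    (T : P.Opens) {W : Scheme.{u}} (k₁ k₂ : T.toScheme ⟶ W)
    (h₁ : (a ∣_ T) ≫ k₁ = (a ∣_ T) ≫ k₂) (h₂ : (b ∣_ T) ≫ k₁ = (b ∣_ T) ≫ k₂) : k₁ = k₂ := by
  refine hom_ext_of_jointly (a ∣_ T) (b ∣_ T) ?_ ?_ k₁ k₂ h₁ h₂
  · rintro ⟨t, ht⟩
    rcases hsurj t with ⟨x, rfl⟩ | ⟨y, rfl⟩
    · left; exact ⟨⟨x, ht⟩, Subtype.ext (morphismRestrict_base_coe a T _)⟩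
    · right; exact ⟨⟨y, ht⟩, Subtype.ext (morphismRestrict_base_coe b T _)⟩
  · intro V s hs₁ hs₂
    have hiso : ∀ {Y' : Scheme.{u}} {V₁ V₂ : Y'.Opens} (e : V₁ = V₂) (x : Γ(Y', V₂)),
        Y'.presheaf.map (eqToHom e).op x = 0 → x = 0 := by
      intro Y' V₁ V₂ e x hx
      subst e
      simpa using hx
    rw [morphismRestrict_app] at hs₁ hs₂
    exact hinj (T.ι ''ᵁ V) s (hiso _ _ hs₁) (hiso _ _ hs₂)

/-- **Pushout squares from local data.** -/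
theorem isPushout_of_basis (w : i ≫ a = j ≫ b) (𝓑 : Set P.Opens)
    (hsurj : ∀ t : P, t ∈ Set.range a ∨ t ∈ Set.range b)
    (hinj : ∀ U ∈ 𝓑, ∀ s : Γ(P, U), a.app U s = 0 → b.app U s = 0 → s = 0)
    (hex : ∀ U ∈ 𝓑, ∀ (s : Γ(X, a ⁻¹ᵁ U)) (t : Γ(Y, b ⁻¹ᵁ U)),
        i.appLE (a ⁻¹ᵁ U) ((i ≫ a) ⁻¹ᵁ U) le_rfl s =
          j.appLE (b ⁻¹ᵁ U) ((i ≫ a) ⁻¹ᵁ U) (le_of_eq (by rw [w]; rfl)) t →
        ∃ u : Γ(P, U), a.app U u = s ∧ b.app U u = t)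
    (htop : ∀ (G : X.Opens) (H : Y.Opens), i ⁻¹ᵁ G = j ⁻¹ᵁ H → ∀ t : P,
        ((∃ x ∈ G, a x = t) ∨ (∃ y ∈ H, b y = t)) →
        ∃ U ∈ 𝓑, t ∈ U ∧ a ⁻¹ᵁ U ≤ G ∧ b ⁻¹ᵁ U ≤ H) :
    IsPushout i j a b := by
  -- `𝓑` is a basis
  have hbasis : ∀ (V : P.Opens) (t : P), t ∈ V → ∃ U ∈ 𝓑, t ∈ U ∧ U ≤ V := by
    intro V t ht
    have h0 : i ⁻¹ᵁ (a ⁻¹ᵁ V) = j ⁻¹ᵁ (b ⁻¹ᵁ V) := by
      change (i ≫ a) ⁻¹ᵁ V = (j ≫ b) ⁻¹ᵁ V
      rw [w]
    have h1 : (∃ x ∈ a ⁻¹ᵁ V, a x = t) ∨ (∃ y ∈ b ⁻¹ᵁ V, b y = t) := by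
      rcases hsurj t with ⟨x, rfl⟩ | ⟨y, rfl⟩
      · exact Or.inl ⟨x, ht, rfl⟩
      · exact Or.inr ⟨y, ht, rfl⟩
    obtain ⟨U, hU, htU, hUa, hUb⟩ := htop _ _ h0 t h1
    refine ⟨U, hU, htU, ?_⟩
    intro t' ht'
    rcases hsurj t' with ⟨x, rfl⟩ | ⟨y, rfl⟩
    · exact hUa ht'
    · exact hUb ht'
  -- injectivity on all opens
  have hinj' : ∀ (V : P.Opens) (s : Γ(P, V)), a.app V s = 0 → b.app V s = 0 → s = 0 := by
    intro V s hs₁ hs₂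
    refine P.IsSheaf.section_ext fun t ht => ?_
    obtain ⟨U, hU, htU, hUV⟩ := hbasis V t ht
    refine ⟨U, hUV, htU, ?_⟩
    rw [map_zero]
    apply hinj U hU
    · have := congr($(a.naturality (homOfLE hUV).op) s)
      simp only [CommRingCat.comp_apply] at this
      rw [this, hs₁, map_zero]
    · have := congr($(b.naturality (homOfLE hUV).op) s)
      simp only [CommRingCat.comp_apply] at this
      rw [this, hs₂, map_zero]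
  -- existence and uniqueness of the descended morphism
  have key : ∀ {W : Scheme.{u}} (kX : X ⟶ W) (kY : Y ⟶ W), i ≫ kX = j ≫ kY →
      ∃ κ : P ⟶ W, a ≫ κ = kX ∧ b ≫ κ = kY := by
    intro W kX kY hk
    -- local data
    have hloc : ∀ t : P, ∃ (W₀ : W.Opens) (U : P.Opens), IsAffineOpen W₀ ∧ U ∈ 𝓑 ∧ t ∈ U ∧
        a ⁻¹ᵁ U ≤ kX ⁻¹ᵁ W₀ ∧ b ⁻¹ᵁ U ≤ kY ⁻¹ᵁ W₀ := by
      intro t
      have h0 : ∀ W₀ : W.Opens, i ⁻¹ᵁ (kX ⁻¹ᵁ W₀) = j ⁻¹ᵁ (kY ⁻¹ᵁ W₀) := by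
        intro W₀
        change (i ≫ kX) ⁻¹ᵁ W₀ = (j ≫ kY) ⁻¹ᵁ W₀
        rw [hk]
      rcases hsurj t with ⟨x, rfl⟩ | ⟨y, rfl⟩
      · obtain ⟨_, ⟨W₀, hW₀, rfl⟩, hxW₀, -⟩ :=
          W.isBasis_affineOpens.exists_subset_of_mem_open (Set.mem_univ (kX x)) isOpen_univ
        obtain ⟨U, hU, htU, hUa, hUb⟩ := htop _ _ (h0 W₀) (a x) (Or.inl ⟨x, hxW₀, rfl⟩)
        exact ⟨W₀, U, hW₀, hU, htU, hUa, hUb⟩
      · obtain ⟨_, ⟨W₀, hW₀, rfl⟩, hyW₀, -⟩ :=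
          W.isBasis_affineOpens.exists_subset_of_mem_open (Set.mem_univ (kY y)) isOpen_univ
        obtain ⟨U, hU, htU, hUa, hUb⟩ := htop _ _ (h0 W₀) (b y) (Or.inr ⟨y, hyW₀, rfl⟩)
        exact ⟨W₀, U, hW₀, hU, htU, hUa, hUb⟩
    choose W₀ U hW₀ hU𝓑 htU hUa hUb using hloc
    -- ring maps
    have hφ : ∀ t : P, ∃ φ : Γ(W, W₀ t) →+* Γ(P, U t),
        (a.app (U t)).hom.comp φ = (kX.appLE (W₀ t) (a ⁻¹ᵁ U t) (hUa t)).hom ∧
        (b.app (U t)).hom.comp φ = (kY.appLE (W₀ t) (b ⁻¹ᵁ U t) (hUb t)).hom := by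
      intro t
      let ι : Γ(P, U t) →+* Γ(X, a ⁻¹ᵁ U t) × Γ(Y, b ⁻¹ᵁ U t) :=
        RingHom.prod (a.app (U t)).hom (b.app (U t)).hom
      let ψ : Γ(W, W₀ t) →+* Γ(X, a ⁻¹ᵁ U t) × Γ(Y, b ⁻¹ᵁ U t) :=
        RingHom.prod (kX.appLE (W₀ t) (a ⁻¹ᵁ U t) (hUa t)).hom
          (kY.appLE (W₀ t) (b ⁻¹ᵁ U t) (hUb t)).hom
      have hι : Function.Injective ι := by
        rw [injective_iff_map_eq_zero]
        intro s hs
        have h1 : (a.app (U t)).hom s = 0 := congrArg Prod.fst hs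
        have h2 : (b.app (U t)).hom s = 0 := congrArg Prod.snd hs
        exact hinj (U t) (hU𝓑 t) s h1 h2
      have hr : ∀ r, ψ r ∈ Set.range ι := by
        intro r
        obtain ⟨u, hu₁, hu₂⟩ := hex (U t) (hU𝓑 t)
          (kX.appLE (W₀ t) (a ⁻¹ᵁ U t) (hUa t) r) (kY.appLE (W₀ t) (b ⁻¹ᵁ U t) (hUb t) r) (by
            rw [← CommRingCat.comp_apply, ← CommRingCat.comp_apply,
              Scheme.Hom.appLE_comp_appLE, Scheme.Hom.appLE_comp_appLE]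
            simp only [hk])
        exact ⟨u, Prod.ext hu₁ hu₂⟩
      obtain ⟨φ, hφ⟩ := exists_ringHom_of_range_subset ι hι ψ hr
      refine ⟨φ, ?_, ?_⟩
      · ext r
        exact congrArg Prod.fst (congrArg (fun f => f r) hφ)
      · ext r
        exact congrArg Prod.snd (congrArg (fun f => f r) hφ)
    choose φ hφa hφb using hφ
    let κ₀ : ∀ t : P, (U t).toScheme ⟶ W := fun t =>
      (U t).toSpecΓ ≫ Spec.map (CommRingCat.ofHom (φ t)) ≫ (hW₀ t).fromSpec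
    have ha : ∀ t, (a ∣_ U t) ≫ κ₀ t = (a ⁻¹ᵁ U t).ι ≫ kX := by
      intro t
      dsimp only [κ₀]
      rw [← Scheme.Opens.toSpecΓ_naturality_assoc, ← Spec.map_comp_assoc]
      have h1 : CommRingCat.ofHom (φ t) ≫ a.app (U t) =
          kX.appLE (W₀ t) (a ⁻¹ᵁ U t) (hUa t) := by
        ext s
        exact congrArg (fun ψ => ψ s) (hφa t)
      rw [h1, Scheme.Opens.toSpecΓ_SpecMap_appLE_assoc, IsAffineOpen.toSpecΓ_fromSpec,
        Scheme.Hom.resLE_comp_ι]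
    have hb : ∀ t, (b ∣_ U t) ≫ κ₀ t = (b ⁻¹ᵁ U t).ι ≫ kY := by
      intro t
      dsimp only [κ₀]
      rw [← Scheme.Opens.toSpecΓ_naturality_assoc, ← Spec.map_comp_assoc]
      have h1 : CommRingCat.ofHom (φ t) ≫ b.app (U t) =
          kY.appLE (W₀ t) (b ⁻¹ᵁ U t) (hUb t) := by
        ext s
        exact congrArg (fun ψ => ψ s) (hφb t)
      rw [h1, Scheme.Opens.toSpecΓ_SpecMap_appLE_assoc, IsAffineOpen.toSpecΓ_fromSpec,
        Scheme.Hom.resLE_comp_ι]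
    have hcover : TopologicalSpace.IsOpenCover U := by
      rw [TopologicalSpace.IsOpenCover, eq_top_iff]
      intro t _
      exact TopologicalSpace.Opens.mem_iSup.mpr ⟨t, htU t⟩
    have hcompat : ∀ t t' : P,
        P.homOfLE (inf_le_left : U t ⊓ U t' ≤ U t) ≫ κ₀ t =
          P.homOfLE (inf_le_right : U t ⊓ U t' ≤ U t') ≫ κ₀ t' := by
      intro t t'
      apply hom_ext_restrict a b hsurj hinj' (U t ⊓ U t')
      · rw [morphismRestrict_homOfLE_assoc, morphismRestrict_homOfLE_assoc, ha, ha,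
          Scheme.homOfLE_ι_assoc, Scheme.homOfLE_ι_assoc]
      · rw [morphismRestrict_homOfLE_assoc, morphismRestrict_homOfLE_assoc, hb, hb,
          Scheme.homOfLE_ι_assoc, Scheme.homOfLE_ι_assoc]
    obtain ⟨κ, hκ⟩ := exists_glue_opens U hcover κ₀ hcompat
    refine ⟨κ, ?_, ?_⟩
    · apply Scheme.hom_ext_of_forall
      intro x
      refine ⟨a ⁻¹ᵁ U (a x), htU (a x), ?_⟩
      rw [← morphismRestrict_ι_assoc, hκ, ha]
    · apply Scheme.hom_ext_of_forall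
      intro y
      refine ⟨b ⁻¹ᵁ U (b y), htU (b y), ?_⟩
      rw [← morphismRestrict_ι_assoc, hκ, hb]
  refine ⟨⟨w⟩, ⟨PushoutCocone.IsColimit.mk _
    (fun s => (key s.inl s.inr s.condition).choose)
    (fun s => (key s.inl s.inr s.condition).choose_spec.1)
    (fun s => (key s.inl s.inr s.condition).choose_spec.2) ?_⟩⟩
  intro s m hm₁ hm₂
  apply hom_ext_of_jointly a b hsurj hinj'
  · rw [hm₁, (key s.inl s.inr s.condition).choose_spec.1]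
  · rw [hm₂, (key s.inl s.inr s.condition).choose_spec.2]

end Main

end Groth.Agent.Lib.SchemePushout24
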