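import Groth.Agent.Lib.RingFibreSq24
import Groth.Agent.Lib.SchemePushout24

/-!
# Ferrand pushouts I: good squares and their restriction to opens (helper24)

`Good i j a b 𝓑`: a commutative square of schemes `Z → X → P`, `Z → Y → P` which is jointly
surjective, whose sections over the members of `𝓑` are fibre squares of rings and which has the
topological pushout property with respect to `𝓑`.  Such squares are pushouts of schemes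
(`Good.isPushout`), the opens of `P` correspond to compatible pairs of opens of `X` and `Y`
(`Good.exists_opens`), and good squares restrict to opens (`Good.restrict`).
-/

set_option autoImplicit false
universe u

namespace Groth.Agent.Lib.Ferrand24

open AlgebraicGeometry CategoryTheory CategoryTheory.Limits TopologicalSpace Opposite
open Groth.Agent.Lib.RingFibreSq24 Groth.Agent.Lib.SchemePushout24

/-- transport of a fibre square of rings along bijections -/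
theorem isFibreSq_of_bijective {A A' B C A₂ A'₂ B₂ C₂ : Type*} [CommRing A] [CommRing A']
    [CommRing B] [CommRing C] [CommRing A₂] [CommRing A'₂] [CommRing B₂] [CommRing C₂]
    {π₁ : C →+* B} {π₂ : C →+* A'} {q : B →+* A} {p : A' →+* A} (h : IsFibreSq π₁ π₂ q p)
    {π₁' : C₂ →+* B₂} {π₂' : C₂ →+* A'₂} {q' : B₂ →+* A₂} {p' : A'₂ →+* A₂}
    (fC : C →+* C₂) (fB : B →+* B₂) (fA' : A' →+* A'₂) (fA : A →+* A₂)
    (hC : Function.Bijective fC) (hB : Function.Bijective fB) (hA' : Function.Bijective fA')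
    (hA : Function.Injective fA)
    (e₁ : ∀ c, π₁' (fC c) = fB (π₁ c)) (e₂ : ∀ c, π₂' (fC c) = fA' (π₂ c))
    (eq : ∀ b, q' (fB b) = fA (q b)) (ep : ∀ a, p' (fA' a) = fA (p a)) :
    IsFibreSq π₁' π₂' q' p' := by
  refine ⟨?_, ?_, ?_⟩
  · intro c'
    obtain ⟨c, rfl⟩ := hC.2 c'
    rw [e₁, e₂, eq, ep, h.comm]
  · intro c' h₁ h₂
    obtain ⟨c, rfl⟩ := hC.2 c'
    rw [e₁] at h₁
    rw [e₂] at h₂
    have h₁' : π₁ c = 0 := hB.1 (by rw [h₁, map_zero])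
    have h₂' : π₂ c = 0 := hA'.1 (by rw [h₂, map_zero])
    rw [h.inj c h₁' h₂', map_zero]
  · intro b' a' hba
    obtain ⟨b, rfl⟩ := hB.2 b'
    obtain ⟨a, rfl⟩ := hA'.2 a'
    rw [eq, ep] at hba
    obtain ⟨c, hc₁, hc₂⟩ := h.surj b a (hA hba)
    exact ⟨fC c, by rw [e₁, hc₁], by rw [e₂, hc₂]⟩

section AppLE

/-- compatibility of `appLE` with a commutative square of schemes -/
theorem appLE_sq {A B C D : Scheme.{u}} {f : A ⟶ B} {g : B ⟶ D} {f' : A ⟶ C} {g' : C ⟶ D}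
    (w : f ≫ g = f' ≫ g') (UD : D.Opens) (UB : B.Opens) (UC : C.Opens) (UA : A.Opens)
    (h₁ : UB ≤ g ⁻¹ᵁ UD) (h₂ : UA ≤ f ⁻¹ᵁ UB) (h₃ : UC ≤ g' ⁻¹ᵁ UD) (h₄ : UA ≤ f' ⁻¹ᵁ UC)
    (s : Γ(D, UD)) :
    (f.appLE UB UA h₂).hom ((g.appLE UD UB h₁).hom s) =
      (f'.appLE UC UA h₄).hom ((g'.appLE UD UC h₃).hom s) := by
  rw [← CommRingCat.comp_apply, ← CommRingCat.comp_apply, Scheme.Hom.appLE_comp_appLE,
    Scheme.Hom.appLE_comp_appLE]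
  simp only [w]

theorem bijective_appLE {X' X : Scheme.{u}} (u : X' ⟶ X) [IsOpenImmersion u] (V : X.Opens)
    (V' : X'.Opens) (hV : V ≤ u.opensRange) (e : V' = u ⁻¹ᵁ V) :
    Function.Bijective (u.appLE V V' e.le).hom := by
  subst e
  rw [← Scheme.Hom.app_eq_appLE]
  have := u.isIso_app V hV
  exact (ConcreteCategory.isIso_iff_bijective (u.app V)).mp this

end AppLE

/-- A good square of schemes (with respect to a family `𝓑` of opens of the corner `P`). -/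
structure Good {X Y Z P : Scheme.{u}} (i : Z ⟶ X) (j : Z ⟶ Y) (a : X ⟶ P) (b : Y ⟶ P)
    (𝓑 : Set P.Opens) : Prop where
  w : i ≫ a = j ≫ b
  surj : ∀ t : P, t ∈ Set.range a ∨ t ∈ Set.range b
  sq : ∀ U ∈ 𝓑, ∀ (h : i ⁻¹ᵁ a ⁻¹ᵁ U ≤ j ⁻¹ᵁ b ⁻¹ᵁ U),
    IsFibreSq (b.app U).hom (a.app U).hom (j.appLE (b ⁻¹ᵁ U) (i ⁻¹ᵁ a ⁻¹ᵁ U) h).hom
      (i.app (a ⁻¹ᵁ U)).hom
  top : ∀ (G : X.Opens) (H : Y.Opens), i ⁻¹ᵁ G = j ⁻¹ᵁ H → ∀ t : P,
    ((∃ x ∈ G, a x = t) ∨ (∃ y ∈ H, b y = t)) →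
      ∃ U ∈ 𝓑, t ∈ U ∧ a ⁻¹ᵁ U ≤ G ∧ b ⁻¹ᵁ U ≤ H

namespace Good

variable {X Y Z P : Scheme.{u}} {i : Z ⟶ X} {j : Z ⟶ Y} {a : X ⟶ P} {b : Y ⟶ P}
  {𝓑 : Set P.Opens}

theorem preimage_le (hG : Good i j a b 𝓑) (U : P.Opens) : i ⁻¹ᵁ a ⁻¹ᵁ U ≤ j ⁻¹ᵁ b ⁻¹ᵁ U := by
  change (i ≫ a) ⁻¹ᵁ U ≤ (j ≫ b) ⁻¹ᵁ U
  rw [hG.w]

/-- A good square is a pushout square of schemes. -/
theorem isPushout (hG : Good i j a b 𝓑) : IsPushout i j a b := by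
  refine isPushout_of_basis i j a b hG.w 𝓑 hG.surj ?_ ?_ hG.top
  · intro U hU s hs₁ hs₂
    exact (hG.sq U hU (hG.preimage_le U)).inj s hs₂ hs₁
  · intro U hU s t hst
    have hst' : (i.app (a ⁻¹ᵁ U)).hom s =
        (j.appLE (b ⁻¹ᵁ U) (i ⁻¹ᵁ a ⁻¹ᵁ U) (hG.preimage_le U)).hom t := by
      rw [Scheme.Hom.app_eq_appLE]
      exact hst
    obtain ⟨u, hu₁, hu₂⟩ := (hG.sq U hU (hG.preimage_le U)).surj t s hst'.symm
    exact ⟨u, hu₂, hu₁⟩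

/-- Compatible pairs of opens of `X` and `Y` come from opens of `P`. -/
theorem exists_opens (hG : Good i j a b 𝓑) (G : X.Opens) (H : Y.Opens) (h : i ⁻¹ᵁ G = j ⁻¹ᵁ H) :
    ∃ W : P.Opens, a ⁻¹ᵁ W = G ∧ b ⁻¹ᵁ W = H := by
  refine ⟨⨆ U : {U : P.Opens // U ∈ 𝓑 ∧ a ⁻¹ᵁ U ≤ G ∧ b ⁻¹ᵁ U ≤ H}, U.1, ?_, ?_⟩
  · apply le_antisymm
    · intro x hx
      obtain ⟨U, hxU⟩ := Opens.mem_iSup.mp hx
      exact U.2.2.1 hxU
    · intro x hx
      obtain ⟨U, hU, htU, hUa, hUb⟩ := hG.top G H h (a x) (Or.inl ⟨x, hx, rfl⟩)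
      exact Opens.mem_iSup.mpr ⟨⟨U, hU, hUa, hUb⟩, htU⟩
  · apply le_antisymm
    · intro y hy
      obtain ⟨U, hyU⟩ := Opens.mem_iSup.mp hy
      exact U.2.2.2 hyU
    · intro y hy
      obtain ⟨U, hU, htU, hUa, hUb⟩ := hG.top G H h (b y) (Or.inr ⟨y, hy, rfl⟩)
      exact Opens.mem_iSup.mpr ⟨⟨U, hU, hUa, hUb⟩, htU⟩

/-- Good squares restrict along open immersions. -/
theorem restrict {X' Y' Z' P' : Scheme.{u}} (hG : Good i j a b 𝓑)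
    (uX : X' ⟶ X) (uY : Y' ⟶ Y) (uZ : Z' ⟶ Z) (uP : P' ⟶ P)
    [IsOpenImmersion uX] [IsOpenImmersion uY] [IsOpenImmersion uZ] [IsOpenImmersion uP]
    {i' : Z' ⟶ X'} {j' : Z' ⟶ Y'} {a' : X' ⟶ P'} {b' : Y' ⟶ P'}
    (ei : i' ≫ uX = uZ ≫ i) (ej : j' ≫ uY = uZ ≫ j) (ea : a' ≫ uP = uX ≫ a)
    (eb : b' ≫ uP = uY ≫ b)
    (hX : ∀ x : X, a x ∈ Set.range uP → x ∈ Set.range uX)
    (hY : ∀ y : Y, b y ∈ Set.range uP → y ∈ Set.range uY)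
    (hZ : ∀ z : Z, i z ∈ Set.range uX → z ∈ Set.range uZ) :
    Good i' j' a' b' {U' | ∃ B ∈ 𝓑, B ≤ uP.opensRange ∧ U' = uP ⁻¹ᵁ B} := by
  have injX : Function.Injective uX := uX.isOpenEmbedding.injective
  have injY : Function.Injective uY := uY.isOpenEmbedding.injective
  have injZ : Function.Injective uZ := uZ.isOpenEmbedding.injective
  have injP : Function.Injective uP := uP.isOpenEmbedding.injective
  have hei : ∀ z, uX (i' z) = i (uZ z) := fun z => congr($ei z)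
  have hej : ∀ z, uY (j' z) = j (uZ z) := fun z => congr($ej z)
  have hea : ∀ x, uP (a' x) = a (uX x) := fun x => congr($ea x)
  have heb : ∀ y, uP (b' y) = b (uY y) := fun y => congr($eb y)
  have hw : ∀ z, a (i z) = b (j z) := fun z => congr($(hG.w) z)
  have w' : i' ≫ a' = j' ≫ b' := by
    rw [← cancel_mono uP, Category.assoc, Category.assoc, ea, eb, reassoc_of% ei,
      reassoc_of% ej, hG.w]
  have hZ' : ∀ z : Z, j z ∈ Set.range uY → z ∈ Set.range uZ := by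
    intro z ⟨y', hy'⟩
    apply hZ
    apply hX
    rw [hw, ← hy', ← heb]
    exact ⟨_, rfl⟩
  refine ⟨w', ?_, ?_, ?_⟩
  · -- joint surjectivity
    intro t'
    rcases hG.surj (uP t') with ⟨x, hx⟩ | ⟨y, hy⟩
    · obtain ⟨x', rfl⟩ := hX x (by rw [hx]; exact ⟨t', rfl⟩)
      exact Or.inl ⟨x', injP (by rw [hea, hx])⟩
    · obtain ⟨y', rfl⟩ := hY y (by rw [hy]; exact ⟨t', rfl⟩)
      exact Or.inr ⟨y', injP (by rw [heb, hy])⟩
  · -- sections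
    rintro _ ⟨B, hB, hBr, rfl⟩ h
    have hXr : a ⁻¹ᵁ B ≤ uX.opensRange := fun x hx => hX x (hBr hx)
    have hYr : b ⁻¹ᵁ B ≤ uY.opensRange := fun y hy => hY y (hBr hy)
    have hZr : i ⁻¹ᵁ a ⁻¹ᵁ B ≤ uZ.opensRange := fun z hz => hZ z (hXr hz)
    have eX : a' ⁻¹ᵁ uP ⁻¹ᵁ B = uX ⁻¹ᵁ a ⁻¹ᵁ B := by
      rw [← Scheme.Hom.comp_preimage, ← Scheme.Hom.comp_preimage, ea]
    have eY : b' ⁻¹ᵁ uP ⁻¹ᵁ B = uY ⁻¹ᵁ b ⁻¹ᵁ B := by
      rw [← Scheme.Hom.comp_preimage, ← Scheme.Hom.comp_preimage, eb]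
    have eZ : i' ⁻¹ᵁ a' ⁻¹ᵁ uP ⁻¹ᵁ B = uZ ⁻¹ᵁ i ⁻¹ᵁ a ⁻¹ᵁ B := by
      rw [eX, ← Scheme.Hom.comp_preimage, ← Scheme.Hom.comp_preimage, ei]
      rfl
    refine isFibreSq_of_bijective (hG.sq B hB (hG.preimage_le B))
      (uP.app B).hom (uY.appLE (b ⁻¹ᵁ B) (b' ⁻¹ᵁ uP ⁻¹ᵁ B) eY.le).hom
      (uX.appLE (a ⁻¹ᵁ B) (a' ⁻¹ᵁ uP ⁻¹ᵁ B) eX.le).hom
      (uZ.appLE (i ⁻¹ᵁ a ⁻¹ᵁ B) (i' ⁻¹ᵁ a' ⁻¹ᵁ uP ⁻¹ᵁ B) eZ.le).hom
      ((ConcreteCategory.isIso_iff_bijective (uP.app B)).mp (uP.isIso_app B hBr))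
      (bijective_appLE uY _ _ hYr eY) (bijective_appLE uX _ _ hXr eX)
      (bijective_appLE uZ _ _ hZr eZ).1 ?_ ?_ ?_ ?_
    · intro c
      rw [Scheme.Hom.app_eq_appLE, Scheme.Hom.app_eq_appLE, Scheme.Hom.app_eq_appLE]
      exact appLE_sq eb B _ _ _ _ _ _ _ c
    · intro c
      rw [Scheme.Hom.app_eq_appLE, Scheme.Hom.app_eq_appLE, Scheme.Hom.app_eq_appLE]
      exact appLE_sq ea B _ _ _ _ _ _ _ c
    · intro s
      exact appLE_sq ej _ _ _ _ _ _ _ _ s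
    · intro s
      rw [Scheme.Hom.app_eq_appLE, Scheme.Hom.app_eq_appLE]
      exact appLE_sq ei _ _ _ _ _ _ _ _ s
  · -- topology
    intro G' H' hGH' t' ht'
    have hGH : i ⁻¹ᵁ (uX ''ᵁ G') = j ⁻¹ᵁ (uY ''ᵁ H') := by
      ext z
      constructor
      · rintro ⟨x', hx'G, hx'⟩
        obtain ⟨z', rfl⟩ := hZ z ⟨x', hx'⟩
        have e1 : i' z' = x' := injX ((hei z').trans hx'.symm)
        have e2 : z' ∈ j' ⁻¹ᵁ H' := by
          rw [← hGH']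
          show i' z' ∈ G'
          rw [e1]; exact hx'G
        exact ⟨j' z', e2, hej z'⟩
      · rintro ⟨y', hy'H, hy'⟩
        obtain ⟨z', rfl⟩ := hZ' z ⟨y', hy'⟩
        have e1 : j' z' = y' := injY ((hej z').trans hy'.symm)
        have e2 : z' ∈ i' ⁻¹ᵁ G' := by
          rw [hGH']
          show j' z' ∈ H'
          rw [e1]; exact hy'H
        exact ⟨i' z', e2, hei z'⟩
    have ht : (∃ x ∈ uX ''ᵁ G', a x = uP t') ∨ (∃ y ∈ uY ''ᵁ H', b y = uP t') := by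
      rcases ht' with ⟨x', hx', rfl⟩ | ⟨y', hy', rfl⟩
      · exact Or.inl ⟨uX x', ⟨x', hx', rfl⟩, (hea x').symm⟩
      · exact Or.inr ⟨uY y', ⟨y', hy', rfl⟩, (heb y').symm⟩
    obtain ⟨B, hB, htB, hBa, hBb⟩ := hG.top _ _ hGH (uP t') ht
    have hBr : B ≤ uP.opensRange := by
      intro t htB'
      rcases hG.surj t with ⟨x, rfl⟩ | ⟨y, rfl⟩
      · obtain ⟨x', -, rfl⟩ := hBa htB'
        exact ⟨a' x', hea x'⟩
      · obtain ⟨y', -, rfl⟩ := hBb htB'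
        exact ⟨b' y', heb y'⟩
    refine ⟨uP ⁻¹ᵁ B, ⟨B, hB, hBr, rfl⟩, htB, ?_, ?_⟩
    · intro x' hx'
      have : uX x' ∈ a ⁻¹ᵁ B := by
        show a (uX x') ∈ B
        rw [← hea]; exact hx'
      obtain ⟨x'', hx''G, hx''⟩ := hBa this
      rwa [← injX hx'']
    · intro y' hy'
      have : uY y' ∈ b ⁻¹ᵁ B := by
        show b (uY y') ∈ B
        rw [← heb]; exact hy'
      obtain ⟨y'', hy''H, hy''⟩ := hBb this
      rwa [← injY hy'']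

end Good

end Groth.Agent.Lib.Ferrand24
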