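import Mathlib

/-!
# Fibre squares of commutative rings (helper24)

`IsFibreSq π₁ π₂ q p` : the square `C → B → A`, `C → A' → A` exhibits `C` as `B ×_A A'`
(element-wise form).  We prove: localisation away from an element (`away`), the prime spectrum of
`C` is covered by those of `B` and `A'` (`range_comap`), the topological pushout property in the
basic-open form (`exists_basicOpen`), the categorical pullback of `CommRingCat` is a fibre square
(`isFibreSq_pullback`) and `R/(I ⊓ J) = R/I ×_{R/(I ⊔ J)} R/J` (`isFibreSq_quotient`).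
-/

set_option autoImplicit false
universe u

namespace Groth.Agent.Lib.RingFibreSq24

open PrimeSpectrum

/-- `C = B ×_A A'` in element-wise form. -/
structure IsFibreSq {A A' B C : Type*} [CommRing A] [CommRing A'] [CommRing B] [CommRing C]
    (π₁ : C →+* B) (π₂ : C →+* A') (q : B →+* A) (p : A' →+* A) : Prop where
  comm : ∀ c, q (π₁ c) = p (π₂ c)
  inj : ∀ c, π₁ c = 0 → π₂ c = 0 → c = 0
  surj : ∀ b a', q b = p a' → ∃ c, π₁ c = b ∧ π₂ c = a'

namespace IsFibreSq

variable {A A' B C : Type*} [CommRing A] [CommRing A'] [CommRing B] [CommRing C]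
  {π₁ : C →+* B} {π₂ : C →+* A'} {q : B →+* A} {p : A' →+* A}

lemma ext (h : IsFibreSq π₁ π₂ q p) {c c' : C} (h₁ : π₁ c = π₁ c') (h₂ : π₂ c = π₂ c') : c = c' := by
  rw [← sub_eq_zero]
  apply h.inj <;> simp [h₁, h₂]

lemma surjective_fst (h : IsFibreSq π₁ π₂ q p) (hp : Function.Surjective p) :
    Function.Surjective π₁ := by
  intro b
  obtain ⟨a', ha'⟩ := hp (q b)
  obtain ⟨c, hc, -⟩ := h.surj b a' ha'.symm
  exact ⟨c, hc⟩

/-- Localisation away from `c` of a fibre square is a fibre square. -/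
theorem away (h : IsFibreSq π₁ π₂ q p) (c : C)
    {Cc Bb Aa' Aa : Type*} [CommRing Cc] [CommRing Bb] [CommRing Aa'] [CommRing Aa]
    [Algebra C Cc] [Algebra B Bb] [Algebra A' Aa'] [Algebra A Aa]
    [IsLocalization.Away c Cc] [IsLocalization.Away (π₁ c) Bb]
    [IsLocalization.Away (π₂ c) Aa'] [IsLocalization.Away (p (π₂ c)) Aa]
    (π₁' : Cc →+* Bb) (π₂' : Cc →+* Aa') (q' : Bb →+* Aa) (p' : Aa' →+* Aa)
    (h₁ : ∀ x, π₁' (algebraMap C Cc x) = algebraMap B Bb (π₁ x))
    (h₂ : ∀ x, π₂' (algebraMap C Cc x) = algebraMap A' Aa' (π₂ x))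
    (hq : ∀ x, q' (algebraMap B Bb x) = algebraMap A Aa (q x))
    (hp : ∀ x, p' (algebraMap A' Aa' x) = algebraMap A Aa (p x)) :
    IsFibreSq π₁' π₂' q' p' := by
  have hunitC : ∀ n : ℕ, IsUnit (algebraMap C Cc (c ^ n)) := fun n =>
    IsLocalization.map_units Cc (⟨c ^ n, n, rfl⟩ : Submonoid.powers c)
  have hunitB : ∀ n : ℕ, IsUnit (algebraMap B Bb (π₁ c ^ n)) := fun n =>
    IsLocalization.map_units Bb (⟨π₁ c ^ n, n, rfl⟩ : Submonoid.powers (π₁ c))
  have hunitA' : ∀ n : ℕ, IsUnit (algebraMap A' Aa' (π₂ c ^ n)) := fun n =>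
    IsLocalization.map_units Aa' (⟨π₂ c ^ n, n, rfl⟩ : Submonoid.powers (π₂ c))
  refine ⟨?_, ?_, ?_⟩
  · -- commutativity
    have : (q'.comp π₁') = (p'.comp π₂') := by
      apply IsLocalization.ringHom_ext (Submonoid.powers c)
      ext x
      simp only [RingHom.comp_apply, h₁, h₂, hq, hp, h.comm]
    intro x
    exact congrArg (fun f => f x) this
  · -- injectivity
    intro x hx₁ hx₂
    obtain ⟨⟨c₀, ⟨_, n, rfl⟩⟩, hx⟩ := IsLocalization.surj (Submonoid.powers c) x
    simp only at hx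
    have e₁ : algebraMap B Bb (π₁ c₀) = 0 := by
      rw [← h₁, ← hx, map_mul, hx₁, zero_mul]
    have e₂ : algebraMap A' Aa' (π₂ c₀) = 0 := by
      rw [← h₂, ← hx, map_mul, hx₂, zero_mul]
    obtain ⟨⟨_, m, rfl⟩, hm⟩ := (IsLocalization.map_eq_zero_iff (Submonoid.powers (π₁ c)) Bb _).mp e₁
    obtain ⟨⟨_, m', rfl⟩, hm'⟩ :=
      (IsLocalization.map_eq_zero_iff (Submonoid.powers (π₂ c)) Aa' _).mp e₂
    simp only at hm hm'
    have hz : c ^ (m + m') * c₀ = 0 := by
      apply h.inj
      · rw [map_mul, map_pow]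
        linear_combination (π₁ c ^ m') * hm
      · rw [map_mul, map_pow]
        linear_combination (π₂ c ^ m) * hm'
    have : algebraMap C Cc c₀ = 0 := by
      have := congrArg (algebraMap C Cc) hz
      rw [map_mul, map_zero] at this
      exact (hunitC _).mul_right_eq_zero.mp this
    rw [this] at hx
    exact (hunitC n).mul_left_eq_zero.mp hx
  · -- surjectivity
    intro s t hst
    obtain ⟨⟨β, ⟨_, n, rfl⟩⟩, hs⟩ := IsLocalization.surj (Submonoid.powers (π₁ c)) s
    obtain ⟨⟨α, ⟨_, k, rfl⟩⟩, ht⟩ := IsLocalization.surj (Submonoid.powers (π₂ c)) t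
    simp only at hs ht
    -- common exponent
    have hs' : s * algebraMap B Bb (π₁ c ^ (n + k)) = algebraMap B Bb (β * π₁ c ^ k) := by
      rw [pow_add, map_mul, map_mul]
      linear_combination (algebraMap B Bb (π₁ c ^ k)) * hs
    have ht' : t * algebraMap A' Aa' (π₂ c ^ (n + k)) = algebraMap A' Aa' (α * π₂ c ^ n) := by
      rw [pow_add, map_mul, map_mul]
      linear_combination (algebraMap A' Aa' (π₂ c ^ n)) * ht
    have hA : algebraMap A Aa (q (β * π₁ c ^ k)) = algebraMap A Aa (p (α * π₂ c ^ n)) := by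
      have e1 : q' s * algebraMap A Aa (q (π₁ c)) ^ (n + k) = algebraMap A Aa (q (β * π₁ c ^ k)) := by
        have := congrArg q' hs'
        simpa only [map_mul, map_pow, hq] using this
      have e2 : p' t * algebraMap A Aa (p (π₂ c)) ^ (n + k) =
          algebraMap A Aa (p (α * π₂ c ^ n)) := by
        have := congrArg p' ht'
        simpa only [map_mul, map_pow, hp] using this
      rw [← e1, ← e2, hst, h.comm]
    obtain ⟨⟨_, m, rfl⟩, hm⟩ :=
      (IsLocalization.eq_iff_exists (Submonoid.powers (p (π₂ c))) Aa).mp hA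
    simp only at hm
    obtain ⟨c₁, hc₁, hc₁'⟩ := h.surj (π₁ c ^ m * (β * π₁ c ^ k)) (π₂ c ^ m * (α * π₂ c ^ n)) (by
      rw [map_mul, map_mul p, map_pow, map_pow, h.comm, hm])
    obtain ⟨v, hv⟩ := (hunitC (m + (n + k))).exists_right_inv
    refine ⟨algebraMap C Cc c₁ * v, ?_, ?_⟩
    · have hu := hunitB (m + (n + k))
      apply hu.mul_left_injective
      show π₁' (algebraMap C Cc c₁ * v) * algebraMap B Bb (π₁ c ^ (m + (n + k))) =
        s * algebraMap B Bb (π₁ c ^ (m + (n + k)))
      have e : π₁' (algebraMap C Cc c₁ * v) * algebraMap B Bb (π₁ c ^ (m + (n + k))) =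
          π₁' (algebraMap C Cc c₁ * (algebraMap C Cc (c ^ (m + (n + k))) * v)) := by
        simp only [map_mul, map_pow, h₁]; ring
      rw [e, hv, mul_one, h₁, hc₁]
      simp only [map_mul, map_pow, pow_add] at hs' ⊢
      linear_combination (algebraMap B Bb (π₁ c) ^ m) * hs'.symm
    · have hu := hunitA' (m + (n + k))
      apply hu.mul_left_injective
      show π₂' (algebraMap C Cc c₁ * v) * algebraMap A' Aa' (π₂ c ^ (m + (n + k))) =
        t * algebraMap A' Aa' (π₂ c ^ (m + (n + k)))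
      have e : π₂' (algebraMap C Cc c₁ * v) * algebraMap A' Aa' (π₂ c ^ (m + (n + k))) =
          π₂' (algebraMap C Cc c₁ * (algebraMap C Cc (c ^ (m + (n + k))) * v)) := by
        simp only [map_mul, map_pow, h₂]; ring
      rw [e, hv, mul_one, h₂, hc₁']
      simp only [map_mul, map_pow, pow_add] at ht' ⊢
      linear_combination (algebraMap A' Aa' (π₂ c) ^ m) * ht'.symm


theorem bijective_snd_of_subsingleton (h : IsFibreSq π₁ π₂ q p) [Subsingleton B] :
    Function.Bijective π₂ := by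
  have hA : Subsingleton A := by
    refine subsingleton_of_zero_eq_one ?_
    rw [← map_one q, Subsingleton.elim (1 : B) 0, map_zero]
  constructor
  · rw [injective_iff_map_eq_zero]
    intro x hx
    exact h.inj x (Subsingleton.elim _ _) hx
  · intro t
    obtain ⟨x, -, hx⟩ := h.surj 0 t (Subsingleton.elim _ _)
    exact ⟨x, hx⟩

/-- Away from an element of `ker π₁`, `C → A'` becomes an isomorphism after localisation. -/
theorem exists_bijective_away (h : IsFibreSq π₁ π₂ q p) (c₀ : C) (hc₀ : π₁ c₀ = 0)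
    (Cc Aa' : Type*) [CommRing Cc] [CommRing Aa'] [Algebra C Cc] [Algebra A' Aa']
    [IsLocalization.Away c₀ Cc] [IsLocalization.Away (π₂ c₀) Aa'] :
    ∃ π₂' : Cc →+* Aa', Function.Bijective π₂' ∧
      ∀ x, π₂' (algebraMap C Cc x) = algebraMap A' Aa' (π₂ x) := by
  have hpc₀ : p (π₂ c₀) = 0 := by rw [← h.comm, hc₀, map_zero]
  have hsB : Subsingleton (Localization.Away (π₁ c₀)) :=
    IsLocalization.subsingleton (M := Submonoid.powers (π₁ c₀))
      ⟨1, by show π₁ c₀ ^ 1 = 0; rw [pow_one, hc₀]⟩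
  obtain ⟨π₁', h₁⟩ : ∃ π₁' : Cc →+* Localization.Away (π₁ c₀),
      ∀ x, π₁' (algebraMap C Cc x) = algebraMap B _ (π₁ x) :=
    ⟨IsLocalization.Away.lift (S := Cc) c₀ (g := (algebraMap B _).comp π₁)
      (by rw [RingHom.comp_apply]; exact IsLocalization.Away.algebraMap_isUnit _),
      fun x => IsLocalization.Away.lift_eq _ _ x⟩
  obtain ⟨π₂', h₂⟩ : ∃ π₂' : Cc →+* Aa',
      ∀ x, π₂' (algebraMap C Cc x) = algebraMap A' Aa' (π₂ x) :=
    ⟨IsLocalization.Away.lift (S := Cc) c₀ (g := (algebraMap A' Aa').comp π₂)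
      (by rw [RingHom.comp_apply]; exact IsLocalization.Away.algebraMap_isUnit _),
      fun x => IsLocalization.Away.lift_eq _ _ x⟩
  obtain ⟨p', hp'⟩ : ∃ p' : Aa' →+* Localization.Away (p (π₂ c₀)),
      ∀ x, p' (algebraMap A' Aa' x) = algebraMap A _ (p x) :=
    ⟨IsLocalization.Away.lift (S := Aa') (π₂ c₀) (g := (algebraMap A _).comp p)
      (by rw [RingHom.comp_apply]; exact IsLocalization.Away.algebraMap_isUnit _),
      fun x => IsLocalization.Away.lift_eq _ _ x⟩
  obtain ⟨q', hq'⟩ : ∃ q' : Localization.Away (π₁ c₀) →+* Localization.Away (p (π₂ c₀)),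
      ∀ x, q' (algebraMap B _ x) = algebraMap A _ (q x) :=
    ⟨IsLocalization.Away.lift (S := Localization.Away (π₁ c₀)) (π₁ c₀)
      (g := (algebraMap A _).comp q)
      (by rw [RingHom.comp_apply, h.comm]; exact IsLocalization.Away.algebraMap_isUnit _),
      fun x => IsLocalization.Away.lift_eq _ _ x⟩
  have sq' : IsFibreSq π₁' π₂' q' p' := h.away c₀ π₁' π₂' q' p' h₁ h₂ hq' hp'
  exact ⟨π₂', sq'.bijective_snd_of_subsingleton, h₂⟩

/-- Every prime of `C = B ×_A A'` comes from `B` or from `A'` (for `p` surjective). -/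
theorem range_comap (h : IsFibreSq π₁ π₂ q p) (hp : Function.Surjective p) (w : PrimeSpectrum C) :
    w ∈ Set.range (comap π₁) ∨ w ∈ Set.range (comap π₂) := by
  by_cases hw : RingHom.ker π₁ ≤ w.asIdeal
  · left
    rw [range_comap_of_surjective _ _ (h.surjective_fst hp)]
    exact hw
  · right
    obtain ⟨c₀, hc₀, hc₀w⟩ := SetLike.not_le_iff_exists.mp hw
    obtain ⟨π₂', hbij, h₂⟩ := h.exists_bijective_away c₀ hc₀ (Localization.Away c₀)
      (Localization.Away (π₂ c₀))
    have hwr : w ∈ Set.range (comap (algebraMap C (Localization.Away c₀))) := by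
      rw [localization_away_comap_range (Localization.Away c₀) c₀]
      exact hc₀w
    obtain ⟨w', rfl⟩ := hwr
    obtain ⟨e, he⟩ : ∃ e : Localization.Away c₀ ≃+* Localization.Away (π₂ c₀),
        ∀ x, e x = π₂' x := ⟨RingEquiv.ofBijective π₂' hbij, fun _ => rfl⟩
    refine ⟨comap (algebraMap A' (Localization.Away (π₂ c₀))) (comap e.symm.toRingHom w'), ?_⟩
    have e1 : (algebraMap A' (Localization.Away (π₂ c₀))).comp π₂ =
        π₂'.comp (algebraMap C (Localization.Away c₀)) :=
      RingHom.ext fun x => (h₂ x).symm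
    have e2 : (e.symm.toRingHom).comp π₂' = RingHom.id _ :=
      RingHom.ext fun x => by
        rw [RingHom.comp_apply, ← he]
        exact e.symm_apply_apply x
    rw [← comap_comp_apply, e1, comap_comp_apply]
    congr 1
    rw [← comap_comp_apply, e2, comap_id]

/-- The basic-open form of the topological pushout property of `Spec C`. -/
theorem exists_basicOpen (h : IsFibreSq π₁ π₂ q p) (hp : Function.Surjective p)
    (G : TopologicalSpace.Opens (PrimeSpectrum A')) (H : TopologicalSpace.Opens (PrimeSpectrum B))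
    (hGH : ∀ x : PrimeSpectrum A, comap p x ∈ G ↔ comap q x ∈ H)
    (w : PrimeSpectrum C)
    (hw : (∃ z ∈ G, comap π₂ z = w) ∨ (∃ y ∈ H, comap π₁ y = w)) :
    ∃ c : C, w ∈ basicOpen c ∧ basicOpen (π₂ c) ≤ G ∧ basicOpen (π₁ c) ≤ H := by
  have hπ₁ := h.surjective_fst hp
  by_cases hwr : w ∈ Set.range (comap π₁)
  · -- case A
    obtain ⟨y, rfl⟩ := hwr
    have hyH : y ∈ H := by
      rcases hw with ⟨z, hzG, hz⟩ | ⟨y', hy'H, hy'⟩
      · have hzr : z ∈ Set.range (comap p) := by
          rw [range_comap_of_surjective _ _ hp]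
          intro i hi
          obtain ⟨c, hc₁, hc₂⟩ := h.surj 0 i (by rw [map_zero]; exact hi.symm)
          have : c ∈ (comap π₁ y).asIdeal := by
            show π₁ c ∈ y.asIdeal
            rw [hc₁]; exact zero_mem _
          rw [← hz] at this
          have : π₂ c ∈ z.asIdeal := this
          rwa [hc₂] at this
        obtain ⟨x, rfl⟩ := hzr
        have hy' : comap π₁ (comap q x) = comap π₁ y := by
          rw [← hz, ← comap_comp_apply, ← comap_comp_apply]
          congr 1
          ext c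
          exact h.comm c
        rw [← comap_injective_of_surjective π₁ hπ₁ hy']
        exact (hGH x).mp hzG
      · rw [← comap_injective_of_surjective π₁ hπ₁ hy']
        exact hy'H
    obtain ⟨_, ⟨b₀, rfl⟩, hyb₀, hb₀H⟩ :=
      isTopologicalBasis_basic_opens.exists_subset_of_mem_open hyH H.2
    obtain ⟨L, hL⟩ := (isClosed_iff_zeroLocus_ideal _).mp G.2.isClosed_compl
    have hrad : q b₀ ∈ (Ideal.map p L).radical := by
      rw [Ideal.radical_eq_sInf, Ideal.mem_sInf]
      rintro x ⟨hx, hxprime⟩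
      by_contra hqb
      let x' : PrimeSpectrum A := ⟨x, hxprime⟩
      have h1 : comap q x' ∈ H := hb₀H (show comap q x' ∈ (basicOpen b₀ : Set _) from hqb)
      have h2 : comap p x' ∈ G := (hGH x').mpr h1
      have h3 : comap p x' ∈ zeroLocus (L : Set A') := by
        intro l hl
        exact hx (Ideal.mem_map_of_mem p hl)
      rw [← hL] at h3
      exact h3 h2
    obtain ⟨n, hn⟩ := hrad
    have hn' : q b₀ ^ (n + 1) ∈ Ideal.map p L := by
      rw [pow_succ]; exact Ideal.mul_mem_right _ _ hn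
    obtain ⟨l, hlL, hl⟩ := (Ideal.mem_map_iff_of_surjective p hp).mp hn'
    obtain ⟨c, hc₁, hc₂⟩ := h.surj (b₀ ^ (n + 1)) l (by rw [map_pow, hl])
    refine ⟨c, ?_, ?_, ?_⟩
    · show π₁ c ∉ y.asIdeal
      rw [hc₁]
      exact fun hmem => hyb₀ (y.isPrime.mem_of_pow_mem _ hmem)
    · rw [hc₂]
      intro z hz
      by_contra hzG
      have : z ∈ zeroLocus (L : Set A') := by rw [← hL]; exact hzG
      exact hz (this hlL)
    · rw [hc₁, basicOpen_pow _ _ (Nat.succ_pos n)]
      exact hb₀H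
  · -- case B
    have hker : ¬ RingHom.ker π₁ ≤ w.asIdeal := by
      intro hle
      apply hwr
      rw [range_comap_of_surjective _ _ hπ₁]
      exact hle
    obtain ⟨c₀, hc₀, hc₀w⟩ := SetLike.not_le_iff_exists.mp hker
    have hc₀' : π₁ c₀ = 0 := hc₀
    rcases hw with ⟨z, hzG, rfl⟩ | ⟨y, -, rfl⟩
    · obtain ⟨_, ⟨a'', rfl⟩, hza'', ha''G⟩ :=
        isTopologicalBasis_basic_opens.exists_subset_of_mem_open hzG G.2
      obtain ⟨c, hc₁, hc₂⟩ := h.surj 0 (π₂ c₀ * a'') (by
        rw [map_zero, map_mul, ← h.comm, hc₀', map_zero, zero_mul])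
      refine ⟨c, ?_, ?_, ?_⟩
      · show π₂ c ∉ z.asIdeal
        rw [hc₂]
        intro hmem
        rcases z.isPrime.mem_or_mem hmem with h1 | h1
        · exact hc₀w h1
        · exact hza'' h1
      · rw [hc₂, basicOpen_mul]
        exact inf_le_right.trans ha''G
      · rw [hc₁, basicOpen_zero]
        exact bot_le
    · exact absurd ⟨y, rfl⟩ hwr

/-- A square of quotients of `R` by ideals `K_X ⊓ K_Y`, `K_X`, `K_Y`, `K_X ⊔ K_Y` is a fibre square. -/
theorem of_surjective {R : Type*} [CommRing R] (fP : R →+* C) (fX : R →+* B) (fY : R →+* A')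
    (fZ : R →+* A) (hP : Function.Surjective fP) (hX : Function.Surjective fX)
    (hY : Function.Surjective fY)
    (hkP : RingHom.ker fX ⊓ RingHom.ker fY ≤ RingHom.ker fP)
    (hkZ : RingHom.ker fZ ≤ RingHom.ker fX ⊔ RingHom.ker fY)
    (h₁ : ∀ r, π₁ (fP r) = fX r) (h₂ : ∀ r, π₂ (fP r) = fY r)
    (hq : ∀ r, q (fX r) = fZ r) (hp : ∀ r, p (fY r) = fZ r) :
    IsFibreSq π₁ π₂ q p := by
  refine ⟨?_, ?_, ?_⟩
  · intro c
    obtain ⟨r, rfl⟩ := hP c
    rw [h₁, h₂, hq, hp]
  · intro c hc₁ hc₂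
    obtain ⟨r, rfl⟩ := hP c
    rw [h₁] at hc₁
    rw [h₂] at hc₂
    exact hkP ⟨hc₁, hc₂⟩
  · intro b a' hba'
    obtain ⟨r₁, rfl⟩ := hX b
    obtain ⟨r₂, rfl⟩ := hY a'
    rw [hq, hp] at hba'
    have : r₁ - r₂ ∈ RingHom.ker fX ⊔ RingHom.ker fY := hkZ (by
      rw [RingHom.mem_ker, map_sub, hba', sub_self])
    obtain ⟨x, hx, y, hy, hxy⟩ := Submodule.mem_sup.mp this
    refine ⟨fP (r₁ - x), ?_, ?_⟩
    · rw [h₁, map_sub, (RingHom.mem_ker).mp hx, sub_zero]
    · have : r₁ - x = r₂ + y := by linear_combination hxy.symm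
      rw [h₂, this, map_add, (RingHom.mem_ker).mp hy, add_zero]

end IsFibreSq


open CategoryTheory CategoryTheory.Limits in
/-- The categorical pullback in `CommRingCat` is a fibre square. -/
theorem isFibreSq_pullback {A A' B : CommRingCat.{u}} (q : B ⟶ A) (p : A' ⟶ A) :
    IsFibreSq (pullback.fst q p).hom (pullback.snd q p).hom q.hom p.hom := by
  let e : pullback q p ≅ (CommRingCat.pullbackCone q p).pt :=
    limit.isoLimitCone ⟨_, CommRingCat.pullbackConeIsLimit q p⟩
  have hfst : e.hom ≫ (CommRingCat.pullbackCone q p).fst = pullback.fst q p :=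
    limit.isoLimitCone_hom_π _ WalkingCospan.left
  have hsnd : e.hom ≫ (CommRingCat.pullbackCone q p).snd = pullback.snd q p :=
    limit.isoLimitCone_hom_π _ WalkingCospan.right
  have hfst' : e.inv ≫ pullback.fst q p = (CommRingCat.pullbackCone q p).fst :=
    limit.isoLimitCone_inv_π _ WalkingCospan.left
  have hsnd' : e.inv ≫ pullback.snd q p = (CommRingCat.pullbackCone q p).snd :=
    limit.isoLimitCone_inv_π _ WalkingCospan.right
  refine ⟨?_, ?_, ?_⟩
  · intro c
    exact congr($(pullback.condition (f := q) (g := p)) c)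
  · intro c hc₁ hc₂
    have h1 : ((CommRingCat.pullbackCone q p).fst) (e.hom c) = 0 := by
      rw [← hc₁, ← hfst]; rfl
    have h2 : ((CommRingCat.pullbackCone q p).snd) (e.hom c) = 0 := by
      rw [← hc₂, ← hsnd]; rfl
    have h0 : e.hom c = 0 := Subtype.ext (Prod.ext h1 h2)
    have : c = e.inv (e.hom c) := by
      rw [← CommRingCat.comp_apply, e.hom_inv_id]; rfl
    rw [this, h0, map_zero]
  · intro b a' hba'
    let x : (CommRingCat.pullbackCone q p).pt := ⟨(b, a'), hba'⟩
    refine ⟨e.inv x, ?_, ?_⟩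
    · have : (pullback.fst q p).hom (e.inv x) = ((CommRingCat.pullbackCone q p).fst) x := by
        rw [← hfst']; rfl
      rw [this]; rfl
    · have : (pullback.snd q p).hom (e.inv x) = ((CommRingCat.pullbackCone q p).snd) x := by
        rw [← hsnd']; rfl
      rw [this]; rfl

end Groth.Agent.Lib.RingFibreSq24
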