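import Mathlib
import Groth.Agent.Lib.SchemePushout24
import Groth.Agent.S0433
import Groth.Agent.Lib.Ferrand24a

/-!
# Categorical quotients of affine schemes from a Reynolds-type retraction (helper24)
-/

set_option autoImplicit false
universe u

namespace Groth.Agent.Lib.CatQuot24

open AlgebraicGeometry CategoryTheory CategoryTheory.Limits TopologicalSpace Opposite PrimeSpectrum
open Groth.Agent.Lib.SchemePushout24 Groth.Agent.Lib.DescendMor45

section Ring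

variable {C B E : Type*} [CommRing C] [CommRing B] [CommRing E]

/-- invariants of a localisation at an invariant element -/
theorem mem_range_away (ι : C →+* B) (ρ p₁ : B →+* E)
    (heq : ∀ b, ρ b = p₁ b → b ∈ Set.range ι) (hι : ∀ c, ρ (ι c) = p₁ (ι c)) (c : C)
    {Cc Bc Ec : Type*} [CommRing Cc] [CommRing Bc] [CommRing Ec] [Algebra C Cc] [Algebra B Bc]
    [Algebra E Ec] [IsLocalization.Away c Cc] [IsLocalization.Away (ι c) Bc]
    [IsLocalization.Away (p₁ (ι c)) Ec]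
    (ι' : Cc →+* Bc) (ρ' p₁' : Bc →+* Ec)
    (h₁ : ∀ x, ι' (algebraMap C Cc x) = algebraMap B Bc (ι x))
    (h₂ : ∀ x, ρ' (algebraMap B Bc x) = algebraMap E Ec (ρ x))
    (h₃ : ∀ x, p₁' (algebraMap B Bc x) = algebraMap E Ec (p₁ x))
    (s : Bc) (hs : ρ' s = p₁' s) : s ∈ Set.range ι' := by
  obtain ⟨⟨f, ⟨_, n, rfl⟩⟩, hf⟩ := IsLocalization.surj (Submonoid.powers (ι c)) s
  simp only at hf
  have hpow : ∀ k : ℕ, ρ ((ι c) ^ k) = p₁ ((ι c) ^ k) := fun k => by rw [map_pow, map_pow, hι]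
  have e1 : algebraMap E Ec (ρ f) = algebraMap E Ec (p₁ f) := by
    rw [← h₂, ← h₃, ← hf, map_mul, map_mul, hs, h₂, h₃, hpow]
  obtain ⟨⟨_, m, rfl⟩, hm⟩ := (IsLocalization.eq_iff_exists (Submonoid.powers (p₁ (ι c))) Ec).mp e1
  simp only at hm
  have e2 : ρ ((ι c) ^ m * f) = p₁ ((ι c) ^ m * f) := by
    rw [map_mul, map_mul, map_pow, map_pow, hι]
    exact hm
  obtain ⟨c', hc'⟩ := heq _ e2
  have hunitB : IsUnit (algebraMap B Bc ((ι c) ^ (n + m))) :=
    IsLocalization.map_units Bc (⟨(ι c) ^ (n + m), n + m, rfl⟩ : Submonoid.powers (ι c))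
  refine ⟨IsLocalization.mk' Cc c' (⟨c ^ (n + m), n + m, rfl⟩ : Submonoid.powers c), ?_⟩
  apply hunitB.mul_left_injective
  have e3 : IsLocalization.mk' Cc c' (⟨c ^ (n + m), n + m, rfl⟩ : Submonoid.powers c) *
      algebraMap C Cc (c ^ (n + m)) = algebraMap C Cc c' :=
    IsLocalization.mk'_spec Cc c' (⟨c ^ (n + m), n + m, rfl⟩ : Submonoid.powers c)
  have e4 : algebraMap B Bc ((ι c) ^ (n + m)) = ι' (algebraMap C Cc (c ^ (n + m))) := by
    rw [h₁, map_pow ι]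
  calc ι' (IsLocalization.mk' Cc c' (⟨c ^ (n + m), n + m, rfl⟩ : Submonoid.powers c)) *
        algebraMap B Bc ((ι c) ^ (n + m))
      = ι' (IsLocalization.mk' Cc c' (⟨c ^ (n + m), n + m, rfl⟩ : Submonoid.powers c) *
          algebraMap C Cc (c ^ (n + m))) := by rw [map_mul, ← e4]
    _ = algebraMap B Bc ((ι c) ^ m * f) := by rw [e3, h₁, hc']
    _ = s * algebraMap B Bc ((ι c) ^ (n + m)) := by
        rw [pow_add, map_mul, map_mul, ← hf]
        ring

end Ring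

section SchemeLevel

variable {C B E : Type u} [CommRing C] [CommRing B] [CommRing E]

/-- the covering claim -/
theorem exists_basicOpen_le (ι : C →+* B) (ρ p₁ : B →+* E)
    (Ey : B → C) (hE_add : ∀ x y, Ey (x + y) = Ey x + Ey y) (hE_one : Ey 1 = 1)
    (hsat : ∀ b : Ideal B, (∀ f ∈ b, ρ f ∈ (b.map p₁).radical) →
       ∃ b' : Ideal B, b' ≤ b ∧ b ≤ b'.radical ∧ ∀ f ∈ b', ι (Ey f) ∈ b')
    {Z : Scheme.{u}} (ψ : Spec (CommRingCat.of B) ⟶ Z)
    (hψ : Spec.map (CommRingCat.ofHom ρ) ≫ ψ = Spec.map (CommRingCat.ofHom p₁) ≫ ψ)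
    (t : PrimeSpectrum C) :
    ∃ (V : Z.Opens) (c : C), IsAffineOpen V ∧ c ∉ t.asIdeal ∧
      ∀ x : PrimeSpectrum B, ι c ∉ x.asIdeal → ψ x ∈ V := by
  -- affine cover of `Z`
  have hcov : ∀ z : Z, ∃ V : Z.Opens, IsAffineOpen V ∧ z ∈ V := by
    intro z
    obtain ⟨_, ⟨V, hV, rfl⟩, hzV, -⟩ :=
      Z.isBasis_affineOpens.exists_subset_of_mem_open (Set.mem_univ z) isOpen_univ
    exact ⟨V, hV, hzV⟩
  choose V hV hzV using hcov
  -- the closed complements and their ideals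
  let W : Z → Set (PrimeSpectrum B) := fun z => {x | ψ x ∉ V z}
  have hWclosed : ∀ z, IsClosed (W z) := by
    intro z
    have : IsClosed ((ψ ⁻¹ᵁ V z).1)ᶜ := (ψ ⁻¹ᵁ V z).2.isClosed_compl
    exact this
  have hzl : ∀ z, zeroLocus ((vanishingIdeal (W z) : Ideal B) : Set B) = W z := by
    intro z
    rw [zeroLocus_vanishingIdeal_eq_closure, (hWclosed z).closure_eq]
  have hinv : ∀ z, ∀ f ∈ vanishingIdeal (W z), ρ f ∈ ((vanishingIdeal (W z)).map p₁).radical := by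
    intro z f hf
    rw [Ideal.radical_eq_sInf, Ideal.mem_sInf]
    rintro Q ⟨hQ, hQp⟩
    have h1 : vanishingIdeal (W z) ≤ Q.comap p₁ := Ideal.map_le_iff_le_comap.mp hQ
    have hx₁ : (⟨Q.comap p₁, inferInstance⟩ : PrimeSpectrum B) ∈ W z := by
      rw [← hzl z, mem_zeroLocus]
      exact h1
    have hpt : ψ (⟨Q.comap ρ, inferInstance⟩ : PrimeSpectrum B) =
        ψ (⟨Q.comap p₁, inferInstance⟩ : PrimeSpectrum B) :=
      congr($hψ (⟨Q, hQp⟩ : PrimeSpectrum E))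
    have hx₂ : (⟨Q.comap ρ, inferInstance⟩ : PrimeSpectrum B) ∈ W z := by
      show ψ _ ∉ V z
      rw [hpt]
      exact hx₁
    exact (mem_vanishingIdeal _ _).mp hf _ hx₂
  choose b' hb'le hb'rad hb'E using fun z => hsat _ (hinv z)
  -- the ideal of `C`
  have hE_zero : Ey 0 = 0 := by
    have := hE_add 0 0
    rw [add_zero] at this
    exact left_eq_add.mp this
  have hsup : (⨆ z, b' z) = ⊤ := by
    by_contra hne
    obtain ⟨m, hm, hle⟩ := Ideal.exists_le_maximal _ hne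
    have hmp : m.IsPrime := hm.isPrime
    have h1 : vanishingIdeal (W (ψ (⟨m, hmp⟩ : PrimeSpectrum B))) ≤ m := by
      refine (hb'rad _).trans ?_
      rw [hmp.radical_le_iff]
      exact (le_iSup b' _).trans hle
    have h2 : (⟨m, hmp⟩ : PrimeSpectrum B) ∈ W (ψ (⟨m, hmp⟩ : PrimeSpectrum B)) := by
      rw [← hzl, mem_zeroLocus]
      exact h1
    exact h2 (hzV _)
  have hJ : (⨆ z, (b' z).comap ι) = ⊤ := by
    rw [Ideal.eq_top_iff_one]
    have key : ∀ x ∈ (⨆ z, b' z), Ey x ∈ (⨆ z, (b' z).comap ι) := by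
      intro x hx
      induction hx using Submodule.iSup_induction' with
      | mem z x hx => exact (le_iSup (fun z => (b' z).comap ι) z) (hb'E z x hx)
      | zero => rw [hE_zero]; exact Ideal.zero_mem _
      | add x y _ _ hx hy => rw [hE_add]; exact Ideal.add_mem _ hx hy
    have := key 1 (by rw [hsup]; trivial)
    rwa [hE_one] at this
  obtain ⟨z, c, hc, hct⟩ : ∃ z, ∃ c ∈ (b' z).comap ι, c ∉ t.asIdeal := by
    by_contra hcon
    push Not at hcon
    have : (⨆ z, (b' z).comap ι) ≤ t.asIdeal := iSup_le fun z c hc => hcon z c hc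
    rw [hJ] at this
    exact t.2.ne_top (top_le_iff.mp this)
  refine ⟨V z, c, hV z, hct, ?_⟩
  intro x hx
  by_contra hxV
  have hxW : x ∈ W z := hxV
  apply hx
  have h1 : ι c ∈ vanishingIdeal (W z) := hb'le z hc
  exact (mem_vanishingIdeal _ _).mp h1 x hxW

set_option backward.isDefEq.respectTransparency.types false in
theorem mem_range_comap_basicOpen (ι : C →+* B) (ρ p₁ : B →+* E)
    (heq : ∀ b, ρ b = p₁ b → b ∈ Set.range ι) (hι : ∀ c, ρ (ι c) = p₁ (ι c)) (c : C)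
    (s : (Spec.structureSheaf B).obj.obj (op (basicOpen (ι c))))
    (hq : (basicOpen (ρ (ι c))).1 ⊆ PrimeSpectrum.comap p₁ ⁻¹' (basicOpen (ι c)).1)
    (hs : StructureSheaf.comap ρ (basicOpen (ι c)) (basicOpen (ρ (ι c))) (fun _ h => h) s =
      StructureSheaf.comap p₁ (basicOpen (ι c)) (basicOpen (ρ (ι c))) hq s) :
    s ∈ Set.range (StructureSheaf.comap ι (basicOpen c) (basicOpen (ι c)) (fun _ h => h)) :=
  mem_range_away ι p₁ ρ (fun b h => heq b h.symm) (fun c => (hι c).symm) c _ _ _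
    (Groth.Agent.S0433.comap_algebraMap _ _ _ _) (Groth.Agent.S0433.comap_algebraMap _ _ _ _)
    (Groth.Agent.S0433.comap_algebraMap _ _ _ _) s hs.symm

set_option backward.isDefEq.respectTransparency.types false in
/-- scheme form of the previous lemma -/
theorem mem_range_app_basicOpen (ι : C →+* B) (ρ p₁ : B →+* E)
    (heq : ∀ b, ρ b = p₁ b → b ∈ Set.range ι) (hι : ∀ c, ρ (ι c) = p₁ (ι c)) (c : C)
    {Z : Scheme.{u}} (ψ : Spec (CommRingCat.of B) ⟶ Z)
    (hψ : Spec.map (CommRingCat.ofHom ρ) ≫ ψ = Spec.map (CommRingCat.ofHom p₁) ≫ ψ)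
    (V : Z.Opens)
    (h : Spec.map (CommRingCat.ofHom ι) ⁻¹ᵁ (basicOpen c : (Spec (CommRingCat.of C)).Opens) ≤
      ψ ⁻¹ᵁ V) (r : Γ(Z, V)) :
    (ψ.appLE V _ h).hom r ∈ Set.range
      ((Spec.map (CommRingCat.ofHom ι)).app (basicOpen c : (Spec (CommRingCat.of C)).Opens)).hom := by
  have hq : (basicOpen (ρ (ι c))).1 ⊆ PrimeSpectrum.comap p₁ ⁻¹' (basicOpen (ι c)).1 := by
    rw [hι]
    exact fun _ h => h
  have hs := Groth.Agent.Lib.Ferrand24.appLE_sq hψ V (basicOpen (ι c)) (basicOpen (ι c))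
    (basicOpen (ρ (ι c))) h (fun _ h => h) h hq r
  exact mem_range_comap_basicOpen ι ρ p₁ heq hι c _ hq hs

/-- **Descent of a morphism along a surjective morphism which is injective on sections**, given
local factorisations on the level of sections. -/
theorem existsUnique_desc_of_local {X Y Z : Scheme.{u}} (π : X ⟶ Y) (ψ : X ⟶ Z)
    (hsurj : Function.Surjective π) (hinj : ∀ V : Y.Opens, Function.Injective (π.app V).hom)
    (hloc : ∀ t : Y, ∃ (V : Z.Opens) (U : Y.Opens), IsAffineOpen V ∧ t ∈ U ∧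
      ∃ h : π ⁻¹ᵁ U ≤ ψ ⁻¹ᵁ V, ∀ r, (ψ.appLE V _ h).hom r ∈ Set.range (π.app U).hom) :
    ∃! χ : Y ⟶ Z, π ≫ χ = ψ := by
  have hsurj' : ∀ t : Y, t ∈ Set.range π ∨ t ∈ Set.range π := fun t => Or.inl (hsurj t)
  have hinj' : ∀ (V : Y.Opens) (s : Γ(Y, V)), π.app V s = 0 → π.app V s = 0 → s = 0 :=
    fun V s hs _ => (injective_iff_map_eq_zero _).mp (hinj V) s hs
  choose V U hV htU hUV hrange using hloc
  have hφ : ∀ t, ∃ φ : Γ(Z, V t) →+* Γ(Y, U t),
      (π.app (U t)).hom.comp φ = (ψ.appLE (V t) (π ⁻¹ᵁ U t) (hUV t)).hom := by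
    intro t
    exact exists_ringHom_of_range_subset (π.app (U t)).hom (hinj (U t)) _ (hrange t)
  choose φ hφ using hφ
  let κ₀ : ∀ t, (U t).toScheme ⟶ Z := fun t =>
    (U t).toSpecΓ ≫ Spec.map (CommRingCat.ofHom (φ t)) ≫ (hV t).fromSpec
  have ha : ∀ t, (π ∣_ U t) ≫ κ₀ t = (π ⁻¹ᵁ U t).ι ≫ ψ := by
    intro t
    dsimp only [κ₀]
    rw [← Scheme.Opens.toSpecΓ_naturality_assoc, ← Spec.map_comp_assoc]
    have h1 : CommRingCat.ofHom (φ t) ≫ π.app (U t) = ψ.appLE (V t) (π ⁻¹ᵁ U t) (hUV t) := by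
      ext s
      exact congrArg (fun θ => θ s) (hφ t)
    rw [h1, Scheme.Opens.toSpecΓ_SpecMap_appLE_assoc, IsAffineOpen.toSpecΓ_fromSpec,
      Scheme.Hom.resLE_comp_ι]
  have hcover : TopologicalSpace.IsOpenCover U := by
    rw [TopologicalSpace.IsOpenCover, eq_top_iff]
    intro t _
    exact TopologicalSpace.Opens.mem_iSup.mpr ⟨t, htU t⟩
  have hcompat : ∀ t t' : Y,
      Y.homOfLE (inf_le_left : U t ⊓ U t' ≤ U t) ≫ κ₀ t =
        Y.homOfLE (inf_le_right : U t ⊓ U t' ≤ U t') ≫ κ₀ t' := by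
    intro t t'
    apply hom_ext_restrict π π hsurj' hinj' (U t ⊓ U t')
    · rw [morphismRestrict_homOfLE_assoc, morphismRestrict_homOfLE_assoc, ha, ha,
        Scheme.homOfLE_ι_assoc, Scheme.homOfLE_ι_assoc]
    · rw [morphismRestrict_homOfLE_assoc, morphismRestrict_homOfLE_assoc, ha, ha,
        Scheme.homOfLE_ι_assoc, Scheme.homOfLE_ι_assoc]
  obtain ⟨κ, hκ⟩ := exists_glue_opens U hcover κ₀ hcompat
  have hfac : π ≫ κ = ψ := by
    apply Scheme.hom_ext_of_forall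
    intro x
    refine ⟨π ⁻¹ᵁ U (π x), htU _, ?_⟩
    rw [← morphismRestrict_ι_assoc, hκ, ha]
  refine ⟨κ, hfac, ?_⟩
  intro χ' hχ'
  apply hom_ext_of_jointly π π hsurj' hinj'
  · rw [hχ', hfac]
  · rw [hχ', hfac]

theorem isSchemeTheoreticallyDominant_SpecMap {R S : CommRingCat.{u}} (φ : R ⟶ S)
    (hφ : Function.Injective φ.hom) : IsSchemeTheoreticallyDominant (Spec.map φ) := by
  rw [isSchemeTheoreticallyDominant_iff, Scheme.ker_of_isAffine]
  have h1 : (Spec.map φ).appTop = (Scheme.ΓSpecIso R).hom ≫ φ ≫ (Scheme.ΓSpecIso S).inv := by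
    rw [← Category.assoc, ← Scheme.ΓSpecIso_naturality, Category.assoc, Iso.hom_inv_id,
      Category.comp_id]
  have h2 : Function.Injective (Spec.map φ).appTop.hom := by
    rw [h1]
    have e1 : Function.Injective (Scheme.ΓSpecIso R).hom.hom :=
      ((ConcreteCategory.isIso_iff_bijective (Scheme.ΓSpecIso R).hom).mp inferInstance).1
    have e2 : Function.Injective (Scheme.ΓSpecIso S).inv.hom :=
      ((ConcreteCategory.isIso_iff_bijective (Scheme.ΓSpecIso S).inv).mp inferInstance).1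
    exact e2.comp (hφ.comp e1)
  rw [(RingHom.injective_iff_ker_eq_bot _).mp h2]
  exact (Scheme.IdealSheafData.equivOfIsAffine (X := Spec R)).symm.toOrderIso.map_bot

/-- **Categorical quotients.** -/
theorem existsUnique_desc (ι : C →+* B) (ρ p₁ : B →+* E) (hιinj : Function.Injective ι)
    (heq : ∀ b, ρ b = p₁ b → b ∈ Set.range ι) (hι : ∀ c, ρ (ι c) = p₁ (ι c))
    (hsurj : Function.Surjective (PrimeSpectrum.comap ι))
    (Ey : B → C) (hE_add : ∀ x y, Ey (x + y) = Ey x + Ey y) (hE_one : Ey 1 = 1)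
    (hsat : ∀ b : Ideal B, (∀ f ∈ b, ρ f ∈ (b.map p₁).radical) →
       ∃ b' : Ideal B, b' ≤ b ∧ b ≤ b'.radical ∧ ∀ f ∈ b', ι (Ey f) ∈ b')
    {Z : Scheme.{u}} (ψ : Spec (CommRingCat.of B) ⟶ Z)
    (hψ : Spec.map (CommRingCat.ofHom ρ) ≫ ψ = Spec.map (CommRingCat.ofHom p₁) ≫ ψ) :
    ∃! χ : Spec (CommRingCat.of C) ⟶ Z, Spec.map (CommRingCat.ofHom ι) ≫ χ = ψ := by
  haveI : IsSchemeTheoreticallyDominant (Spec.map (CommRingCat.ofHom ι)) :=
    isSchemeTheoreticallyDominant_SpecMap _ hιinj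
  refine existsUnique_desc_of_local (Spec.map (CommRingCat.ofHom ι)) ψ hsurj
    (fun V => (Spec.map (CommRingCat.ofHom ι)).app_injective V) ?_
  intro t
  obtain ⟨V, c, hV, hct, hcV⟩ := exists_basicOpen_le ι ρ p₁ Ey hE_add hE_one hsat ψ hψ t
  exact ⟨V, basicOpen c, hV, hct, fun x hx => hcV x hx,
    fun r => mem_range_app_basicOpen ι ρ p₁ heq hι c ψ hψ V _ r⟩

end SchemeLevel

end Groth.Agent.Lib.CatQuot24
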