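import Groth.Agent.Lib.TameAct41
import Mathlib.RingTheory.Ideal.Maps
import Mathlib.RingTheory.Spectrum.Prime.Basic

/-!
# Total integrals: invariants and prime ideals (helper41; TameAct cluster)

`B` a comodule algebra over a commutative Hopf algebra `A` (over a commutative ring `k`) with a total
integral `α`, `C = B^A`.
* `isHopfMod_self`: `B` is a Hopf module over itself.
* `reynolds_mul_of_mem_invariants`: `E(c b) = c E(b)` for `c` invariant.
* `reyC`: the Reynolds operator as a `C`-linear retraction `B → C`.
* `comap_map_eq`: `cB ∩ C = c`.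
* `reynolds_mem_of_isSubcomod`: `E(b) ⊆ b` for an invariant ideal.
* `exists_prime_over`: primes of `C` containing `b ∩ C` lift to primes of `B` containing `b`.
-/

set_option autoImplicit false
set_option linter.unusedSectionVars false
universe u v w

open TensorProduct

namespace Groth.Agent.Lib.TameAct41

section Ring

variable {k : Type u} [CommRing k] {A : Type v} [CommRing A] [HopfAlgebra k A]
  {B : Type w} [CommRing B] [Algebra k B] [HopfRep.Comod k A B] [GLin.IsCoactAlg k A B]

theorem hmSMul_self (x y : B ⊗[k] A) : TameAct.hmSMul k A B B x y = x * y := by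
  induction x using TensorProduct.induction_on with
  | zero => simp
  | add x x' hx hx' => simp only [map_add, LinearMap.add_apply, hx, hx', add_mul]
  | tmul b a =>
    induction y using TensorProduct.induction_on with
    | zero => simp
    | add y y' hy hy' => simp only [map_add, hy, hy', mul_add]
    | tmul b' a' => simp

instance isHopfMod_self : TameAct.IsHopfMod k A B B where
  coact_smul b m := by
    rw [smul_eq_mul, GLin.IsCoactAlg.coact_mul, hmSMul_self]

theorem L_tmul_one_mul (α : A →ₗ[k] B) (c : B) (x : B ⊗[k] A) :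
    L B α ((c ⊗ₜ[k] (1 : A)) * x) = c * L B α x := by
  induction x using TensorProduct.induction_on with
  | zero => simp
  | add x x' hx hx' => simp only [mul_add, map_add, hx, hx']
  | tmul b a =>
    rw [Algebra.TensorProduct.tmul_mul_tmul, one_mul, L_tmul, L_tmul, smul_eq_mul, smul_eq_mul]
    ring

theorem reynolds_mul_of_mem_invariants (α : A →ₗ[k] B) {c : B} (hc : c ∈ GLin.invariants k A B)
    (b : B) : TameAct.reynolds k A B B α (c * b) = c * TameAct.reynolds k A B B α b := by
  rw [reynolds_eq, reynolds_eq, GLin.IsCoactAlg.coact_mul, (GLin.mem_invariants_iff k A B c).mp hc,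
    L_tmul_one_mul]

/-- The Reynolds operator as a retraction of `C → B`, linear over the invariants `C`. -/
noncomputable def reyC (α : A →ₗ[k] B) (hα : Hoch.IsComodHom A α) :
    B →ₗ[GLin.invariants k A B] GLin.invariants k A B where
  toFun b := ⟨TameAct.reynolds k A B B α b, reynolds_mem_fixedPts α hα b⟩
  map_add' x y := by
    apply Subtype.ext
    simp
  map_smul' c x := by
    apply Subtype.ext
    show TameAct.reynolds k A B B α ((c : B) * x) = (c : B) * TameAct.reynolds k A B B α x
    exact reynolds_mul_of_mem_invariants α c.2 x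

theorem reyC_coe (α : A →ₗ[k] B) (hα : Hoch.IsComodHom A α) (b : B) :
    (reyC α hα b : B) = TameAct.reynolds k A B B α b := rfl

theorem reyC_algebraMap (α : A →ₗ[k] B) (hα : Hoch.IsComodHom A α) (hα1 : α 1 = 1)
    (c : GLin.invariants k A B) : reyC α hα (algebraMap (GLin.invariants k A B) B c) = c := by
  apply Subtype.ext
  exact reynolds_of_mem_fixedPts α hα1 c.2

/-- `reyC` maps `cB` into `c`. -/
theorem reyC_mem_of_mem_map (α : A →ₗ[k] B) (hα : Hoch.IsComodHom A α)
    (c : Ideal (GLin.invariants k A B)) {y : B}
    (hy : y ∈ c.map (algebraMap (GLin.invariants k A B) B)) : reyC α hα y ∈ c := by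
  have key : ∀ b : B, reyC α hα (b * y) ∈ c := by
    unfold Ideal.map at hy
    induction hy using Submodule.span_induction with
    | mem z hz =>
      obtain ⟨c₀, hc₀, rfl⟩ := hz
      intro b
      have : b * algebraMap (GLin.invariants k A B) B c₀ = c₀ • b := by
        rw [Algebra.smul_def, mul_comm]
      rw [this, map_smul, smul_eq_mul]
      exact c.mul_mem_right _ hc₀
    | zero =>
      intro b
      rw [mul_zero, map_zero]
      exact c.zero_mem
    | add z z' _ _ hz hz' =>
      intro b
      rw [mul_add, map_add]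
      exact c.add_mem (hz b) (hz' b)
    | smul b' z _ hz =>
      intro b
      rw [smul_eq_mul, ← mul_assoc]
      exact hz (b * b')
  have := key 1
  rwa [one_mul] at this

/-- `cB ∩ C = c`. -/
theorem comap_map_eq (α : A →ₗ[k] B) (hα : Hoch.IsComodHom A α) (hα1 : α 1 = 1)
    (c : Ideal (GLin.invariants k A B)) :
    (c.map (algebraMap (GLin.invariants k A B) B)).comap (algebraMap (GLin.invariants k A B) B) =
      c := by
  apply le_antisymm
  · intro x hx
    rw [Ideal.mem_comap] at hx
    have := reyC_mem_of_mem_map α hα c hx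
    rwa [reyC_algebraMap α hα hα1] at this
  · exact Ideal.le_comap_map

theorem reynolds_mem_of_isSubcomod (α : A →ₗ[k] B) (b : Ideal B)
    (hb : HopfRep.IsSubcomod (k := k) (A := A) (b.restrictScalars k)) {y : B} (hy : y ∈ b) :
    TameAct.reynolds k A B B α y ∈ b := by
  obtain ⟨z, hz⟩ := hb y hy
  rw [reynolds_eq, ← hz]
  clear hz
  induction z using TensorProduct.induction_on with
  | zero => simp
  | add x x' hx hx' =>
    rw [map_add, map_add]
    exact b.add_mem hx hx'
  | tmul y' a =>
    rw [LinearMap.rTensor_tmul, L_tmul, smul_eq_mul]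
    exact b.mul_mem_left _ y'.2

/-- Lifting of primes over an invariant ideal. -/
theorem exists_prime_over (α : A →ₗ[k] B) (hα : Hoch.IsComodHom A α) (hα1 : α 1 = 1)
    (b : Ideal B) (hb : HopfRep.IsSubcomod (k := k) (A := A) (b.restrictScalars k))
    (p : Ideal (GLin.invariants k A B)) [hp : p.IsPrime]
    (hbp : b.comap (algebraMap (GLin.invariants k A B) B) ≤ p) :
    ∃ q : Ideal B, q.IsPrime ∧ b ≤ q ∧ q.comap (algebraMap (GLin.invariants k A B) B) = p := by
  set ι := algebraMap (GLin.invariants k A B) B with hι
  set J : Ideal B := p.map ι ⊔ b with hJ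
  have hJp : J.comap ι ≤ p := by
    intro x hx
    rw [Ideal.mem_comap, hJ] at hx
    obtain ⟨y₁, hy₁, y₂, hy₂, hsum⟩ := Submodule.mem_sup.mp hx
    have h1 : reyC α hα y₁ ∈ p := reyC_mem_of_mem_map α hα p hy₁
    have h2 : reyC α hα y₂ ∈ p := by
      apply hbp
      rw [Ideal.mem_comap]
      exact reynolds_mem_of_isSubcomod α b hb hy₂
    have h3 : x = reyC α hα y₁ + reyC α hα y₂ := by
      rw [← map_add, hsum, reyC_algebraMap α hα hα1]
    rw [h3]
    exact p.add_mem h1 h2
  have hdisj : Disjoint (J : Set B) ((p.primeCompl.map ι : Submonoid B) : Set B) := by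
    rw [Set.disjoint_left]
    rintro _ hyJ ⟨x, hx, rfl⟩
    exact hx (hJp hyJ)
  obtain ⟨q, hq, hJq, hqdisj⟩ := Ideal.exists_le_prime_disjoint J (p.primeCompl.map ι) hdisj
  refine ⟨q, hq, le_trans le_sup_right hJq, ?_⟩
  apply le_antisymm
  · intro x hx
    by_contra hxp
    rw [Set.disjoint_left] at hqdisj
    exact hqdisj hx ⟨x, hxp, rfl⟩
  · intro x hx
    rw [Ideal.mem_comap]
    exact hJq (Submodule.mem_sup_left (Ideal.mem_map_of_mem ι hx))

end Ring

end Groth.Agent.Lib.TameAct41
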