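import Mathlib
import Groth.Agent.Lib.TameAct41b

/-!
# The largest subcomodule ideal inside an ideal of a comodule algebra (helper24)

For a comodule algebra `B` over a flat Hopf (bi)algebra `A` and an ideal `b` of `B`, the ideal
`b° = ρ⁻¹(b · (B ⊗ A))` is a subcomodule contained in `b`.
-/

set_option autoImplicit false
set_option linter.unusedSectionVars false
universe u v w

open TensorProduct

namespace Groth.Agent.Lib.CatQuot24

variable {k : Type u} [CommRing k] {A : Type v} [CommRing A] [HopfAlgebra k A]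
  {B : Type w} [CommRing B] [Algebra k B] [HopfRep.Comod k A B] [GLin.IsCoactAlg k A B]

local notation "ρB" => HopfRep.Comod.coact (k := k) (A := A) (V := B)
local notation "Δ" => CoalgebraStruct.comul (R := k) (A := A)
local notation "ε" => CoalgebraStruct.counit (R := k) (A := A)

variable (k A) in
/-- `b° = ρ⁻¹(b (B ⊗ A))` -/
noncomputable def sat (b : Ideal B) : Ideal B :=
  (b.map (Algebra.TensorProduct.includeLeftRingHom : B →+* B ⊗[k] A)).comap
    (GLin.coactAlgHom k A B).toRingHom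

theorem mem_sat_iff (b : Ideal B) (f : B) :
    f ∈ sat k A b ↔ ρB f ∈ LinearMap.range ((b.restrictScalars k).subtype.rTensor A) := by
  have h := Ideal.map_includeLeft_eq (R := k) (B := A) b
  have h2 : ρB f ∈ (b.map (Algebra.TensorProduct.includeLeft : B →ₐ[k] B ⊗[k] A)).restrictScalars k ↔
      ρB f ∈ LinearMap.range ((b.restrictScalars k).subtype.rTensor A) := by rw [h]
  exact h2

theorem mem_sat_iff_ker (b : Ideal B) (f : B) :
    f ∈ sat k A b ↔ ((b.restrictScalars k).mkQ.rTensor A) (ρB f) = 0 := by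
  rw [mem_sat_iff, ← rTensor_mkQ, LinearMap.mem_ker]

/-- `b° ≤ b`. -/
theorem sat_le (b : Ideal B) : sat k A b ≤ b := by
  intro f hf
  rw [mem_sat_iff] at hf
  obtain ⟨z, hz⟩ := hf
  have hc : (TensorProduct.rid k B) ((ε).lTensor B (ρB f)) = f := by
    have := LinearMap.congr_fun (HopfRep.Comod.counit_comp (k := k) (A := A) (V := B)) f
    simp only [LinearMap.comp_apply] at this
    rw [this]
    simp
  rw [← hc, ← hz]
  clear hz hc
  induction z using TensorProduct.induction_on with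
  | zero => simp
  | add x y hx hy =>
    rw [map_add, map_add, map_add]
    exact b.add_mem hx hy
  | tmul y a =>
    rw [LinearMap.rTensor_tmul, LinearMap.lTensor_tmul, TensorProduct.rid_tmul]
    exact Submodule.smul_of_tower_mem b _ y.2

/-- `b°` is a subcomodule (for flat `A`). -/
theorem isSubcomod_sat [Module.Flat k A] (b : Ideal B) :
    HopfRep.IsSubcomod (k := k) (A := A) ((sat k A b).restrictScalars k) := by
  intro f hf
  have hf' : f ∈ sat k A b := hf
  set N := b.restrictScalars k with hN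
  set N' := (sat k A b).restrictScalars k with hN'
  let θ : B →ₗ[k] (B ⧸ N) ⊗[k] A := (N.mkQ.rTensor A) ∘ₗ ρB
  have hex : Function.Exact N'.subtype θ := by
    intro x
    constructor
    · intro hx
      have : x ∈ sat k A b := (mem_sat_iff_ker b x).mpr hx
      exact ⟨⟨x, this⟩, rfl⟩
    · rintro ⟨y, rfl⟩
      exact (mem_sat_iff_ker b y.1).mp y.2
  have hex' := Module.Flat.rTensor_exact A hex
  refine LinearMap.mem_range.mpr ((hex' (ρB f)).mp ?_)
  -- `(θ ⊗ id)(ρ f) = 0`
  have hθf : θ f = 0 := (mem_sat_iff_ker b f).mp hf'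
  have h1 : (TensorProduct.assoc k (B ⧸ N) A A).toLinearMap ∘ₗ (θ.rTensor A) ∘ₗ ρB =
      ((Δ).lTensor (B ⧸ N)) ∘ₗ θ := by
    have hco := HopfRep.Comod.coassoc (k := k) (A := A) (V := B)
    have e1 : (TensorProduct.assoc k (B ⧸ N) A A).toLinearMap ∘ₗ ((N.mkQ.rTensor A).rTensor A) =
        (N.mkQ.rTensor (A ⊗[k] A)) ∘ₗ (TensorProduct.assoc k B A A).toLinearMap :=
      TensorProduct.ext_threefold (fun _ _ _ => rfl)
    have e2 : (N.mkQ.rTensor (A ⊗[k] A)) ∘ₗ ((Δ).lTensor B) =
        ((Δ).lTensor (B ⧸ N)) ∘ₗ (N.mkQ.rTensor A) := by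
      rw [LinearMap.rTensor_comp_lTensor, LinearMap.lTensor_comp_rTensor]
    calc (TensorProduct.assoc k (B ⧸ N) A A).toLinearMap ∘ₗ (θ.rTensor A) ∘ₗ ρB
        = ((TensorProduct.assoc k (B ⧸ N) A A).toLinearMap ∘ₗ ((N.mkQ.rTensor A).rTensor A)) ∘ₗ
            ((ρB).rTensor A ∘ₗ ρB) := by
          rw [LinearMap.rTensor_comp]
          rfl
      _ = (N.mkQ.rTensor (A ⊗[k] A)) ∘ₗ
            ((TensorProduct.assoc k B A A).toLinearMap ∘ₗ (ρB).rTensor A ∘ₗ ρB) := by
          rw [e1]
          rfl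
      _ = ((N.mkQ.rTensor (A ⊗[k] A)) ∘ₗ ((Δ).lTensor B)) ∘ₗ ρB := by
          rw [hco]
          rfl
      _ = ((Δ).lTensor (B ⧸ N)) ∘ₗ θ := by
          rw [e2]
          rfl
  have h2 := LinearMap.congr_fun h1 f
  simp only [LinearMap.comp_apply, LinearEquiv.coe_coe] at h2
  rw [hθf, map_zero] at h2
  exact (TensorProduct.assoc k (B ⧸ N) A A).injective (h2.trans (map_zero _).symm)

/-- `b ≤ rad b°` when `ρ(b) ⊆ rad(b (B ⊗ A))`. -/
theorem le_radical_sat (b : Ideal B)
    (hb : ∀ f ∈ b, (GLin.coactAlgHom k A B).toRingHom f ∈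
      (b.map (Algebra.TensorProduct.includeLeftRingHom : B →+* B ⊗[k] A)).radical) :
    b ≤ (sat k A b).radical := by
  intro f hf
  obtain ⟨n, hn⟩ := hb f hf
  refine ⟨n, ?_⟩
  rw [sat, Ideal.mem_comap, map_pow]
  exact hn

end Groth.Agent.Lib.CatQuot24
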