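import Mathlib

/-!
# The Cauchy–Binet formula

For `A : Matrix m E R` and `B : Matrix E m R`:
`det (A * B) = ∑_{S ⊆ E, #S = #m} det (A[:, S]) * det (B[S, :])`, where the columns/rows are
extracted along any bijection `m ≃ S` (the product of the two minors does not depend on it).
-/

set_option autoImplicit false
set_option linter.unusedSectionVars false
open Finset Function Equiv

namespace Groth.Agent.Lib.CauchyBinet

variable {m E R : Type*} [Fintype m] [DecidableEq m] [Fintype E] [DecidableEq E] [CommRing R]

/-- First step: expansion of `det (A * B)` over all functions `m → E`. -/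
theorem det_mul_eq_sum_fun (A : Matrix m E R) (B : Matrix E m R) :
    (A * B).det = ∑ p : m → E, (A.submatrix id p).det * ∏ i, B (p i) i := by
  calc (A * B).det
      = ∑ p : m → E, ∑ σ : Perm m, (Perm.sign σ : ℤ) * ∏ i, A (σ i) (p i) * B (p i) i := by
        simp only [Matrix.det_apply', Matrix.mul_apply, prod_univ_sum, mul_sum,
          Fintype.piFinset_univ]
        rw [Finset.sum_comm]
    _ = ∑ p : m → E, (A.submatrix id p).det * ∏ i, B (p i) i := by
        refine Finset.sum_congr rfl fun p _ => ?_
        rw [Matrix.det_apply', Finset.sum_mul]
        refine Finset.sum_congr rfl fun σ _ => ?_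
        simp only [Matrix.submatrix_apply, id_eq, prod_mul_distrib]
        ring

/-- Second step: only injective functions contribute. -/
theorem det_mul_eq_sum_inj (A : Matrix m E R) (B : Matrix E m R) :
    (A * B).det = ∑ p : m → E with Injective p, (A.submatrix id p).det * ∏ i, B (p i) i := by
  rw [det_mul_eq_sum_fun]
  refine (Finset.sum_subset (Finset.filter_subset _ _) fun p _ hp => ?_).symm
  have hp' : ¬ Injective p := by simpa only [mem_filter_univ] using hp
  obtain ⟨i, j, hpij, hij⟩ : ∃ i j, p i = p j ∧ i ≠ j := by
    rw [Injective] at hp'
    push Not at hp'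
    exact hp'
  rw [Matrix.det_zero_of_column_eq hij, zero_mul]
  intro k
  simp [hpij]

/-- The contribution of the functions with a given image `S`, computed along a bijection
`q : m ≃ S`. -/
theorem sum_image_eq (A : Matrix m E R) (B : Matrix E m R) (S : Finset E) (q : m ≃ S) :
    ∑ p : m → E with (Injective p ∧ univ.image p = S),
        (A.submatrix id p).det * ∏ i, B (p i) i =
      (A.submatrix id (fun i => (q i : E))).det * (B.submatrix (fun i => (q i : E)) id).det := by
  have hq_inj : Injective (fun i => (q i : E)) := fun i j h => q.injective (Subtype.ext h)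
  -- reindex by permutations
  have hbij : ∑ p : m → E with (Injective p ∧ univ.image p = S),
        (A.submatrix id p).det * ∏ i, B (p i) i =
      ∑ τ : Perm m, (A.submatrix id (fun i => (q (τ i) : E))).det * ∏ i, B (q (τ i) : E) i := by
    symm
    refine Finset.sum_bij (fun τ _ => fun i => (q (τ i) : E)) ?_ ?_ ?_ ?_
    · intro τ _
      rw [Finset.mem_filter]
      refine ⟨Finset.mem_univ _, fun i j h => τ.injective (hq_inj h), ?_⟩
      ext e
      simp only [Finset.mem_image, Finset.mem_univ, true_and]
      constructor
      · rintro ⟨i, rfl⟩
        exact (q (τ i)).2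
      · intro he
        refine ⟨τ.symm (q.symm ⟨e, he⟩), ?_⟩
        simp
    · intro τ _ τ' _ h
      ext i
      have := congrFun h i
      exact q.injective (Subtype.ext this)
    · intro p hp
      rw [Finset.mem_filter] at hp
      obtain ⟨-, hpinj, hpim⟩ := hp
      have hmem : ∀ i, p i ∈ S := fun i => by
        rw [← hpim]
        exact Finset.mem_image_of_mem _ (Finset.mem_univ _)
      let f : m → m := fun i => q.symm ⟨p i, hmem i⟩
      have hf : Injective f := by
        intro i j h
        have := q.symm.injective h
        exact hpinj (Subtype.ext_iff.mp this)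
      refine ⟨Equiv.ofBijective f (Finite.injective_iff_bijective.mp hf), Finset.mem_univ _, ?_⟩
      funext i
      simp [f]
    · intro τ _
      rfl
  rw [hbij]
  have h1 : ∀ τ : Perm m, (A.submatrix id (fun i => (q (τ i) : E))).det =
      (Perm.sign τ : ℤ) * (A.submatrix id (fun i => (q i : E))).det := by
    intro τ
    have : A.submatrix id (fun i => (q (τ i) : E)) =
        (A.submatrix id (fun i => (q i : E))).submatrix id τ := by
      ext i j
      rfl
    rw [this, Matrix.det_permute']
  simp only [h1]
  rw [Matrix.det_apply' (B.submatrix (fun i => (q i : E)) id), Finset.mul_sum]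
  refine Finset.sum_congr rfl fun τ _ => ?_
  simp only [Matrix.submatrix_apply, id_eq]
  ring

/-- **Cauchy–Binet**, with the sum over the subsets of `E` of cardinality `#m` written through
the fibres of `p ↦ image p`. -/
theorem det_mul_eq_sum_powersetCard (A : Matrix m E R) (B : Matrix E m R) :
    (A * B).det = ∑ S ∈ (univ : Finset E).powersetCard (Fintype.card m),
      ∑ p : m → E with (Injective p ∧ univ.image p = S),
        (A.submatrix id p).det * ∏ i, B (p i) i := by
  rw [det_mul_eq_sum_inj]
  rw [← Finset.sum_fiberwise_of_maps_to (s := univ.filter (fun p : m → E => Injective p))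
    (t := (univ : Finset E).powersetCard (Fintype.card m)) (g := fun p => univ.image p)]
  · refine Finset.sum_congr rfl fun S _ => ?_
    refine Finset.sum_congr ?_ fun _ _ => rfl
    ext p
    simp only [Finset.mem_filter, Finset.mem_univ, true_and]
  · intro p hp
    rw [Finset.mem_filter] at hp
    rw [Finset.mem_powersetCard]
    exact ⟨Finset.subset_univ _, by rw [Finset.card_image_of_injective _ hp.2, Finset.card_univ]⟩

end Groth.Agent.Lib.CauchyBinet
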