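import Mathlib.GroupTheory.CosetCover
import Mathlib.LinearAlgebra.Dual.Lemmas
import Mathlib.RingTheory.MvPolynomial.Homogeneous
import Mathlib.LinearAlgebra.Projectivization.Basic

/-!
# Cayley–Bacharach for finite point sets (helper45)

Abstract linear algebra behind the Cayley–Bacharach property of a finite family of vectors
`v : ι → (σ → k)` with respect to forms of degree `n`:

* `exists_weights`: if every form of degree `n` vanishing at all `v j`, `j ≠ i`, vanishes at `v i`
  (for every `i`), then there are weights `c i ≠ 0` with `∑ i, c i * p (v i) = 0` for every form `p`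
  of degree `n` (needs `k` infinite).
* `finrank_add_finrank_le_card`: two subspaces of `ι → k` orthogonal for the diagonal form
  `∑ c i * f i * h i` with all `c i ≠ 0` have `finrank V₁ + finrank V₂ ≤ card ι`.
* `finrank_range_evalMap_add_le`: the resulting rank bound.
-/

set_option autoImplicit false

namespace Groth.Agent.Lib.CayleyBacharach

open MvPolynomial Module

variable {k : Type*} [Field k] {σ : Type*} {ι : Type*} [Fintype ι]

/-- evaluation of the forms of degree `d` at the family `v`. -/
noncomputable def evalMap (v : ι → σ → k) (d : ℕ) :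
    ↥(homogeneousSubmodule σ k d) →ₗ[k] (ι → k) :=
  (LinearMap.pi fun i : ι => (MvPolynomial.aeval (R := k) (v i)).toLinearMap) ∘ₗ
    (homogeneousSubmodule σ k d).subtype

theorem evalMap_apply (v : ι → σ → k) (d : ℕ) (p : ↥(homogeneousSubmodule σ k d)) (i : ι) :
    evalMap v d p i = MvPolynomial.eval (v i) p.1 := by
  simp [evalMap, MvPolynomial.aeval_eq_eval]

/-- a subspace of `ι → k` (over an infinite field) which is in no coordinate hyperplane contains a
vector with all coordinates nonzero. -/
theorem exists_forall_ne_zero [Infinite k] (W : Submodule k (ι → k))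
    (h : ∀ i, ∃ c ∈ W, c i ≠ 0) : ∃ c ∈ W, ∀ i, c i ≠ 0 := by
  classical
  by_contra hcon
  push Not at hcon
  let p : ι → Subspace k ↥W := fun i => LinearMap.ker ((LinearMap.proj i : (ι → k) →ₗ[k] k) ∘ₗ W.subtype)
  have hcov : ⋃ i, (p i : Set ↥W) = Set.univ := by
    apply Set.eq_univ_of_forall
    intro c
    obtain ⟨i, hi⟩ := hcon c.1 c.2
    exact Set.mem_iUnion.mpr ⟨i, by simpa [p] using hi⟩
  obtain ⟨i, hi⟩ := Subspace.exists_eq_top_of_iUnion_eq_univ hcov
  obtain ⟨c, hcW, hci⟩ := h i
  have : (⟨c, hcW⟩ : ↥W) ∈ p i := by rw [hi]; trivial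
  exact hci (by simpa [p] using this)

theorem exists_weights [Infinite k] (v : ι → σ → k) (n : ℕ)
    (hCB : ∀ i, ∀ p : MvPolynomial σ k, p.IsHomogeneous n →
      (∀ j, j ≠ i → MvPolynomial.eval (v j) p = 0) → MvPolynomial.eval (v i) p = 0) :
    ∃ c : ι → k, (∀ i, c i ≠ 0) ∧
      ∀ p : MvPolynomial σ k, p.IsHomogeneous n → ∑ i, c i * MvPolynomial.eval (v i) p = 0 := by
  classical
  let L : ι → ↥(homogeneousSubmodule σ k n) →ₗ[k] k := fun i =>
    (MvPolynomial.aeval (R := k) (v i)).toLinearMap ∘ₗ (homogeneousSubmodule σ k n).subtype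
  have hL : ∀ i (p : ↥(homogeneousSubmodule σ k n)), L i p = MvPolynomial.eval (v i) p.1 := by
    intro i p
    simp [L, MvPolynomial.aeval_eq_eval]
  let W : Submodule k (ι → k) :=
    { carrier := {c | ∀ p : ↥(homogeneousSubmodule σ k n), ∑ i, c i * L i p = 0}
      add_mem' := by
        intro a b ha hb p
        simp only [Pi.add_apply, add_mul, Finset.sum_add_distrib]
        rw [ha p, hb p, add_zero]
      zero_mem' := by
        intro p
        simp
      smul_mem' := by
        intro r a ha p
        simp only [Pi.smul_apply, smul_eq_mul, mul_assoc]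
        rw [← Finset.mul_sum, ha p, mul_zero] }
  have hW : ∀ i, ∃ c ∈ W, c i ≠ 0 := by
    intro i
    let L' : ι → ↥(homogeneousSubmodule σ k n) →ₗ[k] k := fun j => if j = i then 0 else L j
    have hker : ⨅ j, LinearMap.ker (L' j) ≤ LinearMap.ker (L i) := by
      intro p hp
      rw [Submodule.mem_iInf] at hp
      rw [LinearMap.mem_ker, hL]
      apply hCB i p.1 ((mem_homogeneousSubmodule _ _).mp p.2)
      intro j hj
      have := hp j
      simp only [L', if_neg hj, LinearMap.mem_ker] at this
      rw [← hL]; exact this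
    obtain ⟨a, ha⟩ := (Submodule.mem_span_range_iff_exists_fun k).1 (mem_span_of_iInf_ker_le_ker hker)
    refine ⟨fun j => if j = i then -1 else a j, ?_, ?_⟩
    · intro p
      have hp : ∑ j, a j * L' j p = L i p := by
        have := LinearMap.congr_fun ha p
        simpa [LinearMap.sum_apply] using this
      have hterm : ∀ j, (if j = i then (-1 : k) else a j) * L j p
          = a j * L' j p - (if j = i then L i p else 0) := by
        intro j
        by_cases hj : j = i
        · subst hj; simp [L']
        · simp [L', hj]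
      show ∑ j, (if j = i then (-1 : k) else a j) * L j p = 0
      rw [Finset.sum_congr rfl (fun j _ => hterm j), Finset.sum_sub_distrib, hp,
        Finset.sum_ite_eq' Finset.univ i, if_pos (Finset.mem_univ i), sub_self]
    · simp
  obtain ⟨c, hcW, hc⟩ := exists_forall_ne_zero W hW
  refine ⟨c, hc, ?_⟩
  intro p hp
  have := hcW ⟨p, (mem_homogeneousSubmodule _ _).mpr hp⟩
  simpa [hL] using this

theorem finrank_add_finrank_le_card (c : ι → k) (hc : ∀ i, c i ≠ 0)
    (V₁ V₂ : Submodule k (ι → k))
    (horth : ∀ f ∈ V₁, ∀ h ∈ V₂, ∑ i, c i * (f i * h i) = 0) :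
    finrank k ↥V₁ + finrank k ↥V₂ ≤ Fintype.card ι := by
  classical
  let Ψ : (ι → k) →ₗ[k] Module.Dual k (ι → k) :=
    Fintype.linearCombination k (fun i => c i • (LinearMap.proj i : (ι → k) →ₗ[k] k))
  have hΨ : ∀ f h, Ψ f h = ∑ i, c i * (f i * h i) := by
    intro f h
    simp only [Ψ, Fintype.linearCombination_apply, LinearMap.sum_apply, LinearMap.smul_apply,
      LinearMap.proj_apply, smul_eq_mul]
    apply Finset.sum_congr rfl
    intro i _
    ring
  have hinj : Function.Injective Ψ := by
    rw [← LinearMap.ker_eq_bot, LinearMap.ker_eq_bot']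
    intro f hf
    funext j
    have := hΨ f (Pi.single j 1)
    rw [hf, LinearMap.zero_apply] at this
    have h2 : ∑ i, c i * (f i * (Pi.single j (1 : k) : ι → k) i) = c j * f j := by
      rw [Finset.sum_eq_single j]
      · simp
      · intro i _ hij
        simp [Pi.single_apply, hij]
      · intro h; exact absurd (Finset.mem_univ j) h
    rw [h2] at this
    rcases mul_eq_zero.mp this.symm with h | h
    · exact absurd h (hc j)
    · exact h
  have hle : V₁.map Ψ ≤ V₂.dualAnnihilator := by
    rintro _ ⟨f, hf, rfl⟩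
    rw [Submodule.mem_dualAnnihilator]
    intro h hh
    rw [hΨ]
    exact horth f hf h hh
  have h1 : finrank k ↥(V₁.map Ψ) = finrank k ↥V₁ :=
    (Submodule.equivMapOfInjective Ψ hinj V₁).finrank_eq.symm
  have h2 := Subspace.finrank_add_finrank_dualAnnihilator_eq V₂
  have h3 : finrank k ↥(V₁.map Ψ) ≤ finrank k ↥V₂.dualAnnihilator := Submodule.finrank_mono hle
  have h4 : finrank k (ι → k) = Fintype.card ι := Module.finrank_fintype_fun_eq_card k
  omega

theorem finrank_range_evalMap_add_le [Infinite k] (v : ι → σ → k) (n m : ℕ) (hm : m ≤ n)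
    (hCB : ∀ i, ∀ p : MvPolynomial σ k, p.IsHomogeneous n →
      (∀ j, j ≠ i → MvPolynomial.eval (v j) p = 0) → MvPolynomial.eval (v i) p = 0) :
    finrank k ↥(LinearMap.range (evalMap v m)) + finrank k ↥(LinearMap.range (evalMap v (n - m)))
      ≤ Fintype.card ι := by
  obtain ⟨c, hc, hsum⟩ := exists_weights v n hCB
  apply finrank_add_finrank_le_card c hc
  rintro _ ⟨p, rfl⟩ _ ⟨q, rfl⟩
  have hpq : (p.1 * q.1).IsHomogeneous n := by
    have := ((mem_homogeneousSubmodule _ _).mp p.2).mul ((mem_homogeneousSubmodule _ _).mp q.2)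
    rwa [Nat.add_sub_cancel' hm] at this
  have := hsum _ hpq
  simpa [evalMap_apply] using this

end Groth.Agent.Lib.CayleyBacharach
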