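import Groth.Agent.Lib.CayleyBacharach
import Mathlib.LinearAlgebra.Basis.VectorSpace
import Mathlib.LinearAlgebra.Dimension.Constructions
import Mathlib.Tactic.Linarith

/-!
# Cayley–Bacharach point sets in projective space: lower bound and collinearity (helper45)

`CB Z n`: the finite set `Z` of points of `ℙ(σ → k)` has the Cayley–Bacharach property for forms
of degree `n`.  Results: `CB.card_ge` (`n + 2 ≤ |Z|` for nonempty `Z`), `CB.filter`
(removing a hyperplane section gives `CB (n-1)`), `CB.collinear` (`|Z| ≤ 2n+1` ⟹ collinear).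
-/

set_option autoImplicit false

namespace Groth.Agent.Lib.CayleyBacharach

open MvPolynomial Module

variable {k : Type*} [Field k] {σ : Type*} [Fintype σ] [DecidableEq σ]

/-- the linear form attached to a linear functional on `σ → k`. -/
noncomputable def linForm (f : (σ → k) →ₗ[k] k) : MvPolynomial σ k :=
  ∑ i, C (f (fun j => if i = j then 1 else 0)) * X i

theorem linForm_isHomogeneous (f : (σ → k) →ₗ[k] k) : (linForm f).IsHomogeneous 1 := by
  apply IsHomogeneous.sum
  intro i _
  have := (isHomogeneous_C σ (f (fun j => if i = j then 1 else 0))).mul (isHomogeneous_X k i)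
  simpa using this

theorem eval_linForm (f : (σ → k) →ₗ[k] k) (v : σ → k) : eval v (linForm f) = f v := by
  rw [LinearMap.pi_apply_eq_sum_univ f v]
  simp [linForm, eval_sum, mul_comm]

/-- Cayley–Bacharach property in degree `n`. -/
def CB (Z : Finset (Projectivization k (σ → k))) (n : ℕ) : Prop :=
  ∀ z ∈ Z, ∀ p : MvPolynomial σ k, p.IsHomogeneous n →
    (∀ z' ∈ Z, z' ≠ z → MvPolynomial.eval z'.rep p = 0) → MvPolynomial.eval z.rep p = 0

theorem rep_notMem_span_of_ne {z z' : Projectivization k (σ → k)} (h : z ≠ z') :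
    z.rep ∉ Submodule.span k {z'.rep} := by
  intro hmem
  apply h
  have h1 : z.submodule ≤ z'.submodule := by
    rw [Projectivization.submodule_eq, Projectivization.submodule_eq, Submodule.span_singleton_le_iff_mem]
    exact hmem
  have h2 : z.submodule = z'.submodule := by
    apply Submodule.eq_of_le_of_finrank_eq h1
    rw [Projectivization.finrank_submodule, Projectivization.finrank_submodule]
  exact Projectivization.submodule_injective h2

/-- separating functional: vanishes at `z'`, not at `z`. -/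
theorem exists_sep {z z' : Projectivization k (σ → k)} (h : z ≠ z') :
    ∃ f : (σ → k) →ₗ[k] k, f z'.rep = 0 ∧ f z.rep ≠ 0 := by
  obtain ⟨f, hf, hle⟩ := Submodule.exists_le_ker_of_notMem (rep_notMem_span_of_ne h)
  exact ⟨f, hle (Submodule.mem_span_singleton_self _), hf⟩

theorem CB.card_ge {Z : Finset (Projectivization k (σ → k))} {n : ℕ} (hCB : CB Z n)
    (hZ : Z.Nonempty) : n + 2 ≤ Z.card := by
  classical
  by_contra hlt
  rw [not_le] at hlt
  obtain ⟨z, hz⟩ := hZ
  have hcard : (Z.erase z).card + 1 = Z.card := Finset.card_erase_add_one hz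
  have hr : (Z.erase z).card ≤ n := by omega
  have hsep : ∀ z' : Projectivization k (σ → k), ∃ f : (σ → k) →ₗ[k] k,
      z' ≠ z → (f z'.rep = 0 ∧ f z.rep ≠ 0) := by
    intro z'
    by_cases h : z' = z
    · exact ⟨0, fun h' => absurd h h'⟩
    · obtain ⟨f, hf⟩ := exists_sep (Ne.symm h)
      exact ⟨f, fun _ => hf⟩
  choose F hF using hsep
  obtain ⟨f₀, hf₀, -⟩ := Submodule.exists_le_ker_of_notMem (p := (⊥ : Submodule k (σ → k)))
    (v := z.rep) (by simpa using z.rep_nonzero)
  let p : MvPolynomial σ k := (∏ z' ∈ Z.erase z, linForm (F z')) * (linForm f₀) ^ (n - (Z.erase z).card)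
  have hp : p.IsHomogeneous n := by
    have h1 : (∏ z' ∈ Z.erase z, linForm (F z')).IsHomogeneous (∑ _z' ∈ Z.erase z, 1) :=
      IsHomogeneous.prod _ _ _ (fun z' _ => linForm_isHomogeneous (F z'))
    have h2 := (linForm_isHomogeneous f₀).pow (n - (Z.erase z).card)
    have h3 := h1.mul h2
    have h4 : (∑ _z' ∈ Z.erase z, 1) + 1 * (n - (Z.erase z).card) = n := by
      rw [Finset.sum_const, smul_eq_mul, mul_one, one_mul]
      omega
    rwa [h4] at h3
  have hvan : ∀ z' ∈ Z, z' ≠ z → MvPolynomial.eval z'.rep p = 0 := by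
    intro z' hz' hne
    have hmem : z' ∈ Z.erase z := Finset.mem_erase.mpr ⟨hne, hz'⟩
    simp only [p, map_mul, map_prod, map_pow]
    rw [Finset.prod_eq_zero hmem, zero_mul]
    rw [eval_linForm]
    exact (hF z' hne).1
  have h0 := hCB z hz p hp hvan
  simp only [p, map_mul, map_prod, map_pow, eval_linForm] at h0
  rcases mul_eq_zero.mp h0 with h | h
  · rw [Finset.prod_eq_zero_iff] at h
    obtain ⟨z', hz', hz0⟩ := h
    exact (hF z' (Finset.ne_of_mem_erase hz')).2 hz0
  · exact hf₀ (eq_zero_of_pow_eq_zero h)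

/-- removing the points on the hyperplane `f = 0` gives a Cayley–Bacharach set of degree `n-1`. -/
theorem CB.filter {Z : Finset (Projectivization k (σ → k))} {n : ℕ} (hCB : CB Z (n + 1))
    (f : (σ → k) →ₗ[k] k) [DecidablePred fun z : Projectivization k (σ → k) => f z.rep ≠ 0] :
    CB (Z.filter fun z => f z.rep ≠ 0) n := by
  intro z hz p hp hvan
  rw [Finset.mem_filter] at hz
  have hq : (p * linForm f).IsHomogeneous (n + 1) := hp.mul (linForm_isHomogeneous f)
  have h0 := hCB z hz.1 (p * linForm f) hq (by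
    intro z' hz' hne
    rw [map_mul, eval_linForm]
    by_cases hf : f z'.rep = 0
    · rw [hf, mul_zero]
    · rw [hvan z' (Finset.mem_filter.mpr ⟨hz', hf⟩) hne, zero_mul])
  rw [map_mul, eval_linForm] at h0
  rcases mul_eq_zero.mp h0 with h | h
  · exact h
  · exact absurd h hz.2

/-- a hyperplane not containing `Z` contains at most `|Z| - (n+1)` points of `Z`. -/
theorem CB.card_filter_ge {Z : Finset (Projectivization k (σ → k))} {n : ℕ} (hCB : CB Z (n + 1))
    (f : (σ → k) →ₗ[k] k) [DecidablePred fun z : Projectivization k (σ → k) => f z.rep ≠ 0]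
    (w : Projectivization k (σ → k)) (hw : w ∈ Z) (hfw : f w.rep ≠ 0) :
    n + 2 ≤ (Z.filter fun z => f z.rep ≠ 0).card :=
  (hCB.filter f).card_ge ⟨w, Finset.mem_filter.mpr ⟨hw, hfw⟩⟩

theorem CB.collinear : ∀ (n : ℕ) (Z : Finset (Projectivization k (σ → k))), CB Z (n + 1) →
    Z.Nonempty → Z.card ≤ 2 * (n + 1) + 1 →
    ∃ W : Submodule k (σ → k), finrank k ↥W = 2 ∧ ∀ z ∈ Z, z.rep ∈ W := by
  classical
  intro n
  induction n with
  | zero =>
    intro Z hCB hZ hcard
    have hge := hCB.card_ge hZ
    -- pick two distinct points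
    obtain ⟨p, hp, q, hq, hpq⟩ := Finset.one_lt_card.mp (by omega : 1 < Z.card)
    let W₀ : Submodule k (σ → k) := Submodule.span k (Set.range ![p.rep, q.rep])
    have hW₀ : finrank k ↥W₀ = 2 := by
      have := finrank_span_eq_card (Projectivization.linearIndependent_pair_iff_ne.mpr hpq)
      simpa using this
    have hpW : p.rep ∈ W₀ := Submodule.subset_span ⟨0, rfl⟩
    have hqW : q.rep ∈ W₀ := Submodule.subset_span ⟨1, rfl⟩
    refine ⟨W₀, hW₀, ?_⟩
    intro w hw
    by_contra hwW
    obtain ⟨f, hfw, hle⟩ := Submodule.exists_le_ker_of_notMem hwW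
    have h1 := hCB.card_filter_ge f w hw hfw
    have hsub : (Z.filter fun z => f z.rep ≠ 0) ⊆ (Z.erase p).erase q := by
      intro z hz
      rw [Finset.mem_filter] at hz
      rw [Finset.mem_erase, Finset.mem_erase]
      refine ⟨?_, ?_, hz.1⟩
      · rintro rfl; exact hz.2 (hle hqW)
      · rintro rfl; exact hz.2 (hle hpW)
    have h2 := Finset.card_le_card hsub
    have h3 : ((Z.erase p).erase q).card + 2 = Z.card := by
      rw [← Finset.card_erase_add_one hp, ← Finset.card_erase_add_one
        (Finset.mem_erase.mpr ⟨Ne.symm hpq, hq⟩)]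
    omega
  | succ n ih =>
    intro Z hCB hZ hcard
    have hge := hCB.card_ge hZ
    obtain ⟨p, hp, q, hq, hpq⟩ := Finset.one_lt_card.mp (by omega : 1 < Z.card)
    let W₀ : Submodule k (σ → k) := Submodule.span k (Set.range ![p.rep, q.rep])
    have hW₀ : finrank k ↥W₀ = 2 := by
      have := finrank_span_eq_card (Projectivization.linearIndependent_pair_iff_ne.mpr hpq)
      simpa using this
    have hpW : p.rep ∈ W₀ := Submodule.subset_span ⟨0, rfl⟩
    have hqW : q.rep ∈ W₀ := Submodule.subset_span ⟨1, rfl⟩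
    by_cases hall : ∀ z ∈ Z, z.rep ∈ W₀
    · exact ⟨W₀, hW₀, hall⟩
    push Not at hall
    obtain ⟨w, hw, hwW⟩ := hall
    obtain ⟨f, hfw, hle⟩ := Submodule.exists_le_ker_of_notMem hwW
    have h1 := hCB.card_filter_ge f w hw hfw
    have hsub : (Z.filter fun z => f z.rep ≠ 0) ⊆ (Z.erase p).erase q := by
      intro z hz
      rw [Finset.mem_filter] at hz
      rw [Finset.mem_erase, Finset.mem_erase]
      refine ⟨?_, ?_, hz.1⟩
      · rintro rfl; exact hz.2 (hle hqW)
      · rintro rfl; exact hz.2 (hle hpW)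
    have h2 := Finset.card_le_card hsub
    have h3 : ((Z.erase p).erase q).card + 2 = Z.card := by
      rw [← Finset.card_erase_add_one hp, ← Finset.card_erase_add_one
        (Finset.mem_erase.mpr ⟨Ne.symm hpq, hq⟩)]
    obtain ⟨W', hW', hZ'⟩ := ih (Z.filter fun z => f z.rep ≠ 0) (hCB.filter f)
      ⟨w, Finset.mem_filter.mpr ⟨hw, hfw⟩⟩ (by omega)
    by_cases hall' : ∀ z ∈ Z, z.rep ∈ W'
    · exact ⟨W', hW', hall'⟩
    push Not at hall'
    obtain ⟨w', hw', hw'W⟩ := hall'
    obtain ⟨f', hfw', hle'⟩ := Submodule.exists_le_ker_of_notMem hw'W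
    have h4 := hCB.card_filter_ge f' w' hw' hfw'
    -- the points of Z outside `f' = 0` are disjoint from the points outside `f = 0`
    have hdisj : Disjoint (Z.filter fun z => f' z.rep ≠ 0) (Z.filter fun z => f z.rep ≠ 0) := by
      rw [Finset.disjoint_left]
      intro z hz1 hz2
      rw [Finset.mem_filter] at hz1
      exact hz1.2 (hle' (hZ' z hz2))
    have h5 : (Z.filter fun z => f' z.rep ≠ 0).card + (Z.filter fun z => f z.rep ≠ 0).card
        ≤ Z.card := by
      rw [← Finset.card_union_of_disjoint hdisj]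
      apply Finset.card_le_card
      intro z hz
      rcases Finset.mem_union.mp hz with h | h
      · exact (Finset.mem_filter.mp h).1
      · exact (Finset.mem_filter.mp h).1
    omega

end Groth.Agent.Lib.CayleyBacharach
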