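import Groth.Agent.Lib.CayleyBacharachLine
import Mathlib.LinearAlgebra.FiniteDimensional.Lemmas
import Mathlib.LinearAlgebra.FiniteDimensional.Basic

/-!
# Cayley–Bacharach point sets with at most `3n+1` points: a plane or two skew lines (helper45)
-/

set_option autoImplicit false

namespace Groth.Agent.Lib.CayleyBacharach

open MvPolynomial Module

variable {k : Type*} [Field k] {σ : Type*} [Fintype σ] [DecidableEq σ]

local notation "ℙV" => Projectivization k (σ → k)

/-- removing the points in a subspace `H` gives a Cayley–Bacharach set of degree `n-1`. -/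
theorem CB.filter_submodule {Z : Finset ℙV} {n : ℕ} (hCB : CB Z (n + 1))
    (H : Submodule k (σ → k)) [DecidablePred fun z : ℙV => z.rep ∉ H] :
    CB (Z.filter fun z => z.rep ∉ H) n := by
  intro z hz p hp hvan
  rw [Finset.mem_filter] at hz
  obtain ⟨f, hfz, hle⟩ := Submodule.exists_le_ker_of_notMem hz.2
  have hq : (p * linForm f).IsHomogeneous (n + 1) := hp.mul (linForm_isHomogeneous f)
  have h0 := hCB z hz.1 (p * linForm f) hq (by
    intro z' hz' hne
    rw [map_mul, eval_linForm]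
    by_cases hH : z'.rep ∈ H
    · rw [show f z'.rep = 0 from hle hH, mul_zero]
    · rw [hvan z' (Finset.mem_filter.mpr ⟨hz', hH⟩) hne, zero_mul])
  rw [map_mul, eval_linForm] at h0
  rcases mul_eq_zero.mp h0 with h | h
  · exact h
  · exact absurd h hfz

theorem CB.card_filter_submodule_ge {Z : Finset ℙV} {n : ℕ} (hCB : CB Z (n + 1))
    (H : Submodule k (σ → k)) [DecidablePred fun z : ℙV => z.rep ∉ H]
    (w : ℙV) (hw : w ∈ Z) (hwH : w.rep ∉ H) :
    n + 2 ≤ (Z.filter fun z => z.rep ∉ H).card :=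
  (hCB.filter_submodule H).card_ge ⟨w, Finset.mem_filter.mpr ⟨hw, hwH⟩⟩

/-- `Z` lies in a subspace of dimension at most `3`. -/
def Coplanar (Z : Finset ℙV) : Prop :=
  ∃ H : Submodule k (σ → k), finrank k ↥H ≤ 3 ∧ ∀ z ∈ Z, z.rep ∈ H

/-- `Z` lies on two skew lines, each with at least `n+1` points, and `2n+3 ≤ |Z|`. -/
def Skew (Z : Finset ℙV) (n : ℕ) : Prop :=
  ∃ (W₁ W₂ : Submodule k (σ → k)), finrank k ↥W₁ = 2 ∧ finrank k ↥W₂ = 2 ∧
    W₁ ⊓ W₂ = ⊥ ∧ (∀ z ∈ Z, z.rep ∈ W₁ ∨ z.rep ∈ W₂) ∧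
    n + 1 ≤ Set.ncard {z : ℙV | z ∈ Z ∧ z.rep ∈ W₁} ∧
    n + 1 ≤ Set.ncard {z : ℙV | z ∈ Z ∧ z.rep ∈ W₂} ∧
    2 * n + 3 ≤ Z.card

omit [Fintype σ] [DecidableEq σ] in
theorem ncard_eq_card_filter (Z : Finset ℙV) (P : ℙV → Prop) [DecidablePred P] :
    Set.ncard {z : ℙV | z ∈ Z ∧ P z} = (Z.filter P).card := by
  rw [← Finset.coe_filter, Set.ncard_coe_finset]

omit [Fintype σ] [DecidableEq σ] in
theorem coplanar_of_card_le_three (Z : Finset ℙV) (h : Z.card ≤ 3) : Coplanar Z := by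
  classical
  refine ⟨Submodule.span k ((Z.image fun z => z.rep : Finset (σ → k)) : Set (σ → k)), ?_, ?_⟩
  · have h1 := finrank_span_finset_le_card (R := k) (Z.image fun z => z.rep)
    have h2 : (Z.image fun z => z.rep).card ≤ Z.card := Finset.card_image_le
    exact le_trans h1 (le_trans h2 h)
  · intro z hz
    exact Submodule.subset_span (Finset.mem_coe.mpr (Finset.mem_image_of_mem _ hz))

omit [Fintype σ] [DecidableEq σ] in
theorem finrank_sup_span_singleton_le (W : Submodule k (σ → k)) [FiniteDimensional k ↥W]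
    (v : σ → k) (hv : v ≠ 0) :
    finrank k ↥(W ⊔ Submodule.span k {v}) ≤ finrank k ↥W + 1 := by
  have h := Submodule.finrank_add_le_finrank_add_finrank W (Submodule.span k {v})
  rwa [finrank_span_singleton hv] at h

omit [Fintype σ] [DecidableEq σ] in
theorem mem_of_mem_sup_span (W : Submodule k (σ → k)) (a b x : σ → k)
    (hb : b ∉ W ⊔ Submodule.span k {a}) (h1 : x ∈ W ⊔ Submodule.span k {a})
    (h2 : x ∈ W ⊔ Submodule.span k {b}) : x ∈ W := by
  obtain ⟨y₂, hy₂, z₂, hz₂, rfl⟩ := Submodule.mem_sup.mp h2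
  obtain ⟨c, rfl⟩ := Submodule.mem_span_singleton.mp hz₂
  by_cases hc : c = 0
  · simpa [hc] using hy₂
  · exfalso
    apply hb
    have h3 : c • b ∈ W ⊔ Submodule.span k {a} := by
      have : c • b = (y₂ + c • b) - y₂ := by abel
      rw [this]
      exact Submodule.sub_mem _ h1 (Submodule.mem_sup_left hy₂)
    have h4 := Submodule.smul_mem _ c⁻¹ h3
    rwa [smul_smul, inv_mul_cancel₀ hc, one_smul] at h4

omit [DecidableEq σ] in
theorem line_unique {p q : ℙV} (hpq : p ≠ q) {M : Submodule k (σ → k)} (hM : finrank k ↥M = 2)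
    (hp : p.rep ∈ M) (hq : q.rep ∈ M) : M = Submodule.span k (Set.range ![p.rep, q.rep]) := by
  symm
  apply Submodule.eq_of_le_of_finrank_eq
  · rw [Submodule.span_le]
    rintro _ ⟨i, rfl⟩
    fin_cases i
    · exact hp
    · exact hq
  · rw [hM]
    have := finrank_span_eq_card (Projectivization.linearIndependent_pair_iff_ne.mpr hpq)
    simpa using this

/-- base case: a Cayley–Bacharach set of degree `1` with at most `4` points is coplanar. -/
theorem CB.coplanar_one {Z : Finset ℙV} (hCB : CB Z 1) (hcard : Z.card ≤ 4) : Coplanar Z := by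
  classical
  by_cases h3 : Z.card ≤ 3
  · exact coplanar_of_card_le_three Z h3
  have h4 : Z.card = 4 := by omega
  obtain ⟨s, hs⟩ : Z.Nonempty := Finset.card_pos.mp (by omega)
  have he : (Z.erase s).card = 3 := by rw [Finset.card_erase_of_mem hs, h4]
  obtain ⟨H, hH, hHZ⟩ := coplanar_of_card_le_three (Z.erase s) he.le
  by_cases hsH : s.rep ∈ H
  · refine ⟨H, hH, ?_⟩
    intro z hz
    by_cases hzs : z = s
    · rw [hzs]; exact hsH
    · exact hHZ z (Finset.mem_erase.mpr ⟨hzs, hz⟩)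
  · exfalso
    have h1 := hCB.card_filter_submodule_ge H s hs hsH
    have hsub : (Z.filter fun z => z.rep ∉ H) ⊆ {s} := by
      intro z hz
      rw [Finset.mem_filter] at hz
      rw [Finset.mem_singleton]
      by_contra hzs
      exact hz.2 (hHZ z (Finset.mem_erase.mpr ⟨hzs, hz.1⟩))
    have h2 := Finset.card_le_card hsub
    rw [Finset.card_singleton] at h2
    omega

/-- a subspace of dimension `≤ 3` containing the maximal number of points of `Z`. -/
theorem exists_max_plane (Z : Finset ℙV) [∀ H : Submodule k (σ → k), DecidablePred fun z : ℙV => z.rep ∈ H] :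
    ∃ H : Submodule k (σ → k), finrank k ↥H ≤ 3 ∧
      ∀ H₂ : Submodule k (σ → k), finrank k ↥H₂ ≤ 3 →
        (Z.filter fun z => z.rep ∈ H₂).card ≤ (Z.filter fun z => z.rep ∈ H).card := by
  let S : Set ℕ := {m | ∃ H : Submodule k (σ → k), finrank k ↥H ≤ 3 ∧
    (Z.filter fun z => z.rep ∈ H).card = m}
  have hne : S.Nonempty := ⟨_, ⊥, by simp, rfl⟩
  have hbdd : BddAbove S := ⟨Z.card, by rintro m ⟨H, _, rfl⟩; exact Finset.card_filter_le _ _⟩
  obtain ⟨H, hH, hHm⟩ := Nat.sSup_mem hne hbdd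
  refine ⟨H, hH, ?_⟩
  intro H₂ hH₂
  rw [hHm]
  exact le_csSup hbdd ⟨H₂, hH₂, rfl⟩

/-- key step: a line with at least `n+3` points of a non-coplanar Cayley–Bacharach set of degree
`n+2` with at most `3(n+2)+1` points forces two skew lines. -/
theorem CB.two_lines {Z : Finset ℙV} {n : ℕ} (hCB : CB Z (n + 2)) (hcard : Z.card ≤ 3 * (n + 2) + 1)
    (hnc : ¬ Coplanar Z) (W₁ : Submodule k (σ → k)) (hW₁ : finrank k ↥W₁ = 2)
    (hcount : n + 3 ≤ Set.ncard {z : ℙV | z ∈ Z ∧ z.rep ∈ W₁}) : Skew Z (n + 2) := by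
  classical
  rw [ncard_eq_card_filter] at hcount
  have hsplit : (Z.filter fun z => z.rep ∈ W₁).card + (Z.filter fun z => z.rep ∉ W₁).card = Z.card :=
    Finset.card_filter_add_card_filter_not _
  -- facts about the planes through `W₁` and a further point
  have hfacts : ∀ w ∈ Z, w.rep ∉ W₁ →
      ((Z.filter fun z => z.rep ∉ W₁ ⊔ Submodule.span k {w.rep}) ⊆ (Z.filter fun z => z.rep ∉ W₁).erase w) ∧
      n + 3 ≤ (Z.filter fun z => z.rep ∉ W₁ ⊔ Submodule.span k {w.rep}).card ∧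
      ∃ M : Submodule k (σ → k), finrank k ↥M = 2 ∧
        ∀ z ∈ (Z.filter fun z => z.rep ∉ W₁ ⊔ Submodule.span k {w.rep}), z.rep ∈ M := by
    intro w hw hwW
    have hsub : (Z.filter fun z => z.rep ∉ W₁ ⊔ Submodule.span k {w.rep}) ⊆
        (Z.filter fun z => z.rep ∉ W₁).erase w := by
      intro z hz
      rw [Finset.mem_filter] at hz
      rw [Finset.mem_erase, Finset.mem_filter]
      refine ⟨?_, hz.1, fun h => hz.2 (Submodule.mem_sup_left h)⟩
      rintro rfl
      exact hz.2 (Submodule.mem_sup_right (Submodule.mem_span_singleton_self _))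
    have hne : ∃ x ∈ Z, x.rep ∉ W₁ ⊔ Submodule.span k {w.rep} := by
      by_contra hcon
      push Not at hcon
      apply hnc
      refine ⟨W₁ ⊔ Submodule.span k {w.rep}, ?_, hcon⟩
      have := finrank_sup_span_singleton_le W₁ w.rep w.rep_nonzero
      omega
    obtain ⟨x, hx, hxH⟩ := hne
    have hge := hCB.card_filter_submodule_ge (W₁ ⊔ Submodule.span k {w.rep}) x hx hxH
    have hle := Finset.card_le_card hsub
    have hmem : w ∈ Z.filter fun z => z.rep ∉ W₁ := Finset.mem_filter.mpr ⟨hw, hwW⟩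
    rw [Finset.card_erase_of_mem hmem] at hle
    refine ⟨hsub, hge, ?_⟩
    exact CB.collinear n _ (hCB.filter_submodule _) ⟨x, Finset.mem_filter.mpr ⟨hx, hxH⟩⟩ (by omega)
  -- `Z₂` is nonempty
  obtain ⟨w₁, hw₁, hw₁W⟩ : ∃ w ∈ Z, w.rep ∉ W₁ := by
    by_contra hcon
    push Not at hcon
    exact hnc ⟨W₁, by omega, hcon⟩
  obtain ⟨hsub₁, hge₁, M₁, hM₁, hA₁⟩ := hfacts w₁ hw₁ hw₁W
  obtain ⟨w₂, hw₂A⟩ : (Z.filter fun z => z.rep ∉ W₁ ⊔ Submodule.span k {w₁.rep}).Nonempty :=
    Finset.card_pos.mp (by omega)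
  have hw₂ : w₂ ∈ Z := (Finset.mem_filter.mp hw₂A).1
  have hw₂H : w₂.rep ∉ W₁ ⊔ Submodule.span k {w₁.rep} := (Finset.mem_filter.mp hw₂A).2
  have hw₂W : w₂.rep ∉ W₁ := fun h => hw₂H (Submodule.mem_sup_left h)
  obtain ⟨hsub₂, hge₂, M₂, hM₂, hA₂⟩ := hfacts w₂ hw₂ hw₂W
  have hmem₁ : w₁ ∈ Z.filter fun z => z.rep ∉ W₁ := Finset.mem_filter.mpr ⟨hw₁, hw₁W⟩
  have hZ₂card : n + 4 ≤ (Z.filter fun z => z.rep ∉ W₁).card := by
    have := Finset.card_le_card hsub₁
    rw [Finset.card_erase_of_mem hmem₁] at this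
    have hpos : 0 < (Z.filter fun z => z.rep ∉ W₁).card := Finset.card_pos.mpr ⟨w₁, hmem₁⟩
    omega
  -- the two collinear subsets cover `Z₂`
  have hcover : (Z.filter fun z => z.rep ∉ W₁) ⊆
      (Z.filter fun z => z.rep ∉ W₁ ⊔ Submodule.span k {w₁.rep}) ∪
      (Z.filter fun z => z.rep ∉ W₁ ⊔ Submodule.span k {w₂.rep}) := by
    intro x hx
    rw [Finset.mem_filter] at hx
    rw [Finset.mem_union, Finset.mem_filter, Finset.mem_filter]
    by_contra hcon
    push Not at hcon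
    have h1 : x.rep ∈ W₁ ⊔ Submodule.span k {w₁.rep} := hcon.1 hx.1
    have h2 : x.rep ∈ W₁ ⊔ Submodule.span k {w₂.rep} := hcon.2 hx.1
    exact hx.2 (mem_of_mem_sup_span W₁ w₁.rep w₂.rep x.rep hw₂H h1 h2)
  have hunion := Finset.card_le_card hcover
  have hui := Finset.card_union_add_card_inter
    (Z.filter fun z => z.rep ∉ W₁ ⊔ Submodule.span k {w₁.rep})
    (Z.filter fun z => z.rep ∉ W₁ ⊔ Submodule.span k {w₂.rep})
  have hunion_le : ((Z.filter fun z => z.rep ∉ W₁ ⊔ Submodule.span k {w₁.rep}) ∪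
      (Z.filter fun z => z.rep ∉ W₁ ⊔ Submodule.span k {w₂.rep})).card ≤
      (Z.filter fun z => z.rep ∉ W₁).card := by
    apply Finset.card_le_card
    intro x hx
    rcases Finset.mem_union.mp hx with h | h
    · exact Finset.mem_of_mem_erase (hsub₁ h)
    · exact Finset.mem_of_mem_erase (hsub₂ h)
  obtain ⟨p, hp, q, hq, hpq⟩ := Finset.one_lt_card.mp (by omega :
    1 < ((Z.filter fun z => z.rep ∉ W₁ ⊔ Submodule.span k {w₁.rep}) ∩
      (Z.filter fun z => z.rep ∉ W₁ ⊔ Submodule.span k {w₂.rep})).card)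
  rw [Finset.mem_inter] at hp hq
  have hM₁₂ : M₁ = M₂ := by
    rw [line_unique hpq hM₁ (hA₁ p hp.1) (hA₁ q hq.1), line_unique hpq hM₂ (hA₂ p hp.2) (hA₂ q hq.2)]
  have hZ₂M : ∀ x ∈ Z, x.rep ∉ W₁ → x.rep ∈ M₁ := by
    intro x hx hxW
    rcases Finset.mem_union.mp (hcover (Finset.mem_filter.mpr ⟨hx, hxW⟩)) with h | h
    · exact hA₁ x h
    · rw [hM₁₂]; exact hA₂ x h
  have hall : ∀ z ∈ Z, z.rep ∈ W₁ ∨ z.rep ∈ M₁ := by
    intro z hz
    by_cases h : z.rep ∈ W₁
    · exact Or.inl h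
    · exact Or.inr (hZ₂M z hz h)
  have hinf : W₁ ⊓ M₁ = ⊥ := by
    by_contra hne
    apply hnc
    refine ⟨W₁ ⊔ M₁, ?_, ?_⟩
    · have h1 := Submodule.finrank_sup_add_finrank_inf_eq W₁ M₁
      have h2 : 0 < finrank k ↥(W₁ ⊓ M₁) := by
        rw [Nat.pos_iff_ne_zero, Ne, Submodule.finrank_eq_zero]
        exact hne
      omega
    · intro z hz
      rcases hall z hz with h | h
      · exact Submodule.mem_sup_left h
      · exact Submodule.mem_sup_right h
  refine ⟨W₁, M₁, hW₁, hM₁, hinf, hall, ?_, ?_, ?_⟩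
  · rw [ncard_eq_card_filter]; omega
  · rw [ncard_eq_card_filter]
    have : (Z.filter fun z => z.rep ∉ W₁) ⊆ (Z.filter fun z => z.rep ∈ M₁) := by
      intro x hx
      rw [Finset.mem_filter] at hx ⊢
      exact ⟨hx.1, hZ₂M x hx.1 hx.2⟩
    have := Finset.card_le_card this
    omega
  · omega

/-- existence of a line with many points, from the induction hypothesis. -/
theorem CB.exists_line {Z : Finset ℙV} {n : ℕ} (hCB : CB Z (n + 2)) (hcard : Z.card ≤ 3 * (n + 2) + 1)
    (hnc : ¬ Coplanar Z)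
    (IH : ∀ Z' : Finset ℙV, CB Z' (n + 1) → Z'.card ≤ 3 * (n + 1) + 1 → Coplanar Z' ∨ Skew Z' (n + 1)) :
    ∃ W₁ : Submodule k (σ → k), finrank k ↥W₁ = 2 ∧
      n + 3 ≤ Set.ncard {z : ℙV | z ∈ Z ∧ z.rep ∈ W₁} := by
  classical
  have hZne : Z.Nonempty := by
    rw [Finset.nonempty_iff_ne_empty]
    rintro rfl
    exact hnc ⟨⊥, by simp, by simp⟩
  have hge := hCB.card_ge hZne
  obtain ⟨H, hH, hmax⟩ := exists_max_plane Z
  have h3 : 3 ≤ (Z.filter fun z => z.rep ∈ H).card := by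
    obtain ⟨T, hTZ, hT⟩ := Finset.exists_subset_card_eq (by omega : 3 ≤ Z.card)
    obtain ⟨H₂, hH₂, hTH₂⟩ := coplanar_of_card_le_three T hT.le
    have h1 : T ⊆ Z.filter fun z => z.rep ∈ H₂ := by
      intro z hz
      exact Finset.mem_filter.mpr ⟨hTZ hz, hTH₂ z hz⟩
    have h2 := Finset.card_le_card h1
    have h4 := hmax H₂ hH₂
    omega
  have hsplit : (Z.filter fun z => z.rep ∈ H).card + (Z.filter fun z => z.rep ∉ H).card = Z.card :=
    Finset.card_filter_add_card_filter_not _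
  obtain ⟨x, hx, hxH⟩ : ∃ x ∈ Z, x.rep ∉ H := by
    by_contra hcon
    push Not at hcon
    exact hnc ⟨H, hH, hcon⟩
  have hCB' := hCB.filter_submodule H
  have hge' := hCB.card_filter_submodule_ge H x hx hxH
  rcases IH _ hCB' (by omega) with hcop | hskew
  · -- the complement of the maximal plane is coplanar, hence collinear
    obtain ⟨H', hH', hZ'⟩ := hcop
    have h1 : (Z.filter fun z => z.rep ∉ H) ⊆ Z.filter fun z => z.rep ∈ H' := by
      intro z hz
      exact Finset.mem_filter.mpr ⟨(Finset.mem_filter.mp hz).1, hZ' z hz⟩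
    have h2 := Finset.card_le_card h1
    have h4 := hmax H' hH'
    obtain ⟨W₁, hW₁, hZW₁⟩ := CB.collinear n _ hCB' ⟨x, Finset.mem_filter.mpr ⟨hx, hxH⟩⟩ (by omega)
    refine ⟨W₁, hW₁, ?_⟩
    rw [ncard_eq_card_filter]
    have h5 : (Z.filter fun z => z.rep ∉ H) ⊆ Z.filter fun z => z.rep ∈ W₁ := by
      intro z hz
      exact Finset.mem_filter.mpr ⟨(Finset.mem_filter.mp hz).1, hZW₁ z hz⟩
    have h6 := Finset.card_le_card h5
    omega
  · -- two skew lines in the complement: too many points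
    exfalso
    obtain ⟨W₁, W₂, hW₁, hW₂, hinf, -, hc₁, hc₂, htot⟩ := hskew
    rw [ncard_eq_card_filter] at hc₁ hc₂
    obtain ⟨w, hw⟩ : ((Z.filter fun z => z.rep ∉ H).filter fun z => z.rep ∈ W₂).Nonempty :=
      Finset.card_pos.mp (by omega)
    rw [Finset.mem_filter, Finset.mem_filter] at hw
    have hwW₁ : w.rep ∉ W₁ := by
      intro h
      have : w.rep ∈ W₁ ⊓ W₂ := ⟨h, hw.2⟩
      rw [hinf, Submodule.mem_bot] at this
      exact w.rep_nonzero this
    have hH₂ : finrank k ↥(W₁ ⊔ Submodule.span k {w.rep}) ≤ 3 := by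
      have := finrank_sup_span_singleton_le W₁ w.rep w.rep_nonzero
      omega
    have h1 : insert w ((Z.filter fun z => z.rep ∉ H).filter fun z => z.rep ∈ W₁) ⊆
        Z.filter fun z => z.rep ∈ W₁ ⊔ Submodule.span k {w.rep} := by
      intro z hz
      rw [Finset.mem_insert] at hz
      rw [Finset.mem_filter]
      rcases hz with rfl | hz
      · exact ⟨hw.1.1, Submodule.mem_sup_right (Submodule.mem_span_singleton_self _)⟩
      · rw [Finset.mem_filter, Finset.mem_filter] at hz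
        exact ⟨hz.1.1, Submodule.mem_sup_left hz.2⟩
    have h2 := Finset.card_le_card h1
    rw [Finset.card_insert_of_notMem (by
      intro h
      exact hwW₁ (Finset.mem_filter.mp h).2)] at h2
    have h4 := hmax _ hH₂
    omega

/-- A Cayley–Bacharach set of degree `n+1` with at most `3(n+1)+1` points is coplanar or lies on
two skew lines. -/
theorem CB.plane_or_skew : ∀ (n : ℕ) (Z : Finset ℙV), CB Z (n + 1) → Z.card ≤ 3 * (n + 1) + 1 →
    Coplanar Z ∨ Skew Z (n + 1) := by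
  intro n
  induction n with
  | zero =>
    intro Z hCB hcard
    exact Or.inl (hCB.coplanar_one (by omega))
  | succ n ih =>
    intro Z hCB hcard
    by_cases hnc : Coplanar Z
    · exact Or.inl hnc
    · right
      obtain ⟨W₁, hW₁, hcount⟩ := hCB.exists_line hcard hnc ih
      exact hCB.two_lines hcard hnc W₁ hW₁ hcount

end Groth.Agent.Lib.CayleyBacharach
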