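import Groth.Agent.Lib.PolLaw23

/-!
# The kernel of a base-changed polynomial law, unbundled (helper23)

`PolLaw.kerBC F A'` quantifies over test semirings carrying three compatible algebra structures.  Here we
restate membership through `A`-algebra maps `φ : A' →ₐ[A] R` into commutative rings `R`.
-/

set_option autoImplicit false
universe u
open scoped TensorProduct

namespace Groth.Agent.Lib.KerBC23

open Groth.Agent.Lib.PolLaw23

variable {A : Type u} [CommRing A] {B : Type u} [CommRing B] [Algebra A B]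
  {C : Type u} [CommRing C] [Algebra A C]

/-- Base change of an element of `A' ⊗ B` along `φ : A' → R`. -/
noncomputable def bc {A' : Type u} [CommRing A'] [Algebra A A'] {R : Type u} [CommSemiring R] [Algebra A R]
    (φ : A' →ₐ[A] R) : A' ⊗[A] B →ₐ[A] R ⊗[A] B :=
  Algebra.TensorProduct.map φ (AlgHom.id A B)

theorem bc_tmul {A' : Type u} [CommRing A'] [Algebra A A'] {R : Type u} [CommSemiring R] [Algebra A R]
    (φ : A' →ₐ[A] R) (a : A') (b : B) : bc φ (a ⊗ₜ[A] b) = φ a ⊗ₜ[A] b := by
  simp [bc]

theorem bc_comp {A' : Type u} [CommRing A'] [Algebra A A'] {R R' : Type u} [CommSemiring R] [Algebra A R]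
    [CommSemiring R'] [Algebra A R'] (φ : A' →ₐ[A] R) (ψ : R →ₐ[A] R') (b' : A' ⊗[A] B) :
    ψ.toLinearMap.rTensor B (bc φ b') = bc (ψ.comp φ) b' := by
  induction b' using TensorProduct.induction_on with
  | zero => simp
  | tmul a b => simp [bc_tmul]
  | add x y hx hy => simp only [map_add, hx, hy]

/-- Unbundled membership in `kerBC`. -/
theorem mem_kerBC_iff (F : B →ₚₗ[A] C) (A' : Type u) [CommRing A'] [Algebra A A'] (b' : A' ⊗[A] B) :
    b' ∈ PolLaw.kerBC F A' ↔ ∀ (R : Type u) [CommRing R] [Algebra A R] (φ : A' →ₐ[A] R) (x w : R ⊗[A] B),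
      F.toFun' R (x + w * bc φ b') = F.toFun' R x := by
  constructor
  · intro h R _ _ φ x w
    letI : Algebra A' R := φ.toRingHom.toAlgebra
    haveI : IsScalarTower A A' R := IsScalarTower.of_algebraMap_eq (fun a => (φ.commutes a).symm)
    have h1 := h R x w
    have h2 : IsScalarTower.toAlgHom A A' R = φ := by
      ext a
      rfl
    rw [h2] at h1
    exact h1
  · intro h R instS instA instA' instT x w
    obtain ⟨inst, rfl⟩ := exists_commRing A R
    exact h R (IsScalarTower.toAlgHom A A' R) x w

/-- The extension of `ker F` lies in the kernel of the base change. -/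
theorem map_ker_le_kerBC (F : B →ₚₗ[A] C) (A' : Type u) [CommRing A'] [Algebra A A'] :
    (PolLaw.ker F).map (Algebra.TensorProduct.includeRight : B →ₐ[A] A' ⊗[A] B) ≤ PolLaw.kerBC F A' := by
  rw [Ideal.map_le_iff_le_comap]
  intro b hb
  rw [Ideal.mem_comap, mem_kerBC_iff]
  intro R _ _ φ x w
  have : bc φ ((Algebra.TensorProduct.includeRight : B →ₐ[A] A' ⊗[A] B) b) = (1 : R) ⊗ₜ[A] b := by
    rw [Algebra.TensorProduct.includeRight_apply, bc_tmul, map_one]
  rw [this]
  exact hb R x w

end Groth.Agent.Lib.KerBC23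

namespace Groth.Agent.Lib.KerBC23

open Groth.Agent.Lib.PolLaw23

variable {A : Type u} [CommRing A] {B : Type u} [CommRing B] [Algebra A B]
  {C : Type u} [CommRing C] [Algebra A C]

/-- The defining condition of `PolLaw.ker` on one test algebra. -/
def KerAt (F : B →ₚₗ[A] C) (b : B) (S : Type u) [CommSemiring S] [Algebra A S] : Prop :=
  ∀ x w : S ⊗[A] B, F.toFun' S (x + w * ((1 : S) ⊗ₜ[A] b)) = F.toFun' S x

/-- Membership in `PolLaw.ker` can be tested on commutative rings. -/
theorem mem_ker_iff (F : B →ₚₗ[A] C) (b : B) :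
    b ∈ PolLaw.ker F ↔ ∀ (S : Type u) [CommRing S] [Algebra A S] (x w : S ⊗[A] B),
      F.toFun' S (x + w * ((1 : S) ⊗ₜ[A] b)) = F.toFun' S x := by
  constructor
  · intro h S _ _ x w
    exact h S x w
  · intro h S _ _ x w
    exact forall_semiring_of_forall_ring
      (fun S instS instA => @KerAt A _ B _ _ C _ _ F b S instS instA)
      (fun S _ _ => h S) S x w

end Groth.Agent.Lib.KerBC23
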