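import Groth.Agent.Lib.Polarize23

/-!
# Linear maps compatible with multiplicative laws are multiplicative on coefficients (helper23)
-/

set_option autoImplicit false
universe u
open scoped TensorProduct
open MvPolynomial

namespace Groth.Agent.Lib.PolLawMul23

open Groth.Agent.Lib.PolLaw23 Groth.Agent.Lib.PolLawExt23 Groth.Agent.Lib.PolLawGen23
  Groth.Agent.Lib.PolLawSpan23 Groth.Agent.Lib.PolLawCoeff23 Groth.Agent.Lib.Polarize23

variable {A : Type u} [CommRing A] {B T C' : Type u} [CommRing B] [Algebra A B] [CommRing T] [Algebra A T]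
  [CommRing C'] [Algebra A C'] {d : ℕ}

/-- If a linear map `f` carries the multiplicative law `t` to the multiplicative law `F`, then `f` is
multiplicative on the span of the coefficients of `t`. -/
theorem map_mul_of_postcomp (t : PolLaw.MulLaw A B T d) (F : PolLaw.MulLaw A B C' d) (f : T →ₗ[A] C')
    (h : PolLaw.postcomp f t.law = F.law) {c c' : T} (hc : c ∈ Submodule.span A (coeffSet t))
    (hc' : c' ∈ Submodule.span A (coeffSet t)) : f (c * c') = f c * f c' := by
  induction hc using Submodule.span_induction with
  | mem c hc =>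
    induction hc' using Submodule.span_induction with
    | mem c' hc' =>
      obtain ⟨n, z, l, rfl⟩ := hc
      obtain ⟨n', z', l', rfl⟩ := hc'
      have hf : ∀ (m : ℕ) (w : MvPolynomial (Fin m) A ⊗[A] B) (L : MvPolynomial (Fin m) A →ₗ[A] A),
          f (evalFun T L (t.law.toFun' _ w)) = evalFun C' L (F.law.toFun' _ w) := by
        intro m w L
        rw [← evalFun_lTensor, ← postcomp_toFun', h]
      rw [hf, hf, ← evalFun_prodFun, ← evalFun_prodFun, PolynomialLaw.isCompat_apply',
        PolynomialLaw.isCompat_apply', PolynomialLaw.isCompat_apply', PolynomialLaw.isCompat_apply',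
        ← (t.mult _).2, ← (F.mult _).2, hf]
    | zero => simp
    | add a b _ _ ha hb => rw [mul_add, map_add, map_add, ha, hb, mul_add]
    | smul r a _ ha => rw [mul_smul_comm, map_smul, map_smul, ha, mul_smul_comm]
  | zero => simp
  | add a b _ _ ha hb => rw [add_mul, map_add, map_add, ha, hb, add_mul]
  | smul r a _ ha => rw [smul_mul_assoc, map_smul, map_smul, ha, smul_mul_assoc]

theorem map_one_of_postcomp (t : PolLaw.MulLaw A B T d) (F : PolLaw.MulLaw A B C' d) (f : T →ₗ[A] C')
    (h : PolLaw.postcomp f t.law = F.law) : f 1 = 1 := by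
  have h1 : (PolLaw.postcomp f t.law).toFun' A 1 = F.law.toFun' A 1 := by rw [h]
  rw [postcomp_toFun', (t.mult A).1, (F.mult A).1, Algebra.TensorProduct.one_def, LinearMap.lTensor_tmul,
    Algebra.TensorProduct.one_def] at h1
  have h2 := congrArg (TensorProduct.lid A C') h1
  simpa using h2

end Groth.Agent.Lib.PolLawMul23
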