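import Groth.Agent.Lib.RobyFree23
import Groth.Agent.Lib.PolLawMul23
import Groth.Agent.Lib.KerBC23

/-!
# Cayley–Hamilton for multiplicative polynomial laws (helper23)

`cayley_hamilton`: for a multiplicative law `F : B → A` homogeneous of degree `d` and `b : B`, with characteristic polynomial
`χ_b = F_{A[X]}(1 ⊗ b - X ⊗ 1)`, one has `χ_b(b) ∈ ker F`.

Proof: reduce to a polynomial algebra `P → B` (free module); there `F` is a linear form on the tensor power composed with
`x ↦ x ⊗ ⋯ ⊗ x` (`RobyFree23.postcomp_ftil`), multiplicative on the subalgebra of coefficients (`PolLawMul23`); `abstract_ch` is the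
resulting diagram chase.
-/

set_option autoImplicit false
universe u
open scoped TensorProduct

namespace Groth.Agent.Lib.CayleyHam23

open Groth.Agent.Lib.PolLaw23 Groth.Agent.Lib.PolLawExt23 Groth.Agent.Lib.PolLawGen23
  Groth.Agent.Lib.PolLawSpan23 Groth.Agent.Lib.PolLawMul23 Groth.Agent.Lib.KerBC23 Groth.Agent.Lib.RobyFree23

section Coeff

variable {A : Type u} [CommRing A] {B : Type u} [CommRing B] [Algebra A B]
  {C : Type u} [CommRing C] [Algebra A C] {d : ℕ}

theorem evalFun_rTensor {S S' : Type u} [CommRing S] [Algebra A S] [CommRing S'] [Algebra A S']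
    {E : Type u} [AddCommGroup E] [Module A E] (ψ : S →ₐ[A] S') (l : S' →ₗ[A] A) (u : S ⊗[A] E) :
    evalFun E l (ψ.toLinearMap.rTensor E u) = evalFun E (l ∘ₗ ψ.toLinearMap) u := by
  induction u using TensorProduct.induction_on with
  | zero => simp
  | tmul s c => simp
  | add a b ha hb => simp only [map_add, ha, hb]

/-- Coordinates of values of `γ` over any test ring are coefficients of `γ`. -/
theorem evalFun_mem_coeffSet (γ : PolLaw.MulLaw A B C d) {S : Type u} [CommRing S] [Algebra A S]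
    (z : S ⊗[A] B) (l : S →ₗ[A] A) : evalFun C l (γ.law.toFun' S z) ∈ coeffSet γ := by
  obtain ⟨n, ψ, z', rfl⟩ := PolynomialLaw.exists_lift (R := A) z
  rw [← PolynomialLaw.isCompat_apply', evalFun_rTensor]
  exact ⟨n, z', _, rfl⟩

/-- The corestriction of a multiplicative law to the subalgebra spanned by its coefficients. -/
theorem exists_cores_coeffSub (γ : PolLaw.MulLaw A B C d) :
    ∃ τ : PolLaw.MulLaw A B (coeffSub γ) d, PolLaw.postcomp (coeffSub γ).val.toLinearMap τ.law = γ.law := by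
  apply exists_cores
  intro n z
  apply mem_range_lTensor_of_coords
  intro l
  exact Submodule.subset_span ⟨n, z, l, rfl⟩

/-- A linear form carrying a multiplicative law `t` to a multiplicative law `F` is an algebra map on the
subalgebra of coefficients of `t`. -/
noncomputable def algHomOfPostcomp (t : PolLaw.MulLaw A B C d) (F : PolLaw.MulLaw A B A d) (f : C →ₗ[A] A)
    (h : PolLaw.postcomp f t.law = F.law) : coeffSub t →ₐ[A] A :=
  AlgHom.ofLinearMap (f ∘ₗ (coeffSub t).val.toLinearMap)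
    (by
      show f ((1 : coeffSub t) : C) = 1
      rw [OneMemClass.coe_one]
      exact map_one_of_postcomp t F f h)
    (by
      intro x y
      show f ((x * y : coeffSub t) : C) = f (x : C) * f (y : C)
      rw [MulMemClass.coe_mul]
      exact map_mul_of_postcomp t F f h x.2 y.2)

theorem algHomOfPostcomp_apply (t : PolLaw.MulLaw A B C d) (F : PolLaw.MulLaw A B A d) (f : C →ₗ[A] A)
    (h : PolLaw.postcomp f t.law = F.law) (x : coeffSub t) : algHomOfPostcomp t F f h x = f (x : C) := rfl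

end Coeff

section Abstract

variable {A : Type u} [CommRing A] {P : Type u} [CommRing P] [Algebra A P]
  {T : Type u} [CommRing T] [Algebra A T] {d : ℕ}

theorem lTensor_eq_map {C C' : Type u} [CommRing C] [Algebra A C] [CommRing C'] [Algebra A C']
    (f : C →ₐ[A] C') (S : Type u) [CommRing S] [Algebra A S] (y : S ⊗[A] C) :
    f.toLinearMap.lTensor S y = Algebra.TensorProduct.map (AlgHom.id A S) f y := by
  induction y using TensorProduct.induction_on with
  | zero => simp
  | tmul a b => rfl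
  | add a b ha hb => simp [ha, hb]

theorem map_idS_eq_map {C C' : Type u} [CommRing C] [Algebra A C] [CommRing C'] [Algebra A C']
    (f : C →ₐ[A] C') (S : Type u) [CommRing S] [Algebra A S] (y : S ⊗[A] C) :
    Algebra.TensorProduct.map (AlgHom.id S S) f y = Algebra.TensorProduct.map (AlgHom.id A S) f y := by
  induction y using TensorProduct.induction_on with
  | zero => simp
  | tmul a b => rfl
  | add a b ha hb => simp [ha, hb]

set_option maxHeartbeats 800000 in
/-- **Abstract Cayley–Hamilton**: if the law `G` factors as `f₀ ∘ τ` through a subalgebra `T₀` of an algebra `T` in which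
`val ∘ τ` is a product of `d` algebra maps, and `f₀` extends to a linear form on `T`, then `χ_p(p) ∈ ker G`. -/
theorem abstract_ch (ι : Fin d → (P →ₐ[A] T)) {T₀ : Type u} [CommRing T₀] [Algebra A T₀] (v : T₀ →ₐ[A] T)
    (τ : PolLaw.MulLaw A P T₀ d)
    (hτ : PolLaw.postcomp v.toLinearMap τ.law = (PolLaw.MulLaw.prodMap ι d (Fintype.card_fin d)).law)
    (ft : T →ₗ[A] A) (f₀ : T₀ →ₐ[A] A) (hf : ∀ y : T₀, f₀ y = ft (v y))
    (G : P →ₚₗ[A] A) (hG : G = PolLaw.postcomp f₀.toLinearMap τ.law) (p : P) (χ : Polynomial A)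
    (hχ : G.toFun' (Polynomial A) ((1 : Polynomial A) ⊗ₜ[A] p - Polynomial.X ⊗ₜ[A] (1 : P)) = χ ⊗ₜ[A] (1 : A)) :
    Polynomial.aeval p χ ∈ PolLaw.ker G := by
  classical
  rw [mem_ker_iff]
  intro S _ _ x w
  -- basic value formulas
  have htau : ∀ (R : Type u) [CommRing R] [Algebra A R] (y : R ⊗[A] P),
      Algebra.TensorProduct.map (AlgHom.id A R) v (τ.law.toFun' R y) =
        ∏ k, Algebra.TensorProduct.map (AlgHom.id A R) (ι k) y := by
    intro R _ _ y
    have h1 := congrArg (fun L => L.toFun' R y) hτ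
    simp only [postcomp_toFun', PolLaw.MulLaw.prodMap_toFun'] at h1
    rw [lTensor_eq_map] at h1
    rw [h1]
    refine Finset.prod_congr rfl fun k _ => map_idS_eq_map _ _ _
  have hGv : ∀ (R : Type u) [CommRing R] [Algebra A R] (y : R ⊗[A] P),
      G.toFun' R y = Algebra.TensorProduct.map (AlgHom.id A R) f₀ (τ.law.toFun' R y) := by
    intro R _ _ y
    rw [hG, postcomp_toFun', lTensor_eq_map]
  have hft : ∀ (R : Type u) [CommRing R] [Algebra A R] (y : R ⊗[A] T₀),
      Algebra.TensorProduct.map (AlgHom.id A R) f₀ y =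
        ft.lTensor R (Algebra.TensorProduct.map (AlgHom.id A R) v y) := by
    intro R _ _ y
    induction y using TensorProduct.induction_on with
    | zero => simp
    | tmul a b => simp [hf]
    | add a b ha hb => simp only [map_add, ha, hb]
  -- the element `n` with `f₀ n = 0` and `ev k (val n) = ι k c`
  set u : Polynomial A ⊗[A] P := (1 : Polynomial A) ⊗ₜ[A] p - Polynomial.X ⊗ₜ[A] (1 : P) with hu
  set c : P := Polynomial.aeval p χ with hc
  set n : Polynomial A ⊗[A] T₀ := χ ⊗ₜ[A] (1 : T₀) - τ.law.toFun' (Polynomial A) u with hn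
  have hN1 : Algebra.TensorProduct.map (AlgHom.id A (Polynomial A)) f₀ n = 0 := by
    rw [hn, map_sub, ← hGv, hχ, Algebra.TensorProduct.map_tmul, map_one, AlgHom.id_apply, sub_self]
  let ev : Fin d → (Polynomial A ⊗[A] T →ₐ[A] T) := fun k =>
    Algebra.TensorProduct.lift (Polynomial.aeval (ι k p)) (AlgHom.id A T) (fun _ _ => Commute.all _ _)
  have hev : ∀ (k : Fin d) (q : Polynomial A) (y : T), ev k (q ⊗ₜ[A] y) = Polynomial.aeval (ι k p) q * y :=
    fun k q y => Algebra.TensorProduct.lift_tmul _ _ _ q y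
  have hN2 : ∀ k, ev k (Algebra.TensorProduct.map (AlgHom.id A (Polynomial A)) v n) = ι k c := by
    intro k
    rw [hn, map_sub, map_sub, htau, map_prod, Finset.prod_eq_zero (Finset.mem_univ k), sub_zero,
      Algebra.TensorProduct.map_tmul, map_one, AlgHom.id_apply, hev, mul_one, hc,
      Polynomial.aeval_algHom_apply]
    rw [hu, map_sub, map_sub, Algebra.TensorProduct.map_tmul, Algebra.TensorProduct.map_tmul, map_one,
      hev, hev, map_one, one_mul, map_one, mul_one, AlgHom.id_apply, Polynomial.aeval_X, sub_self]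
  -- the auxiliary base ring `(S ⊗[A] T₀) = S ⊗ T₀`
  let j : S →ₐ[A] (S ⊗[A] T₀) := Algebra.TensorProduct.includeLeft
  let φ₀ : (S ⊗[A] T₀) →ₐ[A] S :=
    Algebra.TensorProduct.productMap (AlgHom.id A S) ((Algebra.ofId A S).comp f₀)
  let m : (S ⊗[A] T₀) ⊗[A] T₀ →ₐ[A] S ⊗[A] T₀ :=
    Algebra.TensorProduct.productMap (AlgHom.id A (S ⊗[A] T₀)) Algebra.TensorProduct.includeRight
  let mT : (S ⊗[A] T₀) ⊗[A] T →ₐ[A] S ⊗[A] T :=
    Algebra.TensorProduct.productMap (Algebra.TensorProduct.map (AlgHom.id A S) v)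
      Algebra.TensorProduct.includeRight
  let θ : Polynomial A ⊗[A] T₀ →ₗ[A] (S ⊗[A] T₀) ⊗[A] P :=
    (TensorProduct.comm A P (S ⊗[A] T₀)).toLinearMap ∘ₗ
      TensorProduct.map (Polynomial.aeval p : Polynomial A →ₐ[A] P).toLinearMap
        (Algebra.TensorProduct.includeRight : T₀ →ₐ[A] S ⊗[A] T₀).toLinearMap
  let evp : Polynomial A ⊗[A] A →ₐ[A] S ⊗[A] P :=
    Algebra.TensorProduct.productMap
      ((Algebra.TensorProduct.includeRight : P →ₐ[A] S ⊗[A] P).comp (Polynomial.aeval p))
      (Algebra.ofId A (S ⊗[A] P))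
  have hφ₀ : ∀ (s : S) (y : T₀), φ₀ (s ⊗ₜ[A] y) = s * algebraMap A S (f₀ y) :=
    fun s y => Algebra.TensorProduct.productMap_apply_tmul _ _ s y
  have hm : ∀ (a : (S ⊗[A] T₀)) (y : T₀), m (a ⊗ₜ[A] y) = a * ((1 : S) ⊗ₜ[A] y) :=
    fun a y => Algebra.TensorProduct.productMap_apply_tmul _ _ a y
  have hmT : ∀ (a : (S ⊗[A] T₀)) (y : T), mT (a ⊗ₜ[A] y) =
      Algebra.TensorProduct.map (AlgHom.id A S) v a * ((1 : S) ⊗ₜ[A] y) :=
    fun a y => Algebra.TensorProduct.productMap_apply_tmul _ _ a y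
  have hθ : ∀ (q : Polynomial A) (y : T₀), θ (q ⊗ₜ[A] y) =
      (((1 : S) ⊗ₜ[A] y : S ⊗[A] T₀)) ⊗ₜ[A] Polynomial.aeval p q := by
    intro q y
    simp [θ]
  have hevp : ∀ (q : Polynomial A) (a : A), evp (q ⊗ₜ[A] a) =
      ((1 : S) ⊗ₜ[A] Polynomial.aeval p q) * algebraMap A (S ⊗[A] P) a :=
    fun q a => Algebra.TensorProduct.productMap_apply_tmul _ _ q a
  -- (F1)
  have F1 : ∀ y : (S ⊗[A] T₀) ⊗[A] T₀, Algebra.TensorProduct.map (AlgHom.id A S) v (m y) =
      mT (Algebra.TensorProduct.map (AlgHom.id A (S ⊗[A] T₀)) v y) := by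
    intro y
    induction y using TensorProduct.induction_on with
    | zero => simp
    | tmul a y =>
      rw [hm, map_mul, Algebra.TensorProduct.map_tmul, Algebra.TensorProduct.map_tmul, hmT, AlgHom.id_apply,
        AlgHom.id_apply]
    | add a b ha hb => simp only [map_add, ha, hb]
  -- (F2)
  have F2 : ∀ (k : Fin d) (y : S ⊗[A] P),
      mT (Algebra.TensorProduct.map (AlgHom.id A (S ⊗[A] T₀)) (ι k) (Algebra.TensorProduct.map j (AlgHom.id A P) y)) =
        Algebra.TensorProduct.map (AlgHom.id A S) (ι k) y := by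
    intro k y
    induction y using TensorProduct.induction_on with
    | zero => simp
    | tmul s y =>
      rw [Algebra.TensorProduct.map_tmul, Algebra.TensorProduct.map_tmul, hmT, AlgHom.id_apply, AlgHom.id_apply,
        Algebra.TensorProduct.map_tmul]
      show (Algebra.TensorProduct.map (AlgHom.id A S) v) (s ⊗ₜ[A] (1 : T₀)) * _ = _
      rw [Algebra.TensorProduct.map_tmul, map_one, Algebra.TensorProduct.tmul_mul_tmul, mul_one, one_mul,
        AlgHom.id_apply]
    | add a b ha hb => simp only [map_add, ha, hb]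
  -- (F3)
  have F3 : ∀ (k : Fin d) (n' : Polynomial A ⊗[A] T₀),
      mT (Algebra.TensorProduct.map (AlgHom.id A (S ⊗[A] T₀)) (ι k) (θ n')) =
        (1 : S) ⊗ₜ[A] ev k (Algebra.TensorProduct.map (AlgHom.id A (Polynomial A)) v n') := by
    intro k n'
    induction n' using TensorProduct.induction_on with
    | zero => simp
    | tmul q y =>
      rw [hθ, Algebra.TensorProduct.map_tmul, hmT, AlgHom.id_apply, Algebra.TensorProduct.map_tmul,
        Algebra.TensorProduct.map_tmul, hev, AlgHom.id_apply, AlgHom.id_apply,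
        Algebra.TensorProduct.tmul_mul_tmul, mul_one, Polynomial.aeval_algHom_apply, mul_comm]
    | add a b ha hb => simp only [map_add, ha, hb, TensorProduct.tmul_add]
  -- (F4)
  have F4 : ∀ y : (S ⊗[A] T₀) ⊗[A] T₀, Algebra.TensorProduct.map (AlgHom.id A S) f₀ (m y) =
      Algebra.TensorProduct.map φ₀ (AlgHom.id A A)
        (Algebra.TensorProduct.map (AlgHom.id A (S ⊗[A] T₀)) f₀ y) := by
    intro y
    induction y using TensorProduct.induction_on with
    | zero => simp
    | tmul a y =>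
      induction a using TensorProduct.induction_on with
      | zero => simp
      | tmul s t =>
        rw [hm, Algebra.TensorProduct.tmul_mul_tmul, mul_one, Algebra.TensorProduct.map_tmul,
          Algebra.TensorProduct.map_tmul, Algebra.TensorProduct.map_tmul, AlgHom.id_apply, AlgHom.id_apply,
          AlgHom.id_apply, hφ₀, map_mul, mul_comm s, ← Algebra.smul_def, TensorProduct.smul_tmul, smul_eq_mul]
      | add a b ha hb => simp only [TensorProduct.add_tmul, map_add, ha, hb]
    | add a b ha hb => simp only [map_add, ha, hb]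
  -- (F5)
  have F5 : ∀ n' : Polynomial A ⊗[A] T₀, Algebra.TensorProduct.map φ₀ (AlgHom.id A P) (θ n') =
      evp (Algebra.TensorProduct.map (AlgHom.id A (Polynomial A)) f₀ n') := by
    intro n'
    induction n' using TensorProduct.induction_on with
    | zero => simp
    | tmul q y =>
      rw [hθ, Algebra.TensorProduct.map_tmul, hφ₀, Algebra.TensorProduct.map_tmul, hevp, AlgHom.id_apply,
        AlgHom.id_apply, Algebra.TensorProduct.algebraMap_apply, Algebra.TensorProduct.tmul_mul_tmul, one_mul,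
        mul_one]
    | add a b ha hb => simp only [map_add, ha, hb]
  -- (F6)
  have F6 : ∀ y : S ⊗[A] P, Algebra.TensorProduct.map φ₀ (AlgHom.id A P)
      (Algebra.TensorProduct.map j (AlgHom.id A P) y) = y := by
    intro y
    induction y using TensorProduct.induction_on with
    | zero => simp
    | tmul s b =>
      rw [Algebra.TensorProduct.map_tmul, Algebra.TensorProduct.map_tmul]
      show φ₀ (s ⊗ₜ[A] (1 : T₀)) ⊗ₜ[A] b = s ⊗ₜ[A] b
      rw [hφ₀, map_one, map_one, mul_one]
    | add a b ha hb => simp only [map_add, ha, hb]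
  -- the final chain
  set x' : (S ⊗[A] T₀) ⊗[A] P := Algebra.TensorProduct.map j (AlgHom.id A P) x with hx'
  set w' : (S ⊗[A] T₀) ⊗[A] P := Algebra.TensorProduct.map j (AlgHom.id A P) w with hw'
  set g : (S ⊗[A] T₀) ⊗[A] T₀ := τ.law.toFun' (S ⊗[A] T₀) (x' + w' * θ n) with hg
  have hfac : ∀ k, mT (Algebra.TensorProduct.map (AlgHom.id A (S ⊗[A] T₀)) (ι k) (x' + w' * θ n)) =
      Algebra.TensorProduct.map (AlgHom.id A S) (ι k) (x + w * ((1 : S) ⊗ₜ[A] c)) := by
    intro k
    rw [map_add, map_mul, map_add, map_mul, hx', hw', F2, F2, F3, hN2, map_add, map_mul,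
      Algebra.TensorProduct.map_tmul, AlgHom.id_apply]
  have h1 : G.toFun' S (x + w * ((1 : S) ⊗ₜ[A] c)) = Algebra.TensorProduct.map (AlgHom.id A S) f₀ (m g) := by
    rw [hGv, hft, hft, htau, F1, hg, htau, map_prod mT]
    congr 1
    refine Finset.prod_congr rfl fun k _ => ?_
    rw [hfac]
  rw [h1, F4, hg, ← hGv]
  have h2 := PolynomialLaw.isCompat_apply' (f := G) φ₀ (x' + w' * θ n)
  rw [PolLaw.rTensor_algHom_apply, PolLaw.rTensor_algHom_apply] at h2
  rw [h2, map_add, map_mul, hx', hw', F6, F6, F5, hN1, map_zero, mul_zero, add_zero]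

end Abstract

section Final

variable {A : Type u} [CommRing A] {B : Type u} [CommRing B] [Algebra A B] {d : ℕ}

/-- Cayley–Hamilton for an algebra with a module basis. -/
theorem ch_of_basis {P : Type u} [CommRing P] [Algebra A P] {I : Type u} (e : Module.Basis I A P)
    (G : PolLaw.MulLaw A P A d) (p : P) (χ : Polynomial A)
    (hχ : G.law.toFun' (Polynomial A) ((1 : Polynomial A) ⊗ₜ[A] p - Polynomial.X ⊗ₜ[A] (1 : P)) = χ ⊗ₜ[A] (1 : A)) :
    Polynomial.aeval p χ ∈ PolLaw.ker G.law := by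
  set t := SymTen.tpowLaw A P d with ht
  set ft := ftil G.law e d with hft
  have hpost : PolLaw.postcomp ft t.law = G.law := postcomp_ftil G.law e d G.homog
  obtain ⟨τ, hτ⟩ := exists_cores_coeffSub t
  set f₀ := algHomOfPostcomp t G ft hpost with hf₀
  refine abstract_ch (fun k : Fin d => PiTensorProduct.singleAlgHom (R := A) (A := fun _ : Fin d => P) k)
    (coeffSub t).val τ hτ ft f₀ (fun y => rfl) G.law ?_ p χ hχ
  rw [← hpost, ← hτ]
  ext S _ _ x
  rw [postcomp_toFun', postcomp_toFun', postcomp_toFun', ← LinearMap.comp_apply, ← LinearMap.lTensor_comp]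
  rfl

/-- Kernels along a surjective precomposition. -/
theorem mem_ker_of_precomp {P : Type u} [CommRing P] [Algebra A P] (F : B →ₚₗ[A] A) (π : P →ₐ[A] B)
    (hπ : Function.Surjective π) (c : P) (hc : c ∈ PolLaw.ker (PolLaw.precomp F π.toLinearMap)) :
    π c ∈ PolLaw.ker F := by
  rw [mem_ker_iff] at hc ⊢
  intro S _ _ x w
  obtain ⟨x', rfl⟩ := LinearMap.lTensor_surjective S (g := π.toLinearMap) hπ x
  obtain ⟨w', rfl⟩ := LinearMap.lTensor_surjective S (g := π.toLinearMap) hπ w
  have h1 := hc S x' w'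
  rw [precomp_toFun', precomp_toFun', PolLaw.lTensor_algHom_apply, map_add, map_mul,
    Algebra.TensorProduct.map_tmul, AlgHom.id_apply, ← PolLaw.lTensor_algHom_apply,
    ← PolLaw.lTensor_algHom_apply] at h1
  exact h1

/-- **Cayley–Hamilton** for multiplicative polynomial laws. -/
theorem cayley_hamilton (F : PolLaw.MulLaw A B A d) (b : B) (χ : Polynomial A)
    (hχ : F.law.toFun' (Polynomial A) ((1 : Polynomial A) ⊗ₜ[A] b - Polynomial.X ⊗ₜ[A] (1 : B)) = χ ⊗ₜ[A] (1 : A)) :
    Polynomial.aeval b χ ∈ PolLaw.ker F.law := by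
  set π : MvPolynomial B A →ₐ[A] B := MvPolynomial.aeval id with hπ
  have hsurj : Function.Surjective π := fun b' => ⟨MvPolynomial.X b', by rw [hπ, MvPolynomial.aeval_X]; rfl⟩
  have h1 : (F.precomp π).law.toFun' (Polynomial A)
      ((1 : Polynomial A) ⊗ₜ[A] (MvPolynomial.X b : MvPolynomial B A) - Polynomial.X ⊗ₜ[A] (1 : MvPolynomial B A)) =
        χ ⊗ₜ[A] (1 : A) := by
    show (PolLaw.precomp F.law π.toLinearMap).toFun' _ _ = _
    rw [precomp_toFun', map_sub, LinearMap.lTensor_tmul, LinearMap.lTensor_tmul, AlgHom.toLinearMap_apply,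
      AlgHom.toLinearMap_apply, map_one, hπ, MvPolynomial.aeval_X]
    exact hχ
  have h2 := ch_of_basis (MvPolynomial.basisMonomials B A) (F.precomp π) (MvPolynomial.X b) χ h1
  have h3 := mem_ker_of_precomp F.law π hsurj _ h2
  rw [← Polynomial.aeval_algHom_apply, hπ, MvPolynomial.aeval_X] at h3
  exact h3

end Final

section Monic

variable {A : Type u} [CommRing A] {B : Type u} [CommRing B] [Algebra A B] {d : ℕ}

/-- The two-element index type. -/
abbrev I2 : Type u := ULift.{u} Bool

theorem sum_I2 {E : Type*} [AddCommMonoid E] (g : I2.{u} → E) : ∑ i, g i = g ⟨true⟩ + g ⟨false⟩ := by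
  rw [← Equiv.sum_comp Equiv.ulift.symm g, Fintype.sum_bool]
  rfl

theorem prod_I2 {E : Type*} [CommMonoid E] (g : I2.{u} → E) : ∏ i, g i = g ⟨true⟩ * g ⟨false⟩ := by
  rw [← Equiv.prod_comp Equiv.ulift.symm g, Fintype.prod_bool]
  rfl

theorem finsupp_prod_I2 {E : Type*} [CommMonoid E] (ν : I2.{u} →₀ ℕ) (θ : I2.{u} → E) :
    (ν.prod fun i k => θ i ^ k) = θ ⟨true⟩ ^ ν ⟨true⟩ * θ ⟨false⟩ ^ ν ⟨false⟩ := by
  rw [Finsupp.prod_fintype _ _ (fun _ => pow_zero _), prod_I2]

theorem degree_I2 (ν : I2.{u} →₀ ℕ) : ν.degree = ν ⟨true⟩ + ν ⟨false⟩ := by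
  rw [Finsupp.degree_eq_sum, sum_I2]

theorem eq_single_I2 (ν : I2.{u} →₀ ℕ) (h : ν ⟨true⟩ = 0) : ν = Finsupp.single ⟨false⟩ (ν ⟨false⟩) := by
  ext ⟨i⟩
  cases i
  · simp
  · rw [h]
    simp

/-- The polynomial `F (X - b)`: it has degree at most `d` and `d`-th coefficient `1`. -/
theorem exists_monic_spec (F : PolLaw.MulLaw A B A d) (b : B) :
    ∃ q : Polynomial A, q.natDegree ≤ d ∧ q.coeff d = 1 ∧
      F.law.toFun' (Polynomial A) ((-1 : Polynomial A) ⊗ₜ[A] b + Polynomial.X ⊗ₜ[A] (1 : B)) = q ⊗ₜ[A] (1 : A) := by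
  classical
  set e : I2.{u} → B := fun i => if i.down then b else 1 with he
  set cf := cfJ F.law e Finset.univ with hcf
  have hdeg : ∀ ν ∈ cf.support, ν ⟨true⟩ + ν ⟨false⟩ = d := by
    intro ν hν
    rw [← degree_I2]
    exact degree_of_cfJ_ne_zero F.law e F.homog (Finsupp.mem_support_iff.1 hν)
  have hroby : ∀ (R : Type u) [CommRing R] [Algebra A R] (θ : I2.{u} → R),
      F.law.toFun' R (θ ⟨true⟩ ⊗ₜ[A] b + θ ⟨false⟩ ⊗ₜ[A] (1 : B)) =
        ∑ ν ∈ cf.support, (θ ⟨true⟩ ^ ν ⟨true⟩ * θ ⟨false⟩ ^ ν ⟨false⟩) ⊗ₜ[A] cf ν := by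
    intro R _ _ θ
    have := robyJ F.law e θ Finset.univ
    rw [sum_I2] at this
    simp only [he, if_true, Bool.false_eq_true, if_false] at this
    rw [this]
    refine Finset.sum_congr rfl fun ν _ => ?_
    rw [finsupp_prod_I2]
  set ν₀ : I2.{u} →₀ ℕ := Finsupp.single ⟨false⟩ d with hν₀
  -- the top coefficient is `1`
  have hone : cf ν₀ = 1 := by
    have h1 := hroby A (fun i => if i.down then 0 else 1)
    simp only [if_true, Bool.false_eq_true, if_false, TensorProduct.zero_tmul, zero_add, one_pow, mul_one] at h1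
    rw [← Algebra.TensorProduct.one_def, (F.mult A).1] at h1
    have h2 : ∑ ν ∈ cf.support, ((0 : A) ^ ν ⟨true⟩) ⊗ₜ[A] cf ν = (1 : A) ⊗ₜ[A] cf ν₀ := by
      by_cases h0 : ν₀ ∈ cf.support
      · rw [Finset.sum_eq_single ν₀]
        · simp [hν₀]
        · intro ν hν hne
          have : ν ⟨true⟩ ≠ 0 := by
            intro h
            apply hne
            rw [eq_single_I2 ν h, hν₀]
            congr 1
            have := hdeg ν hν
            omega
          rw [zero_pow this, TensorProduct.zero_tmul]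
        · intro h
          exact absurd h0 h
      · rw [Finsupp.notMem_support_iff.1 h0, TensorProduct.tmul_zero]
        refine Finset.sum_eq_zero fun ν hν => ?_
        have : ν ⟨true⟩ ≠ 0 := by
          intro h
          apply h0
          have h3 := eq_single_I2 ν h
          have := hdeg ν hν
          rw [h] at this
          rw [hν₀, ← (by omega : ν ⟨false⟩ = d), ← h3]
          exact hν
        rw [zero_pow this, TensorProduct.zero_tmul]
    rw [h2, Algebra.TensorProduct.one_def] at h1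
    have h3 := congrArg (TensorProduct.lid A A) h1
    simpa using h3.symm
  -- the polynomial
  have hX := hroby (Polynomial A) (fun i => if i.down then -1 else Polynomial.X)
  simp only [if_true, Bool.false_eq_true, if_false] at hX
  set q : Polynomial A := ∑ ν ∈ cf.support, cf ν • ((-1 : Polynomial A) ^ ν ⟨true⟩ * Polynomial.X ^ ν ⟨false⟩) with hq
  have hq' : F.law.toFun' (Polynomial A) ((-1 : Polynomial A) ⊗ₜ[A] b + Polynomial.X ⊗ₜ[A] (1 : B)) = q ⊗ₜ[A] (1 : A) := by
    rw [hX, hq, TensorProduct.sum_tmul]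
    refine Finset.sum_congr rfl fun ν _ => ?_
    rw [TensorProduct.smul_tmul, smul_eq_mul, mul_one]
  have hqdeg : q.natDegree ≤ d := by
    rw [hq]
    refine Polynomial.natDegree_sum_le_of_forall_le _ _ fun ν hν => ?_
    refine (Polynomial.natDegree_smul_le _ _).trans ?_
    have h1 : ((-1 : Polynomial A) ^ ν ⟨true⟩ * Polynomial.X ^ ν ⟨false⟩) =
        Polynomial.C ((-1 : A) ^ ν ⟨true⟩) * Polynomial.X ^ ν ⟨false⟩ := by
      simp
    rw [h1]
    refine (Polynomial.natDegree_C_mul_X_pow_le _ _).trans ?_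
    have := hdeg ν hν
    omega
  refine ⟨q, hqdeg, ?_, hq'⟩
  rw [hq, Polynomial.finsetSum_coeff]
  have h1 : ∀ ν ∈ cf.support, (cf ν • ((-1 : Polynomial A) ^ ν ⟨true⟩ * Polynomial.X ^ ν ⟨false⟩)).coeff d =
      if ν = ν₀ then cf ν₀ else 0 := by
    intro ν hν
    have h2 : ((-1 : Polynomial A) ^ ν ⟨true⟩ * Polynomial.X ^ ν ⟨false⟩) =
        Polynomial.C ((-1 : A) ^ ν ⟨true⟩) * Polynomial.X ^ ν ⟨false⟩ := by
      simp
    rw [Polynomial.coeff_smul, h2, Polynomial.coeff_C_mul_X_pow]
    have hd := hdeg ν hν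
    by_cases h3 : ν = ν₀
    · rw [if_pos h3, h3, hν₀]
      simp
    · rw [if_neg h3, if_neg, smul_zero]
      intro h4
      apply h3
      have h5 : ν ⟨true⟩ = 0 := by omega
      rw [eq_single_I2 ν h5, hν₀, ← h4]
  rw [Finset.sum_congr rfl h1, Finset.sum_ite_eq']
  by_cases h0 : ν₀ ∈ cf.support
  · rw [if_pos h0, hone]
  · rw [if_neg h0, ← hone, Finsupp.notMem_support_iff.1 h0]

/-- A monic polynomial of degree at most `d` annihilating `b` modulo `ker F`. -/
theorem exists_monic_le (F : PolLaw.MulLaw A B A d) (b : B) :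
    ∃ q : Polynomial A, q.Monic ∧ q.natDegree ≤ d ∧ Polynomial.aeval b q ∈ PolLaw.ker F.law := by
  obtain ⟨q, hqdeg, hqcoeff, hq'⟩ := exists_monic_spec F b
  refine ⟨q, Polynomial.monic_of_natDegree_le_of_coeff_eq_one d hqdeg hqcoeff, hqdeg, ?_⟩
  have h1 : (-1 : Polynomial A) ⊗ₜ[A] b + Polynomial.X ⊗ₜ[A] (1 : B) =
      (-1 : Polynomial A) • ((1 : Polynomial A) ⊗ₜ[A] b - Polynomial.X ⊗ₜ[A] (1 : B)) := by
    rw [smul_sub, TensorProduct.smul_tmul', TensorProduct.smul_tmul', smul_eq_mul, smul_eq_mul, mul_one]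
    simp [sub_eq_add_neg, TensorProduct.neg_tmul]
  rw [h1, F.homog] at hq'
  set g := F.law.toFun' (Polynomial A) ((1 : Polynomial A) ⊗ₜ[A] b - Polynomial.X ⊗ₜ[A] (1 : B)) with hg
  set χ : Polynomial A := TensorProduct.rid A (Polynomial A) g with hχ
  have h2 : g = χ ⊗ₜ[A] (1 : A) := by
    rw [hχ]
    induction g using TensorProduct.induction_on with
    | zero => simp
    | tmul x a => simp [TensorProduct.smul_tmul]
    | add x y hx hy =>
      rw [map_add, TensorProduct.add_tmul, ← hx, ← hy]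
  have h3 := cayley_hamilton F b χ h2
  have h4 : q = (-1 : Polynomial A) ^ d * χ := by
    have := congrArg (TensorProduct.rid A (Polynomial A)) hq'
    rw [h2, TensorProduct.smul_tmul', TensorProduct.rid_tmul, TensorProduct.rid_tmul, one_smul, one_smul,
      smul_eq_mul] at this
    exact this.symm
  rw [h4, map_mul, map_pow, map_neg, map_one]
  exact Ideal.mul_mem_left _ _ h3

/-- A monic polynomial annihilating `b` modulo `ker F`. -/
theorem exists_monic (F : PolLaw.MulLaw A B A d) (b : B) :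
    ∃ q : Polynomial A, q.Monic ∧ Polynomial.aeval b q ∈ PolLaw.ker F.law := by
  obtain ⟨q, h1, -, h2⟩ := exists_monic_le F b
  exact ⟨q, h1, h2⟩

end Monic

end Groth.Agent.Lib.CayleyHam23
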