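import Groth.Agent.Lib.UnivHomeo
import Groth.Prelude.Def_HTop2
import Mathlib.AlgebraicGeometry.ResidueField
import Mathlib.AlgebraicGeometry.AffineScheme
import Mathlib.RingTheory.LocalRing.ResidueField.Ideal
import Mathlib.RingTheory.RingHom.PurelyInseparable
import Mathlib.AlgebraicGeometry.Morphisms.Integral
import Mathlib.AlgebraicGeometry.Morphisms.UniversallyInjective

/-!
Residue field maps of `Spec.map φ` versus the ring-level `Ideal.ResidueField.map`, and
criteria for `Spec.map φ` to be a universal homeomorphism inducing isomorphisms on residue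
fields (`FlatMor.IsUnivHomeo`, `HTop.ResidueFieldsIso`).
-/

set_option autoImplicit false
universe u

open CategoryTheory AlgebraicGeometry

namespace Groth.Agent.Lib.SpecResidueH52

section Square

variable {R S : CommRingCat.{u}} (φ : R ⟶ S) (y : Spec S)

/-- The ring-level residue field map attached to `φ` at `y`. -/
noncomputable def resMap :
    (PrimeSpectrum.comap φ.hom y).asIdeal.ResidueField →+* y.asIdeal.ResidueField :=
  Ideal.ResidueField.map (PrimeSpectrum.comap φ.hom y).asIdeal y.asIdeal φ.hom rfl

theorem key :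
    CommRingCat.ofHom (algebraMap R ((Spec.map φ) y).asIdeal.ResidueField) ≫
      (Scheme.Spec.residueFieldIso R ((Spec.map φ) y)).inv ≫ (Spec.map φ).residueFieldMap y =
    φ ≫ CommRingCat.ofHom (algebraMap S y.asIdeal.ResidueField) ≫
      (Scheme.Spec.residueFieldIso S y).inv := by
  rw [Scheme.Spec.algebraMap_residueFieldIso_inv_assoc, Scheme.Spec.algebraMap_residueFieldIso_inv,
    Scheme.ΓSpecIso_inv_naturality_assoc]
  congr 1
  exact Scheme.Γevaluation_naturality (Spec.map φ) y

theorem square :
    (Scheme.Spec.residueFieldIso R ((Spec.map φ) y)).inv ≫ (Spec.map φ).residueFieldMap y ≫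
      (Scheme.Spec.residueFieldIso S y).hom = CommRingCat.ofHom (resMap φ y) := by
  apply CommRingCat.hom_ext
  apply Ideal.ResidueField.ringHom_ext
  have h := congrArg (fun ψ => (ψ ≫ (Scheme.Spec.residueFieldIso S y).hom).hom) (key φ y)
  simp only [Category.assoc, Iso.inv_hom_id, Category.comp_id] at h
  ext a
  have h' := congrArg (fun ψ : R →+* y.asIdeal.ResidueField => ψ a) h
  simp only [CommRingCat.hom_comp, CommRingCat.hom_ofHom, RingHom.comp_apply] at h' ⊢
  rw [h']
  exact (Ideal.ResidueField.map_algebraMap _ _ _ _ _).symm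

theorem residueFieldMap_eq :
    (Spec.map φ).residueFieldMap y =
      (Scheme.Spec.residueFieldIso R ((Spec.map φ) y)).hom ≫ CommRingCat.ofHom (resMap φ y) ≫
        (Scheme.Spec.residueFieldIso S y).inv := by
  have h := square φ y
  rw [Iso.inv_comp_eq] at h
  rw [← Category.assoc, Iso.eq_comp_inv]
  exact h

theorem isIso_residueFieldMap_iff :
    IsIso ((Spec.map φ).residueFieldMap y) ↔ Function.Bijective (resMap φ y) := by
  have hb : IsIso (CommRingCat.ofHom (resMap φ y)) ↔ Function.Bijective (resMap φ y) :=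
    ConcreteCategory.isIso_iff_bijective (CommRingCat.ofHom (resMap φ y))
  have hsq : IsIso ((Scheme.Spec.residueFieldIso R ((Spec.map φ) y)).inv ≫
      (Spec.map φ).residueFieldMap y ≫ (Scheme.Spec.residueFieldIso S y).hom) ↔
      IsIso (CommRingCat.ofHom (resMap φ y)) := by
    rw [square φ y]
    exact Iff.rfl
  rw [← hb, ← hsq, isIso_comp_left_iff, isIso_comp_right_iff]

end Square

section Criteria

variable {A B : Type u} [CommRing A] [CommRing B] (φ : A →+* B)

theorem residueFieldsIso_iff :
    HTop.ResidueFieldsIso (Spec.map (CommRingCat.ofHom φ)) ↔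
      ∀ Q : PrimeSpectrum B, Function.Bijective
        (Ideal.ResidueField.map (PrimeSpectrum.comap φ Q).asIdeal Q.asIdeal φ rfl) := by
  unfold HTop.ResidueFieldsIso
  constructor
  · intro h Q
    exact (isIso_residueFieldMap_iff (CommRingCat.ofHom φ) Q).mp (h Q)
  · intro h y
    exact (isIso_residueFieldMap_iff (CommRingCat.ofHom φ) y).mpr (h y)

/-- A bijective ring map between fields is purely inseparable. -/
theorem isPurelyInseparable_of_bijective {F E : Type*} [Field F] [Field E] (f : F →+* E)
    (hf : Function.Bijective f) : f.IsPurelyInseparable := by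
  algebraize [f]
  refine ⟨⟨fun x => ?_⟩, fun x _ => ?_⟩
  · obtain ⟨a, rfl⟩ := hf.2 x
    exact isIntegral_algebraMap
  · exact hf.2 x

theorem isUnivHomeo_of (hint : φ.IsIntegral)
    (hbij : Function.Bijective (PrimeSpectrum.comap φ))
    (hres : ∀ Q : PrimeSpectrum B, Function.Bijective
      (Ideal.ResidueField.map (PrimeSpectrum.comap φ Q).asIdeal Q.asIdeal φ rfl)) :
    FlatMor.IsUnivHomeo (Spec.map (CommRingCat.ofHom φ)) := by
  rw [Groth.Agent.Lib.UnivHomeo.iff_isIntegralHom_universallyInjective_surjective]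
  refine ⟨IsIntegralHom.SpecMap_iff.mpr hint, ?_, ⟨hbij.2⟩⟩
  have htfae : UniversallyInjective (Spec.map (CommRingCat.ofHom φ)) ↔
      Function.Injective (Spec.map (CommRingCat.ofHom φ)) ∧ ∀ x,
        ((Spec.map (CommRingCat.ofHom φ)).residueFieldMap x).hom.IsPurelyInseparable :=
    (tfae_universallyInjective (Spec.map (CommRingCat.ofHom φ))).out 0 2
  rw [htfae]
  refine ⟨hbij.1, fun x => ?_⟩
  apply isPurelyInseparable_of_bijective
  have h1 : IsIso ((Spec.map (CommRingCat.ofHom φ)).residueFieldMap x) :=
    (isIso_residueFieldMap_iff (CommRingCat.ofHom φ) x).mpr (hres x)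
  exact (ConcreteCategory.isIso_iff_bijective _).mp h1

theorem of_isUnivHomeo (h : FlatMor.IsUnivHomeo (Spec.map (CommRingCat.ofHom φ))) :
    φ.IsIntegral ∧ Function.Bijective (PrimeSpectrum.comap φ) := by
  have h1 := Groth.Agent.Lib.UnivHomeo.isIntegralHom h
  exact ⟨IsIntegralHom.SpecMap_iff.mp h1, (Groth.Agent.Lib.UnivHomeo.isHomeomorph h).bijective⟩

end Criteria

end Groth.Agent.Lib.SpecResidueH52
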