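import Mathlib
import Groth.Agent.Lib.SpecResidueH52
import Groth.Prelude.Def_Hens2

/-!
# Étale localization of quasi-finite morphisms (helper34)  — Stacks 02LK

* `eq_of_fst_eq_of_snd_eq`: if `κ(g u) → κ(u)` is an isomorphism, `X ×_S U` has at most one point
  over `(x, u)`.
* `isIso_residueFieldMap_fst`: under the same hypothesis `κ(x) → κ(w)` is an isomorphism for `w`
  over `(x, u)`.
* `exists_etaleNbhd_of_quasiFiniteAt`: `f` locally of finite type, quasi-finite at `x`: there is an
  étale `g : U ⟶ S`, `u ↦ f x` with trivial residue field extension and an open `V ⊆ X ×_S U`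
  finite over `U` with exactly one point `v` over `u`, and `v ↦ x`.
  (scheme version of Mathlib's `Algebra.exists_etale_isIdempotentElem_forall_liesOver_eq`, keeping
  all the outputs that `AlgebraicGeometry.exists_etale_isCompl_of_quasiFiniteAt` drops).
* `exists_isEtaleNbhd_of_quasiFiniteAt`: the same packaged with `Hens2.IsEtaleNbhd` and residue field
  bijectivity at `v`.
* `isClosed_of_isFinite_of_isSeparated`: such a `V` is closed if `f` is separated.
-/

set_option autoImplicit false
universe u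
open AlgebraicGeometry CategoryTheory Limits

namespace Groth.Agent.Lib.EtLocQF

section
variable {X U S : Scheme.{u}} (f : X ⟶ S) (g : U ⟶ S)

/-- If `κ(g u) → κ(u)` is an isomorphism, there is at most one point of `X ×_S U` over `(x, u)`. -/
theorem eq_of_fst_eq_of_snd_eq (w w' : ↑(pullback f g))
    (h1 : pullback.fst f g w = pullback.fst f g w') (h2 : pullback.snd f g w = pullback.snd f g w')
    (hiso : IsIso (g.residueFieldMap (pullback.snd f g w'))) : w = w' := by
  apply (Scheme.Pullback.carrierEquiv (f := f) (g := g)).injective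
  rw [Scheme.Pullback.carrierEquiv_eq_iff]
  refine ⟨Scheme.Pullback.Triplet.ext h1 h2, ?_⟩
  set T' := (Scheme.Pullback.carrierEquiv w').1 with hT'
  have hb : IsIso ((S.residueFieldCongr T'.hy).inv ≫ g.residueFieldMap T'.y) := by
    have : IsIso (g.residueFieldMap T'.y) := hiso
    infer_instance
  have hinl : IsIso T'.tensorInl := by
    unfold Scheme.Pullback.Triplet.tensorInl
    exact (IsPushout.of_hasPushout _ _).isIso_inl_of_isIso hb
  have hinj : Function.Injective (Spec.map T'.tensorInl) :=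
    (Spec.map T'.tensorInl).homeomorph.injective
  apply hinj
  exact Subsingleton.elim _ _

/-- If `κ(g u) → κ(u)` is an isomorphism, then `κ(x) → κ(w)` is an isomorphism for every point `w`
of `X ×_S U` over `(x, u)`. -/
theorem isIso_residueFieldMap_fst (w : ↑(pullback f g))
    (hiso : IsIso (g.residueFieldMap (pullback.snd f g w))) :
    IsIso ((pullback.fst f g).residueFieldMap w) := by
  set x := pullback.fst f g w with hx
  set u := pullback.snd f g w with hu
  have hs : f x = g u := congr($(pullback.condition (f := f) (g := g)) w)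
  -- the section `Spec κ(x) ⟶ X ×_S U`
  let β : Spec (X.residueField x) ⟶ U :=
    Spec.map (f.residueFieldMap x) ≫ Spec.map (S.residueFieldCongr hs).inv ≫
      Spec.map (inv (g.residueFieldMap u)) ≫ U.fromSpecResidueField u
  have hβ : X.fromSpecResidueField x ≫ f = β ≫ g := by
    dsimp only [β]
    simp only [Category.assoc]
    have e1 : Spec.map (inv (g.residueFieldMap u)) ≫ U.fromSpecResidueField u ≫ g =
        S.fromSpecResidueField (g u) := by
      rw [← Scheme.Hom.SpecMap_residueFieldMap_fromSpecResidueField g u, ← Spec.map_comp_assoc,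
        IsIso.hom_inv_id, Spec.map_id, Category.id_comp]
    have e2 : Spec.map (S.residueFieldCongr hs).inv ≫ S.fromSpecResidueField (g u) =
        S.fromSpecResidueField (f x) :=
      Scheme.residueFieldCongr_fromSpecResidueField hs.symm
    rw [e1, e2, Scheme.Hom.SpecMap_residueFieldMap_fromSpecResidueField]
  let σ : Spec (X.residueField x) ⟶ pullback f g :=
    pullback.lift (X.fromSpecResidueField x) β hβ
  obtain ⟨⟨y', ψ⟩, hσ⟩ : ∃ yψ : Σ y, (pullback f g).residueField y ⟶ X.residueField x,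
      σ = Spec.map yψ.2 ≫ (pullback f g).fromSpecResidueField yψ.1 :=
    ⟨Scheme.SpecToEquivOfField (IsLocalRing.ResidueField (X.presheaf.stalk x)) _ σ,
      ((Scheme.SpecToEquivOfField (IsLocalRing.ResidueField (X.presheaf.stalk x))
        _).symm_apply_apply σ).symm⟩
  dsimp only at hσ
  -- `y' = w`
  have hy' : y' = w := by
    have hpt : ∀ z : Spec (X.residueField x), σ z = y' := by
      intro z
      rw [hσ, Scheme.Hom.comp_apply, Scheme.fromSpecResidueField_apply]
    obtain ⟨z⟩ : Nonempty (Spec (X.residueField x)) := inferInstance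
    rw [← hpt z]
    apply eq_of_fst_eq_of_snd_eq f g _ _ _ _ hiso
    · rw [← Scheme.Hom.comp_apply, pullback.lift_fst, Scheme.fromSpecResidueField_apply]
    · rw [← Scheme.Hom.comp_apply, pullback.lift_snd]
      dsimp only [β]
      simp only [Scheme.Hom.comp_apply, Scheme.fromSpecResidueField_apply]
      rfl
  subst hy'
  have h1 : σ ≫ pullback.fst f g = X.fromSpecResidueField x := pullback.lift_fst _ _ _
  have h2 : (pullback.fst f g).residueFieldMap y' ≫ ψ = 𝟙 _ := by
    apply Spec.map_injective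
    rw [← cancel_mono (X.fromSpecResidueField x), Spec.map_comp, Category.assoc,
      Scheme.Hom.SpecMap_residueFieldMap_fromSpecResidueField, ← Category.assoc, ← hσ, h1,
      Spec.map_id, Category.id_comp]
  have hmono : Mono ψ := ConcreteCategory.mono_of_injective ψ ψ.hom.injective
  have h3 : ψ ≫ (pullback.fst f g).residueFieldMap y' = 𝟙 _ := by
    rw [← cancel_mono ψ, Category.assoc, h2, Category.comp_id, Category.id_comp]
  exact ⟨ψ, h2, h3⟩


end

/-- an open of `X ×_S U` finite over `U` is closed when `f` is separated -/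
theorem isClosed_of_isFinite_of_isSeparated {X U S : Scheme.{u}} (f : X ⟶ S) (g : U ⟶ S)
    [IsSeparated f] (V : (pullback f g).Opens) (hV : IsFinite (V.ι ≫ pullback.snd f g)) :
    IsClosed (V : Set ↑(pullback f g)) := by
  have : IsProper V.ι := IsProper.of_comp _ (pullback.snd f g)
  have h := V.ι.isClosedMap.isClosed_range
  rwa [Scheme.Opens.range_ι] at h

lemma bijective_residueField_map_of_mapₐ {R R' : Type u} [CommRing R] [CommRing R'] [Algebra R R']
    (p : Ideal R) [p.IsPrime] (P : Ideal R') [P.IsPrime] [P.LiesOver p]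
    (H : Function.Bijective (Ideal.ResidueField.mapₐ p P (Algebra.ofId _ _) (P.over_def p))) :
    Function.Bijective (Ideal.ResidueField.map (P.comap (algebraMap R R')) P
      (algebraMap R R') rfl) := by
  obtain rfl : p = P.comap (algebraMap R R') := P.over_def p
  exact H

set_option backward.defeqAttrib.useBackward true in
set_option backward.isDefEq.respectTransparency false in
open TensorProduct in
theorem exists_etaleNbhd_of_quasiFiniteAt {X S : Scheme.{u}} (f : X ⟶ S) [LocallyOfFiniteType f]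
    (x : X) (hx : f.QuasiFiniteAt x) :
    ∃ (U : Scheme.{u}) (g : U ⟶ S) (u : U), Etale g ∧ g u = f x ∧ IsIso (g.residueFieldMap u) ∧
      ∃ (V : (pullback f g).Opens) (v : ↑(pullback f g)), v ∈ V ∧
        IsFinite (V.ι ≫ pullback.snd f g) ∧ pullback.snd f g v = u ∧ pullback.fst f g v = x ∧
        (∀ w : ↑(pullback f g), w ∈ V → pullback.snd f g w = u → w = v) := by
  obtain ⟨_, ⟨U, hU, rfl⟩, hxU, -⟩ := S.isBasis_affineOpens.exists_subset_of_mem_open
    (Set.mem_univ (f x)) isOpen_univ
  obtain ⟨_, ⟨V, hV, rfl⟩, hxV, hUV : V ≤ f ⁻¹ᵁ U⟩ :=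
    X.isBasis_affineOpens.exists_subset_of_mem_open hxU (f ⁻¹ᵁ U).2
  have : (f.appLE U V hUV).hom.FiniteType := f.finiteType_appLE hU hV hUV
  algebraize [(f.appLE U V hUV).hom]
  have : (hV.primeIdealOf ⟨x, hxV⟩).asIdeal.LiesOver (hU.primeIdealOf ⟨f x, hxU⟩).asIdeal := by
    suffices hU.primeIdealOf ⟨f x, hxU⟩ = Spec.map (f.appLE U V hUV) (hV.primeIdealOf ⟨x, hxV⟩) from
      ⟨congr(($this).1)⟩
    apply hU.isoSpec.inv.homeomorph.injective
    apply Subtype.ext
    simp only [IsAffineOpen.primeIdealOf, Scheme.Hom.homeomorph_apply,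
      ← Scheme.Hom.comp_apply, ← Scheme.Opens.ι_apply, IsAffineOpen.isoSpec_hom]
    simp
  have : Algebra.QuasiFiniteAt Γ(S, U) (hV.primeIdealOf ⟨x, hxV⟩).asIdeal :=
    hx.quasiFiniteAt hV hU hUV hxV
  obtain ⟨R, _, _, _, P, _, _, e, _, P', _, _, hP', heP', hbij, _, huniq⟩ :=
    Algebra.exists_etale_isIdempotentElem_forall_liesOver_eq
    (hU.primeIdealOf ⟨f x, hxU⟩).asIdeal (hV.primeIdealOf ⟨x, hxV⟩).asIdeal
  have : (algebraMap R (Localization.Away e)).Finite := RingHom.finite_algebraMap.mpr ‹_›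
  let φ : Γ(S, U) ⟶ .of R := CommRingCat.ofHom <| algebraMap Γ(S, U) R
  have hφ : φ.hom.Etale := RingHom.etale_algebraMap.mpr ‹_›
  have : Etale (Spec.map φ) := HasRingHomProperty.Spec_iff.mpr hφ
  let e₁ : Spec (.of (R ⊗ Γ(X, V))) ≅ pullback (Spec.map (f.appLE U V hUV)) (Spec.map φ) :=
    (pullbackSpecIso _ _ _).symm ≪≫ pullbackSymmetry _ _
  have he₁ : e₁.hom ≫ pullback.fst _ _ =
      Spec.map (CommRingCat.ofHom Algebra.TensorProduct.includeRight.toRingHom) := by
    dsimp [e₁, RingHom.algebraMap_toAlgebra]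
    rw [Category.assoc, pullbackSymmetry_hom_comp_fst]
    exact pullbackSpecIso_inv_snd ..
  have he₁' : e₁.hom ≫ pullback.snd _ _ =
      Spec.map (CommRingCat.ofHom (algebraMap R (R ⊗[Γ(S, U)] Γ(X, V)))) := by
    dsimp [e₁, RingHom.algebraMap_toAlgebra]
    rw [Category.assoc, pullbackSymmetry_hom_comp_snd]
    exact pullbackSpecIso_inv_fst ..
  let g : Spec (.of (R ⊗[Γ(S, U)] Γ(X, V))) ⟶ pullback f (Spec.map φ ≫ hU.fromSpec) :=
    e₁.hom ≫ pullback.map _ _ _ _ hV.fromSpec (𝟙 _) hU.fromSpec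
      (IsAffineOpen.SpecMap_appLE_fromSpec ..) (by simp)
  let W₁ := g ''ᵁ PrimeSpectrum.basicOpen e
  have : IsFinite (W₁.ι ≫ pullback.snd f _) := by
    let ι : Spec (.of (Localization.Away e)) ⟶ pullback f (Spec.map φ ≫ hU.fromSpec) :=
      Spec.map (CommRingCat.ofHom <| algebraMap _ _) ≫ g
    have : ι.opensRange = W₁ := by
      simp only [Scheme.Hom.opensRange_comp, ι, W₁]
      congr 1
      exact TopologicalSpace.Opens.ext <| PrimeSpectrum.localization_away_comap_range _ _
    rw [← this, ← MorphismProperty.cancel_left_of_respectsIso @IsFinite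
      (Scheme.Hom.isoOpensRange _).hom]
    have H : (pullbackSpecIso _ R _).inv ≫ pullback.fst _ (Spec.map (f.appLE U V hUV)) = _ :=
      pullbackSpecIso_inv_fst ..
    simpa [Scheme.Hom.isoOpensRange, ι, g, e₁, RingHom.algebraMap_toAlgebra, φ, H,
      ← Spec.map_comp, IsFinite.SpecMap_iff]
  have hgsnd : g ≫ pullback.snd f (Spec.map φ ≫ hU.fromSpec) =
      Spec.map (CommRingCat.ofHom (algebraMap R (R ⊗[Γ(S, U)] Γ(X, V)))) := by
    dsimp only [g]
    rw [Category.assoc, pullback.lift_snd, ← Category.assoc, he₁', Category.comp_id]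
  refine ⟨Spec (.of R), Spec.map φ ≫ hU.fromSpec, ⟨P, ‹_›⟩, inferInstance, ?_, ?_, W₁,
    g ⟨P', ‹_›⟩, ⟨⟨P', ‹_›⟩, heP', rfl⟩, ‹_›, ?_, ?_, ?_⟩
  · dsimp [Spec.map_apply]
    convert! hU.fromSpec_primeIdealOf ⟨f x, hxU⟩
    exact PrimeSpectrum.ext (Ideal.over_def _ _).symm
  · rw [Scheme.residueFieldMap_comp]
    have h1 : IsIso ((Spec.map φ).residueFieldMap ⟨P, ‹_›⟩) := by
      rw [Groth.Agent.Lib.SpecResidueH52.isIso_residueFieldMap_iff]
      exact bijective_residueField_map_of_mapₐ _ P hbij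
    infer_instance
  · rw [← Scheme.Hom.comp_apply, hgsnd]
    exact PrimeSpectrum.ext (P'.over_def P).symm
  · trans hV.fromSpec ⟨P'.comap Algebra.TensorProduct.includeRight.toRingHom, inferInstance⟩
    · simp [← Scheme.Hom.comp_apply, -Scheme.Hom.comp_base, g, reassoc_of% he₁]; rfl
    convert! hV.fromSpec_primeIdealOf ⟨x, hxV⟩
  · rintro w ⟨P'', hP''e, rfl⟩ hw
    have hw' : (g ≫ pullback.snd f (Spec.map φ ≫ hU.fromSpec)) P'' = ⟨P, ‹_›⟩ := hw
    rw [hgsnd] at hw'
    have hlies : P''.asIdeal.LiesOver P := ⟨congrArg PrimeSpectrum.asIdeal hw'.symm⟩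
    have := huniq P''.asIdeal inferInstance hlies hP''e
    change g P'' = g ⟨P', ‹_›⟩
    congr 1
    exact PrimeSpectrum.ext this


/-- Stacks 02LK packaged with `Hens2.IsEtaleNbhd`. -/
theorem exists_isEtaleNbhd_of_quasiFiniteAt {X S : Scheme.{u}} (f : X ⟶ S) [LocallyOfFiniteType f]
    (x : X) (hx : f.QuasiFiniteAt x) :
    ∃ (U : Scheme.{u}) (g : U ⟶ S) (u : U), Hens2.IsEtaleNbhd g u (f x) ∧
      ∃ (V : (pullback f g).Opens) (v : ↑(pullback f g)), v ∈ V ∧
        IsFinite (V.ι ≫ pullback.snd f g) ∧ pullback.snd f g v = u ∧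
        (∀ w : ↑(pullback f g), w ∈ V → pullback.snd f g w = u → w = v) ∧
        pullback.fst f g v = x ∧ Function.Bijective ((pullback.fst f g).residueFieldMap v) := by
  obtain ⟨U, g, u, hg, hgu, hiso, V, v, hvV, hfin, hsnd, hfst, huniq⟩ :=
    exists_etaleNbhd_of_quasiFiniteAt f x hx
  refine ⟨U, g, u, ⟨hg, hgu, (ConcreteCategory.isIso_iff_bijective _).mp hiso⟩, V, v, hvV, hfin,
    hsnd, huniq, hfst, ?_⟩
  have : IsIso ((pullback.fst f g).residueFieldMap v) :=
    isIso_residueFieldMap_fst f g v (hsnd ▸ hiso)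
  exact (ConcreteCategory.isIso_iff_bijective _).mp this

end Groth.Agent.Lib.EtLocQF
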