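import Mathlib
import Groth.Agent.Lib.EtLocQF

/-!
# Completely decomposed morphisms: pointwise lemmas (helper62)

`CdAt f y`: some point over `y` has trivial residue field extension.
* `bijective_residueFieldMap_of_surjectiveOnStalks`
* `CdAt.of_section`, `CdAt.of_isPullback`, `CdAt.precomp_iso`, `CdAt.postcomp_iso`
-/

set_option autoImplicit false
universe u
open CategoryTheory CategoryTheory.Limits AlgebraicGeometry

namespace Groth.Agent.Lib.CdDescent62

/-- `y` is the image of a point with trivial residue field extension. -/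
def CdAt {X Y : Scheme.{u}} (f : X ⟶ Y) (y : Y) : Prop :=
  ∃ x : X, f x = y ∧ Function.Bijective (f.residueFieldMap x)

theorem bijective_of_comp {A B C : CommRingCat.{u}} (a : A ⟶ B) (b : B ⟶ C)
    (ha : Function.Injective a) (hb : Function.Injective b) (h : Function.Bijective (a ≫ b)) :
    Function.Bijective a := by
  refine ⟨ha, fun y => ?_⟩
  obtain ⟨x, hx⟩ := h.2 (b y)
  exact ⟨x, hb (by rw [← hx, ConcreteCategory.comp_apply])⟩

theorem bijective_comp {A B C : CommRingCat.{u}} (a : A ⟶ B) (b : B ⟶ C)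
    (ha : Function.Bijective a) (hb : Function.Bijective b) : Function.Bijective (a ≫ b) := by
  have : ⇑(ConcreteCategory.hom (a ≫ b)) = ⇑(ConcreteCategory.hom b) ∘ ⇑(ConcreteCategory.hom a) := by
    funext x; rw [ConcreteCategory.comp_apply]; rfl
  rw [this]
  exact hb.comp ha

theorem bijective_residueFieldMap_of_surjectiveOnStalks {Z Y : Scheme.{u}} (z : Z ⟶ Y)
    [SurjectiveOnStalks z] (w : Z) : Function.Bijective (z.residueFieldMap w) := by
  refine ⟨(z.residueFieldMap w).hom.injective, ?_⟩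
  have h1 : Y.residue (z w) ≫ z.residueFieldMap w = z.stalkMap w ≫ Z.residue w :=
    Scheme.residue_residueFieldMap z w
  intro b
  obtain ⟨b', hb'⟩ := Z.residue_surjective w b
  obtain ⟨a, ha⟩ := z.stalkMap_surjective w b'
  refine ⟨Y.residue (z w) a, ?_⟩
  have h3 := ConcreteCategory.congr_hom h1 a
  rw [ConcreteCategory.comp_apply, ConcreteCategory.comp_apply] at h3
  rw [h3, ha, hb']

/-- A section through a morphism with trivial residue field extensions produces rational points. -/
theorem CdAt.of_section {X Y Z : Scheme.{u}} (f : X ⟶ Y) (z : Z ⟶ Y) (σ : Z ⟶ X) (hσ : σ ≫ f = z)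
    (w : Z) (hw : Function.Bijective (z.residueFieldMap w)) : CdAt f (z w) := by
  subst hσ
  refine ⟨σ w, rfl, ?_⟩
  rw [Scheme.residueFieldMap_comp] at hw
  exact bijective_of_comp _ _ (f.residueFieldMap (σ w)).hom.injective
    (σ.residueFieldMap w).hom.injective hw

theorem CdAt.precomp_iso {X X' Y : Scheme.{u}} (e : X' ⟶ X) [IsIso e] (f : X ⟶ Y) (y : Y)
    (h : CdAt f y) : CdAt (e ≫ f) y := by
  obtain ⟨x, rfl, hx⟩ := h
  obtain ⟨x', rfl⟩ := (e.homeomorph).surjective x
  refine ⟨x', rfl, ?_⟩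
  rw [Scheme.residueFieldMap_comp]
  have : IsIso (e.residueFieldMap x') := inferInstance
  exact bijective_comp _ _ hx ((ConcreteCategory.isIso_iff_bijective _).1 this)

theorem CdAt.postcomp_iso {X Y Y' : Scheme.{u}} (f : X ⟶ Y) (e : Y ⟶ Y') [IsIso e] (y : Y)
    (h : CdAt f y) : CdAt (f ≫ e) (e y) := by
  obtain ⟨x, rfl, hx⟩ := h
  refine ⟨x, rfl, ?_⟩
  rw [Scheme.residueFieldMap_comp]
  have : IsIso (e.residueFieldMap (f x)) := inferInstance
  exact bijective_comp _ _ ((ConcreteCategory.isIso_iff_bijective _).1 this) hx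

/-- Rational points pull back. -/
theorem CdAt.of_isPullback {X X' Y Y' : Scheme.{u}} {p : X' ⟶ X} {f' : X' ⟶ Y'} {f : X ⟶ Y}
    {g : Y' ⟶ Y} (sq : IsPullback p f' f g) (y' : Y') (h : CdAt f (g y')) : CdAt f' y' := by
  obtain ⟨x, hx, hbij⟩ := h
  obtain ⟨w, hw1, hw2⟩ := Scheme.Pullback.exists_preimage_pullback (f := g) (g := f) y' x hx.symm
  have hiso : IsIso (f.residueFieldMap (pullback.snd g f w)) := by
    rw [hw2]
    exact (ConcreteCategory.isIso_iff_bijective _).2 hbij
  have h1 : IsIso ((pullback.fst g f).residueFieldMap w) :=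
    Groth.Agent.Lib.EtLocQF.isIso_residueFieldMap_fst g f w hiso
  have h2 : CdAt (pullback.fst g f) y' :=
    ⟨w, hw1, (ConcreteCategory.isIso_iff_bijective _).1 h1⟩
  have h3 : f' = sq.flip.isoPullback.hom ≫ pullback.fst g f := (sq.flip.isoPullback_hom_fst).symm
  rw [h3]
  exact CdAt.precomp_iso _ _ _ h2

end Groth.Agent.Lib.CdDescent62
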