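import Groth.Agent.Lib.DescFPAffine

/-!
# EGA IV 8.8.2: descent of finitely presented schemes through cofiltered limits (helper62)

`hasModel_of_fp`: `c` a limit of a cofiltered diagram `D` of quasi-compact quasi-separated schemes
with affine transition maps; every morphism `f : X ⟶ c.pt` of finite presentation is the base change
of a finitely presented morphism `Xi ⟶ D.obj i` with `Xi` quasi-compact and quasi-separated.
-/

set_option autoImplicit false
universe u

open CategoryTheory Limits AlgebraicGeometry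

namespace Groth.Agent.Lib.DescFP

variable {I : Type u} [Category.{u} I] (D : I ⥤ Scheme.{u}) (c : Cone D)

/-- Having a model is invariant under isomorphisms of the source. -/
theorem hasModel_of_iso {X X' : Scheme.{u}} (e : X' ≅ X) (f : X ⟶ c.pt)
    (h : HasModel D c (e.hom ≫ f)) : HasModel D c f := by
  obtain ⟨i, Xi, fi, g, h1, h2, h3, sq⟩ := h
  refine ⟨i, Xi, fi, e.inv ≫ g, h1, h2, h3, ?_⟩
  exact sq.of_iso e (Iso.refl _) (Iso.refl _) (Iso.refl _) (by simp) (by simp) (by simp) (by simp)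

variable [IsCofiltered I] (hc : IsLimit c) [∀ {i j} (f : i ⟶ j), IsAffineHom (D.map f)]

include hc in
/-- A small affine open of `X` (mapping into an affine open of a stage) has a model. -/
theorem hasModel_of_small {X : Scheme.{u}} (f : X ⟶ c.pt) [LocallyOfFinitePresentation f] (i : I)
    (V : (D.obj i).Opens) (hV : IsAffineOpen V) (U : X.Opens) (hU : IsAffineOpen U)
    (hUV : U ≤ f ⁻¹ᵁ (c.π.app i ⁻¹ᵁ V)) : HasModel D c (U.ι ≫ f) := by
  haveI : IsAffine U.toScheme := hU
  haveI : IsAffine V.toScheme := hV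
  have hr : Set.range (U.ι ≫ f ≫ c.π.app i) ⊆ Set.range V.ι := by
    rintro _ ⟨x, rfl⟩
    rw [Scheme.Opens.range_ι]
    exact hUV x.2
  let u₀ : U.toScheme ⟶ V.toScheme := IsOpenImmersion.lift V.ι (U.ι ≫ f ≫ c.π.app i) hr
  have hu₀ : u₀ ≫ V.ι = U.ι ≫ f ≫ c.π.app i := IsOpenImmersion.lift_fac _ _ _
  let u : U.toScheme ⟶ pullback V.ι (c.π.app i) :=
    pullback.lift u₀ (U.ι ≫ f) (by rw [hu₀, Category.assoc])
  exact hasModel_of_affine D c hc (U.ι ≫ f) V.ι u (pullback.lift_snd _ _ _)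

include hc in
/-- Union step. -/
theorem hasModel_sup {X : Scheme.{u}} [QuasiSeparatedSpace X] (f : X ⟶ c.pt) (W U : X.Opens)
    (hWc : IsCompact (W : Set X)) (hUc : IsCompact (U : Set X))
    (hW : HasModel D c (W.ι ≫ f)) (hU : HasModel D c (U.ι ≫ f)) :
    HasModel D c ((W ⊔ U).ι ≫ f) := by
  let jW : W.toScheme ⟶ (W ⊔ U).toScheme := X.homOfLE le_sup_left
  let jU : U.toScheme ⟶ (W ⊔ U).toScheme := X.homOfLE le_sup_right
  have hcov : ∀ x : (W ⊔ U).toScheme, x ∈ Set.range jW ∨ x ∈ Set.range jU := by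
    intro x
    have hx : x.1 ∈ W ⊔ U := x.2
    rcases hx with h | h
    · exact Or.inl ⟨⟨x.1, h⟩, Scheme.homOfLE_apply' _ _ _⟩
    · exact Or.inr ⟨⟨x.1, h⟩, Scheme.homOfLE_apply' _ _ _⟩
  have hWU : IsCompact ((W ⊓ U : X.Opens) : Set X) :=
    QuasiSeparatedSpace.inter_isCompact _ _ W.isOpen hWc U.isOpen hUc
  haveI : CompactSpace ↥(W ⊓ U : X.Opens).toScheme := isCompact_iff_compactSpace.mp hWU
  haveI : CompactSpace ↥(pullback jW jU) :=
    (Scheme.homeoOfIso
      (isPullback_opens_inf_le (le_sup_left : W ≤ W ⊔ U) (le_sup_right : U ≤ W ⊔ U)).isoPullback).compactSpace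
  refine hasModel_glue D c hc ((W ⊔ U).ι ≫ f) jW jU hcov ?_ ?_
  · rw [Scheme.homOfLE_ι_assoc]; exact hW
  · rw [Scheme.homOfLE_ι_assoc]; exact hU

include hc in
/-- **EGA IV 8.8.2**. -/
theorem hasModel_of_fp [∀ i, CompactSpace (D.obj i)] [∀ i, QuasiSeparatedSpace (D.obj i)]
    {X : Scheme.{u}} (f : X ⟶ c.pt) [LocallyOfFinitePresentation f] [QuasiCompact f]
    [QuasiSeparated f] : HasModel D c f := by
  obtain ⟨i₀⟩ := IsCofiltered.nonempty (C := I)
  haveI : CompactSpace c.pt := Scheme.compactSpace_of_isLimit D c hc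
  haveI := isAffineHom_π_app D c hc i₀
  haveI : QuasiSeparatedSpace c.pt := quasiSeparatedSpace_of_quasiSeparated (c.π.app i₀)
  haveI : CompactSpace X := QuasiCompact.compactSpace_of_compactSpace f
  haveI : QuasiSeparatedSpace X := quasiSeparatedSpace_of_quasiSeparated f
  -- small affine neighbourhoods
  have hsmall : ∀ x : X, ∃ U : X.Opens, x ∈ U ∧ IsCompact (U : Set X) ∧ HasModel D c (U.ι ≫ f) := by
    intro x
    obtain ⟨V, hV, hxV, -⟩ := exists_isAffineOpen_mem_and_subset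
      (x := c.π.app i₀ (f x)) (U := ⊤) trivial
    have hx : x ∈ f ⁻¹ᵁ (c.π.app i₀ ⁻¹ᵁ V) := hxV
    obtain ⟨U, hU, hxU, hUle⟩ := exists_isAffineOpen_mem_and_subset hx
    exact ⟨U, hxU, hU.isCompact, hasModel_of_small D c hc f i₀ V hV U hU hUle⟩
  choose U hxU hUc hUm using hsmall
  obtain ⟨t, ht⟩ := isCompact_univ.elim_finite_subcover (fun x => (U x : Set X))
    (fun x => (U x).isOpen) (fun x _ => Set.mem_iUnion.2 ⟨x, hxU x⟩)
  -- induction
  have key : ∀ s : Finset X, IsCompact ((⨆ x ∈ s, U x : X.Opens) : Set X) ∧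
      HasModel D c ((⨆ x ∈ s, U x : X.Opens).ι ≫ f) := by
    classical
    intro s
    induction s using Finset.induction_on with
    | empty =>
      have h0 : (⨆ x ∈ (∅ : Finset X), U x : X.Opens) = ⊥ := by simp
      rw [h0]
      refine ⟨by simp, ?_⟩
      exact hasModel_of_small D c hc f i₀ ⊥ (isAffineOpen_bot _) ⊥ (isAffineOpen_bot _) bot_le
    | insert a s _ ih =>
      have h1 : (⨆ x ∈ insert a s, U x : X.Opens) = (⨆ x ∈ s, U x) ⊔ U a := by
        rw [Finset.iSup_insert, sup_comm]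
      rw [h1]
      refine ⟨?_, hasModel_sup D c hc f _ _ ih.1 (hUc a) ih.2 (hUm a)⟩
      rw [TopologicalSpace.Opens.coe_sup]
      exact ih.1.union (hUc a)
  have htop : (⨆ x ∈ t, U x : X.Opens) = ⊤ := by
    rw [eq_top_iff]
    intro x _
    have hx := ht (Set.mem_univ x)
    simp only [Set.mem_iUnion] at hx
    obtain ⟨y, hy, hxy⟩ := hx
    exact TopologicalSpace.Opens.mem_iSup.2 ⟨y, TopologicalSpace.Opens.mem_iSup.2 ⟨hy, hxy⟩⟩
  have h2 := (key t).2
  rw [htop] at h2
  exact hasModel_of_iso D c X.topIso f h2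

end Groth.Agent.Lib.DescFP
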