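import Mathlib
import Groth.Agent.Lib.CdDescent62a
import Groth.Agent.S0591
import Groth.Agent.Lib.LimDescentImm
import Groth.Agent.Lib.LimDescentIso

/-!
# Descending an immersion of finite presentation together with a lifting (helper62)

`exists_stage_immersion_lift`: `E : J ⥤ Scheme` cofiltered with affine transition maps, all stages
qcqs, limit cone `cE`; `X'` locally of finite presentation over `S'`, `t : E ⟶ const S'`.
An immersion of finite presentation `z : Z ⟶ cE.pt` with a lifting `a : Z ⟶ X'` over `S'` comes from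
an immersion of finite presentation into some stage `E j`, with a lifting to `X'`.
-/

set_option autoImplicit false
set_option linter.style.haveILetI false
universe u
open CategoryTheory CategoryTheory.Limits AlgebraicGeometry

namespace Groth.Agent.Lib.CdDescent62

open Groth.Agent.Lib.LimDescent Groth.Agent.Lib.LimPullback

variable {J : Type u} [SmallCategory J] [IsCofiltered J] (E : J ⥤ Scheme.{u}) (cE : Cone E)
  (hcE : IsLimit cE) [∀ (i j : J) (f : i ⟶ j), IsAffineHom (E.map f)]
  [∀ j, CompactSpace (E.obj j)] [∀ j, QuasiSeparatedSpace (E.obj j)]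

include hcE in
theorem exists_stage_immersion_lift {S' X' : Scheme.{u}} (f' : X' ⟶ S')
    [LocallyOfFinitePresentation f'] (t : E ⟶ (Functor.const J).obj S')
    {Z : Scheme.{u}} (z : Z ⟶ cE.pt) [IsImmersion z] [LocallyOfFinitePresentation z]
    [QuasiCompact z] [QuasiSeparated z] (a : Z ⟶ X')
    (ha : ∀ j, a ≫ f' = z ≫ cE.π.app j ≫ t.app j) :
    ∃ (j : J) (Zj : Scheme.{u}) (zj : Zj ⟶ E.obj j) (aj : Zj ⟶ X'),
      IsImmersion zj ∧ LocallyOfFinitePresentation zj ∧ QuasiCompact zj ∧
      aj ≫ f' = zj ≫ t.app j ∧ ⇑(cE.π.app j) ⁻¹' Set.range ⇑zj = Set.range ⇑z := by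
  haveI hE : ∀ {i j : J} (f : i ⟶ j), IsAffineHom (E.map f) := fun f => inferInstance
  -- Step 1: descend `z` to a stage
  obtain ⟨j₁, Z₁, z₁, g, h1, h2, h3, hpb⟩ := Groth.Agent.S0591.result E cE hcE Z z
  haveI := h1; haveI := h2; haveI := h3
  haveI : CompactSpace Z₁ := QuasiCompact.compactSpace_of_compactSpace z₁
  haveI : QuasiSeparatedSpace Z₁ := quasiSeparatedSpace_of_quasiSeparated z₁
  -- Step 2: immersion at some stage
  have hlim : IsImmersion (bcMap z₁ (𝟙 (E.obj j₁)) (cE.π.app j₁)) :=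
    limMap_of E cE @IsImmersion z₁ (𝟙 _) z (𝟙 cE.pt) (cE.π.app j₁) g (IsPullback.id_vert _) hpb
      inferInstance
  obtain ⟨j₂, hj₂⟩ := exists_isImmersion_stage E cE hcE z₁ (𝟙 (E.obj j₁)) hlim
  -- Step 3: the second level system
  set z₁' : Z₁ ⟶ E.obj j₁ := z₁ ≫ 𝟙 (E.obj j₁) with hz₁'
  haveI : LocallyOfFinitePresentation z₁' := by rw [hz₁']; infer_instance
  haveI : QuasiCompact z₁' := by rw [hz₁']; infer_instance
  have hpb' : IsPullback g z z₁' (cE.π.app j₁) := by
    rw [hz₁', Category.comp_id]; exact hpb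
  let e : Z ≅ pullback z₁' (cE.π.app j₁) := hpb'.isoPullback
  have he_snd : e.hom ≫ pullback.snd z₁' (cE.π.app j₁) = z := hpb'.isoPullback_hom_snd
  let t' : pbDiagram E j₁ z₁' ⟶ (Functor.const (Over j₁)).obj S' :=
    { app := fun k => pullback.snd z₁' (E.map k.hom) ≫ t.app k.left
      naturality := fun k k' m => by
        change pbMap E j₁ z₁' m ≫ pullback.snd z₁' (E.map k'.hom) ≫ t.app k'.left =
          (pullback.snd z₁' (E.map k.hom) ≫ t.app k.left) ≫ 𝟙 _
        have := t.naturality m.left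
        simp only [Functor.const_obj_obj, Functor.const_obj_map, Category.comp_id] at this
        rw [pbMap_snd_assoc, this, Category.comp_id] }
  have hcond : (pbCone E cE j₁ z₁').π ≫ t' =
      (Functor.const (Over j₁)).map ((e.inv ≫ a) ≫ f') := by
    ext k
    change pbProj E cE j₁ z₁' k ≫ pullback.snd z₁' (E.map k.hom) ≫ t.app k.left =
      (e.inv ≫ a) ≫ f'
    rw [pbProj_snd_assoc, Category.assoc, ha k.left, ← he_snd]
    simp only [Category.assoc, Iso.inv_hom_id_assoc]
  obtain ⟨k, g', hg'1, hg'2⟩ : ∃ (k : Over j₁) (g' : pullback z₁' (E.map k.hom) ⟶ X'),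
      pbProj E cE j₁ z₁' k ≫ g' = e.inv ≫ a ∧
      g' ≫ f' = pullback.snd z₁' (E.map k.hom) ≫ t.app k.left :=
    Scheme.exists_π_app_comp_eq_of_locallyOfFinitePresentation
      (pbDiagram E j₁ z₁') t' f' (pbCone E cE j₁ z₁') (isLimitPbCone hcE) (e.inv ≫ a) hcond
  -- Step 4: a common stage
  let k' : Over j₁ := IsCofiltered.min k j₂
  let m₁ : k' ⟶ k := IsCofiltered.minToLeft k j₂
  let m₂ : k' ⟶ j₂ := IsCofiltered.minToRight k j₂
  have himm₂ : IsImmersion (pullback.snd z₁' (E.map j₂.hom)) := by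
    have : pullback.snd z₁' (E.map j₂.hom) =
        bcMap z₁ (𝟙 (E.obj j₁)) (E.map j₂.hom) ≫ pullback.snd (𝟙 (E.obj j₁)) (E.map j₂.hom) :=
      (bcMap_snd _ _ _).symm
    rw [this]; infer_instance
  have himm : IsImmersion (pullback.snd z₁' (E.map k'.hom)) :=
    MorphismProperty.of_isPullback (P := @IsImmersion) (isPullback_pbMap E j₁ z₁' m₂) himm₂
  refine ⟨k'.left, pullback z₁' (E.map k'.hom), pullback.snd z₁' (E.map k'.hom),
    pbMap E j₁ z₁' m₁ ≫ g', himm, inferInstance, inferInstance, ?_, ?_⟩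
  · have hnat : pbMap E j₁ z₁' m₁ ≫ pullback.snd z₁' (E.map k.hom) ≫ t.app k.left =
        pullback.snd z₁' (E.map k'.hom) ≫ t.app k'.left := by
      have := t'.naturality m₁
      simp only [Functor.const_obj_obj, Functor.const_obj_map, Category.comp_id] at this
      exact this
    rw [Category.assoc, hg'2, hnat]
  · have hsq := range_eq_preimage_of_isPullback (isPullback_pbProj E cE j₁ z₁' k')
    have hz : Set.range ⇑z = Set.range ⇑(pullback.snd z₁' (cE.π.app j₁)) := by
      rw [← he_snd]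
      ext y
      constructor
      · rintro ⟨w, rfl⟩; exact ⟨e.hom w, rfl⟩
      · rintro ⟨w, rfl⟩
        refine ⟨e.inv w, ?_⟩
        rw [← Scheme.Hom.comp_apply, Iso.inv_hom_id_assoc]
    rw [hz]
    exact hsq.symm

end Groth.Agent.Lib.CdDescent62
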