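import Groth.Agent.Lib.ConsTop2
import Mathlib.AlgebraicGeometry.Morphisms.QuasiCompact

/-!
Compactness statements for pro-constructible and ind-constructible subsets of quasi-compact schemes.
-/

set_option autoImplicit false

namespace Groth.Agent.Lib.ConsTop

open Topology Set

section TopologicalPart

variable {W : Type*} [TopologicalSpace W] [CompactSpace W] [QuasiSober W] [PrespectralSpace W]
  [QuasiSeparatedSpace W]

/-- On a spectral-like space: if an intersection of pro-constructible sets lies in an
ind-constructible set, so does a finite sub-intersection. -/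
theorem exists_finset_biInter_subset_of_spectral {ι : Type*} {E : Set W}
    (hE : ProCons.IsIndConstructible E) (F : ι → Set W)
    (hF : ∀ i, ProCons.IsProConstructible (F i)) (h : ⋂ i, F i ⊆ E) :
    ∃ J : Finset ι, ⋂ i ∈ J, F i ⊆ E := by
  classical
  have hc := compactSpace_constructibleTopology (W := W)
  let G : Option ι → Set W := fun o => o.elim Eᶜ F
  have hG : ∀ o, IsClosed[constructibleTopology W] (G o) := by
    rintro (_ | i)
    · exact (@isClosed_compl_iff _ (constructibleTopology W) _).mpr
        (isOpen_constructibleTopology_of_isIndConstructible hE)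
    · exact isClosed_constructibleTopology_of_isProConstructible (hF i)
  have hempty : univ ∩ ⋂ o, G o = ∅ := by
    rw [Set.univ_inter, Set.eq_empty_iff_forall_notMem]
    intro w hw
    rw [Set.mem_iInter] at hw
    exact hw none (h (Set.mem_iInter.mpr fun i => hw (some i)))
  obtain ⟨u, hu⟩ := @IsCompact.elim_finite_subfamily_closed W (constructibleTopology W) univ
    (Option ι) (@isCompact_univ _ (constructibleTopology W) hc) G hG hempty
  refine ⟨u.eraseNone, ?_⟩
  intro y hy
  by_contra hyE
  have : y ∈ univ ∩ ⋂ o ∈ u, G o := by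
    refine ⟨trivial, ?_⟩
    simp only [Set.mem_iInter]
    rintro (_ | i) ho
    · exact hyE
    · simp only [Set.mem_iInter] at hy
      exact hy i (Finset.mem_eraseNone.mpr ho)
  rw [hu] at this
  exact this

end TopologicalPart

section Schemes

open AlgebraicGeometry

universe u

/-- EGA IV 1.9.9 for quasi-compact schemes: if an intersection of pro-constructible sets lies
in an ind-constructible set, so does a finite sub-intersection. -/
theorem exists_finset_biInter_subset (X : Scheme.{u}) [CompactSpace X] {ι : Type*} {E : Set X}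
    (hE : ProCons.IsIndConstructible E) (F : ι → Set X)
    (hF : ∀ i, ProCons.IsProConstructible (F i)) (h : ⋂ i, F i ⊆ E) :
    ∃ J : Finset ι, ⋂ i ∈ J, F i ⊆ E := by
  classical
  obtain ⟨s, hs, hcov⟩ := (isCompact_and_isOpen_iff_finite_and_eq_biUnion_affineOpens
    (X := X) (U := univ)).mp ⟨isCompact_univ, isOpen_univ⟩
  have key : ∀ U : X.affineOpens, ∃ J : Finset ι,
      ∀ y ∈ (U : X.Opens), y ∈ ⋂ i ∈ J, F i → y ∈ E := by
    intro U
    have : IsAffine (U : X.Opens).toScheme := U.2
    obtain ⟨J, hJ⟩ := exists_finset_biInter_subset_of_spectral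
      (W := (U : X.Opens).toScheme) (E := (U : X.Opens).ι.base ⁻¹' E)
      (isIndConstructible_preimage _ hE) (fun i => (U : X.Opens).ι.base ⁻¹' F i)
      (fun i => isProConstructible_preimage _ (hF i))
      (by
        intro w hw
        apply h
        simp only [Set.mem_iInter] at hw ⊢
        exact hw)
    refine ⟨J, fun y hyU hy => ?_⟩
    have : (⟨y, hyU⟩ : (U : X.Opens).toScheme) ∈ ⋂ i ∈ J, (U : X.Opens).ι.base ⁻¹' F i := by
      simp only [Set.mem_iInter] at hy
      exact Set.mem_iInter₂.mpr fun i hi => hy i hi
    exact hJ this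
  choose J hJ using key
  refine ⟨hs.toFinset.biUnion J, ?_⟩
  intro y hy
  have hyuniv : y ∈ (univ : Set X) := trivial
  rw [hcov] at hyuniv
  obtain ⟨U, hUs, hyU⟩ := Set.mem_iUnion₂.mp hyuniv
  refine hJ U y hyU ?_
  simp only [Set.mem_iInter] at hy ⊢
  intro i hi
  exact hy i (Finset.mem_biUnion.mpr ⟨U, hs.mem_toFinset.mpr hUs, hi⟩)

/-- Dual form: a pro-constructible subset of a quasi-compact scheme covered by
ind-constructible sets is covered by finitely many of them. -/
theorem exists_finset_subset_biUnion (X : Scheme.{u}) [CompactSpace X] {ι : Type*} {F : Set X}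
    (hF : ProCons.IsProConstructible F) (E : ι → Set X)
    (hE : ∀ i, ProCons.IsIndConstructible (E i)) (h : F ⊆ ⋃ i, E i) :
    ∃ J : Finset ι, F ⊆ ⋃ i ∈ J, E i := by
  obtain ⟨J, hJ⟩ := exists_finset_biInter_subset X (E := Fᶜ) (isIndConstructible_compl hF)
    (fun i => (E i)ᶜ) (fun i => isProConstructible_compl (hE i))
    (by rw [← Set.compl_iUnion]; exact Set.compl_subset_compl.mpr h)
  refine ⟨J, ?_⟩
  rw [← Set.compl_subset_compl]
  simpa only [Set.compl_iUnion] using hJ

end Schemes

end Groth.Agent.Lib.ConsTop
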