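import Groth.Agent.Lib.ConsLocusLim
import Groth.Agent.Lib.ConsTop3

/-!
# Ind-constructible sets (ProCons) and cofiltered limits (helper62)

* `isUnionCons_of_isIndConstructible`: in a prespectral quasi-separated space an ind-constructible
  set (in the local sense of `ProCons`) is a union of constructible sets.
* `exists_stage_forall_mem_of_isIndConstructible`: EGA IV 8.3.4, one-stage form.
* `exists_stage_subset`: EGA IV 8.3.4 for compatible families `E i` (pro-constructible) and `F i`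
  (ind-constructible).
-/

set_option autoImplicit false
universe u

open CategoryTheory Limits AlgebraicGeometry Topology TopologicalSpace

namespace Groth.Agent.Lib.ConsLocusLim

open Groth.Agent.Lib.ConsLocusGen Groth.Agent.Lib.ConsTop

theorem IsUnionCons.union {X : Type*} [TopologicalSpace X] {A B : Set X} (hA : IsUnionCons A)
    (hB : IsUnionCons B) : IsUnionCons (A ∪ B) := by
  obtain ⟨𝒜, h𝒜, rfl⟩ := hA
  obtain ⟨ℬ, hℬ, rfl⟩ := hB
  refine ⟨𝒜 ∪ ℬ, ?_, (Set.sUnion_union 𝒜 ℬ).symm⟩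
  rintro T (hT | hT)
  · exact h𝒜 T hT
  · exact hℬ T hT

/-- In a prespectral quasi-separated space, ind-constructible sets are unions of constructible
sets. -/
theorem isUnionCons_of_isIndConstructible {X : Type*} [TopologicalSpace X] [PrespectralSpace X]
    [QuasiSeparatedSpace X] {E : Set X} (hE : ProCons.IsIndConstructible E) : IsUnionCons E := by
  refine ⟨{C | IsConstructible C ∧ C ⊆ E}, fun C hC => hC.1, ?_⟩
  apply Set.Subset.antisymm
  · intro z hzE
    obtain ⟨U, hU, hzU, S, hS, hES⟩ := hE z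
    have hmem : (⟨z, hzU⟩ : ↥U) ∈ (Subtype.val ⁻¹' E : Set ↥U) := hzE
    rw [hES] at hmem
    obtain ⟨T, hTS, hzT⟩ := hmem
    obtain ⟨V, hVo, hVc, hzV, hVU, hVT⟩ := exists_isConstructible_nhd hU T (hS T hTS) z hzU
    refine ⟨V ∩ Subtype.val '' T, ⟨hVT, ?_⟩, hzV, ⟨z, hzU⟩, hzT, rfl⟩
    rintro _ ⟨-, w, hwT, rfl⟩
    have : w ∈ (Subtype.val ⁻¹' E : Set ↥U) := by rw [hES]; exact ⟨T, hTS, hwT⟩
    exact this
  · rintro z ⟨C, ⟨-, hCE⟩, hzC⟩
    exact hCE hzC

/-- Ind-constructible subsets of a scheme are unions of constructible sets on affine opens. -/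
theorem isUnionCons_preimage_of_isIndConstructible {S : Scheme.{u}} {E : Set S}
    (hE : ProCons.IsIndConstructible E) (U : S.Opens) (hU : IsAffineOpen U) :
    IsUnionCons (U.ι ⁻¹' E) := by
  haveI : IsAffine U.toScheme := hU
  exact isUnionCons_of_isIndConstructible (isIndConstructible_preimage U.ι hE)

variable {I : Type u} [Category.{u} I] [IsCofiltered I] (D : I ⥤ Scheme.{u}) (c : Cone D)
  (hc : IsLimit c) [∀ {i j : I} (f : i ⟶ j), IsAffineHom (D.map f)]

include hc in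
/-- EGA IV 8.3.4, one stage. -/
theorem exists_stage_forall_mem_of_isIndConstructible {i₀ : I} [CompactSpace (D.obj i₀)]
    (E₀ : Set (D.obj i₀)) (hE : ProCons.IsIndConstructible E₀)
    (h : ∀ s : c.pt, c.π.app i₀ s ∈ E₀) :
    ∃ (j : I) (φ : j ⟶ i₀), ∀ t : D.obj j, D.map φ t ∈ E₀ :=
  exists_stage_forall_mem D c hc E₀
    (fun U hU => isUnionCons_preimage_of_isIndConstructible hE U hU) h

include hc in
/-- EGA IV 8.3.4. -/
theorem exists_stage_subset (i₀ : I) [CompactSpace (D.obj i₀)] (E F : ∀ i : I, Set (D.obj i))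
    (hE : ∀ i, ProCons.IsProConstructible (E i)) (hF : ∀ i, ProCons.IsIndConstructible (F i))
    (hEm : ∀ (i j : I) (φ : i ⟶ j), E i ⊆ ⇑(D.map φ) ⁻¹' E j)
    (hFm : ∀ (i j : I) (φ : i ⟶ j), ⇑(D.map φ) ⁻¹' F j ⊆ F i)
    (hsub : (⋂ i, ⇑(c.π.app i) ⁻¹' E i : Set c.pt) ⊆ (⋃ i, ⇑(c.π.app i) ⁻¹' F i : Set c.pt)) :
    ∃ (i : I) (_ : i ⟶ i₀), ∀ (j : I) (_ : j ⟶ i), E j ⊆ F j := by
  classical
  haveI := isAffineHom_π_app D c hc i₀
  haveI : CompactSpace c.pt := QuasiCompact.compactSpace_of_compactSpace (c.π.app i₀)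
  have hπ : ∀ {a b : I} (φ : a ⟶ b) (s : c.pt), c.π.app b s = D.map φ (c.π.app a s) := by
    intro a b φ s
    rw [← Scheme.Hom.comp_apply, c.w]
  let G : I ⊕ I → Set c.pt := fun x =>
    Sum.elim (fun i => ⇑(c.π.app i) ⁻¹' F i) (fun i => (⇑(c.π.app i) ⁻¹' E i)ᶜ) x
  have hG : ∀ x, ProCons.IsIndConstructible (G x) := by
    rintro (i | i)
    · exact isIndConstructible_preimage (c.π.app i) (hF i)
    · exact isIndConstructible_compl (isProConstructible_preimage (c.π.app i) (hE i))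
  have hcover : (Set.univ : Set c.pt) ⊆ ⋃ x, G x := by
    intro s _
    by_cases hs : s ∈ ⋂ i, ⇑(c.π.app i) ⁻¹' E i
    · obtain ⟨i, hi⟩ := Set.mem_iUnion.1 (hsub hs)
      exact Set.mem_iUnion.2 ⟨Sum.inl i, hi⟩
    · rw [Set.mem_iInter] at hs
      push_neg at hs
      obtain ⟨i, hi⟩ := hs
      exact Set.mem_iUnion.2 ⟨Sum.inr i, hi⟩
  obtain ⟨J, hJ⟩ := exists_finset_subset_biUnion c.pt isProConstructible_univ G hG hcover
  obtain ⟨k, hk⟩ := IsCofiltered.inf_objs_exists (insert i₀ (J.image (Sum.elim id id)))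
  have hkJ : ∀ x ∈ J, Nonempty (k ⟶ Sum.elim id id x) := fun x hx =>
    hk (Finset.mem_insert_of_mem (Finset.mem_image_of_mem _ hx))
  have hkE : ∀ s : c.pt, c.π.app k s ∈ E k → c.π.app k s ∈ F k := by
    intro s hs
    obtain ⟨x, hxJ, hsx⟩ := Set.mem_iUnion₂.1 (hJ (Set.mem_univ s))
    rcases x with i | i
    · obtain ⟨φ⟩ : Nonempty (k ⟶ i) := hkJ _ hxJ
      have h1 : c.π.app i s ∈ F i := hsx
      rw [hπ φ] at h1
      exact hFm k i φ h1
    · obtain ⟨φ⟩ : Nonempty (k ⟶ i) := hkJ _ hxJ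
      exfalso
      apply hsx
      change c.π.app i s ∈ E i
      rw [hπ φ]
      exact hEm k i φ hs
  obtain ⟨ψ₀⟩ : Nonempty (k ⟶ i₀) := hk (Finset.mem_insert_self _ _)
  haveI : CompactSpace (D.obj k) := QuasiCompact.compactSpace_of_compactSpace (D.map ψ₀)
  have hE₀ : ProCons.IsIndConstructible ((E k)ᶜ ∪ F k) := by
    intro x
    obtain ⟨U, hU, hxU, -⟩ := exists_isAffineOpen_mem_and_subset (x := x) (U := ⊤) trivial
    have h1 := isUnionCons_preimage_of_isIndConstructible (isIndConstructible_compl (hE k)) U hU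
    have h2 := isUnionCons_preimage_of_isIndConstructible (hF k) U hU
    obtain ⟨𝒮, h𝒮, he⟩ := IsUnionCons.union h1 h2
    refine ⟨U, U.isOpen, hxU, 𝒮, fun T hT => (h𝒮 T hT).isLocallyConstructible, ?_⟩
    exact he
  obtain ⟨j, φ, hj⟩ := exists_stage_forall_mem_of_isIndConstructible D c hc ((E k)ᶜ ∪ F k) hE₀
    (fun s => by
      by_cases h : c.π.app k s ∈ E k
      · exact Or.inr (hkE s h)
      · exact Or.inl h)
  refine ⟨j, φ ≫ ψ₀, fun j' ψ t ht => ?_⟩
  have h1 : D.map (ψ ≫ φ) t ∈ E k := hEm j' k (ψ ≫ φ) ht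
  have h2 : D.map (ψ ≫ φ) t = D.map φ (D.map ψ t) := by
    rw [D.map_comp, Scheme.Hom.comp_apply]
  rcases hj (D.map ψ t) with h3 | h3
  · exact absurd (h2 ▸ h1) h3
  · apply hFm j' k (ψ ≫ φ)
    change D.map (ψ ≫ φ) t ∈ F k
    rw [h2]
    exact h3

end Groth.Agent.Lib.ConsLocusLim
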