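import Mathlib
import Groth.Agent.Lib.CdDescent62b
import Groth.Agent.S1440
import Groth.Agent.Lib.ConsLocusLim2

/-!
# Completely decomposed morphisms descend along cofiltered limits (helper62)

`exists_cd_stage`: in the `LimDescent` setting (`f₀` locally of finite presentation, `Y₀` qcqs), if
the base change of `f₀` to the limit is completely decomposed, then so is the base change to some
stage.
-/

set_option autoImplicit false
set_option linter.style.haveILetI false
universe u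
open CategoryTheory CategoryTheory.Limits AlgebraicGeometry Topology

namespace Groth.Agent.Lib.CdDescent62

open Groth.Agent.Lib.LimDescent Groth.Agent.Lib.LimPullback Groth.Agent.Lib.ConsLocusLim
  Groth.Agent.Lib.ConsTop

/-- Completely decomposed morphisms. -/
def cdProp : MorphismProperty Scheme.{u} := fun _ Y f => ∀ y : Y, CdAt f y

instance : cdProp.{u}.RespectsIso := by
  refine MorphismProperty.RespectsIso.mk _ (fun e f hf y => ?_) (fun e f hf y' => ?_)
  · exact CdAt.precomp_iso e.hom f y (hf y)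
  · obtain ⟨y, rfl⟩ := (e.hom.homeomorph).surjective y'
    exact CdAt.postcomp_iso f e.hom y (hf y)

variable {I : Type u} [Category.{u} I] [IsCofiltered I] (D : I ⥤ Scheme.{u}) (c : Cone D)
  (hc : IsLimit c) [∀ {i j} (f : i ⟶ j), IsAffineHom (D.map f)]
  {i₀ : I} {X₀ Y₀ : Scheme.{u}} (f₀ : X₀ ⟶ Y₀) (g₀ : Y₀ ⟶ D.obj i₀)

/-- A section over an immersion into a stage gives rational points. -/
theorem cdAt_of_stage_lift (j : Over i₀) {Zj : Scheme.{u}} (zj : Zj ⟶ pullback g₀ (D.map j.hom))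
    (hzj : IsImmersion zj) (aj : Zj ⟶ X₀) (haj : aj ≫ f₀ = zj ≫ pullback.fst g₀ (D.map j.hom))
    (y : ↑(pullback g₀ (D.map j.hom))) (hy : y ∈ Set.range ⇑zj) :
    CdAt (bcMap f₀ g₀ (D.map j.hom)) y := by
  haveI := hzj
  obtain ⟨w, rfl⟩ := hy
  have hcond : aj ≫ f₀ ≫ g₀ = (zj ≫ pullback.snd g₀ (D.map j.hom)) ≫ D.map j.hom := by
    rw [← Category.assoc, haj, Category.assoc, Category.assoc, pullback.condition]
  let σ : Zj ⟶ pullback (f₀ ≫ g₀) (D.map j.hom) :=
    pullback.lift aj (zj ≫ pullback.snd g₀ (D.map j.hom)) hcond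
  have hσ : σ ≫ bcMap f₀ g₀ (D.map j.hom) = zj := by
    apply pullback.hom_ext
    · rw [Category.assoc, bcMap_fst, pullback.lift_fst_assoc, haj]
    · rw [Category.assoc, bcMap_snd, pullback.lift_snd]
  exact CdAt.of_section _ zj σ hσ w (bijective_residueFieldMap_of_surjectiveOnStalks zj w)

include hc in
theorem exists_cd_stage [CompactSpace Y₀] [QuasiSeparatedSpace Y₀]
    [LocallyOfFinitePresentation f₀] (h : cdProp (bcMap f₀ g₀ (c.π.app i₀))) :
    ∃ j : Over i₀, cdProp (bcMap f₀ g₀ (D.map j.hom)) := by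
  classical
  haveI := isAffineHom_π_app D c hc i₀
  haveI : IsAffineHom (pullback.fst g₀ (c.π.app i₀)) :=
    MorphismProperty.pullback_fst _ _ inferInstance
  haveI : CompactSpace ↥(pullback g₀ (c.π.app i₀)) :=
    QuasiCompact.compactSpace_of_compactSpace (pullback.fst g₀ (c.π.app i₀))
  haveI : QuasiSeparatedSpace ↥(pullback g₀ (c.π.app i₀)) :=
    quasiSeparatedSpace_of_quasiSeparated (pullback.fst g₀ (c.π.app i₀))
  haveI : LocallyOfFinitePresentation (bcMap f₀ g₀ (c.π.app i₀)) :=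
    MorphismProperty.of_isPullback (isPullback_bcMap f₀ g₀ (c.π.app i₀)) inferInstance
  -- the system of the `Y_j`
  let E : Over i₀ ⥤ Scheme.{u} := pbDiagram D i₀ g₀
  let cE : Cone E := pbCone D c i₀ g₀
  have hcE : IsLimit cE := isLimitPbCone hc
  haveI hEaff : ∀ (j k : Over i₀) (f : j ⟶ k), IsAffineHom (E.map f) := fun j k f =>
    isAffineHom_pbDiagram_map D i₀ g₀ f
  haveI hEaff' : ∀ {j k : Over i₀} (f : j ⟶ k), IsAffineHom (E.map f) := fun f =>
    isAffineHom_pbDiagram_map D i₀ g₀ f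
  haveI hEc : ∀ j, CompactSpace (E.obj j) := fun j => compactSpace_pbDiagram_obj D i₀ g₀ j
  haveI hEq : ∀ j, QuasiSeparatedSpace (E.obj j) := fun j =>
    quasiSeparatedSpace_pbDiagram_obj D i₀ g₀ j
  let t : E ⟶ (Functor.const (Over i₀)).obj Y₀ :=
    { app := fun j => pullback.fst g₀ (D.map j.hom)
      naturality := fun j k m => by
        change pbMap D i₀ g₀ m ≫ pullback.fst g₀ (D.map k.hom) =
          pullback.fst g₀ (D.map j.hom) ≫ 𝟙 _
        rw [pbMap_fst, Category.comp_id] }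
  -- the stratification
  obtain ⟨n, Z, z, hsurj, hZ⟩ := Groth.Agent.S1440.result (bcMap f₀ g₀ (c.π.app i₀)) h
  have key : ∀ k : Fin n, ∃ (j : Over i₀) (R : Set ↑(pullback g₀ (D.map j.hom))),
      IsLocallyConstructible R ∧ (∀ y ∈ R, CdAt (bcMap f₀ g₀ (D.map j.hom)) y) ∧
      ⇑(pbProj D c i₀ g₀ j) ⁻¹' R = Set.range ⇑(z k) := by
    intro k
    obtain ⟨h1, h2, h3, h4, s, hs⟩ := hZ k
    let zk : Z k ⟶ cE.pt := z k
    haveI : IsImmersion zk := h1
    haveI : LocallyOfFinitePresentation zk := h2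
    haveI : QuasiCompact zk := h3
    haveI : QuasiSeparated zk := h4
    let a : Z k ⟶ X₀ := s ≫ pullback.fst (bcMap f₀ g₀ (c.π.app i₀)) (z k) ≫
      pullback.fst (f₀ ≫ g₀) (c.π.app i₀)
    have ha : ∀ j : Over i₀, a ≫ f₀ = zk ≫ cE.π.app j ≫ t.app j := by
      intro j
      change a ≫ f₀ = z k ≫ pbProj D c i₀ g₀ j ≫ pullback.fst g₀ (D.map j.hom)
      rw [pbProj_fst]
      calc a ≫ f₀ = s ≫ pullback.fst (bcMap f₀ g₀ (c.π.app i₀)) (z k) ≫
            (bcMap f₀ g₀ (c.π.app i₀) ≫ pullback.fst g₀ (c.π.app i₀)) := by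
              rw [bcMap_fst]; simp only [a, Category.assoc]
        _ = (s ≫ pullback.snd (bcMap f₀ g₀ (c.π.app i₀)) (z k)) ≫ z k ≫
            pullback.fst g₀ (c.π.app i₀) := by
              rw [← Category.assoc (pullback.fst (bcMap f₀ g₀ (c.π.app i₀)) (z k)),
                pullback.condition]; simp only [Category.assoc]
        _ = z k ≫ pullback.fst g₀ (c.π.app i₀) := by rw [hs, Category.id_comp]
    obtain ⟨j, Zj, zj, aj, hi1, hi2, hi3, hi4, hi5⟩ :=
      exists_stage_immersion_lift E cE hcE f₀ t zk a ha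
    haveI := hi1; haveI := hi2; haveI := hi3
    refine ⟨j, Set.range ⇑zj, ?_, ?_, hi5⟩
    · have := Scheme.Hom.isLocallyConstructible_image zj (s := Set.univ)
        IsLocallyConstructible.univ
      rwa [Set.image_univ] at this
    · intro y hy
      exact cdAt_of_stage_lift D f₀ g₀ j zj hi1 aj hi4 y hy
  choose jk R hR1 hR2 hR3 using key
  -- a common stage
  obtain ⟨j, hj⟩ := IsCofiltered.inf_objs_exists (Finset.univ.image jk)
  have hb : ∀ k : Fin n, Nonempty (j ⟶ jk k) := fun k =>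
    hj (Finset.mem_image_of_mem _ (Finset.mem_univ k))
  let b : ∀ k : Fin n, j ⟶ jk k := fun k => (hb k).some
  let E₀ : Set ↑(pullback g₀ (D.map j.hom)) := ⋃ k : Fin n, ⇑(pbMap D i₀ g₀ (b k)) ⁻¹' R k
  have hE₀ : IsLocallyConstructible E₀ :=
    IsLocallyConstructible.iUnion fun k => isLocallyConstructible_preimage _ (hR1 k)
  have hall : ∀ s : cE.pt, cE.π.app j s ∈ E₀ := by
    intro s
    obtain ⟨k, hk⟩ := hsurj s
    rw [← hR3 k] at hk
    refine Set.mem_iUnion.2 ⟨k, ?_⟩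
    change pbMap D i₀ g₀ (b k) (pbProj D c i₀ g₀ j s) ∈ R k
    rw [← Scheme.Hom.comp_apply, pbProj_pbMap]
    exact hk
  obtain ⟨j', φ, hφ⟩ := exists_stage_forall_mem_of_isIndConstructible E cE hcE E₀
    (isIndConstructible_of_isLocallyConstructible hE₀) hall
  refine ⟨j', fun y => ?_⟩
  obtain ⟨k, hk⟩ := Set.mem_iUnion.1 (hφ y)
  have hk' : pbMap D i₀ g₀ (φ ≫ b k) y ∈ R k := by
    have e : pbMap D i₀ g₀ (φ ≫ b k) = pbMap D i₀ g₀ φ ≫ pbMap D i₀ g₀ (b k) :=
      (pbDiagram D i₀ g₀).map_comp φ (b k)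
    rw [e, Scheme.Hom.comp_apply]
    exact hk
  exact CdAt.of_isPullback (isPullback_pbMap_bcMap D f₀ g₀ (φ ≫ b k)) y (hR2 k _ hk')

end Groth.Agent.Lib.CdDescent62
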