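import Mathlib.Algebra.Homology.DerivedCategory.Ext.ExactSequences
import Mathlib.Algebra.Homology.DerivedCategory.Ext.EnoughInjectives
import Mathlib.Algebra.Homology.HomologicalComplex
import Mathlib.CategoryTheory.Abelian.Injective.Basic

/-!
# Hom-complexes out of a resolution and dimension shifting (helper95)

Abstract homological algebra for the "Čech vs derived" comparison:
`R` a chain complex in an abelian category, exact in positive degrees, with `R_1 → R_0 → M → 0`
exact.  `HomExactAt R F n` says that `Hom(R_•, F)` is exact at degree `n + 1`.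

* `homExactAt_of_ext_vanishing` : if `Ext^{p+1}(R_n, F) = 0 = Ext^{p+1}(M, F)` then `Hom(R_•, F)` is
  exact in positive degrees.
* `homExactAt_quotient` : 2-out-of-3 for `0 → F → I → Q → 0` with `I` injective.

(The four dimension-shifting lemmas at the beginning are copied from helper92's `Lib/SiteLES`.)
-/

universe w v u

open CategoryTheory Limits Opposite Abelian

set_option linter.unusedSectionVars false

namespace Groth.Agent.Lib.CechAcyc1

/-- `Hom(R_•, F)` is exact at degree `n + 1`. -/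
def HomExactAt {A : Type u} [Category.{v} A] [Preadditive A] (R : ChainComplex A ℕ) (F : A)
    (n : ℕ) : Prop :=
  ∀ z : R.X (n + 1) ⟶ F, R.d (n + 2) (n + 1) ≫ z = 0 → ∃ t : R.X n ⟶ F, R.d (n + 1) n ≫ t = z

section Transport

variable {A : Type u} [Category.{v} A] [Preadditive A]

/-- `HomExactAt` is invariant under isomorphisms of chain complexes. -/
lemma HomExactAt.of_iso {R R' : ChainComplex A ℕ} (e : R ≅ R') {F : A} {n : ℕ}
    (h : HomExactAt R' F n) : HomExactAt R F n := by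
  intro z hz
  obtain ⟨t', ht'⟩ := h (e.inv.f (n + 1) ≫ z) (by
    rw [← Category.assoc, ← e.inv.comm, Category.assoc, hz, comp_zero])
  refine ⟨e.hom.f n ≫ t', ?_⟩
  rw [← Category.assoc, ← e.hom.comm, Category.assoc, ht', ← Category.assoc,
    ← HomologicalComplex.comp_f, e.hom_inv_id, HomologicalComplex.id_f, Category.id_comp]

/-- `HomExactAt` and adjunctions. -/
lemma HomExactAt.of_adjunction {B : Type*} [Category* B] [Preadditive B] {L : A ⥤ B} {G : B ⥤ A}
    [L.Additive] (adj : L ⊣ G) {R : ChainComplex A ℕ} {F : B} {n : ℕ}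
    (h : HomExactAt ((L.mapHomologicalComplex _).obj R) F n) : HomExactAt R (G.obj F) n := by
  intro z hz
  obtain ⟨t', ht'⟩ := h ((adj.homEquiv _ _).symm z) (by
    have := adj.homEquiv_naturality_left_symm (R.d (n + 2) (n + 1)) z
    rw [hz] at this
    refine this.symm.trans ?_
    rw [Adjunction.homEquiv_counit, L.map_zero, zero_comp]
    rfl)
  refine ⟨adj.homEquiv _ _ t', ?_⟩
  rw [← adj.homEquiv_naturality_left]
  have : L.map (R.d (n + 1) n) ≫ t' = (adj.homEquiv _ _).symm z := ht'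
  rw [this, Equiv.apply_symm_apply]

end Transport

variable {A : Type u} [Category.{v} A] [Abelian A]

/-- the short complex `F ⟶ I(F) ⟶ I(F)/F` -/
noncomputable def injSC [EnoughInjectives A] (F : A) : ShortComplex A :=
  ShortComplex.mk (Injective.ι F) (cokernel.π (Injective.ι F)) (cokernel.condition _)

lemma injSC_shortExact [EnoughInjectives A] (F : A) : (injSC F).ShortExact where
  exact := ShortComplex.exact_cokernel _
  mono_f := by dsimp [injSC]; infer_instance
  epi_g := by dsimp [injSC]; infer_instance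

instance [EnoughInjectives A] (F : A) : Injective (injSC F).X₂ := by
  dsimp [injSC]; infer_instance

section Ext

variable [HasExt.{w} A] {S : ShortComplex A} (hS : S.ShortExact) (X : A)

include hS in
/-- `Ext^{n+1}(X, Q) = 0 ⇒ Ext^{n+2}(X, F) = 0` when `I` is injective. -/
lemma subsingleton_ext_succ_succ [Injective S.X₂] (n : ℕ)
    (h : Subsingleton (Ext.{w} X S.X₃ (n + 1))) : Subsingleton (Ext.{w} X S.X₁ (n + 2)) := by
  have key : ∀ x : Ext.{w} X S.X₁ (n + 2), x = 0 := by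
    intro x
    obtain ⟨x₃, rfl⟩ := Ext.covariant_sequence_exact₁ X hS x (Ext.eq_zero_of_injective _)
      (rfl : n + 1 + 1 = n + 2)
    rw [h.elim x₃ 0, Ext.zero_comp]
  exact ⟨fun a b => (key a).trans (key b).symm⟩

include hS in
/-- `Ext^{n+2}(X, F) = 0 ⇒ Ext^{n+1}(X, Q) = 0` when `I` is injective. -/
lemma subsingleton_ext_succ_of_succ_succ [Injective S.X₂] (n : ℕ)
    (h : Subsingleton (Ext.{w} X S.X₁ (n + 2))) : Subsingleton (Ext.{w} X S.X₃ (n + 1)) := by
  have key : ∀ x : Ext.{w} X S.X₃ (n + 1), x = 0 := by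
    intro x
    obtain ⟨x₂, rfl⟩ := Ext.covariant_sequence_exact₃ X hS x (rfl : n + 1 + 1 = n + 2)
      (h.elim _ _)
    rw [Ext.eq_zero_of_injective x₂, Ext.zero_comp]
  exact ⟨fun a b => (key a).trans (key b).symm⟩

include hS in
/-- if every morphism `X ⟶ Q` lifts to `I` (injective), then `Ext^1(X, F) = 0`. -/
lemma subsingleton_ext_one [Injective S.X₂]
    (h : ∀ φ : X ⟶ S.X₃, ∃ ψ : X ⟶ S.X₂, ψ ≫ S.g = φ) : Subsingleton (Ext.{w} X S.X₁ 1) := by
  have key : ∀ x : Ext.{w} X S.X₁ 1, x = 0 := by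
    intro x
    obtain ⟨x₃, rfl⟩ := Ext.covariant_sequence_exact₁ X hS x (Ext.eq_zero_of_injective _)
      (rfl : 0 + 1 = 1)
    obtain ⟨φ, rfl⟩ := (Ext.mk₀_bijective _ _).2 x₃
    obtain ⟨ψ, rfl⟩ := h φ
    rw [← Ext.mk₀_comp_mk₀, Ext.comp_assoc_of_second_deg_zero, hS.comp_extClass, Ext.comp_zero]
  exact ⟨fun a b => (key a).trans (key b).symm⟩

include hS in
/-- if `Ext^1(X, F) = 0`, every morphism `X ⟶ Q` lifts to `S.X₂`. -/
lemma exists_lift_of_subsingleton_ext_one (h : Subsingleton (Ext.{w} X S.X₁ 1))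
    (φ : X ⟶ S.X₃) : ∃ ψ : X ⟶ S.X₂, ψ ≫ S.g = φ := by
  obtain ⟨x₂, hx₂⟩ := Ext.covariant_sequence_exact₃ X hS (Ext.mk₀ φ) (rfl : 0 + 1 = 1)
    (h.elim _ _)
  obtain ⟨ψ, rfl⟩ := (Ext.mk₀_bijective _ _).2 x₂
  refine ⟨ψ, ?_⟩
  rw [Ext.mk₀_comp_mk₀] at hx₂
  exact (Ext.mk₀_bijective _ _).1 hx₂

end Ext

section HomExact

variable {R : ChainComplex A ℕ}

/-- If `R` is exact at `n + 1` and `I` is injective then `Hom(R_•, I)` is exact at `n + 1`. -/
lemma homExactAt_of_injective (I : A) [Injective I] (n : ℕ) (hR : R.ExactAt (n + 1)) :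
    HomExactAt R I n := by
  intro z hz
  rw [R.exactAt_iff' (n + 2) (n + 1) n (by simp) (by simp)] at hR
  exact ⟨hR.descToInjective z hz, hR.comp_descToInjective z hz⟩

end HomExact

section Main

variable [HasExt.{w} A] {R : ChainComplex A ℕ} (hR : ∀ n, R.ExactAt (n + 1))
  {S : ShortComplex A} (hS : S.ShortExact) [Injective S.X₂]

include hR hS in
/-- step: exactness for `Q` at `n` gives exactness for `F` at `n + 1`. -/
lemma homExactAt_succ_of_quotient (n : ℕ) (hQ : HomExactAt R S.X₃ n)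
    (hext : Subsingleton (Ext.{w} (R.X n) S.X₁ 1)) : HomExactAt R S.X₁ (n + 1) := by
  intro z hz
  obtain ⟨t, ht⟩ := homExactAt_of_injective S.X₂ (n + 1) (hR (n + 1)) (z ≫ S.f)
    (by rw [← Category.assoc, hz, zero_comp])
  obtain ⟨ubar, hubar⟩ := hQ (t ≫ S.g)
    (by rw [← Category.assoc, ht, Category.assoc, S.zero, comp_zero])
  obtain ⟨u, hu⟩ := exists_lift_of_subsingleton_ext_one hS (R.X n) hext ubar
  have h0 : (t - R.d (n + 1) n ≫ u) ≫ S.g = 0 := by
    rw [Preadditive.sub_comp, Category.assoc, hu, hubar, sub_self]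
  have hmono := hS.mono_f
  refine ⟨hS.exact.lift _ h0, ?_⟩
  rw [← cancel_mono S.f, Category.assoc, hS.exact.lift_f, Preadditive.comp_sub, ht,
    ← Category.assoc, R.d_comp_d, zero_comp, sub_zero]

include hR hS in
/-- 2-out-of-3: exactness for `F` (at `n + 1`) gives exactness for `Q` (at `n`). -/
lemma homExactAt_quotient (n : ℕ) (hF : HomExactAt R S.X₁ (n + 1))
    (hext : Subsingleton (Ext.{w} (R.X (n + 1)) S.X₁ 1)) : HomExactAt R S.X₃ n := by
  intro zbar hzbar
  obtain ⟨y, hy⟩ := exists_lift_of_subsingleton_ext_one hS _ hext zbar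
  have h0 : (R.d (n + 2) (n + 1) ≫ y) ≫ S.g = 0 := by rw [Category.assoc, hy, hzbar]
  have hmono := hS.mono_f
  have hw : hS.exact.lift _ h0 ≫ S.f = R.d (n + 2) (n + 1) ≫ y := hS.exact.lift_f _ _
  have hdw : R.d (n + 3) (n + 2) ≫ hS.exact.lift _ h0 = 0 := by
    rw [← cancel_mono S.f, Category.assoc, hw, ← Category.assoc, R.d_comp_d, zero_comp,
      zero_comp]
  obtain ⟨v, hv⟩ := hF _ hdw
  obtain ⟨t, ht⟩ := homExactAt_of_injective S.X₂ n (hR n) (y - v ≫ S.f) (by
    rw [Preadditive.comp_sub, ← Category.assoc, hv, hw, sub_self])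
  refine ⟨t ≫ S.g, ?_⟩
  rw [← Category.assoc, ht, Preadditive.sub_comp, Category.assoc, S.zero, comp_zero, sub_zero, hy]

variable {M : A} (ε : R.X 0 ⟶ M) (hε : R.d 1 0 ≫ ε = 0)
  (hcok : IsColimit (CokernelCofork.ofπ ε hε))

include hR hS hcok in
/-- base case: exactness of `Hom(R_•, F)` at degree `1`. -/
lemma homExactAt_zero (hextM : Subsingleton (Ext.{w} M S.X₁ 1)) : HomExactAt R S.X₁ 0 := by
  intro z hz
  obtain ⟨t, ht⟩ := homExactAt_of_injective S.X₂ 0 (hR 0) (z ≫ S.f)
    (by rw [← Category.assoc, hz, zero_comp])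
  have h1 : R.d 1 0 ≫ (t ≫ S.g) = 0 := by
    rw [← Category.assoc, ht, Category.assoc, S.zero, comp_zero]
  have hmbar : ε ≫ hcok.desc (CokernelCofork.ofπ (t ≫ S.g) h1) = t ≫ S.g :=
    hcok.fac _ WalkingParallelPair.one
  obtain ⟨m, hm⟩ := exists_lift_of_subsingleton_ext_one hS M hextM
    (hcok.desc (CokernelCofork.ofπ (t ≫ S.g) h1))
  have h0 : (t - ε ≫ m) ≫ S.g = 0 := by
    rw [Preadditive.sub_comp, Category.assoc, hm, hmbar, sub_self]
  have hmono := hS.mono_f
  refine ⟨hS.exact.lift _ h0, ?_⟩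
  rw [← cancel_mono S.f, Category.assoc, hS.exact.lift_f, Preadditive.comp_sub, ht,
    ← Category.assoc, hε, zero_comp, sub_zero]

include hR hcok in
/-- **Acyclic resolutions**: if `Ext^{p+1}(R_k, F) = 0` and `Ext^{p+1}(M, F) = 0` for all `k, p`,
then `Hom(R_•, F)` is exact in all positive degrees. -/
theorem homExactAt_of_ext_vanishing [EnoughInjectives A] (n : ℕ) :
    ∀ (F : A), (∀ k p, Subsingleton (Ext.{w} (R.X k) F (p + 1))) →
      (∀ p, Subsingleton (Ext.{w} M F (p + 1))) → HomExactAt R F n := by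
  induction n with
  | zero =>
    intro F _ h2
    exact homExactAt_zero hR (injSC_shortExact F) ε hε hcok (h2 0)
  | succ n ih =>
    intro F h1 h2
    refine homExactAt_succ_of_quotient hR (injSC_shortExact F) n (ih (injSC F).X₃ ?_ ?_) (h1 n 0)
    · intro k p
      exact subsingleton_ext_succ_of_succ_succ (injSC_shortExact F) _ p (h1 k (p + 1))
    · intro p
      exact subsingleton_ext_succ_of_succ_succ (injSC_shortExact F) _ p (h2 (p + 1))

include hS hcok in
/-- lifting morphisms `M ⟶ Q` to `I` when `Hom(R_•, F)` is exact at degree `1` and the morphism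
lifts after restriction to `R_0` (no injectivity needed). -/
lemma exists_lift_of_homExactAt_zero (h0 : HomExactAt R S.X₁ 0) (φ : M ⟶ S.X₃)
    (t₀ : R.X 0 ⟶ S.X₂) (ht₀ : t₀ ≫ S.g = ε ≫ φ) : ∃ ψ : M ⟶ S.X₂, ψ ≫ S.g = φ := by
  have hmono := hS.mono_f
  have h1 : (R.d 1 0 ≫ t₀) ≫ S.g = 0 := by
    rw [Category.assoc, ht₀, ← Category.assoc, hε, zero_comp]
  have hw : hS.exact.lift _ h1 ≫ S.f = R.d 1 0 ≫ t₀ := hS.exact.lift_f _ _
  have hdw : R.d 2 1 ≫ hS.exact.lift _ h1 = 0 := by
    rw [← cancel_mono S.f, Category.assoc, hw, ← Category.assoc, R.d_comp_d, zero_comp,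
      zero_comp]
  obtain ⟨c, hc⟩ := h0 _ hdw
  have h2 : R.d 1 0 ≫ (t₀ - c ≫ S.f) = 0 := by
    rw [Preadditive.comp_sub, ← Category.assoc, hc, hw, sub_self]
  refine ⟨hcok.desc (CokernelCofork.ofπ _ h2), ?_⟩
  have hepi : Epi ε := epi_of_isColimit_cofork hcok
  have hfac : ε ≫ hcok.desc (CokernelCofork.ofπ _ h2) = t₀ - c ≫ S.f :=
    hcok.fac _ WalkingParallelPair.one
  rw [← cancel_epi ε, ← Category.assoc, hfac, Preadditive.sub_comp, Category.assoc, S.zero,
    comp_zero, sub_zero, ht₀]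

end Main

end Groth.Agent.Lib.CechAcyc1
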