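import Groth.Agent.Lib.CechAcyc1
import Mathlib.Algebra.Homology.QuasiIso
import Mathlib.Algebra.Homology.SingleHomology
import Mathlib.Algebra.Homology.ShortComplex.Ab
import Mathlib.AlgebraicTopology.AlternatingFaceMapComplex

/-!
# Resolutions: exactness data from a quasi-isomorphism to `single₀` (helper95)
-/

universe w v u

open CategoryTheory Limits Opposite Abelian HomologicalComplex ChainComplex

set_option linter.unusedSectionVars false

namespace Groth.Agent.Lib.CechAcyc2

section Resolution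

variable {A : Type u} [Category.{v} A] [Abelian A] {R : ChainComplex A ℕ} {M : A}
  (π : R ⟶ (ChainComplex.single₀ A).obj M) [QuasiIso π]

include π in
lemma exactAt_succ (n : ℕ) : R.ExactAt (n + 1) := by
  rw [← quasiIsoAt_iff_exactAt' π (n + 1)
    (exactAt_single_obj (ComplexShape.down ℕ) 0 M (n + 1) (by simp))]
  infer_instance

lemma d_comp_f_zero : R.d 1 0 ≫ π.f 0 = 0 := by
  rw [← π.comm 1 0]
  have : π.f 1 = 0 := (isZero_single_obj_X (ComplexShape.down ℕ) 0 M 1 (by simp)).eq_of_tgt _ _
  rw [this, zero_comp]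

set_option backward.isDefEq.respectTransparency.types false in
set_option backward.defeqAttrib.useBackward true in
/-- `M` is the cokernel of `R_1 ⟶ R_0`. -/
noncomputable def isColimitCokernelCofork :
    IsColimit (CokernelCofork.ofπ (π.f 0) (d_comp_f_zero π)) := by
  refine IsColimit.ofIsoColimit (R.opcyclesIsCokernel 1 0 (by simp)) ?_
  refine Cofork.ext (R.isoHomologyι₀.symm ≪≫ isoOfQuasiIsoAt π 0 ≪≫
    singleObjHomologySelfIso _ _ _) ?_
  rw [← cancel_mono (singleObjHomologySelfIso (ComplexShape.down ℕ) 0 _).inv,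
    ← cancel_mono (isoHomologyι₀ _).hom]
  dsimp
  simp only [isoHomologyι₀_inv_naturality_assoc, p_opcyclesMap_assoc, ChainComplex.single₀_obj_zero,
    Category.assoc,
    Iso.hom_inv_id, Category.comp_id, isoHomologyι_inv_hom_id, singleObjHomologySelfIso_inv_homologyι,
    singleObjOpcyclesSelfIso_hom, ChainComplex.single₀ObjXSelf, Iso.refl_inv, Category.id_comp]

end Resolution

section Bridge

open AlgebraicTopology Simplicial Groth.Agent.Lib.CechAcyc1

variable {A : Type u} [Category.{v} A] [Preadditive A] (Z : SimplicialObject A) (F : A)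

/-- the cosimplicial abelian group `n ↦ Hom(Z_n, F)` -/
abbrev homCosimp : CosimplicialObject AddCommGrpCat.{v} := Z.rightOp ⋙ preadditiveYoneda.obj F

/-- the cochain complex `Hom(Z_•, F)` -/
noncomputable abbrev homCx : CochainComplex AddCommGrpCat.{v} ℕ :=
  (alternatingCofaceMapComplex AddCommGrpCat.{v}).obj (homCosimp Z F)

lemma homCx_d_apply (n : ℕ) (z : Z _⦋n⦌ ⟶ F) :
    ((homCx Z F).d n (n + 1)).hom z = ((alternatingFaceMapComplex A).obj Z).d (n + 1) n ≫ z := by
  have h1 : ((alternatingFaceMapComplex A).obj Z).d (n + 1) n =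
      ∑ i : Fin (n + 2), (-1 : ℤ) ^ (i : ℕ) • Z.δ i := by
    simp [AlternatingFaceMapComplex.objD]
  have h2 : (homCx Z F).d n (n + 1) =
      ∑ i : Fin (n + 2), (-1 : ℤ) ^ (i : ℕ) • (homCosimp Z F).δ i := by
    change (AlternatingCofaceMapComplex.obj (homCosimp Z F)).d n (n + 1) = _
    simp only [AlternatingCofaceMapComplex.obj, CochainComplex.of_d]
    rfl
  rw [h1, h2]
  have h3 : AddCommGrpCat.homAddEquiv
        (∑ i : Fin (n + 2), (-1 : ℤ) ^ (i : ℕ) • (homCosimp Z F).δ i) =
      Preadditive.compHom (∑ i : Fin (n + 2), (-1 : ℤ) ^ (i : ℕ) • Z.δ i) := by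
    rw [map_sum, map_sum]
    refine Finset.sum_congr rfl (fun i _ => ?_)
    rw [map_zsmul, map_zsmul]
    rfl
  exact DFunLike.congr_fun h3 z

lemma isZero_homology_iff (n : ℕ) :
    IsZero ((homCx Z F).homology (n + 1)) ↔
      HomExactAt ((alternatingFaceMapComplex A).obj Z) F n := by
  rw [← HomologicalComplex.exactAt_iff_isZero_homology,
    HomologicalComplex.exactAt_iff' _ n (n + 1) (n + 2) (by simp) (by simp),
    ShortComplex.ab_exact_iff]
  constructor
  · intro h z hz
    obtain ⟨t, ht⟩ := h z ((homCx_d_apply Z F (n + 1) z).trans hz)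
    exact ⟨t, (homCx_d_apply Z F n t).symm.trans ht⟩
  · intro h z hz
    obtain ⟨t, ht⟩ := h z ((homCx_d_apply Z F (n + 1) z).symm.trans hz)
    exact ⟨t, (homCx_d_apply Z F n t).trans ht⟩

end Bridge

end Groth.Agent.Lib.CechAcyc2
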