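import Groth.Agent.Lib.CechNerveFunctor
import Groth.Agent.Lib.AugQuasiIso
import Mathlib.CategoryTheory.Sites.LocallyBijective
import Mathlib.CategoryTheory.Sites.Adjunction
import Mathlib.CategoryTheory.Sites.Abelian
import Mathlib.CategoryTheory.Sites.Limits
import Mathlib.CategoryTheory.Sites.LeftExact
import Mathlib.Algebra.Category.Grp.Adjunctions
import Mathlib.Algebra.Category.Grp.Abelian
import Mathlib.Algebra.Category.Grp.AB
import Mathlib.CategoryTheory.Subfunctor.Image
import Mathlib.CategoryTheory.Abelian.FunctorCategory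
import Mathlib.CategoryTheory.Limits.FunctorCategory.Basic

/-!
# The Čech nerve of an epimorphism of sheaves of sets gives a free resolution (helper95)
-/

open CategoryTheory Limits Opposite Simplicial AlgebraicTopology

set_option backward.defeqAttrib.useBackward true
set_option backward.isDefEq.respectTransparency false
set_option linter.unusedSectionVars false

namespace Groth.Agent.Lib.CechFreeRes

open Groth.Agent.Lib.CechNerveFunctor Groth.Agent.Lib.AugQuasiIso

universe v u

section General

variable {A B D : Type*} [Category* A] [Category* B] [Category* D]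

lemma comma_isIso_of_isIso_left_right {T : Type*} [Category* T] {L : A ⥤ T} {R : B ⥤ T}
    {X Y : Comma L R} (f : X ⟶ Y) [IsIso f.left] [IsIso f.right] : IsIso f := by
  have : f = (Comma.isoMk (asIso f.left) (asIso f.right) (by simp)).hom := by
    ext <;> simp
  rw [this]
  infer_instance

/-- whiskering an augmented simplicial object twice -/
def whiskeringCompIso (G₁ : A ⥤ B) (G₂ : B ⥤ D) (X : SimplicialObject.Augmented A) :
    ((SimplicialObject.Augmented.whiskering B D).obj G₂).obj
      (((SimplicialObject.Augmented.whiskering A B).obj G₁).obj X) ≅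
    ((SimplicialObject.Augmented.whiskering A D).obj (G₁ ⋙ G₂)).obj X :=
  Comma.isoMk (Iso.refl _) (Iso.refl _) (by
    ext n
    simp)

end General

section Presheaf

variable {C : Type u} [SmallCategory C] {P' P : Cᵒᵖ ⥤ Type u} (g : P' ⟶ P)

/-- the evaluated Čech nerve of a sectionwise surjective map of presheaves has an extra degeneracy -/
noncomputable def extraDegeneracyEval (hg : ∀ U, Function.Surjective (g.app U)) (U : Cᵒᵖ) :
    SimplicialObject.Augmented.ExtraDegeneracy
      (((SimplicialObject.Augmented.whiskering _ _).obj ((evaluation Cᵒᵖ (Type u)).obj U)).obj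
        (Arrow.mk g).augmentedCechNerve) :=
  (Arrow.AugmentedCechNerve.extraDegeneracy
    (((evaluation Cᵒᵖ (Type u)).obj U).mapArrow.obj (Arrow.mk g))
    ⟨↾(fun y => (hg U y).choose), by
      ext y
      exact (hg U y).choose_spec⟩).ofIso (compIso ((evaluation Cᵒᵖ (Type u)).obj U) (Arrow.mk g)).symm

/-- presheaf level: the free abelian group complex on the Čech nerve of a sectionwise surjective map
of presheaves resolves the free presheaf on the target. -/
lemma quasiIso_ε_presheaf (hg : ∀ U, Function.Surjective (g.app U)) :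
    QuasiIso (AlternatingFaceMapComplex.ε.app
      (((SimplicialObject.Augmented.whiskering _ _).obj
        ((Functor.whiskeringRight Cᵒᵖ _ _).obj AddCommGrpCat.free.{u})).obj
          (Arrow.mk g).augmentedCechNerve)) := by
  apply quasiIso_of_forall_map (fun U : Cᵒᵖ => (evaluation Cᵒᵖ AddCommGrpCat.{u}).obj U) (by
    intro X Y f hf
    have : ∀ U, IsIso (f.app U) := hf
    exact NatIso.isIso_of_isIso_app f)
  intro U
  rw [quasiIso_iff_of_arrow_mk_iso _ _
    (epsMapArrowIso ((evaluation Cᵒᵖ AddCommGrpCat.{u}).obj U) _)]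
  refine quasiIso_ε_of_iso ?_
    (quasiIso_ε_of_extraDegeneracy ((extraDegeneracyEval g hg U).map AddCommGrpCat.free.{u}))
  exact (whiskeringCompIso _ _ _) ≪≫ (whiskeringCompIso
    ((Functor.whiskeringRight Cᵒᵖ _ _).obj AddCommGrpCat.free.{u})
    ((evaluation Cᵒᵖ AddCommGrpCat.{u}).obj U) _).symm

end Presheaf

section Sheaf

variable {C : Type u} [SmallCategory C] (J : GrothendieckTopology C)

lemma quasiIso_ε_sheafify {P' P : Cᵒᵖ ⥤ Type u} (g : P' ⟶ P)
    (hg : ∀ U, Function.Surjective (g.app U)) :
    QuasiIso (AlternatingFaceMapComplex.ε.app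
      (((SimplicialObject.Augmented.whiskering _ _).obj
        ((Functor.whiskeringRight Cᵒᵖ _ _).obj AddCommGrpCat.free.{u} ⋙
          presheafToSheaf J AddCommGrpCat.{u})).obj (Arrow.mk g).augmentedCechNerve)) := by
  have h := quasiIso_ε_presheaf g hg
  have h2 : QuasiIso (((presheafToSheaf J AddCommGrpCat.{u}).mapHomologicalComplex _).map
    (AlternatingFaceMapComplex.ε.app
      (((SimplicialObject.Augmented.whiskering _ _).obj
        ((Functor.whiskeringRight Cᵒᵖ _ _).obj AddCommGrpCat.free.{u})).obj
          (Arrow.mk g).augmentedCechNerve))) := inferInstance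
  rw [quasiIso_iff_of_arrow_mk_iso _ _
    (epsMapArrowIso (presheafToSheaf J AddCommGrpCat.{u}) _)] at h2
  exact quasiIso_ε_of_iso (whiskeringCompIso _ _ _) h2

variable {K' K : Sheaf J (Type u)} (f : K' ⟶ K) [Epi f]

lemma W_range_ι : J.W (Subfunctor.range f.hom).ι := by
  have : Sheaf.IsLocallySurjective f := (Sheaf.isLocallySurjective_iff_epi f).2 inferInstance
  have : Presheaf.IsLocallySurjective J f.hom := this
  have : Presheaf.IsLocallySurjective J (Subfunctor.range f.hom).ι :=
    Presheaf.isLocallySurjective_of_isLocallySurjective_fac J (Subfunctor.toRange_ι f.hom)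
  have : Presheaf.IsLocallyInjective J (Subfunctor.range f.hom).ι :=
    Presheaf.isLocallyInjective_of_injective J _ (fun X a b h => Subtype.ext h)
  exact J.W_of_isLocallyBijective _

lemma isIso_sheafify_free_ι :
    IsIso ((presheafToSheaf J AddCommGrpCat.{u}).map
      (Functor.whiskerRight (Subfunctor.range f.hom).ι AddCommGrpCat.free.{u})) := by
  rw [← J.W_iff]
  exact J.W_of_preservesSheafification AddCommGrpCat.free.{u} _ (W_range_ι J f)

/-- **Čech resolution**: for an epimorphism `K' ⟶ K` of sheaves of sets, the complex of free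
abelian sheaves on the Čech nerve resolves the free abelian sheaf on `K`. -/
theorem quasiIso_ε_cechNerve :
    QuasiIso ((AlternatingFaceMapComplex.ε (C := Sheaf J AddCommGrpCat.{u})).app
      (((SimplicialObject.Augmented.whiskering _ _).obj
        (Sheaf.composeAndSheafify J AddCommGrpCat.free.{u})).obj
          (Arrow.mk f).augmentedCechNerve)) := by
  let T := (Functor.whiskeringRight Cᵒᵖ _ _).obj AddCommGrpCat.free.{u} ⋙
    presheafToSheaf J AddCommGrpCat.{u}
  have hg : ∀ U, Function.Surjective ((Subfunctor.toRange f.hom).app U) := by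
    rintro U ⟨y, x, rfl⟩
    exact ⟨x, Subtype.ext (Subfunctor.toRange_app_val f.hom x)⟩
  have h1 := quasiIso_ε_sheafify J (Subfunctor.toRange f.hom) hg
  let φ : Arrow.mk (Subfunctor.toRange f.hom) ⟶ Arrow.mk f.hom :=
    Arrow.homMk (𝟙 _) (Subfunctor.range f.hom).ι (by simp)
  let Ψ := ((SimplicialObject.Augmented.whiskering _ _).obj T).map (Arrow.mapAugmentedCechNerve φ)
  have hl : IsIso Ψ.left := by
    have : IsIso (Arrow.mapCechNerve φ) := by
      have : IsIso φ.left := by dsimp [φ]; infer_instance
      have : Mono φ.right := by dsimp [φ]; infer_instance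
      infer_instance
    change IsIso (Functor.whiskerRight (Arrow.mapCechNerve φ) T)
    infer_instance
  have hr : IsIso Ψ.right := isIso_sheafify_free_ι J f
  have : IsIso Ψ := comma_isIso_of_isIso_left_right Ψ
  have h2 := quasiIso_ε_of_iso (asIso Ψ) h1
  refine quasiIso_ε_of_iso ?_ h2
  exact ((SimplicialObject.Augmented.whiskering _ _).obj T).mapIso
    (compIso (sheafToPresheaf J (Type u)) (Arrow.mk f)).symm ≪≫ whiskeringCompIso _ _ _

end Sheaf

end Groth.Agent.Lib.CechFreeRes
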