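import Groth.Prelude.Def_CohCx
import Groth.Agent.Lib.CechAcyc2
import Groth.Agent.Lib.CechFreeRes

/-!
# Čech complexes of epimorphisms of sheaves of sets vs total acyclicity (helper95)
-/

universe u

open CategoryTheory Limits Opposite Abelian AlgebraicTopology Simplicial

set_option linter.unusedSectionVars false

namespace Groth.Agent.Lib.CechAcyc3

open Groth.Agent.Lib.CechAcyc1 Groth.Agent.Lib.CechAcyc2 Groth.Agent.Lib.CechFreeRes

variable {C : Type u} [SmallCategory C] (J : GrothendieckTopology C)

/-- the free abelian sheaf functor on sheaves of sets -/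
noncomputable abbrev T : Sheaf J (Type u) ⥤ Sheaf J AddCommGrpCat.{u} :=
  Sheaf.composeAndSheafify J AddCommGrpCat.free.{u}

variable {J} {K' K : Sheaf J (Type u)} (f : K' ⟶ K)

/-- the chain complex of free abelian sheaves on the Čech nerve of `f` -/
noncomputable abbrev R : ChainComplex (Sheaf J AddCommGrpCat.{u}) ℕ :=
  (alternatingFaceMapComplex _).obj ((Arrow.mk f).cechNerve ⋙ T J)

lemma cechNerveCx_eq (F : Sheaf J AddCommGrpCat.{u}) :
    CohCx.cechNerveCx F f = homCx ((Arrow.mk f).cechNerve ⋙ T J) F := rfl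

lemma isZero_homology_cechNerveCx_iff (F : Sheaf J AddCommGrpCat.{u}) (n : ℕ) :
    IsZero ((CohCx.cechNerveCx F f).homology (n + 1)) ↔ HomExactAt (R f) F n := by
  rw [cechNerveCx_eq]
  exact isZero_homology_iff _ _ _

section Epi

variable [Epi f]

/-- the augmentation `R f ⟶ ℤ[K]` -/
noncomputable def π : R f ⟶ (ChainComplex.single₀ _).obj ((T J).obj K) :=
  AlternatingFaceMapComplex.ε.app (((SimplicialObject.Augmented.whiskering _ _).obj (T J)).obj
    (Arrow.mk f).augmentedCechNerve)

instance : QuasiIso (π f) := quasiIso_ε_cechNerve J f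

lemma exactAt_R (n : ℕ) : (R f).ExactAt (n + 1) := exactAt_succ (π f) n

/-- **S6151**: a totally acyclic sheaf is Čech-acyclic for every epimorphism of sheaves of sets. -/
theorem homExactAt_of_isTotallyAcyclic (F : Sheaf J AddCommGrpCat.{u})
    (hF : CohCx.IsTotallyAcyclic F) (n : ℕ) : HomExactAt (R f) F n :=
  homExactAt_of_ext_vanishing (exactAt_R f) ((π f).f 0) (d_comp_f_zero (π f))
    (isColimitCokernelCofork (π f)) n F (fun k p => hF _ p) (fun p => hF K p)

end Epi

end Groth.Agent.Lib.CechAcyc3
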