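import Groth.Agent.Lib.CechAcyc4
import Groth.Prelude.Def_CohSite
import Mathlib.CategoryTheory.Sites.Pullback

/-!
# Direct images of totally acyclic sheaves along morphisms of sites (helper95)
-/

universe u

open CategoryTheory Limits Opposite Abelian AlgebraicTopology Simplicial

set_option linter.unusedSectionVars false

namespace Groth.Agent.Lib.CechAcyc5

open Groth.Agent.Lib.CechAcyc1 Groth.Agent.Lib.CechAcyc2 Groth.Agent.Lib.CechAcyc3
  Groth.Agent.Lib.CechAcyc4 Groth.Agent.Lib.CechNerveFunctor Groth.Agent.Lib.AugQuasiIso

variable {C D : Type u} [SmallCategory C] [SmallCategory D]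
  (J : GrothendieckTopology C) (K : GrothendieckTopology D) (u : D ⥤ C) [u.IsContinuous K J]

/-- inverse image of sheaves of sets -/
noncomputable abbrev us : Sheaf K (Type u) ⥤ Sheaf J (Type u) := u.sheafPullback (Type u) K J

/-- inverse image of abelian sheaves -/
noncomputable abbrev ua : Sheaf K AddCommGrpCat.{u} ⥤ Sheaf J AddCommGrpCat.{u} :=
  u.sheafPullback AddCommGrpCat.{u} K J

/-- the free abelian sheaf functor commutes with inverse images -/
noncomputable def freePullbackIso : T K ⋙ ua J K u ≅ us J K u ⋙ T J :=
  Adjunction.leftAdjointUniq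
    ((adj (J := K)).comp (u.sheafAdjunctionContinuous AddCommGrpCat.{u} K J))
    ((u.sheafAdjunctionContinuous (Type u) K J).comp (adj (J := J)))

instance : (ua J K u).Additive :=
  (u.sheafAdjunctionContinuous AddCommGrpCat.{u} K J).left_adjoint_additive

variable [PreservesFiniteLimits (us J K u)] {L' L : Sheaf K (Type u)} (g : L' ⟶ L)

/-- the inverse image of the Čech resolution of `g` is the Čech resolution of the inverse image. -/
noncomputable def mapRIso :
    ((ua J K u).mapHomologicalComplex _).obj (R g) ≅ R ((us J K u).map g) :=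
  mapAltIso (ua J K u) _ ≪≫ (alternatingFaceMapComplex _).mapIso
    (Functor.associator _ _ _ ≪≫
      Functor.isoWhiskerLeft (Arrow.mk g).cechNerve (freePullbackIso J K u) ≪≫
      (Functor.associator _ _ _).symm ≪≫
      Functor.isoWhiskerRight (compLeftIso (us J K u) (Arrow.mk g)) (T J))

/-- the direct image of a totally acyclic sheaf along a morphism of sites (continuous functor with
exact inverse image on sheaves of sets) is totally acyclic. -/
theorem isTotallyAcyclic_push (F : Sheaf J AddCommGrpCat.{u}) (hF : CohCx.IsTotallyAcyclic F) :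
    CohCx.IsTotallyAcyclic ((CohSite.push J K u).obj F) := by
  apply isTotallyAcyclic_of_cechAcyclic
  intro L' L g hg n
  have : (us J K u).IsLeftAdjoint := (u.sheafAdjunctionContinuous (Type u) K J).isLeftAdjoint
  have : Epi ((us J K u).map g) := inferInstance
  exact HomExactAt.of_adjunction (u.sheafAdjunctionContinuous AddCommGrpCat.{u} K J)
    (HomExactAt.of_iso (mapRIso J K u g) (homExactAt_of_isTotallyAcyclic _ F hF n))

end Groth.Agent.Lib.CechAcyc5
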