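import Groth.Agent.Lib.CechAcyc4
import Mathlib.Algebra.Homology.Square
import Mathlib.CategoryTheory.Limits.Preserves.Shapes.Square

/-!
# Restriction of sections of totally acyclic sheaves along monomorphisms is surjective (helper95)
-/

universe u

open CategoryTheory Limits Opposite Abelian

set_option linter.unusedSectionVars false

namespace Groth.Agent.Lib.CechAcyc7

open Groth.Agent.Lib.CechAcyc1 Groth.Agent.Lib.CechAcyc3 Groth.Agent.Lib.CechAcyc4

section General

variable {A : Type*} [Category* A] [Abelian A] [HasExt A]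
  {S : ShortComplex A} (hS : S.ShortExact)

include hS in
/-- if `Ext^1(S.X₃, F) = 0`, every morphism `S.X₁ ⟶ F` extends to `S.X₂`. -/
lemma exists_extension_of_subsingleton_ext_one (F : A) (h : Subsingleton (Ext S.X₃ F 1))
    (y : S.X₁ ⟶ F) : ∃ ψ : S.X₂ ⟶ F, S.f ≫ ψ = y := by
  obtain ⟨x₂, hx₂⟩ := Ext.contravariant_sequence_exact₁ hS F (Ext.mk₀ y) (rfl : 1 + 0 = 1)
    (h.elim _ _)
  obtain ⟨ψ, rfl⟩ := (Ext.mk₀_bijective _ _).2 x₂
  refine ⟨ψ, ?_⟩
  rw [Ext.mk₀_comp_mk₀] at hx₂
  exact (Ext.mk₀_bijective _ _).1 hx₂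

end General

variable {C : Type u} [SmallCategory C] {J : GrothendieckTopology C}

/-- the free abelian sheaf functor preserves monomorphisms -/
lemma mono_T_map {Y X : Sheaf J (Type u)} (ι : Y ⟶ X) [Mono ι] : Mono ((T J).map ι) := by
  have h1 : Mono ((sheafToPresheaf J (Type u)).map ι) := inferInstance
  have h2 : Mono (Functor.whiskerRight ((sheafToPresheaf J (Type u)).map ι)
      AddCommGrpCat.free.{u}) := by
    rw [NatTrans.mono_iff_mono_app]
    intro U
    have : Mono (((sheafToPresheaf J (Type u)).map ι).app U) := inferInstance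
    exact inferInstanceAs (Mono (AddCommGrpCat.free.{u}.map
      (((sheafToPresheaf J (Type u)).map ι).app U)))
  exact inferInstanceAs (Mono ((presheafToSheaf J AddCommGrpCat.{u}).map
    (Functor.whiskerRight ((sheafToPresheaf J (Type u)).map ι) AddCommGrpCat.free.{u})))

variable {Y X : Sheaf J (Type u)} (ι : Y ⟶ X)

/-- the pushout square `X ⊔_Y 1` of sheaves of sets -/
noncomputable def sq : Square (Sheaf J (Type u)) where
  X₁ := Y
  X₂ := X
  X₃ := ⊤_ _
  X₄ := pushout ι (terminal.from Y)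
  f₁₂ := ι
  f₁₃ := terminal.from Y
  f₂₄ := pushout.inl _ _
  f₃₄ := pushout.inr _ _
  fac := pushout.condition

lemma sq_isPushout : (sq ι).IsPushout := IsPushout.of_hasPushout _ _

/-- the image of the square under the free abelian sheaf functor -/
noncomputable abbrev sq' : Square (Sheaf J AddCommGrpCat.{u}) := (sq ι).map (T J)

lemma sq'_isPushout : (sq' ι).IsPushout := by
  have : (T J).IsLeftAdjoint := (adj (J := J)).isLeftAdjoint
  exact (sq_isPushout ι).map (T J)

/-- the Mayer-Vietoris short complex `ℤ[Y] ⟶ ℤ[X] ⊞ ℤ[1] ⟶ ℤ[X ⊔_Y 1]` -/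
noncomputable def sc : ShortComplex (Sheaf J AddCommGrpCat.{u}) :=
  ShortComplex.mk (biprod.lift (sq' ι).f₁₂ (-(sq' ι).f₁₃)) (biprod.desc (sq' ι).f₂₄ (sq' ι).f₃₄)
    (sq' ι).cokernelCofork.condition

lemma sc_shortExact [Mono ι] : (sc ι).ShortExact := by
  have h1 : (sc ι).Exact :=
    ShortComplex.exact_of_g_is_cokernel _ (sq'_isPushout ι).isColimitCokernelCofork
  have h2 : Epi (sc ι).g :=
    ((sc ι).exact_and_epi_g_iff_g_is_cokernel.2 ⟨(sq'_isPushout ι).isColimitCokernelCofork⟩).2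
  have h3 : Mono (sc ι).f := by
    have : Mono ((sc ι).f ≫ biprod.fst) := by
      dsimp [sc]
      simp only [biprod.lift_fst]
      exact mono_T_map ι
    exact mono_of_mono _ biprod.fst
  exact { exact := h1 }

/-- **S3089**: for a totally acyclic sheaf `F` and a monomorphism `Y ⟶ X` of sheaves of sets, every
morphism `ℤ[Y] ⟶ F` extends to `ℤ[X]`. -/
theorem exists_extension_of_isTotallyAcyclic [Mono ι] (F : Sheaf J AddCommGrpCat.{u})
    (hF : CohCx.IsTotallyAcyclic F) (y : (T J).obj Y ⟶ F) :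
    ∃ x : (T J).obj X ⟶ F, (T J).map ι ≫ x = y := by
  obtain ⟨ψ₀, hψ₀⟩ := exists_extension_of_subsingleton_ext_one (sc_shortExact ι) F
    (hF (pushout ι (terminal.from Y)) 0) y
  let ψ : (T J).obj X ⊞ (T J).obj (⊤_ (Sheaf J (Type u))) ⟶ F := ψ₀
  have hψ : biprod.lift ((T J).map ι) (-(T J).map (terminal.from Y)) ≫ ψ = y := hψ₀
  refine ⟨biprod.inl ≫ ψ - (T J).map (terminal.from X) ≫ biprod.inr ≫ ψ, ?_⟩
  have h2 : (T J).map (terminal.from Y) = (T J).map ι ≫ (T J).map (terminal.from X) := by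
    rw [← Functor.map_comp]
    congr 1
    exact Subsingleton.elim _ _
  have h3 : ψ = biprod.desc (biprod.inl ≫ ψ) (biprod.inr ≫ ψ) := by
    apply biprod.hom_ext'
    · rw [biprod.inl_desc]
    · rw [biprod.inr_desc]
  rw [← hψ]
  conv_rhs => rw [h3]
  rw [biprod.lift_desc, Preadditive.comp_sub, Preadditive.neg_comp, h2, Category.assoc,
    sub_eq_add_neg]

end Groth.Agent.Lib.CechAcyc7
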