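import Groth.Agent.Lib.CechAcyc5
import Groth.Agent.Lib.WidePbIter

/-!
# Direct images of totally acyclic sheaves when the inverse image only preserves fibre products
(helper95)
-/

universe u

open CategoryTheory Limits Opposite Abelian AlgebraicTopology Simplicial

set_option backward.defeqAttrib.useBackward true
set_option backward.isDefEq.respectTransparency false
set_option linter.unusedSectionVars false

namespace Groth.Agent.Lib.CechAcyc8

open Groth.Agent.Lib.CechAcyc1 Groth.Agent.Lib.CechAcyc2 Groth.Agent.Lib.CechAcyc3
  Groth.Agent.Lib.CechAcyc4 Groth.Agent.Lib.CechAcyc5 Groth.Agent.Lib.CechNerveFunctor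
  Groth.Agent.Lib.AugQuasiIso Groth.Agent.Lib.WidePbIter

section General

universe v v' w w'

variable {C : Type w} [Category.{v} C] {D : Type w'} [Category.{v'} D] (G : C ⥤ D) (f : Arrow C)
  [∀ n : ℕ, HasWidePullback f.right (fun _ : Fin (n + 1) => f.left) fun _ => f.hom]
  [∀ n : ℕ, HasWidePullback (G.mapArrow.obj f).right (fun _ : Fin (n + 1) => (G.mapArrow.obj f).left)
      fun _ => (G.mapArrow.obj f).hom]
  [∀ n : ℕ, IsIso (compApp G f n)]

/-- `G` applied to the Čech nerve of `f` is the Čech nerve of `G f`, if the comparison maps on fibre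
powers are isomorphisms. -/
noncomputable def compLeftIso' : f.cechNerve ⋙ G ≅ (G.mapArrow.obj f).cechNerve :=
  NatIso.ofComponents (fun n => asIso (compApp G f n.unop.len)) (by
    intro m n θ
    apply WidePullback.hom_ext
    · intro j
      simp [← G.map_comp]
    · simp [← G.map_comp])

end General

variable {C D : Type u} [SmallCategory C] [SmallCategory D]
  (J : GrothendieckTopology C) (K : GrothendieckTopology D) (u : D ⥤ C) [u.IsContinuous K J]
  [PreservesLimitsOfShape WalkingCospan (us J K u)] {L' L : Sheaf K (Type u)} (g : L' ⟶ L)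

instance (n : ℕ) : IsIso (compApp (us J K u) (Arrow.mk g) n) :=
  isIso_compApp_of_preservesPullbacks _ _ n

/-- the inverse image of the Čech resolution of `g` is the Čech resolution of the inverse image. -/
noncomputable def mapRIso' :
    ((ua J K u).mapHomologicalComplex _).obj (R g) ≅ R ((us J K u).map g) :=
  mapAltIso (ua J K u) _ ≪≫ (alternatingFaceMapComplex _).mapIso
    (Functor.associator _ _ _ ≪≫
      Functor.isoWhiskerLeft (Arrow.mk g).cechNerve (freePullbackIso J K u) ≪≫
      (Functor.associator _ _ _).symm ≪≫
      Functor.isoWhiskerRight (compLeftIso' (us J K u) (Arrow.mk g)) (T J))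

/-- the direct image of a totally acyclic sheaf along a continuous functor whose inverse image on
sheaves of sets preserves fibre products is totally acyclic. -/
theorem isTotallyAcyclic_push' (F : Sheaf J AddCommGrpCat.{u}) (hF : CohCx.IsTotallyAcyclic F) :
    CohCx.IsTotallyAcyclic ((CohSite.push J K u).obj F) := by
  apply isTotallyAcyclic_of_cechAcyclic
  intro L' L g hg n
  have : (us J K u).IsLeftAdjoint := (u.sheafAdjunctionContinuous (Type u) K J).isLeftAdjoint
  have : Epi ((us J K u).map g) := inferInstance
  exact HomExactAt.of_adjunction (u.sheafAdjunctionContinuous AddCommGrpCat.{u} K J)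
    (HomExactAt.of_iso (mapRIso' J K u g) (homExactAt_of_isTotallyAcyclic _ F hF n))

end Groth.Agent.Lib.CechAcyc8
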