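import Mathlib.Algebra.Homology.Embedding.ExtendHomology
import Mathlib.Algebra.Homology.Additive

/-!
# Extension of complexes by zero commutes with additive functors (helper25)

`extendMapIso F K e : (F.mapHomologicalComplex c').obj (K.extend e) ≅ ((F.mapHomologicalComplex c).obj K).extend e`
and the induced isomorphism on homology `homologyExtendMapIso`.
-/

set_option autoImplicit false
open CategoryTheory CategoryTheory.Limits

namespace Groth.Agent.Lib.ExtendMap25

variable {ι ι' : Type*} {c : ComplexShape ι} {c' : ComplexShape ι'}
variable {C D : Type*} [Category C] [Category D] [Preadditive C] [Preadditive D]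
  [HasZeroObject C] [HasZeroObject D] (F : C ⥤ D) [F.Additive]

open HomologicalComplex

/-- termwise comparison -/
noncomputable def XFIso (K : HomologicalComplex C c) :
    ∀ i : Option ι, F.obj (extend.X K i) ≅ extend.X ((F.mapHomologicalComplex c).obj K) i
  | some _ => Iso.refl _
  | none => IsZero.iso (F.map_isZero (extend.isZero_X K rfl)) (extend.isZero_X _ rfl)

lemma XFIso_d (K : HomologicalComplex C c) :
    ∀ i j : Option ι, (XFIso F K i).hom ≫ extend.d ((F.mapHomologicalComplex c).obj K) i j =
      F.map (extend.d K i j) ≫ (XFIso F K j).hom
  | none, _ => (F.map_isZero (extend.isZero_X K rfl)).eq_of_src _ _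
  | some i, some j => by
      change 𝟙 _ ≫ F.map (K.d i j) = F.map (K.d i j) ≫ 𝟙 _
      rw [Category.id_comp, Category.comp_id]
  | some _, none => (extend.isZero_X ((F.mapHomologicalComplex c).obj K) rfl).eq_of_tgt _ _

/-- `F (K.extend e) ≅ (F K).extend e` -/
noncomputable def extendMapIso (K : HomologicalComplex C c) (e : c.Embedding c') :
    (F.mapHomologicalComplex c').obj (K.extend e) ≅
      ((F.mapHomologicalComplex c).obj K).extend e :=
  Hom.isoOfComponents (fun i' => XFIso F K (e.r i')) (fun i' j' _ => XFIso_d F K (e.r i') (e.r j'))

/-- homology of `F (K.extend e)` in degree `e.f j` is the homology of `F K` in degree `j` -/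
noncomputable def homologyExtendMapIso (K : HomologicalComplex C c) (e : c.Embedding c')
    [e.IsRelIff] {j : ι} {j' : ι'} (hj : e.f j = j')
    [((F.mapHomologicalComplex c).obj K).HasHomology j]
    [(((F.mapHomologicalComplex c).obj K).extend e).HasHomology j']
    [((F.mapHomologicalComplex c').obj (K.extend e)).HasHomology j'] :
    ((F.mapHomologicalComplex c').obj (K.extend e)).homology j' ≅
      ((F.mapHomologicalComplex c).obj K).homology j :=
  (HomologicalComplex.homologyMapIso (extendMapIso F K e) j') ≪≫
    ((F.mapHomologicalComplex c).obj K).extendHomologyIso e hj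

end Groth.Agent.Lib.ExtendMap25
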