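import Groth.Prelude.Def_DeltaF
import Mathlib.Algebra.Homology.ShortComplex.Exact
import Mathlib.CategoryTheory.Abelian.Basic

set_option autoImplicit false

open CategoryTheory CategoryTheory.Limits DeltaF

universe v u v' u'

namespace Groth.Agent.Lib.DeltaUniv

variable {A : Type u} [Category.{v} A] [Abelian A] {B : Type u'} [Category.{v'} B] [Abelian B]

/-- the short exact sequence `X ⟶ Y ⟶ coker u` of a monomorphism -/
noncomputable abbrev ses {X Y : A} (u : X ⟶ Y) : ShortComplex A :=
  ShortComplex.mk u (cokernel.π u) (cokernel.condition u)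

lemma ses_shortExact {X Y : A} (u : X ⟶ Y) [Mono u] : (ses u).ShortExact :=
  ShortComplex.ShortExact.mk'
    (ShortComplex.exact_of_g_is_cokernel _ (cokernelIsCokernel u)) ‹_›
    (inferInstanceAs (Epi (cokernel.π u)))

variable (T T' : CohDeltaFunctor A B ℕ) (n : ℕ) (σ : T.F n ⟶ T'.F n)

/-- compatibility with `δ` propagates backwards along morphisms of short exact sequences -/
lemma comp_of_compat {S S' : ShortComplex A} (hS : S.ShortExact) (hS' : S'.ShortExact)
    (φ : S ⟶ S') (l' : (T.F (n + 1)).obj S'.X₁ ⟶ (T'.F (n + 1)).obj S'.X₁)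
    (hl' : T.δ S' hS' n (n + 1) rfl ≫ l' = σ.app S'.X₃ ≫ T'.δ S' hS' n (n + 1) rfl) :
    T.δ S hS n (n + 1) rfl ≫ (T.F (n + 1)).map φ.τ₁ ≫ l' =
      σ.app S.X₃ ≫ T'.δ S hS n (n + 1) rfl ≫ (T'.F (n + 1)).map φ.τ₁ := by
  rw [← Category.assoc, ← T.δ_natural hS hS' φ n (n + 1) rfl, Category.assoc, hl',
    ← Category.assoc, σ.naturality, Category.assoc, T'.δ_natural hS hS' φ n (n + 1) rfl]

lemma epi_δ {S : ShortComplex A} (hS : S.ShortExact) (h0 : (T.F (n + 1)).map S.f = 0) :
    Epi (T.δ S hS n (n + 1) rfl) :=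
  (T.exact₁ S hS n (n + 1) rfl).epi_f h0

lemma exists_lift {S : ShortComplex A} (hS : S.ShortExact) (h0 : (T.F (n + 1)).map S.f = 0) :
    ∃ l : (T.F (n + 1)).obj S.X₁ ⟶ (T'.F (n + 1)).obj S.X₁,
      T.δ S hS n (n + 1) rfl ≫ l = σ.app S.X₃ ≫ T'.δ S hS n (n + 1) rfl := by
  have := epi_δ T n hS h0
  have hk : (T.F n).map S.g ≫ σ.app S.X₃ ≫ T'.δ S hS n (n + 1) rfl = 0 := by
    rw [← Category.assoc, σ.naturality, Category.assoc, T'.comp_δ, comp_zero]
  exact ⟨(T.exact₃ S hS n (n + 1) rfl).desc _ hk, (T.exact₃ S hS n (n + 1) rfl).g_desc _ hk⟩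

section Eff

variable (hT : T.IsEffaceable)

/-- a chosen effacing monomorphism -/
noncomputable def effY (X : A) : A := (hT n X).choose

/-- a chosen effacing monomorphism -/
noncomputable def effU (X : A) : X ⟶ effY T n hT X := (hT n X).choose_spec.choose

instance effU_mono (X : A) : Mono (effU T n hT X) := (hT n X).choose_spec.choose_spec.1

lemma effU_zero (X : A) : (T.F (n + 1)).map (effU T n hT X) = 0 :=
  (hT n X).choose_spec.choose_spec.2

/-- the component at `X` of the extension of `σ` to degree `n + 1` -/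
noncomputable def lft (X : A) : (T.F (n + 1)).obj X ⟶ (T'.F (n + 1)).obj X :=
  (exists_lift T T' n σ (ses_shortExact (effU T n hT X)) (effU_zero T n hT X)).choose

lemma lft_spec (X : A) :
    T.δ (ses (effU T n hT X)) (ses_shortExact _) n (n + 1) rfl ≫ lft T T' n σ hT X =
      σ.app (cokernel (effU T n hT X)) ≫
        T'.δ (ses (effU T n hT X)) (ses_shortExact _) n (n + 1) rfl :=
  (exists_lift T T' n σ (ses_shortExact (effU T n hT X)) (effU_zero T n hT X)).choose_spec

/-- the extension is compatible with the connecting morphisms of ALL short exact sequences -/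
theorem lft_compat (S : ShortComplex A) (hS : S.ShortExact) :
    T.δ S hS n (n + 1) rfl ≫ lft T T' n σ hT S.X₁ = σ.app S.X₃ ≫ T'.δ S hS n (n + 1) rfl := by
  have := hS.mono_f
  have := hS.epi_g
  let u := effU T n hT S.X₁
  let w : S.X₁ ⟶ pushout S.f u := u ≫ pushout.inr S.f u
  have hw0 : (T.F (n + 1)).map w = 0 := by
    rw [Functor.map_comp, effU_zero, zero_comp]
  obtain ⟨lw, hlw⟩ := exists_lift T T' n σ (ses_shortExact w) hw0
  let ψ : ses u ⟶ ses w :=
    { τ₁ := 𝟙 S.X₁
      τ₂ := pushout.inr S.f u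
      τ₃ := cokernel.desc u (pushout.inr S.f u ≫ cokernel.π w) (by
        rw [← Category.assoc]
        exact cokernel.condition w)
      comm₁₂ := by simp [w]
      comm₂₃ := by simp }
  have e1 := comp_of_compat T T' n σ (ses_shortExact u) (ses_shortExact w) ψ lw hlw
  have hlw' : lw = lft T T' n σ hT S.X₁ := by
    have := epi_δ T n (ses_shortExact u) (effU_zero T n hT S.X₁)
    rw [← cancel_epi (T.δ (ses u) (ses_shortExact u) n (n + 1) rfl), lft_spec]
    simpa [ψ] using e1
  rw [hlw'] at hlw
  let φ : S ⟶ ses w :=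
    { τ₁ := 𝟙 S.X₁
      τ₂ := pushout.inl S.f u
      τ₃ := hS.exact.desc (pushout.inl S.f u ≫ cokernel.π w) (by
        rw [← Category.assoc, pushout.condition]
        exact cokernel.condition w)
      comm₁₂ := by simp [w, pushout.condition]
      comm₂₃ := by simp }
  have e2 := comp_of_compat T T' n σ hS (ses_shortExact w) φ _ hlw
  simpa [φ] using e2

/-- the extension is natural -/
theorem lft_natural {X X' : A} (f : X ⟶ X') :
    (T.F (n + 1)).map f ≫ lft T T' n σ hT X' = lft T T' n σ hT X ≫ (T'.F (n + 1)).map f := by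
  let u := effU T n hT X
  let u' := effU T n hT X'
  let w' : X' ⟶ pushout u (f ≫ u') := u' ≫ pushout.inr u (f ≫ u')
  let φ : ses u ⟶ ses w' :=
    { τ₁ := f
      τ₂ := pushout.inl u (f ≫ u')
      τ₃ := cokernel.desc u (pushout.inl u (f ≫ u') ≫ cokernel.π w') (by
        rw [← Category.assoc, pushout.condition, Category.assoc, Category.assoc]
        have : u' ≫ pushout.inr u (f ≫ u') ≫ cokernel.π w' = 0 := by
          rw [← Category.assoc]
          exact cokernel.condition w'
        rw [this, comp_zero])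
      comm₁₂ := by simp [w', pushout.condition]
      comm₂₃ := by simp }
  have hP := lft_compat T T' n σ hT (ses w') (ses_shortExact w')
  have e := comp_of_compat T T' n σ (ses_shortExact u) (ses_shortExact w') φ _ hP
  have := epi_δ T n (ses_shortExact u) (effU_zero T n hT X)
  rw [← cancel_epi (T.δ (ses u) (ses_shortExact u) n (n + 1) rfl)]
  refine e.trans ?_
  rw [← Category.assoc, ← lft_spec, Category.assoc]

/-- the extension of `σ` to degree `n + 1` -/
noncomputable def step : T.F (n + 1) ⟶ T'.F (n + 1) where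
  app X := lft T T' n σ hT X
  naturality _ _ f := lft_natural T T' n σ hT f

lemma step_compat (S : ShortComplex A) (hS : S.ShortExact) :
    T.δ S hS n (n + 1) rfl ≫ (step T T' n σ hT).app S.X₁ =
      σ.app S.X₃ ≫ T'.δ S hS n (n + 1) rfl :=
  lft_compat T T' n σ hT S hS

lemma step_unique (σ' : T.F (n + 1) ⟶ T'.F (n + 1))
    (h : ∀ (S : ShortComplex A) (hS : S.ShortExact),
      T.δ S hS n (n + 1) rfl ≫ σ'.app S.X₁ = σ.app S.X₃ ≫ T'.δ S hS n (n + 1) rfl) :
    σ' = step T T' n σ hT := by
  ext X
  have := epi_δ T n (ses_shortExact (effU T n hT X)) (effU_zero T n hT X)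
  rw [← cancel_epi (T.δ (ses (effU T n hT X)) (ses_shortExact _) n (n + 1) rfl), h]
  exact (lft_spec T T' n σ hT X).symm

end Eff

/-- **Grothendieck**: an effaceable cohomological delta-functor is universal. -/
theorem isUniversal_of_isEffaceable (T : CohDeltaFunctor A B ℕ) (hT : T.IsEffaceable) :
    T.IsUniversal := by
  intro T' t
  let τ : ∀ n, T.F n ⟶ T'.F n := fun n => Nat.rec t (fun n σ => step T T' n σ hT) n
  refine ⟨⟨τ, ?_⟩, rfl, ?_⟩
  · intro S hS n₀ n₁ h
    subst h
    exact lft_compat T T' n₀ (τ n₀) hT S hS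
  · intro τ' hτ'
    apply CohDeltaFunctor.hom_ext
    intro n
    induction n with
    | zero => exact hτ'
    | succ n ih =>
      change τ'.app (n + 1) = step T T' n (τ n) hT
      apply step_unique
      intro S hS
      have := τ'.comm S hS n (n + 1) rfl
      rw [ih] at this
      exact this

end Groth.Agent.Lib.DeltaUniv
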