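import Groth.Agent.Lib.LocCohDelta
import Groth.Agent.Lib.DerivedLES
import Groth.Agent.S16465
import Groth.Agent.S6774
import Mathlib.Algebra.Homology.ShortComplex.ExactFunctor

/-!
# `R^i Γ_I ≅ H^i_I` (Brodmann–Sharp 1.3.8) (helper53)
-/

set_option maxHeartbeats 400000
universe u
open CategoryTheory CategoryTheory.Limits Opposite

namespace Groth.Agent.Lib.LocCohDerived
open Groth.Agent.Lib.LocCohConcrete Groth.Agent.Lib.LocCohLES Groth.Agent.Lib.LocCohH0
open Groth.Agent.Lib.LocCohDelta

variable {R : Type u} [CommRing R] (I : Ideal R)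

instance preservesFiniteLimits_gammaI : PreservesFiniteLimits (DRing.gammaI I) := by
  rw [Functor.preservesFiniteLimits_iff_forall_exact_map_and_mono]
  intro S hS
  constructor
  · rw [ShortComplex.moduleCat_exact_iff]
    intro x₂ hx₂
    let x₂' : DRing.torsionSub I S.X₂ := x₂
    have h1 : S.g.hom (x₂' : S.X₂) = 0 := by
      have := congrArg (Subtype.val (p := fun m => m ∈ DRing.torsionSub I ↑S.X₃)) hx₂
      exact this
    obtain ⟨x₁, hx₁⟩ := (exact_fg S hS _).1 h1
    have hmem : x₁ ∈ DRing.torsionSub I S.X₁ := by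
      obtain ⟨n, hn⟩ := x₂'.2
      refine ⟨n, fun a ha => ?_⟩
      apply inj_f S hS
      rw [map_smul, hx₁, map_zero]
      exact hn a ha
    refine ⟨(⟨x₁, hmem⟩ : DRing.torsionSub I S.X₁), ?_⟩
    apply Subtype.ext
    exact hx₁
  · rw [ModuleCat.mono_iff_injective]
    intro a b hab
    let a' : DRing.torsionSub I S.X₁ := a
    let b' : DRing.torsionSub I S.X₁ := b
    have : a' = b' := by
      apply Subtype.ext
      apply inj_f S hS
      have := congrArg (Subtype.val (p := fun m => m ∈ DRing.torsionSub I ↑S.X₂)) hab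
      exact this
    exact this

/-- `H^0_I ≅ Γ_I` as functors. -/
noncomputable def gammaNatIso : localCohomology I 0 ≅ DRing.gammaI I :=
  NatIso.ofComponents (fun X => (gammaEquiv I X).toModuleIso) (by
    intro X Y f
    apply ModuleCat.hom_ext
    apply LinearMap.ext
    intro y
    apply Subtype.ext
    exact toGamma_Hmap I f.hom y)

/-- the delta-functor of right derived functors of `Γ_I`. -/
noncomputable abbrev Tder : DeltaF.CohDeltaFunctor (ModuleCat.{u} R) (ModuleCat.{u} R) ℕ :=
  (Groth.Agent.Lib.DerivedLES.derivedLES (DRing.gammaI I)).toCohDeltaFunctor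

/-- the isomorphism of delta-functors `R^•Γ_I ≅ H^•_I`. -/
noncomputable def deltaIso : Tder I ≅ T I :=
  (Groth.Agent.S6774.result (Tder I) (T I)
    (Groth.Agent.S16465.result _ _) (isUniversal I)
    ((DRing.gammaI I).rightDerivedZeroIsoSelf ≪≫ (gammaNatIso I).symm)).choose

/-- `R^i Γ_I ≅ H^i_I`. -/
noncomputable def rightDerivedIso (i : ℕ) :
    (DRing.gammaI I).rightDerived i ≅ localCohomology I i where
  hom := (deltaIso I).hom.app i
  inv := (deltaIso I).inv.app i
  hom_inv_id := by
    have := congrArg (fun φ : Tder I ⟶ Tder I => φ.app i) (deltaIso I).hom_inv_id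
    exact this
  inv_hom_id := by
    have := congrArg (fun φ : T I ⟶ T I => φ.app i) (deltaIso I).inv_hom_id
    exact this

end Groth.Agent.Lib.LocCohDerived
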