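import Groth.Agent.Lib.RGammaComp25
import Groth.Prelude.Def_DerCA
import Groth.Agent.Lib.ExtendMap25
import Groth.Agent.Lib.LocCohDerived
import Mathlib.Algebra.Homology.DerivedCategory.ExactFunctor
import Mathlib.Algebra.Homology.DerivedCategory.ShortExact

/-!
# The extended Čech complex computes `RΓ_I` over a Noetherian ring (helper25)
-/

set_option autoImplicit false
set_option linter.unusedSectionVars false
set_option maxHeartbeats 400000
universe u
open CategoryTheory CategoryTheory.Limits Opposite HomologicalComplex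
attribute [local instance] HasDerivedCategory.standard

namespace Groth.Agent.Lib.CechRG25

open DerivedCategory

variable {A : Type u} [CommRing A]

abbrev Cx (A : Type u) [CommRing A] := CochainComplex (ModuleCat.{u} A) ℤ

section Exact

variable (S : Submonoid A)

lemma locFunctor_map_exact (T : ShortComplex (ModuleCat.{u} A)) (h : T.Exact) :
    (T.map (DerCA.locFunctor S)).Exact := by
  rw [ShortComplex.ShortExact.moduleCat_exact_iff_function_exact] at h ⊢
  exact IsLocalizedModule.map_exact S (LocalizedModule.mkLinearMap S T.X₁)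
    (LocalizedModule.mkLinearMap S T.X₂) (LocalizedModule.mkLinearMap S T.X₃) _ _ h

instance : PreservesFiniteLimits (DerCA.locFunctor S) := by
  have := ((Functor.exact_tfae (DerCA.locFunctor S)).out 1 3).mp (locFunctor_map_exact S)
  exact this.1

instance : PreservesFiniteColimits (DerCA.locFunctor S) := by
  have := ((Functor.exact_tfae (DerCA.locFunctor S)).out 1 3).mp (locFunctor_map_exact S)
  exact this.2

/-- localization on `D(A)` -/
noncomputable abbrev locD : Dual.D A ⥤ Dual.D A := (DerCA.locFunctor S).mapDerivedCategory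

/-- the localization maps as a natural transformation on complexes -/
noncomputable def locCxUnitNat : 𝟭 (Cx A) ⟶ DerCA.locCx S where
  app X := DerCA.locCxUnit S X
  naturality X Y φ := by
    ext i : 1
    exact (DerCA.locUnit S).naturality (φ.f i)

/-- the unit `K ⟶ K_S` on `D(A)` -/
noncomputable def unitD : 𝟭 (Dual.D A) ⟶ locD S :=
  Localization.liftNatTrans Q (HomologicalComplex.quasiIso (ModuleCat.{u} A) (ComplexShape.up ℤ))
    Q (DerCA.locCx S ⋙ Q) (𝟭 _) (locD S) (Functor.whiskerRight (locCxUnitNat S) Q)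

lemma unitD_app_Q (X : Cx A) :
    (unitD S).app (Q.obj X) = Q.map (DerCA.locCxUnit S X) ≫
      ((DerCA.locFunctor S).mapDerivedCategoryFactors).inv.app X := by
  have := Localization.liftNatTrans_app Q
    (HomologicalComplex.quasiIso (ModuleCat.{u} A) (ComplexShape.up ℤ))
    Q (DerCA.locCx S ⋙ Q) (𝟭 _) (locD S) (Functor.whiskerRight (locCxUnitNat S) Q) X
  refine this.trans ?_
  simp only [Functor.whiskerRight_app]
  erw [Category.id_comp]
  rfl

end Exact

section Coc

open Pretriangulated

/-- `C` is a cocone of the localization map `K ⟶ K_f` in `D(A)` -/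
def IsCoc (f : A) (K C : Dual.D A) : Prop :=
  ∃ (a : C ⟶ K) (b : (locD (Submonoid.powers f)).obj K ⟶ C⟦(1 : ℤ)⟧),
    Triangle.mk a ((unitD (Submonoid.powers f)).app K) b ∈ distTriang (Dual.D A)

lemma isCoc_unique {f : A} {K K' C C' : Dual.D A} (h : IsCoc f K C) (h' : IsCoc f K' C')
    (e : K ≅ K') : Nonempty (C ≅ C') := by
  obtain ⟨a, b, hT⟩ := h
  obtain ⟨a', b', hT'⟩ := h'
  have hr := rot_of_distTriang _ hT
  have hr' := rot_of_distTriang _ hT'
  obtain ⟨e', -, -⟩ := exists_iso_of_arrow_iso _ _ hr hr'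
    (Arrow.isoMk e ((locD (Submonoid.powers f)).mapIso e)
      ((unitD (Submonoid.powers f)).naturality e.hom))
  have e3 : C⟦(1 : ℤ)⟧ ≅ C'⟦(1 : ℤ)⟧ := Triangle.π₃.mapIso e'
  exact ⟨(shiftFunctor (Dual.D A) (1 : ℤ)).preimageIso e3⟩

lemma isCoc_of_triangle (f : A) (X : Cx A) (C : Dual.D A) (a : C ⟶ Q.obj X)
    (b : Q.obj ((DerCA.locCx (Submonoid.powers f)).obj X) ⟶ C⟦(1 : ℤ)⟧)
    (h : Triangle.mk a (Q.map (DerCA.locCxUnit (Submonoid.powers f) X)) b ∈
      distTriang (Dual.D A)) : IsCoc f (Q.obj X) C := by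
  refine ⟨a, ((DerCA.locFunctor (Submonoid.powers f)).mapDerivedCategoryFactors).hom.app X ≫ b,
    isomorphic_distinguished _ h _ (Triangle.isoMk _ _ (Iso.refl _) (Iso.refl _)
      (((DerCA.locFunctor (Submonoid.powers f)).mapDerivedCategoryFactors).app X) ?_ ?_ ?_)⟩
  · change a ≫ 𝟙 _ = 𝟙 _ ≫ a
    rw [Category.comp_id, Category.id_comp]
  · change (unitD (Submonoid.powers f)).app (Q.obj X) ≫
      ((DerCA.locFunctor (Submonoid.powers f)).mapDerivedCategoryFactors).hom.app X = 𝟙 _ ≫ Q.map _
    rw [unitD_app_Q, Category.assoc, Category.id_comp, Iso.inv_hom_id_app]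
    exact Category.comp_id _
  · change (((DerCA.locFunctor (Submonoid.powers f)).mapDerivedCategoryFactors).hom.app X ≫ b) ≫
      (shiftFunctor (Dual.D A) (1 : ℤ)).map (𝟙 C) =
      ((DerCA.locFunctor (Submonoid.powers f)).mapDerivedCategoryFactors).hom.app X ≫ b
    rw [CategoryTheory.Functor.map_id, Category.comp_id]

/-- the one-element extended Čech construction on complexes -/
noncomputable abbrev ce (f : A) (X : Cx A) : Cx A :=
  CochainComplex.mappingCocone (DerCA.locCxUnit (Submonoid.powers f) X)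

lemma isCoc_ce (f : A) (X : Cx A) : IsCoc f (Q.obj X) (Q.obj (ce f X)) :=
  isCoc_of_triangle f X _ _ _
    (DerivedCategory.mappingCocone_triangle_distinguished
      (DerCA.locCxUnit (Submonoid.powers f) X))

end Coc

section Gamma

open Groth.Agent.Lib.RGammaAcyc25 Groth.Agent.Lib.RGammaNoeth25 Groth.Agent.Lib.RGammaComp25

lemma mk_eq_zero_of_mem [IsNoetherianRing A] (f : A) {M : Type u} [AddCommGroup M] [Module A M] (x : M)
    (hx : x ∈ DRing.torsionSub (Ideal.span {f}) M) :
    LocalizedModule.mkLinearMap (Submonoid.powers f) M x = 0 := by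
  obtain ⟨k, hk⟩ := (mem_torsionSub_span_singleton f x).mp hx
  exact (IsLocalizedModule.eq_zero_iff (Submonoid.powers f)
    (LocalizedModule.mkLinearMap (Submonoid.powers f) M)).mpr ⟨⟨f ^ k, k, rfl⟩, hk⟩

lemma mem_of_mk_eq_zero [IsNoetherianRing A] (f : A) {M : Type u} [AddCommGroup M] [Module A M] (x : M)
    (hx : LocalizedModule.mkLinearMap (Submonoid.powers f) M x = 0) :
    x ∈ DRing.torsionSub (Ideal.span {f}) M := by
  obtain ⟨⟨s, k, rfl⟩, hs⟩ := (IsLocalizedModule.eq_zero_iff (Submonoid.powers f)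
    (LocalizedModule.mkLinearMap (Submonoid.powers f) M)).mp hx
  exact (mem_torsionSub_span_singleton f x).mpr ⟨k, hs⟩

lemma mk_surjective_of_injective [IsNoetherianRing A] (f : A) {M : Type u} [AddCommGroup M]
    [Module A M] (hM : Module.Injective A M) :
    Function.Surjective (LocalizedModule.mkLinearMap (Submonoid.powers f) M) := by
  intro y
  induction y using LocalizedModule.induction_on with
  | h x s =>
    obtain ⟨s, N, rfl⟩ := s
    obtain ⟨y, k, hk⟩ := exists_pow_smul_sub_torsion hM f N x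
    refine ⟨y, ?_⟩
    rw [LocalizedModule.mkLinearMap_apply, LocalizedModule.mk_eq]
    refine ⟨⟨f ^ k, k, rfl⟩, ?_⟩
    change f ^ k • (f ^ N • y) = f ^ k • ((1 : A) • x)
    rw [one_smul, ← sub_eq_zero, ← smul_sub]
    exact hk

/-- `0 → Γ_f X → X → X_f → 0` -/
noncomputable def sesG [IsNoetherianRing A] (f : A) (X : Cx A) : ShortComplex (Cx A) :=
  ShortComplex.mk (ιX (Ideal.span {f}) X) (DerCA.locCxUnit (Submonoid.powers f) X) (by
    ext i x
    exact mk_eq_zero_of_mem f _ (show DRing.torsionSub (Ideal.span {f}) (X.X i) from x).2)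

lemma sesG_shortExact [IsNoetherianRing A] (f : A) (X : Cx A) (hX : InjTerms X) :
    (sesG f X).ShortExact := by
  apply HomologicalComplex.shortExact_of_degreewise_shortExact
  intro i
  exact
    { exact := by
        rw [ShortComplex.ShortExact.moduleCat_exact_iff_function_exact]
        intro y
        constructor
        · intro hy
          exact ⟨(⟨y, mem_of_mk_eq_zero f y hy⟩ : DRing.torsionSub (Ideal.span {f}) (X.X i)), rfl⟩
        · rintro ⟨x, rfl⟩
          exact mk_eq_zero_of_mem f _ (show DRing.torsionSub (Ideal.span {f}) (X.X i) from x).2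
      mono_f := (ModuleCat.mono_iff_injective _).mpr Subtype.val_injective
      epi_g := (ModuleCat.epi_iff_surjective _).mpr
        (mk_surjective_of_injective f (hX.module i)) }

lemma isCoc_gX [IsNoetherianRing A] (f : A) (X : Cx A) (hX : InjTerms X) :
    IsCoc f (Q.obj X) (Q.obj (gX (Ideal.span {f}) X)) :=
  isCoc_of_triangle f X _ _ _ (DerivedCategory.triangleOfSES_distinguished (sesG_shortExact f X hX))

end Gamma

section Iter

open Groth.Agent.Lib.RGammaAcyc25 Groth.Agent.Lib.RGammaNoeth25 Groth.Agent.Lib.RGammaComp25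

/-- iterated one-element extended Čech constructions -/
noncomputable def ced : List A → Cx A → Cx A
  | [], X => X
  | f :: fs, X => ce f (ced fs X)

lemma extCech_eq (M : ModuleCat.{u} A) (fs : List A) :
    DerCA.extCech M fs =
      ced fs ((HomologicalComplex.single (ModuleCat.{u} A) (ComplexShape.up ℤ) 0).obj M) := by
  induction fs with
  | nil => rfl
  | cons f fs ih =>
    change CochainComplex.mappingCocone (DerCA.locCxUnit (Submonoid.powers f) (DerCA.extCech M fs)) =
      ce f (ced fs _)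
    rw [ih]

/-- `Γ_⊥ X ≅ X` -/
noncomputable def gXBotIso [IsNoetherianRing A] (X : Cx A) : gX (⊥ : Ideal A) X ≅ X :=
  HomologicalComplex.Hom.isoOfComponents
    (fun i => (LinearEquiv.ofBijective (DRing.torsionSub (⊥ : Ideal A) (X.X i)).subtype
      ⟨Subtype.val_injective, fun x => ⟨⟨x, by rw [torsionSub_bot]; trivial⟩, rfl⟩⟩).toModuleIso)
    (by
      intro i j _
      rfl)

/-- `Γ_I X ≅ Γ_J X` for `I = J` -/
noncomputable def gXCongr {I J : Ideal A} (h : I = J) (X : Cx A) : gX I X ≅ gX J X :=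
  eqToIso (by rw [h])

theorem nonempty_ced_iso [IsNoetherianRing A] (fs : List A) (X Y : Cx A) (hY : InjTerms Y)
    (e : Q.obj X ≅ Q.obj Y) :
    Nonempty (Q.obj (ced fs X) ≅ Q.obj (gX (Ideal.span {x | x ∈ fs}) Y)) := by
  induction fs with
  | nil =>
    have h0 : (⊥ : Ideal A) = Ideal.span {x | x ∈ ([] : List A)} := by simp
    exact ⟨e ≪≫ Q.mapIso ((gXBotIso Y).symm ≪≫ gXCongr h0 Y)⟩
  | cons f fs ih =>
    obtain ⟨e'⟩ := ih
    have h1 := isCoc_ce f (ced fs X)
    have h2 := isCoc_gX f (gX (Ideal.span {x | x ∈ fs}) Y) (injTerms_gX _ hY)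
    obtain ⟨e''⟩ := isCoc_unique h1 h2 e'
    have h0 : Ideal.span {x | x ∈ fs} ⊔ Ideal.span {f} = Ideal.span {x | x ∈ f :: fs} := by
      rw [← Ideal.span_union]
      congr 1
      ext x
      simp only [Set.mem_union, Set.mem_ofPred_eq, Set.mem_singleton_iff, List.mem_cons]
      tauto
    exact ⟨e'' ≪≫ Q.mapIso (compIso (Ideal.span {x | x ∈ fs}) (Ideal.span {f}) Y ≪≫ gXCongr h0 Y)⟩

end Iter

section Final

open Groth.Agent.Lib.RGammaAcyc25 Groth.Agent.Lib.RGammaNoeth25

variable [IsNoetherianRing A]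

/-- **the extended Čech complex computes local cohomology** (Noetherian ring) -/
theorem nonempty_extCechH_iso (fs : List A) (M : ModuleCat.{u} A) (i : ℕ) :
    Nonempty (DerCA.extCechH fs M (i : ℤ) ≅
      (localCohomology (Ideal.span {x | x ∈ fs}) i).obj M) := by
  let R := injectiveResolution M
  have hJ : InjTerms R.cochainComplex := fun n => inferInstance
  have : IsIso (Q.map R.ι') := by
    rw [isIso_Q_map_iff_quasiIso]
    infer_instance
  obtain ⟨e⟩ := nonempty_ced_iso fs _ R.cochainComplex hJ (asIso (Q.map R.ι'))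
  let e1 : DerCA.extCechH fs M (i : ℤ) ≅
      (ced fs ((HomologicalComplex.single (ModuleCat.{u} A) (ComplexShape.up ℤ) 0).obj M)).homology
        (i : ℤ) :=
    (HomologicalComplex.homologyFunctor _ _ (i : ℤ)).mapIso (eqToIso (extCech_eq M fs))
  let e2 := ((DerivedCategory.homologyFunctorFactors (ModuleCat.{u} A) (i : ℤ)).app
    (ced fs ((HomologicalComplex.single (ModuleCat.{u} A) (ComplexShape.up ℤ) 0).obj M))).symm
  let e3 := (DerivedCategory.homologyFunctor (ModuleCat.{u} A) (i : ℤ)).mapIso e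
  let e4 := (DerivedCategory.homologyFunctorFactors (ModuleCat.{u} A) (i : ℤ)).app
    (gX (Ideal.span {x | x ∈ fs}) R.cochainComplex)
  let e5 : (gX (Ideal.span {x | x ∈ fs}) R.cochainComplex).homology (i : ℤ) ≅
      (((DRing.gammaI (Ideal.span {x | x ∈ fs})).mapHomologicalComplex (ComplexShape.up ℕ)).obj
        R.cocomplex).homology i :=
    Groth.Agent.Lib.ExtendMap25.homologyExtendMapIso (DRing.gammaI (Ideal.span {x | x ∈ fs}))
      R.cocomplex ComplexShape.embeddingUpNat (j := i) (j' := (i : ℤ)) rfl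
  let e6 := (R.isoRightDerivedObj (DRing.gammaI (Ideal.span {x | x ∈ fs})) i).symm
  let e7 := (Groth.Agent.Lib.LocCohDerived.rightDerivedIso (Ideal.span {x | x ∈ fs}) i).app M
  exact ⟨e1 ≪≫ e2 ≪≫ e3 ≪≫ e4 ≪≫ e5 ≪≫ e6 ≪≫ e7⟩

end Final

end Groth.Agent.Lib.CechRG25
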