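import Groth.Agent.Lib.LocBC25
import Groth.Agent.Lib.CechRG25
import Mathlib.Algebra.Homology.HomotopyCategory.MappingCocone
import Mathlib.Algebra.Homology.HomotopyCategory.Pretriangulated

/-!
# Base change of the iterated Čech construction (helper25)

* `coconeMapIso`: isomorphic arrows have isomorphic mapping cocones.
* `coconeFunctorIso`: additive functors commute with mapping cocones.
* `ceBC`: `G(ce f X) ≅ ce (φ f) (G X)` for `G` = termwise extension of scalars along `φ`.
* `cedBC`: `G(ced fs X) ≅ ced (fs.map φ) (G X)`.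
* `cePow`, `cedPow`: `ced (fs.map (· ^ n)) X ≅ ced fs X`.
-/

set_option autoImplicit false
set_option linter.style.haveILetI false
universe u

open CategoryTheory Category Limits CochainComplex HomComplex

namespace Groth.Agent.Lib.CechBC25

open Groth.Agent.Lib.LocBC25 Groth.Agent.Lib.CechRG25

section generic

variable {C : Type*} [Category C] [Preadditive C] [HasBinaryBiproducts C]
  {K₁ L₁ K₂ L₂ : CochainComplex C ℤ}

/-- isomorphic arrows have isomorphic mapping cones -/
noncomputable def coneMapIso (φ₁ : K₁ ⟶ L₁) (φ₂ : K₂ ⟶ L₂) (a : K₁ ≅ K₂) (b : L₁ ≅ L₂)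
    (comm : φ₁ ≫ b.hom = a.hom ≫ φ₂) : mappingCone φ₁ ≅ mappingCone φ₂ where
  hom := mappingCone.map φ₁ φ₂ a.hom b.hom comm
  inv := mappingCone.map φ₂ φ₁ a.inv b.inv (by
    rw [← cancel_mono b.hom, assoc, assoc, Iso.inv_hom_id, comp_id, comm, Iso.inv_hom_id_assoc])
  hom_inv_id := by
    rw [← mappingCone.map_comp]
    simp only [Iso.hom_inv_id]
    exact mappingCone.map_id φ₁
  inv_hom_id := by
    rw [← mappingCone.map_comp]
    simp only [Iso.inv_hom_id]
    exact mappingCone.map_id φ₂

/-- isomorphic arrows have isomorphic mapping cocones -/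
noncomputable def coconeMapIso (φ₁ : K₁ ⟶ L₁) (φ₂ : K₂ ⟶ L₂) (a : K₁ ≅ K₂) (b : L₁ ≅ L₂)
    (comm : φ₁ ≫ b.hom = a.hom ≫ φ₂) : mappingCocone φ₁ ≅ mappingCocone φ₂ :=
  (CategoryTheory.shiftFunctor (CochainComplex C ℤ) (-1 : ℤ)).mapIso (coneMapIso φ₁ φ₂ a b comm)

end generic

section functor

variable {C D : Type*} [Category C] [Preadditive C] [HasBinaryBiproducts C]
  [Category D] [Preadditive D] [HasBinaryBiproducts D] (F : C ⥤ D) [F.Additive]
  {K L : CochainComplex C ℤ}

/-- additive functors commute with mapping cocones -/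
noncomputable def coconeFunctorIso (u : K ⟶ L) :
    (F.mapHomologicalComplex (ComplexShape.up ℤ)).obj (mappingCocone u) ≅
      mappingCocone ((F.mapHomologicalComplex (ComplexShape.up ℤ)).map u) :=
  ((F.mapHomologicalComplex (ComplexShape.up ℤ)).commShiftIso (-1 : ℤ)).app (mappingCone u) ≪≫
    (CategoryTheory.shiftFunctor (CochainComplex D ℤ) (-1 : ℤ)).mapIso
      (mappingCone.mapHomologicalComplexIso u F)

end functor

section complexes

variable {A B : Type u} [CommRing A] [CommRing B]

/-- a natural isomorphism of additive functors, termwise on a complex -/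
noncomputable def mapCxIso {P P' : ModuleCat.{u} A ⥤ ModuleCat.{u} B} [P.Additive] [P'.Additive]
    (τ : P ≅ P') (X : Cx A) :
    (P.mapHomologicalComplex (ComplexShape.up ℤ)).obj X ≅
      (P'.mapHomologicalComplex (ComplexShape.up ℤ)).obj X :=
  HomologicalComplex.Hom.isoOfComponents (fun i => τ.app (X.X i))
    (fun i j _ => (τ.hom.naturality (X.d i j)).symm)

variable (φ : A →+* B)

/-- termwise extension of scalars -/
noncomputable abbrev G : Cx A ⥤ Cx B :=
  (ModuleCat.extendScalars.{u, u, u} φ).mapHomologicalComplex (ComplexShape.up ℤ)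

lemma hv_ext (f : A) (M : ModuleCat.{u} A) :
    IsLocalizedModule (Submonoid.powers (φ f))
      ((Functor.whiskerRight (DerCA.locUnit (Submonoid.powers f))
        (ModuleCat.extendScalars.{u, u, u} φ)).app M).hom := by
  have h := isLocalizedModule_ext_map φ (Submonoid.powers f) M
  have e : (Submonoid.powers f).map (φ : A →* B) = Submonoid.powers (φ f) :=
    Submonoid.map_powers _ f
  rw [e] at h
  exact h

lemma hv'_ext (f : A) (M : ModuleCat.{u} A) :
    IsLocalizedModule (Submonoid.powers (φ f))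
      ((Functor.whiskerLeft (ModuleCat.extendScalars.{u, u, u} φ)
        (DerCA.locUnit (Submonoid.powers (φ f)))).app M).hom :=
  inferInstanceAs (IsLocalizedModule (Submonoid.powers (φ f))
    (LocalizedModule.mkLinearMap (Submonoid.powers (φ f))
      ((ModuleCat.extendScalars.{u, u, u} φ).obj M)))

/-- `B ⊗_A M_f ≅ (B ⊗_A M)_{φ f}`, naturally in `M` -/
noncomputable def extLocIso (f : A) :
    DerCA.locFunctor (Submonoid.powers f) ⋙ ModuleCat.extendScalars.{u, u, u} φ ≅
      ModuleCat.extendScalars.{u, u, u} φ ⋙ DerCA.locFunctor (Submonoid.powers (φ f)) :=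
  locNatIso (H := ModuleCat.extendScalars.{u, u, u} φ)
    (Functor.whiskerRight (DerCA.locUnit (Submonoid.powers f)) (ModuleCat.extendScalars φ))
    (Functor.whiskerLeft (ModuleCat.extendScalars φ) (DerCA.locUnit (Submonoid.powers (φ f))))
    (Submonoid.powers (φ f)) (hv_ext φ f) (hv'_ext φ f)

lemma extLocIso_comp (f : A) (M : ModuleCat.{u} A) :
    (ModuleCat.extendScalars.{u, u, u} φ).map ((DerCA.locUnit (Submonoid.powers f)).app M) ≫
      (extLocIso φ f).hom.app M =
    (DerCA.locUnit (Submonoid.powers (φ f))).app ((ModuleCat.extendScalars.{u, u, u} φ).obj M) := by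
  have := congrArg (fun t => t.app M) (locNatIso_comp
    (H := ModuleCat.extendScalars.{u, u, u} φ)
    (Functor.whiskerRight (DerCA.locUnit (Submonoid.powers f)) (ModuleCat.extendScalars φ))
    (Functor.whiskerLeft (ModuleCat.extendScalars φ) (DerCA.locUnit (Submonoid.powers (φ f))))
    (Submonoid.powers (φ f)) (hv_ext φ f) (hv'_ext φ f))
  exact this

/-- `G(X_f) ≅ (G X)_{φ f}` on complexes -/
noncomputable def locCxBC (f : A) (X : Cx A) :
    (G φ).obj ((DerCA.locCx (Submonoid.powers f)).obj X) ≅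
      (DerCA.locCx (Submonoid.powers (φ f))).obj ((G φ).obj X) :=
  mapCxIso (extLocIso φ f) X

lemma locCxBC_comp (f : A) (X : Cx A) :
    (G φ).map (DerCA.locCxUnit (Submonoid.powers f) X) ≫ (locCxBC φ f X).hom =
      DerCA.locCxUnit (Submonoid.powers (φ f)) ((G φ).obj X) := by
  ext i : 1
  exact extLocIso_comp φ f (X.X i)

/-- `G(ce f X) ≅ ce (φ f) (G X)` -/
noncomputable def ceBC (f : A) (X : Cx A) :
    (G φ).obj (ce f X) ≅ ce (φ f) ((G φ).obj X) :=
  coconeFunctorIso (ModuleCat.extendScalars.{u, u, u} φ)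
      (DerCA.locCxUnit (Submonoid.powers f) X) ≪≫
    coconeMapIso _ _ (Iso.refl _) (locCxBC φ f X) (by
      rw [locCxBC_comp, Iso.refl_hom, id_comp])

/-- `ce g` applied to an isomorphism -/
noncomputable def ceIso (g : B) {Y Y' : Cx B} (e : Y ≅ Y') : ce g Y ≅ ce g Y' :=
  coconeMapIso _ _ e ((DerCA.locCx (Submonoid.powers g)).mapIso e)
    ((locCxUnitNat (Submonoid.powers g)).naturality e.hom).symm

/-- `G(ced fs X) ≅ ced (fs.map φ) (G X)` -/
noncomputable def cedBC : ∀ (fs : List A) (X : Cx A),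
    (G φ).obj (ced fs X) ≅ ced (fs.map φ) ((G φ).obj X)
  | [], _ => Iso.refl _
  | f :: fs, X => ceBC φ f (ced fs X) ≪≫ ceIso (φ f) (cedBC fs X)

end complexes

section pow

variable {A : Type u} [CommRing A]

lemma hv_pow (f : A) (n : ℕ) (hn : 0 < n) (M : ModuleCat.{u} A) :
    IsLocalizedModule (Submonoid.powers f)
      ((DerCA.locUnit (Submonoid.powers (f ^ n))).app M).hom := by
  have h0 : IsLocalizedModule (Submonoid.powers (f ^ n))
      (LocalizedModule.mkLinearMap (Submonoid.powers (f ^ n)) M) := inferInstance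
  refine IsLocalizedModule.of_exists_mul_mem (Submonoid.powers (f ^ n)) (Submonoid.powers f)
    ?_ ?_ (LocalizedModule.mkLinearMap (Submonoid.powers (f ^ n)) M)
  · rintro x ⟨k, rfl⟩
    exact ⟨n * k, by simp only [pow_mul]⟩
  · rintro ⟨x, k, rfl⟩
    refine ⟨f ^ (n * k - k), k, ?_⟩
    simp only
    rw [← pow_mul, ← pow_add]
    congr 1
    have : k ≤ n * k := Nat.le_mul_of_pos_left k hn
    omega

lemma hv'_pow (f : A) (M : ModuleCat.{u} A) :
    IsLocalizedModule (Submonoid.powers f) ((DerCA.locUnit (Submonoid.powers f)).app M).hom :=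
  inferInstanceAs (IsLocalizedModule (Submonoid.powers f)
    (LocalizedModule.mkLinearMap (Submonoid.powers f) M))

/-- `M_{f^n} ≅ M_f`, naturally in `M` -/
noncomputable def powLocIso (f : A) (n : ℕ) (hn : 0 < n) :
    DerCA.locFunctor (Submonoid.powers (f ^ n)) ≅ DerCA.locFunctor (Submonoid.powers f) :=
  locNatIso (H := 𝟭 (ModuleCat.{u} A)) (DerCA.locUnit (Submonoid.powers (f ^ n)))
    (DerCA.locUnit (Submonoid.powers f)) (Submonoid.powers f) (hv_pow f n hn) (hv'_pow f)

lemma powLocIso_comp (f : A) (n : ℕ) (hn : 0 < n) (M : ModuleCat.{u} A) :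
    (DerCA.locUnit (Submonoid.powers (f ^ n))).app M ≫ (powLocIso f n hn).hom.app M =
      (DerCA.locUnit (Submonoid.powers f)).app M := by
  have := congrArg (fun t => t.app M) (locNatIso_comp (H := 𝟭 (ModuleCat.{u} A))
    (DerCA.locUnit (Submonoid.powers (f ^ n)))
    (DerCA.locUnit (Submonoid.powers f)) (Submonoid.powers f) (hv_pow f n hn) (hv'_pow f))
  exact this

/-- `X_{f^n} ≅ X_f` on complexes -/
noncomputable def locCxPow (f : A) (n : ℕ) (hn : 0 < n) (X : Cx A) :
    (DerCA.locCx (Submonoid.powers (f ^ n))).obj X ≅ (DerCA.locCx (Submonoid.powers f)).obj X :=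
  mapCxIso (powLocIso f n hn) X

lemma locCxPow_comp (f : A) (n : ℕ) (hn : 0 < n) (X : Cx A) :
    DerCA.locCxUnit (Submonoid.powers (f ^ n)) X ≫ (locCxPow f n hn X).hom =
      DerCA.locCxUnit (Submonoid.powers f) X := by
  ext i : 1
  exact powLocIso_comp f n hn (X.X i)

/-- `ce (f^n) X ≅ ce f X` -/
noncomputable def cePow (f : A) (n : ℕ) (hn : 0 < n) (X : Cx A) : ce (f ^ n) X ≅ ce f X :=
  coconeMapIso _ _ (Iso.refl _) (locCxPow f n hn X) (by
    rw [locCxPow_comp, Iso.refl_hom, id_comp])

/-- `ced (fs.map (· ^ n)) X ≅ ced fs X` -/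
noncomputable def cedPow (n : ℕ) (hn : 0 < n) : ∀ (fs : List A) (X : Cx A),
    ced (fs.map (fun f => f ^ n)) X ≅ ced fs X
  | [], _ => Iso.refl _
  | f :: fs, X => ceIso (f ^ n) (cedPow n hn fs X) ≪≫ cePow f n hn (ced fs X)

end pow

end Groth.Agent.Lib.CechBC25
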