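import Groth.Agent.Lib.CechFreeResU22
import Groth.Agent.Lib.CechAcyc2
import Groth.Agent.Lib.SheafEpi
import Mathlib.CategoryTheory.Sites.EpiMono
import Mathlib.CategoryTheory.Abelian.GrothendieckCategory.HasExt
import Mathlib.CategoryTheory.Abelian.GrothendieckAxioms.Sheaf

/-!
# Relative Cartan criterion on a site, general universes (helper22)

Adapted from helper95's `Lib/CechAcyc3`, `Lib/CechAcyc4` and `Lib/RelCartan` (which treat small
sites) to a site `(C, J)` with `C : Type u`, `Category.{v} C` and sheaves valued in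
`Type (max u v)` / `AddCommGrpCat.{max u v}`.

Let `𝒦` be a class of sheaves of sets and `𝒞` a class of morphisms of sheaves of sets such that
every epimorphism onto a member of `𝒦` is refined by an epimorphism in `𝒞`, and such that the
terms of the Čech nerve of a member of `𝒞` are `Ext^1(ℤ[-], F)`-acyclic as soon as all members of
`𝒦` are.  Then an abelian sheaf which is Čech-acyclic for all epimorphisms in `𝒞` has vanishing
higher cohomology on all members of `𝒦`.
-/

universe w' v u

open CategoryTheory Limits Opposite Abelian AlgebraicTopology Simplicial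

set_option linter.unusedSectionVars false

namespace Groth.Agent.Lib.CechCartanU22

open Groth.Agent.Lib.CechAcyc1 Groth.Agent.Lib.CechAcyc2 Groth.Agent.Lib.CechFreeResU22

variable {C : Type u} [Category.{v} C] (J : GrothendieckTopology C)

/-- the free abelian sheaf functor on sheaves of sets -/
noncomputable abbrev T : Sheaf J (Type (max u v)) ⥤ Sheaf J AddCommGrpCat.{max u v} :=
  Sheaf.composeAndSheafify J AddCommGrpCat.free.{max u v}

variable {J} {K' K : Sheaf J (Type (max u v))} (f : K' ⟶ K)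

/-- the chain complex of free abelian sheaves on the Čech nerve of `f` -/
noncomputable abbrev R : ChainComplex (Sheaf J AddCommGrpCat.{max u v}) ℕ :=
  (alternatingFaceMapComplex _).obj ((Arrow.mk f).cechNerve ⋙ T J)

section Epi

variable [Epi f]

/-- the augmentation `R f ⟶ ℤ[K]` -/
noncomputable def π : R f ⟶ (ChainComplex.single₀ _).obj ((T J).obj K) :=
  AlternatingFaceMapComplex.ε.app (((SimplicialObject.Augmented.whiskering _ _).obj (T J)).obj
    (Arrow.mk f).augmentedCechNerve)

instance : QuasiIso (π f) := quasiIso_ε_cechNerve J f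

lemma exactAt_R (n : ℕ) : (R f).ExactAt (n + 1) := exactAt_succ (π f) n

lemma π_f_zero : (π f).f 0 = (T J).map (WidePullback.base (fun _ : Fin (0 + 1) => f)) := by
  rw [π, AlternatingFaceMapComplex.ε_app_f_zero]
  dsimp [SimplicialObject.Augmented.whiskering, SimplicialObject.Augmented.whiskeringObj]
  exact Category.comp_id _

end Epi

/-- the free-forgetful adjunction between sheaves of sets and abelian sheaves -/
noncomputable abbrev adj : T J ⊣ sheafCompose J (forget AddCommGrpCat.{max u v}) :=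
  Sheaf.adjunction J AddCommGrpCat.adj

/-- for an epi `p : I ⟶ Q` of abelian sheaves, every `φ : ℤ[K] ⟶ Q` lifts to `I` after
restriction along an epimorphism `K' ⟶ K` of sheaves of sets. -/
lemma exists_epi_lift {I Q : Sheaf J AddCommGrpCat.{max u v}} (p : I ⟶ Q) [Epi p]
    {K : Sheaf J (Type (max u v))} (φ : (T J).obj K ⟶ Q) :
    ∃ (K' : Sheaf J (Type (max u v))) (f : K' ⟶ K) (_ : Epi f) (t : (T J).obj K' ⟶ I),
      t ≫ p = (T J).map f ≫ φ := by
  have h1 : Sheaf.IsLocallySurjective p := (Sheaf.isLocallySurjective_iff_epi' _ p).2 inferInstance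
  have h2 : Epi ((sheafCompose J (forget AddCommGrpCat.{max u v})).map p) := inferInstance
  let s := (adj (J := J)).homEquiv K Q φ
  let K' := pullback s ((sheafCompose J (forget AddCommGrpCat.{max u v})).map p)
  have hf : Epi (pullback.fst s ((sheafCompose J (forget AddCommGrpCat.{max u v})).map p)) :=
    Groth.Agent.Lib.SheafEpi.epi_of_isPullback J
      (IsPullback.of_hasPullback s ((sheafCompose J (forget AddCommGrpCat.{max u v})).map p))
  refine ⟨K', pullback.fst _ _, hf, ((adj (J := J)).homEquiv K' I).symm (pullback.snd _ _), ?_⟩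
  apply ((adj (J := J)).homEquiv K' Q).injective
  rw [Adjunction.homEquiv_naturality_right, Equiv.apply_symm_apply,
    Adjunction.homEquiv_naturality_left]
  exact pullback.condition.symm

section Rel

variable [HasExt.{w'} (Sheaf J AddCommGrpCat.{max u v})]
  [EnoughInjectives (Sheaf J AddCommGrpCat.{max u v})]
  (𝒦 : Set (Sheaf J (Type (max u v))))
  (𝒞 : ∀ ⦃K' K : Sheaf J (Type (max u v))⦄, (K' ⟶ K) → Prop)

/-- `F` is Čech-acyclic with respect to every epimorphism in the class `𝒞`. -/
def RelCechAcyclic (F : Sheaf J AddCommGrpCat.{max u v}) : Prop :=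
  ∀ (K' K : Sheaf J (Type (max u v))) (f : K' ⟶ K), Epi f → 𝒞 f → ∀ n, HomExactAt (R f) F n

variable {𝒦 𝒞}
  (hrefine : ∀ K ∈ 𝒦, ∀ (X : Sheaf J (Type (max u v))) (g : X ⟶ K), Epi g →
    ∃ (K' : Sheaf J (Type (max u v))) (h : K' ⟶ X), Epi (h ≫ g) ∧ 𝒞 (h ≫ g))
  (hW : ∀ (K' K : Sheaf J (Type (max u v))) (f : K' ⟶ K), Epi f → 𝒞 f → ∀ (n : ℕ)
    (F : Sheaf J AddCommGrpCat.{max u v}),
      (∀ L ∈ 𝒦, Subsingleton (Ext.{w'} ((T J).obj L) F 1)) →
      Subsingleton (Ext.{w'} ((R f).X n) F 1))

include hrefine in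
lemma subsingleton_ext_one_of_relCechAcyclic (F : Sheaf J AddCommGrpCat.{max u v})
    (hF : RelCechAcyclic 𝒞 F) (K : Sheaf J (Type (max u v))) (hK : K ∈ 𝒦) :
    Subsingleton (Ext.{w'} ((T J).obj K) F 1) := by
  refine subsingleton_ext_one (injSC_shortExact F) ((T J).obj K) (fun φ => ?_)
  have hepi : Epi (injSC F).g := (injSC_shortExact F).epi_g
  obtain ⟨K₁, f₁, hf₁, t₁, ht₁⟩ := exists_epi_lift (injSC F).g φ
  obtain ⟨K', h, hf, hC⟩ := hrefine K hK K₁ f₁ hf₁
  have ht : ((T J).map h ≫ t₁) ≫ (injSC F).g = (T J).map (h ≫ f₁) ≫ φ := by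
    rw [Category.assoc, ht₁, ← Category.assoc, ← Functor.map_comp]
  refine exists_lift_of_homExactAt_zero (R := R (h ≫ f₁)) (injSC_shortExact F)
    ((π (h ≫ f₁)).f 0)
    (d_comp_f_zero (π (h ≫ f₁))) (isColimitCokernelCofork (π (h ≫ f₁)))
    (hF K' K (h ≫ f₁) hf hC 0) φ
    ((T J).map (WidePullback.π (fun _ : Fin (0 + 1) => h ≫ f₁) 0) ≫ (T J).map h ≫ t₁) ?_
  rw [Category.assoc, ht, ← Category.assoc, ← Functor.map_comp, π_f_zero, WidePullback.π_arrow]
  rfl

include hrefine hW in
lemma relCechAcyclic_quotient (F : Sheaf J AddCommGrpCat.{max u v}) (hF : RelCechAcyclic 𝒞 F) :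
    RelCechAcyclic 𝒞 (injSC F).X₃ := by
  intro K' K f hf hC n
  exact homExactAt_quotient (exactAt_R f) (injSC_shortExact F) n (hF K' K f hf hC (n + 1))
    (hW K' K f hf hC (n + 1) F
      (fun L hL => subsingleton_ext_one_of_relCechAcyclic hrefine F hF L hL))

include hrefine hW in
/-- **Relative Cartan criterion.** -/
theorem subsingleton_ext_of_relCechAcyclic (p : ℕ) :
    ∀ (F : Sheaf J AddCommGrpCat.{max u v}), RelCechAcyclic 𝒞 F →
      ∀ K ∈ 𝒦, Subsingleton (Ext.{w'} ((T J).obj K) F (p + 1)) := by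
  induction p with
  | zero => exact fun F hF K hK => subsingleton_ext_one_of_relCechAcyclic hrefine F hF K hK
  | succ p ih =>
    intro F hF K hK
    exact subsingleton_ext_succ_succ (injSC_shortExact F) ((T J).obj K) p
      (ih _ (relCechAcyclic_quotient hrefine hW F hF) K hK)

end Rel

end Groth.Agent.Lib.CechCartanU22
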