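import Groth.Agent.Lib.HomCxPre25
import Mathlib.Algebra.Homology.HomotopyCategory.HomComplexSingle

/-!
# `Hom•(A[0], J) ≅ J` (helper25)
-/

set_option autoImplicit false
universe u

open CategoryTheory Category Limits CochainComplex HomComplex

namespace Groth.Agent.Lib.HomTensor25

variable {A : Type u} [CommRing A] (J : DRing.Cx A)

/-- the ring as a module -/
abbrev RA (A : Type u) [CommRing A] : ModuleCat.{u} A := ModuleCat.of A A

/-- `A[0]` in Mathlib's `singleFunctor` form -/
noncomputable abbrev S0 (A : Type u) [CommRing A] : DRing.Cx A :=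
  (CochainComplex.singleFunctor (ModuleCat.{u} A) 0).obj (RA A)

/-- the degree zero term -/
noncomputable def e0' (A : Type u) [CommRing A] : (S0 A).X 0 ≅ RA A :=
  HomologicalComplex.singleObjXSelf (ComplexShape.up ℤ) 0 (RA A)

lemma S0_d_apply (i j : ℤ) (x : (S0 A).X i) : ((S0 A).d i j).hom x = 0 :=
  sg_d_apply (RA A) i j x

/-- evaluation at `1` -/
noncomputable def hsFun (n : ℤ) (z : Cochain (S0 A) J n) : J.X n :=
  (z.v 0 n (zero_add n)).hom ((e0' A).inv.hom (1 : A))

/-- the cochain attached to an element -/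
noncomputable def hsInv (n : ℤ) (x : J.X n) : Cochain (S0 A) J n :=
  Cochain.fromSingleMk (X := RA A) (ModuleCat.ofHom (LinearMap.toSpanSingleton A (J.X n) x))
    (zero_add n)

lemma hsFun_hsInv (n : ℤ) (x : J.X n) : hsFun J n (hsInv J n x) = x := by
  unfold hsFun hsInv
  rw [Cochain.fromSingleMk_v]
  change (LinearMap.toSpanSingleton A (J.X n) x) ((e0' A).hom.hom ((e0' A).inv.hom 1)) = x
  have : (e0' A).hom.hom ((e0' A).inv.hom (1 : A)) = (1 : A) :=
    congrArg (fun f => f.hom (1 : A)) (e0' A).inv_hom_id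
  rw [this]
  simp

lemma hsInv_hsFun (n : ℤ) (z : Cochain (S0 A) J n) : hsInv J n (hsFun J n z) = z := by
  obtain ⟨g, rfl⟩ := Cochain.fromSingleMk_surjective (X := RA A) z n (zero_add n)
  unfold hsInv
  congr 1
  apply ModuleCat.hom_ext
  apply LinearMap.ext_ring
  rw [ModuleCat.hom_ofHom, LinearMap.toSpanSingleton_apply, one_smul]
  unfold hsFun
  rw [Cochain.fromSingleMk_v]
  change g.hom ((e0' A).hom.hom ((e0' A).inv.hom 1)) = _
  have : (e0' A).hom.hom ((e0' A).inv.hom (1 : A)) = (1 : A) :=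
    congrArg (fun f => f.hom (1 : A)) (e0' A).inv_hom_id
  rw [this]

/-- the linear equivalence `Hom^n(A[0], J) ≃ Jⁿ` -/
noncomputable def hsEquiv (n : ℤ) : Cochain (S0 A) J n ≃ₗ[A] J.X n where
  toFun := hsFun J n
  invFun := hsInv J n
  left_inv := hsInv_hsFun J n
  right_inv := hsFun_hsInv J n
  map_add' z z' := by
    simp only [hsFun, Cochain.add_v, ModuleCat.hom_add, LinearMap.add_apply]
  map_smul' a z := by
    simp only [hsFun, Cochain.smul_v, ModuleCat.hom_smul, LinearMap.smul_apply, RingHom.id_apply]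

lemma hsFun_δ (n m : ℤ) (hnm : n + 1 = m) (z : Cochain (S0 A) J n) :
    hsFun J m (δ n m z) = (J.d n m).hom (hsFun J n z) := by
  unfold hsFun
  rw [δ_v n m hnm z 0 m (zero_add m) n 1 (by omega) rfl]
  simp only [ModuleCat.hom_add, LinearMap.add_apply, ModuleCat.hom_comp, LinearMap.comp_apply,
    hom_units_smul, S0_d_apply, map_zero, smul_zero, add_zero]

/-- `Hom•(A[0], J) ≅ J` -/
noncomputable def homSingleIso' : DRing.homCx (S0 A) J ≅ J :=
  HomologicalComplex.Hom.isoOfComponents (fun n => (hsEquiv J n).toModuleIso) (by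
    intro i j hij
    apply ModuleCat.hom_ext
    apply LinearMap.ext
    intro z
    exact (hsFun_δ J i j hij z).symm)

/-- `Hom•(A[0], J) ≅ J` -/
noncomputable def homSingleIso : DRing.homCx (sg (RA A)) J ≅ J := homSingleIso' J

end Groth.Agent.Lib.HomTensor25
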