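import Mathlib.CategoryTheory.Quotient
import Mathlib.CategoryTheory.Functor.KanExtension.Basic
import Mathlib.CategoryTheory.Functor.Derived.RightDerived
import Mathlib.Algebra.Homology.DerivedCategory.Basic

/-!
# Left Kan extensions along functors factoring through a quotient category (helper31)

If `RF` is a left Kan extension of `F : C ⥤ H` along `L : C ⥤ D`, and both `F` and `L` factor
through a quotient category `Quotient r`, then `RF` is a left Kan extension of the induced functor
`Fh` along the induced functor `Lh`.  Application: a right derived functor with respect to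
`DerivedCategory.Q` (on cochain complexes) is a right derived functor with respect to
`DerivedCategory.Qh` (on the homotopy category).
-/

set_option autoImplicit false

open CategoryTheory

namespace Groth.Agent.QuotDerived31

section

variable {C : Type*} [Category* C] (r : HomRel C) {D H : Type*} [Category* D] [Category* H]
  {L : C ⥤ D} {Lh : Quotient r ⥤ D} (eL : Quotient.functor r ⋙ Lh ≅ L)
  {F : C ⥤ H} {Fh : Quotient r ⥤ H} (eF : Quotient.functor r ⋙ Fh ≅ F)
  (RF : D ⥤ H) (α : F ⟶ L ⋙ RF)

/-- the descended unit -/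
def αh : Fh ⟶ Lh ⋙ RF :=
  Quotient.natTransLift r (eF.hom ≫ α ≫ Functor.whiskerRight eL.inv RF ≫
    (Functor.associator _ _ _).hom)

lemma αh_app (X : C) :
    (αh r eL eF RF α).app ((Quotient.functor r).obj X) =
      eF.hom.app X ≫ α.app X ≫ RF.map (eL.inv.app X) := by
  simp [αh]

/-- the transported natural transformation -/
def β' (G : D ⥤ H) (β : Fh ⟶ Lh ⋙ G) : F ⟶ L ⋙ G :=
  eF.inv ≫ Functor.whiskerLeft (Quotient.functor r) β ≫ (Functor.associator _ _ _).inv ≫
    Functor.whiskerRight eL.hom G

lemma β'_app (G : D ⥤ H) (β : Fh ⟶ Lh ⋙ G) (X : C) :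
    (β' r eL eF G β).app X =
      eF.inv.app X ≫ β.app ((Quotient.functor r).obj X) ≫ G.map (eL.hom.app X) := by
  simp [β']

lemma fac_aux (G : D ⥤ H) (β : Fh ⟶ Lh ⋙ G) (γ : RF ⟶ G)
    (hγ : α ≫ Functor.whiskerLeft L γ = β' r eL eF G β) :
    αh r eL eF RF α ≫ Functor.whiskerLeft Lh γ = β := by
  apply Quotient.natTrans_ext
  ext X
  have h1 := congr_app hγ X
  rw [β'_app] at h1
  have hn : RF.map (eL.inv.app X) ≫ γ.app (Lh.obj ((Quotient.functor r).obj X)) =
      γ.app (L.obj X) ≫ G.map (eL.inv.app X) := γ.naturality _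
  dsimp at h1 ⊢
  rw [αh_app, Category.assoc, Category.assoc, hn, reassoc_of% h1, ← G.map_comp,
    Iso.hom_inv_id_app]
  simp

lemma fac_aux' (G : D ⥤ H) (β : Fh ⟶ Lh ⋙ G) (γ : RF ⟶ G)
    (hγ : αh r eL eF RF α ≫ Functor.whiskerLeft Lh γ = β) :
    α ≫ Functor.whiskerLeft L γ = β' r eL eF G β := by
  ext X
  have h1 := congr_app hγ ((Quotient.functor r).obj X)
  have hn : RF.map (eL.inv.app X) ≫ γ.app (Lh.obj ((Quotient.functor r).obj X)) =
      γ.app (L.obj X) ≫ G.map (eL.inv.app X) := γ.naturality _
  dsimp at h1 ⊢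
  rw [αh_app, Category.assoc, Category.assoc, hn] at h1
  rw [β'_app, ← h1]
  simp only [Category.assoc, Iso.inv_hom_id_app_assoc]
  rw [← G.map_comp, Iso.inv_hom_id_app]
  simp

theorem isLeftKanExtension_αh [RF.IsLeftKanExtension α] :
    RF.IsLeftKanExtension (αh r eL eF RF α) := by
  refine ⟨⟨Limits.IsInitial.ofUniqueHom (fun Y => StructuredArrow.homMk
    (RF.descOfIsLeftKanExtension α Y.right (β' r eL eF Y.right Y.hom)) ?_) ?_⟩⟩
  · exact fac_aux r eL eF RF α Y.right Y.hom _ (RF.descOfIsLeftKanExtension_fac α _ _)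
  · intro Y m
    apply StructuredArrow.hom_ext
    apply RF.hom_ext_of_isLeftKanExtension α
    have hm : αh r eL eF RF α ≫ Functor.whiskerLeft Lh m.right = Y.hom := StructuredArrow.w m
    rw [fac_aux' r eL eF RF α Y.right Y.hom m.right hm]
    exact (RF.descOfIsLeftKanExtension_fac α _ _).symm

end

section Derived

variable {A B : Type*} [Category* A] [Category* B] [Abelian A] [Abelian B]
  [HasDerivedCategory A] [HasDerivedCategory B] (G : B ⥤ A) [G.Additive]
  (RG : DerivedCategory B ⥤ DerivedCategory A)
  (α : G.mapHomologicalComplex (ComplexShape.up ℤ) ⋙ DerivedCategory.Q ⟶ DerivedCategory.Q ⋙ RG)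

/-- the factorization of `G` on complexes followed by `Q` through the homotopy category -/
noncomputable def eF :
    HomotopyCategory.quotient B (ComplexShape.up ℤ) ⋙
      (G.mapHomotopyCategory (ComplexShape.up ℤ) ⋙ DerivedCategory.Qh) ≅
    G.mapHomologicalComplex (ComplexShape.up ℤ) ⋙ DerivedCategory.Q :=
  (Functor.associator _ _ _).symm ≪≫
    Functor.isoWhiskerRight (G.mapHomotopyCategoryFactors (ComplexShape.up ℤ)) DerivedCategory.Qh ≪≫
    Functor.associator _ _ _ ≪≫
    Functor.isoWhiskerLeft (G.mapHomologicalComplex (ComplexShape.up ℤ))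
      (DerivedCategory.quotientCompQhIso A)

/-- the unit on the homotopy category -/
noncomputable def unitH :
    G.mapHomotopyCategory (ComplexShape.up ℤ) ⋙ DerivedCategory.Qh ⟶ DerivedCategory.Qh ⋙ RG :=
  αh (homotopic B (ComplexShape.up ℤ)) (DerivedCategory.quotientCompQhIso B)
    (eF G) RG α

/-- A right derived functor with respect to `Q` and quasi-isomorphisms of complexes is a right
derived functor with respect to `Qh` and quasi-isomorphisms in the homotopy category. -/
theorem isRightDerivedFunctor_unitH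
    [RG.IsRightDerivedFunctor α (HomologicalComplex.quasiIso B (ComplexShape.up ℤ))] :
    RG.IsRightDerivedFunctor (unitH G RG α) (HomotopyCategory.quasiIso B (ComplexShape.up ℤ)) := by
  have h : RG.IsLeftKanExtension α :=
    (Functor.isRightDerivedFunctor_iff_isLeftKanExtension RG α
      (HomologicalComplex.quasiIso B (ComplexShape.up ℤ))).1 inferInstance
  rw [Functor.isRightDerivedFunctor_iff_isLeftKanExtension]
  exact isLeftKanExtension_αh (homotopic B (ComplexShape.up ℤ))
    (DerivedCategory.quotientCompQhIso B) (eF G) RG α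

end Derived

end Groth.Agent.QuotDerived31
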