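import Groth.Prelude.Def_DRing4
import Groth.Agent.Lib.QuotDerived31
import Groth.Agent.Lib.KInjDerived31
import Groth.Agent.Lib.RGammaKInj

/-!
# `RHom_A(K, -)` on `D(A)` via K-injective resolutions (helper25)

* `homCxHomotopy K h : Homotopy (homCxMap K f) (homCxMap K g)` for `h : Homotopy f g`.
* `homCxH K : K(A) ⥤ D(A)`, the descent of `homCxQ K`, `eFH K`.
* `rhomIso K J : (RHomCx K).obj (Q.obj J) ≅ Q.obj (homCx K J)` for `J` K-injective.
-/

set_option autoImplicit false
universe u

open CategoryTheory Limits CochainComplex HomComplex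

attribute [local instance] HasDerivedCategory.standard

namespace Groth.Agent.Lib.RHomCx25

variable {A : Type u} [CommRing A] (K : DRing.Cx A)

/-- composition with a fixed cochain on the right, as a linear map -/
noncomputable def compRightLin {L L' : DRing.Cx A} {n : ℤ} (H : Cochain L L' n) (p q : ℤ)
    (hpq : p + n = q) : Cochain K L p →ₗ[A] Cochain K L' q where
  toFun z := z.comp H hpq
  map_add' z z' := by simp
  map_smul' a z := by simp

/-- the degree `-1` cochain on Hom complexes induced by a homotopy -/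
noncomputable def homCxCochain {L L' : DRing.Cx A} {f g : L ⟶ L'} (h : Homotopy f g) :
    Cochain (DRing.homCx K L) (DRing.homCx K L') (-1) :=
  Cochain.mk (fun p q hpq => ModuleCat.ofHom (compRightLin K (Cochain.ofHomotopy h) p q hpq))

lemma homCxCochain_spec {L L' : DRing.Cx A} {f g : L ⟶ L'} (h : Homotopy f g) :
    Cochain.ofHom (DRing.homCxMap K f) =
      δ (-1) 0 (homCxCochain K h) + Cochain.ofHom (DRing.homCxMap K g) := by
  apply Cochain.ext₀
  intro p
  rw [Cochain.add_v, δ_v (-1) 0 (neg_add_cancel 1) _ p p (add_zero p) (p - 1) (p + 1) rfl rfl]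
  simp only [Cochain.ofHom_v, Int.negOnePow_zero, one_smul]
  apply ModuleCat.hom_ext
  apply LinearMap.ext
  intro z
  change (z : Cochain K L p).comp (Cochain.ofHom f) (add_zero p) =
    δ (p - 1) p ((z : Cochain K L p).comp (Cochain.ofHomotopy h) (by lia)) +
      (δ p (p + 1) (z : Cochain K L p)).comp (Cochain.ofHomotopy h) (by lia) +
      (z : Cochain K L p).comp (Cochain.ofHom g) (add_zero p)
  rw [δ_comp (z : Cochain K L p) (Cochain.ofHomotopy h) (show p + (-1) = p - 1 by lia)
    (p + 1) 0 p (by lia) rfl (by lia), δ_ofHomotopy]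
  simp only [Int.negOnePow_neg, Int.negOnePow_one, Units.neg_smul, one_smul, Cochain.comp_sub]
  abel

/-- `Hom•(K, -)` preserves homotopies. -/
noncomputable def homCxHomotopy {L L' : DRing.Cx A} {f g : L ⟶ L'} (h : Homotopy f g) :
    Homotopy (DRing.homCxMap K f) (DRing.homCxMap K g) :=
  (Cochain.equivHomotopy _ _).symm ⟨homCxCochain K h, homCxCochain_spec K h⟩

/-- The descent of `Hom•(K, -) ⋙ Q` to the homotopy category. -/
noncomputable def homCxH :
    HomotopyCategory (ModuleCat.{u} A) (ComplexShape.up ℤ) ⥤ Dual.D A :=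
  CategoryTheory.Quotient.lift _ (DRing.homCxQ K) (by
    rintro L L' f g ⟨h⟩
    exact DerivedCategory.Q_map_eq_of_homotopy _ (homCxHomotopy K h))

/-- the factorization -/
noncomputable def eFH :
    HomotopyCategory.quotient (ModuleCat.{u} A) (ComplexShape.up ℤ) ⋙ homCxH K ≅ DRing.homCxQ K :=
  CategoryTheory.Quotient.lift.isLift _ _ _

instance : (homCxH K).HasPointwiseRightDerivedFunctor
    (HomotopyCategory.quasiIso (ModuleCat.{u} A) (ComplexShape.up ℤ)) :=
  Groth.Agent.KInjDerived31.hasPointwiseRightDerivedFunctor _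
    Groth.Agent.Lib.RGammaKInj.exists_kinj

section

variable [DRing.HasRHomCx K]

/-- the unit `Q(Hom•(K, L)) ⟶ RHom(K, Q L)`, natural in the complex `L`. -/
noncomputable def rhomUnit : DRing.homCxQ K ⟶ DerivedCategory.Q ⋙ DRing.RHomCx K :=
  (DRing.homCxQ K).totalRightDerivedUnit DerivedCategory.Q
    (HomologicalComplex.quasiIso (ModuleCat.{u} A) (ComplexShape.up ℤ))

/-- the unit descended to the homotopy category -/
noncomputable def unitH : homCxH K ⟶ DerivedCategory.Qh ⋙ DRing.RHomCx K :=
  Groth.Agent.QuotDerived31.αh (homotopic (ModuleCat.{u} A) (ComplexShape.up ℤ))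
    (DerivedCategory.quotientCompQhIso (ModuleCat.{u} A)) (eFH K) (DRing.RHomCx K) (rhomUnit K)

instance : (DRing.RHomCx K).IsRightDerivedFunctor (unitH K)
    (HomotopyCategory.quasiIso (ModuleCat.{u} A) (ComplexShape.up ℤ)) := by
  have h : (DRing.RHomCx K).IsLeftKanExtension (rhomUnit K) :=
    (Functor.isRightDerivedFunctor_iff_isLeftKanExtension (DRing.RHomCx K) (rhomUnit K)
      (HomologicalComplex.quasiIso (ModuleCat.{u} A) (ComplexShape.up ℤ))).1 (by
        dsimp only [rhomUnit, DRing.RHomCx]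
        infer_instance)
  rw [Functor.isRightDerivedFunctor_iff_isLeftKanExtension]
  exact Groth.Agent.QuotDerived31.isLeftKanExtension_αh
    (homotopic (ModuleCat.{u} A) (ComplexShape.up ℤ))
    (DerivedCategory.quotientCompQhIso (ModuleCat.{u} A)) (eFH K) (DRing.RHomCx K) (rhomUnit K)

/-- The unit `Q(Hom•(K, J)) ⟶ RHom(K, Q J)` is an isomorphism for `J` K-injective. -/
instance isIso_rhomUnit_app (J : DRing.Cx A) [J.IsKInjective] : IsIso ((rhomUnit K).app J) := by
  have h1 := Groth.Agent.KInjDerived31.isIso_unit_app_of_isKInjective (homCxH K)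
    (DRing.RHomCx K) (unitH K) J
  have h2 : (unitH K).app
      ((HomotopyCategory.quotient (ModuleCat.{u} A) (ComplexShape.up ℤ)).obj J) =
      (eFH K).hom.app J ≫ (rhomUnit K).app J ≫
        (DRing.RHomCx K).map ((DerivedCategory.quotientCompQhIso (ModuleCat.{u} A)).inv.app J) :=
    Groth.Agent.QuotDerived31.αh_app
      (homotopic (ModuleCat.{u} A) (ComplexShape.up ℤ))
      (DerivedCategory.quotientCompQhIso (ModuleCat.{u} A)) (eFH K) (DRing.RHomCx K)
      (rhomUnit K) J
  have h3 : (rhomUnit K).app J = (eFH K).inv.app J ≫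
      (unitH K).app ((HomotopyCategory.quotient (ModuleCat.{u} A) (ComplexShape.up ℤ)).obj J) ≫
      (DRing.RHomCx K).map ((DerivedCategory.quotientCompQhIso (ModuleCat.{u} A)).hom.app J) := by
    rw [h2]
    simp only [Category.assoc, Iso.inv_hom_id_app_assoc]
    rw [← Functor.map_comp, Iso.inv_hom_id_app]
    simp
  rw [h3]
  infer_instance

/-- `RHom(K, Q J) ≅ Q(Hom•(K, J))` for `J` K-injective. -/
noncomputable def rhomIso (J : DRing.Cx A) [J.IsKInjective] :
    (DRing.RHomCx K).obj (DerivedCategory.Q.obj J) ≅ DerivedCategory.Q.obj (DRing.homCx K J) :=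
  (asIso ((rhomUnit K).app J)).symm

/-- `RHom(K, L)` is computed by any K-injective resolution of a representative of `L`. -/
theorem exists_rhomIso (L : Dual.D A) :
    ∃ (J : DRing.Cx A) (_ : J.IsKInjective) (_ : DerivedCategory.Q.obj J ≅ L),
      Nonempty ((DRing.RHomCx K).obj L ≅ DerivedCategory.Q.obj (DRing.homCx K J)) := by
  obtain ⟨X, ⟨e⟩⟩ : ∃ X : DRing.Cx A, Nonempty (DerivedCategory.Q.obj X ≅ L) :=
    ⟨_, ⟨DerivedCategory.Q.objObjPreimageIso L⟩⟩
  obtain ⟨J, f, hJ, hf⟩ := Groth.Agent.Lib.RGammaKInj.exists_kinj X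
  have : IsIso (DerivedCategory.Q.map f) := by
    rw [DerivedCategory.isIso_Q_map_iff_quasiIso]; exact hf
  let e' : DerivedCategory.Q.obj J ≅ L := (asIso (DerivedCategory.Q.map f)).symm ≪≫ e
  exact ⟨J, hJ, e', ⟨(DRing.RHomCx K).mapIso e'.symm ≪≫ rhomIso K J⟩⟩

end

end Groth.Agent.Lib.RHomCx25
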