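import Groth.Agent.Lib.SeqComplete

/-!
Adically complete modules are sequence-complete for every element of the ideal.
-/

set_option autoImplicit false
universe u v
namespace Groth.Agent.Lib.SeqComplete

variable {A : Type u} [CommRing A] {M : Type v} [AddCommGroup M] [Module A M]

/-- An `I`-adically complete module is sequence-complete for every `f ∈ I`. -/
theorem of_isAdicComplete (I : Ideal A) [IsAdicComplete I M] (f : A) (hf : f ∈ I) :
    IsSeqComplete f M := by
  constructor
  · intro u hu n
    have hpow : ∀ k n, u n = f ^ k • u (n + k) := by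
      intro k
      induction k with
      | zero => intro n; simp
      | succ k ih =>
        intro n
        rw [ih n, hu (n + k), pow_succ, mul_smul, add_assoc]
    apply IsHausdorff.haus (I := I) inferInstance
    intro k
    rw [SModEq.zero, hpow k n]
    exact Submodule.smul_mem_smul (Ideal.pow_mem_pow hf k) trivial
  · intro m
    let s : ℕ → ℕ → M := fun n j => ∑ k ∈ Finset.range j, f ^ k • m (n + k)
    have hs : ∀ n j, s n (j + 1) = m n + f • s (n + 1) j := by
      intro n j
      show ∑ k ∈ Finset.range (j + 1), f ^ k • m (n + k) = _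
      rw [Finset.sum_range_succ', pow_zero, one_smul, add_zero, add_comm]
      congr 1
      show _ = f • ∑ k ∈ Finset.range j, f ^ k • m (n + 1 + k)
      rw [Finset.smul_sum]
      refine Finset.sum_congr rfl fun k _ => ?_
      rw [pow_succ', mul_smul, add_assoc, add_comm 1 k]
    have hcauchy : ∀ n {j j' : ℕ}, j ≤ j' →
        s n j ≡ s n j' [SMOD (I ^ j • ⊤ : Submodule A M)] := by
      intro n j j' hjj'
      rw [SModEq.sub_mem, ← neg_sub]
      apply Submodule.neg_mem
      show ∑ k ∈ Finset.range j', f ^ k • m (n + k) - ∑ k ∈ Finset.range j, f ^ k • m (n + k) ∈ _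
      rw [← Finset.sum_sdiff (Finset.range_subset_range.mpr hjj'), add_sub_cancel_right]
      refine Submodule.sum_mem _ fun k hk => ?_
      have hk' : j ≤ k := by
        simp only [Finset.mem_sdiff, Finset.mem_range, not_lt] at hk
        exact hk.2
      exact Submodule.smul_mem_smul (Ideal.pow_le_pow_right hk' (Ideal.pow_mem_pow hf k)) trivial
    have hL : ∀ n, ∃ L : M, ∀ j, s n j ≡ L [SMOD (I ^ j • ⊤ : Submodule A M)] :=
      fun n => IsPrecomplete.prec (I := I) inferInstance (fun {j j'} hjj' => hcauchy n hjj')
    choose x hx using hL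
    refine ⟨x, fun n => ?_⟩
    rw [← sub_eq_zero]
    apply IsHausdorff.haus (I := I) inferInstance
    intro j
    rw [SModEq.zero]
    have h1 : s n (j + 1) - x n ∈ (I ^ j • ⊤ : Submodule A M) :=
      Submodule.smul_mono (Ideal.pow_le_pow_right (Nat.le_succ j)) le_rfl
        (SModEq.sub_mem.mp (hx n (j + 1)))
    have h2 : s (n + 1) j - x (n + 1) ∈ (I ^ j • ⊤ : Submodule A M) :=
      SModEq.sub_mem.mp (hx (n + 1) j)
    have h3 := Submodule.sub_mem _ (Submodule.smul_mem _ f h2) h1
    have : f • (s (n + 1) j - x (n + 1)) - (s n (j + 1) - x n) =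
        x n - f • x (n + 1) - m n := by
      rw [hs n j, smul_sub]
      abel
    rwa [this] at h3

end Groth.Agent.Lib.SeqComplete
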