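import Groth.Agent.Lib.SeqComplete
import Mathlib.Algebra.Homology.DerivedCategory.Ext.EnoughProjectives
import Mathlib.Algebra.Homology.DerivedCategory.TStructure
import Mathlib.Algebra.Category.ModuleCat.Projective

/-!
Converse bridge: a module which is sequence-complete for every element of `I` is derived complete
(placed in degree zero) with respect to `I`.
-/

set_option autoImplicit false
universe u
open CategoryTheory CategoryTheory.Limits Polynomial Pretriangulated
attribute [local instance] HasDerivedCategory.standard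

namespace Groth.Agent.Lib.SeqComplete

variable {A : Type u} [CommRing A]

/-- Negative Ext groups vanish. -/
theorem hom_shift_eq_zero_of_neg (X Y : ModuleCat.{u} A) (n : ℤ) (hn : n < 0)
    (φ : (DerivedCategory.singleFunctor (ModuleCat.{u} A) 0).obj X ⟶
      ((DerivedCategory.singleFunctor (ModuleCat.{u} A) 0).obj Y)⟦n⟧) : φ = 0 := by
  have h1 : DerivedCategory.TStructure.t.IsGE
      (((DerivedCategory.singleFunctor (ModuleCat.{u} A) 0).obj Y)⟦n⟧) (-n) :=
    DerivedCategory.TStructure.t.isGE_shift _ 0 n (-n) (by omega)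
  exact DerivedCategory.TStructure.t.zero_of_isLE_of_isGE φ 0 (-n) (by omega) inferInstance h1

/-- Positive Ext groups out of a projective vanish. -/
theorem hom_shift_eq_zero_of_pos (P Y : ModuleCat.{u} A) [Projective P] (n : ℤ) (hn : 0 < n)
    (φ : (DerivedCategory.singleFunctor (ModuleCat.{u} A) 0).obj P ⟶
      ((DerivedCategory.singleFunctor (ModuleCat.{u} A) 0).obj Y)⟦n⟧) : φ = 0 := by
  rw [← cancel_mono (((DerivedCategory.singleFunctors (ModuleCat.{u} A)).shiftIso n (-n) 0
    (by omega)).hom.app _), Limits.zero_comp]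
  exact DerivedCategory.from_singleFunctor_obj_eq_zero_of_projective
    (L := (CochainComplex.singleFunctor (ModuleCat.{u} A) (-n)).obj Y) (n := -n) _ (by omega)

variable {M : Type u} [AddCommGroup M] [Module A M]

/-- Converse of `exists_factor`. -/
theorem exists_factor_of_surj (f : A)
    (hs : ∀ m : ℕ → M, ∃ x : ℕ → M, ∀ n, x n - f • x (n + 1) = m n) (φ : A[X] →ₗ[A] M) :
    ∃ ψ : A[X] →ₗ[A] M, φ = ψ ∘ₗ LinearMap.mulLeft A (C f * X - 1 : A[X]) := by
  obtain ⟨x, hx⟩ := hs (fun n => φ (monomial n 1))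
  let ψ : A[X] →ₗ[A] M := - (Polynomial.basisMonomials A).constr A x
  have hψ : ∀ n, ψ (Polynomial.monomial n 1) = - x n := fun n => by
    have := (Polynomial.basisMonomials A).constr_basis A x n
    simpa [ψ] using this
  refine ⟨ψ, ?_⟩
  apply (Polynomial.basisMonomials A).ext
  intro n
  have h1 : (C f * X - 1 : A[X]) * monomial n 1 = f • monomial (n + 1) 1 - monomial n 1 := by
    rw [sub_mul, one_mul, mul_assoc, X_mul_monomial, ← smul_eq_C_mul]
  simp only [LinearMap.coe_comp, Function.comp_apply, LinearMap.mulLeft_apply,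
    Polynomial.coe_basisMonomials]
  rw [h1, map_sub, map_smul, hψ, hψ, ← hx n]
  simp only [smul_neg]
  abel

/-- A linear map out of `A[X]/(fX-1)` into a module without `f`-divisible sequences vanishes. -/
theorem adjoinRoot_hom_eq_zero (f : A)
    (hi : ∀ u : ℕ → M, (∀ n, u n = f • u (n + 1)) → ∀ n, u n = 0)
    (ℓ : AdjoinRoot (C f * X - 1 : A[X]) →ₗ[A] M) : ℓ = 0 := by
  have hrel : ∀ n : ℕ, (AdjoinRoot.mk (C f * X - 1 : A[X]) (monomial n 1)) =
      f • AdjoinRoot.mk (C f * X - 1 : A[X]) (monomial (n + 1) 1) := by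
    intro n
    have h1 : (C f * X - 1 : A[X]) * monomial n 1 = f • monomial (n + 1) 1 - monomial n 1 := by
      rw [sub_mul, one_mul, mul_assoc, X_mul_monomial, ← smul_eq_C_mul]
    have h2 : AdjoinRoot.mk (C f * X - 1 : A[X]) ((C f * X - 1 : A[X]) * monomial n 1) = 0 := by
      rw [map_mul, AdjoinRoot.mk_self, zero_mul]
    rw [h1, map_sub, sub_eq_zero] at h2
    rw [← h2, AdjoinRoot.smul_mk]
  have hu := hi (fun n => ℓ (AdjoinRoot.mk _ (monomial n 1))) (fun n => by
    show ℓ _ = f • ℓ _
    rw [← map_smul, ← hrel n])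
  have hcomp : ℓ ∘ₗ (AdjoinRoot.mkₐ (C f * X - 1 : A[X])).toLinearMap = 0 := by
    apply (Polynomial.basisMonomials A).ext
    intro n
    simpa using hu n
  ext x
  obtain ⟨p, rfl⟩ := AdjoinRoot.mk_surjective x
  exact LinearMap.congr_fun hcomp p

open DerivedComplete in
/-- Sequence completeness for every element of `I` implies derived completeness of `M[0]`. -/
theorem isDerivedComplete_of_isSeqComplete (I : Ideal A) (M : Type u) [AddCommGroup M] [Module A M]
    (h : ∀ f ∈ I, IsSeqComplete f M) : DRing.IsDerivedComplete I (Dual.inD A M) := by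
  intro f hf n
  let F := DerivedCategory.singleFunctor (ModuleCat.{u} A) 0
  have hS := awaySC_shortExact f
  have hT := hS.singleTriangle_distinguished
  let e : ModuleCat.of A (AdjoinRoot (C f * X - 1 : A[X])) ≅ ModuleCat.of A (Localization.Away f) :=
    (Localization.awayEquivAdjoin f).symm.toLinearEquiv.toModuleIso
  suffices hsub : ∀ φ : F.obj (awaySC f).X₃ ⟶ (Dual.inD A M)⟦n⟧, φ = 0 by
    refine ⟨fun a b => ?_⟩
    have ha := hsub ((F.mapIso e).hom ≫ a)
    have hb := hsub ((F.mapIso e).hom ≫ b)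
    exact (cancel_epi (F.mapIso e).hom).mp (ha.trans hb.symm)
  intro φ
  have hproj : Projective (awaySC f).X₁ :=
    ModuleCat.projective_of_free (M := ModuleCat.of A A[X]) (Polynomial.basisMonomials A)
  have V : ∀ k : ℤ, k ≠ 0 → ∀ ψ : F.obj (awaySC f).X₁ ⟶ (Dual.inD A M)⟦k⟧, ψ = 0 := by
    intro k hk ψ
    rcases lt_or_gt_of_ne hk with hk' | hk'
    · exact hom_shift_eq_zero_of_neg _ _ k hk' ψ
    · exact hom_shift_eq_zero_of_pos _ _ k hk' ψ
  by_cases hn0 : n = 0
  · subst hn0
    obtain ⟨φ₀, hφ₀⟩ := F.map_surjective (φ ≫ (shiftFunctorZero (Dual.D A) ℤ).hom.app _)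
    have h0 : φ₀ = 0 := by
      have := adjoinRoot_hom_eq_zero f (h f hf).1 φ₀.hom
      apply ModuleCat.hom_ext
      exact this
    rw [h0, F.map_zero] at hφ₀
    rw [← cancel_mono ((shiftFunctorZero (Dual.D A) ℤ).hom.app _), ← hφ₀, Limits.zero_comp]
  · have h1 : (hS.singleTriangle).mor₂ ≫ φ = 0 := V n hn0 _
    obtain ⟨g, hg⟩ := Triangle.yoneda_exact₃ _ hT φ h1
    by_cases hn1 : n = 1
    · subst hn1
      obtain ⟨ψ, hψ⟩ := (shiftFunctor (Dual.D A) (1 : ℤ)).map_surjective g
      obtain ⟨ψ₀, hψ₀⟩ := F.map_surjective ψ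
      obtain ⟨ψ₁, hψ₁⟩ := exists_factor_of_surj f (h f hf).2 ψ₀.hom
      have h2 : ψ₀ = (awaySC f).f ≫ ModuleCat.ofHom ψ₁ := by
        apply ModuleCat.hom_ext
        exact hψ₁
      have h3 := comp_distTriang_mor_zero₃₁ _ hT
      have h4 : ψ = hS.singleTriangle.mor₁ ≫ F.map (ModuleCat.ofHom ψ₁) := by
        rw [← hψ₀, h2, F.map_comp]
        rfl
      rw [hg, ← hψ, h4, Functor.map_comp, ← Category.assoc, h3, Limits.zero_comp]
      rfl
    · have hg0 : g = 0 := by
        let i := (shiftFunctorAdd' (Dual.D A) (n - 1) 1 n (by omega)).app (Dual.inD A M)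
        obtain ⟨g', hg'⟩ := (shiftFunctor (Dual.D A) (1 : ℤ)).map_surjective (g ≫ i.hom)
        have hz : (shiftFunctor (Dual.D A) (1 : ℤ)).map g' = 0 := by
          rw [V (n - 1) (by omega) g']
          exact Functor.map_zero _ _ _
        rw [← cancel_mono i.hom, ← hg', hz, Limits.zero_comp]
      rw [hg, hg0, Limits.comp_zero]
      rfl

end Groth.Agent.Lib.SeqComplete
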