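import Groth.Agent.Lib.TKfIdeal
import Groth.Agent.Lib.SeqCompleteConverse

/-!
# Derived completeness, sequential completeness of cohomology, restriction of scalars (helper25)

* `DC_inD_iff`, `DC_iff_isSeqComplete`: `K` is derived `f`-complete iff all `H^i(K)` are
  `f`-sequentially complete (helper61's `IsSeqComplete`).
* `DC_restrictD_iff`, `isDerivedComplete_map_iff`: behaviour under restriction of scalars.
-/

set_option autoImplicit false
universe u

open CategoryTheory Limits Polynomial Pretriangulated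

attribute [local instance] HasDerivedCategory.standard

namespace Groth.Agent.Lib.TKfIdeal

open Groth.Agent.Lib.TKf Groth.Agent.Lib.TKfMod Groth.Agent.Lib.SeqComplete
  Groth.Agent.Lib.DerivedComplete

variable {A : Type u} [CommRing A]

/-- single-element version of helper61's `isDerivedComplete_of_isSeqComplete` (same proof). -/
theorem DC_inD_of_isSeqComplete (f : A) (M : Type u) [AddCommGroup M] [Module A M]
    (h : IsSeqComplete f M) : DC f (Dual.inD A M) := by
  intro n
  let F := DerivedCategory.singleFunctor (ModuleCat.{u} A) 0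
  have hS := awaySC_shortExact f
  have hT := hS.singleTriangle_distinguished
  let e : ModuleCat.of A (AdjoinRoot (C f * X - 1 : A[X])) ≅ ModuleCat.of A (Localization.Away f) :=
    (Localization.awayEquivAdjoin f).symm.toLinearEquiv.toModuleIso
  suffices hsub : ∀ φ : F.obj (awaySC f).X₃ ⟶ (Dual.inD A M)⟦n⟧, φ = 0 by
    refine ⟨fun a b => ?_⟩
    have ha := hsub ((F.mapIso e).hom ≫ a)
    have hb := hsub ((F.mapIso e).hom ≫ b)
    exact (cancel_epi (F.mapIso e).hom).mp (ha.trans hb.symm)
  intro φ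
  have hproj : Projective (awaySC f).X₁ :=
    ModuleCat.projective_of_free (M := ModuleCat.of A A[X]) (Polynomial.basisMonomials A)
  have V : ∀ k : ℤ, k ≠ 0 → ∀ ψ : F.obj (awaySC f).X₁ ⟶ (Dual.inD A M)⟦k⟧, ψ = 0 := by
    intro k hk ψ
    rcases lt_or_gt_of_ne hk with hk' | hk'
    · exact hom_shift_eq_zero_of_neg _ _ k hk' ψ
    · exact hom_shift_eq_zero_of_pos _ _ k hk' ψ
  by_cases hn0 : n = 0
  · subst hn0
    obtain ⟨φ₀, hφ₀⟩ := F.map_surjective (φ ≫ (shiftFunctorZero (Dual.D A) ℤ).hom.app _)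
    have h0 : φ₀ = 0 := by
      have := adjoinRoot_hom_eq_zero f h.1 φ₀.hom
      apply ModuleCat.hom_ext
      exact this
    rw [h0, F.map_zero] at hφ₀
    rw [← cancel_mono ((shiftFunctorZero (Dual.D A) ℤ).hom.app _), ← hφ₀, Limits.zero_comp]
  · have h1 : (hS.singleTriangle).mor₂ ≫ φ = 0 := V n hn0 _
    obtain ⟨g, hg⟩ := Triangle.yoneda_exact₃ _ hT φ h1
    by_cases hn1 : n = 1
    · subst hn1
      obtain ⟨ψ, hψ⟩ := (shiftFunctor (Dual.D A) (1 : ℤ)).map_surjective g
      obtain ⟨ψ₀, hψ₀⟩ := F.map_surjective ψ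
      obtain ⟨ψ₁, hψ₁⟩ := exists_factor_of_surj f h.2 ψ₀.hom
      have h2 : ψ₀ = (awaySC f).f ≫ ModuleCat.ofHom ψ₁ := by
        apply ModuleCat.hom_ext
        exact hψ₁
      have h3 := comp_distTriang_mor_zero₃₁ _ hT
      have h4 : ψ = hS.singleTriangle.mor₁ ≫ F.map (ModuleCat.ofHom ψ₁) := by
        rw [← hψ₀, h2, F.map_comp]
        rfl
      rw [hg, ← hψ, h4, Functor.map_comp, ← Category.assoc, h3, Limits.zero_comp]
      rfl
    · have hg0 : g = 0 := by
        let i := (shiftFunctorAdd' (Dual.D A) (n - 1) 1 n (by omega)).app (Dual.inD A M)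
        obtain ⟨g', hg'⟩ := (shiftFunctor (Dual.D A) (1 : ℤ)).map_surjective (g ≫ i.hom)
        have hz : (shiftFunctor (Dual.D A) (1 : ℤ)).map g' = 0 := by
          rw [V (n - 1) (by omega) g']
          exact Functor.map_zero _ _ _
        rw [← cancel_mono i.hom, ← hg', hz, Limits.zero_comp]
      rw [hg, hg0, Limits.comp_zero]
      rfl


theorem DC_inD_iff (f : A) (M : Type u) [AddCommGroup M] [Module A M] :
    DC f (Dual.inD A M) ↔ IsSeqComplete f M :=
  ⟨fun h => isSeqComplete_of_subsingleton f h, DC_inD_of_isSeqComplete f M⟩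

theorem DC_iff_isSeqComplete (f : A) (K : Dual.D A) :
    DC f K ↔ ∀ i : ℤ, IsSeqComplete f (Dual.HD A K i) := by
  rw [DC_iff_homology]
  exact forall_congr' (fun i => DC_inD_iff f _)

lemma isSeqComplete_restrictScalars_iff {B : Type u} [CommRing B] (φ : A →+* B) (f : A)
    (N : ModuleCat.{u} B) :
    IsSeqComplete f ((ModuleCat.restrictScalars.{u} φ).obj N) ↔ IsSeqComplete (φ f) N :=
  Iff.rfl

theorem DC_restrictD_iff {B : Type u} [CommRing B] (φ : A →+* B) (f : A) (L : Dual.D B) :
    DC f ((DRing.restrictD φ).obj L) ↔ DC (φ f) L := by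
  rw [DC_iff_isSeqComplete, DC_iff_isSeqComplete]
  refine forall_congr' (fun i => ?_)
  let e := (Groth.Agent.Lib.FlatBaseChangeD.mapDerivedCategoryHomologyIso
    (ModuleCat.restrictScalars.{u} φ) i).app L
  rw [← isSeqComplete_restrictScalars_iff]
  exact ⟨fun h => Groth.Agent.Lib.SeqComplete.of_linearEquiv h e.toLinearEquiv,
    fun h => Groth.Agent.Lib.SeqComplete.of_linearEquiv h e.symm.toLinearEquiv⟩

/-- `L ∈ D(B)` is derived complete with respect to `I B` iff its restriction to `A` is derived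
complete with respect to `I`. -/
theorem isDerivedComplete_map_iff {B : Type u} [CommRing B] (φ : A →+* B) (I : Ideal A)
    (L : Dual.D B) :
    DRing.IsDerivedComplete (I.map φ) L ↔
      DRing.IsDerivedComplete I ((DRing.restrictD φ).obj L) := by
  rw [isDerivedComplete_iff_le, isDerivedComplete_iff_le, Ideal.map_le_iff_le_comap]
  constructor
  · intro h f hf
    exact (DC_restrictD_iff φ f L).mpr (h hf)
  · intro h f hf
    exact (DC_restrictD_iff φ f L).mp (h hf)

end Groth.Agent.Lib.TKfIdeal
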