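import Groth.Agent.Lib.TKfKos
import Groth.Agent.Lib.SeqCompleteAdic
import Groth.Agent.Lib.TKfRestrict
import Mathlib.RingTheory.AdicCompletion.AsTensorProduct
import Mathlib.RingTheory.AdicCompletion.Completeness
import Mathlib.RingTheory.Flat.CategoryTheory
import Mathlib.Algebra.Homology.DerivedCategory.HomologySequence

/-!
# Derived completion over a Noetherian ring (helper25)

For a Noetherian ring `A`, an ideal `I` and a complex `K` of `A`-modules with finite cohomology,
the derived completion of `K` is `A^∧ ⊗_A K` (termwise tensor with the flat `A`-algebra `A^∧`).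

* `isAdicComplete_of_pow_smul_eq_bot`, `bijective_mk_one`, `isIso_ηB_app`.
* `HB I = A^∧ ⊗ -`, `ηB I : 𝟭 ⟶ HB I`, `GB I K = A^∧ ⊗ K`.
* `FinH`, `finH_obj₃`, `finH_kd`.
* `bijective_comp_ηC`: `K ⟶ A^∧ ⊗ K` is a completion equivalence.
* `isDerivedComplete_GB`, `homologyEquiv`.
* `exists_iso_of_universal`: universal arrows to derived complete objects are derived completions.
* `exists_linearEquiv_adicCompletion`: `H^n(K^) ≅ H^n(K)^∧` compatibly with the canonical maps.
-/

set_option autoImplicit false
set_option linter.unusedSectionVars false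
set_option linter.style.haveILetI false
universe u

open CategoryTheory Limits Pretriangulated MonoidalCategory TensorProduct

namespace Groth.Agent.Lib.TKfNoeth

open Groth.Agent.Lib.TorsionOrth Groth.Agent.Lib.TorsionOrthMod CochainComplex
  Groth.Agent.Lib.TKf Groth.Agent.Lib.TKfMod Groth.Agent.Lib.TKfCompl Groth.Agent.Lib.TKfAdj
  Groth.Agent.Lib.TKfKos Groth.Agent.Lib.TKfAmp Groth.Agent.Lib.TKfIdeal

attribute [local instance] HasDerivedCategory.standard

section complete

variable {A : Type u} [CommRing A] (I : Ideal A) (N : Type u) [AddCommGroup N] [Module A N]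

/-- a module killed by a power of `I` is `I`-adically complete. -/
theorem isAdicComplete_of_pow_smul_eq_bot (k : ℕ) (hk : (I ^ k • ⊤ : Submodule A N) = ⊥) :
    IsAdicComplete I N := by
  have hle : ∀ n, k ≤ n → (I ^ n • ⊤ : Submodule A N) = ⊥ := by
    intro n hn
    apply le_antisymm _ bot_le
    rw [← hk]
    exact Submodule.smul_mono_left (Ideal.pow_le_pow_right hn)
  haveI : IsHausdorff I N := by
    constructor
    intro x hx
    have := hx k
    rw [hk, SModEq.bot] at this
    exact this
  haveI : IsPrecomplete I N := by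
    constructor
    intro f hf
    refine ⟨f k, fun n => ?_⟩
    rcases le_total n k with h | h
    · exact hf h
    · have := hf h
      rw [hk, SModEq.bot] at this
      rw [this]
  exact {}

end complete

section HB

variable {A : Type u} [CommRing A] (I : Ideal A)

/-- the functor `A^∧ ⊗_A -` on `A`-modules. -/
noncomputable abbrev HB : ModuleCat.{u} A ⥤ ModuleCat.{u} A :=
  tensorLeft (ModuleCat.of A (AdicCompletion I A))

/-- `N → A^∧ ⊗_A N`, `x ↦ 1 ⊗ x`. -/
noncomputable def ηB : 𝟭 (ModuleCat.{u} A) ⟶ HB I where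
  app N := ModuleCat.ofHom ((TensorProduct.mk A (AdicCompletion I A) N) 1)
  naturality := by
    intro X Y f
    ext x
    rfl

lemma ηB_app_apply (N : ModuleCat.{u} A) (x : N) :
    ((ηB I).app N).hom x = (1 : AdicCompletion I A) ⊗ₜ[A] x := rfl

lemma HB_map_smul (a : A) (X : ModuleCat.{u} A) :
    (HB I).map (a • 𝟙 X) = a • 𝟙 ((HB I).obj X) := by
  ext x
  induction x using TensorProduct.induction_on with
  | zero => simp
  | tmul b y =>
    change b ⊗ₜ[A] (a • y) = a • (b ⊗ₜ[A] y)
    rw [TensorProduct.tmul_smul]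
  | add x y hx hy => rw [map_add, map_add, hx, hy]

instance : (HB I).Additive := inferInstance

instance [IsNoetherianRing A] : PreservesFiniteLimits (HB I) := inferInstance

instance : PreservesFiniteColimits (HB I) := inferInstance

end HB

section iso

variable {A : Type u} [CommRing A] [IsNoetherianRing A] (I : Ideal A)

theorem bijective_mk_one (N : Type u) [AddCommGroup N] [Module A N] [Module.Finite A N]
    [IsAdicComplete I N] :
    Function.Bijective (TensorProduct.mk A (AdicCompletion I A) N 1) := by
  let e := AdicCompletion.ofTensorProductEquivOfFiniteNoetherian I N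
  have h1 : ∀ x : N, e ((1 : AdicCompletion I A) ⊗ₜ[A] x) = AdicCompletion.of I N x := by
    intro x
    rw [AdicCompletion.ofTensorProductEquivOfFiniteNoetherian_apply,
      AdicCompletion.ofTensorProduct_tmul, one_smul]
  have h2 : Function.Bijective (AdicCompletion.of I N) :=
    (AdicCompletion.of_bijective_iff).mpr inferInstance
  have h3 : (TensorProduct.mk A (AdicCompletion I A) N 1 : N → _) =
      e.symm ∘ (AdicCompletion.of I N) := by
    funext x
    change _ = e.symm (AdicCompletion.of I N x)
    rw [← h1 x, LinearEquiv.symm_apply_apply]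
    rfl
  rw [h3]
  exact e.symm.bijective.comp h2

theorem isIso_ηB_app (N : ModuleCat.{u} A) [Module.Finite A N] (k : ℕ)
    (hk : ∀ a ∈ I ^ k, ∀ x : N, a • x = 0) : IsIso ((ηB I).app N) := by
  have hbot : (I ^ k • ⊤ : Submodule A N) = ⊥ := by
    rw [eq_bot_iff, Submodule.smul_le]
    intro a ha x _
    rw [hk a ha x]
    exact Submodule.zero_mem _
  have := isAdicComplete_of_pow_smul_eq_bot I N k hbot
  have hb := bijective_mk_one I N
  exact (ConcreteCategory.isIso_iff_bijective ((ηB I).app N)).mpr hb

end iso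

section fin

variable {A : Type u} [CommRing A] [IsNoetherianRing A]

/-- all cohomology modules are finite -/
def FinH (X : Dual.D A) : Prop := ∀ n : ℤ, Module.Finite A ((H A n).obj X)

lemma finite_of_exact {M₁ M₂ M₃ : ModuleCat.{u} A} (a : M₁ ⟶ M₂) (b : M₂ ⟶ M₃) (w : a ≫ b = 0)
    (hex : (ShortComplex.mk a b w).Exact) [Module.Finite A M₁] [Module.Finite A M₃] :
    Module.Finite A M₂ := by
  rw [ShortComplex.moduleCat_exact_iff_range_eq_ker] at hex
  change LinearMap.range a.hom = LinearMap.ker b.hom at hex
  have : Module.Finite A (LinearMap.ker b.hom) := by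
    rw [← hex]
    exact Module.Finite.range a.hom
  have : Module.Finite A (M₂ ⧸ LinearMap.ker b.hom) :=
    Module.Finite.equiv (b.hom.quotKerEquivRange).symm
  exact Module.Finite.of_submodule_quotient (LinearMap.ker b.hom)

open DerivedCategory.HomologySequence in
lemma finH_obj₃ (T : Triangle (Dual.D A)) (hT : T ∈ distTriang (Dual.D A)) (h₁ : FinH T.obj₁)
    (h₂ : FinH T.obj₂) : FinH T.obj₃ := by
  intro n
  have := h₂ n
  have := h₁ (n + 1)
  exact finite_of_exact _ _ _ (exact₃ T hT n (n + 1) rfl)

lemma finH_kd (l : List A) (K : Cx A) (h : FinH (DerivedCategory.Q.obj K)) :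
    FinH (DerivedCategory.Q.obj (kd l K)) := by
  induction l generalizing K with
  | nil => exact h
  | cons f fs ih =>
    apply ih
    exact finH_obj₃ _ (DerivedCategory.mappingCone_triangle_distinguished (f • 𝟙 K)) h h

lemma finite_homology_of_finH (K : Cx A) (h : FinH (DerivedCategory.Q.obj K)) (j : ℤ) :
    Module.Finite A (K.homology j) := by
  have hj : Module.Finite A ((DerivedCategory.Q ⋙
      DerivedCategory.homologyFunctor (ModuleCat.{u} A) j).obj K) := h j
  exact Module.Finite.equiv
    ((DerivedCategory.homologyFunctorFactors (ModuleCat.{u} A) j).app K).toLinearEquiv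

end fin

section main

variable {A : Type u} [CommRing A] [IsNoetherianRing A] (I : Ideal A)

/-- the complex `A^∧ ⊗_A K` -/
noncomputable abbrev GB (K : Cx A) : Cx A :=
  ((HB I).mapHomologicalComplex (ComplexShape.up ℤ)).obj K

theorem quasiIso_kdMap_ηC_of_finH (l : List A) (hl : Ideal.span {f | f ∈ l} = I) (K : Cx A)
    (hK : FinH (DerivedCategory.Q.obj K)) (ms : List ℕ) (hms : ms.length = l.length) :
    QuasiIso (kdMap (List.zipWith (· ^ ·) l ms) (ηC (HB I) (ηB I) K)) := by
  apply quasiIso_kdMap_ηC (HB I) (ηB I) (HB_map_smul I)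
  apply quasiIso_ηC
  intro j
  obtain ⟨k, hk⟩ := exists_pow_smul_homology_eq_zero l ms hms K j
  have := finite_homology_of_finH _ (finH_kd (List.zipWith (· ^ ·) l ms) K hK) j
  exact isIso_ηB_app I _ k (by rw [← hl]; exact hk)

theorem bijective_comp_ηC (l : List A) (hl : Ideal.span {f | f ∈ l} = I) (K : Cx A)
    (hK : FinH (DerivedCategory.Q.obj K)) (E : Dual.D A) (hE : DRing.IsDerivedComplete I E) :
    Function.Bijective (fun g : DerivedCategory.Q.obj (GB I K) ⟶ E =>
      DerivedCategory.Q.map (ηC (HB I) (ηB I) K) ≫ g) := by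
  apply cobij_of_kd_of_DC l _ (fun ms hms => quasiIso_kdMap_ηC_of_finH I l hl K hK ms hms) E
  intro f hf
  have h1 : I ≤ dcIdeal E := (isDerivedComplete_iff_le I E).mp hE
  apply h1
  rw [← hl]
  exact Ideal.subset_span hf

/-- `H^n(A^∧ ⊗ K) ≅ A^∧ ⊗ H^n(K) ≅ H^n(K)^∧`. -/
noncomputable def homologyEquiv (K : Cx A) (n : ℤ) [Module.Finite A (K.homology n)] :
    Dual.HD A (DerivedCategory.Q.obj (GB I K)) n ≃ₗ[A] AdicCompletion I (K.homology n) :=
  ((DerivedCategory.homologyFunctorFactors (ModuleCat.{u} A) n).app (GB I K)).toLinearEquiv ≪≫ₗ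
    ((K.sc n).mapHomologyIso (HB I)).toLinearEquiv ≪≫ₗ
    (AdicCompletion.ofTensorProductEquivOfFiniteNoetherian I (K.homology n)).restrictScalars A

theorem isDerivedComplete_GB (K : Cx A) (hK : FinH (DerivedCategory.Q.obj K)) :
    DRing.IsDerivedComplete I (DerivedCategory.Q.obj (GB I K)) := by
  rw [isDerivedComplete_iff_le]
  intro f hf
  rw [mem_dcIdeal, DC_iff_isSeqComplete]
  intro n
  have := finite_homology_of_finH K hK n
  have hfg : I.FG := IsNoetherian.noetherian I
  have hc : IsAdicComplete I (AdicCompletion I (K.homology n)) :=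
    AdicCompletion.isAdicComplete hfg
  have h1 : Groth.Agent.Lib.SeqComplete.IsSeqComplete f (AdicCompletion I (K.homology n)) :=
    Groth.Agent.Lib.SeqComplete.of_isAdicComplete I f hf
  exact Groth.Agent.Lib.SeqComplete.of_linearEquiv h1 (homologyEquiv I K n).symm

end main

section universal

variable {A : Type u} [CommRing A] (I : Ideal A) [DRing.HasDerivedCompletion I]

/-- a universal arrow to a derived complete object is the derived completion. -/
theorem exists_iso_of_universal (K L : Dual.D A) (η : K ⟶ L)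
    (hL : DRing.IsDerivedComplete I L)
    (huniv : ∀ E : Dual.D A, DRing.IsDerivedComplete I E →
      Function.Bijective (fun g : L ⟶ E => η ≫ g)) :
    ∃ e : ((DRing.derivedCompletion I).obj K).obj ≅ L,
      DRing.toDerivedCompletion I K ≫ e.hom = η := by
  set Kc := (DRing.derivedCompletion I).obj K
  set η' := DRing.toDerivedCompletion I K
  obtain ⟨g, hg⟩ := (huniv Kc.obj Kc.property).2 η'
  change η ≫ g = η' at hg
  let Z : DRing.DComp I := ⟨L, hL⟩
  let g'' : Kc ⟶ Z := ((DRing.derivedCompletionAdj I).homEquiv K Z).symm η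
  have hg'' : η' ≫ g''.hom = η := by
    have := ((DRing.derivedCompletionAdj I).homEquiv K Z).apply_symm_apply η
    rw [Adjunction.homEquiv_unit] at this
    exact this
  refine ⟨⟨g''.hom, g, ?_, ?_⟩, hg''⟩
  · have h3 : g'' ≫ ObjectProperty.homMk g = 𝟙 Kc := by
      apply ((DRing.derivedCompletionAdj I).homEquiv K Kc).injective
      rw [Adjunction.homEquiv_unit, Adjunction.homEquiv_unit]
      change η' ≫ g''.hom ≫ g = η' ≫ 𝟙 _
      rw [← Category.assoc, hg'', hg, Category.comp_id]
    have := congrArg (fun m => m.hom) h3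
    exact this
  · apply (huniv L hL).1
    change η ≫ g ≫ g''.hom = η ≫ 𝟙 L
    rw [← Category.assoc, hg, hg'', Category.comp_id]

end universal

section final

variable {A : Type u} [CommRing A] [IsNoetherianRing A] (I : Ideal A)
  [DRing.HasDerivedCompletion I]

lemma homologyMap_ηC_apply (K : Cx A) (n : ℤ) (z : K.homology n) :
    ((K.sc n).mapHomologyIso (HB I)).hom.hom
      ((HomologicalComplex.homologyMap (ηC (HB I) (ηB I) K) n).hom z) =
      ((ηB I).app (K.homology n)).hom (((K.sc n).mapHomologyIso (𝟭 _)).hom.hom z) := by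
  have h1 := NatTrans.app_homology (ηB I) (K.sc n)
  have h2 : HomologicalComplex.homologyMap (ηC (HB I) (ηB I) K) n =
      ShortComplex.homologyMap ((K.sc n).mapNatTrans (ηB I)) := rfl
  have h3 : ShortComplex.homologyMap ((K.sc n).mapNatTrans (ηB I)) ≫
      ((K.sc n).mapHomologyIso (HB I)).hom =
      ((K.sc n).mapHomologyIso (𝟭 _)).hom ≫ (ηB I).app (K.sc n).homology := by
    rw [h1]
    simp
  rw [h2]
  exact congrArg (fun m => m.hom z) h3

/-- cohomology of the derived completion of a complex with finite cohomology over a Noetherian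
ring is the adic completion of the cohomology. -/
theorem exists_linearEquiv_adicCompletion (K : Dual.D A)
    (hK : ∀ n : ℤ, Module.Finite A (Dual.HD A K n)) (n : ℤ) :
    ∃ e : Dual.HD A ((DRing.derivedCompletion I).obj K).obj n ≃ₗ[A]
        AdicCompletion I (Dual.HD A K n),
      ∀ x : Dual.HD A K n,
        e (((DerivedCategory.homologyFunctor (ModuleCat.{u} A) n).map
          (DRing.toDerivedCompletion I K)).hom x) = AdicCompletion.of I (Dual.HD A K n) x := by
  -- a representative
  let K₀ : Cx A := DerivedCategory.Q.objPreimage K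
  let α : DerivedCategory.Q.obj K₀ ≅ K := DerivedCategory.Q.objObjPreimageIso K
  have hK₀ : FinH (DerivedCategory.Q.obj K₀) := by
    intro m
    have := hK m
    exact Module.Finite.equiv ((H A m).mapIso α.symm).toLinearEquiv
  -- generators
  obtain ⟨s, hs⟩ : I.FG := IsNoetherian.noetherian I
  have hl : Ideal.span {f | f ∈ s.toList} = I := by
    rw [← hs]
    congr 1
    ext f
    simp
  -- the universal arrow
  let ηt : K ⟶ DerivedCategory.Q.obj (GB I K₀) :=
    α.inv ≫ DerivedCategory.Q.map (ηC (HB I) (ηB I) K₀)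
  have huniv : ∀ E : Dual.D A, DRing.IsDerivedComplete I E →
      Function.Bijective (fun g : DerivedCategory.Q.obj (GB I K₀) ⟶ E => ηt ≫ g) := by
    intro E hE
    have h1 := bijective_comp_ηC I s.toList hl K₀ hK₀ E hE
    have h2 : Function.Bijective (fun g : DerivedCategory.Q.obj K₀ ⟶ E => α.inv ≫ g) :=
      ⟨fun g₁ g₂ h => (cancel_epi α.inv).mp h, fun g => ⟨α.hom ≫ g, by simp⟩⟩
    have : (fun g : DerivedCategory.Q.obj (GB I K₀) ⟶ E => ηt ≫ g) =
        (fun g : DerivedCategory.Q.obj K₀ ⟶ E => α.inv ≫ g) ∘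
          (fun g : DerivedCategory.Q.obj (GB I K₀) ⟶ E =>
            DerivedCategory.Q.map (ηC (HB I) (ηB I) K₀) ≫ g) := by
      funext g
      exact Category.assoc _ _ _
    rw [this]
    exact h2.comp h1
  obtain ⟨e, he⟩ := exists_iso_of_universal I K _ ηt (isDerivedComplete_GB I K₀ hK₀) huniv
  have := finite_homology_of_finH K₀ hK₀ n
  -- the identification of `H^n(K)` with `H^n(K₀)`
  let θ : Dual.HD A K n ≃ₗ[A] K₀.homology n :=
    ((H A n).mapIso α.symm).toLinearEquiv ≪≫ₗ
      ((DerivedCategory.homologyFunctorFactors (ModuleCat.{u} A) n).app K₀).toLinearEquiv ≪≫ₗ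
      ((K₀.sc n).mapHomologyIso (𝟭 _)).toLinearEquiv
  refine ⟨((H A n).mapIso e).toLinearEquiv ≪≫ₗ homologyEquiv I K₀ n ≪≫ₗ
    (AdicCompletion.congr I θ.symm).restrictScalars A, ?_⟩
  intro x
  have hnat := (DerivedCategory.homologyFunctorFactors (ModuleCat.{u} A) n).hom.naturality
    (ηC (HB I) (ηB I) K₀)
  -- step 1
  have s1 : ((H A n).map e.hom).hom (((H A n).map (DRing.toDerivedCompletion I K)).hom x) =
      ((H A n).map (DerivedCategory.Q.map (ηC (HB I) (ηB I) K₀))).hom
        (((H A n).map α.inv).hom x) := by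
    have : (H A n).map (DRing.toDerivedCompletion I K) ≫ (H A n).map e.hom =
        (H A n).map α.inv ≫ (H A n).map (DerivedCategory.Q.map (ηC (HB I) (ηB I) K₀)) := by
      rw [← Functor.map_comp, he, Functor.map_comp]
    exact congrArg (fun m => m.hom x) this
  -- step 2
  have s2 : ((DerivedCategory.homologyFunctorFactors (ModuleCat.{u} A) n).hom.app (GB I K₀)).hom
      (((H A n).map (DerivedCategory.Q.map (ηC (HB I) (ηB I) K₀))).hom
        (((H A n).map α.inv).hom x)) =
      (HomologicalComplex.homologyMap (ηC (HB I) (ηB I) K₀) n).hom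
        (((DerivedCategory.homologyFunctorFactors (ModuleCat.{u} A) n).hom.app K₀).hom
          (((H A n).map α.inv).hom x)) :=
    congrArg (fun m => m.hom (((H A n).map α.inv).hom x)) hnat
  change (AdicCompletion.congr I θ.symm) ((AdicCompletion.ofTensorProductEquivOfFiniteNoetherian I
    (K₀.homology n)) (((K₀.sc n).mapHomologyIso (HB I)).hom.hom
      (((DerivedCategory.homologyFunctorFactors (ModuleCat.{u} A) n).hom.app (GB I K₀)).hom
        (((H A n).map e.hom).hom (((H A n).map (DRing.toDerivedCompletion I K)).hom x))))) = _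
  rw [s1, s2, homologyMap_ηC_apply]
  change (AdicCompletion.congr I θ.symm) ((AdicCompletion.ofTensorProductEquivOfFiniteNoetherian I
    (K₀.homology n)) ((1 : AdicCompletion I A) ⊗ₜ[A] (θ x))) = _
  rw [AdicCompletion.ofTensorProductEquivOfFiniteNoetherian_apply,
    AdicCompletion.ofTensorProduct_tmul, one_smul, AdicCompletion.congr_apply,
    AdicCompletion.map_of]
  congr 1
  exact θ.symm_apply_apply x

end final

end Groth.Agent.Lib.TKfNoeth
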