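import Groth.Agent.Lib.CechFlat25
import Groth.Agent.Lib.HomSingle25
import Groth.Agent.Lib.RHomCx25
import Groth.Agent.Lib.TKfNoeth

/-!
# Derived completion is `RHom(Č, -)` (helper25)

`nonempty_iso_derivedCompletion_rhom_extCech` (= S7097).
-/

set_option autoImplicit false
set_option linter.style.haveILetI false
universe u

open CategoryTheory Category Limits CochainComplex HomComplex Pretriangulated

attribute [local instance] HasDerivedCategory.standard

namespace Groth.Agent.Lib.CechCompletion25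

open Groth.Agent.Lib.HomTensor25 Groth.Agent.Lib.CechFlat25 Groth.Agent.Lib.RHomCx25
  Groth.Agent.Lib.TKfMod Groth.Agent.Lib.TKfCompl Groth.Agent.Lib.TKfAdj Groth.Agent.Lib.TKfIdeal

variable {A : Type u} [CommRing A]

/-- uniqueness of universal arrows to `f`-complete objects -/
lemma nonempty_iso_of_universal {D : Type*} [Category D] [Preadditive D] [Linear A D] (f : A)
    {X Y₁ Y₂ : D} (η₁ : X ⟶ Y₁) (η₂ : X ⟶ Y₂) (h₁ : Cpl f Y₁) (h₂ : Cpl f Y₂)
    (u₁ : ∀ L : D, Cpl f L → Function.Bijective (fun h : Y₁ ⟶ L => η₁ ≫ h))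
    (u₂ : ∀ L : D, Cpl f L → Function.Bijective (fun h : Y₂ ⟶ L => η₂ ≫ h)) :
    Nonempty (Y₁ ≅ Y₂) := by
  obtain ⟨a, ha⟩ := (u₁ Y₂ h₂).2 η₂
  obtain ⟨b, hb⟩ := (u₂ Y₁ h₁).2 η₁
  change η₁ ≫ a = η₂ at ha
  change η₂ ≫ b = η₁ at hb
  refine ⟨⟨a, b, (u₁ Y₁ h₁).1 ?_, (u₂ Y₂ h₂).1 ?_⟩⟩
  · change η₁ ≫ a ≫ b = η₁ ≫ 𝟙 _
    rw [← Category.assoc, ha, hb, Category.comp_id]
  · change η₂ ≫ b ≫ a = η₂ ≫ 𝟙 _
    rw [← Category.assoc, hb, ha, Category.comp_id]

/-- `f` acts bijectively on a localization at `f` -/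
lemma bijective_smul_localizedModule (f : A) (N : Type u) [AddCommGroup N] [Module A N] :
    Function.Bijective (fun x : LocalizedModule (Submonoid.powers f) N => f • x) := by
  have hu := IsLocalizedModule.map_units
    (LocalizedModule.mkLinearMap (Submonoid.powers f) N) ⟨f, Submonoid.mem_powers f⟩
  have := (Module.End.isUnit_iff _).mp hu
  exact this

/-- the inductive step -/
theorem step (J : DRing.Cx A) [J.IsKInjective] (f : A) (C : DRing.Cx A) (fs : List A)
    (hflat : Groth.Agent.Lib.KFlat35.IsKFlat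
      (mappingCocone (DerCA.locCxUnit (Submonoid.powers f) C)))
    (ih : ∃ η : DerivedCategory.Q.obj J ⟶ DerivedCategory.Q.obj (DRing.homCx C J),
      (∀ g ∈ fs, Cpl g (DerivedCategory.Q.obj (DRing.homCx C J))) ∧
      (∀ E : Dual.D A, (∀ g ∈ fs, Cpl g E) → Function.Bijective
        (fun h : DerivedCategory.Q.obj (DRing.homCx C J) ⟶ E => η ≫ h))) :
    ∃ η : DerivedCategory.Q.obj J ⟶ DerivedCategory.Q.obj
        (DRing.homCx (mappingCocone (DerCA.locCxUnit (Submonoid.powers f) C)) J),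
      (∀ g ∈ f :: fs, Cpl g (DerivedCategory.Q.obj
        (DRing.homCx (mappingCocone (DerCA.locCxUnit (Submonoid.powers f) C)) J))) ∧
      (∀ E : Dual.D A, (∀ g ∈ f :: fs, Cpl g E) → Function.Bijective
        (fun h : DerivedCategory.Q.obj
          (DRing.homCx (mappingCocone (DerCA.locCxUnit (Submonoid.powers f) C)) J) ⟶ E =>
            η ≫ h)) := by
  obtain ⟨η₀, h1, h2⟩ := ih
  let φ := DerCA.locCxUnit (Submonoid.powers f) C
  let Y := DerivedCategory.Q.obj (DRing.homCx C J)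
  let Y' := DerivedCategory.Q.obj (DRing.homCx (mappingCocone φ) J)
  let ρ : Y ⟶ Y' := DerivedCategory.Q.map (homCxPre (mappingCocone.fst φ) J)
  have hL : ∀ p : ℤ, Function.Bijective
      (fun x : ((DerCA.locCx (Submonoid.powers f)).obj C).X p => f • x) :=
    fun p => bijective_smul_localizedModule f (C.X p)
  have hbij : ∀ E : Dual.D A, Cpl f E → Function.Bijective (fun h : Y' ⟶ E => ρ ≫ h) :=
    fun E hE => bijective_comp_homCxPre_fst φ J f hL E hE
  have hf : Cpl f Y' := (DC_iff_Cpl f _).mp (DC_homCx f _ J hflat (acyclic_tensor_ce f C))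
  refine ⟨η₀ ≫ ρ, ?_, ?_⟩
  · intro g hg
    rcases List.mem_cons.mp hg with rfl | hg'
    · exact hf
    · obtain ⟨Khat, ηk, hc, hu, hp, -⟩ := exists_completion_step (A := A) f Y
      obtain ⟨e⟩ := nonempty_iso_of_universal f ηk ρ hc hf hu hbij
      exact Cpl.of_iso e (hp g (h1 g hg'))
  · intro E hE
    have e1 := hbij E (hE f List.mem_cons_self)
    have e2 := h2 E (fun g hg => hE g (List.mem_cons_of_mem f hg))
    have : (fun h : Y' ⟶ E => (η₀ ≫ ρ) ≫ h) =
        (fun h : Y ⟶ E => η₀ ≫ h) ∘ (fun h : Y' ⟶ E => ρ ≫ h) := by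
      funext h
      exact Category.assoc _ _ _
    rw [this]
    exact e2.comp e1

/-- the main induction -/
theorem exists_universal (J : DRing.Cx A) [J.IsKInjective] (fs : List A) :
    ∃ η : DerivedCategory.Q.obj J ⟶
        DerivedCategory.Q.obj (DRing.homCx (DerCA.extCech (RA A) fs) J),
      (∀ g ∈ fs, Cpl g (DerivedCategory.Q.obj (DRing.homCx (DerCA.extCech (RA A) fs) J))) ∧
      (∀ E : Dual.D A, (∀ g ∈ fs, Cpl g E) → Function.Bijective
        (fun h : DerivedCategory.Q.obj (DRing.homCx (DerCA.extCech (RA A) fs) J) ⟶ E => η ≫ h)) := by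
  induction fs with
  | nil =>
    refine ⟨DerivedCategory.Q.map (homSingleIso J).inv, fun g hg => by simp at hg, fun E _ => ?_⟩
    have : IsIso (DerivedCategory.Q.map (homSingleIso J).inv) := inferInstance
    constructor
    · intro a b hab
      exact (cancel_epi _).mp hab
    · intro a
      exact ⟨inv (DerivedCategory.Q.map (homSingleIso J).inv) ≫ a, by simp⟩
  | cons f fs ih =>
    exact step J f (DerCA.extCech (RA A) fs) fs (isKFlat_extCech (RA A) (f :: fs)) ih

/-- **Derived completion is `RHom(Č, -)`** (= S7097). -/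
theorem nonempty_iso_derivedCompletion_rhom_extCech (fs : List A) (I : Ideal A)
    (hI : Ideal.span {x : A | x ∈ fs} = I) [DRing.HasDerivedCompletion I]
    [DRing.HasRHomCx (DerCA.extCech (ModuleCat.of A A) fs)] (K : Dual.D A) :
    Nonempty (((DRing.derivedCompletion I).obj K).obj ≅
      (DRing.RHomCx (DerCA.extCech (ModuleCat.of A A) fs)).obj K) := by
  obtain ⟨X, ⟨eX⟩⟩ : ∃ X : DRing.Cx A, Nonempty (DerivedCategory.Q.obj X ≅ K) :=
    ⟨_, ⟨DerivedCategory.Q.objObjPreimageIso K⟩⟩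
  obtain ⟨J, j, hJ, hj⟩ := Groth.Agent.Lib.RGammaKInj.exists_kinj X
  have : IsIso (DerivedCategory.Q.map j) := by
    rw [DerivedCategory.isIso_Q_map_iff_quasiIso]; exact hj
  let eJ : DerivedCategory.Q.obj J ≅ K := (asIso (DerivedCategory.Q.map j)).symm ≪≫ eX
  obtain ⟨η, h1, h2⟩ := exists_universal J fs
  let L := DerivedCategory.Q.obj (DRing.homCx (DerCA.extCech (RA A) fs) J)
  have hL : DRing.IsDerivedComplete I L := by
    rw [isDerivedComplete_iff_le, ← hI, Ideal.span_le]
    intro x hx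
    exact (DC_iff_Cpl x L).mpr (h1 x hx)
  have huniv : ∀ E : Dual.D A, DRing.IsDerivedComplete I E →
      Function.Bijective (fun g : L ⟶ E => η ≫ g) := by
    intro E hE
    apply h2 E
    intro g hg
    apply (DC_iff_Cpl g E).mp
    have : g ∈ I := by
      rw [← hI]
      exact Ideal.subset_span hg
    exact (isDerivedComplete_iff_le I E).mp hE this
  obtain ⟨e, -⟩ := Groth.Agent.Lib.TKfNoeth.exists_iso_of_universal I _ L η hL huniv
  let i1 : ((DRing.derivedCompletion I).obj K).obj ≅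
      ((DRing.derivedCompletion I).obj (DerivedCategory.Q.obj J)).obj :=
    (ObjectProperty.ι (DRing.IsDerivedComplete I)).mapIso
      ((DRing.derivedCompletion I).mapIso eJ.symm)
  let i2 : (DRing.RHomCx (DerCA.extCech (ModuleCat.of A A) fs)).obj K ≅ L :=
    (DRing.RHomCx (DerCA.extCech (ModuleCat.of A A) fs)).mapIso eJ.symm ≪≫ rhomIso _ J
  exact ⟨i1 ≪≫ e ≪≫ i2.symm⟩

end Groth.Agent.Lib.CechCompletion25
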