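import Groth.Agent.Lib.CechLow
import Mathlib.Topology.Sheaves.Presheaf
import Mathlib.CategoryTheory.Limits.Lattice

/-!
# An abstract contraction criterion for Mathlib's (full, unordered) Čech complex

`Groth.Agent.Lib.CechContract9` (helper9).  Let `P` be a presheaf of abelian groups on a category `D`
with finite products (e.g. `D = Opens X`), `U : ι → D` a family, and `K = (cechComplexFunctor U).obj P`
Mathlib's Čech complex (cochains on *all* tuples).  Suppose all the groups `P(U_a)`
(`U_a = ∏ᶜ_k U (a k)`) are embedded compatibly in one abelian group `L` (`ρ`), and that for a list `cs`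
of indices we have additive endomorphisms `N c` of `L` such that for every tuple `a`
1. `1 - N c` maps `range ρ(U_{c :: a})` into `range ρ(U_a)` (tuples `a` of length `p + 1`);
2. the product of the `N c` over `cs` kills `range ρ(U_a)` for tuples `a` of length `p + 2`.
Then `H^{p+1}(K) = 0`.

Typical use: `P = O(d)` on `P^n`, `L` = Laurent polynomials, `N c` = projection onto the monomials
with negative `x_c`-exponent.  The homotopy is `(h_c f)(a) = (1 - N c) (f (c :: a))`; it satisfies
`d h_c + h_c d = 1 - N c` in positive degrees.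
-/

universe w v u

open CategoryTheory Limits Opposite

namespace Groth.Agent.Lib.CechContract9

open Groth.Agent.Lib.CechLow

section Combinatorics

variable {ι : Type w}

lemma face_zero_cons {n : ℕ} (c : ι) (a : Fin (n + 1) → ι) :
    face (0 : Fin (n + 2)) (Fin.cons c a : Fin (n + 2) → ι) = a := by
  funext k
  simp [face]

lemma face_succ_cons {n : ℕ} (c : ι) (a : Fin (n + 2) → ι) (j : Fin (n + 2)) :
    face j.succ (Fin.cons c a : Fin (n + 3) → ι) = Fin.cons c (face j a) := by
  funext k
  refine Fin.cases ?_ (fun k' => ?_) k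
  · simp [face]
  · simp [face]

variable {L : Type*} [AddCommGroup L]

/-- the Čech differential on `L`-valued functions on tuples -/
def dL {n : ℕ} (G : (Fin (n + 1) → ι) → L) : (Fin (n + 2) → ι) → L :=
  fun a => ∑ j : Fin (n + 2), (-1 : ℤ) ^ (j : ℕ) • G (face j a)

/-- the homotopy attached to an index `c` and an endomorphism `N` -/
def hL (N : L →+ L) (c : ι) {n : ℕ} (G : (Fin (n + 2) → ι) → L) : (Fin (n + 1) → ι) → L :=
  fun a => G (Fin.cons c a) - N (G (Fin.cons c a))

lemma sum_cons_face_eq {n : ℕ} (G : (Fin (n + 2) → ι) → L) (hG : dL G = 0) (c : ι)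
    (a : Fin (n + 2) → ι) :
    ∑ j : Fin (n + 2), (-1 : ℤ) ^ (j : ℕ) • G (Fin.cons c (face j a)) = G a := by
  have h := congrFun hG (Fin.cons c a)
  simp only [dL, Pi.zero_apply] at h
  rw [Fin.sum_univ_succ] at h
  simp only [Fin.val_zero, pow_zero, one_smul, face_zero_cons, Fin.val_succ, face_succ_cons,
    pow_succ, mul_neg, mul_one, neg_smul, Finset.sum_neg_distrib] at h
  exact (eq_of_sub_eq_zero (by rw [sub_eq_add_neg]; exact h)).symm

lemma dL_hL {n : ℕ} (N : L →+ L) (c : ι) (G : (Fin (n + 2) → ι) → L) (hG : dL G = 0) :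
    dL (hL N c G) = fun a => G a - N (G a) := by
  funext a
  have h := sum_cons_face_eq G hG c a
  simp only [dL, hL, smul_sub]
  rw [Finset.sum_sub_distrib, h]
  congr 1
  rw [← h, map_sum]
  exact Finset.sum_congr rfl fun j _ => (map_zsmul N _ _).symm

end Combinatorics

section Main

variable {D : Type u} [Category.{v} D] [HasFiniteProducts D]
  {ι : Type w} (Y : ι → D) (P : Dᵒᵖ ⥤ AddCommGrpCat.{w})
  {L : Type*} [AddCommGroup L]
  (ρ : ∀ V : D, P.obj (op V) →+ L)

/-- the object over which the component `a` of a cochain lives -/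
noncomputable abbrev obj {n : ℕ} (a : Fin (n + 1) → ι) : D := ∏ᶜ fun k => Y (a k)

/-- the `L`-valued shadow of a cochain -/
noncomputable def shadow {n : ℕ} (x : ((cechComplexFunctor Y).obj P).X n) :
    (Fin (n + 1) → ι) → L :=
  fun a => ρ (obj Y a) (comp Y P n a x)

lemma shadow_sub {n : ℕ} (x y : ((cechComplexFunctor Y).obj P).X n) :
    shadow Y P ρ (x - y) = shadow Y P ρ x - shadow Y P ρ y := by
  funext a
  simp only [shadow, Pi.sub_apply, map_sub]

lemma shadow_zero {n : ℕ} :
    shadow Y P ρ (0 : ((cechComplexFunctor Y).obj P).X n) = 0 := by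
  funext a
  simp only [shadow, Pi.zero_apply, map_zero]

variable (hρ : ∀ (V W : D) (h : W ⟶ V) (x : P.obj (op V)), ρ W (P.map h.op x) = ρ V x)

include hρ in
lemma shadow_d {n : ℕ} (x : ((cechComplexFunctor Y).obj P).X n) :
    shadow Y P ρ (((cechComplexFunctor Y).obj P).d n (n + 1) x) = dL (shadow Y P ρ x) := by
  funext a
  simp only [shadow, dL]
  rw [d_comp_apply, map_sum]
  refine Finset.sum_congr rfl fun j _ => ?_
  rw [map_zsmul, hρ]

lemma shadow_injective {n : ℕ} (hinj : ∀ (a : Fin (n + 1) → ι), Function.Injective (ρ (obj Y a)))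
    (x y : ((cechComplexFunctor Y).obj P).X n)
    (h : shadow Y P ρ x = shadow Y P ρ y) : x = y := by
  apply cochain_ext Y P n
  intro a
  exact hinj a (congrFun h a)

lemma exists_shadow_eq {n : ℕ} (G : (Fin (n + 1) → ι) → L)
    (hG : ∀ a, G a ∈ (ρ (obj Y a)).range) :
    ∃ x : ((cechComplexFunctor Y).obj P).X n, shadow Y P ρ x = G := by
  choose s hs using hG
  refine ⟨mkCochain Y P n s, ?_⟩
  funext a
  simp only [shadow, comp_mkCochain, hs]

lemma shadow_mem {n : ℕ} (x : ((cechComplexFunctor Y).obj P).X n) (a : Fin (n + 1) → ι) :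
    shadow Y P ρ x a ∈ (ρ (obj Y a)).range := ⟨_, rfl⟩

variable (N : ι → AddMonoid.End L)

include hρ in
/-- one contraction step: a cocycle `x` of positive degree is cohomologous to a cocycle with
shadow `N c ∘ shadow x` -/
lemma exists_step {p : ℕ} (c : ι)
    (h2 : ∀ (a : Fin (p + 1) → ι), ∀ y ∈ (ρ (obj Y (Fin.cons c a : Fin (p + 2) → ι))).range,
      y - N c y ∈ (ρ (obj Y a)).range)
    (x : ((cechComplexFunctor Y).obj P).X (p + 1))
    (hx : ((cechComplexFunctor Y).obj P).d (p + 1) (p + 2) x = 0) :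
    ∃ y : ((cechComplexFunctor Y).obj P).X p,
      shadow Y P ρ (x - ((cechComplexFunctor Y).obj P).d p (p + 1) y) =
        fun a => N c (shadow Y P ρ x a) := by
  have hG : dL (shadow Y P ρ x) = 0 := by
    rw [← shadow_d Y P ρ hρ, hx, shadow_zero]
  obtain ⟨y, hy⟩ := exists_shadow_eq Y P ρ (hL (N c) c (shadow Y P ρ x))
    (fun a => h2 a _ (shadow_mem Y P ρ x _))
  refine ⟨y, ?_⟩
  rw [shadow_sub, shadow_d Y P ρ hρ, hy, dL_hL (N c) c _ hG]
  funext a
  simp only [Pi.sub_apply, sub_sub_cancel]
  rfl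

include hρ in
lemma exists_steps {p : ℕ} (cs : List ι)
    (h2 : ∀ c ∈ cs, ∀ (a : Fin (p + 1) → ι),
      ∀ y ∈ (ρ (obj Y (Fin.cons c a : Fin (p + 2) → ι))).range, y - N c y ∈ (ρ (obj Y a)).range)
    (x : ((cechComplexFunctor Y).obj P).X (p + 1))
    (hx : ((cechComplexFunctor Y).obj P).d (p + 1) (p + 2) x = 0) :
    ∃ y : ((cechComplexFunctor Y).obj P).X p,
      shadow Y P ρ (x - ((cechComplexFunctor Y).obj P).d p (p + 1) y) =
        fun a => (cs.map N).prod (shadow Y P ρ x a) := by
  induction cs with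
  | nil =>
    refine ⟨0, ?_⟩
    rw [map_zero, sub_zero]
    funext a
    simp
  | cons c cs ih =>
    obtain ⟨y', hy'⟩ := ih (fun c' hc' => h2 c' (List.mem_cons_of_mem _ hc'))
    have hdd : ((cechComplexFunctor Y).obj P).d (p + 1) (p + 2)
        (((cechComplexFunctor Y).obj P).d p (p + 1) y') = 0 := by
      rw [← ConcreteCategory.comp_apply, ((cechComplexFunctor Y).obj P).d_comp_d]
      rfl
    have hx₁c : ((cechComplexFunctor Y).obj P).d (p + 1) (p + 2)
        (x - ((cechComplexFunctor Y).obj P).d p (p + 1) y') = 0 := by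
      rw [map_sub, hx, hdd, sub_zero]
    obtain ⟨y'', hy''⟩ := exists_step Y P ρ hρ N c (h2 c List.mem_cons_self) _ hx₁c
    refine ⟨y' + y'', ?_⟩
    have : x - ((cechComplexFunctor Y).obj P).d p (p + 1) (y' + y'') =
        (x - ((cechComplexFunctor Y).obj P).d p (p + 1) y') -
          ((cechComplexFunctor Y).obj P).d p (p + 1) y'' := by
      rw [map_add]
      abel
    rw [this, hy'', hy']
    funext a
    simp only [List.map_cons, List.prod_cons]
    rfl

include hρ in
/-- **Abstract contraction criterion** (general category `D` with finite products). -/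
theorem isZero_homology_of_contraction (p : ℕ)
    (hinj : ∀ (a : Fin (p + 2) → ι), Function.Injective (ρ (obj Y a))) (cs : List ι)
    (h2 : ∀ c ∈ cs, ∀ (a : Fin (p + 1) → ι),
      ∀ y ∈ (ρ (obj Y (Fin.cons c a : Fin (p + 2) → ι))).range, y - N c y ∈ (ρ (obj Y a)).range)
    (h3 : ∀ (a : Fin (p + 2) → ι), ∀ y ∈ (ρ (obj Y a)).range, (cs.map N).prod y = 0) :
    IsZero (((cechComplexFunctor Y).obj P).homology (p + 1)) := by
  apply isZero_homology_of_forall
  intro x hx
  obtain ⟨y, hy⟩ := exists_steps Y P ρ hρ N cs h2 x hx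
  refine ⟨y, ?_⟩
  symm
  apply eq_of_sub_eq_zero
  apply shadow_injective Y P ρ hinj
  rw [hy, shadow_zero]
  funext a
  exact h3 a _ (shadow_mem Y P ρ x a)

end Main


section Top

open TopologicalSpace

variable {X : TopCat.{u}} {ι : Type u} (U : ι → Opens X)

lemma obj_eq_iInf {n : ℕ} (a : Fin (n + 1) → ι) : obj U a = ⨅ k, U (a k) := by
  apply le_antisymm
  · exact le_iInf fun k => (Pi.π (fun k => U (a k)) k).le
  · exact (Pi.lift (fun k => homOfLE (iInf_le (fun k => U (a k)) k))).le

lemma iInf_cons {n : ℕ} (c : ι) (a : Fin (n + 1) → ι) :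
    (⨅ k, U ((Fin.cons c a : Fin (n + 2) → ι) k)) = U c ⊓ ⨅ k, U (a k) := by
  apply le_antisymm
  · refine le_inf ?_ (le_iInf fun k => ?_)
    · exact (iInf_le (fun k => U ((Fin.cons c a : Fin (n + 2) → ι) k)) 0).trans (by simp)
    · exact (iInf_le (fun k => U ((Fin.cons c a : Fin (n + 2) → ι) k)) k.succ).trans (by simp)
  · refine le_iInf fun k => ?_
    refine Fin.cases ?_ (fun k' => ?_) k
    · simp
    · simpa using inf_le_right.trans (iInf_le (fun k => U (a k)) k')

/-- **Abstract contraction criterion** for the full Čech complex of a presheaf of abelian groups on a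
topological space: `L` an abelian group, `ρ V : P(V) →+ L` compatible with restrictions and injective on
`(p+2)`-fold intersections, `N c` additive endomorphisms of `L` (`c` in a list `cs`) such that
`1 - N c` maps `range ρ(U_c ∩ U_a)` into `range ρ(U_a)` for `(p+1)`-tuples `a`, and the product of the
`N c` kills `range ρ(U_a)` for `(p+2)`-tuples `a`.  Then Čech `H^{p+1}` vanishes. -/
theorem isZero_cechH_of_contraction (P : (Opens X)ᵒᵖ ⥤ AddCommGrpCat.{u})
    {L : Type*} [AddCommGroup L] (ρ : ∀ V : Opens X, P.obj (op V) →+ L)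
    (hρ : ∀ (V W : Opens X) (h : W ≤ V) (x : P.obj (op V)), ρ W (P.map (homOfLE h).op x) = ρ V x)
    (N : ι → AddMonoid.End L) (p : ℕ)
    (hinj : ∀ (a : Fin (p + 2) → ι), Function.Injective (ρ (⨅ k, U (a k)))) (cs : List ι)
    (h2 : ∀ c ∈ cs, ∀ (a : Fin (p + 1) → ι), ∀ y ∈ (ρ (U c ⊓ ⨅ k, U (a k))).range,
      y - N c y ∈ (ρ (⨅ k, U (a k))).range)
    (h3 : ∀ (a : Fin (p + 2) → ι), ∀ y ∈ (ρ (⨅ k, U (a k))).range, (cs.map N).prod y = 0) :
    IsZero (((cechComplexFunctor U).obj P).homology (p + 1)) := by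
  apply isZero_homology_of_contraction U P ρ
    (fun V W h x => hρ V W h.le x) N p _ cs
  · intro c hc a y hy
    rw [obj_eq_iInf, iInf_cons] at hy
    rw [obj_eq_iInf]
    exact h2 c hc a y hy
  · intro a y hy
    rw [obj_eq_iInf] at hy
    exact h3 a y hy
  · intro a
    rw [obj_eq_iInf]
    exact hinj a

end Top


/-! ### Corrected versions (compatibility of `ρ` only along face maps / among "good" opens)

As helper4 pointed out, the hypothesis `hρ` above (compatibility with *all* restrictions) forces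
`ρ = 0` for a sheaf (restrict to `⊥`).  The versions below only ask for compatibility along the face
maps of the Čech nerve, resp. between opens satisfying a predicate `G` that holds for all finite
intersections of the cover. -/

section MainFace

variable {D : Type u} [Category.{v} D] [HasFiniteProducts D]
  {ι : Type w} (Y : ι → D) (P : Dᵒᵖ ⥤ AddCommGrpCat.{w})
  {L : Type*} [AddCommGroup L]
  (ρ : ∀ V : D, P.obj (op V) →+ L)
  (hρ : ∀ (n : ℕ) (j : Fin (n + 2)) (a : Fin (n + 2) → ι) (x : P.obj (op (obj Y (face j a)))),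
    ρ (obj Y a) (P.map (faceMap Y j a).op x) = ρ (obj Y (face j a)) x)

include hρ in
lemma shadow_d' {n : ℕ} (x : ((cechComplexFunctor Y).obj P).X n) :
    shadow Y P ρ (((cechComplexFunctor Y).obj P).d n (n + 1) x) = dL (shadow Y P ρ x) := by
  funext a
  simp only [shadow, dL]
  rw [d_comp_apply, map_sum]
  refine Finset.sum_congr rfl fun j _ => ?_
  rw [map_zsmul, hρ]

variable (N : ι → AddMonoid.End L)

include hρ in
lemma exists_step' {p : ℕ} (c : ι)
    (h2 : ∀ (a : Fin (p + 1) → ι), ∀ y ∈ (ρ (obj Y (Fin.cons c a : Fin (p + 2) → ι))).range,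
      y - N c y ∈ (ρ (obj Y a)).range)
    (x : ((cechComplexFunctor Y).obj P).X (p + 1))
    (hx : ((cechComplexFunctor Y).obj P).d (p + 1) (p + 2) x = 0) :
    ∃ y : ((cechComplexFunctor Y).obj P).X p,
      shadow Y P ρ (x - ((cechComplexFunctor Y).obj P).d p (p + 1) y) =
        fun a => N c (shadow Y P ρ x a) := by
  have hG : dL (shadow Y P ρ x) = 0 := by
    rw [← shadow_d' Y P ρ hρ, hx, shadow_zero]
  obtain ⟨y, hy⟩ := exists_shadow_eq Y P ρ (hL (N c) c (shadow Y P ρ x))
    (fun a => h2 a _ (shadow_mem Y P ρ x _))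
  refine ⟨y, ?_⟩
  rw [shadow_sub, shadow_d' Y P ρ hρ, hy, dL_hL (N c) c _ hG]
  funext a
  simp only [Pi.sub_apply, sub_sub_cancel]
  rfl

include hρ in
lemma exists_steps' {p : ℕ} (cs : List ι)
    (h2 : ∀ c ∈ cs, ∀ (a : Fin (p + 1) → ι),
      ∀ y ∈ (ρ (obj Y (Fin.cons c a : Fin (p + 2) → ι))).range, y - N c y ∈ (ρ (obj Y a)).range)
    (x : ((cechComplexFunctor Y).obj P).X (p + 1))
    (hx : ((cechComplexFunctor Y).obj P).d (p + 1) (p + 2) x = 0) :
    ∃ y : ((cechComplexFunctor Y).obj P).X p,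
      shadow Y P ρ (x - ((cechComplexFunctor Y).obj P).d p (p + 1) y) =
        fun a => (cs.map N).prod (shadow Y P ρ x a) := by
  induction cs with
  | nil =>
    refine ⟨0, ?_⟩
    rw [map_zero, sub_zero]
    funext a
    simp
  | cons c cs ih =>
    obtain ⟨y', hy'⟩ := ih (fun c' hc' => h2 c' (List.mem_cons_of_mem _ hc'))
    have hdd : ((cechComplexFunctor Y).obj P).d (p + 1) (p + 2)
        (((cechComplexFunctor Y).obj P).d p (p + 1) y') = 0 := by
      rw [← ConcreteCategory.comp_apply, ((cechComplexFunctor Y).obj P).d_comp_d]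
      rfl
    have hx₁c : ((cechComplexFunctor Y).obj P).d (p + 1) (p + 2)
        (x - ((cechComplexFunctor Y).obj P).d p (p + 1) y') = 0 := by
      rw [map_sub, hx, hdd, sub_zero]
    obtain ⟨y'', hy''⟩ := exists_step' Y P ρ hρ N c (h2 c List.mem_cons_self) _ hx₁c
    refine ⟨y' + y'', ?_⟩
    have : x - ((cechComplexFunctor Y).obj P).d p (p + 1) (y' + y'') =
        (x - ((cechComplexFunctor Y).obj P).d p (p + 1) y') -
          ((cechComplexFunctor Y).obj P).d p (p + 1) y'' := by
      rw [map_add]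
      abel
    rw [this, hy'', hy']
    funext a
    simp only [List.map_cons, List.prod_cons]
    rfl

include hρ in
/-- **Abstract contraction criterion**, corrected: `ρ` only has to be compatible with the face maps. -/
theorem isZero_homology_of_contraction' (p : ℕ)
    (hinj : ∀ (a : Fin (p + 2) → ι), Function.Injective (ρ (obj Y a))) (cs : List ι)
    (h2 : ∀ c ∈ cs, ∀ (a : Fin (p + 1) → ι),
      ∀ y ∈ (ρ (obj Y (Fin.cons c a : Fin (p + 2) → ι))).range, y - N c y ∈ (ρ (obj Y a)).range)
    (h3 : ∀ (a : Fin (p + 2) → ι), ∀ y ∈ (ρ (obj Y a)).range, (cs.map N).prod y = 0) :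
    IsZero (((cechComplexFunctor Y).obj P).homology (p + 1)) := by
  apply isZero_homology_of_forall
  intro x hx
  obtain ⟨y, hy⟩ := exists_steps' Y P ρ hρ N cs h2 x hx
  refine ⟨y, ?_⟩
  symm
  apply eq_of_sub_eq_zero
  apply shadow_injective Y P ρ hinj
  rw [hy, shadow_zero]
  funext a
  exact h3 a _ (shadow_mem Y P ρ x a)

end MainFace

section Top'

open TopologicalSpace

variable {X : TopCat.{u}} {ι : Type u} (U : ι → Opens X)

/-- **Abstract contraction criterion on a topological space**, corrected: `ρ` only has to be compatible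
with restrictions between opens satisfying `G`, where `G` holds for all finite intersections of the
`U i`. -/
theorem isZero_cechH_of_contraction' (P : (Opens X)ᵒᵖ ⥤ AddCommGrpCat.{u})
    {L : Type*} [AddCommGroup L] (ρ : ∀ V : Opens X, P.obj (op V) →+ L)
    (G : Opens X → Prop) (hG : ∀ (n : ℕ) (a : Fin (n + 1) → ι), G (⨅ k, U (a k)))
    (hρ : ∀ (V W : Opens X), G V → G W → ∀ (h : W ≤ V) (x : P.obj (op V)),
      ρ W (P.map (homOfLE h).op x) = ρ V x)
    (N : ι → AddMonoid.End L) (p : ℕ)
    (hinj : ∀ (a : Fin (p + 2) → ι), Function.Injective (ρ (⨅ k, U (a k)))) (cs : List ι)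
    (h2 : ∀ c ∈ cs, ∀ (a : Fin (p + 1) → ι), ∀ y ∈ (ρ (U c ⊓ ⨅ k, U (a k))).range,
      y - N c y ∈ (ρ (⨅ k, U (a k))).range)
    (h3 : ∀ (a : Fin (p + 2) → ι), ∀ y ∈ (ρ (⨅ k, U (a k))).range, (cs.map N).prod y = 0) :
    IsZero (((cechComplexFunctor U).obj P).homology (p + 1)) := by
  apply isZero_homology_of_contraction' U P ρ _ N p _ cs
  · intro c hc a y hy
    rw [obj_eq_iInf, iInf_cons] at hy
    rw [obj_eq_iInf]
    exact h2 c hc a y hy
  · intro a y hy
    rw [obj_eq_iInf] at hy
    exact h3 a y hy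
  · intro n j a x
    have h1 : G (obj U (face j a)) := by rw [obj_eq_iInf]; exact hG _ _
    have h2' : G (obj U a) := by rw [obj_eq_iInf]; exact hG _ _
    exact hρ _ _ h1 h2' (faceMap U j a).le x
  · intro a
    rw [obj_eq_iInf]
    exact hinj a

end Top'

end Groth.Agent.Lib.CechContract9
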