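import Groth.Agent.Lib.CechLow
import Mathlib.GroupTheory.FreeAbelianGroup
import Mathlib.Logic.Small.Basic
import Mathlib.Data.Countable.Small
import Mathlib.CategoryTheory.EssentiallySmall
import Mathlib.CategoryTheory.Preadditive.Injective.Basic
import Mathlib.Algebra.Homology.ShortComplex.Exact
import Mathlib.Algebra.Homology.ShortComplex.ExactFunctor
import Mathlib.CategoryTheory.Abelian.FunctorCategory
import Mathlib.Algebra.Category.Grp.Abelian
import Mathlib.CategoryTheory.Comma.Over.Basic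

/-!
# Cech cohomology of an injective presheaf vanishes in positive degrees (general universes)

For a family `Y : ι → Over U` and an injective object `I` of the category of abelian presheaves on
`C`, the Cech complex of `I` with respect to the family is exact in positive degrees.
The proof represents the Cech complex as `Hom(B_•, I)` for a complex of free abelian presheaves
`B_•` which is sectionwise contractible in positive degrees.
-/

universe w v u

open CategoryTheory Limits Opposite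

namespace Groth.Agent.Lib.CechInjGen

section Simplices

variable {C : Type u} [Category.{v} C] {U : C} {ι : Type w} (Y : ι → Over U)

/-- a point of the family over `V`: an index and a morphism to the corresponding member -/
abbrev Pt (V : C) : Type (max w v) := Σ i : ι, (V ⟶ (Y i).left)

variable {Y}

/-- the structure map to `U` of a point -/
def Pt.str {V : C} (p : Pt Y V) : V ⟶ U := p.2 ≫ (Y p.1).hom

/-- restriction of a point along a morphism -/
def Pt.res {V V' : C} (g : V' ⟶ V) (p : Pt Y V) : Pt Y V' := ⟨p.1, g ≫ p.2⟩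

lemma Pt.res_str {V V' : C} (g : V' ⟶ V) (p : Pt Y V) : (p.res g).str = g ≫ p.str :=
  Category.assoc _ _ _

variable (Y)

/-- `n`-simplices over `V`: tuples of points with a common structure map -/
def Simp (n : ℕ) (V : C) : Type (max w v) :=
  {σ : Fin (n + 1) → Pt Y V // ∀ k l, (σ k).str = (σ l).str}

variable {Y}

@[ext]
lemma Simp.ext {n : ℕ} {V : C} {σ τ : Simp Y n V} (h : σ.1 = τ.1) : σ = τ := Subtype.ext h

/-- restriction of a simplex -/
def Simp.res {n : ℕ} {V V' : C} (g : V' ⟶ V) (σ : Simp Y n V) : Simp Y n V' :=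
  ⟨fun k => (σ.1 k).res g, fun k l => by rw [Pt.res_str, Pt.res_str, σ.2 k l]⟩

/-- `j`-th face of a simplex -/
def Simp.face {n : ℕ} {V : C} (j : Fin (n + 2)) (σ : Simp Y (n + 1) V) : Simp Y n V :=
  ⟨fun k => σ.1 (j.succAbove k), fun _ _ => σ.2 _ _⟩

lemma Simp.face_res {n : ℕ} {V V' : C} (g : V' ⟶ V) (j : Fin (n + 2)) (σ : Simp Y (n + 1) V) :
    (σ.res g).face j = (σ.face j).res g := rfl

lemma Simp.res_id {n : ℕ} {V : C} (σ : Simp Y n V) : σ.res (𝟙 V) = σ := by
  ext1
  funext k
  simp [Simp.res, Pt.res]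

lemma Simp.res_comp {n : ℕ} {V V' V'' : C} (g : V' ⟶ V) (g' : V'' ⟶ V') (σ : Simp Y n V) :
    σ.res (g' ≫ g) = (σ.res g).res g' := by
  ext1
  funext k
  simp [Simp.res, Pt.res]

/-- a chosen point with given structure map -/
noncomputable def chosen {V : C} (ψ : V ⟶ U) (h : ∃ p : Pt Y V, p.str = ψ) : Pt Y V := h.choose

lemma chosen_str {V : C} (ψ : V ⟶ U) (h : ∃ p : Pt Y V, p.str = ψ) : (chosen ψ h).str = ψ :=
  h.choose_spec

lemma chosen_congr {V : C} {ψ ψ' : V ⟶ U} (e : ψ = ψ') (h : ∃ p : Pt Y V, p.str = ψ)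
    (h' : ∃ p : Pt Y V, p.str = ψ') : chosen ψ h = chosen ψ' h' := by
  subst e
  rfl

/-- the cone of a simplex: prepend the chosen point -/
noncomputable def Simp.cone {n : ℕ} {V : C} (σ : Simp Y n V) : Simp Y (n + 1) V :=
  ⟨Fin.cons (chosen (σ.1 0).str ⟨σ.1 0, rfl⟩) σ.1, by
    have h0 : ∀ k, (Fin.cons (α := fun _ => Pt Y V) (chosen (σ.1 0).str ⟨σ.1 0, rfl⟩) σ.1 k).str =
        (σ.1 0).str := by
      intro k
      refine Fin.cases ?_ (fun k' => ?_) k
      · rw [Fin.cons_zero, chosen_str]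
      · rw [Fin.cons_succ]
        exact σ.2 _ _
    intro k l
    rw [h0, h0]⟩

lemma Simp.face_zero_cone {n : ℕ} {V : C} (σ : Simp Y n V) : σ.cone.face 0 = σ := by
  ext1
  funext k
  simp [Simp.face, Simp.cone]

lemma Simp.face_succ_cone {n : ℕ} {V : C} (j : Fin (n + 2)) (σ : Simp Y (n + 1) V) :
    σ.cone.face j.succ = (σ.face j).cone := by
  ext1
  funext k
  refine Fin.cases ?_ (fun k' => ?_) k
  · simp only [Simp.face, Simp.cone, Fin.succ_succAbove_zero, Fin.cons_zero]
    exact chosen_congr (σ.2 _ _) _ _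
  · simp only [Simp.face, Simp.cone, Fin.succ_succAbove_succ, Fin.cons_succ]

end Simplices

section FreePresheaf

variable {C : Type u} [Category.{v} C] [LocallySmall.{w} C] {U : C} {ι : Type w} (Y : ι → Over U)

instance small_simp (n : ℕ) (V : C) : Small.{w} (Simp Y n V) := by
  unfold Simp
  infer_instance

/-- the `w`-small model of the type of simplices -/
abbrev SSimp (n : ℕ) (V : C) : Type w := Shrink.{w} (Simp Y n V)

variable {Y} in
/-- transport of a map of simplices to the small models -/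
noncomputable def smap {n m : ℕ} {V V' : C} (f : Simp Y n V → Simp Y m V') :
    SSimp Y n V → SSimp Y m V' :=
  fun s => equivShrink _ (f ((equivShrink _).symm s))

variable {Y} in
lemma smap_equivShrink {n m : ℕ} {V V' : C} (f : Simp Y n V → Simp Y m V') (σ : Simp Y n V) :
    smap f (equivShrink _ σ) = equivShrink _ (f σ) := by
  simp [smap]

/-- the free abelian presheaf on the `n`-simplices -/
noncomputable def B (n : ℕ) : Cᵒᵖ ⥤ AddCommGrpCat.{w} where
  obj V := AddCommGrpCat.of (FreeAbelianGroup (SSimp Y n V.unop))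
  map g := AddCommGrpCat.ofHom (FreeAbelianGroup.map (smap (Simp.res g.unop)))
  map_id V := by
    apply AddCommGrpCat.hom_ext
    apply FreeAbelianGroup.lift_ext
    intro s
    change FreeAbelianGroup.map (smap (Simp.res (𝟙 V.unop))) (FreeAbelianGroup.of s) =
      FreeAbelianGroup.of s
    rw [FreeAbelianGroup.map_of_apply]
    congr 1
    simp [smap, Simp.res_id]
  map_comp g g' := by
    apply AddCommGrpCat.hom_ext
    apply FreeAbelianGroup.lift_ext
    intro s
    change FreeAbelianGroup.map (smap (Simp.res (g'.unop ≫ g.unop))) (FreeAbelianGroup.of s) =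
      FreeAbelianGroup.map (smap (Simp.res g'.unop)) (FreeAbelianGroup.map (smap (Simp.res g.unop))
        (FreeAbelianGroup.of s))
    rw [FreeAbelianGroup.map_of_apply, FreeAbelianGroup.map_of_apply,
      FreeAbelianGroup.map_of_apply]
    congr 1
    simp [smap, Simp.res_comp]

/-- generator of the free presheaf -/
noncomputable def gen {n : ℕ} {V : C} (σ : Simp Y n V) : (B Y n).obj (op V) :=
  FreeAbelianGroup.of (equivShrink _ σ)

lemma B_map_gen {n : ℕ} {V V' : C} (g : V' ⟶ V) (σ : Simp Y n V) :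
    (B Y n).map g.op (gen Y σ) = gen Y (σ.res g) := by
  change FreeAbelianGroup.map (smap (Simp.res g)) (FreeAbelianGroup.of (equivShrink _ σ)) = _
  rw [FreeAbelianGroup.map_of_apply, smap_equivShrink]
  rfl

lemma B_hom_ext {n : ℕ} {V : C} {M : AddCommGrpCat.{w}} (f g : (B Y n).obj (op V) ⟶ M)
    (h : ∀ σ : Simp Y n V, f (gen Y σ) = g (gen Y σ)) : f = g := by
  apply AddCommGrpCat.hom_ext
  apply FreeAbelianGroup.lift_ext
  intro s
  have h' := h ((equivShrink _).symm s)
  rw [gen, Equiv.apply_symm_apply] at h'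
  exact h'

/-- face maps of the free presheaves -/
noncomputable def Bface {n : ℕ} (j : Fin (n + 2)) : B Y (n + 1) ⟶ B Y n where
  app V := AddCommGrpCat.ofHom (FreeAbelianGroup.map (smap (Simp.face j)))
  naturality V V' g := by
    apply AddCommGrpCat.hom_ext
    apply FreeAbelianGroup.lift_ext
    intro s
    change FreeAbelianGroup.map (smap (Simp.face j)) (FreeAbelianGroup.map (smap (Simp.res g.unop))
      (FreeAbelianGroup.of s)) = FreeAbelianGroup.map (smap (Simp.res g.unop))
      (FreeAbelianGroup.map (smap (Simp.face j)) (FreeAbelianGroup.of s))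
    simp only [FreeAbelianGroup.map_of_apply]
    congr 1
    simp [smap, Simp.face_res]

lemma Bface_gen {n : ℕ} {V : C} (j : Fin (n + 2)) (σ : Simp Y (n + 1) V) :
    (Bface Y j).app (op V) (gen Y σ) = gen Y (σ.face j) := by
  change FreeAbelianGroup.map (smap (Simp.face j)) (FreeAbelianGroup.of (equivShrink _ σ)) = _
  rw [FreeAbelianGroup.map_of_apply, smap_equivShrink]
  rfl

/-- the differential of the complex of free presheaves -/
noncomputable def Bd (n : ℕ) : B Y (n + 1) ⟶ B Y n :=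
  ∑ j : Fin (n + 2), (-1 : ℤ) ^ (j : ℕ) • Bface Y j

lemma Bd_app_gen {n : ℕ} {V : C} (σ : Simp Y (n + 1) V) :
    (Bd Y n).app (op V) (gen Y σ) = ∑ j : Fin (n + 2), (-1 : ℤ) ^ (j : ℕ) • gen Y (σ.face j) := by
  have h : (Bd Y n).app (op V) = ∑ j : Fin (n + 2), (-1 : ℤ) ^ (j : ℕ) • (Bface Y j).app (op V) := by
    simp [Bd, NatTrans.app_sum, NatTrans.app_zsmul]
  rw [h, CechLow.hom_sum_apply]
  refine Finset.sum_congr rfl (fun j _ => ?_)
  change (-1 : ℤ) ^ (j : ℕ) • (Bface Y j).app (op V) (gen Y σ) = _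
  rw [Bface_gen]

/-- the contracting homotopy on sections -/
noncomputable def hV (n : ℕ) (V : C) :
    (B Y n).obj (op V) →+ (B Y (n + 1)).obj (op V) :=
  FreeAbelianGroup.map (smap Simp.cone)

lemma hV_gen {n : ℕ} {V : C} (σ : Simp Y n V) : hV Y n V (gen Y σ) = gen Y σ.cone := by
  change FreeAbelianGroup.map (smap Simp.cone) (FreeAbelianGroup.of (equivShrink _ σ)) = _
  rw [FreeAbelianGroup.map_of_apply, smap_equivShrink]
  rfl

lemma homotopy_gen {n : ℕ} {V : C} (σ : Simp Y (n + 1) V) :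
    (Bd Y (n + 1)).app (op V) (hV Y (n + 1) V (gen Y σ)) +
      hV Y n V ((Bd Y n).app (op V) (gen Y σ)) = gen Y σ := by
  rw [hV_gen, Bd_app_gen, Bd_app_gen, map_sum, Fin.sum_univ_succ]
  simp only [Simp.face_zero_cone, Simp.face_succ_cone, Fin.val_zero, pow_zero, one_smul,
    Fin.val_succ, pow_succ, mul_neg, mul_one, neg_smul, map_zsmul]
  simp only [hV_gen, Finset.sum_neg_distrib]
  abel

lemma homotopy_apply {n : ℕ} {V : C} (x : (B Y (n + 1)).obj (op V)) :
    (Bd Y (n + 1)).app (op V) (hV Y (n + 1) V x) + hV Y n V ((Bd Y n).app (op V) x) = x := by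
  have h : (((Bd Y (n + 1)).app (op V)).hom.comp (hV Y (n + 1) V)) +
      ((hV Y n V).comp ((Bd Y n).app (op V)).hom) =
      AddMonoidHom.id ((B Y (n + 1)).obj (op V)) := by
    apply FreeAbelianGroup.lift_ext
    intro s
    have h' := homotopy_gen Y ((equivShrink _).symm s)
    rw [gen, Equiv.apply_symm_apply] at h'
    exact h'
  exact DFunLike.congr_fun h x

/-- sectionwise exactness of the complex of free presheaves in positive degrees -/
lemma exists_of_Bd_eq_zero {n : ℕ} {V : C} (x : (B Y (n + 1)).obj (op V))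
    (hx : (Bd Y n).app (op V) x = 0) :
    ∃ z : (B Y (n + 2)).obj (op V), (Bd Y (n + 1)).app (op V) z = x := by
  refine ⟨hV Y (n + 1) V x, ?_⟩
  have h := homotopy_apply Y x
  rw [hx, map_zero, add_zero] at h
  exact h

end FreePresheaf


section Link

variable {C : Type u} [Category.{v} C] {U : C} {ι : Type w} (Y : ι → Over U)
  [HasFiniteProducts (Over U)]

/-- morphisms to the underlying object of a finite product in `Over U` are determined by their
components -/
lemma hom_ext_left {n : ℕ} {Z : Fin (n + 1) → Over U} {V : C} (f f' : V ⟶ (∏ᶜ Z).left)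
    (h : ∀ k, f ≫ (Pi.π Z k).left = f' ≫ (Pi.π Z k).left) : f = f' := by
  have hw : (∏ᶜ Z).hom = (Pi.π Z 0).left ≫ (Z 0).hom := (Over.w (Pi.π Z 0)).symm
  have h' : f' ≫ (∏ᶜ Z).hom = f ≫ (∏ᶜ Z).hom := by
    rw [hw, ← Category.assoc, ← Category.assoc, h 0]
  let F : Over.mk (f ≫ (∏ᶜ Z).hom) ⟶ ∏ᶜ Z := Over.homMk f rfl
  let F' : Over.mk (f ≫ (∏ᶜ Z).hom) ⟶ ∏ᶜ Z := Over.homMk f' h'
  have hF : F = F' := by
    apply Pi.hom_ext
    intro k
    apply Over.OverMorphism.ext
    simpa [F, F'] using h k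
  exact congrArg CommaMorphism.left hF

variable {Y}

/-- the index function of a simplex -/
def Simp.idx {n : ℕ} {V : C} (σ : Simp Y n V) : Fin (n + 1) → ι := fun k => (σ.1 k).1

/-- the morphism to the product induced by a simplex -/
noncomputable def Simp.lift {n : ℕ} {V : C} (σ : Simp Y n V) :
    V ⟶ (∏ᶜ fun k => Y (σ.idx k)).left :=
  (Pi.lift (fun k => (Over.homMk (σ.1 k).2 (σ.2 k 0) :
    Over.mk (σ.1 0).str ⟶ Y (σ.idx k)))).left

lemma Simp.lift_π {n : ℕ} {V : C} (σ : Simp Y n V) (k : Fin (n + 1)) :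
    σ.lift ≫ (Pi.π (fun k => Y (σ.idx k)) k).left = (σ.1 k).2 := by
  rw [Simp.lift, ← Over.comp_left, Pi.lift_π]
  rfl

lemma Simp.res_lift {n : ℕ} {V V' : C} (g : V' ⟶ V) (σ : Simp Y n V) :
    (σ.res g).lift = g ≫ σ.lift := by
  refine hom_ext_left (Z := fun k => Y (σ.idx k)) _ _ (fun k => ?_)
  rw [Category.assoc, Simp.lift_π]
  exact Simp.lift_π (σ.res g) k

lemma Simp.face_lift {n : ℕ} {V : C} (j : Fin (n + 2)) (σ : Simp Y (n + 1) V) :
    (σ.face j).lift = σ.lift ≫ (CechLow.faceMap Y j σ.idx).left := by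
  refine hom_ext_left (Z := fun k => Y (CechLow.face j σ.idx k)) _ _ (fun k => ?_)
  rw [Category.assoc, ← Over.comp_left, CechLow.faceMap_π]
  exact (Simp.lift_π (σ.face j) k).trans (Simp.lift_π σ (j.succAbove k)).symm

/-- the tautological simplex over a product -/
noncomputable def taut {n : ℕ} (a : Fin (n + 1) → ι) : Simp Y n (∏ᶜ fun k => Y (a k)).left :=
  ⟨fun k => ⟨a k, (Pi.π (fun k => Y (a k)) k).left⟩, fun k l => by
    change (Pi.π (fun k => Y (a k)) k).left ≫ (Y (a k)).hom =
      (Pi.π (fun k => Y (a k)) l).left ≫ (Y (a l)).hom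
    rw [Over.w, Over.w]⟩

lemma taut_lift {n : ℕ} (a : Fin (n + 1) → ι) : (taut (Y := Y) a).lift = 𝟙 _ := by
  refine hom_ext_left (Z := fun k => Y (a k)) _ _ (fun k => ?_)
  rw [Category.id_comp]
  exact Simp.lift_π (taut (Y := Y) a) k

lemma taut_face {n : ℕ} (j : Fin (n + 2)) (a : Fin (n + 2) → ι) :
    (taut (Y := Y) a).face j = (taut (Y := Y) (CechLow.face j a)).res (CechLow.faceMap Y j a).left := by
  ext1
  funext k
  exact congrArg (Sigma.mk (β := fun i : ι => ((∏ᶜ fun k => Y (a k)).left ⟶ (Y i).left))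
    (a (j.succAbove k))) (congrArg Over.Hom.left (CechLow.faceMap_π Y j a k)).symm

end Link

section Main

variable {C : Type u} [Category.{v} C] [LocallySmall.{w} C] {U : C} {ι : Type w} (Y : ι → Over U)
  [HasFiniteProducts (Over U)] (I : Cᵒᵖ ⥤ AddCommGrpCat.{w})

lemma map_sum_zsmul {M N : AddCommGrpCat.{w}} (f : M ⟶ N) {α : Type*} (s : Finset α) (c : α → ℤ)
    (g : α → M) : f (∑ j ∈ s, c j • g j) = ∑ j ∈ s, c j • f (g j) := by
  rw [map_sum]
  simp only [map_zsmul]

/-- the Cech complex of the presheaf `I` with respect to the family `Y` -/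
noncomputable abbrev cx : CochainComplex AddCommGrpCat.{w} ℕ :=
  (cechComplexFunctor Y).obj ((Over.forget U).op ⋙ I)

/-- the value of a cochain on a simplex -/
noncomputable def ev {n : ℕ} (x : (cx Y I).X n) {V : C} (σ : Simp Y n V) : I.obj (op V) :=
  I.map σ.lift.op (CechLow.comp Y ((Over.forget U).op ⋙ I) n σ.idx x)

omit [LocallySmall.{w} C] in
lemma ev_res {n : ℕ} (x : (cx Y I).X n) {V V' : C} (g : V' ⟶ V) (σ : Simp Y n V) :
    ev Y I x (σ.res g) = I.map g.op (ev Y I x σ) := by
  have h : ev Y I x (σ.res g) =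
      I.map (g ≫ σ.lift).op (CechLow.comp Y ((Over.forget U).op ⋙ I) n σ.idx x) :=
    congrArg (fun f : V' ⟶ (∏ᶜ fun k => Y (σ.idx k)).left =>
      I.map f.op (CechLow.comp Y ((Over.forget U).op ⋙ I) n σ.idx x)) (Simp.res_lift g σ)
  rw [h, op_comp, I.map_comp, ConcreteCategory.comp_apply]
  rfl

omit [LocallySmall.{w} C] in
lemma ev_taut {n : ℕ} (x : (cx Y I).X n) (a : Fin (n + 1) → ι) :
    ev Y I x (taut (Y := Y) a) = CechLow.comp Y ((Over.forget U).op ⋙ I) n a x := by
  have h : ev Y I x (taut (Y := Y) a) =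
      I.map (𝟙 (∏ᶜ fun k => Y (a k)).left).op (CechLow.comp Y ((Over.forget U).op ⋙ I) n a x) :=
    congrArg (fun f : (∏ᶜ fun k => Y (a k)).left ⟶ (∏ᶜ fun k => Y (a k)).left =>
      I.map f.op (CechLow.comp Y ((Over.forget U).op ⋙ I) n a x)) (taut_lift (Y := Y) a)
  rw [h, op_id, I.map_id]
  rfl

omit [LocallySmall.{w} C] in
lemma ev_d {n : ℕ} (x : (cx Y I).X n) {V : C} (σ : Simp Y (n + 1) V) :
    ev Y I ((cx Y I).d n (n + 1) x) σ =
      ∑ j : Fin (n + 2), (-1 : ℤ) ^ (j : ℕ) • ev Y I x (σ.face j) := by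
  have h : ∀ j : Fin (n + 2), ev Y I x (σ.face j) =
      I.map (σ.lift ≫ (CechLow.faceMap Y j σ.idx).left).op
        (CechLow.comp Y ((Over.forget U).op ⋙ I) n (CechLow.face j σ.idx) x) := fun j =>
    congrArg (fun f : V ⟶ (∏ᶜ fun k => Y (CechLow.face j σ.idx k)).left =>
      I.map f.op (CechLow.comp Y ((Over.forget U).op ⋙ I) n (CechLow.face j σ.idx) x))
      (Simp.face_lift j σ)
  unfold ev at h ⊢
  rw [CechLow.d_comp_apply]
  refine (map_sum_zsmul (I.map σ.lift.op) _ _ _).trans ?_
  refine Finset.sum_congr rfl (fun j _ => ?_)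
  rw [h j, op_comp, I.map_comp, ConcreteCategory.comp_apply]
  rfl

/-- the morphism from the free presheaf on simplices associated with a cochain -/
noncomputable def phi {n : ℕ} (x : (cx Y I).X n) : B Y n ⟶ I where
  app V := AddCommGrpCat.ofHom (FreeAbelianGroup.lift
    (fun s : SSimp Y n V.unop => ev Y I x ((equivShrink _).symm s)))
  naturality V V' g := by
    apply B_hom_ext
    intro σ
    change FreeAbelianGroup.lift (fun s : SSimp Y n V'.unop => ev Y I x ((equivShrink _).symm s))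
      ((B Y n).map g (gen Y σ)) = I.map g (FreeAbelianGroup.lift
        (fun s : SSimp Y n V.unop => ev Y I x ((equivShrink _).symm s))
        (FreeAbelianGroup.of (equivShrink _ σ)))
    rw [show g = g.unop.op from rfl, B_map_gen, FreeAbelianGroup.lift_apply_of,
      Equiv.symm_apply_apply]
    change FreeAbelianGroup.lift _ (FreeAbelianGroup.of _) = _
    rw [FreeAbelianGroup.lift_apply_of, Equiv.symm_apply_apply, ev_res]

lemma phi_gen {n : ℕ} (x : (cx Y I).X n) {V : C} (σ : Simp Y n V) :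
    (phi Y I x).app (op V) (gen Y σ) = ev Y I x σ := by
  change FreeAbelianGroup.lift _ (FreeAbelianGroup.of (equivShrink _ σ)) = _
  rw [FreeAbelianGroup.lift_apply_of, Equiv.symm_apply_apply]

/-- the cochain associated with a morphism from the free presheaf on simplices -/
noncomputable def cochainOf {n : ℕ} (ψ : B Y n ⟶ I) : (cx Y I).X n :=
  CechLow.mkCochain Y ((Over.forget U).op ⋙ I) n
    (fun a => ψ.app (op (∏ᶜ fun k => Y (a k)).left) (gen Y (taut (Y := Y) a)))

lemma cochainOf_phi {n : ℕ} (x : (cx Y I).X n) : cochainOf Y I (phi Y I x) = x := by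
  apply CechLow.cochain_ext
  intro a
  rw [cochainOf, CechLow.comp_mkCochain, phi_gen, ev_taut]

lemma Bd_phi {n : ℕ} (x : (cx Y I).X n) :
    Bd Y n ≫ phi Y I x = phi Y I ((cx Y I).d n (n + 1) x) := by
  ext V : 2
  apply B_hom_ext
  intro σ
  rw [NatTrans.comp_app, ConcreteCategory.comp_apply]
  change (phi Y I x).app (op V.unop) ((Bd Y n).app (op V.unop) (gen Y σ)) =
    (phi Y I ((cx Y I).d n (n + 1) x)).app (op V.unop) (gen Y σ)
  rw [Bd_app_gen, phi_gen, ev_d, map_sum]
  refine Finset.sum_congr rfl (fun j _ => ?_)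
  rw [map_zsmul, phi_gen]

lemma cochainOf_Bd {n : ℕ} (ψ : B Y n ⟶ I) :
    cochainOf Y I (Bd Y n ≫ ψ) = (cx Y I).d n (n + 1) (cochainOf Y I ψ) := by
  apply CechLow.cochain_ext
  intro a
  rw [cochainOf, CechLow.comp_mkCochain, CechLow.d_comp_apply, NatTrans.comp_app,
    ConcreteCategory.comp_apply, Bd_app_gen, map_sum]
  refine Finset.sum_congr rfl (fun j _ => ?_)
  rw [map_zsmul, cochainOf, CechLow.comp_mkCochain, taut_face, ← B_map_gen]
  congr 1
  exact (NatTrans.naturality_apply ψ (CechLow.faceMap Y j a).left.op _)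

lemma phi_zero {n : ℕ} : phi Y I (0 : (cx Y I).X n) = 0 := by
  ext V : 2
  apply B_hom_ext
  intro σ
  change (phi Y I (0 : (cx Y I).X n)).app (op V.unop) (gen Y σ) = 0
  rw [phi_gen, ev, map_zero]
  exact map_zero (I.map σ.lift.op).hom

omit [HasFiniteProducts (Over U)] in
/-- extension of a morphism vanishing on boundaries along the differential, for injective `I` -/
lemma exists_extension [Injective I] {n : ℕ} (φ : B Y (n + 1) ⟶ I)
    (hφ : Bd Y (n + 1) ≫ φ = 0) : ∃ ψ : B Y n ⟶ I, Bd Y n ≫ ψ = φ := by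
  have hk : kernel.ι (Bd Y n) ≫ φ = 0 := by
    ext V : 2
    apply AddCommGrpCat.hom_ext
    ext k
    have h0 : (Bd Y n).app (op V.unop) ((kernel.ι (Bd Y n)).app (op V.unop) k) = 0 := by
      rw [← ConcreteCategory.comp_apply, ← NatTrans.comp_app, kernel.condition]
      rfl
    obtain ⟨z, hz⟩ := exists_of_Bd_eq_zero Y _ h0
    change φ.app (op V.unop) ((kernel.ι (Bd Y n)).app (op V.unop) k) = 0
    rw [← hz, ← ConcreteCategory.comp_apply, ← NatTrans.comp_app, hφ]
    rfl
  refine ⟨Injective.factorThru (cokernel.desc (kernel.ι (Bd Y n)) φ hk)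
    (Abelian.factorThruCoimage (Bd Y n)), ?_⟩
  have h2 := Abelian.coimage.fac (Bd Y n)
  calc Bd Y n ≫ Injective.factorThru (cokernel.desc (kernel.ι (Bd Y n)) φ hk)
        (Abelian.factorThruCoimage (Bd Y n))
      = (Abelian.coimage.π (Bd Y n) ≫ Abelian.factorThruCoimage (Bd Y n)) ≫
          Injective.factorThru (cokernel.desc (kernel.ι (Bd Y n)) φ hk)
            (Abelian.factorThruCoimage (Bd Y n)) := by rw [h2]
    _ = φ := by
      rw [Category.assoc, Injective.comp_factorThru]
      exact cokernel.π_desc _ _ _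

/-- **Cech cohomology of an injective presheaf vanishes in positive degrees.** -/
theorem isZero_homology_of_injective [Injective I] (n : ℕ) :
    IsZero ((cx Y I).homology (n + 1)) := by
  apply CechLow.isZero_homology_of_forall
  intro x hx
  have h1 : Bd Y (n + 1) ≫ phi Y I x = 0 := by
    rw [Bd_phi, hx, phi_zero]
  obtain ⟨ψ, hψ⟩ := exists_extension Y I (phi Y I x) h1
  refine ⟨cochainOf Y I ψ, ?_⟩
  rw [← cochainOf_Bd, hψ, cochainOf_phi]

end Main

end Groth.Agent.Lib.CechInjGen
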