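import Groth.Agent.Lib.CechSES
import Groth.Agent.Lib.CechInjGen
import Groth.Agent.Lib.DeltaIso
import Groth.Agent.Lib.DerivedLES
import Groth.Prelude.Def_EtCech
import Mathlib.Algebra.Homology.HomologySequenceLemmas

/-!
# Cech cohomology of presheaves as a (universal) cohomological delta-functor
-/

set_option autoImplicit false

universe w v u

open CategoryTheory Limits Opposite DeltaF

namespace Groth.Agent.Lib.CechDelta

open Groth.Agent.Lib.CechLow Groth.Agent.Lib.CechLES Groth.Agent.Lib.CechSES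

section Additive

variable {D : Type u} [Category.{v} D] [HasFiniteProducts D] {ι : Type w} (Y : ι → D)

instance cechComplexFunctor_additive :
    (cechComplexFunctor (A := AddCommGrpCat.{w}) Y).Additive where
  map_add {P Q α β} := by
    ext n x
    apply cochain_ext
    intro a
    rw [HomologicalComplex.add_f_apply, AddCommGrpCat.hom_add_apply, map_add, comp_map_apply,
      comp_map_apply, comp_map_apply]
    rfl

end Additive

variable {C : Type u} [Category.{v} C] {U : C} [HasFiniteProducts (Over U)] {ι : Type w}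
  (Uf : ι → Over U)

/-- presheaves to Cech complexes -/
noncomputable abbrev cechG : (Cᵒᵖ ⥤ AddCommGrpCat.{w}) ⥤ CochainComplex AddCommGrpCat.{w} ℕ :=
  (Functor.whiskeringLeft (Over U)ᵒᵖ Cᵒᵖ AddCommGrpCat.{w}).obj (Over.forget U).op ⋙
    cechComplexFunctor Uf

instance : (cechG Uf).Additive := inferInstance

instance cechHFunctor_additive (p : ℕ) : (EtCech.cechHFunctor (C := C) Uf p).Additive :=
  inferInstanceAs ((Functor.whiskeringLeft (Over U)ᵒᵖ Cᵒᵖ AddCommGrpCat.{w}).obj (Over.forget U).op ⋙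
    cechComplexFunctor Uf ⋙ HomologicalComplex.homologyFunctor _ _ p).Additive

section SES

variable {S : ShortComplex (Cᵒᵖ ⥤ AddCommGrpCat.{w})} (hS : S.ShortExact)

include hS in
lemma eval_shortExact (V : Cᵒᵖ) : (S.map ((evaluation Cᵒᵖ AddCommGrpCat.{w}).obj V)).ShortExact :=
  hS.map_of_exact _

include hS in
lemma shortExact_map : (S.map (cechG Uf)).ShortExact := by
  have h1 : ∀ V : Cᵒᵖ, Function.Injective (S.f.app V) := fun V =>
    (AddCommGrpCat.mono_iff_injective _).1 (eval_shortExact hS V).mono_f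
  have h3 : ∀ V : Cᵒᵖ, Function.Surjective (S.g.app V) := fun V =>
    (AddCommGrpCat.epi_iff_surjective _).1 (eval_shortExact hS V).epi_g
  have h2 : ∀ (V : Cᵒᵖ) (y : S.X₂.obj V), S.g.app V y = 0 → ∃ x, S.f.app V x = y := fun V y hy =>
    (ShortComplex.ab_exact_iff _).1 (eval_shortExact hS V).exact y hy
  exact cechSC_shortExact Uf (Functor.whiskerLeft (Over.forget U).op S.f)
    (Functor.whiskerLeft (Over.forget U).op S.g)
    (by rw [← Functor.whiskerLeft_comp, S.zero]; rfl)
    (fun n a => h1 _) (fun n a => h2 _) (fun n a => h3 _)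

end SES

/-- Cech cohomology of presheaves as a cohomological delta-functor -/
noncomputable def cechDelta : CohDeltaFunctor (Cᵒᵖ ⥤ AddCommGrpCat.{w}) AddCommGrpCat.{w} ℕ where
  F n := EtCech.cechHFunctor (C := C) Uf n
  additive n := cechHFunctor_additive Uf n
  δ _ hS n₀ n₁ h := (shortExact_map Uf hS).δ n₀ n₁ h
  δ_natural hS hS' φ n₀ n₁ h :=
    (HomologicalComplex.HomologySequence.δ_naturality ((cechG Uf).mapShortComplex.map φ)
      (shortExact_map Uf hS) (shortExact_map Uf hS') n₀ n₁ h).symm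
  exact₂ _ hS n := (shortExact_map Uf hS).homology_exact₂ n
  comp_δ _ hS n₀ n₁ h := (shortExact_map Uf hS).comp_δ n₀ n₁ h
  exact₃ _ hS n₀ n₁ h := (shortExact_map Uf hS).homology_exact₃ n₀ n₁ h
  δ_comp _ hS n₀ n₁ h := (shortExact_map Uf hS).δ_comp n₀ n₁ h
  exact₁ _ hS n₀ n₁ h := (shortExact_map Uf hS).homology_exact₁ n₀ n₁ h

lemma cechDelta_F (n : ℕ) : (cechDelta Uf).F n = EtCech.cechHFunctor (C := C) Uf n := rfl

end Groth.Agent.Lib.CechDelta
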