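import Groth.Prelude.Def_CohCx
import Groth.Agent.Lib.CechLES
import Groth.Agent.Lib.SiteGlue

/-!
# Cech `0`-cocycles of an abelian sheaf for a covering family are the sections
-/

universe u

open CategoryTheory Limits Opposite

namespace Groth.Agent.Lib.CechH0

open Groth.Agent.Lib.CechLow Groth.Agent.Lib.CechLES Groth.Agent.Lib

variable {C : Type u} [SmallCategory C] [HasPullbacks C] {J : GrothendieckTopology C}
  {U : C} {ι : Type u} (Y : ι → Over U)

/-- the presheaf on `Over U` attached to a sheaf on `C` -/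
abbrev pre (G : Sheaf J AddCommGrpCat.{u}) : (Over U)ᵒᵖ ⥤ AddCommGrpCat.{u} :=
  (Over.forget U).op ⋙ G.obj

/-- the `0`-cochain of restrictions of a section over `U` -/
noncomputable def aug (G : Sheaf J AddCommGrpCat.{u}) (s : G.obj.obj (op U)) :
    ((cechComplexFunctor Y).obj (pre (U := U) G)).X 0 :=
  mkCochain Y (pre G) 0 (fun a => G.obj.map (∏ᶜ fun k => Y (a k)).hom.op s)

lemma comp_aug (G : Sheaf J AddCommGrpCat.{u}) (s : G.obj.obj (op U)) (a : Fin 1 → ι) :
    comp Y (pre G) 0 a (aug Y G s) = G.obj.map (∏ᶜ fun k => Y (a k)).hom.op s :=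
  comp_mkCochain _ _ _ _ _

lemma aug_add (G : Sheaf J AddCommGrpCat.{u}) (s t : G.obj.obj (op U)) :
    aug Y G (s + t) = aug Y G s + aug Y G t := by
  apply cochain_ext
  intro a
  rw [map_add, comp_aug, comp_aug, comp_aug, map_add]
  rfl

lemma map_aug {G G' : Sheaf J AddCommGrpCat.{u}} (φ : G ⟶ G') (s : G.obj.obj (op U)) :
    ((cechComplexFunctor Y).map (Functor.whiskerLeft (Over.forget U).op φ.hom)).f 0 (aug Y G s) =
      aug Y G' (φ.hom.app (op U) s) := by
  apply cochain_ext
  intro a
  rw [comp_map_apply, comp_aug, comp_aug]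
  exact NatTrans.naturality_apply φ.hom _ s

lemma d_aug (G : Sheaf J AddCommGrpCat.{u}) (s : G.obj.obj (op U)) :
    ((cechComplexFunctor Y).obj (pre (U := U) G)).d 0 1 (aug Y G s) = 0 := by
  apply cochain_ext
  intro a
  rw [d_comp_apply, map_zero]
  have key : ∀ j : Fin 2, (pre G).map (faceMap Y j a).op (comp Y (pre G) 0 (face j a) (aug Y G s)) =
      G.obj.map (∏ᶜ fun k => Y (a k)).hom.op s := by
    intro j
    rw [comp_aug]
    change G.obj.map (faceMap Y j a).left.op (G.obj.map _ s) = _
    rw [← ConcreteCategory.comp_apply, ← G.obj.map_comp, ← op_comp, Over.w]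
  simp only [key]
  rw [Fin.sum_univ_two]
  simp
  abel

/-- the section over `Y i` extracted from a `0`-cochain -/
noncomputable abbrev sec (G : Sheaf J AddCommGrpCat.{u})
    (x : ((cechComplexFunctor Y).obj (pre (U := U) G)).X 0) (i : ι) : G.obj.obj (op (Y i).left) :=
  zeroCochainSection Y x i

lemma comp_eq_map_sec (G : Sheaf J AddCommGrpCat.{u})
    (x : ((cechComplexFunctor Y).obj (pre (U := U) G)).X 0) (a : Fin 1 → ι) :
    comp Y (pre G) 0 a x =
      G.obj.map (Pi.π (fun k => Y (a k)) 0).left.op (sec Y G x (a 0)) := by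
  have h := CechLow.map_comp_zero Y x a (𝟙 (∏ᶜ fun k => Y (a k)))
  rw [Category.id_comp] at h
  refine Eq.trans ?_ h
  simp
  rfl

lemma sec_aug (G : Sheaf J AddCommGrpCat.{u}) (s : G.obj.obj (op U)) (i : ι) :
    sec Y G (aug Y G s) i = G.obj.map (Y i).hom.op s := by
  dsimp only [sec, zeroCochainSection]
  rw [comp_aug]
  change G.obj.map (Pi.lift (fun _ : Fin 1 => 𝟙 (Y i))).left.op (G.obj.map _ s) = _
  rw [← ConcreteCategory.comp_apply, ← G.obj.map_comp, ← op_comp, Over.w]

lemma aug_injective (hY : Sieve.ofArrows (fun i => (Y i).left) (fun i => (Y i).hom) ∈ J U)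
    (G : Sheaf J AddCommGrpCat.{u}) : Function.Injective (aug Y G) := by
  intro s t h
  apply SiteGlue.section_ext_ofArrows G (fun i => (Y i).hom) hY
  intro i
  rw [← sec_aug, ← sec_aug, h]

lemma exists_aug_eq (hY : Sieve.ofArrows (fun i => (Y i).left) (fun i => (Y i).hom) ∈ J U)
    (G : Sheaf J AddCommGrpCat.{u}) (x : ((cechComplexFunctor Y).obj (pre (U := U) G)).X 0)
    (hx : ((cechComplexFunctor Y).obj (pre (U := U) G)).d 0 1 x = 0) :
    ∃ s : G.obj.obj (op U), aug Y G s = x := by
  -- compatibility on the double fibre products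
  have hcomp : ∀ a : Fin 2 → ι,
      G.obj.map (Pi.π (fun k => Y (a k)) 1).left.op (sec Y G x (a 1)) =
        G.obj.map (Pi.π (fun k => Y (a k)) 0).left.op (sec Y G x (a 0)) := by
    intro a
    have h := congrArg (comp Y (pre G) 1 a) hx
    rw [d_comp_apply, map_zero, Fin.sum_univ_two] at h
    have key : ∀ j : Fin 2, (pre G).map (faceMap Y j a).op (comp Y (pre G) 0 (face j a) x) =
        (pre G).map (Pi.π (fun k => Y (a k)) (j.succAbove 0)).op
          (zeroCochainSection Y x (a (j.succAbove 0))) := by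
      intro j
      rw [CechLow.map_comp_zero, faceMap_π]
      rfl
    rw [key, key] at h
    have h00 : (0 : Fin 2).succAbove (0 : Fin 1) = 1 := by decide
    have h10 : (1 : Fin 2).succAbove (0 : Fin 1) = 0 := by decide
    rw [h00, h10] at h
    have h' : (pre G).map (Pi.π (fun k => Y (a k)) 1).op (zeroCochainSection Y x (a 1)) =
        (pre G).map (Pi.π (fun k => Y (a k)) 0).op (zeroCochainSection Y x (a 0)) := by
      generalize (pre G).map (Pi.π (fun k => Y (a k)) 1).op (zeroCochainSection Y x (a 1)) = A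
        at h ⊢
      generalize (pre G).map (Pi.π (fun k => Y (a k)) 0).op (zeroCochainSection Y x (a 0)) = B
        at h ⊢
      have e0 : ((0 : Fin 2) : ℕ) = 0 := rfl
      have e1 : ((1 : Fin 2) : ℕ) = 1 := rfl
      rw [e0, e1, pow_zero, pow_one, one_zsmul, neg_one_zsmul] at h
      exact add_neg_eq_zero.1 h
    exact h'
  obtain ⟨s, hs⟩ := SiteGlue.exists_amalgamation G (fun i => (Y i).hom) hY (fun i => sec Y G x i)
    (by
      intro i j W gi gj hij
      let a : Fin 2 → ι := Fin.cons i (fun _ => j)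
      let W' : Over U := Over.mk (gi ≫ (Y i).hom)
      let φ : ∀ k : Fin 2, W' ⟶ Y (a k) :=
        Fin.cons (α := fun k => W' ⟶ Y (a k)) (Over.homMk gi rfl) (fun _ => Over.homMk gj hij.symm)
      have h2 := congrArg (G.obj.map (Pi.lift φ).left.op) (hcomp a)
      rw [← ConcreteCategory.comp_apply, ← ConcreteCategory.comp_apply, ← G.obj.map_comp,
        ← G.obj.map_comp, ← op_comp, ← op_comp, ← Over.comp_left, ← Over.comp_left,
        Pi.lift_π, Pi.lift_π] at h2
      exact h2.symm)
  refine ⟨s, ?_⟩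
  apply cochain_ext
  intro a
  rw [comp_aug, comp_eq_map_sec, ← hs, ← ConcreteCategory.comp_apply, ← G.obj.map_comp,
    ← op_comp, Over.w]

end Groth.Agent.Lib.CechH0
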