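import Groth.Agent.Lib.CechSES
import Groth.Agent.Lib.CechH0
import Groth.Agent.Lib.CechInj
import Groth.Agent.Lib.SiteLES

/-!
# Cech cohomology computes sheaf cohomology for acyclic covering families

Dimension shifting along `0 → F → I → Q → 0`, no spectral sequence.
-/

universe u

open CategoryTheory Limits Opposite Abelian

namespace Groth.Agent.Lib.CechDerived

open Groth.Agent.Lib.CechLow Groth.Agent.Lib.CechLES Groth.Agent.Lib.CechSES
  Groth.Agent.Lib.CechH0 Groth.Agent.Lib.SiteCoh Groth.Agent.Lib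

section Algebra

/-- two surjective homomorphisms with the same kernel have isomorphic targets -/
lemma nonempty_addEquiv_of_ker_eq {G A B : Type*} [AddCommGroup G] [AddCommGroup A]
    [AddCommGroup B] (a : G →+ A) (b : G →+ B) (ha : Function.Surjective a)
    (hb : Function.Surjective b) (h : ∀ s, a s = 0 ↔ b s = 0) : Nonempty (A ≃+ B) := by
  have hk : a.ker = b.ker := by
    ext s
    exact h s
  exact ⟨(QuotientAddGroup.quotientKerEquivOfSurjective a ha).symm.trans
    ((QuotientAddGroup.quotientAddEquivOfEq hk).trans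
      (QuotientAddGroup.quotientKerEquivOfSurjective b hb))⟩

end Algebra

variable {C : Type u} [SmallCategory C] {J : GrothendieckTopology C}

section FreeYoneda

/-- additive version of `freeYonedaHomEquiv` -/
noncomputable def freeYonedaAddEquiv (U : C) (G : Sheaf J AddCommGrpCat.{u}) :
    (freeYoneda J U ⟶ G) ≃+ G.obj.obj (op U) where
  __ := freeYonedaHomEquiv U G
  map_add' φ ψ := by
    have key : ∀ χ : freeYoneda J U ⟶ G, freeYonedaHomEquiv U G χ =
        χ.hom.app (op U) (freeYonedaHomEquiv U _ (𝟙 (freeYoneda J U))) := by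
      intro χ
      rw [← freeYonedaHomEquiv_comp, Category.id_comp]
    change freeYonedaHomEquiv U G (φ + ψ) = freeYonedaHomEquiv U G φ + freeYonedaHomEquiv U G ψ
    rw [key (φ + ψ), key φ, key ψ, Sheaf.Hom.add_app]
    rfl

lemma freeYonedaAddEquiv_apply (U : C) (G : Sheaf J AddCommGrpCat.{u}) (φ : freeYoneda J U ⟶ G) :
    freeYonedaAddEquiv U G φ = freeYonedaHomEquiv U G φ := rfl

lemma freeYonedaAddEquiv_symm_comp (U : C) {G G' : Sheaf J AddCommGrpCat.{u}} (φ : G ⟶ G')
    (t : G.obj.obj (op U)) :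
    (freeYonedaAddEquiv U G).symm t ≫ φ = (freeYonedaAddEquiv U G').symm (φ.hom.app (op U) t) := by
  apply (freeYonedaAddEquiv U G').injective
  rw [AddEquiv.apply_symm_apply, freeYonedaAddEquiv_apply, freeYonedaHomEquiv_comp,
    ← freeYonedaAddEquiv_apply, AddEquiv.apply_symm_apply]

end FreeYoneda

section ExtSide

variable {S : ShortComplex (Sheaf J AddCommGrpCat.{u})} (hS : S.ShortExact) [Injective S.X₂]
  (U : C)

/-- `H^{p+1}(U, Q) ≃ H^{p+2}(U, F)` -/
noncomputable def extShift (p : ℕ) :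
    Ext (freeYoneda J U) S.X₃ (p + 1) ≃+ Ext (freeYoneda J U) S.X₁ (p + 2) :=
  AddEquiv.ofBijective (hS.extClass.postcomp (freeYoneda J U) (rfl : p + 1 + 1 = p + 2)) (by
    constructor
    · rw [injective_iff_map_eq_zero]
      intro x hx
      obtain ⟨x₂, rfl⟩ := Ext.covariant_sequence_exact₃ _ hS x (rfl : p + 1 + 1 = p + 2) hx
      rw [Ext.eq_zero_of_injective x₂, Ext.zero_comp]
    · intro y
      obtain ⟨x₃, hx₃⟩ := Ext.covariant_sequence_exact₁ _ hS y (Ext.eq_zero_of_injective _)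
        (rfl : p + 1 + 1 = p + 2)
      exact ⟨x₃, hx₃⟩)

/-- the connecting map `Q(U) → H^1(U, F)` -/
noncomputable def extConn : S.X₃.obj.obj (op U) →+ Ext (freeYoneda J U) S.X₁ 1 :=
  (hS.extClass.postcomp (freeYoneda J U) (zero_add 1)).comp
    ((Ext.addEquiv₀ (X := freeYoneda J U) (Y := S.X₃)).symm.toAddMonoidHom.comp
      (freeYonedaAddEquiv U S.X₃).symm.toAddMonoidHom)

lemma extConn_apply (s : S.X₃.obj.obj (op U)) :
    extConn hS U s = (Ext.mk₀ ((freeYonedaAddEquiv U S.X₃).symm s)).comp hS.extClass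
      (zero_add 1) := rfl

lemma extConn_surjective : Function.Surjective (extConn hS U) := by
  intro y
  obtain ⟨x₃, rfl⟩ := Ext.covariant_sequence_exact₁ _ hS y (Ext.eq_zero_of_injective _)
    (rfl : 0 + 1 = 1)
  obtain ⟨φ, rfl⟩ := (Ext.mk₀_bijective _ _).2 x₃
  refine ⟨freeYonedaAddEquiv U S.X₃ φ, ?_⟩
  rw [extConn_apply, AddEquiv.symm_apply_apply]

lemma extConn_eq_zero_iff (s : S.X₃.obj.obj (op U)) :
    extConn hS U s = 0 ↔ ∃ t : S.X₂.obj.obj (op U), S.g.hom.app (op U) t = s := by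
  rw [extConn_apply]
  constructor
  · intro h
    obtain ⟨x₂, hx₂⟩ := Ext.covariant_sequence_exact₃ _ hS _ (zero_add 1) h
    obtain ⟨ψ, rfl⟩ := (Ext.mk₀_bijective _ _).2 x₂
    rw [Ext.mk₀_comp_mk₀] at hx₂
    have h2 := (Ext.mk₀_bijective _ _).1 hx₂
    refine ⟨freeYonedaAddEquiv U S.X₂ ψ, ?_⟩
    rw [freeYonedaAddEquiv_apply, ← freeYonedaHomEquiv_comp, h2, ← freeYonedaAddEquiv_apply,
      AddEquiv.apply_symm_apply]
  · rintro ⟨t, rfl⟩
    rw [← freeYonedaAddEquiv_symm_comp, ← Ext.mk₀_comp_mk₀, Ext.comp_assoc_of_second_deg_zero,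
      hS.comp_extClass, Ext.comp_zero]

end ExtSide

end Groth.Agent.Lib.CechDerived
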