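import Groth.Agent.Lib.CechDerived

/-!
# Cech cohomology computes sheaf cohomology for acyclic covering families (main theorem)
-/

universe u

open CategoryTheory Limits Opposite Abelian

namespace Groth.Agent.Lib.CechDerived

open Groth.Agent.Lib.CechLow Groth.Agent.Lib.CechLES Groth.Agent.Lib.CechSES
  Groth.Agent.Lib.CechH0 Groth.Agent.Lib.SiteCoh Groth.Agent.Lib

variable {C : Type u} [SmallCategory C] [HasPullbacks C] {J : GrothendieckTopology C}
  {U : C} {ι : Type u} (Y : ι → Over U)

/-- the acyclicity hypothesis on all finite fibre products of the family -/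
def Acyclic (F : Sheaf J AddCommGrpCat.{u}) : Prop :=
  ∀ (n : ℕ) (a : Fin (n + 1) → ι) (q : ℕ),
    Subsingleton (CohSite.HU F (q + 1) (∏ᶜ fun k => Y (a k)).left)

section SES

variable {S : ShortComplex (Sheaf J AddCommGrpCat.{u})} (hS : S.ShortExact)

/-- the short complex of Cech complexes of a short complex of sheaves -/
noncomputable def cechSC' (S : ShortComplex (Sheaf J AddCommGrpCat.{u})) :
    ShortComplex (CochainComplex AddCommGrpCat.{u} ℕ) :=
  cechSC Y (Functor.whiskerLeft (Over.forget U).op S.f.hom)
    (Functor.whiskerLeft (Over.forget U).op S.g.hom) (by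
      rw [← Functor.whiskerLeft_comp, ← ObjectProperty.FullSubcategory.comp_hom, S.zero]
      rfl)

include hS in
lemma cechSC'_shortExact (hF : Acyclic Y S.X₁) : (cechSC' Y S).ShortExact := by
  have hm := hS.mono_f
  apply cechSC_shortExact
  · intro n a
    exact SiteCoh.injective_app_of_mono S.f _
  · intro n a y hy
    exact SiteGlue.exists_of_app_g_eq_zero hS _ y hy
  · intro n a
    exact SiteLES.surjective_of_subsingleton_HU_one hS _ (hF n a 0)

include hS in
lemma acyclic_X₃ [Injective S.X₂] (hF : Acyclic Y S.X₁) : Acyclic Y S.X₃ :=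
  fun n a q => SiteLES.subsingleton_HU_succ_of_succ_succ hS _ q (hF n a (q + 1))

lemma isZero_homology_X₂ [Injective S.X₂] (n : ℕ) :
    IsZero ((cechSC' Y S).X₂.homology (n + 1)) := by
  have hinj : Injective S.X₂.obj := by
    have h : Injective ((sheafToPresheaf J AddCommGrpCat.{u}).obj S.X₂) :=
      Injective.injective_of_adjoint (sheafificationAdjunction J AddCommGrpCat.{u}) _
    exact h
  exact CechInj.isZero_homology_of_injective Y S.X₂.obj n

end SES

end Groth.Agent.Lib.CechDerived
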