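import Groth.Prelude.Def_CechEdge
import Groth.Agent.Lib.CochainAb
import Groth.Agent.Lib.CechH0

/-!
# The canonical map `P(U) → Ȟ^0(Y, P)`: elementwise description, naturality, and bijectivity
for sheaves and covering families
-/

set_option autoImplicit false

universe u

open CategoryTheory Limits Opposite

namespace Groth.Agent.Lib.CechEdgeA

open Groth.Agent.Lib.CechLow Groth.Agent.Lib.CechLES Groth.Agent.Lib.CechH0
  Groth.Agent.Lib.CochainAb Groth.Agent.Lib CechEdge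

variable {C : Type u} [SmallCategory C] [HasPullbacks C]
  {U : C} {ι : Type u} (Y : ι → Over U)

lemma comp_toCech₀ (P : Cᵒᵖ ⥤ AddCommGrpCat.{u}) (s : P.obj (op U)) (a : Fin 1 → ι) :
    comp Y ((Over.forget U).op ⋙ P) 0 a (toCech₀ P Y s) =
      P.map (∏ᶜ fun k => Y (a k)).hom.op s := by
  rw [← ConcreteCategory.comp_apply]
  congr 2
  exact Pi.lift_π _ _

lemma toCech₀_d_apply (P : Cᵒᵖ ⥤ AddCommGrpCat.{u}) (s : P.obj (op U)) :
    (cx P Y).d 0 1 (toCech₀ P Y s) = 0 := by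
  rw [← ConcreteCategory.comp_apply, toCech₀_d]
  rfl

lemma toCech_eq_cls (P : Cᵒᵖ ⥤ AddCommGrpCat.{u}) (s : P.obj (op U)) :
    toCech Y P s = cls (cx P Y) 0 (toCech₀ P Y s) (toCech₀_d_apply Y P s) := by
  rw [cls_def]
  change (cx P Y).homologyπ 0 (toCycles P Y s) = _
  congr 1
  apply iCycles_injective
  rw [iCycles_toCyc_apply, ← ConcreteCategory.comp_apply, toCycles_i]

lemma map_toCech₀ {P Q : Cᵒᵖ ⥤ AddCommGrpCat.{u}} (φ : P ⟶ Q) (s : P.obj (op U)) :
    ((cxFunctor Y).map φ).f 0 (toCech₀ P Y s) = toCech₀ Q Y (φ.app (op U) s) := by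
  apply cochain_ext Y ((Over.forget U).op ⋙ Q) 0
  intro a
  refine (comp_map_apply Y (Functor.whiskerLeft (Over.forget U).op φ) 0 a _).trans ?_
  rw [comp_toCech₀]
  refine Eq.trans ?_ (comp_toCech₀ Y Q _ a).symm
  exact NatTrans.naturality_apply φ _ s

theorem toCech_natural {P Q : Cᵒᵖ ⥤ AddCommGrpCat.{u}} (φ : P ⟶ Q) (s : P.obj (op U)) :
    cechHMap Y φ 0 (toCech Y P s) = toCech Y Q (φ.app (op U) s) := by
  rw [toCech_eq_cls, toCech_eq_cls]
  refine (homologyMap_cls 0 ((cxFunctor Y).map φ) _ _).trans ?_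
  exact cls_congr _ 0 (map_toCech₀ Y φ s) _

lemma toCech_eq_zero_iff (P : Cᵒᵖ ⥤ AddCommGrpCat.{u}) (s : P.obj (op U)) :
    toCech Y P s = 0 ↔ toCech₀ P Y s = 0 := by
  constructor
  · intro h
    rw [toCech_eq_cls] at h
    exact eq_zero_of_cls_zero_eq_zero _ _ _ h
  · intro h
    rw [toCech_eq_cls, cls_congr _ 0 h]
    exact map_zero (clsHom (cx P Y) 0)

lemma exists_toCech_eq_iff (P : Cᵒᵖ ⥤ AddCommGrpCat.{u}) :
    Function.Surjective (toCech Y P) ↔
      ∀ z : (cx P Y).X 0, (cx P Y).d 0 1 z = 0 → ∃ s, toCech₀ P Y s = z := by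
  constructor
  · intro h z hz
    obtain ⟨s, hs⟩ := h (cls (cx P Y) 0 z hz)
    refine ⟨s, ?_⟩
    rw [toCech_eq_cls] at hs
    have h2 : cls (cx P Y) 0 (toCech₀ P Y s - z)
        (by rw [map_sub, toCech₀_d_apply, hz, sub_zero]) = 0 := by
      have := map_sub (clsHom (cx P Y) 0) ⟨toCech₀ P Y s, toCech₀_d_apply Y P s⟩ ⟨z, hz⟩
      change cls _ _ _ _ = cls _ _ _ _ - cls _ _ _ _ at this
      rw [this, hs, sub_self]
    exact sub_eq_zero.1 (eq_zero_of_cls_zero_eq_zero _ _ _ h2)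
  · intro h y
    obtain ⟨z, hz, rfl⟩ := exists_cls_eq (cx P Y) 0 y
    obtain ⟨s, rfl⟩ := h z hz
    exact ⟨s, toCech_eq_cls Y P s⟩

variable {J : GrothendieckTopology C}

lemma toCech₀_eq_aug (G : Sheaf J AddCommGrpCat.{u}) (s : G.obj.obj (op U)) :
    toCech₀ G.obj Y s = aug Y G s := by
  apply cochain_ext
  intro a
  rw [comp_aug]
  exact comp_toCech₀ Y G.obj s a

/-- for a sheaf and a covering family, `toCech` is bijective -/
theorem toCech_bijective (hY : Sieve.ofArrows (fun i => (Y i).left) (fun i => (Y i).hom) ∈ J U)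
    (G : Sheaf J AddCommGrpCat.{u}) : Function.Bijective (toCech Y G.obj) := by
  constructor
  · rw [injective_iff_map_eq_zero]
    intro s hs
    rw [toCech_eq_zero_iff, toCech₀_eq_aug] at hs
    apply aug_injective Y hY G
    rw [hs, ← toCech₀_eq_aug, map_zero]
  · rw [exists_toCech_eq_iff]
    intro z hz
    obtain ⟨s, hs⟩ := exists_aug_eq Y hY G z hz
    exact ⟨s, (toCech₀_eq_aug Y G s).trans hs⟩

end Groth.Agent.Lib.CechEdgeA
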