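import Mathlib.CategoryTheory.Abelian.GrothendieckCategory.EnoughInjectives
import Mathlib.CategoryTheory.Abelian.GrothendieckAxioms.FunctorCategory
import Mathlib.CategoryTheory.Generator.Presheaf
import Mathlib.Algebra.Category.Grp.AB
import Mathlib.Algebra.Category.ModuleCat.Presheaf.Generator
import Mathlib.Algebra.Category.ModuleCat.Presheaf.Colimits
import Mathlib.Algebra.Category.ModuleCat.Presheaf.Limits
import Mathlib.Algebra.Category.ModuleCat.Presheaf.Abelian
import Mathlib.CategoryTheory.Functor.ReflectsIso.Balanced

/-!
Functorial injective embeddings in Grothendieck abelian categories, and the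
Grothendieck abelian structure on presheaves of abelian groups and presheaves of modules.
-/

set_option autoImplicit false
universe w v u

namespace Groth.Agent.Lib.FunctorialInjective

open CategoryTheory Limits ZeroObject

/-- A Grothendieck abelian category has functorial injective embeddings
(from the functorial factorization given by the small object argument). -/
theorem exists_functorial_injective_embedding {A : Type u} [Category.{v} A] [Abelian A]
    [IsGrothendieckAbelian.{w} A] :
    ∃ (J : A ⥤ A) (j : 𝟭 _ ⟶ J), ∀ F : A, Injective (J.obj F) ∧ Mono (j.app F) := by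
  let d := MorphismProperty.functorialFactorizationData
    (MorphismProperty.monomorphisms A) (MorphismProperty.monomorphisms A).rlp
  let toZero : A ⥤ Arrow A :=
    { obj := fun X => Arrow.mk (0 : X ⟶ 0)
      map := fun {X Y} f => Arrow.homMk f (𝟙 0) (by simp) }
  refine ⟨toZero ⋙ d.Z, Functor.whiskerLeft toZero d.i, fun X => ⟨?_, ?_⟩⟩
  · have hp := d.hp (toZero.obj X)
    have : d.p.app (toZero.obj X) = 0 := (isZero_zero A).eq_of_tgt _ _
    rw [this] at hp
    exact (injective_iff_rlp_monomorphisms_zero _).2 hp
  · exact d.hi (toZero.obj X)

/-- Presheaves of abelian groups on a small category form a Grothendieck abelian category. -/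
theorem isGrothendieckAbelian_presheafAb {C : Type u} [SmallCategory C] :
    IsGrothendieckAbelian.{u} (Cᵒᵖ ⥤ AddCommGrpCat.{u}) where
  ab5OfSize := ⟨fun J _ _ => inferInstance⟩

theorem hasSeparator_presheafOfModules {C : Type u} [SmallCategory C] (O : Cᵒᵖ ⥤ RingCat.{u}) :
    HasSeparator (PresheafOfModules.{u} O) :=
  ⟨_, (PresheafOfModules.freeYoneda.isSeparating O).isSeparator_coproduct⟩

/-- Presheaves of modules on a small category form a Grothendieck abelian category. -/
theorem isGrothendieckAbelian_presheafOfModules {C : Type u} [SmallCategory C]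
    (O : Cᵒᵖ ⥤ RingCat.{u}) :
    IsGrothendieckAbelian.{u} (PresheafOfModules.{u} O) where
  ab5OfSize := ⟨fun J _ _ =>
    HasExactColimitsOfShape.domain_of_functor J (PresheafOfModules.toPresheaf O)⟩
  hasSeparator := hasSeparator_presheafOfModules O

end Groth.Agent.Lib.FunctorialInjective
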