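import Groth.Agent.Lib.CechEdgeA
import Groth.Agent.Lib.CechEdgeB
import Groth.Agent.Lib.CechDelta2
import Groth.Agent.Lib.DeltaUniv
import Groth.Agent.Lib.FunctorialInjective

/-!
# The degree-zero comparison `Ȟ^0(Y, P) → H^0(U, P^#)` as a natural transformation
-/

set_option autoImplicit false



universe u

open CategoryTheory Limits Opposite DeltaF Abelian

namespace Groth.Agent.Lib.CechEdgeC

open Groth.Agent.Lib.ExtDelta Groth.Agent.Lib.CechEdgeA Groth.Agent.Lib.CechEdgeB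
  Groth.Agent.Lib.CechDelta CechEdge

variable {C : Type u} [SmallCategory C] [HasPullbacks C] {J : GrothendieckTopology C}
  {U : C} {ι : Type u} (Y : ι → Over U)

lemma cechHMap_comp {P Q R : Cᵒᵖ ⥤ AddCommGrpCat.{u}} (φ : P ⟶ Q) (ψ : Q ⟶ R) (p : ℕ)
    (x : CohCx.cechH P Y p) :
    cechHMap Y (φ ≫ ψ) p x = cechHMap Y ψ p (cechHMap Y φ p x) := by
  change (HomologicalComplex.homologyMap ((cxFunctor Y).map (φ ≫ ψ)) p) x = _
  rw [Functor.map_comp, HomologicalComplex.homologyMap_comp]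
  rfl

omit [HasPullbacks C] in
/-- naturality of `sectH0` -/
lemma HUmap_sectH0 {F G : Sheaf J AddCommGrpCat.{u}} (ψ : F ⟶ G) (s : F.obj.obj (op U)) :
    HUmap ψ 0 U (sectH0 J U F s) = sectH0 J U G (ψ.hom.app (op U) s) := by
  rw [sectH0_apply, sectH0_apply]
  refine (HUmap_apply U ψ 0 _).trans ?_
  rw [Ext.mk₀_comp_mk₀]
  congr 1
  apply (CohFree.homEquivSect J U G).injective
  rw [CohFree.homEquivSect_apply, CohFree.homEquivSect_apply, CohFree.evalGen_ofSect]
  change (ψ.hom.app (op U)).hom (CohFree.evalGen J U F (CohFree.ofSect J U F s)) = _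
  rw [CohFree.evalGen_ofSect]

variable (hY : Sieve.ofArrows (fun i => (Y i).left) (fun i => (Y i).hom) ∈ J U)

/-- `Ȟ^0(Y, G) ≃ G(U)` for a sheaf `G` and a covering family -/
noncomputable def h0e (G : Sheaf J AddCommGrpCat.{u}) :
    CohCx.cechH G.obj Y 0 ≃+ G.obj.obj (op U) :=
  (AddEquiv.ofBijective (toCech Y G.obj) (toCech_bijective Y hY G)).symm

lemma h0e_toCech (G : Sheaf J AddCommGrpCat.{u}) (s : G.obj.obj (op U)) :
    h0e Y hY G (toCech Y G.obj s) = s :=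
  (AddEquiv.ofBijective (toCech Y G.obj) (toCech_bijective Y hY G)).symm_apply_apply s

lemma toCech_h0e (G : Sheaf J AddCommGrpCat.{u}) (y : CohCx.cechH G.obj Y 0) :
    toCech Y G.obj (h0e Y hY G y) = y :=
  (AddEquiv.ofBijective (toCech Y G.obj) (toCech_bijective Y hY G)).apply_symm_apply y

/-- naturality of `h0e` in the sheaf -/
lemma h0e_natural {F G : Sheaf J AddCommGrpCat.{u}} (ψ : F ⟶ G) (y : CohCx.cechH F.obj Y 0) :
    h0e Y hY G (cechHMap Y ψ.hom 0 y) = ψ.hom.app (op U) (h0e Y hY F y) := by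
  obtain ⟨s, rfl⟩ := (toCech_bijective Y hY F).2 y
  rw [toCech_natural, h0e_toCech, h0e_toCech]

variable (J) in
/-- the degree zero comparison map, as an additive map -/
noncomputable def t0Hom (P : Cᵒᵖ ⥤ AddCommGrpCat.{u}) :
    CohCx.cechH P Y 0 →+ CohSite.HU (shf J P) 0 U :=
  (sectH0 J U (shf J P)).toAddMonoidHom.comp
    ((h0e Y hY (shf J P)).toAddMonoidHom.comp (cechHMap Y (toSheafify J P) 0))

lemma t0Hom_apply (P : Cᵒᵖ ⥤ AddCommGrpCat.{u}) (x : CohCx.cechH P Y 0) :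
    t0Hom J Y hY P x =
      sectH0 J U (shf J P) (h0e Y hY (shf J P) (cechHMap Y (toSheafify J P) 0 x)) := rfl

lemma t0Hom_toCech (P : Cᵒᵖ ⥤ AddCommGrpCat.{u}) (s : P.obj (op U)) :
    t0Hom J Y hY P (toCech Y P s) =
      sectH0 J U (shf J P) (((toSheafify J P).app (op U)).hom s) := by
  rw [t0Hom_apply, toCech_natural, h0e_toCech]

lemma t0Hom_natural {P Q : Cᵒᵖ ⥤ AddCommGrpCat.{u}} (φ : P ⟶ Q) (x : CohCx.cechH P Y 0) :
    t0Hom J Y hY Q (cechHMap Y φ 0 x) = HUmap (shfMap J φ) 0 U (t0Hom J Y hY P x) := by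
  rw [t0Hom_apply, t0Hom_apply, HUmap_sectH0, ← h0e_natural, ← cechHMap_comp, ← cechHMap_comp]
  congr 4
  exact toSheafify_naturality J φ

end Groth.Agent.Lib.CechEdgeC
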