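import Groth.Agent.Lib.CechEdgeC

/-!
# Edge families are the morphisms of delta-functors from Cech cohomology to `H^•(U, (-)^#)`
extending the degree zero comparison: existence and uniqueness
-/

set_option autoImplicit false



universe u

open CategoryTheory Limits Opposite DeltaF Abelian

namespace Groth.Agent.Lib.CechEdgeD

open Groth.Agent.Lib.ExtDelta Groth.Agent.Lib.CechEdgeA Groth.Agent.Lib.CechEdgeB
  Groth.Agent.Lib.CechEdgeC Groth.Agent.Lib.CechDelta CechEdge

variable {C : Type u} [SmallCategory C] [HasPullbacks C] {J : GrothendieckTopology C}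
  {U : C} {ι : Type u} (Y : ι → Over U)

theorem cechDelta_isUniversal : (cechDelta Y).IsUniversal := by
  have := Groth.Agent.Lib.FunctorialInjective.isGrothendieckAbelian_presheafAb (C := C)
  exact DeltaUniv.isUniversal_of_isEffaceable _ (cechDelta_isEffaceable Y)

omit [HasPullbacks C] in
lemma HUmap_eq_hF_map {F G : Sheaf J AddCommGrpCat.{u}} (ψ : F ⟶ G) (p : ℕ)
    (x : Ext (CohCx.freeSheaf J U) F p) :
    HUmap ψ p U x = (hF (CohCx.freeSheaf J U) p).map ψ x :=
  (HUmap_apply U ψ p x).trans (hF_map_apply _ p ψ x).symm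

omit [HasPullbacks C] in
lemma HUmap_bijective_of_isIso {F G : Sheaf J AddCommGrpCat.{u}} (ψ : F ⟶ G) [IsIso ψ] (p : ℕ) :
    Function.Bijective (HUmap ψ p U) := by
  have hb := ConcreteCategory.bijective_of_isIso ((hF (CohCx.freeSheaf J U) p).map ψ)
  constructor
  · intro x y hxy
    apply hb.1
    exact (HUmap_eq_hF_map ψ p x).symm.trans (hxy.trans (HUmap_eq_hF_map ψ p y))
  · intro y
    obtain ⟨x, hx⟩ := hb.2 y
    exact ⟨x, (HUmap_eq_hF_map ψ p x).trans hx⟩

section Edge

variable {Y}
variable {e : ∀ (P : Cᵒᵖ ⥤ AddCommGrpCat.{u}) (p : ℕ),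
  CohCx.cechH P Y p →+ CohSite.HU (shf J P) p U}

/-- a family of maps, natural and compatible with connecting maps, as a morphism of delta-functors -/
noncomputable def homOfEdge (he : IsEdge J Y e) : cechDelta Y ⟶ hDelta J U where
  app p :=
    { app := fun P => AddCommGrpCat.ofHom (e P p)
      naturality := fun P Q φ => by
        ext x
        exact (he.natural P Q φ p x).trans (HUmap_eq_hF_map _ p _) }
  comm S hS n₀ n₁ h := by
    subst h
    ext x
    exact he.delta S hS (shortExact_map Y hS) n₀ x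

lemma homOfEdge_app_app (he : IsEdge J Y e) (p : ℕ) (P : Cᵒᵖ ⥤ AddCommGrpCat.{u}) :
    (((homOfEdge he).app p).app P).hom = e P p := rfl

/-- in degree zero an edge family is bijective on sheaves -/
lemma edge_zero_bijective (he : IsEdge J Y e) (G : Sheaf J AddCommGrpCat.{u}) :
    Function.Bijective (e G.obj 0) := by
  have h1 : (e G.obj 0) ∘ (toCech Y G.obj) =
      (sectH0 J U (shf J G.obj)) ∘ (((toSheafify J G.obj).app (op U)).hom) := by
    funext s
    exact he.zero G.obj s
  have h2 : Function.Bijective ((e G.obj 0) ∘ (toCech Y G.obj)) := by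
    rw [h1]
    refine (sectH0 J U (shf J G.obj)).bijective.comp ?_
    have : IsIso (toSheafify J G.obj) := isIso_toSheafify J G.property
    exact ConcreteCategory.bijective_of_isIso ((toSheafify J G.obj).app (op U))
  exact (Function.Bijective.of_comp_iff _ (toCech_bijective Y he.cover G)).1 h2

/-- the degree zero part of an edge family is determined -/
lemma edge_zero_eq {e' : ∀ (P : Cᵒᵖ ⥤ AddCommGrpCat.{u}) (p : ℕ),
    CohCx.cechH P Y p →+ CohSite.HU (shf J P) p U} (he : IsEdge J Y e) (he' : IsEdge J Y e')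
    (P : Cᵒᵖ ⥤ AddCommGrpCat.{u}) (x : CohCx.cechH P Y 0) : e P 0 x = e' P 0 x := by
  apply (HUmap_bijective_of_isIso (U := U) (shfMap J (toSheafify J P)) 0).1
  rw [← he.natural, ← he'.natural]
  obtain ⟨s, hs⟩ := (toCech_bijective Y he.cover (shf J P)).2 (cechHMap Y (toSheafify J P) 0 x)
  rw [← hs, he.zero, he'.zero]

/-- **uniqueness of edge families** -/
theorem isEdge_unique {e' : ∀ (P : Cᵒᵖ ⥤ AddCommGrpCat.{u}) (p : ℕ),
    CohCx.cechH P Y p →+ CohSite.HU (shf J P) p U} (he : IsEdge J Y e) (he' : IsEdge J Y e') :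
    e = e' := by
  have huniv := cechDelta_isUniversal Y (hDelta J U) ((homOfEdge he).app 0)
  have h1 : homOfEdge he = homOfEdge he' := by
    refine huniv.unique rfl ?_
    ext P x
    exact (edge_zero_eq he he' P x).symm
  funext P p
  exact congrArg (fun τ : cechDelta Y ⟶ hDelta J U => ((τ.app p).app P).hom) h1

end Edge

variable (J)
variable (hY : Sieve.ofArrows (fun i => (Y i).left) (fun i => (Y i).hom) ∈ J U)

/-- the degree zero natural transformation -/
noncomputable def t0 : (cechDelta Y).F 0 ⟶ (hDelta J U).F 0 where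
  app P := AddCommGrpCat.ofHom (t0Hom J Y hY P)
  naturality P Q φ := by
    ext x
    exact (t0Hom_natural Y hY φ x).trans (HUmap_eq_hF_map _ 0 _)

include hY in
/-- **existence of edge families** -/
theorem exists_isEdge : ∃ e : ∀ (P : Cᵒᵖ ⥤ AddCommGrpCat.{u}) (p : ℕ),
    CohCx.cechH P Y p →+ CohSite.HU (shf J P) p U, IsEdge J Y e := by
  obtain ⟨τ, hτ, -⟩ := cechDelta_isUniversal Y (hDelta J U) (t0 J Y hY)
  refine ⟨fun P p => ((τ.app p).app P).hom, hY, ?_, ?_, ?_⟩
  · intro P s
    have h := congrArg (fun t : (cechDelta Y).F 0 ⟶ (hDelta J U).F 0 =>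
      (t.app P).hom (toCech Y P s)) hτ
    exact h.trans (t0Hom_toCech Y hY P s)
  · intro P Q φ p x
    have h := ConcreteCategory.congr_hom ((τ.app p).naturality φ) x
    exact h.trans (HUmap_eq_hF_map _ p _).symm
  · intro S hS hC p x
    exact ConcreteCategory.congr_hom (τ.comm S hS p (p + 1) rfl) x

end Groth.Agent.Lib.CechEdgeD
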