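import Groth.Agent.Lib.CechEdgeD
import Groth.Agent.Lib.SiteLES

/-!
# Sheafification of a short exact sequence of presheaves: the unit on the cokernel, and
maps of presheaves inducing isomorphisms on Cech cohomology
-/

set_option autoImplicit false

universe u

open CategoryTheory Limits Opposite DeltaF Abelian

namespace Groth.Agent.Lib.CechEdgeE

open Groth.Agent.Lib.CechLow Groth.Agent.Lib.CechLES Groth.Agent.Lib.CechDelta CechEdge

section Unit

variable {C : Type u} [SmallCategory C] {J : GrothendieckTopology C}
  {S : ShortComplex (Cᵒᵖ ⥤ AddCommGrpCat.{u})} (hS : S.ShortExact)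

variable (J S) in
/-- the sheafified short complex -/
noncomputable abbrev shS : ShortComplex (Sheaf J AddCommGrpCat.{u}) :=
  S.map (presheafToSheaf J AddCommGrpCat.{u})

include hS in
lemma shS_shortExact : (shS J S).ShortExact := hS.map_of_exact _

variable (J) in
lemma unit_natural_apply {P Q : Cᵒᵖ ⥤ AddCommGrpCat.{u}} (φ : P ⟶ Q) (V : Cᵒᵖ) (x : P.obj V) :
    (toSheafify J Q).app V (φ.app V x) =
      ((presheafToSheaf J AddCommGrpCat.{u}).map φ).hom.app V ((toSheafify J P).app V x) := by
  have h := ConcreteCategory.congr_hom (NatTrans.congr_app (toSheafify_naturality J φ) V) x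
  rw [NatTrans.comp_app, NatTrans.comp_app, ConcreteCategory.comp_apply,
    ConcreteCategory.comp_apply] at h
  exact h

include hS in
/-- the unit on the cokernel presheaf is injective where the unit on the kernel is surjective
and the unit on the middle term is injective -/
lemma unit₃_injective (V : Cᵒᵖ) (h1 : Function.Surjective ((toSheafify J S.X₁).app V))
    (h2 : Function.Injective ((toSheafify J S.X₂).app V)) :
    Function.Injective ((toSheafify J S.X₃).app V) := by
  rw [injective_iff_map_eq_zero]
  intro q hq
  have hg : Function.Surjective (S.g.app V) :=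
    (AddCommGrpCat.epi_iff_surjective _).1 (eval_shortExact hS V).epi_g
  obtain ⟨i, rfl⟩ := hg q
  rw [unit_natural_apply] at hq
  obtain ⟨φ, hφ⟩ := SiteGlue.exists_of_app_g_eq_zero (shS_shortExact (J := J) hS) V.unop _ hq
  obtain ⟨φ', rfl⟩ := h1 φ
  have hφ' : (toSheafify J S.X₂).app V (S.f.app V φ') = (toSheafify J S.X₂).app V i := by
    rw [unit_natural_apply]
    exact hφ
  rw [← h2 hφ', ← ConcreteCategory.comp_apply, ← NatTrans.comp_app, S.zero]
  rfl

/-- the unit on the cokernel presheaf is surjective where the unit on the middle term is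
surjective and the sheafified epimorphism is surjective on sections -/
lemma unit₃_surjective (V : Cᵒᵖ) (h2 : Function.Surjective ((toSheafify J S.X₂).app V))
    (hg : Function.Surjective ((shS J S).g.hom.app V)) :
    Function.Surjective ((toSheafify J S.X₃).app V) := by
  intro q
  obtain ⟨i', rfl⟩ := hg q
  obtain ⟨i, rfl⟩ := h2 i'
  exact ⟨S.g.app V i, unit_natural_apply J S.g V i⟩

lemma unit_bijective_of_isSheaf {P : Cᵒᵖ ⥤ AddCommGrpCat.{u}} (hP : Presheaf.IsSheaf J P)
    (V : Cᵒᵖ) : Function.Bijective ((toSheafify J P).app V) := by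
  have : IsIso (toSheafify J P) := isIso_toSheafify J hP
  exact ConcreteCategory.bijective_of_isIso ((toSheafify J P).app V)

end Unit

section Cech

variable {C : Type u} [SmallCategory C] [HasPullbacks C]
  {U : C} {ι : Type u} (Y : ι → Over U) {P Q : Cᵒᵖ ⥤ AddCommGrpCat.{u}} (η : P ⟶ Q)

lemma cxMap_f_injective (n : ℕ)
    (h : ∀ a : Fin (n + 1) → ι, Function.Injective (η.app (op (∏ᶜ fun k => Y (a k)).left))) :
    Function.Injective (((cxFunctor Y).map η).f n) := by
  intro x y hxy
  apply cochain_ext Y ((Over.forget U).op ⋙ P) n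
  intro a
  apply h a
  have h1 := comp_map_apply Y (Functor.whiskerLeft (Over.forget U).op η) n a x
  have h2 := comp_map_apply Y (Functor.whiskerLeft (Over.forget U).op η) n a y
  exact h1.symm.trans ((congrArg _ hxy).trans h2)

lemma cxMap_f_surjective (n : ℕ)
    (h : ∀ a : Fin (n + 1) → ι, Function.Surjective (η.app (op (∏ᶜ fun k => Y (a k)).left))) :
    Function.Surjective (((cxFunctor Y).map η).f n) := by
  intro y
  choose s hs using fun a => h a (comp Y ((Over.forget U).op ⋙ Q) n a y)
  refine ⟨mkCochain Y ((Over.forget U).op ⋙ P) n s, ?_⟩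
  apply cochain_ext Y ((Over.forget U).op ⋙ Q) n
  intro a
  refine (comp_map_apply Y (Functor.whiskerLeft (Over.forget U).op η) n a _).trans ?_
  refine (congrArg _ (comp_mkCochain Y ((Over.forget U).op ⋙ P) n s a)).trans ?_
  exact hs a

/-- a morphism of presheaves which is bijective on all iterated fibre products of the family
induces bijections on Cech cohomology -/
theorem cechHMap_bijective (h : ∀ (n : ℕ) (a : Fin (n + 1) → ι),
    Function.Bijective (η.app (op (∏ᶜ fun k => Y (a k)).left))) (p : ℕ) :
    Function.Bijective (cechHMap Y η p) := by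
  have h1 : ∀ n, IsIso (((cxFunctor Y).map η).f n) := fun n =>
    (ConcreteCategory.isIso_iff_bijective _).2
      ⟨cxMap_f_injective Y η n (fun a => (h n a).1), cxMap_f_surjective Y η n (fun a => (h n a).2)⟩
  have h2 : IsIso ((cxFunctor Y).map η) := HomologicalComplex.Hom.isIso_of_components _
  have h3 : IsIso (HomologicalComplex.homologyMap ((cxFunctor Y).map η) p) := inferInstance
  exact ConcreteCategory.bijective_of_isIso _

/-- a morphism of presheaves which is injective on the members of the family is injective on
`Ȟ^0` -/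
theorem cechHMap_zero_injective
    (h : ∀ a : Fin 1 → ι, Function.Injective (η.app (op (∏ᶜ fun k => Y (a k)).left))) :
    Function.Injective (cechHMap Y η 0) :=
  homologyMap_zero_injective _ (cxMap_f_injective Y η 0 h)

end Cech

end Groth.Agent.Lib.CechEdgeE
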