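import Groth.Prelude.Def_DeltaF
import Mathlib.Algebra.Homology.ShortComplex.Ab
import Mathlib.Algebra.Category.Grp.Abelian
import Mathlib.Algebra.Category.Grp.Zero

/-!
# Dimension shifting for a morphism of delta-functors with values in abelian groups
-/

set_option autoImplicit false

universe u

open CategoryTheory Limits DeltaF

namespace Groth.Agent.Lib.DeltaFour

variable {A : Type*} [Category A] [Abelian A] {T T' : CohDeltaFunctor A AddCommGrpCat.{u} ℕ}
  (τ : T ⟶ T') {S : ShortComplex A} (hS : S.ShortExact) (n : ℕ)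

lemma map_eq_zero_of_isZero {M N : AddCommGrpCat.{u}} (hN : IsZero N) (f : M ⟶ N) (x : M) :
    f x = 0 := by
  have h := ConcreteCategory.congr_hom (hN.eq_of_tgt f 0) x
  exact h

lemma comm_apply (y : (T.F n).obj S.X₃) :
    (τ.app (n + 1)).app S.X₁ (T.δ S hS n (n + 1) rfl y) =
      T'.δ S hS n (n + 1) rfl ((τ.app n).app S.X₃ y) := by
  have hc := ConcreteCategory.congr_hom (τ.comm S hS n (n + 1) rfl) y
  rw [ConcreteCategory.comp_apply, ConcreteCategory.comp_apply] at hc
  exact hc

lemma naturality_apply {X X' : A} (f : X ⟶ X') (m : ℕ) (w : (T.F m).obj X) :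
    (τ.app m).app X' ((T.F m).map f w) = (T'.F m).map f ((τ.app m).app X w) := by
  have hn := ConcreteCategory.congr_hom ((τ.app m).naturality f) w
  rw [ConcreteCategory.comp_apply, ConcreteCategory.comp_apply] at hn
  exact hn

include hS in
/-- injectivity propagates one degree up along a short exact sequence whose middle term is
acyclic for the source -/
lemma injective_succ (hz : IsZero ((T.F (n + 1)).obj S.X₂))
    (h3 : Function.Injective ((τ.app n).app S.X₃))
    (h2 : Function.Surjective ((τ.app n).app S.X₂)) :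
    Function.Injective ((τ.app (n + 1)).app S.X₁) := by
  rw [injective_iff_map_eq_zero]
  intro x hx
  have hex1 := T.exact₁ S hS n (n + 1) rfl
  rw [ShortComplex.ab_exact_iff] at hex1
  obtain ⟨y, rfl⟩ := hex1 x (map_eq_zero_of_isZero hz _ _)
  change (τ.app (n + 1)).app S.X₁ (T.δ S hS n (n + 1) rfl y) = 0 at hx
  rw [comm_apply] at hx
  have hex3 := T'.exact₃ S hS n (n + 1) rfl
  rw [ShortComplex.ab_exact_iff] at hex3
  obtain ⟨w, hw⟩ := hex3 _ hx
  obtain ⟨w', rfl⟩ := h2 w
  change (T'.F n).map S.g ((τ.app n).app S.X₂ w') = _ at hw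
  rw [← naturality_apply] at hw
  have hy : (T.F n).map S.g w' = y := h3 hw
  rw [← hy]
  change (T.δ S hS n (n + 1) rfl) ((T.F n).map S.g w') = 0
  rw [← ConcreteCategory.comp_apply, T.comp_δ]
  rfl

include hS in
/-- surjectivity propagates one degree up along a short exact sequence whose middle term is
acyclic for the target -/
lemma surjective_succ (hz' : IsZero ((T'.F (n + 1)).obj S.X₂))
    (h3 : Function.Surjective ((τ.app n).app S.X₃)) :
    Function.Surjective ((τ.app (n + 1)).app S.X₁) := by
  intro z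
  have hex1 := T'.exact₁ S hS n (n + 1) rfl
  rw [ShortComplex.ab_exact_iff] at hex1
  obtain ⟨y', rfl⟩ := hex1 z (map_eq_zero_of_isZero hz' _ _)
  obtain ⟨y, rfl⟩ := h3 y'
  exact ⟨T.δ S hS n (n + 1) rfl y, comm_apply τ hS n y⟩

end Groth.Agent.Lib.DeltaFour
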