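import Groth.Agent.Lib.CechEdgeE
import Groth.Agent.Lib.DeltaFour
import Groth.Agent.Lib.CechInjGen

/-!
# The comparison maps from Cech cohomology to cohomology: injectivity in degree one,
bijectivity for acyclic covering families
-/

set_option autoImplicit false



universe u

open CategoryTheory Limits Opposite DeltaF Abelian

namespace Groth.Agent.Lib.CechEdgeF

open Groth.Agent.Lib.ExtDelta Groth.Agent.Lib.CechEdgeA Groth.Agent.Lib.CechEdgeB
  Groth.Agent.Lib.CechEdgeC Groth.Agent.Lib.CechEdgeD Groth.Agent.Lib.CechEdgeE
  Groth.Agent.Lib.CechDelta CechEdge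

variable {C : Type u} [SmallCategory C] [HasPullbacks C] {J : GrothendieckTopology C}

section PS

/-- the embedding of a sheaf into an injective sheaf, on underlying presheaves -/
noncomputable abbrev injU (F : Sheaf J AddCommGrpCat.{u}) : F.obj ⟶ (Injective.under F).obj :=
  (sheafToPresheaf J AddCommGrpCat.{u}).map (Injective.ι F)

instance (F : Sheaf J AddCommGrpCat.{u}) : Mono (injU F) :=
  inferInstanceAs (Mono ((sheafToPresheaf J AddCommGrpCat.{u}).map (Injective.ι F)))

/-- the short exact sequence of presheaves `0 → F → I → I/F → 0` -/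
noncomputable abbrev pS (F : Sheaf J AddCommGrpCat.{u}) :
    ShortComplex (Cᵒᵖ ⥤ AddCommGrpCat.{u}) :=
  DeltaUniv.ses (injU F)

omit [HasPullbacks C] in
lemma pS_shortExact (F : Sheaf J AddCommGrpCat.{u}) : (pS F).ShortExact :=
  DeltaUniv.ses_shortExact (injU F)

omit [HasPullbacks C] in
lemma injective_obj (F : Sheaf J AddCommGrpCat.{u}) [Injective F] : Injective F.obj :=
  Injective.injective_of_adjoint (sheafificationAdjunction J AddCommGrpCat.{u}) F

omit [HasPullbacks C] in
/-- the associated sheaf of the underlying presheaf of an injective sheaf is injective -/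
lemma injective_shf (F : Sheaf J AddCommGrpCat.{u}) [hF : Injective F] :
    Injective (shf J F.obj) :=
  Injective.of_iso (P := F) (Q := shf J F.obj)
    (asIso ((sheafificationAdjunction J AddCommGrpCat.{u}).counit.app F)).symm hF

end PS

section Edge

variable {U : C} {ι : Type u} {Y : ι → Over U}
  {e : ∀ (P : Cᵒᵖ ⥤ AddCommGrpCat.{u}) (p : ℕ), CohCx.cechH P Y p →+ CohSite.HU (shf J P) p U}
  (he : IsEdge J Y e)

variable (Y) in
lemma isZero_cech_inj (F : Sheaf J AddCommGrpCat.{u}) (n : ℕ) :
    IsZero (((cechDelta Y).F (n + 1)).obj (pS F).X₂) := by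
  have := injective_obj (Injective.under F)
  exact CechInjGen.isZero_homology_of_injective Y (Injective.under F).obj n

variable (U) in
omit [HasPullbacks C] in
lemma subsingleton_HU_inj (F : Sheaf J AddCommGrpCat.{u}) (n : ℕ) :
    Subsingleton (CohSite.HU (shf J (Injective.under F).obj) (n + 1) U) := by
  have := injective_shf (Injective.under F)
  refine ⟨fun (x y : Ext (CohCx.freeSheaf J U) (shf J (Injective.under F).obj) (n + 1)) => ?_⟩
  exact (Ext.eq_zero_of_injective x).trans (Ext.eq_zero_of_injective y).symm

variable (U) in
omit [HasPullbacks C] in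
lemma isZero_h_inj (F : Sheaf J AddCommGrpCat.{u}) (n : ℕ) :
    IsZero (((hDelta J U).F (n + 1)).obj (pS F).X₂) := by
  have := subsingleton_HU_inj U F n
  exact AddCommGrpCat.isZero_of_subsingleton
    (AddCommGrpCat.of (CohSite.HU (shf J (Injective.under F).obj) (n + 1) U))

include he in
lemma edge_injective_of_unit (P : Cᵒᵖ ⥤ AddCommGrpCat.{u}) (p : ℕ)
    (h1 : Function.Injective (cechHMap Y (toSheafify J P) p))
    (h2 : Function.Injective (e (shf J P).obj p)) : Function.Injective (e P p) := by
  intro x y hxy
  apply h1
  apply h2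
  have hx := he.natural P (shf J P).obj (toSheafify J P) p x
  have hy := he.natural P (shf J P).obj (toSheafify J P) p y
  rw [hx, hy, hxy]

include he in
lemma edge_bijective_of_unit (P : Cᵒᵖ ⥤ AddCommGrpCat.{u}) (p : ℕ)
    (h1 : Function.Bijective (cechHMap Y (toSheafify J P) p))
    (h2 : Function.Bijective (e (shf J P).obj p)) : Function.Bijective (e P p) := by
  have hf := HUmap_bijective_of_isIso (U := U) (shfMap J (toSheafify J P)) p
  have hc : (HUmap (shfMap J (toSheafify J P)) p U) ∘ (e P p) =
      (e (shf J P).obj p) ∘ (cechHMap Y (toSheafify J P) p) := by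
    funext x
    exact (he.natural P (shf J P).obj (toSheafify J P) p x).symm
  rw [← Function.Bijective.of_comp_iff' hf, hc]
  exact h2.comp h1

omit [HasPullbacks C] in
/-- the unit of the cokernel presheaf `I/F` is injective on sections -/
lemma unit_pS₃_injective (F : Sheaf J AddCommGrpCat.{u}) (V : Cᵒᵖ) :
    Function.Injective ((toSheafify J (pS F).X₃).app V) :=
  unit₃_injective (pS_shortExact F) V (unit_bijective_of_isSheaf F.property V).2
    (unit_bijective_of_isSheaf (Injective.under F).property V).1

include he in
/-- degree one injectivity, on underlying presheaves -/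
theorem edge_one_injective (F : Sheaf J AddCommGrpCat.{u}) : Function.Injective (e F.obj 1) := by
  have h3 : Function.Injective (e (pS F).X₃ 0) := by
    apply edge_injective_of_unit he
    · exact cechHMap_zero_injective Y _ (fun a => unit_pS₃_injective F _)
    · exact (edge_zero_bijective he _).1
  have h2 : Function.Surjective (e (pS F).X₂ 0) := (edge_zero_bijective he (Injective.under F)).2
  exact DeltaFour.injective_succ (homOfEdge he) (pS_shortExact F) 0 (isZero_cech_inj Y F 0) h3 h2

omit [HasPullbacks C] in
lemma counit_isIso (F : Sheaf J AddCommGrpCat.{u}) :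
    IsIso ((sheafificationAdjunction J AddCommGrpCat.{u}).counit.app F) := inferInstance

include he in
/-- **the comparison map is injective in degree one** -/
theorem edgeSh_one_injective (F : Sheaf J AddCommGrpCat.{u}) :
    Function.Injective (edgeSh e F 1) := by
  have := counit_isIso F
  have h := (HUmap_bijective_of_isIso (U := U)
    ((sheafificationAdjunction J AddCommGrpCat.{u}).counit.app F) 1).1.comp
    (edge_one_injective he F)
  exact h

end Edge

end Groth.Agent.Lib.CechEdgeF
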