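import Groth.Agent.Lib.CechEdgeF

/-!
# The comparison maps from Cech cohomology to cohomology are bijective for acyclic covering
families
-/

set_option autoImplicit false

universe u

open CategoryTheory Limits Opposite DeltaF Abelian

namespace Groth.Agent.Lib.CechEdgeG

open Groth.Agent.Lib.ExtDelta Groth.Agent.Lib.CechEdgeA Groth.Agent.Lib.CechEdgeB
  Groth.Agent.Lib.CechEdgeC Groth.Agent.Lib.CechEdgeD Groth.Agent.Lib.CechEdgeE
  Groth.Agent.Lib.CechEdgeF Groth.Agent.Lib.CechDelta CechEdge

variable {C : Type u} [SmallCategory C] [HasPullbacks C] {J : GrothendieckTopology C}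
  {U : C} {ι : Type u} (Y : ι → Over U)

/-- vanishing of higher cohomology on all iterated fibre products of the family -/
def Acyc (F : Sheaf J AddCommGrpCat.{u}) : Prop :=
  ∀ (p : ℕ) (a : Fin (p + 1) → ι) (q : ℕ),
    Subsingleton (CohSite.HU F (q + 1) (∏ᶜ fun k => Y (a k)).left)

variable {Y}

lemma acyc_of_iso {F G : Sheaf J AddCommGrpCat.{u}} (i : F ≅ G) (h : Acyc Y F) : Acyc Y G := by
  intro p a q
  have hb := HUmap_bijective_of_isIso (U := (∏ᶜ fun k => Y (a k)).left) i.hom (q + 1)
  have := h p a q
  exact hb.2.subsingleton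

lemma acyc_shf {F : Sheaf J AddCommGrpCat.{u}} (h : Acyc Y F) : Acyc Y (shf J F.obj) :=
  acyc_of_iso (asIso ((sheafificationAdjunction J AddCommGrpCat.{u}).counit.app F)).symm h

lemma acyc_shS₃ {F : Sheaf J AddCommGrpCat.{u}} (h : Acyc Y F) : Acyc Y (shS J (pS F)).X₃ := by
  intro p a q
  have : Injective (shS J (pS F)).X₂ := injective_shf (Injective.under F)
  exact SiteLES.subsingleton_HU_succ_of_succ_succ (shS_shortExact (J := J) (pS_shortExact F))
    _ q (acyc_shf h p a (q + 1))

lemma unit_pS₃_bijective {F : Sheaf J AddCommGrpCat.{u}} (h : Acyc Y F) (n : ℕ)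
    (a : Fin (n + 1) → ι) :
    Function.Bijective ((toSheafify J (pS F).X₃).app (op (∏ᶜ fun k => Y (a k)).left)) := by
  refine ⟨unit_pS₃_injective F _, ?_⟩
  apply unit₃_surjective _ (unit_bijective_of_isSheaf (Injective.under F).property _).2
  exact SiteLES.surjective_of_subsingleton_HU_one (shS_shortExact (J := J) (pS_shortExact F))
    _ (acyc_shf h n a 0)

variable {e : ∀ (P : Cᵒᵖ ⥤ AddCommGrpCat.{u}) (p : ℕ),
  CohCx.cechH P Y p →+ CohSite.HU (shf J P) p U} (he : IsEdge J Y e)

include he in
lemma edge_inj_surjective (F : Sheaf J AddCommGrpCat.{u}) (p : ℕ) :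
    Function.Surjective (e (Injective.under F).obj p) := by
  cases p with
  | zero => exact (edge_zero_bijective he (Injective.under F)).2
  | succ n =>
    intro y
    have := subsingleton_HU_inj U F n
    exact ⟨0, Subsingleton.elim _ _⟩

include he in
/-- bijectivity on underlying presheaves, by dimension shifting -/
theorem edge_bijective_of_acyc : ∀ (p : ℕ) (F : Sheaf J AddCommGrpCat.{u}), Acyc Y F →
    Function.Bijective (e F.obj p)
  | 0, F, _ => edge_zero_bijective he F
  | p + 1, F, hF => by
    have IH := edge_bijective_of_acyc p (shS J (pS F)).X₃ (acyc_shS₃ hF)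
    have hQ : Function.Bijective (e (pS F).X₃ p) :=
      edge_bijective_of_unit he _ p (cechHMap_bijective Y _ (unit_pS₃_bijective hF) p) IH
    exact ⟨DeltaFour.injective_succ (homOfEdge he) (pS_shortExact F) p (isZero_cech_inj Y F p)
        hQ.1 (edge_inj_surjective he F p),
      DeltaFour.surjective_succ (homOfEdge he) (pS_shortExact F) p (isZero_h_inj U F p) hQ.2⟩

include he in
/-- **the comparison maps are bijective for acyclic covering families** -/
theorem edgeSh_bijective_of_acyc (F : Sheaf J AddCommGrpCat.{u}) (hF : Acyc Y F) (p : ℕ) :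
    Function.Bijective (edgeSh e F p) := by
  have := counit_isIso F
  have h := (HUmap_bijective_of_isIso (U := U)
    ((sheafificationAdjunction J AddCommGrpCat.{u}).counit.app F) p).comp
    (edge_bijective_of_acyc he p F hF)
  exact h

end Groth.Agent.Lib.CechEdgeG
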