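import Groth.Agent.Lib.CechEdgeD

/-!
# Compatibility of the comparison maps from Cech cohomology to cohomology with refinement
-/

set_option autoImplicit false

universe u

open CategoryTheory Limits Opposite DeltaF Abelian

namespace Groth.Agent.Lib.CechEdgeH

open Groth.Agent.Lib.CechLow Groth.Agent.Lib.CechLES Groth.Agent.Lib.CochainAb
  Groth.Agent.Lib.CechEdgeA Groth.Agent.Lib.CechEdgeB
  Groth.Agent.Lib.CechEdgeC Groth.Agent.Lib.CechEdgeD Groth.Agent.Lib.CechDelta CechEdge

variable {C : Type u} [SmallCategory C] [HasPullbacks C] {J : GrothendieckTopology C}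
  {U : C} {ι κ : Type u} {Y : ι → Over U} {Y' : κ → Over U}
  (f : FormalCoproduct.mk ι Y ⟶ FormalCoproduct.mk κ Y')

/-- refinement as a natural transformation of Cech complex functors -/
noncomputable def refineNat : cxFunctor (C := C) Y' ⟶ cxFunctor Y :=
  Functor.whiskerLeft ((Functor.whiskeringLeft (Over U)ᵒᵖ Cᵒᵖ AddCommGrpCat.{u}).obj (Over.forget U).op)
    (Functor.whiskerRight
      (Functor.whiskerLeft (FormalCoproduct.evalOp.{u} (Over U) AddCommGrpCat.{u})
        ((Functor.whiskeringLeft _ _ _).map (NatTrans.rightOp (FormalCoproduct.cechFunctor.map f))))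
      (AlgebraicTopology.alternatingCofaceMapComplex AddCommGrpCat.{u}))

lemma refineNat_app (P : Cᵒᵖ ⥤ AddCommGrpCat.{u}) :
    (refineNat f).app P = CohCx.cechRefine P f := rfl

lemma cechRefine_f_comp (P : Cᵒᵖ ⥤ AddCommGrpCat.{u}) (n : ℕ) (a : Fin (n + 1) → ι) :
    (CohCx.cechRefine P f).f n ≫ comp Y ((Over.forget U).op ⋙ P) n a =
      comp Y' ((Over.forget U).op ⋙ P) n (f.f ∘ a) ≫
        P.map (Limits.Pi.map (fun k => f.φ (a k)) :
          (∏ᶜ fun k => Y (a k)) ⟶ ∏ᶜ fun k => Y' (f.f (a k))).left.op := by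
  exact Pi.lift_π _ _

lemma cechRefine_f_apply (P : Cᵒᵖ ⥤ AddCommGrpCat.{u}) (n : ℕ) (a : Fin (n + 1) → ι)
    (z : (cx P Y').X n) :
    comp Y ((Over.forget U).op ⋙ P) n a ((CohCx.cechRefine P f).f n z) =
      P.map (Limits.Pi.map (fun k => f.φ (a k)) :
          (∏ᶜ fun k => Y (a k)) ⟶ ∏ᶜ fun k => Y' (f.f (a k))).left.op
        (comp Y' ((Over.forget U).op ⋙ P) n (f.f ∘ a) z) := by
  exact ConcreteCategory.congr_hom (cechRefine_f_comp f P n a) z

lemma cechRefine_toCech₀ (P : Cᵒᵖ ⥤ AddCommGrpCat.{u}) (s : P.obj (op U)) :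
    (CohCx.cechRefine P f).f 0 (toCech₀ P Y' s) = toCech₀ P Y s := by
  apply cochain_ext Y ((Over.forget U).op ⋙ P) 0
  intro a
  rw [cechRefine_f_apply, comp_toCech₀]
  refine Eq.trans ?_ (comp_toCech₀ Y P s a).symm
  rw [← ConcreteCategory.comp_apply, ← P.map_comp, ← op_comp]
  have hw := Over.w (Limits.Pi.map (fun k => f.φ (a k)) :
    (∏ᶜ fun k => Y (a k)) ⟶ ∏ᶜ fun k => Y' (f.f (a k)))
  exact congrArg (fun g => (ConcreteCategory.hom (P.map (Quiver.Hom.op g))) s) hw

lemma refine_toCech (P : Cᵒᵖ ⥤ AddCommGrpCat.{u}) (s : P.obj (op U)) :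
    (HomologicalComplex.homologyMap (CohCx.cechRefine P f) 0).hom (toCech Y' P s) =
      toCech Y P s := by
  rw [toCech_eq_cls, toCech_eq_cls]
  refine (homologyMap_cls 0 (CohCx.cechRefine P f) _ _).trans ?_
  exact cls_congr _ 0 (cechRefine_toCech₀ f P s) _

variable (e : ∀ (P : Cᵒᵖ ⥤ AddCommGrpCat.{u}) (p : ℕ),
  CohCx.cechH P Y p →+ CohSite.HU (shf J P) p U)

/-- an edge family for `Y` composed with refinement -/
noncomputable def refEdge : ∀ (P : Cᵒᵖ ⥤ AddCommGrpCat.{u}) (p : ℕ),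
    CohCx.cechH P Y' p →+ CohSite.HU (shf J P) p U :=
  fun P p => (e P p).comp (HomologicalComplex.homologyMap (CohCx.cechRefine P f) p).hom

lemma refEdge_apply (P : Cᵒᵖ ⥤ AddCommGrpCat.{u}) (p : ℕ) (x : CohCx.cechH P Y' p) :
    refEdge f e P p x =
      e P p ((HomologicalComplex.homologyMap (CohCx.cechRefine P f) p).hom x) := rfl

lemma refine_natural {P Q : Cᵒᵖ ⥤ AddCommGrpCat.{u}} (φ : P ⟶ Q) (p : ℕ)
    (x : CohCx.cechH P Y' p) :
    (HomologicalComplex.homologyMap (CohCx.cechRefine Q f) p).hom (cechHMap Y' φ p x) =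
      cechHMap Y φ p ((HomologicalComplex.homologyMap (CohCx.cechRefine P f) p).hom x) := by
  have h := (refineNat f).naturality φ
  have h2 := congrArg (fun g => HomologicalComplex.homologyMap g p) h
  simp only [HomologicalComplex.homologyMap_comp] at h2
  exact ConcreteCategory.congr_hom h2 x

variable {e}

theorem isEdge_refEdge (he : IsEdge J Y e)
    (hY' : Sieve.ofArrows (fun i => (Y' i).left) (fun i => (Y' i).hom) ∈ J U) :
    IsEdge J Y' (refEdge f e) where
  cover := hY'
  zero P s := by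
    rw [refEdge_apply, refine_toCech]
    exact he.zero P s
  natural P Q φ p x := by
    rw [refEdge_apply, refEdge_apply, refine_natural]
    exact he.natural P Q φ p _
  delta S hS hC p x := by
    rw [refEdge_apply]
    have hC' := shortExact_map Y hS
    have h := HomologicalComplex.HomologySequence.δ_naturality (S.mapNatTrans (refineNat f))
      hC hC' p (p + 1) rfl
    have h2 := ConcreteCategory.congr_hom h x
    refine Eq.trans (congrArg (e S.X₁ (p + 1)) h2) ?_
    exact he.delta S hS hC' p _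

/-- **compatibility of edge families with refinement** -/
theorem edge_refine {e' : ∀ (P : Cᵒᵖ ⥤ AddCommGrpCat.{u}) (p : ℕ),
    CohCx.cechH P Y' p →+ CohSite.HU (shf J P) p U} (he : IsEdge J Y e) (he' : IsEdge J Y' e')
    (P : Cᵒᵖ ⥤ AddCommGrpCat.{u}) (p : ℕ) (x : CohCx.cechH P Y' p) :
    e P p ((HomologicalComplex.homologyMap (CohCx.cechRefine P f) p).hom x) = e' P p x := by
  have h := isEdge_unique (isEdge_refEdge f he he'.cover) he'
  rw [← h]
  rfl

/-- **compatibility of the comparison maps with refinement** -/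
theorem edgeSh_refine {e' : ∀ (P : Cᵒᵖ ⥤ AddCommGrpCat.{u}) (p : ℕ),
    CohCx.cechH P Y' p →+ CohSite.HU (shf J P) p U} (he : IsEdge J Y e) (he' : IsEdge J Y' e')
    (F : Sheaf J AddCommGrpCat.{u}) (p : ℕ) (x : CohCx.cechH F.obj Y' p) :
    edgeSh e F p ((HomologicalComplex.homologyMap (CohCx.cechRefine F.obj f) p).hom x) =
      edgeSh e' F p x :=
  congrArg (HUmap ((sheafificationAdjunction J AddCommGrpCat.{u}).counit.app F) p U)
    (edge_refine f he he' F.obj p x)

end Groth.Agent.Lib.CechEdgeH
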