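import Groth.Agent.Lib.CechEdgeA

/-!
# A presheaf of abelian groups is a sheaf iff `P(U) → Ȟ^0(Y, P)` is bijective for every covering
family
-/

set_option autoImplicit false

universe u

open CategoryTheory Limits Opposite

namespace Groth.Agent.Lib.CechEdgeI

open Groth.Agent.Lib.CechLow Groth.Agent.Lib.CechLES Groth.Agent.Lib.CechH0
  Groth.Agent.Lib.CochainAb Groth.Agent.Lib.CechEdgeA CechEdge

variable {C : Type u} [SmallCategory C] [HasPullbacks C]
  {U : C} {ι : Type u} (Y : ι → Over U) (P : Cᵒᵖ ⥤ AddCommGrpCat.{u})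

/-- the `0`-cochain attached to a family of sections over the members of the family -/
noncomputable def famCochain (x : ∀ i, P.obj (op (Y i).left)) : (cx P Y).X 0 :=
  mkCochain Y ((Over.forget U).op ⋙ P) 0
    (fun a => ((Over.forget U).op ⋙ P).map (Pi.π (fun k => Y (a k)) 0).op (x (a 0)))

lemma comp_famCochain (x : ∀ i, P.obj (op (Y i).left)) (a : Fin 1 → ι) :
    comp Y ((Over.forget U).op ⋙ P) 0 a (famCochain Y P x) =
      ((Over.forget U).op ⋙ P).map (Pi.π (fun k => Y (a k)) 0).op (x (a 0)) :=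
  comp_mkCochain Y ((Over.forget U).op ⋙ P) 0 _ a

lemma d_famCochain (x : ∀ i, P.obj (op (Y i).left))
    (hx : ∀ (i j : ι) (Z : C) (gi : Z ⟶ (Y i).left) (gj : Z ⟶ (Y j).left),
      gi ≫ (Y i).hom = gj ≫ (Y j).hom → P.map gi.op (x i) = P.map gj.op (x j)) :
    (cx P Y).d 0 1 (famCochain Y P x) = 0 := by
  apply cochain_ext Y ((Over.forget U).op ⋙ P) 1
  intro a
  rw [d_comp_apply, map_zero, Fin.sum_univ_two]
  have key : ∀ j : Fin 2, ((Over.forget U).op ⋙ P).map (faceMap Y j a).op
      (comp Y ((Over.forget U).op ⋙ P) 0 (face j a) (famCochain Y P x)) =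
        ((Over.forget U).op ⋙ P).map (Pi.π (fun k => Y (a k)) (j.succAbove 0)).op
          (x (a (j.succAbove 0))) := by
    intro j
    rw [comp_famCochain]
    exact map_faceMap_map_π Y ((Over.forget U).op ⋙ P) j a 0 (x (a (j.succAbove 0)))
  rw [key, key]
  have h00 : (0 : Fin 2).succAbove (0 : Fin 1) = 1 := by decide
  have h10 : (1 : Fin 2).succAbove (0 : Fin 1) = 0 := by decide
  rw [h00, h10]
  have hc : ((Over.forget U).op ⋙ P).map (Pi.π (fun k => Y (a k)) 1).op (x (a 1)) =
      ((Over.forget U).op ⋙ P).map (Pi.π (fun k => Y (a k)) 0).op (x (a 0)) :=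
    hx (a 1) (a 0) _ (Pi.π (fun k => Y (a k)) 1).left (Pi.π (fun k => Y (a k)) 0).left
      ((Over.w _).trans (Over.w _).symm)
  rw [hc]
  generalize ((Over.forget U).op ⋙ P).map (Pi.π (fun k => Y (a k)) 0).op (x (a 0)) = A
  have e0 : ((0 : Fin 2) : ℕ) = 0 := rfl
  have e1 : ((1 : Fin 2) : ℕ) = 1 := rfl
  rw [e0, e1, pow_zero, pow_one, one_zsmul, neg_one_zsmul, add_neg_cancel]

lemma map_lift_comp_toCech₀ (s : P.obj (op U)) (i : ι) :
    P.map (Pi.lift (fun _ : Fin 1 => 𝟙 (Y i))).left.op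
      (comp Y ((Over.forget U).op ⋙ P) 0 (fun _ => i) (toCech₀ P Y s)) =
        P.map (Y i).hom.op s := by
  rw [comp_toCech₀, ← ConcreteCategory.comp_apply, ← P.map_comp, ← op_comp]
  have hw := Over.w (Pi.lift (fun _ : Fin 1 => 𝟙 (Y i)))
  exact congrArg (fun g => (ConcreteCategory.hom (P.map (Quiver.Hom.op g))) s) hw

omit [HasPullbacks C] in
lemma map_lift_map_π [HasFiniteProducts (Over U)] (Q : (Over U)ᵒᵖ ⥤ AddCommGrpCat.{u}) (i : ι)
    (y : Q.obj (op (Y i))) :
    Q.map (Pi.lift (fun _ : Fin 1 => 𝟙 (Y i))).op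
      (Q.map (Pi.π (fun _ : Fin 1 => Y i) 0).op y) = y := by
  rw [← ConcreteCategory.comp_apply, ← Q.map_comp, ← op_comp, Pi.lift_π, op_id, Q.map_id]
  rfl

lemma map_lift_comp_famCochain (x : ∀ i, P.obj (op (Y i).left)) (i : ι) :
    P.map (Pi.lift (fun _ : Fin 1 => 𝟙 (Y i))).left.op
      (comp Y ((Over.forget U).op ⋙ P) 0 (fun _ => i) (famCochain Y P x)) = x i := by
  rw [comp_famCochain]
  exact map_lift_map_π Y ((Over.forget U).op ⋙ P) i (x i)

lemma toCech₀_eq_famCochain (s : P.obj (op U)) :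
    toCech₀ P Y s = famCochain Y P (fun i => P.map (Y i).hom.op s) := by
  apply cochain_ext Y ((Over.forget U).op ⋙ P) 0
  intro a
  rw [comp_toCech₀, comp_famCochain]
  change _ = P.map (Pi.π (fun k => Y (a k)) 0).left.op (P.map (Y (a 0)).hom.op s)
  rw [← ConcreteCategory.comp_apply, ← P.map_comp, ← op_comp]
  have hw := Over.w (Pi.π (fun k => Y (a k)) 0)
  exact (congrArg (fun g => (ConcreteCategory.hom (P.map (Quiver.Hom.op g))) s) hw).symm

/-- if `toCech` is bijective, compatible families of sections glue uniquely -/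
theorem existsUnique_of_toCech_bijective (h : Function.Bijective (toCech Y P))
    (x : ∀ i, P.obj (op (Y i).left))
    (hx : ∀ (i j : ι) (Z : C) (gi : Z ⟶ (Y i).left) (gj : Z ⟶ (Y j).left),
      gi ≫ (Y i).hom = gj ≫ (Y j).hom → P.map gi.op (x i) = P.map gj.op (x j)) :
    ∃! t : P.obj (op U), ∀ i, P.map (Y i).hom.op t = x i := by
  obtain ⟨s, hs⟩ := (exists_toCech_eq_iff Y P).1 h.2 _ (d_famCochain Y P x hx)
  refine ⟨s, fun i => ?_, fun t ht => ?_⟩
  · rw [← map_lift_comp_toCech₀, hs, map_lift_comp_famCochain]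
  · have h1 : toCech₀ P Y t = toCech₀ P Y s := by
      rw [toCech₀_eq_famCochain Y P t, hs]
      congr 1
      funext i
      exact ht i
    apply h.1
    rw [toCech_eq_cls, toCech_eq_cls]
    exact cls_congr _ 0 h1 _

variable (J : GrothendieckTopology C)

/-- **sheaf criterion via degree zero Cech cohomology** -/
theorem isSheaf_of_toCech_bijective
    (h : ∀ (U : C) (ι : Type u) (Y : ι → Over U),
      Sieve.ofArrows (fun i => (Y i).left) (fun i => (Y i).hom) ∈ J U →
        Function.Bijective (toCech Y P)) : Presheaf.IsSheaf J P := by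
  rw [Presheaf.isSheaf_iff_isSheaf_forget J P (forget AddCommGrpCat.{u}),
    isSheaf_iff_isSheaf_of_type]
  intro U S hS
  let ι : Type u := Σ V : C, {g : V ⟶ U // S g}
  let Y : ι → Over U := fun i => Over.mk i.2.1
  have hSY : Sieve.ofArrows (fun i => (Y i).left) (fun i => (Y i).hom) = S := by
    apply le_antisymm
    · rw [Sieve.ofArrows, Sieve.generate_le_iff]
      rintro V g ⟨i⟩
      exact i.2.2
    · intro V g hg
      exact Sieve.ofArrows_mk (fun i => (Y i).left) (fun i => (Y i).hom) (⟨V, g, hg⟩ : ι)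
  have hcov : Sieve.ofArrows (fun i => (Y i).left) (fun i => (Y i).hom) ∈ J U := by
    rw [hSY]
    exact hS
  have hb := h U ι Y hcov
  have key : (Presieve.ofArrows (fun i => (Y i).left) (fun i => (Y i).hom)).IsSheafFor
      (P ⋙ forget AddCommGrpCat.{u}) := by
    rw [Presieve.isSheafFor_arrows_iff]
    intro x hx
    exact existsUnique_of_toCech_bijective Y P hb x hx
  have key2 := (Presieve.isSheafFor_iff_generate _).1 key
  rw [← hSY]
  exact key2

end Groth.Agent.Lib.CechEdgeI
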