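import Groth.Agent.Lib.CechLinear9

/-!
# Čech-to-derived comparison, equivariant for an arbitrary monoid of endomorphisms (helper44)

Generalization of helper9's `CechLinear9.exists_addEquiv_smul` (multiplication by global functions) to an
arbitrary monoid `Mo` acting on the abelian sheaf underlying a quasi-coherent module.
-/

universe u

open CategoryTheory Limits Opposite Abelian AlgebraicGeometry

open Groth.Agent.Lib.CechEquivariant9

namespace Groth.Agent.Lib.CechEquivH44

variable {X : Scheme.{u}}

/-- **Equivariant Čech-to-derived comparison** for a cover with affine finite intersections, a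
quasi-coherent module `M` and a monoid `Mo` acting on the underlying abelian sheaf of `M`. -/
theorem exists_addEquiv_act {ι : Type u} (U : ι → X.Opens) (hcov : ⨆ i, U i = ⊤)
    (hU : ∀ s : Finset ι, s.Nonempty → IsAffineOpen (⨅ i ∈ s, U i))
    (M : X.Modules) [Coh.IsQCoh M] (Mo : Type u) [Monoid Mo] (act : Mo →* End (Coh.toAb M)) (p : ℕ) :
    ∃ e : ↑(CohB1.cechH U M p) ≃+ Coh.HH X M p,
      ∀ (m : Mo) (x : ↑(CohB1.cechH U M p)),
        e (HomologicalComplex.homologyMap
          ((cechComplexFunctor U).map (act m : Coh.toAb M ⟶ Coh.toAb M).hom) p x) =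
        Sheaf.H.map (act m : Coh.toAb M ⟶ Coh.toAb M) p (e x) := by
  classical
  have hacyc : ∀ (n : ℕ) (a : Fin (n + 1) → ι) (q : ℕ),
      Subsingleton (CohTop.HU (Coh.toAb M) (q + 1) (iInf fun k => U (a k))) := by
    intro n a q
    have hs : (Finset.univ.image a).Nonempty := ⟨a 0, Finset.mem_image_of_mem a (Finset.mem_univ 0)⟩
    have haff := hU _ hs
    have heq : (⨅ i ∈ Finset.univ.image a, U i) = iInf fun k => U (a k) := by
      apply le_antisymm
      · exact le_iInf fun k => iInf₂_le (a k) (Finset.mem_image_of_mem a (Finset.mem_univ k))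
      · refine le_iInf₂ fun i hi => ?_
        obtain ⟨k, -, rfl⟩ := Finset.mem_image.1 hi
        exact iInf_le _ k
    rw [heq] at haff
    exact subsingleton_of_forall_eq 0 fun α =>
      Groth.Agent.Lib.AffVan.HU_eq_zero_of_isAffineOpen M inferInstance q haff α
  have key : ∀ (V : X.Opens) (_ : iSup U = V),
      ∃ e : CohTop.cechH (Coh.toAb M).obj U p ≃+ CohTop.HU (Coh.toAb M) p V,
        ∀ (m : Mo) (x : CohTop.cechH (Coh.toAb M).obj U p),
          e (HomologicalComplex.homologyMap
            ((cechComplexFunctor U).map (act m : Coh.toAb M ⟶ Coh.toAb M).hom) p x) =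
          (e x).comp (Ext.mk₀ (act m : Coh.toAb M ⟶ Coh.toAb M)) (add_zero p) := by
    rintro V rfl
    exact exists_equivariant_top (X := X.toTopCat) (Coh.toAb M) U hacyc Mo act p
  obtain ⟨e, he⟩ := key ⊤ hcov
  let E := Groth.Agent.Lib.HBridge.HEquivHUTop (Coh.toAb M) p
  let e' : ↑(CohB1.cechH U M p) ≃+ Coh.HH X M p := e.trans E.symm
  refine ⟨e', ?_⟩
  intro m x
  have h1 : e' (HomologicalComplex.homologyMap
      ((cechComplexFunctor U).map (act m : Coh.toAb M ⟶ Coh.toAb M).hom) p x) =
      E.symm (e (HomologicalComplex.homologyMap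
        ((cechComplexFunctor U).map (act m : Coh.toAb M ⟶ Coh.toAb M).hom) p x)) := rfl
  have h2 : e' x = E.symm (e x) := rfl
  rw [h1, h2, AddEquiv.symm_apply_eq]
  have h3 : E (Sheaf.H.map (act m : Coh.toAb M ⟶ Coh.toAb M) p (E.symm (e x))) =
      (E (E.symm (e x))).comp (Ext.mk₀ (act m : Coh.toAb M ⟶ Coh.toAb M)) (add_zero p) :=
    Groth.Agent.Lib.CechLinear9.HEquivHUTop_map (act m : Coh.toAb M ⟶ Coh.toAb M) p _
  rw [h3, AddEquiv.apply_symm_apply]
  exact he m x

end Groth.Agent.Lib.CechEquivH44
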