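import Groth.Agent.Lib.HomCxDC25
import Groth.Prelude.Def_DerCA

/-!
# The extended Čech complex: flat terms, boundedness, and acyclicity after localization (helper25)
-/

set_option autoImplicit false
set_option linter.style.haveILetI false
universe u

open CategoryTheory Category Limits CochainComplex HomComplex MonoidalCategory TensorProduct

namespace Groth.Agent.Lib.CechFlat25

open Groth.Agent.Lib.HomTensor25

variable {A : Type u} [CommRing A]

section flat

instance flat_localizedModule (S : Submonoid A) (N : Type u) [AddCommGroup N] [Module A N]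
    [Module.Flat A N] : Module.Flat A (LocalizedModule S N) :=
  Module.Flat.trans A (Localization S) (LocalizedModule S N)

lemma flat_prod (M N : Type u) [AddCommGroup M] [Module A M] [AddCommGroup N] [Module A N]
    [Module.Flat A M] [Module.Flat A N] : Module.Flat A (M × N) := by
  rw [Module.Flat.iff_rTensor_preserves_injective_linearMap]
  intro X Y _ _ _ _ f hf
  have h1 := Module.Flat.rTensor_preserves_injective_linearMap (M := M) f hf
  have h2 := Module.Flat.rTensor_preserves_injective_linearMap (M := N) f hf
  have key : (TensorProduct.prodRight A A Y M N).toLinearMap ∘ₗ f.rTensor (M × N) =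
      (LinearMap.prodMap (f.rTensor M) (f.rTensor N)) ∘ₗ
        (TensorProduct.prodRight A A X M N).toLinearMap := by
    apply TensorProduct.ext'
    intro x mn
    simp
  have hinj : Function.Injective ((TensorProduct.prodRight A A Y M N).toLinearMap ∘ₗ
      f.rTensor (M × N)) := by
    rw [key]
    exact (Prod.map_injective.mpr ⟨h1, h2⟩).comp (TensorProduct.prodRight A A X M N).injective
  exact Function.Injective.of_comp hinj

lemma flat_biprod (M N : ModuleCat.{u} A) [Module.Flat A M] [Module.Flat A N] :
    Module.Flat A (M ⊞ N : ModuleCat.{u} A) := by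
  haveI := flat_prod (A := A) M N
  exact Module.Flat.of_linearEquiv (ModuleCat.biprodIsoProd M N).toLinearEquiv

lemma flat_of_iso {M N : ModuleCat.{u} A} (e : M ≅ N) [Module.Flat A N] : Module.Flat A M :=
  Module.Flat.of_linearEquiv e.toLinearEquiv

/-- terms of the mapping cocone of a localization map are flat -/
lemma flat_ce (f : A) (C : DRing.Cx A) (hC : ∀ i, Module.Flat A (C.X i)) (n : ℤ) :
    Module.Flat A ((mappingCocone (DerCA.locCxUnit (Submonoid.powers f) C)).X n) := by
  haveI := hC n
  haveI : Module.Flat A (((DerCA.locCx (Submonoid.powers f)).obj C).X (n - 1)) := by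
    haveI := hC (n - 1)
    change Module.Flat A (LocalizedModule (Submonoid.powers f) (C.X (n - 1)))
    infer_instance
  haveI := flat_biprod (C.X n) (((DerCA.locCx (Submonoid.powers f)).obj C).X (n - 1))
  exact flat_of_iso (DerCA.mappingCoconeXIso _ n)

lemma isZero_ce (f : A) (C : DRing.Cx A) (b : ℤ) (hC : ∀ i, b < i → IsZero (C.X i)) (n : ℤ)
    (hn : b + 1 < n) :
    IsZero ((mappingCocone (DerCA.locCxUnit (Submonoid.powers f) C)).X n) := by
  refine IsZero.of_iso ?_ (DerCA.mappingCoconeXIso _ n)
  have h1 : IsZero (C.X n) := hC n (by omega)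
  have h2 : IsZero (((DerCA.locCx (Submonoid.powers f)).obj C).X (n - 1)) :=
    (DerCA.locFunctor (Submonoid.powers f)).map_isZero (hC (n - 1) (by omega))
  rw [IsZero.iff_id_eq_zero]
  apply biprod.hom_ext <;> apply biprod.hom_ext'
  · exact h1.eq_of_src _ _
  · exact h2.eq_of_src _ _
  · exact h1.eq_of_src _ _
  · exact h2.eq_of_src _ _

theorem flat_extCech (M : ModuleCat.{u} A) [Module.Flat A M] (fs : List A) :
    ∀ i, Module.Flat A ((DerCA.extCech M fs).X i) := by
  induction fs with
  | nil =>
    intro i
    by_cases hi : i = 0
    · subst hi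
      exact Module.Flat.of_linearEquiv (e0 M).toLinearEquiv
    · have h := HomologicalComplex.isZero_single_obj_X (ComplexShape.up ℤ) 0 M i hi
      have : Subsingleton ((sg M).X i) := ModuleCat.subsingleton_of_isZero h
      change Module.Flat A ((sg M).X i)
      infer_instance
  | cons f fs ih => exact fun n => flat_ce f _ ih n

theorem isZero_extCech (M : ModuleCat.{u} A) (fs : List A) :
    ∀ i : ℤ, (fs.length : ℤ) < i → IsZero ((DerCA.extCech M fs).X i) := by
  induction fs with
  | nil =>
    intro i hi
    exact HomologicalComplex.isZero_single_obj_X (ComplexShape.up ℤ) 0 M i (by simp at hi; omega)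
  | cons f fs ih =>
    intro n hn
    exact isZero_ce f _ fs.length ih n (by simp at hn; omega)

theorem isKFlat_extCech (M : ModuleCat.{u} A) [Module.Flat A M] (fs : List A) :
    Groth.Agent.Lib.KFlat35.IsKFlat (DerCA.extCech M fs) :=
  isKFlat_of_flat _ (flat_extCech M fs) fs.length (isZero_extCech M fs)

end flat

section acyclic

lemma bijective_of_isLocalizedModule {M M' : Type*} [AddCommGroup M] [Module A M]
    [AddCommGroup M'] [Module A M'] (S : Submonoid A) (g : M →ₗ[A] M') [IsLocalizedModule S g]
    (h : ∀ s : S, Function.Bijective (fun x : M => (s : A) • x)) : Function.Bijective g := by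
  constructor
  · intro x₁ x₂ hx
    obtain ⟨c, hc⟩ := IsLocalizedModule.exists_of_eq (S := S) hx
    exact (h c).1 hc
  · intro y
    obtain ⟨⟨x, s⟩, hx⟩ := IsLocalizedModule.surj S g y
    obtain ⟨x', hx'⟩ := (h s).2 x
    refine ⟨x', ?_⟩
    apply IsLocalizedModule.smul_injective g s
    change s • g x' = s • y
    rw [hx, ← hx']
    exact (map_smul g (s : A) x').symm

lemma bijective_lTensor_mk (f : A) (N : Type u) [AddCommGroup N] [Module A N] :
    Function.Bijective (LinearMap.lTensor (Localization.Away f)
      (LocalizedModule.mkLinearMap (Submonoid.powers f) N)) := by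
  let S := Submonoid.powers f
  let g := LocalizedModule.mkLinearMap S N
  have h1 : IsLocalizedModule S (AlgebraTensorModule.rTensor A (Localization.Away f) g) :=
    inferInstance
  have hb : Function.Bijective (AlgebraTensorModule.rTensor A (Localization.Away f) g) := by
    apply bijective_of_isLocalizedModule S
    intro s
    have hu : IsUnit (algebraMap A (Localization.Away f) s) := IsLocalization.map_units _ s
    have hbij : Function.Bijective (fun a : Localization.Away f => (s : A) • a) := by
      constructor
      · intro a b hab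
        change (s : A) • a = (s : A) • b at hab
        rw [Algebra.smul_def, Algebra.smul_def] at hab
        exact hu.mul_left_cancel hab
      · intro b
        refine ⟨hu.unit⁻¹ * b, ?_⟩
        change (s : A) • (↑hu.unit⁻¹ * b) = b
        rw [Algebra.smul_def, ← mul_assoc, IsUnit.mul_val_inv, one_mul]
    let e : Localization.Away f ≃ₗ[A] Localization.Away f :=
      LinearEquiv.ofBijective (DistribSMul.toLinearMap A (Localization.Away f) (s : A)) hbij
    have : (fun x : N ⊗[A] Localization.Away f => (s : A) • x) = (LinearEquiv.lTensor N e) := by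
      funext x
      induction x using TensorProduct.induction_on with
      | zero => simp
      | tmul n a =>
        change (s : A) • (n ⊗ₜ[A] a) = n ⊗ₜ[A] ((s : A) • a)
        rw [TensorProduct.tmul_smul]
      | add x y hx hy =>
        rw [smul_add, hx, hy, map_add]
    rw [this]
    exact (LinearEquiv.lTensor N e).bijective
  have key : LinearMap.lTensor (Localization.Away f) g =
      (TensorProduct.comm A _ _).toLinearMap ∘ₗ
        (AlgebraTensorModule.rTensor A (Localization.Away f) g) ∘ₗ
        (TensorProduct.comm A _ _).toLinearMap := by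
    apply TensorProduct.ext'
    intro a n
    simp
  rw [key]
  exact (TensorProduct.comm A _ _).bijective.comp (hb.comp (TensorProduct.comm A _ _).bijective)

open Groth.Agent.Lib.KFlat35 in
lemma acyclic_shift (X : DRing.Cx A) (m : ℤ) (h : X.Acyclic) : (X⟦m⟧).Acyclic := by
  rw [acyclic_iff_isZero_homology] at h ⊢
  intro i
  exact IsZero.of_iso (h (m + i))
    (((HomologicalComplex.homologyFunctor (ModuleCat.{u} A) (ComplexShape.up ℤ) 0).shiftIso
      m i (m + i) rfl).app X)

/-- `A_f[0] ⊗ (mapping cocone of C → C_f)` is acyclic -/
theorem acyclic_tensor_ce (f : A) (C : DRing.Cx A) :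
    (T (sg (ModuleCat.of A (Localization.Away f)))
      (mappingCocone (DerCA.locCxUnit (Submonoid.powers f) C))).Acyclic := by
  set M := ModuleCat.of A (Localization.Away f) with hM
  set φ := DerCA.locCxUnit (Submonoid.powers f) C with hφ
  -- `G φ` is an isomorphism
  have h1 : IsIso ((GM M).map φ) := by
    have : ∀ n, IsIso (((GM M).map φ).f n) := by
      intro n
      rw [ConcreteCategory.isIso_iff_bijective]
      exact bijective_lTensor_mk f (C.X n)
    exact HomologicalComplex.Hom.isIso_of_components _
  have h2 : (mappingCone ((GM M).map φ)).Acyclic :=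
    (Groth.Agent.Lib.ConeQuasiIso.quasiIso_iff_acyclic_mappingCone _).1 inferInstance
  have h3 : ((GM M).obj (mappingCone φ)).Acyclic :=
    Groth.Agent.Lib.KFlat35.acyclic_of_iso
      (mappingCone.mapHomologicalComplexIso φ (tensorLeft M)).symm h2
  have h4 : (((GM M).obj (mappingCone φ))⟦(-1 : ℤ)⟧).Acyclic := acyclic_shift _ _ h3
  have h5 : ((GM M).obj ((mappingCone φ)⟦(-1 : ℤ)⟧)).Acyclic :=
    Groth.Agent.Lib.KFlat35.acyclic_of_iso
      (((GM M).commShiftIso (-1 : ℤ)).app (mappingCone φ)).symm h4
  exact Groth.Agent.Lib.KFlat35.acyclic_of_iso (tensorSingleIso M _) h5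

end acyclic

end Groth.Agent.Lib.CechFlat25
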