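import Mathlib.AlgebraicTopology.CechNerve
import Mathlib.CategoryTheory.Limits.Preserves.Limits

/-!
# Čech nerves and functors preserving wide pullbacks (helper95)

* `compIso G f` : `G` applied to the augmented Čech nerve of `f` is the augmented Čech nerve of `G f`
  when `G` preserves the relevant wide pullbacks.
* `isIso_mapCechNerve_of_mono` : if `φ : f ⟶ g` is a morphism of arrows with `φ.left` iso and `φ.right`
  mono, then `mapCechNerve φ` is an isomorphism.
-/

open CategoryTheory Limits Opposite Simplicial

set_option backward.defeqAttrib.useBackward true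
set_option backward.isDefEq.respectTransparency false
set_option linter.unusedSectionVars false

namespace Groth.Agent.Lib.CechNerveFunctor

universe v v' u u'

variable {C : Type u} [Category.{v} C] {D : Type u'} [Category.{v'} D] (G : C ⥤ D) (f : Arrow C)
  [∀ n : ℕ, HasWidePullback f.right (fun _ : Fin (n + 1) => f.left) fun _ => f.hom]
  [∀ n : ℕ, HasWidePullback (G.mapArrow.obj f).right (fun _ : Fin (n + 1) => (G.mapArrow.obj f).left)
      fun _ => (G.mapArrow.obj f).hom]

instance instHasWidePullbackMap (n : ℕ) :
    HasWidePullback (G.obj f.right) (fun _ : Fin (n + 1) => G.obj f.left) fun _ => G.map f.hom :=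
  inferInstanceAs (HasWidePullback (G.mapArrow.obj f).right
    (fun _ : Fin (n + 1) => (G.mapArrow.obj f).left) fun _ => (G.mapArrow.obj f).hom)

/-- The comparison map `G (Y ×_X ... ×_X Y) ⟶ G Y ×_{G X} ... ×_{G X} G Y`. -/
noncomputable def compApp (n : ℕ) :
    G.obj (widePullback f.right (fun _ : Fin (n + 1) => f.left) fun _ => f.hom) ⟶
      widePullback (G.mapArrow.obj f).right (fun _ : Fin (n + 1) => (G.mapArrow.obj f).left)
        fun _ => (G.mapArrow.obj f).hom :=
  WidePullback.lift (G.map (WidePullback.base _)) (fun i => G.map (WidePullback.π _ i))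
    (by intro i; dsimp; rw [← G.map_comp, WidePullback.π_arrow])

@[reassoc (attr := simp)]
lemma compApp_π (n : ℕ) (i : Fin (n + 1)) :
    compApp G f n ≫ WidePullback.π (B := G.obj f.right) (objs := fun _ => G.obj f.left)
      (arrows := fun _ => G.map f.hom) i = G.map (WidePullback.π _ i) := by
  simp [compApp]

@[reassoc (attr := simp)]
lemma compApp_base (n : ℕ) :
    compApp G f n ≫ WidePullback.base (B := G.obj f.right) (objs := fun _ : Fin (n + 1) => G.obj f.left)
      (arrows := fun _ => G.map f.hom) = G.map (WidePullback.base _) := by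
  simp [compApp]

instance isIso_compApp (n : ℕ)
    [PreservesLimit (WidePullbackShape.wideCospan f.right (fun _ : Fin (n + 1) => f.left)
      fun _ => f.hom) G] : IsIso (compApp G f n) := by
  let F := WidePullbackShape.wideCospan f.right (fun _ : Fin (n + 1) => f.left) fun _ => f.hom
  let e := WidePullbackShape.diagramIsoWideCospan (F ⋙ G)
  let i := IsLimit.conePointsIsoOfNatIso (isLimitOfPreserves G (limit.isLimit F))
    (limit.isLimit (WidePullbackShape.wideCospan (G.mapArrow.obj f).right
      (fun _ : Fin (n + 1) => (G.mapArrow.obj f).left) fun _ => (G.mapArrow.obj f).hom)) e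
  have : compApp G f n = i.hom := by
    apply WidePullback.hom_ext
    · intro j
      refine (compApp_π G f n j).trans ?_
      have := IsLimit.conePointsIsoOfNatIso_hom_comp (isLimitOfPreserves G (limit.isLimit F))
        (limit.isLimit (WidePullbackShape.wideCospan (G.mapArrow.obj f).right
          (fun _ : Fin (n + 1) => (G.mapArrow.obj f).left) fun _ => (G.mapArrow.obj f).hom)) e (some j)
      refine Eq.trans ?_ this.symm
      simp [e, F, WidePullbackShape.diagramIsoWideCospan, WidePullback.π]
    · refine (compApp_base G f n).trans ?_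
      have := IsLimit.conePointsIsoOfNatIso_hom_comp (isLimitOfPreserves G (limit.isLimit F))
        (limit.isLimit (WidePullbackShape.wideCospan (G.mapArrow.obj f).right
          (fun _ : Fin (n + 1) => (G.mapArrow.obj f).left) fun _ => (G.mapArrow.obj f).hom)) e none
      refine Eq.trans ?_ this.symm
      simp [e, F, WidePullbackShape.diagramIsoWideCospan, WidePullback.base]
  rw [this]
  infer_instance

variable [∀ n : ℕ, PreservesLimit (WidePullbackShape.wideCospan f.right
  (fun _ : Fin (n + 1) => f.left) fun _ => f.hom) G]

/-- `G` applied to the Čech nerve of `f` is the Čech nerve of `G f`. -/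
noncomputable def compLeftIso : f.cechNerve ⋙ G ≅ (G.mapArrow.obj f).cechNerve :=
  NatIso.ofComponents (fun n => asIso (compApp G f n.unop.len)) (by
    intro m n θ
    apply WidePullback.hom_ext
    · intro j
      simp [← G.map_comp]
    · simp [← G.map_comp])

/-- `G` applied to the augmented Čech nerve of `f` is the augmented Čech nerve of `G f`. -/
noncomputable def compIso :
    ((SimplicialObject.Augmented.whiskering C D).obj G).obj f.augmentedCechNerve ≅
      (G.mapArrow.obj f).augmentedCechNerve :=
  Comma.isoMk (compLeftIso G f) (Iso.refl _) (by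
    ext n
    simp [compLeftIso])

section MonoRight

variable {C : Type u} [Category.{v} C] {f g : Arrow C}
  [∀ n : ℕ, HasWidePullback f.right (fun _ : Fin (n + 1) => f.left) fun _ => f.hom]
  [∀ n : ℕ, HasWidePullback g.right (fun _ : Fin (n + 1) => g.left) fun _ => g.hom]
  (φ : f ⟶ g) [IsIso φ.left] [Mono φ.right]

lemma inv_left_hom_right : inv φ.left ≫ f.hom ≫ φ.right = g.hom := by
  rw [← Arrow.w φ, IsIso.inv_hom_id_assoc]

/-- Inverse of `mapCechNerve φ` in each degree when `φ.left` is an iso and `φ.right` is mono. -/
noncomputable def invApp (n : ℕ) :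
    widePullback g.right (fun _ : Fin (n + 1) => g.left) (fun _ => g.hom) ⟶
      widePullback f.right (fun _ : Fin (n + 1) => f.left) (fun _ => f.hom) :=
  WidePullback.lift (WidePullback.π _ 0 ≫ inv φ.left ≫ f.hom)
    (fun i => WidePullback.π _ i ≫ inv φ.left) (by
      intro i
      rw [← cancel_mono φ.right]
      simp only [Category.assoc, inv_left_hom_right φ, WidePullback.π_arrow])

instance isIso_mapCechNerve_app (n : SimplexCategoryᵒᵖ) :
    IsIso ((Arrow.mapCechNerve φ).app n) := by
  refine ⟨invApp φ n.unop.len, ?_, ?_⟩
  · apply WidePullback.hom_ext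
    · intro j
      simp [invApp]
    · simp [invApp]
  · apply WidePullback.hom_ext
    · intro j
      simp [invApp]
    · simp [invApp, inv_left_hom_right φ]

instance isIso_mapCechNerve : IsIso (Arrow.mapCechNerve φ) :=
  NatIso.isIso_of_isIso_app _

end MonoRight

end Groth.Agent.Lib.CechNerveFunctor
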