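/-
helper48 (request of lead, campaign K2b): the Čech comparison for a direct image, **equivariant for all
`O`-linear endomorphisms** of the module (not only for scalars).

* `exists_addEquiv_act_of_acyclic` : for a cover `U` of `X` with `N`-acyclic finite intersections and ANY monoid action
  `act : Mo →* End (toAb N)`, there is `e : Ȟ^p(U, N) ≃+ H^p(X, N)` intertwining the action on the Čech complex with
  `Sheaf.H.map (act m) p`.
* `exists_addEquiv_push_act` / `exists_addEquiv_push_end` : `H^p(Y, M) ≃+ H^p(X, g_* M)` intertwining `H^p(φ)` and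
  `H^p(g_* φ)` for every `φ : M ⟶ M`.
* `exists_addEquiv_push_end_of_isAffineHom` : the case of an affine morphism to a scheme with affine diagonal
  (all hypotheses on covers discharged).
-/
import Groth.Agent.Lib.CechPushAffine

set_option autoImplicit false
universe u

open CategoryTheory Limits Opposite Abelian AlgebraicGeometry TopologicalSpace

open Groth.Agent.Lib.CechEquivariant9 Groth.Agent.Lib.CechLinear9 Groth.Agent.Lib.CechPushCompare

namespace Groth.Agent.Lib.CechPushEnd

section Acyclic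

variable {X : Scheme.{u}}

/-- **Equivariant Čech-to-derived comparison for acyclic covers and an arbitrary monoid action** on the underlying
abelian sheaf. -/
theorem exists_addEquiv_act_of_acyclic {ι : Type u} (U : ι → X.Opens) (hcov : ⨆ i, U i = ⊤)
    (N : X.Modules)
    (hacyc : ∀ (n : ℕ) (a : Fin (n + 1) → ι) (q : ℕ),
      Subsingleton (CohTop.HU (Coh.toAb N) (q + 1) (iInf fun k => U (a k))))
    (Mo : Type u) [Monoid Mo] (act : Mo →* End (Coh.toAb N)) (p : ℕ) :
    ∃ e : ↑(CohB1.cechH U N p) ≃+ Coh.HH X N p,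
      ∀ (m : Mo) (x : ↑(CohB1.cechH U N p)),
        e (HomologicalComplex.homologyMap
          ((cechComplexFunctor U).map (act m : Coh.toAb N ⟶ Coh.toAb N).hom) p x) =
        Sheaf.H.map (act m : Coh.toAb N ⟶ Coh.toAb N) p (e x) := by
  have key : ∀ (V : X.Opens) (_ : iSup U = V),
      ∃ e : CohTop.cechH (Coh.toAb N).obj U p ≃+ CohTop.HU (Coh.toAb N) p V,
        ∀ (m : Mo) (x : CohTop.cechH (Coh.toAb N).obj U p),
          e (HomologicalComplex.homologyMap
            ((cechComplexFunctor U).map (act m : Coh.toAb N ⟶ Coh.toAb N).hom) p x) =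
          (e x).comp (Ext.mk₀ (act m : Coh.toAb N ⟶ Coh.toAb N)) (add_zero p) := by
    rintro V rfl
    exact exists_equivariant_top (X := X.toTopCat) (Coh.toAb N) U hacyc Mo act p
  obtain ⟨e, he⟩ := key ⊤ hcov
  let E := Groth.Agent.Lib.HBridge.HEquivHUTop (Coh.toAb N) p
  let e' : ↑(CohB1.cechH U N p) ≃+ Coh.HH X N p := e.trans E.symm
  refine ⟨e', ?_⟩
  intro m x
  have h1 : e' (HomologicalComplex.homologyMap
      ((cechComplexFunctor U).map (act m : Coh.toAb N ⟶ Coh.toAb N).hom) p x) =
      E.symm (e (HomologicalComplex.homologyMap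
        ((cechComplexFunctor U).map (act m : Coh.toAb N ⟶ Coh.toAb N).hom) p x)) := rfl
  have h2 : e' x = E.symm (e x) := rfl
  rw [h1, h2, AddEquiv.symm_apply_eq]
  have h3 : E (Sheaf.H.map (act m : Coh.toAb N ⟶ Coh.toAb N) p (E.symm (e x))) =
      (E (E.symm (e x))).comp (Ext.mk₀ (act m : Coh.toAb N ⟶ Coh.toAb N)) (add_zero p) :=
    HEquivHUTop_map (act m : Coh.toAb N ⟶ Coh.toAb N) p _
  rw [h3, AddEquiv.apply_symm_apply]
  exact he m x

end Acyclic

section Push

variable {X Y : Scheme.{u}} (g : Y ⟶ X) (M : Y.Modules)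

/-- the action of `End M` on the underlying abelian sheaf of `M` -/
noncomputable def actY : End M →* End (Coh.toAb M) :=
  (SheafOfModules.toSheaf Y.ringCatSheaf).mapEnd M

/-- the action of `End M` on the underlying abelian sheaf of `g_* M` -/
noncomputable def actX : End M →* End (Coh.toAb ((Scheme.Modules.pushforward g).obj M)) :=
  (Scheme.Modules.pushforward g ⋙ SheafOfModules.toSheaf X.ringCatSheaf).mapEnd M

lemma actX_hom (φ : End M) :
    (actX g M φ : Coh.toAb ((Scheme.Modules.pushforward g).obj M) ⟶ _).hom =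
      Functor.whiskerLeft (G g).op (actY M φ : Coh.toAb M ⟶ Coh.toAb M).hom := rfl

lemma cechHEquiv_act {ι : Type u} (V : ι → X.Opens) (p : ℕ) (φ : End M)
    (x : ↑(CohB1.cechH (fun i => g ⁻¹ᵁ V i) M p)) :
    cechHEquiv g M V p (HomologicalComplex.homologyMap
      ((cechComplexFunctor (fun i => g ⁻¹ᵁ V i)).map (actY M φ : Coh.toAb M ⟶ Coh.toAb M).hom) p x) =
    HomologicalComplex.homologyMap
      ((cechComplexFunctor V).map
        (actX g M φ : Coh.toAb ((Scheme.Modules.pushforward g).obj M) ⟶ _).hom) p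
      (cechHEquiv g M V p x) := by
  have h0 := cechIso_naturality (G g) V (actY M φ : Coh.toAb M ⟶ Coh.toAb M).hom
    (isIso_piComparison g V)
  rw [← actX_hom] at h0
  have h1 := congrArg (fun ψ => HomologicalComplex.homologyMap ψ p) h0
  simp only [HomologicalComplex.homologyMap_comp] at h1
  exact ConcreteCategory.congr_hom h1 x

/-- **Čech comparison for a direct image, equivariant for all endomorphisms** (hypotheses in `CohTop.HU` form). -/
theorem exists_addEquiv_push_act {ι : Type u} (V : ι → X.Opens) (hcov : ⨆ i, V i = ⊤)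
    (hV : ∀ s : Finset ι, s.Nonempty → IsAffineOpen (⨅ i ∈ s, V i))
    [hq : Coh.IsQCoh ((Scheme.Modules.pushforward g).obj M)]
    (hY : ∀ (n : ℕ) (a : Fin (n + 1) → ι) (q : ℕ),
      Subsingleton (CohTop.HU (Coh.toAb M) (q + 1) (iInf fun k => g ⁻¹ᵁ V (a k)))) (p : ℕ) :
    ∃ e : Coh.HH Y M p ≃+ Coh.HH X ((Scheme.Modules.pushforward g).obj M) p,
      ∀ (φ : M ⟶ M) (y : Coh.HH Y M p),
        e (Sheaf.H.map ((SheafOfModules.toSheaf Y.ringCatSheaf).map φ) p y) =
          Sheaf.H.map ((SheafOfModules.toSheaf X.ringCatSheaf).map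
            ((Scheme.Modules.pushforward g).map φ)) p (e y) := by
  classical
  have hcovY : ⨆ i, g ⁻¹ᵁ V i = ⊤ := by
    rw [← Scheme.Hom.preimage_iSup, hcov]
    rfl
  have hX : ∀ (n : ℕ) (a : Fin (n + 1) → ι) (q : ℕ),
      Subsingleton (CohTop.HU (Coh.toAb ((Scheme.Modules.pushforward g).obj M)) (q + 1)
        (iInf fun k => V (a k))) := by
    intro n a q
    have hs : (Finset.univ.image a).Nonempty := ⟨a 0, Finset.mem_image_of_mem a (Finset.mem_univ 0)⟩
    have haff := hV _ hs
    rw [iInf_image_eq V n a] at haff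
    exact subsingleton_of_forall_eq 0 fun α =>
      Groth.Agent.Lib.AffVan.HU_eq_zero_of_isAffineOpen _ hq q haff α
  obtain ⟨eY, heY⟩ := exists_addEquiv_act_of_acyclic (fun i => g ⁻¹ᵁ V i) hcovY M hY
    (End M) (actY M) p
  obtain ⟨eX, heX⟩ := exists_addEquiv_act_of_acyclic V hcov ((Scheme.Modules.pushforward g).obj M) hX
    (End M) (actX g M) p
  refine ⟨eY.symm.trans ((cechHEquiv g M V p).trans eX), fun φ y => ?_⟩
  obtain ⟨x, rfl⟩ := eY.surjective y
  have h1 : eY.symm (Sheaf.H.map ((SheafOfModules.toSheaf Y.ringCatSheaf).map φ) p (eY x)) =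
      HomologicalComplex.homologyMap
        ((cechComplexFunctor (fun i => g ⁻¹ᵁ V i)).map
          (actY M φ : Coh.toAb M ⟶ Coh.toAb M).hom) p x := by
    rw [AddEquiv.symm_apply_eq, heY]
    rfl
  simp only [AddEquiv.trans_apply, AddEquiv.symm_apply_apply]
  rw [h1, cechHEquiv_act, heX]
  rfl

/-- **Consumer form** (lead's requested signature): `g` quasi-compact quasi-separated, `M` quasi-coherent, `V` a
cover of `X` with affine finite intersections, `M` acyclic on the open subschemes `⋂_{i ∈ s} g⁻¹ V_i`. -/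
theorem exists_addEquiv_push_end [QuasiCompact g] [QuasiSeparated g] [M.IsQuasicoherent]
    {ι : Type u} (V : ι → X.Opens) (hcov : ⨆ i, V i = ⊤)
    (hV : ∀ s : Finset ι, s.Nonempty → IsAffineOpen (⨅ i ∈ s, V i))
    (hY : ∀ s : Finset ι, s.Nonempty → ∀ q : ℕ,
      Subsingleton (Coh.HHon Y M (⨅ i ∈ s, g ⁻¹ᵁ V i) (q + 1))) (p : ℕ) :
    ∃ e : Coh.HH Y M p ≃+ Coh.HH X ((Scheme.Modules.pushforward g).obj M) p,
      ∀ (φ : M ⟶ M) (y : Coh.HH Y M p),
        e (Sheaf.H.map ((SheafOfModules.toSheaf Y.ringCatSheaf).map φ) p y) =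
          Sheaf.H.map ((SheafOfModules.toSheaf X.ringCatSheaf).map
            ((Scheme.Modules.pushforward g).map φ)) p (e y) := by
  haveI : Coh.IsQCoh ((Scheme.Modules.pushforward g).obj M) :=
    Groth.Agent.Lib.H90OXModQcqs.isQuasicoherent_pushforward_of_qcqs g M
  exact exists_addEquiv_push_act g M V hcov hV (acyclic_of_HHon g M V hY) p

/-- **Affine case**: `g` affine, `X` with affine diagonal (e.g. separated): no hypothesis on covers. -/
theorem exists_addEquiv_push_end_of_isAffineHom [IsAffineHom g]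
    [IsAffineHom (pullback.diagonal (terminal.from X))] [M.IsQuasicoherent] (p : ℕ) :
    ∃ e : Coh.HH Y M p ≃+ Coh.HH X ((Scheme.Modules.pushforward g).obj M) p,
      ∀ (φ : M ⟶ M) (y : Coh.HH Y M p),
        e (Sheaf.H.map ((SheafOfModules.toSheaf Y.ringCatSheaf).map φ) p y) =
          Sheaf.H.map ((SheafOfModules.toSheaf X.ringCatSheaf).map
            ((Scheme.Modules.pushforward g).map φ)) p (e y) := by
  haveI : Coh.IsQCoh ((Scheme.Modules.pushforward g).obj M) :=
    Groth.Agent.Lib.H90OXModPush.isQuasicoherent_pushforward g M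
  let V : X.affineOpens → X.Opens := fun U => U.1
  have hcov : ⨆ i, V i = ⊤ := by
    rw [eq_top_iff]
    intro x _
    obtain ⟨U, hU, hxU, -⟩ := Opens.isBasis_iff_nbhd.1 X.isBasis_affineOpens
      (show x ∈ (⊤ : X.Opens) from trivial)
    exact Opens.mem_iSup.2 ⟨⟨U, hU⟩, hxU⟩
  have hV : ∀ s : Finset X.affineOpens, s.Nonempty → IsAffineOpen (⨅ i ∈ s, V i) := by
    intro s hs
    have := IsAffineOpen.biInf (X := X) (s : Set X.affineOpens) s.finite_toSet hs (U := V)
      (fun i _ => i.2)
    simpa using this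
  exact exists_addEquiv_push_act g M V hcov hV
    (Groth.Agent.Lib.CechPushAffine.acyclic_preimage_of_isAffineHom g M V (fun i => i.2)) p

end Push

end Groth.Agent.Lib.CechPushEnd
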