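import Groth.Agent.Lib.GMDuality25
import Groth.Agent.Lib.RGammaKInj
import Groth.Agent.Lib.SingleMaps31
import Groth.Prelude.Def_DualLC

/-!
# `H^q(RΓ_I K) ≅ colim_n Hom(A/I^n, K[q])` (helper25)
-/

set_option autoImplicit false
set_option linter.unusedSectionVars false
set_option maxHeartbeats 400000
universe u
open CategoryTheory CategoryTheory.Limits Opposite HomologicalComplex
attribute [local instance] HasDerivedCategory.standard

namespace Groth.Agent.Lib.HDI25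

open Groth.Agent.SingleMaps31 Groth.Agent.Lib.ModCxElem25 Groth.Agent.Lib.RGammaAcyc25
open Groth.Agent.Lib.TorsionOrthMod DerivedCategory

variable {A : Type u} [CommRing A] (I : Ideal A)

/-- the diagram defining `HDI` -/
noncomputable abbrev Fd (L : Dual.D A) : ℕᵒᵖᵒᵖ ⥤ ModuleCat.{u + 1} A :=
  (localCohomology.ringModIdeals (localCohomology.idealPowersDiagram I) ⋙
      DerivedCategory.singleFunctor (ModuleCat.{u} A) 0).op ⋙ (linearYoneda A (Dual.D A)).obj L

/-- `A/I^n` -/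
abbrev G (n : ℕ) : ModuleCat.{u} A := ModuleCat.of A (A ⧸ I ^ n)

/-- transition maps `A/I^m → A/I^n` -/
noncomputable abbrev tr {n m : ℕ} (h : n ≤ m) : G I m ⟶ G I n :=
  (localCohomology.ringModIdeals (localCohomology.idealPowersDiagram I)).map (homOfLE h).op

lemma homotopy_of_Q_map_eq' {T X : Cx A} [X.IsKInjective] (g g' : T ⟶ X)
    (h : Q.map g = Q.map g') : Nonempty (Homotopy g g') := by
  refine ⟨HomotopyCategory.homotopyOfEq _ _ ?_⟩
  apply (CochainComplex.IsKInjective.Qh_map_bijective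
    ((HomotopyCategory.quotient _ _).obj T) X).injective
  rw [← cancel_mono ((quotientCompQhIso (ModuleCat.{u} A)).hom.app X)]
  rw [quotientCompQhIso_hom_naturality, quotientCompQhIso_hom_naturality, h]

section gOfLinear

variable {N : ModuleCat.{u} A} {M : Cx A}

lemma gOf_add (z z' : N ⟶ M.cycles 0) : gOf (z + z') = gOf z + gOf z' := by
  apply from_single_hom_ext
  rw [HomologicalComplex.add_f_apply, gOf_f, gOf_f, gOf_f]
  simp

lemma gOf_smul (a : A) (z : N ⟶ M.cycles 0) : gOf (a • z) = a • gOf z := by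
  apply from_single_hom_ext
  rw [HomologicalComplex.smul_f_apply, gOf_f, gOf_f]
  simp

end gOfLinear

/-- `N[0]` in `D(A)` as the class of the single complex -/
noncomputable def sgIso (N : ModuleCat.{u} A) :
    (DerivedCategory.singleFunctor (ModuleCat.{u} A) 0).obj N ≅ Q.obj ((s0).obj N) := Iso.refl _

lemma sgIso_naturality {N N' : ModuleCat.{u} A} (t : N ⟶ N') :
    (DerivedCategory.singleFunctor (ModuleCat.{u} A) 0).map t ≫ (sgIso N').hom =
      (sgIso N).hom ≫ Q.map ((s0).map t) := by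
  change (DerivedCategory.singleFunctor (ModuleCat.{u} A) 0).map t ≫
    𝟙 ((DerivedCategory.singleFunctor (ModuleCat.{u} A) 0).obj N') =
    𝟙 ((DerivedCategory.singleFunctor (ModuleCat.{u} A) 0).obj N) ≫
      (DerivedCategory.singleFunctor (ModuleCat.{u} A) 0).map t
  rw [Category.comp_id, Category.id_comp]

variable (X : Cx A) (L : Dual.D A) (e : L ≅ Q.obj X)

/-- cycles killed by `I^n` to morphisms in the derived category -/
noncomputable def cLin (n : ℕ) :
    (G I n ⟶ X.cycles 0) →ₗ[A] ((DerivedCategory.singleFunctor (ModuleCat.{u} A) 0).obj (G I n) ⟶ L)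
    where
  toFun z := (sgIso (G I n)).hom ≫ Q.map (gOf z) ≫ e.inv
  map_add' z z' := by
    rw [gOf_add, Functor.map_add, Preadditive.add_comp, Preadditive.comp_add]
  map_smul' a z := by
    rw [gOf_smul, Functor.map_smul, Linear.smul_comp, Linear.comp_smul]
    rfl

lemma cLin_apply (n : ℕ) (z : G I n ⟶ X.cycles 0) :
    cLin I X L e n z = (sgIso (G I n)).hom ≫ Q.map (gOf z) ≫ e.inv := rfl

lemma cLin_tr {n m : ℕ} (h : n ≤ m) (z : G I n ⟶ X.cycles 0) :
    (DerivedCategory.singleFunctor (ModuleCat.{u} A) 0).map (tr I h) ≫ cLin I X L e n z =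
      cLin I X L e m (tr I h ≫ z) := by
  rw [cLin_apply, cLin_apply, ← gOf_comp, Functor.map_comp, ← Category.assoc, sgIso_naturality]
  simp only [Category.assoc]

/-- the map `A/I^n → Z⁰(X)`, `1 ↦ zc` -/
noncomputable def zmap (n : ℕ) (zc : X.cycles 0) (hz : ∀ a ∈ I ^ n, a • zc = 0) :
    G I n ⟶ X.cycles 0 :=
  ModuleCat.ofHom (Submodule.liftQ (I ^ n) (LinearMap.toSpanSingleton A (X.cycles 0) zc)
    (fun a ha => by
      rw [LinearMap.mem_ker]
      exact hz a ha))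

lemma zmap_mk (n : ℕ) (zc : X.cycles 0) (hz : ∀ a ∈ I ^ n, a • zc = 0) (a : A) :
    (zmap I X n zc hz).hom (Submodule.Quotient.mk a) = a • zc := rfl

lemma hom_ext_G {n : ℕ} {M : ModuleCat.{u} A} (f g : G I n ⟶ M)
    (h : f.hom (Submodule.Quotient.mk 1) = g.hom (Submodule.Quotient.mk 1)) : f = g := by
  apply ModuleCat.hom_ext
  apply LinearMap.ext
  intro x
  obtain ⟨a, rfl⟩ := Submodule.Quotient.mk_surjective _ x
  have : (Submodule.Quotient.mk a : A ⧸ I ^ n) = a • Submodule.Quotient.mk 1 := by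
    rw [← Submodule.Quotient.mk_smul, smul_eq_mul, mul_one]
  rw [this, map_smul, map_smul, h]

lemma tr_mk {n m : ℕ} (h : n ≤ m) (a : A) :
    (tr I h).hom (Submodule.Quotient.mk a) = Submodule.Quotient.mk a := rfl

lemma tr_zmap {n m : ℕ} (h : n ≤ m) (zc : X.cycles 0) (hz : ∀ a ∈ I ^ n, a • zc = 0) :
    tr I h ≫ zmap I X n zc hz =
      zmap I X m zc (fun a ha => hz a (Ideal.pow_le_pow_right h ha)) := by
  apply hom_ext_G
  rfl

lemma zmap_add (n : ℕ) (zc zc' : X.cycles 0) (hz : ∀ a ∈ I ^ n, a • zc = 0)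
    (hz' : ∀ a ∈ I ^ n, a • zc' = 0) (hz'' : ∀ a ∈ I ^ n, a • (zc + zc') = 0) :
    zmap I X n (zc + zc') hz'' = zmap I X n zc hz + zmap I X n zc' hz' := by
  apply hom_ext_G
  change (1 : A) • (zc + zc') = (1 : A) • zc + (1 : A) • zc'
  rw [smul_add]

lemma zmap_smul (n : ℕ) (b : A) (zc : X.cycles 0) (hz : ∀ a ∈ I ^ n, a • zc = 0)
    (hz' : ∀ a ∈ I ^ n, a • (b • zc) = 0) :
    zmap I X n (b • zc) hz' = b • zmap I X n zc hz := by
  apply hom_ext_G
  change (1 : A) • (b • zc) = b • ((1 : A) • zc)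
  rw [smul_comm]

lemma eq_zmap (n : ℕ) (z : G I n ⟶ X.cycles 0) :
    ∃ hz : ∀ a ∈ I ^ n, a • z.hom (Submodule.Quotient.mk 1) = 0,
      z = zmap I X n (z.hom (Submodule.Quotient.mk 1)) hz := by
  have hz : ∀ a ∈ I ^ n, a • z.hom (Submodule.Quotient.mk 1) = 0 := by
    intro a ha
    rw [← map_smul, ← Submodule.Quotient.mk_smul, smul_eq_mul, mul_one]
    have : (Submodule.Quotient.mk a : A ⧸ I ^ n) = 0 := (Submodule.Quotient.mk_eq_zero _).mpr ha
    rw [this, map_zero]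
  refine ⟨hz, ?_⟩
  apply hom_ext_G
  change z.hom (Submodule.Quotient.mk 1) = (1 : A) • z.hom (Submodule.Quotient.mk 1)
  rw [one_smul]

/-- `cLin` with values in the diagram -/
noncomputable def cLin' (n : ℕ) :
    (G I n ⟶ X.cycles 0) →ₗ[A] ((Fd I L).obj (op (op n)) : ModuleCat.{u + 1} A) :=
  cLin I X L e n

lemma cLin'_apply (n : ℕ) (z : G I n ⟶ X.cycles 0) :
    cLin' I X L e n z = cLin I X L e n z := rfl

/-- the class in the colimit of a cycle killed by `I^n` -/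
noncomputable def val (n : ℕ) (zc : X.cycles 0) (hz : ∀ a ∈ I ^ n, a • zc = 0) :
    (colimit (Fd I L) : ModuleCat.{u + 1} A) :=
  (colimit.ι (Fd I L) (op (op n))).hom (cLin' I X L e n (zmap I X n zc hz))

lemma Fd_map_apply {n m : ℕ} (h : n ≤ m)
    (g : (DerivedCategory.singleFunctor (ModuleCat.{u} A) 0).obj (G I n) ⟶ L) :
    ((Fd I L).map ((homOfLE h).op.op : op (op n) ⟶ op (op m))).hom g =
      (DerivedCategory.singleFunctor (ModuleCat.{u} A) 0).map (tr I h) ≫ g := rfl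

lemma val_eq {n m : ℕ} (h : n ≤ m) (zc : X.cycles 0) (hz : ∀ a ∈ I ^ n, a • zc = 0) :
    val I X L e n zc hz = val I X L e m zc (fun a ha => hz a (Ideal.pow_le_pow_right h ha)) := by
  have hw := colimit.w (Fd I L) ((homOfLE h).op.op : op (op n) ⟶ op (op m))
  have h1 := congrArg (fun φ => φ.hom (cLin' I X L e n (zmap I X n zc hz))) hw
  change (colimit.ι (Fd I L) (op (op m))).hom
    (((Fd I L).map ((homOfLE h).op.op : op (op n) ⟶ op (op m))).hom
      (cLin' I X L e n (zmap I X n zc hz))) = _ at h1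
  have h2 : ((Fd I L).map ((homOfLE h).op.op : op (op n) ⟶ op (op m))).hom
      (cLin' I X L e n (zmap I X n zc hz)) =
      cLin' I X L e m (zmap I X m zc (fun a ha => hz a (Ideal.pow_le_pow_right h ha))) := by
    rw [cLin'_apply, cLin'_apply, ← tr_zmap I X h zc hz, ← cLin_tr]
    rfl
  rw [h2] at h1
  exact h1.symm

lemma val_eq_of (n m : ℕ) (zc : X.cycles 0) (hz : ∀ a ∈ I ^ n, a • zc = 0)
    (hz' : ∀ a ∈ I ^ m, a • zc = 0) : val I X L e n zc hz = val I X L e m zc hz' := by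
  rw [val_eq I X L e (le_max_left n m) zc hz, val_eq I X L e (le_max_right n m) zc hz']

lemma val_add (n : ℕ) (zc zc' : X.cycles 0) (hz : ∀ a ∈ I ^ n, a • zc = 0)
    (hz' : ∀ a ∈ I ^ n, a • zc' = 0) (hz'' : ∀ a ∈ I ^ n, a • (zc + zc') = 0) :
    val I X L e n (zc + zc') hz'' = val I X L e n zc hz + val I X L e n zc' hz' := by
  unfold val
  rw [zmap_add I X n zc zc' hz hz' hz'', map_add, map_add]

lemma val_smul (n : ℕ) (b : A) (zc : X.cycles 0) (hz : ∀ a ∈ I ^ n, a • zc = 0)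
    (hz' : ∀ a ∈ I ^ n, a • (b • zc) = 0) :
    val I X L e n (b • zc) hz' = b • val I X L e n zc hz := by
  unfold val
  rw [zmap_smul I X n b zc hz hz', map_smul, map_smul]

/-- the map on torsion cycles -/
noncomputable def Φ₀ :
    DRing.torsionSub I (X.cycles 0) →ₗ[A] (colimit (Fd I L) : ModuleCat.{u + 1} A) where
  toFun w := val I X L e (Classical.choose w.2) w.1 (Classical.choose_spec w.2)
  map_add' w w' := by
    obtain ⟨n₁, h₁⟩ := w.2
    obtain ⟨n₂, h₂⟩ := w'.2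
    have h₁' : ∀ a ∈ I ^ max n₁ n₂, a • w.1 = 0 := fun a ha =>
      h₁ a (Ideal.pow_le_pow_right (le_max_left _ _) ha)
    have h₂' : ∀ a ∈ I ^ max n₁ n₂, a • w'.1 = 0 := fun a ha =>
      h₂ a (Ideal.pow_le_pow_right (le_max_right _ _) ha)
    have h₃ : ∀ a ∈ I ^ max n₁ n₂, a • (w.1 + w'.1) = 0 := fun a ha => by
      rw [smul_add, h₁' a ha, h₂' a ha, add_zero]
    rw [val_eq_of I X L e _ (max n₁ n₂) w.1 _ h₁', val_eq_of I X L e _ (max n₁ n₂) w'.1 _ h₂',
      ← val_add I X L e (max n₁ n₂) w.1 w'.1 h₁' h₂' h₃]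
    exact val_eq_of I X L e _ _ _ _ _
  map_smul' b w := by
    obtain ⟨n₁, h₁⟩ := w.2
    have h₂ : ∀ a ∈ I ^ n₁, a • (b • w.1) = 0 := fun a ha => by
      rw [smul_comm, h₁ a ha, smul_zero]
    rw [RingHom.id_apply, val_eq_of I X L e _ n₁ w.1 _ h₁, ← val_smul I X L e n₁ b w.1 h₁ h₂]
    exact val_eq_of I X L e _ _ _ _ _

lemma Φ₀_apply (w : DRing.torsionSub I (X.cycles 0)) (n : ℕ) (hz : ∀ a ∈ I ^ n, a • w.1 = 0) :
    Φ₀ I X L e w = val I X L e n w.1 hz :=
  val_eq_of I X L e _ _ _ _ _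

/-- the map `A/I^n → M`, `1 ↦ y` -/
noncomputable def ymap (n : ℕ) {M : ModuleCat.{u} A} (y : M) (hy : ∀ a ∈ I ^ n, a • y = 0) :
    G I n ⟶ M :=
  ModuleCat.ofHom (Submodule.liftQ (I ^ n) (LinearMap.toSpanSingleton A M y)
    (fun a ha => by
      rw [LinearMap.mem_ker]
      exact hy a ha))

lemma val_boundary (m : ℕ) (y : X.X (-1)) (hy : ∀ a ∈ I ^ m, a • y = 0)
    (hz : ∀ a ∈ I ^ m, a • (X.toCycles (-1) 0).hom y = 0) :
    val I X L e m ((X.toCycles (-1) 0).hom y) hz = 0 := by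
  have h1 : Q.map (gOf (zmap I X m ((X.toCycles (-1) 0).hom y) hz)) = 0 := by
    apply Q_map_gOf_eq_zero _ (ymap I m y hy)
    apply hom_ext_G
    change (X.toCycles (-1) 0).hom ((1 : A) • y) = (1 : A) • (X.toCycles (-1) 0).hom y
    rw [map_smul]
  unfold val
  have h2 : cLin' I X L e m (zmap I X m ((X.toCycles (-1) 0).hom y) hz) = 0 := by
    rw [cLin'_apply, cLin_apply, h1, zero_comp, comp_zero]
    rfl
  rw [h2, map_zero]

lemma val_congr (n : ℕ) (zc zc' : X.cycles 0) (h : zc = zc') (hz : ∀ a ∈ I ^ n, a • zc = 0)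
    (hz' : ∀ a ∈ I ^ n, a • zc' = 0) : val I X L e n zc hz = val I X L e n zc' hz' := by
  subst h
  rfl

/-- cycles of `Γ_I X` to torsion cycles of `X` -/
noncomputable def kMap : (gX I X).cycles 0 →ₗ[A] DRing.torsionSub I (X.cycles 0) :=
  LinearMap.codRestrict _ (HomologicalComplex.cyclesMap (ιX I X) 0).hom (fun w => by
    obtain ⟨n, hn⟩ := (show DRing.torsionSub I (X.X 0) from ((gX I X).iCycles 0).hom w).2
    refine ⟨n, fun a ha => ?_⟩
    apply iCycles_injective X 0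
    rw [map_smul, map_zero, cyclesMap_i_apply]
    exact hn a ha)

lemma kMap_i (w : (gX I X).cycles 0) :
    (X.iCycles 0).hom (kMap I X w).1 =
      (show DRing.torsionSub I (X.X 0) from ((gX I X).iCycles 0).hom w).1 :=
  cyclesMap_i_apply (ιX I X) 0 w

/-- the map on cycles of `Γ_I X` -/
noncomputable def Φc : (gX I X).cycles 0 →ₗ[A] (colimit (Fd I L) : ModuleCat.{u + 1} A) :=
  (Φ₀ I X L e).comp (kMap I X)

lemma Φc_toCycles (y : (gX I X).X (-1)) :
    Φc I X L e (((gX I X).toCycles (-1) 0).hom y) = 0 := by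
  obtain ⟨m, hm⟩ := (show DRing.torsionSub I (X.X (-1)) from y).2
  have h1 : (kMap I X (((gX I X).toCycles (-1) 0).hom y)).1 =
      (X.toCycles (-1) 0).hom (show DRing.torsionSub I (X.X (-1)) from y).1 := by
    apply iCycles_injective X 0
    rw [kMap_i, toCycles_i_apply, toCycles_i_apply]
    rfl
  have hz' : ∀ a ∈ I ^ m,
      a • (X.toCycles (-1) 0).hom (show DRing.torsionSub I (X.X (-1)) from y).1 = 0 := by
    intro a ha
    rw [← map_smul, hm a ha, map_zero]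
  have hz : ∀ a ∈ I ^ m, a • (kMap I X (((gX I X).toCycles (-1) 0).hom y)).1 = 0 := by
    rw [h1]
    exact hz'
  change Φ₀ I X L e (kMap I X _) = 0
  rw [Φ₀_apply I X L e _ m hz, val_congr I X L e m _ _ h1 hz hz']
  exact val_boundary I X L e m _ hm hz'

lemma ker_le : LinearMap.ker ((gX I X).homologyπ 0).hom ≤ LinearMap.ker (Φc I X L e) := by
  intro w hw
  rw [LinearMap.mem_ker] at hw ⊢
  obtain ⟨y, rfl⟩ := exists_of_homologyπ_eq_zero (gX I X) (-1) 0 (by norm_num) w hw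
  exact Φc_toCycles I X L e y

/-- the comparison map on `H⁰(Γ_I X)` -/
noncomputable def Φ : (gX I X).homology 0 →ₗ[A] (colimit (Fd I L) : ModuleCat.{u + 1} A) :=
  ((LinearMap.ker ((gX I X).homologyπ 0).hom).liftQ (Φc I X L e) (ker_le I X L e)).comp
  (LinearMap.quotKerEquivOfSurjective ((gX I X).homologyπ 0).hom
    (homologyπ_surjective (gX I X) 0)).symm.toLinearMap

lemma Φ_π (w : (gX I X).cycles 0) :
    Φ I X L e (((gX I X).homologyπ 0).hom w) = Φc I X L e w := by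
  have h1 : (LinearMap.quotKerEquivOfSurjective ((gX I X).homologyπ 0).hom
      (homologyπ_surjective (gX I X) 0)).symm (((gX I X).homologyπ 0).hom w) =
      Submodule.Quotient.mk w := by
    rw [LinearEquiv.symm_apply_eq]
    rfl
  change (LinearMap.ker ((gX I X).homologyπ 0).hom).liftQ (Φc I X L e) (ker_le I X L e)
    ((LinearMap.quotKerEquivOfSurjective ((gX I X).homologyπ 0).hom
      (homologyπ_surjective (gX I X) 0)).symm (((gX I X).homologyπ 0).hom w)) = _
  rw [h1]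
  rfl

instance presForgetAb : PreservesColimitsOfShape ℕᵒᵖᵒᵖ (CategoryTheory.forget AddCommGrpCat.{u + 1}) := by
  have : PreservesFilteredColimitsOfSize.{0, 0} (CategoryTheory.forget AddCommGrpCat.{u + 1}) :=
    preservesFilteredColimitsOfSize_shrink _
  infer_instance

instance presForgetMod :
    PreservesColimitsOfShape ℕᵒᵖᵒᵖ (CategoryTheory.forget (ModuleCat.{u + 1} A)) := by
  have : forget₂ (ModuleCat.{u + 1} A) AddCommGrpCat.{u + 1} ⋙
      CategoryTheory.forget AddCommGrpCat.{u + 1} =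
    CategoryTheory.forget (ModuleCat.{u + 1} A) := HasForget₂.forget_comp
  rw [← this]
  infer_instance

lemma smul_hom_mk_one {n : ℕ} {M : ModuleCat.{u} A} (f : G I n ⟶ M) (a : A) (ha : a ∈ I ^ n) :
    a • f.hom (Submodule.Quotient.mk 1) = 0 := by
  rw [← map_smul, ← Submodule.Quotient.mk_smul, smul_eq_mul, mul_one]
  have : (Submodule.Quotient.mk a : A ⧸ I ^ n) = 0 := (Submodule.Quotient.mk_eq_zero _).mpr ha
  rw [this, map_zero]

lemma Fd_map_cLin' {n m : ℕ} (h : n ≤ m) (zc : X.cycles 0) (hz : ∀ a ∈ I ^ n, a • zc = 0) :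
    ((Fd I L).map ((homOfLE h).op.op : op (op n) ⟶ op (op m))).hom
      (cLin' I X L e n (zmap I X n zc hz)) =
      cLin' I X L e m (zmap I X m zc (fun a ha => hz a (Ideal.pow_le_pow_right h ha))) := by
  rw [cLin'_apply, cLin'_apply, ← tr_zmap I X h zc hz, ← cLin_tr]
  rfl

lemma hom_eq_homOfLE {n m : ℕ} (f : (op (op n) : ℕᵒᵖᵒᵖ) ⟶ op (op m)) :
    ∃ h : n ≤ m, f = (homOfLE h).op.op := by
  refine ⟨leOfHom f.unop.unop, ?_⟩
  apply Quiver.Hom.unop_inj
  apply Quiver.Hom.unop_inj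
  exact Subsingleton.elim _ _

variable [X.IsKInjective]

lemma Φ_injective : Function.Injective (Φ I X L e) := by
  rw [injective_iff_map_eq_zero]
  intro ξ hξ
  obtain ⟨w, rfl⟩ := homologyπ_surjective (gX I X) 0 ξ
  rw [Φ_π] at hξ
  obtain ⟨n, hn⟩ := (kMap I X w).2
  have h0 : Φc I X L e w = val I X L e n (kMap I X w).1 hn := Φ₀_apply I X L e _ n hn
  rw [h0] at hξ
  unfold val at hξ
  have h1 : (colimit.ι (Fd I L) (op (op n))).hom (cLin' I X L e n (zmap I X n _ hn)) =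
      (colimit.ι (Fd I L) (op (op n))).hom 0 := by rw [hξ, map_zero]
  obtain ⟨k, f, g, hfg⟩ := Concrete.colimit_exists_of_rep_eq (Fd I L) _ _ h1
  obtain ⟨k⟩ := k
  obtain ⟨m⟩ := k
  obtain ⟨hnm, rfl⟩ := hom_eq_homOfLE f
  have h2 : cLin' I X L e m (zmap I X m (kMap I X w).1
      (fun a ha => hn a (Ideal.pow_le_pow_right hnm ha))) = 0 := by
    rw [← Fd_map_cLin' I X L e hnm]
    refine Eq.trans hfg ?_
    exact map_zero ((Fd I L).map g).hom
  rw [cLin'_apply, cLin_apply] at h2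
  set zm := zmap I X m (kMap I X w).1 (fun a ha => hn a (Ideal.pow_le_pow_right hnm ha)) with hzm
  have h3 : Q.map (gOf zm) = Q.map (0 : (s0).obj (G I m) ⟶ X) := by
    rw [Functor.map_zero]
    have h2' : ((sgIso (G I m)).hom ≫ Q.map (gOf zm) ≫ e.inv :
        (DerivedCategory.singleFunctor (ModuleCat.{u} A) 0).obj (G I m) ⟶ L) = 0 := h2
    have h4 : (sgIso (G I m)).inv ≫ ((sgIso (G I m)).hom ≫ Q.map (gOf zm) ≫ e.inv) ≫ e.hom = 0 := by
      rw [h2', zero_comp, comp_zero]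
    simpa only [Category.assoc, Iso.inv_hom_id, Category.comp_id, Iso.inv_hom_id_assoc] using h4
  obtain ⟨ho⟩ := homotopy_of_Q_map_eq' _ _ h3
  have h5 := ho.comm 0
  rw [dNext_eq ho.hom (show (ComplexShape.up ℤ).Rel 0 1 by simp),
    prevD_eq ho.hom (show (ComplexShape.up ℤ).Rel (-1) 0 by simp),
    HomologicalComplex.single_obj_d, zero_comp, zero_add, HomologicalComplex.zero_f, add_zero,
    gOf_f] at h5
  let y : G I m ⟶ X.X (-1) :=
    (singleObjXSelf (ComplexShape.up ℤ) 0 (G I m)).inv ≫ ho.hom 0 (-1)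
  have h6 : y ≫ X.d (-1) 0 = zm ≫ X.iCycles 0 := by
    rw [Category.assoc, ← h5, Iso.inv_hom_id_assoc]
  have hy : ∀ a ∈ I ^ m, a • y.hom (Submodule.Quotient.mk 1) = 0 :=
    fun a ha => smul_hom_mk_one I y a ha
  let y' : (gX I X).X (-1) :=
    (⟨y.hom (Submodule.Quotient.mk 1), ⟨m, hy⟩⟩ : DRing.torsionSub I (X.X (-1)))
  have h7 : ((gX I X).toCycles (-1) 0).hom y' = w := by
    apply iCycles_injective (gX I X) 0
    rw [toCycles_i_apply]
    apply Subtype.ext
    refine (gX_d_apply I X (-1) 0 y').trans ?_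
    refine Eq.trans ?_ (kMap_i I X w)
    have h8 := congrArg (fun φ => φ.hom (Submodule.Quotient.mk 1)) h6
    refine h8.trans ?_
    change (X.iCycles 0).hom (zm.hom (Submodule.Quotient.mk 1)) = _
    rw [hzm, zmap_mk, one_smul]
  rw [← h7]
  exact homologyπ_toCycles_apply (gX I X) (-1) 0 y'

lemma Φ_surjective : Function.Surjective (Φ I X L e) := by
  intro c
  obtain ⟨j, y, hy⟩ := Concrete.colimit_exists_rep (Fd I L) c
  obtain ⟨j⟩ := j
  obtain ⟨n⟩ := j
  let y₀ : (DerivedCategory.singleFunctor (ModuleCat.{u} A) 0).obj (G I n) ⟶ L := y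
  obtain ⟨φ', hφ'⟩ := Groth.Agent.Lib.GMDuality25.exists_Q_map_eq
    ((sgIso (G I n)).inv ≫ y₀ ≫ e.hom)
  have h1 : cLin' I X L e n (zOf φ') = y := by
    rw [cLin'_apply, cLin_apply, gOf_zOf, hφ']
    simp only [Category.assoc, Iso.hom_inv_id, Category.comp_id, Iso.hom_inv_id_assoc]
    rfl
  obtain ⟨hz, h2⟩ := eq_zmap I X n (zOf φ')
  set zc := (zOf φ').hom (Submodule.Quotient.mk 1) with hzcdef
  have hzc : (X.iCycles 0).hom zc ∈ DRing.torsionSub I (X.X 0) :=
    ⟨n, fun a ha => by rw [← map_smul, hz a ha, map_zero]⟩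
  let x : (gX I X).X 0 := (⟨(X.iCycles 0).hom zc, hzc⟩ : DRing.torsionSub I (X.X 0))
  have hx : ((gX I X).d 0 1).hom x = 0 := by
    apply Subtype.ext
    refine (gX_d_apply I X 0 1 x).trans ?_
    exact d_iCycles_apply X 0 1 zc
  obtain ⟨w, hw⟩ := exists_cycle (gX I X) 0 1 (by norm_num) x hx
  have h3 : (kMap I X w).1 = zc := by
    apply iCycles_injective X 0
    rw [kMap_i, hw]
  refine ⟨((gX I X).homologyπ 0).hom w, ?_⟩
  rw [Φ_π]
  change Φ₀ I X L e (kMap I X w) = c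
  have hz' : ∀ a ∈ I ^ n, a • (kMap I X w).1 = 0 := by
    rw [h3]
    exact hz
  rw [Φ₀_apply I X L e _ n hz', val_congr I X L e n _ _ h3 hz' hz]
  unfold val
  rw [← h2, h1]
  exact hy

/-- **degree-zero comparison**: `H⁰(Γ_I X) ≃ colim_n Hom(A/I^n, L)` for `L ≅ Q X`, `X` K-injective. -/
noncomputable def ΦEquiv :
    (gX I X).homology 0 ≃ₗ[A] (colimit (Fd I L) : ModuleCat.{u + 1} A) :=
  LinearEquiv.ofBijective (Φ I X L e) ⟨Φ_injective I X L e, Φ_surjective I X L e⟩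

omit [X.IsKInjective] in
/-- `H^q(Γ_I X) ≅ H⁰(Γ_I (X⟦q⟧))` -/
noncomputable def homologyShiftIso (q : ℤ) :
    (gX I X).homology q ≅ (gX I (X⟦q⟧)).homology 0 :=
  (((HomologicalComplex.homologyFunctor (ModuleCat.{u} A) (ComplexShape.up ℤ) 0).shiftIso q 0 q
      (by simp)).app (gX I X)).symm ≪≫
    (HomologicalComplex.homologyFunctor (ModuleCat.{u} A) (ComplexShape.up ℤ) 0).mapIso
      ((((DRing.gammaI I).mapHomologicalComplex (ComplexShape.up ℤ)).commShiftIso q).app X).symm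

omit [X.IsKInjective] in
/-- **`H^q(RΓ_I K) ≃ colim_n Hom(A/I^n, K[q])`** -/
theorem nonempty_equiv [DRing.HasRgammaI I] (K : Dual.D A) (q : ℤ) :
    Nonempty (Dual.HD A ((DRing.RgammaI I).obj K) q ≃ₗ[A] Dual2.HDI A I K q) := by
  obtain ⟨J, f, hJ, hf⟩ := Groth.Agent.Lib.RGammaKInj.exists_kinj (Q.objPreimage K)
  have : IsIso (Q.map f) := by
    rw [isIso_Q_map_iff_quasiIso]
    exact hf
  let e₀ : K ≅ Q.obj J := (Q.objObjPreimageIso K).symm ≪≫ asIso (Q.map f)
  let e₁ : (DerivedCategory.homologyFunctor (ModuleCat.{u} A) q).obj ((DRing.RgammaI I).obj K) ≅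
      (gX I J).homology q :=
    (DerivedCategory.homologyFunctor (ModuleCat.{u} A) q).mapIso
      ((DRing.RgammaI I).mapIso e₀ ≪≫ Groth.Agent.Lib.RGammaKInj.rgIso I J) ≪≫
      (DerivedCategory.homologyFunctorFactors (ModuleCat.{u} A) q).app (gX I J)
  let eq : K⟦q⟧ ≅ Q.obj (J⟦q⟧) :=
    (shiftFunctor (Dual.D A) q).mapIso e₀ ≪≫ ((Q.commShiftIso q).app J).symm
  exact ⟨(e₁ ≪≫ homologyShiftIso I J q).toLinearEquiv ≪≫ₗ ΦEquiv I (J⟦q⟧) (K⟦q⟧) eq⟩

end Groth.Agent.Lib.HDI25
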