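import Groth.Agent.Lib.CechRG25
import Groth.Agent.Lib.HDI25

/-!
# `RΓ_I` on complexes of "good" modules and restriction of scalars (helper25)

* `DivT M`: every element of `M` is divisible by `f ^ N` up to `f`-power torsion.
* `GoodCx Y`: all `Γ_J (Y^i)` are `DivT`; then `RΓ_I (Q Y) ≅ Q (Γ_I Y)` (`rgIsoGood`, `A` Noetherian).
* restrictions of complexes of injective `B`-modules are good (`goodCx_restrict`);
  `RΓ_I (K|_A)` is computed by `Γ_{IB}` of an injective resolution over `B`.
-/

set_option autoImplicit false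
set_option linter.unusedSectionVars false
set_option maxHeartbeats 400000
universe u
open CategoryTheory CategoryTheory.Limits Opposite HomologicalComplex
attribute [local instance] HasDerivedCategory.standard

namespace Groth.Agent.Lib.CechRes25

open DerivedCategory Groth.Agent.Lib.CechRG25
open Groth.Agent.Lib.RGammaAcyc25 Groth.Agent.Lib.RGammaNoeth25 Groth.Agent.Lib.RGammaComp25

variable {A : Type u} [CommRing A]

/-- divisibility by powers of `f` up to `f`-power torsion, for all `f` -/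
def DivT (M : Type u) [AddCommGroup M] [Module A M] : Prop :=
  ∀ (f : A) (N : ℕ) (x : M), ∃ (y : M) (k : ℕ), f ^ k • (f ^ N • y - x) = 0

lemma divT_of_injective [IsNoetherianRing A] {M : Type u} [AddCommGroup M] [Module A M]
    (hM : Module.Injective A M) : DivT (A := A) M :=
  fun f N x => exists_pow_smul_sub_torsion hM f N x

lemma mk_surjective_of_divT (f : A) {M : Type u} [AddCommGroup M] [Module A M]
    (hM : DivT (A := A) M) :
    Function.Surjective (LocalizedModule.mkLinearMap (Submonoid.powers f) M) := by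
  intro y
  induction y using LocalizedModule.induction_on with
  | h x s =>
    obtain ⟨s, N, rfl⟩ := s
    obtain ⟨y, k, hk⟩ := hM f N x
    refine ⟨y, ?_⟩
    rw [LocalizedModule.mkLinearMap_apply, LocalizedModule.mk_eq]
    refine ⟨⟨f ^ k, k, rfl⟩, ?_⟩
    change f ^ k • (f ^ N • y) = f ^ k • ((1 : A) • x)
    rw [one_smul, ← sub_eq_zero, ← smul_sub]
    exact hk

section Noeth

variable [IsNoetherianRing A]

lemma sesG_shortExact' (f : A) (X : Cx A) (hX : ∀ i, DivT (A := A) (X.X i)) :
    (sesG f X).ShortExact := by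
  apply HomologicalComplex.shortExact_of_degreewise_shortExact
  intro i
  exact
    { exact := by
        rw [ShortComplex.ShortExact.moduleCat_exact_iff_function_exact]
        intro y
        constructor
        · intro hy
          exact ⟨(⟨y, mem_of_mk_eq_zero f y hy⟩ : DRing.torsionSub (Ideal.span {f}) (X.X i)), rfl⟩
        · rintro ⟨x, rfl⟩
          exact mk_eq_zero_of_mem f _ (show DRing.torsionSub (Ideal.span {f}) (X.X i) from x).2
      mono_f := (ModuleCat.mono_iff_injective _).mpr Subtype.val_injective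
      epi_g := (ModuleCat.epi_iff_surjective _).mpr (mk_surjective_of_divT f (hX i)) }

lemma isCoc_gX' (f : A) (X : Cx A) (hX : ∀ i, DivT (A := A) (X.X i)) :
    IsCoc f (Q.obj X) (Q.obj (gX (Ideal.span {f}) X)) :=
  isCoc_of_triangle f X _ _ _
    (DerivedCategory.triangleOfSES_distinguished (sesG_shortExact' f X hX))

/-- all `Γ_J` of the terms are divisible up to torsion -/
def GoodCx (Y : Cx A) : Prop :=
  ∀ (J : Ideal A) (i : ℤ), DivT (A := A) (DRing.torsionSub J (Y.X i))

lemma goodCx_of_injTerms {Y : Cx A} (hY : InjTerms Y) : GoodCx Y := fun J i =>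
  divT_of_injective (Groth.Agent.Lib.H29TorsionInj.injective_torsionSub J (Y.X i) (hY.module i))

theorem nonempty_ced_iso' (fs : List A) (X Y : Cx A) (hY : GoodCx Y)
    (e : Q.obj X ≅ Q.obj Y) :
    Nonempty (Q.obj (ced fs X) ≅ Q.obj (gX (Ideal.span {x | x ∈ fs}) Y)) := by
  induction fs with
  | nil =>
    have h0 : (⊥ : Ideal A) = Ideal.span {x | x ∈ ([] : List A)} := by simp
    exact ⟨e ≪≫ Q.mapIso ((gXBotIso Y).symm ≪≫ gXCongr h0 Y)⟩
  | cons f fs ih =>
    obtain ⟨e'⟩ := ih
    have h1 := isCoc_ce f (ced fs X)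
    have h2 := isCoc_gX' f (gX (Ideal.span {x | x ∈ fs}) Y) (fun i => hY _ i)
    obtain ⟨e''⟩ := isCoc_unique h1 h2 e'
    have h0 : Ideal.span {x | x ∈ fs} ⊔ Ideal.span {f} = Ideal.span {x | x ∈ f :: fs} := by
      rw [← Ideal.span_union]
      congr 1
      ext x
      simp only [Set.mem_union, Set.mem_ofPred_eq, Set.mem_singleton_iff, List.mem_cons]
      tauto
    exact ⟨e'' ≪≫ Q.mapIso (compIso (Ideal.span {x | x ∈ fs}) (Ideal.span {f}) Y ≪≫ gXCongr h0 Y)⟩

lemma exists_list_span (I : Ideal A) : ∃ fs : List A, Ideal.span {x | x ∈ fs} = I := by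
  obtain ⟨s, hs⟩ := (isNoetherianRing_iff_ideal_fg A).mp inferInstance I
  refine ⟨s.toList, ?_⟩
  rw [← hs]
  congr 1
  ext x
  simp

/-- `RΓ_I (Q Y) ≅ Q (Γ_I Y)` for a good complex `Y` -/
theorem nonempty_rgIsoGood (I : Ideal A) (Y : Cx A) (hY : GoodCx Y) :
    Nonempty ((DRing.RgammaI I).obj (Q.obj Y) ≅ Q.obj (gX I Y)) := by
  obtain ⟨fs, hfs⟩ := exists_list_span I
  obtain ⟨Y', j, hK, hj, hInj⟩ := exists_kinj_injTerms Y
  have : IsIso (Q.map j) := by
    rw [isIso_Q_map_iff_quasiIso]
    exact hj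
  obtain ⟨e1⟩ := nonempty_ced_iso fs Y Y' hInj (asIso (Q.map j))
  obtain ⟨e2⟩ := nonempty_ced_iso' fs Y Y hY (Iso.refl _)
  exact ⟨(DRing.RgammaI I).mapIso (asIso (Q.map j)) ≪≫ rgIsoInj I Y' hInj ≪≫
    Q.mapIso (gXCongr hfs.symm Y') ≪≫ e1.symm ≪≫ e2 ≪≫ Q.mapIso (gXCongr hfs Y)⟩

end Noeth

section Restrict

variable {B : Type u} [CommRing B] [Algebra A B]

/-- restriction of scalars of a `B`-module -/
noncomputable abbrev res (E : ModuleCat.{u} B) : ModuleCat.{u} A :=
  (ModuleCat.restrictScalars.{u} (algebraMap A B)).obj E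

lemma res_smul (E : ModuleCat.{u} B) (a : A) (x : E) :
    (a • (show res (A := A) E from x) : res (A := A) E) = (algebraMap A B a • x : E) := rfl

lemma mem_torsionSub_res_iff (I : Ideal A) (E : ModuleCat.{u} B) (x : E) :
    (show res (A := A) E from x) ∈ DRing.torsionSub I (res (A := A) E) ↔
      x ∈ DRing.torsionSub (I.map (algebraMap A B)) E := by
  constructor
  · rintro ⟨n, hn⟩
    refine ⟨n, fun b hb => ?_⟩
    rw [← Ideal.map_pow] at hb
    refine Submodule.span_induction (p := fun b _ => b • x = 0) ?_ ?_ ?_ ?_ hb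
    · rintro _ ⟨a, ha, rfl⟩
      exact hn a ha
    · exact zero_smul _ _
    · intro b b' _ _ h h'
      rw [add_smul, h, h', add_zero]
    · intro c b _ h
      rw [smul_eq_mul, mul_smul, h, smul_zero]
  · rintro ⟨n, hn⟩
    refine ⟨n, fun a ha => ?_⟩
    refine hn (algebraMap A B a) ?_
    rw [← Ideal.map_pow]
    exact Ideal.mem_map_of_mem _ ha

lemma divT_torsionSub_res [IsNoetherianRing B] (I : Ideal A) (E : ModuleCat.{u} B)
    (hE : Module.Injective B E) : DivT (A := A) (DRing.torsionSub I (res (A := A) E)) := by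
  have hinj := Groth.Agent.Lib.H29TorsionInj.injective_torsionSub (I.map (algebraMap A B)) E hE
  intro f N x
  let x' : DRing.torsionSub (I.map (algebraMap A B)) E :=
    ⟨x.1, (mem_torsionSub_res_iff I E x.1).mp x.2⟩
  obtain ⟨y', k, hk⟩ := exists_pow_smul_sub_torsion hinj (algebraMap A B f) N x'
  refine ⟨⟨y'.1, (mem_torsionSub_res_iff I E y'.1).mpr y'.2⟩, k, ?_⟩
  apply Subtype.ext
  have h1 := congrArg Subtype.val hk
  change (algebraMap A B f) ^ k • ((algebraMap A B f) ^ N • y'.1 - x'.1) = 0 at h1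
  change algebraMap A B (f ^ k) • (algebraMap A B (f ^ N) • y'.1 - x'.1) = 0
  rw [map_pow, map_pow]
  exact h1

/-- restriction of scalars on complexes -/
noncomputable abbrev rCx : Cx B ⥤ Cx A :=
  (ModuleCat.restrictScalars.{u} (algebraMap A B)).mapHomologicalComplex (ComplexShape.up ℤ)

lemma goodCx_rCx [IsNoetherianRing B] (Y : Cx B) (hY : InjTerms Y) :
    GoodCx ((rCx (A := A)).obj Y) := fun J i =>
  divT_torsionSub_res J (Y.X i) (hY.module i)

/-- `Γ_I (E|_A) ≃ (Γ_{IB} E)|_A` -/
noncomputable def torsionResEquiv (I : Ideal A) (E : ModuleCat.{u} B) :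
    DRing.torsionSub I (res (A := A) E) ≃ₗ[A]
      res (A := A) (ModuleCat.of B (DRing.torsionSub (I.map (algebraMap A B)) E)) where
  toFun x := (⟨x.1, (mem_torsionSub_res_iff I E x.1).mp x.2⟩ :
    DRing.torsionSub (I.map (algebraMap A B)) E)
  invFun y := ⟨(show DRing.torsionSub (I.map (algebraMap A B)) E from y).1,
    (mem_torsionSub_res_iff I E _).mpr (show DRing.torsionSub (I.map (algebraMap A B)) E from y).2⟩
  map_add' _ _ := rfl
  map_smul' _ _ := rfl
  left_inv _ := rfl
  right_inv _ := rfl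

/-- `Γ_I (Y|_A) ≅ (Γ_{IB} Y)|_A` -/
noncomputable def gXResIso (I : Ideal A) (Y : Cx B) :
    gX I ((rCx (A := A)).obj Y) ≅ (rCx (A := A)).obj (gX (I.map (algebraMap A B)) Y) :=
  HomologicalComplex.Hom.isoOfComponents
    (fun i => (torsionResEquiv I (Y.X i)).toModuleIso) (by
      intro i j _
      rfl)

/-- a `B`-linear equivalence as an `A`-linear equivalence between restrictions (universe-heterogeneous) -/
def resEquiv {M : ModuleCat.{u} B} {N : ModuleCat.{u + 1} B} (e : M ≃ₗ[B] N) :
    (ModuleCat.restrictScalars.{u} (algebraMap A B)).obj M ≃ₗ[A]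
      (ModuleCat.restrictScalars.{u + 1} (algebraMap A B)).obj N where
  toFun x := e x
  invFun y := e.symm y
  map_add' x y := e.map_add x y
  map_smul' a x := e.map_smul (algebraMap A B a) x
  left_inv x := e.left_inv x
  right_inv y := e.right_inv y

/-- homology commutes with restriction of scalars -/
noncomputable def homologyResIso (Z : Cx B) (i : ℤ) :
    ((rCx (A := A)).obj Z).homology i ≅ res (A := A) (Z.homology i) :=
  (Z.sc i).mapHomologyIso (ModuleCat.restrictScalars.{u} (algebraMap A B))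

/-- **`H^i_I(K|_A) ≅ H^i_{IB}(K)|_A`** -/
theorem nonempty_HDI_restrict_iso [IsNoetherianRing A] [IsNoetherianRing B] (I : Ideal A)
    (K : Dual.D B) (i : ℤ) :
    Nonempty (Dual2.HDI A I ((DRing.restrictD (algebraMap A B)).obj K) i ≅
      (ModuleCat.restrictScalars.{u + 1} (algebraMap A B)).obj
        (Dual2.HDI B (I.map (algebraMap A B)) K i)) := by
  obtain ⟨Y, j, hK, hj, hInj⟩ := exists_kinj_injTerms (Q.objPreimage K)
  have : IsIso (Q.map j) := by
    rw [isIso_Q_map_iff_quasiIso]
    exact hj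
  let eK : K ≅ Q.obj Y := (Q.objObjPreimageIso K).symm ≪≫ asIso (Q.map j)
  -- the `B` side
  obtain ⟨eB⟩ := Groth.Agent.Lib.HDI25.nonempty_equiv (I.map (algebraMap A B)) K i
  let hB : (DerivedCategory.homologyFunctor (ModuleCat.{u} B) i).obj
      ((DRing.RgammaI (I.map (algebraMap A B))).obj K) ≅
      (gX (I.map (algebraMap A B)) Y).homology i :=
    (DerivedCategory.homologyFunctor (ModuleCat.{u} B) i).mapIso
      ((DRing.RgammaI (I.map (algebraMap A B))).mapIso eK ≪≫
        rgIsoInj (I.map (algebraMap A B)) Y hInj) ≪≫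
      (DerivedCategory.homologyFunctorFactors (ModuleCat.{u} B) i).app _
  -- the `A` side
  let KA := (DRing.restrictD (algebraMap A B)).obj K
  let eKA : KA ≅ Q.obj ((rCx (A := A)).obj Y) :=
    (DRing.restrictD (algebraMap A B)).mapIso eK ≪≫
      ((ModuleCat.restrictScalars.{u} (algebraMap A B)).mapDerivedCategoryFactors).app Y
  obtain ⟨eA⟩ := Groth.Agent.Lib.HDI25.nonempty_equiv I KA i
  obtain ⟨eG⟩ := nonempty_rgIsoGood I ((rCx (A := A)).obj Y) (goodCx_rCx Y hInj)
  let hA : (DerivedCategory.homologyFunctor (ModuleCat.{u} A) i).obj ((DRing.RgammaI I).obj KA) ≅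
      res (A := A) ((gX (I.map (algebraMap A B)) Y).homology i) :=
    (DerivedCategory.homologyFunctor (ModuleCat.{u} A) i).mapIso
      ((DRing.RgammaI I).mapIso eKA ≪≫ eG) ≪≫
      (DerivedCategory.homologyFunctorFactors (ModuleCat.{u} A) i).app _ ≪≫
      (HomologicalComplex.homologyFunctor _ _ i).mapIso (gXResIso I Y) ≪≫
      homologyResIso _ i
  exact ⟨(eA.symm ≪≫ₗ hA.toLinearEquiv ≪≫ₗ
    resEquiv (A := A) (hB.symm.toLinearEquiv ≪≫ₗ eB)).toModuleIso⟩

end Restrict

end Groth.Agent.Lib.CechRes25
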