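import Groth.Agent.Lib.CechLES
import Mathlib.Algebra.Homology.HomologySequence
import Mathlib.Algebra.Homology.HomologicalComplexAbelian

/-!
# Short exact sequences of Cech complexes, and `H^0` of a cochain complex of abelian groups
-/

universe w v u

open CategoryTheory Limits Opposite

namespace Groth.Agent.Lib.CechSES

open Groth.Agent.Lib.CechLow Groth.Agent.Lib.CechLES

section H0

variable (K L : CochainComplex AddCommGrpCat.{w} ℕ)

/-- cycles in degree `0` as a subgroup of `K.X 0` -/
noncomputable def cyclesEquiv : K.cycles 0 ≃+ AddMonoidHom.ker (K.d 0 1).hom := by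
  refine AddEquiv.ofBijective
    (AddMonoidHom.codRestrict (K.iCycles 0).hom (AddMonoidHom.ker (K.d 0 1).hom) (fun z => ?_))
    ⟨?_, ?_⟩
  · rw [AddMonoidHom.mem_ker, ← ConcreteCategory.comp_apply, K.iCycles_d]
    rfl
  · intro z z' h
    have h' : K.iCycles 0 z = K.iCycles 0 z' := congrArg Subtype.val h
    exact (AddCommGrpCat.mono_iff_injective (K.iCycles 0)).1 inferInstance h'
  · rintro ⟨x, hx⟩
    let k : AddCommGrpCat.of (AddMonoidHom.ker (K.d 0 1).hom) ⟶ K.X 0 :=
      AddCommGrpCat.ofHom (AddSubgroup.subtype _)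
    have hk : k ≫ K.d 0 1 = 0 := by
      ext ⟨y, hy⟩
      exact hy
    refine ⟨K.liftCycles k 1 (by simp) hk ⟨x, hx⟩, ?_⟩
    apply Subtype.ext
    change K.iCycles 0 (K.liftCycles k 1 (by simp) hk ⟨x, hx⟩) = x
    rw [← ConcreteCategory.comp_apply, K.liftCycles_i]
    rfl

/-- `H^0` of a cochain complex of abelian groups is the group of `0`-cocycles -/
noncomputable def H0equiv : K.homology 0 ≃+ AddMonoidHom.ker (K.d 0 1).hom :=
  (K.isoHomologyπ₀.symm.addCommGroupIsoToAddEquiv).trans (cyclesEquiv K)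

variable {K L}

lemma H0equiv_naturality (φ : K ⟶ L) (x : K.homology 0) :
    (H0equiv L (HomologicalComplex.homologyMap φ 0 x)).1 = φ.f 0 (H0equiv K x).1 := by
  change L.iCycles 0 (L.isoHomologyπ₀.inv (HomologicalComplex.homologyMap φ 0 x)) =
    φ.f 0 (K.iCycles 0 (K.isoHomologyπ₀.inv x))
  have h1 := ConcreteCategory.congr_hom (CochainComplex.isoHomologyπ₀_inv_naturality φ) x
  rw [ConcreteCategory.comp_apply, ConcreteCategory.comp_apply] at h1
  rw [h1, ← ConcreteCategory.comp_apply, HomologicalComplex.cyclesMap_i,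
    ConcreteCategory.comp_apply]

end H0

section SES

variable {D : Type u} [Category.{v} D] [HasFiniteProducts D]
  {ι : Type w} (Y : ι → D)
  {P₁ P₂ P₃ : Dᵒᵖ ⥤ AddCommGrpCat.{w}} (f : P₁ ⟶ P₂) (g : P₂ ⟶ P₃)

lemma map_comp_eq_zero (w : f ≫ g = 0) :
    (cechComplexFunctor Y).map f ≫ (cechComplexFunctor Y).map g = 0 := by
  ext n x
  apply cochain_ext
  intro a
  rw [HomologicalComplex.comp_f, ConcreteCategory.comp_apply, comp_map_apply, comp_map_apply,
    ← ConcreteCategory.comp_apply, ← NatTrans.comp_app, w]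
  simp

/-- the short complex of Cech complexes attached to `P₁ ⟶ P₂ ⟶ P₃` -/
noncomputable def cechSC (w : f ≫ g = 0) : ShortComplex (CochainComplex AddCommGrpCat.{w} ℕ) :=
  ShortComplex.mk ((cechComplexFunctor Y).map f) ((cechComplexFunctor Y).map g)
    (map_comp_eq_zero Y f g w)

theorem cechSC_shortExact (w : f ≫ g = 0)
    (hf : ∀ (n : ℕ) (a : Fin (n + 1) → ι),
      Function.Injective (f.app (op (∏ᶜ fun k => Y (a k)))))
    (hfg : ∀ (n : ℕ) (a : Fin (n + 1) → ι) (y : P₂.obj (op (∏ᶜ fun k => Y (a k)))),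
      g.app _ y = 0 → ∃ x, f.app _ x = y)
    (hg : ∀ (n : ℕ) (a : Fin (n + 1) → ι),
      Function.Surjective (g.app (op (∏ᶜ fun k => Y (a k))))) :
    (cechSC Y f g w).ShortExact := by
  apply HomologicalComplex.shortExact_of_degreewise_shortExact
  intro n
  refine { exact := ?_, mono_f := ?_, epi_g := ?_ }
  · rw [ShortComplex.ab_exact_iff]
    intro (y : ((cechComplexFunctor Y).obj P₂).X n)
      (hy : ((cechComplexFunctor Y).map g).f n y = 0)
    have : ∀ a : Fin (n + 1) → ι, ∃ x, f.app _ x = comp Y P₂ n a y := by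
      intro a
      apply hfg n a
      rw [← comp_map_apply, hy, map_zero]
    choose xs hxs using this
    refine ⟨mkCochain Y P₁ n xs, ?_⟩
    change ((cechComplexFunctor Y).map f).f n _ = y
    apply cochain_ext
    intro a
    rw [comp_map_apply, comp_mkCochain, hxs]
  · apply (AddCommGrpCat.mono_iff_injective _).2
    intro (x : ((cechComplexFunctor Y).obj P₁).X n) (x' : ((cechComplexFunctor Y).obj P₁).X n)
      (h : ((cechComplexFunctor Y).map f).f n x = ((cechComplexFunctor Y).map f).f n x')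
    apply cochain_ext
    intro a
    apply hf n a
    rw [← comp_map_apply, ← comp_map_apply, h]
  · apply (AddCommGrpCat.epi_iff_surjective _).2
    intro (z : ((cechComplexFunctor Y).obj P₃).X n)
    choose ys hys using fun a : Fin (n + 1) → ι => hg n a (comp Y P₃ n a z)
    refine ⟨mkCochain Y P₂ n ys, ?_⟩
    change ((cechComplexFunctor Y).map g).f n _ = z
    apply cochain_ext
    intro a
    rw [comp_map_apply, comp_mkCochain, hys]

end SES

end Groth.Agent.Lib.CechSES
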