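import Mathlib.CategoryTheory.Limits.Preserves.Basic
import Mathlib.CategoryTheory.Preadditive.Basic
import Mathlib.CategoryTheory.Limits.Shapes.ZeroMorphisms
import Mathlib.CategoryTheory.Limits.Shapes.Products
import Mathlib.Algebra.BigOperators.Group.Finset.Basic

/-!
# A finite "direct sum" of colimit-preserving functors preserves colimits (helper44)

If `Ψ : C ⥤ D` (with `D` preadditive) is a retract of a finite family `Ψs x` through natural transformations
`π x : Ψ ⟶ Ψs x`, `ι x : Ψs x ⟶ Ψ` with `∑ x, π x ≫ ι x = 𝟙`, and every `Ψs x` preserves the colimit of `K`,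
then so does `Ψ`. Applied to pointwise finite products `M ↦ ∏ᶜ_x Ψs x (M)`.
-/

set_option autoImplicit false
universe w w' v₁ v₂ u₁ u₂

open CategoryTheory CategoryTheory.Limits

namespace Groth.Agent.Lib.PreservesSumH44

variable {C : Type u₁} [Category.{v₁} C] {D : Type u₂} [Category.{v₂} D] [Preadditive D]
  {κ : Type*} [Fintype κ]
  (Ψ : C ⥤ D) (Ψs : κ → (C ⥤ D)) (π : ∀ x, Ψ ⟶ Ψs x) (ι : ∀ x, Ψs x ⟶ Ψ)
  (h : ∀ M, ∑ x, (π x).app M ≫ (ι x).app M = 𝟙 (Ψ.obj M))

section

variable {J : Type w} [Category.{w'} J] {K : J ⥤ C}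

/-- the cocone over `K ⋙ Ψs x` induced by a cocone over `K ⋙ Ψ` -/
@[simps]
def coconeOf (x : κ) (s : Cocone (K ⋙ Ψ)) : Cocone (K ⋙ Ψs x) where
  pt := s.pt
  ι :=
    { app := fun j => (ι x).app (K.obj j) ≫ s.ι.app j
      naturality := fun j j' f => by
        have h1 := (ι x).naturality (K.map f)
        have h2 := s.w f
        simp only [Functor.comp_obj, Functor.comp_map, Functor.const_obj_obj, Functor.const_obj_map,
          Category.comp_id] at h2 ⊢
        rw [← Category.assoc, h1, Category.assoc, h2] }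

/-- the candidate descent map -/
noncomputable def descOf [∀ x, PreservesColimit K (Ψs x)] {c : Cocone K} (hc : IsColimit c)
    (s : Cocone (K ⋙ Ψ)) : Ψ.obj c.pt ⟶ s.pt :=
  ∑ x, (π x).app c.pt ≫ (isColimitOfPreserves (Ψs x) hc).desc (coconeOf Ψ Ψs ι x s)

theorem map_desc [∀ x, PreservesColimit K (Ψs x)] {c : Cocone K} (hc : IsColimit c)
    (s : Cocone (K ⋙ Ψ)) (x : κ) (j : J) :
    (Ψs x).map (c.ι.app j) ≫ (isColimitOfPreserves (Ψs x) hc).desc (coconeOf Ψ Ψs ι x s) =
      (ι x).app (K.obj j) ≫ s.ι.app j :=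
  (isColimitOfPreserves (Ψs x) hc).fac (coconeOf Ψ Ψs ι x s) j

include h in
theorem fac_descOf [∀ x, PreservesColimit K (Ψs x)] {c : Cocone K} (hc : IsColimit c)
    (s : Cocone (K ⋙ Ψ)) (j : J) :
    Ψ.map (c.ι.app j) ≫ descOf Ψ Ψs π ι hc s = s.ι.app j := by
  unfold descOf
  rw [Preadditive.comp_sum]
  have h1 : ∀ x, Ψ.map (c.ι.app j) ≫ (π x).app c.pt ≫
      (isColimitOfPreserves (Ψs x) hc).desc (coconeOf Ψ Ψs ι x s) =
      ((π x).app (K.obj j) ≫ (ι x).app (K.obj j)) ≫ s.ι.app j := by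
    intro x
    have h2 := (π x).naturality (c.ι.app j)
    simp only [Functor.const_obj_obj] at h2
    rw [← Category.assoc, h2, Category.assoc, map_desc]
    exact (Category.assoc _ _ _).symm
  rw [Finset.sum_congr rfl (fun x _ => h1 x), ← Preadditive.sum_comp, h]
  exact Category.id_comp _

include h in
theorem uniq_descOf [∀ x, PreservesColimit K (Ψs x)] {c : Cocone K} (hc : IsColimit c)
    (s : Cocone (K ⋙ Ψ)) (m : Ψ.obj c.pt ⟶ s.pt)
    (hm : ∀ j, Ψ.map (c.ι.app j) ≫ m = s.ι.app j) : m = descOf Ψ Ψs π ι hc s := by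
  have h0 : m = ∑ x, (π x).app c.pt ≫ (ι x).app c.pt ≫ m := by
    conv_lhs => rw [← Category.id_comp m, ← h c.pt, Preadditive.sum_comp]
    simp only [Category.assoc]
  rw [h0]
  unfold descOf
  refine Finset.sum_congr rfl (fun x _ => ?_)
  congr 1
  apply (isColimitOfPreserves (Ψs x) hc).uniq (coconeOf Ψ Ψs ι x s)
  intro j
  have h3 := hm j
  have h4 := (ι x).naturality (c.ι.app j)
  simp only [Functor.const_obj_obj] at h4
  change (Ψs x).map (c.ι.app j) ≫ (ι x).app c.pt ≫ m = (ι x).app (K.obj j) ≫ s.ι.app j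
  rw [← h3, ← Category.assoc, h4, Category.assoc]

include h in
theorem preservesColimit_of_sum [∀ x, PreservesColimit K (Ψs x)] : PreservesColimit K Ψ where
  preserves {c} hc := ⟨
    { desc := fun s => descOf Ψ Ψs π ι hc s
      fac := fun s j => fac_descOf Ψ Ψs π ι h hc s j
      uniq := fun s m hm => uniq_descOf Ψ Ψs π ι h hc s m hm }⟩

end

include h in
theorem preservesColimitsOfSize_of_sum [∀ x, PreservesColimitsOfSize.{w', w} (Ψs x)] :
    PreservesColimitsOfSize.{w', w} Ψ where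
  preservesColimitsOfShape := ⟨fun {_} => preservesColimit_of_sum Ψ Ψs π ι h⟩

end Groth.Agent.Lib.PreservesSumH44
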