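import Groth.Agent.Lib.CechLES
import Groth.Agent.Lib.PreservesSumH44
import Mathlib.Algebra.Homology.Additive

/-!
# The terms of the Čech complex of a finite family, as a finite sum of evaluation functors (helper44)

For a finite family `Y : ι → D` the functor `P ↦ Č^n(Y, P) = ∏_a P(Y_a)` on presheaves of abelian groups is a
finite direct sum of evaluation functors; hence, for a functor `S : 𝒞 ⥤ (Dᵒᵖ ⥤ Ab)` such that every
`c ↦ S(c)(Y_a)` preserves colimits, `c ↦ Č^n(Y, S c)` preserves colimits.  Also: `cechComplexFunctor` is additive.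
-/

set_option autoImplicit false
universe w v u v₁ u₁

open CategoryTheory CategoryTheory.Limits Opposite

namespace Groth.Agent.Lib.CechSumH44

open Groth.Agent.Lib.CechLow Groth.Agent.Lib.CechLES

section Prod

variable {β : Type w} {C : Type u₁} [Category.{v₁} C] [Preadditive C] {f g : β → C}
  [HasProduct f] [HasProduct g]

lemma pi_map_add (p q : ∀ b, f b ⟶ g b) :
    Limits.Pi.map (fun b => p b + q b) = Limits.Pi.map p + Limits.Pi.map q := by
  apply Pi.hom_ext
  intro a
  rw [Preadditive.add_comp, Pi.map_π, Pi.map_π, Pi.map_π, ← Preadditive.comp_add]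

lemma pi_ι_map [DecidableEq β] (p : ∀ b, f b ⟶ g b) (a : β) :
    p a ≫ Pi.ι g a = Pi.ι f a ≫ Limits.Pi.map p := by
  apply Pi.hom_ext
  intro b
  rw [Category.assoc, Category.assoc, Pi.map_π]
  by_cases hab : a = b
  · subst hab
    rw [Pi.ι_π_eq_id, Pi.ι_π_eq_id_assoc, Category.comp_id]
  · rw [Pi.ι_π_of_ne _ hab, Pi.ι_π_of_ne_assoc _ hab, Limits.comp_zero, Limits.zero_comp]

lemma sum_π_ι [DecidableEq β] [Fintype β] : ∑ a, Pi.π f a ≫ Pi.ι f a = 𝟙 (∏ᶜ f) := by
  apply Pi.hom_ext
  intro b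
  rw [Preadditive.sum_comp, Category.id_comp, Finset.sum_eq_single b]
  · rw [Category.assoc, Pi.ι_π_eq_id, Category.comp_id]
  · intro a _ hab
    rw [Category.assoc, Pi.ι_π_of_ne _ hab, Limits.comp_zero]
  · intro h
    exact absurd (Finset.mem_univ b) h

end Prod

variable {D : Type u} [Category.{v} D] [HasFiniteProducts D] {ι : Type w} (Y : ι → D)

instance cech_additive :
    (cechComplexFunctor (A := AddCommGrpCat.{w}) Y).Additive where
  map_add {P Q α β} := by
    apply HomologicalComplex.hom_ext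
    intro n
    exact pi_map_add (fun a : Fin (n + 1) → ι => α.app (op (∏ᶜ fun k => Y (a k))))
      (fun a => β.app (op (∏ᶜ fun k => Y (a k))))

/-- the degree `n` term of the Čech complex, as a functor of the presheaf -/
noncomputable abbrev cechX (n : ℕ) : (Dᵒᵖ ⥤ AddCommGrpCat.{w}) ⥤ AddCommGrpCat.{w} :=
  cechComplexFunctor (A := AddCommGrpCat.{w}) Y ⋙
    HomologicalComplex.eval AddCommGrpCat.{w} (ComplexShape.up ℕ) n

/-- the multi-intersection -/
noncomputable abbrev inter {n : ℕ} (a : Fin (n + 1) → ι) : D := ∏ᶜ fun k => Y (a k)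

/-- the projection to the component `a`, as a natural transformation -/
noncomputable def πX (n : ℕ) (a : Fin (n + 1) → ι) :
    cechX Y n ⟶ (evaluation Dᵒᵖ AddCommGrpCat.{w}).obj (op (inter Y a)) where
  app P := comp Y P n a
  naturality _ _ α := map_f_comp Y α n a

variable [DecidableEq ι]

/-- the inclusion of the component `a`, as a natural transformation -/
noncomputable def ιX (n : ℕ) (a : Fin (n + 1) → ι) :
    (evaluation Dᵒᵖ AddCommGrpCat.{w}).obj (op (inter Y a)) ⟶ cechX Y n where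
  app P := Pi.ι (fun a : Fin (n + 1) → ι => P.obj (op (inter Y a))) a
  naturality P Q α :=
    pi_ι_map (fun a : Fin (n + 1) → ι => α.app (op (∏ᶜ fun k => Y (a k)))) a

theorem sum_πX_ιX [Fintype ι] (n : ℕ) (P : Dᵒᵖ ⥤ AddCommGrpCat.{w}) :
    ∑ a, (πX Y n a).app P ≫ (ιX Y n a).app P = 𝟙 ((cechX Y n).obj P) :=
  sum_π_ι (f := fun a : Fin (n + 1) → ι => P.obj (op (inter Y a)))

omit [DecidableEq ι] in
/-- If every `c ↦ S(c)(Y_a)` preserves colimits, so does `c ↦ Č^n(Y, S c)`, for a finite family `Y`. -/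
theorem preservesColimits_cechX [Finite ι] {𝒞 : Type u₁} [Category.{v₁} 𝒞]
    (S : 𝒞 ⥤ (Dᵒᵖ ⥤ AddCommGrpCat.{w})) (n : ℕ)
    (h : ∀ a : Fin (n + 1) → ι, PreservesColimitsOfSize.{w, w}
      (S ⋙ (evaluation Dᵒᵖ AddCommGrpCat.{w}).obj (op (inter Y a)))) :
    PreservesColimitsOfSize.{w, w} (S ⋙ cechX Y n) := by
  classical
  haveI := Fintype.ofFinite ι
  exact Groth.Agent.Lib.PreservesSumH44.preservesColimitsOfSize_of_sum (S ⋙ cechX Y n)
    (fun a : Fin (n + 1) → ι => S ⋙ (evaluation Dᵒᵖ AddCommGrpCat.{w}).obj (op (inter Y a)))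
    (fun a => Functor.whiskerLeft S (πX Y n a)) (fun a => Functor.whiskerLeft S (ιX Y n a))
    (fun c => sum_πX_ιX Y n (S.obj c))

end Groth.Agent.Lib.CechSumH44
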