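import Groth.Agent.Lib.CechLow

/-!
# Transfer of Cech complexes along a functor preserving the relevant finite products

For `G : D₁ ⥤ D₂`, a family `Y : ι → D₁` such that `G` preserves all the finite products
`∏ Y (a k)` (`a : Fin (n+1) → ι`), and a presheaf `P` on `D₂`, the Cech complex of `G.op ⋙ P` with
respect to `Y` is isomorphic to the Cech complex of `P` with respect to `G ∘ Y`.
-/

universe w v₁ v₂ v' u₁ u₂ u'

open CategoryTheory Limits Opposite

namespace Groth.Agent.Lib.CechTransfer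

open Groth.Agent.Lib.CechLow

variable {D₁ : Type u₁} [Category.{v₁} D₁] [HasFiniteProducts D₁]
  {D₂ : Type u₂} [Category.{v₂} D₂] [HasFiniteProducts D₂] (G : D₁ ⥤ D₂)
  {A : Type u'} [Category.{v'} A] [HasProducts.{w} A] [Preadditive A]
  {ι : Type w} (Y : ι → D₁) (P : D₂ᵒᵖ ⥤ A)
  (hG : ∀ (n : ℕ) (a : Fin (n + 1) → ι), IsIso (piComparison G (fun k => Y (a k))))

/-- the comparison isomorphism `G (∏ Y (a k)) ≅ ∏ G (Y (a k))` -/
noncomputable def cmpIso (n : ℕ) (a : Fin (n + 1) → ι) :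
    G.obj (∏ᶜ fun k => Y (a k)) ≅ ∏ᶜ fun k => G.obj (Y (a k)) :=
  @asIso _ _ _ _ (piComparison G (fun k => Y (a k))) (hG n a)

lemma cmpIso_hom_π (n : ℕ) (a : Fin (n + 1) → ι) (k : Fin (n + 1)) :
    (cmpIso G Y hG n a).hom ≫ Pi.π (fun k => G.obj (Y (a k))) k =
      G.map (Pi.π (fun k => Y (a k)) k) :=
  piComparison_comp_π G _ k

lemma map_faceMap_cmpIso {n : ℕ} (j : Fin (n + 2)) (a : Fin (n + 2) → ι) :
    G.map (faceMap Y j a) ≫ (cmpIso G Y hG n (face j a)).hom =
      (cmpIso G Y hG (n + 1) a).hom ≫ faceMap (fun i => G.obj (Y i)) j a := by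
  apply Pi.hom_ext
  intro k
  rw [Category.assoc, Category.assoc, cmpIso_hom_π, ← G.map_comp, faceMap_π]
  erw [faceMap_π (fun i => G.obj (Y i)) j a k]
  exact (cmpIso_hom_π G Y hG (n + 1) a (j.succAbove k)).symm

/-- the degreewise isomorphism -/
noncomputable def XIso (n : ℕ) :
    ((cechComplexFunctor (fun i => G.obj (Y i))).obj P).X n ≅
      ((cechComplexFunctor Y).obj (G.op ⋙ P)).X n :=
  Pi.mapIso (fun a : Fin (n + 1) → ι => P.mapIso (cmpIso G Y hG n a).op)

lemma XIso_hom_comp (n : ℕ) (a : Fin (n + 1) → ι) :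
    (XIso G Y P hG n).hom ≫ comp Y (G.op ⋙ P) n a =
      comp (fun i => G.obj (Y i)) P n a ≫ P.map (cmpIso G Y hG n a).hom.op :=
  Pi.mapIso_hom_π _ a

lemma XIso_hom_d_comp (n : ℕ) (a : Fin (n + 2) → ι) :
    ((XIso G Y P hG n).hom ≫ ((cechComplexFunctor Y).obj (G.op ⋙ P)).d n (n + 1)) ≫
      comp Y (G.op ⋙ P) (n + 1) a =
    (((cechComplexFunctor (fun i => G.obj (Y i))).obj P).d n (n + 1) ≫
      (XIso G Y P hG (n + 1)).hom) ≫ comp Y (G.op ⋙ P) (n + 1) a := by
  rw [Category.assoc, cech_d_comp, Category.assoc, XIso_hom_comp, ← Category.assoc,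
    cech_d_comp, Preadditive.comp_sum, Preadditive.sum_comp]
  refine Finset.sum_congr rfl (fun j _ => ?_)
  rw [Preadditive.comp_zsmul, Preadditive.zsmul_comp]
  congr 1
  rw [← Category.assoc, XIso_hom_comp, Category.assoc, Category.assoc]
  congr 1
  change P.map _ ≫ P.map (G.map (faceMap Y j a)).op = _
  rw [← P.map_comp, ← P.map_comp, ← op_comp, ← op_comp, map_faceMap_cmpIso]

/-- the isomorphism of Cech complexes -/
noncomputable def cechIso :
    (cechComplexFunctor (fun i => G.obj (Y i))).obj P ≅ (cechComplexFunctor Y).obj (G.op ⋙ P) :=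
  HomologicalComplex.Hom.isoOfComponents (XIso G Y P hG) (by
    rintro n _ rfl
    apply Pi.hom_ext
    intro (a : Fin (n + 2) → ι)
    exact XIso_hom_d_comp G Y P hG n a)

include hG in
lemma isZero_homology_iff [CategoryWithHomology A] (n : ℕ) :
    IsZero (((cechComplexFunctor (fun i => G.obj (Y i))).obj P).homology n) ↔
      IsZero (((cechComplexFunctor Y).obj (G.op ⋙ P)).homology n) :=
  ((HomologicalComplex.homologyFunctor A _ n).mapIso (cechIso G Y P hG)).isZero_iff

end Groth.Agent.Lib.CechTransfer
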