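import Groth.Agent.S0455
import Groth.Agent.Lib.CechTransfer
import Groth.Agent.Lib.CechLES

/-!
# Čech vanishing for sheaves whose restrictions to unions of finite intersections are surjective
(helper9)

Strategy: on the coarse topology `τ` on `X` generated by the `U i`, the pushforward `G` of `F|_W`
(`W = ⋃ U i`) is a flasque sheaf having the same Čech complex as `F`; apply the flasque case.
-/

set_option autoImplicit false
universe u

open CategoryTheory Limits Opposite TopologicalSpace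

namespace Groth.Agent.Lib.CechSurj9

variable {X : TopCat.{u}} {ι : Type u} (U : ι → Opens X)

/-- the coarse topology generated by the `U i`. -/
@[instance_reducible]
def coarse : TopologicalSpace X := TopologicalSpace.generateFrom (Set.range fun i => (U i : Set X))

theorem coarse_le : X.str ≤ coarse U :=
  le_generateFrom (by
    rintro s ⟨i, rfl⟩
    exact (U i).2)

/-- `X` with the coarse topology. -/
def X' : TopCat.{u} := @TopCat.of X (coarse U)

/-- the identity as a continuous map to the coarse space. -/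
def toCoarse : X ⟶ X' U :=
  TopCat.ofHom (X := X) (Y := X' U) ⟨fun x => x, by exact continuous_id_of_le (coarse_le U)⟩

/-- the family as opens of the coarse space. -/
def U' (i : ι) : Opens (X' U) :=
  ⟨(U i : Set X), TopologicalSpace.isOpen_generateFrom_of_mem ⟨i, rfl⟩⟩

theorem map_U' (i : ι) : (Opens.map (toCoarse U)).obj (U' U i) = U i := rfl

theorem exists_list_aux (S : Set X)
    (hS : TopologicalSpace.GenerateOpen (Set.range fun i => (U i : Set X)) S) :
    ∀ x : X, x ∈ S → x ∈ iSup U →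
      ∃ l : List ι, l ≠ [] ∧ (∀ i ∈ l, x ∈ U i) ∧ ∀ y : X, (∀ i ∈ l, y ∈ U i) → y ∈ S := by
  induction hS with
  | basic s hs =>
    obtain ⟨i, rfl⟩ := hs
    intro x hx _
    exact ⟨[i], by simp, by simpa using hx, fun y hy => by simpa using hy⟩
  | univ =>
    intro x _ hxW
    obtain ⟨i, hi⟩ := Opens.mem_iSup.1 hxW
    exact ⟨[i], by simp, by simpa using hi, fun y _ => Set.mem_univ y⟩
  | inter s t _ _ ihs iht =>
    intro x hx hxW
    obtain ⟨l1, h1, h2, h3⟩ := ihs x hx.1 hxW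
    obtain ⟨l2, -, h5, h6⟩ := iht x hx.2 hxW
    refine ⟨l1 ++ l2, by simp [h1], ?_, ?_⟩
    · intro i hi
      rcases List.mem_append.1 hi with h | h
      · exact h2 i h
      · exact h5 i h
    · intro y hy
      exact ⟨h3 y fun i hi => hy i (List.mem_append_left _ hi),
        h6 y fun i hi => hy i (List.mem_append_right _ hi)⟩
  | sUnion S _ ih =>
    intro x hx hxW
    obtain ⟨s, hs, hxs⟩ := Set.mem_sUnion.1 hx
    obtain ⟨l, h1, h2, h3⟩ := ih s hs x hxs hxW
    exact ⟨l, h1, h2, fun y hy => Set.mem_sUnion.2 ⟨s, hs, h3 y hy⟩⟩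

/-- points of coarse opens inside `W` have a finite intersection neighbourhood. -/
theorem exists_list (V : Opens (X' U)) (x : X) (hxV : x ∈ (Opens.map (toCoarse U)).obj V)
    (hxW : x ∈ iSup U) :
    ∃ l : List ι, l ≠ [] ∧ (∀ i ∈ l, x ∈ U i) ∧
      ∀ y : X, (∀ i ∈ l, y ∈ U i) → y ∈ (Opens.map (toCoarse U)).obj V :=
  exists_list_aux U ((Opens.map (toCoarse U)).obj V : Set X) V.2 x hxV hxW

/-- from a nonempty list to a tuple. -/
theorem exists_tuple (l : List ι) (hl : l ≠ []) :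
    ∃ (p : ℕ) (b : Fin (p + 1) → ι), ∀ y : X, y ∈ (⨅ j, U (b j)) ↔ ∀ i ∈ l, y ∈ U i := by
  obtain ⟨p, hp⟩ : ∃ p, l.length = p + 1 :=
    ⟨l.length - 1, (Nat.sub_add_cancel (List.length_pos_iff.2 hl)).symm⟩
  refine ⟨p, fun j => l.get (j.cast hp.symm), fun y => ?_⟩
  have h1 : y ∈ (⨅ j, U (l.get (Fin.cast hp.symm j))) ↔ ∀ j, y ∈ U (l.get (Fin.cast hp.symm j)) := by
    rw [← SetLike.mem_coe, Opens.coe_iInf]
    simp
  rw [h1]
  constructor
  · intro h i hi
    obtain ⟨k, rfl⟩ := List.mem_iff_get.1 hi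
    have := h (k.cast hp)
    simpa using this
  · intro h j
    exact h _ (List.get_mem _ _)

variable (F : CohTop.Ab X)

/-- the inclusion of `W = ⋃ U i`. -/
abbrev jW : TopCat.of (iSup U : Opens X) ⟶ X := TopCat.ofHom ⟨_, continuous_subtype_val⟩

/-- the flasque sheaf on the coarse space: pushforward of the restriction of `F` to `W`. -/
noncomputable def G : CohTop.Ab (X' U) :=
  (TopCat.Sheaf.pushforward AddCommGrpCat.{u} (jW U ≫ toCoarse U)).obj (CohTop.restr F (iSup U))

/-- the open `V ∩ W` of `X`, in the form used by `G`. -/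
noncomputable def β (V : Opens (X' U)) : Opens X :=
  (iSup U : Opens X).isOpenEmbedding.isOpenMap.functor.obj
    ((Opens.map (jW U ≫ toCoarse U)).obj V)

theorem G_obj (V : Opens (X' U)) : (G U F).obj.obj (op V) = F.obj.obj (op (β U V)) := rfl

theorem mem_β (V : Opens (X' U)) (x : X) :
    x ∈ β U V ↔ x ∈ (Opens.map (toCoarse U)).obj V ∧ x ∈ iSup U := by
  constructor
  · rintro ⟨⟨y, hy⟩, hyV, rfl⟩
    exact ⟨hyV, hy⟩
  · rintro ⟨h1, h2⟩
    exact ⟨⟨x, h2⟩, h1, rfl⟩

theorem β_le_iSup (V : Opens (X' U)) : β U V ≤ iSup U := fun x hx => ((mem_β U V x).1 hx).2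

theorem β_le_map (V : Opens (X' U)) : β U V ≤ (Opens.map (toCoarse U)).obj V :=
  fun x hx => ((mem_β U V x).1 hx).1

theorem β_mono {V V' : Opens (X' U)} (h : V ≤ V') : β U V ≤ β U V' := by
  intro x hx
  rw [mem_β] at hx ⊢
  exact ⟨h hx.1, hx.2⟩

/-- `β V` is a union of finite intersections of the `U i`. -/
theorem exists_β_eq (V : Opens (X' U)) :
    ∃ (κ : Type u) (a : κ → Σ p : ℕ, Fin (p + 1) → ι), β U V = ⨆ k, ⨅ j, U ((a k).2 j) := by
  refine ⟨{c : Σ p : ℕ, Fin (p + 1) → ι // (⨅ j, U (c.2 j)) ≤ β U V}, Subtype.val, ?_⟩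
  apply le_antisymm
  · intro x hx
    obtain ⟨hxV, hxW⟩ := (mem_β U V x).1 hx
    obtain ⟨l, hl, h1, h2⟩ := exists_list U V x hxV hxW
    obtain ⟨p, b, hb⟩ := exists_tuple U l hl
    have hle : (⨅ j, U (b j)) ≤ β U V := by
      intro y hy
      rw [mem_β]
      have hy' := (hb y).1 hy
      refine ⟨h2 y hy', ?_⟩
      obtain ⟨i, hi⟩ := List.exists_mem_of_ne_nil l hl
      exact Opens.mem_iSup.2 ⟨i, hy' i hi⟩
    exact Opens.mem_iSup.2 ⟨⟨⟨p, b⟩, hle⟩, (hb x).2 h1⟩
  · exact iSup_le fun k => k.2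

section flasque

variable (h : ∀ (κ : Type u) (a : κ → Σ p : ℕ, Fin (p + 1) → ι),
      Function.Surjective (F.obj.map (homOfLE
        (iSup_le fun k => (iInf_le _ ⟨0, Nat.succ_pos _⟩).trans
          (le_iSup U ((a k).2 ⟨0, Nat.succ_pos _⟩)) :
          (⨆ k, ⨅ j, U ((a k).2 j)) ≤ iSup U)).op))

include h in
theorem surj_of_eq (V0 : Opens X)
    (hV0 : ∃ (κ : Type u) (a : κ → Σ p : ℕ, Fin (p + 1) → ι), V0 = ⨆ k, ⨅ j, U ((a k).2 j))
    (i : V0 ⟶ iSup U) : Function.Surjective (F.obj.map i.op) := by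
  obtain ⟨κ, a, rfl⟩ := hV0
  rw [Subsingleton.elim i (homOfLE _)]
  exact h κ a

include h in
theorem isFlasque_G : TopCat.Sheaf.IsFlasque (G U F) := by
  constructor
  intro V' V i
  rw [AddCommGrpCat.epi_iff_surjective]
  have hcomp : F.obj.map (homOfLE (β_le_iSup U V'.unop)).op ≫ (G U F).obj.map i =
      F.obj.map (homOfLE (β_le_iSup U V.unop)).op := by
    change F.obj.map _ ≫ F.obj.map _ = _
    rw [← F.obj.map_comp]
    rfl
  have hs := surj_of_eq U F h (β U V.unop) (exists_β_eq U V.unop)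
    (homOfLE (β_le_iSup U V.unop))
  rw [← hcomp] at hs
  intro y
  obtain ⟨x, hx⟩ := hs y
  exact ⟨_, hx⟩

end flasque

/-- the comparison map of presheaves on the coarse space. -/
noncomputable def θ : (Opens.map (toCoarse U)).op ⋙ F.obj ⟶ (G U F).obj where
  app V := F.obj.map (homOfLE (β_le_map U V.unop)).op
  naturality V V' i := by
    change F.obj.map _ ≫ F.obj.map _ = F.obj.map _ ≫ F.obj.map _
    rw [← F.obj.map_comp, ← F.obj.map_comp]
    rfl

theorem isIso_θ_app (V : Opens (X' U)) (hV : (Opens.map (toCoarse U)).obj V ≤ iSup U) :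
    IsIso ((θ U F).app (op V)) := by
  have hle : (Opens.map (toCoarse U)).obj V ≤ β U V := by
    intro x hx
    exact (mem_β U V x).2 ⟨hx, hV hx⟩
  haveI : IsIso (homOfLE (β_le_map U V)) :=
    ⟨⟨homOfLE hle, Subsingleton.elim _ _, Subsingleton.elim _ _⟩⟩
  change IsIso (F.obj.map (homOfLE (β_le_map U V)).op)
  infer_instance

theorem isIso_piComparison (n : ℕ) (a : Fin (n + 1) → ι) :
    IsIso (piComparison (Opens.map (toCoarse U)) (fun k => U' U (a k))) := by
  have hle : (∏ᶜ fun k => (Opens.map (toCoarse U)).obj (U' U (a k))) ≤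
      (Opens.map (toCoarse U)).obj (∏ᶜ fun k => U' U (a k)) := by
    intro x hx
    have hxk : ∀ k, x ∈ U (a k) := fun k =>
      (Pi.π (fun k => (Opens.map (toCoarse U)).obj (U' U (a k))) k).le hx
    have hV0 : (⨅ k, U' U (a k)) ≤ ∏ᶜ fun k => U' U (a k) :=
      (Pi.lift (fun k => homOfLE (iInf_le _ k))).le
    apply hV0
    rw [← SetLike.mem_coe, Opens.coe_iInf]
    simp only [Set.mem_iInter]
    exact hxk
  exact ⟨⟨homOfLE hle, Subsingleton.elim _ _, Subsingleton.elim _ _⟩⟩

theorem main (h : ∀ (κ : Type u) (a : κ → Σ p : ℕ, Fin (p + 1) → ι),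
      Function.Surjective (F.obj.map (homOfLE
        (iSup_le fun k => (iInf_le _ ⟨0, Nat.succ_pos _⟩).trans
          (le_iSup U ((a k).2 ⟨0, Nat.succ_pos _⟩)) :
          (⨆ k, ⨅ j, U ((a k).2 j)) ≤ iSup U)).op)) (p : ℕ) :
    IsZero (CohTop.cechH F.obj U (p + 1)) := by
  haveI := isFlasque_G U F h
  have hz : IsZero (CohTop.cechH (G U F).obj (U' U) (p + 1)) :=
    Groth.Agent.S0455.result (G U F) (U' U) p
  let e1 := Groth.Agent.Lib.CechTransfer.cechIso (Opens.map (toCoarse U)) (U' U) F.obj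
    (isIso_piComparison U)
  let φ := (cechComplexFunctor (U' U)).map (θ U F)
  haveI : ∀ n, IsIso (φ.f n) := by
    intro n
    have hn : φ.f n = Limits.Pi.map (fun a : Fin (n + 1) → ι =>
        (θ U F).app (op (∏ᶜ fun k => U' U (a k)))) := rfl
    rw [hn]
    haveI : ∀ a : Fin (n + 1) → ι, IsIso ((θ U F).app (op (∏ᶜ fun k => U' U (a k)))) := by
      intro a
      apply isIso_θ_app
      intro x hx
      have h0 : x ∈ U (a 0) := (Pi.π (fun k => U' U (a k)) 0).le hx
      exact Opens.mem_iSup.2 ⟨a 0, h0⟩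
    exact Limits.Pi.map_isIso (fun a : Fin (n + 1) → ι =>
      (θ U F).app (op (∏ᶜ fun k => U' U (a k))))
  haveI : IsIso φ := HomologicalComplex.Hom.isIso_of_components φ
  exact IsZero.of_iso hz
    ((HomologicalComplex.homologyFunctor AddCommGrpCat.{u} _ (p + 1)).mapIso (e1 ≪≫ asIso φ))

end Groth.Agent.Lib.CechSurj9
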