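import Groth.Prelude.Def_CohTop
import Groth.Prelude.Def_CohCx
import Groth.Agent.Lib.CechTransfer

/-!
# Cech complexes on a topological space: comparison of the `Opens X` version (products = meets)
with the site version (products in `Over U`)
-/

universe u

open CategoryTheory Limits Opposite TopologicalSpace

namespace Groth.Agent.Lib.CechTop

variable {X : TopCat.{u}}

lemma isIso_piComparison_forget (U : Opens X) {ι : Type u} (Y : ι → Over U) (n : ℕ)
    (a : Fin (n + 1) → ι) : IsIso (piComparison (Over.forget U) (fun k => Y (a k))) := by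
  let W : Over U := Over.mk
    (Pi.π (fun k => (Over.forget U).obj (Y (a k))) 0 ≫ (Y (a 0)).hom)
  let l : W ⟶ ∏ᶜ fun k => Y (a k) :=
    Pi.lift (fun k => Over.homMk (Pi.π (fun k => (Over.forget U).obj (Y (a k))) k)
      (Subsingleton.elim _ _))
  exact ⟨⟨l.left, Subsingleton.elim _ _, Subsingleton.elim _ _⟩⟩

lemma prod_left_eq_iInf (U : Opens X) {ι : Type u} (Y : ι → Over U) (n : ℕ)
    (a : Fin (n + 1) → ι) : (∏ᶜ fun k => Y (a k)).left = ⨅ k, (Y (a k)).left := by
  apply le_antisymm
  · exact le_iInf fun k => (Pi.π (fun k => Y (a k)) k).left.le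
  · have h0 : (⨅ k, (Y (a k)).left) ≤ U := iInf_le_of_le 0 (Y (a 0)).hom.le
    let W : Over U := Over.mk (homOfLE h0)
    let l : W ⟶ ∏ᶜ fun k => Y (a k) :=
      Pi.lift (fun k => Over.homMk (homOfLE (iInf_le _ k)) (Subsingleton.elim _ _))
    exact l.left.le

lemma isZero_cechH_iff (P : (Opens X)ᵒᵖ ⥤ AddCommGrpCat.{u}) (U : Opens X) {ι : Type u}
    (Y : ι → Over U) (n : ℕ) :
    IsZero (CohTop.cechH P (fun i => (Y i).left) n) ↔ IsZero (CohCx.cechH P Y n) :=
  Groth.Agent.Lib.CechTransfer.isZero_homology_iff (Over.forget U) Y P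
    (isIso_piComparison_forget U Y) n

end Groth.Agent.Lib.CechTop
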