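import Groth.Agent.Lib.EulerLES
import Mathlib.Algebra.Homology.DerivedCategory.HomologySequence
import Mathlib.Algebra.Homology.DerivedCategory.ShortExact
import Mathlib.Algebra.Homology.HomotopyCategory.Triangulated
import Mathlib.Algebra.Homology.ShortComplex.ModuleCat
import Mathlib.Algebra.Category.ModuleCat.Abelian

/-!
# Euler characteristics of complexes of modules with finite length homology, via `D(A)`

`chi K = ∑ᶠ i, (-1)^i length (H^i K)`; additivity along distinguished triangles of `D(A)`,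
short exact sequences of complexes, the octahedron triangle of mapping cones.
-/

set_option autoImplicit false
universe u

open CategoryTheory DerivedCategory Pretriangulated Limits
open Groth.Agent.Lib.EulerLES

namespace Groth.Agent.Lib.EulerD

variable {A : Type u} [CommRing A]

attribute [local instance] HasDerivedCategory.standard

lemma eul_congr {X Y : ℤ → Type u} [∀ i, AddCommGroup (X i)] [∀ i, Module A (X i)]
    [∀ i, AddCommGroup (Y i)] [∀ i, Module A (Y i)] (e : ∀ i, X i ≃ₗ[A] Y i) :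
    eul A X = eul A Y := by
  unfold eul
  apply finsum_congr
  intro i
  rw [(e i).length_eq]

/-- finite length, bounded homology (object of `D(A)`) -/
structure FLD (X : DerivedCategory (ModuleCat.{u} A)) : Prop where
  fin : ∀ i : ℤ, IsFiniteLength A ((homologyFunctor (ModuleCat.{u} A) i).obj X)
  bdd : ∃ a b : ℤ, ∀ i : ℤ, i ∉ Finset.Icc a b →
    Subsingleton ((homologyFunctor (ModuleCat.{u} A) i).obj X)

/-- Euler characteristic of an object of `D(A)`. -/
noncomputable def chiD (X : DerivedCategory (ModuleCat.{u} A)) : ℤ :=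
  eul A (fun i => ((homologyFunctor (ModuleCat.{u} A) i).obj X : Type u))

lemma chiD_congr {X Y : DerivedCategory (ModuleCat.{u} A)} (e : X ≅ Y) : chiD X = chiD Y :=
  eul_congr fun i => ((homologyFunctor (ModuleCat.{u} A) i).mapIso e).toLinearEquiv

lemma FLD.of_iso {X Y : DerivedCategory (ModuleCat.{u} A)} (e : X ≅ Y) (h : FLD X) : FLD Y := by
  refine ⟨fun i => ?_, ?_⟩
  · exact ((homologyFunctor (ModuleCat.{u} A) i).mapIso e).toLinearEquiv.isFiniteLength (h.fin i)
  · obtain ⟨a, b, hab⟩ := h.bdd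
    refine ⟨a, b, fun i hi => ?_⟩
    have := hab i hi
    exact ((homologyFunctor (ModuleCat.{u} A) i).mapIso e).toLinearEquiv.symm.subsingleton

theorem chiD_add (T : Triangle (DerivedCategory (ModuleCat.{u} A)))
    (hT : T ∈ distTriang _) (h1 : FLD T.obj₁) (h2 : FLD T.obj₂) (h3 : FLD T.obj₃) :
    chiD T.obj₂ = chiD T.obj₁ + chiD T.obj₃ := by
  obtain ⟨a1, b1, hab1⟩ := h1.bdd
  obtain ⟨a2, b2, hab2⟩ := h2.bdd
  obtain ⟨a3, b3, hab3⟩ := h3.bdd
  refine euler_of_LES
    (fun i => ((homologyFunctor (ModuleCat.{u} A) i).obj T.obj₁ : Type u))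
    (fun i => ((homologyFunctor (ModuleCat.{u} A) i).obj T.obj₂ : Type u))
    (fun i => ((homologyFunctor (ModuleCat.{u} A) i).obj T.obj₃ : Type u))
    (fun i => ((homologyFunctor (ModuleCat.{u} A) i).map T.mor₁).hom)
    (fun i => ((homologyFunctor (ModuleCat.{u} A) i).map T.mor₂).hom)
    (fun i => (HomologySequence.δ T i (i + 1) rfl).hom)
    (fun i => (ShortComplex.ShortExact.moduleCat_exact_iff_function_exact _).mp
      (HomologySequence.exact₂ T hT i))
    (fun i => (ShortComplex.ShortExact.moduleCat_exact_iff_function_exact _).mp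
      (HomologySequence.exact₃ T hT i (i + 1) rfl))
    (fun i => (ShortComplex.ShortExact.moduleCat_exact_iff_function_exact _).mp
      (HomologySequence.exact₁ T hT i (i + 1) rfl))
    h1.fin h2.fin h3.fin (min a1 (min a2 a3)) (max b1 (max b2 b3)) ?_ ?_
  · intro i hi
    apply hab2
    simp only [Finset.mem_Icc, not_and_or, not_le] at hi ⊢
    omega
  · intro i hi
    apply hab3
    simp only [Finset.mem_Icc, not_and_or, not_le] at hi ⊢
    omega

/-- exactness `N → M → P` with `N`, `P` of finite length gives `M` of finite length. -/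
lemma isFiniteLength_of_exact {N M P : Type u} [AddCommGroup N] [Module A N] [AddCommGroup M]
    [Module A M] [AddCommGroup P] [Module A P] (f : N →ₗ[A] M) (g : M →ₗ[A] P)
    (h : Function.Exact f g) (hN : IsFiniteLength A N) (hP : IsFiniteLength A P) :
    IsFiniteLength A M := by
  rw [isFiniteLength_iff_isNoetherian_isArtinian] at hN hP ⊢
  obtain ⟨hN1, hN2⟩ := hN
  obtain ⟨hP1, hP2⟩ := hP
  have hr : LinearMap.range f = LinearMap.ker g := (LinearMap.exact_iff.mp h).symm
  exact ⟨isNoetherian_of_range_eq_ker f g hr, isArtinian_of_range_eq_ker f g hr⟩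

/-- two out of three for `FLD` (middle term). -/
theorem FLD.of_distTriang₂ (T : Triangle (DerivedCategory (ModuleCat.{u} A)))
    (hT : T ∈ distTriang _) (h1 : FLD T.obj₁) (h3 : FLD T.obj₃) : FLD T.obj₂ := by
  obtain ⟨a1, b1, hab1⟩ := h1.bdd
  obtain ⟨a3, b3, hab3⟩ := h3.bdd
  have hex := fun i => (ShortComplex.ShortExact.moduleCat_exact_iff_function_exact _).mp
      (HomologySequence.exact₂ T hT i)
  refine ⟨fun i => isFiniteLength_of_exact _ _ (hex i) (h1.fin i) (h3.fin i),
    min a1 a3, max b1 b3, fun i hi => ?_⟩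
  have s1 : Subsingleton ((homologyFunctor (ModuleCat.{u} A) i).obj T.obj₁) := by
    apply hab1
    simp only [Finset.mem_Icc, not_and_or, not_le] at hi ⊢
    omega
  have s3 : Subsingleton ((homologyFunctor (ModuleCat.{u} A) i).obj T.obj₃) := by
    apply hab3
    simp only [Finset.mem_Icc, not_and_or, not_le] at hi ⊢
    omega
  refine ⟨fun x y => ?_⟩
  have hx : ∀ z : ((homologyFunctor (ModuleCat.{u} A) i).obj T.obj₂), z = 0 := by
    intro z
    obtain ⟨w, rfl⟩ := (hex i z).mp (Subsingleton.elim _ _)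
    rw [Subsingleton.elim w 0, map_zero]
  rw [hx x, hx y]

/-! ### shift -/

/-- `H^i(X[1]) ≅ H^{i+1}(X)`. -/
noncomputable def homologyShiftIso (X : DerivedCategory (ModuleCat.{u} A)) (i : ℤ) :
    (homologyFunctor (ModuleCat.{u} A) i).obj (X⟦(1 : ℤ)⟧) ≅
      (homologyFunctor (ModuleCat.{u} A) (i + 1)).obj X :=
  ((homologyFunctor (ModuleCat.{u} A) 0).shiftIso 1 i (i + 1) (by omega)).app X

lemma FLD.shift {X : DerivedCategory (ModuleCat.{u} A)} (h : FLD X) : FLD (X⟦(1 : ℤ)⟧) := by
  refine ⟨fun i => (homologyShiftIso X i).toLinearEquiv.symm.isFiniteLength (h.fin (i + 1)), ?_⟩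
  obtain ⟨a, b, hab⟩ := h.bdd
  refine ⟨a - 1, b - 1, fun i hi => ?_⟩
  have : Subsingleton ((homologyFunctor (ModuleCat.{u} A) (i + 1)).obj X) := by
    apply hab
    simp only [Finset.mem_Icc, not_and_or, not_le] at hi ⊢
    omega
  exact (homologyShiftIso X i).toLinearEquiv.subsingleton

lemma chiD_shift (X : DerivedCategory (ModuleCat.{u} A)) : chiD (X⟦(1 : ℤ)⟧) = - chiD X := by
  have h1 : chiD (X⟦(1 : ℤ)⟧) =
      eul A (fun i => ((homologyFunctor (ModuleCat.{u} A) (i + 1)).obj X : Type u)) :=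
    eul_congr fun i => (homologyShiftIso X i).toLinearEquiv
  rw [h1]
  unfold chiD eul
  have e := finsum_comp_equiv (Equiv.addRight (1 : ℤ))
    (f := fun i : ℤ => ((i.negOnePow : ℤˣ) : ℤ) *
      ((Module.length A ((homologyFunctor (ModuleCat.{u} A) i).obj X)).toNat : ℤ))
  rw [← e, ← finsum_neg_distrib]
  apply finsum_congr
  intro i
  change _ = - ((((i + 1).negOnePow : ℤˣ) : ℤ) * _)
  rw [Int.negOnePow_succ]
  simp
  rfl

/-! ### complexes -/

/-- finite length, bounded homology (complex level). -/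
structure FL (K : CochainComplex (ModuleCat.{u} A) ℤ) : Prop where
  fin : ∀ i : ℤ, IsFiniteLength A (K.homology i)
  bdd : ∃ a b : ℤ, ∀ i : ℤ, i ∉ Finset.Icc a b → Subsingleton (K.homology i)

/-- Euler characteristic of a complex. -/
noncomputable def chi (K : CochainComplex (ModuleCat.{u} A) ℤ) : ℤ :=
  eul A (fun i => (K.homology i : Type u))

/-- `H^i(Q K) ≅ H^i(K)`. -/
noncomputable def homologyQIso (K : CochainComplex (ModuleCat.{u} A) ℤ) (i : ℤ) :
    (homologyFunctor (ModuleCat.{u} A) i).obj (Q.obj K) ≅ K.homology i :=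
  (homologyFunctorFactors (ModuleCat.{u} A) i).app K

lemma chiD_Q (K : CochainComplex (ModuleCat.{u} A) ℤ) : chiD (Q.obj K) = chi K :=
  eul_congr fun i => (homologyQIso K i).toLinearEquiv

lemma FL.toD {K : CochainComplex (ModuleCat.{u} A) ℤ} (h : FL K) : FLD (Q.obj K) := by
  refine ⟨fun i => (homologyQIso K i).toLinearEquiv.symm.isFiniteLength (h.fin i), ?_⟩
  obtain ⟨a, b, hab⟩ := h.bdd
  refine ⟨a, b, fun i hi => ?_⟩
  have := hab i hi
  exact (homologyQIso K i).toLinearEquiv.subsingleton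

lemma FL.ofD {K : CochainComplex (ModuleCat.{u} A) ℤ} (h : FLD (Q.obj K)) : FL K := by
  refine ⟨fun i => (homologyQIso K i).toLinearEquiv.isFiniteLength (h.fin i), ?_⟩
  obtain ⟨a, b, hab⟩ := h.bdd
  refine ⟨a, b, fun i hi => ?_⟩
  have := hab i hi
  exact (homologyQIso K i).toLinearEquiv.symm.subsingleton

lemma chi_eq_of_quasiIso {K L : CochainComplex (ModuleCat.{u} A) ℤ} (φ : K ⟶ L) [QuasiIso φ] :
    chi K = chi L :=
  eul_congr fun i => (isoOfQuasiIsoAt φ i).toLinearEquiv

lemma FL.of_quasiIso {K L : CochainComplex (ModuleCat.{u} A) ℤ} (φ : K ⟶ L) [QuasiIso φ]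
    (h : FL K) : FL L := by
  refine ⟨fun i => (isoOfQuasiIsoAt φ i).toLinearEquiv.isFiniteLength (h.fin i), ?_⟩
  obtain ⟨a, b, hab⟩ := h.bdd
  refine ⟨a, b, fun i hi => ?_⟩
  have := hab i hi
  exact (isoOfQuasiIsoAt φ i).toLinearEquiv.symm.subsingleton

lemma FL.of_quasiIso' {K L : CochainComplex (ModuleCat.{u} A) ℤ} (φ : K ⟶ L) [QuasiIso φ]
    (h : FL L) : FL K := by
  refine ⟨fun i => (isoOfQuasiIsoAt φ i).toLinearEquiv.symm.isFiniteLength (h.fin i), ?_⟩
  obtain ⟨a, b, hab⟩ := h.bdd
  refine ⟨a, b, fun i hi => ?_⟩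
  have := hab i hi
  exact (isoOfQuasiIsoAt φ i).toLinearEquiv.subsingleton

lemma chi_eq_of_iso {K L : CochainComplex (ModuleCat.{u} A) ℤ} (e : K ≅ L) : chi K = chi L :=
  chi_eq_of_quasiIso e.hom

/-- additivity along short exact sequences of complexes. -/
theorem chi_add_of_shortExact (S : ShortComplex (CochainComplex (ModuleCat.{u} A) ℤ))
    (hS : S.ShortExact) (h1 : FL S.X₁) (h2 : FL S.X₂) (h3 : FL S.X₃) :
    chi S.X₂ = chi S.X₁ + chi S.X₃ := by
  have := chiD_add _ (triangleOfSES_distinguished hS) h1.toD h2.toD h3.toD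
  simpa only [triangleOfSES_obj₁, triangleOfSES_obj₂, triangleOfSES_obj₃, chiD_Q] using this

/-- the cone triangle: `χ(cone φ) = χ(L) - χ(K)`. -/
theorem chi_mappingCone {K L : CochainComplex (ModuleCat.{u} A) ℤ} (φ : K ⟶ L)
    (hK : FL K) (hL : FL L) :
    FL (CochainComplex.mappingCone φ) ∧ chi (CochainComplex.mappingCone φ) = chi L - chi K := by
  have hT := mappingCone_triangle_distinguished φ
  have hT' := rot_of_distTriang _ hT
  have h2 : FLD (Q.obj (CochainComplex.mappingCone φ)) :=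
    FLD.of_distTriang₂ _ hT' hL.toD hK.toD.shift
  refine ⟨FL.ofD h2, ?_⟩
  have := chiD_add _ hT' hL.toD h2 hK.toD.shift
  change chiD (Q.obj (CochainComplex.mappingCone φ)) = chiD (Q.obj L) + chiD ((Q.obj K)⟦(1 : ℤ)⟧)
    at this
  rw [chiD_shift, chiD_Q, chiD_Q, chiD_Q] at this
  rw [this]
  ring

/-- the octahedron triangle of mapping cones is distinguished in `D(A)`. -/
lemma mappingConeCompTriangle_distinguished {K₁ K₂ K₃ : CochainComplex (ModuleCat.{u} A) ℤ}
    (f : K₁ ⟶ K₂) (g : K₂ ⟶ K₃) :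
    Q.mapTriangle.obj (CochainComplex.mappingConeCompTriangle f g) ∈
      distTriang (DerivedCategory (ModuleCat.{u} A)) := by
  refine isomorphic_distinguished _
    (Qh.map_distinguished _ (HomotopyCategory.mappingConeCompTriangleh_distinguished f g)) _ ?_
  exact (Functor.mapTriangleIso (quotientCompQhIso (ModuleCat.{u} A))).symm.app _ ≪≫
      (Functor.mapTriangleCompIso (HomotopyCategory.quotient (ModuleCat.{u} A) _) Qh).app _

/-- `χ(cone (f ≫ g)) = χ(cone f) + χ(cone g)`. -/
theorem chi_mappingCone_comp {K₁ K₂ K₃ : CochainComplex (ModuleCat.{u} A) ℤ}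
    (f : K₁ ⟶ K₂) (g : K₂ ⟶ K₃)
    (hf : FL (CochainComplex.mappingCone f)) (hg : FL (CochainComplex.mappingCone g)) :
    FL (CochainComplex.mappingCone (f ≫ g)) ∧
    chi (CochainComplex.mappingCone (f ≫ g)) =
      chi (CochainComplex.mappingCone f) + chi (CochainComplex.mappingCone g) := by
  have hT := mappingConeCompTriangle_distinguished f g
  have h2 : FLD (Q.obj (CochainComplex.mappingCone (f ≫ g))) :=
    FLD.of_distTriang₂ _ hT hf.toD hg.toD
  refine ⟨FL.ofD h2, ?_⟩
  have := chiD_add _ hT hf.toD h2 hg.toD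
  change chiD (Q.obj (CochainComplex.mappingCone (f ≫ g))) =
    chiD (Q.obj (CochainComplex.mappingCone f)) + chiD (Q.obj (CochainComplex.mappingCone g))
    at this
  rw [chiD_Q, chiD_Q, chiD_Q] at this
  exact this

end Groth.Agent.Lib.EulerD
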