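import Groth.Agent.Lib.KoszulScale
import Groth.Agent.Lib.EulerD
import Groth.Agent.Lib.H78ConeHomotopy
import Mathlib.Algebra.Category.ModuleCat.Biproducts

/-!
# Koszul complexes: null-homotopic cones split, permutation invariance (helper19)

* `nonempty_homology_cone_of_homotopy`: for a null-homotopic `φ : F ⟶ G`,
  `H^m(cone φ) ≃ H^m(G) × H^{m+1}(F)`;
* `swapIso`: `cone(f, cone(g, K)) ≅ cone(g, cone(f, K))`;
* `nonempty_kcx_iso_of_perm`: `kcx M l ≅ kcx M l'` for `l ~ l'`.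
-/

set_option linter.unusedSimpArgs false

universe u

open CategoryTheory CategoryTheory.Limits CochainComplex HomologicalComplex

namespace Groth.Agent.Lib.KoszulPerm

open Groth.Agent.Lib.KoszulCone Groth.Agent.Lib.KoszulElem Groth.Agent.Lib.KoszulScale

variable {A : Type u} [CommRing A]

section split

open DerivedCategory Pretriangulated Groth.Agent.Lib.EulerD

attribute [local instance] HasDerivedCategory.standard

/-- the homology of the cone of a null-homotopic map splits -/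
theorem nonempty_homology_cone_of_homotopy {F G : CochainComplex (ModuleCat.{u} A) ℤ}
    (φ : F ⟶ G) (h : Homotopy φ 0) (m : ℤ) :
    Nonempty ((mappingCone φ).homology m ≃ₗ[A] (G.homology m × F.homology (m + 1))) := by
  have hQ : (Q.map φ : Q.obj F ⟶ Q.obj G) = 0 := by
    rw [Q_map_eq_of_homotopy (ModuleCat.{u} A) h, Functor.map_zero]
  have hT := rot_of_distTriang _ (mappingCone_triangle_distinguished φ)
  have h0 : (Q.mapTriangle.obj (mappingCone.triangle φ)).rotate.mor₃ = 0 := by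
    show -((Q.map φ)⟦(1 : ℤ)⟧') = 0
    rw [hQ, Functor.map_zero, neg_zero]
  obtain ⟨e, -, -⟩ := exists_iso_binaryBiproduct_of_distTriang _ hT h0
  have e' : Q.obj (mappingCone φ) ≅ Q.obj G ⊞ (Q.obj F)⟦(1 : ℤ)⟧ := e
  have e1 := (homologyFunctor (ModuleCat.{u} A) m).mapIso e'
  haveI : PreservesBinaryBiproducts (homologyFunctor (ModuleCat.{u} A) m) :=
    preservesBinaryBiproducts_of_preservesBiproducts _
  have e2 := (homologyFunctor (ModuleCat.{u} A) m).mapBiprod (Q.obj G) ((Q.obj F)⟦(1 : ℤ)⟧)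
  have e3 : (homologyFunctor (ModuleCat.{u} A) m).obj (Q.obj G) ⊞
      (homologyFunctor (ModuleCat.{u} A) m).obj ((Q.obj F)⟦(1 : ℤ)⟧) ≅
      G.homology m ⊞ F.homology (m + 1) :=
    biprod.mapIso (homologyQIso G m) (homologyShiftIso (Q.obj F) m ≪≫ homologyQIso F (m + 1))
  exact ⟨((homologyQIso (mappingCone φ) m).symm ≪≫ e1 ≪≫ e2 ≪≫ e3 ≪≫
    ModuleCat.biprodIsoProd _ _).toLinearEquiv⟩

end split

section swap

variable {F G : CochainComplex (ModuleCat.{u} A) ℤ} (φ : F ⟶ G)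

theorem fstE_neg (n : ℤ) (z : (mappingCone φ).X n) : fstE φ n (-z) = -fstE φ n z := by
  simp [fstE]

theorem sndE_neg (n : ℤ) (z : (mappingCone φ).X n) : sndE φ n (-z) = -sndE φ n z := by
  simp [sndE]

/-- `((a, b), (c, e)) ↦ ((-a, c), (b, e))` -/
def shuffle (X Y Z : Type u) [AddCommGroup X] [Module A X] [AddCommGroup Y] [Module A Y]
    [AddCommGroup Z] [Module A Z] : ((X × Y) × (Y × Z)) ≃ₗ[A] ((X × Y) × (Y × Z)) where
  toFun p := ((-p.1.1, p.2.1), (p.1.2, p.2.2))
  invFun p := ((-p.1.1, p.2.1), (p.1.2, p.2.2))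
  map_add' p q := by
    simp only [Prod.fst_add, Prod.snd_add, Prod.mk_add_mk, neg_add]
  map_smul' c p := by
    simp only [Prod.smul_fst, Prod.smul_snd, Prod.smul_mk, smul_neg, RingHom.id_apply]
  left_inv p := by simp
  right_inv p := by simp

variable (K : CochainComplex (ModuleCat.{u} A) ℤ) (f g : A)

/-- the degreewise swap `cone(f, cone(g, K))^n ≃ cone(g, cone(f, K))^n` -/
noncomputable def swapEquiv (n : ℤ) :
    (mappingCone (f • 𝟙 (mappingCone (g • 𝟙 K)))).X n ≃ₗ[A]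
      (mappingCone (g • 𝟙 (mappingCone (f • 𝟙 K)))).X n :=
  (coneEquiv (f • 𝟙 (mappingCone (g • 𝟙 K))) n).trans
    ((LinearEquiv.prodCongr (coneEquiv (g • 𝟙 K) (n + 1)) (coneEquiv (g • 𝟙 K) n)).trans
      ((shuffle (K.X (n + 1 + 1)) (K.X (n + 1)) (K.X n)).trans
        ((LinearEquiv.prodCongr (coneEquiv (f • 𝟙 K) (n + 1)) (coneEquiv (f • 𝟙 K) n)).symm.trans
          (coneEquiv (g • 𝟙 (mappingCone (f • 𝟙 K))) n).symm)))

theorem swapEquiv_apply (n : ℤ) (z : (mappingCone (f • 𝟙 (mappingCone (g • 𝟙 K)))).X n) :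
    swapEquiv K f g n z =
      mkE (g • 𝟙 (mappingCone (f • 𝟙 K))) n
        (mkE (f • 𝟙 K) (n + 1)
          (-(fstE (g • 𝟙 K) (n + 1) (fstE (f • 𝟙 (mappingCone (g • 𝟙 K))) n z)))
          (fstE (g • 𝟙 K) n (sndE (f • 𝟙 (mappingCone (g • 𝟙 K))) n z)))
        (mkE (f • 𝟙 K) n
          (sndE (g • 𝟙 K) (n + 1) (fstE (f • 𝟙 (mappingCone (g • 𝟙 K))) n z))
          (sndE (g • 𝟙 K) n (sndE (f • 𝟙 (mappingCone (g • 𝟙 K))) n z))) := rfl

theorem swapEquiv_d (n : ℤ) (z : (mappingCone (f • 𝟙 (mappingCone (g • 𝟙 K)))).X n) :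
    (mappingCone (g • 𝟙 (mappingCone (f • 𝟙 K)))).d n (n + 1) (swapEquiv K f g n z) =
      swapEquiv K f g (n + 1) ((mappingCone (f • 𝟙 (mappingCone (g • 𝟙 K)))).d n (n + 1) z) := by
  rw [swapEquiv_apply, swapEquiv_apply, d_mkE, d_mkE, d_mkE]
  apply ext_cone (g • 𝟙 (mappingCone (f • 𝟙 K))) (n + 1)
  · rw [fstE_mkE, fstE_mkE]
    apply ext_cone (f • 𝟙 K) (n + 1 + 1)
    · simp only [fstE_d, sndE_d, fstE_neg, sndE_neg, fstE_add, sndE_add, smul_id_f_apply,
        fstE_smul, sndE_smul, map_neg, map_add, neg_neg, fstE_mkE, sndE_mkE, smul_neg]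
    · simp only [fstE_d, sndE_d, fstE_neg, sndE_neg, fstE_add, sndE_add, smul_id_f_apply,
        fstE_smul, sndE_smul, map_neg, map_add, neg_neg, fstE_mkE, sndE_mkE, smul_neg]
      abel
  · rw [sndE_mkE, sndE_mkE]
    apply ext_cone (f • 𝟙 K) (n + 1)
    · simp only [fstE_d, sndE_d, fstE_neg, sndE_neg, fstE_add, sndE_add, smul_id_f_apply,
        fstE_smul, sndE_smul, map_neg, map_add, neg_neg, fstE_mkE, sndE_mkE, smul_neg]
      abel
    · simp only [fstE_d, sndE_d, fstE_neg, sndE_neg, fstE_add, sndE_add, smul_id_f_apply,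
        fstE_smul, sndE_smul, map_neg, map_add, neg_neg, fstE_mkE, sndE_mkE, smul_neg]
      abel

/-- the swap isomorphism `cone(f, cone(g, K)) ≅ cone(g, cone(f, K))` -/
noncomputable def swapIso :
    mappingCone (f • 𝟙 (mappingCone (g • 𝟙 K))) ≅ mappingCone (g • 𝟙 (mappingCone (f • 𝟙 K))) :=
  HomologicalComplex.Hom.isoOfComponents (fun n => (swapEquiv K f g n).toModuleIso) (by
    intro i j hij
    have hij' : i + 1 = j := hij
    subst hij'
    apply ModuleCat.hom_ext
    apply LinearMap.ext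
    intro z
    exact swapEquiv_d K f g i z)

end swap

section perm

/-- Isomorphic arrows have isomorphic mapping cones. -/
noncomputable def coneMapIso {K₁ L₁ K₂ L₂ : CochainComplex (ModuleCat.{u} A) ℤ} (φ₁ : K₁ ⟶ L₁)
    (φ₂ : K₂ ⟶ L₂) (a : K₁ ≅ K₂) (b : L₁ ≅ L₂) (comm : φ₁ ≫ b.hom = a.hom ≫ φ₂) :
    mappingCone φ₁ ≅ mappingCone φ₂ where
  hom := mappingCone.map φ₁ φ₂ a.hom b.hom comm
  inv := mappingCone.map φ₂ φ₁ a.inv b.inv (by
    rw [← cancel_mono b.hom, Category.assoc, Category.assoc, b.inv_hom_id, Category.comp_id, comm,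
      a.inv_hom_id_assoc])
  hom_inv_id := by
    rw [← mappingCone.map_comp]
    simp only [Iso.hom_inv_id]
    exact mappingCone.map_id _
  inv_hom_id := by
    rw [← mappingCone.map_comp]
    simp only [Iso.inv_hom_id]
    exact mappingCone.map_id _

/-- the cone of multiplication by `x` only depends on the isomorphism class of the complex -/
noncomputable def coneSmulIso {K L : CochainComplex (ModuleCat.{u} A) ℤ} (x : A) (e : K ≅ L) :
    mappingCone (x • 𝟙 K) ≅ mappingCone (x • 𝟙 L) :=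
  coneMapIso _ _ e e (by
    rw [Linear.smul_comp, Linear.comp_smul, Category.id_comp, Category.comp_id])

/-- the Koszul complex (iterated cones) does not depend on the order of the elements -/
theorem nonempty_kcx_iso_of_perm (M : ModuleCat.{u} A) {l l' : List A} (h : l.Perm l') :
    Nonempty (kcx M l ≅ kcx M l') := by
  induction h with
  | nil => exact ⟨Iso.refl _⟩
  | cons x _ ih =>
    obtain ⟨e⟩ := ih
    exact ⟨coneSmulIso x e⟩
  | swap x y l => exact ⟨swapIso (kcx M l) y x⟩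
  | trans _ _ ih1 ih2 =>
    obtain ⟨e1⟩ := ih1
    obtain ⟨e2⟩ := ih2
    exact ⟨e1 ≪≫ e2⟩

end perm

section null

open Groth.Agent.Lib.H78ConeHomotopy

/-- the elements acting null-homotopically on a complex form an ideal -/
def nullIdeal (K : CochainComplex (ModuleCat.{u} A) ℤ) : Ideal A where
  carrier := {a | Nonempty (Homotopy (a • 𝟙 K) 0)}
  add_mem' := by
    rintro a b ⟨ha⟩ ⟨hb⟩
    refine ⟨(Homotopy.ofEq ?_).trans ((ha.add hb).trans (Homotopy.ofEq ?_))⟩
    · rw [add_smul]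
    · rw [add_zero]
  zero_mem' := ⟨Homotopy.ofEq (zero_smul A _)⟩
  smul_mem' := by
    rintro c a ⟨ha⟩
    refine ⟨(Homotopy.ofEq ?_).trans ((ha.smul c).trans (Homotopy.ofEq ?_))⟩
    · rw [smul_eq_mul, mul_smul]
    · rw [smul_zero]

theorem nullIdeal_le_cone (K : CochainComplex (ModuleCat.{u} A) ℤ) (f : A) :
    nullIdeal K ≤ nullIdeal (mappingCone (f • 𝟙 K)) := by
  rintro a ⟨h⟩
  exact ⟨homotopyOfHomotopy f a h⟩

theorem self_mem_nullIdeal_cone (K : CochainComplex (ModuleCat.{u} A) ℤ) (f : A) :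
    f ∈ nullIdeal (mappingCone (f • 𝟙 K)) :=
  ⟨homotopySelf K f⟩

/-- the elements of the ideal `(l)` act null-homotopically on the Koszul complex of `l` -/
theorem span_le_nullIdeal_kcx (M : ModuleCat.{u} A) :
    ∀ l : List A, Ideal.span {a | a ∈ l} ≤ nullIdeal (kcx M l)
  | [] => by
    rw [Ideal.span_le]
    rintro x ⟨⟩
  | f :: l => by
    rw [Ideal.span_le]
    intro x hx
    rcases List.mem_cons.1 hx with rfl | hx
    · exact self_mem_nullIdeal_cone (kcx M l) x
    · exact nullIdeal_le_cone (kcx M l) f (span_le_nullIdeal_kcx M l (Ideal.subset_span hx))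

end null

end Groth.Agent.Lib.KoszulPerm
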