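import Groth.Agent.Lib.CechKoszul9
import Groth.Agent.Lib.KoszulPow92

/-!
# Čech acyclicity of quasi-coherent modules for `X_{f_i}` when the `f_i` generate the unit ideal
(helper92)
-/

set_option autoImplicit false
universe u
open CategoryTheory CategoryTheory.Limits TopologicalSpace AlgebraicGeometry Opposite

namespace Groth.Agent.Lib.CechUnit92

/-- `X` quasi-compact separated, `F` quasi-coherent, `fs` generating the unit ideal of `Γ(X, O)`:
the Čech cohomology of `F` for the family `X_{f_i}` vanishes in positive degrees. -/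
theorem isZero_cechH_of_span_eq_top (X : Scheme.{u}) [CompactSpace X] [X.IsSeparated]
    (F : X.Modules) [Coh.IsQCoh F] (fs : List Γ(X, ⊤)) (hfs : Ideal.ofList fs = ⊤) (q : ℕ) :
    IsZero (CohB1.cechH (fun i : ULift.{u} (Fin fs.length) => X.basicOpen (fs.get i.down)) F
      (q + 1)) := by
  obtain ⟨e⟩ := Groth.Agent.Lib.CechKoszul9.cech_basicOpen X F fs q
  have h1 : Subsingleton (CohIII.koszulHLim fs (ModuleCat.of Γ(X, ⊤) (F.val.obj (op ⊤))) (q + 2)) :=
    Groth.Agent.Lib.KoszulPow92.subsingleton_koszulHLim _ fs (q + 2)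
      (@ModuleCat.isZero_of_subsingleton _ _ _
        (Groth.Agent.Lib.KRDescA.subsingleton_homology_kcx_of_eq_top _ fs hfs _))
  have h2 : Subsingleton ↑(CohB1.cechH
      (fun i : ULift.{u} (Fin fs.length) => X.basicOpen (fs.get i.down)) F (q + 1)) :=
    e.toEquiv.subsingleton
  exact AddCommGrpCat.isZero_of_subsingleton _

/-- The same with the family indexed by `ULift (Fin n)`, `n = fs.length` propositionally. -/
theorem isZero_cechH_of_span_eq_top' (X : Scheme.{u}) [CompactSpace X] [X.IsSeparated]
    (F : X.Modules) [Coh.IsQCoh F] (fs : List Γ(X, ⊤)) (hfs : Ideal.ofList fs = ⊤) (q : ℕ)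
    (n : ℕ) (h : fs.length = n) (V : ULift.{u} (Fin n) → X.Opens)
    (hV : ∀ i : Fin fs.length, V ⟨Fin.cast h i⟩ = X.basicOpen (fs.get i)) :
    IsZero (CohB1.cechH V F (q + 1)) := by
  subst h
  have : V = fun i : ULift.{u} (Fin fs.length) => X.basicOpen (fs.get i.down) := by
    funext i
    exact hV i.down
  rw [this]
  exact isZero_cechH_of_span_eq_top X F fs hfs q

end Groth.Agent.Lib.CechUnit92
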