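import Groth.Agent.Lib.PlSMT2
import Groth.Prelude.Def_CAlgX

/-!
# Minors of `[I_d ; Z]` and determinantal ideals

The `d × d` minors of the matrix `[I_d ; Z]` on row tuples with at least `t` rows in the block `Z` generate
the ideal of `t × t` minors of `Z`.
-/

set_option autoImplicit false
set_option linter.unusedSectionVars false
set_option linter.unusedSimpArgs false
universe u
open Finset MvPolynomial W4bk4grassmannian

noncomputable section

namespace Groth.Agent.Lib.CellMinors

section Mixed
variable {A : Type*} [CommRing A] {r d : ℕ} (N : Matrix (Fin r) (Fin d) A)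

/-- A square matrix whose rows are standard basis rows or rows of `N`, read in the columns `c`. -/
def mixedMat {m : ℕ} (c : Fin m → Fin d) (ρ : Fin m → Fin d ⊕ Fin r) : Matrix (Fin m) (Fin m) A :=
  Matrix.of fun s j => Sum.elim (fun a => if c j = a then (1 : A) else 0) (fun i => N i (c j)) (ρ s)

lemma mixedMat_submatrix {m : ℕ} (c : Fin (m + 1) → Fin d) (ρ : Fin (m + 1) → Fin d ⊕ Fin r)
    (s₀ j : Fin (m + 1)) :
    (mixedMat N c ρ).submatrix s₀.succAbove j.succAbove =
      mixedMat N (c ∘ j.succAbove) (ρ ∘ s₀.succAbove) := rfl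

lemma minorIdeal_succ_le (k : ℕ) : CAlgX.minorIdeal N (k + 1) ≤ CAlgX.minorIdeal N k := by
  unfold CAlgX.minorIdeal
  rw [Ideal.span_le]
  rintro _ ⟨⟨f, g⟩, rfl⟩
  show (N.submatrix f g).det ∈ _
  rw [Matrix.det_succ_row _ 0]
  refine Ideal.sum_mem _ fun j _ => ?_
  refine Ideal.mul_mem_left _ _ (Ideal.subset_span ?_)
  exact ⟨(f ∘ (0 : Fin (k + 1)).succAbove, g ∘ j.succAbove), rfl⟩

lemma minorIdeal_antitone {k l : ℕ} (h : k ≤ l) : CAlgX.minorIdeal N l ≤ CAlgX.minorIdeal N k := by
  induction h with
  | refl => exact le_rfl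
  | step _ ih => exact le_trans (minorIdeal_succ_le N _) ih

theorem det_mixedMat_mem (t : ℕ) (ht : 0 < t) :
    ∀ (m : ℕ) (c : Fin m → Fin d) (ρ : Fin m → Fin d ⊕ Fin r),
      t ≤ ∑ s, (if (ρ s).isRight then 1 else 0) →
        (mixedMat N c ρ).det ∈ CAlgX.minorIdeal N t := by
  intro m
  induction m with
  | zero =>
    intro c ρ h
    simp at h
    omega
  | succ m ih =>
    intro c ρ h
    by_cases hex : ∃ s₀, (ρ s₀).isLeft
    · obtain ⟨s₀, hs₀⟩ := hex
      rw [Matrix.det_succ_row _ s₀]
      refine Ideal.sum_mem _ fun j _ => ?_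
      refine Ideal.mul_mem_left _ _ ?_
      rw [mixedMat_submatrix]
      apply ih
      rw [Fin.sum_univ_succAbove _ s₀] at h
      have h0 : (if (ρ s₀).isRight then 1 else 0) = 0 := by
        rw [if_neg]
        rw [Sum.isRight_eq_false.2 hs₀]
        simp
      rw [h0, zero_add] at h
      exact h
    · push Not at hex
      have hall : ∀ s, ∃ i, ρ s = Sum.inr i := by
        intro s
        have := hex s
        rcases hρ : ρ s with a | i
        · rw [hρ] at this; simp at this
        · exact ⟨i, rfl⟩
      choose i hi using hall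
      have hM : mixedMat N c ρ = N.submatrix i c := by
        ext s j
        simp only [mixedMat, Matrix.of_apply, hi s, Sum.elim_inr, Matrix.submatrix_apply]
      rw [hM]
      have hcount : ∑ s : Fin (m + 1), (if (ρ s).isRight then 1 else 0) = m + 1 := by
        have : ∀ s, (if (ρ s).isRight then 1 else 0) = 1 := by
          intro s; rw [hi s]; simp
        simp only [this, Finset.sum_const, Finset.card_univ, Fintype.card_fin, smul_eq_mul, mul_one]
      rw [hcount] at h
      exact minorIdeal_antitone N h (Ideal.subset_span ⟨(i, c), rfl⟩)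

end Mixed

section Cell
variable (K : Type u) [CommRing K] (d r : ℕ)

/-- The row descriptor of a tuple of rows of `[I_d ; Z]`. -/
def rowDesc (a : Fin d → Fin (d + r)) : Fin d → Fin d ⊕ Fin r := fun s =>
  if h : (a s).val < d then Sum.inl ⟨(a s).val, h⟩
  else Sum.inr ⟨(a s).val - d, by have := (a s).isLt; omega⟩

lemma cellMatrix_submatrix (a : Fin d → Fin (d + r)) :
    (cellMatrix K d r).submatrix a id = mixedMat (genMatrix K r d) id (rowDesc d r a) := by
  ext s j
  simp only [Matrix.submatrix_apply, id, cellMatrix, Matrix.of_apply, mixedMat, rowDesc]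
  by_cases h : (a s).val < d
  · rw [dif_pos h, dif_pos h, Sum.elim_inl]
    by_cases h2 : (a s).val = j.val
    · rw [if_pos h2, if_pos (Fin.ext h2.symm)]
    · rw [if_neg h2, if_neg (fun h3 => h2 (by rw [h3]))]
  · rw [dif_neg h, dif_neg h, Sum.elim_inr]
    rfl

lemma rowDesc_isRight (a : Fin d → Fin (d + r)) (s : Fin d) :
    ((rowDesc d r a s).isRight = true) ↔ d ≤ (a s).val := by
  unfold rowDesc
  by_cases h : (a s).val < d
  · rw [dif_pos h]; simp; omega
  · rw [dif_neg h]; simp; omega

/-- A minor of `[I_d ; Z]` on a row tuple with at least `t` rows in `Z` lies in the ideal of `t`-minors. -/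
theorem det_cell_mem_minorIdeal (t : ℕ) (ht : 0 < t) (a : Fin d → Fin (d + r))
    (hc : t ≤ (Finset.univ.filter fun s : Fin d => d ≤ (a s).val).card) :
    ((cellMatrix K d r).submatrix a id).det ∈ CAlgX.minorIdeal (genMatrix K r d) t := by
  rw [cellMatrix_submatrix]
  apply det_mixedMat_mem _ t ht
  rw [Finset.card_filter] at hc
  refine le_trans hc (le_of_eq ?_)
  refine Finset.sum_congr rfl fun s _ => ?_
  by_cases h : d ≤ (a s).val
  · rw [if_pos h, if_pos ((rowDesc_isRight d r a s).2 h)]
  · rw [if_neg h, if_neg (fun h' => h ((rowDesc_isRight d r a s).1 h'))]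

/-- The ideal generated by the cell minors of the statement. -/
def cellIdeal (hd : 0 < d) (t : ℕ) (ht : 0 < t) : Ideal (CellRing K d r) :=
  Ideal.span {f : CellRing K d r | ∃ θ : Idx d (d + r),
    d ≤ (θ.1 ⟨d - t, Nat.sub_lt hd ht⟩).val ∧ f = cellMinor K d r θ}

lemma card_filter_ge (hd : 0 < d) (t : ℕ) (ht : 0 < t) (htd : t ≤ d) (θ : Idx d (d + r))
    (h : d ≤ (θ.1 ⟨d - t, Nat.sub_lt hd ht⟩).val) :
    t ≤ (Finset.univ.filter fun s : Fin d => d ≤ (θ.1 s).val).card := by
  have hsub : (Finset.univ.filter fun s : Fin d => d - t ≤ s.val) ⊆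
      Finset.univ.filter fun s : Fin d => d ≤ (θ.1 s).val := by
    intro s hs
    rw [Finset.mem_filter] at hs ⊢
    refine ⟨hs.1, le_trans h ?_⟩
    have : (⟨d - t, Nat.sub_lt hd ht⟩ : Fin d) ≤ s := hs.2
    exact θ.2.monotone this
  refine le_trans ?_ (Finset.card_le_card hsub)
  have : (Finset.univ.filter fun s : Fin d => d - t ≤ s.val) =
      Finset.Ici (⟨d - t, Nat.sub_lt hd ht⟩ : Fin d) := by
    ext s
    simp [Fin.le_def]
  rw [this, Fin.card_Ici]
  simp only
  omega

lemma sorted_ge_of_count (hd : 0 < d) (t : ℕ) (ht : 0 < t) (htd : t ≤ d)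
    (a : Fin d → Fin (d + r)) (h : (Finset.univ.image a).card = d)
    (hc : t ≤ (Finset.univ.filter fun s : Fin d => d ≤ (a s).val).card) :
    d ≤ ((sortIdx d (d + r) a h).1 ⟨d - t, Nat.sub_lt hd ht⟩).val := by
  classical
  by_contra hlt
  rw [not_le] at hlt
  set θ := sortIdx d (d + r) a h with hθ
  have hainj : Function.Injective a := by
    have h1 : (Finset.univ.image a).card = (Finset.univ : Finset (Fin d)).card := by
      rw [h, Finset.card_univ, Fintype.card_fin]
    have := Finset.card_image_iff.1 h1
    intro x y hxy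
    exact this (Finset.mem_coe.2 (Finset.mem_univ x)) (Finset.mem_coe.2 (Finset.mem_univ y)) hxy
  have himg : Finset.univ.image θ.1 = Finset.univ.image a :=
    Finset.image_orderEmbOfFin_univ _ h
  -- count the entries `< d`
  have hcardθ : (Finset.univ.filter fun s : Fin d => (θ.1 s).val < d).card =
      ((Finset.univ.image θ.1).filter fun x : Fin (d + r) => x.val < d).card := by
    rw [Finset.filter_image, Finset.card_image_of_injective _ θ.2.injective]
  have hcarda : (Finset.univ.filter fun s : Fin d => (a s).val < d).card =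
      ((Finset.univ.image a).filter fun x : Fin (d + r) => x.val < d).card := by
    rw [Finset.filter_image, Finset.card_image_of_injective _ hainj]
  have heq : (Finset.univ.filter fun s : Fin d => (θ.1 s).val < d).card =
      (Finset.univ.filter fun s : Fin d => (a s).val < d).card := by
    rw [hcardθ, hcarda, himg]
  have hge : d - t + 1 ≤ (Finset.univ.filter fun s : Fin d => (θ.1 s).val < d).card := by
    have hsub : Finset.Iic (⟨d - t, Nat.sub_lt hd ht⟩ : Fin d) ⊆
        Finset.univ.filter fun s : Fin d => (θ.1 s).val < d := by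
      intro s hs
      rw [Finset.mem_Iic] at hs
      rw [Finset.mem_filter]
      refine ⟨Finset.mem_univ _, lt_of_le_of_lt ?_ hlt⟩
      exact θ.2.monotone hs
    have := Finset.card_le_card hsub
    rwa [Fin.card_Iic] at this
  have hcompl : (Finset.univ.filter fun s : Fin d => (a s).val < d).card +
      (Finset.univ.filter fun s : Fin d => d ≤ (a s).val).card = d := by
    have := Finset.card_filter_add_card_filter_not
      (s := (Finset.univ : Finset (Fin d))) (fun s : Fin d => (a s).val < d)
    simp only [not_lt, Finset.card_univ, Fintype.card_fin] at this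
    exact this
  omega

/-- Every minor of `[I_d ; Z]` on a row tuple with at least `t` rows in `Z` lies in the cell ideal. -/
theorem det_cell_mem_cellIdeal (hd : 0 < d) (t : ℕ) (ht : 0 < t) (htd : t ≤ d)
    (a : Fin d → Fin (d + r))
    (hc : t ≤ (Finset.univ.filter fun s : Fin d => d ≤ (a s).val).card) :
    ((cellMatrix K d r).submatrix a id).det ∈ cellIdeal K d r hd t ht := by
  have h1 := Groth.Agent.Lib.PlSMT.aeval_coord K (cellMatrix K d r) a
  rw [← h1]
  rcases Groth.Agent.Lib.PlSMT.coord_cases K a with h0 | ⟨h, hco⟩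
  · rw [h0, map_zero]; exact Ideal.zero_mem _
  · rw [hco, map_mul, aeval_X]
    refine Ideal.mul_mem_left _ _ (Ideal.subset_span ?_)
    exact ⟨sortIdx d (d + r) a h, sorted_ge_of_count d r hd t ht htd a h hc, rfl⟩

end Cell

section Block
variable (K : Type u) [CommRing K] (d r : ℕ)

/-- The row tuple replacing the rows `g k` of the identity block by the rows `f k` of `Z`. -/
def blockRows {t : ℕ} (f : Fin t → Fin r) (g : Fin t → Fin d) : Fin d → Fin (d + r) :=
  Function.extend g (fun k => Fin.natAdd d (f k)) (fun j => Fin.castAdd r j)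

lemma blockRows_apply {t : ℕ} (f : Fin t → Fin r) {g : Fin t → Fin d} (hg : Function.Injective g)
    (k : Fin t) : blockRows d r f g (g k) = Fin.natAdd d (f k) :=
  hg.extend_apply _ _ k

lemma blockRows_apply' {t : ℕ} (f : Fin t → Fin r) (g : Fin t → Fin d) (j : Fin d)
    (hj : ¬ ∃ k, g k = j) : blockRows d r f g j = Fin.castAdd r j :=
  Function.extend_apply' _ _ j hj

lemma det_blockRows {t : ℕ} (f : Fin t → Fin r) (g : Fin t → Fin d) (hg : Function.Injective g) :
    ((cellMatrix K d r).submatrix (blockRows d r f g) id).det =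
      ((genMatrix K r d).submatrix f g).det := by
  classical
  set M := (cellMatrix K d r).submatrix (blockRows d r f g) id with hM
  let e : Fin t ⊕ ((Set.range g)ᶜ : Set (Fin d)) ≃ Fin d :=
    (Equiv.sumCongr (Equiv.ofInjective g hg) (Equiv.refl _)).trans (Equiv.Set.sumCompl (Set.range g))
  have he1 : ∀ k, e (Sum.inl k) = g k := fun k => rfl
  have he2 : ∀ j, e (Sum.inr j) = j.1 := fun j => rfl
  have hblock : M.submatrix e e = Matrix.fromBlocks ((genMatrix K r d).submatrix f g)
      (Matrix.of fun k (j : ((Set.range g)ᶜ : Set (Fin d))) => (X (f k, j.1) : CellRing K d r))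
      0 1 := by
    ext x y
    rcases x with k | j
    · -- a row of `Z`
      have hrow : ∀ c : Fin d, M (g k) c = X (f k, c) := by
        intro c
        rw [hM, Matrix.submatrix_apply, blockRows_apply d r f hg, cellMatrix, Matrix.of_apply, dif_neg]
        · simp only [id, Fin.natAdd]
          congr 2
          apply Fin.ext
          simp
        · simp [Fin.natAdd]
      rcases y with k' | j'
      · rw [Matrix.submatrix_apply, he1, he1, hrow, Matrix.fromBlocks_apply₁₁]
        rfl
      · rw [Matrix.submatrix_apply, he1, he2, hrow, Matrix.fromBlocks_apply₁₂]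
        rfl
    · -- a row of the identity
      have hj : ¬ ∃ k, g k = j.1 := fun h => j.2 h
      have hrow : ∀ c : Fin d, M j.1 c = if j.1 = c then 1 else 0 := by
        intro c
        rw [hM, Matrix.submatrix_apply, blockRows_apply' d r f g j.1 hj, cellMatrix, Matrix.of_apply,
          dif_pos (by simp)]
        simp only [id, Fin.castAdd, Fin.castLE]
        by_cases h : j.1 = c
        · rw [if_pos h, if_pos (by rw [h])]
        · rw [if_neg h, if_neg (fun h' => h (Fin.ext h'))]
      rcases y with k' | j'
      · rw [Matrix.submatrix_apply, he2, he1, hrow, Matrix.fromBlocks_apply₂₁, Matrix.zero_apply,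
          if_neg]
        intro h
        exact hj ⟨k', h.symm⟩
      · rw [Matrix.submatrix_apply, he2, he2, hrow, Matrix.fromBlocks_apply₂₂, Matrix.one_apply]
        by_cases h : j = j'
        · rw [if_pos h, if_pos (by rw [h])]
        · rw [if_neg h, if_neg (fun h' => h (Subtype.ext h'))]
  rw [← Matrix.det_submatrix_equiv_self e M, hblock, Matrix.det_fromBlocks_zero₂₁, Matrix.det_one,
    mul_one]

lemma card_blockRows {t : ℕ} (f : Fin t → Fin r) (g : Fin t → Fin d) (hg : Function.Injective g) :
    t ≤ (Finset.univ.filter fun s : Fin d => d ≤ (blockRows d r f g s).val).card := by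
  classical
  have hsub : Finset.univ.image g ⊆
      Finset.univ.filter fun s : Fin d => d ≤ (blockRows d r f g s).val := by
    intro s hs
    obtain ⟨k, -, rfl⟩ := Finset.mem_image.1 hs
    rw [Finset.mem_filter]
    refine ⟨Finset.mem_univ _, ?_⟩
    rw [blockRows_apply d r f hg]
    simp [Fin.natAdd]
  have := Finset.card_le_card hsub
  rwa [Finset.card_image_of_injective _ hg, Finset.card_univ, Fintype.card_fin] at this

/-- The ideal of `t`-minors of `Z` is generated by the cell minors with at least `t` rows in `Z`. -/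
theorem cellIdeal_eq_minorIdeal (hd : 0 < d) (t : ℕ) (ht : 0 < t) (htd : t ≤ d) :
    cellIdeal K d r hd t ht = CAlgX.minorIdeal (genMatrix K r d) t := by
  classical
  apply le_antisymm
  · unfold cellIdeal
    rw [Ideal.span_le]
    rintro _ ⟨θ, hθ, rfl⟩
    exact det_cell_mem_minorIdeal K d r t ht θ.1 (card_filter_ge d r hd t ht htd θ hθ)
  · unfold CAlgX.minorIdeal
    rw [Ideal.span_le]
    rintro _ ⟨⟨f, g⟩, rfl⟩
    show ((genMatrix K r d).submatrix f g).det ∈ cellIdeal K d r hd t ht
    by_cases hg : Function.Injective g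
    · rw [← det_blockRows K d r f g hg]
      exact det_cell_mem_cellIdeal K d r hd t ht htd _ (card_blockRows d r f g hg)
    · rw [Function.Injective] at hg
      push Not at hg
      obtain ⟨k, k', hkk, hne⟩ := hg
      rw [Matrix.det_zero_of_column_eq hne (fun s => by
        rw [Matrix.submatrix_apply, Matrix.submatrix_apply, hkk])]
      exact Ideal.zero_mem _

end Block

end Groth.Agent.Lib.CellMinors
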