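import Groth.Agent.S5820
import Mathlib.RingTheory.Smooth.Kaehler

/-!
# Characteristic homomorphism of an extension with a chosen section

General lemmas computing the characteristic homomorphism of an `A`-trivial extension through a
section, and building equivalences of extensions.
-/

set_option autoImplicit false
universe u v
open EGA41
open scoped TensorProduct
set_option linter.unusedSectionVars false

namespace Groth.Agent.Lib.CharHomSec

open KaehlerDifferential
open Groth.Agent.S5833 (mid mid_tmul)
open Groth.Agent.S5820 (delta exists_delta_eq mapBaseChange_mid)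

section General

variable {Λ A E C : Type*} [CommRing Λ] [CommRing A] [CommRing E] [CommRing C]
  [Algebra Λ A] [Algebra Λ E] [Algebra A E]
  [Algebra E C] [Algebra Λ C] [Algebra A C]
  [IsScalarTower Λ A E] [IsScalarTower Λ E C] [IsScalarTower A E C] [IsScalarTower Λ A C]

variable {L : Type*} [AddCommGroup L] [Module C L] (incl : L →+ E)
    (hincl : Function.Injective incl) (hzero : ∀ l, algebraMap E C (incl l) = 0)
    (hexact : ∀ e : E, algebraMap E C e = 0 → ∃ l, incl l = e)
    (hsurj : Function.Surjective (algebraMap E C))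
    (hsq : RingHom.ker (algebraMap E C) ^ 2 = ⊥) (g : C →ₐ[Λ] E)
    (hg : (IsScalarTower.toAlgHom Λ E C).comp g = AlgHom.id Λ C)

omit [IsScalarTower Λ A C] in
/-- Additive maps out of `C ⊗_A Ω_{A/Λ}` agreeing on the elements `c ⊗ d a` are equal. -/
theorem addHom_ext_tmul_D {L' : Type*} [AddCommGroup L'] (f f' : C ⊗[A] Ω[A⁄Λ] →+ L')
    (h : ∀ (c : C) (a : A), f (c ⊗ₜ[A] D Λ A a) = f' (c ⊗ₜ[A] D Λ A a))
    (z : C ⊗[A] Ω[A⁄Λ]) : f z = f' z := by
  induction z using TensorProduct.induction_on with
  | zero => rw [map_zero, map_zero]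
  | add x y hx hy => rw [map_add, map_add, hx, hy]
  | tmul c ω =>
    have hω : ω ∈ Submodule.span A (Set.range (D Λ A)) := by
      rw [KaehlerDifferential.span_range_derivation]; trivial
    induction hω using Submodule.span_induction generalizing c with
    | mem x hx =>
      obtain ⟨a, rfl⟩ := hx
      exact h c a
    | zero => rw [TensorProduct.tmul_zero, map_zero, map_zero]
    | add x y _ _ hx hy => rw [TensorProduct.tmul_add, map_add, map_add, hx, hy]
    | smul a x _ hx => rw [← TensorProduct.smul_tmul, hx]

theorem retraction_mid (Dt : C ⊗[A] Ω[A⁄Λ] →+ L)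
    (hDt : ∀ (c : C) (a : A), incl (Dt (c ⊗ₜ[A] D Λ A a)) =
      g c * (algebraMap A E a - g (algebraMap A C a)))
    (z : C ⊗[A] Ω[A⁄Λ]) :
    ((retractionOfSectionOfKerSqZero g hsq hg (mid Λ A E C z) :
      RingHom.ker (algebraMap E C)) : E) = incl (Dt z) := by
  induction z using TensorProduct.induction_on with
  | zero => rw [map_zero, map_zero, map_zero, map_zero]; rfl
  | add x y hx hy => rw [map_add, map_add, map_add, map_add, ← hx, ← hy]; rfl
  | tmul c ω =>
    have hω : ω ∈ Submodule.span A (Set.range (D Λ A)) := by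
      rw [KaehlerDifferential.span_range_derivation]; trivial
    induction hω using Submodule.span_induction generalizing c with
    | mem x hx =>
      obtain ⟨a, rfl⟩ := hx
      rw [hDt, mid_tmul, KaehlerDifferential.map_D, retractionOfSectionOfKerSqZero_tmul_D,
        ← IsScalarTower.algebraMap_apply A E C, mul_sub]
    | zero => rw [TensorProduct.tmul_zero, map_zero, map_zero, map_zero, map_zero]; rfl
    | add x y _ _ hx hy =>
      rw [TensorProduct.tmul_add, map_add, map_add, map_add, map_add, ← hx, ← hy]; rfl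
    | smul a x _ hx =>
      rw [← TensorProduct.smul_tmul, hx]

include hincl hzero hexact hsurj hsq hg in
theorem delta_eq_mid (Dt : C ⊗[A] Ω[A⁄Λ] →+ L)
    (hDt : ∀ (c : C) (a : A), incl (Dt (c ⊗ₜ[A] D Λ A a)) =
      g c * (algebraMap A E a - g (algebraMap A C a)))
    (z : C ⊗[A] Ω[A⁄Λ]) (hz : KaehlerDifferential.mapBaseChange Λ A C z = 0) :
    delta (Λ := Λ) (C := C) incl (Dt z) = mid Λ A E C z := by
  obtain ⟨l, hl⟩ := exists_delta_eq (Λ := Λ) incl hexact hsurj (mid Λ A E C z)
    (by rw [mapBaseChange_mid]; exact hz)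
  have h1 := retraction_mid incl hsq g hg Dt hDt z
  rw [← hl, delta, retractionOfSectionOfKerSqZero_tmul_D, map_one, one_mul, one_mul] at h1
  rw [hzero, map_zero, sub_zero] at h1
  rw [← hl, hincl h1]

end General

section Factor

variable {R M N P L : Type*} [CommRing R] [AddCommGroup M] [AddCommGroup N] [AddCommGroup P]
  [AddCommGroup L] [Module R M] [Module R N] [Module R P] [Module R L]

/-- A map killing `ker f` factors through `range f`. -/
theorem exists_rangeFactor (f : M →ₗ[R] N) (Δ : M →ₗ[R] L) (hΔ : ∀ m, f m = 0 → Δ m = 0) :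
    ∃ ψ₀ : LinearMap.range f →ₗ[R] L, ∀ m, ψ₀ ⟨f m, LinearMap.mem_range_self f m⟩ = Δ m := by
  have hle : LinearMap.ker f ≤ LinearMap.ker Δ := fun m hm => hΔ m hm
  refine ⟨((LinearMap.ker f).liftQ Δ hle).comp (LinearMap.quotKerEquivRange f).symm.toLinearMap,
    fun m => ?_⟩
  have h1 : (LinearMap.quotKerEquivRange f).symm ⟨f m, LinearMap.mem_range_self f m⟩ =
      Submodule.Quotient.mk m := by
    rw [LinearEquiv.symm_apply_eq]
    exact Subtype.ext (LinearMap.quotKerEquivRange_apply_mk f m).symm
  rw [LinearMap.comp_apply, LinearEquiv.coe_coe, h1, Submodule.liftQ_apply]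

theorem exists_factor_of_section (f : M →ₗ[R] N) (π : N →ₗ[R] P) (hex : Function.Exact f π)
    (s : P →ₗ[R] N) (hs : ∀ p, π (s p) = p)
    (Δ : M →ₗ[R] L) (hΔ : ∀ m, f m = 0 → Δ m = 0) :
    ∃ ψ : N →ₗ[R] L, ∀ m, ψ (f m) = Δ m := by
  obtain ⟨ψ₀, hψ₀⟩ := exists_rangeFactor f Δ hΔ
  have hq : ∀ n : N, n - s (π n) ∈ LinearMap.range f := fun n => by
    rw [LinearMap.mem_range]
    exact (hex _).1 (by rw [map_sub, hs, sub_self])
  let q : N →ₗ[R] LinearMap.range f :=
    LinearMap.codRestrict (LinearMap.range f) (LinearMap.id - s.comp π) hq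
  refine ⟨ψ₀.comp q, fun m => ?_⟩
  have h1 : q (f m) = ⟨f m, LinearMap.mem_range_self f m⟩ := by
    apply Subtype.ext
    change f m - s (π (f m)) = f m
    rw [hex.apply_apply_eq_zero, map_zero, sub_zero]
  rw [LinearMap.comp_apply, h1, hψ₀]

/-- In an exact sequence `M → N → P` with a linear section of `N → P` and `N` projective, the
kernel of `M → N` is a direct summand of `M`. -/
theorem exists_retraction_ker [Module.Projective R N] (f : M →ₗ[R] N) (π : N →ₗ[R] P)
    (hex : Function.Exact f π) (s : P →ₗ[R] N) (hs : ∀ p, π (s p) = p) :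
    ∃ r : M →ₗ[R] LinearMap.ker f, ∀ z : LinearMap.ker f, r z = z := by
  have hq : ∀ n : N, n - s (π n) ∈ LinearMap.range f := fun n => by
    rw [LinearMap.mem_range]
    exact (hex _).1 (by rw [map_sub, hs, sub_self])
  let q : N →ₗ[R] LinearMap.range f :=
    LinearMap.codRestrict (LinearMap.range f) (LinearMap.id - s.comp π) hq
  have hqi : q.comp (LinearMap.range f).subtype = LinearMap.id := by
    apply LinearMap.ext
    rintro ⟨_, m, rfl⟩
    apply Subtype.ext
    change f m - s (π (f m)) = f m
    rw [hex.apply_apply_eq_zero, map_zero, sub_zero]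
  have hproj : Module.Projective R (LinearMap.range f) :=
    Module.Projective.of_split (LinearMap.range f).subtype q hqi
  obtain ⟨t, ht⟩ := Module.projective_lifting_property f.rangeRestrict
    (LinearMap.id : LinearMap.range f →ₗ[R] LinearMap.range f) f.surjective_rangeRestrict
  have ht' : ∀ y : LinearMap.range f, f (t y) = y := fun y => by
    have := LinearMap.congr_fun ht y
    exact congrArg Subtype.val this
  have hr : ∀ m : M, m - t (f.rangeRestrict m) ∈ LinearMap.ker f := fun m => by
    rw [LinearMap.mem_ker, map_sub, ht']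
    exact sub_self _
  refine ⟨LinearMap.codRestrict (LinearMap.ker f) (LinearMap.id - t.comp f.rangeRestrict) hr,
    fun z => ?_⟩
  apply Subtype.ext
  change (z : M) - t (f.rangeRestrict z) = z
  have hz : f.rangeRestrict (z : M) = 0 := Subtype.ext z.2
  rw [hz, map_zero, sub_zero]

end Factor

section FactorInj

variable {R : Type u} {M N L : Type v} [CommRing R] [AddCommGroup M] [AddCommGroup N]
  [AddCommGroup L] [Module R M] [Module R N] [Module R L]

theorem exists_factor_of_injective [Module.Injective R L] (f : M →ₗ[R] N)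
    (Δ : M →ₗ[R] L) (hΔ : ∀ m, f m = 0 → Δ m = 0) :
    ∃ ψ : N →ₗ[R] L, ∀ m, ψ (f m) = Δ m := by
  obtain ⟨ψ₀, hψ₀⟩ := exists_rangeFactor f Δ hΔ
  obtain ⟨ψ, hψ⟩ := Module.Injective.out (R := R) (Q := L) (LinearMap.range f).subtype
    (Submodule.injective_subtype _) ψ₀
  exact ⟨ψ, fun m => by rw [← hψ₀ m, ← hψ]; rfl⟩

end FactorInj

section ExtLevel

variable {R : Type u} {S L : Type v} [CommRing R] [CommRing S] [Algebra R S] [AddCommGroup L]
  [Module S L]

theorem incl_mul_incl (X : Exal.Ext R S L) (l l' : L) : X.incl l * X.incl l' = 0 := by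
  rw [X.isExtension.mul_incl, (X.isExtension.exact _).2 ⟨l, rfl⟩, zero_smul, map_zero]

theorem proj_incl (X : Exal.Ext R S L) (l : L) : X.proj (X.incl l) = 0 :=
  (X.isExtension.exact _).2 ⟨l, rfl⟩

/-- An algebra map of extensions compatible with projections and inclusions is an equivalence. -/
noncomputable def equivOfHom (X Y : Exal.Ext R S L) (φ : X.E →ₐ[R] Y.E)
    (hp : ∀ e, Y.proj (φ e) = X.proj e) (hi : ∀ l, φ (X.incl l) = Y.incl l) : X.Equiv Y where
  toAlgEquiv := AlgEquiv.ofBijective φ (by
    constructor
    · rw [injective_iff_map_eq_zero]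
      intro e he
      have h1 : X.proj e = 0 := by rw [← hp, he, map_zero]
      obtain ⟨l, rfl⟩ := (X.isExtension.exact e).1 h1
      rw [hi] at he
      have : l = 0 := Y.isExtension.incl_injective (by rw [he, map_zero])
      rw [this, map_zero]
    · intro y
      obtain ⟨e, he⟩ := X.isExtension.proj_surjective (Y.proj y)
      have h1 : Y.proj (y - φ e) = 0 := by rw [map_sub, hp, he, sub_self]
      obtain ⟨l, hl⟩ := (Y.isExtension.exact _).1 h1
      refine ⟨e + X.incl l, ?_⟩
      rw [map_add, hi, hl]
      abel)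
  proj_apply := hp
  apply_incl := hi

variable (X : Exal.Ext R S L) (σ : S →+* X.E) (hσ : ∀ c, X.proj (σ c) = c)

include hσ in
theorem proj_sub_sigma (e : X.E) : X.proj (e - σ (X.proj e)) = 0 := by
  rw [map_sub, hσ, sub_self]

/-- The `L`-component of an element of the middle ring, relative to a section. -/
noncomputable def lam (e : X.E) : L := X.kerLift (e - σ (X.proj e)) (proj_sub_sigma X σ hσ e)

theorem incl_lam (e : X.E) : X.incl (lam X σ hσ e) = e - σ (X.proj e) :=
  X.incl_kerLift _ _

include hσ in
theorem sigma_mul_incl (c : S) (l : L) : σ c * X.incl l = X.incl (c • l) := by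
  rw [X.isExtension.mul_incl, hσ]

theorem lam_add (e e' : X.E) : lam X σ hσ (e + e') = lam X σ hσ e + lam X σ hσ e' := by
  apply X.isExtension.incl_injective
  rw [map_add, incl_lam, incl_lam, incl_lam, map_add, map_add]
  abel

theorem lam_mul (e e' : X.E) :
    lam X σ hσ (e * e') = X.proj e • lam X σ hσ e' + X.proj e' • lam X σ hσ e := by
  apply X.isExtension.incl_injective
  rw [map_add, ← X.isExtension.mul_incl, ← sigma_mul_incl X σ hσ, incl_lam, incl_lam, incl_lam,
    map_mul, map_mul]
  ring

theorem lam_incl (l : L) : lam X σ hσ (X.incl l) = l := by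
  apply X.isExtension.incl_injective
  rw [incl_lam, proj_incl, map_zero, sub_zero]

theorem lam_sigma (c : S) : lam X σ hσ (σ c) = 0 := by
  apply X.isExtension.incl_injective
  rw [incl_lam, hσ, sub_self, map_zero]

theorem eq_sigma_add_incl (e : X.E) : e = σ (X.proj e) + X.incl (lam X σ hσ e) := by
  rw [incl_lam]; abel

end ExtLevel

section Iso

variable {R : Type u} {S L : Type v} [CommRing R] [CommRing S] [Algebra R S] [AddCommGroup L]
  [Module S L]

/-- Two extensions with sections whose associated "derivations" of the base differ by a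
derivation of `S` are equivalent. -/
theorem nonempty_equiv_of_sections (X Y : Exal.Ext R S L)
    (σX : S →+* X.E) (hσX : ∀ c, X.proj (σX c) = c)
    (σY : S →+* Y.E) (hσY : ∀ c, Y.proj (σY c) = c)
    (D' : S → L) (hadd : ∀ c c', D' (c + c') = D' c + D' c')
    (hmul : ∀ c c', D' (c * c') = c • D' c' + c' • D' c)
    (hD : ∀ r : R, lam X σX hσX (algebraMap R X.E r) - lam Y σY hσY (algebraMap R Y.E r) =
      D' (algebraMap R S r)) :
    Nonempty (X.Equiv Y) := by
  have h0 : D' 0 = 0 := by
    have := hadd 0 0
    rw [add_zero] at this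
    exact left_eq_add.mp this
  have h1 : D' 1 = 0 := by
    have := hmul 1 1
    rw [one_mul, one_smul] at this
    exact left_eq_add.mp this
  let μ : X.E → L := fun e => lam X σX hσX e - D' (X.proj e)
  have hμadd : ∀ e e', μ (e + e') = μ e + μ e' := fun e e' => by
    change lam X σX hσX (e + e') - D' (X.proj (e + e')) = _
    rw [lam_add, map_add, hadd]
    change _ = (lam X σX hσX e - D' (X.proj e)) + (lam X σX hσX e' - D' (X.proj e'))
    abel
  have hμmul : ∀ e e', μ (e * e') = X.proj e • μ e' + X.proj e' • μ e := fun e e' => by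
    change lam X σX hσX (e * e') - D' (X.proj (e * e')) =
      X.proj e • (lam X σX hσX e' - D' (X.proj e')) + X.proj e' • (lam X σX hσX e - D' (X.proj e))
    rw [lam_mul, map_mul, hmul, smul_sub, smul_sub]
    abel
  let φ₀ : X.E →+* Y.E :=
    { toFun := fun e => σY (X.proj e) + Y.incl (μ e)
      map_one' := by
        change σY (X.proj 1) + Y.incl (lam X σX hσX 1 - D' (X.proj 1)) = 1
        have : lam X σX hσX 1 = 0 := by
          have := lam_sigma X σX hσX 1
          rwa [map_one] at this
        rw [this, map_one, h1, sub_zero, map_zero, add_zero, map_one]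
      map_mul' := fun e e' => by
        rw [hμmul, map_mul, map_mul, map_add, ← sigma_mul_incl Y σY hσY,
          ← sigma_mul_incl Y σY hσY]
        have := incl_mul_incl Y (μ e) (μ e')
        linear_combination (-1 : Y.E) * this
      map_zero' := by
        change σY (X.proj 0) + Y.incl (lam X σX hσX 0 - D' (X.proj 0)) = 0
        have : lam X σX hσX 0 = 0 := by
          have := lam_sigma X σX hσX 0
          rwa [map_zero] at this
        rw [this, map_zero, h0, sub_zero, map_zero, map_zero, add_zero]
      map_add' := fun e e' => by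
        rw [hμadd, map_add, map_add, map_add]
        abel }
  let φ : X.E →ₐ[R] Y.E :=
    { toRingHom := φ₀
      commutes' := fun r => by
        change σY (X.proj (algebraMap R X.E r)) +
          Y.incl (lam X σX hσX (algebraMap R X.E r) - D' (X.proj (algebraMap R X.E r))) = _
        rw [AlgHom.commutes, ← hD r, sub_sub_cancel, incl_lam, AlgHom.commutes]
        abel }
  refine ⟨equivOfHom X Y φ (fun e => ?_) (fun l => ?_)⟩
  · change Y.proj (σY (X.proj e) + Y.incl (μ e)) = X.proj e
    rw [map_add, hσY, proj_incl, add_zero]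
  · change σY (X.proj (X.incl l)) + Y.incl (lam X σX hσX (X.incl l) - D' (X.proj (X.incl l))) = _
    rw [proj_incl, lam_incl, h0, sub_zero, map_zero, zero_add]

end Iso

section Der

variable (A : Type u) {B C L : Type v} [CommRing A] [CommRing B] [CommRing C]
    [Algebra A B] [Algebra B C] [Algebra A C] [IsScalarTower A B C] [AddCommGroup L] [Module C L]
    [Module B L] [IsScalarTower B C L] [Module A L] [IsScalarTower A B L]
    (X : Exal.Ext B C L) (σ : C →+* X.E) (hσ : ∀ c, X.proj (σ c) = c)
    (hσA : ∀ a : A, σ (algebraMap A C a) = algebraMap B X.E (algebraMap A B a))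

/-- The `A`-derivation `B → L`, `b ↦ β b - σ (b̄)`, attached to a section `σ`. -/
noncomputable def derOfSection : Derivation A B L where
  toLinearMap :=
    { toFun := fun b => lam X σ hσ (algebraMap B X.E b)
      map_add' := fun b b' => by rw [map_add, lam_add]
      map_smul' := fun a b => by
        rw [RingHom.id_apply, Algebra.smul_def, map_mul, lam_mul, ← hσA, lam_sigma, smul_zero,
          add_zero, hσ, IsScalarTower.algebraMap_apply A B C, algebraMap_smul, algebraMap_smul] }
  map_one_eq_zero' := by
    change lam X σ hσ (algebraMap B X.E 1) = 0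
    have := lam_sigma X σ hσ 1
    rwa [map_one, ← map_one (algebraMap B X.E)] at this
  leibniz' := fun b b' => by
    change lam X σ hσ (algebraMap B X.E (b * b')) =
      b • lam X σ hσ (algebraMap B X.E b') + b' • lam X σ hσ (algebraMap B X.E b)
    rw [map_mul, lam_mul, AlgHom.commutes, AlgHom.commutes, algebraMap_smul, algebraMap_smul]

theorem derOfSection_apply (b : B) :
    derOfSection A X σ hσ hσA b = lam X σ hσ (algebraMap B X.E b) := rfl

/-- The `C`-linear map `C ⊗_B Ω_{B/A} → L` attached to a section. -/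
noncomputable def Dt : C ⊗[B] Ω[B⁄A] →ₗ[C] L :=
  (derOfSection A X σ hσ hσA).liftKaehlerDifferential.liftBaseChange C

theorem Dt_tmul_D (c : C) (b : B) :
    Dt A X σ hσ hσA (c ⊗ₜ[B] D A B b) = c • lam X σ hσ (algebraMap B X.E b) := by
  rw [Dt, LinearMap.liftBaseChange_tmul, Derivation.liftKaehlerDifferential_comp_D,
    derOfSection_apply]

/-- The section as an algebra map into the carrier used for the characteristic homomorphism. -/
def gOfSigma : C →ₐ[A] X.CharCarrier A :=
  { toFun := fun c => σ c
    map_one' := map_one σ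
    map_mul' := map_mul σ
    map_zero' := map_zero σ
    map_add' := map_add σ
    commutes' := hσA }

include hσ in
theorem gOfSigma_comp :
    (IsScalarTower.toAlgHom A (X.CharCarrier A) C).comp (gOfSigma A X σ hσA) = AlgHom.id A C :=
  AlgHom.ext hσ

/-- The characteristic homomorphism of an extension with a section is the restriction of `Dt`. -/
theorem isCharHom_Dt :
    X.IsCharHom A ((Dt A X σ hσ hσA).domRestrict (EGA41.imperfection A B C)) := by
  rw [Groth.Agent.S5820.isCharHom_iff]
  intro z
  have hDt : ∀ (c : C) (b : B),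
      X.inclC A ((Dt A X σ hσ hσA).toAddMonoidHom (c ⊗ₜ[B] D A B b)) =
        gOfSigma A X σ hσA c * (algebraMap B (X.CharCarrier A) b -
          gOfSigma A X σ hσA (algebraMap B C b)) := by
    intro c b
    change X.incl (Dt A X σ hσ hσA (c ⊗ₜ[B] D A B b)) =
      σ c * (algebraMap B X.E b - σ (algebraMap B C b))
    rw [Dt_tmul_D, ← sigma_mul_incl X σ hσ, incl_lam, AlgHom.commutes]
  exact delta_eq_mid (Λ := A) (A := B) (E := X.CharCarrier A) (C := C) (X.inclC A)
    X.isExtension.incl_injective (Groth.Agent.S5820.hzeroX A X) (Groth.Agent.S5820.hexactX A X)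
    (Groth.Agent.S5820.hsurjX A X) (Groth.Agent.S5820.hsqX A X) (gOfSigma A X σ hσA)
    (gOfSigma_comp A X σ hσ hσA) (Dt A X σ hσ hσA).toAddMonoidHom hDt z z.2

end Der

section Sigma

variable (A : Type u) {B C L : Type v} [CommRing A] [CommRing B] [CommRing C]
    [Algebra A B] [Algebra B C] [Algebra A C] [IsScalarTower A B C] [AddCommGroup L] [Module C L]
    (X : Exal.Ext B C L)

theorem exists_sigma (hX : X.IsTrivialOver A) :
    ∃ σ : C →+* X.E, (∀ c, X.proj (σ c) = c) ∧
      ∀ a : A, σ (algebraMap A C a) = algebraMap B X.E (algebraMap A B a) := by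
  obtain ⟨s, hs⟩ := hX
  exact ⟨{ toFun := fun c => s c
           map_one' := map_one s
           map_mul' := map_mul s
           map_zero' := map_zero s
           map_add' := map_add s }, hs, fun a => s.commutes a⟩

theorem isTrivialOver_of_sigma (σ : C →+* X.E) (hσ : ∀ c, X.proj (σ c) = c)
    (hσA : ∀ a : A, σ (algebraMap A C a) = algebraMap B X.E (algebraMap A B a)) :
    X.IsTrivialOver A :=
  ⟨{ toFun := fun c => σ c
     map_one' := map_one σ
     map_mul' := map_mul σ
     map_zero' := map_zero σ
     map_add' := map_add σ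
     commutes' := hσA }, hσ⟩

end Sigma

end Groth.Agent.Lib.CharHomSec
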