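import Groth.Agent.Lib.DetCone75
import Groth.Prelude.Def_SGA4hB

/-!
# Characteristic series of endomorphisms of bounded complexes of finite free modules
(helper75, for S3139)

* `detEven_eq_detOdd_of_contractible` : for a contractible bounded complex of finite free
  modules with an endomorphism `w`, `∏_{i even} det(1 - w t, Cⁱ) = ∏_{i odd} det(1 - w t, Cⁱ)`.
* `detOneSub_cone` : block-triangular formula on the terms of a mapping cone.
* `exists_cone_data` : an isomorphism in the derived category between bounded above complexes of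
  free modules lifts to a morphism of complexes with contractible cone (and homotopy commutative
  squares lift too).
-/

set_option autoImplicit false
universe u
open CategoryTheory TensorProduct Polynomial
attribute [local instance] HasDerivedCategory.standard

namespace Groth.Agent.Lib.CharSeries75

open Groth.Agent.Lib.DetCone75
open CochainComplex HomComplex mappingCone

variable {A : Type u} [CommRing A]

/-- base change to `A[X]` of a morphism of `A`-modules. -/
noncomputable abbrev bc {M N : ModuleCat.{u} A} (g : M ⟶ N) :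
    (A[X] ⊗[A] M) →ₗ[A[X]] (A[X] ⊗[A] N) :=
  g.hom.baseChange A[X]

theorem bc_comp {M N P : ModuleCat.{u} A} (g : M ⟶ N) (h : N ⟶ P) :
    bc (g ≫ h) = bc h ∘ₗ bc g := by
  simp [bc, LinearMap.baseChange_comp]

theorem bc_id (M : ModuleCat.{u} A) : bc (𝟙 M) = LinearMap.id := by
  simp [bc]

theorem bc_zero (M N : ModuleCat.{u} A) : bc (0 : M ⟶ N) = 0 := by
  simp [bc]

theorem bc_add {M N : ModuleCat.{u} A} (g h : M ⟶ N) : bc (g + h) = bc g + bc h := by
  simp [bc, LinearMap.baseChange_add]

theorem detOneSub_eq (M : ModuleCat.{u} A) (g : M ⟶ M) :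
    SGA4h.detOneSub M g = LinearMap.det (LinearMap.id - (X : A[X]) • bc g) := rfl

theorem detOneSub_zero (M : ModuleCat.{u} A) : SGA4h.detOneSub M 0 = 1 := by
  rw [detOneSub_eq, bc_zero, smul_zero]
  have h : (LinearMap.id - 0 : (A[X] ⊗[A] M) →ₗ[A[X]] (A[X] ⊗[A] M)) = LinearMap.id := by
    ext x
    simp
  rw [h]
  exact LinearMap.det_id

theorem detOneSub_eq_one_of_isZero (M : ModuleCat.{u} A) (g : M ⟶ M) (hM : Limits.IsZero M) :
    SGA4h.detOneSub M g = 1 := by
  rw [hM.eq_of_src g 0, detOneSub_zero]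

section contractible

/-- the auxiliary quantities `a i` attached to a contraction. -/
noncomputable def aux (C : CochainComplex (ModuleCat.{u} A) ℤ) (H : Homotopy (𝟙 C) 0) (w : C ⟶ C)
    (i : ℤ) : A[X] :=
  LinearMap.det ((1 : Module.End A[X] (A[X] ⊗[A] C.X i)) +
    ((LinearMap.id - (X : A[X]) • bc (w.f i)) - 1) * bc (H.hom i (i - 1) ≫ C.d (i - 1) i))

theorem aux_eq_one (C : CochainComplex (ModuleCat.{u} A) ℤ) (H : Homotopy (𝟙 C) 0) (w : C ⟶ C)
    (i : ℤ) (hi : Limits.IsZero (C.X i)) : aux C H w i = 1 := by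
  have : H.hom i (i - 1) ≫ C.d (i - 1) i = 0 := hi.eq_of_src _ _
  rw [aux, this, bc_zero, mul_zero, add_zero, map_one]

theorem detOneSub_eq_aux_mul (C : CochainComplex (ModuleCat.{u} A) ℤ)
    (hC : ∀ i, Module.Finite A (C.X i) ∧ Module.Free A (C.X i))
    (H : Homotopy (𝟙 C) 0) (w : C ⟶ C) (i : ℤ) :
    SGA4h.detOneSub (C.X i) (w.f i) = aux C H w i * aux C H w (i + 1) := by
  have := fun i => (hC i).1
  have := fun i => (hC i).2
  have hid : 𝟙 (C.X i) = C.d i (i + 1) ≫ H.hom (i + 1) i + H.hom i (i - 1) ≫ C.d (i - 1) i := by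
    have h := H.comm i
    rw [dNext_eq H.hom (show (ComplexShape.up ℤ).Rel i (i + 1) from rfl),
      prevD_eq H.hom (show (ComplexShape.up ℤ).Rel (i - 1) i by simp)] at h
    simpa using h
  have key := det_eq_mul_of_contraction (B := A[X])
    (p := bc (H.hom i (i - 1) ≫ C.d (i - 1) i))
    (W := LinearMap.id - (X : A[X]) • bc (w.f i))
    (W' := LinearMap.id - (X : A[X]) • bc (w.f (i + 1)))
    (D := bc (C.d i (i + 1))) (S := bc (H.hom (i + 1) i)) ?_ ?_ ?_
  · rw [detOneSub_eq, key, aux, aux]
    congr 1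
    have : ∀ j, j = i → LinearMap.det ((1 : Module.End A[X] (A[X] ⊗[A] C.X (i + 1))) +
        ((LinearMap.id - (X : A[X]) • bc (w.f (i + 1))) - 1) *
          (bc (C.d i (i + 1)) ∘ₗ bc (H.hom (i + 1) i))) =
      LinearMap.det ((1 : Module.End A[X] (A[X] ⊗[A] C.X (i + 1))) +
        ((LinearMap.id - (X : A[X]) • bc (w.f (i + 1))) - 1) *
          bc (H.hom (i + 1) j ≫ C.d j (i + 1))) := by
      rintro j rfl
      rw [bc_comp]
    exact this (i + 1 - 1) (by ring)
  · rw [← bc_comp, ← bc_add, add_comm, ← hid, bc_id]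
    rfl
  · rw [← bc_comp, Category.assoc, C.d_comp_d, Limits.comp_zero, bc_zero]
  · rw [LinearMap.sub_comp, LinearMap.comp_sub, LinearMap.smul_comp, LinearMap.comp_smul,
      ← bc_comp, ← bc_comp, w.comm]
    rfl

/-- For an endomorphism `w` of a contractible bounded complex `C` of finite free modules,
`∏_{i even} det(1 - w t, Cⁱ) = ∏_{i odd} det(1 - w t, Cⁱ)`. -/
theorem detEven_eq_detOdd_of_contractible (C : CochainComplex (ModuleCat.{u} A) ℤ)
    (hC : ∀ i, Module.Finite A (C.X i) ∧ Module.Free A (C.X i))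
    (a b : ℤ) (hlo : ∀ i, i < a → Limits.IsZero (C.X i)) (hhi : ∀ i, b < i → Limits.IsZero (C.X i))
    (H : Homotopy (𝟙 C) 0) (w : C ⟶ C) : SGA4h.detEven C w = SGA4h.detOdd C w := by
  unfold SGA4h.detEven SGA4h.detOdd
  exact finprod_even_eq_finprod_odd (fun i => SGA4h.detOneSub (C.X i) (w.f i)) (aux C H w)
    (detOneSub_eq_aux_mul C hC H w)
    (finite_mulSupport_of_bounds _ a b (fun i hi => aux_eq_one C H w i (hlo i hi))
      (fun i hi => aux_eq_one C H w i (hhi i hi)))

end contractible

section cone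
variable {K K' : CochainComplex (ModuleCat.{u} A) ℤ} (f : K ⟶ K') {u : K ⟶ K} {u' : K' ⟶ K'}
  (H : Homotopy (f ≫ u') (u ≫ f))

theorem mapOfHomotopy_f_fst (i : ℤ) :
    (mapOfHomotopy H).f i ≫ (fst f).1.v i (i + 1) rfl =
      (fst f).1.v i (i + 1) rfl ≫ u.f (i + 1) := by
  rw [ext_from_iff _ (i + 1) i rfl]
  constructor
  · simp [mapOfHomotopy]
  · simp [mapOfHomotopy]

theorem inr_f_mapOfHomotopy_f (i : ℤ) :
    (inr f).f i ≫ (mapOfHomotopy H).f i = u'.f i ≫ (inr f).f i := by
  have := congrArg (fun g => g.f i) (triangleMapOfHomotopy_comm₂ H)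
  simpa using this

/-- the terms of the mapping cone as products. -/
noncomputable def coneXEquiv (i : ℤ) : (mappingCone f).X i ≃ₗ[A] (K.X (i + 1) × K'.X i) :=
  ((HomologicalComplex.homotopyCofiber.XIsoBiprod f i (i + 1) rfl) ≪≫
    ModuleCat.biprodIsoProd _ _).toLinearEquiv

theorem cone_finite_free (hK : ∀ i : ℤ, Module.Finite A (K.X i) ∧ Module.Free A (K.X i))
    (hK' : ∀ i : ℤ, Module.Finite A (K'.X i) ∧ Module.Free A (K'.X i)) (i : ℤ) :
    Module.Finite A ((mappingCone f).X i) ∧ Module.Free A ((mappingCone f).X i) := by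
  have := (hK (i + 1)).1
  have := (hK (i + 1)).2
  have := (hK' i).1
  have := (hK' i).2
  exact ⟨Module.Finite.equiv (coneXEquiv f i).symm, Module.Free.of_equiv (coneXEquiv f i).symm⟩

/-- block-triangular formula on the terms of the mapping cone. -/
theorem detOneSub_cone (hK : ∀ i : ℤ, Module.Finite A (K.X i) ∧ Module.Free A (K.X i))
    (hK' : ∀ i : ℤ, Module.Finite A (K'.X i) ∧ Module.Free A (K'.X i)) (i : ℤ) :
    SGA4h.detOneSub ((mappingCone f).X i) ((mapOfHomotopy H).f i) =
      SGA4h.detOneSub (K.X (i + 1)) (u.f (i + 1)) * SGA4h.detOneSub (K'.X i) (u'.f i) := by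
  have := (hK (i + 1)).1
  have := (hK (i + 1)).2
  have := (hK' i).1
  have := (hK' i).2
  have := (cone_finite_free f hK hK' i).1
  have := (cone_finite_free f hK hK' i).2
  rw [detOneSub_eq, detOneSub_eq, detOneSub_eq]
  refine det_eq_mul_of_split (B := A[X]) (ι := bc ((inr f).f i))
    (r := bc ((snd f).v i i (add_zero i))) (π := bc ((fst f).1.v i (i + 1) rfl))
    (s := bc ((inl f).v (i + 1) i (by omega))) ?_ ?_ ?_ ?_ _ _ _ ?_ ?_
  · rw [← bc_comp, inr_f_snd_v, bc_id]
  · rw [← bc_comp, inl_v_fst_v, bc_id]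
  · rw [← bc_comp, inr_f_fst_v, bc_zero]
  · rw [← bc_comp, ← bc_comp, ← bc_add, add_comm, id_X, bc_id]
  · rw [LinearMap.comp_sub, LinearMap.sub_comp, LinearMap.comp_smul, LinearMap.smul_comp,
      ← bc_comp, ← bc_comp, mapOfHomotopy_f_fst]
    rfl
  · rw [LinearMap.comp_sub, LinearMap.sub_comp, LinearMap.comp_smul, LinearMap.smul_comp,
      ← bc_comp, ← bc_comp, inr_f_mapOfHomotopy_f]
    rfl

end cone

section derived

/-- An isomorphism `φ : K ≅ K'` in the derived category between bounded above complexes of free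
modules, intertwining `u` and `u'`, lifts to a morphism of complexes `f` with contractible cone
such that `f ≫ u'` and `u ≫ f` are homotopic. -/
theorem exists_cone_data (K K' : CochainComplex (ModuleCat.{u} A) ℤ) (b : ℤ)
    [K.IsStrictlyLE b] [K'.IsStrictlyLE b]
    (hK : ∀ i : ℤ, Module.Free A (K.X i)) (hK' : ∀ i : ℤ, Module.Free A (K'.X i))
    (u : K ⟶ K) (u' : K' ⟶ K') (φ : DerivedCategory.Q.obj K ≅ DerivedCategory.Q.obj K')
    (hφ : DerivedCategory.Q.map u ≫ φ.hom = φ.hom ≫ DerivedCategory.Q.map u') :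
    ∃ f : K ⟶ K', Nonempty (Homotopy (f ≫ u') (u ≫ f)) ∧
      Nonempty (Homotopy (𝟙 (mappingCone f)) 0) := by
  have : ∀ n, Projective (K.X n) := fun n => by
    have := hK n
    infer_instance
  have : ∀ n, Projective (K'.X n) := fun n => by
    have := hK' n
    infer_instance
  have hKp : K.IsKProjective := isKProjective_of_projective K b
  have hKp' : K'.IsKProjective := isKProjective_of_projective K' b
  -- lift `φ.hom` to a morphism of complexes
  obtain ⟨g, hg⟩ := (IsKProjective.Qh_map_bijective K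
    ((HomotopyCategory.quotient _ _).obj K')).surjective φ.hom
  obtain ⟨f, rfl⟩ := (HomotopyCategory.quotient _ _).map_surjective g
  have hf : DerivedCategory.Q.map f = φ.hom := hg
  refine ⟨f, ?_, ?_⟩
  · -- homotopy commutativity
    have h1 : DerivedCategory.Q.map (f ≫ u') = DerivedCategory.Q.map (u ≫ f) := by
      rw [Functor.map_comp, Functor.map_comp, hf, hφ]
    have h2 : (HomotopyCategory.quotient _ _).map (f ≫ u') =
        (HomotopyCategory.quotient _ _).map (u ≫ f) :=
      (IsKProjective.Qh_map_bijective K ((HomotopyCategory.quotient _ _).obj K')).injective h1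
    exact ⟨HomotopyCategory.homotopyOfEq _ _ h2⟩
  · -- contractibility of the cone
    have hiso : IsIso (DerivedCategory.Q.map f) := by rw [hf]; infer_instance
    rw [DerivedCategory.isIso_Q_map_iff_quasiIso] at hiso
    have hh := (IsKProjective.quasiIso_iff f).mp hiso
    rw [← HomotopyCategory.inverseImage_quotient_isomorphisms,
      MorphismProperty.inverseImage_iff, MorphismProperty.isomorphisms.iff] at hh
    have hdist := HomotopyCategory.mappingCone_triangleh_distinguished f
    have hz : Limits.IsZero ((HomotopyCategory.quotient _ _).obj (mappingCone f)) :=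
      (Pretriangulated.Triangle.isZero₃_iff_isIso₁ _ hdist).mpr hh
    refine ⟨HomotopyCategory.homotopyOfEq _ _ (hz.eq_of_src _ _)⟩

end derived

end Groth.Agent.Lib.CharSeries75
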