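import Groth.Agent.Lib.Rosenlicht38
import Groth.Agent.Lib.Cartier38c
import Mathlib.RingTheory.Coalgebra.GroupLike
import Mathlib.RingTheory.Bialgebra.GroupLike
import Mathlib.RingTheory.HopfAlgebra.GroupLike
import Mathlib.RingTheory.HopfAlgebra.Convolution
import Mathlib.RingTheory.Spectrum.Prime.Topology
import Mathlib.RingTheory.Spectrum.Prime.Noetherian

/-!
# Linearizations of the trivial line bundle are characters (helper38)

`θ ∈ R ⊗ A` with `r ↦ ρ(r)·θ` a comodule structure ("cocycle").  We show `θ` is a unit, evaluate it at points, and use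
Rosenlicht's lemma (`Lib/Rosenlicht38`) and Cartier's theorem (`Lib/Cartier38c`) to prove `θ = 1 ⊗ χ` with `χ` a character,
when `Spec R` is connected reduced and either all units of `A` are scalar multiples of characters or all units of `R` are
scalars.
-/

set_option autoImplicit false
set_option linter.unusedSectionVars false
universe u v w
open TensorProduct

noncomputable section

namespace Groth.Agent.Lib.LinTriv38
open Groth.Agent.Lib.Comod

section Cocycle
variable {k : Type u} [Field k] {A : Type v} [CommRing A] [HopfAlgebra k A]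
  {R : Type w} [CommRing R] [Algebra k R] [HopfRep.Comod k A R] [GLin.IsCoactAlg k A R]

/-- The twisted coaction `r ↦ ρ(r)·θ`. -/
def tw (θ : R ⊗[k] A) : R →ₗ[k] R ⊗[k] A :=
  (LinearMap.mulRight k θ) ∘ₗ HopfRep.Comod.coact (k := k) (A := A) (V := R)

theorem tw_apply (θ : R ⊗[k] A) (r : R) :
    tw θ r = HopfRep.Comod.coact (k := k) (A := A) r * θ := rfl

theorem tw_one (θ : R ⊗[k] A) : tw θ 1 = θ := by
  rw [tw_apply, GLin.IsCoactAlg.coact_one (k := k) (A := A) (R := R), one_mul]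

/-- `(r ⊗ a) ⊗ b ↦ r ⊗ a·S(b)`. -/
def Psi : (R ⊗[k] A) ⊗[k] A →ₐ[k] R ⊗[k] A :=
  Algebra.TensorProduct.productMap (AlgHom.id k (R ⊗[k] A))
    ((Algebra.TensorProduct.includeRight (R := k) (A := R) (B := A)).comp (HopfAlgebra.antipodeAlgHom k A))

theorem Psi_tmul (s : R ⊗[k] A) (b : A) :
    Psi (s ⊗ₜ[k] b) = s * ((1 : R) ⊗ₜ[k] HopfAlgebra.antipode k b) := by
  simp [Psi, Algebra.TensorProduct.productMap_apply_tmul]

theorem rTensor_tw (θ : R ⊗[k] A) (t : R ⊗[k] A) :
    (tw θ).rTensor A t =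
      Algebra.TensorProduct.map (GLin.coactAlgHom k A R) (AlgHom.id k A) t * (θ ⊗ₜ[k] (1 : A)) := by
  induction t using TensorProduct.induction_on with
  | zero => simp
  | add x y hx hy => rw [map_add, map_add, hx, hy, add_mul]
  | tmul r a =>
    rw [LinearMap.rTensor_tmul, Algebra.TensorProduct.map_tmul, Algebra.TensorProduct.tmul_mul_tmul,
      tw_apply, GLin.coactAlgHom_apply, AlgHom.id_apply, mul_one]

theorem Psi_assoc_symm_comul (t : R ⊗[k] A) :
    Psi ((TensorProduct.assoc k R A A).symm ((CoalgebraStruct.comul (R := k) (A := A)).lTensor R t)) =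
      (TensorProduct.rid k R ((CoalgebraStruct.counit (R := k) (A := A)).lTensor R t)) ⊗ₜ[k] (1 : A) := by
  induction t using TensorProduct.induction_on with
  | zero => simp
  | add x y hx hy => simp only [map_add, hx, hy, TensorProduct.add_tmul]
  | tmul r a =>
    rw [LinearMap.lTensor_tmul, LinearMap.lTensor_tmul, TensorProduct.rid_tmul]
    have key : ∀ u : A ⊗[k] A, Psi ((TensorProduct.assoc k R A A).symm (r ⊗ₜ[k] u)) =
        r ⊗ₜ[k] (LinearMap.mul' k A ((HopfAlgebra.antipode k).lTensor A u)) := by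
      intro u
      induction u using TensorProduct.induction_on with
      | zero => simp
      | add x y hx hy => simp only [map_add, TensorProduct.tmul_add, hx, hy]
      | tmul a b =>
        rw [TensorProduct.assoc_symm_tmul, Psi_tmul, Algebra.TensorProduct.tmul_mul_tmul, mul_one,
          LinearMap.lTensor_tmul, LinearMap.mul'_apply]
    rw [key, HopfAlgebra.mul_antipode_lTensor_comul_apply, Algebra.algebraMap_eq_smul_one,
      TensorProduct.tmul_smul, TensorProduct.smul_tmul']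

/-- A cocycle is a unit. -/
theorem isUnit_of_cocycle (θ : R ⊗[k] A)
    (hassoc : (TensorProduct.assoc k R A A).toLinearMap ∘ₗ (tw θ).rTensor A ∘ₗ tw θ =
      (CoalgebraStruct.comul (R := k) (A := A)).lTensor R ∘ₗ tw θ)
    (hcounit : (CoalgebraStruct.counit (R := k) (A := A)).lTensor R ∘ₗ tw θ = (TensorProduct.mk k R k).flip 1) :
    IsUnit θ := by
  have h1 := LinearMap.congr_fun hassoc 1
  have h2 := LinearMap.congr_fun hcounit 1
  simp only [LinearMap.comp_apply, tw_one, LinearEquiv.coe_coe] at h1 h2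
  have h3 : (tw θ).rTensor A θ =
      (TensorProduct.assoc k R A A).symm ((CoalgebraStruct.comul (R := k) (A := A)).lTensor R θ) := by
    rw [← h1, LinearEquiv.symm_apply_apply]
  have h4 := congrArg Psi h3
  rw [Psi_assoc_symm_comul, h2, rTensor_tw, map_mul, Psi_tmul] at h4
  simp only [LinearMap.flip_apply, TensorProduct.mk_apply, TensorProduct.rid_tmul, one_smul,
    HopfAlgebra.antipode_one] at h4
  rw [← Algebra.TensorProduct.one_def, mul_one] at h4
  exact IsUnit.of_mul_eq_one _ (by rw [mul_comm]; exact h4)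

end Cocycle


section Eval
variable {k : Type u} [Field k] {A : Type v} [CommRing A] [Algebra k A]
  {R : Type w} [CommRing R] [Algebra k R]

/-- Evaluation of the left tensor factor at a rational point. -/
def evL (x : R →ₐ[k] k) : R ⊗[k] A →ₐ[k] A :=
  (Algebra.TensorProduct.lid k A).toAlgHom.comp (Algebra.TensorProduct.map x (AlgHom.id k A))

@[simp] theorem evL_tmul (x : R →ₐ[k] k) (r : R) (a : A) : evL x (r ⊗ₜ[k] a) = x r • a := by
  simp [evL]

/-- contraction with a rational point of the right factor, as an algebra map -/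
def evRk (g : A →ₐ[k] k) : R ⊗[k] A →ₐ[k] R :=
  (Algebra.TensorProduct.rid k k R).toAlgHom.comp (Algebra.TensorProduct.map (AlgHom.id k R) g)

@[simp] theorem evRk_tmul (g : A →ₐ[k] k) (r : R) (a : A) : evRk g (r ⊗ₜ[k] a) = g a • r := by
  simp [evRk]

theorem apply_evL (g : A →ₐ[k] k) (x : R →ₐ[k] k) (t : R ⊗[k] A) :
    g (evL x t) = x (evRk g t) := by
  induction t using TensorProduct.induction_on with
  | zero => simp
  | add a b ha hb => simp only [map_add, ha, hb]
  | tmul r a => simp [mul_comm]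

theorem evL_eq_contr_comm (x : R →ₐ[k] k) (t : R ⊗[k] A) :
    evL x t = contr A x.toLinearMap (TensorProduct.comm k R A t) := by
  induction t using TensorProduct.induction_on with
  | zero => simp
  | add a b ha hb => simp only [map_add, ha, hb]
  | tmul r a => simp

/-- Rational points of a reduced finitely generated algebra on the left separate tensors. -/
theorem eq_zero_of_forall_evL [IsAlgClosed k] [Algebra.FiniteType k R] [IsReduced R] (t : R ⊗[k] A)
    (h : ∀ x : R →ₐ[k] k, evL x t = 0) : t = 0 := by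
  apply (TensorProduct.comm k R A).injective
  rw [map_zero]
  apply Groth.Agent.Lib.InvFrac38.eq_zero_of_forall_contr
  intro x
  rw [← evL_eq_contr_comm, h]

/-- Pairs of rational points separate tensors of reduced finitely generated algebras. -/
theorem eq_zero_of_forall_apply_evL [IsAlgClosed k] [Algebra.FiniteType k R] [IsReduced R]
    [Algebra.FiniteType k A] [IsReduced A] (t : R ⊗[k] A)
    (h : ∀ (x : R →ₐ[k] k) (g : A →ₐ[k] k), g (evL x t) = 0) : t = 0 := by
  apply eq_zero_of_forall_evL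
  intro x
  exact (Groth.Agent.Lib.GITPts38.isNilpotent_of_forall_algHom_eq_zero (k := k) _ (h x)).eq_zero

theorem evL_one_tmul (x : R →ₐ[k] k) (a : A) : evL x ((1 : R) ⊗ₜ[k] a) = a := by simp

end Eval

section EvalCo
variable {k : Type u} [Field k] {A : Type v} [CommRing A] [Bialgebra k A]
  {R : Type w} [CommRing R] [Algebra k R]

theorem counit_evL (x : R →ₐ[k] k) (t : R ⊗[k] A) :
    CoalgebraStruct.counit (R := k) (evL x t) =
      x (TensorProduct.rid k R ((CoalgebraStruct.counit (R := k) (A := A)).lTensor R t)) := by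
  induction t using TensorProduct.induction_on with
  | zero => simp
  | add a b ha hb => simp only [map_add, ha, hb]
  | tmul r a => simp [mul_comm]

end EvalCo


section GrpLike
variable {k : Type u} [Field k] {A : Type v} [CommRing A] [HopfAlgebra k A]

/-- An algebraic group-like element has finite order. -/
theorem exists_pow_eq_one_of_aeval_eq_zero {ψ : A} (hψ : IsGroupLikeElem k ψ) {p : Polynomial k}
    (hp : p ≠ 0) (h : Polynomial.aeval ψ p = 0) : ∃ m : ℕ, 0 < m ∧ ψ ^ m = 1 := by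
  by_contra hne
  push Not at hne
  have hinj : Function.Injective (fun n : ℕ => ψ ^ n) := by
    intro a b hab
    by_contra hne'
    wlog hlt : a < b generalizing a b
    · exact this hab.symm (Ne.symm hne') (lt_of_le_of_ne (not_lt.1 hlt) (Ne.symm hne'))
    have h1 : ψ ^ a * ψ ^ (b - a) = ψ ^ a * 1 := by
      rw [← pow_add, Nat.add_sub_cancel' hlt.le, mul_one]
      exact hab.symm
    have hu : IsUnit (ψ ^ a) := hψ.isUnit.pow a
    exact hne (b - a) (Nat.sub_pos_of_lt hlt) (hu.mul_left_cancel h1)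
  have hli : LinearIndependent k (fun n : ℕ => ψ ^ n) := by
    have h0 := linearIndepOn_isGroupLikeElem (R := k) (A := A)
    exact LinearIndependent.comp h0
      (fun n : ℕ => (⟨ψ ^ n, hψ.pow⟩ : {a : A | IsGroupLikeElem k a}))
      (fun a b hab => hinj (congrArg Subtype.val hab))
  rw [linearIndependent_iff'] at hli
  have h2 : ∑ n ∈ p.support, p.coeff n • ψ ^ n = 0 := by
    rw [← h, Polynomial.aeval_def, Polynomial.eval₂_eq_sum, Polynomial.sum_def]
    apply Finset.sum_congr rfl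
    intro n _
    rw [Algebra.smul_def]
  have h3 := hli p.support p.coeff h2
  apply hp
  ext n
  by_cases hn : n ∈ p.support
  · rw [h3 n hn, Polynomial.coeff_zero]
  · rw [Polynomial.notMem_support_iff.1 hn, Polynomial.coeff_zero]

/-- If every unit is a scalar multiple of a group-like element (and `2 ^ m ≠ 1`), then group-like elements of finite
order are trivial. -/
theorem eq_one_of_pow_eq_one [CharZero k]
    (h : ∀ u : Aˣ, ∃ (c : k) (χ : A), IsGroupLikeElem k χ ∧ (u : A) = c • χ)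
    {ψ : A} (hψ : IsGroupLikeElem k ψ) {m : ℕ} (hm : 0 < m) (hpow : ψ ^ m = 1) : ψ = 1 := by
  -- `2ψ - 1` is a unit
  have h2m : ((2 : k) ^ m - 1) ≠ 0 := by
    have : ((2 ^ m - 1 : ℕ) : k) ≠ 0 := by
      rw [Nat.cast_ne_zero]
      have : 1 < 2 ^ m := Nat.one_lt_two_pow hm.ne'
      omega
    rwa [Nat.cast_sub Nat.one_le_two_pow, Nat.cast_pow, Nat.cast_ofNat, Nat.cast_one] at this
  have hgeom := mul_geom_sum ((2 : k) • ψ) m
  rw [smul_pow, hpow] at hgeom
  have hu : IsUnit ((2 : k) • ψ - 1) := by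
    refine IsUnit.of_mul_eq_one (((2 : k) ^ m - 1)⁻¹ • ∑ i ∈ Finset.range m, ((2 : k) • ψ) ^ i) ?_
    have h5 : (2 : k) ^ m • (1 : A) - 1 = ((2 : k) ^ m - 1) • (1 : A) := by rw [sub_smul, one_smul]
    rw [mul_smul_comm, hgeom, h5, smul_smul, inv_mul_cancel₀ h2m, one_smul]
  obtain ⟨c, χ, hχ, hcχ⟩ := h hu.unit
  rw [IsUnit.unit_spec] at hcχ
  have hc : c = 1 := by
    have := congrArg (CoalgebraStruct.counit (R := k)) hcχ
    rw [map_sub, map_smul, map_smul, hψ.counit_eq_one, hχ.counit_eq_one, Bialgebra.counit_one] at this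
    simp only [smul_eq_mul, mul_one] at this
    rw [← this]; norm_num
  rw [hc, one_smul] at hcχ
  -- `χ = 2ψ - 1` group-like forces `(ψ - 1) ⊗ (ψ - 1) = 0`
  have hΔ := hχ.comul_eq_tmul_self
  rw [← hcχ, map_sub, map_smul, hψ.comul_eq_tmul_self, Bialgebra.comul_one,
    Algebra.TensorProduct.one_def] at hΔ
  have h0 : (ψ - 1) ⊗ₜ[k] (ψ - 1) = (0 : A ⊗[k] A) := by
    have h1 : (2 : k) • ((ψ - 1) ⊗ₜ[k] (ψ - 1) : A ⊗[k] A) = 0 := by
      have : ((2 : k) • ψ - 1) ⊗ₜ[k] ((2 : k) • ψ - 1) -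
          ((2 : k) • (ψ ⊗ₜ[k] ψ : A ⊗[k] A) - (1 : A) ⊗ₜ[k] (1 : A)) =
          (2 : k) • ((ψ - 1) ⊗ₜ[k] (ψ - 1) : A ⊗[k] A) := by
        simp only [TensorProduct.sub_tmul, TensorProduct.tmul_sub, ← TensorProduct.smul_tmul',
          TensorProduct.tmul_smul, smul_sub, smul_smul]
        module
      rw [← this, ← hΔ, sub_self]
    exact (smul_eq_zero.1 h1).resolve_left two_ne_zero
  by_contra hne
  have hne' : ψ - 1 ≠ 0 := sub_ne_zero.2 hne
  obtain ⟨f, hf⟩ := Module.Projective.exists_dual_ne_zero k hne'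
  have h6 := congrArg (contr A f) h0
  rw [contr_tmul, map_zero] at h6
  exact hne' ((smul_eq_zero.1 h6).resolve_left hf)

end GrpLike


section Ros
variable {k : Type u} [Field k] [IsAlgClosed k] {A : Type v} [CommRing A] [Algebra k A]
  {R : Type w} [CommRing R] [Algebra k R]

/-- Rosenlicht: along an irreducible closed subset of `Spec R`, the restrictions of a unit of `R ⊗ A` to two points
agree up to a constant on each irreducible closed subset of `Spec A`. -/
theorem exists_smul_sub_mem (θ : (R ⊗[k] A)ˣ) (𝔭 : Ideal R) [𝔭.IsPrime] (𝔮 : Ideal A) [𝔮.IsPrime]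
    (x x' : R →ₐ[k] k) (hx : 𝔭 ≤ RingHom.ker x) (hx' : 𝔭 ≤ RingHom.ker x') :
    ∃ c : k, evL x (θ : R ⊗[k] A) - c • evL x' (θ : R ⊗[k] A) ∈ 𝔮 := by
  let π : R ⊗[k] A →ₐ[k] (A ⧸ 𝔮) ⊗[k] (R ⧸ 𝔭) :=
    (Algebra.TensorProduct.map (Ideal.Quotient.mkₐ k 𝔮) (Ideal.Quotient.mkₐ k 𝔭)).comp
      (Algebra.TensorProduct.comm k R A).toAlgHom
  let w : ((A ⧸ 𝔮) ⊗[k] (R ⧸ 𝔭))ˣ := Units.map (π : R ⊗[k] A →* (A ⧸ 𝔮) ⊗[k] (R ⧸ 𝔭)) θ
  have key : ∀ (z : R →ₐ[k] k) (hz : 𝔭 ≤ RingHom.ker z) (t : R ⊗[k] A),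
      Groth.Agent.Lib.Rosenlicht38.evR (A ⧸ 𝔮)
        (Ideal.Quotient.liftₐ 𝔭 z (fun a ha => RingHom.mem_ker.1 (hz ha))) (π t) =
        Ideal.Quotient.mk 𝔮 (evL z t) := by
    intro z hz t
    induction t using TensorProduct.induction_on with
    | zero => simp
    | add a b ha hb => simp only [map_add, ha, hb]
    | tmul r a =>
      simp only [π, AlgHom.comp_apply, evL_tmul]
      rw [Algebra.smul_def, map_mul, mul_comm]
      rfl
  obtain ⟨c, -, hc⟩ := Groth.Agent.Lib.Rosenlicht38.exists_smul_eq w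
    (Ideal.Quotient.liftₐ 𝔭 x (fun a ha => RingHom.mem_ker.1 (hx ha)))
    (Ideal.Quotient.liftₐ 𝔭 x' (fun a ha => RingHom.mem_ker.1 (hx' ha)))
  refine ⟨c, ?_⟩
  have hw : (w : (A ⧸ 𝔮) ⊗[k] (R ⧸ 𝔭)) = π (θ : R ⊗[k] A) := rfl
  rw [hw, key x hx, key x' hx'] at hc
  rw [← Ideal.Quotient.eq_zero_iff_mem, map_sub, hc, sub_eq_zero]
  rw [Algebra.smul_def, Algebra.smul_def, map_mul]
  rfl

end Ros


section Conn
variable {k : Type u} [Field k] [IsAlgClosed k] {R : Type w} [CommRing R] [Algebra k R]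
  [Algebra.FiniteType k R]

/-- A function on rational points which is constant along irreducible closed subsets is constant when the spectrum is
connected. -/
theorem forall_eq_of_connected [ConnectedSpace (PrimeSpectrum R)] {X : Type*} (F : (R →ₐ[k] k) → X)
    (hF : ∀ (𝔭 : Ideal R) (_ : 𝔭.IsPrime) (x x' : R →ₐ[k] k), 𝔭 ≤ RingHom.ker x → 𝔭 ≤ RingHom.ker x' →
      F x = F x') (x₀ x : R →ₐ[k] k) : F x = F x₀ := by
  have hN : IsNoetherianRing R := Algebra.FiniteType.isNoetherianRing k R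
  have hfin : (minimalPrimes R).Finite := minimalPrimes.finite_of_isNoetherianRing R
  let S : Set (Ideal R) := {𝔭 | 𝔭 ∈ minimalPrimes R ∧ ∀ z : R →ₐ[k] k, 𝔭 ≤ RingHom.ker z → F z = F x₀}
  let T : Set (Ideal R) := {𝔭 | 𝔭 ∈ minimalPrimes R ∧ 𝔭 ∉ S}
  have hSfin : S.Finite := hfin.subset (fun 𝔭 h => h.1)
  have hTfin : T.Finite := hfin.subset (fun 𝔭 h => h.1)
  let Z₁ : Set (PrimeSpectrum R) := ⋃ 𝔭 ∈ S, PrimeSpectrum.zeroLocus (𝔭 : Set R)
  let Z₂ : Set (PrimeSpectrum R) := ⋃ 𝔭 ∈ T, PrimeSpectrum.zeroLocus (𝔭 : Set R)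
  have hZ₁ : IsClosed Z₁ := hSfin.isClosed_biUnion (fun 𝔭 _ => PrimeSpectrum.isClosed_zeroLocus _)
  have hZ₂ : IsClosed Z₂ := hTfin.isClosed_biUnion (fun 𝔭 _ => PrimeSpectrum.isClosed_zeroLocus _)
  have hcover : ∀ P : PrimeSpectrum R, P ∈ Z₁ ∨ P ∈ Z₂ := by
    intro P
    obtain ⟨𝔭, h𝔭, hle⟩ := Ideal.exists_minimalPrimes_le (I := (⊥ : Ideal R)) (J := P.asIdeal) bot_le
    by_cases h : 𝔭 ∈ S
    · left
      exact Set.mem_biUnion h (by rwa [PrimeSpectrum.mem_zeroLocus, SetLike.coe_subset_coe])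
    · right
      exact Set.mem_biUnion (show 𝔭 ∈ T from ⟨h𝔭, h⟩)
        (by rwa [PrimeSpectrum.mem_zeroLocus, SetLike.coe_subset_coe])
  have hdisj : ∀ P : PrimeSpectrum R, P ∈ Z₁ → P ∉ Z₂ := by
    intro P h1 h2
    obtain ⟨𝔭₁, h𝔭₁, hP₁⟩ := Set.mem_iUnion₂.1 h1
    obtain ⟨𝔭₂, h𝔭₂, hP₂⟩ := Set.mem_iUnion₂.1 h2
    rw [PrimeSpectrum.mem_zeroLocus, SetLike.coe_subset_coe] at hP₁ hP₂
    obtain ⟨z, hz⟩ := Groth.Agent.Lib.GITQuot38.exists_algHom_ker_ge (k := k) P.asIdeal P.2.ne_top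
    apply h𝔭₂.2
    refine ⟨h𝔭₂.1, fun z' hz' => ?_⟩
    rw [hF 𝔭₂ h𝔭₂.1.1.1 z' z hz' (hP₂.trans hz)]
    exact h𝔭₁.2 z (hP₁.trans hz)
  have hclopen : IsClopen Z₁ := by
    refine ⟨hZ₁, ?_⟩
    have : Z₁ = Z₂ᶜ := by
      ext P
      constructor
      · exact hdisj P
      · intro hP
        exact (hcover P).resolve_right hP
    rw [this]
    exact hZ₂.isOpen_compl
  have hmem : ∀ z : R →ₐ[k] k, (⟨RingHom.ker z, RingHom.ker_isPrime _⟩ : PrimeSpectrum R) ∈ Z₁ →
      F z = F x₀ := by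
    intro z hz
    obtain ⟨𝔭, h𝔭, hP⟩ := Set.mem_iUnion₂.1 hz
    rw [PrimeSpectrum.mem_zeroLocus, SetLike.coe_subset_coe] at hP
    exact h𝔭.2 z hP
  have hx₀ : (⟨RingHom.ker x₀, RingHom.ker_isPrime _⟩ : PrimeSpectrum R) ∈ Z₁ := by
    have : (RingHom.ker x₀).IsPrime := RingHom.ker_isPrime _
    obtain ⟨𝔭, h𝔭, hle⟩ := Ideal.exists_minimalPrimes_le (I := (⊥ : Ideal R)) (J := RingHom.ker x₀) bot_le
    refine Set.mem_biUnion (show 𝔭 ∈ S from ⟨h𝔭, fun z hz => hF 𝔭 h𝔭.1.1 z x₀ hz hle⟩) ?_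
    rwa [PrimeSpectrum.mem_zeroLocus, SetLike.coe_subset_coe]
  rcases isClopen_iff.1 hclopen with h | h
  · rw [h] at hx₀
    exact absurd hx₀ (Set.notMem_empty _)
  · apply hmem
    rw [h]
    trivial

end Conn


section Case1
variable {k : Type u} [Field k] [IsAlgClosed k] [CharZero k]
  {A : Type v} [CommRing A] [HopfAlgebra k A] [Algebra.FiniteType k A]
  {R : Type w} [CommRing R] [Algebra k R]

/-- Under the hypothesis that all units of `A` are scalar multiples of characters: a family of characters parametrized by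
`Spec R` (given by a unit of `R ⊗ A`) is constant along irreducible closed subsets. -/
theorem evL_eq_of_prime
    (h : ∀ u : Aˣ, ∃ (c : k) (χ : A), IsGroupLikeElem k χ ∧ (u : A) = c • χ)
    (θ : (R ⊗[k] A)ˣ) (hθ : ∀ x : R →ₐ[k] k, IsGroupLikeElem k (evL x (θ : R ⊗[k] A)))
    (𝔭 : Ideal R) (h𝔭 : 𝔭.IsPrime) (x x' : R →ₐ[k] k) (hx : 𝔭 ≤ RingHom.ker x) (hx' : 𝔭 ≤ RingHom.ker x') :
    evL x (θ : R ⊗[k] A) = evL x' (θ : R ⊗[k] A) := by
  have hred : IsReduced A := Groth.Agent.Lib.Cartier38.isReduced_of_charZero k A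
  have hN : IsNoetherianRing A := Algebra.FiniteType.isNoetherianRing k A
  have hfin : (minimalPrimes A).Finite := minimalPrimes.finite_of_isNoetherianRing A
  set a := evL x (θ : R ⊗[k] A) with ha
  set b := evL x' (θ : R ⊗[k] A) with hb
  have hga : IsGroupLikeElem k a := hθ x
  have hgb : IsGroupLikeElem k b := hθ x'
  set ψ := a * HopfAlgebra.antipode k b with hψdef
  have hψ : IsGroupLikeElem k ψ := hga.mul hgb.antipode
  have hc : ∀ 𝔮 : minimalPrimes A, ∃ c : k, ψ - algebraMap k A c ∈ 𝔮.1 := by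
    intro 𝔮
    have : 𝔮.1.IsPrime := 𝔮.2.1.1
    obtain ⟨c, hc⟩ := exists_smul_sub_mem θ 𝔭 𝔮.1 x x' hx hx'
    refine ⟨c, ?_⟩
    have h1 := 𝔮.1.mul_mem_right (HopfAlgebra.antipode k b) hc
    rw [← ha, ← hb, sub_mul, smul_mul_assoc, hgb.mul_antipode_cancel, ← Algebra.algebraMap_eq_smul_one] at h1
    exact h1
  choose c hc using hc
  let _ : Fintype (minimalPrimes A) := hfin.fintype
  let p : Polynomial k := ∏ 𝔮 : minimalPrimes A, (Polynomial.X - Polynomial.C (c 𝔮))
  have hp : p ≠ 0 := (Polynomial.monic_prod_of_monic _ _ (fun i _ => Polynomial.monic_X_sub_C _)).ne_zero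
  have hpψ : Polynomial.aeval ψ p = 0 := by
    have h1 : Polynomial.aeval ψ p ∈ nilradical A := by
      rw [nilradical, ← Ideal.sInf_minimalPrimes, Ideal.mem_sInf]
      intro 𝔮 h𝔮
      have h2 : Polynomial.aeval ψ p = ∏ 𝔮 : minimalPrimes A, (ψ - algebraMap k A (c 𝔮)) := by
        simp only [p, map_prod, map_sub, Polynomial.aeval_X, Polynomial.aeval_C]
      rw [h2]
      exact Ideal.mem_of_dvd _ (Finset.dvd_prod_of_mem _ (Finset.mem_univ (⟨𝔮, h𝔮⟩ : minimalPrimes A)))
        (hc ⟨𝔮, h𝔮⟩)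
    rw [nilradical_eq_zero] at h1
    exact h1
  obtain ⟨m, hm, hpow⟩ := exists_pow_eq_one_of_aeval_eq_zero hψ hp hpψ
  have hψ1 : ψ = 1 := eq_one_of_pow_eq_one h hψ hm hpow
  calc a = a * (HopfAlgebra.antipode k b * b) := by rw [hgb.antipode_mul_cancel, mul_one]
    _ = ψ * b := by rw [hψdef, mul_assoc]
    _ = b := by rw [hψ1, one_mul]

end Case1


section Main
variable {k : Type u} [Field k] {A : Type v} [CommRing A] [HopfAlgebra k A]
  {R : Type w} [CommRing R] [Algebra k R] [HopfRep.Comod k A R] [GLin.IsCoactAlg k A R]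

theorem counit_evL_of_cocycle (θ : R ⊗[k] A)
    (hcounit : (CoalgebraStruct.counit (R := k) (A := A)).lTensor R ∘ₗ tw θ = (TensorProduct.mk k R k).flip 1)
    (x : R →ₐ[k] k) : CoalgebraStruct.counit (R := k) (evL x θ) = 1 := by
  have h2 := LinearMap.congr_fun hcounit 1
  simp only [LinearMap.comp_apply, tw_one] at h2
  rw [counit_evL, h2]
  simp

/-- A cocycle of the form `1 ⊗ χ` comes from a character. -/
theorem isGroupLikeElem_of_cocycle_one_tmul (χ : A)
    (hassoc : (TensorProduct.assoc k R A A).toLinearMap ∘ₗ (tw ((1 : R) ⊗ₜ[k] χ)).rTensor A ∘ₗ tw ((1 : R) ⊗ₜ[k] χ) =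
      (CoalgebraStruct.comul (R := k) (A := A)).lTensor R ∘ₗ tw ((1 : R) ⊗ₜ[k] χ))
    (hcounit : (CoalgebraStruct.counit (R := k) (A := A)).lTensor R ∘ₗ tw ((1 : R) ⊗ₜ[k] χ) =
      (TensorProduct.mk k R k).flip 1)
    (x₀ : R →ₐ[k] k) : IsGroupLikeElem k χ := by
  refine ⟨?_, ?_⟩
  · have := counit_evL_of_cocycle _ hcounit x₀
    rwa [evL_one_tmul] at this
  · have h1 := LinearMap.congr_fun hassoc 1
    simp only [LinearMap.comp_apply, tw_one, LinearEquiv.coe_coe] at h1
    rw [rTensor_tw, Algebra.TensorProduct.map_tmul, map_one, AlgHom.id_apply,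
      Algebra.TensorProduct.tmul_mul_tmul, one_mul, mul_one, LinearMap.lTensor_tmul,
      TensorProduct.assoc_tmul] at h1
    have h2 := congrArg (evL (A := A ⊗[k] A) x₀) h1
    rw [evL_one_tmul, evL_one_tmul] at h2
    exact h2.symm

variable [IsAlgClosed k] [CharZero k] [Algebra.FiniteType k A] [IsReduced R] [Algebra.FiniteType k R]
  [ConnectedSpace (PrimeSpectrum R)]

/-- **Linearizations of the trivial bundle are characters.** -/
theorem exists_groupLike_eq_one_tmul (θ : R ⊗[k] A)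
    (hassoc : (TensorProduct.assoc k R A A).toLinearMap ∘ₗ (tw θ).rTensor A ∘ₗ tw θ =
      (CoalgebraStruct.comul (R := k) (A := A)).lTensor R ∘ₗ tw θ)
    (hcounit : (CoalgebraStruct.counit (R := k) (A := A)).lTensor R ∘ₗ tw θ = (TensorProduct.mk k R k).flip 1)
    (h : (∀ u : Aˣ, ∃ (c : k) (χ : A), IsGroupLikeElem k χ ∧ (u : A) = c • χ) ∨
      (∀ u : Rˣ, (u : R) ∈ Set.range (algebraMap k R))) :
    ∃ χ : A, IsGroupLikeElem k χ ∧ θ = (1 : R) ⊗ₜ[k] χ := by
  have hu : IsUnit θ := isUnit_of_cocycle θ hassoc hcounit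
  have hnt : Nontrivial R := by
    obtain ⟨P⟩ := (inferInstance : Nonempty (PrimeSpectrum R))
    exact ⟨⟨0, 1, fun h01 => P.2.ne_top ((Ideal.eq_top_iff_one _).2 (h01 ▸ P.asIdeal.zero_mem))⟩⟩
  obtain ⟨x₀, -⟩ := Groth.Agent.Lib.GITQuot38.exists_algHom_ker_ge (k := k) (⊥ : Ideal R) bot_ne_top
  have hred : IsReduced A := Groth.Agent.Lib.Cartier38.isReduced_of_charZero k A
  have key : θ = (1 : R) ⊗ₜ[k] evL x₀ θ := by
    rw [← sub_eq_zero]
    rcases h with h | h
    · -- all units of `A` are multiples of characters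
      apply eq_zero_of_forall_evL
      intro x
      rw [map_sub, evL_one_tmul, sub_eq_zero]
      have hgl : ∀ z : R →ₐ[k] k, IsGroupLikeElem k (evL z ((hu.unit : (R ⊗[k] A)ˣ) : R ⊗[k] A)) := by
        intro z
        rw [IsUnit.unit_spec]
        obtain ⟨c, χ, hχ, hcχ⟩ := h ((hu.map (evL z)).unit)
        rw [IsUnit.unit_spec] at hcχ
        have hε := counit_evL_of_cocycle θ hcounit z
        rw [hcχ, map_smul, hχ.counit_eq_one, smul_eq_mul, mul_one] at hε
        rw [hcχ, hε, one_smul]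
        exact hχ
      have := forall_eq_of_connected (k := k) (R := R)
        (fun z => evL z ((hu.unit : (R ⊗[k] A)ˣ) : R ⊗[k] A))
        (fun 𝔭 h𝔭 z z' hz hz' => evL_eq_of_prime h hu.unit hgl 𝔭 h𝔭 z z' hz hz') x₀ x
      simpa only [IsUnit.unit_spec] using this
    · -- all units of `R` are scalars
      apply eq_zero_of_forall_apply_evL
      intro x g
      rw [map_sub, evL_one_tmul, map_sub, apply_evL, apply_evL, sub_eq_zero]
      obtain ⟨c, hc⟩ := h ((hu.map (evRk (R := R) g)).unit)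
      rw [IsUnit.unit_spec] at hc
      rw [← hc, AlgHom.commutes, AlgHom.commutes]
  refine ⟨evL x₀ θ, ?_, key⟩
  rw [key] at hassoc hcounit
  exact isGroupLikeElem_of_cocycle_one_tmul _ hassoc hcounit x₀

end Main

end Groth.Agent.Lib.LinTriv38
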