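import Groth.Agent.Lib.FiniteOrbit38
import Groth.Agent.Lib.LinTriv38
import Mathlib.RingTheory.Localization.BaseChange
import Mathlib.LinearAlgebra.Dual.Lemmas

/-!
# Characters trivial on stabilisers of closed orbits (helper38)

* `twComod ψ`: the comodule structure twisted by a group-like element `ψ` (`v ↦ Σ v₀ ⊗ v₁ψ`); its fixed vectors are the
  semi-invariants of weight `ψ⁻¹`.
* `mem_range_orbitHom_of_sub_one_mem_stabIdeal`: for a closed orbit and a character `χ` with `χ - 1` in the stabiliser ideal,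
  `χ` is (the pull back of) a regular function on the orbit.  Proof: `S(χ) ⊗_B χ = 1` in `A ⊗_B A` (`B = O(G·x) ⊆ A`), descent
  over `Frac B`, and a `G`-stable conductor ideal.
* `exists_semiInvariant`: then there is a semi-invariant `f` of weight `χ` with `f(x) ≠ 0` (linearly reductive `G`).
-/

set_option autoImplicit false
set_option linter.unusedSectionVars false
universe u v w
open TensorProduct

noncomputable section

namespace Groth.Agent.Lib.CharStab38
open Groth.Agent.Lib.Comod

section Twist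
variable {k : Type u} [Field k] {A : Type v} [CommRing A] [Bialgebra k A]

theorem mul_tmul_self_eq_map (ψ : A) (u : A ⊗[k] A) :
    u * (ψ ⊗ₜ[k] ψ) = TensorProduct.map (LinearMap.mulRight k ψ) (LinearMap.mulRight k ψ) u := by
  induction u using TensorProduct.induction_on with
  | zero => simp
  | add x y hx hy => rw [add_mul, hx, hy, map_add]
  | tmul a b => simp [Algebra.TensorProduct.tmul_mul_tmul]

variable {V : Type w} [AddCommGroup V] [Module k V]

/-- The coaction twisted by a group-like element: `v ↦ Σ v₀ ⊗ v₁ψ`. -/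
@[instance_reducible]
def twComod (c : HopfRep.Comod k A V) (ψ : A) (hψ : IsGroupLikeElem k ψ) : HopfRep.Comod k A V where
  coact := (LinearMap.mulRight k ψ).lTensor V ∘ₗ c.coact
  coassoc := by
    apply LinearMap.ext
    intro v
    have hco := LinearMap.congr_fun c.coassoc v
    simp only [LinearMap.coe_comp, LinearEquiv.coe_coe, Function.comp_apply] at hco ⊢
    have h1 : ∀ (s : V ⊗[k] A) (a : A),
        (TensorProduct.assoc k V A A) (((LinearMap.mulRight k ψ).lTensor V s) ⊗ₜ[k] (a * ψ)) =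
        (TensorProduct.map (LinearMap.mulRight k ψ) (LinearMap.mulRight k ψ)).lTensor V
          ((TensorProduct.assoc k V A A) (s ⊗ₜ[k] a)) := by
      intro s a
      induction s using TensorProduct.induction_on with
      | zero => simp
      | add x y hx hy => simp only [map_add, TensorProduct.add_tmul, hx, hy]
      | tmul w b => simp
    have h2 : ∀ t : V ⊗[k] A,
        (TensorProduct.assoc k V A A)
          ((((LinearMap.mulRight k ψ).lTensor V ∘ₗ c.coact).rTensor A) ((LinearMap.mulRight k ψ).lTensor V t)) =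
        (TensorProduct.map (LinearMap.mulRight k ψ) (LinearMap.mulRight k ψ)).lTensor V
          ((TensorProduct.assoc k V A A) (c.coact.rTensor A t)) := by
      intro t
      induction t using TensorProduct.induction_on with
      | zero => simp
      | add x y hx hy => simp only [map_add, hx, hy]
      | tmul w b =>
        simp only [LinearMap.lTensor_tmul, LinearMap.rTensor_tmul, LinearMap.coe_comp, Function.comp_apply,
          LinearMap.mulRight_apply]
        exact h1 (c.coact w) b
    have h3 : ∀ t : V ⊗[k] A,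
        (CoalgebraStruct.comul (R := k) (A := A)).lTensor V ((LinearMap.mulRight k ψ).lTensor V t) =
        (TensorProduct.map (LinearMap.mulRight k ψ) (LinearMap.mulRight k ψ)).lTensor V
          ((CoalgebraStruct.comul (R := k) (A := A)).lTensor V t) := by
      intro t
      induction t using TensorProduct.induction_on with
      | zero => simp
      | add x y hx hy => simp only [map_add, hx, hy]
      | tmul w b =>
        simp only [LinearMap.lTensor_tmul, LinearMap.mulRight_apply, Bialgebra.comul_mul,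
          hψ.comul_eq_tmul_self, mul_tmul_self_eq_map]
    rw [h2, h3, hco]
  counit_comp := by
    apply LinearMap.ext
    intro v
    have hco := LinearMap.congr_fun c.counit_comp v
    simp only [LinearMap.coe_comp, Function.comp_apply] at hco ⊢
    have h3 : ∀ t : V ⊗[k] A,
        (CoalgebraStruct.counit (R := k) (A := A)).lTensor V ((LinearMap.mulRight k ψ).lTensor V t) =
        (CoalgebraStruct.counit (R := k) (A := A)).lTensor V t := by
      intro t
      induction t using TensorProduct.induction_on with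
      | zero => simp
      | add x y hx hy => simp only [map_add, hx, hy]
      | tmul w b =>
        simp only [LinearMap.lTensor_tmul, LinearMap.mulRight_apply, Bialgebra.counit_mul,
          hψ.counit_eq_one, mul_one]
    rw [h3, hco]

theorem twComod_coact (c : HopfRep.Comod k A V) (ψ : A) (hψ : IsGroupLikeElem k ψ) (v : V) :
    (twComod c ψ hψ).coact v = (LinearMap.mulRight k ψ).lTensor V (c.coact v) := rfl

/-- Comodule maps stay comodule maps after twisting. -/
theorem isComodHom_twComod {W : Type w} [AddCommGroup W] [Module k W]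
    (c : HopfRep.Comod k A V) (d : HopfRep.Comod k A W) (ψ : A) (hψ : IsGroupLikeElem k ψ)
    {f : V →ₗ[k] W} (hf : @Hoch.IsComodHom k _ A _ _ _ V _ _ c W _ _ d f) :
    @Hoch.IsComodHom k _ A _ _ _ V _ _ (twComod c ψ hψ) W _ _ (twComod d ψ hψ) f := by
  apply LinearMap.ext
  intro v
  have h := LinearMap.congr_fun hf v
  simp only [LinearMap.coe_comp, Function.comp_apply] at h
  show (LinearMap.mulRight k ψ).lTensor W (d.coact (f v)) =
    f.rTensor A ((LinearMap.mulRight k ψ).lTensor V (c.coact v))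
  rw [h]
  generalize c.coact v = t
  induction t using TensorProduct.induction_on with
  | zero => simp
  | add x y hx hy => simp only [map_add, hx, hy]
  | tmul w b => simp

/-- Fixed vectors of the twist by `ψ`, for `ψ φ = 1`, are the semi-invariants of weight `φ`. -/
theorem coact_eq_of_mem_fixedPts_twComod (c : HopfRep.Comod k A V) (ψ φ : A) (hψ : IsGroupLikeElem k ψ)
    (hφψ : ψ * φ = 1) {v : V}
    (hv : v ∈ @HopfRep.fixedPts k A _ _ _ V _ _ (twComod c ψ hψ)) :
    c.coact v = v ⊗ₜ[k] φ := by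
  have h1 : (LinearMap.mulRight k ψ).lTensor V (c.coact v) = v ⊗ₜ[k] (1 : A) := hv
  have h2 := congrArg ((LinearMap.mulRight k φ).lTensor V) h1
  rw [LinearMap.lTensor_tmul, LinearMap.mulRight_apply, one_mul] at h2
  rw [← h2]
  generalize c.coact v = t
  induction t using TensorProduct.induction_on with
  | zero => simp
  | add x y hx hy => simp only [map_add] at hx hy ⊢; rw [← hx, ← hy]
  | tmul w b => simp [mul_assoc, hφψ]

theorem mem_fixedPts_twComod (c : HopfRep.Comod k A V) (ψ φ : A) (hψ : IsGroupLikeElem k ψ)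
    (hφψ : φ * ψ = 1) {v : V} (hv : c.coact v = v ⊗ₜ[k] φ) :
    v ∈ @HopfRep.fixedPts k A _ _ _ V _ _ (twComod c ψ hψ) := by
  show (LinearMap.mulRight k ψ).lTensor V (c.coact v) = v ⊗ₜ[k] (1 : A)
  rw [hv, LinearMap.lTensor_tmul, LinearMap.mulRight_apply, hφψ]

end Twist

section Range
variable {k : Type u} [Field k] {A : Type v} [CommRing A] [HopfAlgebra k A]
  {R : Type w} [CommRing R] [Algebra k R] [HopfRep.Comod k A R] [GLin.IsCoactAlg k A R]

open Groth.Agent.Lib.Cartier38 Groth.Agent.Lib.GLinGrading38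

/-- Right translations preserve the coordinate ring of an orbit. -/
theorem sliceAlgHom_orbitHom (x : R →ₐ[k] k) (g : A →ₐ[k] k) (r : R) :
    sliceAlgHom g (GLin.orbitHom k A x r) = GLin.orbitHom k A x (act R g.toLinearMap r) := by
  have h := IsComodHom.act_comm (isComodHom_orbitHom (A := A) x) g.toLinearMap r
  exact h

theorem sliceAlgHom_mem_range (x : R →ₐ[k] k) (g : A →ₐ[k] k) {a : A}
    (ha : a ∈ (GLin.orbitHom k A x).range) : sliceAlgHom g a ∈ (GLin.orbitHom k A x).range := by
  obtain ⟨r, rfl⟩ := ha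
  exact ⟨_, (sliceAlgHom_orbitHom x g r).symm⟩

theorem sliceAlgHom_groupLike (g : A →ₐ[k] k) {χ : A} (hχ : IsGroupLikeElem k χ) :
    sliceAlgHom g χ = g χ • χ := by
  rw [sliceAlgHom_apply, slice, LinearMap.comp_apply, hχ.comul_eq_tmul_self, contr_tmul]
  rfl

theorem apply_groupLike_ne_zero (g : A →ₐ[k] k) {χ : A} (hχ : IsGroupLikeElem k χ) : g χ ≠ 0 := by
  intro h
  have := congrArg g hχ.mul_antipode_cancel
  rw [map_mul, h, zero_mul, map_one] at this
  exact zero_ne_one this

theorem apply_sliceAlgHom (h g : A →ₐ[k] k) (a : A) :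
    h (sliceAlgHom g a) = (WithConv.toConv h * WithConv.toConv g).ofConv a := by
  rw [AlgHom.convMul_apply, sliceAlgHom_apply, slice, LinearMap.comp_apply]
  generalize CoalgebraStruct.comul (R := k) a = t
  induction t using TensorProduct.induction_on with
  | zero => simp
  | add x y hx hy => simp only [map_add, hx, hy]
  | tmul a b => simp [mul_comm]

end Range

section Theta
variable {k : Type u} [Field k] {A : Type v} [CommRing A] [HopfAlgebra k A]
  {R : Type w} [CommRing R] [Algebra k R] [HopfRep.Comod k A R] [GLin.IsCoactAlg k A R]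

open Groth.Agent.Lib.GLinGrading38

variable (B : Subalgebra k A)

/-- left inclusion `A → A ⊗_B A` as a `k`-algebra map -/
def incL : A →ₐ[k] A ⊗[B] A :=
  (Algebra.TensorProduct.includeLeft : A →ₐ[B] A ⊗[B] A).restrictScalars k

/-- right inclusion `A → A ⊗_B A` as a `k`-algebra map -/
def incR : A →ₐ[k] A ⊗[B] A :=
  (Algebra.TensorProduct.includeRight : A →ₐ[B] A ⊗[B] A).restrictScalars k

theorem incL_apply (a : A) : incL B a = a ⊗ₜ[B] (1 : A) := rfl
theorem incR_apply (a : A) : incR B a = (1 : A) ⊗ₜ[B] a := rfl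

/-- `c₁ ⊗ c₂ ↦ S(c₂) ⊗_B c₁` -/
def swapS : A ⊗[k] A →ₐ[k] A ⊗[B] A :=
  Algebra.TensorProduct.productMap (incR B) ((incL B).comp (HopfAlgebra.antipodeAlgHom k A))

theorem swapS_tmul (a b : A) : swapS B (a ⊗ₜ[k] b) = (HopfAlgebra.antipode k b) ⊗ₜ[B] a := by
  rw [swapS, Algebra.TensorProduct.productMap_apply_tmul, AlgHom.comp_apply, incR_apply, incL_apply,
    Algebra.TensorProduct.tmul_mul_tmul, one_mul, mul_one]
  rfl

/-- `c ↦ Σ S(c₂) ⊗_B c₁` -/
def theta2 : A →ₐ[k] A ⊗[B] A := (swapS B).comp (Bialgebra.comulAlgHom k A)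

theorem theta2_groupLike {χ : A} (hχ : IsGroupLikeElem k χ) :
    theta2 B χ = (HopfAlgebra.antipode k χ) ⊗ₜ[B] χ := by
  rw [theta2, AlgHom.comp_apply, Bialgebra.comulAlgHom_apply, hχ.comul_eq_tmul_self, swapS_tmul]

theorem swapS_rTensor (x : R →ₐ[k] k) (t : R ⊗[k] A) :
    swapS (GLin.orbitHom k A x).range ((GLin.orbitHom k A x).toLinearMap.rTensor A t) =
      incL (GLin.orbitHom k A x).range
        (LinearMap.mul' k A ((HopfAlgebra.antipode k).lTensor A
          ((GLin.orbitHom k A x).toLinearMap.rTensor A t))) := by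
  induction t using TensorProduct.induction_on with
  | zero => simp
  | add a b ha hb => simp only [map_add, ha, hb]
  | tmul r a =>
    rw [LinearMap.rTensor_tmul, swapS_tmul, LinearMap.lTensor_tmul, LinearMap.mul'_apply, incL_apply,
      AlgHom.toLinearMap_apply]
    have h1 : GLin.orbitHom k A x r =
        (⟨GLin.orbitHom k A x r, ⟨r, rfl⟩⟩ : (GLin.orbitHom k A x).range) • (1 : A) := by
      rw [Subalgebra.smul_def, smul_eq_mul, mul_one]
    conv_lhs => rw [h1]
    rw [← TensorProduct.smul_tmul, Subalgebra.smul_def, smul_eq_mul]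

theorem theta2_orbitHom (x : R →ₐ[k] k) (r : R) :
    theta2 (GLin.orbitHom k A x).range (GLin.orbitHom k A x r) =
      algebraMap k (A ⊗[(GLin.orbitHom k A x).range] A) (x r) := by
  have hco := LinearMap.congr_fun (isComodHom_orbitHom (A := A) x) r
  simp only [LinearMap.coe_comp, Function.comp_apply, AlgHom.toLinearMap_apply] at hco
  have hco' : CoalgebraStruct.comul (R := k) (GLin.orbitHom k A x r) =
      (GLin.orbitHom k A x).toLinearMap.rTensor A (HopfRep.Comod.coact (k := k) (A := A) r) := hco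
  rw [theta2, AlgHom.comp_apply, Bialgebra.comulAlgHom_apply, hco', swapS_rTensor, ← hco',
    HopfAlgebra.mul_antipode_lTensor_comul_apply, Groth.Agent.Lib.IsMu38.counit_orbitHom (A := A) x r,
    AlgHom.commutes]

theorem theta2_eq_zero_of_mem_stabIdeal (x : R →ₐ[k] k) {a : A} (ha : a ∈ GLin.stabIdeal k A x) :
    theta2 (GLin.orbitHom k A x).range a = 0 := by
  have hle : GLin.stabIdeal k A x ≤ RingHom.ker (theta2 (GLin.orbitHom k A x).range) := by
    rw [GLin.stabIdeal, Ideal.map_le_iff_le_comap]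
    intro r hr
    rw [Ideal.mem_comap, RingHom.mem_ker]
    have := theta2_orbitHom (A := A) x r
    rw [RingHom.mem_ker] at hr
    rw [show x r = 0 from hr, map_zero] at this
    exact this
  exact hle ha

/-- If `χ - 1` lies in the stabiliser ideal then `1 ⊗ χ = χ ⊗ 1` over the coordinate ring of the orbit. -/
theorem one_tmul_eq_tmul_one (x : R →ₐ[k] k) {χ : A} (hχ : IsGroupLikeElem k χ)
    (h : χ - 1 ∈ GLin.stabIdeal k A x) :
    (1 : A) ⊗ₜ[(GLin.orbitHom k A x).range] χ = χ ⊗ₜ[(GLin.orbitHom k A x).range] (1 : A) := by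
  have h1 := theta2_eq_zero_of_mem_stabIdeal x h
  rw [map_sub, map_one, sub_eq_zero, theta2_groupLike _ hχ] at h1
  have h2 := congrArg (fun t => (χ ⊗ₜ[(GLin.orbitHom k A x).range] (1 : A)) * t) h1
  simp only [Algebra.TensorProduct.tmul_mul_tmul, one_mul, mul_one, hχ.mul_antipode_cancel] at h2
  exact h2

end Theta

section FracDesc
variable {B : Type v} {A : Type w} [CommRing B] [IsDomain B] [CommRing A] [IsDomain A] [Algebra B A]

/-- Descent over the fraction field: if `1 ⊗ a = a ⊗ 1` in `A ⊗_B A` (`B ⊆ A` domains) then `a ∈ Frac B`. -/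
theorem exists_mul_eq_of_tmul_comm (hinj : Function.Injective (algebraMap B A)) {a : A}
    (h : (1 : A) ⊗ₜ[B] a = a ⊗ₜ[B] (1 : A)) :
    ∃ b₁ b₂ : B, b₂ ≠ 0 ∧ algebraMap B A b₂ * a = algebraMap B A b₁ := by
  let K := FractionRing B
  let ι : A →ₗ[B] K ⊗[B] A := TensorProduct.mk B K A 1
  have hloc : IsLocalizedModule (nonZeroDivisors B) ι := inferInstance
  have hι : ∀ m : A, ι m = 0 → m = 0 := by
    intro m hm
    obtain ⟨s, hs⟩ := (IsLocalizedModule.eq_zero_iff (nonZeroDivisors B) ι).1 hm
    have hs' : algebraMap B A (s : B) * m = 0 := by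
      rw [← Algebra.smul_def]
      exact hs
    rcases mul_eq_zero.1 hs' with h0 | h0
    · exfalso
      have : (s : B) = 0 := hinj (by rw [h0, map_zero])
      exact nonZeroDivisors.coe_ne_zero s this
    · exact h0
  have h1 : ι 1 ≠ 0 := fun h0 => one_ne_zero (hι 1 h0)
  obtain ⟨ψ, hψ⟩ := Module.Projective.exists_dual_eq_one K h1
  let ϕ : A →ₗ[B] K := (ψ.restrictScalars B) ∘ₗ ι
  have hϕ1 : ϕ 1 = 1 := hψ
  have hT := congrArg (TensorProduct.map ϕ (LinearMap.id : A →ₗ[B] A)) h
  rw [TensorProduct.map_tmul, TensorProduct.map_tmul, hϕ1, LinearMap.id_apply, LinearMap.id_apply] at hT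
  obtain ⟨b₁, b₂, hb₂, hb⟩ := IsFractionRing.div_surjective (A := B) (ϕ a)
  refine ⟨b₁, b₂, nonZeroDivisors.ne_zero hb₂, ?_⟩
  have hb' : b₂ • ϕ a = b₁ • (1 : K) := by
    rw [Algebra.smul_def, Algebra.smul_def, mul_one, ← hb, mul_div_cancel₀]
    exact (map_ne_zero_iff _ (IsFractionRing.injective B K)).2 (nonZeroDivisors.ne_zero hb₂)
  have h2 : b₂ • ((1 : K) ⊗ₜ[B] a) = b₂ • (ϕ a ⊗ₜ[B] (1 : A)) := congrArg (fun t => b₂ • t) hT
  have hL : b₂ • ((1 : K) ⊗ₜ[B] a) = ι (b₂ • a) := by
    rw [map_smul]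
    rfl
  have hR : b₂ • (ϕ a ⊗ₜ[B] (1 : A)) = ι (b₁ • (1 : A)) := by
    rw [TensorProduct.smul_tmul', hb', TensorProduct.smul_tmul]
    rfl
  have h3 : ι (b₂ • a - b₁ • (1 : A)) = 0 := by
    rw [map_sub, sub_eq_zero, ← hL, ← hR]
    exact h2
  have h4 := hι _ h3
  rw [sub_eq_zero, Algebra.smul_def, Algebra.smul_def, mul_one] at h4
  exact h4

end FracDesc

section Conductor
variable {k : Type u} [Field k] [IsAlgClosed k] {A : Type u} [CommRing A] [IsDomain A] [HopfAlgebra k A]
  [Algebra.FiniteType k A]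
  {R : Type u} [CommRing R] [Algebra k R] [Algebra.FiniteType k R] [HopfRep.Comod k A R] [GLin.IsCoactAlg k A R]

open Groth.Agent.Lib.Cartier38 Groth.Agent.Lib.GITOrbit38 Groth.Agent.Lib.GITQuot38

/-- **A character trivial on the stabiliser of a closed orbit is a regular function on the orbit.** -/
theorem mem_range_orbitHom (x : R →ₐ[k] k) (hx : GLin.IsClosedOrbit k A x) {χ : A}
    (hχ : IsGroupLikeElem k χ) (h : χ - 1 ∈ GLin.stabIdeal k A x) :
    χ ∈ (GLin.orbitHom k A x).range := by
  classical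
  set φ := GLin.orbitHom k A x with hφ
  set B := φ.range with hB
  have hinj : Function.Injective (algebraMap B A) := Subtype.val_injective
  obtain ⟨b₁, b₂, hb₂, hb⟩ := exists_mul_eq_of_tmul_comm hinj (one_tmul_eq_tmul_one x hχ h)
  have hb' : (b₂ : A) * χ = (b₁ : A) := hb
  by_contra hχB
  let 𝔠 : Ideal B :=
    { carrier := {b | (b : A) * χ ∈ B}
      add_mem' := by
        intro a b ha hb
        show ((a + b : B) : A) * χ ∈ B
        rw [Subalgebra.coe_add, add_mul]
        exact B.add_mem ha hb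
      zero_mem' := by
        show ((0 : B) : A) * χ ∈ B
        rw [Subalgebra.coe_zero, zero_mul]
        exact B.zero_mem
      smul_mem' := by
        intro c b hb
        show ((c • b : B) : A) * χ ∈ B
        rw [smul_eq_mul, Subalgebra.coe_mul, mul_assoc]
        exact B.mul_mem c.2 hb }
  have h𝔠 : 𝔠 ≠ ⊤ := by
    intro htop
    apply hχB
    have h1 : (1 : B) ∈ 𝔠 := htop ▸ Submodule.mem_top
    have h2 : ((1 : B) : A) * χ ∈ B := h1
    rwa [Subalgebra.coe_one, one_mul] at h2
  have hftB : Algebra.FiniteType k B :=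
    Algebra.FiniteType.of_surjective φ.rangeRestrict φ.rangeRestrict_surjective
  obtain ⟨y, hy⟩ := Groth.Agent.Lib.GITQuot38.exists_algHom_ker_ge (k := k) 𝔠 h𝔠
  obtain ⟨hh, hhy⟩ := exists_actPt_eq_of_isClosedOrbit x (y.comp φ.rangeRestrict) hx (by
    intro r hr
    rw [RingHom.mem_ker] at hr ⊢
    have : φ.rangeRestrict r = 0 := Subtype.ext hr
    rw [AlgHom.comp_apply, this, map_zero])
  have hyB : ∀ b : B, y b = hh (b : A) := by
    rintro ⟨_, r, rfl⟩
    exact DFunLike.congr_fun hhy r
  have hb₂A : (b₂ : A) ≠ 0 := fun h0 => hb₂ (Subtype.ext h0)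
  obtain ⟨h₀, hh₀⟩ : ∃ h₀ : A →ₐ[k] k, h₀ (b₂ : A) ≠ 0 := by
    by_contra hcon
    push Not at hcon
    exact hb₂A (Groth.Agent.Lib.GITPts38.isNilpotent_of_forall_algHom_eq_zero (k := k) _ hcon).eq_zero
  let g : A →ₐ[k] k := ((WithConv.toConv hh)⁻¹ * WithConv.toConv h₀).ofConv
  have hb₃mem : sliceAlgHom g (b₂ : A) ∈ B := sliceAlgHom_mem_range x g b₂.2
  have hb₃𝔠 : (⟨_, hb₃mem⟩ : B) ∈ 𝔠 := by
    show sliceAlgHom g (b₂ : A) * χ ∈ B
    have h1 : sliceAlgHom g (b₂ : A) * χ = (g χ)⁻¹ • sliceAlgHom g (b₁ : A) := by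
      rw [← hb', map_mul, sliceAlgHom_groupLike g hχ, mul_smul_comm, smul_smul,
        inv_mul_cancel₀ (apply_groupLike_ne_zero g hχ), one_smul]
    rw [h1]
    exact B.smul_mem (sliceAlgHom_mem_range x g b₁.2) _
  have h0 : y ⟨_, hb₃mem⟩ = 0 := hy hb₃𝔠
  rw [hyB, apply_sliceAlgHom] at h0
  apply hh₀
  have hg : WithConv.toConv hh * WithConv.toConv g = WithConv.toConv h₀ := by
    show WithConv.toConv hh * ((WithConv.toConv hh)⁻¹ * WithConv.toConv h₀) = WithConv.toConv h₀
    rw [mul_inv_cancel_left]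
  rw [hg] at h0
  exact h0

end Conductor

section Main
variable {k : Type u} [Field k] [IsAlgClosed k] {A : Type u} [CommRing A] [IsDomain A] [HopfAlgebra k A]
  [Algebra.FiniteType k A]
  {R : Type u} [CommRing R] [Algebra k R] [Algebra.FiniteType k R] [cR : HopfRep.Comod k A R]
  [GLin.IsCoactAlg k A R]

open Groth.Agent.Lib.Reynolds38 Groth.Agent.Lib.GLinGrading38

/-- For a closed orbit and a character `χ` trivial on the stabiliser, there is a semi-invariant of weight `χ` not vanishing
at the point. -/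
theorem exists_semiInvariant (hG : HopfRep.IsLinearlyReductive k A) (x : R →ₐ[k] k)
    (hx : GLin.IsClosedOrbit k A x) {χ : A} (hχ : IsGroupLikeElem k χ)
    (h : χ - 1 ∈ GLin.stabIdeal k A x) :
    ∃ f : R, HopfRep.Comod.coact (k := k) (A := A) f = f ⊗ₜ[k] χ ∧ x f ≠ 0 := by
  obtain ⟨r₀, hr₀⟩ := mem_range_orbitHom x hx hχ h
  have hψ : IsGroupLikeElem k (HopfAlgebra.antipode k χ) := hχ.antipode
  have hφ' := isComodHom_twComod cR (HopfRep.Comod.regular k A) _ hψ (isComodHom_orbitHom (A := A) x)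
  obtain ⟨ER, hER⟩ := @exists_isReynolds k A _ _ _ hG R _ _ (twComod cR _ hψ)
  obtain ⟨EA, hEA⟩ := @exists_isReynolds k A _ _ _ hG A _ _ (twComod (HopfRep.Comod.regular k A) _ hψ)
  have hcomm := @IsReynolds.comp_comm k A _ _ _ hG R _ _ (twComod cR _ hψ) A _ _
    (twComod (HopfRep.Comod.regular k A) _ hψ) ER hER EA hEA _ hφ'
  have hχfix : χ ∈ @HopfRep.fixedPts k A _ _ _ A _ _ (twComod (HopfRep.Comod.regular k A) _ hψ) :=
    mem_fixedPts_twComod _ _ χ hψ hχ.mul_antipode_cancel hχ.comul_eq_tmul_self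
  have hEAχ : EA χ = χ := (hEA.2.2 χ).2 hχfix
  have hmem := @IsReynolds.apply_mem k A _ _ _ R _ _ (twComod cR _ hψ) ER hER r₀
  refine ⟨ER r₀, coact_eq_of_mem_fixedPts_twComod cR _ χ hψ hχ.antipode_mul_cancel hmem, ?_⟩
  have h1 := LinearMap.congr_fun hcomm r₀
  simp only [LinearMap.coe_comp, Function.comp_apply, AlgHom.toLinearMap_apply] at h1
  have hr₀' : GLin.orbitHom k A x r₀ = χ := hr₀
  rw [hr₀', hEAχ] at h1
  have h2 := Groth.Agent.Lib.IsMu38.counit_orbitHom (A := A) x (ER r₀)
  rw [← h1, hχ.counit_eq_one] at h2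
  rw [← h2]
  exact one_ne_zero

/-- **Characters trivial on stabilisers of closed orbits are detected by invariants.** -/
theorem exists_invariants_char (hG : HopfRep.IsLinearlyReductive k A) (χ : A) (hχ : IsGroupLikeElem k χ) :
    ∃ E : Set R, E ⊆ GLin.invariants k A R ∧
      ∀ x : R →ₐ[k] k, GLin.IsClosedOrbit k A x →
        (χ - 1 ∈ GLin.stabIdeal k A x ↔ ∃ f ∈ E, x f ≠ 0) := by
  refine ⟨{e | ∃ f f' : R, HopfRep.Comod.coact (k := k) (A := A) f = f ⊗ₜ[k] χ ∧
    HopfRep.Comod.coact (k := k) (A := A) f' = f' ⊗ₜ[k] HopfAlgebra.antipode k χ ∧ e = f * f'}, ?_, ?_⟩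
  · rintro e ⟨f, f', hf, hf', rfl⟩
    rw [SetLike.mem_coe, GLin.mem_invariants_iff, GLin.IsCoactAlg.coact_mul, hf, hf',
      Algebra.TensorProduct.tmul_mul_tmul, hχ.mul_antipode_cancel]
  · intro x hx
    constructor
    · intro h
      have h' : HopfAlgebra.antipode k χ - 1 ∈ GLin.stabIdeal k A x := by
        have := (GLin.stabIdeal k A x).mul_mem_left (-HopfAlgebra.antipode k χ) h
        have e : -HopfAlgebra.antipode k χ * (χ - 1) = HopfAlgebra.antipode k χ - 1 := by
          rw [neg_mul, mul_sub, hχ.antipode_mul_cancel, mul_one]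
          ring
        rwa [e] at this
      obtain ⟨f, hf, hxf⟩ := exists_semiInvariant hG x hx hχ h
      obtain ⟨f', hf', hxf'⟩ := exists_semiInvariant hG x hx hχ.antipode h'
      exact ⟨f * f', ⟨f, f', hf, hf', rfl⟩, by rw [map_mul]; exact mul_ne_zero hxf hxf'⟩
    · rintro ⟨e, ⟨f, f', hf, hf', rfl⟩, hxe⟩
      rw [map_mul] at hxe
      have hxf : x f ≠ 0 := left_ne_zero_of_mul hxe
      have h1 : GLin.orbitHom k A x f = x f • χ := by
        rw [orbitHom_apply, hf]
        simp
      have h2 : f - algebraMap k R (x f) ∈ RingHom.ker x := by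
        rw [RingHom.mem_ker, map_sub, AlgHom.commutes, sub_eq_zero]
        rfl
      have h3 := Ideal.mem_map_of_mem (GLin.orbitHom k A x) h2
      rw [map_sub, h1, AlgHom.commutes, Algebra.algebraMap_eq_smul_one, ← smul_sub] at h3
      have h4 := (GLin.stabIdeal k A x).mul_mem_left (algebraMap k A (x f)⁻¹) h3
      rw [← Algebra.smul_def, smul_smul, inv_mul_cancel₀ hxf, one_smul] at h4
      exact h4

end Main

end Groth.Agent.Lib.CharStab38
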