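import Mathlib

open Polynomial Matrix TensorProduct

namespace Groth.Agent.Lib.CharpolyIntegral

variable {S : Type*} [CommRing S] {ι : Type*} [Fintype ι] [DecidableEq ι]

/-- If `q(N) = 0` then the characteristic polynomial of `N` divides `q ^ card ι`. -/
theorem charpoly_dvd_pow_of_aeval_eq_zero (N : Matrix ι ι S) (q : S[X]) (hq : aeval N q = 0) :
    N.charpoly ∣ q ^ Fintype.card ι := by
  -- work in `W = S[X][Y]`
  let W := Polynomial (Polynomial S)
  let a : W := C X
  let b : W := X
  let Q : Polynomial W := q.map ((C : S[X] →+* W).comp (C : S →+* S[X]))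
  obtain ⟨h, hh⟩ := Polynomial.sub_dvd_eval_sub a b Q
  have hQa : Q.eval a = C q := by
    show (q.map ((C : S[X] →+* W).comp (C : S →+* S[X]))).eval (C X) = C q
    rw [eval_map, ← hom_eval₂, eval₂_C_X]
  have hQb : Q.eval b = q.map (C : S →+* S[X]) := by
    show (q.map ((C : S[X] →+* W).comp (C : S →+* S[X]))).eval X = q.map (C : S →+* S[X])
    rw [eval_map, ← eval₂_map, eval₂_C_X]
  let Ñ : Matrix ι ι S[X] := (C : S →+* S[X]).mapMatrix N
  let Φ : W →ₐ[S[X]] Matrix ι ι S[X] := aeval Ñ
  have hΦa : Φ a = Matrix.scalar ι (X : S[X]) := by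
    show aeval Ñ (C X) = _
    rw [aeval_C]; rfl
  have hΦb : Φ b = Ñ := aeval_X Ñ
  have hΦq : Φ (C q) = Matrix.scalar ι q := by
    show aeval Ñ (C q) = _
    rw [aeval_C]; rfl
  have hΦ0 : Φ (q.map (C : S →+* S[X])) = 0 := by
    show aeval Ñ (q.map (C : S →+* S[X])) = 0
    have h1 : aeval Ñ (q.map (C : S →+* S[X])) = (C : S →+* S[X]).mapMatrix (aeval N q) := by
      rw [aeval_def, eval₂_map, aeval_def, hom_eval₂]
      congr 1
      ext s i j
      simp [Matrix.algebraMap_matrix_apply, apply_ite]
    rw [h1, hq, map_zero]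
  have h2 := congrArg Φ hh
  rw [map_sub, map_mul, map_sub, hQa, hQb, hΦq, hΦ0, sub_zero, hΦa, hΦb] at h2
  have h3 := congrArg Matrix.det h2
  rw [Matrix.det_mul] at h3
  have h4 : (Matrix.scalar ι q).det = q ^ Fintype.card ι := by
    simp [Matrix.scalar_apply, Matrix.det_diagonal]
  rw [h4] at h3
  exact ⟨_, h3⟩

/-- If the matrix `N` over `S` is integral over `R`, then the coefficients of its characteristic
polynomial are integral over `R`. -/
theorem isIntegral_charpoly_coeff {R : Type*} [CommRing R] [Algebra R S] (N : Matrix ι ι S)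
    (hN : IsIntegral R N) (j : ℕ) : IsIntegral R (N.charpoly.coeff j) := by
  obtain ⟨p, hp, hpN⟩ := hN
  have h1 : aeval N (p.map (algebraMap R S)) = 0 := by
    rw [aeval_def, eval₂_map, ← IsScalarTower.algebraMap_eq]
    exact hpN
  have h2 := charpoly_dvd_pow_of_aeval_eq_zero N _ h1
  rw [← Polynomial.map_pow] at h2
  exact Polynomial.isIntegral_coeff_of_dvd (p ^ Fintype.card ι) N.charpoly (hp.pow _)
    (charpoly_monic N) h2 j

attribute [local instance] MvPolynomial.algebraMvPolynomial

universe u

theorem fg_of_le_of_fg {A : Type*} [CommRing A] [IsNoetherianRing A] {Kf : Type*} [AddCommGroup Kf]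
    [Module A Kf] (T P : Submodule A Kf) (hTP : T ≤ P) (hP : P.FG) : T.FG := by
  have : IsNoetherian A P := isNoetherian_of_fg_of_noetherian P hP
  have h1 : (T.comap P.subtype).FG := IsNoetherian.noetherian _
  have h2 := h1.map P.subtype
  rwa [Submodule.map_comap_subtype, inf_eq_right.2 hTP] at h2

theorem main (A : Type u) [CommRing A] [IsNoetherianRing A]
    (Kf : Type u) [CommRing Kf] [Algebra A Kf]
    (E : Type u) [AddCommGroup E] [Module A E] [Module.Finite A E]
    [Module.Free Kf (TensorProduct A Kf E)] :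
    (Algebra.adjoin A {c : Kf | ∃ (v : E →ₗ[A] E) (j : ℕ),
        c = ((v.baseChange Kf).charpoly).coeff j}).toSubmodule.FG := by
  classical
  let ι := Module.Free.ChooseBasisIndex Kf (TensorProduct A Kf E)
  let b : Module.Basis ι Kf (TensorProduct A Kf E) := Module.Free.chooseBasis Kf _
  let M : Module.End A E →ₐ[A] Matrix ι ι Kf :=
    ((LinearMap.toMatrixAlgEquiv b).toAlgHom.restrictScalars A).comp
      (Module.End.baseChangeHom A Kf E)
  have hM : ∀ v : Module.End A E, (M v).charpoly = (v.baseChange Kf).charpoly := by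
    intro v
    exact LinearMap.charpoly_toMatrix (v.baseChange Kf) b
  obtain ⟨m, w, hw⟩ := Module.Finite.exists_fin (R := A) (M := Module.End A E)
  let R' := MvPolynomial (Fin m) A
  let S' := MvPolynomial (Fin m) Kf
  let cK : Kf →ₐ[A] S' := IsScalarTower.toAlgHom A Kf S'
  let φ : Module.End A E →ₐ[A] Matrix ι ι S' := (cK.mapMatrix).comp M
  let G : Matrix ι ι S' := ∑ i, (MvPolynomial.X i : R') • φ (w i)
  have hfg : (Algebra.adjoin R' (Set.range φ)).toSubmodule.FG := by
    have h1 : (Algebra.adjoin R' (Set.range φ)).toSubmodule = Submodule.span R' (Set.range φ) := by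
      rw [Algebra.adjoin_eq_span]
      congr 1
      have : Set.range φ =
          ((MonoidHom.mrange (φ : Module.End A E →* Matrix ι ι S') : Submonoid _) : Set _) := by
        ext; simp
      rw [this, Submonoid.closure_eq]
    rw [h1]
    have h2 : Submodule.span R' (Set.range φ) = Submodule.span R' (Set.range (φ ∘ w)) := by
      apply le_antisymm
      · rw [Submodule.span_le]
        rintro _ ⟨v, rfl⟩
        have hv : v ∈ Submodule.span A (Set.range w) := by rw [hw]; trivial
        refine Submodule.span_induction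
          (p := fun v _ => φ v ∈ Submodule.span R' (Set.range (φ ∘ w))) ?_ ?_ ?_ ?_ hv
        · rintro _ ⟨i, rfl⟩
          exact Submodule.subset_span ⟨i, rfl⟩
        · rw [map_zero]; exact Submodule.zero_mem _
        · intro x y _ _ hx hy
          rw [map_add]; exact Submodule.add_mem _ hx hy
        · intro a x _ hx
          rw [map_smul, ← algebraMap_smul R' a (φ x)]
          exact Submodule.smul_mem _ _ hx
      · apply Submodule.span_mono
        rintro _ ⟨i, rfl⟩
        exact ⟨w i, rfl⟩
    rw [h2]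
    exact Submodule.fg_span (Set.finite_range _)
  have hG : G ∈ Algebra.adjoin R' (Set.range φ) := by
    refine Subalgebra.sum_mem _ fun i _ => ?_
    exact Subalgebra.smul_mem _ (Algebra.subset_adjoin (Set.mem_range_self (w i))) _
  have hGint : IsIntegral R' G := IsIntegral.of_mem_of_fg _ hfg G hG
  have hPint : ∀ j, IsIntegral R' (G.charpoly.coeff j) := isIntegral_charpoly_coeff G hGint
  have hcint : ∀ j μ, IsIntegral A ((G.charpoly.coeff j).coeff μ) :=
    fun j μ => MvPolynomial.isIntegral_iff_isIntegral_coeff.mp (hPint j) μ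
  let Cfin : Finset Kf := (Finset.range (Fintype.card ι + 1)).biUnion
    (fun j => (G.charpoly.coeff j).support.image (fun μ => (G.charpoly.coeff j).coeff μ))
  have hCint : ∀ x ∈ (Cfin : Set Kf), IsIntegral A x := by
    intro x hx
    simp only [Cfin, Finset.coe_biUnion, Finset.coe_range, Set.mem_Iio, Finset.coe_image,
      Set.mem_iUnion, Set.mem_image, Finset.mem_coe, exists_prop] at hx
    obtain ⟨j, _, μ, _, rfl⟩ := hx
    exact hcint j μ
  have hPfg := fg_adjoin_of_finite Cfin.finite_toSet hCint
  refine fg_of_le_of_fg _ _ ?_ hPfg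
  show Algebra.adjoin A _ ≤ Algebra.adjoin A (Cfin : Set Kf)
  apply Algebra.adjoin_le
  rintro _ ⟨v, j, rfl⟩
  have hv : v ∈ Submodule.span A (Set.range w) := by rw [hw]; trivial
  obtain ⟨a, rfl⟩ := (Submodule.mem_span_range_iff_exists_fun A).1 hv
  set ev : S' →+* Kf := MvPolynomial.eval (fun i => algebraMap A Kf (a i)) with hev
  have hGev : G.map ev = M (∑ i, a i • w i) := by
    rw [map_sum]
    ext k l
    simp only [G, Matrix.map_apply, Matrix.sum_apply, map_sum, Matrix.smul_apply, map_smul]
    apply Finset.sum_congr rfl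
    intro i _
    rw [Algebra.smul_def, map_mul]
    simp only [φ, AlgHom.comp_apply, AlgHom.mapMatrix_apply, Matrix.map_apply, cK,
      IsScalarTower.coe_toAlgHom', hev, Algebra.smul_def]
    have e1 : (algebraMap (MvPolynomial (Fin m) A) S') (MvPolynomial.X i) = MvPolynomial.X i := by
      show MvPolynomial.map (algebraMap A Kf) (MvPolynomial.X i) = MvPolynomial.X i
      exact MvPolynomial.map_X _ _
    have e2 : (algebraMap Kf S') (M (w i) k l) = MvPolynomial.C (M (w i) k l) := rfl
    rw [e1, e2, MvPolynomial.eval_X, MvPolynomial.eval_C]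
  rw [← hM, ← hGev, Matrix.charpoly_map, Polynomial.coeff_map]
  by_cases hj : j ≤ Fintype.card ι
  · rw [hev, MvPolynomial.eval_eq']
    refine Subalgebra.sum_mem _ fun μ hμ => ?_
    refine Subalgebra.mul_mem _ ?_ ?_
    · apply Algebra.subset_adjoin
      simp only [Cfin, Finset.coe_biUnion, Finset.coe_range, Set.mem_Iio, Finset.coe_image,
        Set.mem_iUnion, Set.mem_image, Finset.mem_coe, exists_prop]
      exact ⟨j, Nat.lt_succ_of_le hj, μ, hμ, rfl⟩
    · refine Subalgebra.prod_mem _ fun i _ => ?_
      exact Subalgebra.pow_mem _ (Subalgebra.algebraMap_mem _ _) _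
  · have : G.charpoly.coeff j = 0 := by
      rcases subsingleton_or_nontrivial S' with h | h
      · exact Subsingleton.elim _ _
      apply Polynomial.coeff_eq_zero_of_natDegree_lt
      rw [Matrix.charpoly_natDegree_eq_dim]
      omega
    rw [this, map_zero]
    exact Subalgebra.zero_mem _

end Groth.Agent.Lib.CharpolyIntegral
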