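import Mathlib

open Polynomial Matrix

namespace Groth.Agent.Lib.CharpolySq

variable {R : Type*} [CommRing R] {m : Type*} [Fintype m] [DecidableEq m]

/-- applying an `R`-algebra endomorphism `φ` of `R[X]` to the characteristic matrix -/
theorem charmatrix_map_algHom (φ : R[X] →ₐ[R] R[X]) (N : Matrix m m R) :
    (charmatrix N).map φ = Matrix.scalar m (φ X) - (C : R →+* R[X]).mapMatrix N := by
  ext i j
  have hC : φ (C (N i j)) = C (N i j) := φ.commutes (N i j)
  by_cases h : i = j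
  · subst h
    simp [charmatrix_apply, hC]
  · simp [charmatrix_apply, h, hC]

theorem det_scalar_sub (φ : R[X] →ₐ[R] R[X]) (N : Matrix m m R) :
    (Matrix.scalar m (φ X) - (C : R →+* R[X]).mapMatrix N).det = φ N.charpoly := by
  rw [← charmatrix_map_algHom, Matrix.charpoly, AlgHom.map_det, AlgHom.mapMatrix_apply]

theorem expand_charpoly_sq (N : Matrix m m R) :
    expand R 2 (N * N).charpoly =
      (-1) ^ Fintype.card m * (N.charpoly * N.charpoly.comp (-X)) := by
  have h1 := det_scalar_sub (expand R 2) (N * N)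
  rw [expand_X] at h1
  rw [← h1]
  have hfac : Matrix.scalar m ((X : R[X]) ^ 2) - (C : R →+* R[X]).mapMatrix (N * N) =
      (Matrix.scalar m (X : R[X]) - (C : R →+* R[X]).mapMatrix N) *
        (-(Matrix.scalar m (-X : R[X]) - (C : R →+* R[X]).mapMatrix N)) := by
    rw [map_mul]
    simp only [Matrix.scalar_apply, ← Matrix.smul_one_eq_diagonal]
    simp only [neg_sub, sub_mul, mul_add, smul_mul_assoc, mul_smul_comm, one_mul, mul_one,
      smul_smul, neg_smul, sub_neg_eq_add]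
    rw [pow_two]
    module
  rw [hfac, Matrix.det_mul, Matrix.det_neg]
  have h2 : (Matrix.scalar m (X : R[X]) - (C : R →+* R[X]).mapMatrix N).det = N.charpoly := rfl
  have h3 := det_scalar_sub (aeval (-X : R[X])) N
  rw [aeval_X] at h3
  rw [h2, h3]
  have : aeval (-X : R[X]) N.charpoly = N.charpoly.comp (-X) := rfl
  rw [this]
  ring

theorem expand_charpoly_sub_one_sq (N : Matrix m m R) :
    expand R 2 ((N - 1) ^ 2).charpoly =
      (-1) ^ Fintype.card m *
        (N.charpoly.comp (X + C 1) * (N.charpoly.comp (X + C 1)).comp (-X)) := by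
  have h1 : (N - 1 : Matrix m m R) = N - Matrix.scalar m 1 := by simp
  rw [pow_two, expand_charpoly_sq, h1, charpoly_sub_scalar]

theorem charpoly_sub_one_sq_congr {m' : Type*} [Fintype m'] [DecidableEq m']
    (N : Matrix m m R) (N' : Matrix m' m' R) (hc : Fintype.card m = Fintype.card m')
    (h : N.charpoly = N'.charpoly) :
    ((N - 1) ^ 2).charpoly = ((N' - 1) ^ 2).charpoly := by
  apply Polynomial.expand_injective (R := R) (by norm_num : 0 < 2)
  rw [expand_charpoly_sub_one_sq, expand_charpoly_sub_one_sq, hc, h]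

/-- coefficients of the characteristic polynomial of a scalar multiple -/
theorem charpoly_smul_coeff (c : R) (B : Matrix m m R) (j : ℕ) :
    (c • B).charpoly.coeff j * c ^ j = c ^ Fintype.card m * B.charpoly.coeff j := by
  have h1 := det_scalar_sub (aeval (C c * X : R[X])) (c • B)
  rw [aeval_X] at h1
  have h2 : Matrix.scalar m (C c * X : R[X]) - (C : R →+* R[X]).mapMatrix (c • B) =
      (C c : R[X]) • charmatrix B := by
    ext i j
    by_cases h : i = j
    · subst h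
      simp [charmatrix_apply, mul_sub]
    · simp [charmatrix_apply, h]
  rw [h2, Matrix.det_smul] at h1
  have h3 : aeval (C c * X : R[X]) (c • B).charpoly = (c • B).charpoly.comp (C c * X) := rfl
  rw [h3] at h1
  have h4 := congrArg (fun p => p.coeff j) h1
  simp only [comp_C_mul_X_coeff, ← C_pow, coeff_C_mul] at h4
  rw [← h4]
  rfl

/-- an integer matrix with prescribed monic characteristic polynomial -/
theorem exists_matrix_charpoly (f : ℤ[X]) (hf : f.Monic) :
    ∃ M : Matrix (Fin f.natDegree) (Fin f.natDegree) ℤ, M.charpoly = f := by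
  let pb := AdjoinRoot.powerBasis' hf
  have hdim : pb.dim = f.natDegree := rfl
  let M₀ : Matrix (Fin pb.dim) (Fin pb.dim) ℤ := Algebra.leftMulMatrix pb.basis pb.gen
  refine ⟨M₀, ?_⟩
  have h0 : aeval pb.gen M₀.charpoly = 0 := by
    apply Algebra.leftMulMatrix_injective pb.basis
    rw [map_zero, ← Polynomial.aeval_algHom_apply]
    exact aeval_self_charpoly M₀
  have hgen : pb.gen = AdjoinRoot.root f := rfl
  rw [hgen, AdjoinRoot.aeval_eq, AdjoinRoot.mk_eq_zero] at h0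
  refine Polynomial.eq_of_monic_of_dvd_of_natDegree_le hf (charpoly_monic _) h0 ?_
  rw [charpoly_natDegree_eq_dim, Fintype.card_fin]

theorem int_dvd_of_forall_prime (N : ℕ) (hN : N ≠ 0) (x : ℤ)
    (h : ∀ p : ℕ, p.Prime → p ∣ N → ((p ^ N.factorization p : ℕ) : ℤ) ∣ x) : (N : ℤ) ∣ x := by
  rcases eq_or_ne x 0 with rfl | hx
  · exact dvd_zero _
  rw [Int.natCast_dvd]
  have hx' : x.natAbs ≠ 0 := Int.natAbs_ne_zero.2 hx
  rw [← Nat.factorization_prime_le_iff_dvd hN hx']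
  intro p hp
  by_cases hpN : p ∣ N
  · have := h p hp hpN
    rw [Int.natCast_dvd] at this
    exact (hp.pow_dvd_iff_le_factorization hx').1 this
  · rw [Nat.factorization_eq_zero_of_not_dvd hpN]
    exact Nat.zero_le _

/-- local divisibility of the coefficients of `charpoly ((M₀ - 1)^2)` at a prime `ℓ ∣ n` -/
theorem local_dvd (n : ℕ) (hn : 0 < n) (g : ℕ) (f : ℤ[X]) (hf : f.Monic) (d : ℕ)
    (M₀ : Matrix (Fin d) (Fin d) ℤ) (hM₀ : M₀.charpoly = f)
    (ℓ : ℕ) [Fact ℓ.Prime]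
    (A B : Matrix (Fin g) (Fin g) ℤ_[ℓ])
    (hAc : A.charpoly = f.map (Int.castRingHom ℤ_[ℓ]))
    (hB : (A - 1) ^ 2 = (n : ℤ_[ℓ]) • B) (j : ℕ) (hj : j ≤ d) :
    ((ℓ ^ (n ^ (d - j)).factorization ℓ : ℕ) : ℤ) ∣ ((M₀ - 1) ^ 2).charpoly.coeff j := by
  set φ := Int.castRingHom ℤ_[ℓ] with hφ
  have hd : f.natDegree = d := by
    rw [← hM₀, charpoly_natDegree_eq_dim, Fintype.card_fin]
  have hdg : d = g := by
    have h1 : A.charpoly.natDegree = g := by
      rw [charpoly_natDegree_eq_dim, Fintype.card_fin]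
    rw [hAc, hf.natDegree_map, hd] at h1
    exact h1
  have hG : ((M₀ - 1) ^ 2).charpoly.map φ = ((n : ℤ_[ℓ]) • B).charpoly := by
    rw [← Matrix.charpoly_map, ← hB]
    have h2 : ((M₀ - 1) ^ 2).map φ = (M₀.map φ - 1) ^ 2 := by
      have := map_pow φ.mapMatrix (M₀ - 1) 2
      rw [map_sub, map_one] at this
      exact this
    rw [h2]
    apply charpoly_sub_one_sq_congr
    · simp [hdg]
    · rw [Matrix.charpoly_map, hM₀, hAc]
  have hcoef := charpoly_smul_coeff (n : ℤ_[ℓ]) B j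
  rw [← hG, coeff_map, Fintype.card_fin] at hcoef
  have hn0 : (n : ℤ_[ℓ]) ≠ 0 := Nat.cast_ne_zero.2 hn.ne'
  have hjg : j ≤ g := hdg ▸ hj
  have hcoef' : φ (((M₀ - 1) ^ 2).charpoly.coeff j) = (n : ℤ_[ℓ]) ^ (g - j) * B.charpoly.coeff j := by
    have : (n : ℤ_[ℓ]) ^ g = (n : ℤ_[ℓ]) ^ (g - j) * (n : ℤ_[ℓ]) ^ j := by
      rw [← pow_add, Nat.sub_add_cancel hjg]
    rw [this] at hcoef
    have hnj : (n : ℤ_[ℓ]) ^ j ≠ 0 := pow_ne_zero _ hn0
    apply mul_right_cancel₀ hnj
    rw [hcoef]; ring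
  -- now pass to divisibility by powers of ℓ
  have hv : ℓ ^ n.factorization ℓ ∣ n := Nat.ordProj_dvd n ℓ
  have hv' : ((ℓ : ℤ_[ℓ]) ^ n.factorization ℓ) ∣ (n : ℤ_[ℓ]) := by
    have := Nat.cast_dvd_cast (α := ℤ_[ℓ]) hv
    rwa [Nat.cast_pow] at this
  have h3 : ((ℓ : ℤ_[ℓ]) ^ n.factorization ℓ) ^ (g - j) ∣
      φ (((M₀ - 1) ^ 2).charpoly.coeff j) := by
    rw [hcoef']
    exact Dvd.dvd.mul_right (pow_dvd_pow_of_dvd hv' _) _
  rw [← pow_mul] at h3
  have h4 : φ (((M₀ - 1) ^ 2).charpoly.coeff j) = ((((M₀ - 1) ^ 2).charpoly.coeff j : ℤ) : ℤ_[ℓ]) := by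
    simp [hφ]
  rw [h4, PadicInt.pow_p_dvd_int_iff] at h3
  rw [← hdg] at h3
  rw [Nat.factorization_pow]
  simp only [Finsupp.smul_apply, smul_eq_mul]
  rw [Nat.cast_pow, mul_comm]
  exact h3

/-- a root of a monic integer polynomial `G` of degree `d` with `n^(d-j) ∣ G_j`, divided by `n`,
is integral -/
theorem isIntegral_div_of_dvd_coeff {K : Type*} [Field K] [CharZero K] (n : ℕ) (hn : 0 < n)
    (G : ℤ[X]) (hG : G.Monic) (hdvd : ∀ j, j ≤ G.natDegree → ((n : ℤ)) ^ (G.natDegree - j) ∣ G.coeff j)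
    (γ : K) (hγ : aeval γ G = 0) : IsIntegral ℤ (γ / n) := by
  set d := G.natDegree with hd
  set H : ℤ[X] := X ^ d + ∑ j ∈ Finset.range d, C (G.coeff j / (n : ℤ) ^ (d - j)) * X ^ j with hH
  have hHm : H.Monic := by
    apply Polynomial.monic_X_pow_add
    refine (Polynomial.degree_sum_le _ _).trans_lt ?_
    refine (Finset.sup_lt_iff (WithBot.bot_lt_coe d)).2 ?_
    intro j hj
    refine (Polynomial.degree_C_mul_X_pow_le _ _).trans_lt ?_
    exact WithBot.coe_lt_coe.2 (Finset.mem_range.1 hj)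
  refine ⟨H, hHm, ?_⟩
  rw [← aeval_def]
  have hn0 : (n : K) ≠ 0 := Nat.cast_ne_zero.2 hn.ne'
  have hnd : (n : K) ^ d ≠ 0 := pow_ne_zero _ hn0
  apply mul_left_cancel₀ hnd
  rw [mul_zero, ← hγ]
  have hGs := congrArg (aeval γ) hG.as_sum
  rw [hGs]
  simp only [hH, map_add, map_sum, map_mul, map_pow, aeval_X, aeval_C, Finset.mul_sum, mul_add]
  congr 1
  · rw [← mul_pow, mul_div_cancel₀ _ hn0]
  · apply Finset.sum_congr rfl
    intro j hj
    have hjd : j < d := Finset.mem_range.1 hj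
    have h1 := hdvd j hjd.le
    have h2 : G.coeff j = (n : ℤ) ^ (d - j) * (G.coeff j / (n : ℤ) ^ (d - j)) :=
      (Int.mul_ediv_cancel' h1).symm
    conv_rhs => rw [h2]
    have h3 : (n : K) ^ d = (n : K) ^ (d - j) * (n : K) ^ j := by
      rw [← pow_add, Nat.sub_add_cancel hjd.le]
    rw [h3]
    simp only [eq_intCast, Int.cast_mul, Int.cast_pow, Int.cast_natCast, div_pow]
    field_simp

theorem main (n : ℕ) (hn : 0 < n) (g : ℕ) (f : Polynomial ℤ)
    (hf : f.Monic)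
    (hA : ∀ (ℓ : ℕ) [Fact ℓ.Prime], ℓ ∣ n → ∃ A : Matrix (Fin g) (Fin g) ℤ_[ℓ],
      A.charpoly = f.map (Int.castRingHom ℤ_[ℓ]) ∧
        ∃ B : Matrix (Fin g) (Fin g) ℤ_[ℓ], (A - 1) ^ 2 = (n : ℤ_[ℓ]) • B)
    (K : Type*) [Field K] [CharZero K] (α s : K) (hα : Polynomial.aeval α f = 0)
    (hs : s ^ 2 = (n : K)) :
    IsIntegral ℤ ((α - 1) / s) := by
  obtain ⟨d, M₀, hM₀⟩ : ∃ d, ∃ M₀ : Matrix (Fin d) (Fin d) ℤ, M₀.charpoly = f :=
    ⟨_, exists_matrix_charpoly f hf⟩
  set G := ((M₀ - 1) ^ 2).charpoly with hGdef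
  have hGm : G.Monic := charpoly_monic _
  have hGd : G.natDegree = d := by
    rw [hGdef, charpoly_natDegree_eq_dim, Fintype.card_fin]
  have hγ : aeval ((α - 1) ^ 2) G = 0 := by
    rw [← expand_aeval, hGdef, expand_charpoly_sub_one_sq, hM₀]
    have h1 : aeval (α - 1) (f.comp (X + C 1)) = 0 := by
      rw [aeval_comp]
      simpa using hα
    rw [map_mul, map_mul, h1, zero_mul, mul_zero]
  have hdvd : ∀ j, j ≤ G.natDegree → ((n : ℤ)) ^ (G.natDegree - j) ∣ G.coeff j := by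
    intro j hj
    rw [hGd] at hj ⊢
    have := int_dvd_of_forall_prime (n ^ (d - j)) (pow_ne_zero _ hn.ne') (G.coeff j) ?_
    · rwa [Nat.cast_pow] at this
    · intro p hp hpn
      have : Fact p.Prime := ⟨hp⟩
      have hpn' : p ∣ n := hp.dvd_of_dvd_pow hpn
      obtain ⟨A, hAc, B, hB⟩ := hA p hpn'
      exact local_dvd n hn g f hf d M₀ hM₀ p A B hAc hB j hj
  have hβ := isIntegral_div_of_dvd_coeff (K := K) n hn G hGm hdvd _ hγ
  apply IsIntegral.of_pow (n := 2) (by norm_num)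
  rw [div_pow, hs]
  exact hβ

end Groth.Agent.Lib.CharpolySq
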