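import Groth.Agent.Lib.H69KerFlat
import Groth.Agent.Lib.ProjProd
import Mathlib.AlgebraicGeometry.Morphisms.Immersion
import Mathlib.AlgebraicGeometry.Morphisms.Proper
import Mathlib.AlgebraicGeometry.Morphisms.SchemeTheoreticallyDominant

/-!
# Chow's lemma: the core construction without reducedness (helper85; after helper90 H90Chow, H90Chow2)

Same as helper90's `ChowData`, but `X` need not be reduced: dominance + reducedness is replaced by
scheme-theoretic dominance (`h.toImage` is scheme-theoretically dominant).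
-/

set_option autoImplicit false
universe u
open CategoryTheory CategoryTheory.Limits AlgebraicGeometry TopologicalSpace
open Groth.Agent.Lib.ProjProd

namespace Groth.Agent.Lib.ChowGen85

/-- Morphisms into a separated `Z`-scheme that agree after precomposition with a
scheme-theoretically dominant morphism are equal (no reducedness needed). -/
theorem ext_of_isSchemeTheoreticallyDominant_of_isSeparated {W X Y Z : Scheme.{u}} {f g : X ⟶ Y}
    (s : Y ⟶ Z) [IsSeparated s] (h : f ≫ s = g ≫ s)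
    (ι : W ⟶ X) [IsSchemeTheoreticallyDominant ι] (hU : ι ≫ f = ι ≫ g) : f = g := by
  let X' : Over Z := Over.mk (f ≫ s)
  let Y' : Over Z := Over.mk s
  let U' : Over Z := Over.mk (ι ≫ f ≫ s)
  let f' : X' ⟶ Y' := Over.homMk f
  let g' : X' ⟶ Y' := Over.homMk g
  let ι' : U' ⟶ X' := Over.homMk ι
  have : IsSeparated Y'.hom := ‹_›
  have hc : ι' ≫ f' = ι' ≫ g' := by ext1; exact hU
  have hl : (equalizer.lift ι' hc).left ≫ (equalizer.ι f' g').left = ι := by
    rw [← Over.comp_left, equalizer.lift_ι]; rfl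
  have : IsIso (equalizer.ι f' g').left := by
    rw [IsClosedImmersion.isIso_iff_ker_eq_bot, ← le_bot_iff, ← ι.ker_eq_bot, ← hl]
    exact Scheme.Hom.le_ker_comp _ _
  rw [← cancel_epi (equalizer.ι f' g').left]
  exact congr($(equalizer.condition f' g').left)

/-- the lift of a quasi-compact scheme-theoretically dominant morphism into an open containing its
range is scheme-theoretically dominant -/
theorem isSchemeTheoreticallyDominant_lift {W X : Scheme.{u}} (f : W ⟶ X)
    [IsSchemeTheoreticallyDominant f] [QuasiCompact f] (T : X.Opens)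
    (f' : W ⟶ T.toScheme) (hf' : f' ≫ T.ι = f) : IsSchemeTheoreticallyDominant f' := by
  have hpb : IsPullback (𝟙 W) f' f T.ι := by
    refine ⟨⟨by rw [Category.id_comp, hf']⟩, ⟨PullbackCone.IsLimit.mk _ (fun s => s.fst) ?_ ?_ ?_⟩⟩
    · intro s; exact Category.comp_id _
    · intro s
      rw [← cancel_mono T.ι, Category.assoc, hf', s.condition]
    · intro s m h1 _
      rw [← h1, Category.comp_id]
  exact IsSchemeTheoreticallyDominant.of_isPullback hpb

section Closure

variable {X Y : Scheme.{u}} (g : Y ⟶ X) [IsSeparated g] (U : X.Opens)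
  (h : U.toScheme ⟶ Y) [QuasiCompact h] (hg : h ≫ g = U.ι)

open Groth.Agent.Lib.H69KerFlat

/-- the projection from the closure -/
noncomputable abbrev cπ : h.image ⟶ X := h.imageι ≫ g

include hg in
theorem toImage_cπ : h.toImage ≫ cπ g U h = U.ι := by
  rw [← Category.assoc, Scheme.Hom.toImage_imageι, hg]

instance : QuasiCompact h.toImage := by
  have : QuasiCompact (h.toImage ≫ h.imageι) := by rw [Scheme.Hom.toImage_imageι]; infer_instance
  exact QuasiCompact.of_comp h.toImage h.imageι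

include hg in
/-- **The closure of a section over `U` is isomorphic to `U` over `U`.** -/
theorem isIso_cπ_restrict : IsIso (cπ g U h ∣_ U) := by
  set π := cπ g U h with hπ
  have h1 : h.toImage ≫ π = U.ι := toImage_cπ g U h hg
  let T : h.image.Opens := π ⁻¹ᵁ U
  have hsub : Set.range h.toImage ⊆ Set.range T.ι := by
    rw [Scheme.Opens.range_ι]
    rintro _ ⟨u, rfl⟩
    change π (h.toImage u) ∈ U
    rw [← Scheme.Hom.comp_apply, h1]
    exact u.2
  let θ' : U.toScheme ⟶ T.toScheme := IsOpenImmersion.lift T.ι h.toImage hsub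
  have hθ' : θ' ≫ T.ι = h.toImage := IsOpenImmersion.lift_fac _ _ _
  have : IsSchemeTheoreticallyDominant θ' :=
    isSchemeTheoreticallyDominant_lift h.toImage T θ' hθ'
  have h2 : θ' ≫ (π ∣_ U) = 𝟙 _ := by
    rw [← cancel_mono U.ι, Category.assoc, morphismRestrict_ι, ← Category.assoc, hθ', h1,
      Category.id_comp]
  have h3 : T.ι ≫ h.imageι = (π ∣_ U) ≫ h := by
    refine ext_of_isSchemeTheoreticallyDominant_of_isSeparated g ?_ θ' ?_
    · rw [Category.assoc, Category.assoc, hg, morphismRestrict_ι]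
    · rw [← Category.assoc, hθ', Scheme.Hom.toImage_imageι, ← Category.assoc, h2, Category.id_comp]
  have h4 : (π ∣_ U) ≫ θ' = 𝟙 _ := by
    rw [← cancel_mono (T.ι ≫ h.imageι), Category.assoc, ← Category.assoc θ', hθ',
      Scheme.Hom.toImage_imageι, Category.id_comp, h3]
  exact ⟨θ', h4, h2⟩

end Closure

/-- the data for the Chow construction -/
structure ChowData (S X : Scheme.{u}) where
  f : X ⟶ S
  r : ℕ
  P : Fin (r + 1) → Scheme.{u}
  q : ∀ i, P i ⟶ S
  D : FinProd P q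
  Uo : Fin (r + 1) → X.Opens
  t : ∀ i, (Uo i).toScheme ⟶ P i
  ht : ∀ i, t i ≫ q i = (Uo i).ι ≫ f
  sepf : IsSeparated f
  sepq : ∀ i, IsSeparated (q i)
  sepD : IsSeparated D.hom
  ot : ∀ i, IsOpenImmersion (t i)
  cov : ⨆ i, Uo i = ⊤
  cpt : CompactSpace ↥(⨅ i, Uo i : X.Opens)
  qs : QuasiSeparatedSpace ↥(pullback f D.hom)

namespace ChowData

variable {S X : Scheme.{u}} (C : ChowData S X)

attribute [instance] sepf sepq sepD ot cpt qs

/-- the common open -/
def U : X.Opens := ⨅ i, C.Uo i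

instance : CompactSpace C.U := C.cpt

theorem U_le (i) : C.U ≤ C.Uo i := iInf_le C.Uo i

/-- `U ⟶ P i` -/
noncomputable def a (i) : C.U.toScheme ⟶ C.P i := X.homOfLE (C.U_le i) ≫ C.t i

theorem a_q (i) : C.a i ≫ C.q i = C.U.ι ≫ C.f := by
  rw [a, Category.assoc, C.ht, ← Category.assoc, Scheme.homOfLE_ι]

/-- `U ⟶ Q` -/
noncomputable def φ₀ : C.U.toScheme ⟶ C.D.pt :=
  C.D.lift C.a (fun i j => by rw [C.a_q, C.a_q])

theorem φ₀_π (i) : C.φ₀ ≫ C.D.π i = C.a i := C.D.lift_π _ _ i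

theorem φ₀_hom : C.φ₀ ≫ C.D.hom = C.U.ι ≫ C.f := by
  rw [← C.D.π_comp 0, ← Category.assoc, C.φ₀_π, C.a_q]

/-- the ambient product `Y = X ×_S Q` -/
noncomputable abbrev Y : Scheme.{u} := pullback C.f C.D.hom

/-- the graph `U ⟶ Y` -/
noncomputable def h : C.U.toScheme ⟶ C.Y := pullback.lift C.U.ι C.φ₀ C.φ₀_hom.symm

theorem h_fst : C.h ≫ pullback.fst _ _ = C.U.ι := pullback.lift_fst _ _ _
theorem h_snd : C.h ≫ pullback.snd _ _ = C.φ₀ := pullback.lift_snd _ _ _

instance : QuasiCompact C.h := inferInstance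

/-- `X'` -/
noncomputable abbrev X' : Scheme.{u} := C.h.image
/-- `X' ⟶ Y` -/
noncomputable abbrev ι' : C.X' ⟶ C.Y := C.h.imageι
/-- `U ⟶ X'` -/
noncomputable abbrev θ : C.U.toScheme ⟶ C.X' := C.h.toImage
/-- `X' ⟶ X` -/
noncomputable abbrev π : C.X' ⟶ X := C.ι' ≫ pullback.fst _ _
/-- `X' ⟶ Q` -/
noncomputable abbrev φ : C.X' ⟶ C.D.pt := C.ι' ≫ pullback.snd _ _

theorem θ_ι' : C.θ ≫ C.ι' = C.h := Scheme.Hom.toImage_imageι _

theorem θ_π : C.θ ≫ C.π = C.U.ι := by
  rw [← Category.assoc, C.θ_ι', C.h_fst]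

theorem θ_φ : C.θ ≫ C.φ = C.φ₀ := by
  rw [← Category.assoc, C.θ_ι', C.h_snd]

theorem π_f : C.π ≫ C.f = C.φ ≫ C.D.hom := by
  rw [Category.assoc, Category.assoc, pullback.condition]

instance : QuasiCompact C.θ := inferInstanceAs (QuasiCompact C.h.toImage)

instance : IsSchemeTheoreticallyDominant C.θ :=
  Groth.Agent.Lib.H69KerFlat.isSchemeTheoreticallyDominant_toImage C.h

theorem isIso_π_restrict : IsIso (C.π ∣_ C.U) :=
  isIso_cπ_restrict (pullback.fst C.f C.D.hom) C.U C.h C.h_fst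

/-- two maps out of an open `T ⊇ range θ` of `X'` into a separated scheme agree iff they agree on `U` -/
theorem ext_of_θ (T : C.X'.Opens) (hT : Set.range C.θ ⊆ (T : Set C.X')) {Z B : Scheme.{u}} (s : Z ⟶ B)
    [IsSeparated s] (u v : T.toScheme ⟶ Z) (huv : u ≫ s = v ≫ s)
    (h : ∀ θT : C.U.toScheme ⟶ T.toScheme, θT ≫ T.ι = C.θ → θT ≫ u = θT ≫ v) : u = v := by
  have hsub : Set.range C.θ ⊆ Set.range T.ι := by rw [Scheme.Opens.range_ι]; exact hT
  let θT : C.U.toScheme ⟶ T.toScheme := IsOpenImmersion.lift T.ι C.θ hsub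
  have hθT : θT ≫ T.ι = C.θ := IsOpenImmersion.lift_fac _ _ _
  have : IsSchemeTheoreticallyDominant θT := isSchemeTheoreticallyDominant_lift C.θ T θT hθT
  exact ext_of_isSchemeTheoreticallyDominant_of_isSeparated s huv θT (h θT hθT)

/-- `T i = π⁻¹(Uo i)` -/
noncomputable abbrev T (i : Fin (C.r + 1)) : C.X'.Opens := C.π ⁻¹ᵁ C.Uo i

theorem range_θ_subset_T (i) : Set.range C.θ ⊆ (C.T i : Set C.X') := by
  rintro _ ⟨x, rfl⟩
  change C.π (C.θ x) ∈ C.Uo i
  rw [← Scheme.Hom.comp_apply, C.θ_π]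
  exact C.U_le i x.2

/-- (e1) on `π⁻¹(Uo i)` the `i`-th component of `φ` is `t i ∘ π` -/
theorem e1 (i) : (C.T i).ι ≫ C.φ ≫ C.D.π i = (C.π ∣_ C.Uo i) ≫ C.t i := by
  refine C.ext_of_θ (C.T i) (C.range_θ_subset_T i) (C.q i) _ _ ?_ ?_
  · simp only [Category.assoc]
    rw [C.D.π_comp i, C.ht i, ← pullback.condition, morphismRestrict_ι_assoc]
    rfl
  · intro θT hθT
    have h1 : θT ≫ (C.π ∣_ C.Uo i) = X.homOfLE (C.U_le i) := by
      rw [← cancel_mono (C.Uo i).ι, Category.assoc, morphismRestrict_ι, ← Category.assoc, hθT, C.θ_π,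
        Scheme.homOfLE_ι]
    rw [← Category.assoc, hθT, ← Category.assoc, C.θ_φ, C.φ₀_π, ← Category.assoc, h1]
    rfl

/-- the chart `V i ⊆ Q` -/
noncomputable abbrev V (i : Fin (C.r + 1)) : C.D.pt.Opens := C.D.π i ⁻¹ᵁ (C.t i).opensRange

/-- `W i = φ⁻¹(V i)` -/
noncomputable abbrev W (i : Fin (C.r + 1)) : C.X'.Opens := C.φ ⁻¹ᵁ C.V i

theorem T_le_W (i) : C.T i ≤ C.W i := by
  intro x hx
  change C.D.π i (C.φ x) ∈ Set.range (C.t i)
  have h1 := congrArg (fun g => g ⟨x, hx⟩) (congrArg (fun g : (C.T i).toScheme ⟶ C.P i => ⇑g) (C.e1 i))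
  exact ⟨_, h1.symm⟩

theorem iSup_W : ⨆ i, C.W i = ⊤ := by
  rw [eq_top_iff]
  intro x _
  have hx : C.π x ∈ (⨆ i, C.Uo i : X.Opens) := by rw [C.cov]; trivial
  rw [Opens.mem_iSup] at hx ⊢
  obtain ⟨i, hi⟩ := hx
  exact ⟨i, C.T_le_W i hi⟩

theorem range_θ_subset_W (i) : Set.range C.θ ⊆ (C.W i : Set C.X') :=
  (C.range_θ_subset_T i).trans (C.T_le_W i)

theorem range_V_subset (i) : Set.range ((C.V i).ι ≫ C.D.π i) ⊆ Set.range (C.t i) := by
  rintro _ ⟨y, rfl⟩
  exact y.2

/-- `V i ⟶ Uo i` -/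
noncomputable def ℓ (i) : (C.V i).toScheme ⟶ (C.Uo i).toScheme :=
  IsOpenImmersion.lift (C.t i) ((C.V i).ι ≫ C.D.π i) (C.range_V_subset i)

theorem ℓ_t (i) : C.ℓ i ≫ C.t i = (C.V i).ι ≫ C.D.π i := IsOpenImmersion.lift_fac _ _ _

/-- `V i ⟶ X` -/
noncomputable def g (i) : (C.V i).toScheme ⟶ X := C.ℓ i ≫ (C.Uo i).ι

theorem g_f (i) : C.g i ≫ C.f = (C.V i).ι ≫ C.D.hom := by
  rw [g, Category.assoc, ← C.ht i, ← Category.assoc, C.ℓ_t, Category.assoc, C.D.π_comp i]

/-- `V i ⟶ Y`, the graph of `g i` -/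
noncomputable def γ (i) : (C.V i).toScheme ⟶ C.Y := pullback.lift (C.g i) (C.V i).ι (C.g_f i)

/-- (e2) on `W i` the projection `π` factors through `V i` -/
theorem e2 (i) : (C.φ ∣_ C.V i) ≫ C.g i = (C.W i).ι ≫ C.π := by
  refine C.ext_of_θ (C.W i) (C.range_θ_subset_W i) C.f _ _ ?_ ?_
  · rw [Category.assoc, C.g_f, morphismRestrict_ι_assoc]
    simp only [Category.assoc]
    rw [pullback.condition]
  · intro θT hθT
    have h1 : θT ≫ (C.φ ∣_ C.V i) ≫ C.ℓ i = X.homOfLE (C.U_le i) := by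
      rw [← cancel_mono (C.t i), Category.assoc, Category.assoc, C.ℓ_t, morphismRestrict_ι_assoc,
        ← Category.assoc, hθT, ← Category.assoc, C.θ_φ, C.φ₀_π]
      rfl
    rw [g, ← Category.assoc, ← Category.assoc, Category.assoc θT, h1, Scheme.homOfLE_ι,
      ← Category.assoc, hθT, C.θ_π]

theorem restrict_γ (i) : (C.φ ∣_ C.V i) ≫ C.γ i = (C.W i).ι ≫ C.ι' := by
  refine pullback.hom_ext ?_ ?_
  · rw [Category.assoc, γ, pullback.lift_fst, C.e2 i, Category.assoc]
  · rw [Category.assoc, γ, pullback.lift_snd, morphismRestrict_ι, Category.assoc]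

theorem isImmersion_restrict (i) : IsImmersion (C.φ ∣_ C.V i) := by
  have : IsImmersion ((C.φ ∣_ C.V i) ≫ C.γ i) := by
    rw [C.restrict_γ i]
    infer_instance
  exact IsImmersion.of_comp (C.φ ∣_ C.V i) (C.γ i)

theorem isImmersion_φ : IsImmersion C.φ := by
  have : MorphismProperty.RespectsRight @IsImmersion @IsOpenImmersion :=
    ⟨fun i hi f hf => by haveI := hi; haveI := hf; infer_instance⟩
  refine IsZariskiLocalAtTarget.of_range_subset_iSup (P := @IsImmersion) C.V ?_ C.isImmersion_restrict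
  rintro _ ⟨x, rfl⟩
  have hx : x ∈ (⨆ i, C.W i : C.X'.Opens) := by rw [C.iSup_W]; trivial
  rw [Opens.mem_iSup] at hx
  obtain ⟨i, hi⟩ := hx
  exact Opens.mem_iSup.mpr ⟨i, hi⟩

theorem isClosedImmersion_φ [IsProper C.f] : IsClosedImmersion C.φ := by
  have := C.isImmersion_φ
  have : IsProper (pullback.snd C.f C.D.hom) := inferInstance
  have : IsProper C.φ := inferInstance
  exact IsClosedImmersion.of_isPreimmersion C.φ C.φ.isClosedMap.isClosed_range

theorem isProper_π [IsProper C.D.hom] : IsProper C.π := inferInstance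

theorem surjective_π [IsProper C.D.hom] (hU : Dense (C.U : Set X)) : Function.Surjective C.π := by
  have := C.isProper_π
  have hcl : IsClosed (Set.range C.π) := C.π.isClosedMap.isClosed_range
  have hsub : (C.U : Set X) ⊆ Set.range C.π := by
    intro x hx
    have h2 : ∀ y : C.U.toScheme, C.π (C.θ y) = C.U.ι y := fun y => by
      rw [← Scheme.Hom.comp_apply, C.θ_π]
    exact ⟨C.θ (⟨x, hx⟩ : C.U), h2 _⟩
  have h1 : Set.range C.π = Set.univ := by
    rw [← hcl.closure_eq]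
    exact Set.eq_univ_of_univ_subset (hU.closure_eq ▸ closure_mono hsub)
  exact Set.range_eq_univ.mp h1

end ChowData

end Groth.Agent.Lib.ChowGen85
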