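import Groth.Agent.Lib.H90Segre2

/-!
# The Segre embedding over an arbitrary base scheme (helper90, ProperFin P1): S1616
-/

set_option autoImplicit false
universe u
open CategoryTheory CategoryTheory.Limits AlgebraicGeometry

namespace Groth.Agent.Lib.H90Segre

/-- base change of a map between fibre products: the categorical core of S1616 -/
theorem isPullback_baseChange_prod {C : Type*} [Category C] {Z S Pn Pm PN A B E W CC : C}
    {qn : Pn ⟶ Z} {qm : Pm ⟶ Z} {qN : PN ⟶ Z} {t : S ⟶ Z}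
    {a₁ : A ⟶ Pn} {a₂ : A ⟶ S} (hA : IsPullback a₁ a₂ qn t)
    {b₁ : B ⟶ Pm} {b₂ : B ⟶ S} (hB : IsPullback b₁ b₂ qm t)
    {e₁ : E ⟶ A} {e₂ : E ⟶ B} (hE : IsPullback e₁ e₂ a₂ b₂)
    {p₁ : W ⟶ Pn} {p₂ : W ⟶ Pm} (hW : IsPullback p₁ p₂ qn qm)
    {c₁ : CC ⟶ PN} {c₂ : CC ⟶ S} (hC : IsPullback c₁ c₂ qN t)
    (σ : W ⟶ PN) (hσ : σ ≫ qN = p₁ ≫ qn)
    (ψ : E ⟶ W) (hψ₁ : ψ ≫ p₁ = e₁ ≫ a₁) (hψ₂ : ψ ≫ p₂ = e₂ ≫ b₁)
    (φ : E ⟶ CC) (hφ₁ : φ ≫ c₁ = ψ ≫ σ) (hφ₂ : φ ≫ c₂ = e₁ ≫ a₂) :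
    IsPullback φ ψ c₁ σ := by
  have s1 : IsPullback (e₂ ≫ b₁) e₁ qm (a₂ ≫ t) := hE.flip.paste_horiz hB
  have s1' : IsPullback (ψ ≫ p₂) e₁ qm (a₁ ≫ qn) := by
    rw [hψ₂, hA.w]
    exact s1
  have s2 : IsPullback ψ e₁ p₁ a₁ := s1'.of_right hψ₁ hW.flip
  have s3 : IsPullback ψ (e₁ ≫ a₂) (p₁ ≫ qn) t := s2.paste_vert hA
  have s3' : IsPullback (φ ≫ c₂) ψ t (σ ≫ qN) := by
    rw [hφ₂, hσ]
    exact s3.flip
  exact s3'.of_right hφ₁ hC.flip

/-- **S1616**: the Segre embedding over an arbitrary base scheme. -/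
theorem exists_segre_over (S : Scheme.{u}) (n m : ℕ) :
    ∃ φ : pullback (CohB1.ProjSpaceOver.toBase n S) (CohB1.ProjSpaceOver.toBase m S) ⟶
        CohB1.ProjSpaceOver (n * m + n + m) S,
      IsClosedImmersion φ ∧ φ ≫ CohB1.ProjSpaceOver.toBase (n * m + n + m) S =
        pullback.fst (CohB1.ProjSpaceOver.toBase n S) (CohB1.ProjSpaceOver.toBase m S) ≫
          CohB1.ProjSpaceOver.toBase n S := by
  let R := ULift.{u} ℤ
  let t : S ⟶ Spec (CommRingCat.of R) := specULiftZIsTerminal.from S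
  have hA : IsPullback (pullback.fst (tS n R) t) (pullback.snd (tS n R) t) (tS n R) t :=
    IsPullback.of_hasPullback _ _
  have hB : IsPullback (pullback.fst (tS m R) t) (pullback.snd (tS m R) t) (tS m R) t :=
    IsPullback.of_hasPullback _ _
  have hC : IsPullback (pullback.fst (tS (NN n m) R) t) (pullback.snd (tS (NN n m) R) t)
      (tS (NN n m) R) t := IsPullback.of_hasPullback _ _
  have hE : IsPullback (pullback.fst (pullback.snd (tS n R) t) (pullback.snd (tS m R) t))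
      (pullback.snd (pullback.snd (tS n R) t) (pullback.snd (tS m R) t))
      (pullback.snd (tS n R) t) (pullback.snd (tS m R) t) := IsPullback.of_hasPullback _ _
  have hW : IsPullback (pr₁ n m R) (pr₂ n m R) (tS n R) (tS m R) := IsPullback.of_hasPullback _ _
  let ψ : pullback (pullback.snd (tS n R) t) (pullback.snd (tS m R) t) ⟶ W n m R :=
    pullback.lift (pullback.fst _ _ ≫ pullback.fst (tS n R) t) (pullback.snd _ _ ≫ pullback.fst (tS m R) t)
      (by rw [Category.assoc, Category.assoc, hA.w, hB.w, ← Category.assoc, ← Category.assoc, hE.w])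
  have hψ₁ : ψ ≫ pr₁ n m R = pullback.fst _ _ ≫ pullback.fst (tS n R) t := pullback.lift_fst _ _ _
  have hψ₂ : ψ ≫ pr₂ n m R = pullback.snd _ _ ≫ pullback.fst (tS m R) t := pullback.lift_snd _ _ _
  let φ : pullback (pullback.snd (tS n R) t) (pullback.snd (tS m R) t) ⟶ pullback (tS (NN n m) R) t :=
    pullback.lift (ψ ≫ segre n m R) (pullback.fst _ _ ≫ pullback.snd (tS n R) t)
      (by rw [Category.assoc, segre_tS, ← Category.assoc, hψ₁, Category.assoc, hA.w, Category.assoc])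
  have hφ₁ : φ ≫ pullback.fst (tS (NN n m) R) t = ψ ≫ segre n m R := pullback.lift_fst _ _ _
  have hφ₂ : φ ≫ pullback.snd (tS (NN n m) R) t = pullback.fst _ _ ≫ pullback.snd (tS n R) t :=
    pullback.lift_snd _ _ _
  have key : IsPullback φ ψ (pullback.fst (tS (NN n m) R) t) (segre n m R) :=
    isPullback_baseChange_prod hA hB hE hW hC (segre n m R) (segre_tS n m R) ψ hψ₁ hψ₂ φ hφ₁ hφ₂
  have hcl : IsClosedImmersion φ :=
    MorphismProperty.of_isPullback (P := @IsClosedImmersion) key.flip (isClosedImmersion_segre n m R)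
  exact ⟨φ, hcl, hφ₂⟩

end Groth.Agent.Lib.H90Segre
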