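/-
# H-quasi-projective vs quasi-projective (helper3; EGA II 5.3 / S9712)

* `projSpaceOverMap n b : P^n_{T₁} ⟶ P^n_{T₂}` for `b : T₁ ⟶ T₂`, iso when `b` is;
* `isHQuasiProjective_of_arrowIso`: `RelProj.IsHQuasiProjective` is invariant under isomorphisms of arrows;
* `isHQuasiProjective_of_isAmple`: `T` affine, `g : Y ⟶ T` of finite type, `M` ample on `Y` ⇒ `g` H-quasi-projective;
* `isQuasiProjective_of_isHQuasiProjective`;
* `locally_iff` = S9712.
-/
import Groth.Agent.Lib.VeryAmplePowH3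
import Groth.Agent.Lib.VeryAmpleRelH3
import Groth.Agent.Lib.VeryAmpleProjH3
import Groth.Prelude.Def_RelProj

set_option autoImplicit false
set_option linter.style.haveILetI false
universe u
open CategoryTheory CategoryTheory.Limits AlgebraicGeometry TopologicalSpace Opposite
open Groth.Agent.Lib.VeryAmpleH3

namespace Groth.Agent.Lib.HQuasiProjH3

section Map

variable (n : ℕ) {T₁ T₂ T₃ : Scheme.{u}}

theorem fstP_comp_toSpec (T : Scheme.{u}) :
    fstP n T ≫ (CohB1.ProjSpace.toSpec n ZZ.{u} : Proj (CohB1.polyGrading n ZZ.{u}) ⟶ _) =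
      sndP n T ≫ specULiftZIsTerminal.from T :=
  pullback.condition

theorem projSpaceOver_hom_ext {Z T : Scheme.{u}} {a b : Z ⟶ CohB1.ProjSpaceOver n T}
    (h1 : a ≫ fstP n T = b ≫ fstP n T) (h2 : a ≫ sndP n T = b ≫ sndP n T) : a = b :=
  pullback.hom_ext h1 h2

/-- functoriality of `P^n_S` in the base -/
noncomputable def projSpaceOverMap (b : T₁ ⟶ T₂) : CohB1.ProjSpaceOver n T₁ ⟶ CohB1.ProjSpaceOver n T₂ :=
  pullback.lift (fstP n T₁) (sndP n T₁ ≫ b) (by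
    have h := fstP_comp_toSpec n T₁
    rw [Category.assoc]
    refine h.trans ?_
    congr 1
    exact specULiftZIsTerminal.hom_ext _ _)

@[reassoc]
theorem projSpaceOverMap_fst (b : T₁ ⟶ T₂) : projSpaceOverMap n b ≫ fstP n T₂ = fstP n T₁ :=
  pullback.lift_fst _ _ _

@[reassoc]
theorem projSpaceOverMap_snd (b : T₁ ⟶ T₂) : projSpaceOverMap n b ≫ sndP n T₂ = sndP n T₁ ≫ b :=
  pullback.lift_snd _ _ _

theorem projSpaceOverMap_id : projSpaceOverMap n (𝟙 T₁) = 𝟙 _ := by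
  apply projSpaceOver_hom_ext
  · rw [projSpaceOverMap_fst, Category.id_comp]
  · rw [projSpaceOverMap_snd, Category.id_comp, Category.comp_id]

theorem projSpaceOverMap_comp (b : T₁ ⟶ T₂) (c : T₂ ⟶ T₃) :
    projSpaceOverMap n (b ≫ c) = projSpaceOverMap n b ≫ projSpaceOverMap n c := by
  apply projSpaceOver_hom_ext
  · rw [projSpaceOverMap_fst, Category.assoc, projSpaceOverMap_fst, projSpaceOverMap_fst]
  · rw [projSpaceOverMap_snd, Category.assoc, projSpaceOverMap_snd, projSpaceOverMap_snd_assoc]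

instance (b : T₁ ⟶ T₂) [IsIso b] : IsIso (projSpaceOverMap n b) :=
  ⟨projSpaceOverMap n (inv b), by
    rw [← projSpaceOverMap_comp, IsIso.hom_inv_id, projSpaceOverMap_id], by
    rw [← projSpaceOverMap_comp, IsIso.inv_hom_id, projSpaceOverMap_id]⟩

end Map

/-- H-quasi-projectivity is invariant under isomorphism of arrows -/
theorem isHQuasiProjective_of_arrowIso {Y₁ T₁ Y₂ T₂ : Scheme.{u}} {g₁ : Y₁ ⟶ T₁} {g₂ : Y₂ ⟶ T₂}
    (e : Arrow.mk g₁ ≅ Arrow.mk g₂) (h : RelProj.IsHQuasiProjective g₁) : RelProj.IsHQuasiProjective g₂ := by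
  obtain ⟨n, i, himm, hqc, hi⟩ := h
  have hw : e.hom.left ≫ g₂ = g₁ ≫ e.hom.right := e.hom.w
  haveI : IsIso (e.hom.left : Y₁ ⟶ Y₂) := inferInstanceAs (IsIso e.hom.left)
  haveI : IsIso (e.hom.right : T₁ ⟶ T₂) := inferInstanceAs (IsIso e.hom.right)
  refine ⟨n, inv (e.hom.left : Y₁ ⟶ Y₂) ≫ i ≫ projSpaceOverMap n (e.hom.right : T₁ ⟶ T₂), inferInstance, inferInstance, ?_⟩
  change (inv (e.hom.left : Y₁ ⟶ Y₂) ≫ i ≫ projSpaceOverMap n (e.hom.right : T₁ ⟶ T₂)) ≫ sndP n T₂ = g₂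
  have hi' : i ≫ sndP n T₁ = g₁ := hi
  rw [Category.assoc, Category.assoc, projSpaceOverMap_snd, reassoc_of% hi', ← hw, IsIso.inv_hom_id_assoc]

/-- over an affine base, finite type + ample ⇒ H-quasi-projective -/
theorem isHQuasiProjective_of_isAmple {Y T : Scheme.{u}} [IsAffine T] (g : Y ⟶ T) [LocallyOfFiniteType g]
    [QuasiCompact g] {M : Y.Modules} (hM : CohB1.IsAmple M) : RelProj.IsHQuasiProjective g := by
  obtain ⟨n₀, hn₀⟩ := Groth.Agent.Lib.VeryAmplePowH3.exists_forall_isRelVeryAmplePn_tensorPow g hM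
  obtain ⟨n, i, himm, hi, -⟩ := hn₀ n₀ le_rfl
  have hi' : i ≫ sndP n T = g := hi
  refine ⟨n, i, himm, ?_, hi'⟩
  haveI : QuasiCompact (i ≫ sndP n T) := by rw [hi']; infer_instance
  exact QuasiCompact.of_comp i (sndP n T)

/-- H-quasi-projective ⇒ quasi-projective (any base) -/
theorem isQuasiProjective_of_isHQuasiProjective {Y T : Scheme.{u}} {g : Y ⟶ T}
    (h : RelProj.IsHQuasiProjective g) : RelProj.IsQuasiProjective g := by
  obtain ⟨n, i, himm, hqc, hi⟩ := h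
  have hi' : i ≫ sndP n T = g := hi
  subst hi'
  refine ⟨inferInstance, inferInstance, (Scheme.Modules.pullback i).obj (Twist.twistOver n T 1), ?_⟩
  exact Groth.Agent.Lib.VeryAmpleRelH3.isRelAmple_of_isRelVeryAmplePn _ ⟨n, i, himm, rfl, ⟨Iso.refl _⟩⟩

/-- **S9712** -/
theorem locally_iff {X S : Scheme.{u}} (f : X ⟶ S) :
    (∀ s : S, ∃ U : S.Opens, s ∈ U ∧ RelProj.IsQuasiProjective (f ∣_ U)) ↔
      (∀ s : S, ∃ U : S.Opens, s ∈ U ∧ RelProj.IsHQuasiProjective (f ∣_ U)) := by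
  constructor
  · intro h s
    obtain ⟨U, hsU, hlft, hqc, L, hL⟩ := h s
    obtain ⟨V, hV, hsV, -⟩ := Opens.isBasis_iff_nbhd.1 U.toScheme.isBasis_affineOpens
      (show (⟨s, hsU⟩ : U.toScheme) ∈ (⊤ : U.toScheme.Opens) from trivial)
    refine ⟨U.ι ''ᵁ V, ⟨⟨s, hsU⟩, hsV, rfl⟩, ?_⟩
    haveI : IsAffine ((V : U.toScheme.Opens) : Scheme.{u}) := hV
    have hM := hL.2 ⟨V, hV⟩
    have h1 : RelProj.IsHQuasiProjective ((f ∣_ U) ∣_ V) := isHQuasiProjective_of_isAmple _ hM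
    exact isHQuasiProjective_of_arrowIso (morphismRestrictRestrict f U V) h1
  · intro h s
    obtain ⟨U, hsU, hU⟩ := h s
    exact ⟨U, hsU, isQuasiProjective_of_isHQuasiProjective hU⟩

end Groth.Agent.Lib.HQuasiProjH3
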