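import Groth.Agent.Lib.ChowGen85a
import Groth.Agent.Lib.H90Segre3
import Groth.Agent.Lib.AffineFTImm
import Groth.Agent.Lib.HQuasiProjH3
import Groth.Agent.Lib.ProjOfAmpleH3
import Groth.Agent.Lib.ProjSpaceProper

/-!
# General Chow lemma, part 2 (helper85): projective spaces over a base scheme

* `isPullback_projSpaceOverMap`, `isOpenImmersion_projSpaceOverMap`;
* `exists_finProd_segre_over`: finite fibre products of closed subschemes of `P^n_S` embed in `P^N_S`;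
* `sec n b S : S ⟶ P^n_S`: the sections with affine coordinates `b`.
-/

set_option autoImplicit false
universe u
open CategoryTheory CategoryTheory.Limits AlgebraicGeometry TopologicalSpace CohB1
open Groth.Agent.Lib.ProjProd Groth.Agent.Lib.VeryAmpleH3 Groth.Agent.Lib.HQuasiProjH3

namespace Groth.Agent.Lib.ChowGen85

section Map

variable (n : ℕ) {T₁ T₂ : Scheme.{u}} (b : T₁ ⟶ T₂)

theorem isPullback_projSpaceOverMap :
    IsPullback (projSpaceOverMap n b) (ProjSpaceOver.toBase n T₁) (ProjSpaceOver.toBase n T₂) b := by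
  have t : IsPullback (pullback.fst (CohB1.ProjSpace.toSpec n (ULift.{u} ℤ))
        (specULiftZIsTerminal.from T₂)) (CohB1.ProjSpaceOver.toBase n T₂)
      (CohB1.ProjSpace.toSpec n (ULift.{u} ℤ)) (specULiftZIsTerminal.from T₂) :=
    IsPullback.of_hasPullback _ _
  have s : IsPullback (pullback.fst (CohB1.ProjSpace.toSpec n (ULift.{u} ℤ))
        (specULiftZIsTerminal.from T₁)) (CohB1.ProjSpaceOver.toBase n T₁)
      (CohB1.ProjSpace.toSpec n (ULift.{u} ℤ)) (b ≫ specULiftZIsTerminal.from T₂) := by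
    have h : b ≫ specULiftZIsTerminal.from T₂ = specULiftZIsTerminal.from T₁ :=
      specULiftZIsTerminal.hom_ext _ _
    rw [h]
    exact IsPullback.of_hasPullback _ _
  have s' : IsPullback (projSpaceOverMap n b ≫ pullback.fst (CohB1.ProjSpace.toSpec n (ULift.{u} ℤ))
        (specULiftZIsTerminal.from T₂)) (CohB1.ProjSpaceOver.toBase n T₁)
      (CohB1.ProjSpace.toSpec n (ULift.{u} ℤ)) (b ≫ specULiftZIsTerminal.from T₂) := by
    have e : projSpaceOverMap n b ≫ pullback.fst (CohB1.ProjSpace.toSpec n (ULift.{u} ℤ))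
        (specULiftZIsTerminal.from T₂) = pullback.fst (CohB1.ProjSpace.toSpec n (ULift.{u} ℤ))
        (specULiftZIsTerminal.from T₁) := projSpaceOverMap_fst n b
    rw [e]
    exact s
  exact IsPullback.of_right s' (projSpaceOverMap_snd n b) t

instance isOpenImmersion_projSpaceOverMap [IsOpenImmersion b] :
    IsOpenImmersion (projSpaceOverMap n b) :=
  MorphismProperty.of_isPullback (P := @IsOpenImmersion) (isPullback_projSpaceOverMap n b).flip
    inferInstance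

theorem projSpaceOverMap_toBase :
    projSpaceOverMap n b ≫ ProjSpaceOver.toBase n T₂ = ProjSpaceOver.toBase n T₁ ≫ b :=
  (isPullback_projSpaceOverMap n b).w

end Map

section Segre

local instance : MorphismProperty.IsStableUnderComposition (@IsClosedImmersion.{u}) :=
  MorphismProperty.IsMultiplicative.toIsStableUnderComposition

/-- **Finite products of projective `S`-schemes are projective**. -/
theorem exists_finProd_segre_over (S : Scheme.{u}) :
    ∀ (r : ℕ) (P : Fin (r + 1) → Scheme.{u}) (q : ∀ i, P i ⟶ S)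
      (n : Fin (r + 1) → ℕ) (c : ∀ i, P i ⟶ ProjSpaceOver (n i) S),
      (∀ i, IsClosedImmersion (c i)) → (∀ i, c i ≫ ProjSpaceOver.toBase (n i) S = q i) →
      ∃ (D : FinProd P q) (N : ℕ) (σ : D.pt ⟶ ProjSpaceOver N S),
        IsClosedImmersion σ ∧ σ ≫ ProjSpaceOver.toBase N S = D.hom := by
  intro r
  induction r with
  | zero =>
    intro P q n c hc hcq
    exact ⟨single P q, n 0, c 0, hc 0, (hcq 0).trans (single_hom P q).symm⟩
  | succ r ih =>
    intro P q n c hc hcq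
    obtain ⟨D', N', σ', hσ', hσq'⟩ := ih (fun i => P i.succ) (fun i => q i.succ)
      (fun i => n i.succ) (fun i => c i.succ) (fun i => hc i.succ) (fun i => hcq i.succ)
    obtain ⟨φ, hφ, hφq⟩ := Groth.Agent.Lib.H90Segre.exists_segre_over S (n 0) N'
    refine ⟨step P q D', n 0 * N' + n 0 + N',
      pullback.map (q 0) D'.hom (ProjSpaceOver.toBase (n 0) S) (ProjSpaceOver.toBase N' S) (c 0) σ'
        (𝟙 _)
        ((Category.comp_id _).trans (hcq 0).symm) ((Category.comp_id _).trans hσq'.symm) ≫ φ,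
      ?_, ?_⟩
    · have := hc 0
      have : IsClosedImmersion (pullback.map (q 0) D'.hom (ProjSpaceOver.toBase (n 0) S)
          (ProjSpaceOver.toBase N' S) (c 0) σ' (𝟙 _)
          ((Category.comp_id _).trans (hcq 0).symm) ((Category.comp_id _).trans hσq'.symm)) :=
        MorphismProperty.pullbackMap (P := @IsClosedImmersion.{u}) (hc 0) hσ' (hcq 0).symm hσq'.symm
      exact @IsClosedImmersion.comp _ _ _ _ _ this hφ
    · change (pullback.map (q 0) D'.hom (ProjSpaceOver.toBase (n 0) S) (ProjSpaceOver.toBase N' S)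
          (c 0) σ' (𝟙 _) _ _ ≫ φ) ≫ ProjSpaceOver.toBase (n 0 * N' + n 0 + N') S =
          pullback.fst _ _ ≫ q 0
      rw [Category.assoc, hφq]
      erw [pullback.lift_fst_assoc]
      rw [Category.assoc, hcq 0]

end Segre

section Sections

variable (n : ℕ)

/-- a section of `P^n_S ⟶ S` from a `ℤ`-point of `P^n_ℤ` -/
noncomputable def secOf (ε : Spec (CommRingCat.of (ULift.{u} ℤ)) ⟶ ProjSpace n (ULift.{u} ℤ))
    (hε : ε ≫ ProjSpace.toSpec n (ULift.{u} ℤ) = 𝟙 _) (S : Scheme.{u}) : S ⟶ ProjSpaceOver n S :=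
  pullback.lift (specULiftZIsTerminal.from S ≫ ε) (𝟙 S)
    (by rw [Category.assoc, hε, Category.comp_id, Category.id_comp])

variable (ε : Spec (CommRingCat.of (ULift.{u} ℤ)) ⟶ ProjSpace n (ULift.{u} ℤ))
    (hε : ε ≫ ProjSpace.toSpec n (ULift.{u} ℤ) = 𝟙 _) (S : Scheme.{u})

@[reassoc (attr := simp)]
lemma secOf_toBase : secOf n ε hε S ≫ ProjSpaceOver.toBase n S = 𝟙 S :=
  pullback.lift_snd _ _ _

@[reassoc]
lemma secOf_fst : secOf n ε hε S ≫ pullback.fst (ProjSpace.toSpec n (ULift.{u} ℤ))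
    (specULiftZIsTerminal.from S) = specULiftZIsTerminal.from S ≫ ε :=
  pullback.lift_fst _ _ _

instance : IsClosedImmersion (secOf n ε hε S) := by
  have : IsProper (ProjSpaceOver.toBase n S) := Groth.Agent.Lib.ProjSpaceProper.isProper_toBase n S
  have : IsClosedImmersion (secOf n ε hε S ≫ ProjSpaceOver.toBase n S) := by
    rw [secOf_toBase]; infer_instance
  exact IsClosedImmersion.of_comp (secOf n ε hε S) (ProjSpaceOver.toBase n S)

/-- the zero section -/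
noncomputable def zeroZ : Spec (CommRingCat.of (ULift.{u} ℤ)) ⟶ ProjSpace n (ULift.{u} ℤ) :=
  Groth.Agent.Lib.AffineFTImm.imm (ULift.{u} ℤ) (B := ULift.{u} ℤ) n (fun _ => 0)

lemma zeroZ_toSpec : zeroZ n ≫ ProjSpace.toSpec n (ULift.{u} ℤ) = 𝟙 _ := by
  refine (Groth.Agent.Lib.AffineFTImm.imm_toSpec (ULift.{u} ℤ) (B := ULift.{u} ℤ) n
    (fun _ => 0)).trans ?_
  have : CommRingCat.ofHom (algebraMap (ULift.{u} ℤ) (ULift.{u} ℤ)) = 𝟙 _ := rfl
  rw [this, Spec.map_id]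

/-- the zero section of `P^n_S` -/
noncomputable def zeroSec : S ⟶ ProjSpaceOver n S := secOf n (zeroZ n) (zeroZ_toSpec n) S

end Sections

section TwoPoints

abbrev ZZ' := ULift.{u} ℤ

/-- the closed immersion of two points `Spec (ℤ × ℤ)` in `P^1_ℤ` -/
noncomputable def twoPt : Spec (CommRingCat.of (ZZ'.{u} × ZZ'.{u})) ⟶ ProjSpace 1 ZZ'.{u} :=
  Groth.Agent.Lib.AffineFTImm.imm ZZ'.{u} (B := ZZ'.{u} × ZZ'.{u}) 1 (fun _ => (0, 1))

lemma adjoin_twoPt :
    Algebra.adjoin ZZ'.{u} (Set.range (fun _ : Fin 1 => ((0, 1) : ZZ'.{u} × ZZ'.{u}))) = ⊤ := by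
  rw [eq_top_iff]
  rintro ⟨a, b⟩ -
  have h1 : ((0, 1) : ZZ'.{u} × ZZ'.{u}) ∈
      Algebra.adjoin ZZ'.{u} (Set.range (fun _ : Fin 1 => ((0, 1) : ZZ'.{u} × ZZ'.{u}))) :=
    Algebra.subset_adjoin ⟨0, rfl⟩
  have h2 : ((a, b) : ZZ'.{u} × ZZ'.{u}) = algebraMap ZZ'.{u} (ZZ'.{u} × ZZ'.{u}) a +
      (b - a) • ((0, 1) : ZZ'.{u} × ZZ'.{u}) := by
    ext <;> simp
  rw [h2]
  exact Subalgebra.add_mem _ (Subalgebra.algebraMap_mem _ _) (Subalgebra.smul_mem _ h1 _)

instance : IsImmersion twoPt.{u} :=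
  Groth.Agent.Lib.AffineFTImm.isImmersion_imm ZZ'.{u} (B := ZZ'.{u} × ZZ'.{u}) 1 _ adjoin_twoPt

lemma twoPt_toSpec : twoPt.{u} ≫ ProjSpace.toSpec 1 ZZ'.{u} =
    Spec.map (CommRingCat.ofHom (algebraMap ZZ'.{u} (ZZ'.{u} × ZZ'.{u}))) :=
  Groth.Agent.Lib.AffineFTImm.imm_toSpec ZZ'.{u} (B := ZZ'.{u} × ZZ'.{u}) 1 _

/-- the point `0` of `P^1_ℤ` -/
noncomputable def pt0 : Spec (CommRingCat.of ZZ'.{u}) ⟶ ProjSpace 1 ZZ'.{u} :=
  Spec.map (CommRingCat.ofHom (RingHom.fst ZZ'.{u} ZZ'.{u})) ≫ twoPt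

/-- the point `1` of `P^1_ℤ` -/
noncomputable def pt1 : Spec (CommRingCat.of ZZ'.{u}) ⟶ ProjSpace 1 ZZ'.{u} :=
  Spec.map (CommRingCat.ofHom (RingHom.snd ZZ'.{u} ZZ'.{u})) ≫ twoPt

lemma pt0_toSpec : pt0.{u} ≫ ProjSpace.toSpec 1 ZZ'.{u} = 𝟙 _ := by
  unfold pt0
  rw [Category.assoc, twoPt_toSpec, ← Spec.map_comp]
  have : CommRingCat.ofHom (algebraMap ZZ'.{u} (ZZ'.{u} × ZZ'.{u})) ≫
      CommRingCat.ofHom (RingHom.fst ZZ'.{u} ZZ'.{u}) = 𝟙 _ := rfl
  rw [this, Spec.map_id]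

lemma pt1_toSpec : pt1.{u} ≫ ProjSpace.toSpec 1 ZZ'.{u} = 𝟙 _ := by
  unfold pt1
  rw [Category.assoc, twoPt_toSpec, ← Spec.map_comp]
  have : CommRingCat.ofHom (algebraMap ZZ'.{u} (ZZ'.{u} × ZZ'.{u})) ≫
      CommRingCat.ofHom (RingHom.snd ZZ'.{u} ZZ'.{u}) = 𝟙 _ := rfl
  rw [this, Spec.map_id]

lemma pt0_ne_pt1 (x y : Spec (CommRingCat.of ZZ'.{u})) : pt0.{u} x ≠ pt1.{u} y := by
  intro h
  have hinj : Function.Injective twoPt.{u} := twoPt.{u}.isEmbedding.injective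
  have h' : Spec.map (CommRingCat.ofHom (RingHom.fst ZZ'.{u} ZZ'.{u})) x =
      Spec.map (CommRingCat.ofHom (RingHom.snd ZZ'.{u} ZZ'.{u})) y := hinj h
  have h0 : ((0, 1) : ZZ'.{u} × ZZ'.{u}) ∈
      (Spec.map (CommRingCat.ofHom (RingHom.fst ZZ'.{u} ZZ'.{u})) x).asIdeal := by
    change RingHom.fst ZZ'.{u} ZZ'.{u} (0, 1) ∈ x.asIdeal
    simp
  have h1 : ((1, 0) : ZZ'.{u} × ZZ'.{u}) ∈
      (Spec.map (CommRingCat.ofHom (RingHom.snd ZZ'.{u} ZZ'.{u})) y).asIdeal := by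
    change RingHom.snd ZZ'.{u} ZZ'.{u} (1, 0) ∈ y.asIdeal
    simp
  rw [← h'] at h1
  have h2 := Ideal.add_mem _ h0 h1
  have h3 : ((0, 1) : ZZ'.{u} × ZZ'.{u}) + (1, 0) = 1 := by ext <;> simp
  rw [h3] at h2
  exact (Spec.map (CommRingCat.ofHom (RingHom.fst ZZ'.{u} ZZ'.{u})) x).isPrime.ne_top
    ((Ideal.eq_top_iff_one _).mpr h2)

variable (S : Scheme.{u})

/-- the section `0` of `P^1_S` -/
noncomputable def sec0 : S ⟶ ProjSpaceOver 1 S := secOf 1 pt0 pt0_toSpec S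

/-- the section `1` of `P^1_S` -/
noncomputable def sec1 : S ⟶ ProjSpaceOver 1 S := secOf 1 pt1 pt1_toSpec S

instance : IsClosedImmersion (sec0 S) :=
  inferInstanceAs (IsClosedImmersion (secOf 1 pt0 pt0_toSpec S))

instance : IsClosedImmersion (sec1 S) :=
  inferInstanceAs (IsClosedImmersion (secOf 1 pt1 pt1_toSpec S))

lemma sec0_ne_sec1 (s s' : S) : sec0 S s ≠ sec1 S s' := by
  intro h
  have e0 : (secOf 1 pt0 pt0_toSpec S ≫ pullback.fst (ProjSpace.toSpec 1 (ULift.{u} ℤ))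
      (specULiftZIsTerminal.from S)) s = pt0 ((specULiftZIsTerminal.from S) s) := by
    rw [secOf_fst]; rfl
  have e1 : (secOf 1 pt1 pt1_toSpec S ≫ pullback.fst (ProjSpace.toSpec 1 (ULift.{u} ℤ))
      (specULiftZIsTerminal.from S)) s' = pt1 ((specULiftZIsTerminal.from S) s') := by
    rw [secOf_fst]; rfl
  have h2 : (secOf 1 pt0 pt0_toSpec S ≫ pullback.fst (ProjSpace.toSpec 1 (ULift.{u} ℤ))
      (specULiftZIsTerminal.from S)) s = (secOf 1 pt1 pt1_toSpec S ≫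
      pullback.fst (ProjSpace.toSpec 1 (ULift.{u} ℤ)) (specULiftZIsTerminal.from S)) s' :=
    congrArg (pullback.fst (ProjSpace.toSpec 1 (ULift.{u} ℤ)) (specULiftZIsTerminal.from S)) h
  rw [e0, e1] at h2
  exact pt0_ne_pt1 _ _ h2

end TwoPoints

end Groth.Agent.Lib.ChowGen85
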