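import Groth.Agent.Lib.ChowGen85b

/-!
# General Chow lemma, part 3 (helper85): quasi-projective opens

`Good f W`: the open `W` of `X` admits an `S`-immersion into some `P^n_S`.
* `Good.of_le`, `good_of_isAffineOpen`;
* `isImmersion_of_isCompl`: a gluing criterion for immersions;
* `Good.sup`: the union of two disjoint good opens is good.
-/

set_option autoImplicit false
universe u
open CategoryTheory CategoryTheory.Limits AlgebraicGeometry TopologicalSpace CohB1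
open Groth.Agent.Lib.ProjProd Groth.Agent.Lib.VeryAmpleH3 Groth.Agent.Lib.HQuasiProjH3

namespace Groth.Agent.Lib.ChowGen85

variable {X S : Scheme.{u}}

/-- an open `W` of `X` is *good* (for `f : X ⟶ S`) if it admits an `S`-immersion into some `P^n_S` -/
def Good (f : X ⟶ S) (W : X.Opens) : Prop :=
  ∃ (n : ℕ) (j : W.toScheme ⟶ ProjSpaceOver n S), IsImmersion j ∧
    j ≫ ProjSpaceOver.toBase n S = W.ι ≫ f

theorem Good.of_le {f : X ⟶ S} {W W' : X.Opens} (h : W' ≤ W) (hW : Good f W) : Good f W' := by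
  obtain ⟨n, j, hj, hjf⟩ := hW
  refine ⟨n, X.homOfLE h ≫ j, inferInstance, ?_⟩
  rw [Category.assoc, hjf, ← Category.assoc, Scheme.homOfLE_ι]

theorem good_of_isAffineOpen (f : X ⟶ S) [LocallyOfFiniteType f] {W : X.Opens}
    (hW : IsAffineOpen W) {V : S.Opens} (hV : IsAffineOpen V) (hWV : W ≤ f ⁻¹ᵁ V) : Good f W := by
  have : IsAffine W.toScheme := hW
  have hr : Set.range (W.ι ≫ f) ⊆ Set.range V.ι := by
    rintro _ ⟨w, rfl⟩
    rw [Scheme.Opens.range_ι]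
    exact hWV w.2
  let g₀ : W.toScheme ⟶ V.toScheme := IsOpenImmersion.lift V.ι (W.ι ≫ f) hr
  have hg₀ : g₀ ≫ V.ι = W.ι ≫ f := IsOpenImmersion.lift_fac _ _ _
  have : LocallyOfFiniteType (g₀ ≫ V.ι) := by rw [hg₀]; infer_instance
  have : LocallyOfFiniteType g₀ := locallyOfFiniteType_of_comp g₀ V.ι
  let A : Type u := Γ(S, V)
  let g : W.toScheme ⟶ Spec (CommRingCat.of A) := g₀ ≫ hV.isoSpec.hom
  have : LocallyOfFiniteType g := inferInstanceAs (LocallyOfFiniteType (g₀ ≫ hV.isoSpec.hom))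
  obtain ⟨n, j₀, hj₀, hj₀g⟩ := Groth.Agent.Lib.AffineFTImm.exists_immersion_of_isAffine A g
  let b : Spec (CommRingCat.of A) ⟶ S := hV.isoSpec.inv ≫ V.ι
  have : IsOpenImmersion b := inferInstanceAs (IsOpenImmersion (hV.isoSpec.inv ≫ V.ι))
  refine ⟨n, j₀ ≫ (Groth.Agent.Lib.ProjOfAmpleH3.projSpaceIso n A).hom ≫ projSpaceOverMap n b,
    inferInstance, ?_⟩
  rw [Category.assoc, Category.assoc, projSpaceOverMap_toBase]
  have h1 : (Groth.Agent.Lib.ProjOfAmpleH3.projSpaceIso n A).hom ≫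
      ProjSpaceOver.toBase n (Spec (CommRingCat.of A)) = ProjSpace.toSpec n A :=
    Groth.Agent.Lib.ProjOfAmpleH3.projSpaceIso_hom_snd n A
  rw [reassoc_of% h1, reassoc_of% hj₀g]
  change (g₀ ≫ hV.isoSpec.hom) ≫ hV.isoSpec.inv ≫ V.ι = _
  rw [Category.assoc, Iso.hom_inv_id_assoc, hg₀]

/-- a gluing criterion for immersions -/
theorem isImmersion_of_isCompl {Z Z₁ Z₂ T : Scheme.{u}} (ι₁ : Z₁ ⟶ Z) (ι₂ : Z₂ ⟶ Z)
    [IsOpenImmersion ι₁] [IsOpenImmersion ι₂] (hcov : ι₁.opensRange ⊔ ι₂.opensRange = ⊤)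
    (g : Z ⟶ T) (T₁ T₂ : T.Opens) (h₁ : g ⁻¹ᵁ T₁ = ι₁.opensRange) (h₂ : g ⁻¹ᵁ T₂ = ι₂.opensRange)
    [IsImmersion (ι₁ ≫ g)] [IsImmersion (ι₂ ≫ g)] : IsImmersion g := by
  have key : ∀ {Z' : Scheme.{u}} (ι' : Z' ⟶ Z) [IsOpenImmersion ι'] (T' : T.Opens)
      (h' : g ⁻¹ᵁ T' = ι'.opensRange) [IsImmersion (ι' ≫ g)], IsImmersion (g ∣_ T') := by
    intro Z' ι' _ T' h' _
    have e : Set.range (g ⁻¹ᵁ T').ι = Set.range ι' := by
      rw [Scheme.Opens.range_ι, h']; rfl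
    have h3 : (g ⁻¹ᵁ T').ι = (IsOpenImmersion.isoOfRangeEq (g ⁻¹ᵁ T').ι ι' e).hom ≫ ι' :=
      (IsOpenImmersion.isoOfRangeEq_hom_fac _ _ e).symm
    have : IsImmersion ((g ∣_ T') ≫ T'.ι) := by
      rw [morphismRestrict_ι, h3, Category.assoc]
      infer_instance
    exact IsImmersion.of_comp (g ∣_ T') T'.ι
  have : MorphismProperty.RespectsRight (@IsImmersion.{u}) @IsOpenImmersion.{u} :=
    ⟨fun i hi f hf => by
      have : IsOpenImmersion i := hi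
      have : IsImmersion f := hf
      exact (inferInstance : IsImmersion (f ≫ i))⟩
  refine IsZariskiLocalAtTarget.of_range_subset_iSup (P := @IsImmersion)
    (fun b : Bool => cond b T₁ T₂) ?_ ?_
  · rintro _ ⟨z, rfl⟩
    have hz : z ∈ ι₁.opensRange ⊔ ι₂.opensRange := by rw [hcov]; trivial
    rcases hz with hz | hz
    · refine Opens.mem_iSup.mpr ⟨true, ?_⟩
      have : z ∈ g ⁻¹ᵁ T₁ := by rw [h₁]; exact hz
      exact this
    · refine Opens.mem_iSup.mpr ⟨false, ?_⟩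
      have : z ∈ g ⁻¹ᵁ T₂ := by rw [h₂]; exact hz
      exact this
  · rintro (_ | _)
    · exact key ι₂ T₂ h₂
    · exact key ι₁ T₁ h₁

section DU

local instance : MorphismProperty.IsStableUnderComposition (@IsClosedImmersion.{u}) :=
  MorphismProperty.IsMultiplicative.toIsStableUnderComposition

/-- the triple product `P^n ×_S P^m ×_S P^1` embeds in a projective space over `S` -/
theorem exists_triple_segre (S : Scheme.{u}) (n₁ n₂ : ℕ) :
    ∃ (N : ℕ) (σ : pullback (pullback.fst (ProjSpaceOver.toBase n₁ S) (ProjSpaceOver.toBase n₂ S) ≫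
        ProjSpaceOver.toBase n₁ S) (ProjSpaceOver.toBase 1 S) ⟶ ProjSpaceOver N S),
      IsClosedImmersion σ ∧ σ ≫ ProjSpaceOver.toBase N S =
        pullback.fst _ _ ≫ pullback.fst (ProjSpaceOver.toBase n₁ S) (ProjSpaceOver.toBase n₂ S) ≫
          ProjSpaceOver.toBase n₁ S := by
  obtain ⟨φ₁, hφ₁, hφ₁q⟩ := Groth.Agent.Lib.H90Segre.exists_segre_over S n₁ n₂
  obtain ⟨φ₂, hφ₂, hφ₂q⟩ := Groth.Agent.Lib.H90Segre.exists_segre_over S (n₁ * n₂ + n₁ + n₂) 1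
  have e1 : pullback.fst (ProjSpaceOver.toBase n₁ S) (ProjSpaceOver.toBase n₂ S) ≫
      ProjSpaceOver.toBase n₁ S = φ₁ ≫ ProjSpaceOver.toBase (n₁ * n₂ + n₁ + n₂) S := hφ₁q.symm
  have e2 : ProjSpaceOver.toBase 1 S = 𝟙 _ ≫ ProjSpaceOver.toBase 1 S := (Category.id_comp _).symm
  have h1 : IsClosedImmersion (pullback.map (pullback.fst (ProjSpaceOver.toBase n₁ S)
      (ProjSpaceOver.toBase n₂ S) ≫ ProjSpaceOver.toBase n₁ S) (ProjSpaceOver.toBase 1 S)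
      (ProjSpaceOver.toBase (n₁ * n₂ + n₁ + n₂) S) (ProjSpaceOver.toBase 1 S) φ₁ (𝟙 _) (𝟙 _)
      ((Category.comp_id _).trans e1) ((Category.comp_id _).trans e2)) :=
    MorphismProperty.pullbackMap (P := @IsClosedImmersion.{u}) hφ₁
      (inferInstance : IsClosedImmersion (𝟙 (ProjSpaceOver 1 S))) e1 e2
  refine ⟨_, pullback.map _ _ _ _ φ₁ (𝟙 _) (𝟙 _) ((Category.comp_id _).trans e1)
    ((Category.comp_id _).trans e2) ≫ φ₂, inferInstance, ?_⟩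
  rw [Category.assoc, hφ₂q]
  erw [pullback.lift_fst_assoc]
  rw [Category.assoc, hφ₁q]

theorem Good.sup {f : X ⟶ S} {W₁ W₂ : X.Opens} (hd : Disjoint W₁ W₂) (h₁ : Good f W₁)
    (h₂ : Good f W₂) : Good f (W₁ ⊔ W₂) := by
  obtain ⟨n₁, j₁, hj₁, hj₁f⟩ := h₁
  obtain ⟨n₂, j₂, hj₂, hj₂f⟩ := h₂
  obtain ⟨N, σ, hσ, hσq⟩ := exists_triple_segre S n₁ n₂
  let a := ProjSpaceOver.toBase n₁ S
  let b := ProjSpaceOver.toBase n₂ S
  let c := ProjSpaceOver.toBase 1 S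
  let ι₁ : W₁.toScheme ⟶ (W₁ ⊔ W₂).toScheme := X.homOfLE le_sup_left
  let ι₂ : W₂.toScheme ⟶ (W₁ ⊔ W₂).toScheme := X.homOfLE le_sup_right
  have hι₁ : ι₁ ≫ (W₁ ⊔ W₂).ι = W₁.ι := Scheme.homOfLE_ι _ _
  have hι₂ : ι₂ ≫ (W₁ ⊔ W₂).ι = W₂.ι := Scheme.homOfLE_ι _ _
  -- the two maps to the triple product
  let g₁₀ : W₁.toScheme ⟶ pullback a b := pullback.lift j₁ ((W₁.ι ≫ f) ≫ zeroSec n₂ S) (by
    rw [Category.assoc, zeroSec, secOf_toBase, Category.comp_id]; exact hj₁f)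
  let g₁ : W₁.toScheme ⟶ pullback (pullback.fst a b ≫ a) c :=
    pullback.lift g₁₀ ((W₁.ι ≫ f) ≫ sec0 S) (by
      rw [Category.assoc, sec0, secOf_toBase, Category.comp_id, pullback.lift_fst_assoc]
      exact hj₁f)
  let g₂₀ : W₂.toScheme ⟶ pullback a b := pullback.lift ((W₂.ι ≫ f) ≫ zeroSec n₁ S) j₂ (by
    rw [Category.assoc, zeroSec, secOf_toBase, Category.comp_id]; exact hj₂f.symm)
  let g₂ : W₂.toScheme ⟶ pullback (pullback.fst a b ≫ a) c :=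
    pullback.lift g₂₀ ((W₂.ι ≫ f) ≫ sec1 S) (by
      rw [Category.assoc, sec1, secOf_toBase, Category.comp_id, pullback.lift_fst_assoc,
        Category.assoc, zeroSec, secOf_toBase, Category.comp_id])
  have hg₁i : IsImmersion g₁ := by
    have : IsImmersion (g₁ ≫ pullback.fst _ _ ≫ pullback.fst a b) := by
      rw [pullback.lift_fst_assoc, pullback.lift_fst]; exact hj₁
    exact IsImmersion.of_comp g₁ (pullback.fst _ _ ≫ pullback.fst a b)
  have hg₂i : IsImmersion g₂ := by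
    have : IsImmersion (g₂ ≫ pullback.fst _ _ ≫ pullback.snd a b) := by
      rw [pullback.lift_fst_assoc, pullback.lift_snd]; exact hj₂
    exact IsImmersion.of_comp g₂ (pullback.fst _ _ ≫ pullback.snd a b)
  -- glue
  have hv₁ : ∀ w : W₁.toScheme, (W₁ ⊔ W₂).ι (ι₁ w) = W₁.ι w := fun w => by
    have : (ι₁ ≫ (W₁ ⊔ W₂).ι) w = W₁.ι w := by rw [hι₁]
    exact this
  have hv₂ : ∀ w : W₂.toScheme, (W₁ ⊔ W₂).ι (ι₂ w) = W₂.ι w := fun w => by
    have : (ι₂ ≫ (W₁ ⊔ W₂).ι) w = W₂.ι w := by rw [hι₂]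
    exact this
  have hinj : Function.Injective (W₁ ⊔ W₂).ι := (W₁ ⊔ W₂).ι.isOpenEmbedding.injective
  have hcov : ι₁.opensRange ⊔ ι₂.opensRange = ⊤ := by
    rw [eq_top_iff]
    rintro ⟨x, hx⟩ -
    rcases hx with hx | hx
    · exact Or.inl ⟨⟨x, hx⟩, hinj (hv₁ _)⟩
    · exact Or.inr ⟨⟨x, hx⟩, hinj (hv₂ _)⟩
  have hdis : ι₁.opensRange ⊓ ι₂.opensRange = ⊥ := by
    rw [eq_bot_iff]
    rintro _ ⟨⟨w₁, rfl⟩, ⟨w₂, hw⟩⟩
    have h1 : (W₁ ⊔ W₂).ι (ι₂ w₂) = (W₁ ⊔ W₂).ι (ι₁ w₁) := congrArg _ hw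
    rw [hv₁, hv₂] at h1
    have h4 : W₁.ι w₁ ∈ W₁ := w₁.2
    have h5 : W₂.ι w₂ ∈ W₂ := w₂.2
    rw [h1] at h5
    exact (Set.disjoint_iff.mp ((Opens.coe_disjoint).mpr hd)) ⟨h4, h5⟩
  have hcompl : IsCompl ι₁.opensRange ι₂.opensRange :=
    ⟨disjoint_iff.mpr hdis, codisjoint_iff.mpr hcov⟩
  obtain ⟨hc⟩ := nonempty_isColimit_binaryCofanMk_of_isCompl ι₁ ι₂ hcompl
  let g : (W₁ ⊔ W₂).toScheme ⟶ pullback (pullback.fst a b ≫ a) c :=
    hc.desc (BinaryCofan.mk g₁ g₂)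
  have hgg₁ : ι₁ ≫ g = g₁ := hc.fac (BinaryCofan.mk g₁ g₂) ⟨WalkingPair.left⟩
  have hgg₂ : ι₂ ≫ g = g₂ := hc.fac (BinaryCofan.mk g₁ g₂) ⟨WalkingPair.right⟩
  -- the separating opens
  have hcl0 : IsClosed (Set.range (sec0 S)) := (sec0 S).isClosedEmbedding.isClosed_range
  have hcl1 : IsClosed (Set.range (sec1 S)) := (sec1 S).isClosedEmbedding.isClosed_range
  let O₁ : (ProjSpaceOver 1 S).Opens := ⟨(Set.range (sec1 S))ᶜ, hcl1.isOpen_compl⟩
  let O₂ : (ProjSpaceOver 1 S).Opens := ⟨(Set.range (sec0 S))ᶜ, hcl0.isOpen_compl⟩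
  have hp₁ : ∀ w : W₁.toScheme, (pullback.snd (pullback.fst a b ≫ a) c) (g (ι₁ w)) =
      sec0 S (f (W₁.ι w)) := by
    intro w
    have : (ι₁ ≫ g ≫ pullback.snd (pullback.fst a b ≫ a) c) w =
        ((W₁.ι ≫ f) ≫ sec0 S) w := by
      rw [reassoc_of% hgg₁, pullback.lift_snd]
    exact this
  have hp₂ : ∀ w : W₂.toScheme, (pullback.snd (pullback.fst a b ≫ a) c) (g (ι₂ w)) =
      sec1 S (f (W₂.ι w)) := by
    intro w
    have : (ι₂ ≫ g ≫ pullback.snd (pullback.fst a b ≫ a) c) w =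
        ((W₂.ι ≫ f) ≫ sec1 S) w := by
      rw [reassoc_of% hgg₂, pullback.lift_snd]
    exact this
  have hmem : ∀ z : (W₁ ⊔ W₂).toScheme, z ∈ ι₁.opensRange ∨ z ∈ ι₂.opensRange := by
    intro z
    have hz : z ∈ ι₁.opensRange ⊔ ι₂.opensRange := by rw [hcov]; trivial
    exact hz
  have hT₁ : g ⁻¹ᵁ ((pullback.snd (pullback.fst a b ≫ a) c) ⁻¹ᵁ O₁) = ι₁.opensRange := by
    ext z
    constructor
    · intro hz
      rcases hmem z with h | ⟨w, rfl⟩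
      · exact h
      · exfalso
        have hz' : (pullback.snd (pullback.fst a b ≫ a) c) (g (ι₂ w)) ∉ Set.range (sec1 S) := hz
        rw [hp₂] at hz'
        exact hz' ⟨_, rfl⟩
    · rintro ⟨w, rfl⟩
      change (pullback.snd (pullback.fst a b ≫ a) c) (g (ι₁ w)) ∉ Set.range (sec1 S)
      rw [hp₁]
      rintro ⟨s', hs'⟩
      exact sec0_ne_sec1 S _ _ hs'.symm
  have hT₂ : g ⁻¹ᵁ ((pullback.snd (pullback.fst a b ≫ a) c) ⁻¹ᵁ O₂) = ι₂.opensRange := by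
    ext z
    constructor
    · intro hz
      rcases hmem z with ⟨w, rfl⟩ | h
      · exfalso
        have hz' : (pullback.snd (pullback.fst a b ≫ a) c) (g (ι₁ w)) ∉ Set.range (sec0 S) := hz
        rw [hp₁] at hz'
        exact hz' ⟨_, rfl⟩
      · exact h
    · rintro ⟨w, rfl⟩
      change (pullback.snd (pullback.fst a b ≫ a) c) (g (ι₂ w)) ∉ Set.range (sec0 S)
      rw [hp₂]
      rintro ⟨s', hs'⟩
      exact sec0_ne_sec1 S _ _ hs'
  have : IsImmersion (ι₁ ≫ g) := by rw [hgg₁]; exact hg₁i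
  have : IsImmersion (ι₂ ≫ g) := by rw [hgg₂]; exact hg₂i
  have hgi : IsImmersion g := isImmersion_of_isCompl ι₁ ι₂ hcov g _ _ hT₁ hT₂
  refine ⟨N, g ≫ σ, inferInstance, ?_⟩
  rw [Category.assoc, hσq]
  refine BinaryCofan.IsColimit.hom_ext hc ?_ ?_
  · change ι₁ ≫ g ≫ _ = ι₁ ≫ _
    rw [reassoc_of% hgg₁, reassoc_of% hι₁, pullback.lift_fst_assoc, pullback.lift_fst_assoc]
    exact hj₁f
  · change ι₂ ≫ g ≫ _ = ι₂ ≫ _
    rw [reassoc_of% hgg₂, reassoc_of% hι₂, pullback.lift_fst_assoc, pullback.lift_fst_assoc,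
      Category.assoc, zeroSec, secOf_toBase, Category.comp_id]

end DU

end Groth.Agent.Lib.ChowGen85
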