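import Groth.Agent.Lib.ChowGen85c
import Groth.Agent.Lib.H90Chow3

/-!
# General Chow lemma, part 4 (helper85): dense quasi-projective opens and the assembly

* `exists_disjoint_open_of_not_meet`, `dense_of_meets`: topology of finitely many components;
* `exists_good_meeting`: enlarging a quasi-projective open to a dense one;
* `chow_of_finite_irreducibleComponents`: **Chow's lemma** over a qcqs base for `X` with finitely
  many irreducible components (EGA II 5.6.1).
-/

set_option autoImplicit false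
universe u
open CategoryTheory CategoryTheory.Limits AlgebraicGeometry TopologicalSpace CohB1
open Groth.Agent.Lib.ProjProd Groth.Agent.Lib.H90Chow

namespace Groth.Agent.Lib.ChowGen85

section Top

variable {X : Type*} [TopologicalSpace X]

theorem exists_disjoint_open_of_not_meet (hfin : (irreducibleComponents X).Finite) (W : Set X)
    (Z : Set X) (hZ : Z ∈ irreducibleComponents X) (hWZ : ¬ (Z ∩ W).Nonempty) :
    ∃ z ∈ Z, ∃ O : Set X, IsOpen O ∧ z ∈ O ∧ Disjoint O W := by
  classical
  let 𝒵 : Set (Set X) := {Z' ∈ irreducibleComponents X | (Z' ∩ W).Nonempty}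
  have h𝒵fin : 𝒵.Finite := hfin.subset (fun _ h => h.1)
  have hcl : IsClosed (⋃₀ 𝒵) := by
    rw [Set.sUnion_eq_biUnion]
    exact h𝒵fin.isClosed_biUnion (fun Z' h => isClosed_of_mem_irreducibleComponents Z' h.1)
  have hW : W ⊆ ⋃₀ 𝒵 := by
    intro w hw
    exact ⟨irreducibleComponent w, ⟨irreducibleComponent_mem_irreducibleComponents w,
      ⟨w, mem_irreducibleComponent, hw⟩⟩, mem_irreducibleComponent⟩
  have hnot : ¬ Z ⊆ ⋃₀ 𝒵 := by
    intro hsub
    have hZirr : IsIrreducible Z := hZ.1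
    obtain ⟨Z', hZ', hZZ'⟩ := (isIrreducible_iff_sUnion_isClosed.mp hZirr) h𝒵fin.toFinset
      (fun Z' h => isClosed_of_mem_irreducibleComponents Z' ((h𝒵fin.mem_toFinset.mp h).1))
      (by rwa [Set.Finite.coe_toFinset])
    have hZ'2 := h𝒵fin.mem_toFinset.mp hZ'
    have heq : Z = Z' := le_antisymm hZZ' (hZ.2 hZ'2.1.1 hZZ')
    exact hWZ (heq ▸ hZ'2.2)
  obtain ⟨z, hzZ, hz⟩ := Set.not_subset.mp hnot
  exact ⟨z, hzZ, (⋃₀ 𝒵)ᶜ, hcl.isOpen_compl, hz,
    Set.disjoint_left.mpr (fun x hx hxW => hx (hW hxW))⟩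

theorem dense_of_meets (W : Set X) (hW : IsOpen W)
    (h : ∀ Z ∈ irreducibleComponents X, (Z ∩ W).Nonempty) : Dense W := by
  intro x
  rw [mem_closure_iff]
  intro O hO hxO
  have hZ := irreducibleComponent_mem_irreducibleComponents x
  have hirr : IsPreirreducible (irreducibleComponent x) := hZ.1.2
  obtain ⟨y, hy, hyO, hyW⟩ := hirr O W hO hW ⟨x, mem_irreducibleComponent, hxO⟩ (h _ hZ)
  exact ⟨y, hyO, hyW⟩

theorem dense_finset_inf {ι : Type*} (s : Finset ι) (U : ι → Opens X)
    (hU : ∀ i, Dense (U i : Set X)) : Dense ((s.inf U : Opens X) : Set X) := by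
  classical
  induction s using Finset.induction_on with
  | empty => simp
  | insert a s _ ih =>
    rw [Finset.inf_insert, Opens.coe_inf]
    exact (hU a).inter_of_isOpen_left ih (U a).isOpen

end Top

variable {X S : Scheme.{u}} (f : X ⟶ S)

theorem exists_good_nhds [LocallyOfFiniteType f] (x : X) (O : X.Opens) (hx : x ∈ O) :
    ∃ W : X.Opens, x ∈ W ∧ W ≤ O ∧ IsAffineOpen W ∧ Good f W := by
  obtain ⟨_, ⟨V, hV, rfl⟩, hfxV, -⟩ :=
    S.isBasis_affineOpens.exists_subset_of_mem_open (Set.mem_univ (f x)) isOpen_univ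
  have hx' : x ∈ O ⊓ f ⁻¹ᵁ V := ⟨hx, hfxV⟩
  obtain ⟨_, ⟨W, hW, rfl⟩, hxW, hWO⟩ :=
    X.isBasis_affineOpens.exists_subset_of_mem_open hx' (O ⊓ f ⁻¹ᵁ V).isOpen
  have hWO' : W ≤ O ⊓ f ⁻¹ᵁ V := hWO
  exact ⟨W, hxW, hWO'.trans inf_le_left, hW, good_of_isAffineOpen f hW hV (hWO'.trans inf_le_right)⟩

theorem exists_good_meeting [LocallyOfFiniteType f]
    (hirr : (irreducibleComponents (X : Type u)).Finite) (F : Finset (Set X))
    (hF : ∀ Z ∈ F, Z ∈ irreducibleComponents (X : Type u)) (W : X.Opens)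
    (hWc : IsCompact (W : Set X)) (hW : Good f W) :
    ∃ W' : X.Opens, W ≤ W' ∧ IsCompact (W' : Set X) ∧ Good f W' ∧
      ∀ Z ∈ F, (Z ∩ (W' : Set X)).Nonempty := by
  classical
  induction F using Finset.induction_on with
  | empty => exact ⟨W, le_rfl, hWc, hW, by simp⟩
  | insert Z F _ ih =>
    obtain ⟨W', hWW', hW'c, hW', hmeet⟩ := ih (fun Z' h => hF Z' (Finset.mem_insert_of_mem h))
    by_cases hZW : (Z ∩ (W' : Set X)).Nonempty
    · refine ⟨W', hWW', hW'c, hW', ?_⟩
      intro Z' hZ'
      rcases Finset.mem_insert.mp hZ' with rfl | h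
      · exact hZW
      · exact hmeet Z' h
    · obtain ⟨z, hzZ, O, hO, hzO, hdisj⟩ := exists_disjoint_open_of_not_meet hirr (W' : Set X) Z
        (hF Z (Finset.mem_insert_self _ _)) hZW
      obtain ⟨V, hzV, hVO, hVa, hVg⟩ := exists_good_nhds f z ⟨O, hO⟩ hzO
      have hd : Disjoint W' V := by
        rw [← Opens.coe_disjoint]
        have hVO' : (V : Set X) ⊆ O := hVO
        exact (hdisj.mono_left hVO').symm
      refine ⟨W' ⊔ V, hWW'.trans le_sup_left, ?_, Good.sup hd hW' hVg, ?_⟩
      · rw [Opens.coe_sup]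
        exact hW'c.union hVa.isCompact
      · intro Z' hZ'
        rcases Finset.mem_insert.mp hZ' with rfl | h
        · exact ⟨z, hzZ, Or.inr hzV⟩
        · obtain ⟨y, hy, hyW⟩ := hmeet Z' h
          exact ⟨y, hy, Or.inl hyW⟩

/-- every point has a compact dense quasi-projective open neighbourhood -/
theorem exists_good_dense_nhds [LocallyOfFiniteType f]
    (hirr : (irreducibleComponents (X : Type u)).Finite) (x : X) :
    ∃ W : X.Opens, x ∈ W ∧ IsCompact (W : Set X) ∧ Good f W ∧ Dense (W : Set X) := by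
  obtain ⟨W₀, hxW₀, -, hW₀a, hW₀g⟩ := exists_good_nhds f x ⊤ trivial
  obtain ⟨W, hW₀W, hWc, hWg, hmeet⟩ := exists_good_meeting f hirr hirr.toFinset
    (fun Z h => hirr.mem_toFinset.mp h) W₀ hW₀a.isCompact hW₀g
  exact ⟨W, hW₀W hxW₀, hWc, hWg,
    dense_of_meets _ W.isOpen (fun Z hZ => hmeet Z (hirr.mem_toFinset.mpr hZ))⟩

/-- **Chow's lemma** over a quasi-compact quasi-separated base, for `X` with finitely many
irreducible components (EGA II 5.6.1). -/
theorem chow_of_finite_irreducibleComponents [CompactSpace S] [QuasiSeparatedSpace S]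
    [IsSeparated f] [LocallyOfFiniteType f] [QuasiCompact f]
    (hirr : (irreducibleComponents (X : Type u)).Finite) :
    ∃ (n : ℕ) (X' : Scheme.{u}) (π : X' ⟶ X) (j : X' ⟶ ProjSpaceOver n S),
      IsImmersion j ∧ j ≫ ProjSpaceOver.toBase n S = π ≫ f ∧ IsProper π ∧ Surjective π ∧
      ∃ U : X.Opens, Dense (U : Set X) ∧ IsIso (π ∣_ U) := by
  classical
  have : CompactSpace X := QuasiCompact.compactSpace_of_compactSpace f
  have : QuasiSeparatedSpace X := quasiSeparatedSpace_of_quasiSeparated f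
  rcases isEmpty_or_nonempty X with hX | hX
  · -- the empty scheme
    refine ⟨0, X, 𝟙 X, isInitialOfIsEmpty.to _, inferInstance, isInitialOfIsEmpty.hom_ext _ _,
      inferInstance, inferInstance, ⊤, dense_univ, inferInstance⟩
  have hV := fun x : X => exists_good_dense_nhds f hirr x
  choose V hVx hVc hVg hVd using hV
  obtain ⟨t, ht⟩ := CompactSpace.elim_nhds_subcover (fun x => (V x : Set X))
    (fun x => (V x).isOpen.mem_nhds (hVx x))
  have htne : t.Nonempty := by
    by_contra hne
    rw [Finset.not_nonempty_iff_eq_empty] at hne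
    subst hne
    obtain ⟨x⟩ := hX
    have : x ∈ (⊤ : Set X) := trivial
    rw [← ht] at this
    simp at this
  obtain ⟨r, hr⟩ := Nat.exists_eq_succ_of_ne_zero (Finset.card_ne_zero.mpr htne)
  let e : Fin (r + 1) ≃ ↥t := (finCongr hr.symm).trans t.equivFin.symm
  let Uo : Fin (r + 1) → X.Opens := fun i => V (e i).1
  have cov : ⨆ i, Uo i = ⊤ := by
    rw [eq_top_iff]
    intro x _
    have hx : x ∈ (⊤ : Set X) := trivial
    rw [← ht] at hx
    simp only [Set.mem_iUnion] at hx
    obtain ⟨y, hy, hxy⟩ := hx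
    refine Opens.mem_iSup.mpr ⟨e.symm ⟨y, hy⟩, ?_⟩
    change x ∈ V (e (e.symm ⟨y, hy⟩)).1
    rw [Equiv.apply_symm_apply]
    exact hxy
  have hUc : ∀ i, IsCompact (Uo i : Set X) := fun i => hVc _
  have : ∀ i, CompactSpace (Uo i).toScheme := fun i => isCompact_iff_compactSpace.mp (hUc i)
  have hUd : ∀ i, Dense (Uo i : Set X) := fun i => hVd _
  -- immersions into projective spaces
  have him : ∀ i, Good f (Uo i) := fun i => hVg _
  choose n j hjimm hjcomp using him
  have : ∀ i, IsProper (ProjSpaceOver.toBase (n i) S) :=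
    fun i => Groth.Agent.Lib.ProjSpaceProper.isProper_toBase (n i) S
  have : ∀ i, QuasiSeparatedSpace (ProjSpaceOver (n i) S) :=
    fun i => quasiSeparatedSpace_of_quasiSeparated (ProjSpaceOver.toBase (n i) S)
  have : ∀ i, IsImmersion (j i) := hjimm
  have : ∀ i, QuasiCompact (j i) := fun i => inferInstance
  let P : Fin (r + 1) → Scheme.{u} := fun i => (j i).image
  let c : ∀ i, P i ⟶ ProjSpaceOver (n i) S := fun i => (j i).imageι
  let q : ∀ i, P i ⟶ S := fun i => c i ≫ ProjSpaceOver.toBase (n i) S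
  obtain ⟨D, N, σ, hσ, hσq⟩ := exists_finProd_segre_over S r P q n c
    (fun i => inferInstance) (fun i => rfl)
  have := hσ
  have : IsProper (ProjSpaceOver.toBase N S) :=
    Groth.Agent.Lib.ProjSpaceProper.isProper_toBase N S
  have hDp : IsProper D.hom := by rw [← hσq]; infer_instance
  have : ∀ i, IsProper (q i) := fun i => inferInstance
  have hcpt : CompactSpace ↥(⨅ i, Uo i : X.Opens) := by
    refine isCompact_iff_compactSpace.mp ?_
    rw [← Finset.inf_univ_eq_iInf]
    exact isCompact_finset_inf _ _ hUc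
  have hqs : QuasiSeparatedSpace ↥(pullback f D.hom) :=
    quasiSeparatedSpace_of_quasiSeparated (pullback.fst f D.hom ≫ f)
  let C : ChowData S X :=
    { f := f, r := r, P := P, q := q, D := D, Uo := Uo
      t := fun i => (j i).toImage
      ht := fun i => by
        change (j i).toImage ≫ (j i).imageι ≫ _ = _
        rw [← Category.assoc, Scheme.Hom.toImage_imageι, hjcomp]
      sepf := inferInstance
      sepq := fun i => inferInstance
      sepD := inferInstance
      ot := fun i => inferInstance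
      cov := cov
      cpt := hcpt
      qs := hqs }
  have hUdense : Dense (C.U : Set X) := by
    change Dense ((⨅ i, Uo i : X.Opens) : Set X)
    rw [← Finset.inf_univ_eq_iInf]
    exact dense_finset_inf _ _ hUd
  have : IsProper C.D.hom := hDp
  have := C.isImmersion_φ
  refine ⟨N, C.X', C.π, C.φ ≫ σ, inferInstance, ?_, C.isProper_π, ⟨C.surjective_π hUdense⟩,
    C.U, hUdense, C.isIso_π_restrict⟩
  rw [Category.assoc, hσq]
  exact C.π_f.symm

end Groth.Agent.Lib.ChowGen85
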