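import Groth.Agent.Lib.ChowGen85d

/-!
# General Chow lemma, part 5 (helper85): dense affine quasi-projective opens

* `isAffineOpen_sup_of_disjoint`: the union of two disjoint affine opens is affine;
* `exists_good_dense_affine_nhds`: for `f : X ⟶ S` locally of finite type with `X` having finitely
  many irreducible components, every point has a dense affine open neighbourhood admitting an
  immersion into some `P^n_S`.
-/

set_option autoImplicit false
universe u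
open CategoryTheory CategoryTheory.Limits AlgebraicGeometry TopologicalSpace CohB1

namespace Groth.Agent.Lib.ChowGen85

variable {X S : Scheme.{u}}

theorem isAffineOpen_sup_of_disjoint {W₁ W₂ : X.Opens} (hd : Disjoint W₁ W₂)
    (h₁ : IsAffineOpen W₁) (h₂ : IsAffineOpen W₂) : IsAffineOpen (W₁ ⊔ W₂) := by
  let ι₁ : W₁.toScheme ⟶ (W₁ ⊔ W₂).toScheme := X.homOfLE le_sup_left
  let ι₂ : W₂.toScheme ⟶ (W₁ ⊔ W₂).toScheme := X.homOfLE le_sup_right
  have hι₁ : ι₁ ≫ (W₁ ⊔ W₂).ι = W₁.ι := Scheme.homOfLE_ι _ _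
  have hι₂ : ι₂ ≫ (W₁ ⊔ W₂).ι = W₂.ι := Scheme.homOfLE_ι _ _
  have hv₁ : ∀ w : W₁.toScheme, (W₁ ⊔ W₂).ι (ι₁ w) = W₁.ι w := fun w => by
    have : (ι₁ ≫ (W₁ ⊔ W₂).ι) w = W₁.ι w := by rw [hι₁]
    exact this
  have hv₂ : ∀ w : W₂.toScheme, (W₁ ⊔ W₂).ι (ι₂ w) = W₂.ι w := fun w => by
    have : (ι₂ ≫ (W₁ ⊔ W₂).ι) w = W₂.ι w := by rw [hι₂]
    exact this
  have hinj : Function.Injective (W₁ ⊔ W₂).ι := (W₁ ⊔ W₂).ι.isOpenEmbedding.injective
  have hcov : ι₁.opensRange ⊔ ι₂.opensRange = ⊤ := by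
    rw [eq_top_iff]
    rintro ⟨x, hx⟩ -
    rcases hx with hx | hx
    · exact Or.inl ⟨⟨x, hx⟩, hinj (hv₁ _)⟩
    · exact Or.inr ⟨⟨x, hx⟩, hinj (hv₂ _)⟩
  have hdis : ι₁.opensRange ⊓ ι₂.opensRange = ⊥ := by
    rw [eq_bot_iff]
    rintro _ ⟨⟨w₁, rfl⟩, ⟨w₂, hw⟩⟩
    have h1 : (W₁ ⊔ W₂).ι (ι₂ w₂) = (W₁ ⊔ W₂).ι (ι₁ w₁) := congrArg _ hw
    rw [hv₁, hv₂] at h1
    have h4 : W₁.ι w₁ ∈ W₁ := w₁.2
    have h5 : W₂.ι w₂ ∈ W₂ := w₂.2
    rw [h1] at h5
    exact (Set.disjoint_iff.mp ((Opens.coe_disjoint).mpr hd)) ⟨h4, h5⟩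
  have hcompl : IsCompl ι₁.opensRange ι₂.opensRange :=
    ⟨disjoint_iff.mpr hdis, codisjoint_iff.mpr hcov⟩
  obtain ⟨hc⟩ := nonempty_isColimit_binaryCofanMk_of_isCompl ι₁ ι₂ hcompl
  have : IsAffine W₁.toScheme := h₁
  have : IsAffine W₂.toScheme := h₂
  let e : (W₁ ⊔ W₂).toScheme ≅ W₁.toScheme ⨿ W₂.toScheme :=
    hc.coconePointUniqueUpToIso (colimit.isColimit (pair W₁.toScheme W₂.toScheme))
  have : IsAffine (W₁ ⊔ W₂).toScheme := IsAffine.of_isIso e.hom
  exact this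

variable (f : X ⟶ S)

theorem exists_good_affine_meeting [LocallyOfFiniteType f]
    (hirr : (irreducibleComponents (X : Type u)).Finite) (F : Finset (Set X))
    (hF : ∀ Z ∈ F, Z ∈ irreducibleComponents (X : Type u)) (W : X.Opens)
    (hWa : IsAffineOpen W) (hW : Good f W) :
    ∃ W' : X.Opens, W ≤ W' ∧ IsAffineOpen W' ∧ Good f W' ∧
      ∀ Z ∈ F, (Z ∩ (W' : Set X)).Nonempty := by
  classical
  induction F using Finset.induction_on with
  | empty => exact ⟨W, le_rfl, hWa, hW, by simp⟩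
  | insert Z F _ ih =>
    obtain ⟨W', hWW', hW'a, hW', hmeet⟩ := ih (fun Z' h => hF Z' (Finset.mem_insert_of_mem h))
    by_cases hZW : (Z ∩ (W' : Set X)).Nonempty
    · refine ⟨W', hWW', hW'a, hW', ?_⟩
      intro Z' hZ'
      rcases Finset.mem_insert.mp hZ' with rfl | h
      · exact hZW
      · exact hmeet Z' h
    · obtain ⟨z, hzZ, O, hO, hzO, hdisj⟩ := exists_disjoint_open_of_not_meet hirr (W' : Set X) Z
        (hF Z (Finset.mem_insert_self _ _)) hZW
      obtain ⟨V, hzV, hVO, hVa, hVg⟩ := exists_good_nhds f z ⟨O, hO⟩ hzO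
      have hd : Disjoint W' V := by
        rw [← Opens.coe_disjoint]
        have hVO' : (V : Set X) ⊆ O := hVO
        exact (hdisj.mono_left hVO').symm
      refine ⟨W' ⊔ V, hWW'.trans le_sup_left, isAffineOpen_sup_of_disjoint hd hW'a hVa,
        Good.sup hd hW' hVg, ?_⟩
      intro Z' hZ'
      rcases Finset.mem_insert.mp hZ' with rfl | h
      · exact ⟨z, hzZ, Or.inr hzV⟩
      · obtain ⟨y, hy, hyW⟩ := hmeet Z' h
        exact ⟨y, hy, Or.inl hyW⟩

/-- every point has a dense affine quasi-projective open neighbourhood -/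
theorem exists_good_dense_affine_nhds [LocallyOfFiniteType f]
    (hirr : (irreducibleComponents (X : Type u)).Finite) (x : X) :
    ∃ W : X.Opens, x ∈ W ∧ IsAffineOpen W ∧ Good f W ∧ Dense (W : Set X) := by
  obtain ⟨W₀, hxW₀, -, hW₀a, hW₀g⟩ := exists_good_nhds f x ⊤ trivial
  obtain ⟨W, hW₀W, hWa, hWg, hmeet⟩ := exists_good_affine_meeting f hirr hirr.toFinset
    (fun Z h => hirr.mem_toFinset.mp h) W₀ hW₀a hW₀g
  exact ⟨W, hW₀W hxW₀, hWa, hWg,
    dense_of_meets _ W.isOpen (fun Z hZ => hmeet Z (hirr.mem_toFinset.mpr hZ))⟩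

/-- a good compact open of `X` is H-quasi-projective over a quasi-separated base -/
theorem Good.isHQuasiProjective [QuasiSeparatedSpace S] {W : X.Opens} (hW : Good f W)
    (hWc : IsCompact (W : Set X)) : RelProj.IsHQuasiProjective (W.ι ≫ f) := by
  obtain ⟨n, j, hj, hjf⟩ := hW
  have : CompactSpace W.toScheme := isCompact_iff_compactSpace.mp hWc
  have : IsProper (ProjSpaceOver.toBase n S) :=
    Groth.Agent.Lib.ProjSpaceProper.isProper_toBase n S
  have : QuasiSeparatedSpace (ProjSpaceOver n S) :=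
    quasiSeparatedSpace_of_quasiSeparated (ProjSpaceOver.toBase n S)
  exact ⟨n, j, hj, inferInstance, hjf⟩

end Groth.Agent.Lib.ChowGen85
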