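/-
# General Chow lemma, part 6 (helper85): the strong form

* `bcσ`, `isPullback_bcσ`: base change `X ×_S D ⟶ P^N_X` of a closed immersion `σ : D ⟶ P^N_S`;
* `ChowData.dense_preimage_U`, `ChowData.isReduced_X'`, `ChowData.irreducibleSpace_X'`;
* `isHProjective_id`;
* `chow_strong`: Chow's lemma with `π` H-projective, `π ≫ f` H-quasi-projective (H-projective if `f` is
  proper), `π⁻¹(U)` dense, and `X'` reduced / irreducible if `X` is;
* `qcqs_of_hyp`: the hypotheses of EGA II 5.6.1 give a qcqs base and finitely many components.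
-/
import Groth.Agent.Lib.ChowGen85d

set_option autoImplicit false
universe u
open CategoryTheory CategoryTheory.Limits AlgebraicGeometry TopologicalSpace CohB1
open Groth.Agent.Lib.ProjProd Groth.Agent.Lib.H90Chow Groth.Agent.Lib.HQuasiProjH3

namespace Groth.Agent.Lib.ChowGen85

section HProj

variable {X S D : Scheme.{u}} (f : X ⟶ S) (g : D ⟶ S) (N : ℕ) (σ : D ⟶ ProjSpaceOver N S)
  (hσ : σ ≫ ProjSpaceOver.toBase N S = g)

/-- the base change `X ×_S D ⟶ P^N_X` of `σ : D ⟶ P^N_S` -/
noncomputable def bcσ : pullback f g ⟶ ProjSpaceOver N X :=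
  (isPullback_projSpaceOverMap N f).lift (pullback.snd f g ≫ σ) (pullback.fst f g)
    (by rw [Category.assoc, hσ, pullback.condition])

include hσ in
lemma bcσ_toBase : bcσ f g N σ hσ ≫ ProjSpaceOver.toBase N X = pullback.fst f g :=
  (isPullback_projSpaceOverMap N f).lift_snd _ _ _

lemma bcσ_map : bcσ f g N σ hσ ≫ projSpaceOverMap N f = pullback.snd f g ≫ σ :=
  (isPullback_projSpaceOverMap N f).lift_fst _ _ _

lemma isPullback_bcσ :
    IsPullback (bcσ f g N σ hσ) (pullback.snd f g) (projSpaceOverMap N f) σ := by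
  refine IsPullback.of_right ?_ (bcσ_map f g N σ hσ) (isPullback_projSpaceOverMap N f).flip
  rw [bcσ_toBase f g N σ hσ, hσ]
  exact IsPullback.of_hasPullback f g

instance [IsClosedImmersion σ] : IsClosedImmersion (bcσ f g N σ hσ) :=
  MorphismProperty.of_isPullback (P := @IsClosedImmersion) (isPullback_bcσ f g N σ hσ).flip
    inferInstance

end HProj


section Image

variable {X S : Scheme.{u}} (C : ChowData S X)

namespace ChowData

theorem dense_preimage_U : Dense ((C.π ⁻¹ᵁ C.U : C.X'.Opens) : Set C.X') := by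
  have h1 : Set.range C.θ ⊆ ((C.π ⁻¹ᵁ C.U : C.X'.Opens) : Set C.X') := by
    rintro _ ⟨y, rfl⟩
    change C.π (C.θ y) ∈ C.U
    rw [← Scheme.Hom.comp_apply, C.θ_π]
    exact y.2
  exact C.θ.denseRange.mono h1

theorem isReduced_X' [IsReduced X] : IsReduced C.X' := by
  have : IsReduced C.U.toScheme := isReduced_of_isOpenImmersion C.U.ι
  exact IsSchemeTheoreticallyDominant.isReduced C.θ

theorem irreducibleSpace_X' [IrreducibleSpace X] (hU : Dense (C.U : Set X)) :
    IrreducibleSpace C.X' := by
  have : Nonempty C.U.toScheme := by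
    obtain ⟨x, hx⟩ := hU.nonempty
    exact ⟨⟨x, hx⟩⟩
  have : IrreducibleSpace C.U.toScheme := C.U.ι.isOpenEmbedding.irreducibleSpace
  rw [irreducibleSpace_def]
  have h1 : IsIrreducible (Set.range C.θ) := by
    rw [← Set.image_univ]
    exact (IrreducibleSpace.isIrreducible_univ _).image _ C.θ.continuous.continuousOn
  have h2 := h1.closure
  rwa [C.θ.denseRange.closure_eq] at h2

end ChowData

end Image


section Main

variable {X S : Scheme.{u}} (f : X ⟶ S)

/-- the identity is H-projective -/
theorem isHProjective_id (X : Scheme.{u}) : RelProj.IsHProjective (𝟙 X) :=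
  ⟨0, secOf 0 (zeroZ 0) (zeroZ_toSpec 0) X, inferInstance, secOf_toBase 0 _ _ X⟩

/-- **Chow's lemma**, strong form (EGA II 5.6.1), over a quasi-compact quasi-separated base, for `X` with
finitely many irreducible components. -/
theorem chow_strong [CompactSpace S] [QuasiSeparatedSpace S]
    [IsSeparated f] [LocallyOfFiniteType f] [QuasiCompact f]
    (hirr : (irreducibleComponents (X : Type u)).Finite) :
    ∃ (X' : Scheme.{u}) (π : X' ⟶ X),
      RelProj.IsHQuasiProjective (π ≫ f) ∧ (IsProper f → RelProj.IsHProjective (π ≫ f)) ∧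
      RelProj.IsHProjective π ∧ Surjective π ∧
      (∃ U : X.Opens, Dense (U : Set X) ∧ Dense ((π ⁻¹ᵁ U : X'.Opens) : Set X') ∧ IsIso (π ∣_ U)) ∧
      (IsReduced X → IsReduced X') ∧ (IrreducibleSpace X → IrreducibleSpace X') := by
  classical
  have : CompactSpace X := QuasiCompact.compactSpace_of_compactSpace f
  have : QuasiSeparatedSpace X := quasiSeparatedSpace_of_quasiSeparated f
  rcases isEmpty_or_nonempty X with hX | hX
  · -- the empty scheme
    have hcl : IsClosedImmersion (isInitialOfIsEmpty.to (ProjSpaceOver 0 S) : X ⟶ _) := by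
      have ho : IsOpenImmersion (isInitialOfIsEmpty.to (ProjSpaceOver 0 S) : X ⟶ _) := inferInstance
      refine IsClosedImmersion.of_isPreimmersion _ ?_
      rw [Set.range_eq_empty]
      exact isClosed_empty
    refine ⟨X, 𝟙 X, ⟨0, isInitialOfIsEmpty.to _, inferInstance, inferInstance,
        isInitialOfIsEmpty.hom_ext _ _⟩,
      fun _ => ⟨0, isInitialOfIsEmpty.to _, hcl, isInitialOfIsEmpty.hom_ext _ _⟩,
      isHProjective_id X, inferInstance, ⟨⊤, dense_univ, ?_, inferInstance⟩, id, id⟩
    rw [Scheme.Hom.preimage_top]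
    exact dense_univ
  have hV := fun x : X => exists_good_dense_nhds f hirr x
  choose V hVx hVc hVg hVd using hV
  obtain ⟨t, ht⟩ := CompactSpace.elim_nhds_subcover (fun x => (V x : Set X))
    (fun x => (V x).isOpen.mem_nhds (hVx x))
  have htne : t.Nonempty := by
    by_contra hne
    rw [Finset.not_nonempty_iff_eq_empty] at hne
    subst hne
    obtain ⟨x⟩ := hX
    have : x ∈ (⊤ : Set X) := trivial
    rw [← ht] at this
    simp at this
  obtain ⟨r, hr⟩ := Nat.exists_eq_succ_of_ne_zero (Finset.card_ne_zero.mpr htne)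
  let e : Fin (r + 1) ≃ ↥t := (finCongr hr.symm).trans t.equivFin.symm
  let Uo : Fin (r + 1) → X.Opens := fun i => V (e i).1
  have cov : ⨆ i, Uo i = ⊤ := by
    rw [eq_top_iff]
    intro x _
    have hx : x ∈ (⊤ : Set X) := trivial
    rw [← ht] at hx
    simp only [Set.mem_iUnion] at hx
    obtain ⟨y, hy, hxy⟩ := hx
    refine Opens.mem_iSup.mpr ⟨e.symm ⟨y, hy⟩, ?_⟩
    change x ∈ V (e (e.symm ⟨y, hy⟩)).1
    rw [Equiv.apply_symm_apply]
    exact hxy
  have hUc : ∀ i, IsCompact (Uo i : Set X) := fun i => hVc _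
  have : ∀ i, CompactSpace (Uo i).toScheme := fun i => isCompact_iff_compactSpace.mp (hUc i)
  have hUd : ∀ i, Dense (Uo i : Set X) := fun i => hVd _
  -- immersions into projective spaces
  have him : ∀ i, Good f (Uo i) := fun i => hVg _
  choose n j hjimm hjcomp using him
  have : ∀ i, IsProper (ProjSpaceOver.toBase (n i) S) :=
    fun i => Groth.Agent.Lib.ProjSpaceProper.isProper_toBase (n i) S
  have : ∀ i, QuasiSeparatedSpace (ProjSpaceOver (n i) S) :=
    fun i => quasiSeparatedSpace_of_quasiSeparated (ProjSpaceOver.toBase (n i) S)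
  have : ∀ i, IsImmersion (j i) := hjimm
  have : ∀ i, QuasiCompact (j i) := fun i => inferInstance
  let P : Fin (r + 1) → Scheme.{u} := fun i => (j i).image
  let c : ∀ i, P i ⟶ ProjSpaceOver (n i) S := fun i => (j i).imageι
  let q : ∀ i, P i ⟶ S := fun i => c i ≫ ProjSpaceOver.toBase (n i) S
  obtain ⟨D, N, σ, hσ, hσq⟩ := exists_finProd_segre_over S r P q n c
    (fun i => inferInstance) (fun i => rfl)
  have := hσ
  have : IsProper (ProjSpaceOver.toBase N S) :=
    Groth.Agent.Lib.ProjSpaceProper.isProper_toBase N S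
  have : QuasiSeparatedSpace (ProjSpaceOver N S) :=
    quasiSeparatedSpace_of_quasiSeparated (ProjSpaceOver.toBase N S)
  have hDp : IsProper D.hom := by rw [← hσq]; infer_instance
  have : ∀ i, IsProper (q i) := fun i => inferInstance
  have hcpt : CompactSpace ↥(⨅ i, Uo i : X.Opens) := by
    refine isCompact_iff_compactSpace.mp ?_
    rw [← Finset.inf_univ_eq_iInf]
    exact isCompact_finset_inf _ _ hUc
  have hqs : QuasiSeparatedSpace ↥(pullback f D.hom) :=
    quasiSeparatedSpace_of_quasiSeparated (pullback.fst f D.hom ≫ f)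
  let C : ChowData S X :=
    { f := f, r := r, P := P, q := q, D := D, Uo := Uo
      t := fun i => (j i).toImage
      ht := fun i => by
        change (j i).toImage ≫ (j i).imageι ≫ _ = _
        rw [← Category.assoc, Scheme.Hom.toImage_imageι, hjcomp]
      sepf := inferInstance
      sepq := fun i => inferInstance
      sepD := inferInstance
      ot := fun i => inferInstance
      cov := cov
      cpt := hcpt
      qs := hqs }
  have hUdense : Dense (C.U : Set X) := by
    change Dense ((⨅ i, Uo i : X.Opens) : Set X)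
    rw [← Finset.inf_univ_eq_iInf]
    exact dense_finset_inf _ _ hUd
  have : IsProper C.D.hom := hDp
  have := C.isImmersion_φ
  have hπ := C.isProper_π
  have : CompactSpace C.X' := QuasiCompact.compactSpace_of_compactSpace C.π
  have hw : (C.φ ≫ σ) ≫ ProjSpaceOver.toBase N S = C.π ≫ f := by
    rw [Category.assoc, hσq]
    exact C.π_f.symm
  refine ⟨C.X', C.π, ⟨N, C.φ ≫ σ, inferInstance, inferInstance, hw⟩, ?_, ?_,
    ⟨C.surjective_π hUdense⟩, ⟨C.U, hUdense, C.dense_preimage_U, C.isIso_π_restrict⟩,
    fun _ => C.isReduced_X', fun _ => C.irreducibleSpace_X' hUdense⟩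
  · intro hf
    have : IsProper C.f := hf
    have := C.isClosedImmersion_φ
    exact ⟨N, C.φ ≫ σ, inferInstance, hw⟩
  · refine ⟨N, C.ι' ≫ bcσ f D.hom N σ hσq, inferInstance, ?_⟩
    rw [Category.assoc, bcσ_toBase]

/-- the two alternative hypotheses of EGA II 5.6.1 both give a qcqs base and finitely many components -/
theorem qcqs_of_hyp [LocallyOfFiniteType f] [QuasiCompact f]
    (h : IsNoetherian S ∨ (CompactSpace S ∧ S.IsSeparated ∧ (irreducibleComponents X).Finite)) :
    CompactSpace S ∧ QuasiSeparatedSpace S ∧ (irreducibleComponents X).Finite := by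
  rcases h with h | ⟨h1, h2, h3⟩
  · have : IsLocallyNoetherian X := LocallyOfFiniteType.isLocallyNoetherian f
    have : CompactSpace X := QuasiCompact.compactSpace_of_compactSpace f
    have : IsNoetherian X := ⟨⟩
    exact ⟨inferInstance, inferInstance, TopologicalSpace.NoetherianSpace.finite_irreducibleComponents⟩
  · exact ⟨h1, inferInstance, h3⟩

end Main

end Groth.Agent.Lib.ChowGen85
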