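/-
# General Chow lemma, part 7 (helper85): no irreducibility hypotheses

* `chow_core`: Chow's construction for a finite cover by quasi-compact opens immersed in projective spaces:
  `π` H-projective, `π ≫ f` H-quasi-projective, `π` an isomorphism over the intersection of the cover;
* `exists_good_split`: a nonempty affine quasi-projective open contained in or disjoint from each member
  of a finite family of opens;
* `chow_nonempty`: `X` nonempty, `S` qcqs, `f` separated of finite type ⇒ Chow with `π` an isomorphism over a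
  nonempty open.
-/
import Groth.Agent.Lib.ChowGen85f

set_option autoImplicit false
universe u
open CategoryTheory CategoryTheory.Limits AlgebraicGeometry TopologicalSpace CohB1
open Groth.Agent.Lib.ProjProd Groth.Agent.Lib.H90Chow Groth.Agent.Lib.HQuasiProjH3

namespace Groth.Agent.Lib.ChowGen85

variable {X S : Scheme.{u}} (f : X ⟶ S)

/-- **Chow's construction** for a finite cover of `X` by quasi-compact opens admitting immersions into
projective spaces over `S`: `π` is an isomorphism over the intersection of the cover (which may be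
empty or non-dense: no surjectivity of `π` is claimed). -/
theorem chow_core [CompactSpace S] [QuasiSeparatedSpace S]
    [IsSeparated f] [LocallyOfFiniteType f] [QuasiCompact f]
    (r : ℕ) (Uo : Fin (r + 1) → X.Opens) (cov : ⨆ i, Uo i = ⊤)
    (hUc : ∀ i, IsCompact (Uo i : Set X)) (him : ∀ i, Good f (Uo i)) :
    ∃ (X' : Scheme.{u}) (π : X' ⟶ X),
      RelProj.IsHQuasiProjective (π ≫ f) ∧ RelProj.IsHProjective π ∧
        IsIso (π ∣_ (⨅ i, Uo i : X.Opens)) := by
  classical
  have : CompactSpace X := QuasiCompact.compactSpace_of_compactSpace f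
  have : QuasiSeparatedSpace X := quasiSeparatedSpace_of_quasiSeparated f
  have : ∀ i, CompactSpace (Uo i).toScheme := fun i => isCompact_iff_compactSpace.mp (hUc i)
  choose n j hjimm hjcomp using him
  have : ∀ i, IsProper (ProjSpaceOver.toBase (n i) S) :=
    fun i => Groth.Agent.Lib.ProjSpaceProper.isProper_toBase (n i) S
  have : ∀ i, QuasiSeparatedSpace (ProjSpaceOver (n i) S) :=
    fun i => quasiSeparatedSpace_of_quasiSeparated (ProjSpaceOver.toBase (n i) S)
  have : ∀ i, IsImmersion (j i) := hjimm
  have : ∀ i, QuasiCompact (j i) := fun i => inferInstance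
  let P : Fin (r + 1) → Scheme.{u} := fun i => (j i).image
  let c : ∀ i, P i ⟶ ProjSpaceOver (n i) S := fun i => (j i).imageι
  let q : ∀ i, P i ⟶ S := fun i => c i ≫ ProjSpaceOver.toBase (n i) S
  obtain ⟨D, N, σ, hσ, hσq⟩ := exists_finProd_segre_over S r P q n c
    (fun i => inferInstance) (fun i => rfl)
  have := hσ
  have : IsProper (ProjSpaceOver.toBase N S) :=
    Groth.Agent.Lib.ProjSpaceProper.isProper_toBase N S
  have : QuasiSeparatedSpace (ProjSpaceOver N S) :=
    quasiSeparatedSpace_of_quasiSeparated (ProjSpaceOver.toBase N S)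
  have hDp : IsProper D.hom := by rw [← hσq]; infer_instance
  have : ∀ i, IsProper (q i) := fun i => inferInstance
  have hcpt : CompactSpace ↥(⨅ i, Uo i : X.Opens) := by
    refine isCompact_iff_compactSpace.mp ?_
    rw [← Finset.inf_univ_eq_iInf]
    exact isCompact_finset_inf _ _ hUc
  have hqs : QuasiSeparatedSpace ↥(pullback f D.hom) :=
    quasiSeparatedSpace_of_quasiSeparated (pullback.fst f D.hom ≫ f)
  let C : ChowData S X :=
    { f := f, r := r, P := P, q := q, D := D, Uo := Uo
      t := fun i => (j i).toImage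
      ht := fun i => by
        change (j i).toImage ≫ (j i).imageι ≫ _ = _
        rw [← Category.assoc, Scheme.Hom.toImage_imageι, hjcomp]
      sepf := inferInstance
      sepq := fun i => inferInstance
      sepD := inferInstance
      ot := fun i => inferInstance
      cov := cov
      cpt := hcpt
      qs := hqs }
  have : IsProper C.D.hom := hDp
  have := C.isImmersion_φ
  have hπ := C.isProper_π
  have : CompactSpace C.X' := QuasiCompact.compactSpace_of_compactSpace C.π
  have hw : (C.φ ≫ σ) ≫ ProjSpaceOver.toBase N S = C.π ≫ f := by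
    rw [Category.assoc, hσq]
    exact C.π_f.symm
  refine ⟨C.X', C.π, ⟨N, C.φ ≫ σ, inferInstance, inferInstance, hw⟩, ?_, C.isIso_π_restrict⟩
  refine ⟨N, C.ι' ≫ bcσ f D.hom N σ hσq, inferInstance, ?_⟩
  rw [Category.assoc, bcσ_toBase]

/-- shrinking a nonempty open to a nonempty affine quasi-projective one that, for each member of a given
finite family of opens, is either contained in it or disjoint from it -/
theorem exists_good_split [LocallyOfFiniteType f] (F : Finset X.Opens) (W : X.Opens)
    (hWne : (W : Set X).Nonempty) :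
    ∃ W' : X.Opens, W' ≤ W ∧ (W' : Set X).Nonempty ∧ IsAffineOpen W' ∧ Good f W' ∧
      ∀ V ∈ F, W' ≤ V ∨ Disjoint W' V := by
  classical
  induction F using Finset.induction_on with
  | empty =>
    obtain ⟨x, hx⟩ := hWne
    obtain ⟨W', hxW', hW'W, hW'a, hW'g⟩ := exists_good_nhds f x W hx
    exact ⟨W', hW'W, ⟨x, hxW'⟩, hW'a, hW'g, by simp⟩
  | insert V F _ ih =>
    obtain ⟨W', hW'W, hW'ne, hW'a, hW'g, hW'F⟩ := ih
    by_cases h : ((W' ⊓ V : X.Opens) : Set X).Nonempty
    · obtain ⟨x, hx⟩ := h
      obtain ⟨W'', hxW'', hW''le, hW''a, hW''g⟩ := exists_good_nhds f x (W' ⊓ V) hx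
      refine ⟨W'', (hW''le.trans inf_le_left).trans hW'W, ⟨x, hxW''⟩, hW''a, hW''g, ?_⟩
      intro V' hV'
      rcases Finset.mem_insert.mp hV' with rfl | hV'F
      · exact Or.inl (hW''le.trans inf_le_right)
      · rcases hW'F V' hV'F with h1 | h1
        · exact Or.inl ((hW''le.trans inf_le_left).trans h1)
        · exact Or.inr (h1.mono_left (hW''le.trans inf_le_left))
    · refine ⟨W', hW'W, hW'ne, hW'a, hW'g, ?_⟩
      intro V' hV'
      rcases Finset.mem_insert.mp hV' with rfl | hV'F
      · right
        rw [disjoint_iff, ← Opens.coe_eq_empty]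
        exact Set.not_nonempty_iff_eq_empty.mp h
      · exact hW'F V' hV'F

/-- **Chow's lemma without irreducibility hypotheses**: over a quasi-compact quasi-separated base, for `X`
nonempty, `π` is an isomorphism over some nonempty open (not necessarily dense; `π` need not be
surjective). -/
theorem chow_nonempty [CompactSpace S] [QuasiSeparatedSpace S]
    [IsSeparated f] [LocallyOfFiniteType f] [QuasiCompact f] [Nonempty X] :
    ∃ (X' : Scheme.{u}) (π : X' ⟶ X),
      RelProj.IsHQuasiProjective (π ≫ f) ∧ RelProj.IsHProjective π ∧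
        ∃ U : X.Opens, (U : Set X).Nonempty ∧ IsIso (π ∣_ U) := by
  classical
  have : CompactSpace X := QuasiCompact.compactSpace_of_compactSpace f
  have hV := fun x : X => exists_good_nhds f x ⊤ trivial
  choose V hVx _ hVa hVg using hV
  obtain ⟨t, ht⟩ := CompactSpace.elim_nhds_subcover (fun x => (V x : Set X))
    (fun x => (V x).isOpen.mem_nhds (hVx x))
  have htne : t.Nonempty := by
    by_contra hne
    rw [Finset.not_nonempty_iff_eq_empty] at hne
    subst hne
    obtain ⟨x⟩ := ‹Nonempty X›
    have : x ∈ (⊤ : Set X) := trivial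
    rw [← ht] at this
    simp at this
  obtain ⟨W, -, hWne, hWa, hWg, hWF⟩ := exists_good_split f (t.image V) ⊤
    (Set.univ_nonempty (α := X))
  obtain ⟨r, hr⟩ := Nat.exists_eq_succ_of_ne_zero (Finset.card_ne_zero.mpr htne)
  let e : Fin (r + 1) ≃ ↥t := (finCongr hr.symm).trans t.equivFin.symm
  let Uo : Fin (r + 1) → X.Opens := fun i => if W ≤ V (e i).1 then V (e i).1 else V (e i).1 ⊔ W
  have hle : ∀ i, V (e i).1 ≤ Uo i := by
    intro i
    change _ ≤ if W ≤ V (e i).1 then V (e i).1 else V (e i).1 ⊔ W
    split_ifs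
    · exact le_rfl
    · exact le_sup_left
  have cov : ⨆ i, Uo i = ⊤ := by
    rw [eq_top_iff]
    intro x _
    have hx : x ∈ (⊤ : Set X) := trivial
    rw [← ht] at hx
    simp only [Set.mem_iUnion] at hx
    obtain ⟨y, hy, hxy⟩ := hx
    refine Opens.mem_iSup.mpr ⟨e.symm ⟨y, hy⟩, hle _ ?_⟩
    change x ∈ V (e (e.symm ⟨y, hy⟩)).1
    rw [Equiv.apply_symm_apply]
    exact hxy
  have hUc : ∀ i, IsCompact (Uo i : Set X) := by
    intro i
    change IsCompact ((if W ≤ V (e i).1 then V (e i).1 else V (e i).1 ⊔ W : X.Opens) : Set X)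
    split_ifs
    · exact (hVa _).isCompact
    · rw [Opens.coe_sup]
      exact (hVa _).isCompact.union hWa.isCompact
  have him : ∀ i, Good f (Uo i) := by
    intro i
    change Good f (if W ≤ V (e i).1 then V (e i).1 else V (e i).1 ⊔ W)
    split_ifs with h
    · exact hVg _
    · have hd : Disjoint W (V (e i).1) :=
        (hWF _ (Finset.mem_image_of_mem V (e i).2)).resolve_left h
      exact Good.sup hd.symm (hVg _) hWg
  have hWU : W ≤ ⨅ i, Uo i := by
    refine le_iInf fun i => ?_
    change W ≤ if W ≤ V (e i).1 then V (e i).1 else V (e i).1 ⊔ W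
    split_ifs with h
    · exact h
    · exact le_sup_right
  obtain ⟨X', π, h1, h2, h3⟩ := chow_core f r Uo cov hUc him
  exact ⟨X', π, h1, h2, ⨅ i, Uo i, hWne.mono hWU, h3⟩

end Groth.Agent.Lib.ChowGen85
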