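import Mathlib.Algebra.Homology.Refinements
import Mathlib.Algebra.Homology.QuasiIso
import Mathlib.Algebra.Homology.HomologySequence
import Mathlib.CategoryTheory.Abelian.Refinements
import Mathlib.CategoryTheory.Abelian.CommSq
import Mathlib.Algebra.Homology.Embedding.CochainComplex
import Mathlib.Algebra.Homology.Embedding.ExtendHomology

/-!
# Right resolutions by a class of objects (helper21)

`A` abelian, `I` a class of objects such that every object of `A` embeds into an object of `I`.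
Every `ℕ`-indexed cochain complex `K` admits a termwise monomorphic quasi-isomorphism `K ⟶ L`
with all `L.X k` in `I` (`main_nat`); `ℤ`-indexed versions for complexes which are strictly `≥ a`
(`main_int`, `exists_right_resolution`) and for complexes with cohomology in degrees `≥ a`
(`exists_right_resolution_of_isGE`).

The inductive construction follows the pattern of `Lib/ThickRes31` (helper31): a recursion on
`State`s via `Classical.choose`, assembled with `CochainComplex.of`, the quasi-isomorphism being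
checked with the criteria up to refinements.
-/

set_option autoImplicit false

open CategoryTheory Limits Category

namespace Groth.Agent.Lib.ClassResolution

variable {A : Type*} [Category* A] [Abelian A]

/-- Elements of a pushout which agree in the pushout come from the corner (up to refinements). -/
lemma pushout_eq_up_to_refinements {X₁ X₂ X₃ X₄ : A} {t : X₁ ⟶ X₂} {l : X₁ ⟶ X₃}
    {r : X₂ ⟶ X₄} {b : X₃ ⟶ X₄} (sq : IsPushout t l r b) {T : A} (x₂ : T ⟶ X₂) (x₃ : T ⟶ X₃)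
    (hx : x₂ ≫ r = x₃ ≫ b) :
    ∃ (T' : A) (π : T' ⟶ T) (_ : Epi π) (w : T' ⟶ X₁), π ≫ x₂ = w ≫ t ∧ π ≫ x₃ = w ≫ l := by
  have hz : biprod.lift x₂ (-x₃) ≫ sq.shortComplex.g = 0 := by
    change biprod.lift x₂ (-x₃) ≫ biprod.desc r b = 0
    rw [biprod.lift_desc, hx, Preadditive.neg_comp, add_neg_cancel]
  obtain ⟨T', π, hπ, w, hw⟩ := sq.exact_shortComplex.exact_up_to_refinements _ hz
  change T' ⟶ X₁ at w
  change π ≫ biprod.lift x₂ (-x₃) = w ≫ biprod.lift t (-l) at hw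
  refine ⟨T', π, hπ, w, ?_, ?_⟩
  · have := hw =≫ biprod.fst
    simpa using this
  · have := hw =≫ biprod.snd
    simpa using this

variable (K : CochainComplex A ℕ) (I : A → Prop)

/-- The state of the inductive construction in degree `k`. -/
structure State (k : ℕ) where
  J : A
  hI : I J
  f : K.X k ⟶ J
  mono_f : Mono f
  C : A
  c : J ⟶ C
  epi_c : Epi c
  s1 : ∀ j, K.d j k ≫ f ≫ c = 0
  s2 : ∀ ⦃T : A⦄ (x : T ⟶ K.X k), x ≫ f ≫ c = 0 →
    ∃ (T' : A) (π : T' ⟶ T) (_ : Epi π) (j : ℕ) (_ : (ComplexShape.up ℕ).prev k = j)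
      (y : T' ⟶ K.X j), π ≫ x = y ≫ K.d j k

variable {K I}

/-- The properties of one step of the construction. -/
structure StepProps {k : ℕ} (σ : State K I k) (τ : State K I (k + 1)) (d : σ.J ⟶ τ.J) : Prop where
  d1 : σ.f ≫ d = K.d k (k + 1) ≫ τ.f
  d2 : ∃ r : σ.C ⟶ τ.J, d = σ.c ≫ r
  d3 : d ≫ τ.c = 0
  d4 : ∀ ⦃T : A⦄ (y : T ⟶ τ.J), y ≫ τ.c = 0 →
    ∃ (T' : A) (π : T' ⟶ T) (_ : Epi π) (z : T' ⟶ σ.J), π ≫ y = z ≫ d
  d5 : ∀ ⦃T : A⦄ (y : T ⟶ σ.J), y ≫ d = 0 →
    ∃ (T' : A) (π : T' ⟶ T) (_ : Epi π) (x : T' ⟶ K.X k), x ≫ K.d k (k + 1) = 0 ∧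
      π ≫ y ≫ σ.c = x ≫ σ.f ≫ σ.c

/-- The initial state. -/
lemma exists_init (hI : ∀ X : A, ∃ (Y : A) (ι : X ⟶ Y), I Y ∧ Mono ι) :
    ∃ σ : State K I 0, Mono σ.c := by
  obtain ⟨J, i, hJ, hi⟩ := hI (K.X 0)
  refine ⟨{ J := J, hI := hJ, f := i, mono_f := hi, C := J, c := 𝟙 J, epi_c := inferInstance,
            s1 := ?_, s2 := ?_ }, ?_⟩
  · intro j
    have : K.d j 0 = 0 := K.shape _ _ (by simp)
    rw [this, zero_comp]
  · intro T x hx
    refine ⟨T, 𝟙 T, inferInstance, _, rfl, 0, ?_⟩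
    rw [id_comp, zero_comp]
    rw [comp_id] at hx
    rw [← cancel_mono i, hx, zero_comp]
  · dsimp only
    infer_instance

lemma exists_next (hI : ∀ X : A, ∃ (Y : A) (ι : X ⟶ Y), I Y ∧ Mono ι) {k : ℕ}
    (σ : State K I k) :
    ∃ (τ : State K I (k + 1)) (d : σ.J ⟶ τ.J), StepProps σ τ d := by
  have := σ.epi_c
  have := σ.mono_f
  obtain ⟨j, hj⟩ : ∃ j, (ComplexShape.up ℕ).prev k = j := ⟨_, rfl⟩
  have hnext : (ComplexShape.up ℕ).next k = k + 1 := by simp
  have hprev' : (ComplexShape.up ℕ).prev (k + 1) = k := by simp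
  -- the map `β : K.opcycles k ⟶ C`
  let β : K.opcycles k ⟶ σ.C := K.descOpcycles (σ.f ≫ σ.c) j hj (σ.s1 j)
  have hpβ : K.pOpcycles k ≫ β = σ.f ≫ σ.c := K.p_descOpcycles _ _ _ _
  have hmono : Mono β := by
    rw [Preadditive.mono_iff_cancel_zero]
    intro T x' hx'
    obtain ⟨T₁, π₁, _, x, hx⟩ := surjective_up_to_refinements_of_epi (K.pOpcycles k) x'
    have h1 : x ≫ σ.f ≫ σ.c = 0 := by
      rw [← hpβ, ← assoc, ← hx, assoc, hx', comp_zero]
    obtain ⟨T₂, π₂, _, j', hj', y, hy⟩ := σ.s2 x h1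
    obtain rfl : j = j' := hj.symm.trans hj'
    rw [← cancel_epi π₁, ← cancel_epi π₂, comp_zero, comp_zero, hx, ← assoc, hy, assoc,
      K.d_pOpcycles, comp_zero]
  let v : K.opcycles k ⟶ K.X (k + 1) := K.fromOpcycles k (k + 1)
  have hpv : K.pOpcycles k ≫ v = K.d k (k + 1) := K.p_fromOpcycles k (k + 1)
  -- the pushout `N`
  let inl : σ.C ⟶ pushout β v := pushout.inl β v
  let inr : K.X (k + 1) ⟶ pushout β v := pushout.inr β v
  have sq : IsPushout β v inl inr := IsPushout.of_hasPushout β v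
  have hmono_inr : Mono inr := by
    dsimp only [inr]
    infer_instance
  obtain ⟨J', i', hJ', hi'⟩ := hI (pushout β v)
  let r : σ.C ⟶ J' := inl ≫ i'
  let f' : K.X (k + 1) ⟶ J' := inr ≫ i'
  have hf' : Mono f' := mono_comp _ _
  let d : σ.J ⟶ J' := σ.c ≫ r
  have hexr : (ShortComplex.mk r (cokernel.π r) (cokernel.condition r)).Exact :=
    ShortComplex.exact_of_g_is_cokernel _ (cokernelIsCokernel r)
  have hd1 : σ.f ≫ d = K.d k (k + 1) ≫ f' := by
    dsimp only [d, r, f']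
    rw [← hpv, assoc, ← assoc v, ← sq.w, assoc, ← assoc (K.pOpcycles k), hpβ, assoc]
  have hd3 : d ≫ cokernel.π r = 0 := by
    dsimp only [d]
    rw [assoc, cokernel.condition, comp_zero]
  have hs1 : ∀ j', K.d j' (k + 1) ≫ f' ≫ cokernel.π r = 0 := by
    intro j'
    by_cases hj' : (ComplexShape.up ℕ).Rel j' (k + 1)
    · obtain rfl : j' = k := by
        have : j' + 1 = k + 1 := hj'
        omega
      rw [← assoc, ← hd1, assoc, hd3, comp_zero]
    · rw [K.shape _ _ hj', zero_comp]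
  have hs2 : ∀ ⦃T : A⦄ (x : T ⟶ K.X (k + 1)), x ≫ f' ≫ cokernel.π r = 0 →
      ∃ (T' : A) (π : T' ⟶ T) (_ : Epi π) (j : ℕ) (_ : (ComplexShape.up ℕ).prev (k + 1) = j)
        (y : T' ⟶ K.X j), π ≫ x = y ≫ K.d j (k + 1) := by
    intro T x hx
    have h1 : (x ≫ inr ≫ i') ≫ cokernel.π r = 0 := by
      rw [assoc]
      exact hx
    obtain ⟨T₁, π₁, _, y', hy'⟩ := hexr.exact_up_to_refinements _ h1
    dsimp only at y' hy'
    have h2 : y' ≫ inl = (π₁ ≫ x) ≫ inr := by
      rw [← cancel_mono i', assoc, assoc, assoc]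
      exact hy'.symm
    obtain ⟨T₂, π₂, _, w, hw1, hw2⟩ := pushout_eq_up_to_refinements sq y' (π₁ ≫ x) h2
    obtain ⟨T₃, π₃, _, y, hy⟩ := surjective_up_to_refinements_of_epi (K.pOpcycles k) w
    refine ⟨T₃, π₃ ≫ π₂ ≫ π₁, inferInstance, k, hprev', y, ?_⟩
    rw [assoc, assoc, hw2, ← assoc, hy, assoc, hpv]
  have hd4 : ∀ ⦃T : A⦄ (y : T ⟶ J'), y ≫ cokernel.π r = 0 →
      ∃ (T' : A) (π : T' ⟶ T) (_ : Epi π) (z : T' ⟶ σ.J), π ≫ y = z ≫ d := by
    intro T y hy
    obtain ⟨T₁, π₁, _, y', hy'⟩ := hexr.exact_up_to_refinements y hy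
    dsimp only at y' hy'
    obtain ⟨T₂, π₂, _, z, hz⟩ := surjective_up_to_refinements_of_epi σ.c y'
    refine ⟨T₂, π₂ ≫ π₁, inferInstance, z, ?_⟩
    dsimp only [d]
    rw [assoc, hy', ← assoc, hz, assoc]
  have hd5 : ∀ ⦃T : A⦄ (y : T ⟶ σ.J), y ≫ d = 0 →
      ∃ (T' : A) (π : T' ⟶ T) (_ : Epi π) (x : T' ⟶ K.X k), x ≫ K.d k (k + 1) = 0 ∧
        π ≫ y ≫ σ.c = x ≫ σ.f ≫ σ.c := by
    intro T y hy
    have h1 : (y ≫ σ.c) ≫ inl = (0 : T ⟶ K.X (k + 1)) ≫ inr := by
      rw [← cancel_mono i', zero_comp, zero_comp, assoc, assoc]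
      simpa only [d, r, assoc] using hy
    obtain ⟨T₁, π₁, _, w, hw1, hw2⟩ := pushout_eq_up_to_refinements sq (y ≫ σ.c) 0 h1
    obtain ⟨T₂, π₂, _, x, hx⟩ := surjective_up_to_refinements_of_epi (K.pOpcycles k) w
    refine ⟨T₂, π₂ ≫ π₁, inferInstance, x, ?_, ?_⟩
    · rw [← hpv, ← assoc, ← hx, assoc, ← hw2, comp_zero, comp_zero]
    · rw [assoc, hw1, ← assoc, hx, assoc, hpβ]
  exact ⟨{ J := J', hI := hJ', f := f', mono_f := hf', C := cokernel r, c := cokernel.π r,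
           epi_c := inferInstance, s1 := hs1, s2 := hs2 }, d,
         { d1 := hd1, d2 := ⟨r, rfl⟩, d3 := hd3, d4 := hd4, d5 := hd5 }⟩

section Assembly

variable (hI : ∀ X : A, ∃ (Y : A) (ι : X ⟶ Y), I Y ∧ Mono ι)

/-- The sequence of states. -/
noncomputable def seq : ∀ k, State K I k
  | 0 => (exists_init (K := K) hI).choose
  | k + 1 => (exists_next hI (seq k)).choose

/-- The differentials. -/
noncomputable def dseq (k : ℕ) : (seq (K := K) hI k).J ⟶ (seq (K := K) hI (k + 1)).J :=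
  (exists_next hI (seq (K := K) hI k)).choose_spec.choose

lemma stepProps (k : ℕ) :
    StepProps (seq (K := K) hI k) (seq (K := K) hI (k + 1)) (dseq (K := K) hI k) :=
  (exists_next hI (seq (K := K) hI k)).choose_spec.choose_spec

lemma mono_c_zero : Mono (seq (K := K) hI 0).c := (exists_init (K := K) hI).choose_spec

lemma dseq_comp (k : ℕ) : dseq (K := K) hI k ≫ dseq (K := K) hI (k + 1) = 0 := by
  obtain ⟨r, hr⟩ := (stepProps (K := K) hI (k + 1)).d2
  rw [hr, ← assoc, (stepProps (K := K) hI k).d3, zero_comp]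

/-- The resolving complex. -/
noncomputable def J : CochainComplex A ℕ :=
  CochainComplex.of (fun k => (seq (K := K) hI k).J) (dseq (K := K) hI) (dseq_comp (K := K) hI)

lemma J_d (k : ℕ) : (J (K := K) hI).d k (k + 1) = dseq (K := K) hI k := by
  dsimp only [J]
  exact CochainComplex.of_d _ _ _

/-- The comparison map. -/
noncomputable def fK : K ⟶ J (K := K) hI where
  f k := (seq (K := K) hI k).f
  comm' i j hij := by
    obtain rfl : i + 1 = j := hij
    rw [J_d]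
    exact (stepProps (K := K) hI i).d1

lemma J_d_comp_c (i k : ℕ) : (J (K := K) hI).d i k ≫ (seq (K := K) hI k).c = 0 := by
  by_cases hik : (ComplexShape.up ℕ).Rel i k
  · obtain rfl : i + 1 = k := hik
    rw [J_d]
    exact (stepProps (K := K) hI i).d3
  · rw [(J (K := K) hI).shape _ _ hik, zero_comp]

lemma c_property (k : ℕ) ⦃T : A⦄ (y : T ⟶ (seq (K := K) hI k).J)
    (hy : y ≫ (seq (K := K) hI k).c = 0) :
    ∃ (T' : A) (π : T' ⟶ T) (_ : Epi π) (i : ℕ) (_ : (ComplexShape.up ℕ).prev k = i)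
      (z : T' ⟶ (seq (K := K) hI i).J), π ≫ y = z ≫ (J (K := K) hI).d i k := by
  cases k with
  | zero =>
    have := mono_c_zero (K := K) hI
    have hy0 : y = 0 := by
      rw [← cancel_mono (seq (K := K) hI 0).c, hy, zero_comp]
    refine ⟨T, 𝟙 T, inferInstance, _, rfl, 0, ?_⟩
    rw [hy0, comp_zero]
    exact zero_comp.symm
  | succ k =>
    obtain ⟨T', π, hπ, z, hz⟩ := (stepProps (K := K) hI k).d4 y hy
    refine ⟨T', π, hπ, k, by simp, z, ?_⟩
    rw [J_d]
    exact hz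

instance quasiIso_fK : QuasiIso (fK (K := K) hI) := by
  refine ⟨fun k => ?_⟩
  rw [quasiIsoAt_iff_isIso_homologyMap]
  obtain ⟨i, hi⟩ : ∃ i, (ComplexShape.up ℕ).prev k = i := ⟨_, rfl⟩
  have hk : (ComplexShape.up ℕ).next k = k + 1 := by simp
  have hmono : Mono (HomologicalComplex.homologyMap (fK (K := K) hI) k) := by
    rw [HomologicalComplex.mono_homologyMap_iff_up_to_refinements (fK (K := K) hI) i k (k + 1) hi hk]
    intro T x₂ hx₂ y₁ hy₁
    have h0 : x₂ ≫ (seq (K := K) hI k).f ≫ (seq (K := K) hI k).c = 0 := by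
      rw [← assoc]
      change (x₂ ≫ (fK (K := K) hI).f k) ≫ _ = 0
      rw [hy₁, assoc, J_d_comp_c, comp_zero]
    obtain ⟨T', π, hπ, j, hj, y, hy⟩ := (seq (K := K) hI k).s2 x₂ h0
    obtain rfl : i = j := hi.symm.trans hj
    exact ⟨T', π, hπ, y, hy⟩
  have hepi : Epi (HomologicalComplex.homologyMap (fK (K := K) hI) k) := by
    rw [HomologicalComplex.epi_homologyMap_iff_up_to_refinements (fK (K := K) hI) i k (k + 1) hi hk]
    intro T y₂ hy₂
    rw [J_d] at hy₂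
    change T ⟶ (seq (K := K) hI k).J at y₂
    obtain ⟨T₁, π₁, _, x, hx, hx'⟩ := (stepProps (K := K) hI k).d5 y₂ hy₂
    have h0 : (π₁ ≫ y₂ - x ≫ (seq (K := K) hI k).f) ≫ (seq (K := K) hI k).c = 0 := by
      rw [Preadditive.sub_comp, assoc, assoc, hx', sub_self]
    obtain ⟨T₂, π₂, _, j, hj, z, hz⟩ := c_property (K := K) hI k _ h0
    obtain rfl : i = j := hi.symm.trans hj
    refine ⟨T₂, π₂ ≫ π₁, inferInstance, π₂ ≫ x, by rw [assoc, hx, comp_zero], z, ?_⟩
    have e2 : (π₂ ≫ π₁) ≫ y₂ = (π₂ ≫ x) ≫ (seq (K := K) hI k).f +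
        (z ≫ (J (K := K) hI).d i k : T₂ ⟶ (seq (K := K) hI k).J) := by
      have e3 : (z ≫ (J (K := K) hI).d i k : T₂ ⟶ (seq (K := K) hI k).J) =
          π₂ ≫ π₁ ≫ y₂ - π₂ ≫ x ≫ (seq (K := K) hI k).f := by
        rw [← Preadditive.comp_sub]
        exact hz.symm
      rw [e3, assoc, assoc]
      abel
    exact e2
  exact isIso_of_mono_of_epi _

/-- **Main theorem** (ℕ-indexed version). -/
theorem main_nat (K : CochainComplex A ℕ)
    (hI : ∀ X : A, ∃ (Y : A) (ι : X ⟶ Y), I Y ∧ Mono ι) :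
    ∃ (L : CochainComplex A ℕ) (f : K ⟶ L),
    (∀ k, I (L.X k)) ∧ (∀ k, Mono (f.f k)) ∧ QuasiIso f :=
  ⟨J (K := K) hI, fK (K := K) hI, fun k => (seq (K := K) hI k).hI,
    fun k => (seq (K := K) hI k).mono_f, inferInstance⟩

end Assembly

end Groth.Agent.Lib.ClassResolution
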