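import Groth.Agent.Lib.ClassResolution

/-!
# Right resolutions by a class of objects: `ℤ`-indexed versions (helper21)

* `main_int`: `I` closed under isomorphisms and containing the zero objects, `K` strictly `≥ a`.
* `transport`: replace the terms of a complex by isomorphic objects.
* `exists_right_resolution`: `I` arbitrary containing *some* zero object (Stacks 05T6).
* `exists_right_resolution_of_isGE`: `K` with cohomology in degrees `≥ a` only (Stacks 05T6 (2)).
-/

set_option autoImplicit false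

open CategoryTheory Limits Category

namespace Groth.Agent.Lib.ClassResolution

variable {A : Type*} [Category* A] [Abelian A] {I : A → Prop}

/-- `ℤ`-indexed version for a class closed under isomorphisms and containing the zero objects. -/
theorem main_int (hiso : ∀ ⦃X Y : A⦄, (X ≅ Y) → I X → I Y) (h0 : ∀ Z : A, IsZero Z → I Z)
    (hI : ∀ X : A, ∃ (Y : A) (ι : X ⟶ Y), I Y ∧ Mono ι)
    (K : CochainComplex A ℤ) (a : ℤ) [K.IsStrictlyGE a] :
    ∃ (L : CochainComplex A ℤ) (f : K ⟶ L), L.IsStrictlyGE a ∧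
      (∀ n, I (L.X n)) ∧ (∀ n, Mono (f.f n)) ∧ QuasiIso f := by
  let e := ComplexShape.embeddingUpIntGE a
  have hπ : IsIso (HomologicalComplex.πTruncGE K e) := inferInstance
  let K₀ := HomologicalComplex.truncGE' K e
  obtain ⟨L₀, f₀, hL₀, hmono, hf₀⟩ := main_nat (I := I) K₀ hI
  refine ⟨L₀.extend e, HomologicalComplex.πTruncGE K e ≫ HomologicalComplex.extendMap f₀ e,
    ?_, ?_, ?_, ?_⟩
  · change (L₀.extend e).IsStrictlySupported e
    infer_instance
  · intro n
    by_cases hn : ∃ k, e.f k = n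
    · obtain ⟨k, hk⟩ := hn
      exact hiso (L₀.extendXIso e hk).symm (hL₀ k)
    · exact h0 _ (L₀.isZero_extend_X e n (by simpa using hn))
  · intro n
    by_cases hn : ∃ k, e.f k = n
    · obtain ⟨k, hk⟩ := hn
      have := hmono k
      have h1 : Mono ((HomologicalComplex.extendMap f₀ e).f n) := by
        rw [HomologicalComplex.extendMap_f f₀ e hk]
        infer_instance
      have h2 : IsIso ((HomologicalComplex.πTruncGE K e).f n) := inferInstance
      have h3 : Mono ((HomologicalComplex.πTruncGE K e).f n) := inferInstance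
      rw [HomologicalComplex.comp_f]
      exact @mono_comp _ _ _ _ _ _ h3 _ h1
    · have hn' : n < a := by
        rw [← ComplexShape.notMem_range_embeddingUpIntGE_iff]
        intro i hi
        exact hn ⟨i, hi⟩
      exact (K.isZero_of_isStrictlyGE a n hn').mono _
  · have h1 : QuasiIso (HomologicalComplex.extendMap f₀ e) := inferInstance
    let g : HomologicalComplex.truncGE K e ⟶ L₀.extend e := HomologicalComplex.extendMap f₀ e
    have h1' : QuasiIso g := h1
    have h2 : QuasiIso (HomologicalComplex.πTruncGE K e) := inferInstance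
    exact quasiIso_comp (HomologicalComplex.πTruncGE K e) g

/-- The complex obtained from `L` by replacing its terms by isomorphic objects. -/
noncomputable def transport (L : CochainComplex A ℤ) (Y : ℤ → A) (e : ∀ n, L.X n ≅ Y n) :
    CochainComplex A ℤ where
  X := Y
  d n m := (e n).inv ≫ L.d n m ≫ (e m).hom
  shape n m hnm := by rw [L.shape _ _ hnm, zero_comp, comp_zero]
  d_comp_d' n m k _ _ := by simp

/-- The isomorphism to the transported complex. -/
noncomputable def transportIso (L : CochainComplex A ℤ) (Y : ℤ → A) (e : ∀ n, L.X n ≅ Y n) :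
    L ≅ transport L Y e :=
  HomologicalComplex.Hom.isoOfComponents e (by
    intro n m _
    change (e n).hom ≫ (e n).inv ≫ L.d n m ≫ (e m).hom = L.d n m ≫ (e m).hom
    rw [Iso.hom_inv_id_assoc])

/-- **Stacks 05T6 (1)**: right resolutions of bounded below complexes by a class of objects. -/
theorem exists_right_resolution (hI0 : ∃ Z : A, IsZero Z ∧ I Z)
    (hI : ∀ X : A, ∃ (Y : A) (ι : X ⟶ Y), I Y ∧ Mono ι)
    (K : CochainComplex A ℤ) (a : ℤ) [K.IsStrictlyGE a] :
    ∃ (L : CochainComplex A ℤ) (α : K ⟶ L), L.IsStrictlyGE a ∧ (∀ n, I (L.X n)) ∧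
      (∀ n, Mono (α.f n)) ∧ QuasiIso α := by
  let I' : A → Prop := fun X => ∃ Y : A, I Y ∧ Nonempty (X ≅ Y)
  have hiso : ∀ ⦃X Y : A⦄, (X ≅ Y) → I' X → I' Y := by
    rintro X Y e ⟨W, hW, ⟨e'⟩⟩
    exact ⟨W, hW, ⟨e.symm ≪≫ e'⟩⟩
  have h0 : ∀ Z : A, IsZero Z → I' Z := by
    intro Z hZ
    obtain ⟨Z₀, hZ₀, hIZ₀⟩ := hI0
    exact ⟨Z₀, hIZ₀, ⟨hZ.iso hZ₀⟩⟩
  have hI' : ∀ X : A, ∃ (Y : A) (ι : X ⟶ Y), I' Y ∧ Mono ι := by
    intro X
    obtain ⟨Y, ι, hY, hι⟩ := hI X
    exact ⟨Y, ι, ⟨Y, hY, ⟨Iso.refl _⟩⟩, hι⟩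
  obtain ⟨L₁, f₁, hL₁, hL₁I, hmono, hf₁⟩ := main_int hiso h0 hI' K a
  choose Y hY e using hL₁I
  let e' : ∀ n, L₁.X n ≅ Y n := fun n => (e n).some
  let φ := transportIso L₁ Y e'
  refine ⟨transport L₁ Y e', f₁ ≫ φ.hom, CochainComplex.isStrictlyGE_of_iso φ a, hY, ?_, ?_⟩
  · intro n
    have := hmono n
    rw [HomologicalComplex.comp_f]
    have : IsIso (φ.hom.f n) := inferInstance
    infer_instance
  · have : QuasiIso φ.hom := inferInstance
    exact quasiIso_comp f₁ φ.hom

/-- **Stacks 05T6 (2)**: right resolutions of complexes with cohomology in degrees `≥ a`. -/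
theorem exists_right_resolution_of_isGE (hI0 : ∃ Z : A, IsZero Z ∧ I Z)
    (hI : ∀ X : A, ∃ (Y : A) (ι : X ⟶ Y), I Y ∧ Mono ι)
    (K : CochainComplex A ℤ) (a : ℤ) (hK : ∀ n : ℤ, n < a → IsZero (K.homology n)) :
    ∃ (L : CochainComplex A ℤ) (α : K ⟶ L), L.IsStrictlyGE a ∧ (∀ n, I (L.X n)) ∧
      QuasiIso α := by
  have hGE : K.IsGE a := by
    rw [CochainComplex.isGE_iff]
    intro i hi
    rw [HomologicalComplex.exactAt_iff_isZero_homology]
    exact hK i hi
  have h1 : QuasiIso (K.πTruncGE a) := inferInstance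
  obtain ⟨L, α, hL, hLI, _, hα⟩ := exists_right_resolution hI0 hI (K.truncGE a) a
  exact ⟨L, K.πTruncGE a ≫ α, hL, hLI, quasiIso_comp _ _⟩

end Groth.Agent.Lib.ClassResolution
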