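import Groth.Agent.Lib.ClassResolutionB
import Groth.Agent.Lib.ProjResolution

/-!
# Left resolutions by a class of objects (helper21)

The duals of `Lib/ClassResolutionB`, obtained through `CochainComplex.opEquivalence` (using the
lemmas of helper54's `Lib/ProjResolution`):
* `exists_left_resolution` (Stacks 05T7 (1)): `P` a class of objects such that every object is a
  quotient of an object of `P`, `K` strictly `≤ a`: there is a termwise epimorphic quasi-isomorphism
  `Q ⟶ K` with `Q` strictly `≤ a` with terms in `P`.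
* `exists_left_resolution_of_isLE` (Stacks 05T7 (2)).
-/

set_option autoImplicit false
universe v u

open CategoryTheory Limits Category Opposite

namespace Groth.Agent.Lib.ClassResolution

variable {A : Type u} [Category.{v} A] [Abelian A] {P : A → Prop}

set_option backward.isDefEq.respectTransparency.types false in
set_option backward.defeqAttrib.useBackward true in
attribute [local simp] CochainComplex.opEquivalence ChainComplex.cochainComplexEquivalence in
/-- **Stacks 05T7 (1)**: left resolutions of bounded above complexes by a class of objects. -/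
theorem exists_left_resolution (hP0 : ∃ Z : A, IsZero Z ∧ P Z)
    (hP : ∀ X : A, ∃ (Y : A) (π : Y ⟶ X), P Y ∧ Epi π)
    (K : CochainComplex A ℤ) (a : ℤ) [K.IsStrictlyLE a] :
    ∃ (Q : CochainComplex A ℤ) (α : Q ⟶ K), Q.IsStrictlyLE a ∧ (∀ n, P (Q.X n)) ∧
      (∀ n, Epi (α.f n)) ∧ QuasiIso α := by
  let I : Aᵒᵖ → Prop := fun X => P X.unop
  have hI0 : ∃ Z : Aᵒᵖ, IsZero Z ∧ I Z := by
    obtain ⟨Z, hZ, hPZ⟩ := hP0
    exact ⟨op Z, hZ.op, hPZ⟩
  have hI : ∀ X : Aᵒᵖ, ∃ (Y : Aᵒᵖ) (ι : X ⟶ Y), I Y ∧ Mono ι := by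
    intro X
    obtain ⟨Y, π, hY, hπ⟩ := hP X.unop
    exact ⟨op Y, π.op, hY, inferInstance⟩
  let K' := (CochainComplex.opEquivalence A).functor.obj (op K)
  have hK' : K'.IsStrictlyGE (-a) := by
    rw [CochainComplex.isStrictlyGE_iff]
    intro i hi
    exact (K.isZero_of_isStrictlyLE a _ (by dsimp; lia)).op
  obtain ⟨L, i, hL, hLI, hmono, hi⟩ := exists_right_resolution hI0 hI K' (-a)
  refine ⟨((CochainComplex.opEquivalence A).inverse.obj L).unop,
    ((CochainComplex.opEquivalence A).unitIso.hom.app (op K) ≫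
      (CochainComplex.opEquivalence A).inverse.map i).unop, ?_, ?_, ?_,
    Groth.Agent.Lib.ProjResolution.quasiIso_unop i⟩
  · rw [CochainComplex.isStrictlyLE_iff]
    intro n hn
    dsimp
    exact (L.isZero_of_isStrictlyGE (-a) _ (by lia)).unop
  · intro n
    dsimp
    exact hLI _
  · intro n
    have := hmono (-n)
    rw [unop_comp, HomologicalComplex.comp_f]
    have h1 : Epi (((CochainComplex.opEquivalence A).inverse.map i).unop.f n) := by
      dsimp
      infer_instance
    have h2 : IsIso (((CochainComplex.opEquivalence A).unitIso.hom.app (op K)).unop) :=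
      inferInstance
    have h3 : Epi ((((CochainComplex.opEquivalence A).unitIso.hom.app (op K)).unop).f n) :=
      inferInstance
    exact epi_comp _ _

/-- **Stacks 05T7 (2)**: left resolutions of complexes with cohomology in degrees `≤ a`. -/
theorem exists_left_resolution_of_isLE (hP0 : ∃ Z : A, IsZero Z ∧ P Z)
    (hP : ∀ X : A, ∃ (Y : A) (π : Y ⟶ X), P Y ∧ Epi π)
    (K : CochainComplex A ℤ) (a : ℤ) (hK : ∀ n : ℤ, a < n → IsZero (K.homology n)) :
    ∃ (Q : CochainComplex A ℤ) (α : Q ⟶ K), Q.IsStrictlyLE a ∧ (∀ n, P (Q.X n)) ∧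
      QuasiIso α := by
  have hLE : K.IsLE a := by
    rw [CochainComplex.isLE_iff]
    intro i hi
    rw [HomologicalComplex.exactAt_iff_isZero_homology]
    exact hK i hi
  have h1 : QuasiIso (K.ιTruncLE a) := inferInstance
  obtain ⟨Q, α, hQ, hQP, _, hα⟩ := exists_left_resolution hP0 hP (K.truncLE a) a
  exact ⟨Q, α ≫ K.ιTruncLE a, hQ, hQP, quasiIso_comp _ _⟩

end Groth.Agent.Lib.ClassResolution
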