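import Groth.Agent.Lib.RelResolution66
import Groth.Agent.Lib.ClassResolutionOp

/-!
# Towers of left resolutions by a class of objects (helper11)

Abstract version of the tower construction of `Lib/ModSiteFreeResTower`: for a sequence of bounded
above complexes `T 0 ⟶ T 1 ⟶ ⋯` in an abelian category and a class `P` of objects (closed under
isomorphisms and binary biproducts, containing a zero object, every object a quotient of a member),
there are bounded above complexes `Q n` with terms in `P`, termwise epimorphic quasi-isomorphisms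
`π n : Q n ⟶ T n` and termwise split monomorphisms `ι n : Q n ⟶ Q (n+1)` with cokernels in `P`,
compatible with the transition maps (Stacks 13.29.x / Spaltenstein).
-/

set_option autoImplicit false
universe v u
open CategoryTheory Limits HomologicalComplex

namespace Groth.Agent.Lib.ClassTower11

open Groth.Agent.Lib.RelResolution66

section Rel

open CochainComplex

variable {A : Type u} [Category.{v} A] [Abelian A] {K L : CochainComplex A ℤ} (β : K ⟶ L)
  {M : CochainComplex A ℤ} (r : M ⟶ relW β)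

/-- termwise retraction of `cylι` -/
noncomputable def cylρ (K L : CochainComplex A ℤ) (i : ℤ) : (cylT K L).X i ⟶ K.X i :=
  (biprod.snd : cylT K L ⟶ mappingCone (𝟙 K)).f i ≫ (mappingCone.snd (𝟙 K)).v i i (add_zero i)

lemma cylι_ρ (i : ℤ) : (cylι β).f i ≫ cylρ K L i = 𝟙 _ := by
  have h : cylι β ≫ (biprod.snd : cylT K L ⟶ mappingCone (𝟙 K)) = mappingCone.inr (𝟙 K) := by
    simp [cylι]
  have h' := congrArg (fun φ => φ.f i) h
  simp only [HomologicalComplex.comp_f] at h'
  unfold cylρ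
  rw [← Category.assoc, h']
  exact mappingCone.inr_f_snd_v (𝟙 K) i

/-- termwise retraction of `relι` -/
noncomputable def relρ (i : ℤ) : (relN β r).X i ⟶ K.X i :=
  (pullback.fst (relSC β).g r).f i ≫ cylρ K L i

lemma relι_ρ (i : ℤ) : (relι β r).f i ≫ relρ β r i = 𝟙 _ := by
  have h : relι β r ≫ pullback.fst (relSC β).g r = cylι β := pbι_fst _ _
  have h' := congrArg (fun φ => φ.f i) h
  simp only [HomologicalComplex.comp_f] at h'
  unfold relρ
  rw [← Category.assoc, h']
  exact cylι_ρ β i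

/-- the termwise short exact sequence `K^i ⟶ N^i ⟶ M^i` -/
lemma rel_shortExact_eval (i : ℤ) :
    (ShortComplex.mk ((relι β r).f i) ((relp β r).f i) (by
      rw [← HomologicalComplex.comp_f, relι_p]; rfl)).ShortExact :=
  (rel_shortExact β r).map_of_exact (HomologicalComplex.eval A (ComplexShape.up ℤ) i)

/-- the terms of the relative resolution -/
noncomputable def relNIso (i : ℤ) : (relN β r).X i ≅ K.X i ⊞ M.X i :=
  (ShortComplex.Splitting.ofExactOfRetraction _ (rel_shortExact_eval β r i).exact (relρ β r i) (relι_ρ β r i)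
    (rel_shortExact_eval β r i).epi_g).isoBinaryBiproduct

/-- the termwise cokernel of `relι` -/
noncomputable def relCokerIso (i : ℤ) : cokernel ((relι β r).f i) ≅ M.X i :=
  haveI := (rel_shortExact_eval β r i).epi_g
  (cokernelIsCokernel _).coconePointUniqueUpToIso (rel_shortExact_eval β r i).exact.gIsCokernel

end Rel

section Tower

variable {A : Type u} [Category.{v} A] [Abelian A] (P : ObjectProperty A)
  (T : ℕ → CochainComplex A ℤ) (t : ∀ n, T n ⟶ T (n + 1))

/-- a bounded above resolution of `T n` by objects of `P` -/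
structure Stage (n : ℕ) where
  /-- the resolving complex -/
  K : CochainComplex A ℤ
  /-- the resolution map -/
  π : K ⟶ T n
  bd : ∃ c : ℤ, K.IsStrictlyLE c
  mem : ∀ i, P (K.X i)
  qis : QuasiIso π
  epi : ∀ i, Epi (π.f i)

variable [P.IsClosedUnderIsomorphisms]
  (hP0 : ∃ Z : A, IsZero Z ∧ P Z) (hPsum : ∀ X Y : A, P X → P Y → P (X ⊞ Y))
  (hP : ∀ X : A, ∃ (Y : A) (π : Y ⟶ X), P Y ∧ Epi π)
  (hT : ∀ n, ∃ b : ℤ, (T n).IsStrictlyLE b)

include hP0 hP hT in
lemma exists_stage_zero : Nonempty (Stage P T 0) := by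
  obtain ⟨b, hb⟩ := hT 0
  obtain ⟨M, r, hM, hMP, hrepi, hrq⟩ :=
    Groth.Agent.Lib.ClassResolution.exists_left_resolution (P := fun X => P X) hP0 hP (T 0) b
  exact ⟨⟨M, r, ⟨b, hM⟩, hMP, hrq, hrepi⟩⟩

include hP0 hPsum hP hT in
lemma exists_stage_succ {n : ℕ} (s : Stage P T n) :
    ∃ (s' : Stage P T (n + 1)) (ι : s.K ⟶ s'.K),
      ι ≫ s'.π = s.π ≫ t n ∧
      (∀ i, ∃ ρ : s'.K.X i ⟶ s.K.X i, ι.f i ≫ ρ = 𝟙 _) ∧
      (∀ i, P (cokernel (ι.f i))) := by
  obtain ⟨c, hc⟩ := s.bd
  obtain ⟨b, hb⟩ := hT (n + 1)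
  have h1 : s.K.IsStrictlyLE (max c b) := s.K.isStrictlyLE_of_le c _ (le_max_left _ _)
  have h2 : (T (n + 1)).IsStrictlyLE (max c b) := (T (n + 1)).isStrictlyLE_of_le b _ (le_max_right _ _)
  let β : s.K ⟶ T (n + 1) := s.π ≫ t n
  obtain ⟨M, r, hM, hMP, hrepi, hrq⟩ :=
    Groth.Agent.Lib.ClassResolution.exists_left_resolution (P := fun X => P X) hP0 hP (relW β) (max c b)
  refine ⟨⟨relN β r, relπ β r, ⟨max c b, isStrictlyLE_relN β r _⟩, fun i => ?_, quasiIso_relπ β r hrq,
    epi_relπ_f β r hrepi⟩, relι β r, relι_π β r, fun i => ⟨relρ β r i, relι_ρ β r i⟩, fun i => ?_⟩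
  · exact P.prop_of_iso (relNIso β r i).symm (hPsum _ _ (s.mem i) (hMP i))
  · exact P.prop_of_iso (relCokerIso β r i).symm (hMP i)

/-- the next stage -/
noncomputable def nextStage {n : ℕ} (s : Stage P T n) : Stage P T (n + 1) :=
  (exists_stage_succ P T t hP0 hPsum hP hT s).choose

/-- the transition map to the next stage -/
noncomputable def nextι {n : ℕ} (s : Stage P T n) : s.K ⟶ (nextStage P T t hP0 hPsum hP hT s).K :=
  (exists_stage_succ P T t hP0 hPsum hP hT s).choose_spec.choose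

lemma nextι_π {n : ℕ} (s : Stage P T n) :
    nextι P T t hP0 hPsum hP hT s ≫ (nextStage P T t hP0 hPsum hP hT s).π = s.π ≫ t n :=
  (exists_stage_succ P T t hP0 hPsum hP hT s).choose_spec.choose_spec.1

lemma nextι_retr {n : ℕ} (s : Stage P T n) (i : ℤ) :
    ∃ ρ : (nextStage P T t hP0 hPsum hP hT s).K.X i ⟶ s.K.X i,
      (nextι P T t hP0 hPsum hP hT s).f i ≫ ρ = 𝟙 _ :=
  (exists_stage_succ P T t hP0 hPsum hP hT s).choose_spec.choose_spec.2.1 i

lemma nextι_coker {n : ℕ} (s : Stage P T n) (i : ℤ) :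
    P (cokernel ((nextι P T t hP0 hPsum hP hT s).f i)) :=
  (exists_stage_succ P T t hP0 hPsum hP hT s).choose_spec.choose_spec.2.2 i

/-- the tower of stages -/
noncomputable def stage : ∀ n : ℕ, Stage P T n
  | 0 => (exists_stage_zero P T hP0 hP hT).some
  | n + 1 => nextStage P T t hP0 hPsum hP hT (stage n)

include hP0 hPsum hP hT in
/-- **Towers of left resolutions** by a class of objects. -/
theorem exists_tower :
    ∃ (Q : ℕ → CochainComplex A ℤ) (ι : ∀ n, Q n ⟶ Q (n + 1)) (π : ∀ n : ℕ, Q n ⟶ T n),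
      (∀ n, QuasiIso (π n) ∧ ∀ i, Epi ((π n).f i)) ∧
      (∀ n, ∃ b : ℤ, (Q n).IsStrictlyLE b) ∧ (∀ n i, P ((Q n).X i)) ∧
      (∀ n i, (∃ r : (Q (n + 1)).X i ⟶ (Q n).X i, (ι n).f i ≫ r = 𝟙 _) ∧ P (cokernel ((ι n).f i))) ∧
      (∀ n : ℕ, ι n ≫ π (n + 1) = π n ≫ t n) :=
  ⟨fun n => (stage P T t hP0 hPsum hP hT n).K,
    fun n => nextι P T t hP0 hPsum hP hT (stage P T t hP0 hPsum hP hT n),
    fun n => (stage P T t hP0 hPsum hP hT n).π,
    fun n => ⟨(stage P T t hP0 hPsum hP hT n).qis, (stage P T t hP0 hPsum hP hT n).epi⟩,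
    fun n => (stage P T t hP0 hPsum hP hT n).bd,
    fun n => (stage P T t hP0 hPsum hP hT n).mem,
    fun n i => ⟨nextι_retr P T t hP0 hPsum hP hT _ i, nextι_coker P T t hP0 hPsum hP hT _ i⟩,
    fun n => nextι_π P T t hP0 hPsum hP hT _⟩

end Tower

end Groth.Agent.Lib.ClassTower11
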