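import Groth.Agent.Lib.ClassTower11

/-!
# Towers of right resolutions by a class of objects (helper11)

Dual of `Lib/ClassTower11.exists_tower` through `CochainComplex.opEquivalence`:
`exists_cotower` (inverse systems of bounded below resolutions with terms in a class `I`,
termwise split epimorphic transition maps with kernels in `I`; Stacks 070F / Spaltenstein), and
`trGE K h : K.truncGE m ⟶ K.truncGE n` for `m ≤ n` with `πTruncGE_trGE`.
-/

set_option autoImplicit false
universe v u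
open CategoryTheory Limits HomologicalComplex Opposite

namespace Groth.Agent.Lib.ClassTowerOp11

variable {A : Type u} [Category.{v} A] [Abelian A]

local notation "E" => CochainComplex.opEquivalence A

open Groth.Agent.Lib.ProjResolution

/-- from a map `Q' ⟶ (op K)` in the opposite category, a map `K ⟶ unop Q'` -/
noncomputable def unopMap {K : CochainComplex A ℤ} {Q' : CochainComplex Aᵒᵖ ℤ}
    (π' : Q' ⟶ (E).functor.obj (op K)) : K ⟶ ((E).inverse.obj Q').unop :=
  ((E).inverse.map π' ≫ (E).unitIso.inv.app (op K)).unop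

lemma quasiIso_unopMap {K : CochainComplex A ℤ} {Q' : CochainComplex Aᵒᵖ ℤ}
    (π' : Q' ⟶ (E).functor.obj (op K)) [QuasiIso π'] : QuasiIso (unopMap π') := by
  rw [← quasiIso_op_iff]
  have : (E).functor.map (unopMap π').op =
      (E).functor.map ((E).inverse.map π') ≫ (E).functor.map ((E).unitIso.inv.app (op K)) := by
    rw [← Functor.map_comp]
    rfl
  rw [this, Equivalence.fun_inv_map]
  infer_instance

set_option backward.isDefEq.respectTransparency.types false in
set_option backward.defeqAttrib.useBackward true in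
attribute [local simp] CochainComplex.opEquivalence ChainComplex.cochainComplexEquivalence in
lemma mono_unopMap_f {K : CochainComplex A ℤ} {Q' : CochainComplex Aᵒᵖ ℤ}
    (π' : Q' ⟶ (E).functor.obj (op K)) (h : ∀ i, Epi (π'.f i)) (i : ℤ) :
    Mono ((unopMap π').f i) := by
  have := h (-i)
  unfold unopMap
  rw [unop_comp, HomologicalComplex.comp_f]
  have h1 : Mono (((E).inverse.map π').unop.f i) := by
    dsimp
    exact @unop_mono_of_epi _ _ _ _ _ this
  have h2 : IsIso (((E).unitIso.inv.app (op K)).unop) := inferInstance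
  have h3 : Mono ((((E).unitIso.inv.app (op K)).unop).f i) := inferInstance
  exact mono_comp _ _

lemma unopMap_comp {K L : CochainComplex A ℤ} {Q' R' : CochainComplex Aᵒᵖ ℤ}
    (π' : Q' ⟶ (E).functor.obj (op K)) (ρ' : R' ⟶ (E).functor.obj (op L)) (g : L ⟶ K)
    (j : Q' ⟶ R') (h : j ≫ ρ' = π' ≫ (E).functor.map g.op) :
    unopMap ρ' ≫ ((E).inverse.map j).unop = g ≫ unopMap π' := by
  unfold unopMap
  rw [← unop_comp]
  have e : (E).inverse.map j ≫ (E).inverse.map ρ' ≫ (E).unitIso.inv.app (op L) =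
      ((E).inverse.map π' ≫ (E).unitIso.inv.app (op K)) ≫ g.op := by
    rw [← Category.assoc, ← Functor.map_comp, h, Functor.map_comp, Category.assoc, Category.assoc]
    congr 1
    exact (E).unitIso.inv.naturality g.op
  rw [e, unop_comp]
  rfl

/-- `unop` of a biproduct in the opposite category -/
noncomputable def unopBiprodIso (X Y : Aᵒᵖ) : (X ⊞ Y).unop ≅ X.unop ⊞ Y.unop := by
  let b : BinaryBicone X.unop Y.unop :=
    { pt := (X ⊞ Y).unop
      fst := (biprod.inl : X ⟶ X ⊞ Y).unop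
      snd := (biprod.inr : Y ⟶ X ⊞ Y).unop
      inl := (biprod.fst : X ⊞ Y ⟶ X).unop
      inr := (biprod.snd : X ⊞ Y ⟶ Y).unop
      inl_fst := by rw [← unop_comp, biprod.inl_fst]; rfl
      inl_snd := by rw [← unop_comp, biprod.inr_fst]; rfl
      inr_fst := by rw [← unop_comp, biprod.inl_snd]; rfl
      inr_snd := by rw [← unop_comp, biprod.inr_snd]; rfl }
  have hb : b.IsBilimit := isBinaryBilimitOfTotal b (by
    change (biprod.inl : X ⟶ X ⊞ Y).unop ≫ (biprod.fst : X ⊞ Y ⟶ X).unop +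
      (biprod.inr : Y ⟶ X ⊞ Y).unop ≫ (biprod.snd : X ⊞ Y ⟶ Y).unop = 𝟙 _
    rw [← unop_comp, ← unop_comp, ← unop_add, biprod.total]
    rfl)
  exact biprod.uniqueUpToIso _ _ hb

section TruncGE

variable (K : CochainComplex A ℤ)

/-- the transition map `τ≥m K ⟶ τ≥n K` for `m ≤ n` -/
noncomputable def trGE {m n : ℤ} (h : m ≤ n) : K.truncGE m ⟶ K.truncGE n :=
  haveI : (K.truncGE n).IsStrictlyGE m := (K.truncGE n).isStrictlyGE_of_ge m n h
  CochainComplex.truncGEMap (K.πTruncGE n) m ≫ inv ((K.truncGE n).πTruncGE m)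

lemma πTruncGE_trGE {m n : ℤ} (h : m ≤ n) : K.πTruncGE m ≫ trGE K h = K.πTruncGE n := by
  haveI : (K.truncGE n).IsStrictlyGE m := (K.truncGE n).isStrictlyGE_of_ge m n h
  dsimp only [trGE]
  rw [← Category.assoc, CochainComplex.πTruncGE_naturality, Category.assoc, IsIso.hom_inv_id,
    Category.comp_id]

end TruncGE

section Main

variable (I : ObjectProperty A) [I.IsClosedUnderIsomorphisms]
  (hI0 : ∃ Z : A, IsZero Z ∧ I Z) (hIprod : ∀ X Y : A, I X → I Y → I (X ⊞ Y))
  (hI : ∀ X : A, ∃ (Y : A) (ι : X ⟶ Y), I Y ∧ Mono ι)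
  (T : ℕ → CochainComplex A ℤ) (t : ∀ n, T (n + 1) ⟶ T n)
  (hT : ∀ n, ∃ a : ℤ, (T n).IsStrictlyGE a)

/-- the opposite class -/
def opProp : ObjectProperty Aᵒᵖ := fun X => I X.unop

instance : (opProp I).IsClosedUnderIsomorphisms where
  of_iso e h := I.prop_of_iso e.symm.unop h

set_option backward.isDefEq.respectTransparency.types false in
set_option backward.defeqAttrib.useBackward true in
attribute [local simp] CochainComplex.opEquivalence ChainComplex.cochainComplexEquivalence in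
include hI0 hIprod hI hT in
/-- **Towers of right resolutions** by a class of objects (dual of `ClassTower11.exists_tower`). -/
theorem exists_cotower :
    ∃ (Q : ℕ → CochainComplex A ℤ) (p : ∀ n, Q (n + 1) ⟶ Q n) (π : ∀ n : ℕ, T n ⟶ Q n),
      (∀ n, QuasiIso (π n) ∧ ∀ i, Mono ((π n).f i)) ∧
      (∀ n, ∃ a : ℤ, (Q n).IsStrictlyGE a) ∧ (∀ n i, I ((Q n).X i)) ∧
      (∀ n i, (∃ s : (Q n).X i ⟶ (Q (n + 1)).X i, s ≫ (p n).f i = 𝟙 _) ∧ I (kernel ((p n).f i))) ∧
      (∀ n : ℕ, π (n + 1) ≫ p n = t n ≫ π n) := by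
  have hP0 : ∃ Z : Aᵒᵖ, IsZero Z ∧ opProp I Z := by
    obtain ⟨Z, hZ, hIZ⟩ := hI0
    exact ⟨op Z, hZ.op, hIZ⟩
  have hPsum : ∀ X Y : Aᵒᵖ, opProp I X → opProp I Y → opProp I (X ⊞ Y) := by
    intro X Y hX hY
    have e : (X ⊞ Y).unop ≅ X.unop ⊞ Y.unop := unopBiprodIso X Y
    exact I.prop_of_iso e.symm (hIprod _ _ hX hY)
  have hP : ∀ X : Aᵒᵖ, ∃ (Y : Aᵒᵖ) (π : Y ⟶ X), opProp I Y ∧ Epi π := by
    intro X
    obtain ⟨Y, ι, hY, hι⟩ := hI X.unop
    exact ⟨op Y, ι.op, hY, inferInstance⟩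
  have hT' : ∀ n, ∃ b : ℤ, ((E).functor.obj (op (T n))).IsStrictlyLE b := by
    intro n
    obtain ⟨a, ha⟩ := hT n
    refine ⟨-a, ?_⟩
    rw [CochainComplex.isStrictlyLE_iff]
    intro i hi
    exact ((T n).isZero_of_isStrictlyGE a _ (by dsimp; lia)).op
  obtain ⟨Q', ι', π', h1, h2, h3, h4, h5⟩ :=
    Groth.Agent.Lib.ClassTower11.exists_tower (opProp I) (fun n => (E).functor.obj (op (T n)))
      (fun n => (E).functor.map (t n).op) hP0 hPsum hP hT'
  refine ⟨fun n => ((E).inverse.obj (Q' n)).unop, fun n => ((E).inverse.map (ι' n)).unop,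
    fun n => unopMap (π' n), fun n => ⟨?_, ?_⟩, fun n => ?_, fun n i => ?_, fun n i => ⟨?_, ?_⟩, fun n => ?_⟩
  · have := (h1 n).1
    exact quasiIso_unopMap (π' n)
  · exact mono_unopMap_f (π' n) (h1 n).2
  · obtain ⟨b, hb⟩ := h2 n
    refine ⟨-b, ?_⟩
    rw [CochainComplex.isStrictlyGE_iff]
    intro i hi
    dsimp
    exact ((Q' n).isZero_of_isStrictlyLE b _ (by lia)).unop
  · dsimp
    exact h3 n _
  · obtain ⟨r, hr⟩ := (h4 n (-i)).1
    refine ⟨r.unop, ?_⟩
    dsimp
    rw [← unop_comp, hr]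
    rfl
  · have h := (h4 n (-i)).2
    dsimp
    exact I.prop_of_iso (kernelUnopOp ((ι' n).f (-i))).unop h
  · exact unopMap_comp (π' n) (π' (n + 1)) (t n) (ι' n) (h5 n)

end Main

end Groth.Agent.Lib.ClassTowerOp11
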