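import Groth.Agent.Lib.CliffPlane16
import Groth.Agent.Lib.Azumaya16Constr

/-!
# The Clifford algebra of a regular even-rank quadratic form is Azumaya (helper16)

`isAzumaya_clifford_field` (induction splitting off regular planes), `isAzumaya_clifford` (any commutative ring, via fibres and
characteristic-free base change), `isRegular_smul`, `finrank_perp`.
-/

set_option autoImplicit false
set_option linter.style.haveILetI false
set_option linter.unusedSectionVars false
set_option linter.unusedSimpArgs false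
set_option linter.unusedVariables false

namespace Groth.Agent.Lib.CliffAz16
open QuadraticMap CliffordAlgebra TensorProduct
open Groth.Agent.Lib.QuadPlane16 Groth.Agent.Lib.CliffTensor16 Groth.Agent.Lib.CliffPlane16

universe u v

section general
variable {R : Type u} [CommRing R] {M : Type v} [AddCommGroup M] [Module R M]

theorem isRegular_smul (Q : QuadraticForm R M) (c : R) (hc : IsUnit c) (hQ : QuadGrp.IsRegular Q) :
    QuadGrp.IsRegular (c • Q) := by
  obtain ⟨u, rfl⟩ := hc
  have h : ⇑(polarBilin ((u : R) • Q)) = (fun φ : M →ₗ[R] R => (u : R) • φ) ∘ ⇑(polarBilin Q) := by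
    funext x
    ext y
    simp [polar]
    ring
  rw [QuadGrp.IsRegular, h]
  refine Function.Bijective.comp ?_ hQ
  constructor
  · intro φ ψ hφ
    have := congrArg (fun χ : M →ₗ[R] R => ((u⁻¹ : Rˣ) : R) • χ) hφ
    simpa [smul_smul] using this
  · intro φ
    exact ⟨((u⁻¹ : Rˣ) : R) • φ, by simp [smul_smul]⟩

/-- `w` for the plane form on `R × R`. -/
theorem wElt_plane_anti (Q₂ : QuadraticForm R (R × R)) (m : R × R) :
    wElt Q₂ ((1 : R), (0 : R)) ((0 : R), (1 : R)) * ι Q₂ m =
      -(ι Q₂ m * wElt Q₂ ((1 : R), (0 : R)) ((0 : R), (1 : R))) := by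
  have hm : m = m.1 • ((1 : R), (0 : R)) + m.2 • ((0 : R), (1 : R)) := by
    ext <;> simp
  rw [hm, map_add, map_smul, map_smul, mul_add, add_mul, mul_smul_comm, mul_smul_comm,
    smul_mul_assoc, smul_mul_assoc, wElt_anti_e, wElt_anti_f, neg_add, smul_neg, smul_neg]

theorem algebraMap_surjective_of_subsingleton [Subsingleton M] (Q : QuadraticForm R M) :
    Function.Surjective (algebraMap R (CliffordAlgebra Q)) := by
  intro x
  induction x using CliffordAlgebra.induction with
  | algebraMap r => exact ⟨r, rfl⟩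
  | ι m => exact ⟨0, by rw [Subsingleton.elim m 0]; simp⟩
  | mul a b ha hb =>
    obtain ⟨r, rfl⟩ := ha
    obtain ⟨s, rfl⟩ := hb
    exact ⟨r * s, by rw [map_mul]⟩
  | add a b ha hb =>
    obtain ⟨r, rfl⟩ := ha
    obtain ⟨s, rfl⟩ := hb
    exact ⟨r + s, by rw [map_add]⟩

end general

end Groth.Agent.Lib.CliffAz16

namespace Groth.Agent.Lib.CliffAz16
open QuadraticMap CliffordAlgebra TensorProduct
open Groth.Agent.Lib.QuadPlane16 Groth.Agent.Lib.CliffTensor16 Groth.Agent.Lib.CliffPlane16

universe u v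

theorem isAzumaya_of_subsingleton {K : Type u} [Field K] {V : Type v} [AddCommGroup V]
    [Module K V] [Subsingleton V] (Q : QuadraticForm K V) :
    IsAzumaya K (CliffordAlgebra Q) := by
  have hnt : Nontrivial (CliffordAlgebra Q) := by
    have : Finite V := Finite.of_subsingleton
    have : Module.Finite K V := Module.Finite.of_finite
    apply Module.nontrivial_of_finrank_pos (R := K)
    rw [Groth.Agent.Lib.CliffBC16.finrank_clifford]
    positivity
  have hbij : Function.Bijective (Algebra.ofId K (CliffordAlgebra Q)) :=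
    ⟨(algebraMap K (CliffordAlgebra Q)).injective, algebraMap_surjective_of_subsingleton Q⟩
  exact IsAzumaya.of_AlgEquiv K _ _ (AlgEquiv.ofBijective (Algebra.ofId K (CliffordAlgebra Q)) hbij)

/-- One step: splitting off a regular plane. -/
theorem isAzumaya_step {K : Type u} [Field K] {V : Type v} [AddCommGroup V] [Module K V]
    (Q : QuadraticForm K V) (e f : V) (hδ : delta Q e f ≠ 0)
    (hN : IsAzumaya K (CliffordAlgebra ((delta Q e f)⁻¹ • (Q.comp (perp Q e f).subtype)))) :
    IsAzumaya K (CliffordAlgebra Q) := by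
  have hdi : delta Q e f * (delta Q e f)⁻¹ = 1 := mul_inv_cancel₀ hδ
  set Q₂ : QuadraticForm K (K × K) := Q.comp (planeMap e f) with hQ₂
  set QN : QuadraticForm K (perp Q e f) := Q.comp (perp Q e f).subtype with hQN
  have hδ₂ : delta Q₂ ((1 : K), (0 : K)) ((0 : K), (1 : K)) = delta Q e f := delta_plane Q e f
  have hAz₂ : IsAzumaya K (CliffordAlgebra Q₂) := by
    refine isAzumaya_plane Q₂ ((1 : K), (0 : K)) ((0 : K), (1 : K)) ?_ (by rw [hδ₂]; exact hδ)
    intro v
    exact ⟨v.1, v.2, by ext <;> simp⟩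
  have e1 : CliffordAlgebra (Q₂.prod QN) ≃ₐ[K] CliffordAlgebra Q :=
    CliffordAlgebra.equivOfIsometry (splitIso Q e f _ hdi)
  have e2 : CliffordAlgebra (Q₂.prod QN) ≃ₐ[K]
      CliffordAlgebra Q₂ ⊗[K] CliffordAlgebra ((delta Q e f)⁻¹ • QN) :=
    tensorEquiv Q₂ QN (wElt Q₂ ((1 : K), (0 : K)) ((0 : K), (1 : K))) (delta Q e f)
      (delta Q e f)⁻¹ (wElt_mem_even _ _ _) (wElt_plane_anti Q₂)
      (by rw [wElt_sq, hδ₂]) hdi
  have hT : IsAzumaya K (CliffordAlgebra Q₂ ⊗[K] CliffordAlgebra ((delta Q e f)⁻¹ • QN)) :=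
    Groth.Agent.Lib.Azumaya16.isAzumaya_tensorProduct K _ _
  exact IsAzumaya.of_AlgEquiv K _ _ (e2.symm.trans e1)

end Groth.Agent.Lib.CliffAz16

namespace Groth.Agent.Lib.CliffAz16
open QuadraticMap CliffordAlgebra TensorProduct
open Groth.Agent.Lib.QuadPlane16 Groth.Agent.Lib.CliffTensor16 Groth.Agent.Lib.CliffPlane16

universe u v w

theorem finrank_perp {R : Type u} [CommRing R] [Nontrivial R] {M : Type v} [AddCommGroup M]
    [Module R M] [Module.Free R M] [Module.Finite R M] (Q : QuadraticForm R M) (e f : M) (di : R)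
    (hdi : delta Q e f * di = 1) [Module.Free R (perp Q e f)] :
    Module.finrank R M = 2 + Module.finrank R (perp Q e f) := by
  have := finite_perp Q e f di hdi
  rw [← (splitEquiv Q e f di hdi).finrank_eq, Module.finrank_prod, Module.finrank_prod,
    Module.finrank_self]

theorem isAzumaya_clifford_field {K : Type u} [Field K] :
    ∀ (m : ℕ) (V : Type v) [AddCommGroup V] [Module K V] [FiniteDimensional K V]
      (Q : QuadraticForm K V), Module.finrank K V = 2 * m → QuadGrp.IsRegular Q →
      IsAzumaya K (CliffordAlgebra Q) := by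
  intro m
  induction m with
  | zero =>
    intro V _ _ _ Q hV _
    have : Subsingleton V := Module.finrank_zero_iff.1 (by simpa using hV)
    exact isAzumaya_of_subsingleton Q
  | succ m ih =>
    intro V _ _ _ Q hV hQ
    obtain ⟨e, f, hδ⟩ := exists_delta_ne_zero Q hQ (by omega)
    have hdi : delta Q e f * (delta Q e f)⁻¹ = 1 := mul_inv_cancel₀ hδ
    have hfin := finite_perp Q e f _ hdi
    apply isAzumaya_step Q e f hδ
    apply ih
    · have := finrank_perp Q e f _ hdi
      omega
    · exact isRegular_smul _ _ (IsUnit.mk0 _ (inv_ne_zero hδ)) (isRegular_perp Q e f _ hdi hQ)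

/-- **The Clifford algebra of a regular quadratic form of even rank is Azumaya.** -/
theorem isAzumaya_clifford {R : Type u} [CommRing R] {M : Type v} [AddCommGroup M] [Module R M]
    [Module.Free R M] [Module.Finite R M] (Q : QuadraticForm R M) (m : ℕ)
    (hM : Module.finrank R M = 2 * m) (hQ : QuadGrp.IsRegular Q) :
    IsAzumaya R (CliffordAlgebra Q) := by
  apply Groth.Agent.Lib.Azumaya16.isAzumaya_of_fibres
  intro 𝔪 h𝔪
  letI : Field (R ⧸ 𝔪) := Ideal.Quotient.field 𝔪
  refine ⟨R ⧸ 𝔪, inferInstance, inferInstance, ?_, ?_⟩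
  · rw [Ideal.Quotient.algebraMap_eq, Ideal.mk_ker]
  · have hnt : Nontrivial R := ⟨⟨0, 1, fun h => h𝔪.ne_top ((Ideal.eq_top_iff_one _).2
      (by rw [← h]; exact 𝔪.zero_mem))⟩⟩
    have h1 : IsAzumaya (R ⧸ 𝔪) (CliffordAlgebra (QuadGrp.baseChangeForm (R ⧸ 𝔪) Q)) := by
      apply isAzumaya_clifford_field m
      · rw [Module.finrank_baseChange, hM]
      · exact isRegular_baseChange Q _ hQ
    exact IsAzumaya.of_AlgEquiv (R ⧸ 𝔪) _ _ (Groth.Agent.Lib.CliffBC16.bcEquiv (R ⧸ 𝔪) Q).symm

end Groth.Agent.Lib.CliffAz16
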