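import Mathlib
import Groth.Prelude.Def_QuadGrp

/-!
# Characteristic-free base change of Clifford algebras (helper16)

`bcEquiv : A ⊗[R] CliffordAlgebra Q ≃ₐ[A] CliffordAlgebra (QuadGrp.baseChangeForm A Q)` for a free module,
`baseChangeForm_tmul`, `polar_baseChangeForm_tmul`, `ofBCAux` (`x ↦ 1 ⊗ x`), `ofBCAux_mem_evenOdd`,
`toExterior`, `cliffordBasis`, freeness/finiteness and `finrank_clifford = 2 ^ finrank M`.
-/

set_option autoImplicit false
set_option linter.style.haveILetI false
set_option linter.unusedSectionVars false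
set_option linter.unusedSimpArgs false
set_option linter.unusedVariables false

namespace Groth.Agent.Lib.CliffBC16
open TensorProduct CliffordAlgebra

universe u v w
variable {R : Type u} [CommRing R] {M : Type v} [AddCommGroup M] [Module R M] [Module.Free R M]
variable (A : Type w) [CommRing A] [Algebra R A] (Q : QuadraticForm R M)

theorem baseChangeForm_tmul (a : A) (m : M) :
    QuadGrp.baseChangeForm A Q (a ⊗ₜ[R] m) = Q m • (a * a) := by
  simp [QuadGrp.baseChangeForm, QuadGrp.baseChange_tmul]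

theorem polar_baseChange_tmul (a b : A) (m n : M) :
    QuadraticMap.polar (QuadGrp.baseChange A Q) (a ⊗ₜ[R] m) (b ⊗ₜ[R] n) =
      (a * b) ⊗ₜ[R] QuadraticMap.polar Q m n := by
  rw [QuadGrp.baseChange, LinearMap.BilinMap.polar_toQuadraticMap,
    LinearMap.BilinMap.baseChange_tmul, LinearMap.BilinMap.baseChange_tmul, mul_comm b a,
    ← TensorProduct.tmul_add]
  congr 1
  conv_rhs => rw [← QuadGrp.bilinLift_spec Q, LinearMap.BilinMap.polar_toQuadraticMap]

theorem polar_baseChangeForm_tmul (a b : A) (m n : M) :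
    QuadraticMap.polar (QuadGrp.baseChangeForm A Q) (a ⊗ₜ[R] m) (b ⊗ₜ[R] n) =
      QuadraticMap.polar Q m n • (a * b) := by
  have h : QuadraticMap.polar (QuadGrp.baseChangeForm A Q) (a ⊗ₜ[R] m) (b ⊗ₜ[R] n) =
      (AlgebraTensorModule.rid R A A)
        (QuadraticMap.polar (QuadGrp.baseChange A Q) (a ⊗ₜ[R] m) (b ⊗ₜ[R] n)) := by
    simp [QuadGrp.baseChangeForm, QuadraticMap.polar]
  rw [h, polar_baseChange_tmul]
  simp

end Groth.Agent.Lib.CliffBC16

namespace Groth.Agent.Lib.CliffBC16
open TensorProduct CliffordAlgebra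

universe u v w
variable {R : Type u} [CommRing R] {M : Type v} [AddCommGroup M] [Module R M] [Module.Free R M]
variable (A : Type w) [CommRing A] [Algebra R A] (Q : QuadraticForm R M)

/-- `C(Q) → C(Q_A)`, `ι m ↦ ι (1 ⊗ m)`. -/
noncomputable def ofBCAux : CliffordAlgebra Q →ₐ[R] CliffordAlgebra (QuadGrp.baseChangeForm A Q) :=
  CliffordAlgebra.lift Q
    ⟨(ι (QuadGrp.baseChangeForm A Q)).restrictScalars R ∘ₗ TensorProduct.mk R A M 1, fun v => by
      refine (CliffordAlgebra.ι_sq_scalar (QuadGrp.baseChangeForm A Q) (1 ⊗ₜ v)).trans ?_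
      rw [baseChangeForm_tmul, one_mul, ← Algebra.algebraMap_eq_smul_one,
        ← IsScalarTower.algebraMap_apply]⟩

@[simp] theorem ofBCAux_ι (v : M) :
    ofBCAux A Q (ι Q v) = ι (QuadGrp.baseChangeForm A Q) (1 ⊗ₜ v) :=
  CliffordAlgebra.lift_ι_apply _ _ v

noncomputable def ofBC :
    A ⊗[R] CliffordAlgebra Q →ₐ[A] CliffordAlgebra (QuadGrp.baseChangeForm A Q) :=
  Algebra.TensorProduct.lift (Algebra.ofId _ _) (ofBCAux A Q) fun _a _x => Algebra.commutes _ _

@[simp] theorem ofBC_tmul (z : A) (x : CliffordAlgebra Q) :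
    ofBC A Q (z ⊗ₜ x) = z • ofBCAux A Q x := by
  change algebraMap _ _ z * ofBCAux A Q x = _
  rw [← Algebra.smul_def]

theorem ofBC_tmul_ι (z : A) (v : M) :
    ofBC A Q (z ⊗ₜ ι Q v) = ι (QuadGrp.baseChangeForm A Q) (z ⊗ₜ v) := by
  rw [ofBC_tmul, ofBCAux_ι, ← map_smul, TensorProduct.smul_tmul', smul_eq_mul, mul_one]

theorem sq_proof (x : A ⊗[R] M) :
    TensorProduct.AlgebraTensorModule.map (LinearMap.id : A →ₗ[A] A) (ι Q) x *
      TensorProduct.AlgebraTensorModule.map (LinearMap.id : A →ₗ[A] A) (ι Q) x =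
      algebraMap A (A ⊗[R] CliffordAlgebra Q) (QuadGrp.baseChangeForm A Q x) := by
  set f : A ⊗[R] M →ₗ[A] A ⊗[R] CliffordAlgebra Q :=
    TensorProduct.AlgebraTensorModule.map (LinearMap.id : A →ₗ[A] A) (ι Q) with hf
  let Q₁ : QuadraticMap A (A ⊗[R] M) (A ⊗[R] CliffordAlgebra Q) :=
    LinearMap.BilinMap.toQuadraticMap ((LinearMap.mul A (A ⊗[R] CliffordAlgebra Q)).compl₁₂ f f)
  let Q₂ : QuadraticMap A (A ⊗[R] M) (A ⊗[R] CliffordAlgebra Q) :=
    (Algebra.linearMap A (A ⊗[R] CliffordAlgebra Q)).compQuadraticMap (QuadGrp.baseChangeForm A Q)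
  have h : Q₁ = Q₂ := by
    apply _root_.baseChange_ext
    intro m
    simp only [Q₁, Q₂, LinearMap.BilinMap.toQuadraticMap_apply, LinearMap.compl₁₂_apply,
      LinearMap.mul_apply', LinearMap.compQuadraticMap_apply, Algebra.linearMap_apply, hf,
      TensorProduct.AlgebraTensorModule.map_tmul, LinearMap.id_apply,
      Algebra.TensorProduct.tmul_mul_tmul, mul_one, CliffordAlgebra.ι_sq_scalar,
      baseChangeForm_tmul, Algebra.TensorProduct.algebraMap_apply]
    rw [Algebra.algebraMap_eq_smul_one, Algebra.algebraMap_self, RingHom.id_apply,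
      TensorProduct.tmul_smul, TensorProduct.smul_tmul']
  exact congrArg (fun q => q x) h

noncomputable def toBC :
    CliffordAlgebra (QuadGrp.baseChangeForm A Q) →ₐ[A] A ⊗[R] CliffordAlgebra Q :=
  CliffordAlgebra.lift _
    ⟨TensorProduct.AlgebraTensorModule.map (LinearMap.id : A →ₗ[A] A) (ι Q), sq_proof A Q⟩

@[simp] theorem toBC_ι (z : A) (v : M) :
    toBC A Q (ι (QuadGrp.baseChangeForm A Q) (z ⊗ₜ v)) = z ⊗ₜ ι Q v :=
  CliffordAlgebra.lift_ι_apply _ _ _

end Groth.Agent.Lib.CliffBC16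

namespace Groth.Agent.Lib.CliffBC16
open TensorProduct CliffordAlgebra

universe u v w
variable {R : Type u} [CommRing R] {M : Type v} [AddCommGroup M] [Module R M] [Module.Free R M]
variable (A : Type w) [CommRing A] [Algebra R A] (Q : QuadraticForm R M)

attribute [local ext] TensorProduct.ext

theorem toBC_comp_ofBC : (toBC A Q).comp (ofBC A Q) = AlgHom.id _ _ := by
  ext v
  simp [ofBC_tmul_ι]

theorem toBC_ofBC (x : A ⊗[R] CliffordAlgebra Q) : toBC A Q (ofBC A Q x) = x :=
  AlgHom.congr_fun (toBC_comp_ofBC A Q) x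

theorem ofBC_comp_toBC : (ofBC A Q).comp (toBC A Q) = AlgHom.id _ _ := by
  ext x
  change ofBC A Q (toBC A Q (ι (QuadGrp.baseChangeForm A Q) (1 ⊗ₜ[R] x)))
    = ι (QuadGrp.baseChangeForm A Q) (1 ⊗ₜ[R] x)
  rw [toBC_ι, ofBC_tmul_ι]

theorem ofBC_toBC (x : CliffordAlgebra (QuadGrp.baseChangeForm A Q)) :
    ofBC A Q (toBC A Q x) = x :=
  AlgHom.congr_fun (ofBC_comp_toBC A Q) x

/-- Characteristic-free base change of Clifford algebras (free module). -/
noncomputable def bcEquiv :
    A ⊗[R] CliffordAlgebra Q ≃ₐ[A] CliffordAlgebra (QuadGrp.baseChangeForm A Q) :=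
  AlgEquiv.ofAlgHom (ofBC A Q) (toBC A Q) (ofBC_comp_toBC A Q) (toBC_comp_ofBC A Q)

@[simp] theorem bcEquiv_tmul (z : A) (x : CliffordAlgebra Q) :
    bcEquiv A Q (z ⊗ₜ x) = z • ofBCAux A Q x := ofBC_tmul A Q z x

theorem bcEquiv_one_tmul (x : CliffordAlgebra Q) :
    bcEquiv A Q (1 ⊗ₜ x) = ofBCAux A Q x := by simp

theorem bcEquiv_symm_ofBCAux (x : CliffordAlgebra Q) :
    (bcEquiv A Q).symm (ofBCAux A Q x) = 1 ⊗ₜ x := by
  rw [AlgEquiv.symm_apply_eq, bcEquiv_one_tmul]

end Groth.Agent.Lib.CliffBC16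

namespace Groth.Agent.Lib.CliffBC16
open TensorProduct CliffordAlgebra

universe u v w
variable {R : Type u} [CommRing R] {M : Type v} [AddCommGroup M] [Module R M] [Module.Free R M]
variable (A : Type w) [CommRing A] [Algebra R A] (Q : QuadraticForm R M)

theorem zmod2_cases (i : ZMod 2) : i = 0 ∨ i = 1 := by
  fin_cases i
  · exact Or.inl rfl
  · exact Or.inr rfl

theorem ofBCAux_mem_evenOdd (i : ZMod 2) (x : CliffordAlgebra Q) (hx : x ∈ evenOdd Q i) :
    ofBCAux A Q x ∈ evenOdd (QuadGrp.baseChangeForm A Q) i := by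
  induction x, hx using CliffordAlgebra.evenOdd_induction with
  | range_ι_pow v h =>
    rcases zmod2_cases i with rfl | rfl
    · -- i = 0
      rw [ZMod.val_zero, pow_zero] at h
      obtain ⟨r, rfl⟩ := Submodule.mem_one.1 h
      rw [AlgHom.commutes, IsScalarTower.algebraMap_apply R A]
      exact SetLike.algebraMap_mem_graded (evenOdd (QuadGrp.baseChangeForm A Q)) _
    · rw [ZMod.val_one, pow_one] at h
      obtain ⟨m, rfl⟩ := h
      rw [ofBCAux_ι]
      exact ι_mem_evenOdd_one _ _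
  | add x y hx hy ihx ihy =>
    rw [map_add]
    exact Submodule.add_mem _ ihx ihy
  | ι_mul_ι_mul m₁ m₂ x hx ih =>
    rw [map_mul, map_mul, ofBCAux_ι, ofBCAux_ι]
    have := SetLike.mul_mem_graded (ι_mul_ι_mem_evenOdd_zero (QuadGrp.baseChangeForm A Q)
      (1 ⊗ₜ m₁) (1 ⊗ₜ m₂)) ih
    rwa [zero_add] at this

end Groth.Agent.Lib.CliffBC16

namespace Groth.Agent.Lib.CliffBC16
open TensorProduct CliffordAlgebra

universe u v w
variable {R : Type u} [CommRing R] {M : Type v} [AddCommGroup M] [Module R M] [Module.Free R M]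
variable (Q : QuadraticForm R M)

/-- Linear identification of the Clifford algebra of a free module with the exterior algebra. -/
noncomputable def toExterior : CliffordAlgebra Q ≃ₗ[R] ExteriorAlgebra R M :=
  changeFormEquiv (B := -(QuadGrp.bilinLift Q)) (by
    rw [LinearMap.BilinMap.toQuadraticMap_neg, QuadGrp.bilinLift_spec, zero_sub])

noncomputable def cliffordBasis {I : Type*} [LinearOrder I] (b : Module.Basis I R M) :
    Module.Basis (Finset I) R (CliffordAlgebra Q) :=
  (Module.Basis.ExteriorAlgebra b).map (toExterior Q).symm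

instance free_clifford : Module.Free R (CliffordAlgebra Q) := by
  classical
  let I := Module.Free.ChooseBasisIndex R M
  letI : LinearOrder I := IsWellOrder.linearOrder WellOrderingRel
  exact Module.Free.of_basis (cliffordBasis Q (Module.Free.chooseBasis R M))

instance finite_clifford [Module.Finite R M] : Module.Finite R (CliffordAlgebra Q) := by
  classical
  let I := Module.Free.ChooseBasisIndex R M
  letI : LinearOrder I := IsWellOrder.linearOrder WellOrderingRel
  exact Module.Finite.of_basis (cliffordBasis Q (Module.Free.chooseBasis R M))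

theorem finrank_clifford [Module.Finite R M] [Nontrivial R] :
    Module.finrank R (CliffordAlgebra Q) = 2 ^ Module.finrank R M := by
  classical
  rw [Module.finrank_eq_card_basis (cliffordBasis Q (Module.finBasis R M)), Fintype.card_finset,
    Fintype.card_fin]

end Groth.Agent.Lib.CliffBC16
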