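import Groth.Agent.Lib.CliffGPin16

/-!
# Centre of the even Clifford algebra over a local ring; Dickson condition (helper16)

`ZetaData Q` (even `ζ`, `ζ² = Cζ − D`, `C² − 4D` unit, `v ζ = (C − ζ) v`), `exists_zetaData` (local ring, regular even rank),
`ZetaData.mem_even_of_comm / mem_odd_of_anti` (parity detection), `ZetaData.conj_eq`, `homogeneous_of_mem_GPin'`,
`map_eq_conj`, `exists_isometry_of_conj`, `mem_SOeven_of_even`, `not_mem_SOeven_of_odd`, `exists_gspin_of_SOeven` (S17008),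
`index_SOeven` (S17007), `vecUnit`, `exists_isUnit_value`, `ι_injective_of_free`, `algebraMap_injective_of_free`, `zeta_mul`.
-/

set_option autoImplicit false
set_option linter.style.haveILetI false
set_option linter.unusedSectionVars false
set_option linter.unusedSimpArgs false
set_option linter.unusedVariables false

namespace Groth.Agent.Lib.CliffCentre16
open QuadraticMap CliffordAlgebra TensorProduct

universe u v w

theorem zeta_mul_comm {S : Type*} [CommRing S] (x₁ x₂ c₁ d₁ c₂ d₂ t : S) (ht : t = 2)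
    (k₁ : x₁ * x₁ = c₁ * x₁ - d₁) (k₂ : x₂ * x₂ = c₂ * x₂ - d₂) :
    (c₂ * x₁ + c₁ * x₂ - t * (x₁ * x₂)) * (c₂ * x₁ + c₁ * x₂ - t * (x₁ * x₂)) =
      (c₁ * c₂) * (c₂ * x₁ + c₁ * x₂ - t * (x₁ * x₂)) -
        (d₁ * c₂ ^ 2 + d₂ * c₁ ^ 2 - t * t * d₁ * d₂) := by
  subst ht
  linear_combination (c₂ ^ 2 - 4 * c₂ * x₂ + 4 * x₂ * x₂) * k₁ +
    (c₁ ^ 2 - 4 * c₁ * x₁ + 4 * (c₁ * x₁ - d₁)) * k₂

section alg
variable {R : Type u} [CommRing R] {A : Type v} [Ring A] [Algebra R A]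

/-- Composition of "quadratic generators": if `ζ₁, ζ₂` commute and satisfy `ζᵢ² = Cᵢ ζᵢ − Dᵢ`, then
`ζ = C₂ ζ₁ + C₁ ζ₂ − 2 ζ₁ ζ₂` satisfies `ζ² = C₁C₂ ζ − D`. -/
theorem zeta_mul (ζ₁ ζ₂ : A) (C₁ D₁ C₂ D₂ : R) (hc : ζ₁ * ζ₂ = ζ₂ * ζ₁)
    (h₁ : ζ₁ * ζ₁ = C₁ • ζ₁ - D₁ • (1 : A)) (h₂ : ζ₂ * ζ₂ = C₂ • ζ₂ - D₂ • (1 : A)) :
    (C₂ • ζ₁ + C₁ • ζ₂ - (2 : R) • (ζ₁ * ζ₂)) * (C₂ • ζ₁ + C₁ • ζ₂ - (2 : R) • (ζ₁ * ζ₂)) =
      (C₁ * C₂) • (C₂ • ζ₁ + C₁ • ζ₂ - (2 : R) • (ζ₁ * ζ₂)) -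
        (D₁ * C₂ ^ 2 + D₂ * C₁ ^ 2 - 4 * D₁ * D₂) • (1 : A) := by
  have hcomm : ∀ a ∈ ({ζ₁, ζ₂} : Set A), ∀ b ∈ ({ζ₁, ζ₂} : Set A), a * b = b * a := by
    rintro a (rfl | rfl) b (rfl | rfl)
    · rfl
    · exact hc
    · exact hc.symm
    · rfl
  have hI := Algebra.isMulCommutative_adjoin R hcomm
  letI : CommRing (Algebra.adjoin R ({ζ₁, ζ₂} : Set A)) := IsMulCommutative.instCommRing
  have key := zeta_mul_comm (S := Algebra.adjoin R ({ζ₁, ζ₂} : Set A))
    ⟨ζ₁, Algebra.subset_adjoin (by simp)⟩ ⟨ζ₂, Algebra.subset_adjoin (by simp)⟩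
    (algebraMap R _ C₁) (algebraMap R _ D₁) (algebraMap R _ C₂) (algebraMap R _ D₂)
    (algebraMap R _ 2) (map_ofNat _ 2)
    (by
      apply Subtype.ext
      simp only [MulMemClass.coe_mul, AddSubgroupClass.coe_sub, Subalgebra.coe_algebraMap]
      rw [h₁, Algebra.smul_def, Algebra.smul_def, mul_one])
    (by
      apply Subtype.ext
      simp only [MulMemClass.coe_mul, AddSubgroupClass.coe_sub, Subalgebra.coe_algebraMap]
      rw [h₂, Algebra.smul_def, Algebra.smul_def, mul_one])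
  have := congrArg (fun y : Algebra.adjoin R ({ζ₁, ζ₂} : Set A) => (y : A)) key
  simp only [MulMemClass.coe_mul, AddSubgroupClass.coe_sub, AddMemClass.coe_add,
    Subalgebra.coe_algebraMap, SubmonoidClass.coe_pow] at this
  simp only [Algebra.smul_def, mul_one, map_mul, map_add, map_sub, map_pow]
  have h4 : (algebraMap R A) 4 = (algebraMap R A) 2 * (algebraMap R A) 2 := by
    rw [← map_mul]; norm_num
  rw [h4]
  exact this

end alg

end Groth.Agent.Lib.CliffCentre16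

namespace Groth.Agent.Lib.CliffCentre16
open QuadraticMap CliffordAlgebra TensorProduct

universe u v w

section
variable {R : Type u} [CommRing R] {M : Type v} [AddCommGroup M] [Module R M]

/-- A generator of the centre of the even Clifford algebra: `ζ` even, `ζ² = Cζ − D` with
`C² − 4D` a unit, and `v ζ = (C − ζ) v` for all vectors `v`. -/
structure ZetaData (Q : QuadraticForm R M) where
  ζ : CliffordAlgebra Q
  C : R
  D : R
  even : ζ ∈ evenOdd Q 0
  unit : IsUnit (C ^ 2 - 4 * D)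
  sq : ζ * ζ = C • ζ - D • (1 : CliffordAlgebra Q)
  anti : ∀ v, ι Q v * ζ = (C • (1 : CliffordAlgebra Q) - ζ) * ι Q v

variable {Q : QuadraticForm R M} (Z : ZetaData Q)

/-- `W = C − 2ζ`. -/
noncomputable def ZetaData.W : CliffordAlgebra Q := Z.C • (1 : CliffordAlgebra Q) - (2 : R) • Z.ζ

theorem ZetaData.W_sq : Z.W * Z.W = (Z.C ^ 2 - 4 * Z.D) • (1 : CliffordAlgebra Q) := by
  simp only [ZetaData.W, sub_mul, mul_sub, smul_mul_assoc, mul_smul_comm, one_mul, mul_one, Z.sq]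
  module

theorem ZetaData.isUnit_W : IsUnit Z.W := by
  obtain ⟨u, hu⟩ := Z.unit
  have h1 : Z.W * ((↑u⁻¹ : R) • Z.W) = 1 := by
    rw [mul_smul_comm, Z.W_sq, ← hu, smul_smul, Units.inv_mul, one_smul]
  have h2 : ((↑u⁻¹ : R) • Z.W) * Z.W = 1 := by
    rw [smul_mul_assoc, Z.W_sq, ← hu, smul_smul, Units.inv_mul, one_smul]
  exact ⟨⟨Z.W, (↑u⁻¹ : R) • Z.W, h1, h2⟩, rfl⟩

theorem ZetaData.W_mul_cancel (x : CliffordAlgebra Q) (h : Z.W * x = 0) : x = 0 := by
  obtain ⟨u, hu⟩ := Z.isUnit_W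
  have := congrArg (fun y => (↑u⁻¹ : CliffordAlgebra Q) * y) h
  simpa [← hu, ← mul_assoc] using this

/-- even elements commute with `ζ`, odd elements satisfy `x ζ = (C − ζ) x`. -/
theorem ZetaData.mul_zeta_of_mem (i : ZMod 2) (x : CliffordAlgebra Q) (hx : x ∈ evenOdd Q i) :
    (i = 0 → x * Z.ζ = Z.ζ * x) ∧
      (i = 1 → x * Z.ζ = (Z.C • (1 : CliffordAlgebra Q) - Z.ζ) * x) := by
  induction x, hx using CliffordAlgebra.evenOdd_induction with
  | range_ι_pow v h =>
    rcases Groth.Agent.Lib.CliffBC16.zmod2_cases i with rfl | rfl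
    · rw [ZMod.val_zero, pow_zero] at h
      obtain ⟨r, rfl⟩ := Submodule.mem_one.1 h
      exact ⟨fun _ => (Algebra.commutes r Z.ζ), fun h => absurd h (by decide)⟩
    · rw [ZMod.val_one, pow_one] at h
      obtain ⟨m, rfl⟩ := h
      exact ⟨fun h => absurd h (by decide), fun _ => Z.anti m⟩
  | add x y hx hy ihx ihy =>
    refine ⟨fun h => ?_, fun h => ?_⟩
    · rw [add_mul, mul_add, ihx.1 h, ihy.1 h]
    · rw [add_mul, mul_add, ihx.2 h, ihy.2 h]
  | ι_mul_ι_mul m₁ m₂ x hx ih =>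
    have h2 : ι Q m₁ * ι Q m₂ * Z.ζ = Z.ζ * (ι Q m₁ * ι Q m₂) := by
      rw [mul_assoc, Z.anti m₂, ← mul_assoc, mul_sub, sub_mul, mul_smul_comm, mul_one,
        smul_mul_assoc, Z.anti m₁, sub_mul, smul_mul_assoc, one_mul, sub_mul, smul_mul_assoc,
        mul_assoc]
      abel
    refine ⟨fun h => ?_, fun h => ?_⟩
    · rw [mul_assoc, ih.1 h, ← mul_assoc, h2, mul_assoc]
    · rw [mul_assoc, ih.2 h, ← mul_assoc, mul_sub, sub_mul, mul_smul_comm, mul_one, h2]
      simp only [sub_mul, smul_mul_assoc, one_mul, mul_assoc]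

theorem ZetaData.even_comm (x : CliffordAlgebra Q) (hx : x ∈ evenOdd Q 0) :
    x * Z.ζ = Z.ζ * x := (Z.mul_zeta_of_mem 0 x hx).1 rfl

theorem ZetaData.odd_anti (x : CliffordAlgebra Q) (hx : x ∈ evenOdd Q 1) :
    x * Z.ζ = (Z.C • (1 : CliffordAlgebra Q) - Z.ζ) * x := (Z.mul_zeta_of_mem 1 x hx).2 rfl

end

end Groth.Agent.Lib.CliffCentre16

namespace Groth.Agent.Lib.CliffCentre16
open QuadraticMap CliffordAlgebra TensorProduct

universe u v w

section
variable {R : Type u} [CommRing R] {M : Type v} [AddCommGroup M] [Module R M]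
  (Q : QuadraticForm R M)

theorem exists_even_odd (x : CliffordAlgebra Q) :
    ∃ x₀ ∈ evenOdd Q 0, ∃ x₁ ∈ evenOdd Q 1, x = x₀ + x₁ := by
  classical
  refine ⟨(DirectSum.decompose (evenOdd Q) x 0 : CliffordAlgebra Q), SetLike.coe_mem _,
    (DirectSum.decompose (evenOdd Q) x 1 : CliffordAlgebra Q), SetLike.coe_mem _, ?_⟩
  conv_lhs => rw [← DirectSum.sum_support_decompose (evenOdd Q) x]
  rw [Finset.sum_subset (Finset.subset_univ _) (fun i _ hi => by
    rw [DFinsupp.notMem_support_iff.mp hi, ZeroMemClass.coe_zero])]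
  exact Fin.sum_univ_two _

theorem even_odd_eq_zero (x₀ x₁ : CliffordAlgebra Q) (h0 : x₀ ∈ evenOdd Q 0)
    (h1 : x₁ ∈ evenOdd Q 1) (h : x₀ + x₁ = 0) : x₀ = 0 ∧ x₁ = 0 := by
  classical
  have hx : x₀ = -x₁ := eq_neg_of_add_eq_zero_left h
  have h1' : x₀ ∈ evenOdd Q 1 := by rw [hx]; exact Submodule.neg_mem _ h1
  have hd := DirectSum.decompose_of_mem_ne (evenOdd Q) h1' (show (1 : ZMod 2) ≠ 0 by decide)
  have hs := DirectSum.decompose_of_mem_same (evenOdd Q) h0
  have hx0 : x₀ = 0 := by rw [← hs, hd]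
  refine ⟨hx0, ?_⟩
  rw [hx0, zero_add] at h
  exact h

variable {Q} (Z : ZetaData Q)

theorem ZetaData.mem_even_of_comm (x : CliffordAlgebra Q) (h : x * Z.ζ = Z.ζ * x) :
    x ∈ evenOdd Q 0 := by
  obtain ⟨x₀, h0, x₁, h1, rfl⟩ := exists_even_odd Q x
  have e0 := Z.even_comm x₀ h0
  have e1 := Z.odd_anti x₁ h1
  rw [add_mul, mul_add, e0, e1, add_right_inj] at h
  have hW : Z.W * x₁ = 0 := by
    rw [ZetaData.W, sub_mul, two_smul, add_mul, ← sub_sub, ← sub_mul, h, sub_self]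
  rw [Z.W_mul_cancel x₁ hW, add_zero]
  exact h0

theorem ZetaData.mem_odd_of_anti (x : CliffordAlgebra Q)
    (h : x * Z.ζ = (Z.C • (1 : CliffordAlgebra Q) - Z.ζ) * x) : x ∈ evenOdd Q 1 := by
  obtain ⟨x₀, h0, x₁, h1, rfl⟩ := exists_even_odd Q x
  have e0 := Z.even_comm x₀ h0
  have e1 := Z.odd_anti x₁ h1
  rw [add_mul, mul_add, e0, e1, add_left_inj] at h
  have hW : Z.W * x₀ = 0 := by
    rw [ZetaData.W, sub_mul, two_smul, add_mul, ← sub_sub, ← sub_mul, ← h, sub_self]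
  rw [Z.W_mul_cancel x₀ hW, zero_add]
  exact h1

end

end Groth.Agent.Lib.CliffCentre16

namespace Groth.Agent.Lib.CliffCentre16
open QuadraticMap CliffordAlgebra TensorProduct
open Groth.Agent.Lib.QuadPlane16 Groth.Agent.Lib.CliffTensor16 Groth.Agent.Lib.CliffPlane16

universe u v w

section
variable {R : Type u} [CommRing R] {M : Type v} [AddCommGroup M] [Module R M]
  (Q : QuadraticForm R M) (N : Submodule R M)

/-- inclusion of a submodule as an isometry. -/
def inclIso : (Q.comp N.subtype) →qᵢ Q :=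
  { N.subtype with map_app' := fun _ => rfl }

@[simp] theorem inclIso_apply (n : N) : inclIso Q N n = (n : M) := rfl

/-- `C(Q|N) → C(Q)`. -/
noncomputable def inclMap : CliffordAlgebra (Q.comp N.subtype) →ₐ[R] CliffordAlgebra Q :=
  CliffordAlgebra.map (inclIso Q N)

@[simp] theorem inclMap_ι (n : N) : inclMap Q N (ι _ n) = ι Q (n : M) := by
  rw [inclMap, CliffordAlgebra.map_apply_ι]; rfl

theorem inclMap_mem_evenOdd (i : ZMod 2) (x : CliffordAlgebra (Q.comp N.subtype))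
    (hx : x ∈ evenOdd (Q.comp N.subtype) i) : inclMap Q N x ∈ evenOdd Q i := by
  induction x, hx using CliffordAlgebra.evenOdd_induction with
  | range_ι_pow v h =>
    rcases Groth.Agent.Lib.CliffBC16.zmod2_cases i with rfl | rfl
    · rw [ZMod.val_zero, pow_zero] at h
      obtain ⟨r, rfl⟩ := Submodule.mem_one.1 h
      rw [AlgHom.commutes]
      exact SetLike.algebraMap_mem_graded (evenOdd Q) _
    · rw [ZMod.val_one, pow_one] at h
      obtain ⟨m, rfl⟩ := h
      rw [inclMap_ι]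
      exact ι_mem_evenOdd_one _ _
  | add x y hx hy ihx ihy =>
    rw [map_add]
    exact Submodule.add_mem _ ihx ihy
  | ι_mul_ι_mul m₁ m₂ x hx ih =>
    rw [map_mul, map_mul, inclMap_ι, inclMap_ι]
    have := SetLike.mul_mem_graded (ι_mul_ι_mem_evenOdd_zero Q (m₁ : M) (m₂ : M)) ih
    rwa [zero_add] at this

theorem ι_anticomm_of_polar (v n : M) (h : polar Q v n = 0) :
    ι Q v * ι Q n = -(ι Q n * ι Q v) :=
  ι_mul_ι_comm_of_isOrtho ((QuadraticMap.isOrtho_def).2
    (by rw [QuadraticMap.map_add Q v n, h, add_zero]))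

/-- a vector orthogonal to `N` commutes with the image of the even Clifford algebra of `N`. -/
theorem ι_comm_inclMap_even (v : M) (hv : ∀ n : N, polar Q v (n : M) = 0)
    (x : CliffordAlgebra (Q.comp N.subtype)) (hx : x ∈ evenOdd (Q.comp N.subtype) 0) :
    ι Q v * inclMap Q N x = inclMap Q N x * ι Q v := by
  induction x, hx using CliffordAlgebra.evenOdd_induction with
  | range_ι_pow y h =>
    rw [ZMod.val_zero, pow_zero] at h
    obtain ⟨r, rfl⟩ := Submodule.mem_one.1 h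
    rw [AlgHom.commutes]
    exact (Algebra.commutes r _).symm
  | add x y hx hy ihx ihy =>
    rw [map_add, mul_add, add_mul, ihx, ihy]
  | ι_mul_ι_mul m₁ m₂ x hx ih =>
    rw [map_mul, map_mul, inclMap_ι, inclMap_ι, ← mul_assoc, ← mul_assoc,
      ι_anticomm_of_polar Q v _ (hv m₁), neg_mul, mul_assoc (ι Q (m₁ : M)),
      ι_anticomm_of_polar Q v _ (hv m₂), mul_neg, neg_neg, mul_assoc, mul_assoc, mul_assoc, ih,
      mul_assoc]

end

end Groth.Agent.Lib.CliffCentre16

namespace Groth.Agent.Lib.CliffCentre16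
open QuadraticMap CliffordAlgebra TensorProduct
open Groth.Agent.Lib.QuadPlane16 Groth.Agent.Lib.CliffTensor16 Groth.Agent.Lib.CliffPlane16

universe u v w

section
variable {R : Type u} [CommRing R] {M : Type v} [AddCommGroup M] [Module R M]
  (Q : QuadraticForm R M) (e f : M)

theorem ι_e_mul_z : ι Q e * zElt Q e f = (polar Q e f • (1 : CliffordAlgebra Q) - zElt Q e f) * ι Q e := by
  rw [sub_mul, smul_mul_assoc, one_mul, rzE Q e f, rEz Q e f]
  abel

theorem ι_f_mul_z : ι Q f * zElt Q e f = (polar Q e f • (1 : CliffordAlgebra Q) - zElt Q e f) * ι Q f := by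
  rw [sub_mul, smul_mul_assoc, one_mul, rzF Q e f, rFz Q e f]

theorem ι_perp_mul_z (n : M) (h1 : polar Q e n = 0) (h2 : polar Q f n = 0) :
    ι Q n * zElt Q e f = zElt Q e f * ι Q n := by
  have he : ι Q n * ι Q e = -(ι Q e * ι Q n) :=
    ι_anticomm_of_polar Q n e (by rw [polar_comm]; exact h1)
  have hf : ι Q n * ι Q f = -(ι Q f * ι Q n) :=
    ι_anticomm_of_polar Q n f (by rw [polar_comm]; exact h2)
  rw [zElt, ← mul_assoc, he, neg_mul, mul_assoc, hf, mul_neg, neg_neg, mul_assoc]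

/-- the general algebraic step for the `anti` relation, case "anti with ζ₁, commute with z". -/
theorem anti_step_left {A : Type*} [Ring A] [Algebra R A] (x ζ₁ z : A) (C₁ c : R)
    (h1 : x * ζ₁ = (C₁ • (1 : A) - ζ₁) * x) (h2 : x * z = z * x) :
    x * (c • ζ₁ + C₁ • z - (2 : R) • (ζ₁ * z)) =
      ((C₁ * c) • (1 : A) - (c • ζ₁ + C₁ • z - (2 : R) • (ζ₁ * z))) * x := by
  have h3 : x * (ζ₁ * z) = (C₁ • (1 : A) - ζ₁) * (z * x) := by
    rw [← mul_assoc, h1, mul_assoc, h2]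
  simp only [mul_add, mul_sub, mul_smul_comm, h1, h2, h3, sub_mul, add_mul, smul_mul_assoc,
    one_mul, mul_assoc]
  module

/-- case "commute with ζ₁, anti with z". -/
theorem anti_step_right {A : Type*} [Ring A] [Algebra R A] (x ζ₁ z : A) (C₁ c : R)
    (h1 : x * ζ₁ = ζ₁ * x) (h2 : x * z = (c • (1 : A) - z) * x) :
    x * (c • ζ₁ + C₁ • z - (2 : R) • (ζ₁ * z)) =
      ((C₁ * c) • (1 : A) - (c • ζ₁ + C₁ • z - (2 : R) • (ζ₁ * z))) * x := by
  have h3 : x * (ζ₁ * z) = ζ₁ * ((c • (1 : A) - z) * x) := by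
    rw [← mul_assoc, h1, mul_assoc, h2]
  simp only [mul_add, mul_sub, mul_smul_comm, h1, h2, h3, sub_mul, add_mul, smul_mul_assoc,
    one_mul, mul_assoc]
  module

end

end Groth.Agent.Lib.CliffCentre16

namespace Groth.Agent.Lib.CliffCentre16
open QuadraticMap CliffordAlgebra TensorProduct
open Groth.Agent.Lib.QuadPlane16 Groth.Agent.Lib.CliffTensor16 Groth.Agent.Lib.CliffPlane16

universe u v w

section
variable {R : Type u} [CommRing R] {M : Type v} [AddCommGroup M] [Module R M]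
  (Q : QuadraticForm R M) (e f : M) (di : R) (hdi : delta Q e f * di = 1)

include hdi in
/-- One step: a generator for `(e,f)^⊥` gives a generator for `M`. -/
theorem zetaData_step (ZN : ZetaData (Q.comp (perp Q e f).subtype)) : Nonempty (ZetaData Q) := by
  set N := perp Q e f with hN
  set ζ₁ := inclMap Q N ZN.ζ with hζ₁
  set z := zElt Q e f with hz
  have f1 : ζ₁ * ζ₁ = ZN.C • ζ₁ - ZN.D • (1 : CliffordAlgebra Q) := by
    have := congrArg (inclMap Q N) ZN.sq
    simpa only [map_mul, map_sub, map_smul, map_one] using this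
  have f2 : z * z = polar Q e f • z - (Q e * Q f) • (1 : CliffordAlgebra Q) := rzz Q e f
  have hperp : ∀ n : N, polar Q e (n : M) = 0 ∧ polar Q f (n : M) = 0 :=
    fun n => (mem_perp Q e f n).1 n.2
  have ge : ι Q e * ζ₁ = ζ₁ * ι Q e :=
    ι_comm_inclMap_even Q N e (fun n => (hperp n).1) ZN.ζ ZN.even
  have gf : ι Q f * ζ₁ = ζ₁ * ι Q f :=
    ι_comm_inclMap_even Q N f (fun n => (hperp n).2) ZN.ζ ZN.even
  have f3 : ζ₁ * z = z * ζ₁ := by
    rw [hz, zElt, ← mul_assoc, ← ge, mul_assoc, ← gf, mul_assoc]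
  have f4 : ∀ n : N, ι Q (n : M) * ζ₁ = (ZN.C • (1 : CliffordAlgebra Q) - ζ₁) * ι Q (n : M) := by
    intro n
    have := congrArg (inclMap Q N) (ZN.anti n)
    simpa only [map_mul, map_sub, map_smul, map_one, inclMap_ι] using this
  have f5 : ∀ n : N, ι Q (n : M) * z = z * ι Q (n : M) :=
    fun n => ι_perp_mul_z Q e f n (hperp n).1 (hperp n).2
  refine ⟨{ ζ := polar Q e f • ζ₁ + ZN.C • z - (2 : R) • (ζ₁ * z)
            C := ZN.C * polar Q e f
            D := ZN.D * polar Q e f ^ 2 + (Q e * Q f) * ZN.C ^ 2 - 4 * ZN.D * (Q e * Q f)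
            even := ?_, unit := ?_, sq := ?_, anti := ?_ }⟩
  · have hz0 : z ∈ evenOdd Q 0 := ι_mul_ι_mem_evenOdd_zero Q e f
    have hζ0 : ζ₁ ∈ evenOdd Q 0 := inclMap_mem_evenOdd Q N 0 _ ZN.even
    have hm : ζ₁ * z ∈ evenOdd Q 0 := by
      have := SetLike.mul_mem_graded hζ0 hz0
      rwa [zero_add] at this
    exact Submodule.sub_mem _ (Submodule.add_mem _ (Submodule.smul_mem _ _ hζ0)
      (Submodule.smul_mem _ _ hz0)) (Submodule.smul_mem _ _ hm)
  · have hu : IsUnit (delta Q e f) := IsUnit.of_mul_eq_one _ hdi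
    have : (ZN.C * polar Q e f) ^ 2 -
        4 * (ZN.D * polar Q e f ^ 2 + (Q e * Q f) * ZN.C ^ 2 - 4 * ZN.D * (Q e * Q f)) =
        (ZN.C ^ 2 - 4 * ZN.D) * delta Q e f := by
      rw [delta]; ring
    rw [this]
    exact ZN.unit.mul hu
  · exact zeta_mul ζ₁ z ZN.C ZN.D (polar Q e f) (Q e * Q f) f3 f1 f2
  · intro v
    obtain ⟨p, n, rfl⟩ := exists_decomp Q e f di hdi v
    have he := anti_step_right (ι Q e) ζ₁ z ZN.C (polar Q e f) ge (ι_e_mul_z Q e f)
    have hf := anti_step_right (ι Q f) ζ₁ z ZN.C (polar Q e f) gf (ι_f_mul_z Q e f)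
    have hn := anti_step_left (ι Q (n : M)) ζ₁ z ZN.C (polar Q e f) (f4 n) (f5 n)
    rw [planeMap_apply, map_add, map_add, map_smul, map_smul, add_mul, add_mul, mul_add, mul_add,
      smul_mul_assoc, smul_mul_assoc, mul_smul_comm, mul_smul_comm, he, hf, hn]

end

end Groth.Agent.Lib.CliffCentre16

namespace Groth.Agent.Lib.CliffCentre16
open QuadraticMap CliffordAlgebra TensorProduct
open Groth.Agent.Lib.QuadPlane16 Groth.Agent.Lib.CliffTensor16 Groth.Agent.Lib.CliffPlane16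

universe u v w

theorem zetaData_of_subsingleton {R : Type u} [CommRing R] {M : Type v} [AddCommGroup M]
    [Module R M] [Subsingleton M] (Q : QuadraticForm R M) : Nonempty (ZetaData Q) :=
  ⟨{ ζ := 0, C := 1, D := 0
     even := Submodule.zero_mem _
     unit := by simp
     sq := by simp
     anti := fun v => by rw [Subsingleton.elim v 0]; simp }⟩

/-- Over a local ring, the even Clifford algebra of a regular even-rank form has a "central
generator" `ζ`. -/
theorem exists_zetaData {R : Type u} [CommRing R] [IsLocalRing R] :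
    ∀ (m : ℕ) (M : Type v) [AddCommGroup M] [Module R M] [Module.Free R M] [Module.Finite R M]
      (Q : QuadraticForm R M), Module.finrank R M = 2 * m → QuadGrp.IsRegular Q →
      Nonempty (ZetaData Q) := by
  intro m
  induction m with
  | zero =>
    intro M _ _ _ _ Q hM _
    have : Subsingleton M := (Module.finrank_eq_zero_iff_of_free R M).1 (by simpa using hM)
    exact zetaData_of_subsingleton Q
  | succ m ih =>
    intro M _ _ _ _ Q hM hQ
    obtain ⟨e, f, hδ⟩ := exists_isUnit_delta Q hQ (by omega)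
    obtain ⟨u, hu⟩ := hδ
    have hdi : delta Q e f * (↑u⁻¹ : R) = 1 := by rw [← hu, Units.mul_inv]
    have hfin := finite_perp Q e f _ hdi
    have hproj := projective_perp Q e f _ hdi
    have hfree : Module.Free R (perp Q e f) := Module.free_of_flat_of_isLocalRing
    obtain ⟨ZN⟩ := ih (perp Q e f) (Q.comp (perp Q e f).subtype)
      (by have := Groth.Agent.Lib.CliffAz16.finrank_perp Q e f _ hdi; omega)
      (isRegular_perp Q e f _ hdi hQ)
    exact zetaData_step Q e f _ hdi ZN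

end Groth.Agent.Lib.CliffCentre16

namespace Groth.Agent.Lib.CliffCentre16
open QuadraticMap CliffordAlgebra TensorProduct
open Groth.Agent.Lib.QuadPlane16 Groth.Agent.Lib.CliffTensor16 Groth.Agent.Lib.CliffPlane16

universe u v w

section
variable {R : Type u} [CommRing R] {M : Type v} [AddCommGroup M] [Module R M]
  {Q : QuadraticForm R M} (Z : ZetaData Q)

theorem ZetaData.ι_mul_W (v : M) : ι Q v * Z.W = -(Z.W * ι Q v) := by
  rw [ZetaData.W, mul_sub, mul_smul_comm, mul_one, mul_smul_comm, Z.anti v, sub_mul, sub_mul,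
    smul_mul_assoc, smul_mul_assoc, one_mul, smul_sub]
  simp only [two_smul]
  abel

theorem ZetaData.zeta_comm_W : Z.ζ * Z.W = Z.W * Z.ζ := by
  simp only [ZetaData.W, mul_sub, sub_mul, mul_smul_comm, smul_mul_assoc, mul_one, one_mul]

/-- the conjugate of `ζ` by a unit normalising `M` is `ζ + s W` with `s` an idempotent scalar. -/
theorem ZetaData.conj_eq [IsAzumaya R (CliffordAlgebra Q)] (u : (CliffordAlgebra Q)ˣ)
    (hu' : ∀ v : M, ∃ v' : M, (↑u⁻¹ : CliffordAlgebra Q) * ι Q v * u = ι Q v') :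
    ∃ s : R, s * s = s ∧ (u : CliffordAlgebra Q) * Z.ζ * ↑u⁻¹ = Z.ζ + s • Z.W := by
  set ζ' : CliffordAlgebra Q := (u : CliffordAlgebra Q) * Z.ζ * ↑u⁻¹ with hζ'
  -- ζ' satisfies the same relations
  have hanti : ∀ v, ι Q v * ζ' = (Z.C • (1 : CliffordAlgebra Q) - ζ') * ι Q v := by
    intro v
    obtain ⟨v', hv'⟩ := hu' v
    have hv : ι Q v = (u : CliffordAlgebra Q) * ι Q v' * ↑u⁻¹ := by
      rw [← hv']; simp [mul_assoc]
    rw [hv, hζ']
    have h1 : (u : CliffordAlgebra Q) * ι Q v' * ↑u⁻¹ * (↑u * Z.ζ * ↑u⁻¹) =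
        ↑u * (ι Q v' * Z.ζ) * ↑u⁻¹ := by
      simp only [mul_assoc, Units.inv_mul_cancel_left]
    rw [h1, Z.anti v', sub_mul, mul_sub, sub_mul, sub_mul]
    simp only [mul_assoc, Units.inv_mul_cancel_left, smul_mul_assoc, mul_smul_comm, one_mul]
  have hsq : ζ' * ζ' = Z.C • ζ' - Z.D • (1 : CliffordAlgebra Q) := by
    have h1 : ζ' * ζ' = ↑u * (Z.ζ * Z.ζ) * ↑u⁻¹ := by
      rw [hζ']; simp only [mul_assoc, Units.inv_mul_cancel_left]
    rw [h1, Z.sq, mul_sub, sub_mul, hζ']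
    simp only [mul_smul_comm, smul_mul_assoc, mul_one, Units.mul_inv, mul_assoc]
  -- d = ζ' - ζ anticommutes with vectors
  obtain ⟨w, hw⟩ := Z.isUnit_W
  set t : CliffordAlgebra Q := (↑w⁻¹ : CliffordAlgebra Q) * (ζ' - Z.ζ) with ht
  have hWinv : ∀ v, ι Q v * (↑w⁻¹ : CliffordAlgebra Q) = -((↑w⁻¹ : CliffordAlgebra Q) * ι Q v) := by
    intro v
    have h1 := Z.ι_mul_W v
    rw [← hw] at h1
    have h2 : (↑w⁻¹ : CliffordAlgebra Q) * (ι Q v * ↑w) * ↑w⁻¹ =
        (↑w⁻¹ : CliffordAlgebra Q) * (-(↑w * ι Q v)) * ↑w⁻¹ := by rw [h1]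
    simp only [mul_assoc, Units.mul_inv, mul_one, mul_neg, Units.inv_mul_cancel_left, neg_mul] at h2
    rw [h2, neg_neg]
  have htc : ∀ v, ι Q v * t = t * ι Q v := by
    intro v
    rw [ht, ← mul_assoc, hWinv v, neg_mul, mul_assoc, mul_sub, hanti v, Z.anti v, mul_assoc,
      sub_mul]
    simp only [sub_mul, smul_mul_assoc, one_mul, mul_sub]
    abel
  have hcentral : ∀ x, t * x = x * t := by
    intro x
    have := Groth.Agent.Lib.CliffTensor16.commute_of_generators (AlgHom.id R (CliffordAlgebra Q)) t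
      (fun m => htc m) x
    exact this.eq.symm
  obtain ⟨s, hs⟩ := Groth.Agent.Lib.Azumaya16.mem_range_algebraMap_of_central (R := R) t hcentral
  have hd : ζ' = Z.ζ + s • Z.W := by
    have h1 : (↑w : CliffordAlgebra Q) * t = ζ' - Z.ζ := by
      rw [ht, ← mul_assoc, Units.mul_inv, one_mul]
    rw [← hs, hw, ← Algebra.commutes, ← Algebra.smul_def] at h1
    rw [h1]; abel
  refine ⟨s, ?_, hd⟩
  -- s is idempotent
  have hinj : Function.Injective (algebraMap R (CliffordAlgebra Q)) :=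
    FaithfulSMul.algebraMap_injective R (CliffordAlgebra Q)
  have h3 : (s * s - s) • (Z.W * Z.W) = 0 := by
    have h4 := hsq
    rw [hd] at h4
    have hc := Z.zeta_comm_W
    have h5 : (Z.ζ + s • Z.W) * (Z.ζ + s • Z.W) =
        Z.ζ * Z.ζ + (2 * s) • (Z.ζ * Z.W) + (s * s) • (Z.W * Z.W) := by
      simp only [add_mul, mul_add, smul_mul_assoc, mul_smul_comm, smul_smul, ← hc]
      module
    rw [h5, Z.sq] at h4
    have h6 : (2 : R) • (Z.ζ * Z.W) = Z.C • Z.W - Z.W * Z.W := by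
      simp only [ZetaData.W, mul_sub, sub_mul, mul_smul_comm, smul_mul_assoc, mul_one, one_mul]
      module
    have h7 : (2 * s) • (Z.ζ * Z.W) = s • ((2 : R) • (Z.ζ * Z.W)) := by
      rw [smul_smul, mul_comm]
    rw [h7, h6] at h4
    have : (s * s - s) • (Z.W * Z.W) =
        (Z.C • Z.ζ - Z.D • (1 : CliffordAlgebra Q) + s • (Z.C • Z.W - Z.W * Z.W) +
          (s * s) • (Z.W * Z.W)) - (Z.C • (Z.ζ + s • Z.W) - Z.D • (1 : CliffordAlgebra Q)) := by
      module
    rw [this, h4, sub_self]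
  rw [Z.W_sq, smul_smul, ← Algebra.algebraMap_eq_smul_one] at h3
  have h8 : (s * s - s) * (Z.C ^ 2 - 4 * Z.D) = 0 := hinj (by rw [h3, map_zero])
  obtain ⟨c, hc⟩ := Z.unit
  rw [← hc] at h8
  have h9 : s * s - s = 0 := by
    have := congrArg (fun y => y * (↑c⁻¹ : R)) h8
    simpa [mul_assoc] using this
  exact sub_eq_zero.1 h9

end

end Groth.Agent.Lib.CliffCentre16

namespace Groth.Agent.Lib.CliffCentre16
open QuadraticMap CliffordAlgebra TensorProduct
open Groth.Agent.Lib.QuadPlane16 Groth.Agent.Lib.CliffTensor16 Groth.Agent.Lib.CliffPlane16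
open Groth.Agent.Lib.CliffGPin16
open scoped Pointwise

universe u v w

theorem eq_zero_or_one_of_idem {R : Type u} [CommRing R] [IsLocalRing R] (s : R) (hs : s * s = s) :
    s = 0 ∨ s = 1 := by
  have h : s * (1 - s) = 0 := by rw [mul_sub, mul_one, hs, sub_self]
  rcases IsLocalRing.isUnit_or_isUnit_one_sub_self s with hu | hu
  · right
    have := hu.mul_right_eq_zero.1 h
    exact (sub_eq_zero.1 this).symm
  · left
    exact hu.mul_left_eq_zero.1 h

section
variable {R : Type u} [CommRing R] {M : Type v} [AddCommGroup M] [Module R M]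
  {Q : QuadraticForm R M}

theorem conj_mem_range_of_mem_GPin' (u : (CliffordAlgebra Q)ˣ) (hu : u ∈ QuadGrp.GPin' Q) (v : M) :
    ∃ v' : M, (u : CliffordAlgebra Q) * ι Q v * ↑u⁻¹ = ι Q v' := by
  rw [QuadGrp.mem_GPin'] at hu
  have h1 : ConjAct.toConjAct u • ι Q v ∈ ConjAct.toConjAct u • LinearMap.range (ι Q) :=
    Submodule.smul_mem_pointwise_smul _ _ _ ⟨v, rfl⟩
  rw [hu, conj_smul_def] at h1
  obtain ⟨v', hv'⟩ := h1
  exact ⟨v', hv'.symm⟩

theorem conj_inv_mem_range_of_mem_GPin' (u : (CliffordAlgebra Q)ˣ) (hu : u ∈ QuadGrp.GPin' Q)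
    (v : M) : ∃ v' : M, (↑u⁻¹ : CliffordAlgebra Q) * ι Q v * u = ι Q v' := by
  have := conj_mem_range_of_mem_GPin' u⁻¹ ((QuadGrp.GPin' Q).inv_mem hu) v
  simpa using this

/-- **Homogeneity over a local ring**: a unit normalising `M` is even or odd. -/
theorem homogeneous_of_mem_GPin' [IsLocalRing R] [IsAzumaya R (CliffordAlgebra Q)]
    (Z : ZetaData Q) (u : (CliffordAlgebra Q)ˣ) (hu : u ∈ QuadGrp.GPin' Q) :
    ((u : CliffordAlgebra Q) ∈ evenOdd Q 0 ∧ (u : CliffordAlgebra Q) * Z.ζ * ↑u⁻¹ = Z.ζ) ∨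
      ((u : CliffordAlgebra Q) ∈ evenOdd Q 1 ∧
        (u : CliffordAlgebra Q) * Z.ζ * ↑u⁻¹ = Z.C • (1 : CliffordAlgebra Q) - Z.ζ) := by
  obtain ⟨s, hs, hconj⟩ := Z.conj_eq u (conj_inv_mem_range_of_mem_GPin' u hu)
  rcases eq_zero_or_one_of_idem s hs with rfl | rfl
  · left
    rw [zero_smul, add_zero] at hconj
    refine ⟨Z.mem_even_of_comm _ ?_, hconj⟩
    have := congrArg (fun y => y * (u : CliffordAlgebra Q)) hconj
    simpa [mul_assoc] using this
  · right
    rw [one_smul] at hconj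
    have hW : Z.ζ + Z.W = Z.C • (1 : CliffordAlgebra Q) - Z.ζ := by
      rw [ZetaData.W, two_smul]; abel
    rw [hW] at hconj
    refine ⟨Z.mem_odd_of_anti _ ?_, hconj⟩
    have := congrArg (fun y => y * (u : CliffordAlgebra Q)) hconj
    simpa [mul_assoc] using this

end

end Groth.Agent.Lib.CliffCentre16

namespace Groth.Agent.Lib.CliffCentre16
open QuadraticMap CliffordAlgebra TensorProduct
open Groth.Agent.Lib.QuadPlane16 Groth.Agent.Lib.CliffTensor16 Groth.Agent.Lib.CliffPlane16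
open Groth.Agent.Lib.CliffGPin16
open scoped Pointwise

universe u v w

section
variable {R : Type u} [CommRing R] {M : Type v} [AddCommGroup M] [Module R M]
  (Q : QuadraticForm R M)

theorem ι_injective_of_free [Module.Free R M] : Function.Injective (ι Q) := by
  intro x y h
  have := congrArg (Groth.Agent.Lib.CliffBC16.toExterior Q) h
  simp only [Groth.Agent.Lib.CliffBC16.toExterior, changeFormEquiv_apply, changeForm_ι] at this
  exact (ExteriorAlgebra.ι_inj R x y).1 this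

theorem algebraMap_injective_of_free [Module.Free R M] :
    Function.Injective (algebraMap R (CliffordAlgebra Q)) := by
  intro x y h
  have := congrArg (Groth.Agent.Lib.CliffBC16.toExterior Q) h
  simp only [Groth.Agent.Lib.CliffBC16.toExterior, changeFormEquiv_apply,
    changeForm_algebraMap] at this
  exact (ExteriorAlgebra.algebraMap_inj M x y).1 this

/-- the algebra automorphism induced by an isometry is conjugation by `u` as soon as this holds on
vectors. -/
theorem map_eq_conj (g : M ≃ₗ[R] M) (hg : g ∈ QuadGrp.O Q) (u : (CliffordAlgebra Q)ˣ)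
    (h : ∀ v : M, (u : CliffordAlgebra Q) * ι Q v * ↑u⁻¹ = ι Q (g v)) (x : CliffordAlgebra Q) :
    CliffordAlgebra.map (QuadGrp.isometryOfMem Q g hg) x = (u : CliffordAlgebra Q) * x * ↑u⁻¹ := by
  induction x using CliffordAlgebra.induction with
  | algebraMap r =>
    rw [AlgHom.commutes, ← Algebra.commutes, mul_assoc, Units.mul_inv, mul_one]
  | ι v => rw [CliffordAlgebra.map_apply_ι, h]; rfl
  | mul a b ha hb =>
    rw [map_mul, ha, hb]
    simp only [mul_assoc, Units.inv_mul_cancel_left]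
  | add a b ha hb =>
    rw [map_add, ha, hb, mul_add, add_mul]

/-- a unit whose conjugation maps vectors to vectors induces an isometry. -/
theorem exists_isometry_of_conj [Module.Free R M] (u : (CliffordAlgebra Q)ˣ)
    (h1 : ∀ v : M, ∃ v' : M, (u : CliffordAlgebra Q) * ι Q v * ↑u⁻¹ = ι Q v')
    (h2 : ∀ v : M, ∃ v' : M, (↑u⁻¹ : CliffordAlgebra Q) * ι Q v * u = ι Q v') :
    ∃ g : M ≃ₗ[R] M, g ∈ QuadGrp.O Q ∧
      ∀ v : M, (u : CliffordAlgebra Q) * ι Q v * ↑u⁻¹ = ι Q (g v) := by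
  have hinj := ι_injective_of_free Q
  choose f hf using h1
  choose f' hf' using h2
  have hadd : ∀ x y, f (x + y) = f x + f y := by
    intro x y
    apply hinj
    rw [← hf, map_add, map_add, mul_add, add_mul, hf, hf]
  have hsmul : ∀ (r : R) (x : M), f (r • x) = r • f x := by
    intro r x
    apply hinj
    rw [← hf, map_smul, map_smul, mul_smul_comm, smul_mul_assoc, hf]
  have hff' : ∀ x, f (f' x) = x := by
    intro x
    apply hinj
    rw [← hf, ← hf']
    simp [mul_assoc]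
  have hf'f : ∀ x, f' (f x) = x := by
    intro x
    apply hinj
    rw [← hf', ← hf]
    simp [mul_assoc]
  let g : M ≃ₗ[R] M :=
    { toFun := f, map_add' := hadd, map_smul' := hsmul, invFun := f', left_inv := hf'f,
      right_inv := hff' }
  refine ⟨g, ?_, fun v => hf v⟩
  intro v
  apply algebraMap_injective_of_free Q
  change algebraMap R _ (Q (f v)) = algebraMap R _ (Q v)
  rw [← ι_sq_scalar, ← hf, ← ι_sq_scalar]
  simp only [mul_assoc, Units.inv_mul_cancel_left]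
  rw [← mul_assoc (ι Q v), ι_sq_scalar, ← mul_assoc, ← Algebra.commutes, mul_assoc, Units.mul_inv,
    mul_one]

end

end Groth.Agent.Lib.CliffCentre16

namespace Groth.Agent.Lib.CliffCentre16
open QuadraticMap CliffordAlgebra TensorProduct
open Groth.Agent.Lib.QuadPlane16 Groth.Agent.Lib.CliffTensor16 Groth.Agent.Lib.CliffPlane16
open Groth.Agent.Lib.CliffGPin16
open scoped Pointwise

universe u v w

section
variable {R : Type u} [CommRing R] {M : Type v} [AddCommGroup M] [Module R M]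
  (Q : QuadraticForm R M)

/-- (E) conjugation by an even unit satisfies the Dickson condition. -/
theorem mem_SOeven_of_even (g : M ≃ₗ[R] M) (hg : g ∈ QuadGrp.O Q) (u : (CliffordAlgebra Q)ˣ)
    (hu0 : (u : CliffordAlgebra Q) ∈ evenOdd Q 0)
    (h : ∀ v : M, (u : CliffordAlgebra Q) * ι Q v * ↑u⁻¹ = ι Q (g v)) : g ∈ QuadGrp.SOeven Q := by
  refine ⟨hg, fun z hz => ?_⟩
  rw [map_eq_conj Q g hg u h]
  rw [Subalgebra.mem_center_iff] at hz
  have h1 := hz ⟨(u : CliffordAlgebra Q), hu0⟩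
  have h2 : (u : CliffordAlgebra Q) * (z : CliffordAlgebra Q) = (z : CliffordAlgebra Q) * u :=
    congrArg Subtype.val h1
  rw [h2, mul_assoc, Units.mul_inv, mul_one]

variable {Q}

/-- (O) conjugation by an odd unit violates the Dickson condition. -/
theorem not_mem_SOeven_of_odd [Module.Free R M] [Nontrivial R] (Z : ZetaData Q)
    (g : M ≃ₗ[R] M) (hg : g ∈ QuadGrp.O Q) (u : (CliffordAlgebra Q)ˣ)
    (hu1 : (u : CliffordAlgebra Q) ∈ evenOdd Q 1)
    (h : ∀ v : M, (u : CliffordAlgebra Q) * ι Q v * ↑u⁻¹ = ι Q (g v)) : g ∉ QuadGrp.SOeven Q := by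
  rintro ⟨hg', hD⟩
  have hc : (⟨Z.ζ, Z.even⟩ : CliffordAlgebra.even Q) ∈
      Subalgebra.center R (CliffordAlgebra.even Q) := by
    rw [Subalgebra.mem_center_iff]
    intro y
    exact Subtype.ext (Z.even_comm y y.2)
  have h1 := hD ⟨Z.ζ, Z.even⟩ hc
  rw [map_eq_conj Q g hg' u h] at h1
  have h2 := Z.odd_anti u hu1
  have h3 : (u : CliffordAlgebra Q) * Z.ζ * ↑u⁻¹ = Z.C • (1 : CliffordAlgebra Q) - Z.ζ := by
    rw [h2, mul_assoc, Units.mul_inv, mul_one]
  have h4 : Z.W = 0 := by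
    change (u : CliffordAlgebra Q) * Z.ζ * ↑u⁻¹ = Z.ζ at h1
    rw [h3] at h1
    rw [ZetaData.W, two_smul, ← sub_sub, h1, sub_self]
  have hnt : Nontrivial (CliffordAlgebra Q) :=
    (algebraMap_injective_of_free Q).nontrivial
  have := Z.isUnit_W
  rw [h4] at this
  exact not_isUnit_zero this

end

/-- **S17008**. -/
theorem exists_gspin_of_SOeven {R : Type u} [CommRing R] [IsLocalRing R]
    {M : Type v} [AddCommGroup M] [Module R M] [Module.Free R M] [Module.Finite R M]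
    (m : ℕ) (hM : Module.finrank R M = 2 * m) (Q : QuadraticForm R M) (hQ : QuadGrp.IsRegular Q)
    (g : M ≃ₗ[R] M) (hg : g ∈ QuadGrp.SOeven Q) :
    ∃ u ∈ QuadGrp.GSpin Q, ∀ v : M,
      (u : CliffordAlgebra Q) * CliffordAlgebra.ι Q v * ↑u⁻¹ = CliffordAlgebra.ι Q (g v) := by
  have hAz : IsAzumaya R (CliffordAlgebra Q) :=
    Groth.Agent.Lib.CliffAz16.isAzumaya_clifford Q m hM hQ
  obtain ⟨Z⟩ := exists_zetaData m M Q hM hQ
  obtain ⟨hgO, hD⟩ := hg
  obtain ⟨u, hu, hconj⟩ := exists_gpin'_of_isometry m hM Q hQ g hgO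
  rcases homogeneous_of_mem_GPin' Z u hu with ⟨h0, -⟩ | ⟨h1, -⟩
  · refine ⟨u, ?_, hconj⟩
    refine ⟨⟨hu, ?_⟩, h0⟩
    refine ⟨1, IsIdempotentElem.one, by rw [one_smul]; exact h0, ?_⟩
    rw [sub_self, zero_smul]
    exact Submodule.zero_mem _
  · exact absurd ⟨hgO, hD⟩ (not_mem_SOeven_of_odd Z g hgO u h1 hconj)

end Groth.Agent.Lib.CliffCentre16

namespace Groth.Agent.Lib.CliffCentre16
open QuadraticMap CliffordAlgebra TensorProduct
open Groth.Agent.Lib.QuadPlane16 Groth.Agent.Lib.CliffTensor16 Groth.Agent.Lib.CliffPlane16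
open Groth.Agent.Lib.CliffGPin16
open scoped Pointwise

universe u v w

/-- over a local ring a regular form of rank ≥ 2 represents a unit. -/
theorem exists_isUnit_value {R : Type u} [CommRing R] [IsLocalRing R] {M : Type v}
    [AddCommGroup M] [Module R M] [Module.Free R M] [Module.Finite R M]
    (Q : QuadraticForm R M) (hQ : QuadGrp.IsRegular Q) (hd : 2 ≤ Module.finrank R M) :
    ∃ e : M, IsUnit (Q e) := by
  obtain ⟨e, f, hδ⟩ := exists_isUnit_delta Q hQ hd
  by_contra hcon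
  push Not at hcon
  have ha := hcon e
  have hb := hcon f
  have hab := hcon (e + f)
  rw [QuadraticMap.map_add Q e f] at hab
  replace ha := (IsLocalRing.mem_maximalIdeal _).2 ha
  replace hb := (IsLocalRing.mem_maximalIdeal _).2 hb
  replace hab := (IsLocalRing.mem_maximalIdeal _).2 hab
  have hc : polar Q e f ∈ IsLocalRing.maximalIdeal R := by
    have := Ideal.sub_mem _ hab (Ideal.add_mem _ ha hb)
    simpa using this
  have : delta Q e f ∈ IsLocalRing.maximalIdeal R := by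
    rw [delta]
    exact Ideal.sub_mem _ (Ideal.pow_mem_of_mem _ hc 2 (by norm_num))
      (Ideal.mul_mem_left _ _ hb)
  exact (IsLocalRing.mem_maximalIdeal _).1 this hδ

section
variable {R : Type u} [CommRing R] {M : Type v} [AddCommGroup M] [Module R M]
  (Q : QuadraticForm R M)

/-- the unit `ι e` for `Q e` a unit. -/
noncomputable def vecUnit (e : M) (q : Rˣ) (hq : (q : R) = Q e) : (CliffordAlgebra Q)ˣ where
  val := ι Q e
  inv := (↑q⁻¹ : R) • ι Q e
  val_inv := by rw [mul_smul_comm, ι_sq_scalar, ← hq, Algebra.algebraMap_eq_smul_one, smul_smul,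
    Units.inv_mul, one_smul]
  inv_val := by rw [smul_mul_assoc, ι_sq_scalar, ← hq, Algebra.algebraMap_eq_smul_one, smul_smul,
    Units.inv_mul, one_smul]

theorem vecUnit_conj (e : M) (q : Rˣ) (hq : (q : R) = Q e) (v : M) :
    (vecUnit Q e q hq : CliffordAlgebra Q) * ι Q v * ↑(vecUnit Q e q hq)⁻¹ =
      ι Q (((↑q⁻¹ : R) * polar Q e v) • e - v) := by
  change ι Q e * ι Q v * ((↑q⁻¹ : R) • ι Q e) = _
  have h1 : ι Q e * ι Q v = algebraMap R _ (polar Q e v) - ι Q v * ι Q e := by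
    rw [eq_sub_iff_add_eq, ι_mul_ι_add_swap]
  rw [h1, mul_smul_comm, sub_mul, mul_assoc, ι_sq_scalar, ← hq, map_sub, map_smul, smul_sub,
    ← Algebra.smul_def, ← Algebra.commutes, ← Algebra.smul_def, smul_smul, smul_smul,
    Units.inv_mul, one_smul]

theorem vecUnit_conj_inv (e : M) (q : Rˣ) (hq : (q : R) = Q e) (v : M) :
    (↑(vecUnit Q e q hq)⁻¹ : CliffordAlgebra Q) * ι Q v * ↑(vecUnit Q e q hq) =
      ι Q (((↑q⁻¹ : R) * polar Q e v) • e - v) := by
  rw [← vecUnit_conj Q e q hq v]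
  change ((↑q⁻¹ : R) • ι Q e) * ι Q v * ι Q e = ι Q e * ι Q v * ((↑q⁻¹ : R) • ι Q e)
  rw [smul_mul_assoc, smul_mul_assoc, mul_smul_comm]

end

end Groth.Agent.Lib.CliffCentre16

namespace Groth.Agent.Lib.CliffCentre16
open QuadraticMap CliffordAlgebra TensorProduct
open Groth.Agent.Lib.QuadPlane16 Groth.Agent.Lib.CliffTensor16 Groth.Agent.Lib.CliffPlane16
open Groth.Agent.Lib.CliffGPin16
open scoped Pointwise

universe u v w

/-- **S17007**. -/
theorem index_SOeven {R : Type u} [CommRing R] [IsLocalRing R]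
    {M : Type v} [AddCommGroup M] [Module R M] [Module.Free R M] [Module.Finite R M]
    (m : ℕ) (hm : 1 ≤ m) (hM : Module.finrank R M = 2 * m) (Q : QuadraticForm R M)
    (hQ : QuadGrp.IsRegular Q) :
    ((QuadGrp.SOeven Q).subgroupOf (QuadGrp.O Q)).index = 2 := by
  have hAz : IsAzumaya R (CliffordAlgebra Q) :=
    Groth.Agent.Lib.CliffAz16.isAzumaya_clifford Q m hM hQ
  obtain ⟨Z⟩ := exists_zetaData m M Q hM hQ
  obtain ⟨e, he⟩ := exists_isUnit_value Q hQ (by omega)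
  obtain ⟨q, hq⟩ := he
  set u₀ := vecUnit Q e q hq with hu₀
  have hu₀odd : (u₀ : CliffordAlgebra Q) ∈ evenOdd Q 1 := ι_mem_evenOdd_one Q e
  obtain ⟨g₀, hg₀, hconj₀⟩ := exists_isometry_of_conj Q u₀
    (fun v => ⟨_, vecUnit_conj Q e q hq v⟩) (fun v => ⟨_, vecUnit_conj_inv Q e q hq v⟩)
  rw [Subgroup.index_eq_two_iff]
  refine ⟨⟨g₀, hg₀⟩, ?_⟩
  rintro ⟨b, hb⟩
  obtain ⟨u, hu, hconj⟩ := exists_gpin'_of_isometry m hM Q hQ b hb
  have hprod : ∀ v : M, ((u * u₀ : (CliffordAlgebra Q)ˣ) : CliffordAlgebra Q) * ι Q v *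
      ↑(u * u₀)⁻¹ = ι Q ((b * g₀) v) := by
    intro v
    rw [mul_inv_rev, Units.val_mul, Units.val_mul]
    have : (u : CliffordAlgebra Q) * ↑u₀ * ι Q v * (↑u₀⁻¹ * ↑u⁻¹) =
        ↑u * (↑u₀ * ι Q v * ↑u₀⁻¹) * ↑u⁻¹ := by simp only [mul_assoc]
    rw [this, hconj₀, hconj]
    rfl
  simp only [Subgroup.mem_subgroupOf, Subgroup.coe_mul]
  rcases homogeneous_of_mem_GPin' Z u hu with ⟨h0, -⟩ | ⟨h1, -⟩
  · -- u even: b ∈ SOeven, b * g₀ ∉ SOeven
    right
    refine ⟨mem_SOeven_of_even Q b hb u h0 hconj, ?_⟩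
    have hodd : ((u * u₀ : (CliffordAlgebra Q)ˣ) : CliffordAlgebra Q) ∈ evenOdd Q 1 := by
      rw [Units.val_mul]
      have := SetLike.mul_mem_graded h0 hu₀odd
      rwa [zero_add] at this
    exact not_mem_SOeven_of_odd Z (b * g₀) ((QuadGrp.O Q).mul_mem hb hg₀) (u * u₀) hodd hprod
  · left
    have heven : ((u * u₀ : (CliffordAlgebra Q)ˣ) : CliffordAlgebra Q) ∈ evenOdd Q 0 := by
      rw [Units.val_mul]
      have := SetLike.mul_mem_graded h1 hu₀odd
      rwa [show (1 : ZMod 2) + 1 = 0 from rfl] at this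
    exact ⟨mem_SOeven_of_even Q (b * g₀) ((QuadGrp.O Q).mul_mem hb hg₀) (u * u₀) heven hprod,
      not_mem_SOeven_of_odd Z b hb u h1 hconj⟩

end Groth.Agent.Lib.CliffCentre16
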