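import Groth.Agent.Lib.CliffCentre16
import Groth.Agent.Lib.CliffAz16

/-!
# Localisation of normalising units of Clifford algebras; `GPin' ≤ LH` (helper16)

`unitBC A Q u` (image of a unit of `C(Q)` in `C(Q_A)`), `unitBC_conj`, `unitBC_mem_GPin'` (normalising units base change),
`exists_smul_eq_zero_of_ofBCAux` (an element dying in `C(Q_A)`, `A = S⁻¹R`, is killed by some `s ∈ S`),
`exists_smul_component_eq_zero` (at each prime one homogeneous component of a normalising unit dies),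
`gPin'_le_lH` (S17009: regular even rank over any commutative ring ⇒ `GPin' Q ≤ LH Q`).
-/

set_option autoImplicit false
set_option linter.style.haveILetI false
set_option linter.unusedSectionVars false
set_option linter.unusedSimpArgs false
set_option linter.unusedVariables false

namespace Groth.Agent.Lib.CliffLoc16
open QuadraticMap CliffordAlgebra TensorProduct
open Groth.Agent.Lib.CliffBC16 Groth.Agent.Lib.CliffCentre16

universe u v w
variable {R : Type u} [CommRing R] {M : Type v} [AddCommGroup M] [Module R M] [Module.Free R M]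
variable (A : Type w) [CommRing A] [Algebra R A] (Q : QuadraticForm R M)

/-- the image of a unit under `ofBCAux`. -/
noncomputable def unitBC (u : (CliffordAlgebra Q)ˣ) : (CliffordAlgebra (QuadGrp.baseChangeForm A Q))ˣ :=
  Units.map (ofBCAux A Q).toMonoidHom u

@[simp] theorem unitBC_val (u : (CliffordAlgebra Q)ˣ) :
    (unitBC A Q u : CliffordAlgebra (QuadGrp.baseChangeForm A Q)) = ofBCAux A Q u := rfl

@[simp] theorem unitBC_inv_val (u : (CliffordAlgebra Q)ˣ) :
    (↑(unitBC A Q u)⁻¹ : CliffordAlgebra (QuadGrp.baseChangeForm A Q)) = ofBCAux A Q ↑u⁻¹ := rfl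

theorem unitBC_conj (u : (CliffordAlgebra Q)ˣ) (g : M ≃ₗ[R] M)
    (h : ∀ v : M, (u : CliffordAlgebra Q) * ι Q v * ↑u⁻¹ = ι Q (g v)) (y : A ⊗[R] M) :
    (unitBC A Q u : CliffordAlgebra (QuadGrp.baseChangeForm A Q)) * ι (QuadGrp.baseChangeForm A Q) y *
      ↑(unitBC A Q u)⁻¹ = ι (QuadGrp.baseChangeForm A Q) (g.baseChange R A M M y) := by
  induction y using TensorProduct.induction_on with
  | zero => simp
  | tmul a v =>
    rw [unitBC_val, unitBC_inv_val, LinearEquiv.baseChange_tmul]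
    have e1 : ∀ w : M, ι (QuadGrp.baseChangeForm A Q) (a ⊗ₜ[R] w) = a • ofBCAux A Q (ι Q w) := by
      intro w
      rw [ofBCAux_ι, ← map_smul, TensorProduct.smul_tmul', smul_eq_mul, mul_one]
    rw [e1, e1, mul_smul_comm, smul_mul_assoc, ← map_mul, ← map_mul, h]
  | add x y hx hy =>
    rw [map_add, mul_add, add_mul, hx, hy, map_add, map_add]

theorem unitBC_mem_GPin' [Module.Finite R M] (u : (CliffordAlgebra Q)ˣ) (hu : u ∈ QuadGrp.GPin' Q) :
    unitBC A Q u ∈ QuadGrp.GPin' (QuadGrp.baseChangeForm A Q) := by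
  obtain ⟨g, -, hg⟩ := exists_isometry_of_conj Q u (conj_mem_range_of_mem_GPin' u hu)
    (conj_inv_mem_range_of_mem_GPin' u hu)
  exact Groth.Agent.Lib.CliffGPin16.mem_GPin'_of_conj _ (unitBC A Q u) (g.baseChange R A M M) (unitBC_conj A Q u g hg)

end Groth.Agent.Lib.CliffLoc16

namespace Groth.Agent.Lib.CliffLoc16
open QuadraticMap CliffordAlgebra TensorProduct
open Groth.Agent.Lib.CliffBC16 Groth.Agent.Lib.CliffCentre16

universe u v w
variable {R : Type u} [CommRing R] {M : Type v} [AddCommGroup M] [Module R M] [Module.Free R M]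
variable (Q : QuadraticForm R M)

theorem exists_smul_eq_zero_of_ofBCAux (S : Submonoid R) (A : Type w) [CommRing A] [Algebra R A]
    [IsLocalization S A] (x : CliffordAlgebra Q) (hx : ofBCAux A Q x = 0) :
    ∃ s : S, (s : R) • x = 0 := by
  have h1 : (1 : A) ⊗ₜ[R] x = 0 := by
    rw [← bcEquiv_symm_ofBCAux, hx, map_zero]
  have hbc : IsBaseChange A (TensorProduct.mk R A (CliffordAlgebra Q) 1) :=
    TensorProduct.isBaseChange R (CliffordAlgebra Q) A
  have hloc : IsLocalizedModule S (TensorProduct.mk R A (CliffordAlgebra Q) 1) :=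
    (isLocalizedModule_iff_isBaseChange S A _).2 hbc
  have := (IsLocalizedModule.eq_zero_iff S (TensorProduct.mk R A (CliffordAlgebra Q) 1) (m := x)).1 h1
  obtain ⟨c, hc⟩ := this
  exact ⟨c, hc⟩

/-- local statement: at each prime, one of the two homogeneous components of a normalising unit dies. -/
theorem exists_smul_component_eq_zero [Module.Finite R M] (m : ℕ) (hM : Module.finrank R M = 2 * m)
    (hQ : QuadGrp.IsRegular Q) (u : (CliffordAlgebra Q)ˣ) (hu : u ∈ QuadGrp.GPin' Q)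
    (u₀ u₁ : CliffordAlgebra Q) (h0 : u₀ ∈ evenOdd Q 0) (h1 : u₁ ∈ evenOdd Q 1)
    (hsum : (u : CliffordAlgebra Q) = u₀ + u₁) (p : Ideal R) [p.IsPrime] :
    ∃ s : R, s ∉ p ∧ (s • u₀ = 0 ∨ s • u₁ = 0) := by
  let A := Localization.AtPrime p
  let QA := QuadGrp.baseChangeForm A Q
  haveI : Nontrivial R :=
    nontrivial_of_ne (0 : R) 1 (fun h => (‹p.IsPrime›).ne_top (p.eq_top_iff_one.2 (h ▸ p.zero_mem)))
  have hMA : Module.finrank A (A ⊗[R] M) = 2 * m := by
    rw [Module.finrank_baseChange, hM]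
  have hQA : QuadGrp.IsRegular QA := Groth.Agent.Lib.QuadPlane16.isRegular_baseChange (A := A) Q hQ
  haveI : IsAzumaya A (CliffordAlgebra QA) :=
    Groth.Agent.Lib.CliffAz16.isAzumaya_clifford QA m hMA hQA
  obtain ⟨Z⟩ := exists_zetaData m (A ⊗[R] M) QA hMA hQA
  have hu' := unitBC_mem_GPin' A Q u hu
  have e0 : ofBCAux A Q u₀ ∈ evenOdd QA 0 := ofBCAux_mem_evenOdd A Q 0 u₀ h0
  have e1 : ofBCAux A Q u₁ ∈ evenOdd QA 1 := ofBCAux_mem_evenOdd A Q 1 u₁ h1
  have hs : (unitBC A Q u : CliffordAlgebra QA) = ofBCAux A Q u₀ + ofBCAux A Q u₁ := by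
    rw [unitBC_val, hsum, map_add]
  rcases homogeneous_of_mem_GPin' Z (unitBC A Q u) hu' with ⟨hev, -⟩ | ⟨hod, -⟩
  · -- even: odd part dies
    have hz : (ofBCAux A Q u₀ - (unitBC A Q u : CliffordAlgebra QA)) + ofBCAux A Q u₁ = 0 := by
      rw [hs]; abel
    have := (even_odd_eq_zero _ _ _ (Submodule.sub_mem _ e0 hev) e1 hz).2
    obtain ⟨s, hs⟩ := exists_smul_eq_zero_of_ofBCAux Q p.primeCompl A u₁ this
    exact ⟨s, s.2, Or.inr hs⟩
  · have hz : ofBCAux A Q u₀ + (ofBCAux A Q u₁ - (unitBC A Q u : CliffordAlgebra QA)) = 0 := by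
      rw [hs]; abel
    have := (even_odd_eq_zero _ _ _ e0 (Submodule.sub_mem _ e1 hod) hz).1
    obtain ⟨s, hs⟩ := exists_smul_eq_zero_of_ofBCAux Q p.primeCompl A u₀ this
    exact ⟨s, s.2, Or.inl hs⟩

end Groth.Agent.Lib.CliffLoc16

namespace Groth.Agent.Lib.CliffLoc16
open QuadraticMap CliffordAlgebra TensorProduct
open Groth.Agent.Lib.CliffBC16 Groth.Agent.Lib.CliffCentre16

universe u v w
variable {R : Type u} [CommRing R] {M : Type v} [AddCommGroup M] [Module R M] [Module.Free R M]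
variable (Q : QuadraticForm R M)

/-- **S17009**: for a regular form of even rank over any commutative ring, normalising units are locally homogeneous. -/
theorem gPin'_le_lH [Module.Finite R M] (m : ℕ) (hM : Module.finrank R M = 2 * m)
    (hQ : QuadGrp.IsRegular Q) : QuadGrp.GPin' Q ≤ QuadGrp.LH Q := by
  intro u hu
  rw [QuadGrp.mem_LH]
  obtain ⟨u₀, h0, u₁, h1, hsum⟩ := exists_even_odd (Q := Q) (u : CliffordAlgebra Q)
  let J₀ : Ideal R := (LinearMap.toSpanSingleton R (CliffordAlgebra Q) u₀).ker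
  let J₁ : Ideal R := (LinearMap.toSpanSingleton R (CliffordAlgebra Q) u₁).ker
  have hJ₀ : ∀ r : R, r ∈ J₀ ↔ r • u₀ = 0 := fun r => by
    simp [J₀, LinearMap.mem_ker, LinearMap.toSpanSingleton_apply]
  have hJ₁ : ∀ r : R, r ∈ J₁ ↔ r • u₁ = 0 := fun r => by
    simp [J₁, LinearMap.mem_ker, LinearMap.toSpanSingleton_apply]
  have htop : J₀ ⊔ J₁ = ⊤ := by
    by_contra hne
    obtain ⟨P, hP, hle⟩ := Ideal.exists_le_maximal _ hne
    haveI : P.IsPrime := hP.isPrime
    obtain ⟨s, hs, h | h⟩ := exists_smul_component_eq_zero Q m hM hQ u hu u₀ u₁ h0 h1 hsum P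
    · exact hs (hle (Ideal.mem_sup_left ((hJ₀ s).2 h)))
    · exact hs (hle (Ideal.mem_sup_right ((hJ₁ s).2 h)))
  obtain ⟨r₀, hr₀, r₁, hr₁, h01⟩ := Submodule.mem_sup.1 ((Ideal.eq_top_iff_one _).1 htop)
  rw [hJ₀] at hr₀
  rw [hJ₁] at hr₁
  have hprod : r₀ * r₁ = 0 := by
    apply algebraMap_injective_of_free Q
    have e1 : (r₀ * r₁) • u₀ = 0 := by rw [mul_comm, mul_smul, hr₀, smul_zero]
    have e2 : (r₀ * r₁) • u₁ = 0 := by rw [mul_smul, hr₁, smul_zero]
    rw [map_zero, Algebra.algebraMap_eq_smul_one, ← Units.mul_inv u, ← smul_mul_assoc, hsum, smul_add,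
      e1, e2, add_zero, zero_mul]
  have hr₀' : r₀ = 1 - r₁ := by rw [← h01]; ring
  refine ⟨r₁, ?_, ?_, ?_⟩
  · change r₁ * r₁ = r₁
    have : r₁ * r₁ = r₁ - r₀ * r₁ := by rw [hr₀']; ring
    rw [this, hprod, sub_zero]
  · rw [hsum, smul_add, hr₁, add_zero]
    exact Submodule.smul_mem _ _ h0
  · rw [← hr₀', hsum, smul_add, hr₀, zero_add]
    exact Submodule.smul_mem _ _ h1

end Groth.Agent.Lib.CliffLoc16
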