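import Groth.Agent.Lib.CliffTop16
import Groth.Agent.Lib.CliffLoc16

/-!
# Determinant of the isometry induced by a normalising unit of the Clifford algebra (helper16)

`det_eq_of_conj` (unit of parity `i` on a free module with basis `Fin n`: `det g = ((-1)^(n-1))^i`),
`det_eq_one_of_conj_of_odd`, `mem_SO'_iff`, `exists_mem_SO'_of_mem_GPin'_odd` (S16994, no non-degeneracy needed).
-/

set_option autoImplicit false
set_option linter.style.haveILetI false
set_option linter.unusedSectionVars false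
set_option linter.unusedSimpArgs false
set_option linter.unusedVariables false

namespace Groth.Agent.Lib.CliffDet16
open QuadraticMap CliffordAlgebra TensorProduct
open Groth.Agent.Lib.CliffBC16 Groth.Agent.Lib.CliffCentre16 Groth.Agent.Lib.CliffTop16

universe u v w
variable {R : Type u} [CommRing R] {M : Type v} [AddCommGroup M] [Module R M] [Module.Free R M]
variable (Q : QuadraticForm R M)

theorem bilinLift_neg_proof :
    (-(QuadGrp.bilinLift Q)).toQuadraticMap = 0 - Q := by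
  rw [LinearMap.BilinMap.toQuadraticMap_neg, QuadGrp.bilinLift_spec, zero_sub]

/-- determinant of the isometry induced by a homogeneous unit. -/
theorem det_eq_of_conj {n : ℕ} (b : Module.Basis (Fin n) R M) (g : M ≃ₗ[R] M) (hg : g ∈ QuadGrp.O Q)
    (u : (CliffordAlgebra Q)ˣ) (i : ZMod 2) (hu : (u : CliffordAlgebra Q) ∈ evenOdd Q i)
    (h : ∀ v : M, (u : CliffordAlgebra Q) * ι Q v * ↑u⁻¹ = ι Q (g v)) :
    LinearMap.det g.toLinearMap = ((-1 : R) ^ (n - 1)) ^ i.val :=
  Groth.Agent.Lib.CliffTop16.det_eq_of_conj b (bilinLift_neg_proof Q) (QuadGrp.isometryOfMem Q g hg) u i hu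
    (map_eq_conj Q g hg u h)

theorem det_eq_one_of_conj_of_odd {n : ℕ} (b : Module.Basis (Fin n) R M) (hn : Odd n)
    (g : M ≃ₗ[R] M) (hg : g ∈ QuadGrp.O Q) (u : (CliffordAlgebra Q)ˣ)
    (h : ∀ v : M, (u : CliffordAlgebra Q) * ι Q v * ↑u⁻¹ = ι Q (g v)) :
    LinearMap.det g.toLinearMap = 1 :=
  Groth.Agent.Lib.CliffTop16.det_eq_one_of_conj_of_odd b (bilinLift_neg_proof Q) hn
    (QuadGrp.isometryOfMem Q g hg) u (map_eq_conj Q g hg u h)

theorem mem_SO'_iff (g : M ≃ₗ[R] M) :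
    g ∈ QuadGrp.SO' Q ↔ g ∈ QuadGrp.O Q ∧ LinearMap.det g.toLinearMap = 1 := by
  rw [QuadGrp.SO', Subgroup.mem_inf, MonoidHom.mem_ker]
  refine and_congr Iff.rfl ?_
  rw [← Units.val_inj, LinearEquiv.coe_det, Units.val_one]

/-- **S16994** (for any quadratic form on a free module of odd rank). -/
theorem exists_mem_SO'_of_mem_GPin'_odd {n : ℕ} (b : Module.Basis (Fin n) R M) (hn : Odd n)
    (u : (CliffordAlgebra Q)ˣ) (hu : u ∈ QuadGrp.GPin' Q) :
    ∃ g ∈ QuadGrp.SO' Q, ∀ v : M,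
      (u : CliffordAlgebra Q) * ι Q v * ↑u⁻¹ = ι Q (g v) := by
  obtain ⟨g, hg, hconj⟩ := exists_isometry_of_conj Q u (conj_mem_range_of_mem_GPin' u hu)
    (conj_inv_mem_range_of_mem_GPin' u hu)
  exact ⟨g, (mem_SO'_iff Q g).2 ⟨hg, det_eq_one_of_conj_of_odd Q b hn g hg u hconj⟩, hconj⟩

end Groth.Agent.Lib.CliffDet16
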