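import Groth.Agent.Lib.CliffDetLoc16

/-!
# The Dickson locus of an isometry is clopen; determinant `-1` over a connected base (helper16)

`eq_of_decomp`, `exists_smul_eq_ofBCAux_homog` (homogeneous elements of `C(Q_{S⁻¹R})` come from homogeneous elements of `C(Q)`
up to `s ∈ S`), `exists_unit_of_data` (unit of `C(Q_A)` inducing `g_A` from relations in `C(Q)` up to torsion), `exists_spread`
(near a prime all localisations of `g` are induced by homogeneous units of one parity), `exists_dichotomy`, `evenLocus`,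
`isClopen_evenLocus`, `det_eq_neg_one_of_not_dickson` (S16989).
-/

set_option autoImplicit false
set_option linter.style.haveILetI false
set_option linter.unusedSectionVars false
set_option linter.unusedSimpArgs false
set_option linter.unusedVariables false

namespace Groth.Agent.Lib.CliffDetConn16
open QuadraticMap CliffordAlgebra TensorProduct
open Groth.Agent.Lib.CliffBC16 Groth.Agent.Lib.CliffCentre16 Groth.Agent.Lib.CliffLoc16
  Groth.Agent.Lib.CliffDet16 Groth.Agent.Lib.CliffGPin16 Groth.Agent.Lib.CliffDetLoc16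

universe u v w
variable {R : Type u} [CommRing R] {M : Type v} [AddCommGroup M] [Module R M] [Module.Free R M]
variable (Q : QuadraticForm R M)

/-- a homogeneous element is its own homogeneous component. -/
theorem eq_of_decomp {Q : QuadraticForm R M} (i : ZMod 2) (y y₀ y₁ : CliffordAlgebra Q)
    (hy : y ∈ evenOdd Q i) (h0 : y₀ ∈ evenOdd Q 0) (h1 : y₁ ∈ evenOdd Q 1) (h : y = y₀ + y₁) :
    ∃ w ∈ evenOdd Q i, y = w ∧ (w = y₀ ∨ w = y₁) := by
  rcases zmod2_cases i with rfl | rfl
  · exact ⟨y₀, h0, eq_of_even_decomp y y₀ y₁ hy h0 h1 h, Or.inl rfl⟩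
  · have hz : y₀ + (y₁ - y) = 0 := by rw [h]; abel
    have := (even_odd_eq_zero _ _ _ h0 (Submodule.sub_mem _ h1 hy) hz).1
    refine ⟨y₁, h1, ?_, Or.inr rfl⟩
    rw [h, this, zero_add]

/-- a homogeneous element of `C(Q_A)`, `A = S⁻¹R`, is, up to `s ∈ S`, the image of a homogeneous element of `C(Q)`. -/
theorem exists_smul_eq_ofBCAux_homog (S : Submonoid R) (A : Type w) [CommRing A] [Algebra R A]
    [IsLocalization S A] (i : ZMod 2) (x : CliffordAlgebra (QuadGrp.baseChangeForm A Q))
    (hx : x ∈ evenOdd (QuadGrp.baseChangeForm A Q) i) :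
    ∃ s : S, ∃ w ∈ evenOdd Q i, ofBCAux A Q w = algebraMap R A (s : R) • x := by
  obtain ⟨s, w, hw⟩ := exists_smul_eq_ofBCAux Q S A x
  obtain ⟨w₀, hw0, w₁, hw1, rfl⟩ := exists_even_odd (Q := Q) w
  rw [map_add] at hw
  rcases zmod2_cases i with rfl | rfl
  · refine ⟨s, w₀, hw0, ?_⟩
    have := eq_of_even_decomp (algebraMap R A (s : R) • x) (ofBCAux A Q w₀) (ofBCAux A Q w₁)
      (Submodule.smul_mem _ _ hx) (ofBCAux_mem_evenOdd A Q 0 w₀ hw0)
      (ofBCAux_mem_evenOdd A Q 1 w₁ hw1) hw.symm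
    exact this.symm
  · refine ⟨s, w₁, hw1, ?_⟩
    have hz : ofBCAux A Q w₀ + (ofBCAux A Q w₁ - algebraMap R A (s : R) • x) = 0 := by
      rw [← hw]; abel
    have := (even_odd_eq_zero _ _ _ (ofBCAux_mem_evenOdd A Q 0 w₀ hw0)
      (Submodule.sub_mem _ (ofBCAux_mem_evenOdd A Q 1 w₁ hw1) (Submodule.smul_mem _ _ hx)) hz).2
    exact sub_eq_zero.1 this

end Groth.Agent.Lib.CliffDetConn16

namespace Groth.Agent.Lib.CliffDetConn16
open QuadraticMap CliffordAlgebra TensorProduct
open Groth.Agent.Lib.CliffBC16 Groth.Agent.Lib.CliffCentre16 Groth.Agent.Lib.CliffLoc16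
  Groth.Agent.Lib.CliffDet16 Groth.Agent.Lib.CliffGPin16 Groth.Agent.Lib.CliffDetLoc16

universe u v w
variable {R : Type u} [CommRing R] {M : Type v} [AddCommGroup M] [Module R M] [Module.Free R M]
variable (Q : QuadraticForm R M)

/-- a homogeneous unit of `C(Q_A)` inducing `g_A`, from data in `C(Q)` satisfying the relations up to `t`-torsion. -/
theorem exists_unit_of_data (A : Type w) [CommRing A] [Algebra R A] (g : M ≃ₗ[R] M) (i : ZMod 2)
    (w w₂ : CliffordAlgebra Q) (hw : w ∈ evenOdd Q i) (c : R) (hc : IsUnit (algebraMap R A c))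
    (t : R) (ht : IsUnit (algebraMap R A t))
    (h1 : t • (w * w₂ - c • (1 : CliffordAlgebra Q)) = 0)
    (h2 : t • (w₂ * w - c • (1 : CliffordAlgebra Q)) = 0)
    (h3 : ∀ v : M, t • (w * ι Q v - ι Q (g v) * w) = 0) :
    ∃ u : (CliffordAlgebra (QuadGrp.baseChangeForm A Q))ˣ,
      (u : CliffordAlgebra (QuadGrp.baseChangeForm A Q)) ∈ evenOdd (QuadGrp.baseChangeForm A Q) i ∧
      ∀ y : A ⊗[R] M, (u : CliffordAlgebra (QuadGrp.baseChangeForm A Q)) *
        ι (QuadGrp.baseChangeForm A Q) y * ↑u⁻¹ =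
          ι (QuadGrp.baseChangeForm A Q) (g.baseChange R A M M y) := by
  have cancel : ∀ z : CliffordAlgebra (QuadGrp.baseChangeForm A Q), t • z = 0 → z = 0 := by
    intro z hz
    rw [← algebraMap_smul A t z] at hz
    exact ht.smul_left_cancel.1 (by rw [hz, smul_zero])
  set a := ofBCAux A Q w with ha
  set a' := ofBCAux A Q w₂ with ha'
  have e1 : a * a' = algebraMap R A c • (1 : CliffordAlgebra (QuadGrp.baseChangeForm A Q)) := by
    have := congrArg (ofBCAux A Q) h1
    rw [map_smul, map_sub, map_mul, map_smul, map_one, map_zero] at this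
    have := cancel _ this
    rw [sub_eq_zero] at this
    rw [this, algebraMap_smul]
  have e2 : a' * a = algebraMap R A c • (1 : CliffordAlgebra (QuadGrp.baseChangeForm A Q)) := by
    have := congrArg (ofBCAux A Q) h2
    rw [map_smul, map_sub, map_mul, map_smul, map_one, map_zero] at this
    have := cancel _ this
    rw [sub_eq_zero] at this
    rw [this, algebraMap_smul]
  have e3 : ∀ v : M, a * ι (QuadGrp.baseChangeForm A Q) (1 ⊗ₜ[R] v) =
      ι (QuadGrp.baseChangeForm A Q) (1 ⊗ₜ[R] g v) * a := by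
    intro v
    have := congrArg (ofBCAux A Q) (h3 v)
    rw [map_smul, map_sub, map_mul, map_mul, ofBCAux_ι, ofBCAux_ι, map_zero] at this
    exact sub_eq_zero.1 (cancel _ this)
  obtain ⟨γ, hγ⟩ := hc
  let u : (CliffordAlgebra (QuadGrp.baseChangeForm A Q))ˣ :=
    ⟨a, (↑γ⁻¹ : A) • a', by rw [mul_smul_comm, e1, ← hγ, smul_smul, Units.inv_mul, one_smul],
      by rw [smul_mul_assoc, e2, ← hγ, smul_smul, Units.inv_mul, one_smul]⟩
  refine ⟨u, ofBCAux_mem_evenOdd A Q i w hw, fun y => ?_⟩
  have e4 : ∀ y : A ⊗[R] M, a * ι (QuadGrp.baseChangeForm A Q) y =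
      ι (QuadGrp.baseChangeForm A Q) (g.baseChange R A M M y) * a := by
    intro y
    induction y using TensorProduct.induction_on with
    | zero => simp
    | tmul c' v =>
      have : c' ⊗ₜ[R] v = c' • ((1 : A) ⊗ₜ[R] v) := by
        rw [TensorProduct.smul_tmul', smul_eq_mul, mul_one]
      rw [LinearEquiv.baseChange_tmul, this, map_smul, mul_smul_comm, e3,
        show c' ⊗ₜ[R] g v = c' • ((1 : A) ⊗ₜ[R] g v) by
          rw [TensorProduct.smul_tmul', smul_eq_mul, mul_one], map_smul, smul_mul_assoc]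
    | add x y hx hy => rw [map_add, mul_add, hx, hy, map_add, map_add, add_mul]
  change a * _ * _ = _
  rw [e4, mul_assoc]
  have : a * ↑u⁻¹ = 1 := u.mul_inv
  rw [this, mul_one]

end Groth.Agent.Lib.CliffDetConn16

namespace Groth.Agent.Lib.CliffDetConn16
open QuadraticMap CliffordAlgebra TensorProduct
open Groth.Agent.Lib.CliffBC16 Groth.Agent.Lib.CliffCentre16 Groth.Agent.Lib.CliffLoc16
  Groth.Agent.Lib.CliffDet16 Groth.Agent.Lib.CliffGPin16 Groth.Agent.Lib.CliffDetLoc16

universe u v w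
variable {R : Type u} [CommRing R] {M : Type v} [AddCommGroup M] [Module R M] [Module.Free R M]
variable (Q : QuadraticForm R M)

/-- **spreading out a homogeneous lift**: near a prime `p`, all localisations of `g` are induced by homogeneous units of the
same parity. -/
theorem exists_spread [Module.Finite R M] (m : ℕ) (hM : Module.finrank R M = 2 * m)
    (hQ : QuadGrp.IsRegular Q) (g : M ≃ₗ[R] M) (hg : g ∈ QuadGrp.O Q) (p : Ideal R) [p.IsPrime] :
    ∃ f : R, f ∉ p ∧ ∃ i : ZMod 2, ∀ (q : Ideal R) [q.IsPrime], f ∉ q →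
      ∃ u : (CliffordAlgebra (QuadGrp.baseChangeForm (Localization.AtPrime q) Q))ˣ,
        (u : CliffordAlgebra (QuadGrp.baseChangeForm (Localization.AtPrime q) Q)) ∈
          evenOdd (QuadGrp.baseChangeForm (Localization.AtPrime q) Q) i ∧
        ∀ y : (Localization.AtPrime q) ⊗[R] M,
          (u : CliffordAlgebra (QuadGrp.baseChangeForm (Localization.AtPrime q) Q)) *
            ι (QuadGrp.baseChangeForm (Localization.AtPrime q) Q) y * ↑u⁻¹ =
          ι (QuadGrp.baseChangeForm (Localization.AtPrime q) Q)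
            (g.baseChange R (Localization.AtPrime q) M M y) := by
  classical
  let A := Localization.AtPrime p
  haveI : Nontrivial R :=
    nontrivial_of_ne (0 : R) 1 (fun h => (‹p.IsPrime›).ne_top (p.eq_top_iff_one.2 (h ▸ p.zero_mem)))
  have hMA : Module.finrank A (A ⊗[R] M) = 2 * m := by
    rw [Module.finrank_baseChange, hM]
  have hQA : QuadGrp.IsRegular (QuadGrp.baseChangeForm A Q) :=
    Groth.Agent.Lib.QuadPlane16.isRegular_baseChange (A := A) Q hQ
  have hgA := baseChange_mem_O A Q g hg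
  have hAz : IsAzumaya A (CliffordAlgebra (QuadGrp.baseChangeForm A Q)) :=
    Groth.Agent.Lib.CliffAz16.isAzumaya_clifford _ m hMA hQA
  obtain ⟨Z⟩ := exists_zetaData m (A ⊗[R] M) (QuadGrp.baseChangeForm A Q) hMA hQA
  obtain ⟨up, hup, hconj⟩ := exists_gpin'_of_isometry m hMA _ hQA _ hgA
  have hpar : ∃ i : ZMod 2, (up : CliffordAlgebra (QuadGrp.baseChangeForm A Q)) ∈
      evenOdd (QuadGrp.baseChangeForm A Q) i := by
    rcases homogeneous_of_mem_GPin' Z up hup with ⟨h0, -⟩ | ⟨h1, -⟩
    · exact ⟨0, h0⟩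
    · exact ⟨1, h1⟩
  obtain ⟨i, hi⟩ := hpar
  obtain ⟨s₁, w, hw, hφw⟩ := exists_smul_eq_ofBCAux_homog Q p.primeCompl A i _ hi
  obtain ⟨s₂, w₂, hφw₂⟩ := exists_smul_eq_ofBCAux Q p.primeCompl A
    (↑up⁻¹ : CliffordAlgebra (QuadGrp.baseChangeForm A Q))
  set c : R := (s₁ : R) * (s₂ : R) with hc
  -- relation 1
  obtain ⟨t₁, ht₁⟩ := exists_smul_eq_zero_of_ofBCAux Q p.primeCompl A
    (w * w₂ - c • (1 : CliffordAlgebra Q)) (by
      rw [map_sub, map_mul, map_smul, map_one, hφw, hφw₂, smul_mul_smul_comm, Units.mul_inv, ← map_mul,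
        algebraMap_smul, sub_self])
  obtain ⟨t₂, ht₂⟩ := exists_smul_eq_zero_of_ofBCAux Q p.primeCompl A
    (w₂ * w - c • (1 : CliffordAlgebra Q)) (by
      rw [map_sub, map_mul, map_smul, map_one, hφw, hφw₂, smul_mul_smul_comm, Units.inv_mul, ← map_mul,
        algebraMap_smul, mul_comm (s₂ : R), sub_self])
  -- relation 3 on basis vectors
  let b := Module.Free.chooseBasis R M
  have hcomm : ∀ y : A ⊗[R] M, (up : CliffordAlgebra (QuadGrp.baseChangeForm A Q)) *
      ι (QuadGrp.baseChangeForm A Q) y =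
      ι (QuadGrp.baseChangeForm A Q) (g.baseChange R A M M y) * up := by
    intro y
    rw [← hconj y, mul_assoc, Units.inv_mul, mul_one]
  have h3 : ∀ j, ∃ t : p.primeCompl, (t : R) • (w * ι Q (b j) - ι Q (g (b j)) * w) = 0 := by
    intro j
    apply exists_smul_eq_zero_of_ofBCAux Q p.primeCompl A
    rw [map_sub, map_mul, map_mul, ofBCAux_ι, ofBCAux_ι, hφw, smul_mul_assoc, mul_smul_comm, hcomm,
      LinearEquiv.baseChange_tmul, sub_self]
  choose sel hsel using h3
  let t₃ : p.primeCompl := ∏ j, sel j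
  have h3' : ∀ v : M, (t₃ : R) • (w * ι Q v - ι Q (g v) * w) = 0 := by
    let L : M →ₗ[R] CliffordAlgebra Q :=
      (LinearMap.mulLeft R w) ∘ₗ (ι Q) - (LinearMap.mulRight R w) ∘ₗ (ι Q) ∘ₗ g.toLinearMap
    have hL : (t₃ : R) • L = 0 := by
      apply b.ext
      intro j
      have h1 : (t₃ : R) = (∏ j' ∈ Finset.univ.erase j, (sel j' : R)) * (sel j : R) := by
        rw [Finset.prod_erase_mul Finset.univ (fun j' => (sel j' : R)) (Finset.mem_univ j)]
        simp [t₃]
      have h2 : L (b j) = w * ι Q (b j) - ι Q (g (b j)) * w := by simp [L]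
      rw [LinearMap.smul_apply, h2, h1, mul_smul, hsel, smul_zero, LinearMap.zero_apply]
    intro v
    have := LinearMap.congr_fun hL v
    simpa [L] using this
  set t : R := (t₁ : R) * (t₂ : R) * (t₃ : R) with ht
  have k1 : t • (w * w₂ - c • (1 : CliffordAlgebra Q)) = 0 := by
    rw [ht, mul_assoc, mul_comm, mul_smul, ht₁, smul_zero]
  have k2 : t • (w₂ * w - c • (1 : CliffordAlgebra Q)) = 0 := by
    rw [ht, mul_comm (t₁ : R), mul_assoc, mul_comm, mul_smul, ht₂, smul_zero]
  have k3 : ∀ v : M, t • (w * ι Q v - ι Q (g v) * w) = 0 := by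
    intro v
    rw [ht, mul_smul, h3', smul_zero]
  refine ⟨c * t, ?_, i, fun q _ hq => ?_⟩
  · exact (s₁ * s₂ * (t₁ * t₂ * t₃)).2
  · have hcq : c ∉ q := fun h => hq (q.mul_mem_right _ h)
    have htq : t ∉ q := fun h => hq (q.mul_mem_left _ h)
    exact exists_unit_of_data Q (Localization.AtPrime q) g i w w₂ hw c
      (IsLocalization.map_units (Localization.AtPrime q) (⟨c, hcq⟩ : q.primeCompl)) t
      (IsLocalization.map_units (Localization.AtPrime q) (⟨t, htq⟩ : q.primeCompl)) k1 k2 k3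

end Groth.Agent.Lib.CliffDetConn16

namespace Groth.Agent.Lib.CliffDetConn16
open QuadraticMap CliffordAlgebra TensorProduct
open Groth.Agent.Lib.CliffBC16 Groth.Agent.Lib.CliffCentre16 Groth.Agent.Lib.CliffLoc16
  Groth.Agent.Lib.CliffDet16 Groth.Agent.Lib.CliffGPin16 Groth.Agent.Lib.CliffDetLoc16

universe u v w
variable {R : Type u} [CommRing R] {M : Type v} [AddCommGroup M] [Module R M] [Module.Free R M]
variable (Q : QuadraticForm R M)

/-- near every prime, the Dickson condition for the localisations of `g` is constant. -/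
theorem exists_dichotomy [Module.Finite R M] (m : ℕ) (hM : Module.finrank R M = 2 * m)
    (hQ : QuadGrp.IsRegular Q) (g : M ≃ₗ[R] M) (hg : g ∈ QuadGrp.O Q) (p : Ideal R) [p.IsPrime] :
    ∃ f : R, f ∉ p ∧
      ((∀ (q : Ideal R) [q.IsPrime], f ∉ q → g.baseChange R (Localization.AtPrime q) M M ∈
        QuadGrp.SOeven (QuadGrp.baseChangeForm (Localization.AtPrime q) Q)) ∨
      (∀ (q : Ideal R) [q.IsPrime], f ∉ q → g.baseChange R (Localization.AtPrime q) M M ∉
        QuadGrp.SOeven (QuadGrp.baseChangeForm (Localization.AtPrime q) Q))) := by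
  obtain ⟨f, hf, i, hi⟩ := exists_spread Q m hM hQ g hg p
  refine ⟨f, hf, ?_⟩
  rcases zmod2_cases i with rfl | rfl
  · left
    intro q _ hq
    obtain ⟨u, hu, hconj⟩ := hi q hq
    exact mem_SOeven_of_even _ _ (baseChange_mem_O _ Q g hg) u hu hconj
  · right
    intro q _ hq
    obtain ⟨u, hu, hconj⟩ := hi q hq
    let A := Localization.AtPrime q
    haveI : Nontrivial R :=
      nontrivial_of_ne (0 : R) 1 (fun h => (‹q.IsPrime›).ne_top (q.eq_top_iff_one.2 (h ▸ q.zero_mem)))
    have hMA : Module.finrank A (A ⊗[R] M) = 2 * m := by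
      rw [Module.finrank_baseChange, hM]
    have hQA : QuadGrp.IsRegular (QuadGrp.baseChangeForm A Q) :=
      Groth.Agent.Lib.QuadPlane16.isRegular_baseChange (A := A) Q hQ
    obtain ⟨Z⟩ := exists_zetaData m (A ⊗[R] M) (QuadGrp.baseChangeForm A Q) hMA hQA
    exact not_mem_SOeven_of_odd Z _ (baseChange_mem_O _ Q g hg) u hu hconj

/-- the locus of primes at which `g` satisfies the Dickson condition. -/
def evenLocus (g : M ≃ₗ[R] M) : Set (PrimeSpectrum R) :=
  {x | g.baseChange R (Localization.AtPrime x.asIdeal) M M ∈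
    QuadGrp.SOeven (QuadGrp.baseChangeForm (Localization.AtPrime x.asIdeal) Q)}

theorem isClopen_evenLocus [Module.Finite R M] (m : ℕ) (hM : Module.finrank R M = 2 * m)
    (hQ : QuadGrp.IsRegular Q) (g : M ≃ₗ[R] M) (hg : g ∈ QuadGrp.O Q) :
    IsClopen (evenLocus Q g) := by
  constructor
  · rw [← isOpen_compl_iff, isOpen_iff_forall_mem_open]
    intro x hx
    obtain ⟨f, hf, h | h⟩ := exists_dichotomy Q m hM hQ g hg x.asIdeal
    · exact absurd (h x.asIdeal hf) hx
    · refine ⟨PrimeSpectrum.basicOpen f, fun y hy => h y.asIdeal hy, (PrimeSpectrum.basicOpen f).2, hf⟩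
  · rw [isOpen_iff_forall_mem_open]
    intro x hx
    obtain ⟨f, hf, h | h⟩ := exists_dichotomy Q m hM hQ g hg x.asIdeal
    · refine ⟨PrimeSpectrum.basicOpen f, fun y hy => h y.asIdeal hy, (PrimeSpectrum.basicOpen f).2, hf⟩
    · exact absurd hx (h x.asIdeal hf)

/-- **S16989**: over a connected base, an isometry violating the Dickson condition has determinant `-1`. -/
theorem det_eq_neg_one_of_not_dickson (hc : ConnectedSpace (PrimeSpectrum R)) [Module.Finite R M]
    (m : ℕ) (hm : 1 ≤ m) (hM : Module.finrank R M = 2 * m) (hQ : QuadGrp.IsRegular Q)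
    (g : M ≃ₗ[R] M) (hg : g ∈ QuadGrp.O Q) (hD : ¬ QuadGrp.IsDicksonTrivial Q g hg) :
    LinearEquiv.det g = -1 := by
  have hclopen := isClopen_evenLocus Q m hM hQ g hg
  rcases isClopen_iff.1 hclopen with hempty | huniv
  · -- everywhere odd
    apply Units.ext
    rw [LinearEquiv.coe_det, Units.val_neg, Units.val_one, ← sub_eq_zero, sub_neg_eq_add]
    refine eq_zero_of_localization _ (fun J hJ => ?_)
    haveI : J.IsPrime := hJ.isPrime
    let A := Localization.AtPrime J
    haveI : Nontrivial R :=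
      nontrivial_of_ne (0 : R) 1 (fun h => (‹J.IsPrime›).ne_top (J.eq_top_iff_one.2 (h ▸ J.zero_mem)))
    have hMA : Module.finrank A (A ⊗[R] M) = 2 * m := by
      rw [Module.finrank_baseChange, hM]
    have hQA : QuadGrp.IsRegular (QuadGrp.baseChangeForm A Q) :=
      Groth.Agent.Lib.QuadPlane16.isRegular_baseChange (A := A) Q hQ
    have hgA := baseChange_mem_O A Q g hg
    rcases dickson_det_local m hm hMA _ hQA _ hgA with ⟨hmem, -⟩ | ⟨-, hdet⟩
    · have : (⟨J, inferInstance⟩ : PrimeSpectrum R) ∈ evenLocus Q g := hmem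
      rw [hempty] at this
      exact absurd this (Set.notMem_empty _)
    · rw [det_baseChange] at hdet
      rw [map_add, hdet, map_one]
      simp
  · -- everywhere even: contradiction
    exfalso
    apply hD
    intro z hz
    rw [center_even_iff] at hz
    refine sub_eq_zero.1 (eq_zero_of_forall_ofBCAux Q _ (fun J hJ => ?_))
    haveI : J.IsPrime := hJ.isPrime
    let A := Localization.AtPrime J
    have hgA := baseChange_mem_O A Q g hg
    have hmem : (⟨J, inferInstance⟩ : PrimeSpectrum R) ∈ evenLocus Q g := by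
      rw [huniv]; exact Set.mem_univ _
    obtain ⟨hgA', hDA⟩ := hmem
    have hcz : (⟨ofBCAux A Q (z : CliffordAlgebra Q), ofBCAux_mem_evenOdd A Q 0 _ z.2⟩ :
        CliffordAlgebra.even (QuadGrp.baseChangeForm A Q)) ∈
        Subalgebra.center A (CliffordAlgebra.even (QuadGrp.baseChangeForm A Q)) := by
      rw [center_even_iff]
      exact fun y hy => ofBCAux_comm_even A Q _ hz y hy
    have h1 := hDA _ hcz
    have h2 := map_baseChange_ofBCAux A Q g hg hgA (z : CliffordAlgebra Q)
    rw [map_sub, ← h2]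
    exact sub_eq_zero.2 h1

end Groth.Agent.Lib.CliffDetConn16
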