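import Groth.Agent.Lib.CliffDet16

/-!
# Dickson condition versus determinant for regular forms of even rank (helper16)

`baseChange_mem_O`, `det_baseChange`, `map_baseChange_ofBCAux` (isometries and induced Clifford automorphisms base change),
`dickson_det_local` (local ring: Dickson-trivial and `det = 1`, or not and `det = -1`), `ofBCAux_comm_even` (central elements of the
even subalgebra stay central after base change), `exists_smul_eq_ofBCAux`, `exists_central_lift` (the centre of the even Clifford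
algebra commutes with localisation), `eq_zero_of_forall_ofBCAux`, `center_even_iff`, `baseChange_mem_SOeven`,
`sOeven_le_sO'` (S16988), `sOeven_eq_sO'` (S16990).
-/

set_option autoImplicit false
set_option linter.style.haveILetI false
set_option linter.unusedSectionVars false
set_option linter.unusedSimpArgs false
set_option linter.unusedVariables false

namespace Groth.Agent.Lib.CliffDetLoc16
open QuadraticMap CliffordAlgebra TensorProduct
open Groth.Agent.Lib.CliffBC16 Groth.Agent.Lib.CliffCentre16 Groth.Agent.Lib.CliffLoc16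
  Groth.Agent.Lib.CliffDet16

universe u v w
variable {R : Type u} [CommRing R] {M : Type v} [AddCommGroup M] [Module R M] [Module.Free R M]
variable (A : Type w) [CommRing A] [Algebra R A] (Q : QuadraticForm R M)

/-- isometries base change. -/
theorem baseChange_mem_O (g : M ≃ₗ[R] M) (hg : g ∈ QuadGrp.O Q) :
    g.baseChange R A M M ∈ QuadGrp.O (QuadGrp.baseChangeForm A Q) := by
  rw [QuadGrp.mem_O]
  have : (QuadGrp.baseChangeForm A Q).comp (g.baseChange R A M M).toLinearMap =
      QuadGrp.baseChangeForm A Q := by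
    apply _root_.baseChange_ext
    intro m
    rw [QuadraticMap.comp_apply]
    change QuadGrp.baseChangeForm A Q ((g.baseChange R A M M) (1 ⊗ₜ[R] m)) = _
    rw [LinearEquiv.baseChange_tmul, baseChangeForm_tmul, baseChangeForm_tmul, hg m]
  intro y
  exact congrArg (fun q => q y) this

theorem det_baseChange [Module.Finite R M] (g : M ≃ₗ[R] M) :
    LinearMap.det (g.baseChange R A M M).toLinearMap = algebraMap R A (LinearMap.det g.toLinearMap) := by
  rw [LinearEquiv.coe_baseChange, LinearMap.det_baseChange]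

/-- the automorphisms of the Clifford algebras induced by `g` and its base change are compatible. -/
theorem map_baseChange_ofBCAux (g : M ≃ₗ[R] M) (hg : g ∈ QuadGrp.O Q)
    (hgA : g.baseChange R A M M ∈ QuadGrp.O (QuadGrp.baseChangeForm A Q)) (x : CliffordAlgebra Q) :
    CliffordAlgebra.map (QuadGrp.isometryOfMem (QuadGrp.baseChangeForm A Q) (g.baseChange R A M M) hgA)
      (ofBCAux A Q x) = ofBCAux A Q (CliffordAlgebra.map (QuadGrp.isometryOfMem Q g hg) x) := by
  induction x using CliffordAlgebra.induction with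
  | algebraMap r =>
    rw [AlgHom.commutes, AlgHom.commutes, IsScalarTower.algebraMap_apply R A, AlgHom.commutes]
    rw [AlgHom.commutes, ← IsScalarTower.algebraMap_apply]
  | ι v =>
    rw [ofBCAux_ι, CliffordAlgebra.map_apply_ι, CliffordAlgebra.map_apply_ι, ofBCAux_ι]
    rfl
  | mul a b ha hb => rw [map_mul, map_mul, ha, hb, map_mul, map_mul]
  | add a b ha hb => rw [map_add, map_add, ha, hb, map_add, map_add]

end Groth.Agent.Lib.CliffDetLoc16

namespace Groth.Agent.Lib.CliffDetLoc16
open QuadraticMap CliffordAlgebra TensorProduct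
open Groth.Agent.Lib.CliffBC16 Groth.Agent.Lib.CliffCentre16 Groth.Agent.Lib.CliffLoc16
  Groth.Agent.Lib.CliffDet16 Groth.Agent.Lib.CliffGPin16

universe u v w

/-- **Local theorem**: over a local ring, an isometry of a regular form of even rank `2m ≥ 2` either satisfies the Dickson
condition and has determinant `1`, or violates it and has determinant `-1`. -/
theorem dickson_det_local {R : Type u} [CommRing R] [IsLocalRing R]
    {M : Type v} [AddCommGroup M] [Module R M] [Module.Free R M] [Module.Finite R M]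
    (m : ℕ) (hm : 1 ≤ m) (hM : Module.finrank R M = 2 * m) (Q : QuadraticForm R M)
    (hQ : QuadGrp.IsRegular Q) (g : M ≃ₗ[R] M) (hg : g ∈ QuadGrp.O Q) :
    (g ∈ QuadGrp.SOeven Q ∧ LinearMap.det g.toLinearMap = 1) ∨
      (g ∉ QuadGrp.SOeven Q ∧ LinearMap.det g.toLinearMap = -1) := by
  have hAz : IsAzumaya R (CliffordAlgebra Q) :=
    Groth.Agent.Lib.CliffAz16.isAzumaya_clifford Q m hM hQ
  obtain ⟨Z⟩ := exists_zetaData m M Q hM hQ
  obtain ⟨u, hu, hconj⟩ := exists_gpin'_of_isometry m hM Q hQ g hg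
  let b : Module.Basis (Fin (2 * m)) R M := Module.finBasisOfFinrankEq R M hM
  have hpow : ((-1 : R) ^ (2 * m - 1)) = -1 := by
    obtain ⟨k, rfl⟩ : ∃ k, m = k + 1 := ⟨m - 1, by omega⟩
    rw [show 2 * (k + 1) - 1 = 2 * k + 1 by omega, pow_succ, pow_mul]
    simp
  rcases homogeneous_of_mem_GPin' Z u hu with ⟨h0, -⟩ | ⟨h1, -⟩
  · left
    refine ⟨mem_SOeven_of_even Q g hg u h0 hconj, ?_⟩
    have := det_eq_of_conj Q b g hg u 0 h0 hconj
    simpa using this
  · right
    refine ⟨not_mem_SOeven_of_odd Z g hg u h1 hconj, ?_⟩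
    have := det_eq_of_conj Q b g hg u 1 h1 hconj
    rw [hpow, ZMod.val_one, pow_one] at this
    exact this

end Groth.Agent.Lib.CliffDetLoc16

namespace Groth.Agent.Lib.CliffDetLoc16
open QuadraticMap CliffordAlgebra TensorProduct
open Groth.Agent.Lib.CliffBC16 Groth.Agent.Lib.CliffCentre16 Groth.Agent.Lib.CliffLoc16
  Groth.Agent.Lib.CliffDet16 Groth.Agent.Lib.CliffGPin16

universe u v w
variable {R : Type u} [CommRing R] {M : Type v} [AddCommGroup M] [Module R M] [Module.Free R M]
variable (A : Type w) [CommRing A] [Algebra R A] (Q : QuadraticForm R M)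

/-- an even element is its own even part. -/
theorem eq_of_even_decomp {Q : QuadraticForm R M} (y y₀ y₁ : CliffordAlgebra Q) (hy : y ∈ evenOdd Q 0)
    (h0 : y₀ ∈ evenOdd Q 0) (h1 : y₁ ∈ evenOdd Q 1) (h : y = y₀ + y₁) : y = y₀ := by
  have hz : (y₀ - y) + y₁ = 0 := by rw [h]; abel
  have := (even_odd_eq_zero _ _ _ (Submodule.sub_mem _ h0 hy) h1 hz).2
  rw [h, this, add_zero]

/-- the image in `C(Q_A)` of an element commuting with the even subalgebra of `C(Q)` commutes with the even subalgebra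
of `C(Q_A)`. -/
theorem ofBCAux_comm_even (z : CliffordAlgebra Q) (hz : ∀ y ∈ evenOdd Q 0, z * y = y * z)
    (y : CliffordAlgebra (QuadGrp.baseChangeForm A Q)) (hy : y ∈ evenOdd (QuadGrp.baseChangeForm A Q) 0) :
    ofBCAux A Q z * y = y * ofBCAux A Q z := by
  have key : ∀ t : A ⊗[R] CliffordAlgebra Q,
      ∃ y₀ ∈ evenOdd (QuadGrp.baseChangeForm A Q) 0, ∃ y₁ ∈ evenOdd (QuadGrp.baseChangeForm A Q) 1,
        bcEquiv A Q t = y₀ + y₁ ∧ ofBCAux A Q z * y₀ = y₀ * ofBCAux A Q z := by
    intro t
    induction t using TensorProduct.induction_on with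
    | zero =>
      exact ⟨0, Submodule.zero_mem _, 0, Submodule.zero_mem _, by simp, by simp⟩
    | tmul a x =>
      obtain ⟨x₀, hx0, x₁, hx1, rfl⟩ := exists_even_odd (Q := Q) x
      refine ⟨a • ofBCAux A Q x₀, Submodule.smul_mem _ _ (ofBCAux_mem_evenOdd A Q 0 x₀ hx0),
        a • ofBCAux A Q x₁, Submodule.smul_mem _ _ (ofBCAux_mem_evenOdd A Q 1 x₁ hx1), ?_, ?_⟩
      · rw [bcEquiv_tmul, map_add, smul_add]
      · rw [mul_smul_comm, smul_mul_assoc, ← map_mul, ← map_mul, hz x₀ hx0]
    | add s t hs ht =>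
      obtain ⟨a₀, ha0, a₁, ha1, has, hac⟩ := hs
      obtain ⟨b₀, hb0, b₁, hb1, hbs, hbc⟩ := ht
      refine ⟨a₀ + b₀, Submodule.add_mem _ ha0 hb0, a₁ + b₁, Submodule.add_mem _ ha1 hb1, ?_, ?_⟩
      · rw [map_add, has, hbs]; abel
      · rw [mul_add, add_mul, hac, hbc]
  obtain ⟨y₀, h0, y₁, h1, hs, hc⟩ := key ((bcEquiv A Q).symm y)
  rw [AlgEquiv.apply_symm_apply] at hs
  rw [eq_of_even_decomp y y₀ y₁ hy h0 h1 hs]
  exact hc

end Groth.Agent.Lib.CliffDetLoc16

namespace Groth.Agent.Lib.CliffDetLoc16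
open QuadraticMap CliffordAlgebra TensorProduct
open Groth.Agent.Lib.CliffBC16 Groth.Agent.Lib.CliffCentre16 Groth.Agent.Lib.CliffLoc16
  Groth.Agent.Lib.CliffDet16 Groth.Agent.Lib.CliffGPin16

universe u v w
variable {R : Type u} [CommRing R] {M : Type v} [AddCommGroup M] [Module R M] [Module.Free R M]
variable (Q : QuadraticForm R M)

/-- every element of `C(Q_A)`, `A = S⁻¹R`, becomes the image of an element of `C(Q)` after multiplication by some
`s ∈ S`. -/
theorem exists_smul_eq_ofBCAux (S : Submonoid R) (A : Type w) [CommRing A] [Algebra R A]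
    [IsLocalization S A] (x : CliffordAlgebra (QuadGrp.baseChangeForm A Q)) :
    ∃ s : S, ∃ w : CliffordAlgebra Q, ofBCAux A Q w = algebraMap R A (s : R) • x := by
  have hbc : IsBaseChange A (TensorProduct.mk R A (CliffordAlgebra Q) 1) :=
    TensorProduct.isBaseChange R (CliffordAlgebra Q) A
  have hloc : IsLocalizedModule S (TensorProduct.mk R A (CliffordAlgebra Q) 1) :=
    (isLocalizedModule_iff_isBaseChange S A _).2 hbc
  obtain ⟨⟨w, s⟩, hws⟩ := IsLocalizedModule.surj S (TensorProduct.mk R A (CliffordAlgebra Q) 1)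
    ((bcEquiv A Q).symm x)
  refine ⟨s, w, ?_⟩
  have h1 : (s : R) • (bcEquiv A Q).symm x = (1 : A) ⊗ₜ[R] w := hws
  have h2 := congrArg (bcEquiv A Q) h1
  rw [bcEquiv_one_tmul, ← algebraMap_smul A (s : R) ((bcEquiv A Q).symm x), map_smul,
    AlgEquiv.apply_symm_apply] at h2
  exact h2.symm

/-- **the centre of the even Clifford algebra commutes with localisation**: a central element of the even subalgebra of
`C(Q_A)`, `A = S⁻¹R`, is, up to some `s ∈ S`, the image of a central element of the even subalgebra of `C(Q)`. -/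
theorem exists_central_lift [Module.Finite R M] (S : Submonoid R) (A : Type w) [CommRing A]
    [Algebra R A] [IsLocalization S A] (x : CliffordAlgebra (QuadGrp.baseChangeForm A Q))
    (hx0 : x ∈ evenOdd (QuadGrp.baseChangeForm A Q) 0)
    (hx : ∀ y ∈ evenOdd (QuadGrp.baseChangeForm A Q) 0, x * y = y * x) :
    ∃ s : S, ∃ z ∈ evenOdd Q 0, (∀ y ∈ evenOdd Q 0, z * y = y * z) ∧
      ofBCAux A Q z = algebraMap R A (s : R) • x := by
  classical
  obtain ⟨s, w, hw⟩ := exists_smul_eq_ofBCAux Q S A x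
  obtain ⟨w₀, hw0, w₁, hw1, rfl⟩ := exists_even_odd (Q := Q) w
  have hφ0 : ofBCAux A Q w₀ = algebraMap R A (s : R) • x := by
    rw [map_add] at hw
    have := eq_of_even_decomp (algebraMap R A (s : R) • x) (ofBCAux A Q w₀) (ofBCAux A Q w₁)
      (Submodule.smul_mem _ _ hx0) (ofBCAux_mem_evenOdd A Q 0 w₀ hw0)
      (ofBCAux_mem_evenOdd A Q 1 w₁ hw1) hw.symm
    exact this.symm
  -- chosen even and odd parts
  choose ev hev od hod hsum using fun y : CliffordAlgebra Q => exists_even_odd (Q := Q) y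
  have hkill : ∀ y : CliffordAlgebra Q, ∃ t : S, (t : R) • (w₀ * ev y - ev y * w₀) = 0 := by
    intro y
    apply exists_smul_eq_zero_of_ofBCAux Q S A
    rw [map_sub, map_mul, map_mul, hφ0, smul_mul_assoc, mul_smul_comm,
      hx _ (ofBCAux_mem_evenOdd A Q 0 _ (hev y)), sub_self]
  choose sel hsel using hkill
  obtain ⟨T, hT⟩ := (Module.Finite.fg_top : (⊤ : Submodule R (CliffordAlgebra Q)).FG)
  let s' : S := ∏ y ∈ T, sel y
  refine ⟨s' * s, (s' : R) • w₀, Submodule.smul_mem _ _ hw0, ?_, ?_⟩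
  · have key : ∀ y : CliffordAlgebra Q, y ∈ Submodule.span R (T : Set (CliffordAlgebra Q)) →
        ∃ y₀ ∈ evenOdd Q 0, ∃ y₁ ∈ evenOdd Q 1, y = y₀ + y₁ ∧
          ((s' : R) • w₀) * y₀ = y₀ * ((s' : R) • w₀) := by
      intro y hy
      induction hy using Submodule.span_induction with
      | mem y hyT =>
        refine ⟨ev y, hev y, od y, hod y, hsum y, ?_⟩
        have hyT' : y ∈ T := hyT
        have h1 : (s' : R) = (∏ y' ∈ T.erase y, (sel y' : R)) * (sel y : R) := by
          rw [Finset.prod_erase_mul T (fun y' => (sel y' : R)) hyT']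
          simp [s']
        have h2 : ((s' : R) • w₀) * ev y - ev y * ((s' : R) • w₀) = 0 := by
          rw [smul_mul_assoc, mul_smul_comm, ← smul_sub, h1, mul_smul, hsel, smul_zero]
        exact sub_eq_zero.1 h2
      | zero => exact ⟨0, Submodule.zero_mem _, 0, Submodule.zero_mem _, by simp, by simp⟩
      | add a c _ _ ha hc =>
        obtain ⟨a₀, ha0, a₁, ha1, has, hac⟩ := ha
        obtain ⟨c₀, hc0, c₁, hc1, hcs, hcc⟩ := hc
        refine ⟨a₀ + c₀, Submodule.add_mem _ ha0 hc0, a₁ + c₁, Submodule.add_mem _ ha1 hc1, ?_, ?_⟩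
        · rw [has, hcs]; abel
        · rw [mul_add, add_mul, hac, hcc]
      | smul r a _ ha =>
        obtain ⟨a₀, ha0, a₁, ha1, has, hac⟩ := ha
        refine ⟨r • a₀, Submodule.smul_mem _ _ ha0, r • a₁, Submodule.smul_mem _ _ ha1, ?_, ?_⟩
        · rw [has, smul_add]
        · rw [mul_smul_comm, smul_mul_assoc r a₀, hac]
    intro y hy
    obtain ⟨y₀, h0, y₁, h1, hs, hc⟩ := key y (by rw [hT]; exact Submodule.mem_top)
    rw [eq_of_even_decomp y y₀ y₁ hy h0 h1 hs]
    exact hc
  · rw [map_smul, hφ0, Submonoid.coe_mul, map_mul, mul_smul]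
    simp only [algebraMap_smul]

end Groth.Agent.Lib.CliffDetLoc16

namespace Groth.Agent.Lib.CliffDetLoc16
open QuadraticMap CliffordAlgebra TensorProduct
open Groth.Agent.Lib.CliffBC16 Groth.Agent.Lib.CliffCentre16 Groth.Agent.Lib.CliffLoc16
  Groth.Agent.Lib.CliffDet16 Groth.Agent.Lib.CliffGPin16

universe u v w
variable {R : Type u} [CommRing R] {M : Type v} [AddCommGroup M] [Module R M] [Module.Free R M]
variable (Q : QuadraticForm R M)

/-- an element of `C(Q)` vanishing in `C(Q_{R_J})` for all maximal ideals `J` is zero. -/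
theorem eq_zero_of_forall_ofBCAux (x : CliffordAlgebra Q)
    (h : ∀ (J : Ideal R) (hJ : J.IsMaximal), ofBCAux (Localization.AtPrime J) Q x = 0) : x = 0 := by
  let I : Ideal R := (LinearMap.toSpanSingleton R (CliffordAlgebra Q) x).ker
  have hI : ∀ r : R, r ∈ I ↔ r • x = 0 := fun r => by
    simp [I, LinearMap.mem_ker, LinearMap.toSpanSingleton_apply]
  have htop : I = ⊤ := by
    by_contra hne
    obtain ⟨P, hP, hle⟩ := Ideal.exists_le_maximal _ hne
    haveI : P.IsPrime := hP.isPrime
    obtain ⟨s, hs⟩ := exists_smul_eq_zero_of_ofBCAux Q P.primeCompl (Localization.AtPrime P) x (h P hP)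
    exact s.2 (hle ((hI s).2 hs))
  have := (hI 1).1 (by rw [htop]; exact Submodule.mem_top)
  simpa using this

theorem center_even_iff {Q : QuadraticForm R M} (z : CliffordAlgebra.even Q) :
    z ∈ Subalgebra.center R (CliffordAlgebra.even Q) ↔
      ∀ y ∈ evenOdd Q 0, (z : CliffordAlgebra Q) * y = y * (z : CliffordAlgebra Q) := by
  rw [Subalgebra.mem_center_iff]
  constructor
  · intro h y hy
    exact (congrArg Subtype.val (h ⟨y, hy⟩)).symm
  · intro h y
    exact Subtype.ext (h y y.2).symm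

/-- the Dickson condition localises. -/
theorem baseChange_mem_SOeven [Module.Finite R M] (P : Ideal R) [P.IsPrime] (g : M ≃ₗ[R] M)
    (hg : g ∈ QuadGrp.SOeven Q) :
    g.baseChange R (Localization.AtPrime P) M M ∈
      QuadGrp.SOeven (QuadGrp.baseChangeForm (Localization.AtPrime P) Q) := by
  obtain ⟨hgO, hD⟩ := hg
  have hgA := baseChange_mem_O (Localization.AtPrime P) Q g hgO
  refine ⟨hgA, fun z hz => ?_⟩
  rw [center_even_iff] at hz
  obtain ⟨s, z', hz'0, hz'c, hφ⟩ := exists_central_lift Q P.primeCompl (Localization.AtPrime P)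
    (z : CliffordAlgebra _) z.2 hz
  have hfix : CliffordAlgebra.map (QuadGrp.isometryOfMem Q g hgO) z' = z' :=
    hD ⟨z', hz'0⟩ ((center_even_iff _).2 hz'c)
  have h1 := map_baseChange_ofBCAux (Localization.AtPrime P) Q g hgO hgA z'
  rw [hfix, hφ, map_smul] at h1
  have hu : IsUnit (algebraMap R (Localization.AtPrime P) (s : R)) :=
    IsLocalization.map_units (Localization.AtPrime P) s
  exact hu.smul_left_cancel.1 h1

/-- **S16988**: the Dickson condition implies determinant one. -/
theorem sOeven_le_sO' [Module.Finite R M] (m : ℕ) (hm : 1 ≤ m) (hM : Module.finrank R M = 2 * m)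
    (hQ : QuadGrp.IsRegular Q) : QuadGrp.SOeven Q ≤ QuadGrp.SO' Q := by
  intro g hg
  have hgO : g ∈ QuadGrp.O Q := hg.1
  refine (mem_SO'_iff Q g).2 ⟨hgO, ?_⟩
  refine sub_eq_zero.1 (eq_zero_of_localization _ (fun J hJ => ?_))
  haveI : J.IsPrime := hJ.isPrime
  let A := Localization.AtPrime J
  haveI : Nontrivial R :=
    nontrivial_of_ne (0 : R) 1 (fun h => (‹J.IsPrime›).ne_top (J.eq_top_iff_one.2 (h ▸ J.zero_mem)))
  have hMA : Module.finrank A (A ⊗[R] M) = 2 * m := by
    rw [Module.finrank_baseChange, hM]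
  have hQA : QuadGrp.IsRegular (QuadGrp.baseChangeForm A Q) :=
    Groth.Agent.Lib.QuadPlane16.isRegular_baseChange (A := A) Q hQ
  have hgA := baseChange_mem_O A Q g hgO
  rcases dickson_det_local m hm hMA _ hQA _ hgA with ⟨-, hdet⟩ | ⟨hnot, -⟩
  · rw [det_baseChange] at hdet
    rw [map_sub, hdet, map_one, sub_self]
  · exact absurd (baseChange_mem_SOeven Q J g hg) hnot

/-- **S16990**: when `2` is invertible, the Dickson condition is equivalent to determinant one. -/
theorem sOeven_eq_sO' [Invertible (2 : R)] [Module.Finite R M] (m : ℕ) (hm : 1 ≤ m)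
    (hM : Module.finrank R M = 2 * m) (hQ : QuadGrp.IsRegular Q) :
    QuadGrp.SOeven Q = QuadGrp.SO' Q := by
  refine le_antisymm (sOeven_le_sO' Q m hm hM hQ) (fun g hg => ?_)
  obtain ⟨hgO, hdet⟩ := (mem_SO'_iff Q g).1 hg
  refine ⟨hgO, fun z hz => ?_⟩
  rw [center_even_iff] at hz
  refine sub_eq_zero.1 (eq_zero_of_forall_ofBCAux Q _ (fun J hJ => ?_))
  haveI : J.IsPrime := hJ.isPrime
  let A := Localization.AtPrime J
  haveI : Nontrivial R :=
    nontrivial_of_ne (0 : R) 1 (fun h => (‹J.IsPrime›).ne_top (J.eq_top_iff_one.2 (h ▸ J.zero_mem)))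
  have hMA : Module.finrank A (A ⊗[R] M) = 2 * m := by
    rw [Module.finrank_baseChange, hM]
  have hQA : QuadGrp.IsRegular (QuadGrp.baseChangeForm A Q) :=
    Groth.Agent.Lib.QuadPlane16.isRegular_baseChange (A := A) Q hQ
  have hgA := baseChange_mem_O A Q g hgO
  rcases dickson_det_local m hm hMA _ hQA _ hgA with ⟨⟨hgA', hD⟩, -⟩ | ⟨-, hdetA⟩
  · have hc : (⟨ofBCAux A Q (z : CliffordAlgebra Q), ofBCAux_mem_evenOdd A Q 0 _ z.2⟩ :
        CliffordAlgebra.even (QuadGrp.baseChangeForm A Q)) ∈
        Subalgebra.center A (CliffordAlgebra.even (QuadGrp.baseChangeForm A Q)) := by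
      rw [center_even_iff]
      exact fun y hy => ofBCAux_comm_even A Q _ hz y hy
    have h1 := hD _ hc
    have h2 := map_baseChange_ofBCAux A Q g hgO hgA (z : CliffordAlgebra Q)
    rw [map_sub, ← h2]
    exact sub_eq_zero.2 h1
  · exfalso
    rw [det_baseChange, hdet, map_one] at hdetA
    have h2 : (2 : A) = 0 := by
      have : (1 : A) + 1 = 0 := by nth_rewrite 1 [hdetA]; simp
      rw [← this]; norm_num
    have hu : IsUnit (2 : A) := by
      have := (isUnit_of_invertible (2 : R)).map (algebraMap R A)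
      rwa [map_ofNat] at this
    rw [h2] at hu
    exact not_isUnit_zero hu

end Groth.Agent.Lib.CliffDetLoc16
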