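import Groth.Agent.Lib.CliffAz16
import Groth.Agent.Lib.Azumaya16SN

/-!
# Clifford group points over local rings (helper16)

`exists_gpin'_of_isometry` (S16993): every isometry is conjugation by a unit normalising `M` (Skolem–Noether);
`mem_GPin'_of_conj`, `isoOfMem`.
-/

set_option autoImplicit false
set_option linter.style.haveILetI false
set_option linter.unusedSectionVars false
set_option linter.unusedSimpArgs false
set_option linter.unusedVariables false

namespace Groth.Agent.Lib.CliffGPin16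
open QuadraticMap CliffordAlgebra TensorProduct
open scoped Pointwise

universe u v w

section
variable {R : Type u} [CommRing R] {M : Type v} [AddCommGroup M] [Module R M]
  (Q : QuadraticForm R M)

/-- An element of `O(Q)` as an isometry equivalence. -/
def isoOfMem (g : M ≃ₗ[R] M) (hg : g ∈ QuadGrp.O Q) : Q.IsometryEquiv Q :=
  { g with map_app' := hg }

@[simp] theorem isoOfMem_apply (g : M ≃ₗ[R] M) (hg : g ∈ QuadGrp.O Q) (v : M) :
    isoOfMem Q g hg v = g v := rfl

theorem conj_smul_def (u : (CliffordAlgebra Q)ˣ) (x : CliffordAlgebra Q) :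
    ConjAct.toConjAct u • x = (u : CliffordAlgebra Q) * x * ↑u⁻¹ := by
  rw [ConjAct.units_smul_def, ConjAct.ofConjAct_toConjAct]

/-- A unit whose conjugation induces a linear automorphism `g` of `M` lies in `GPin'`. -/
theorem mem_GPin'_of_conj (u : (CliffordAlgebra Q)ˣ) (g : M ≃ₗ[R] M)
    (h : ∀ v : M, (u : CliffordAlgebra Q) * ι Q v * ↑u⁻¹ = ι Q (g v)) : u ∈ QuadGrp.GPin' Q := by
  rw [QuadGrp.mem_GPin']
  ext x
  rw [Submodule.mem_smul_pointwise_iff_exists]
  constructor
  · rintro ⟨y, ⟨v, rfl⟩, rfl⟩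
    rw [conj_smul_def, h]
    exact ⟨g v, rfl⟩
  · rintro ⟨v, rfl⟩
    refine ⟨ι Q (g.symm v), ⟨_, rfl⟩, ?_⟩
    rw [conj_smul_def, h, LinearEquiv.apply_symm_apply]

end

/-- **S16993**: over a local ring every isometry of a regular even-rank form is conjugation by a
unit of the Clifford algebra normalising `M`. -/
theorem exists_gpin'_of_isometry {R : Type u} [CommRing R] [IsLocalRing R]
    {M : Type v} [AddCommGroup M] [Module R M] [Module.Free R M] [Module.Finite R M]
    (m : ℕ) (hM : Module.finrank R M = 2 * m) (Q : QuadraticForm R M) (hQ : QuadGrp.IsRegular Q)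
    (g : M ≃ₗ[R] M) (hg : g ∈ QuadGrp.O Q) :
    ∃ u ∈ QuadGrp.GPin' Q, ∀ v : M,
      (u : CliffordAlgebra Q) * CliffordAlgebra.ι Q v * ↑u⁻¹ = CliffordAlgebra.ι Q (g v) := by
  have hAz : IsAzumaya R (CliffordAlgebra Q) :=
    Groth.Agent.Lib.CliffAz16.isAzumaya_clifford Q m hM hQ
  obtain ⟨a, ha⟩ := Groth.Agent.Lib.Azumaya16.skolem_noether_of_isLocalRing
    (CliffordAlgebra.equivOfIsometry (isoOfMem Q g hg))
  have h : ∀ v : M, (a : CliffordAlgebra Q) * ι Q v * ↑a⁻¹ = ι Q (g v) := by
    intro v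
    rw [← ha, CliffordAlgebra.equivOfIsometry_apply, CliffordAlgebra.map_apply_ι]
    rfl
  exact ⟨a, mem_GPin'_of_conj Q a g h, h⟩

end Groth.Agent.Lib.CliffGPin16
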