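import Groth.Agent.Lib.OddDecomp16
import Groth.Agent.Lib.CliffDetLoc16

/-!
# Centre of the Clifford algebra of a semiregular form of odd rank over a local ring (helper16)

`map_mem_evenOdd` (isometries preserve parity), `star_map`, `lineEquiv : C(⟨c⟩) ≃ R[ω]/(ω² = c)`,
`coordT`, `exists_eq_one_tmul_of_comm` (centraliser of `A ⊗ 1` in `A ⊗ K`), `WData Q m` (even `W` anticommuting with vectors,
`W² = δ` unit, `star W = (-1)^m W`), `exists_wData` (local ring, regular rank `2m`), `OddData Q m` (central odd unit `z`, `z² = κ`,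
`star z = (-1)^(m+1) z`, centre `= R ⊕ R z`), `OddData.map`, `OddData.even_central`, `OddData.odd_central`,
`oddDataProd`, `splitIso`, `basisSplit`, `exists_oddData` (local ring, semiregular rank `2m+1`), `main_S16999`.
-/

set_option autoImplicit false
set_option linter.style.haveILetI false
set_option linter.unusedSectionVars false
set_option linter.unusedSimpArgs false
set_option linter.unusedVariables false

namespace Groth.Agent.Lib.CliffOdd16
open QuadraticMap CliffordAlgebra TensorProduct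

universe u v w
variable {R : Type u} [CommRing R]

/-- the algebra map induced by an isometry preserves the parity. -/
theorem map_mem_evenOdd {M₁ : Type v} [AddCommGroup M₁] [Module R M₁] {M₂ : Type w} [AddCommGroup M₂]
    [Module R M₂] {Q₁ : QuadraticForm R M₁} {Q₂ : QuadraticForm R M₂} (f : Q₁ →qᵢ Q₂) (i : ZMod 2)
    (x : CliffordAlgebra Q₁) (hx : x ∈ evenOdd Q₁ i) : CliffordAlgebra.map f x ∈ evenOdd Q₂ i := by
  induction x, hx using CliffordAlgebra.evenOdd_induction with
  | range_ι_pow v h =>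
    rcases Groth.Agent.Lib.CliffBC16.zmod2_cases i with rfl | rfl
    · rw [ZMod.val_zero, pow_zero] at h
      obtain ⟨r, rfl⟩ := Submodule.mem_one.1 h
      rw [AlgHom.commutes]
      exact SetLike.algebraMap_mem_graded (evenOdd Q₂) _
    · rw [ZMod.val_one, pow_one] at h
      obtain ⟨m, rfl⟩ := h
      rw [CliffordAlgebra.map_apply_ι]
      exact ι_mem_evenOdd_one _ _
  | add x y hx hy ihx ihy =>
    rw [map_add]
    exact Submodule.add_mem _ ihx ihy
  | ι_mul_ι_mul m₁ m₂ x hx ih =>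
    rw [map_mul, map_mul, CliffordAlgebra.map_apply_ι, CliffordAlgebra.map_apply_ι]
    have := SetLike.mul_mem_graded (ι_mul_ι_mem_evenOdd_zero Q₂ (f m₁) (f m₂)) ih
    rwa [zero_add] at this

section line
variable (Qk : QuadraticForm R R)

theorem line_apply (r : R) : Qk r = r * r * Qk 1 := by
  have := QuadraticMap.map_smul Qk r 1
  rw [smul_eq_mul, mul_one, smul_eq_mul] at this
  exact this

/-- the Clifford algebra of a form of rank one to the quadratic algebra `R[ω]/(ω² = Qk 1)`. -/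
noncomputable def lineTo : CliffordAlgebra Qk →ₐ[R] QuadraticAlgebra R (Qk 1) 0 :=
  CliffordAlgebra.lift Qk ⟨LinearMap.toSpanSingleton R _ (QuadraticAlgebra.omega), fun r => by
    rw [LinearMap.toSpanSingleton_apply, smul_mul_smul_comm, QuadraticAlgebra.omega_mul_omega_eq_add,
      zero_smul, add_zero, line_apply Qk r, Algebra.algebraMap_eq_smul_one, smul_smul]⟩

@[simp] theorem lineTo_ι (r : R) : lineTo Qk (ι Qk r) = r • QuadraticAlgebra.omega := by
  rw [lineTo, CliffordAlgebra.lift_ι_apply, LinearMap.toSpanSingleton_apply]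

/-- the quadratic algebra to the Clifford algebra of a form of rank one. -/
noncomputable def lineOf : QuadraticAlgebra R (Qk 1) 0 →ₐ[R] CliffordAlgebra Qk :=
  QuadraticAlgebra.lift ⟨ι Qk 1, by
    rw [ι_sq_scalar, zero_smul, add_zero, Algebra.algebraMap_eq_smul_one]⟩

@[simp] theorem lineOf_omega : lineOf Qk QuadraticAlgebra.omega = ι Qk 1 := by
  simp [lineOf]

/-- `C(Qk) ≃ R[ω]/(ω² = Qk 1)` for a form of rank one. -/
noncomputable def lineEquiv : CliffordAlgebra Qk ≃ₐ[R] QuadraticAlgebra R (Qk 1) 0 :=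
  AlgEquiv.ofAlgHom (lineTo Qk) (lineOf Qk)
    (by
      apply QuadraticAlgebra.algHom_ext
      simp)
    (by
      apply CliffordAlgebra.hom_ext
      apply LinearMap.ext_ring
      simp)

@[simp] theorem lineEquiv_ι (r : R) : lineEquiv Qk (ι Qk r) = r • QuadraticAlgebra.omega :=
  lineTo_ι Qk r

@[simp] theorem lineEquiv_symm_omega : (lineEquiv Qk).symm QuadraticAlgebra.omega = ι Qk 1 :=
  lineOf_omega Qk

end line

end Groth.Agent.Lib.CliffOdd16

namespace Groth.Agent.Lib.CliffOdd16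
open QuadraticMap CliffordAlgebra TensorProduct

universe u v w

section coord
variable {R : Type u} [CommRing R] (A : Type v) [Ring A] [Algebra R A]
  {K : Type w} [CommRing K] [Algebra R K] {ι' : Type*} [Fintype ι'] [DecidableEq ι']
  (k : Module.Basis ι' R K)

/-- the `i`-th coordinate map `A ⊗ K → A`. -/
noncomputable def coordT (i : ι') : A ⊗[R] K →ₗ[R] A :=
  (TensorProduct.rid R A).toLinearMap ∘ₗ LinearMap.lTensor A (k.coord i)

@[simp] theorem coordT_tmul (i : ι') (a : A) (c : K) :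
    coordT A k i (a ⊗ₜ c) = (k.repr c i) • a := by
  simp [coordT]

theorem coordT_mul_left (i : ι') (y : A) (t : A ⊗[R] K) :
    coordT A k i ((y ⊗ₜ[R] (1 : K)) * t) = y * coordT A k i t := by
  induction t using TensorProduct.induction_on with
  | zero => simp
  | tmul a c => simp [Algebra.TensorProduct.tmul_mul_tmul]
  | add x y hx hy => rw [mul_add, map_add, hx, hy, map_add, mul_add]

theorem coordT_mul_right (i : ι') (y : A) (t : A ⊗[R] K) :
    coordT A k i (t * (y ⊗ₜ[R] (1 : K))) = coordT A k i t * y := by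
  induction t using TensorProduct.induction_on with
  | zero => simp
  | tmul a c => simp [Algebra.TensorProduct.tmul_mul_tmul]
  | add x y hx hy => rw [add_mul, map_add, hx, hy, map_add, add_mul]

theorem sum_coordT (t : A ⊗[R] K) : t = ∑ i, coordT A k i t ⊗ₜ[R] k i := by
  induction t using TensorProduct.induction_on with
  | zero => simp
  | tmul a c =>
    simp only [coordT_tmul]
    conv_lhs => rw [← k.sum_repr c, TensorProduct.tmul_sum]
    refine Finset.sum_congr rfl fun i _ => ?_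
    rw [TensorProduct.smul_tmul]
  | add x y hx hy =>
    simp only [map_add, TensorProduct.add_tmul, Finset.sum_add_distrib]
    rw [← hx, ← hy]

include k in
/-- the centraliser of `A ⊗ 1` in `A ⊗ K` is `1 ⊗ K` when the centre of `A` is `R`. -/
theorem exists_eq_one_tmul_of_comm
    (hA : ∀ a : A, (∀ y : A, a * y = y * a) → ∃ r : R, algebraMap R A r = a)
    (t : A ⊗[R] K) (ht : ∀ y : A, t * (y ⊗ₜ[R] (1 : K)) = (y ⊗ₜ[R] (1 : K)) * t) :
    ∃ c : K, t = (1 : A) ⊗ₜ[R] c := by
  have h1 : ∀ i, ∃ r : R, algebraMap R A r = coordT A k i t := by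
    intro i
    apply hA
    intro y
    rw [← coordT_mul_right, ht, coordT_mul_left]
  choose r hr using h1
  refine ⟨∑ i, r i • k i, ?_⟩
  conv_lhs => rw [sum_coordT A k t]
  rw [TensorProduct.tmul_sum]
  refine Finset.sum_congr rfl fun i _ => ?_
  rw [← hr, Algebra.algebraMap_eq_smul_one, TensorProduct.smul_tmul]

end coord

end Groth.Agent.Lib.CliffOdd16

namespace Groth.Agent.Lib.CliffOdd16
open QuadraticMap CliffordAlgebra TensorProduct

universe u v w

section data
variable {R : Type u} [CommRing R] {M : Type v} [AddCommGroup M] [Module R M]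

/-- `star` commutes with the map induced by an isometry. -/
theorem star_map {M₂ : Type w} [AddCommGroup M₂] [Module R M₂] {Q₁ : QuadraticForm R M}
    {Q₂ : QuadraticForm R M₂} (f : Q₁ →qᵢ Q₂) (x : CliffordAlgebra Q₁) :
    star (CliffordAlgebra.map f x) = CliffordAlgebra.map f (star x) := by
  induction x using CliffordAlgebra.induction with
  | algebraMap r => rw [AlgHom.commutes, CliffordAlgebra.star_algebraMap,
      CliffordAlgebra.star_algebraMap, AlgHom.commutes]
  | ι m => rw [CliffordAlgebra.map_apply_ι, star_ι, star_ι, map_neg, CliffordAlgebra.map_apply_ι]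
  | mul a b ha hb => rw [map_mul, star_mul, star_mul, ha, hb, map_mul]
  | add a b ha hb => rw [map_add, star_add, star_add, ha, hb, map_add]

/-- An even element anticommuting with all vectors, with unit square, for a form of rank `2m`. -/
structure WData (Q : QuadraticForm R M) (m : ℕ) where
  W : CliffordAlgebra Q
  δ : R
  unit : IsUnit δ
  even : W ∈ evenOdd Q 0
  anti : ∀ v, W * ι Q v = -(ι Q v * W)
  sq : W * W = algebraMap R _ δ
  star_W : star W = ((-1 : R) ^ m) • W

/-- The structure of the centre of the Clifford algebra of a semiregular form of rank `2m+1`. -/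
structure OddData (Q : QuadraticForm R M) (m : ℕ) where
  z : CliffordAlgebra Q
  κ : R
  unit : IsUnit κ
  odd : z ∈ evenOdd Q 1
  central : ∀ x, z * x = x * z
  sq : z * z = algebraMap R _ κ
  star_z : star z = ((-1 : R) ^ (m + 1)) • z
  centre : ∀ x : CliffordAlgebra Q, (∀ y, x * y = y * x) →
    ∃ r₀ r₁ : R, x = r₀ • (1 : CliffordAlgebra Q) + r₁ • z
  indep : ∀ r₀ r₁ : R, r₀ • (1 : CliffordAlgebra Q) + r₁ • z = 0 → r₀ = 0 ∧ r₁ = 0

/-- transport along an isometry equivalence. -/
noncomputable def OddData.map {M₂ : Type w} [AddCommGroup M₂] [Module R M₂] {Q₁ : QuadraticForm R M}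
    {Q₂ : QuadraticForm R M₂} {m : ℕ} (D : OddData Q₁ m) (e : Q₁.IsometryEquiv Q₂) :
    OddData Q₂ m where
  z := CliffordAlgebra.map e.toIsometry D.z
  κ := D.κ
  unit := D.unit
  odd := map_mem_evenOdd e.toIsometry 1 _ D.odd
  central := fun x => by
    obtain ⟨y, rfl⟩ := (equivOfIsometry e).surjective x
    change CliffordAlgebra.map e.toIsometry D.z * CliffordAlgebra.map e.toIsometry y =
      CliffordAlgebra.map e.toIsometry y * CliffordAlgebra.map e.toIsometry D.z
    rw [← map_mul, ← map_mul, D.central]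
  sq := by rw [← map_mul, D.sq, AlgHom.commutes]
  star_z := by rw [star_map, D.star_z, map_smul]
  centre := fun x hx => by
    obtain ⟨y, rfl⟩ := (equivOfIsometry e).surjective x
    obtain ⟨r₀, r₁, h⟩ := D.centre y (fun y' => by
      apply (equivOfIsometry e).injective
      rw [map_mul, map_mul]
      exact hx _)
    refine ⟨r₀, r₁, ?_⟩
    rw [h]
    change CliffordAlgebra.map e.toIsometry _ = _
    rw [map_add, map_smul, map_smul, map_one]
  indep := fun r₀ r₁ h => by
    apply D.indep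
    apply (equivOfIsometry e).injective
    rw [map_zero]
    change CliffordAlgebra.map e.toIsometry _ = _
    rw [map_add, map_smul, map_smul, map_one]
    exact h

variable {Q : QuadraticForm R M} {m : ℕ} (D : OddData Q m)

include D in
theorem OddData.algebraMap_injective : Function.Injective (algebraMap R (CliffordAlgebra Q)) := by
  rw [injective_iff_map_eq_zero]
  intro r hr
  refine (D.indep r 0 ?_).1
  rw [zero_smul, add_zero, ← Algebra.algebraMap_eq_smul_one, hr]

theorem OddData.isUnit_z : IsUnit D.z := by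
  obtain ⟨u, hu⟩ := D.unit
  have h1 : D.z * ((↑u⁻¹ : R) • D.z) = 1 := by
    rw [mul_smul_comm, D.sq, ← hu, Algebra.algebraMap_eq_smul_one, smul_smul, Units.inv_mul,
      one_smul]
  exact ⟨⟨D.z, (↑u⁻¹ : R) • D.z, h1, by rw [smul_mul_assoc, ← mul_smul_comm]; exact h1⟩, rfl⟩

include D in
/-- an even central element is a scalar. -/
theorem OddData.even_central (x : CliffordAlgebra Q) (hx : ∀ y, x * y = y * x)
    (h0 : x ∈ evenOdd Q 0) : ∃ r : R, x = algebraMap R _ r := by
  obtain ⟨r₀, r₁, h⟩ := D.centre x hx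
  have h1 : (x - r₀ • (1 : CliffordAlgebra Q)) + (-(r₁ • D.z)) = 0 := by rw [h]; abel
  have := Groth.Agent.Lib.CliffCentre16.even_odd_eq_zero Q _ _
    (Submodule.sub_mem _ h0 (Submodule.smul_mem _ _ (SetLike.one_mem_graded _)))
    (Submodule.neg_mem _ (Submodule.smul_mem _ _ D.odd)) h1
  refine ⟨r₀, ?_⟩
  rw [Algebra.algebraMap_eq_smul_one]
  exact sub_eq_zero.1 this.1

/-- an odd central element is a multiple of `z`. -/
theorem OddData.odd_central (x : CliffordAlgebra Q) (hx : ∀ y, x * y = y * x)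
    (h1 : x ∈ evenOdd Q 1) : ∃ r : R, x = r • D.z := by
  obtain ⟨r₀, r₁, h⟩ := D.centre x hx
  have h2 : (-(r₀ • (1 : CliffordAlgebra Q))) + (x - r₁ • D.z) = 0 := by rw [h]; abel
  have := Groth.Agent.Lib.CliffCentre16.even_odd_eq_zero Q _ _
    (Submodule.neg_mem _ (Submodule.smul_mem _ _ (SetLike.one_mem_graded _)))
    (Submodule.sub_mem _ h1 (Submodule.smul_mem _ _ D.odd)) h2
  exact ⟨r₁, sub_eq_zero.1 this.2⟩

end data

end Groth.Agent.Lib.CliffOdd16

namespace Groth.Agent.Lib.CliffOdd16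
open QuadraticMap CliffordAlgebra TensorProduct
open Groth.Agent.Lib.CliffTensor16

universe u v w

section prod
variable {R : Type u} [CommRing R] {N : Type v} [AddCommGroup N] [Module R N]
  (Q₁ : QuadraticForm R N) (Q₂ : QuadraticForm R R) {m : ℕ} (D : WData Q₁ m)

/-- the candidate central element of `C(Q₁ ⊥ Q₂)`. -/
noncomputable def zProd : CliffordAlgebra (Q₁.prod Q₂) :=
  bwd₁ Q₁ Q₂ D.W * ι (Q₁.prod Q₂) (0, 1)

theorem zProd_odd : zProd Q₁ Q₂ D ∈ evenOdd (Q₁.prod Q₂) 1 := by
  have h := SetLike.mul_mem_graded (map_mem_evenOdd (QuadraticMap.Isometry.inl Q₁ Q₂) 0 _ D.even)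
    (ι_mem_evenOdd_one (Q₁.prod Q₂) (0, 1))
  rwa [zero_add] at h

theorem zProd_comm_ι (p : N × R) :
    zProd Q₁ Q₂ D * ι (Q₁.prod Q₂) p = ι (Q₁.prod Q₂) p * zProd Q₁ Q₂ D := by
  obtain ⟨n, r⟩ := p
  have hp : ((n, r) : N × R) = (n, 0) + r • ((0 : N), (1 : R)) := by
    simp
  have h1 : zProd Q₁ Q₂ D * ι (Q₁.prod Q₂) (n, 0) = ι (Q₁.prod Q₂) (n, 0) * zProd Q₁ Q₂ D := by
    have ha : bwd₁ Q₁ Q₂ D.W * ι (Q₁.prod Q₂) (n, 0) =
        -(ι (Q₁.prod Q₂) (n, 0) * bwd₁ Q₁ Q₂ D.W) := by
      rw [← bwd₁_ι, ← map_mul, D.anti, map_neg, map_mul]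
    rw [zProd, mul_assoc, ← neg_neg (ι (Q₁.prod Q₂) ((0 : N), (1 : R)) * _), ← ι_inl_mul_ι_inr,
      mul_neg, ← mul_assoc, ha, neg_mul, neg_neg, mul_assoc]
  have h2 : zProd Q₁ Q₂ D * ι (Q₁.prod Q₂) ((0 : N), (1 : R)) =
      ι (Q₁.prod Q₂) (0, 1) * zProd Q₁ Q₂ D := by
    have hc := (commute_bwd₁_w Q₁ Q₂ D.W D.even (1 : R)).eq
    rw [zProd, ← mul_assoc, ← hc]
  rw [hp, map_add, map_smul, mul_add, add_mul, mul_smul_comm, smul_mul_assoc, h1, h2]

theorem zProd_central (x : CliffordAlgebra (Q₁.prod Q₂)) :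
    zProd Q₁ Q₂ D * x = x * zProd Q₁ Q₂ D := by
  have := commute_of_generators (AlgHom.id R (CliffordAlgebra (Q₁.prod Q₂))) (zProd Q₁ Q₂ D)
    (fun p => (zProd_comm_ι Q₁ Q₂ D p).symm) x
  exact this.eq.symm

theorem zProd_sq : zProd Q₁ Q₂ D * zProd Q₁ Q₂ D = algebraMap R _ (D.δ * Q₂ 1) := by
  have hc := (commute_bwd₁_w Q₁ Q₂ D.W D.even (1 : R)).eq
  have h1 : zProd Q₁ Q₂ D * zProd Q₁ Q₂ D =
      bwd₁ Q₁ Q₂ (D.W * D.W) * (ι (Q₁.prod Q₂) (0, 1) * ι (Q₁.prod Q₂) (0, 1)) := by
    rw [zProd, map_mul, mul_assoc, ← mul_assoc (ι (Q₁.prod Q₂) ((0 : N), (1 : R))), ← hc]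
    simp only [mul_assoc]
  rw [h1, D.sq, AlgHom.commutes, ι_sq_scalar, ← map_mul]
  congr 1
  simp

theorem zProd_star : star (zProd Q₁ Q₂ D) = ((-1 : R) ^ (m + 1)) • zProd Q₁ Q₂ D := by
  have hc := (commute_bwd₁_w Q₁ Q₂ D.W D.even (1 : R)).eq
  rw [zProd, star_mul, star_ι, bwd₁, star_map, D.star_W, map_smul, neg_mul, mul_smul_comm,
    ← bwd₁, ← hc, pow_succ, mul_neg_one, neg_smul]

end prod

end Groth.Agent.Lib.CliffOdd16

namespace Groth.Agent.Lib.CliffOdd16
open QuadraticMap CliffordAlgebra TensorProduct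
open Groth.Agent.Lib.CliffTensor16

universe u v w

section prod
variable {R : Type u} [CommRing R] {N : Type v} [AddCommGroup N] [Module R N]
  (Q₁ : QuadraticForm R N) (Q₂ : QuadraticForm R R) {m : ℕ} (D : WData Q₁ m)
  (di : R) (hd : D.δ * di = 1)

/-- `C(Q₁ ⊥ Q₂) ≃ C(Q₁) ⊗ R[ω]/(ω² = δ⁻¹ Q₂ 1)`. -/
noncomputable def thetaEquiv : CliffordAlgebra (Q₁.prod Q₂) ≃ₐ[R]
    CliffordAlgebra Q₁ ⊗[R] QuadraticAlgebra R ((di • Q₂) 1) 0 :=
  (tensorEquiv Q₁ Q₂ D.W D.δ di D.even D.anti D.sq hd).trans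
    (Algebra.TensorProduct.congr AlgEquiv.refl (lineEquiv (di • Q₂)))

theorem tensorEquiv_apply' (x : CliffordAlgebra (Q₁.prod Q₂)) :
    tensorEquiv Q₁ Q₂ D.W D.δ di D.even D.anti D.sq hd x =
      fwd Q₁ Q₂ D.W D.δ di D.anti D.sq hd x := rfl

theorem thetaEquiv_bwd₁ (y : CliffordAlgebra Q₁) :
    thetaEquiv Q₁ Q₂ D di hd (bwd₁ Q₁ Q₂ y) = y ⊗ₜ 1 := by
  rw [thetaEquiv, AlgEquiv.trans_apply]
  change (Algebra.TensorProduct.congr (AlgEquiv.refl : CliffordAlgebra Q₁ ≃ₐ[R] CliffordAlgebra Q₁) (lineEquiv (di • Q₂)))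
    (fwd Q₁ Q₂ D.W D.δ di D.anti D.sq hd (bwd₁ Q₁ Q₂ y)) = _
  rw [fwd_bwd₁]
  simp

theorem thetaEquiv_zProd :
    thetaEquiv Q₁ Q₂ D di hd (zProd Q₁ Q₂ D) = D.δ • ((1 : CliffordAlgebra Q₁) ⊗ₜ QuadraticAlgebra.omega) := by
  rw [zProd, map_mul, thetaEquiv_bwd₁, thetaEquiv, AlgEquiv.trans_apply, tensorEquiv_apply',
    fwd_ι, map_add]
  simp only [Algebra.TensorProduct.congr_apply, Algebra.TensorProduct.map_tmul, map_zero,
    TensorProduct.zero_tmul, zero_add,
    AlgHom.coe_coe, lineEquiv_ι, one_smul,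
    Algebra.TensorProduct.tmul_mul_tmul, one_mul]
  have : ((AlgEquiv.refl : CliffordAlgebra Q₁ ≃ₐ[R] CliffordAlgebra Q₁) : CliffordAlgebra Q₁ →ₐ[R] CliffordAlgebra Q₁) D.W = D.W := rfl
  have h2 : ((lineEquiv (di • Q₂) :
      CliffordAlgebra (di • Q₂) ≃ₐ[R] QuadraticAlgebra R ((di • Q₂) 1) 0) :
      CliffordAlgebra (di • Q₂) →ₐ[R] QuadraticAlgebra R ((di • Q₂) 1) 0) (ι (di • Q₂) 1) =
      QuadraticAlgebra.omega := by
    change lineEquiv (di • Q₂) (ι (di • Q₂) 1) = _
    rw [lineEquiv_ι, one_smul]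
  rw [this, h2, D.sq, Algebra.algebraMap_eq_smul_one, TensorProduct.smul_tmul']

end prod

end Groth.Agent.Lib.CliffOdd16

namespace Groth.Agent.Lib.CliffOdd16
open QuadraticMap CliffordAlgebra TensorProduct
open Groth.Agent.Lib.CliffTensor16

universe u v w

section prod
variable {R : Type u} [CommRing R] {N : Type v} [AddCommGroup N] [Module R N]
  (Q₁ : QuadraticForm R N) (Q₂ : QuadraticForm R R) {m : ℕ} (D : WData Q₁ m)
  (di : R) (hd : D.δ * di = 1)

include hd in
theorem centre_prod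
    (hA : ∀ a : CliffordAlgebra Q₁, (∀ y, a * y = y * a) → ∃ r : R, algebraMap R _ r = a)
    (x : CliffordAlgebra (Q₁.prod Q₂)) (hx : ∀ y, x * y = y * x) :
    ∃ r₀ r₁ : R, x = r₀ • (1 : CliffordAlgebra (Q₁.prod Q₂)) + r₁ • zProd Q₁ Q₂ D := by
  set Θ := thetaEquiv Q₁ Q₂ D di hd with hΘ
  obtain ⟨c, hc⟩ := exists_eq_one_tmul_of_comm (CliffordAlgebra Q₁)
    (QuadraticAlgebra.basis ((di • Q₂) 1) 0) hA (Θ x) (fun y => by
      rw [← thetaEquiv_bwd₁ Q₁ Q₂ D di hd, ← map_mul, ← map_mul, hx])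
  refine ⟨c.re, c.im * di, ?_⟩
  apply Θ.injective
  rw [hc, map_add, map_smul, map_smul, map_one Θ, thetaEquiv_zProd, smul_smul]
  have h1 : c.im * di * D.δ = c.im := by rw [mul_assoc, mul_comm di, hd, mul_one]
  rw [h1, Algebra.TensorProduct.one_def, ← TensorProduct.tmul_smul, ← TensorProduct.tmul_smul,
    ← TensorProduct.tmul_add]
  congr 1
  obtain ⟨c₀, c₁⟩ := c
  change (⟨c₀, c₁⟩ : QuadraticAlgebra R ((di • Q₂) 1) 0) = c₀ • 1 + c₁ • QuadraticAlgebra.omega
  rw [QuadraticAlgebra.mk_eq_add_smul_omega, Algebra.algebraMap_eq_smul_one]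

include hd in
theorem indep_prod (hinj : Function.Injective (algebraMap R (CliffordAlgebra Q₁)))
    (r₀ r₁ : R)
    (h : r₀ • (1 : CliffordAlgebra (Q₁.prod Q₂)) + r₁ • zProd Q₁ Q₂ D = 0) :
    r₀ = 0 ∧ r₁ = 0 := by
  have h1 := congrArg (thetaEquiv Q₁ Q₂ D di hd) h
  rw [map_add, map_smul, map_smul, map_one (thetaEquiv Q₁ Q₂ D di hd), thetaEquiv_zProd, map_zero, smul_smul,
    Algebra.TensorProduct.one_def] at h1
  have k0 := congrArg (coordT (CliffordAlgebra Q₁) (QuadraticAlgebra.basis ((di • Q₂) 1) 0) 0) h1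
  have k1 := congrArg (coordT (CliffordAlgebra Q₁) (QuadraticAlgebra.basis ((di • Q₂) 1) 0) 1) h1
  simp only [map_add, map_smul, coordT_tmul, QuadraticAlgebra.basis_repr_apply, map_zero] at k0 k1
  simp only [QuadraticAlgebra.re_one, QuadraticAlgebra.im_one, QuadraticAlgebra.omega_re,
    QuadraticAlgebra.omega_im, Matrix.cons_val_zero, Matrix.cons_val_one, one_smul, zero_smul,
    smul_zero, add_zero, zero_add] at k0 k1
  have hr0 : r₀ = 0 := by
    apply hinj
    rw [map_zero, Algebra.algebraMap_eq_smul_one]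
    exact k0
  refine ⟨hr0, ?_⟩
  have h2 : r₁ * D.δ = 0 := by
    apply hinj
    rw [map_zero, Algebra.algebraMap_eq_smul_one]
    exact k1
  have := congrArg (fun t => t * di) h2
  simpa [mul_assoc, hd] using this

end prod

end Groth.Agent.Lib.CliffOdd16

namespace Groth.Agent.Lib.CliffOdd16
open QuadraticMap CliffordAlgebra TensorProduct
open Groth.Agent.Lib.CliffTensor16 Groth.Agent.Lib.QuadPlane16 Groth.Agent.Lib.CliffCentre16

universe u v w

section prod
variable {R : Type u} [CommRing R] {N : Type v} [AddCommGroup N] [Module R N]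
  (Q₁ : QuadraticForm R N) (Q₂ : QuadraticForm R R) {m : ℕ} (D : WData Q₁ m)

/-- the centre of `C(Q₁ ⊥ Q₂)`, `Q₁` of rank `2m` with `WData`, `Q₂` of rank one, nondegenerate. -/
noncomputable def oddDataProd (h2 : IsUnit (Q₂ 1))
    (hA : ∀ a : CliffordAlgebra Q₁, (∀ y, a * y = y * a) → ∃ r : R, algebraMap R _ r = a)
    (hinj : Function.Injective (algebraMap R (CliffordAlgebra Q₁))) :
    OddData (Q₁.prod Q₂) m where
  z := zProd Q₁ Q₂ D
  κ := D.δ * Q₂ 1
  unit := D.unit.mul h2
  odd := zProd_odd Q₁ Q₂ D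
  central := zProd_central Q₁ Q₂ D
  sq := zProd_sq Q₁ Q₂ D
  star_z := zProd_star Q₁ Q₂ D
  centre := centre_prod Q₁ Q₂ D (↑D.unit.unit⁻¹ : R) (by
    have := D.unit.unit.mul_inv
    rwa [IsUnit.unit_spec] at this) hA
  indep := indep_prod Q₁ Q₂ D (↑D.unit.unit⁻¹ : R) (by
    have := D.unit.unit.mul_inv
    rwa [IsUnit.unit_spec] at this) hinj

end prod

section step
variable {R : Type u} [CommRing R] {M : Type v} [AddCommGroup M] [Module R M]
  (Q : QuadraticForm R M) (e f : M) (di : R) (hdi : delta Q e f * di = 1)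

theorem star_wElt : star (wElt Q e f) = -wElt Q e f := by
  rw [wElt, star_sub, star_mul, star_mul, star_ι, star_ι]
  simp only [neg_mul, mul_neg, neg_neg]
  abel

include hdi in
/-- One step: `WData` for `(e,f)^⊥` gives `WData` for `M`. -/
theorem wData_step {m : ℕ} (DN : WData (Q.comp (perp Q e f).subtype) m) :
    Nonempty (WData Q (m + 1)) := by
  set N := perp Q e f with hN
  set W₁ := inclMap Q N DN.W with hW₁
  set w := wElt Q e f with hw
  have hperp : ∀ n : N, polar Q e (n : M) = 0 ∧ polar Q f (n : M) = 0 :=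
    fun n => (mem_perp Q e f n).1 n.2
  have ge : ι Q e * W₁ = W₁ * ι Q e :=
    ι_comm_inclMap_even Q N e (fun n => (hperp n).1) DN.W DN.even
  have gf : ι Q f * W₁ = W₁ * ι Q f :=
    ι_comm_inclMap_even Q N f (fun n => (hperp n).2) DN.W DN.even
  have gw : w * W₁ = W₁ * w := by
    rw [hw, wElt, sub_mul, mul_sub, mul_assoc, ge, ← mul_assoc, gf, mul_assoc, mul_assoc, gf,
      ← mul_assoc (ι Q e), ge, mul_assoc]
  have gn : ∀ n : N, W₁ * ι Q (n : M) = -(ι Q (n : M) * W₁) := by
    intro n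
    have := congrArg (inclMap Q N) (DN.anti n)
    simpa only [map_mul, map_neg, inclMap_ι] using this
  have hW₁0 : W₁ ∈ evenOdd Q 0 := inclMap_mem_evenOdd Q N 0 _ DN.even
  refine ⟨{ W := W₁ * w
            δ := DN.δ * delta Q e f
            unit := DN.unit.mul (IsUnit.of_mul_eq_one _ hdi)
            even := ?_, anti := ?_, sq := ?_, star_W := ?_ }⟩
  · have := SetLike.mul_mem_graded hW₁0 (wElt_mem_even Q e f)
    rwa [zero_add] at this
  · intro v
    obtain ⟨p, n, rfl⟩ := exists_decomp Q e f di hdi v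
    have he : W₁ * w * ι Q e = -(ι Q e * (W₁ * w)) := by
      rw [mul_assoc, hw, wElt_anti_e, mul_neg, ← mul_assoc, ← ge, mul_assoc]
    have hf : W₁ * w * ι Q f = -(ι Q f * (W₁ * w)) := by
      rw [mul_assoc, hw, wElt_anti_f, mul_neg, ← mul_assoc, ← gf, mul_assoc]
    have hn : W₁ * w * ι Q (n : M) = -(ι Q (n : M) * (W₁ * w)) := by
      rw [mul_assoc, hw, wElt_comm_perp Q e f n (hperp n).1 (hperp n).2, ← mul_assoc, gn n,
        neg_mul, mul_assoc]
    rw [planeMap_apply, map_add, map_add, map_smul, map_smul, mul_add, mul_add, add_mul, add_mul,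
      mul_smul_comm, mul_smul_comm, smul_mul_assoc, smul_mul_assoc, he, hf, hn]
    simp only [smul_neg, neg_add]
  · have h1 : W₁ * w * (W₁ * w) = (W₁ * W₁) * (w * w) := by
      rw [mul_assoc, ← mul_assoc w, gw]
      simp only [mul_assoc]
    have h2 : W₁ * W₁ = algebraMap R _ DN.δ := by
      rw [hW₁, ← map_mul, DN.sq, AlgHom.commutes]
    rw [h1, h2, hw, wElt_sq, ← map_mul]
  · have h1 : star W₁ = ((-1 : R) ^ m) • W₁ := by
      rw [hW₁, inclMap, star_map, DN.star_W, map_smul]
    rw [star_mul, hw, star_wElt, h1, neg_mul, mul_smul_comm, ← hw, gw, pow_succ, mul_neg_one,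
      neg_smul]

end step

theorem wData_of_subsingleton {R : Type u} [CommRing R] {M : Type v} [AddCommGroup M]
    [Module R M] [Subsingleton M] (Q : QuadraticForm R M) : Nonempty (WData Q 0) :=
  ⟨{ W := 1, δ := 1
     unit := isUnit_one
     even := SetLike.one_mem_graded _
     anti := fun v => by rw [Subsingleton.elim v 0]; simp
     sq := by simp
     star_W := by simp }⟩

/-- Over a local ring, a regular form of rank `2m` has `WData`. -/
theorem exists_wData {R : Type u} [CommRing R] [IsLocalRing R] :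
    ∀ (m : ℕ) (M : Type v) [AddCommGroup M] [Module R M] [Module.Free R M] [Module.Finite R M]
      (Q : QuadraticForm R M), Module.finrank R M = 2 * m → QuadGrp.IsRegular Q →
      Nonempty (WData Q m) := by
  intro m
  induction m with
  | zero =>
    intro M _ _ _ _ Q hM _
    have : Subsingleton M := (Module.finrank_eq_zero_iff_of_free R M).1 (by simpa using hM)
    exact wData_of_subsingleton Q
  | succ m ih =>
    intro M _ _ _ _ Q hM hQ
    obtain ⟨e, f, hδ⟩ := exists_isUnit_delta Q hQ (by omega)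
    obtain ⟨u, hu⟩ := hδ
    have hdi : delta Q e f * (↑u⁻¹ : R) = 1 := by rw [← hu, Units.mul_inv]
    have hfin := finite_perp Q e f _ hdi
    have hproj := projective_perp Q e f _ hdi
    have hfree : Module.Free R (perp Q e f) := Module.free_of_flat_of_isLocalRing
    obtain ⟨DN⟩ := ih (perp Q e f) (Q.comp (perp Q e f).subtype)
      (by have := Groth.Agent.Lib.CliffAz16.finrank_perp Q e f _ hdi; omega)
      (isRegular_perp Q e f _ hdi hQ)
    exact wData_step Q e f _ hdi DN

end Groth.Agent.Lib.CliffOdd16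

namespace Groth.Agent.Lib.CliffOdd16
open QuadraticMap CliffordAlgebra TensorProduct
open Groth.Agent.Lib.CliffTensor16 Groth.Agent.Lib.QuadPlane16 Groth.Agent.Lib.CliffCentre16
open Groth.Agent.Lib.HalfDisc16

universe u v w

section split
variable {R : Type u} [CommRing R] {M : Type v} [AddCommGroup M] [Module R M]
  (Q : QuadraticForm R M) {N : Type w} [AddCommGroup N] [Module R N] {L : Type*} [AddCommGroup L]
  [Module R L] (Φ : (N × L) ≃ₗ[R] M)

/-- restriction of `Q` to the first factor. -/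
def formL : QuadraticForm R N := Q.comp (Φ.toLinearMap ∘ₗ LinearMap.inl R N L)
/-- restriction of `Q` to the second factor. -/
def formR : QuadraticForm R L := Q.comp (Φ.toLinearMap ∘ₗ LinearMap.inr R N L)

@[simp] theorem formL_apply (n : N) : formL Q Φ n = Q (Φ (n, 0)) := rfl
@[simp] theorem formR_apply (l : L) : formR Q Φ l = Q (Φ (0, l)) := rfl

/-- an orthogonal decomposition as an isometry equivalence. -/
def splitIso (h : ∀ n l, polar Q (Φ (n, 0)) (Φ (0, l)) = 0) :
    ((formL Q Φ).prod (formR Q Φ)).IsometryEquiv Q :=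
  { Φ with
    map_app' := by
      rintro ⟨n, l⟩
      have h1 : Φ (n, l) = Φ (n, 0) + Φ (0, l) := by
        rw [← map_add]; simp
      have h2 := h n l
      rw [polar] at h2
      change Q (Φ (n, l)) = _
      rw [QuadraticMap.prod_apply, formL_apply, formR_apply, h1]
      linear_combination h2 }

@[simp] theorem splitIso_apply (h : ∀ n l, polar Q (Φ (n, 0)) (Φ (0, l)) = 0) (p : N × L) :
    splitIso Q Φ h p = Φ p := rfl

theorem polar_formL (x y : N) : polar (formL Q Φ) x y = polar Q (Φ (x, 0)) (Φ (y, 0)) := by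
  simp only [polar, formL_apply]
  have : Φ (x + y, 0) = Φ (x, 0) + Φ (y, 0) := by rw [← map_add]; simp
  rw [this]

end split

section basis
variable {R : Type u} [CommRing R] {M : Type v} [AddCommGroup M] [Module R M]
  (Q : QuadraticForm R M) {k : ℕ} (b : Module.Basis (Fin (k + 1)) R M)

/-- `(Fin k → R) × R ≃ M` from a basis indexed by `Fin (k+1)`. -/
noncomputable def basisSplit : ((Fin k → R) × R) ≃ₗ[R] M :=
  (LinearEquiv.prodComm R (Fin k → R) R).trans
    ((Fin.consLinearEquiv R (fun _ : Fin (k + 1) => R)).trans b.equivFun.symm)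

theorem basisSplit_apply (x : Fin k → R) (r : R) :
    basisSplit b (x, r) = r • b 0 + ∑ j, x j • b j.succ := by
  simp only [basisSplit, LinearEquiv.trans_apply, LinearEquiv.prodComm_apply, Prod.swap_prod_mk,
    Fin.consLinearEquiv_apply, Module.Basis.equivFun_symm_apply]
  rw [Fin.sum_univ_succ]
  simp

theorem basisSplit_inl_single (j : Fin k) :
    basisSplit b (Pi.single j 1, 0) = b j.succ := by
  classical
  rw [basisSplit_apply, zero_smul, zero_add, Finset.sum_eq_single j]
  · simp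
  · intro i _ hij
    simp [Pi.single_apply, hij]
  · simp

theorem basisSplit_inr_one : basisSplit b ((0 : Fin k → R), (1 : R)) = b 0 := by
  rw [basisSplit_apply]; simp

theorem basisSplit_orth (h : ∀ j : Fin k, polar Q (b 0) (b j.succ) = 0) (x : Fin k → R) (r : R) :
    polar Q (basisSplit b (x, 0)) (basisSplit b (0, r)) = 0 := by
  rw [basisSplit_apply, basisSplit_apply]
  simp only [zero_smul, zero_add, Pi.zero_apply, Finset.sum_const_zero, add_zero]
  rw [← polarBilin_apply_apply, map_sum, LinearMap.sum_apply]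
  refine Finset.sum_eq_zero fun j _ => ?_
  simp only [map_smul, LinearMap.smul_apply, polarBilin_apply_apply, smul_eq_mul]
  rw [polar_comm, h j]
  simp

theorem gram_formL :
    gram (formL Q (basisSplit b)) (Pi.basisFun R (Fin k)) =
      (gramFam Q (fun j : Fin k => b j.succ)).transpose := by
  ext i j
  simp only [gram, Matrix.of_apply, Matrix.transpose_apply, gramFam, Pi.basisFun_apply,
    polar_formL]
  rw [basisSplit_inl_single, basisSplit_inl_single]

end basis

end Groth.Agent.Lib.CliffOdd16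

namespace Groth.Agent.Lib.CliffOdd16
open QuadraticMap CliffordAlgebra TensorProduct
open Groth.Agent.Lib.CliffTensor16 Groth.Agent.Lib.QuadPlane16 Groth.Agent.Lib.CliffCentre16
open Groth.Agent.Lib.HalfDisc16

universe u v w

/-- **Structure of the centre in odd rank over a local ring.** -/
theorem exists_oddData {R : Type u} [CommRing R] [IsLocalRing R] {M : Type v} [AddCommGroup M]
    [Module R M] (m : ℕ) (b : Module.Basis (Fin (2 * m + 1)) R M) (Q : QuadraticForm R M)
    (hQ : QuadGrp.IsSemiregular b (LinearEquiv.refl R R) Q) : Nonempty (OddData Q m) := by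
  obtain ⟨b', horth, hu0, hudet⟩ := Groth.Agent.Lib.OddDecomp16.exists_orth_basis m b Q hQ
  set Φ := basisSplit b' with hΦ
  set Q₁ := formL Q Φ with hQ₁
  set Q₂ := formR Q Φ with hQ₂
  have hreg : QuadGrp.IsRegular Q₁ := by
    rw [isRegular_iff_isUnit_det Q₁ (Pi.basisFun R (Fin (2 * m))), hQ₁, hΦ, gram_formL,
      Matrix.det_transpose]
    exact hudet
  have hrank : Module.finrank R (Fin (2 * m) → R) = 2 * m := by simp
  obtain ⟨D⟩ := exists_wData m (Fin (2 * m) → R) Q₁ hrank hreg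
  have hAz := Groth.Agent.Lib.CliffAz16.isAzumaya_clifford Q₁ m hrank hreg
  have h2 : IsUnit (Q₂ 1) := by
    rw [hQ₂, formR_apply, hΦ, basisSplit_inr_one]; exact hu0
  exact ⟨(oddDataProd Q₁ Q₂ D h2
    (fun a ha => Groth.Agent.Lib.Azumaya16.mem_range_algebraMap_of_central a ha)
    (algebraMap_injective_of_free Q₁)).map (splitIso Q Φ (basisSplit_orth Q b' horth))⟩

end Groth.Agent.Lib.CliffOdd16

namespace Groth.Agent.Lib.CliffOdd16
open QuadraticMap CliffordAlgebra TensorProduct
open Groth.Agent.Lib.CliffTensor16 Groth.Agent.Lib.QuadPlane16 Groth.Agent.Lib.CliffCentre16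
open Groth.Agent.Lib.HalfDisc16

universe u v w

/-- S16999. -/
theorem main_S16999 {R : Type u} [CommRing R] [IsLocalRing R]
    {M : Type v} [AddCommGroup M] [Module R M]
    (m : ℕ) (b : Module.Basis (Fin (2 * m + 1)) R M) (Q : QuadraticForm R M)
    (hQ : QuadGrp.IsSemiregular b (LinearEquiv.refl R R) Q) :
    ∃ z : CliffordAlgebra Q, z ∈ Subalgebra.center R (CliffordAlgebra Q) ∧ z ∈ CliffordAlgebra.evenOdd Q 1 ∧ IsUnit z ∧
      z * z ∈ (algebraMap R (CliffordAlgebra Q)).range ∧ LinearIndependent R ![(1 : CliffordAlgebra Q), z] ∧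
      Subalgebra.toSubmodule (Subalgebra.center R (CliffordAlgebra Q)) = Submodule.span R {1, z} := by
  obtain ⟨D⟩ := exists_oddData m b Q hQ
  refine ⟨D.z, ?_, D.odd, D.isUnit_z, ⟨D.κ, D.sq.symm⟩, ?_, ?_⟩
  · rw [Subalgebra.mem_center_iff]
    exact fun x => (D.central x).symm
  · rw [LinearIndependent.pair_iff]
    exact D.indep
  · ext x
    rw [Subalgebra.mem_toSubmodule, Subalgebra.mem_center_iff, Submodule.mem_span_pair]
    constructor
    · intro hx
      obtain ⟨r₀, r₁, h⟩ := D.centre x (fun y => (hx y).symm)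
      exact ⟨r₀, r₁, h.symm⟩
    · rintro ⟨r₀, r₁, rfl⟩ y
      rw [mul_add, add_mul, mul_smul_comm, mul_smul_comm, smul_mul_assoc, smul_mul_assoc, mul_one,
        one_mul, D.central]

end Groth.Agent.Lib.CliffOdd16
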