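import Groth.Agent.Lib.CliffOdd16
import Groth.Agent.Lib.CliffDet16

/-!
# GPin' = centre × GSpin in odd rank over a local ring (helper16)

`mem_GSpin_of_even_conj`, `factor_of_even`, `factor_of_odd`, `exists_unit_of_parts`, `intertwine_parts`,
`scalar_of_intertwine`, `factor_of_conj` (any unit whose conjugation induces a linear automorphism of `M` is a
central unit times a point of `GSpin`, given `OddData`), `main_S16996`.
-/

set_option autoImplicit false
set_option linter.style.haveILetI false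
set_option linter.unusedSectionVars false
set_option linter.unusedSimpArgs false
set_option linter.unusedVariables false

namespace Groth.Agent.Lib.CliffOddGrp16
open QuadraticMap CliffordAlgebra TensorProduct
open Groth.Agent.Lib.CliffCentre16 Groth.Agent.Lib.CliffOdd16 Groth.Agent.Lib.CliffGPin16

universe u v w

section
variable {R : Type u} [CommRing R] {M : Type v} [AddCommGroup M] [Module R M]
  {Q : QuadraticForm R M}

/-- an even unit whose conjugation induces `g` on vectors lies in `GSpin`. -/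
theorem mem_GSpin_of_even_conj (U : (CliffordAlgebra Q)ˣ) (g : M ≃ₗ[R] M)
    (hU0 : (U : CliffordAlgebra Q) ∈ evenOdd Q 0)
    (hU : ∀ v : M, (U : CliffordAlgebra Q) * ι Q v * ↑U⁻¹ = ι Q (g v)) : U ∈ QuadGrp.GSpin Q := by
  refine ⟨⟨mem_GPin'_of_conj Q U g hU, ?_⟩, hU0⟩
  refine ⟨1, IsIdempotentElem.one, ?_, ?_⟩
  · rw [one_smul]; exact hU0
  · rw [sub_self, zero_smul]; exact Submodule.zero_mem _

/-- Lemma A: if an even unit induces the same conjugation on vectors as `u'`, then `u'` is a central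
unit times an element of `GSpin`. -/
theorem factor_of_even (u' U : (CliffordAlgebra Q)ˣ) (g : M ≃ₗ[R] M)
    (hu' : ∀ v : M, (u' : CliffordAlgebra Q) * ι Q v * ↑u'⁻¹ = ι Q (g v))
    (hU0 : (U : CliffordAlgebra Q) ∈ evenOdd Q 0)
    (hU : ∀ v : M, (U : CliffordAlgebra Q) * ι Q v * ↑U⁻¹ = ι Q (g v)) :
    ∃ z : CliffordAlgebra Q, z ∈ Subalgebra.center R (CliffordAlgebra Q) ∧ IsUnit z ∧
      ∃ u ∈ QuadGrp.GSpin Q, (u' : CliffordAlgebra Q) = z * u := by
  refine ⟨((u' * U⁻¹ : (CliffordAlgebra Q)ˣ) : CliffordAlgebra Q), ?_, Units.isUnit _, U,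
    mem_GSpin_of_even_conj U g hU0 hU, ?_⟩
  · rw [Subalgebra.mem_center_iff]
    have hgen : ∀ w : M, Commute (ι Q w) ((u' * U⁻¹ : (CliffordAlgebra Q)ˣ) : CliffordAlgebra Q) := by
      intro w
      obtain ⟨v, rfl⟩ := g.surjective w
      change _ * _ = _ * _
      have h1 : (↑U⁻¹ : CliffordAlgebra Q) * ι Q (g v) = ι Q v * ↑U⁻¹ := by
        rw [← hU v]; simp [mul_assoc]
      have h2 : ι Q (g v) * (u' : CliffordAlgebra Q) = ↑u' * ι Q v := by
        rw [← hu' v]; simp [mul_assoc]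
      rw [Units.val_mul, ← mul_assoc, h2, mul_assoc, mul_assoc, h1]
    intro x
    exact (Groth.Agent.Lib.CliffTensor16.commute_of_generators
      (AlgHom.id R (CliffordAlgebra Q)) _ hgen x).eq
  · rw [Units.val_mul, mul_assoc, Units.inv_mul, mul_one]

variable {m : ℕ} (D : OddData Q m)

include D in
/-- Lemma B: the same with an odd unit. -/
theorem factor_of_odd (u' U : (CliffordAlgebra Q)ˣ) (g : M ≃ₗ[R] M)
    (hu' : ∀ v : M, (u' : CliffordAlgebra Q) * ι Q v * ↑u'⁻¹ = ι Q (g v))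
    (hU1 : (U : CliffordAlgebra Q) ∈ evenOdd Q 1)
    (hU : ∀ v : M, (U : CliffordAlgebra Q) * ι Q v * ↑U⁻¹ = ι Q (g v)) :
    ∃ z : CliffordAlgebra Q, z ∈ Subalgebra.center R (CliffordAlgebra Q) ∧ IsUnit z ∧
      ∃ u ∈ QuadGrp.GSpin Q, (u' : CliffordAlgebra Q) = z * u := by
  obtain ⟨Z, hZ⟩ := D.isUnit_z
  refine factor_of_even u' (U * Z) g hu' ?_ ?_
  · rw [Units.val_mul, hZ]
    have := SetLike.mul_mem_graded hU1 D.odd
    exact this
  · intro v
    rw [mul_inv_rev, Units.val_mul, Units.val_mul]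
    have h1 : (Z : CliffordAlgebra Q) * ι Q v = ι Q v * Z := by rw [hZ, D.central]
    calc (U : CliffordAlgebra Q) * ↑Z * ι Q v * (↑Z⁻¹ * ↑U⁻¹)
        = ↑U * (ι Q v * (↑Z * ↑Z⁻¹)) * ↑U⁻¹ := by
          rw [mul_assoc (U : CliffordAlgebra Q), h1]; simp only [mul_assoc]
      _ = ι Q (g v) := by rw [Units.mul_inv, mul_one, hU]

end

end Groth.Agent.Lib.CliffOddGrp16

namespace Groth.Agent.Lib.CliffOddGrp16
open QuadraticMap CliffordAlgebra TensorProduct
open Groth.Agent.Lib.CliffCentre16 Groth.Agent.Lib.CliffOdd16 Groth.Agent.Lib.CliffGPin16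

universe u v w

section
variable {R : Type u} [CommRing R] {A : Type v} [Ring A] [Algebra R A]

theorem exists_unit_of_parts (hinj : Function.Injective (algebraMap R A)) (a b : A) (r s : R)
    (hab : a * b = algebraMap R A r) (hba : b * a = algebraMap R A s) (hr : IsUnit r) :
    ∃ (U : Aˣ) (ri : R), (U : A) = a ∧ (↑U⁻¹ : A) = ri • b ∧ ri * r = 1 := by
  have hsr : s * r = r * r := by
    apply hinj
    rw [map_mul, map_mul, ← hab, ← hba]
    calc b * a * (a * b) = a * (b * a) * b := by rw [hba, ← Algebra.commutes, mul_assoc]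
      _ = a * b * (a * b) := by simp only [mul_assoc]
  obtain ⟨ur, rfl⟩ := hr
  have hs : s = ur := by
    have := congrArg (fun x => x * (↑ur⁻¹ : R)) hsr
    simpa [mul_assoc] using this
  refine ⟨⟨a, (↑ur⁻¹ : R) • b, ?_, ?_⟩, (↑ur⁻¹ : R), rfl, rfl, Units.inv_mul _⟩
  · rw [mul_smul_comm, hab, Algebra.algebraMap_eq_smul_one, smul_smul, Units.inv_mul, one_smul]
  · rw [smul_mul_assoc, hba, hs, Algebra.algebraMap_eq_smul_one, smul_smul, Units.inv_mul, one_smul]

end

section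
variable {R : Type u} [CommRing R] {M : Type v} [AddCommGroup M] [Module R M]
  {Q : QuadraticForm R M}

/-- parity components of an intertwining relation. -/
theorem intertwine_parts (x₀ x₁ : CliffordAlgebra Q) (h0 : x₀ ∈ evenOdd Q 0) (h1 : x₁ ∈ evenOdd Q 1)
    (v w : M) (h : (x₀ + x₁) * ι Q v = ι Q w * (x₀ + x₁)) :
    x₀ * ι Q v = ι Q w * x₀ ∧ x₁ * ι Q v = ι Q w * x₁ := by
  have e1 : x₁ * ι Q v - ι Q w * x₁ ∈ evenOdd Q 0 := by
    refine Submodule.sub_mem _ ?_ ?_
    · have := SetLike.mul_mem_graded h1 (ι_mem_evenOdd_one Q v)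
      rwa [show (1 : ZMod 2) + 1 = 0 from rfl] at this
    · have := SetLike.mul_mem_graded (ι_mem_evenOdd_one Q w) h1
      rwa [show (1 : ZMod 2) + 1 = 0 from rfl] at this
  have e0 : x₀ * ι Q v - ι Q w * x₀ ∈ evenOdd Q 1 := by
    refine Submodule.sub_mem _ ?_ ?_
    · have := SetLike.mul_mem_graded h0 (ι_mem_evenOdd_one Q v)
      rwa [zero_add] at this
    · have := SetLike.mul_mem_graded (ι_mem_evenOdd_one Q w) h0
      rwa [add_zero] at this
  have hsum : (x₁ * ι Q v - ι Q w * x₁) + (x₀ * ι Q v - ι Q w * x₀) = 0 := by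
    rw [add_mul, mul_add] at h
    rw [sub_add_sub_comm, add_comm (x₁ * _), h, add_comm (ι Q w * x₁), sub_self]
  have := even_odd_eq_zero Q _ _ e1 e0 hsum
  exact ⟨sub_eq_zero.1 this.2, sub_eq_zero.1 this.1⟩

end

end Groth.Agent.Lib.CliffOddGrp16

namespace Groth.Agent.Lib.CliffOddGrp16
open QuadraticMap CliffordAlgebra TensorProduct
open Groth.Agent.Lib.CliffCentre16 Groth.Agent.Lib.CliffOdd16 Groth.Agent.Lib.CliffGPin16

universe u v w

section
variable {R : Type u} [CommRing R] {M : Type v} [AddCommGroup M] [Module R M]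
  {Q : QuadraticForm R M} {m : ℕ} (D : OddData Q m)

include D in
/-- products of intertwiners are central even, hence scalars. -/
theorem scalar_of_intertwine (g : M ≃ₗ[R] M) (i : ZMod 2) (a b : CliffordAlgebra Q)
    (ha : a ∈ evenOdd Q i) (hb : b ∈ evenOdd Q i)
    (h1 : ∀ v, a * ι Q v = ι Q (g v) * a) (h2 : ∀ v, ι Q v * b = b * ι Q (g v)) :
    (∃ r : R, a * b = algebraMap R _ r) ∧ (∃ s : R, b * a = algebraMap R _ s) := by
  have hii : i + i = 0 := by
    rcases Groth.Agent.Lib.CliffBC16.zmod2_cases i with rfl | rfl <;> rfl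
  constructor
  · apply D.even_central
    · intro y
      have hgen : ∀ w : M, Commute (ι Q w) (a * b) := by
        intro w
        obtain ⟨v, rfl⟩ := g.surjective w
        change _ * _ = _ * _
        rw [← mul_assoc, ← h1, mul_assoc, h2, mul_assoc]
      exact (Groth.Agent.Lib.CliffTensor16.commute_of_generators
        (AlgHom.id R (CliffordAlgebra Q)) _ hgen y).eq.symm
    · have := SetLike.mul_mem_graded ha hb
      rwa [hii] at this
  · apply D.even_central
    · intro y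
      have hgen : ∀ w : M, Commute (ι Q w) (b * a) := by
        intro w
        change _ * _ = _ * _
        rw [← mul_assoc, h2, mul_assoc, ← h1, mul_assoc]
      exact (Groth.Agent.Lib.CliffTensor16.commute_of_generators
        (AlgHom.id R (CliffordAlgebra Q)) _ hgen y).eq.symm
    · have := SetLike.mul_mem_graded hb ha
      rwa [hii] at this

include D in
/-- **S16996 (core)**: over a local ring, a unit whose conjugation induces a linear automorphism `g`
of `M` is a central unit times a point of `GSpin`. -/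
theorem factor_of_conj [IsLocalRing R] (u' : (CliffordAlgebra Q)ˣ) (g : M ≃ₗ[R] M)
    (hu' : ∀ v : M, (u' : CliffordAlgebra Q) * ι Q v * ↑u'⁻¹ = ι Q (g v)) :
    ∃ z : CliffordAlgebra Q, z ∈ Subalgebra.center R (CliffordAlgebra Q) ∧ IsUnit z ∧
      ∃ u ∈ QuadGrp.GSpin Q, (u' : CliffordAlgebra Q) = z * u := by
  obtain ⟨u₀, hu₀, u₁, hu₁, hu⟩ := exists_even_odd Q (u' : CliffordAlgebra Q)
  obtain ⟨t₀, ht₀, t₁, ht₁, ht⟩ := exists_even_odd Q (↑u'⁻¹ : CliffordAlgebra Q)
  have k1 : ∀ v, (u' : CliffordAlgebra Q) * ι Q v = ι Q (g v) * u' := by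
    intro v
    rw [← hu' v]; simp [mul_assoc]
  have k2 : ∀ v, (↑u'⁻¹ : CliffordAlgebra Q) * ι Q (g v) = ι Q v * ↑u'⁻¹ := by
    intro v
    rw [← hu' v]; simp [mul_assoc]
  have a0 : ∀ v, u₀ * ι Q v = ι Q (g v) * u₀ := fun v =>
    (intertwine_parts u₀ u₁ hu₀ hu₁ v (g v) (by rw [← hu]; exact k1 v)).1
  have a1 : ∀ v, u₁ * ι Q v = ι Q (g v) * u₁ := fun v =>
    (intertwine_parts u₀ u₁ hu₀ hu₁ v (g v) (by rw [← hu]; exact k1 v)).2
  have b0 : ∀ v, ι Q v * t₀ = t₀ * ι Q (g v) := fun v =>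
    ((intertwine_parts t₀ t₁ ht₀ ht₁ (g v) v (by rw [← ht]; exact k2 v)).1).symm
  have b1 : ∀ v, ι Q v * t₁ = t₁ * ι Q (g v) := fun v =>
    ((intertwine_parts t₀ t₁ ht₀ ht₁ (g v) v (by rw [← ht]; exact k2 v)).2).symm
  obtain ⟨⟨r₀, hr₀⟩, ⟨s₀, hs₀⟩⟩ := scalar_of_intertwine D g 0 u₀ t₀ hu₀ ht₀ a0 b0
  obtain ⟨⟨r₁, hr₁⟩, ⟨s₁, hs₁⟩⟩ := scalar_of_intertwine D g 1 u₁ t₁ hu₁ ht₁ a1 b1
  have hinj := D.algebraMap_injective
  -- r₀ + r₁ = 1
  have hsum : r₀ + r₁ = 1 := by
    apply hinj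
    rw [map_add, map_one, ← hr₀, ← hr₁]
    have h1 : (u' : CliffordAlgebra Q) * ↑u'⁻¹ = 1 := Units.mul_inv u'
    rw [hu, ht, add_mul, mul_add, mul_add] at h1
    have e0 : (u₀ * t₀ + u₁ * t₁ - 1) ∈ evenOdd Q 0 := by
      refine Submodule.sub_mem _ (Submodule.add_mem _ ?_ ?_) (SetLike.one_mem_graded _)
      · have := SetLike.mul_mem_graded hu₀ ht₀
        rwa [zero_add] at this
      · have := SetLike.mul_mem_graded hu₁ ht₁
        rwa [show (1 : ZMod 2) + 1 = 0 from rfl] at this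
    have e1 : (u₀ * t₁ + u₁ * t₀) ∈ evenOdd Q 1 := by
      refine Submodule.add_mem _ ?_ ?_
      · have := SetLike.mul_mem_graded hu₀ ht₁
        rwa [zero_add] at this
      · have := SetLike.mul_mem_graded hu₁ ht₀
        rwa [add_zero] at this
    have hz : (u₀ * t₀ + u₁ * t₁ - 1) + (u₀ * t₁ + u₁ * t₀) = 0 := by
      rw [← sub_eq_zero] at h1
      rw [← h1]; abel
    exact sub_eq_zero.1 (even_odd_eq_zero Q _ _ e0 e1 hz).1
  rcases IsLocalRing.isUnit_or_isUnit_of_add_one hsum with h | h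
  · obtain ⟨U, ri, hU, hUi, hri⟩ := exists_unit_of_parts hinj u₀ t₀ r₀ s₀ hr₀ hs₀ h
    refine factor_of_even u' U g hu' (by rw [hU]; exact hu₀) ?_
    intro v
    rw [hU, hUi, a0 v, mul_smul_comm, mul_assoc, hr₀, Algebra.algebraMap_eq_smul_one,
      mul_smul_comm, mul_one, smul_smul, hri, one_smul]
  · obtain ⟨U, ri, hU, hUi, hri⟩ := exists_unit_of_parts hinj u₁ t₁ r₁ s₁ hr₁ hs₁ h
    refine factor_of_odd D u' U g hu' (by rw [hU]; exact hu₁) ?_
    intro v
    rw [hU, hUi, a1 v, mul_smul_comm, mul_assoc, hr₁, Algebra.algebraMap_eq_smul_one,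
      mul_smul_comm, mul_one, smul_smul, hri, one_smul]

end

/-- **S16996**. -/
theorem main_S16996 {R : Type u} [CommRing R] [IsLocalRing R]
    {M : Type v} [AddCommGroup M] [Module R M] [Module.Free R M] [Module.Finite R M]
    (m : ℕ) (b : Module.Basis (Fin (2 * m + 1)) R M) (Q : QuadraticForm R M)
    (hQ : QuadGrp.IsSemiregular b (LinearEquiv.refl R R) Q)
    (u' : (CliffordAlgebra Q)ˣ) (hu' : u' ∈ QuadGrp.GPin' Q) :
    ∃ z : CliffordAlgebra Q, z ∈ Subalgebra.center R (CliffordAlgebra Q) ∧ IsUnit z ∧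
      ∃ u ∈ QuadGrp.GSpin Q, (u' : CliffordAlgebra Q) = z * u := by
  obtain ⟨D⟩ := exists_oddData m b Q hQ
  obtain ⟨g, hg, hconj⟩ := exists_isometry_of_conj Q u' (conj_mem_range_of_mem_GPin' u' hu')
    (conj_inv_mem_range_of_mem_GPin' u' hu')
  exact factor_of_conj D u' g hconj

end Groth.Agent.Lib.CliffOddGrp16
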