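import Groth.Agent.Lib.CliffOddSN16

/-!
# Local-global tools for odd-rank Clifford algebras (helper16)

`coeffs_baseChange`, `halfDisc_baseChange` (the half-discriminant commutes with base change), `isSemiregular_baseChange`,
`star_ofBCAux`, `ofBCAux_central`, `star_eq_of_oddData`, `main_S16992` (`star z = (-1)^(m+1) z` for central odd `z`, any base ring).
-/

set_option autoImplicit false
set_option linter.style.haveILetI false
set_option linter.unusedSectionVars false
set_option linter.unusedSimpArgs false
set_option linter.unusedVariables false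

namespace Groth.Agent.Lib.CliffOddLG16
open QuadraticMap CliffordAlgebra TensorProduct
open Groth.Agent.Lib.CliffCentre16 Groth.Agent.Lib.CliffOdd16 Groth.Agent.Lib.CliffGPin16
open Groth.Agent.Lib.CliffBC16 Groth.Agent.Lib.HalfDisc16

universe u v w

section bc
variable {R : Type u} [CommRing R] {M : Type v} [AddCommGroup M] [Module R M] [Module.Free R M]
  (A : Type w) [CommRing A] [Algebra R A] (Q : QuadraticForm R M) {n : ℕ}
  (b : Module.Basis (Fin n) R M)

theorem coeffs_baseChange (s : Sym2 (Fin n)) :
    QuadGrp.coeffs (b.baseChange A) (LinearEquiv.refl A A) (QuadGrp.baseChangeForm A Q) s =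
      algebraMap R A (QuadGrp.coeffs b (LinearEquiv.refl R R) Q s) := by
  induction s using Sym2.ind with
  | h i j =>
    rw [QuadGrp.coeffs_mk, QuadGrp.coeffs_mk]
    simp only [LinearEquiv.refl_apply, Module.Basis.baseChange_apply]
    split_ifs with h
    · rw [baseChangeForm_tmul, mul_one, Algebra.algebraMap_eq_smul_one]
    · rw [polar_baseChangeForm_tmul, mul_one, Algebra.algebraMap_eq_smul_one]

theorem halfDisc_baseChange :
    QuadGrp.halfDisc (b.baseChange A) (LinearEquiv.refl A A) (QuadGrp.baseChangeForm A Q) =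
      algebraMap R A (QuadGrp.halfDisc b (LinearEquiv.refl R R) Q) := by
  rw [QuadGrp.halfDisc, QuadGrp.halfDisc, MvPolynomial.eval₂_comp_left (algebraMap R A)]
  congr 1
  · exact RingHom.ext_int _ _
  · funext s
    exact coeffs_baseChange A Q b s

theorem isSemiregular_baseChange (hQ : QuadGrp.IsSemiregular b (LinearEquiv.refl R R) Q) :
    QuadGrp.IsSemiregular (b.baseChange A) (LinearEquiv.refl A A) (QuadGrp.baseChangeForm A Q) := by
  rw [QuadGrp.IsSemiregular, halfDisc_baseChange]
  exact hQ.map _

end bc

end Groth.Agent.Lib.CliffOddLG16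

namespace Groth.Agent.Lib.CliffOddLG16
open QuadraticMap CliffordAlgebra TensorProduct
open Groth.Agent.Lib.CliffCentre16 Groth.Agent.Lib.CliffOdd16 Groth.Agent.Lib.CliffGPin16
open Groth.Agent.Lib.CliffBC16 Groth.Agent.Lib.HalfDisc16

universe u v w

section bc
variable {R : Type u} [CommRing R] {M : Type v} [AddCommGroup M] [Module R M] [Module.Free R M]
  (A : Type w) [CommRing A] [Algebra R A] (Q : QuadraticForm R M)

theorem star_ofBCAux (x : CliffordAlgebra Q) :
    star (ofBCAux A Q x) = ofBCAux A Q (star x) := by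
  induction x using CliffordAlgebra.induction with
  | algebraMap r => rw [AlgHom.commutes, CliffordAlgebra.star_algebraMap, AlgHom.commutes,
      IsScalarTower.algebraMap_apply R A, CliffordAlgebra.star_algebraMap]
  | ι m => rw [ofBCAux_ι, star_ι, star_ι, map_neg, ofBCAux_ι]
  | mul a b ha hb => rw [map_mul, star_mul, star_mul, ha, hb, map_mul]
  | add a b ha hb => rw [map_add, star_add, star_add, ha, hb, map_add]

/-- the image of a central element is central. -/
theorem ofBCAux_central (z : CliffordAlgebra Q) (hz : ∀ y, z * y = y * z)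
    (y : CliffordAlgebra (QuadGrp.baseChangeForm A Q)) :
    ofBCAux A Q z * y = y * ofBCAux A Q z := by
  have hgen : ∀ t : A ⊗[R] M,
      Commute (ι (QuadGrp.baseChangeForm A Q) t) (ofBCAux A Q z) := by
    intro t
    induction t using TensorProduct.induction_on with
    | zero => simp
    | tmul a v =>
      have h1 : a ⊗ₜ[R] v = a • ((1 : A) ⊗ₜ[R] v) := by
        rw [TensorProduct.smul_tmul', smul_eq_mul, mul_one]
      rw [h1, map_smul, ← ofBCAux_ι]
      apply Commute.smul_left
      change _ * _ = _ * _
      rw [← map_mul, ← map_mul, hz]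
    | add s t hs ht => rw [map_add]; exact hs.add_left ht
  exact (Groth.Agent.Lib.CliffTensor16.commute_of_generators
    (AlgHom.id A (CliffordAlgebra (QuadGrp.baseChangeForm A Q))) _ hgen y).eq.symm

end bc

end Groth.Agent.Lib.CliffOddLG16

namespace Groth.Agent.Lib.CliffOddLG16
open QuadraticMap CliffordAlgebra TensorProduct
open Groth.Agent.Lib.CliffCentre16 Groth.Agent.Lib.CliffOdd16 Groth.Agent.Lib.CliffGPin16
open Groth.Agent.Lib.CliffBC16 Groth.Agent.Lib.HalfDisc16

universe u v w

/-- local version of S16992. -/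
theorem star_eq_of_oddData {R : Type u} [CommRing R] {M : Type v} [AddCommGroup M] [Module R M]
    {Q : QuadraticForm R M} {m : ℕ} (D : OddData Q m) (z : CliffordAlgebra Q)
    (hz : ∀ y, z * y = y * z) (hz1 : z ∈ evenOdd Q 1) :
    star z = ((-1 : R) ^ (m + 1)) • z := by
  obtain ⟨r, rfl⟩ := D.odd_central z hz hz1
  rw [CliffordAlgebra.star_smul, D.star_z, smul_comm]

/-- **S16992**. -/
theorem main_S16992 {R : Type u} [CommRing R] {M : Type v} [AddCommGroup M] [Module R M]
    (m : ℕ) (b : Module.Basis (Fin (2 * m + 1)) R M) (Q : QuadraticForm R M)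
    (hQ : QuadGrp.IsSemiregular b (LinearEquiv.refl R R) Q)
    (z : CliffordAlgebra Q) (hz : z ∈ Subalgebra.center R (CliffordAlgebra Q))
    (hz1 : z ∈ CliffordAlgebra.evenOdd Q 1) :
    star z = ((-1 : R) ^ (m + 1)) • z := by
  haveI : Module.Free R M := Module.Free.of_basis b
  rw [Subalgebra.mem_center_iff] at hz
  rw [← sub_eq_zero]
  apply Groth.Agent.Lib.CliffDetLoc16.eq_zero_of_forall_ofBCAux Q
  intro J hJ
  haveI : J.IsPrime := hJ.isPrime
  set A := Localization.AtPrime J with hA
  obtain ⟨D⟩ := exists_oddData m (b.baseChange A) (QuadGrp.baseChangeForm A Q)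
    (isSemiregular_baseChange A Q b hQ)
  have h1 := star_eq_of_oddData D (ofBCAux A Q z)
    (fun y => ofBCAux_central A Q z (fun y' => (hz y').symm) y)
    (ofBCAux_mem_evenOdd A Q 1 z hz1)
  rw [map_sub, map_smul, ← star_ofBCAux, h1, sub_eq_zero, ← algebraMap_smul A ((-1 : R) ^ (m + 1))]
  congr 1
  simp

end Groth.Agent.Lib.CliffOddLG16
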