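import Groth.Agent.Lib.CliffOddLG16
import Groth.Agent.Lib.CliffLoc16

/-!
# Pin = Pin' in rank 3 mod 4 with 2 invertible (helper16)

`star_mem_evenOdd`, `norm_comm_ι`, `norm_scalar_of_even` (Clifford norm of an even normalising unit is a scalar, odd rank),
`homogeneous_of_norm_one` (local ring, `2` unit, `m` odd: normalising units of norm one are even or odd),
`isLocHomog_of_forall_maximal` (globalisation of homogeneity), `main_S16997`.
-/

set_option autoImplicit false
set_option linter.style.haveILetI false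
set_option linter.unusedSectionVars false
set_option linter.unusedSimpArgs false
set_option linter.unusedVariables false

namespace Groth.Agent.Lib.CliffOddPin16
open QuadraticMap CliffordAlgebra TensorProduct
open Groth.Agent.Lib.CliffCentre16 Groth.Agent.Lib.CliffOdd16 Groth.Agent.Lib.CliffGPin16
open Groth.Agent.Lib.CliffBC16 Groth.Agent.Lib.HalfDisc16 Groth.Agent.Lib.CliffOddGrp16

universe u v w

section
variable {R : Type u} [CommRing R] {M : Type v} [AddCommGroup M] [Module R M]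
  {Q : QuadraticForm R M}

theorem star_mem_evenOdd (i : ZMod 2) (x : CliffordAlgebra Q) (hx : x ∈ evenOdd Q i) :
    star x ∈ evenOdd Q i := by
  rw [star_def, reverse_mem_evenOdd_iff, involute_mem_evenOdd_iff]
  exact hx

/-- the Clifford norm of a unit whose conjugation induces `g` on vectors commutes with vectors. -/
theorem norm_comm_ι (u : (CliffordAlgebra Q)ˣ) (g : M ≃ₗ[R] M)
    (h : ∀ v : M, (u : CliffordAlgebra Q) * ι Q v * ↑u⁻¹ = ι Q (g v)) (v : M) :
    star (u : CliffordAlgebra Q) * u * ι Q v = ι Q v * (star (u : CliffordAlgebra Q) * u) := by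
  have h1 : (u : CliffordAlgebra Q) * ι Q v = ι Q (g v) * u := by
    rw [← h v]; simp [mul_assoc]
  have h2 : ι Q v * star (u : CliffordAlgebra Q) = star (u : CliffordAlgebra Q) * ι Q (g v) := by
    have := congrArg star h1
    rw [star_mul, star_mul, star_ι, star_ι, neg_mul, mul_neg, neg_inj] at this
    exact this
  rw [mul_assoc, h1, ← mul_assoc, ← h2, mul_assoc]

variable {m : ℕ} (D : OddData Q m)

include D in
/-- the Clifford norm of an even unit normalising `M` is a scalar. -/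
theorem norm_scalar_of_even (u : (CliffordAlgebra Q)ˣ) (g : M ≃ₗ[R] M)
    (h : ∀ v : M, (u : CliffordAlgebra Q) * ι Q v * ↑u⁻¹ = ι Q (g v))
    (hu0 : (u : CliffordAlgebra Q) ∈ evenOdd Q 0) :
    ∃ n : R, star (u : CliffordAlgebra Q) * u = algebraMap R _ n := by
  apply D.even_central
  · intro y
    have hgen : ∀ w : M, Commute (ι Q w) (star (u : CliffordAlgebra Q) * u) :=
      fun w => (norm_comm_ι u g h w).symm
    exact (Groth.Agent.Lib.CliffTensor16.commute_of_generators
      (AlgHom.id R (CliffordAlgebra Q)) _ hgen y).eq.symm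
  · have := SetLike.mul_mem_graded (star_mem_evenOdd 0 _ hu0) hu0
    rwa [zero_add] at this

end

end Groth.Agent.Lib.CliffOddPin16

namespace Groth.Agent.Lib.CliffOddPin16
open QuadraticMap CliffordAlgebra TensorProduct
open Groth.Agent.Lib.CliffCentre16 Groth.Agent.Lib.CliffOdd16 Groth.Agent.Lib.CliffGPin16
open Groth.Agent.Lib.CliffBC16 Groth.Agent.Lib.HalfDisc16 Groth.Agent.Lib.CliffOddGrp16

universe u v w

section
variable {R : Type u} [CommRing R] {M : Type v} [AddCommGroup M] [Module R M]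
  {Q : QuadraticForm R M} {m : ℕ} (D : OddData Q m)

include D in
/-- over a local ring with `2` invertible and `m` odd, a normalising unit of Clifford norm one is
even or odd. -/
theorem homogeneous_of_norm_one [IsLocalRing R] [Module.Free R M] (h2 : IsUnit (2 : R))
    (hm : Odd m) (u : (CliffordAlgebra Q)ˣ) (hu : u ∈ QuadGrp.GPin' Q)
    (hn : star (u : CliffordAlgebra Q) * u = 1) :
    (u : CliffordAlgebra Q) ∈ evenOdd Q 0 ∨ (u : CliffordAlgebra Q) ∈ evenOdd Q 1 := by
  obtain ⟨g, hg, hconj⟩ := exists_isometry_of_conj Q u (conj_mem_range_of_mem_GPin' u hu)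
    (conj_inv_mem_range_of_mem_GPin' u hu)
  obtain ⟨zc, hzc, hzu, u₀, hu₀, huu⟩ := factor_of_conj D u g hconj
  obtain ⟨⟨hu₀G, -⟩, hu₀e⟩ := hu₀
  change (u₀ : CliffordAlgebra Q) ∈ evenOdd Q 0 at hu₀e
  obtain ⟨g₀, hg₀, hconj₀⟩ := exists_isometry_of_conj Q u₀ (conj_mem_range_of_mem_GPin' u₀ hu₀G)
    (conj_inv_mem_range_of_mem_GPin' u₀ hu₀G)
  obtain ⟨n, hn₀⟩ := norm_scalar_of_even D u₀ g₀ hconj₀ hu₀e
  rw [Subalgebra.mem_center_iff] at hzc
  obtain ⟨a, b, hab⟩ := D.centre zc (fun y => (hzc y).symm)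
  have hstar : star zc = zc := by
    rw [hab, star_add, CliffordAlgebra.star_smul, CliffordAlgebra.star_smul, star_one, D.star_z,
      hm.add_one.neg_one_pow, one_smul]
  have hsq : zc * zc = (a * a + b * b * D.κ) • (1 : CliffordAlgebra Q) + (2 * a * b) • D.z := by
    rw [hab]
    simp only [add_mul, mul_add, smul_mul_assoc, mul_smul_comm, one_mul, mul_one, D.sq,
      Algebra.algebraMap_eq_smul_one, smul_smul]
    module
  have h1 : (1 : CliffordAlgebra Q) = (zc * zc) * algebraMap R _ n := by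
    rw [← hn₀, ← hn, huu, star_mul, hstar]
    calc star (u₀ : CliffordAlgebra Q) * zc * (zc * ↑u₀)
        = star (u₀ : CliffordAlgebra Q) * (zc * zc) * ↑u₀ := by simp only [mul_assoc]
      _ = (zc * zc) * (star (u₀ : CliffordAlgebra Q) * ↑u₀) := by
        have hcc : star (u₀ : CliffordAlgebra Q) * (zc * zc) = (zc * zc) * star (u₀ : CliffordAlgebra Q) := by
          rw [← mul_assoc, hzc, mul_assoc, hzc, ← mul_assoc]
        rw [hcc, mul_assoc]
  rw [hsq, Algebra.algebraMap_eq_smul_one, mul_smul_comm, mul_one, smul_add, smul_smul,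
    smul_smul] at h1
  have h3 : (n * (a * a + b * b * D.κ) - 1) • (1 : CliffordAlgebra Q) + (n * (2 * a * b)) • D.z = 0 := by
    rw [sub_smul, one_smul, sub_add_eq_add_sub, ← h1, sub_self]
  obtain ⟨e1, e2⟩ := D.indep _ _ h3
  have hnu : IsUnit n := IsUnit.of_mul_eq_one _ (sub_eq_zero.1 e1)
  have hsu : IsUnit (a * a + b * b * D.κ) :=
    IsUnit.of_mul_eq_one n (by rw [mul_comm]; exact sub_eq_zero.1 e1)
  have hab0 : a * b = 0 := by
    have h4 : (n * 2) * (a * b) = 0 := by rw [← e2]; ring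
    exact (hnu.mul h2).mul_right_eq_zero.1 h4
  rcases IsLocalRing.isUnit_or_isUnit_of_isUnit_add hsu with h | h
  · -- a unit
    left
    have ha : IsUnit a := isUnit_of_mul_isUnit_left h
    have hb : b = 0 := ha.mul_right_eq_zero.1 hab0
    rw [huu, hab, hb, zero_smul, add_zero, smul_mul_assoc, one_mul]
    exact Submodule.smul_mem _ _ hu₀e
  · right
    have hb : IsUnit b := isUnit_of_mul_isUnit_left (isUnit_of_mul_isUnit_left h)
    have ha : a = 0 := hb.mul_left_eq_zero.1 hab0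
    rw [huu, hab, ha, zero_smul, zero_add, smul_mul_assoc]
    refine Submodule.smul_mem _ _ ?_
    have := SetLike.mul_mem_graded D.odd hu₀e
    rwa [add_zero] at this

end

end Groth.Agent.Lib.CliffOddPin16

namespace Groth.Agent.Lib.CliffOddPin16
open QuadraticMap CliffordAlgebra TensorProduct
open Groth.Agent.Lib.CliffCentre16 Groth.Agent.Lib.CliffOdd16 Groth.Agent.Lib.CliffGPin16
open Groth.Agent.Lib.CliffBC16 Groth.Agent.Lib.HalfDisc16 Groth.Agent.Lib.CliffOddGrp16
open Groth.Agent.Lib.CliffLoc16 Groth.Agent.Lib.CliffOddLG16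

universe u v w

section
variable {R : Type u} [CommRing R] {M : Type v} [AddCommGroup M] [Module R M] [Module.Free R M]
  (Q : QuadraticForm R M)

/-- globalisation: if at every maximal ideal one of the two homogeneous components of a unit dies,
the unit is locally homogeneous. -/
theorem isLocHomog_of_forall_maximal (u : (CliffordAlgebra Q)ˣ) (u₀ u₁ : CliffordAlgebra Q)
    (h0 : u₀ ∈ evenOdd Q 0) (h1 : u₁ ∈ evenOdd Q 1) (hsum : (u : CliffordAlgebra Q) = u₀ + u₁)
    (h : ∀ P : Ideal R, P.IsMaximal → ∃ s : R, s ∉ P ∧ (s • u₀ = 0 ∨ s • u₁ = 0)) :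
    QuadGrp.IsLocHomog Q (u : CliffordAlgebra Q) := by
  let J₀ : Ideal R := (LinearMap.toSpanSingleton R (CliffordAlgebra Q) u₀).ker
  let J₁ : Ideal R := (LinearMap.toSpanSingleton R (CliffordAlgebra Q) u₁).ker
  have hJ₀ : ∀ r : R, r ∈ J₀ ↔ r • u₀ = 0 := fun r => by
    simp [J₀, LinearMap.mem_ker, LinearMap.toSpanSingleton_apply]
  have hJ₁ : ∀ r : R, r ∈ J₁ ↔ r • u₁ = 0 := fun r => by
    simp [J₁, LinearMap.mem_ker, LinearMap.toSpanSingleton_apply]
  have htop : J₀ ⊔ J₁ = ⊤ := by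
    by_contra hne
    obtain ⟨P, hP, hle⟩ := Ideal.exists_le_maximal _ hne
    obtain ⟨s, hs, h | h⟩ := h P hP
    · exact hs (hle (Ideal.mem_sup_left ((hJ₀ s).2 h)))
    · exact hs (hle (Ideal.mem_sup_right ((hJ₁ s).2 h)))
  obtain ⟨r₀, hr₀, r₁, hr₁, h01⟩ := Submodule.mem_sup.1 ((Ideal.eq_top_iff_one _).1 htop)
  rw [hJ₀] at hr₀
  rw [hJ₁] at hr₁
  have hprod : r₀ * r₁ = 0 := by
    apply algebraMap_injective_of_free Q
    have e1 : (r₀ * r₁) • u₀ = 0 := by rw [mul_comm, mul_smul, hr₀, smul_zero]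
    have e2 : (r₀ * r₁) • u₁ = 0 := by rw [mul_smul, hr₁, smul_zero]
    rw [map_zero, Algebra.algebraMap_eq_smul_one, ← Units.mul_inv u, ← smul_mul_assoc, hsum, smul_add,
      e1, e2, add_zero, zero_mul]
  have hr₀' : r₀ = 1 - r₁ := by rw [← h01]; ring
  refine ⟨r₁, ?_, ?_, ?_⟩
  · change r₁ * r₁ = r₁
    have : r₁ * r₁ = r₁ - r₀ * r₁ := by rw [hr₀']; ring
    rw [this, hprod, sub_zero]
  · rw [hsum, smul_add, hr₁, add_zero]
    exact Submodule.smul_mem _ _ h0
  · rw [← hr₀', hsum, smul_add, hr₀, zero_add]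
    exact Submodule.smul_mem _ _ h1

end

/-- **S16997**. -/
theorem main_S16997 {R : Type u} [CommRing R] [Invertible (2 : R)]
    {M : Type v} [AddCommGroup M] [Module R M] [Module.Free R M] [Module.Finite R M]
    (m : ℕ) (hm : Odd m) (b : Module.Basis (Fin (2 * m + 1)) R M) (Q : QuadraticForm R M)
    (hQ : QuadGrp.IsSemiregular b (LinearEquiv.refl R R) Q) :
    QuadGrp.Pin Q = QuadGrp.Pin' Q := by
  apply le_antisymm
  · rintro u ⟨⟨hu, -⟩, hn⟩
    exact ⟨hu, hn⟩
  · rintro u ⟨hu, hn⟩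
    refine ⟨⟨hu, ?_⟩, hn⟩
    change QuadGrp.IsLocHomog Q (u : CliffordAlgebra Q)
    change star (u : CliffordAlgebra Q) * u = 1 at hn
    have hu : u ∈ QuadGrp.GPin' Q := hu
    obtain ⟨u₀, h0, u₁, h1, hsum⟩ := exists_even_odd Q (u : CliffordAlgebra Q)
    apply isLocHomog_of_forall_maximal Q u u₀ u₁ h0 h1 hsum
    intro P hP
    haveI : P.IsPrime := hP.isPrime
    set A := Localization.AtPrime P with hA
    set QA := QuadGrp.baseChangeForm A Q with hQA
    obtain ⟨D⟩ := exists_oddData m (b.baseChange A) QA (isSemiregular_baseChange A Q b hQ)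
    have h2 : IsUnit (2 : A) := by
      have := (isUnit_of_invertible (2 : R)).map (algebraMap R A)
      rwa [map_ofNat] at this
    have hu' := unitBC_mem_GPin' A Q u hu
    have hn' : star (unitBC A Q u : CliffordAlgebra QA) * (unitBC A Q u : CliffordAlgebra QA) = 1 := by
      rw [unitBC_val, star_ofBCAux, ← map_mul, hn, map_one]
    have e0 : ofBCAux A Q u₀ ∈ evenOdd QA 0 := ofBCAux_mem_evenOdd A Q 0 u₀ h0
    have e1 : ofBCAux A Q u₁ ∈ evenOdd QA 1 := ofBCAux_mem_evenOdd A Q 1 u₁ h1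
    have hs : (unitBC A Q u : CliffordAlgebra QA) = ofBCAux A Q u₀ + ofBCAux A Q u₁ := by
      rw [unitBC_val, hsum, map_add]
    rcases homogeneous_of_norm_one D h2 hm (unitBC A Q u) hu' hn' with hev | hod
    · have hz : (ofBCAux A Q u₀ - (unitBC A Q u : CliffordAlgebra QA)) + ofBCAux A Q u₁ = 0 := by
        rw [hs]; abel
      have := (even_odd_eq_zero _ _ _ (Submodule.sub_mem _ e0 hev) e1 hz).2
      obtain ⟨s, hs⟩ := exists_smul_eq_zero_of_ofBCAux Q P.primeCompl A u₁ this
      exact ⟨s, s.2, Or.inr hs⟩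
    · have hz : ofBCAux A Q u₀ + (ofBCAux A Q u₁ - (unitBC A Q u : CliffordAlgebra QA)) = 0 := by
        rw [hs]; abel
      have := (even_odd_eq_zero _ _ _ e0 (Submodule.sub_mem _ e1 hod) hz).1
      obtain ⟨s, hs⟩ := exists_smul_eq_zero_of_ofBCAux Q P.primeCompl A u₀ this
      exact ⟨s, s.2, Or.inl hs⟩

end Groth.Agent.Lib.CliffOddPin16
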