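import Groth.Agent.Lib.CliffOddGrp16
import Groth.Agent.Lib.AzumayaSemilocalSN16
import Groth.Agent.Lib.AzumayaEtaleSub16

/-!
# Skolem–Noether for odd-rank Clifford algebras over a local ring; GSpin → SO' is onto (helper16)

`inner_of_fix_omega` (automorphisms of `R[ω] ⊗ A`, `A` Azumaya over local `R`, fixing `ω ⊗ 1` are inner),
`inner_of_equiv`, `inner_prod`, `exists_oddData_inner` (OddData + automorphisms fixing `z` are inner),
`isoEquivOfMem`, `autOfMem` (automorphism of `C(Q)` induced by `g ∈ O(Q)`), `twistEquiv` (`ε • g`, `ε² = 1`),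
`autOfMem_twist_odd`, `det_twistEquiv`, `exists_sign`, `main_S16995`.
-/

set_option autoImplicit false
set_option linter.style.haveILetI false
set_option linter.unusedSectionVars false
set_option linter.unusedSimpArgs false
set_option linter.unusedVariables false

namespace Groth.Agent.Lib.CliffOddSN16
open QuadraticMap CliffordAlgebra TensorProduct
open Groth.Agent.Lib.CliffCentre16 Groth.Agent.Lib.CliffOdd16 Groth.Agent.Lib.CliffGPin16
open Groth.Agent.Lib.CliffTensor16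

universe u v w

section abstract
variable {R : Type u} [CommRing R] [IsLocalRing R] {A : Type v} [Ring A] [Algebra R A]
  [IsAzumaya R A] (a₀ : R)

/-- an `R`-algebra automorphism of `K ⊗ A` (`K = R[ω]`) fixing `ω ⊗ 1` is inner. -/
theorem inner_of_fix_omega
    (τ : (QuadraticAlgebra R a₀ 0) ⊗[R] A ≃ₐ[R] (QuadraticAlgebra R a₀ 0) ⊗[R] A)
    (hτ : τ (QuadraticAlgebra.omega ⊗ₜ 1) = QuadraticAlgebra.omega ⊗ₜ 1) :
    ∃ a : ((QuadraticAlgebra R a₀ 0) ⊗[R] A)ˣ, ∀ x, τ x =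
      (a : (QuadraticAlgebra R a₀ 0) ⊗[R] A) * x * ((a⁻¹ : ((QuadraticAlgebra R a₀ 0) ⊗[R] A)ˣ) : (QuadraticAlgebra R a₀ 0) ⊗[R] A) := by
  set K := QuadraticAlgebra R a₀ 0 with hK
  have hfix : ∀ k : K, τ (k ⊗ₜ[R] (1 : A)) = k ⊗ₜ[R] (1 : A) := by
    rintro ⟨c₀, c₁⟩
    have : (⟨c₀, c₁⟩ : QuadraticAlgebra R a₀ 0) = c₀ • 1 + c₁ • QuadraticAlgebra.omega := by
      rw [QuadraticAlgebra.mk_eq_add_smul_omega, Algebra.algebraMap_eq_smul_one]
    rw [this, TensorProduct.add_tmul, map_add, ← TensorProduct.smul_tmul', ← TensorProduct.smul_tmul',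
      map_smul, map_smul, hτ, ← Algebra.TensorProduct.one_def, map_one]
  let τK : K ⊗[R] A ≃ₐ[K] K ⊗[R] A :=
    AlgEquiv.ofRingEquiv (f := τ.toRingEquiv) (fun k => by
      rw [Algebra.TensorProduct.algebraMap_apply]
      exact hfix _)
  haveI : Finite (MaximalSpectrum K) :=
    Groth.Agent.Lib.AzumayaEtaleSub16.finite_maximalSpectrum_of_finite R K
  haveI : IsAzumaya K (K ⊗[R] A) := Groth.Agent.Lib.Azumaya16.isAzumaya_baseChange R K A
  obtain ⟨a, ha⟩ := Groth.Agent.Lib.AzumayaSemilocalSN16.skolem_noether_of_finite_maximalSpectrum τK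
  exact ⟨a, fun x => ha x⟩

end abstract

end Groth.Agent.Lib.CliffOddSN16

namespace Groth.Agent.Lib.CliffOddSN16
open QuadraticMap CliffordAlgebra TensorProduct
open Groth.Agent.Lib.CliffCentre16 Groth.Agent.Lib.CliffOdd16 Groth.Agent.Lib.CliffGPin16
open Groth.Agent.Lib.CliffTensor16

universe u v w

section transport
variable {R : Type u} [CommRing R] {B : Type v} [Ring B] [Algebra R B] {C : Type w} [Ring C]
  [Algebra R C]

/-- innerness transports along algebra equivalences. -/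
theorem inner_of_equiv (Ψ : B ≃ₐ[R] C) (σ : B ≃ₐ[R] B)
    (h : ∃ a : Cˣ, ∀ y, (Ψ.symm.trans (σ.trans Ψ)) y = (a : C) * y * ((a⁻¹ : Cˣ) : C)) :
    ∃ a : Bˣ, ∀ x, σ x = (a : B) * x * ((a⁻¹ : Bˣ) : B) := by
  obtain ⟨a, ha⟩ := h
  refine ⟨Units.map (Ψ.symm : C →* B) a, fun x => ?_⟩
  have h1 := ha (Ψ x)
  simp only [AlgEquiv.trans_apply, AlgEquiv.symm_apply_apply] at h1
  have h2 := congrArg Ψ.symm h1
  rw [AlgEquiv.symm_apply_apply, map_mul, map_mul, AlgEquiv.symm_apply_apply] at h2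
  rw [h2, ← map_inv]
  rfl

end transport

section prod
variable {R : Type u} [CommRing R] [IsLocalRing R] {N : Type v} [AddCommGroup N] [Module R N]
  (Q₁ : QuadraticForm R N) (Q₂ : QuadraticForm R R) {m : ℕ} (D : WData Q₁ m)
  (di : R) (hd : D.δ * di = 1) [IsAzumaya R (CliffordAlgebra Q₁)]

include hd in
theorem inner_prod (σ : CliffordAlgebra (Q₁.prod Q₂) ≃ₐ[R] CliffordAlgebra (Q₁.prod Q₂))
    (hσ : σ (zProd Q₁ Q₂ D) = zProd Q₁ Q₂ D) :
    ∃ a : (CliffordAlgebra (Q₁.prod Q₂))ˣ, ∀ x, σ x =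
      (a : CliffordAlgebra (Q₁.prod Q₂)) * x * ((a⁻¹ : (CliffordAlgebra (Q₁.prod Q₂))ˣ) : _) := by
  set Ψ := (thetaEquiv Q₁ Q₂ D di hd).trans
    (Algebra.TensorProduct.comm R (CliffordAlgebra Q₁) (QuadraticAlgebra R ((di • Q₂) 1) 0)) with hΨ
  have hΨz : Ψ (zProd Q₁ Q₂ D) = D.δ • (QuadraticAlgebra.omega ⊗ₜ 1) := by
    rw [hΨ, AlgEquiv.trans_apply, thetaEquiv_zProd, map_smul, Algebra.TensorProduct.comm_tmul]
  have hΨsymm : Ψ.symm (QuadraticAlgebra.omega ⊗ₜ 1) = di • zProd Q₁ Q₂ D := by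
    apply Ψ.injective
    rw [AlgEquiv.apply_symm_apply, map_smul, hΨz, smul_smul, mul_comm, hd, one_smul]
  apply inner_of_equiv Ψ σ
  apply inner_of_fix_omega
  rw [AlgEquiv.trans_apply, AlgEquiv.trans_apply, hΨsymm, map_smul, hσ, map_smul, hΨz, smul_smul,
    mul_comm, hd, one_smul]

end prod

end Groth.Agent.Lib.CliffOddSN16

namespace Groth.Agent.Lib.CliffOddSN16
open QuadraticMap CliffordAlgebra TensorProduct
open Groth.Agent.Lib.CliffCentre16 Groth.Agent.Lib.CliffOdd16 Groth.Agent.Lib.CliffGPin16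
open Groth.Agent.Lib.CliffTensor16 Groth.Agent.Lib.QuadPlane16 Groth.Agent.Lib.HalfDisc16

universe u v w

/-- **Structure of the centre in odd rank over a local ring, with Skolem–Noether**: automorphisms
fixing the central generator `z` are inner. -/
theorem exists_oddData_inner {R : Type u} [CommRing R] [IsLocalRing R] {M : Type v} [AddCommGroup M]
    [Module R M] (m : ℕ) (b : Module.Basis (Fin (2 * m + 1)) R M) (Q : QuadraticForm R M)
    (hQ : QuadGrp.IsSemiregular b (LinearEquiv.refl R R) Q) :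
    ∃ D : OddData Q m, ∀ σ : CliffordAlgebra Q ≃ₐ[R] CliffordAlgebra Q, σ D.z = D.z →
      ∃ a : (CliffordAlgebra Q)ˣ, ∀ x, σ x =
        (a : CliffordAlgebra Q) * x * ((a⁻¹ : (CliffordAlgebra Q)ˣ) : CliffordAlgebra Q) := by
  obtain ⟨b', horth, hu0, hudet⟩ := Groth.Agent.Lib.OddDecomp16.exists_orth_basis m b Q hQ
  set Φ := basisSplit b' with hΦ
  set Q₁ := formL Q Φ with hQ₁
  set Q₂ := formR Q Φ with hQ₂
  have hreg : QuadGrp.IsRegular Q₁ := by
    rw [isRegular_iff_isUnit_det Q₁ (Pi.basisFun R (Fin (2 * m))), hQ₁, hΦ, gram_formL,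
      Matrix.det_transpose]
    exact hudet
  have hrank : Module.finrank R (Fin (2 * m) → R) = 2 * m := by simp
  obtain ⟨D⟩ := exists_wData m (Fin (2 * m) → R) Q₁ hrank hreg
  haveI hAz := Groth.Agent.Lib.CliffAz16.isAzumaya_clifford Q₁ m hrank hreg
  have h2 : IsUnit (Q₂ 1) := by
    rw [hQ₂, formR_apply, hΦ, basisSplit_inr_one]; exact hu0
  set e := splitIso Q Φ (basisSplit_orth Q b' horth) with he
  have hA : ∀ a : CliffordAlgebra Q₁, (∀ y, a * y = y * a) → ∃ r : R, algebraMap R _ r = a :=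
    fun a ha => Groth.Agent.Lib.Azumaya16.mem_range_algebraMap_of_central a ha
  have hinj := algebraMap_injective_of_free Q₁
  have hDz : ((oddDataProd Q₁ Q₂ D h2 hA hinj).map e).z =
      (equivOfIsometry e) (zProd Q₁ Q₂ D) := rfl
  refine ⟨(oddDataProd Q₁ Q₂ D h2 hA hinj).map e, fun σ hσ => ?_⟩
  have hd : D.δ * (↑D.unit.unit⁻¹ : R) = 1 := by
    have := D.unit.unit.mul_inv
    rwa [IsUnit.unit_spec] at this
  apply inner_of_equiv (equivOfIsometry e).symm σ
  apply inner_prod Q₁ Q₂ D _ hd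
  change (equivOfIsometry e).symm (σ ((equivOfIsometry e) (zProd Q₁ Q₂ D))) = _
  rw [← hDz, hσ, hDz, AlgEquiv.symm_apply_apply]

end Groth.Agent.Lib.CliffOddSN16

namespace Groth.Agent.Lib.CliffOddSN16
open QuadraticMap CliffordAlgebra TensorProduct
open Groth.Agent.Lib.CliffCentre16 Groth.Agent.Lib.CliffOdd16 Groth.Agent.Lib.CliffGPin16
open Groth.Agent.Lib.CliffTensor16 Groth.Agent.Lib.QuadPlane16 Groth.Agent.Lib.HalfDisc16

universe u v w

section twist
variable {R : Type u} [CommRing R] {M : Type v} [AddCommGroup M] [Module R M]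
  (Q : QuadraticForm R M)

/-- an element of `O(Q)` as an isometry equivalence. -/
def isoEquivOfMem (g : M ≃ₗ[R] M) (hg : g ∈ QuadGrp.O Q) : Q.IsometryEquiv Q :=
  { g with map_app' := hg }

@[simp] theorem isoEquivOfMem_apply (g : M ≃ₗ[R] M) (hg : g ∈ QuadGrp.O Q) (v : M) :
    isoEquivOfMem Q g hg v = g v := rfl

/-- the automorphism of `C(Q)` induced by `g ∈ O(Q)`. -/
noncomputable def autOfMem (g : M ≃ₗ[R] M) (hg : g ∈ QuadGrp.O Q) :
    CliffordAlgebra Q ≃ₐ[R] CliffordAlgebra Q := equivOfIsometry (isoEquivOfMem Q g hg)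

@[simp] theorem autOfMem_ι (g : M ≃ₗ[R] M) (hg : g ∈ QuadGrp.O Q) (v : M) :
    autOfMem Q g hg (ι Q v) = ι Q (g v) := by
  rw [autOfMem, equivOfIsometry_apply, map_apply_ι]
  rfl

theorem autOfMem_mem_evenOdd (g : M ≃ₗ[R] M) (hg : g ∈ QuadGrp.O Q) (i : ZMod 2)
    (x : CliffordAlgebra Q) (hx : x ∈ evenOdd Q i) : autOfMem Q g hg x ∈ evenOdd Q i :=
  map_mem_evenOdd _ i x hx

/-- `ε • g` for `ε² = 1`. -/
def twistEquiv (ε : R) (hε : ε * ε = 1) (g : M ≃ₗ[R] M) : M ≃ₗ[R] M :=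
  LinearEquiv.ofLinearMap (ε • g.toLinearMap) (ε • g.symm.toLinearMap)
    (by ext v; simp [smul_smul, hε])
    (by ext v; simp [smul_smul, hε])

@[simp] theorem twistEquiv_apply (ε : R) (hε : ε * ε = 1) (g : M ≃ₗ[R] M) (v : M) :
    twistEquiv ε hε g v = ε • g v := rfl

theorem twistEquiv_mem_O (ε : R) (hε : ε * ε = 1) (g : M ≃ₗ[R] M) (hg : g ∈ QuadGrp.O Q) :
    twistEquiv ε hε g ∈ QuadGrp.O Q := by
  intro v
  rw [twistEquiv_apply, QuadraticMap.map_smul, hε, one_smul]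
  exact hg v

theorem autOfMem_twist_odd (ε : R) (hε : ε * ε = 1) (g : M ≃ₗ[R] M) (hg : g ∈ QuadGrp.O Q)
    (x : CliffordAlgebra Q) (hx : x ∈ evenOdd Q 1) :
    autOfMem Q (twistEquiv ε hε g) (twistEquiv_mem_O Q ε hε g hg) x = ε • autOfMem Q g hg x := by
  induction x, hx using CliffordAlgebra.evenOdd_induction with
  | range_ι_pow v h =>
    rw [ZMod.val_one, pow_one] at h
    obtain ⟨m, rfl⟩ := h
    rw [autOfMem_ι, autOfMem_ι, twistEquiv_apply, map_smul]
  | add x y hx hy ihx ihy =>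
    rw [map_add, map_add, ihx, ihy, smul_add]
  | ι_mul_ι_mul m₁ m₂ x hx ih =>
    rw [map_mul, map_mul, map_mul, map_mul, autOfMem_ι, autOfMem_ι, autOfMem_ι, autOfMem_ι, ih,
      twistEquiv_apply, twistEquiv_apply, map_smul, map_smul, smul_mul_assoc, mul_smul_comm,
      smul_mul_assoc, mul_smul_comm, smul_smul, hε, one_smul, smul_mul_assoc]

theorem det_twistEquiv [Module.Free R M] [Module.Finite R M] (ε : R) (hε : ε * ε = 1)
    (g : M ≃ₗ[R] M) (k : ℕ) (hk : Module.finrank R M = 2 * k + 1) :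
    LinearMap.det (twistEquiv ε hε g).toLinearMap = ε * LinearMap.det g.toLinearMap := by
  have h1 : (twistEquiv ε hε g).toLinearMap = ε • g.toLinearMap := rfl
  rw [h1, LinearMap.det_smul, hk, pow_succ, pow_mul, pow_two, hε, one_pow, one_mul]

end twist

end Groth.Agent.Lib.CliffOddSN16

namespace Groth.Agent.Lib.CliffOddSN16
open QuadraticMap CliffordAlgebra TensorProduct
open Groth.Agent.Lib.CliffCentre16 Groth.Agent.Lib.CliffOdd16 Groth.Agent.Lib.CliffGPin16
open Groth.Agent.Lib.CliffTensor16 Groth.Agent.Lib.QuadPlane16 Groth.Agent.Lib.HalfDisc16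
open Groth.Agent.Lib.CliffOddGrp16

universe u v w

section
variable {R : Type u} [CommRing R] {M : Type v} [AddCommGroup M] [Module R M]
  {Q : QuadraticForm R M} {m : ℕ} (D : OddData Q m)

/-- an isometry acts on the central generator by a square root of one. -/
theorem exists_sign (g : M ≃ₗ[R] M) (hg : g ∈ QuadGrp.O Q) :
    ∃ ε : R, ε * ε = 1 ∧ autOfMem Q g hg D.z = ε • D.z := by
  set σ := autOfMem Q g hg with hσ
  have hc : ∀ y, σ D.z * y = y * σ D.z := by
    intro y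
    obtain ⟨y', rfl⟩ := σ.surjective y
    rw [← map_mul, ← map_mul, D.central]
  obtain ⟨ε, hε⟩ := D.odd_central (σ D.z) hc (autOfMem_mem_evenOdd Q g hg 1 _ D.odd)
  refine ⟨ε, ?_, hε⟩
  have h1 : σ D.z * σ D.z = algebraMap R _ D.κ := by
    rw [← map_mul, D.sq, AlgEquiv.commutes]
  rw [hε, smul_mul_smul_comm, D.sq, Algebra.algebraMap_eq_smul_one, smul_smul,
    ← Algebra.algebraMap_eq_smul_one, ← Algebra.algebraMap_eq_smul_one] at h1
  have h2 := D.algebraMap_injective h1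
  obtain ⟨uκ, huκ⟩ := D.unit
  rw [← huκ] at h2
  have := congrArg (fun t => t * (↑uκ⁻¹ : R)) h2
  simpa [mul_assoc] using this

end

/-- **S16995**. -/
theorem main_S16995 {R : Type u} [CommRing R] [IsLocalRing R]
    {M : Type v} [AddCommGroup M] [Module R M] [Module.Free R M] [Module.Finite R M]
    (m : ℕ) (b : Module.Basis (Fin (2 * m + 1)) R M) (Q : QuadraticForm R M)
    (hQ : QuadGrp.IsSemiregular b (LinearEquiv.refl R R) Q)
    (g : M ≃ₗ[R] M) (hg : g ∈ QuadGrp.SO' Q) :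
    ∃ u ∈ QuadGrp.GSpin Q, ∀ v : M,
      (u : CliffordAlgebra Q) * CliffordAlgebra.ι Q v * ↑u⁻¹ = CliffordAlgebra.ι Q (g v) := by
  obtain ⟨D, hD⟩ := exists_oddData_inner m b Q hQ
  obtain ⟨hgO, hdet⟩ := (Groth.Agent.Lib.CliffDet16.mem_SO'_iff Q g).1 hg
  obtain ⟨ε, hε, hσz⟩ := exists_sign D g hgO
  have hrank : Module.finrank R M = 2 * m + 1 := by
    rw [Module.finrank_eq_card_basis b, Fintype.card_fin]
  -- the twisted isometry fixes `z`, hence is inner, hence has determinant one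
  have hε1 : ε = 1 := by
    set g' := twistEquiv ε hε g with hg'
    have hg'O := twistEquiv_mem_O Q ε hε g hgO
    have hfix : autOfMem Q g' hg'O D.z = D.z := by
      rw [autOfMem_twist_odd Q ε hε g hgO D.z D.odd, hσz, smul_smul, hε, one_smul]
    obtain ⟨a, ha⟩ := hD _ hfix
    have hconj : ∀ v : M, (a : CliffordAlgebra Q) * ι Q v * ↑a⁻¹ = ι Q (g' v) := by
      intro v
      rw [← ha, autOfMem_ι]
    have h1 := Groth.Agent.Lib.CliffDet16.det_eq_one_of_conj_of_odd Q b ⟨m, by ring⟩ g' hg'O a hconj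
    rw [hg', det_twistEquiv ε hε g m hrank, hdet, mul_one] at h1
    exact h1
  rw [hε1, one_smul] at hσz
  obtain ⟨a, ha⟩ := hD _ hσz
  have hconj : ∀ v : M, (a : CliffordAlgebra Q) * ι Q v * ↑a⁻¹ = ι Q (g v) := by
    intro v
    rw [← ha, autOfMem_ι]
  obtain ⟨zc, hzc, hzu, u, hu, hau⟩ := factor_of_conj D a g hconj
  refine ⟨u, hu, fun v => ?_⟩
  rw [Subalgebra.mem_center_iff] at hzc
  obtain ⟨Z, rfl⟩ := hzu
  have h1 : (a : CliffordAlgebra Q) * ι Q v = ι Q (g v) * a := by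
    rw [← hconj v]; simp [mul_assoc]
  rw [hau, mul_assoc, ← mul_assoc (ι Q (g v)), hzc (ι Q (g v)), mul_assoc] at h1
  have h2 : (u : CliffordAlgebra Q) * ι Q v = ι Q (g v) * u := by
    have := congrArg (fun t => (↑Z⁻¹ : CliffordAlgebra Q) * t) h1
    simpa only [Units.inv_mul_cancel_left] using this
  rw [h2, mul_assoc, Units.mul_inv, mul_one]

end Groth.Agent.Lib.CliffOddSN16
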