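import Groth.Agent.Lib.CliffOddPin16
import Groth.Agent.Lib.CliffDetConn16
import Groth.Agent.Lib.AzumayaFPSplit16

/-!
# Structure of the Clifford algebra of a semiregular form of odd rank over any base ring (helper16)

`ιRetr`, `ι_split` (`M → C(Q)` is a split injection, `M` free), `central_of_comm_ι`, `exists_full_central_lift` (homogeneous central
elements lift along localisations up to a denominator), `even_central_scalar` (even central elements are scalars),
`prodSet`, `span_prodSet` (products of two odd central elements generate the unit ideal), `bijective_of_span_eq_top`,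
`parityProj` (+ `_mem`, `_of_mem`, `_of_mem_ne`, `_add`, `_central`), `mulMap`, `evenPart`, `invMap`, `mulMap_bijective`
(`Z ⊗ C₀ ≅ C`), `isRegular_smul`, `evenGenMap : C(−Q(e₀)·Q|N) → C(Q)`, `swapParity`, `isCompl_evenOdd`,
`finrank_even_of_anisotropic`, `isAzumaya_even_field`, `bcEvenHom`, `bcEvenEquiv : K ⊗ C₀(Q) ≃ₐ C₀(Q_K)`,
`bcEquiv_lTensor_parityProj`, `finite_even`, `projective_even`, `isAzumaya_even`, `rankAtStalk_even`, `main_S16998`.
-/

set_option autoImplicit false
set_option linter.style.haveILetI false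
set_option linter.unusedSectionVars false
set_option linter.unusedSimpArgs false
set_option linter.unusedVariables false

namespace Groth.Agent.Lib.CliffOddStr16
open QuadraticMap CliffordAlgebra TensorProduct
open Groth.Agent.Lib.CliffCentre16 Groth.Agent.Lib.CliffOdd16 Groth.Agent.Lib.CliffGPin16
open Groth.Agent.Lib.CliffBC16 Groth.Agent.Lib.HalfDisc16

universe u v w

section split
variable {R : Type u} [CommRing R] {M : Type v} [AddCommGroup M] [Module R M] [Module.Free R M]
  (Q : QuadraticForm R M)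

/-- a retraction of `ι`. -/
noncomputable def ιRetr : CliffordAlgebra Q →ₗ[R] M :=
  ExteriorAlgebra.ιInv ∘ₗ (toExterior Q).toLinearMap

theorem ιRetr_ι (v : M) : ιRetr Q (ι Q v) = v := by
  simp only [ιRetr, LinearMap.comp_apply, LinearEquiv.coe_coe, toExterior, changeFormEquiv_apply,
    changeForm_ι]
  exact ExteriorAlgebra.ι_leftInverse v

/-- `M → C(Q)` is injective onto a direct summand. -/
theorem ι_split : Function.Injective (ι Q) ∧
    ∃ W : Submodule R (CliffordAlgebra Q), IsCompl (LinearMap.range (ι Q)) W := by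
  refine ⟨ι_injective_of_free Q, LinearMap.ker (ιRetr Q), ?_⟩
  constructor
  · rw [Submodule.disjoint_def]
    rintro x ⟨v, rfl⟩ hx
    rw [LinearMap.mem_ker, ιRetr_ι] at hx
    rw [hx, map_zero]
  · rw [codisjoint_iff, eq_top_iff]
    intro x _
    have : x = ι Q (ιRetr Q x) + (x - ι Q (ιRetr Q x)) := by abel
    rw [this]
    refine Submodule.add_mem_sup ⟨_, rfl⟩ ?_
    rw [LinearMap.mem_ker, map_sub, ιRetr_ι, sub_self]

end split

end Groth.Agent.Lib.CliffOddStr16

namespace Groth.Agent.Lib.CliffOddStr16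
open QuadraticMap CliffordAlgebra TensorProduct
open Groth.Agent.Lib.CliffCentre16 Groth.Agent.Lib.CliffOdd16 Groth.Agent.Lib.CliffGPin16
open Groth.Agent.Lib.CliffBC16 Groth.Agent.Lib.HalfDisc16 Groth.Agent.Lib.CliffLoc16
open Groth.Agent.Lib.CliffDetConn16

universe u v w

section lift
variable {R : Type u} [CommRing R] {M : Type v} [AddCommGroup M] [Module R M] [Module.Free R M]
  (Q : QuadraticForm R M)

/-- an element commuting with all vectors is central. -/
theorem central_of_comm_ι (z : CliffordAlgebra Q) (h : ∀ v : M, z * ι Q v = ι Q v * z)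
    (y : CliffordAlgebra Q) : z * y = y * z :=
  (Groth.Agent.Lib.CliffTensor16.commute_of_generators
    (AlgHom.id R (CliffordAlgebra Q)) z (fun v => (h v).symm) y).eq.symm

/-- **the (homogeneous part of the) centre commutes with localisation**: a homogeneous central element of `C(Q_A)`,
`A = S⁻¹R`, is, up to some `s ∈ S`, the image of a homogeneous central element of `C(Q)`. -/
theorem exists_full_central_lift [Module.Finite R M] (S : Submonoid R) (A : Type w) [CommRing A]
    [Algebra R A] [IsLocalization S A] (i : ZMod 2)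
    (x : CliffordAlgebra (QuadGrp.baseChangeForm A Q))
    (hxi : x ∈ evenOdd (QuadGrp.baseChangeForm A Q) i) (hx : ∀ y, x * y = y * x) :
    ∃ s : S, ∃ z ∈ evenOdd Q i, (∀ y, z * y = y * z) ∧
      ofBCAux A Q z = algebraMap R A (s : R) • x := by
  classical
  obtain ⟨s, w, hwi, hw⟩ := exists_smul_eq_ofBCAux_homog Q S A i x hxi
  have hkill : ∀ v : M, ∃ t : S, (t : R) • (w * ι Q v - ι Q v * w) = 0 := by
    intro v
    apply exists_smul_eq_zero_of_ofBCAux Q S A
    rw [map_sub, map_mul, map_mul, hw, smul_mul_assoc, mul_smul_comm, hx, sub_self]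
  choose sel hsel using hkill
  obtain ⟨T, hT⟩ := (Module.Finite.fg_top : (⊤ : Submodule R M).FG)
  let s' : S := ∏ v ∈ T, sel v
  refine ⟨s' * s, (s' : R) • w, Submodule.smul_mem _ _ hwi, ?_, ?_⟩
  · apply central_of_comm_ι
    have key : ∀ v : M, v ∈ Submodule.span R (T : Set M) →
        ((s' : R) • w) * ι Q v = ι Q v * ((s' : R) • w) := by
      intro v hv
      induction hv using Submodule.span_induction with
      | mem v hvT =>
        have hvT' : v ∈ T := hvT
        have h1 : (s' : R) = (∏ v' ∈ T.erase v, (sel v' : R)) * (sel v : R) := by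
          rw [Finset.prod_erase_mul T (fun v' => (sel v' : R)) hvT']
          simp [s']
        have h2 : ((s' : R) • w) * ι Q v - ι Q v * ((s' : R) • w) = 0 := by
          rw [smul_mul_assoc, mul_smul_comm, ← smul_sub, h1, mul_smul, hsel, smul_zero]
        exact sub_eq_zero.1 h2
      | zero => simp
      | add a c _ _ ha hc => rw [map_add, mul_add, add_mul, ha, hc]
      | smul r a _ ha => rw [map_smul, mul_smul_comm, smul_mul_assoc r, ha]
    intro v
    exact key v (by rw [hT]; exact Submodule.mem_top)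
  · rw [map_smul, hw, Submonoid.coe_mul, map_mul, mul_smul]
    simp only [algebraMap_smul]

end lift

end Groth.Agent.Lib.CliffOddStr16

namespace Groth.Agent.Lib.CliffOddStr16
open QuadraticMap CliffordAlgebra TensorProduct
open Groth.Agent.Lib.CliffCentre16 Groth.Agent.Lib.CliffOdd16 Groth.Agent.Lib.CliffGPin16
open Groth.Agent.Lib.CliffBC16 Groth.Agent.Lib.HalfDisc16 Groth.Agent.Lib.CliffLoc16
open Groth.Agent.Lib.CliffDetConn16 Groth.Agent.Lib.CliffOddLG16

universe u v w

section glob
variable {R : Type u} [CommRing R] {M : Type v} [AddCommGroup M] [Module R M] [Module.Free R M]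
  [Module.Finite R M] (m : ℕ) (b : Module.Basis (Fin (2 * m + 1)) R M) (Q : QuadraticForm R M)
  (hQ : QuadGrp.IsSemiregular b (LinearEquiv.refl R R) Q)

include b hQ in
/-- (b) of S16998: even central elements are scalars (any base ring). -/
theorem even_central_scalar (z : CliffordAlgebra Q) (hz : ∀ y, z * y = y * z)
    (hz0 : z ∈ evenOdd Q 0) : ∃ r : R, algebraMap R _ r = z := by
  let N : Submodule R (CliffordAlgebra Q) := LinearMap.range (Algebra.linearMap R (CliffordAlgebra Q))
  let I : Ideal R := (LinearMap.toSpanSingleton R (CliffordAlgebra Q ⧸ N) (N.mkQ z)).ker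
  have hI : ∀ t : R, t ∈ I ↔ t • z ∈ N := fun t => by
    simp only [I, LinearMap.mem_ker, LinearMap.toSpanSingleton_apply, Submodule.mkQ_apply]
    rw [← Submodule.Quotient.mk_smul, Submodule.Quotient.mk_eq_zero]
  have htop : I = ⊤ := by
    by_contra hne
    obtain ⟨J, hJ, hle⟩ := Ideal.exists_le_maximal _ hne
    haveI : J.IsPrime := hJ.isPrime
    set A := Localization.AtPrime J with hA
    obtain ⟨D⟩ := exists_oddData m (b.baseChange A) (QuadGrp.baseChangeForm A Q)
      (isSemiregular_baseChange A Q b hQ)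
    obtain ⟨a, ha⟩ := D.even_central (ofBCAux A Q z) (fun y => ofBCAux_central A Q z hz y)
      (ofBCAux_mem_evenOdd A Q 0 z hz0)
    obtain ⟨⟨r, s⟩, hrs⟩ := IsLocalization.surj J.primeCompl a
    have h0 : ofBCAux A Q ((s : R) • z - algebraMap R _ r) = 0 := by
      rw [map_sub, map_smul, ha, AlgHom.commutes,
        IsScalarTower.algebraMap_apply R A (CliffordAlgebra (QuadGrp.baseChangeForm A Q)),
        ← algebraMap_smul A (s : R), Algebra.smul_def, ← map_mul, ← map_sub]
      have : algebraMap R A (s : R) * a - algebraMap R A r = 0 := by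
        rw [mul_comm]; exact sub_eq_zero.2 hrs
      rw [this, map_zero]
    obtain ⟨s', hs'⟩ := exists_smul_eq_zero_of_ofBCAux Q J.primeCompl A _ h0
    have hmem : ((s' : R) * (s : R)) ∈ I := by
      rw [hI]
      refine ⟨(s' : R) * r, ?_⟩
      rw [smul_sub, sub_eq_zero] at hs'
      rw [mul_smul, hs', Algebra.linearMap_apply, map_mul, Algebra.smul_def]
    exact (J.primeCompl.mul_mem s'.2 s.2) (hle hmem)
  have h1 : (1 : R) ∈ I := by rw [htop]; trivial
  rw [hI, one_smul] at h1
  obtain ⟨r, hr⟩ := h1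
  exact ⟨r, hr⟩

end glob

end Groth.Agent.Lib.CliffOddStr16

namespace Groth.Agent.Lib.CliffOddStr16
open QuadraticMap CliffordAlgebra TensorProduct
open Groth.Agent.Lib.CliffCentre16 Groth.Agent.Lib.CliffOdd16 Groth.Agent.Lib.CliffGPin16
open Groth.Agent.Lib.CliffBC16 Groth.Agent.Lib.HalfDisc16 Groth.Agent.Lib.CliffLoc16
open Groth.Agent.Lib.CliffDetConn16 Groth.Agent.Lib.CliffOddLG16

universe u v w

section glob
variable {R : Type u} [CommRing R] {M : Type v} [AddCommGroup M] [Module R M] [Module.Free R M]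
  [Module.Finite R M] (m : ℕ) (b : Module.Basis (Fin (2 * m + 1)) R M) (Q : QuadraticForm R M)
  (hQ : QuadGrp.IsSemiregular b (LinearEquiv.refl R R) Q)

/-- scalars which are products of two odd central elements. -/
def prodSet : Set R :=
  {r : R | ∃ w w' : CliffordAlgebra Q, w ∈ evenOdd Q 1 ∧ (∀ y, w * y = y * w) ∧
    w' ∈ evenOdd Q 1 ∧ (∀ y, w' * y = y * w') ∧ w * w' = algebraMap R _ r}

include b hQ in
/-- the products of two odd central elements generate the unit ideal. -/
theorem span_prodSet : Ideal.span (prodSet Q) = ⊤ := by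
  by_contra hne
  obtain ⟨J, hJ, hle⟩ := Ideal.exists_le_maximal _ hne
  haveI : J.IsPrime := hJ.isPrime
  set A := Localization.AtPrime J with hA
  obtain ⟨D⟩ := exists_oddData m (b.baseChange A) (QuadGrp.baseChangeForm A Q)
    (isSemiregular_baseChange A Q b hQ)
  obtain ⟨s, w, hw1, hwc, hw⟩ := exists_full_central_lift Q J.primeCompl A 1 D.z D.odd D.central
  have hww0 : w * w ∈ evenOdd Q 0 := by
    have := SetLike.mul_mem_graded hw1 hw1
    rwa [show (1 : ZMod 2) + 1 = 0 from rfl] at this
  obtain ⟨r, hr⟩ := even_central_scalar m b Q hQ (w * w)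
    (fun y => by rw [mul_assoc, hwc, ← mul_assoc, hwc, mul_assoc]) hww0
  have hrJ : r ∈ J := hle (Ideal.subset_span ⟨w, w, hw1, hwc, hw1, hwc, hr.symm⟩)
  have h1 : algebraMap A (CliffordAlgebra (QuadGrp.baseChangeForm A Q)) (algebraMap R A r) =
      algebraMap A _ (algebraMap R A (s : R) * algebraMap R A (s : R) * D.κ) := by
    rw [← IsScalarTower.algebraMap_apply R A, ← AlgHom.commutes (ofBCAux A Q), hr, map_mul, hw,
      smul_mul_smul_comm, D.sq, ← Algebra.smul_def, map_mul, Algebra.smul_def]
  have h2 := D.algebraMap_injective h1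
  have hu : IsUnit (algebraMap R A r) := by
    rw [h2]
    have hs : IsUnit (algebraMap R A (s : R)) := IsLocalization.map_units A s
    exact (hs.mul hs).mul D.unit
  rw [IsLocalization.AtPrime.isUnit_to_map_iff A J] at hu
  exact hu hrJ

end glob

end Groth.Agent.Lib.CliffOddStr16

namespace Groth.Agent.Lib.CliffOddStr16
open QuadraticMap CliffordAlgebra TensorProduct
open Groth.Agent.Lib.CliffCentre16 Groth.Agent.Lib.CliffOdd16 Groth.Agent.Lib.CliffGPin16
open Groth.Agent.Lib.CliffBC16 Groth.Agent.Lib.HalfDisc16 Groth.Agent.Lib.CliffLoc16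
open Groth.Agent.Lib.CliffDetConn16 Groth.Agent.Lib.CliffOddLG16

universe u v w

section abstract
variable {R : Type u} [CommRing R] {P : Type v} [AddCommGroup P] [Module R P] {P' : Type w}
  [AddCommGroup P'] [Module R P']

/-- a linear map which is invertible "up to `r`" for a set of `r` generating the unit ideal is
bijective. -/
theorem bijective_of_span_eq_top (f : P →ₗ[R] P') (S : Set R) (hS : Ideal.span S = ⊤)
    (h : ∀ r ∈ S, ∃ g : P' →ₗ[R] P, (∀ x, f (g x) = r • x) ∧ (∀ t, g (f t) = r • t)) :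
    Function.Bijective f := by
  constructor
  · rw [injective_iff_map_eq_zero]
    intro t ht
    let I : Ideal R := (LinearMap.toSpanSingleton R P t).ker
    have hI : ∀ r : R, r ∈ I ↔ r • t = 0 := fun r => by
      simp [I, LinearMap.mem_ker, LinearMap.toSpanSingleton_apply]
    have hle : Ideal.span S ≤ I := by
      rw [Ideal.span_le]
      intro r hr
      obtain ⟨g, -, hg⟩ := h r hr
      change r ∈ I
      rw [hI, ← hg, ht, map_zero]
    have h1 : (1 : R) ∈ I := hle (by rw [hS]; trivial)
    rw [hI, one_smul] at h1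
    exact h1
  · intro x
    let N : Submodule R P' := LinearMap.range f
    let I : Ideal R := (LinearMap.toSpanSingleton R (P' ⧸ N) (N.mkQ x)).ker
    have hI : ∀ t : R, t ∈ I ↔ t • x ∈ N := fun t => by
      simp only [I, LinearMap.mem_ker, LinearMap.toSpanSingleton_apply, Submodule.mkQ_apply]
      rw [← Submodule.Quotient.mk_smul, Submodule.Quotient.mk_eq_zero]
    have hle : Ideal.span S ≤ I := by
      rw [Ideal.span_le]
      intro r hr
      obtain ⟨g, hg, -⟩ := h r hr
      change r ∈ I
      rw [hI]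
      exact ⟨g x, hg x⟩
    have h1 : (1 : R) ∈ I := hle (by rw [hS]; trivial)
    rw [hI, one_smul] at h1
    exact h1

end abstract

section proj
variable {R : Type u} [CommRing R] {M : Type v} [AddCommGroup M] [Module R M]
  (Q : QuadraticForm R M)

/-- projection onto the part of parity `i`, as an endomorphism. -/
noncomputable def parityProj (i : ZMod 2) : CliffordAlgebra Q →ₗ[R] CliffordAlgebra Q :=
  (evenOdd Q i).subtype ∘ₗ (DirectSum.component R (ZMod 2) (fun i => ↥(evenOdd Q i)) i) ∘ₗ
    (DirectSum.decomposeLinearEquiv (evenOdd Q)).toLinearMap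

theorem parityProj_apply (i : ZMod 2) (x : CliffordAlgebra Q) :
    parityProj Q i x = (DirectSum.decompose (evenOdd Q) x i : CliffordAlgebra Q) := rfl

theorem parityProj_mem (i : ZMod 2) (x : CliffordAlgebra Q) : parityProj Q i x ∈ evenOdd Q i := by
  rw [parityProj_apply]; exact SetLike.coe_mem _

theorem parityProj_of_mem (i : ZMod 2) (x : CliffordAlgebra Q) (hx : x ∈ evenOdd Q i) :
    parityProj Q i x = x := by
  rw [parityProj_apply, DirectSum.decompose_of_mem_same (evenOdd Q) hx]

theorem parityProj_of_mem_ne (i j : ZMod 2) (hij : i ≠ j) (x : CliffordAlgebra Q)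
    (hx : x ∈ evenOdd Q i) : parityProj Q j x = 0 := by
  rw [parityProj_apply, DirectSum.decompose_of_mem_ne (evenOdd Q) hx hij]

theorem parityProj_add (x : CliffordAlgebra Q) : parityProj Q 0 x + parityProj Q 1 x = x := by
  classical
  rw [parityProj_apply, parityProj_apply]
  symm
  conv_lhs => rw [← DirectSum.sum_support_decompose (evenOdd Q) x]
  rw [Finset.sum_subset (Finset.subset_univ _) (fun i _ hi => by
    rw [DFinsupp.notMem_support_iff.mp hi, ZeroMemClass.coe_zero])]
  exact Fin.sum_univ_two _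

/-- the parity components of a central element are central. -/
theorem parityProj_central (z : CliffordAlgebra Q) (hz : ∀ y, z * y = y * z) (i : ZMod 2)
    (y : CliffordAlgebra Q) : parityProj Q i z * y = y * parityProj Q i z := by
  apply (Groth.Agent.Lib.CliffTensor16.commute_of_generators
    (AlgHom.id R (CliffordAlgebra Q)) _ (fun v => ?_) y).eq.symm
  change ι Q v * _ = _ * ι Q v
  have h := hz (ι Q v)
  have hs := parityProj_add Q z
  have h0 := parityProj_mem Q 0 z
  have h1 := parityProj_mem Q 1 z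
  rw [← hs] at h
  have := Groth.Agent.Lib.CliffOddGrp16.intertwine_parts _ _ h0 h1 v v h
  rcases Groth.Agent.Lib.CliffBC16.zmod2_cases i with rfl | rfl
  · exact this.1.symm
  · exact this.2.symm

end proj

end Groth.Agent.Lib.CliffOddStr16

namespace Groth.Agent.Lib.CliffOddStr16
open QuadraticMap CliffordAlgebra TensorProduct
open Groth.Agent.Lib.CliffCentre16 Groth.Agent.Lib.CliffOdd16 Groth.Agent.Lib.CliffGPin16
open Groth.Agent.Lib.CliffBC16 Groth.Agent.Lib.HalfDisc16 Groth.Agent.Lib.CliffLoc16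
open Groth.Agent.Lib.CliffDetConn16 Groth.Agent.Lib.CliffOddLG16

universe u v w

section mul
variable {R : Type u} [CommRing R] {M : Type v} [AddCommGroup M] [Module R M]
  (Q : QuadraticForm R M)

/-- the multiplication map `Z ⊗ C₀ → C` of S16998. -/
noncomputable def mulMap : (Subalgebra.center R (CliffordAlgebra Q)) ⊗[R] (CliffordAlgebra.even Q) →ₗ[R]
    CliffordAlgebra Q :=
  TensorProduct.lift
    (((LinearMap.mul R (CliffordAlgebra Q)).comp
      (Subalgebra.center R (CliffordAlgebra Q)).val.toLinearMap).compl₂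
      (CliffordAlgebra.even Q).val.toLinearMap)

@[simp] theorem mulMap_tmul (z : Subalgebra.center R (CliffordAlgebra Q)) (c : CliffordAlgebra.even Q) :
    mulMap Q (z ⊗ₜ c) = (z : CliffordAlgebra Q) * (c : CliffordAlgebra Q) := by
  simp [mulMap]

/-- even part as an element of the even subalgebra. -/
noncomputable def evenPart : CliffordAlgebra Q →ₗ[R] CliffordAlgebra.even Q where
  toFun x := ⟨parityProj Q 0 x, parityProj_mem Q 0 x⟩
  map_add' x y := by apply Subtype.ext; simp
  map_smul' r x := by apply Subtype.ext; simp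

@[simp] theorem evenPart_coe (x : CliffordAlgebra Q) :
    ((evenPart Q x : CliffordAlgebra.even Q) : CliffordAlgebra Q) = parityProj Q 0 x := rfl

/-- `x ↦ w' * (odd part of x)` for an odd `w'`, as an element of the even subalgebra. -/
noncomputable def oddPartMul (w' : CliffordAlgebra Q) (hw' : w' ∈ evenOdd Q 1) :
    CliffordAlgebra Q →ₗ[R] CliffordAlgebra.even Q where
  toFun x := ⟨w' * parityProj Q 1 x, by
    have := SetLike.mul_mem_graded hw' (parityProj_mem Q 1 x)
    rwa [show (1 : ZMod 2) + 1 = 0 from rfl] at this⟩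
  map_add' x y := by apply Subtype.ext; simp [mul_add]
  map_smul' r x := by apply Subtype.ext; simp

@[simp] theorem oddPartMul_coe (w' : CliffordAlgebra Q) (hw' : w' ∈ evenOdd Q 1)
    (x : CliffordAlgebra Q) :
    ((oddPartMul Q w' hw' x : CliffordAlgebra.even Q) : CliffordAlgebra Q) =
      w' * parityProj Q 1 x := rfl

/-- the inverse of `mulMap` up to `r = w w'`. -/
noncomputable def invMap (r : R) (w w' : CliffordAlgebra Q) (hw : ∀ y, w * y = y * w)
    (hw' : w' ∈ evenOdd Q 1) :
    CliffordAlgebra Q →ₗ[R]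
      (Subalgebra.center R (CliffordAlgebra Q)) ⊗[R] (CliffordAlgebra.even Q) :=
  r • ((TensorProduct.mk R (Subalgebra.center R (CliffordAlgebra Q)) (CliffordAlgebra.even Q) 1) ∘ₗ
      evenPart Q) +
    (TensorProduct.mk R (Subalgebra.center R (CliffordAlgebra Q)) (CliffordAlgebra.even Q)
      ⟨w, Subalgebra.mem_center_iff.2 (fun y => (hw y).symm)⟩) ∘ₗ oddPartMul Q w' hw'

theorem invMap_apply (r : R) (w w' : CliffordAlgebra Q) (hw : ∀ y, w * y = y * w)
    (hw' : w' ∈ evenOdd Q 1) (x : CliffordAlgebra Q) :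
    invMap Q r w w' hw hw' x = r • ((1 : Subalgebra.center R (CliffordAlgebra Q)) ⊗ₜ[R] evenPart Q x) +
      (⟨w, Subalgebra.mem_center_iff.2 (fun y => (hw y).symm)⟩ :
        Subalgebra.center R (CliffordAlgebra Q)) ⊗ₜ[R] oddPartMul Q w' hw' x := rfl

theorem mulMap_invMap (r : R) (w w' : CliffordAlgebra Q) (hw : ∀ y, w * y = y * w)
    (hw' : w' ∈ evenOdd Q 1) (hr : w * w' = algebraMap R _ r) (x : CliffordAlgebra Q) :
    mulMap Q (invMap Q r w w' hw hw' x) = r • x := by
  rw [invMap_apply, map_add, map_smul, mulMap_tmul, mulMap_tmul]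
  simp only [OneMemClass.coe_one, one_mul, evenPart_coe, oddPartMul_coe]
  rw [← mul_assoc, hr, ← Algebra.smul_def, ← smul_add, parityProj_add]

end mul

end Groth.Agent.Lib.CliffOddStr16

namespace Groth.Agent.Lib.CliffOddStr16
open QuadraticMap CliffordAlgebra TensorProduct
open Groth.Agent.Lib.CliffCentre16 Groth.Agent.Lib.CliffOdd16 Groth.Agent.Lib.CliffGPin16
open Groth.Agent.Lib.CliffBC16 Groth.Agent.Lib.HalfDisc16 Groth.Agent.Lib.CliffLoc16
open Groth.Agent.Lib.CliffDetConn16 Groth.Agent.Lib.CliffOddLG16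

universe u v w

section glob
variable {R : Type u} [CommRing R] {M : Type v} [AddCommGroup M] [Module R M] [Module.Free R M]
  [Module.Finite R M] (m : ℕ) (b : Module.Basis (Fin (2 * m + 1)) R M) (Q : QuadraticForm R M)
  (hQ : QuadGrp.IsSemiregular b (LinearEquiv.refl R R) Q)

include b hQ in
theorem invMap_mulMap (r : R) (w w' : CliffordAlgebra Q) (hw : ∀ y, w * y = y * w)
    (hw1 : w ∈ evenOdd Q 1) (hwc' : ∀ y, w' * y = y * w')
    (hw' : w' ∈ evenOdd Q 1) (hr : w * w' = algebraMap R _ r)
    (t : (Subalgebra.center R (CliffordAlgebra Q)) ⊗[R] (CliffordAlgebra.even Q)) :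
    invMap Q r w w' hw hw' (mulMap Q t) = r • t := by
  induction t using TensorProduct.induction_on with
  | zero => simp
  | add s t hs ht => rw [map_add, map_add, hs, ht, smul_add]
  | tmul z c =>
    obtain ⟨z, hzc⟩ := z
    obtain ⟨c, hc⟩ := c
    rw [Subalgebra.mem_center_iff] at hzc
    have hzc' : ∀ y, z * y = y * z := fun y => (hzc y).symm
    have hc0 : c ∈ evenOdd Q 0 := hc
    set z₀ := parityProj Q 0 z with hz₀
    set z₁ := parityProj Q 1 z with hz₁
    have hz0c := parityProj_central Q z hzc' 0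
    have hz1c := parityProj_central Q z hzc' 1
    have hz0m : z₀ ∈ evenOdd Q 0 := parityProj_mem Q 0 z
    have hz1m : z₁ ∈ evenOdd Q 1 := parityProj_mem Q 1 z
    have hzsum : z₀ + z₁ = z := parityProj_add Q z
    obtain ⟨a, ha⟩ := even_central_scalar m b Q hQ z₀ hz0c hz0m
    have hq0 : w' * z₁ ∈ evenOdd Q 0 := by
      have := SetLike.mul_mem_graded hw' hz1m
      rwa [show (1 : ZMod 2) + 1 = 0 from rfl] at this
    obtain ⟨q, hq⟩ := even_central_scalar m b Q hQ (w' * z₁)
      (fun y => by rw [mul_assoc, hz1c, ← mul_assoc, hwc', mul_assoc]) hq0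
    have e0 : z₀ * c ∈ evenOdd Q 0 := by
      have := SetLike.mul_mem_graded hz0m hc0
      rwa [zero_add] at this
    have e1 : z₁ * c ∈ evenOdd Q 1 := by
      have := SetLike.mul_mem_graded hz1m hc0
      rwa [add_zero] at this
    have hx : z * c = z₀ * c + z₁ * c := by rw [← add_mul, hzsum]
    have hP0 : parityProj Q 0 (z * c) = a • c := by
      rw [hx, map_add, parityProj_of_mem Q 0 _ e0,
        parityProj_of_mem_ne Q 1 0 (by decide) _ e1, add_zero, ← ha, Algebra.smul_def]
    have hP1 : parityProj Q 1 (z * c) = z₁ * c := by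
      rw [hx, map_add, parityProj_of_mem Q 1 _ e1,
        parityProj_of_mem_ne Q 0 1 (by decide) _ e0, zero_add]
    have hE0 : evenPart Q (z * c) = a • (⟨c, hc⟩ : CliffordAlgebra.even Q) := by
      apply Subtype.ext
      rw [evenPart_coe, hP0]; rfl
    have hE1 : oddPartMul Q w' hw' (z * c) = q • (⟨c, hc⟩ : CliffordAlgebra.even Q) := by
      apply Subtype.ext
      rw [oddPartMul_coe, hP1, ← mul_assoc, ← hq, Algebra.smul_def]; rfl
    have hzZ : (⟨z, Subalgebra.mem_center_iff.2 hzc⟩ : Subalgebra.center R (CliffordAlgebra Q)) =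
        a • (1 : Subalgebra.center R (CliffordAlgebra Q)) +
          ⟨z₁, Subalgebra.mem_center_iff.2 (fun y => (hz1c y).symm)⟩ := by
      apply Subtype.ext
      change z = a • (1 : CliffordAlgebra Q) + z₁
      rw [← Algebra.algebraMap_eq_smul_one, ha, hzsum]
    have hqw : q • (⟨w, Subalgebra.mem_center_iff.2 (fun y => (hw y).symm)⟩ :
        Subalgebra.center R (CliffordAlgebra Q)) =
        r • ⟨z₁, Subalgebra.mem_center_iff.2 (fun y => (hz1c y).symm)⟩ := by
      apply Subtype.ext
      change q • w = r • z₁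
      rw [Algebra.smul_def, hq, mul_assoc, hz1c, ← mul_assoc, hwc' w, hr, ← Algebra.smul_def]
    rw [mulMap_tmul, invMap_apply]
    change r • ((1 : Subalgebra.center R (CliffordAlgebra Q)) ⊗ₜ[R] evenPart Q (z * c)) +
      _ ⊗ₜ[R] oddPartMul Q w' hw' (z * c) = _
    rw [hE0, hE1, hzZ, TensorProduct.add_tmul, smul_add, TensorProduct.tmul_smul,
      TensorProduct.tmul_smul]
    congr 1
    rw [TensorProduct.smul_tmul', TensorProduct.smul_tmul', hqw]

include b hQ in
/-- (c) of S16998. -/
theorem mulMap_bijective : Function.Bijective (mulMap Q) := by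
  apply bijective_of_span_eq_top (mulMap Q) (prodSet Q) (span_prodSet m b Q hQ)
  rintro r ⟨w, w', hw1, hwc, hw'1, hw'c, hr⟩
  exact ⟨invMap Q r w w' hwc hw'1, mulMap_invMap Q r w w' hwc hw'1 hr,
    invMap_mulMap m b Q hQ r w w' hwc hw1 hw'c hw'1 hr⟩

end glob

end Groth.Agent.Lib.CliffOddStr16

namespace Groth.Agent.Lib.CliffOddStr16
open QuadraticMap CliffordAlgebra TensorProduct
open Groth.Agent.Lib.CliffCentre16 Groth.Agent.Lib.CliffOdd16 Groth.Agent.Lib.CliffGPin16
open Groth.Agent.Lib.CliffBC16 Groth.Agent.Lib.HalfDisc16 Groth.Agent.Lib.CliffLoc16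
open Groth.Agent.Lib.CliffDetConn16 Groth.Agent.Lib.CliffOddLG16

universe u v w

section reg
variable {R : Type u} [CommRing R] {M : Type v} [AddCommGroup M] [Module R M]

theorem isRegular_smul (Q : QuadraticForm R M) (c : R) (hc : IsUnit c) (hQ : QuadGrp.IsRegular Q) :
    QuadGrp.IsRegular (c • Q) := by
  have h1 : ∀ x, polarBilin (c • Q) x = c • polarBilin Q x := by
    intro x
    ext y
    simp [polar_smul]
  obtain ⟨u, rfl⟩ := hc
  constructor
  · intro x y hxy
    rw [h1, h1] at hxy
    apply hQ.1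
    have := congrArg (fun φ => (↑u⁻¹ : R) • φ) hxy
    simpa [smul_smul] using this
  · intro φ
    obtain ⟨x, hx⟩ := hQ.2 ((↑u⁻¹ : R) • φ)
    refine ⟨x, ?_⟩
    rw [h1, hx, smul_smul, Units.mul_inv, one_smul]

end reg

section evenmap
variable {R : Type u} [CommRing R] {M : Type v} [AddCommGroup M] [Module R M]
  (Q : QuadraticForm R M) {N : Type w} [AddCommGroup N] [Module R N] (φ : N →ₗ[R] M) (e₀ : M)
  (horth : ∀ n, polar Q (φ n) e₀ = 0)

include horth in
theorem evenGen_sq (n : N) :
    (ι Q (φ n) * ι Q e₀) * (ι Q (φ n) * ι Q e₀) =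
      algebraMap R _ (((-(Q e₀)) • (Q.comp φ)) n) := by
  have h1 : ι Q e₀ * ι Q (φ n) = -(ι Q (φ n) * ι Q e₀) :=
    ι_anticomm_of_polar Q e₀ (φ n) (by rw [polar_comm]; exact horth n)
  calc (ι Q (φ n) * ι Q e₀) * (ι Q (φ n) * ι Q e₀)
      = ι Q (φ n) * (ι Q e₀ * ι Q (φ n)) * ι Q e₀ := by simp only [mul_assoc]
    _ = -((ι Q (φ n) * ι Q (φ n)) * (ι Q e₀ * ι Q e₀)) := by
        rw [h1]; simp only [mul_neg, neg_mul, mul_assoc]
    _ = _ := by
        rw [ι_sq_scalar, ι_sq_scalar, ← map_mul, ← map_neg]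
        congr 1
        simp [mul_comm]

/-- `C(−Q(e₀)·Q|N) → C(Q)`, `n ↦ n e₀`. -/
noncomputable def evenGenMap : CliffordAlgebra ((-(Q e₀)) • (Q.comp φ)) →ₐ[R] CliffordAlgebra Q :=
  CliffordAlgebra.lift _ ⟨(LinearMap.mulRight R (ι Q e₀)) ∘ₗ (ι Q) ∘ₗ φ, fun n => by
    simp only [LinearMap.comp_apply, LinearMap.mulRight_apply]
    exact evenGen_sq Q φ e₀ horth n⟩

theorem evenGenMap_ι (n : N) :
    evenGenMap Q φ e₀ horth (ι _ n) = ι Q (φ n) * ι Q e₀ := by
  rw [evenGenMap, CliffordAlgebra.lift_ι_apply]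
  rfl

theorem evenGenMap_mem (x : CliffordAlgebra ((-(Q e₀)) • (Q.comp φ))) :
    evenGenMap Q φ e₀ horth x ∈ evenOdd Q 0 := by
  induction x using CliffordAlgebra.induction with
  | algebraMap r => rw [AlgHom.commutes]; exact SetLike.algebraMap_mem_graded _ _
  | ι n => rw [evenGenMap_ι]; exact ι_mul_ι_mem_evenOdd_zero Q _ _
  | mul a b ha hb =>
    rw [map_mul]
    have := SetLike.mul_mem_graded ha hb
    rwa [zero_add] at this
  | add a b ha hb => rw [map_add]; exact Submodule.add_mem _ ha hb

end evenmap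

end Groth.Agent.Lib.CliffOddStr16

namespace Groth.Agent.Lib.CliffOddStr16
open QuadraticMap CliffordAlgebra TensorProduct
open Groth.Agent.Lib.CliffCentre16 Groth.Agent.Lib.CliffOdd16 Groth.Agent.Lib.CliffGPin16
open Groth.Agent.Lib.CliffBC16 Groth.Agent.Lib.HalfDisc16 Groth.Agent.Lib.CliffLoc16
open Groth.Agent.Lib.CliffDetConn16 Groth.Agent.Lib.CliffOddLG16

universe u v w

section dim
variable {R : Type u} [CommRing R] {M : Type v} [AddCommGroup M] [Module R M]
  (Q : QuadraticForm R M)

/-- right multiplication by an anisotropic vector exchanges the even and odd parts. -/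
noncomputable def swapParity (e₀ : M) (c : Rˣ) (hc : (c : R) = Q e₀) :
    ↥(evenOdd Q 0) ≃ₗ[R] ↥(evenOdd Q 1) where
  toFun x := ⟨(x : CliffordAlgebra Q) * ι Q e₀, by
    have := SetLike.mul_mem_graded x.2 (ι_mem_evenOdd_one Q e₀)
    rwa [zero_add] at this⟩
  invFun y := ⟨(↑c⁻¹ : R) • ((y : CliffordAlgebra Q) * ι Q e₀), by
    have := SetLike.mul_mem_graded y.2 (ι_mem_evenOdd_one Q e₀)
    rw [show (1 : ZMod 2) + 1 = 0 from rfl] at this
    exact Submodule.smul_mem _ _ this⟩
  map_add' x y := by apply Subtype.ext; simp [add_mul]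
  map_smul' r x := by apply Subtype.ext; simp
  left_inv x := by
    apply Subtype.ext
    simp only [mul_assoc, ι_sq_scalar, ← hc]
    rw [← Algebra.commutes, ← Algebra.smul_def, smul_smul, Units.inv_mul, one_smul]
  right_inv y := by
    apply Subtype.ext
    simp only [smul_mul_assoc, mul_assoc, ι_sq_scalar, ← hc]
    rw [← Algebra.commutes, ← Algebra.smul_def, smul_smul, Units.inv_mul, one_smul]

theorem isCompl_evenOdd : IsCompl (evenOdd Q 0) (evenOdd Q 1) := by
  apply DirectSum.IsInternal.isCompl (show (0 : ZMod 2) ≠ 1 by decide) ?_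
    (DirectSum.Decomposition.isInternal (evenOdd Q))
  ext i
  simp only [Set.mem_univ, Set.mem_insert_iff, Set.mem_singleton_iff, true_iff]
  exact Groth.Agent.Lib.CliffBC16.zmod2_cases i

end dim

section dimfield
variable {K : Type u} [Field K] {V : Type v} [AddCommGroup V] [Module K V] [Module.Finite K V]
  (Q : QuadraticForm K V)

theorem finrank_even_of_anisotropic (e₀ : V) (hc : Q e₀ ≠ 0) (n : ℕ)
    (hV : Module.finrank K V = n + 1) :
    Module.finrank K ↥(evenOdd Q 0) = 2 ^ n := by
  have h1 := Submodule.finrank_add_eq_of_isCompl (isCompl_evenOdd Q)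
  have h2 := (swapParity Q e₀ (Units.mk0 _ hc) rfl).finrank_eq
  rw [finrank_clifford, hV, pow_succ] at h1
  omega

end dimfield

end Groth.Agent.Lib.CliffOddStr16

namespace Groth.Agent.Lib.CliffOddStr16
open QuadraticMap CliffordAlgebra TensorProduct
open Groth.Agent.Lib.CliffCentre16 Groth.Agent.Lib.CliffOdd16 Groth.Agent.Lib.CliffGPin16
open Groth.Agent.Lib.CliffBC16 Groth.Agent.Lib.HalfDisc16 Groth.Agent.Lib.CliffLoc16
open Groth.Agent.Lib.CliffDetConn16 Groth.Agent.Lib.CliffOddLG16 Groth.Agent.Lib.QuadPlane16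

universe u v w

/-- over a field, the even Clifford algebra of a semiregular form of rank `2m+1` is Azumaya (central simple) of
dimension `4^m`. -/
theorem isAzumaya_even_field {K : Type u} [Field K] {V : Type v} [AddCommGroup V] [Module K V]
    (m : ℕ) (b : Module.Basis (Fin (2 * m + 1)) K V) (Q : QuadraticForm K V)
    (hQ : QuadGrp.IsSemiregular b (LinearEquiv.refl K K) Q) :
    IsAzumaya K ↥(CliffordAlgebra.even Q) ∧
      Module.finrank K ↥(CliffordAlgebra.even Q) = 2 ^ (2 * m) := by
  haveI : Module.Free K V := Module.Free.of_basis b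
  haveI : Module.Finite K V := Module.Finite.of_basis b
  obtain ⟨b', horth, hu0, hudet⟩ := Groth.Agent.Lib.OddDecomp16.exists_orth_basis m b Q hQ
  set Φ := basisSplit b' with hΦ
  set φ : (Fin (2 * m) → K) →ₗ[K] V := Φ.toLinearMap ∘ₗ LinearMap.inl K (Fin (2 * m) → K) K with hφ
  set e₀ := b' 0 with he₀
  have horth' : ∀ n, polar Q (φ n) e₀ = 0 := by
    intro n
    have := basisSplit_orth Q b' horth n 1
    rwa [basisSplit_inr_one] at this
  have hQ₁ : Q.comp φ = formL Q Φ := rfl
  have hreg : QuadGrp.IsRegular (Q.comp φ) := by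
    rw [hQ₁, isRegular_iff_isUnit_det _ (Pi.basisFun K (Fin (2 * m))), hΦ, gram_formL,
      Matrix.det_transpose]
    exact hudet
  have hrank : Module.finrank K (Fin (2 * m) → K) = 2 * m := by simp
  have hc : Q e₀ ≠ 0 := hu0.ne_zero
  have hreg' : QuadGrp.IsRegular ((-(Q e₀)) • (Q.comp φ)) :=
    isRegular_smul _ _ hu0.neg hreg
  haveI hAz := Groth.Agent.Lib.CliffAz16.isAzumaya_clifford ((-(Q e₀)) • (Q.comp φ)) m hrank hreg'
  haveI hsimple : IsSimpleRing (CliffordAlgebra ((-(Q e₀)) • (Q.comp φ))) :=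
    Groth.Agent.Lib.Azumaya16.isSimpleRing_of_isAzumaya_field K _
  have hV : Module.finrank K V = 2 * m + 1 := by
    rw [Module.finrank_eq_card_basis b, Fintype.card_fin]
  haveI : Nontrivial (CliffordAlgebra Q) := (algebraMap_injective_of_free Q).nontrivial
  set f := evenGenMap Q φ e₀ horth' with hf
  have hfinj : Function.Injective f := RingHom.injective f.toRingHom
  have hdimE : Module.finrank K ↥(CliffordAlgebra.even Q) = 2 ^ (2 * m) :=
    finrank_even_of_anisotropic Q e₀ hc (2 * m) hV
  have hdimC : Module.finrank K (CliffordAlgebra ((-(Q e₀)) • (Q.comp φ))) = 2 ^ (2 * m) := by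
    rw [finrank_clifford, hrank]
  let f' : CliffordAlgebra ((-(Q e₀)) • (Q.comp φ)) →ₐ[K] ↥(CliffordAlgebra.even Q) :=
    f.codRestrict (CliffordAlgebra.even Q) (fun x => evenGenMap_mem Q φ e₀ horth' x)
  have hf'inj : Function.Injective f' := by
    intro x y hxy
    apply hfinj
    exact congrArg Subtype.val hxy
  have hf'surj : Function.Surjective f' := by
    have := (LinearMap.injective_iff_surjective_of_finrank_eq_finrank
      (f := f'.toLinearMap) (hdimC.trans hdimE.symm)).1 hf'inj
    exact this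
  refine ⟨?_, hdimE⟩
  exact IsAzumaya.of_AlgEquiv K _ _ (AlgEquiv.ofBijective f' ⟨hf'inj, hf'surj⟩)

end Groth.Agent.Lib.CliffOddStr16

namespace Groth.Agent.Lib.CliffOddStr16
open QuadraticMap CliffordAlgebra TensorProduct
open Groth.Agent.Lib.CliffCentre16 Groth.Agent.Lib.CliffOdd16 Groth.Agent.Lib.CliffGPin16
open Groth.Agent.Lib.CliffBC16 Groth.Agent.Lib.HalfDisc16 Groth.Agent.Lib.CliffLoc16
open Groth.Agent.Lib.CliffDetConn16 Groth.Agent.Lib.CliffOddLG16 Groth.Agent.Lib.QuadPlane16

universe u v w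

section bceven
variable {R : Type u} [CommRing R] {M : Type v} [AddCommGroup M] [Module R M] [Module.Free R M]
  (K : Type w) [CommRing K] [Algebra R K] (Q : QuadraticForm R M)

/-- `K ⊗ C₀(Q) → C(Q_K)`. -/
noncomputable def bcEvenHom :
    K ⊗[R] ↥(CliffordAlgebra.even Q) →ₐ[K] CliffordAlgebra (QuadGrp.baseChangeForm K Q) :=
  ((bcEquiv K Q : K ⊗[R] CliffordAlgebra Q ≃ₐ[K] _) : K ⊗[R] CliffordAlgebra Q →ₐ[K] _).comp
    (Algebra.TensorProduct.map (AlgHom.id K K) (CliffordAlgebra.even Q).val)

@[simp] theorem bcEvenHom_tmul (a : K) (x : CliffordAlgebra.even Q) :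
    bcEvenHom K Q (a ⊗ₜ x) = a • ofBCAux K Q (x : CliffordAlgebra Q) := by
  simp [bcEvenHom]

theorem bcEvenHom_mem (t : K ⊗[R] ↥(CliffordAlgebra.even Q)) :
    bcEvenHom K Q t ∈ CliffordAlgebra.even (QuadGrp.baseChangeForm K Q) := by
  induction t using TensorProduct.induction_on with
  | zero => rw [map_zero]; exact Subalgebra.zero_mem _
  | tmul a x =>
    rw [bcEvenHom_tmul]
    exact Submodule.smul_mem (evenOdd (QuadGrp.baseChangeForm K Q) 0) a
      (ofBCAux_mem_evenOdd K Q 0 _ x.2)
  | add s t hs ht => rw [map_add]; exact Subalgebra.add_mem _ hs ht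

theorem evenPart_val (x : CliffordAlgebra.even Q) : evenPart Q (x : CliffordAlgebra Q) = x := by
  apply Subtype.ext
  rw [evenPart_coe]
  exact parityProj_of_mem Q 0 _ x.2

theorem bcEvenHom_injective : Function.Injective (bcEvenHom K Q) := by
  have h1 : Function.Injective
      (Algebra.TensorProduct.map (AlgHom.id K K) (CliffordAlgebra.even Q).val) := by
    have hli : Function.LeftInverse (LinearMap.lTensor K (evenPart Q))
        (Algebra.TensorProduct.map (AlgHom.id K K) (CliffordAlgebra.even Q).val) := by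
      intro t
      induction t using TensorProduct.induction_on with
      | zero => simp
      | tmul a x => simp [evenPart_val]
      | add s t hs ht => rw [map_add, map_add, hs, ht]
    exact hli.injective
  intro s t hst
  apply h1
  apply (bcEquiv K Q).injective
  exact hst

/-- compatibility of the parity projections with base change. -/
theorem bcEquiv_lTensor_parityProj (i : ZMod 2) (t : K ⊗[R] CliffordAlgebra Q) :
    bcEquiv K Q (LinearMap.lTensor K (parityProj Q i) t) =
      parityProj (QuadGrp.baseChangeForm K Q) i (bcEquiv K Q t) := by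
  induction t using TensorProduct.induction_on with
  | zero => simp
  | tmul a x =>
    rw [LinearMap.lTensor_tmul, bcEquiv_tmul, bcEquiv_tmul, map_smul]
    congr 1
    have hx := parityProj_add Q x
    conv_rhs => rw [← hx, map_add, map_add]
    have h0 := ofBCAux_mem_evenOdd K Q 0 _ (parityProj_mem Q 0 x)
    have h1 := ofBCAux_mem_evenOdd K Q 1 _ (parityProj_mem Q 1 x)
    rcases zmod2_cases i with rfl | rfl
    · rw [parityProj_of_mem _ 0 _ h0, parityProj_of_mem_ne _ 1 0 (by decide) _ h1, add_zero]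
    · rw [parityProj_of_mem _ 1 _ h1, parityProj_of_mem_ne _ 0 1 (by decide) _ h0, zero_add]
  | add s t hs ht => rw [map_add, map_add, hs, map_add, ht, map_add]

theorem bcEvenHom_surjective (y : CliffordAlgebra (QuadGrp.baseChangeForm K Q))
    (hy : y ∈ evenOdd (QuadGrp.baseChangeForm K Q) 0) : ∃ t, bcEvenHom K Q t = y := by
  refine ⟨LinearMap.lTensor K (evenPart Q) ((bcEquiv K Q).symm y), ?_⟩
  have h1 : ∀ t : K ⊗[R] CliffordAlgebra Q,
      bcEvenHom K Q (LinearMap.lTensor K (evenPart Q) t) =
        bcEquiv K Q (LinearMap.lTensor K (parityProj Q 0) t) := by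
    intro t
    induction t using TensorProduct.induction_on with
    | zero => simp
    | tmul a x => simp
    | add s t hs ht => rw [map_add, map_add, hs, map_add, map_add, ht]
  rw [h1, bcEquiv_lTensor_parityProj, AlgEquiv.apply_symm_apply, parityProj_of_mem _ 0 _ hy]

/-- **base change of the even Clifford algebra**. -/
noncomputable def bcEvenEquiv :
    K ⊗[R] ↥(CliffordAlgebra.even Q) ≃ₐ[K] ↥(CliffordAlgebra.even (QuadGrp.baseChangeForm K Q)) :=
  AlgEquiv.ofBijective
    ((bcEvenHom K Q).codRestrict (CliffordAlgebra.even (QuadGrp.baseChangeForm K Q))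
      (bcEvenHom_mem K Q))
    ⟨fun s t hst => bcEvenHom_injective K Q (congrArg Subtype.val hst),
     fun y => by
      obtain ⟨t, ht⟩ := bcEvenHom_surjective K Q y y.2
      exact ⟨t, Subtype.ext ht⟩⟩

end bceven

end Groth.Agent.Lib.CliffOddStr16

namespace Groth.Agent.Lib.CliffOddStr16
open QuadraticMap CliffordAlgebra TensorProduct
open Groth.Agent.Lib.CliffCentre16 Groth.Agent.Lib.CliffOdd16 Groth.Agent.Lib.CliffGPin16
open Groth.Agent.Lib.CliffBC16 Groth.Agent.Lib.HalfDisc16 Groth.Agent.Lib.CliffLoc16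
open Groth.Agent.Lib.CliffDetConn16 Groth.Agent.Lib.CliffOddLG16 Groth.Agent.Lib.QuadPlane16

universe u v w

section evenmod
variable {R : Type u} [CommRing R] {M : Type v} [AddCommGroup M] [Module R M] [Module.Free R M]
  (Q : QuadraticForm R M)

instance finite_even [Module.Finite R M] : Module.Finite R ↥(CliffordAlgebra.even Q) :=
  Module.Finite.of_surjective (evenPart Q) (fun x => ⟨x, evenPart_val Q x⟩)

instance projective_even : Module.Projective R ↥(CliffordAlgebra.even Q) :=
  Module.Projective.of_split (CliffordAlgebra.even Q).val.toLinearMap (evenPart Q) (by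
    ext x
    simp only [LinearMap.comp_apply, LinearMap.id_apply]
    exact congrArg Subtype.val (evenPart_val Q x))

end evenmod

section glob
variable {R : Type u} [CommRing R] {M : Type v} [AddCommGroup M] [Module R M] [Module.Free R M]
  [Module.Finite R M] (m : ℕ) (b : Module.Basis (Fin (2 * m + 1)) R M) (Q : QuadraticForm R M)
  (hQ : QuadGrp.IsSemiregular b (LinearEquiv.refl R R) Q)

include b hQ in
/-- the even Clifford algebra of a semiregular form of odd rank is Azumaya over the base. -/
theorem isAzumaya_even : IsAzumaya R ↥(CliffordAlgebra.even Q) := by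
  apply Groth.Agent.Lib.Azumaya16.isAzumaya_of_fibres
  intro 𝔪 h𝔪
  letI : Field (R ⧸ 𝔪) := Ideal.Quotient.field 𝔪
  refine ⟨R ⧸ 𝔪, inferInstance, inferInstance, ?_, ?_⟩
  · rw [Ideal.Quotient.algebraMap_eq, Ideal.mk_ker]
  · haveI := (isAzumaya_even_field m (b.baseChange (R ⧸ 𝔪)) (QuadGrp.baseChangeForm (R ⧸ 𝔪) Q)
      (isSemiregular_baseChange (R ⧸ 𝔪) Q b hQ)).1
    exact IsAzumaya.of_AlgEquiv (R ⧸ 𝔪) _ _ (bcEvenEquiv (R ⧸ 𝔪) Q).symm

include b hQ in
theorem rankAtStalk_even (p : PrimeSpectrum R) :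
    Module.rankAtStalk ↥(CliffordAlgebra.even Q) p = (2 ^ m) ^ 2 := by
  rw [Module.rankAtStalk_eq]
  have h := (isAzumaya_even_field m (b.baseChange p.asIdeal.ResidueField)
    (QuadGrp.baseChangeForm p.asIdeal.ResidueField Q)
    (isSemiregular_baseChange p.asIdeal.ResidueField Q b hQ)).2
  rw [← pow_mul, mul_comm, ← h]
  exact (bcEvenEquiv p.asIdeal.ResidueField Q).toLinearEquiv.finrank_eq

end glob

end Groth.Agent.Lib.CliffOddStr16

namespace Groth.Agent.Lib.CliffOddStr16
open QuadraticMap CliffordAlgebra TensorProduct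

universe u

/-- **S16998**. -/
theorem main_S16998 {R : Type u} [CommRing R] {M : Type u} [AddCommGroup M] [Module R M]
    (m : ℕ) (b : Module.Basis (Fin (2 * m + 1)) R M) (Q : QuadraticForm R M)
    (hQ : QuadGrp.IsSemiregular b (LinearEquiv.refl R R) Q) :
    (∃ (R' : Type u) (_ : CommRing R') (_ : Algebra R R'), Module.FaithfullyFlat R R' ∧ Algebra.FinitePresentation R R' ∧
        Nonempty ((R' ⊗[R] ↥(CliffordAlgebra.even Q)) ≃ₐ[R'] Matrix (Fin (2 ^ m)) (Fin (2 ^ m)) R')) ∧
    (∀ z ∈ Subalgebra.center R (CliffordAlgebra Q), z ∈ CliffordAlgebra.evenOdd Q 0 →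
        z ∈ (algebraMap R (CliffordAlgebra Q)).range) ∧
    Function.Bijective (TensorProduct.lift
        (((LinearMap.mul R (CliffordAlgebra Q)).comp (Subalgebra.center R (CliffordAlgebra Q)).val.toLinearMap).compl₂
          (CliffordAlgebra.even Q).val.toLinearMap)) ∧
    (Function.Injective (CliffordAlgebra.ι Q) ∧
      ∃ W : Submodule R (CliffordAlgebra Q), IsCompl (LinearMap.range (CliffordAlgebra.ι Q)) W) := by
  haveI : Module.Free R M := Module.Free.of_basis b
  haveI : Module.Finite R M := Module.Finite.of_basis b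
  refine ⟨?_, ?_, mulMap_bijective m b Q hQ, ι_split Q⟩
  · haveI := isAzumaya_even m b Q hQ
    exact Groth.Agent.Lib.AzumayaFPSplit16.exists_fp_splitting R ↥(CliffordAlgebra.even Q) (2 ^ m)
      Nat.one_le_two_pow (rankAtStalk_even m b Q hQ)
  · intro z hz hz0
    rw [Subalgebra.mem_center_iff] at hz
    obtain ⟨r, hr⟩ := even_central_scalar m b Q hQ z (fun y => (hz y).symm) hz0
    exact ⟨r, hr⟩

end Groth.Agent.Lib.CliffOddStr16
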