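import Groth.Agent.Lib.CliffTensor16
import Groth.Agent.Lib.Azumaya16Fibre

/-!
# Clifford algebra of a regular plane over a field is central simple (helper16)

relations `rEE rFE rEz rzF rzE rFz rzz`, `exists_coords` (spanning by `1, z, e, f`), `linearIndependent_four`,
`isSimpleRing_plane`, `isCentral_plane`, `isAzumaya_plane`.
-/

set_option autoImplicit false
set_option linter.style.haveILetI false
set_option linter.unusedSectionVars false
set_option linter.unusedSimpArgs false
set_option linter.unusedVariables false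

namespace Groth.Agent.Lib.CliffPlane16
open QuadraticMap CliffordAlgebra
open Groth.Agent.Lib.QuadPlane16 Groth.Agent.Lib.CliffTensor16

universe u v

section rel
variable {R : Type u} [CommRing R] {M : Type v} [AddCommGroup M] [Module R M]
  (Q : QuadraticForm R M) (e f : M)

/-- `z = e f`. -/
noncomputable def zElt : CliffordAlgebra Q := ι Q e * ι Q f

theorem rEE : ι Q e * ι Q e = Q e • (1 : CliffordAlgebra Q) := by
  rw [ι_sq_scalar, Algebra.algebraMap_eq_smul_one]

theorem rFE : ι Q f * ι Q e = polar Q e f • (1 : CliffordAlgebra Q) - zElt Q e f := by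
  rw [zElt, eq_sub_iff_add_eq', ι_mul_ι_add_swap, Algebra.algebraMap_eq_smul_one]

theorem rEz : ι Q e * zElt Q e f = Q e • ι Q f := by
  rw [zElt, ← mul_assoc, rEE, smul_mul_assoc, one_mul]

theorem rzF : zElt Q e f * ι Q f = Q f • ι Q e := by
  rw [zElt, mul_assoc, rEE, mul_smul_comm, mul_one]

theorem rzE : zElt Q e f * ι Q e = polar Q e f • ι Q e - Q e • ι Q f := by
  rw [zElt, mul_assoc, rFE, mul_sub, mul_smul_comm, mul_one, rEz]

theorem rFz : ι Q f * zElt Q e f = polar Q e f • ι Q f - Q f • ι Q e := by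
  rw [zElt, ← mul_assoc, rFE, sub_mul, smul_mul_assoc, one_mul, rzF]

theorem rzz : zElt Q e f * zElt Q e f = polar Q e f • zElt Q e f - (Q e * Q f) • (1 : CliffordAlgebra Q) := by
  have h : zElt Q e f * zElt Q e f = ι Q e * (ι Q f * zElt Q e f) := by
    conv_lhs => rw [zElt, mul_assoc]
    rfl
  rw [h, rFz, mul_sub, mul_smul_comm, mul_smul_comm, rEE, smul_smul, mul_comm (Q f)]
  rfl

theorem wElt_eq : wElt Q e f = polar Q e f • (1 : CliffordAlgebra Q) - (2 : R) • zElt Q e f := by
  rw [wElt, rFE, two_smul, zElt]; abel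

end rel

end Groth.Agent.Lib.CliffPlane16

namespace Groth.Agent.Lib.CliffPlane16
open QuadraticMap CliffordAlgebra
open Groth.Agent.Lib.QuadPlane16 Groth.Agent.Lib.CliffTensor16

universe u v

section span
variable {R : Type u} [CommRing R] {M : Type v} [AddCommGroup M] [Module R M]
  (Q : QuadraticForm R M) (e f : M)

theorem rEF : ι Q e * ι Q f = zElt Q e f := rfl

theorem rFF : ι Q f * ι Q f = Q f • (1 : CliffordAlgebra Q) := rEE Q f

theorem exists_coords (hspan : ∀ v : M, ∃ s t : R, v = s • e + t • f) (x : CliffordAlgebra Q) :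
    ∃ r s p q : R, x = r • (1 : CliffordAlgebra Q) + s • zElt Q e f + p • ι Q e + q • ι Q f := by
  induction x using CliffordAlgebra.left_induction with
  | algebraMap r =>
    exact ⟨r, 0, 0, 0, by rw [Algebra.algebraMap_eq_smul_one]; simp⟩
  | add x y hx hy =>
    obtain ⟨r, s, p, q, rfl⟩ := hx
    obtain ⟨r', s', p', q', rfl⟩ := hy
    exact ⟨r + r', s + s', p + p', q + q', by module⟩
  | ι_mul x m hx =>
    obtain ⟨r, s, p, q, rfl⟩ := hx
    obtain ⟨p', q', rfl⟩ := hspan m
    refine ⟨p' * p * Q e + q' * p * polar Q e f + q' * q * Q f, p' * q - q' * p,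
      p' * r - q' * s * Q f, p' * s * Q e + q' * r + q' * s * polar Q e f, ?_⟩
    simp only [map_add, map_smul, add_mul, mul_add, smul_mul_assoc, mul_smul_comm, mul_one,
      rEE Q e, rFF Q f, rEz Q e f, rFz Q e f, rFE Q e f, rEF Q e f]
    module

end span

end Groth.Agent.Lib.CliffPlane16

namespace Groth.Agent.Lib.CliffPlane16
open QuadraticMap CliffordAlgebra
open Groth.Agent.Lib.QuadPlane16 Groth.Agent.Lib.CliffTensor16

universe u v

section field
variable {K : Type u} [Field K] {V : Type v} [AddCommGroup V] [Module K V]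
  (Q : QuadraticForm K V) (e f : V)

theorem coeff_zero_of_polar (hδ : delta Q e f ≠ 0) (s t : K)
    (h1 : polar Q e (s • e + t • f) = 0) (h2 : polar Q f (s • e + t • f) = 0) : s = 0 ∧ t = 0 := by
  rw [polar_add_right, polar_smul_right, polar_smul_right, polar_self, smul_eq_mul, smul_eq_mul] at h1 h2
  rw [polar_comm Q f e] at h2
  rw [delta] at hδ
  constructor
  · have : (polar Q e f ^ 2 - 4 * Q e * Q f) * s = 0 := by
      linear_combination (polar Q e f) * h2 - (2 * Q f) * h1
    exact (mul_eq_zero.1 this).resolve_left hδ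
  · have : (polar Q e f ^ 2 - 4 * Q e * Q f) * t = 0 := by
      linear_combination (polar Q e f) * h1 - (2 * Q e) * h2
    exact (mul_eq_zero.1 this).resolve_left hδ

theorem coeff_zero_of_eq_zero (hδ : delta Q e f ≠ 0) (s t : K) (h : s • e + t • f = 0) :
    s = 0 ∧ t = 0 :=
  coeff_zero_of_polar Q e f hδ s t (by rw [h]; simp) (by rw [h]; simp)

variable (hspan : ∀ v : V, ∃ s t : K, v = s • e + t • f) (hδ : delta Q e f ≠ 0)

include hspan hδ

/-- basis `e, f` of the plane. -/
noncomputable def planeBasis : Module.Basis (Fin 2) K V :=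
  Module.Basis.mk (v := ![e, f])
    (by
      rw [Fintype.linearIndependent_iff]
      intro g hg
      rw [Fin.sum_univ_two] at hg
      have := coeff_zero_of_eq_zero Q e f hδ (g 0) (g 1) (by simpa using hg)
      intro i
      fin_cases i
      · exact this.1
      · exact this.2)
    (by
      intro v _
      obtain ⟨s, t, rfl⟩ := hspan v
      refine Submodule.add_mem _ (Submodule.smul_mem _ _ (Submodule.subset_span ⟨0, rfl⟩))
        (Submodule.smul_mem _ _ (Submodule.subset_span ⟨1, rfl⟩)))

theorem finrank_plane : Module.finrank K V = 2 := by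
  rw [Module.finrank_eq_card_basis (planeBasis Q e f hspan hδ), Fintype.card_fin]

theorem finite_plane : Module.Finite K V := Module.Finite.of_basis (planeBasis Q e f hspan hδ)

theorem finrank_clifford_plane : Module.finrank K (CliffordAlgebra Q) = 4 := by
  have := finite_plane Q e f hspan hδ
  rw [Groth.Agent.Lib.CliffBC16.finrank_clifford, finrank_plane Q e f hspan hδ]
  norm_num

theorem linearIndependent_four :
    LinearIndependent K ![(1 : CliffordAlgebra Q), zElt Q e f, ι Q e, ι Q f] := by
  have := finite_plane Q e f hspan hδ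
  apply linearIndependent_of_top_le_span_of_card_eq_finrank
  · intro x _
    obtain ⟨r, s, p, q, rfl⟩ := exists_coords Q e f hspan x
    refine Submodule.add_mem _ (Submodule.add_mem _ (Submodule.add_mem _ ?_ ?_) ?_) ?_
    · exact Submodule.smul_mem _ _ (Submodule.subset_span ⟨0, rfl⟩)
    · exact Submodule.smul_mem _ _ (Submodule.subset_span ⟨1, rfl⟩)
    · exact Submodule.smul_mem _ _ (Submodule.subset_span ⟨2, rfl⟩)
    · exact Submodule.smul_mem _ _ (Submodule.subset_span ⟨3, rfl⟩)
  · rw [Fintype.card_fin, finrank_clifford_plane Q e f hspan hδ]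

theorem coords_eq_zero (r s p q : K)
    (h : r • (1 : CliffordAlgebra Q) + s • zElt Q e f + p • ι Q e + q • ι Q f = 0) :
    r = 0 ∧ s = 0 ∧ p = 0 ∧ q = 0 := by
  have hli := linearIndependent_four Q e f hspan hδ
  rw [Fintype.linearIndependent_iff] at hli
  have := hli ![r, s, p, q] (by
    rw [Fin.sum_univ_four]
    simpa using h)
  exact ⟨this 0, this 1, this 2, this 3⟩

end field

end Groth.Agent.Lib.CliffPlane16

namespace Groth.Agent.Lib.CliffPlane16
open QuadraticMap CliffordAlgebra
open Groth.Agent.Lib.QuadPlane16 Groth.Agent.Lib.CliffTensor16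

universe u v

section field
variable {K : Type u} [Field K] {V : Type v} [AddCommGroup V] [Module K V]
  (Q : QuadraticForm K V) (e f : V)

theorem smul_mem_tsi {A : Type*} [Ring A] [Algebra K A] (I : TwoSidedIdeal A) (c : K) {x : A}
    (hx : x ∈ I) : c • x ∈ I := by
  rw [Algebra.smul_def]
  exact I.mul_mem_left _ _ hx

theorem one_mem_of_algebraMap_mem {A : Type*} [Ring A] [Algebra K A] (I : TwoSidedIdeal A) (c : K)
    (hc : c ≠ 0) (h : algebraMap K A c ∈ I) : (1 : A) ∈ I := by
  have := smul_mem_tsi I c⁻¹ h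
  rwa [Algebra.smul_def, ← map_mul, inv_mul_cancel₀ hc, map_one] at this

theorem one_mem_of_vector_mem (hδ : delta Q e f ≠ 0) (I : TwoSidedIdeal (CliffordAlgebra Q))
    (p q : K) (hpq : p ≠ 0 ∨ q ≠ 0) (h : p • ι Q e + q • ι Q f ∈ I) :
    (1 : CliffordAlgebra Q) ∈ I := by
  have hv : ι Q (p • e + q • f) ∈ I := by simpa using h
  have hne : ¬ (polar Q e (p • e + q • f) = 0 ∧ polar Q f (p • e + q • f) = 0) := by
    rintro ⟨h1, h2⟩
    obtain ⟨hp, hq⟩ := coeff_zero_of_polar Q e f hδ p q h1 h2
    rcases hpq with h | h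
    · exact h hp
    · exact h hq
  rw [not_and_or] at hne
  rcases hne with h1 | h1
  · refine one_mem_of_algebraMap_mem I _ h1 ?_
    rw [← ι_mul_ι_add_swap]
    exact I.add_mem (I.mul_mem_left _ _ hv) (I.mul_mem_right _ _ hv)
  · refine one_mem_of_algebraMap_mem I _ h1 ?_
    rw [← ι_mul_ι_add_swap]
    exact I.add_mem (I.mul_mem_left _ _ hv) (I.mul_mem_right _ _ hv)

theorem key_identity (r s p q : K) :
    zElt Q e f * (r • (1 : CliffordAlgebra Q) + s • zElt Q e f + p • ι Q e + q • ι Q f) -
      (r • (1 : CliffordAlgebra Q) + s • zElt Q e f + p • ι Q e + q • ι Q f) *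
        (polar Q e f • (1 : CliffordAlgebra Q) - zElt Q e f) =
    -((r • (1 : CliffordAlgebra Q) + s • zElt Q e f) * wElt Q e f) := by
  rw [wElt_eq]
  simp only [add_mul, mul_add, mul_sub, sub_mul, smul_mul_assoc, mul_smul_comm, mul_one, one_mul,
    rzz Q e f, rzE Q e f, rzF Q e f, rEz Q e f, rFz Q e f]
  module

end field

end Groth.Agent.Lib.CliffPlane16

namespace Groth.Agent.Lib.CliffPlane16
open QuadraticMap CliffordAlgebra
open Groth.Agent.Lib.QuadPlane16 Groth.Agent.Lib.CliffTensor16

universe u v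

section field
variable {K : Type u} [Field K] {V : Type v} [AddCommGroup V] [Module K V]
  (Q : QuadraticForm K V) (e f : V)
  (hspan : ∀ v : V, ∃ s t : K, v = s • e + t • f) (hδ : delta Q e f ≠ 0)

include hspan hδ

theorem nontrivial_plane : Nontrivial (CliffordAlgebra Q) := by
  have := finite_plane Q e f hspan hδ
  apply Module.nontrivial_of_finrank_pos (R := K)
  rw [finrank_clifford_plane Q e f hspan hδ]
  norm_num

theorem isSimpleRing_plane : IsSimpleRing (CliffordAlgebra Q) := by
  have hnt := nontrivial_plane Q e f hspan hδ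
  refine IsSimpleRing.of_eq_bot_or_eq_top fun I => ?_
  by_cases hI : I = ⊥
  · exact Or.inl hI
  right
  rw [← TwoSidedIdeal.one_mem_iff]
  -- a nonzero element
  obtain ⟨x, hxI, hx0⟩ : ∃ x ∈ I, x ≠ 0 := by
    by_contra hcon
    push Not at hcon
    apply hI
    rw [eq_bot_iff]
    intro x hx
    rw [hcon x hx]
    exact TwoSidedIdeal.zero_mem _
  obtain ⟨r, s, p, q, rfl⟩ := exists_coords Q e f hspan x
  -- the even part lies in I
  have hy : -((r • (1 : CliffordAlgebra Q) + s • zElt Q e f) * wElt Q e f) ∈ I := by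
    rw [← key_identity Q e f r s p q]
    exact I.sub_mem (I.mul_mem_left _ _ hxI) (I.mul_mem_right _ _ hxI)
  have hx0I : r • (1 : CliffordAlgebra Q) + s • zElt Q e f ∈ I := by
    have h1 := I.mul_mem_right _ (wElt Q e f) hy
    rw [neg_mul, mul_assoc, wElt_sq, ← Algebra.commutes, ← Algebra.smul_def] at h1
    have h2 := smul_mem_tsi I (-(delta Q e f)⁻¹) h1
    rwa [smul_neg, neg_smul, neg_neg, smul_smul, inv_mul_cancel₀ hδ, one_smul] at h2
  have hx1I : p • ι Q e + q • ι Q f ∈ I := by
    have := I.sub_mem hxI hx0I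
    have h3 : r • (1 : CliffordAlgebra Q) + s • zElt Q e f + p • ι Q e + q • ι Q f -
        (r • (1 : CliffordAlgebra Q) + s • zElt Q e f) = p • ι Q e + q • ι Q f := by abel
    rwa [h3] at this
  by_cases hpq : p ≠ 0 ∨ q ≠ 0
  · exact one_mem_of_vector_mem Q e f hδ I p q hpq hx1I
  · push Not at hpq
    obtain ⟨hp, hq⟩ := hpq
    -- x₀ E and x₀ F
    have hE : (r + s * polar Q e f) • ι Q e + (-(s * Q e)) • ι Q f ∈ I := by
      have := I.mul_mem_right _ (ι Q e) hx0I
      have h4 : (r • (1 : CliffordAlgebra Q) + s • zElt Q e f) * ι Q e =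
          (r + s * polar Q e f) • ι Q e + (-(s * Q e)) • ι Q f := by
        simp only [add_mul, smul_mul_assoc, one_mul, rzE Q e f]
        module
      rwa [h4] at this
    have hF : (s * Q f) • ι Q e + r • ι Q f ∈ I := by
      have := I.mul_mem_right _ (ι Q f) hx0I
      have h4 : (r • (1 : CliffordAlgebra Q) + s • zElt Q e f) * ι Q f =
          (s * Q f) • ι Q e + r • ι Q f := by
        simp only [add_mul, smul_mul_assoc, one_mul, rzF Q e f]
        module
      rwa [h4] at this
    by_cases h5 : (r + s * polar Q e f) ≠ 0 ∨ (-(s * Q e)) ≠ 0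
    · exact one_mem_of_vector_mem Q e f hδ I _ _ h5 hE
    by_cases h6 : (s * Q f) ≠ 0 ∨ r ≠ 0
    · exact one_mem_of_vector_mem Q e f hδ I _ _ h6 hF
    exfalso
    push Not at h5 h6
    obtain ⟨h5a, h5b⟩ := h5
    obtain ⟨h6a, h6b⟩ := h6
    have hs : s ≠ 0 := by
      intro hs
      apply hx0
      rw [h6b, hs, hp, hq]
      simp
    have hc : polar Q e f = 0 := by
      rw [h6b, zero_add] at h5a
      exact (mul_eq_zero.1 h5a).resolve_left hs
    have ha : Q e = 0 := by
      rw [neg_eq_zero] at h5b
      exact (mul_eq_zero.1 h5b).resolve_left hs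
    apply hδ
    rw [delta, hc, ha]
    ring

end field

end Groth.Agent.Lib.CliffPlane16

namespace Groth.Agent.Lib.CliffPlane16
open QuadraticMap CliffordAlgebra
open Groth.Agent.Lib.QuadPlane16 Groth.Agent.Lib.CliffTensor16

universe u v

section field
variable {K : Type u} [Field K] {V : Type v} [AddCommGroup V] [Module K V]
  (Q : QuadraticForm K V) (e f : V)
  (hspan : ∀ v : V, ∃ s t : K, v = s • e + t • f) (hδ : delta Q e f ≠ 0)

include hspan hδ

theorem isCentral_plane : Algebra.IsCentral K (CliffordAlgebra Q) := by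
  constructor
  intro x hx
  rw [Subalgebra.mem_center_iff] at hx
  obtain ⟨r, s, p, q, rfl⟩ := exists_coords Q e f hspan x
  -- commute with z
  have hz := hx (zElt Q e f)
  have h1 : (p * polar Q e f + 2 * q * Q f) • ι Q e + (-(2 * p * Q e) - q * polar Q e f) • ι Q f
      = 0 := by
    have : zElt Q e f * (r • (1 : CliffordAlgebra Q) + s • zElt Q e f + p • ι Q e + q • ι Q f) -
        (r • (1 : CliffordAlgebra Q) + s • zElt Q e f + p • ι Q e + q • ι Q f) * zElt Q e f =
        (p * polar Q e f + 2 * q * Q f) • ι Q e +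
          (-(2 * p * Q e) - q * polar Q e f) • ι Q f := by
      simp only [add_mul, mul_add, smul_mul_assoc, mul_smul_comm, mul_one, one_mul,
        rzE Q e f, rzF Q e f, rEz Q e f, rFz Q e f]
      module
    rw [← this, hz, sub_self]
  obtain ⟨-, -, h1a, h1b⟩ := coords_eq_zero Q e f hspan hδ 0 0
    (p * polar Q e f + 2 * q * Q f) (-(2 * p * Q e) - q * polar Q e f)
    (by rw [zero_smul, zero_smul, zero_add, zero_add]; exact h1)
  rw [delta] at hδ
  have hp : p = 0 := by
    have : (polar Q e f ^ 2 - 4 * Q e * Q f) * p = 0 := by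
      linear_combination (polar Q e f) * h1a + (2 * Q f) * h1b
    exact (mul_eq_zero.1 this).resolve_left hδ
  have hq : q = 0 := by
    have : (polar Q e f ^ 2 - 4 * Q e * Q f) * q = 0 := by
      linear_combination (-(polar Q e f)) * h1b - (2 * Q e) * h1a
    exact (mul_eq_zero.1 this).resolve_left hδ
  subst hp hq
  -- commute with E and F
  have hE := hx (ι Q e)
  have h2 : (-(s * polar Q e f)) • ι Q e + (2 * s * Q e) • ι Q f = 0 := by
    have : ι Q e * (r • (1 : CliffordAlgebra Q) + s • zElt Q e f + (0 : K) • ι Q e + (0 : K) • ι Q f) -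
        (r • (1 : CliffordAlgebra Q) + s • zElt Q e f + (0 : K) • ι Q e + (0 : K) • ι Q f) * ι Q e =
        (-(s * polar Q e f)) • ι Q e + (2 * s * Q e) • ι Q f := by
      simp only [add_mul, mul_add, smul_mul_assoc, mul_smul_comm, mul_one, one_mul,
        rzE Q e f, rEz Q e f, zero_smul, add_zero]
      module
    rw [← this, hE, sub_self]
  obtain ⟨-, -, h2a, h2b⟩ := coords_eq_zero Q e f hspan (by rwa [delta]) 0 0
    (-(s * polar Q e f)) (2 * s * Q e)
    (by rw [zero_smul, zero_smul, zero_add, zero_add]; exact h2)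
  have hF := hx (ι Q f)
  have h3 : (-(2 * s * Q f)) • ι Q e + (s * polar Q e f) • ι Q f = 0 := by
    have : ι Q f * (r • (1 : CliffordAlgebra Q) + s • zElt Q e f + (0 : K) • ι Q e + (0 : K) • ι Q f) -
        (r • (1 : CliffordAlgebra Q) + s • zElt Q e f + (0 : K) • ι Q e + (0 : K) • ι Q f) * ι Q f =
        (-(2 * s * Q f)) • ι Q e + (s * polar Q e f) • ι Q f := by
      simp only [add_mul, mul_add, smul_mul_assoc, mul_smul_comm, mul_one, one_mul,
        rzF Q e f, rFz Q e f, zero_smul, add_zero]
      module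
    rw [← this, hF, sub_self]
  obtain ⟨-, -, h3a, -⟩ := coords_eq_zero Q e f hspan (by rwa [delta]) 0 0
    (-(2 * s * Q f)) (s * polar Q e f)
    (by rw [zero_smul, zero_smul, zero_add, zero_add]; exact h3)
  have hs : s = 0 := by
    by_contra hs
    apply hδ
    have hc : polar Q e f = 0 := by
      rw [neg_eq_zero] at h2a
      exact (mul_eq_zero.1 h2a).resolve_left hs
    have ha : 2 * Q e = 0 := by
      have : s * (2 * Q e) = 0 := by linear_combination h2b
      exact (mul_eq_zero.1 this).resolve_left hs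
    have hb : 2 * Q f = 0 := by
      have : s * (2 * Q f) = 0 := by linear_combination -h3a
      exact (mul_eq_zero.1 this).resolve_left hs
    rw [hc]
    linear_combination (-(2 * Q f)) * ha
  subst hs
  rw [Algebra.mem_bot]
  exact ⟨r, by rw [Algebra.algebraMap_eq_smul_one]; simp⟩

/-- The Clifford algebra of a regular plane over a field is Azumaya. -/
theorem isAzumaya_plane : IsAzumaya K (CliffordAlgebra Q) := by
  have := finite_plane Q e f hspan hδ
  have := isSimpleRing_plane Q e f hspan hδ
  have := isCentral_plane Q e f hspan hδ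
  exact Groth.Agent.Lib.Azumaya16.isAzumaya_of_csa K (CliffordAlgebra Q)

end field

end Groth.Agent.Lib.CliffPlane16
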