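/-
The Clifford algebra of the split quadratic form `x₀² + x₁x₂` of rank three over a field:
even units normalise the space of vectors (helper70).
-/
import Groth.Prelude.Def_QuadGrp
import Mathlib

set_option autoImplicit false
universe u

namespace Groth.Agent.Lib.CliffSplit3

open CliffordAlgebra

variable (k : Type u) [Field k]

theorem splitForm_three_apply (x : Fin 3 → k) :
    QuadGrp.splitForm k 3 x = x 0 * x 0 + x 1 * x 2 := by
  unfold QuadGrp.splitForm
  have h : (3 : ℕ) % 2 = 1 := by norm_num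
  rw [dif_pos h]
  have : (Finset.univ : Finset (Fin (3 / 2))) = {⟨0, by norm_num⟩} := by
    ext i
    simp only [Finset.mem_univ, Finset.mem_singleton, true_iff]
    apply Fin.ext
    have := i.2
    simp only [Fin.val_mk]
    omega
  rw [this, Finset.sum_singleton]
  simp only [QuadraticMap.add_apply, QuadraticMap.linMulLin_apply, LinearMap.proj_apply,
    QuadraticMap.comp_apply, QuadraticMap.sq_apply]
  rw [add_comm]
  rfl

/-- the basis vectors in the Clifford algebra -/
noncomputable def e (i : Fin 3) : CliffordAlgebra (QuadGrp.splitForm k 3) :=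
  ι (QuadGrp.splitForm k 3) (Pi.single i 1)

theorem e00 : e k 0 * e k 0 = 1 := by
  unfold e
  rw [ι_sq_scalar, splitForm_three_apply]
  simp

theorem e11 : e k 1 * e k 1 = 0 := by
  unfold e
  rw [ι_sq_scalar, splitForm_three_apply]
  simp

theorem e22 : e k 2 * e k 2 = 0 := by
  unfold e
  rw [ι_sq_scalar, splitForm_three_apply]
  simp

theorem e10 : e k 1 * e k 0 = -(e k 0 * e k 1) := by
  unfold e
  rw [eq_neg_iff_add_eq_zero, ι_mul_ι_add_swap, QuadraticMap.polar]
  simp only [splitForm_three_apply]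
  simp

theorem e20 : e k 2 * e k 0 = -(e k 0 * e k 2) := by
  unfold e
  rw [eq_neg_iff_add_eq_zero, ι_mul_ι_add_swap, QuadraticMap.polar]
  simp only [splitForm_three_apply]
  simp

theorem e21 : e k 2 * e k 1 = 1 - e k 1 * e k 2 := by
  unfold e
  rw [eq_sub_iff_add_eq, ι_mul_ι_add_swap, QuadraticMap.polar]
  simp only [splitForm_three_apply]
  simp

theorem ι_eq (m : Fin 3 → k) :
    ι (QuadGrp.splitForm k 3) m = m 0 • e k 0 + m 1 • e k 1 + m 2 • e k 2 := by
  unfold e
  simp only [← map_smul, ← map_add]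
  congr 1
  ext i
  fin_cases i <;> simp

theorem e00' (x : CliffordAlgebra (QuadGrp.splitForm k 3)) : e k 0 * (e k 0 * x) = x := by
  rw [← mul_assoc, e00, one_mul]
theorem e11' (x : CliffordAlgebra (QuadGrp.splitForm k 3)) : e k 1 * (e k 1 * x) = 0 := by
  rw [← mul_assoc, e11, zero_mul]
theorem e22' (x : CliffordAlgebra (QuadGrp.splitForm k 3)) : e k 2 * (e k 2 * x) = 0 := by
  rw [← mul_assoc, e22, zero_mul]
theorem e10' (x : CliffordAlgebra (QuadGrp.splitForm k 3)) :
    e k 1 * (e k 0 * x) = -(e k 0 * (e k 1 * x)) := by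
  rw [← mul_assoc, e10, neg_mul, mul_assoc]
theorem e20' (x : CliffordAlgebra (QuadGrp.splitForm k 3)) :
    e k 2 * (e k 0 * x) = -(e k 0 * (e k 2 * x)) := by
  rw [← mul_assoc, e20, neg_mul, mul_assoc]
theorem e21' (x : CliffordAlgebra (QuadGrp.splitForm k 3)) :
    e k 2 * (e k 1 * x) = x - e k 1 * (e k 2 * x) := by
  rw [← mul_assoc, e21, sub_mul, one_mul, mul_assoc]

/-- normalise products of basis vectors -/
macro "cliff_norm" : tactic =>
  `(tactic| simp only [mul_assoc, e00, e11, e22, e10, e20, e21, e00', e11', e22', e10', e20', e21',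
    mul_neg, neg_mul, mul_sub, sub_mul, mul_one, one_mul, mul_zero, zero_mul, neg_zero, sub_zero,
    neg_neg])

/-- membership in the span of explicit generators -/
syntax "span_mem" : tactic
macro_rules
  | `(tactic| span_mem) => `(tactic| first
      | exact Submodule.zero_mem _
      | (refine Submodule.subset_span ?_
         simp only [Set.mem_insert_iff, Set.mem_singleton_iff, true_or, or_true]
         done)
      | (apply Submodule.neg_mem; span_mem)
      | (apply Submodule.sub_mem <;> span_mem)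
      | (apply Submodule.add_mem <;> span_mem))

/-- the odd span -/
noncomputable def T : Submodule k (CliffordAlgebra (QuadGrp.splitForm k 3)) :=
  Submodule.span k {e k 0 * (e k 1 * e k 2), e k 0, e k 1, e k 2}

/-- the even span -/
noncomputable def S₀ : Submodule k (CliffordAlgebra (QuadGrp.splitForm k 3)) :=
  Submodule.span k {1, e k 0 * e k 1, e k 0 * e k 2, e k 1 * e k 2}

variable {k}

theorem mul_mem_of_forall_gen {a : CliffordAlgebra (QuadGrp.splitForm k 3)}
    {G : Set (CliffordAlgebra (QuadGrp.splitForm k 3))}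
    {S' : Submodule k (CliffordAlgebra (QuadGrp.splitForm k 3))}
    (h : ∀ g ∈ G, a * g ∈ S') : ∀ x ∈ Submodule.span k G, a * x ∈ S' := by
  have : Submodule.span k G ≤ S'.comap (LinearMap.mulLeft k a) := by
    rw [Submodule.span_le]
    intro g hg
    exact h g hg
  intro x hx
  exact this hx

theorem e_mul_mem_S₀ (i : Fin 3) : ∀ x ∈ T k, e k i * x ∈ S₀ k := by
  apply mul_mem_of_forall_gen
  intro g hg
  simp only [Set.mem_insert_iff, Set.mem_singleton_iff] at hg
  unfold S₀
  fin_cases i <;> rcases hg with rfl | rfl | rfl | rfl <;>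
    simp only [Fin.zero_eta, Fin.mk_one, Fin.reduceFinMk] <;> (try cliff_norm)
  all_goals span_mem

theorem e_mul_mem_T (i : Fin 3) : ∀ x ∈ S₀ k, e k i * x ∈ T k := by
  apply mul_mem_of_forall_gen
  intro g hg
  simp only [Set.mem_insert_iff, Set.mem_singleton_iff] at hg
  unfold T
  fin_cases i <;> rcases hg with rfl | rfl | rfl | rfl <;>
    simp only [Fin.zero_eta, Fin.mk_one, Fin.reduceFinMk] <;> (try cliff_norm)
  all_goals span_mem


theorem ι_mul_mem_S₀ (m : Fin 3 → k) {x : CliffordAlgebra (QuadGrp.splitForm k 3)} (hx : x ∈ T k) :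
    ι (QuadGrp.splitForm k 3) m * x ∈ S₀ k := by
  rw [ι_eq, add_mul, add_mul, smul_mul_assoc, smul_mul_assoc, smul_mul_assoc]
  exact Submodule.add_mem _ (Submodule.add_mem _ (Submodule.smul_mem _ _ (e_mul_mem_S₀ 0 x hx))
    (Submodule.smul_mem _ _ (e_mul_mem_S₀ 1 x hx))) (Submodule.smul_mem _ _ (e_mul_mem_S₀ 2 x hx))

theorem ι_mul_mem_T (m : Fin 3 → k) {x : CliffordAlgebra (QuadGrp.splitForm k 3)} (hx : x ∈ S₀ k) :
    ι (QuadGrp.splitForm k 3) m * x ∈ T k := by
  rw [ι_eq, add_mul, add_mul, smul_mul_assoc, smul_mul_assoc, smul_mul_assoc]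
  exact Submodule.add_mem _ (Submodule.add_mem _ (Submodule.smul_mem _ _ (e_mul_mem_T 0 x hx))
    (Submodule.smul_mem _ _ (e_mul_mem_T 1 x hx))) (Submodule.smul_mem _ _ (e_mul_mem_T 2 x hx))

theorem e_mem_T (i : Fin 3) : e k i ∈ T k := by
  unfold T
  fin_cases i <;> simp only [Fin.zero_eta, Fin.mk_one, Fin.reduceFinMk] <;> span_mem

/-- the odd part is spanned by `e₀, e₁, e₂, e₀e₁e₂` -/
theorem odd_le_T : evenOdd (QuadGrp.splitForm k 3) 1 ≤ T k := by
  intro x hx
  induction x, hx using odd_induction with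
  | ι v =>
    rw [ι_eq]
    exact Submodule.add_mem _ (Submodule.add_mem _ (Submodule.smul_mem _ _ (e_mem_T 0))
      (Submodule.smul_mem _ _ (e_mem_T 1))) (Submodule.smul_mem _ _ (e_mem_T 2))
  | add x y hx hy ihx ihy => exact Submodule.add_mem _ ihx ihy
  | ι_mul_ι_mul m₁ m₂ x hx ih =>
    rw [mul_assoc]
    exact ι_mul_mem_T m₁ (ι_mul_mem_S₀ m₂ ih)



/-- the matrix of a vector -/
def fmat : (Fin 3 → k) →ₗ[k] Matrix (Fin 2) (Fin 2) k where
  toFun x := !![x 0, -x 1; -x 2, -x 0]
  map_add' x y := by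
    ext i j
    fin_cases i <;> fin_cases j <;> simp [add_comm]
  map_smul' c x := by
    ext i j
    fin_cases i <;> fin_cases j <;> simp

theorem fmat_sq (x : Fin 3 → k) :
    fmat x * fmat x = algebraMap k (Matrix (Fin 2) (Fin 2) k) (QuadGrp.splitForm k 3 x) := by
  rw [splitForm_three_apply]
  ext i j
  fin_cases i <;> fin_cases j <;>
    simp [fmat, Matrix.mul_apply, Fin.sum_univ_two, Matrix.algebraMap_matrix_apply] <;> ring

/-- the representation on `k²` -/
noncomputable def Φ : CliffordAlgebra (QuadGrp.splitForm k 3) →ₐ[k] Matrix (Fin 2) (Fin 2) k :=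
  CliffordAlgebra.lift (QuadGrp.splitForm k 3) ⟨fmat, fmat_sq⟩

theorem Φ_ι (x : Fin 3 → k) : Φ (ι (QuadGrp.splitForm k 3) x) = fmat x := by
  unfold Φ
  rw [CliffordAlgebra.lift_ι_apply]

theorem trace_Φ_ι (x : Fin 3 → k) : (Φ (ι (QuadGrp.splitForm k 3) x)).trace = 0 := by
  rw [Φ_ι, Matrix.trace_fin_two]
  simp [fmat]

theorem trace_Φ_w : (Φ (e k 0 * (e k 1 * e k 2))).trace = 1 := by
  unfold e
  rw [map_mul, map_mul, Φ_ι, Φ_ι, Φ_ι, Matrix.trace_fin_two]
  simp [fmat, Matrix.mul_apply, Fin.sum_univ_two]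

theorem mem_range_of_mem_T {y : CliffordAlgebra (QuadGrp.splitForm k 3)} (hy : y ∈ T k)
    (htr : (Φ y).trace = 0) : y ∈ LinearMap.range (ι (QuadGrp.splitForm k 3)) := by
  unfold T at hy
  rw [Submodule.mem_span_insert] at hy
  obtain ⟨δ, z, hz, rfl⟩ := hy
  have hzr : z ∈ LinearMap.range (ι (QuadGrp.splitForm k 3)) := by
    have : Submodule.span k {e k 0, e k 1, e k 2} ≤ LinearMap.range (ι (QuadGrp.splitForm k 3)) := by
      rw [Submodule.span_le]
      intro g hg
      simp only [Set.mem_insert_iff, Set.mem_singleton_iff] at hg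
      rcases hg with rfl | rfl | rfl <;> exact ⟨_, rfl⟩
    exact this hz
  obtain ⟨m, rfl⟩ := hzr
  rw [map_add, map_smul, Matrix.trace_add, Matrix.trace_smul, trace_Φ_w, trace_Φ_ι, add_zero,
    smul_eq_mul, mul_one] at htr
  rw [htr, zero_smul, zero_add]
  exact ⟨m, rfl⟩

theorem conj_mem_range {u u' : CliffordAlgebra (QuadGrp.splitForm k 3)}
    (hu : u ∈ evenOdd (QuadGrp.splitForm k 3) 0) (hu' : u' ∈ evenOdd (QuadGrp.splitForm k 3) 0)
    (huu : u' * u = 1) (m : Fin 3 → k) :
    u * ι (QuadGrp.splitForm k 3) m * u' ∈ LinearMap.range (ι (QuadGrp.splitForm k 3)) := by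
  apply mem_range_of_mem_T
  · apply odd_le_T
    have h1 := SetLike.mul_mem_graded (SetLike.mul_mem_graded hu (ι_mem_evenOdd_one _ m)) hu'
    simpa using h1
  · rw [map_mul, map_mul, Matrix.trace_mul_cycle, ← map_mul, huu, map_one, Matrix.one_mul, Φ_ι]
    rw [← Φ_ι, trace_Φ_ι]



theorem evenUnits_le_GPin' :
    QuadGrp.evenUnits (QuadGrp.splitForm k 3) ≤ QuadGrp.GPin' (QuadGrp.splitForm k 3) := by
  intro u hu
  rw [QuadGrp.mem_GPin']
  have hu0 : (u : CliffordAlgebra (QuadGrp.splitForm k 3)) ∈ evenOdd (QuadGrp.splitForm k 3) 0 := hu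
  have hu0' : ((u⁻¹ : (CliffordAlgebra (QuadGrp.splitForm k 3))ˣ) :
      CliffordAlgebra (QuadGrp.splitForm k 3)) ∈ evenOdd (QuadGrp.splitForm k 3) 0 :=
    (QuadGrp.evenUnits (QuadGrp.splitForm k 3)).inv_mem hu
  apply le_antisymm
  · intro y hy
    rw [Submodule.mem_smul_pointwise_iff_exists] at hy
    obtain ⟨x, ⟨m, rfl⟩, rfl⟩ := hy
    rw [ConjAct.units_smul_def, ConjAct.ofConjAct_toConjAct]
    exact conj_mem_range hu0 hu0' (Units.inv_mul u) m
  · rintro y ⟨m, rfl⟩
    rw [Submodule.mem_smul_pointwise_iff_exists]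
    refine ⟨_, conj_mem_range hu0' hu0 (Units.mul_inv u) m, ?_⟩
    rw [ConjAct.units_smul_def, ConjAct.ofConjAct_toConjAct]
    simp only [mul_assoc, Units.mul_inv, mul_one, Units.mul_inv_cancel_left]


end Groth.Agent.Lib.CliffSplit3
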