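import Groth.Agent.Lib.QuadPlane16

/-!
# Tensor decomposition of Clifford algebras (helper16)

`tensorEquiv : C(Q₁ ⊥ Q₂) ≃ₐ C(Q₁) ⊗ C(δ⁻¹ Q₂)` given an even `w ∈ C(Q₁)` anticommuting with `M₁`, `w² = δ` a unit;
`wElt Q e f = f e − e f` with `wElt_sq = delta`, `wElt_anti_e/f`, `wElt_comm_perp`; `commute_of_generators`.
-/

set_option autoImplicit false
set_option linter.style.haveILetI false
set_option linter.unusedSectionVars false
set_option linter.unusedSimpArgs false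
set_option linter.unusedVariables false

namespace Groth.Agent.Lib.CliffTensor16
open QuadraticMap TensorProduct CliffordAlgebra

universe u v w

section gen
variable {R : Type u} [CommRing R] {M : Type v} [AddCommGroup M] [Module R M]
  {Q : QuadraticForm R M} {B : Type w} [Ring B] [Algebra R B]

theorem commute_of_generators (g : CliffordAlgebra Q →ₐ[R] B) (t : B)
    (h : ∀ m, Commute (g (ι Q m)) t) (x : CliffordAlgebra Q) : Commute (g x) t := by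
  induction x using CliffordAlgebra.induction with
  | algebraMap r => rw [AlgHom.commutes]; exact Algebra.commute_algebraMap_left r t
  | ι m => exact h m
  | mul a b ha hb => rw [map_mul]; exact ha.mul_left hb
  | add a b ha hb => rw [map_add]; exact ha.add_left hb

end gen

section tensor
variable {R : Type u} [CommRing R] {M₁ : Type v} [AddCommGroup M₁] [Module R M₁]
  {M₂ : Type w} [AddCommGroup M₂] [Module R M₂]
  (Q₁ : QuadraticForm R M₁) (Q₂ : QuadraticForm R M₂)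
  (w : CliffordAlgebra Q₁) (δ di : R)

/-- the linear map `(m₁,m₂) ↦ ι m₁ ⊗ 1 + w ⊗ ι m₂`. -/
noncomputable def fwdLin : M₁ × M₂ →ₗ[R] CliffordAlgebra Q₁ ⊗[R] CliffordAlgebra (di • Q₂) :=
  LinearMap.coprod
    ((Algebra.TensorProduct.includeLeft (R := R) (S := R) (A := CliffordAlgebra Q₁)
      (B := CliffordAlgebra (di • Q₂))).toLinearMap ∘ₗ ι Q₁)
    ((TensorProduct.mk R (CliffordAlgebra Q₁) (CliffordAlgebra (di • Q₂)) w) ∘ₗ ι (di • Q₂))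

theorem fwdLin_apply (m : M₁ × M₂) :
    fwdLin Q₁ Q₂ w di m = ι Q₁ m.1 ⊗ₜ 1 + w ⊗ₜ ι (di • Q₂) m.2 := by
  simp [fwdLin]

variable (hw1 : ∀ m, w * ι Q₁ m = -(ι Q₁ m * w)) (hw2 : w * w = algebraMap R _ δ)
  (hd : δ * di = 1)

include hw1 hw2 hd in
theorem fwdLin_sq (m : M₁ × M₂) :
    fwdLin Q₁ Q₂ w di m * fwdLin Q₁ Q₂ w di m =
      algebraMap R _ ((Q₁.prod Q₂) m) := by
  rw [fwdLin_apply, add_mul, mul_add, mul_add]
  simp only [Algebra.TensorProduct.tmul_mul_tmul, mul_one, one_mul, ι_sq_scalar, hw2, hw1]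
  rw [TensorProduct.neg_tmul]
  have h1 : (algebraMap R (CliffordAlgebra Q₁) δ) ⊗ₜ[R]
      (algebraMap R (CliffordAlgebra (di • Q₂)) ((di • Q₂) m.2)) =
      algebraMap R (CliffordAlgebra Q₁ ⊗[R] CliffordAlgebra (di • Q₂)) (Q₂ m.2) := by
    rw [Algebra.TensorProduct.algebraMap_apply, Algebra.algebraMap_eq_smul_one,
      Algebra.algebraMap_eq_smul_one, Algebra.algebraMap_eq_smul_one, TensorProduct.smul_tmul_smul,
      _root_.smul_apply, smul_eq_mul, ← mul_assoc, hd, one_mul, TensorProduct.smul_tmul']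
  rw [h1, QuadraticMap.prod_apply, map_add, ← Algebra.TensorProduct.algebraMap_apply]
  abel

/-- `C(Q₁ ⊥ Q₂) → C(Q₁) ⊗ C(δ⁻¹ Q₂)`. -/
noncomputable def fwd (hw1 : ∀ m, w * ι Q₁ m = -(ι Q₁ m * w)) (hw2 : w * w = algebraMap R _ δ)
    (hd : δ * di = 1) :
    CliffordAlgebra (Q₁.prod Q₂) →ₐ[R] CliffordAlgebra Q₁ ⊗[R] CliffordAlgebra (di • Q₂) :=
  CliffordAlgebra.lift _ ⟨fwdLin Q₁ Q₂ w di, fwdLin_sq Q₁ Q₂ w δ di hw1 hw2 hd⟩

theorem fwd_ι (m : M₁ × M₂) :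
    fwd Q₁ Q₂ w δ di hw1 hw2 hd (ι _ m) = ι Q₁ m.1 ⊗ₜ 1 + w ⊗ₜ ι (di • Q₂) m.2 := by
  rw [fwd, CliffordAlgebra.lift_ι_apply, fwdLin_apply]

end tensor

end Groth.Agent.Lib.CliffTensor16

namespace Groth.Agent.Lib.CliffTensor16
open QuadraticMap TensorProduct CliffordAlgebra

universe u v w

section tensor
variable {R : Type u} [CommRing R] {M₁ : Type v} [AddCommGroup M₁] [Module R M₁]
  {M₂ : Type w} [AddCommGroup M₂] [Module R M₂]
  (Q₁ : QuadraticForm R M₁) (Q₂ : QuadraticForm R M₂)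
  (w : CliffordAlgebra Q₁) (δ di : R)

/-- `C(Q₁) → C(Q₁ ⊥ Q₂)`. -/
noncomputable def bwd₁ : CliffordAlgebra Q₁ →ₐ[R] CliffordAlgebra (Q₁.prod Q₂) :=
  CliffordAlgebra.map (QuadraticMap.Isometry.inl Q₁ Q₂)

theorem bwd₁_ι (m : M₁) : bwd₁ Q₁ Q₂ (ι Q₁ m) = ι (Q₁.prod Q₂) (m, 0) := by
  rw [bwd₁, map_apply_ι, QuadraticMap.Isometry.inl_apply]

theorem ι_inl_mul_ι_inr (m₁ : M₁) (m₂ : M₂) :
    ι (Q₁.prod Q₂) (m₁, 0) * ι (Q₁.prod Q₂) (0, m₂) =
      -(ι (Q₁.prod Q₂) (0, m₂) * ι (Q₁.prod Q₂) (m₁, 0)) :=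
  ι_mul_ι_comm_of_isOrtho (QuadraticMap.IsOrtho.inl_inr m₁ m₂)

variable (hw0 : w ∈ evenOdd Q₁ 0)

include hw0 in
theorem commute_bwd₁_w (m₂ : M₂) :
    Commute (bwd₁ Q₁ Q₂ w) (ι (Q₁.prod Q₂) (0, m₂)) := by
  have h := commute_map_mul_map_of_isOrtho_of_mem_evenOdd_zero_left
    (QuadraticMap.Isometry.inl Q₁ Q₂) (QuadraticMap.Isometry.inr Q₁ Q₂)
    (fun x y => QuadraticMap.IsOrtho.inl_inr x y) w (ι Q₂ m₂) hw0 (ι_mem_evenOdd_one Q₂ m₂)
  rwa [map_apply_ι, QuadraticMap.Isometry.inr_apply] at h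

variable (hw1 : ∀ m, w * ι Q₁ m = -(ι Q₁ m * w)) (hw2 : w * w = algebraMap R _ δ)
  (hd : δ * di = 1)

/-- the linear map `m₂ ↦ δ⁻¹ w (0,m₂)`. -/
noncomputable def bwd₂Lin : M₂ →ₗ[R] CliffordAlgebra (Q₁.prod Q₂) :=
  di • ((LinearMap.mulLeft R (bwd₁ Q₁ Q₂ w)) ∘ₗ ι (Q₁.prod Q₂) ∘ₗ LinearMap.inr R M₁ M₂)

theorem bwd₂Lin_apply (m₂ : M₂) :
    bwd₂Lin Q₁ Q₂ w di m₂ = di • (bwd₁ Q₁ Q₂ w * ι (Q₁.prod Q₂) (0, m₂)) := by
  simp [bwd₂Lin]

include hw0 hw2 hd in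
theorem bwd₂Lin_sq (m₂ : M₂) :
    bwd₂Lin Q₁ Q₂ w di m₂ * bwd₂Lin Q₁ Q₂ w di m₂ = algebraMap R _ ((di • Q₂) m₂) := by
  rw [bwd₂Lin_apply, smul_mul_smul_comm]
  have hc := commute_bwd₁_w Q₁ Q₂ w hw0 m₂
  have h1 : bwd₁ Q₁ Q₂ w * ι (Q₁.prod Q₂) (0, m₂) * (bwd₁ Q₁ Q₂ w * ι (Q₁.prod Q₂) (0, m₂)) =
      (bwd₁ Q₁ Q₂ (w * w)) * (ι (Q₁.prod Q₂) (0, m₂) * ι (Q₁.prod Q₂) (0, m₂)) := by
    rw [map_mul, mul_assoc, ← mul_assoc (ι (Q₁.prod Q₂) (0, m₂)), ← hc.eq]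
    simp only [mul_assoc]
  rw [h1, hw2, AlgHom.commutes, ι_sq_scalar, ← map_mul,
    Algebra.algebraMap_eq_smul_one, Algebra.algebraMap_eq_smul_one, smul_smul]
  congr 1
  simp only [QuadraticMap.prod_apply, map_zero, zero_add, _root_.smul_apply, smul_eq_mul]
  linear_combination (di * Q₂ m₂) * hd

/-- `C(δ⁻¹Q₂) → C(Q₁ ⊥ Q₂)`. -/
noncomputable def bwd₂ (hw0 : w ∈ evenOdd Q₁ 0) (hw2 : w * w = algebraMap R _ δ)
    (hd : δ * di = 1) : CliffordAlgebra (di • Q₂) →ₐ[R] CliffordAlgebra (Q₁.prod Q₂) :=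
  CliffordAlgebra.lift _ ⟨bwd₂Lin Q₁ Q₂ w di, bwd₂Lin_sq Q₁ Q₂ w δ di hw0 hw2 hd⟩

theorem bwd₂_ι (m₂ : M₂) : bwd₂ Q₁ Q₂ w δ di hw0 hw2 hd (ι _ m₂) =
    di • (bwd₁ Q₁ Q₂ w * ι (Q₁.prod Q₂) (0, m₂)) := by
  rw [bwd₂, CliffordAlgebra.lift_ι_apply, bwd₂Lin_apply]

include hw1 in
theorem commute_gen (m₁ : M₁) (m₂ : M₂) :
    Commute (bwd₁ Q₁ Q₂ (ι Q₁ m₁)) (di • (bwd₁ Q₁ Q₂ w * ι (Q₁.prod Q₂) (0, m₂))) := by
  apply Commute.smul_right
  change _ * _ = _ * _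
  rw [← mul_assoc, ← map_mul, ← neg_neg (ι Q₁ m₁ * w), ← hw1 m₁, map_neg, map_mul, bwd₁_ι,
    neg_mul, mul_assoc, ι_inl_mul_ι_inr, mul_neg, neg_neg, mul_assoc]

include hw1 in
theorem commute_bwd (x : CliffordAlgebra Q₁) (y : CliffordAlgebra (di • Q₂)) :
    Commute (bwd₁ Q₁ Q₂ x) (bwd₂ Q₁ Q₂ w δ di hw0 hw2 hd y) := by
  refine (commute_of_generators (bwd₂ Q₁ Q₂ w δ di hw0 hw2 hd) (bwd₁ Q₁ Q₂ x) ?_ y).symm
  intro m₂
  rw [bwd₂_ι]
  refine (commute_of_generators (bwd₁ Q₁ Q₂) _ ?_ x).symm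
  intro m₁
  exact commute_gen Q₁ Q₂ w di hw1 m₁ m₂

/-- `C(Q₁) ⊗ C(δ⁻¹ Q₂) → C(Q₁ ⊥ Q₂)`. -/
noncomputable def bwd (hw0 : w ∈ evenOdd Q₁ 0) (hw1 : ∀ m, w * ι Q₁ m = -(ι Q₁ m * w))
    (hw2 : w * w = algebraMap R _ δ) (hd : δ * di = 1) :
    CliffordAlgebra Q₁ ⊗[R] CliffordAlgebra (di • Q₂) →ₐ[R] CliffordAlgebra (Q₁.prod Q₂) :=
  Algebra.TensorProduct.lift (bwd₁ Q₁ Q₂) (bwd₂ Q₁ Q₂ w δ di hw0 hw2 hd)
    (commute_bwd Q₁ Q₂ w δ di hw0 hw1 hw2 hd)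

theorem bwd_tmul (x : CliffordAlgebra Q₁) (y : CliffordAlgebra (di • Q₂)) :
    bwd Q₁ Q₂ w δ di hw0 hw1 hw2 hd (x ⊗ₜ y) =
      bwd₁ Q₁ Q₂ x * bwd₂ Q₁ Q₂ w δ di hw0 hw2 hd y := by
  simp [bwd]

end tensor

end Groth.Agent.Lib.CliffTensor16

namespace Groth.Agent.Lib.CliffTensor16
open QuadraticMap TensorProduct CliffordAlgebra

universe u v w

section tensor
variable {R : Type u} [CommRing R] {M₁ : Type v} [AddCommGroup M₁] [Module R M₁]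
  {M₂ : Type w} [AddCommGroup M₂] [Module R M₂]
  (Q₁ : QuadraticForm R M₁) (Q₂ : QuadraticForm R M₂)
  (w : CliffordAlgebra Q₁) (δ di : R)
  (hw0 : w ∈ evenOdd Q₁ 0)
  (hw1 : ∀ m, w * ι Q₁ m = -(ι Q₁ m * w)) (hw2 : w * w = algebraMap R _ δ)
  (hd : δ * di = 1)

theorem fwd_comp_bwd₁ :
    (fwd Q₁ Q₂ w δ di hw1 hw2 hd).comp (bwd₁ Q₁ Q₂) =
      Algebra.TensorProduct.includeLeft := by
  apply CliffordAlgebra.hom_ext
  ext m₁
  simp only [LinearMap.comp_apply, AlgHom.toLinearMap_apply, AlgHom.comp_apply, bwd₁_ι, fwd_ι,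
    map_zero, TensorProduct.tmul_zero, add_zero, Algebra.TensorProduct.includeLeft_apply]

theorem fwd_bwd₁ (x : CliffordAlgebra Q₁) :
    fwd Q₁ Q₂ w δ di hw1 hw2 hd (bwd₁ Q₁ Q₂ x) = x ⊗ₜ 1 :=
  AlgHom.congr_fun (fwd_comp_bwd₁ Q₁ Q₂ w δ di hw1 hw2 hd) x

theorem fwd_comp_bwd₂ :
    (fwd Q₁ Q₂ w δ di hw1 hw2 hd).comp (bwd₂ Q₁ Q₂ w δ di hw0 hw2 hd) =
      Algebra.TensorProduct.includeRight := by
  apply CliffordAlgebra.hom_ext
  ext m₂
  simp only [LinearMap.comp_apply, AlgHom.toLinearMap_apply, AlgHom.comp_apply, bwd₂_ι, map_smul,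
    map_mul, fwd_bwd₁, fwd_ι, map_zero, TensorProduct.zero_tmul, zero_add,
    Algebra.TensorProduct.tmul_mul_tmul, one_mul, hw2, Algebra.TensorProduct.includeRight_apply]
  rw [Algebra.algebraMap_eq_smul_one, TensorProduct.smul_tmul', smul_smul, mul_comm, hd, one_smul]

theorem fwd_comp_bwd :
    (fwd Q₁ Q₂ w δ di hw1 hw2 hd).comp (bwd Q₁ Q₂ w δ di hw0 hw1 hw2 hd) = AlgHom.id R _ := by
  apply Algebra.TensorProduct.ext
  · apply AlgHom.ext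
    intro x
    simp only [AlgHom.comp_apply, Algebra.TensorProduct.includeLeft_apply, bwd_tmul, map_one,
      mul_one, fwd_bwd₁, AlgHom.id_apply]
  · apply AlgHom.ext
    intro y
    have h := AlgHom.congr_fun (fwd_comp_bwd₂ Q₁ Q₂ w δ di hw0 hw1 hw2 hd) y
    simp only [AlgHom.comp_apply, Algebra.TensorProduct.includeRight_apply] at h
    simp only [AlgHom.comp_apply, Algebra.TensorProduct.includeRight_apply, bwd_tmul, map_one,
      one_mul, AlgHom.id_apply, h, AlgHom.coe_restrictScalars']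

theorem bwd_comp_fwd :
    (bwd Q₁ Q₂ w δ di hw0 hw1 hw2 hd).comp (fwd Q₁ Q₂ w δ di hw1 hw2 hd) = AlgHom.id R _ := by
  apply CliffordAlgebra.hom_ext
  apply LinearMap.ext
  rintro ⟨m₁, m₂⟩
  simp only [LinearMap.comp_apply, AlgHom.toLinearMap_apply, AlgHom.comp_apply, fwd_ι, map_add,
    bwd_tmul, map_one, mul_one, bwd₁_ι, bwd₂_ι, AlgHom.id_apply]
  rw [mul_smul_comm, ← mul_assoc, ← map_mul, hw2, AlgHom.commutes, ← Algebra.smul_def, smul_smul,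
    mul_comm, hd, one_smul, ← map_add, Prod.mk_add_mk, add_zero, zero_add]

/-- **Tensor decomposition**: `C(Q₁ ⊥ Q₂) ≅ C(Q₁) ⊗ C(δ⁻¹ Q₂)` whenever `C(Q₁)` has an even element
`w` anticommuting with `M₁` with `w² = δ` a unit. -/
noncomputable def tensorEquiv (hw0 : w ∈ evenOdd Q₁ 0)
    (hw1 : ∀ m, w * ι Q₁ m = -(ι Q₁ m * w)) (hw2 : w * w = algebraMap R _ δ)
    (hd : δ * di = 1) :
    CliffordAlgebra (Q₁.prod Q₂) ≃ₐ[R] CliffordAlgebra Q₁ ⊗[R] CliffordAlgebra (di • Q₂) :=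
  AlgEquiv.ofAlgHom (fwd Q₁ Q₂ w δ di hw1 hw2 hd) (bwd Q₁ Q₂ w δ di hw0 hw1 hw2 hd)
    (fwd_comp_bwd Q₁ Q₂ w δ di hw0 hw1 hw2 hd) (bwd_comp_fwd Q₁ Q₂ w δ di hw0 hw1 hw2 hd)

end tensor

end Groth.Agent.Lib.CliffTensor16

namespace Groth.Agent.Lib.CliffTensor16
open QuadraticMap TensorProduct CliffordAlgebra

universe u v w

section ringlemma
variable {A : Type u} [Ring A] (E F α β γ : A)
  (hα : ∀ x, α * x = x * α) (hβ : ∀ x, β * x = x * β) (hγ : ∀ x, γ * x = x * γ)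
  (hEE : E * E = α) (hFF : F * F = β) (hEF : E * F + F * E = γ)

include hα hEE in
theorem w_anti_E : (F * E - E * F) * E = -(E * (F * E - E * F)) := by
  have h : (F * E - E * F) * E + E * (F * E - E * F) = F * (E * E) - (E * E) * F := by
    noncomm_ring
  rw [hEE, hα F, sub_self] at h
  exact eq_neg_of_add_eq_zero_left h

include hβ hFF in
theorem w_anti_F : (F * E - E * F) * F = -(F * (F * E - E * F)) := by
  have h : (F * E - E * F) * F + F * (F * E - E * F) = (F * F) * E - E * (F * F) := by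
    noncomm_ring
  rw [hFF, hβ E, sub_self] at h
  exact eq_neg_of_add_eq_zero_left h

include hα hβ hγ hEE hFF hEF in
theorem w_sq : (F * E - E * F) * (F * E - E * F) = γ * γ - 4 * (α * β) := by
  have hFE : F * E = γ - E * F := by rw [← hEF]; abel
  have hEF' : E * F = γ - F * E := by rw [← hEF]; abel
  have h1 : (F * E - E * F) * (F * E - E * F) =
      F * (E * F) * E - F * (E * E) * F - E * (F * F) * E + E * (F * E) * F := by noncomm_ring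
  have h2 : F * (E * F) * E = γ * (F * E) - β * α := by
    rw [hEF', mul_sub, sub_mul, ← hγ F, mul_assoc γ F E, ← hEE, ← hFF]
    noncomm_ring
  have h3 : E * (F * E) * F = γ * (E * F) - α * β := by
    rw [hFE, mul_sub, sub_mul, ← hγ E, mul_assoc γ E F, ← hEE, ← hFF]
    noncomm_ring
  have h4 : F * (E * E) * F = α * β := by
    rw [hEE, ← hα F, mul_assoc, hFF]
  have h5 : E * (F * F) * E = β * α := by
    rw [hFF, ← hβ E, mul_assoc, hEE]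
  have h6 : β * α = α * β := (hα β).symm
  rw [h1, h2, h3, h4, h5, h6]
  have h7 : γ * (F * E) + γ * (E * F) = γ * γ := by rw [← mul_add, add_comm, hEF]
  calc γ * (F * E) - α * β - α * β - α * β + (γ * (E * F) - α * β)
      = (γ * (F * E) + γ * (E * F)) - 4 * (α * β) := by noncomm_ring
    _ = γ * γ - 4 * (α * β) := by rw [h7]

end ringlemma

section plane
variable {R : Type u} [CommRing R] {M : Type v} [AddCommGroup M] [Module R M]
  (Q : QuadraticForm R M) (e f : M)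

/-- The element `w = f e − e f` of the Clifford algebra. -/
noncomputable def wElt : CliffordAlgebra Q := ι Q f * ι Q e - ι Q e * ι Q f

theorem wElt_mem_even : wElt Q e f ∈ evenOdd Q 0 :=
  Submodule.sub_mem _ (ι_mul_ι_mem_evenOdd_zero Q f e) (ι_mul_ι_mem_evenOdd_zero Q e f)

theorem wElt_anti_e : wElt Q e f * ι Q e = -(ι Q e * wElt Q e f) :=
  w_anti_E (ι Q e) (ι Q f) (algebraMap R _ (Q e)) (fun x => Algebra.commutes _ x)
    (ι_sq_scalar Q e)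

theorem wElt_anti_f : wElt Q e f * ι Q f = -(ι Q f * wElt Q e f) :=
  w_anti_F (ι Q e) (ι Q f) (algebraMap R _ (Q f)) (fun x => Algebra.commutes _ x)
    (ι_sq_scalar Q f)

theorem wElt_sq : wElt Q e f * wElt Q e f =
    algebraMap R _ (Groth.Agent.Lib.QuadPlane16.delta Q e f) := by
  rw [wElt, w_sq (ι Q e) (ι Q f) (algebraMap R _ (Q e)) (algebraMap R _ (Q f))
    (algebraMap R _ (polar Q e f)) (fun x => Algebra.commutes _ x)
    (fun x => Algebra.commutes _ x) (fun x => Algebra.commutes _ x) (ι_sq_scalar Q e)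
    (ι_sq_scalar Q f) (ι_mul_ι_add_swap e f)]
  simp only [Groth.Agent.Lib.QuadPlane16.delta, map_sub, map_mul, map_pow, map_ofNat, pow_two,
    mul_assoc]

/-- `w` commutes with vectors orthogonal to `e` and `f`. -/
theorem wElt_comm_perp (x : M) (h1 : polar Q e x = 0) (h2 : polar Q f x = 0) :
    wElt Q e f * ι Q x = ι Q x * wElt Q e f := by
  have he : ι Q e * ι Q x = -(ι Q x * ι Q e) :=
    ι_mul_ι_comm_of_isOrtho ((QuadraticMap.isOrtho_def).2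
      (by rw [QuadraticMap.map_add Q e x, h1, add_zero]))
  have hf : ι Q f * ι Q x = -(ι Q x * ι Q f) :=
    ι_mul_ι_comm_of_isOrtho ((QuadraticMap.isOrtho_def).2
      (by rw [QuadraticMap.map_add Q f x, h2, add_zero]))
  have h3 : ι Q f * ι Q e * ι Q x = ι Q x * ι Q f * ι Q e := by
    rw [mul_assoc, he, mul_neg, ← mul_assoc, hf, neg_mul, neg_neg]
  have h4 : ι Q e * ι Q f * ι Q x = ι Q x * ι Q e * ι Q f := by
    rw [mul_assoc, hf, mul_neg, ← mul_assoc, he, neg_mul, neg_neg]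
  rw [wElt, sub_mul, mul_sub, h3, h4, ← mul_assoc, ← mul_assoc]

end plane

end Groth.Agent.Lib.CliffTensor16
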