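import Mathlib

/-!
# The top coefficient of a Clifford algebra and determinants of induced isometries (helper16)

Pure Mathlib (no prelude). For `b : Module.Basis (Fin n) R M`, `Q : QuadraticForm R M` and a bilinear form `B` with
`h : B.toQuadraticMap = 0 - Q`:
* contraction calculus missing from Mathlib: `contractLeft_mul_ι`, `contractRight_ι_mul`, `contractLeft_involute`,
  `contractRight_contractLeft` (Mathlib TODO), `changeForm_mul_ι`;
* `filt Q k` (span of products of fewer than `k` vectors) with `ι_mul_mem_filt`, `mul_ι_mem_filt`, `contractLeft_mem_filt`,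
  `contractRight_mem_filt`, `reverse_mem_filt`, `changeForm_prod_sub`, `changeForm_mem_filt`, `map_prod`, `exists_mem_filt`,
  `mem_filt_zero_succ`, `mem_filt_succ` (`C(Q)` is spanned by products of at most `n` vectors), `ιMulti_eq_zero_of_lt`;
* `topForm b : ExteriorAlgebra R M →ₗ[R] R` (coefficient of `b 0 ∧ ⋯ ∧ b (n-1)`), `topForm_ι_mul` (rotation sign);
* `top b h : CliffordAlgebra Q →ₗ[R] R` with `top_ι_mul_eq` (`τ(v x) = (-1)^(n-1) τ(x v)`), `top_prod`, `top_basis`,
  `top_map` (`τ ∘ map g = det g • τ`), `top_mul_comm_of_mem_evenOdd`, `top_mul_comm_of_odd`;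
* `det_eq_of_conj` (a unit of parity `i` inducing the isometry `g` by conjugation: `det g = ((-1)^(n-1))^i`),
  `det_eq_one_of_conj_of_odd` (odd `n`: any such unit gives `det g = 1`).
-/

set_option autoImplicit false
set_option linter.style.haveILetI false
set_option linter.unusedSectionVars false
set_option linter.unusedSimpArgs false
set_option linter.unusedVariables false

namespace Groth.Agent.Lib.CliffTop16
open CliffordAlgebra

universe u v
variable {R : Type u} [CommRing R] {M : Type v} [AddCommGroup M] [Module R M]
variable {Q Q' : QuadraticForm R M}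

/-- contraction from the left of a right multiplication by a vector. -/
theorem contractLeft_mul_ι (d : Module.Dual R M) (y : CliffordAlgebra Q) (v : M) :
    contractLeft d (y * ι Q v) = contractLeft d y * ι Q v + d v • involute y := by
  induction y using CliffordAlgebra.left_induction with
  | algebraMap r =>
    rw [contractLeft_algebraMap_mul, contractLeft_ι, contractLeft_algebraMap, zero_mul, zero_add,
      AlgHom.commutes, ← Algebra.commutes, Algebra.smul_def]
  | add x y hx hy =>
    rw [add_mul, map_add, hx, hy, map_add, add_mul, map_add, smul_add]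
    abel
  | ι_mul x a hx =>
    rw [mul_assoc, contractLeft_ι_mul, hx, contractLeft_ι_mul, map_mul, involute_ι]
    simp only [mul_add, sub_mul, smul_mul_assoc, mul_smul_comm, neg_mul, smul_neg, mul_assoc]
    abel

/-- contraction from the right of a left multiplication by a vector. -/
theorem contractRight_ι_mul (d : Module.Dual R M) (a : M) (w : CliffordAlgebra Q) :
    contractRight (ι Q a * w) d = ι Q a * contractRight w d + d a • involute w := by
  rw [contractRight_eq, reverse.map_mul, reverse_ι, contractLeft_mul_ι, map_add, reverse.map_mul,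
    reverse_ι, map_smul, ← contractRight_eq, reverse_involute_commute.eq, reverse_reverse]

/-- contraction anticommutes with the grade involution. -/
theorem contractLeft_involute (d : Module.Dual R M) (y : CliffordAlgebra Q) :
    contractLeft d (involute y) = -involute (contractLeft d y) := by
  induction y using CliffordAlgebra.left_induction with
  | algebraMap r =>
    rw [AlgHom.commutes, contractLeft_algebraMap, map_zero, neg_zero]
  | add x y hx hy =>
    rw [map_add, map_add, hx, hy, map_add, map_add, neg_add]
  | ι_mul x a hx =>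
    rw [map_mul, involute_ι, neg_mul, map_neg, contractLeft_ι_mul, hx, contractLeft_ι_mul, map_sub,
      map_smul, map_mul, involute_ι]
    simp only [mul_neg, neg_mul, neg_sub, sub_neg_eq_add, neg_neg]

theorem contractRight_contractLeft (d d' : Module.Dual R M) (x : CliffordAlgebra Q) :
    contractRight (contractLeft d x) d' = contractLeft d (contractRight x d') := by
  induction x using CliffordAlgebra.left_induction with
  | algebraMap r =>
    rw [contractLeft_algebraMap, contractRight_algebraMap, map_zero, LinearMap.zero_apply, map_zero]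
  | add x y hx hy =>
    simp only [map_add, LinearMap.add_apply, hx, hy]
  | ι_mul x a hx =>
    rw [contractLeft_ι_mul, map_sub, LinearMap.sub_apply, map_smul, LinearMap.smul_apply,
      contractRight_ι_mul, hx, contractRight_ι_mul, map_add, contractLeft_ι_mul, map_smul,
      contractLeft_involute]
    simp only [smul_neg]
    abel

/-- `changeForm` of a right multiplication by a vector. -/
theorem changeForm_mul_ι {B : LinearMap.BilinForm R M} (h : B.toQuadraticMap = Q' - Q)
    (y : CliffordAlgebra Q) (v : M) :
    changeForm h (y * ι Q v) = changeForm h y * ι Q' v - contractRight (changeForm h y) (LinearMap.flip B v) := by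
  induction y using CliffordAlgebra.left_induction with
  | algebraMap r =>
    rw [changeForm_algebraMap, contractRight_algebraMap, sub_zero, ← Algebra.smul_def, map_smul,
      changeForm_ι, Algebra.smul_def]
  | add x y hx hy =>
    rw [add_mul, map_add, hx, hy, map_add, add_mul, map_add, LinearMap.add_apply]
    abel
  | ι_mul x a hx =>
    rw [mul_assoc, changeForm_ι_mul, hx, changeForm_ι_mul, map_sub, contractLeft_mul_ι,
      map_sub, LinearMap.sub_apply, contractRight_ι_mul, contractRight_contractLeft]
    simp only [mul_sub, sub_mul, mul_assoc, LinearMap.flip_apply]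
    abel

end Groth.Agent.Lib.CliffTop16

namespace Groth.Agent.Lib.CliffTop16
open CliffordAlgebra

universe u v
variable {R : Type u} [CommRing R] {M : Type v} [AddCommGroup M] [Module R M]
variable (Q : QuadraticForm R M) {Q' : QuadraticForm R M}

/-- the span of the products of fewer than `k` vectors. -/
def filt (k : ℕ) : Submodule R (CliffordAlgebra Q) :=
  Submodule.span R {x | ∃ l : List M, l.length < k ∧ x = (l.map (ι Q)).prod}

variable {Q}

theorem prod_mem_filt (l : List M) (k : ℕ) (h : l.length < k) : (l.map (ι Q)).prod ∈ filt Q k :=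
  Submodule.subset_span ⟨l, h, rfl⟩

theorem filt_mono {k k' : ℕ} (h : k ≤ k') : filt Q k ≤ filt Q k' :=
  Submodule.span_mono (fun x ⟨l, hl, hx⟩ => ⟨l, lt_of_lt_of_le hl h, hx⟩)

theorem ι_mul_mem_filt (v : M) {x : CliffordAlgebra Q} {k : ℕ} (hx : x ∈ filt Q k) :
    ι Q v * x ∈ filt Q (k + 1) := by
  induction hx using Submodule.span_induction with
  | mem x hx =>
    obtain ⟨l, hl, rfl⟩ := hx
    have := prod_mem_filt (Q := Q) (v :: l) (k + 1) (by simpa using hl)
    simpa using this
  | zero => rw [mul_zero]; exact Submodule.zero_mem _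
  | add x y _ _ hx hy => rw [mul_add]; exact Submodule.add_mem _ hx hy
  | smul r x _ hx => rw [mul_smul_comm]; exact Submodule.smul_mem _ _ hx

theorem mul_ι_mem_filt (v : M) {x : CliffordAlgebra Q} {k : ℕ} (hx : x ∈ filt Q k) :
    x * ι Q v ∈ filt Q (k + 1) := by
  induction hx using Submodule.span_induction with
  | mem x hx =>
    obtain ⟨l, hl, rfl⟩ := hx
    have := prod_mem_filt (Q := Q) (l ++ [v]) (k + 1) (by simpa using hl)
    simpa using this
  | zero => rw [zero_mul]; exact Submodule.zero_mem _
  | add x y _ _ hx hy => rw [add_mul]; exact Submodule.add_mem _ hx hy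
  | smul r x _ hx => rw [smul_mul_assoc]; exact Submodule.smul_mem _ _ hx

theorem contractLeft_prod_mem (d : Module.Dual R M) (l : List M) :
    contractLeft d (l.map (ι Q)).prod ∈ filt Q l.length := by
  induction l with
  | nil => simp [contractLeft_one]
  | cons v l ih =>
    rw [List.map_cons, List.prod_cons, contractLeft_ι_mul, List.length_cons]
    exact Submodule.sub_mem _ (Submodule.smul_mem _ _ (prod_mem_filt l _ (Nat.lt_succ_self _)))
      (ι_mul_mem_filt v ih)

theorem contractLeft_mem_filt (d : Module.Dual R M) {x : CliffordAlgebra Q} {k : ℕ}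
    (hx : x ∈ filt Q (k + 1)) : contractLeft d x ∈ filt Q k := by
  induction hx using Submodule.span_induction with
  | mem x hx =>
    obtain ⟨l, hl, rfl⟩ := hx
    exact filt_mono (Nat.lt_succ_iff.1 hl) (contractLeft_prod_mem d l)
  | zero => rw [map_zero]; exact Submodule.zero_mem _
  | add x y _ _ hx hy => rw [map_add]; exact Submodule.add_mem _ hx hy
  | smul r x _ hx => rw [map_smul]; exact Submodule.smul_mem _ _ hx

theorem reverse_mem_filt {x : CliffordAlgebra Q} {k : ℕ} (hx : x ∈ filt Q k) :
    reverse x ∈ filt Q k := by
  induction hx using Submodule.span_induction with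
  | mem x hx =>
    obtain ⟨l, hl, rfl⟩ := hx
    rw [reverse_prod_map_ι, ← List.map_reverse]
    exact prod_mem_filt _ _ (by simpa using hl)
  | zero => rw [map_zero]; exact Submodule.zero_mem _
  | add x y _ _ hx hy => rw [map_add]; exact Submodule.add_mem _ hx hy
  | smul r x _ hx => rw [map_smul]; exact Submodule.smul_mem _ _ hx

theorem contractRight_mem_filt (d : Module.Dual R M) {x : CliffordAlgebra Q} {k : ℕ}
    (hx : x ∈ filt Q (k + 1)) : contractRight x d ∈ filt Q k := by
  rw [contractRight_eq]
  exact reverse_mem_filt (contractLeft_mem_filt d (reverse_mem_filt hx))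

theorem changeForm_prod_sub {B : LinearMap.BilinForm R M} (h : B.toQuadraticMap = Q' - Q)
    (l : List M) :
    changeForm h (l.map (ι Q)).prod - (l.map (ι Q')).prod ∈ filt Q' l.length ∧
      changeForm h (l.map (ι Q)).prod ∈ filt Q' (l.length + 1) := by
  induction l with
  | nil =>
    have h1 : (1 : CliffordAlgebra Q') ∈ filt Q' 1 := by
      have := prod_mem_filt (Q := Q') [] 1 (by simp)
      simpa using this
    simpa [changeForm_one] using h1
  | cons v l ih =>
    have key : changeForm h ((v :: l).map (ι Q)).prod - ((v :: l).map (ι Q')).prod ∈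
        filt Q' (v :: l).length := by
      rw [List.map_cons, List.prod_cons, changeForm_ι_mul, List.map_cons, List.prod_cons,
        List.length_cons]
      have e : ι Q' v * changeForm h (l.map (ι Q)).prod - contractLeft (B v) (changeForm h (l.map (ι Q)).prod) -
          ι Q' v * (l.map (ι Q')).prod =
          ι Q' v * (changeForm h (l.map (ι Q)).prod - (l.map (ι Q')).prod) -
            contractLeft (B v) (changeForm h (l.map (ι Q)).prod) := by
        rw [mul_sub]; abel
      rw [e]
      exact Submodule.sub_mem _ (ι_mul_mem_filt v ih.1)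
        (filt_mono (Nat.le_succ _) (contractLeft_mem_filt _ ih.2))
    refine ⟨key, ?_⟩
    have := Submodule.add_mem _ (filt_mono (Nat.le_succ _) key)
      (prod_mem_filt (Q := Q') (v :: l) ((v :: l).length + 1) (Nat.lt_succ_self _))
    simpa using this

theorem changeForm_mem_filt {B : LinearMap.BilinForm R M} (h : B.toQuadraticMap = Q' - Q)
    {x : CliffordAlgebra Q} {k : ℕ} (hx : x ∈ filt Q k) : changeForm h x ∈ filt Q' k := by
  induction hx using Submodule.span_induction with
  | mem x hx =>
    obtain ⟨l, hl, rfl⟩ := hx
    exact filt_mono hl (changeForm_prod_sub h l).2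
  | zero => rw [map_zero]; exact Submodule.zero_mem _
  | add x y _ _ hx hy => rw [map_add]; exact Submodule.add_mem _ hx hy
  | smul r x _ hx => rw [map_smul]; exact Submodule.smul_mem _ _ hx

theorem map_prod {M' : Type*} [AddCommGroup M'] [Module R M'] {Q₂ : QuadraticForm R M'}
    (f : Q →qᵢ Q₂) (l : List M) :
    CliffordAlgebra.map f (l.map (ι Q)).prod = ((l.map f).map (ι Q₂)).prod := by
  induction l with
  | nil => simp
  | cons v l ih => simp [ih]

end Groth.Agent.Lib.CliffTop16

namespace Groth.Agent.Lib.CliffTop16
open CliffordAlgebra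

universe u v
variable {R : Type u} [CommRing R] {M : Type v} [AddCommGroup M] [Module R M]
variable {n : ℕ} (b : Module.Basis (Fin n) R M)

/-- `b.det` in degree `n`, zero in the other degrees. -/
noncomputable def topFam (k : ℕ) : M [⋀^Fin k]→ₗ[R] R :=
  if h : k = n then (b.reindex (finCongr h.symm)).det else 0

theorem topFam_self : topFam b n = b.det := by
  rw [topFam, dif_pos rfl]
  congr 1
  ext i
  simp

theorem topFam_ne {k : ℕ} (h : k ≠ n) : topFam b k = 0 := by
  rw [topFam, dif_neg h]

theorem topFam_comp (g : M →ₗ[R] M) {k : ℕ} (v : Fin k → M) :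
    topFam b k (g ∘ v) = LinearMap.det g * topFam b k v := by
  by_cases h : k = n
  · rw [topFam, dif_pos h, Module.Basis.det_comp]
  · rw [topFam_ne b h]; simp

/-- the coefficient of the top exterior power. -/
noncomputable def topForm : ExteriorAlgebra R M →ₗ[R] R :=
  ExteriorAlgebra.liftAlternating (topFam b)

theorem topForm_ιMulti {k : ℕ} (v : Fin k → M) :
    topForm b (ExteriorAlgebra.ιMulti R k v) = topFam b k v :=
  ExteriorAlgebra.liftAlternating_apply_ιMulti _ _

theorem prod_eq_ιMulti (l : List M) :
    (l.map (ι (0 : QuadraticForm R M))).prod = ExteriorAlgebra.ιMulti R l.length l.get := by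
  rw [ExteriorAlgebra.ιMulti_apply]
  conv_lhs => rw [← List.ofFn_get l, List.map_ofFn]
  rfl

theorem topForm_prod (l : List M) :
    topForm b (l.map (ι (0 : QuadraticForm R M))).prod = topFam b l.length l.get := by
  rw [prod_eq_ιMulti, topForm_ιMulti]

theorem topForm_eq_zero_of_mem_filt {x : ExteriorAlgebra R M}
    (hx : x ∈ filt (0 : QuadraticForm R M) n) : topForm b x = 0 := by
  induction hx using Submodule.span_induction with
  | mem x hx =>
    obtain ⟨l, hl, rfl⟩ := hx
    rw [topForm_prod, topFam_ne b (ne_of_lt hl)]
    rfl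
  | zero => rw [map_zero]
  | add x y _ _ hx hy => rw [map_add, hx, hy, add_zero]
  | smul r x _ hx => rw [map_smul, hx, smul_zero]

include b in
theorem ιMulti_eq_zero_of_lt {k : ℕ} (h : n < k) : ExteriorAlgebra.ιMulti R k (M := M) = 0 := by
  refine b.ext_alternating (fun v hv => ?_)
  exfalso
  have := Fintype.card_le_of_injective v hv
  simp at this
  omega

theorem exists_mem_filt (Q : QuadraticForm R M) (x : CliffordAlgebra Q) : ∃ k, x ∈ filt Q k := by
  induction x using CliffordAlgebra.left_induction with
  | algebraMap r =>
    refine ⟨1, ?_⟩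
    have := Submodule.smul_mem _ r (prod_mem_filt (Q := Q) [] 1 (by simp))
    simpa [Algebra.algebraMap_eq_smul_one] using this
  | add x y hx hy =>
    obtain ⟨k, hk⟩ := hx
    obtain ⟨k', hk'⟩ := hy
    exact ⟨max k k', Submodule.add_mem _ (filt_mono (le_max_left _ _) hk)
      (filt_mono (le_max_right _ _) hk')⟩
  | ι_mul x v hx =>
    obtain ⟨k, hk⟩ := hx
    exact ⟨k + 1, ι_mul_mem_filt v hk⟩

include b in
/-- the exterior algebra of a module with a basis of `n` elements is spanned by the products of at most `n` vectors. -/
theorem mem_filt_zero_succ (x : ExteriorAlgebra R M) : x ∈ filt (0 : QuadraticForm R M) (n + 1) := by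
  obtain ⟨k, hk⟩ := exists_mem_filt (0 : QuadraticForm R M) x
  induction hk using Submodule.span_induction with
  | mem x hx =>
    obtain ⟨l, hl, rfl⟩ := hx
    by_cases h : l.length < n + 1
    · exact prod_mem_filt l _ h
    · rw [prod_eq_ιMulti, ιMulti_eq_zero_of_lt b (by omega)]
      exact Submodule.zero_mem _
  | zero => exact Submodule.zero_mem _
  | add x y _ _ hx hy => exact Submodule.add_mem _ hx hy
  | smul r x _ hx => exact Submodule.smul_mem _ _ hx

theorem topForm_contractLeft (d : Module.Dual R M) (x : ExteriorAlgebra R M) :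
    topForm b (contractLeft d x) = 0 :=
  topForm_eq_zero_of_mem_filt b (contractLeft_mem_filt d (mem_filt_zero_succ b x))

theorem topForm_contractRight (d : Module.Dual R M) (x : ExteriorAlgebra R M) :
    topForm b (contractRight x d) = 0 :=
  topForm_eq_zero_of_mem_filt b (contractRight_mem_filt d (mem_filt_zero_succ b x))

end Groth.Agent.Lib.CliffTop16

namespace Groth.Agent.Lib.CliffTop16
open CliffordAlgebra

universe u v
variable {R : Type u} [CommRing R] {M : Type v} [AddCommGroup M] [Module R M]
variable {n : ℕ} (b : Module.Basis (Fin n) R M)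

theorem ιMulti_cons {k : ℕ} (v : M) (w : Fin k → M) :
    ExteriorAlgebra.ι R v * ExteriorAlgebra.ιMulti R k w =
      ExteriorAlgebra.ιMulti R (k + 1) (Fin.cons v w : Fin (k + 1) → M) := by
  rw [ExteriorAlgebra.ιMulti_succ_apply]
  simp [Matrix.vecTail]

theorem ιMulti_snoc {k : ℕ} (v : M) (w : Fin k → M) :
    ExteriorAlgebra.ιMulti R k w * ExteriorAlgebra.ι R v =
      ExteriorAlgebra.ιMulti R (k + 1) (Fin.snoc w v : Fin (k + 1) → M) := by
  rw [ExteriorAlgebra.ιMulti_apply, ExteriorAlgebra.ιMulti_apply, List.ofFn_succ', List.concat_eq_append,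
    List.prod_append]
  simp

theorem topFam_snoc {k : ℕ} (v : M) (w : Fin k → M) :
    topFam b (k + 1) (Fin.snoc w v : Fin (k + 1) → M) =
      (-1) ^ k * topFam b (k + 1) (Fin.cons v w : Fin (k + 1) → M) := by
  rw [Fin.snoc_eq_cons_rotate]
  have := AlternatingMap.map_perm (topFam b (k + 1)) (Fin.cons v w : Fin (k + 1) → M) (finRotate (k + 1))
  rw [sign_finRotate] at this
  rw [show (fun i => (Fin.cons v w : Fin (k + 1) → M) (finRotate (k + 1) i)) =
    (Fin.cons v w : Fin (k + 1) → M) ∘ (finRotate (k + 1)) from rfl, this]
  simp [Units.smul_def]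

/-- rotation property of the top coefficient. -/
theorem topForm_ι_mul (v : M) (x : ExteriorAlgebra R M) :
    topForm b (ExteriorAlgebra.ι R v * x) = (-1) ^ (n - 1) * topForm b (x * ExteriorAlgebra.ι R v) := by
  have key : (topForm b) ∘ₗ (LinearMap.mulLeft R (ExteriorAlgebra.ι R v)) =
      ((-1 : R) ^ (n - 1)) • ((topForm b) ∘ₗ (LinearMap.mulRight R (ExteriorAlgebra.ι R v))) := by
    apply ExteriorAlgebra.lhom_ext
    intro k
    ext w
    simp only [LinearMap.compAlternatingMap_apply, LinearMap.comp_apply, LinearMap.mulLeft_apply,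
      LinearMap.smul_apply, LinearMap.mulRight_apply, smul_eq_mul]
    rw [ιMulti_cons, ιMulti_snoc, topForm_ιMulti, topForm_ιMulti, topFam_snoc]
    by_cases h : k + 1 = n
    · subst h
      rw [Nat.add_sub_cancel, ← mul_assoc, ← pow_add, ← two_mul, pow_mul]
      simp
    · rw [topFam_ne b h]; simp
  have := LinearMap.congr_fun key x
  simpa using this

end Groth.Agent.Lib.CliffTop16

namespace Groth.Agent.Lib.CliffTop16
open CliffordAlgebra

universe u v
variable {R : Type u} [CommRing R] {M : Type v} [AddCommGroup M] [Module R M]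
variable {n : ℕ} (b : Module.Basis (Fin n) R M)
variable {Q : QuadraticForm R M} {B : LinearMap.BilinForm R M} (h : B.toQuadraticMap = 0 - Q)

/-- the top coefficient of an element of the Clifford algebra (depends on the bilinear lift `B`). -/
noncomputable def top : CliffordAlgebra Q →ₗ[R] R :=
  (topForm b) ∘ₗ (changeForm h)

theorem top_apply (x : CliffordAlgebra Q) : top b h x = topForm b (changeForm h x) := rfl

theorem top_ι_mul (v : M) (x : CliffordAlgebra Q) :
    top b h (ι Q v * x) = topForm b (ExteriorAlgebra.ι R v * changeForm h x) := by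
  rw [top_apply, changeForm_ι_mul, map_sub, topForm_contractLeft, sub_zero]

theorem top_mul_ι (v : M) (x : CliffordAlgebra Q) :
    top b h (x * ι Q v) = topForm b (changeForm h x * ExteriorAlgebra.ι R v) := by
  rw [top_apply, changeForm_mul_ι, map_sub, topForm_contractRight, sub_zero]

/-- rotation property of the top coefficient. -/
theorem top_ι_mul_eq (v : M) (x : CliffordAlgebra Q) :
    top b h (ι Q v * x) = (-1) ^ (n - 1) * top b h (x * ι Q v) := by
  rw [top_ι_mul, top_mul_ι, topForm_ι_mul]

theorem top_prod (l : List M) (hl : l.length ≤ n) :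
    top b h (l.map (ι Q)).prod = topFam b l.length l.get := by
  have h1 := (changeForm_prod_sub h l).1
  have h2 := topForm_eq_zero_of_mem_filt b (filt_mono hl h1)
  rw [map_sub, sub_eq_zero] at h2
  rw [top_apply, h2, topForm_prod]

theorem top_eq_zero_of_mem_filt {x : CliffordAlgebra Q} (hx : x ∈ filt Q n) : top b h x = 0 :=
  topForm_eq_zero_of_mem_filt b (changeForm_mem_filt h hx)

include b h in
/-- the Clifford algebra of a module with a basis of `n` elements is spanned by the products of at most `n` vectors. -/
theorem mem_filt_succ (x : CliffordAlgebra Q) : x ∈ filt Q (n + 1) := by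
  have h1 := mem_filt_zero_succ b (changeForm h x)
  have h2 := changeForm_mem_filt (changeForm.neg_proof h) h1
  have h3 : changeForm (changeForm.neg_proof h) (changeForm h x) = x :=
    (changeFormEquiv h).left_inv x
  rwa [h3] at h2

theorem top_basis : top b h ((List.ofFn b).map (ι Q)).prod = 1 := by
  rw [top_prod b h _ (by simp)]
  have hlen : (List.ofFn b).length = n := by simp
  have : ∀ (k : ℕ) (hk : k = n) (w : Fin k → M), (∀ i, w i = b (Fin.cast hk i)) → topFam b k w = 1 := by
    intro k hk w hw
    subst hk
    rw [topFam_self]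
    have : w = b := funext (fun i => by rw [hw]; rfl)
    rw [this, Module.Basis.det_self]
  exact this _ hlen _ (fun i => by simp; rfl)

/-- the top coefficient is multiplied by the determinant under the automorphism induced by an isometry. -/
theorem top_map (g : Q →qᵢ Q) (x : CliffordAlgebra Q) :
    top b h (CliffordAlgebra.map g x) = LinearMap.det g.toLinearMap * top b h x := by
  have hx := mem_filt_succ b h x
  induction hx using Submodule.span_induction with
  | mem x hx =>
    obtain ⟨l, hl, rfl⟩ := hx
    rw [map_prod, top_prod b h _ (by simpa using Nat.lt_succ_iff.1 hl),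
      top_prod b h _ (Nat.lt_succ_iff.1 hl)]
    have : ∀ (k : ℕ) (hk : (l.map g).length = k) (w : Fin k → M),
        topFam b (l.map g).length (l.map g).get = topFam b k (fun i => (l.map g).get (Fin.cast hk.symm i)) := by
      intro k hk w
      subst hk
      rfl
    rw [this l.length (by simp) l.get, ← topFam_comp]
    congr 1
    ext i
    simp
  | zero => simp
  | add x y _ _ hx hy => rw [map_add, map_add, hx, hy, map_add, mul_add]
  | smul r x _ hx => rw [map_smul, map_smul, hx, map_smul, smul_eq_mul, smul_eq_mul]; ring

end Groth.Agent.Lib.CliffTop16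

namespace Groth.Agent.Lib.CliffTop16
open CliffordAlgebra

universe u v
variable {R : Type u} [CommRing R] {M : Type v} [AddCommGroup M] [Module R M]
variable {n : ℕ} (b : Module.Basis (Fin n) R M)
variable {Q : QuadraticForm R M} {B : LinearMap.BilinForm R M} (h : B.toQuadraticMap = 0 - Q)

theorem neg_one_pow_sq (k : ℕ) : ((-1 : R) ^ k) * ((-1 : R) ^ k) = 1 := by
  rw [← mul_pow]; simp

/-- graded trace property of the top coefficient. -/
theorem top_mul_comm_of_mem_evenOdd (i : ZMod 2) (u : CliffordAlgebra Q) (hu : u ∈ evenOdd Q i) :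
    ∀ y : CliffordAlgebra Q, top b h (u * y) = ((-1 : R) ^ (n - 1)) ^ i.val * top b h (y * u) := by
  induction u, hu using CliffordAlgebra.evenOdd_induction with
  | range_ι_pow v hv =>
    intro y
    have hi : i = 0 ∨ i = 1 := by
      fin_cases i
      · exact Or.inl rfl
      · exact Or.inr rfl
    rcases hi with rfl | rfl
    · rw [ZMod.val_zero, pow_zero] at hv
      obtain ⟨r, rfl⟩ := Submodule.mem_one.1 hv
      rw [ZMod.val_zero, pow_zero, one_mul, Algebra.commutes]
    · rw [ZMod.val_one, pow_one] at hv
      obtain ⟨m, rfl⟩ := hv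
      rw [ZMod.val_one, pow_one]
      exact top_ι_mul_eq b h m y
  | add x y hx hy ihx ihy =>
    intro z
    rw [add_mul, map_add, ihx, ihy, mul_add, map_add, mul_add]
  | ι_mul_ι_mul m₁ m₂ x hx ih =>
    intro y
    rw [mul_assoc, mul_assoc, top_ι_mul_eq, mul_assoc, mul_assoc, top_ι_mul_eq, ← mul_assoc ((-1 : R) ^ (n - 1)),
      neg_one_pow_sq, one_mul, mul_assoc, mul_assoc, ih]
    simp only [mul_assoc]

/-- for an odd number of basis vectors, the top coefficient is a trace. -/
theorem top_mul_comm_of_odd (hn : Odd n) (x y : CliffordAlgebra Q) :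
    top b h (x * y) = top b h (y * x) := by
  have hε : (-1 : R) ^ (n - 1) = 1 := by
    obtain ⟨k, rfl⟩ := hn
    rw [Nat.add_sub_cancel, pow_mul]; simp
  induction x using CliffordAlgebra.induction generalizing y with
  | algebraMap r => rw [Algebra.commutes]
  | ι v => rw [top_ι_mul_eq, hε, one_mul]
  | mul a c ha hc => rw [mul_assoc, ha, mul_assoc, hc, mul_assoc]
  | add a c ha hc => rw [add_mul, map_add, ha, hc, mul_add, map_add]

include b h in
/-- **Determinant of the isometry induced by a homogeneous normalising unit.** -/
theorem det_eq_of_conj (g : Q →qᵢ Q) (u : (CliffordAlgebra Q)ˣ) (i : ZMod 2)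
    (hu : (u : CliffordAlgebra Q) ∈ evenOdd Q i)
    (hconj : ∀ x : CliffordAlgebra Q, CliffordAlgebra.map g x = (u : CliffordAlgebra Q) * x * ↑u⁻¹) :
    LinearMap.det g.toLinearMap = ((-1 : R) ^ (n - 1)) ^ i.val := by
  have h1 := top_map b h g ((List.ofFn b).map (ι Q)).prod
  rw [hconj, mul_assoc, top_mul_comm_of_mem_evenOdd b h i _ hu, mul_assoc, Units.inv_mul, mul_one,
    top_basis, mul_one, mul_one] at h1
  exact h1.symm

include b h in
/-- for an odd number of basis vectors, any normalising unit induces an isometry of determinant one. -/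
theorem det_eq_one_of_conj_of_odd (hn : Odd n) (g : Q →qᵢ Q) (u : (CliffordAlgebra Q)ˣ)
    (hconj : ∀ x : CliffordAlgebra Q, CliffordAlgebra.map g x = (u : CliffordAlgebra Q) * x * ↑u⁻¹) :
    LinearMap.det g.toLinearMap = 1 := by
  have h1 := top_map b h g ((List.ofFn b).map (ι Q)).prod
  rw [hconj, mul_assoc, top_mul_comm_of_odd b h hn, mul_assoc, Units.inv_mul, mul_one,
    top_basis, mul_one] at h1
  exact h1.symm

end Groth.Agent.Lib.CliffTop16
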