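import Groth.Agent.Lib.SchDomProd45
import Groth.Prelude.Def_W4bk4git07Quot

/-!
# Orbits of points as fibres of an invariant morphism with surjective `(σ, p₂)` (helper45)

If `φ : X ⟶ Y` is invariant and `(σ, p₂) : G × X ⟶ X ×_Y X` is surjective, then for every
`T`-point `f` of `X` the image of `psi a f : G ⊗ T ⟶ X ⊗ T` is the preimage under `φ ▷ T` of the
image of the graph section `(f ≫ φ, 𝟙) : T ⟶ Y ⊗ T`.
-/

set_option autoImplicit false
universe u
open CategoryTheory CategoryTheory.Limits MonoidalCategory CartesianMonoidalCategory MonObj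
  AlgebraicGeometry

namespace Groth.Agent.Lib.ClosedAct45

lemma range_fst_of_isPullback {P X Y Z : Scheme.{u}} {fst' : P ⟶ X} {snd' : P ⟶ Y}
    {f : X ⟶ Z} {g : Y ⟶ Z} (h : IsPullback fst' snd' f g) :
    Set.range fst' = f ⁻¹' Set.range g := by
  ext x
  constructor
  · rintro ⟨p, rfl⟩
    exact ⟨snd' p, by rw [← Scheme.Hom.comp_apply, ← h.w, Scheme.Hom.comp_apply]⟩
  · rintro ⟨y, hy⟩
    obtain ⟨p, hp1, -⟩ := Groth.Agent.Lib.ActOpen18.exists_preimage_of_isPullback h x y hy.symm
    exact ⟨p, hp1⟩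

variable {S : Scheme.{u}} {G X Y T : Over S} [GrpObj G]

theorem range_psi_eq (a : AlgGrp.Action G X) (φ : X ⟶ Y) (hinv : GIT.IsInvariant a φ)
    (horb : Function.Surjective (GIT.PsiY a φ hinv).base) (f : T ⟶ X) :
    Set.range (GIT.psi a f).left =
      (φ ▷ T).left ⁻¹' Set.range (lift (f ≫ φ) (𝟙 T)).left := by
  -- the square `R`
  have hR : IsPullback (pullback.snd φ.left (f.left ≫ φ.left))
      (pullback.map φ.left (f.left ≫ φ.left) φ.left φ.left (𝟙 _) f.left (𝟙 _) (by simp) (by simp))
      f.left (pullback.snd φ.left φ.left) := by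
    refine IsPullback.of_bot (v₂₁ := pullback.fst φ.left φ.left) (v₂₂ := φ.left) (h₃₁ := φ.left)
      ?_ (pullback.lift_snd _ _ _).symm (IsPullback.of_hasPullback φ.left φ.left).flip
    rw [pullback.lift_fst, Category.comp_id]
    exact (IsPullback.of_hasPullback φ.left (f.left ≫ φ.left)).flip
  -- the map `ψ'`
  have hws : (G ◁ f).left ≫ (snd G X).left = (snd G T).left ≫ f.left := by
    rw [← Over.comp_left, whiskerLeft_snd, Over.comp_left]
  have hw1 : (φ ▷ T).left ≫ (fst Y T).left = (fst X T).left ≫ φ.left := by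
    rw [← Over.comp_left, whiskerRight_fst, Over.comp_left]
  have hw2 : (φ ▷ T).left ≫ (snd Y T).left = (snd X T).left := by
    rw [← Over.comp_left, whiskerRight_snd]
  have hc : ((G ◁ f).left ≫ a.act.left) ≫ φ.left = (snd G T).left ≫ f.left ≫ φ.left := by
    rw [Category.assoc, hinv.left, ← Category.assoc, hws, Category.assoc]
  let ψ' : (G ⊗ T).left ⟶ pullback φ.left (f.left ≫ φ.left) :=
    pullback.lift ((G ◁ f).left ≫ a.act.left) (snd G T).left hc
  have hL : IsPullback ψ' (G ◁ f).left
      (pullback.map φ.left (f.left ≫ φ.left) φ.left φ.left (𝟙 _) f.left (𝟙 _) (by simp) (by simp))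
      (GIT.PsiY a φ hinv) := by
    refine IsPullback.of_right ?_ ?_ hR
    · have h1 : ψ' ≫ pullback.snd φ.left (f.left ≫ φ.left) = (snd G T).left :=
        pullback.lift_snd _ _ _
      have h2 : GIT.PsiY a φ hinv ≫ pullback.snd φ.left φ.left = (snd G X).left :=
        pullback.lift_snd _ _ _
      rw [h1, h2]
      exact (Groth.Agent.Lib.ActOpen18.isPullback_whiskerLeft_snd G f).flip
    · apply pullback.hom_ext
      · rw [Category.assoc, pullback.lift_fst, Category.comp_id, Category.assoc]
        erw [pullback.lift_fst, pullback.lift_fst]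
      · rw [Category.assoc, pullback.lift_snd, Category.assoc]
        erw [pullback.lift_snd, pullback.lift_snd_assoc]
        exact hws.symm
  have hψ' : Function.Surjective ψ' := by
    rw [← Set.range_eq_univ, range_fst_of_isPullback hL, Set.range_eq_univ.mpr horb,
      Set.preimage_univ]
  -- the map `j`
  have hcj : pullback.fst φ.left (f.left ≫ φ.left) ≫ X.hom =
      pullback.snd φ.left (f.left ≫ φ.left) ≫ T.hom := by
    rw [← Over.w φ, ← Category.assoc, pullback.condition, Category.assoc, Category.assoc,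
      Over.w φ, Over.w f]
  let j : pullback φ.left (f.left ≫ φ.left) ⟶ (X ⊗ T).left :=
    pullback.lift (pullback.fst φ.left (f.left ≫ φ.left)) (pullback.snd φ.left (f.left ≫ φ.left)) hcj
  have hj1 : j ≫ (fst X T).left = pullback.fst φ.left (f.left ≫ φ.left) := pullback.lift_fst _ _ _
  have hj2 : j ≫ (snd X T).left = pullback.snd φ.left (f.left ≫ φ.left) := pullback.lift_snd _ _ _
  have hs1 : (lift (f ≫ φ) (𝟙 T)).left ≫ (fst Y T).left = f.left ≫ φ.left := by
    rw [← Over.comp_left, lift_fst, Over.comp_left]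
  have hs2 : (lift (f ≫ φ) (𝟙 T)).left ≫ (snd Y T).left = 𝟙 _ := by
    rw [← Over.comp_left, lift_snd]; rfl
  have hJ : IsPullback j (pullback.snd φ.left (f.left ≫ φ.left)) (φ ▷ T).left
      (lift (f ≫ φ) (𝟙 T)).left := by
    refine IsPullback.of_right (h₁₂ := (fst X T).left) (h₂₂ := (fst Y T).left) (v₁₃ := φ.left)
      ?_ ?_ (Groth.Agent.Lib.SchDomProd45.isPullback_whiskerRight_fst T φ).flip
    · rw [hj1, hs1]
      exact IsPullback.of_hasPullback φ.left (f.left ≫ φ.left)
    · apply pullback.hom_ext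
      · change (j ≫ (φ ▷ T).left) ≫ (fst Y T).left = _ ≫ (fst Y T).left
        rw [Category.assoc, hw1, ← Category.assoc, hj1, Category.assoc, hs1, pullback.condition]
      · change (j ≫ (φ ▷ T).left) ≫ (snd Y T).left = _ ≫ (snd Y T).left
        rw [Category.assoc, hw2, hj2, Category.assoc, hs2, Category.comp_id]
  have hpsi : (GIT.psi a f).left = ψ' ≫ j := by
    apply pullback.hom_ext
    · change (GIT.psi a f).left ≫ (fst X T).left = (ψ' ≫ j) ≫ (fst X T).left
      rw [← Over.comp_left, GIT.psi, lift_fst, Category.assoc, hj1, pullback.lift_fst,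
        Over.comp_left]
    · change (GIT.psi a f).left ≫ (snd X T).left = (ψ' ≫ j) ≫ (snd X T).left
      rw [← Over.comp_left, GIT.psi, lift_snd, Category.assoc, hj2, pullback.lift_snd]
  rw [hpsi, ← range_fst_of_isPullback hJ]
  ext z
  constructor
  · rintro ⟨w, rfl⟩
    exact ⟨ψ' w, (Scheme.Hom.comp_apply _ _ _).symm⟩
  · rintro ⟨p, rfl⟩
    obtain ⟨w, rfl⟩ := hψ' p
    exact ⟨w, Scheme.Hom.comp_apply _ _ _⟩

end Groth.Agent.Lib.ClosedAct45
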