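import Mathlib
import Groth.Agent.Lib.CoeffIdeal27P

/-!
# The coefficient ideal of a finitely generated ideal is finitely generated (helper27)

Continues `Lib/CoeffIdeal27P`: `coeffIdealP s (Ideal.span F)` is generated by the coordinates of the
elements of `F` (`coeffIdealP_span`), hence is finitely generated if `F` is finite (`coeffIdealP_fg`);
`exists_ideal_of_isPushout_of_projective_fg` is the pushout form with this extra information.
-/

set_option autoImplicit false
universe u

namespace Groth.Agent.Lib.CoeffIdeal27

section Algebra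

variable {R A : Type u} [CommRing R] [CommRing A] [Algebra R A] (s : A →ₗ[R] (A →₀ R))

variable {C B : Type u} [CommRing C] [CommRing B] [Algebra R C] [Algebra A B] [Algebra C B]
  [Algebra R B] [IsScalarTower R A B] [IsScalarTower R C B] [h : Algebra.IsPushout R C A B]

/-- if all coordinates of `y` lie in the ideal `I'`, so do those of `b * y`. -/
theorem coord_mul_mem (hs : ∀ x, Finsupp.linearCombination R (id : A → A) (s x) = x)
    (I' : Ideal C) (y : B) (hy : ∀ z, coord s C B y z ∈ I') (b : B) :
    ∀ z, coord s C B (b * y) z ∈ I' := by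
  induction b using h.out.inductionOn with
  | zero =>
    intro z
    rw [zero_mul, map_zero, Finsupp.zero_apply]
    exact I'.zero_mem
  | tmul x =>
    intro z
    change coord s C B (algebraMap A B x * y) z ∈ I'
    have e : algebraMap A B x * y =
        ∑ z' ∈ (coord s C B y).support, coord s C B y z' • algebraMap A B (x * z') := by
      conv_lhs => rw [← recon_coord s C B hs y, Finsupp.linearCombination_apply, Finsupp.sum,
        Finset.mul_sum]
      refine Finset.sum_congr rfl fun z' _ => ?_
      rw [mul_smul_comm, map_mul]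
    rw [e, map_sum, Finsupp.finsetSum_apply]
    refine Ideal.sum_mem _ fun z' _ => ?_
    rw [map_smul, Finsupp.smul_apply, smul_eq_mul]
    exact I'.mul_mem_right _ (hy z')
  | smul γ b ih =>
    intro z
    rw [smul_mul_assoc, map_smul, Finsupp.smul_apply, smul_eq_mul]
    exact I'.mul_mem_left _ (ih z)
  | add b₁ b₂ h₁ h₂ =>
    intro z
    rw [add_mul, map_add, Finsupp.add_apply]
    exact I'.add_mem (h₁ z) (h₂ z)

/-- the coefficient ideal of `Ideal.span F` is generated by the coordinates of the elements of `F`. -/
theorem coeffIdealP_span (hs : ∀ x, Finsupp.linearCombination R (id : A → A) (s x) = x)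
    (F : Set B) :
    coeffIdealP s (Ideal.span F) =
      (Ideal.span {γ | ∃ y ∈ F, ∃ z : A, coord s C B y z = γ} : Ideal C) := by
  apply le_antisymm
  · unfold coeffIdealP
    rw [Ideal.span_le]
    rintro _ ⟨y, hy, z, rfl⟩
    revert z
    induction hy using Submodule.span_induction with
    | mem y hy =>
      intro z
      exact Ideal.subset_span ⟨y, hy, z, rfl⟩
    | zero =>
      intro z
      rw [map_zero, Finsupp.zero_apply]
      exact Ideal.zero_mem _
    | add y₁ y₂ _ _ h₁ h₂ =>
      intro z
      rw [map_add, Finsupp.add_apply]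
      exact Ideal.add_mem _ (h₁ z) (h₂ z)
    | smul b y _ hy =>
      intro z
      rw [smul_eq_mul]
      exact coord_mul_mem s hs _ y hy b z
  · unfold coeffIdealP
    apply Ideal.span_mono
    rintro _ ⟨y, hy, z, rfl⟩
    exact ⟨y, Ideal.subset_span hy, z, rfl⟩

/-- the coefficient ideal of a finitely generated ideal is finitely generated. -/
theorem coeffIdealP_fg (hs : ∀ x, Finsupp.linearCombination R (id : A → A) (s x) = x)
    (J : Ideal B) (hJ : J.FG) : (coeffIdealP s J : Ideal C).FG := by
  classical
  obtain ⟨F, rfl⟩ := hJ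
  rw [coeffIdealP_span s hs]
  refine ⟨F.biUnion fun y => (coord s C B y).support.image (coord s C B y), ?_⟩
  apply le_antisymm
  · apply Ideal.span_mono
    intro γ hγ
    simp only [Finset.coe_biUnion, Finset.coe_image, Set.mem_iUnion, Set.mem_image,
      Finset.mem_coe] at hγ
    obtain ⟨y, hy, z, -, rfl⟩ := hγ
    exact ⟨y, hy, z, rfl⟩
  · rw [Ideal.span_le]
    rintro _ ⟨y, hy, z, rfl⟩
    by_cases hz : z ∈ (coord s C B y).support
    · apply Ideal.subset_span
      simp only [Finset.coe_biUnion, Finset.coe_image, Set.mem_iUnion, Set.mem_image,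
        Finset.mem_coe]
      exact ⟨y, hy, z, hz, rfl⟩
    · rw [Finsupp.notMem_support_iff] at hz
      rw [hz]
      exact Ideal.zero_mem _

end Algebra

open CategoryTheory CategoryTheory.Limits

/-- **Coefficient ideal for pushouts of rings, projective leg, with finiteness.** -/
theorem exists_ideal_of_isPushout_of_projective_fg {R A C B : CommRingCat.{u}} {f : R ⟶ A}
    {g : R ⟶ C} {a : A ⟶ B} {c : C ⟶ B} (H : IsPushout f g a c)
    (hproj : letI := f.hom.toAlgebra; Module.Projective R A) (J : Ideal B) :
    ∃ I : Ideal C, (J.FG → I.FG) ∧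
      ∀ (D B' : CommRingCat.{u}) (g' : R ⟶ D) (a' : A ⟶ B') (c' : D ⟶ B')
      (_ : IsPushout f g' a' c') (w : C ⟶ D) (v : B ⟶ B'), g ≫ w = g' → a ≫ v = a' →
      c ≫ v = w ≫ c' → (J ≤ RingHom.ker v.hom ↔ I ≤ RingHom.ker w.hom) := by
  algebraize [f.hom, g.hom, a.hom, c.hom, a.hom.comp f.hom]
  have : IsScalarTower R C B := IsScalarTower.of_algebraMap_eq' (by
    show a.hom.comp f.hom = c.hom.comp g.hom
    rw [← CommRingCat.hom_comp, ← CommRingCat.hom_comp, H.w])
  have hP : Algebra.IsPushout R A C B := by
    rw [← CommRingCat.isPushout_iff_isPushout]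
    exact H
  have hP' : Algebra.IsPushout R C A B := hP.symm
  obtain ⟨s, hs⟩ := hproj.out
  refine ⟨coeffIdealP s J, fun hJ => coeffIdealP_fg s hs J hJ, ?_⟩
  intro D B' g' a' c' H' w v hgw hav hcv
  algebraize [g'.hom, a'.hom, c'.hom, a'.hom.comp f.hom]
  have : IsScalarTower R D B' := IsScalarTower.of_algebraMap_eq' (by
    show a'.hom.comp f.hom = c'.hom.comp g'.hom
    rw [← CommRingCat.hom_comp, ← CommRingCat.hom_comp, H'.w])
  have hQ : Algebra.IsPushout R A D B' := by
    rw [← CommRingCat.isPushout_iff_isPushout]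
    exact H'
  have hQ' : Algebra.IsPushout R D A B' := hQ.symm
  refine le_ker_iff_P s hs J w.hom v.hom ?_ ?_ ?_
  · intro r
    exact congrArg (fun k => k.hom r) hgw
  · intro x
    exact congrArg (fun k => k.hom x) hav
  · intro γ
    exact congrArg (fun k => k.hom γ) hcv

end Groth.Agent.Lib.CoeffIdeal27
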