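/-
helper27: closed conditions, part 8: finiteness.  `FGI 𝓚` (the ideal sheaf `𝓚` is locally finitely
generated, i.e. `𝓚.subschemeι` is locally of finite presentation), `FGI.ideal_fg`, `fgi_iff`,
`fgi_of_forall_exists`, `FGI.comap`, `FGI.of_cover`, `fgi_ofIdealTop`, `fgi_ker`.
-/
import Mathlib
import Groth.Agent.Lib.ClosedCond27g
import Groth.Agent.Lib.CoeffIdeal27Q

set_option autoImplicit false
universe u
open CategoryTheory CategoryTheory.Limits MonoidalCategory CartesianMonoidalCategory AlgebraicGeometry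

namespace Groth.Agent.Lib.ClosedCond27

/-- the ideal sheaf is locally finitely generated: the closed immersion it defines is locally of
finite presentation. -/
def FGI {Q : Scheme.{u}} (𝓚 : Q.IdealSheafData) : Prop :=
  LocallyOfFinitePresentation 𝓚.subschemeι

theorem finitePresentation_stableSource :
    RingHom.StableUnderCompositionWithLocalizationAwaySource @RingHom.FinitePresentation := by
  intro R S T _ _ _ _ r _ f hf
  exact RingHom.finitePresentation_stableUnderComposition _ _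
    (RingHom.finitePresentation_holdsForLocalizationAway S r) hf

theorem FGI.ideal_fg {Q : Scheme.{u}} {𝓚 : Q.IdealSheafData} (h : FGI 𝓚) (U : Q.affineOpens) :
    (𝓚.ideal U).FG := by
  unfold FGI at h
  rw [← 𝓚.ker_subschemeι_app U]
  have hW : IsAffineOpen (𝓚.subschemeι ⁻¹ᵁ U.1) := U.2.preimage 𝓚.subschemeι
  have hfp : (𝓚.subschemeι.app U).hom.FinitePresentation := by
    rw [Scheme.Hom.app_eq_appLE]
    exact 𝓚.subschemeι.finitePresentation_appLE U.2 hW le_rfl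
  have hs := 𝓚.subschemeι_app_surjective U
  let _ := (𝓚.subschemeι.app U).hom.toAlgebra
  have : Algebra.FinitePresentation Γ(Q, U) Γ(𝓚.subscheme, 𝓚.subschemeι ⁻¹ᵁ U) := hfp
  exact Algebra.FinitePresentation.ker_fG_of_surjective
    (Algebra.ofId Γ(Q, U) Γ(𝓚.subscheme, 𝓚.subschemeι ⁻¹ᵁ U)) hs

theorem fgi_of_forall_exists {Q : Scheme.{u}} {𝓚 : Q.IdealSheafData}
    (h : ∀ x : Q, ∃ U : Q.affineOpens, x ∈ U.1 ∧ (𝓚.ideal U).FG) : FGI 𝓚 := by
  unfold FGI
  rw [HasRingHomProperty.iff_exists_appLE (P := @LocallyOfFinitePresentation)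
    finitePresentation_stableSource]
  intro x
  obtain ⟨U, hxU, hfg⟩ := h (𝓚.subschemeι x)
  refine ⟨U, ⟨𝓚.subschemeι ⁻¹ᵁ U.1, U.2.preimage _⟩, hxU, le_rfl, ?_⟩
  rw [← Scheme.Hom.app_eq_appLE]
  refine RingHom.FinitePresentation.of_surjective _ (𝓚.subschemeι_app_surjective U) ?_
  rw [𝓚.ker_subschemeι_app U]
  exact hfg

theorem fgi_iff {Q : Scheme.{u}} {𝓚 : Q.IdealSheafData} :
    FGI 𝓚 ↔ ∀ U : Q.affineOpens, (𝓚.ideal U).FG := by
  refine ⟨fun h U => h.ideal_fg U, fun h => fgi_of_forall_exists fun x => ?_⟩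
  obtain ⟨U, hU, hx, -⟩ := exists_isAffineOpen_mem_and_subset (X := Q) (x := x) (U := ⊤) trivial
  exact ⟨⟨U, hU⟩, hx, h _⟩

theorem FGI.comap {Q Q' : Scheme.{u}} {𝓚 : Q.IdealSheafData} (h : FGI 𝓚) (f : Q' ⟶ Q) :
    FGI (𝓚.comap f) := by
  unfold FGI at *
  rw [← Scheme.IdealSheafData.comapIso_hom_fst]
  infer_instance

theorem FGI.of_cover {Q : Scheme.{u}} {𝓚 : Q.IdealSheafData} {ι : Type*} (W : ι → Scheme.{u})
    (w : ∀ i, W i ⟶ Q) [∀ i, IsOpenImmersion (w i)] (hcov : ∀ x : Q, ∃ i, x ∈ Set.range (w i))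
    (h : ∀ i, FGI (𝓚.comap (w i))) : FGI 𝓚 := by
  apply fgi_of_forall_exists
  intro x
  obtain ⟨i, y, rfl⟩ := hcov x
  obtain ⟨U', hU', hy, -⟩ :=
    exists_isAffineOpen_mem_and_subset (X := W i) (x := y) (U := ⊤) trivial
  refine ⟨⟨w i ''ᵁ U', hU'.image_of_isOpenImmersion (w i)⟩, ⟨y, hy, rfl⟩, ?_⟩
  have h1 := (h i).ideal_fg ⟨U', hU'⟩
  rw [Scheme.IdealSheafData.ideal_comap_of_isOpenImmersion] at h1
  have h2 := h1.map ((w i).appIso U').inv.hom
  rwa [Ideal.map_comap_of_surjective] at h2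
  exact ((w i).appIso U').symm.commRingCatIsoToRingEquiv.surjective

theorem fgi_ofIdealTop {Q : Scheme.{u}} (I : Ideal Γ(Q, ⊤)) (hI : I.FG) :
    FGI (Scheme.IdealSheafData.ofIdealTop I) := by
  rw [fgi_iff]
  intro U
  rw [Scheme.IdealSheafData.ofIdealTop_ideal]
  exact hI.map _

theorem fgi_ker {X Y : Scheme.{u}} (f : X ⟶ Y) [IsClosedImmersion f]
    [LocallyOfFinitePresentation f] : FGI f.ker := by
  unfold FGI
  have h : f.ker.subschemeι = inv f.toImage ≫ f := by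
    rw [IsIso.eq_inv_comp, Scheme.Hom.toImage_imageι]
  rw [h]
  infer_instance

end Groth.Agent.Lib.ClosedCond27
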