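/-
helper27: closed conditions, part 9: finiteness of universal ideal sheaves.  `GoodFG P` (the universal
ideal sheaf of a locally finitely generated ideal sheaf on `P ×_S T` is locally finitely generated),
`GoodFG.of_affine`, `GoodFG.of_base_cover`, `goodFG_of_projOver`, `goodFG_of_finite_flat_lfp`,
`lfp_equalizer_ι_left`, `exists_closedImmersion_of_eq_of_good_fg`,
`exists_closedImmersion_of_factors_of_good_fg`.
-/
import Mathlib
import Groth.Agent.Lib.ClosedCond27g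
import Groth.Agent.Lib.CoeffIdeal27Q
import Groth.Agent.Lib.ClosedCond27h
import Groth.Agent.S4599

set_option autoImplicit false
universe u
open CategoryTheory CategoryTheory.Limits MonoidalCategory CartesianMonoidalCategory AlgebraicGeometry

namespace Groth.Agent.Lib.ClosedCond27

variable {S : Scheme.{u}}

/-- universal ideal sheaves of locally finitely generated ideal sheaves on `P ×_S T` are locally
finitely generated. -/
def GoodFG (P : Over S) : Prop :=
  ∀ (T : Over S) (𝓘 : (P ⊗ T).left.IdealSheafData) (𝓙 : T.left.IdealSheafData), FGI 𝓘 →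
    (∀ (Z : Scheme.{u}) (z : Z ⟶ T.left), 𝓙 ≤ z.ker ↔ Phi' P 𝓘 z) → FGI 𝓙

/-- the universal property is stable under base change in `T`. -/
theorem up_comap (P : Over S) {T : Over S} (𝓘 : (P ⊗ T).left.IdealSheafData)
    (𝓙 : T.left.IdealSheafData)
    (h𝓙 : ∀ (Z : Scheme.{u}) (z : Z ⟶ T.left), 𝓙 ≤ z.ker ↔ Phi' P 𝓘 z)
    {T₁ : Over S} (τ : T₁ ⟶ T) (Z : Scheme.{u}) (ζ : Z ⟶ T₁.left) :
    𝓙.comap τ.left ≤ ζ.ker ↔ Phi' P (𝓘.comap (P ◁ τ).left) ζ := by
  rw [comap_le_ker_iff, h𝓙, Phi'_comap]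

/-- it is enough to treat affine `T`. -/
theorem GoodFG.of_affine (P : Over S)
    (h : ∀ (T : Over S) [IsAffine T.left] (𝓘 : (P ⊗ T).left.IdealSheafData)
      (𝓙 : T.left.IdealSheafData), FGI 𝓘 →
      (∀ (Z : Scheme.{u}) (z : Z ⟶ T.left), 𝓙 ≤ z.ker ↔ Phi' P 𝓘 z) → FGI 𝓙) : GoodFG P := by
  intro T 𝓘 𝓙 h𝓘 h𝓙
  let TU : T.left.affineOpens → Over S := fun U => Over.mk (U.1.ι ≫ T.hom)
  let τ : ∀ U : T.left.affineOpens, TU U ⟶ T := fun U => Over.homMk U.1.ι rfl
  refine FGI.of_cover (fun U : T.left.affineOpens => U.1.toScheme) (fun U => U.1.ι)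
    (fun x => ?_) (fun U => ?_)
  · obtain ⟨U, hU, hx, -⟩ :=
      exists_isAffineOpen_mem_and_subset (X := T.left) (x := x) (U := ⊤) trivial
    exact ⟨⟨U, hU⟩, by simpa using hx⟩
  · have : IsAffine (TU U).left := U.2
    exact h (TU U) (𝓘.comap (P ◁ τ U).left) (𝓙.comap U.1.ι) (h𝓘.comap _)
      (up_comap P 𝓘 𝓙 h𝓙 (τ U))

/-- `GoodFG` is Zariski local on the base. -/
theorem GoodFG.of_base_cover (P : Over S)
    (h : ∀ s : S, ∃ U : S.Opens, s ∈ U ∧ GoodFG ((Over.pullback U.ι).obj P)) : GoodFG P := by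
  intro T 𝓘 𝓙 h𝓘 h𝓙
  choose U hsU hgood using h
  refine FGI.of_cover (fun s : S => ((Over.pullback (U s).ι).obj T).left)
    (fun s => pullback.fst T.hom (U s).ι) (fun x => ⟨T.hom x, ?_⟩) (fun s => ?_)
  · rw [Scheme.Pullback.range_fst]
    simpa using hsU (T.hom x)
  · refine hgood s ((Over.pullback (U s).ι).obj T) (𝓘.comap (bcMap (U s).ι P T))
      (𝓙.comap (pullback.fst T.hom (U s).ι)) (h𝓘.comap _) (fun Z ζ => ?_)
    rw [comap_le_ker_iff, h𝓙, Phi'_baseChange]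

/-- **Affine core, projective version, with finiteness.** -/
theorem exists_ideal_affine_of_projOver_fg [IsAffine S] (P T : Over S) [IsAffine P.left]
    [IsAffine T.left] (hproj : ProjOver P) (𝓘 : (P ⊗ T).left.IdealSheafData) :
    ∃ I : Ideal Γ(T.left, ⊤), ((𝓘.ideal ⟨⊤, isAffineOpen_top _⟩).FG → I.FG) ∧
      ∀ (T' : Over S) [IsAffine T'.left] (t : T' ⟶ T),
      𝓘 ≤ (P ◁ t).left.ker ↔ I ≤ RingHom.ker t.left.appTop.hom := by
  obtain ⟨I, hIfg, hI⟩ := Groth.Agent.Lib.CoeffIdeal27.exists_ideal_of_isPushout_of_projective_fg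
    (isPushout_appTop P T) hproj (𝓘.ideal ⟨⊤, isAffineOpen_top _⟩)
  refine ⟨I, hIfg, fun T' _ t => ?_⟩
  rw [le_ker_iff_of_isAffine]
  refine hI _ _ T'.hom.appTop (fst P T').left.appTop (snd P T').left.appTop (isPushout_appTop P T')
    t.left.appTop (P ◁ t).left.appTop ?_ ?_ ?_
  · rw [← Scheme.Hom.comp_appTop, Over.w]
  · rw [← Scheme.Hom.comp_appTop, ← Over.comp_left, whiskerLeft_fst]
  · rw [← Scheme.Hom.comp_appTop, ← Over.comp_left, whiskerLeft_snd, Over.comp_left,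
      Scheme.Hom.comp_appTop]

/-- an ideal of `Γ(T)` with the universal property on affine test schemes gives the universal ideal
sheaf. -/
theorem up_ofIdealTop (P : Over S) {T : Over S} [IsAffine T.left]
    (𝓘 : (P ⊗ T).left.IdealSheafData) (I : Ideal Γ(T.left, ⊤))
    (hI : ∀ (T' : Over S) [IsAffine T'.left] (t : T' ⟶ T),
      𝓘 ≤ (P ◁ t).left.ker ↔ I ≤ RingHom.ker t.left.appTop.hom)
    (Z : Scheme.{u}) (z : Z ⟶ T.left) :
    Scheme.IdealSheafData.ofIdealTop I ≤ z.ker ↔ Phi' P 𝓘 z := by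
  apply up_local
  intro x
  obtain ⟨Z'', hZ'', hx, -⟩ := exists_isAffineOpen_mem_and_subset (X := Z) (x := x) (U := ⊤) trivial
  refine ⟨Z''.toScheme, Z''.ι, inferInstance, by simpa using hx, ?_⟩
  have : IsAffine Z''.toScheme := hZ''
  have : IsAffine (Over.mk ((Z''.ι ≫ z) ≫ T.hom)).left := hZ''
  rw [le_ker_iff_of_isAffine]
  unfold Phi' Phi
  rw [hI (Over.mk ((Z''.ι ≫ z) ≫ T.hom)) (Over.homMk (Z''.ι ≫ z) rfl)]
  simp

theorem goodFG_of_projOver [IsAffine S] (P : Over S) [IsAffine P.left] (hproj : ProjOver P) :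
    GoodFG P := by
  apply GoodFG.of_affine
  intro T _ 𝓘 𝓙 h𝓘 h𝓙
  obtain ⟨I, hIfg, hI⟩ := exists_ideal_affine_of_projOver_fg P T hproj 𝓘
  have e : 𝓙 = Scheme.IdealSheafData.ofIdealTop I := by
    apply eq_of_forall_le_ker_iff
    intro Z z
    rw [h𝓙, up_ofIdealTop P 𝓘 I hI]
  rw [e]
  exact fgi_ofIdealTop I (hIfg (h𝓘.ideal_fg _))

/-- a finite locally free `S`-scheme is `GoodFG`. -/
theorem goodFG_of_finite_flat_lfp (F : Over S) [IsFinite F.hom] [Flat F.hom]
    [LocallyOfFinitePresentation F.hom] : GoodFG F := by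
  apply GoodFG.of_base_cover
  intro s
  obtain ⟨U, hU, hs, -⟩ := exists_isAffineOpen_mem_and_subset (X := S) (x := s) (U := ⊤) trivial
  refine ⟨U, hs, ?_⟩
  have : IsAffine (U : Scheme.{u}) := hU
  have h1 : IsFinite ((Over.pullback U.ι).obj F).hom :=
    inferInstanceAs (IsFinite (pullback.snd F.hom U.ι))
  have h2 : Flat ((Over.pullback U.ι).obj F).hom :=
    inferInstanceAs (Flat (pullback.snd F.hom U.ι))
  have h3 : LocallyOfFinitePresentation ((Over.pullback U.ι).obj F).hom :=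
    inferInstanceAs (LocallyOfFinitePresentation (pullback.snd F.hom U.ι))
  have : IsAffine ((Over.pullback U.ι).obj F).left :=
    isAffine_of_isAffineHom ((Over.pullback U.ι).obj F).hom
  exact goodFG_of_projOver _ (projOver_of_finite_flat_lfp _)

/-- the equalizer of two morphisms into a separated `S`-scheme locally of finite type is locally of
finite presentation over the source. -/
theorem lfp_equalizer_ι_left {X Y : Over S} [LocallyOfFiniteType Y.hom]
    (f g : X ⟶ Y) : LocallyOfFinitePresentation (equalizer.ι f g).left := by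
  refine MorphismProperty.of_isPullback
    ((Limits.isPullback_equalizer_prod f g).map (Over.forget _)).flip ?_
  change LocallyOfFinitePresentation (prod.lift (𝟙 Y) (𝟙 Y)).left
  have e : (prod.lift (𝟙 Y) (𝟙 Y)).left =
      pullback.diagonal Y.hom ≫ (Over.prodLeftIsoPullback Y Y).inv := by
    rw [Iso.eq_comp_inv]
    ext1
    · simp only [Category.assoc, Over.prodLeftIsoPullback_hom_fst, ← Over.comp_left,
        prod.lift_fst, Over.id_left, pullback.diagonal_fst]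
    · simp only [Category.assoc, Over.prodLeftIsoPullback_hom_snd, ← Over.comp_left,
        prod.lift_snd, Over.id_left, pullback.diagonal_snd]
  rw [e]
  have := Groth.Agent.S4599.result Y.hom
  infer_instance

theorem exists_closedImmersion_of_eq_of_good_fg (P T X : Over S) (hP : Good P) (hP' : GoodFG P)
    [IsSeparated X.hom] [LocallyOfFiniteType X.hom] (φ₁ φ₂ : P ⊗ T ⟶ X) :
    ∃ (Z : Over S) (i : Z ⟶ T), IsClosedImmersion i.left ∧ LocallyOfFinitePresentation i.left ∧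
      ∀ (T' : Over S) (t : T' ⟶ T),
      (∃ z : T' ⟶ Z, z ≫ i = t) ↔ (P ◁ t) ≫ φ₁ = (P ◁ t) ≫ φ₂ := by
  obtain ⟨𝓙, h𝓙⟩ := hP T (equalizer.ι φ₁ φ₂).left.ker
  have hfg : FGI 𝓙 := by
    refine hP' T _ 𝓙 ?_ h𝓙
    have := lfp_equalizer_ι_left φ₁ φ₂
    exact fgi_ker _
  refine ⟨Over.mk (𝓙.subschemeι ≫ T.hom), Over.homMk 𝓙.subschemeι rfl,
    inferInstanceAs (IsClosedImmersion 𝓙.subschemeι), hfg, fun T' t => ?_⟩
  rw [exists_lift_iff_le_ker, h𝓙, ← Phi_iff_Phi', eq_iff_le_ker]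
  rfl

theorem exists_closedImmersion_of_factors_of_good_fg (P T X : Over S) (hP : Good P)
    (hP' : GoodFG P) (φ : P ⊗ T ⟶ X) {Y : Over S} (y : Y ⟶ X) [IsClosedImmersion y.left]
    [LocallyOfFinitePresentation y.left] :
    ∃ (Z : Over S) (i : Z ⟶ T), IsClosedImmersion i.left ∧ LocallyOfFinitePresentation i.left ∧
      ∀ (T' : Over S) (t : T' ⟶ T),
      (∃ z : T' ⟶ Z, z ≫ i = t) ↔ ∃ w : P ⊗ T' ⟶ Y, w ≫ y = (P ◁ t) ≫ φ := by
  obtain ⟨𝓙, h𝓙⟩ := hP T (y.left.ker.comap φ.left)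
  have hfg : FGI 𝓙 := hP' T _ 𝓙 ((fgi_ker y.left).comap _) h𝓙
  refine ⟨Over.mk (𝓙.subschemeι ≫ T.hom), Over.homMk 𝓙.subschemeι rfl,
    inferInstanceAs (IsClosedImmersion 𝓙.subschemeι), hfg, fun T' t => ?_⟩
  rw [exists_lift_iff_le_ker, h𝓙, ← Phi_iff_Phi', exists_factor_iff_le_ker]
  unfold Phi
  rw [comap_le_ker_iff, Over.comp_left]

end Groth.Agent.Lib.ClosedCond27
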