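/-
helper27: closed conditions, part 10: permanence of `Good`/`GoodFG` under isomorphisms, arbitrary base
change and fpqc descent of the base: `Phi'_iso`, `Good.of_iso`, `GoodFG.of_iso`, `Phi'_bcIso`,
`Good.baseChange`, `GoodFG.baseChange`, `FGI.of_fpqc`, `GoodFG.of_fpqc_base`.
-/
import Mathlib
import Groth.Agent.Lib.ClosedCond27i

set_option autoImplicit false
universe u
open CategoryTheory CategoryTheory.Limits MonoidalCategory CartesianMonoidalCategory AlgebraicGeometry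

namespace Groth.Agent.Lib.ClosedCond27

variable {S : Scheme.{u}}

section Iso

theorem Phi'_iso {P P' : Over S} (e : P ≅ P') {T : Over S}
    (𝓘' : (P' ⊗ T).left.IdealSheafData) {Z : Scheme.{u}} (z : Z ⟶ T.left) :
    Phi' P (𝓘'.comap (e.hom ▷ T).left) z ↔ Phi' P' 𝓘' z := by
  rw [Phi'_chart P' 𝓘' e.hom z]
  unfold Phi' Phi
  have : IsIso (e.hom ▷ Over.mk (z ≫ T.hom)).left :=
    inferInstanceAs (IsIso ((Over.forget S).map (e.hom ▷ Over.mk (z ≫ T.hom))))
  rw [Scheme.Hom.ker_comp_of_isIso]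

theorem Good.of_iso {P P' : Over S} (e : P ≅ P') (h : Good P) : Good P' := by
  intro T 𝓘'
  obtain ⟨𝓙, h𝓙⟩ := h T (𝓘'.comap (e.hom ▷ T).left)
  exact ⟨𝓙, fun Z z => by rw [h𝓙, Phi'_iso]⟩

theorem GoodFG.of_iso {P P' : Over S} (e : P ≅ P') (h : GoodFG P) : GoodFG P' := by
  intro T 𝓘' 𝓙 h𝓘' h𝓙
  exact h T (𝓘'.comap (e.hom ▷ T).left) 𝓙 (h𝓘'.comap _) (fun Z z => by rw [h𝓙, Phi'_iso])

end Iso

section BaseChange

variable {S' : Scheme.{u}} (j : S' ⟶ S) (P : Over S)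

theorem Phi'_bcIso (T' : Over S') (𝓘' : ((Over.pullback j).obj P ⊗ T').left.IdealSheafData)
    {Z : Scheme.{u}} (z : Z ⟶ T'.left) :
    Phi' P (T := (Over.map j).obj T') (𝓘'.comap (bcIso j P T').inv) z ↔
      Phi' ((Over.pullback j).obj P) 𝓘' z := by
  let ζ : Over.mk (z ≫ T'.hom) ⟶ T' := Over.homMk z rfl
  have h1 : Phi' P (T := (Over.map j).obj T') (𝓘'.comap (bcIso j P T').inv) z ↔
      Phi P (T := (Over.map j).obj T') (𝓘'.comap (bcIso j P T').inv) ((Over.map j).map ζ) := by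
    rw [Phi_iff_Phi']
    rfl
  rw [h1]
  unfold Phi' Phi
  rw [comap_le_ker_iff]
  have h2 : (P ◁ (Over.map j).map ζ).left ≫ (bcIso j P T').inv =
      (bcIso j P (Over.mk (z ≫ T'.hom))).inv ≫ ((Over.pullback j).obj P ◁ ζ).left := by
    rw [Iso.comp_inv_eq, Category.assoc, bcIso_naturality, Iso.inv_hom_id_assoc]
  rw [h2, Scheme.Hom.ker_comp_of_isIso]

theorem Good.baseChange (h : Good P) : Good ((Over.pullback j).obj P) := by
  intro T' 𝓘'
  obtain ⟨𝓙, h𝓙⟩ := h ((Over.map j).obj T') (𝓘'.comap (bcIso j P T').inv)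
  exact ⟨𝓙, fun Z z => by rw [← Phi'_bcIso]; exact h𝓙 Z z⟩

theorem GoodFG.baseChange (h : GoodFG P) : GoodFG ((Over.pullback j).obj P) := by
  intro T' 𝓘' 𝓙 h𝓘' h𝓙
  exact h ((Over.map j).obj T') (𝓘'.comap (bcIso j P T').inv) 𝓙 (h𝓘'.comap _)
    (fun Z z => by rw [Phi'_bcIso]; exact h𝓙 Z z)

end BaseChange

section Fpqc

theorem FGI.of_fpqc {Q Q' : Scheme.{u}} (q : Q' ⟶ Q) [Flat q] [Surjective q] [QuasiCompact q]
    {𝓚 : Q.IdealSheafData} (h : FGI (𝓚.comap q)) : FGI 𝓚 := by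
  unfold FGI at *
  have h' : LocallyOfFinitePresentation (pullback.fst q 𝓚.subschemeι) := by
    rw [← Scheme.IdealSheafData.comapIso_inv_subschemeι]
    infer_instance
  exact MorphismProperty.of_pullback_fst_of_descendsAlong (P := @LocallyOfFinitePresentation)
    (Q := @Surjective ⊓ @Flat ⊓ @QuasiCompact) (f := q)
    ⟨⟨inferInstance, inferInstance⟩, inferInstance⟩ h'

/-- `GoodFG` is fpqc local on the base. -/
theorem GoodFG.of_fpqc_base {S' : Scheme.{u}} (j : S' ⟶ S) [Flat j] [Surjective j]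
    [QuasiCompact j] (P : Over S) (h : GoodFG ((Over.pullback j).obj P)) : GoodFG P := by
  intro T 𝓘 𝓙 h𝓘 h𝓙
  have hflat : Flat (pullback.fst T.hom j) := inferInstance
  have hsurj : Surjective (pullback.fst T.hom j) := inferInstance
  have hqc : QuasiCompact (pullback.fst T.hom j) := inferInstance
  apply FGI.of_fpqc (pullback.fst T.hom j)
  refine h ((Over.pullback j).obj T) (𝓘.comap (bcMap j P T)) _ (h𝓘.comap _) (fun Z ζ => ?_)
  rw [comap_le_ker_iff, h𝓙, Phi'_baseChange]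

end Fpqc

end Groth.Agent.Lib.ClosedCond27
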