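/-
helper27: closed conditions, part 11: diagonalizable groups and groups of multiplicative type are
`Good` and `GoodFG`.  `projOver_diag`, `good_diag`, `goodFG_diag`, `good_DS`, `goodFG_DS`,
`isMultTypeFT_induction` (a property of `S`-schemes invariant under isomorphism, stable under base
change, Zariski and fpqc local on the base, and true for `D_ℤ(M)`, holds for every group of
multiplicative type in the sense of `SGA3x.IsMultTypeFT`), `good_of_isMultTypeFT`,
`goodFG_of_isMultTypeFT`.
-/
import Mathlib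
import Groth.Agent.Lib.ClosedCond27j
import Groth.Prelude.Def_SGA3x

set_option autoImplicit false
universe u
open CategoryTheory CategoryTheory.Limits MonoidalCategory CartesianMonoidalCategory AlgebraicGeometry

namespace Groth.Agent.Lib.ClosedCond27

section Diag

theorem projOver_diag (R : Type u) [CommRing R] (M : Type) [AddCommGroup M] :
    ProjOver (Red.diag R M) := by
  refine projOver_SpecMap
    (CommRingCat.ofHom (algebraMap R (MonoidAlgebra R (Multiplicative M)))) ?_
  have e : (CommRingCat.ofHom (algebraMap R (MonoidAlgebra R (Multiplicative M)))).hom.toAlgebra =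
      (inferInstance : Algebra R (MonoidAlgebra R (Multiplicative M))) :=
    Algebra.algebra_ext _ _ (fun _ => rfl)
  rw [e]
  infer_instance

theorem good_diag (R : Type u) [CommRing R] (M : Type) [AddCommGroup M] :
    Good (Red.diag R M) := by
  have : IsAffine (Red.diag R M).left :=
    inferInstanceAs (IsAffine (Spec (CommRingCat.of (MonoidAlgebra R (Multiplicative M)))))
  exact good_of_projOver _ (projOver_diag R M)

theorem goodFG_diag (R : Type u) [CommRing R] (M : Type) [AddCommGroup M] :
    GoodFG (Red.diag R M) := by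
  have : IsAffine (Red.diag R M).left :=
    inferInstanceAs (IsAffine (Spec (CommRingCat.of (MonoidAlgebra R (Multiplicative M)))))
  exact goodFG_of_projOver _ (projOver_diag R M)

theorem good_DS (S : Scheme.{u}) (M : Type) [AddCommGroup M] : Good (Red.DS S M) :=
  Good.baseChange _ _ (good_diag _ M)

theorem goodFG_DS (S : Scheme.{u}) (M : Type) [AddCommGroup M] : GoodFG (Red.DS S M) :=
  GoodFG.baseChange _ _ (goodFG_diag _ M)

end Diag

section MultType

/-- **Induction principle for groups of multiplicative type**: a property of `S`-schemes which is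
invariant under isomorphisms, stable under base change, Zariski local and fpqc local on the base and
holds for the diagonalizable groups `D_ℤ(M)` holds for all groups of multiplicative type. -/
theorem isMultTypeFT_induction (𝒢 : ∀ {S : Scheme.{u}}, Over S → Prop)
    (h_iso : ∀ {S : Scheme.{u}} {P P' : Over S}, (P ≅ P') → 𝒢 P → 𝒢 P')
    (h_bc : ∀ {S S' : Scheme.{u}} (j : S' ⟶ S) (P : Over S), 𝒢 P → 𝒢 ((Over.pullback j).obj P))
    (h_zar : ∀ {S : Scheme.{u}} (P : Over S),
      (∀ s : S, ∃ U : S.Opens, s ∈ U ∧ 𝒢 ((Over.pullback U.ι).obj P)) → 𝒢 P)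
    (h_fpqc : ∀ {S S' : Scheme.{u}} (j : S' ⟶ S) [Flat j] [Surjective j] [QuasiCompact j]
      (P : Over S), 𝒢 ((Over.pullback j).obj P) → 𝒢 P)
    (h_diag : ∀ (M : Type) [AddCommGroup M], AddGroup.FG M → 𝒢 (Red.diag (ULift.{u} ℤ) M))
    {S : Scheme.{u}} (H : Over S) [GrpObj H] (hH : SGA3x.IsMultTypeFT H) : 𝒢 H := by
  obtain ⟨S', f, hfl, hsurj, hcov, hloc⟩ := hH
  -- Step A: the property holds for `f^* H`
  have hA : 𝒢 ((Over.pullback f).obj H) := by
    apply h_zar
    intro s'
    obtain ⟨U, hs'U, M, _, hM, ⟨e⟩⟩ := hloc s'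
    refine ⟨U, hs'U, ?_⟩
    have h1 : 𝒢 (Red.DS (U : Scheme.{u}) M) := h_bc _ _ (h_diag M hM)
    have e' : Red.bc (U.ι ≫ f) H ≅ Red.DS (U : Scheme.{u}) M := (Grp.forget _).mapIso e
    have h2 : 𝒢 ((Over.pullback (U.ι ≫ f)).obj H) := h_iso e'.symm h1
    exact h_iso ((Over.pullbackComp U.ι f).app H) h2
  -- Step B
  apply h_zar
  intro s
  obtain ⟨V, hV, hsV, -⟩ := exists_isAffineOpen_mem_and_subset (X := S) (x := s) (U := ⊤) trivial
  refine ⟨V, hsV, ?_⟩
  obtain ⟨W, hWc, hWV⟩ := hcov V hV
  have hrange : Set.range (W.ι ≫ f) ⊆ Set.range V.ι := by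
    rintro _ ⟨w, rfl⟩
    rw [Scheme.Opens.range_ι, ← hWV]
    exact ⟨w.1, w.2, rfl⟩
  let jW : (W : Scheme.{u}) ⟶ (V : Scheme.{u}) := IsOpenImmersion.lift V.ι (W.ι ≫ f) hrange
  have hj : jW ≫ V.ι = W.ι ≫ f := IsOpenImmersion.lift_fac _ _ _
  have : IsAffine (V : Scheme.{u}) := hV
  have hflat : Flat jW := by
    have h : Flat (jW ≫ V.ι) := by
      rw [hj]
      infer_instance
    have := AlgebraicGeometry.instHasOfPostcompPropertySchemeIsOpenImmersionOfIsStableUnderBaseChange
      @Flat.{u}
    have hV' : IsOpenImmersion V.ι := inferInstance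
    exact MorphismProperty.of_postcomp (W := @Flat) jW V.ι hV' h
  have hsurjW : Surjective jW := by
    refine ⟨fun v => ?_⟩
    have hv : (v.1 : S) ∈ f.base '' (W : Set S') := by
      rw [hWV]
      exact v.2
    obtain ⟨w, hwW, hw⟩ := hv
    have hwr : w ∈ Set.range W.ι := by
      rw [Scheme.Opens.range_ι]
      exact hwW
    obtain ⟨w', rfl⟩ := hwr
    refine ⟨w', ?_⟩
    apply V.ι.injective
    rw [← Scheme.Hom.comp_apply, hj, Scheme.Hom.comp_apply]
    exact hw
  have hqc : QuasiCompact jW :=
    (quasiCompact_iff_compactSpace jW).mpr (isCompact_iff_compactSpace.mp hWc)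
  apply h_fpqc jW
  have h3 : 𝒢 ((Over.pullback W.ι).obj ((Over.pullback f).obj H)) := h_bc _ _ hA
  have h4 : 𝒢 ((Over.pullback (W.ι ≫ f)).obj H) := h_iso ((Over.pullbackComp W.ι f).app H).symm h3
  have h5 : 𝒢 ((Over.pullback (jW ≫ V.ι)).obj H) := by
    rw [hj]
    exact h4
  exact h_iso ((Over.pullbackComp jW V.ι).app H) h5

theorem good_of_isMultTypeFT {S : Scheme.{u}} (H : Over S) [GrpObj H]
    (hH : SGA3x.IsMultTypeFT H) : Good H :=
  isMultTypeFT_induction (fun P => Good P) (fun e h => Good.of_iso e h)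
    (fun j P h => Good.baseChange j P h) (fun P h => Good.of_base_cover P h)
    (fun j _ _ _ P h => Good.of_fpqc_base j P h) (fun M _ _ => good_diag _ M) H hH

theorem goodFG_of_isMultTypeFT {S : Scheme.{u}} (H : Over S) [GrpObj H]
    (hH : SGA3x.IsMultTypeFT H) : GoodFG H :=
  isMultTypeFT_induction (fun P => GoodFG P) (fun e h => GoodFG.of_iso e h)
    (fun j P h => GoodFG.baseChange j P h) (fun P h => GoodFG.of_base_cover P h)
    (fun j _ _ _ P h => GoodFG.of_fpqc_base j P h) (fun M _ _ => goodFG_diag _ M) H hH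

end MultType

end Groth.Agent.Lib.ClosedCond27
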