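/-
`ClosedCond27l` (helper27): the closed condition "`V(𝓘') ⊆ V(𝓘)` after base change" for `V(𝓘')` finite
locally free over the base, in ideal-sheaf form (`exists_idealSheaf_comap_le`, `..._comap_eq`).
Extracted from `Groth.Agent.S16245`.
-/
import Mathlib
import Groth.Agent.Lib.ClosedCond27f
import Groth.Agent.S16245

set_option autoImplicit false
universe u
open CategoryTheory CategoryTheory.Limits AlgebraicGeometry

namespace Groth.Agent.Lib.ClosedCond27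

/-- Let `f : X ⟶ S`, `𝓘 𝓘'` ideal sheaves on `X` with `V(𝓘')` finite locally free over `S`. There is an
ideal sheaf `𝓩` on `S` such that `g : T ⟶ S` kills `𝓩` iff `𝓘_T ≤ 𝓘'_T` on `X ×_S T`. -/
theorem exists_idealSheaf_comap_le {X S : Scheme.{u}} (f : X ⟶ S) (𝓘 𝓘' : X.IdealSheafData)
    [IsFinite (𝓘'.subschemeι ≫ f)] [Flat (𝓘'.subschemeι ≫ f)]
    [LocallyOfFinitePresentation (𝓘'.subschemeι ≫ f)] :
    ∃ 𝓩 : S.IdealSheafData, ∀ (T : Scheme.{u}) (g : T ⟶ S),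
      𝓩 ≤ g.ker ↔ 𝓘.comap (pullback.fst f g) ≤ 𝓘'.comap (pullback.fst f g) := by
  classical
  let P : Over S := Over.mk (𝓘'.subschemeι ≫ f)
  let T₀ : Over S := Over.mk (𝟙 S)
  have i1 : IsFinite P.hom := inferInstanceAs (IsFinite (𝓘'.subschemeι ≫ f))
  have i2 : Flat P.hom := inferInstanceAs (Flat (𝓘'.subschemeι ≫ f))
  have i3 : LocallyOfFinitePresentation P.hom :=
    inferInstanceAs (LocallyOfFinitePresentation (𝓘'.subschemeι ≫ f))
  obtain ⟨𝓙, h𝓙⟩ := good_of_finite_flat_lfp P T₀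
    (𝓘.comap ((CartesianMonoidalCategory.fst P T₀).left ≫ 𝓘'.subschemeι))
  refine ⟨𝓙, fun T g => ?_⟩
  refine (h𝓙 T g).trans ?_
  unfold Phi' Phi
  rw [comap_le_ker_iff, ← Category.assoc, ← Over.comp_left,
    CartesianMonoidalCategory.whiskerLeft_fst]
  have h1 : 𝓘.comap (pullback.fst f g) ≤ 𝓘'.comap (pullback.fst f g) ↔
      𝓘 ≤ ((𝓘'.comap (pullback.fst f g)).subschemeι ≫ pullback.fst f g).ker := by
    rw [← comap_le_ker_iff, Scheme.IdealSheafData.ker_subschemeι]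
  rw [h1, Groth.Agent.S16245.key f 𝓘' g]

/-- both inclusions: the closed condition "`𝓘_T = 𝓘'_T`". -/
theorem exists_idealSheaf_comap_eq {X S : Scheme.{u}} (f : X ⟶ S) (𝓘 𝓘' : X.IdealSheafData)
    [IsFinite (𝓘.subschemeι ≫ f)] [Flat (𝓘.subschemeι ≫ f)]
    [LocallyOfFinitePresentation (𝓘.subschemeι ≫ f)]
    [IsFinite (𝓘'.subschemeι ≫ f)] [Flat (𝓘'.subschemeι ≫ f)]
    [LocallyOfFinitePresentation (𝓘'.subschemeι ≫ f)] :
    ∃ 𝓩 : S.IdealSheafData, ∀ (T : Scheme.{u}) (g : T ⟶ S),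
      𝓩 ≤ g.ker ↔ 𝓘.comap (pullback.fst f g) = 𝓘'.comap (pullback.fst f g) := by
  obtain ⟨𝓩₁, h₁⟩ := exists_idealSheaf_comap_le f 𝓘 𝓘'
  obtain ⟨𝓩₂, h₂⟩ := exists_idealSheaf_comap_le f 𝓘' 𝓘
  refine ⟨𝓩₁ ⊔ 𝓩₂, fun T g => ?_⟩
  rw [sup_le_iff, h₁, h₂]
  exact ⟨fun h => le_antisymm h.1 h.2, fun h => ⟨h.le, h.ge⟩⟩

end Groth.Agent.Lib.ClosedCond27
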