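import Mathlib.AlgebraicGeometry.IdealSheaf.Subscheme
import Mathlib.AlgebraicGeometry.Morphisms.ClosedImmersion
import Mathlib.AlgebraicGeometry.Morphisms.QuasiSeparated
import Mathlib.AlgebraicGeometry.Morphisms.Separated
import Mathlib.AlgebraicGeometry.Morphisms.Affine

/-!
# A scheme covered by two affine closed subschemes is affine (helper13)

`isAffine_of_inf_eq_bot`: if `I₁ ⊓ I₂ = ⊥` are ideal sheaves on `S` whose closed subschemes are
affine, then `S` is affine.  The proof glues sections along the closed cover.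
-/

set_option autoImplicit false
set_option linter.unusedSectionVars false
universe u

namespace Groth.Agent.Lib.ClosedCover13

open AlgebraicGeometry CategoryTheory TopologicalSpace Opposite

/-- Compatibility of `app` with restriction to preimages, for a factorization `g = j ≫ ι`. -/
theorem app_eq_of_comp {Z Y S : Scheme.{u}} (j : Z ⟶ Y) (ι : Y ⟶ S) (g : Z ⟶ S) (hg : g = j ≫ ι)
    (W : S.Opens) (r : Γ(S, W)) (a : Γ(Y, ⊤))
    (h : ι.app W r = Y.presheaf.map (homOfLE le_top).op a) :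
    g.app W r = Z.presheaf.map (homOfLE le_top).op (j.appTop a) := by
  subst hg
  rw [Scheme.Hom.comp_app]
  change (j.app (ι ⁻¹ᵁ W)) ((ι.app W) r) = _
  rw [h]
  have := Scheme.Hom.naturality j (homOfLE (le_top : ι ⁻¹ᵁ W ≤ ⊤)).op
  have h2 := congrArg (fun φ => φ.hom a) this
  simp only [CommRingCat.hom_comp, RingHom.coe_comp, Function.comp_apply] at h2
  exact h2

variable {S : Scheme.{u}} (I₁ I₂ : S.IdealSheafData)

/-- The inclusion of the intersection `V(I₁ + I₂)` into `V(I₁)`. -/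
noncomputable def j₁ : (I₁ ⊔ I₂).subscheme ⟶ I₁.subscheme :=
  Scheme.IdealSheafData.inclusion le_sup_left

/-- The inclusion of the intersection `V(I₁ + I₂)` into `V(I₂)`. -/
noncomputable def j₂ : (I₁ ⊔ I₂).subscheme ⟶ I₂.subscheme :=
  Scheme.IdealSheafData.inclusion le_sup_right

instance : IsClosedImmersion (j₁ I₁ I₂) := by unfold j₁; infer_instance

instance : IsClosedImmersion (j₂ I₁ I₂) := by unfold j₂; infer_instance

theorem j₁_ι : j₁ I₁ I₂ ≫ I₁.subschemeι = (I₁ ⊔ I₂).subschemeι :=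
  Scheme.IdealSheafData.inclusion_subschemeι _

theorem j₂_ι : j₂ I₁ I₂ ≫ I₂.subschemeι = (I₁ ⊔ I₂).subschemeι :=
  Scheme.IdealSheafData.inclusion_subschemeι _

variable {I₁ I₂}

/-- Local gluing: on an affine open there is a unique section with prescribed restrictions to the
two closed subschemes. -/
theorem existsUnique_local (h : I₁ ⊓ I₂ = ⊥) (a₁ : Γ(I₁.subscheme, ⊤)) (a₂ : Γ(I₂.subscheme, ⊤))
    (hc : (j₁ I₁ I₂).appTop a₁ = (j₂ I₁ I₂).appTop a₂) (W : S.affineOpens) :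
    ∃! r : Γ(S, W), I₁.subschemeι.app W r = I₁.subscheme.presheaf.map (homOfLE le_top).op a₁ ∧
      I₂.subschemeι.app W r = I₂.subscheme.presheaf.map (homOfLE le_top).op a₂ := by
  obtain ⟨r₁, hr₁⟩ := I₁.subschemeι_app_surjective W
    (I₁.subscheme.presheaf.map (homOfLE le_top).op a₁)
  obtain ⟨r₂, hr₂⟩ := I₂.subschemeι_app_surjective W
    (I₂.subscheme.presheaf.map (homOfLE le_top).op a₂)
  have key : (I₁ ⊔ I₂).subschemeι.app W (r₁ - r₂) = 0 := by
    rw [map_sub, app_eq_of_comp (j₁ I₁ I₂) I₁.subschemeι _ (j₁_ι I₁ I₂).symm W r₁ a₁ hr₁,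
      app_eq_of_comp (j₂ I₁ I₂) I₂.subschemeι _ (j₂_ι I₁ I₂).symm W r₂ a₂ hr₂, hc, sub_self]
  have hmem : r₁ - r₂ ∈ I₁.ideal W ⊔ I₂.ideal W := by
    have : r₁ - r₂ ∈ RingHom.ker ((I₁ ⊔ I₂).subschemeι.app W).hom := key
    rw [Scheme.IdealSheafData.ker_subschemeι_app] at this
    exact this
  obtain ⟨i₁, hi₁, i₂, hi₂, e⟩ := Submodule.mem_sup.mp hmem
  have hk₁ : ∀ i ∈ I₁.ideal W, I₁.subschemeι.app W i = 0 := fun i hi => by
    have : i ∈ RingHom.ker (I₁.subschemeι.app W).hom := by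
      rw [Scheme.IdealSheafData.ker_subschemeι_app]; exact hi
    exact this
  have hk₂ : ∀ i ∈ I₂.ideal W, I₂.subschemeι.app W i = 0 := fun i hi => by
    have : i ∈ RingHom.ker (I₂.subschemeι.app W).hom := by
      rw [Scheme.IdealSheafData.ker_subschemeι_app]; exact hi
    exact this
  refine ⟨r₁ - i₁, ⟨?_, ?_⟩, ?_⟩
  · rw [map_sub, hk₁ i₁ hi₁, sub_zero, hr₁]
  · have : r₁ - i₁ = r₂ + i₂ := by linear_combination -e
    rw [this, map_add, hk₂ i₂ hi₂, add_zero, hr₂]
  · rintro r' ⟨h1, h2⟩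
    have hd : r' - (r₁ - i₁) ∈ I₁.ideal W ⊓ I₂.ideal W := by
      constructor
      · have : r' - (r₁ - i₁) ∈ RingHom.ker (I₁.subschemeι.app W).hom := by
          change I₁.subschemeι.app W (r' - (r₁ - i₁)) = 0
          rw [map_sub, h1, map_sub, hk₁ i₁ hi₁, sub_zero, hr₁, sub_self]
        rw [Scheme.IdealSheafData.ker_subschemeι_app] at this
        exact this
      · have : r' - (r₁ - i₁) ∈ RingHom.ker (I₂.subschemeι.app W).hom := by
          change I₂.subschemeι.app W (r' - (r₁ - i₁)) = 0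
          have e2 : r₁ - i₁ = r₂ + i₂ := by linear_combination -e
          rw [map_sub, h2, e2, map_add, hk₂ i₂ hi₂, add_zero, hr₂, sub_self]
        rw [Scheme.IdealSheafData.ker_subschemeι_app] at this
        exact this
    have hbot : I₁.ideal W ⊓ I₂.ideal W = ⊥ := by
      have := congrArg (fun I : S.IdealSheafData => I.ideal W) h
      exact this
    rw [hbot] at hd
    exact sub_eq_zero.mp hd

/-- Global gluing of sections along the closed cover `V(I₁) ∪ V(I₂)` when `I₁ ⊓ I₂ = ⊥`. -/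
theorem exists_glue (h : I₁ ⊓ I₂ = ⊥) (a₁ : Γ(I₁.subscheme, ⊤)) (a₂ : Γ(I₂.subscheme, ⊤))
    (hc : (j₁ I₁ I₂).appTop a₁ = (j₂ I₁ I₂).appTop a₂) :
    ∃ a : Γ(S, ⊤), I₁.subschemeι.appTop a = a₁ ∧ I₂.subschemeι.appTop a = a₂ := by
  choose r hr hr' using fun W : S.affineOpens => existsUnique_local h a₁ a₂ hc W
  -- compatibility with restriction to smaller affine opens
  have hres : ∀ (W W' : S.affineOpens) (hle : W'.1 ≤ W.1),
      S.presheaf.map (homOfLE hle).op (r W) = r W' := by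
    intro W W' hle
    refine hr' W' _ ⟨?_, ?_⟩
    · have := Scheme.Hom.naturality I₁.subschemeι (homOfLE hle).op
      have h2 := congrArg (fun φ => φ.hom (r W)) this
      simp only [CommRingCat.hom_comp, RingHom.coe_comp, Function.comp_apply] at h2
      rw [h2, (hr W).1, ← CommRingCat.comp_apply, ← Functor.map_comp]
      rfl
    · have := Scheme.Hom.naturality I₂.subschemeι (homOfLE hle).op
      have h2 := congrArg (fun φ => φ.hom (r W)) this
      simp only [CommRingCat.hom_comp, RingHom.coe_comp, Function.comp_apply] at h2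
      rw [h2, (hr W).2, ← CommRingCat.comp_apply, ← Functor.map_comp]
      rfl
  have hcompat : TopCat.Presheaf.IsCompatible S.sheaf.1 (fun W : S.affineOpens => W.1) r := by
    intro W W'
    refine TopCat.Presheaf.section_ext S.sheaf _ _ _ fun x hx => ?_
    rw [TopCat.Presheaf.germ_res_apply, TopCat.Presheaf.germ_res_apply]
    obtain ⟨_, ⟨W'', hW'', rfl⟩, hxW'', hle⟩ :=
      S.isBasis_affineOpens.exists_subset_of_mem_open hx (W.1 ⊓ W'.1).2
    have e1 := hres W ⟨W'', hW''⟩ (fun y hy => (hle hy).1)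
    have e2 := hres W' ⟨W'', hW''⟩ (fun y hy => (hle hy).2)
    have g1 := TopCat.Presheaf.germ_res_apply S.presheaf
      (homOfLE (fun y hy => (hle hy).1 : W'' ≤ W.1)) x hxW'' (r W)
    have g2 := TopCat.Presheaf.germ_res_apply S.presheaf
      (homOfLE (fun y hy => (hle hy).2 : W'' ≤ W'.1)) x hxW'' (r W')
    exact (g1.symm.trans (by rw [e1, e2])).trans g2
  obtain ⟨a, ha, -⟩ := S.sheaf.existsUnique_gluing' (fun W : S.affineOpens => W.1) ⊤
    (fun W => homOfLE le_top) (by rw [iSup_affineOpens_eq_top]) r hcompat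
  refine ⟨a, ?_, ?_⟩
  · refine TopCat.Presheaf.section_ext I₁.subscheme.sheaf _ _ _ fun z _ => ?_
    obtain ⟨_, ⟨W, hW, rfl⟩, hzW, -⟩ := S.isBasis_affineOpens.exists_subset_of_mem_open
      (Set.mem_univ (I₁.subschemeι z)) isOpen_univ
    have hz : z ∈ I₁.subschemeι ⁻¹ᵁ W := hzW
    have g1 := TopCat.Presheaf.germ_res_apply I₁.subscheme.presheaf
      (homOfLE (le_top : I₁.subschemeι ⁻¹ᵁ W ≤ ⊤)) z hz (I₁.subschemeι.appTop a)
    have g2 := TopCat.Presheaf.germ_res_apply I₁.subscheme.presheaf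
      (homOfLE (le_top : I₁.subschemeι ⁻¹ᵁ W ≤ ⊤)) z hz a₁
    refine (g1.symm.trans ?_).trans g2
    congr 1
    have := Scheme.Hom.naturality I₁.subschemeι (homOfLE (le_top : W ≤ ⊤)).op
    have h2 := congrArg (fun φ => φ.hom a) this
    simp only [CommRingCat.hom_comp, RingHom.coe_comp, Function.comp_apply] at h2
    rw [← (hr ⟨W, hW⟩).1, ← ha ⟨W, hW⟩]
    exact h2.symm
  · refine TopCat.Presheaf.section_ext I₂.subscheme.sheaf _ _ _ fun z _ => ?_
    obtain ⟨_, ⟨W, hW, rfl⟩, hzW, -⟩ := S.isBasis_affineOpens.exists_subset_of_mem_open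
      (Set.mem_univ (I₂.subschemeι z)) isOpen_univ
    have hz : z ∈ I₂.subschemeι ⁻¹ᵁ W := hzW
    have g1 := TopCat.Presheaf.germ_res_apply I₂.subscheme.presheaf
      (homOfLE (le_top : I₂.subschemeι ⁻¹ᵁ W ≤ ⊤)) z hz (I₂.subschemeι.appTop a)
    have g2 := TopCat.Presheaf.germ_res_apply I₂.subscheme.presheaf
      (homOfLE (le_top : I₂.subschemeι ⁻¹ᵁ W ≤ ⊤)) z hz a₂
    refine (g1.symm.trans ?_).trans g2
    congr 1
    have := Scheme.Hom.naturality I₂.subschemeι (homOfLE (le_top : W ≤ ⊤)).op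
    have h2 := congrArg (fun φ => φ.hom a) this
    simp only [CommRingCat.hom_comp, RingHom.coe_comp, Function.comp_apply] at h2
    rw [← (hr ⟨W, hW⟩).2, ← ha ⟨W, hW⟩]
    exact h2.symm

/-- The two supports cover `S`. -/
theorem support_sup_eq_top (h : I₁ ⊓ I₂ = ⊥) : I₁.support ⊔ I₂.support = ⊤ := by
  have : I₁ * I₂ = ⊥ := by
    refine le_bot_iff.mp (h ▸ ?_)
    intro U
    exact Ideal.mul_le_inf
  rw [← Scheme.IdealSheafData.support_mul, this, Scheme.IdealSheafData.support_bot]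

theorem mem_range_or (h : I₁ ⊓ I₂ = ⊥) (s : S) :
    s ∈ Set.range I₁.subschemeι ∨ s ∈ Set.range I₂.subschemeι := by
  rw [Scheme.IdealSheafData.range_subschemeι, Scheme.IdealSheafData.range_subschemeι]
  have : s ∈ ((I₁.support ⊔ I₂.support : Closeds S) : Set S) := by
    rw [support_sup_eq_top h]; trivial
  exact this

section Affine

variable [IsAffine I₁.subscheme] [IsAffine I₂.subscheme]

theorem appTop_surjective₁ (h : I₁ ⊓ I₂ = ⊥) : Function.Surjective I₁.subschemeι.appTop := by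
  intro a₁
  obtain ⟨a₂, ha₂⟩ := (IsClosedImmersion.isAffine_surjective_of_isAffine (j₂ I₁ I₂)).2
    ((j₁ I₁ I₂).appTop a₁)
  obtain ⟨a, ha, -⟩ := exists_glue h a₁ a₂ ha₂.symm
  exact ⟨a, ha⟩

theorem appTop_surjective₂ (h : I₁ ⊓ I₂ = ⊥) : Function.Surjective I₂.subschemeι.appTop := by
  intro a₂
  obtain ⟨a₁, ha₁⟩ := (IsClosedImmersion.isAffine_surjective_of_isAffine (j₁ I₁ I₂)).2
    ((j₂ I₁ I₂).appTop a₂)
  obtain ⟨a, -, ha⟩ := exists_glue h a₁ a₂ ha₁
  exact ⟨a, ha⟩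

theorem isClosedImmersion_comp₁ (h : I₁ ⊓ I₂ = ⊥) :
    IsClosedImmersion (I₁.subschemeι ≫ S.toSpecΓ) := by
  rw [Scheme.toSpecΓ_naturality]
  have := IsClosedImmersion.spec_of_surjective _ (appTop_surjective₁ h)
  infer_instance

theorem isClosedImmersion_comp₂ (h : I₁ ⊓ I₂ = ⊥) :
    IsClosedImmersion (I₂.subschemeι ≫ S.toSpecΓ) := by
  rw [Scheme.toSpecΓ_naturality]
  have := IsClosedImmersion.spec_of_surjective _ (appTop_surjective₂ h)
  infer_instance

theorem isClosedMap_toSpecΓ (h : I₁ ⊓ I₂ = ⊥) : IsClosedMap S.toSpecΓ := by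
  intro C hC
  have h1 := isClosedImmersion_comp₁ h
  have h2 := isClosedImmersion_comp₂ h
  have e : S.toSpecΓ '' C = (I₁.subschemeι ≫ S.toSpecΓ) '' (I₁.subschemeι ⁻¹' C) ∪
      (I₂.subschemeι ≫ S.toSpecΓ) '' (I₂.subschemeι ⁻¹' C) := by
    ext t
    constructor
    · rintro ⟨s, hs, rfl⟩
      rcases mem_range_or h s with ⟨z, rfl⟩ | ⟨z, rfl⟩
      · exact Or.inl ⟨z, hs, rfl⟩
      · exact Or.inr ⟨z, hs, rfl⟩
    · rintro (⟨z, hz, rfl⟩ | ⟨z, hz, rfl⟩)
      · exact ⟨I₁.subschemeι z, hz, rfl⟩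
      · exact ⟨I₂.subschemeι z, hz, rfl⟩
  rw [e]
  exact ((I₁.subschemeι ≫ S.toSpecΓ).isClosedEmbedding.isClosedMap _
      (hC.preimage I₁.subschemeι.continuous)).union
    ((I₂.subschemeι ≫ S.toSpecΓ).isClosedEmbedding.isClosedMap _
      (hC.preimage I₂.subschemeι.continuous))

/-- Global functions separate a point of `V(I₁) \ V(I₂)` from the points of `V(I₂)`. -/
theorem toSpecΓ_ne (h : I₁ ⊓ I₂ = ⊥) (z : I₁.subscheme) (z' : I₂.subscheme)
    (hz : I₁.subschemeι z ∉ Set.range I₂.subschemeι) :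
    S.toSpecΓ (I₁.subschemeι z) ≠ S.toSpecΓ (I₂.subschemeι z') := by
  have hz1 : z ∉ Set.range (j₁ I₁ I₂) := by
    rintro ⟨w, rfl⟩
    apply hz
    refine ⟨j₂ I₁ I₂ w, ?_⟩
    rw [← Scheme.Hom.comp_apply, ← Scheme.Hom.comp_apply, j₁_ι, j₂_ι]
  have hz2 : z ∉ ((j₁ I₁ I₂).ker.support : Set _) := by
    rw [Scheme.Hom.support_ker, (j₁ I₁ I₂).isClosedEmbedding.isClosed_range.closure_eq]
    exact hz1
  rw [SetLike.mem_coe, Scheme.IdealSheafData.mem_support_iff_of_mem
    (U := ⟨⊤, isAffineOpen_top _⟩) trivial, Scheme.mem_zeroLocus_iff] at hz2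
  push Not at hz2
  obtain ⟨a₁, ha₁, hza₁⟩ := hz2
  rw [SetLike.mem_coe, Scheme.Hom.ker_apply] at ha₁
  obtain ⟨f, hf1, hf2⟩ := exists_glue h a₁ 0 (by rw [map_zero]; exact ha₁)
  intro heq
  have m1 : S.toSpecΓ (I₁.subschemeι z) ∈ PrimeSpectrum.basicOpen f := by
    change I₁.subschemeι z ∈ S.toSpecΓ ⁻¹ᵁ PrimeSpectrum.basicOpen f
    rw [Scheme.toSpecΓ_preimage_basicOpen]
    change z ∈ I₁.subschemeι ⁻¹ᵁ S.basicOpen f
    rw [Scheme.preimage_basicOpen_top, hf1]
    exact hza₁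
  rw [heq] at m1
  have m2 : z' ∈ I₂.subschemeι ⁻¹ᵁ S.basicOpen f := by
    change I₂.subschemeι z' ∈ S.basicOpen f
    rw [← Scheme.toSpecΓ_preimage_basicOpen]
    exact m1
  rw [Scheme.preimage_basicOpen_top, hf2, Scheme.basicOpen_zero] at m2
  exact m2

theorem toSpecΓ_injective (h : I₁ ⊓ I₂ = ⊥) : Function.Injective S.toSpecΓ := by
  have h1 := isClosedImmersion_comp₁ h
  have h2 := isClosedImmersion_comp₂ h
  have h' : I₂ ⊓ I₁ = ⊥ := by rw [inf_comm]; exact h
  have inj1 : ∀ z z' : I₁.subscheme, S.toSpecΓ (I₁.subschemeι z) = S.toSpecΓ (I₁.subschemeι z') →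
      z = z' := fun z z' e =>
    (I₁.subschemeι ≫ S.toSpecΓ).isClosedEmbedding.injective e
  have inj2 : ∀ z z' : I₂.subscheme, S.toSpecΓ (I₂.subschemeι z) = S.toSpecΓ (I₂.subschemeι z') →
      z = z' := fun z z' e =>
    (I₂.subschemeι ≫ S.toSpecΓ).isClosedEmbedding.injective e
  intro s s' hss'
  rcases mem_range_or h s with ⟨z, rfl⟩ | ⟨z, rfl⟩ <;>
    rcases mem_range_or h s' with ⟨z', rfl⟩ | ⟨z', rfl⟩
  · rw [inj1 z z' hss']
  · by_cases hz : I₁.subschemeι z ∈ Set.range I₂.subschemeι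
    · obtain ⟨w, hw⟩ := hz
      rw [← hw] at hss' ⊢
      rw [inj2 w z' hss']
    · exact absurd hss' (toSpecΓ_ne h z z' hz)
  · by_cases hz : I₁.subschemeι z' ∈ Set.range I₂.subschemeι
    · obtain ⟨w, hw⟩ := hz
      rw [← hw] at hss' ⊢
      rw [inj2 z w hss']
    · exact absurd hss'.symm (toSpecΓ_ne h z' z hz)
  · rw [inj2 z z' hss']

/-- **A scheme which is the union of two affine closed subschemes is affine.** -/
theorem isAffine_of_inf_eq_bot (h : I₁ ⊓ I₂ = ⊥) : IsAffine S := by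
  have hemb : Topology.IsClosedEmbedding S.toSpecΓ :=
    Topology.IsClosedEmbedding.of_continuous_injective_isClosedMap S.toSpecΓ.continuous
      (toSpecΓ_injective h) (isClosedMap_toSpecΓ h)
  have : IsAffineHom S.toSpecΓ :=
    isAffineHom_of_isInducing S.toSpecΓ hemb.isInducing hemb.isClosed_range
  exact isAffine_of_isAffineHom S.toSpecΓ

end Affine

end Groth.Agent.Lib.ClosedCover13
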