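import Groth.Agent.Lib.FinModifPic42

/-!
# helper42: gluing invertible modules along a closed cover (namespace `Groth.Agent.Lib.ClosedCoverPic42`)

* `exists_descent_of_atlas_fam`: family version of `FinModifPic42.exists_descent_of_atlas`: morphisms
  `f k : X k ⟶ Y`, `V ⊆ Y` open such that `Γ(Y, W) → ∏ₖ Γ(X k, (f k)⁻¹ W)` is bijective for `W ≤ V`, an open cover
  `W i` of `Y` with `W i ⊓ W j ≤ V` for `i ≠ j`, and free generators of `L k` over all `(f k)⁻¹(W i)`: then there
  is an invertible `N` on `Y` with `(f k)^* N ≅ L k` for all `k`.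
* `exists_glue_closedCover`: `X` reduced, finitely many closed immersions `ι k : Z k ⟶ X` jointly surjective with
  pairwise discrete intersections of ranges, `L k` invertible on `Z k` ⇒ invertible `M` on `X` with
  `(ι k)^* M ≅ L k`.
-/

set_option autoImplicit false
universe u
open CategoryTheory CategoryTheory.Limits AlgebraicGeometry TopologicalSpace Opposite
open Groth.Agent.Lib.H90Invertible Groth.Agent.Lib.H78TensorGen Groth.Agent.Lib.H78SecCoord
open Groth.Agent.Lib.H78Atlas Groth.Agent.Lib.InvGlue42 Groth.Agent.Lib.H78PullSec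
open Groth.Agent.Lib.FinModifPic42

namespace Groth.Agent.Lib.ClosedCoverPic42

section Descent

variable {κ : Type*} {Y : Scheme.{u}} {X : κ → Scheme.{u}} (f : ∀ k, X k ⟶ Y) (V : Y.Opens)
  (hV : ∀ W : Y.Opens, W ≤ V →
    Function.Bijective (fun a : Γ(Y, W) => fun k => (f k).app W a))
  {ι : Type u} (W : ι → Y.Opens) (hpair : ∀ i j, i ≠ j → W i ⊓ W j ≤ V)
  (L : ∀ k, (X k).Modules) (e : ∀ k i, Γ(L k, f k ⁻¹ᵁ W i))
  (he : ∀ k i, IsGen (L k) (f k ⁻¹ᵁ W i) (e k i))

open Classical in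
/-- the descended transition functions -/
noncomputable def etaF (i j : ι) : Γ(Y, W i ⊓ W j) :=
  if h : W i ⊓ W j ≤ V then
    (Equiv.ofBijective _ (hV _ h)).symm (fun k => u (f k) W (L k) (e k) (he k) i j)
  else 1

include hpair in
lemma app_etaF (k : κ) (i j : ι) :
    (f k).app (W i ⊓ W j) (etaF f V hV W L e he i j) = u (f k) W (L k) (e k) (he k) i j := by
  unfold etaF
  split_ifs with h
  · exact congrFun ((Equiv.ofBijective _ (hV _ h)).apply_symm_apply
      (fun k => u (f k) W (L k) (e k) (he k) i j)) k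
  · have hij : i = j := by
      by_contra hne
      exact h (hpair i j hne)
    subst hij
    rw [map_one, u_self]

lemma etaF_self (i : ι) : etaF f V hV W L e he i i = 1 := by
  unfold etaF
  split_ifs with h
  · rw [Equiv.symm_apply_eq]
    funext k
    rw [u_self]
    exact (map_one ((f k).app (W i ⊓ W i)).hom).symm
  · rfl

include hpair in
lemma etaF_cocycle (i j k : ι) :
    rf (inf_le_inf_right (W k) inf_le_left : W i ⊓ W j ⊓ W k ≤ W i ⊓ W k) (etaF f V hV W L e he i k) =
      rf (inf_le_left : W i ⊓ W j ⊓ W k ≤ W i ⊓ W j) (etaF f V hV W L e he i j) *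
        rf (inf_le_inf_right (W k) inf_le_right : W i ⊓ W j ⊓ W k ≤ W j ⊓ W k)
          (etaF f V hV W L e he j k) := by
  by_cases hT : W i ⊓ W j ⊓ W k ≤ V
  · apply (hV _ hT).1
    funext l
    change (f l).app _ _ = (f l).app _ _
    rw [map_mul, app_rf, app_rf, app_rf, app_etaF f V hV W hpair, app_etaF f V hV W hpair,
      app_etaF f V hV W hpair]
    exact u_cocycle (f l) W (L l) (e l) (he l) i j k _ _ _
  · have hij : i = j := by
      by_contra hne
      exact hT (inf_le_left.trans (hpair i j hne))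
    have hjk : j = k := by
      by_contra hne
      exact hT ((inf_le_inf_right (W k) inf_le_right).trans (hpair j k hne))
    subst hij hjk
    rw [etaF_self, rf_one, mul_one]

include hV hpair he in
/-- **Descent of a family of invertible modules with compatible atlases.** -/
theorem exists_descent_of_atlas_fam (hW : ⨆ i, W i = ⊤) :
    ∃ N : Y.Modules, PicF.IsInvertible N ∧
      ∀ k, Nonempty ((Scheme.Modules.pullback (f k)).obj N ≅ L k) := by
  have hc := etaF_cocycle f V hV W hpair L e he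
  have h1 := etaF_self f V hV W L e he
  let N : Y.Modules := glue W (etaF f V hV W L e he)
  refine ⟨N, isInvertible_glue hc hW h1, fun k => ?_⟩
  let t : ∀ i, Γ((Scheme.Modules.pullback (f k)).obj N, f k ⁻¹ᵁ W i) := fun i => pb (f k) N (gen hc i)
  have ht : ∀ i, IsGen ((Scheme.Modules.pullback (f k)).obj N) (f k ⁻¹ᵁ W i) (t i) := fun i =>
    isGen_pb (f k) (isGen_gen hc h1 i)
  have hsw : ∀ i j, f k ⁻¹ᵁ W i ⊓ f k ⁻¹ᵁ W j ≤ f k ⁻¹ᵁ (W j ⊓ W i) := fun i j x hx => ⟨hx.2, hx.1⟩
  have hcov : ⨆ i, f k ⁻¹ᵁ W i = ⊤ := by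
    rw [eq_top_iff]
    intro x _
    have hx : f k x ∈ ⨆ i, W i := by rw [hW]; trivial
    obtain ⟨i, hi⟩ := Opens.mem_iSup.mp hx
    exact Opens.mem_iSup.mpr ⟨i, hi⟩
  obtain ⟨φ, -⟩ := Groth.Agent.Lib.ModIsoGlueH3.exists_iso_of_atlas
    (L' := (Scheme.Modules.pullback (f k)).obj N) (L := L k) (U := fun i => f k ⁻¹ᵁ W i)
    (t := t) ht (e := e k) (he k) (g := fun i j => rf (hsw i j) (u (f k) W (L k) (e k) (he k) j i))
    (fun i j => by
      have h0 := gen_transition hc j i
      have h2 := congrArg (pb (f k) N) h0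
      rw [pb_rs, pb_smul, pb_rs, app_etaF f V hV W hpair] at h2
      have h3 := congrArg (rs ((Scheme.Modules.pullback (f k)).obj N) (hsw i j)) h2
      rw [rs_rs, rs_smul, rs_rs] at h3
      exact h3)
    (fun i j => (u_spec' (f k) W (L k) (e k) (he k) j i (hsw i j)).symm)
    hcov
  exact ⟨φ⟩

end Descent

section ClosedCover

/-- over an open contained in its range, a closed immersion into a reduced scheme induces bijections on
sections -/
theorem bijective_app_of_closedImmersion {Z X : Scheme.{u}} [IsReduced X] (c : Z ⟶ X)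
    [IsClosedImmersion c] (G : X.Opens) (hG : (G : Set X) ⊆ Set.range c) (W : X.Opens) (hW : W ≤ G) :
    Function.Bijective (c.app W) := by
  have : Surjective (c ∣_ G) := ⟨fun y => by
    obtain ⟨z, hz⟩ := hG y.2
    refine ⟨⟨z, show c z ∈ G by rw [hz]; exact y.2⟩, Subtype.ext ?_⟩
    rw [morphismRestrict_base_coe]
    exact hz⟩
  have : IsIso (c ∣_ G) := isIso_of_isClosedImmersion_of_surjective _
  exact bijective_app_of_isIso_morphismRestrict c G W hW

variable {n : ℕ} {X : Scheme.{u}} [IsReduced X] {Z : Fin n → Scheme.{u}}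
  (c : ∀ k, Z k ⟶ X) [∀ k, IsClosedImmersion (c k)]
  (hcov : ⋃ k, Set.range (c k) = Set.univ)

include hcov in
/-- sections over an open meeting no double intersection are families of sections on the pieces -/
theorem bijective_app_fam (G : X.Opens)
    (hG : ∀ z ∈ G, ∀ i j, z ∈ Set.range (c i) → z ∈ Set.range (c j) → i = j) :
    Function.Bijective (fun a : Γ(X, G) => fun k => (c k).app G a) := by
  have hS : ∀ k, IsClosed (Set.range (c k)) := fun k => (c k).isClosedEmbedding.isClosed_range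
  let Gk : Fin n → X.Opens := fun k =>
    ⟨(G : Set X) ∩ ⋂ j : {j : Fin n // j ≠ k}, (Set.range (c j.1))ᶜ,
      G.2.inter (isOpen_iInter_of_finite fun j => (hS j.1).isOpen_compl)⟩
  have hmem : ∀ k z, z ∈ Gk k ↔ z ∈ G ∧ ∀ j, j ≠ k → z ∉ Set.range (c j) := by
    intro k z
    change z ∈ (G : Set X) ∩ ⋂ j : {j : Fin n // j ≠ k}, (Set.range (c j.1))ᶜ ↔ _
    simp only [Set.mem_inter_iff, Set.mem_iInter, Set.mem_compl_iff, Subtype.forall]
    rfl
  have hGk_le : ∀ k, Gk k ≤ G := fun k z hz => ((hmem k z).1 hz).1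
  have hGk_sub : ∀ k, (Gk k : Set X) ⊆ Set.range (c k) := by
    intro k z hz
    have hz' := (hmem k z).1 hz
    have : z ∈ ⋃ k, Set.range (c k) := by rw [hcov]; trivial
    obtain ⟨j, hj⟩ := Set.mem_iUnion.mp this
    by_cases hjk : j = k
    · exact hjk ▸ hj
    · exact absurd hj (hz'.2 j hjk)
  have hGcov : G ≤ ⨆ k, Gk k := by
    intro z hz
    have : z ∈ ⋃ k, Set.range (c k) := by rw [hcov]; trivial
    obtain ⟨k, hk⟩ := Set.mem_iUnion.mp this
    refine Opens.mem_iSup.mpr ⟨k, (hmem k z).2 ⟨hz, fun j hjk hj => hjk (hG z hz j k hj hk)⟩⟩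
  have hdisj : ∀ i j, i ≠ j → Gk i ⊓ Gk j = ⊥ := by
    intro i j hij
    rw [eq_bot_iff]
    rintro z ⟨hzi, hzj⟩
    exact (((hmem j z).1 hzj).2 i hij (hGk_sub i hzi)).elim
  have hpre : ∀ k, c k ⁻¹ᵁ G ≤ c k ⁻¹ᵁ Gk k := by
    intro k z' hz'
    refine (hmem k (c k z')).2 ⟨hz', fun j hjk hj => hjk (hG _ hz' j k hj ⟨z', rfl⟩)⟩
  have hK2 : ∀ k, Function.Bijective ((c k).app (Gk k)) := fun k =>
    bijective_app_of_closedImmersion (c k) (Gk k) (hGk_sub k) (Gk k) le_rfl
  constructor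
  · intro a a' haa'
    apply rf_ext Gk G hGk_le hGcov
    intro k
    apply (hK2 k).1
    have := congrFun haa' k
    change (c k).app G a = (c k).app G a' at this
    rw [app_rf, app_rf, this]
  · intro b
    have key : ∀ k, ∃ ak : Γ(X, Gk k), (c k).app (Gk k) ak =
        rf ((c k).preimage_mono (hGk_le k)) (b k) := fun k => (hK2 k).2 _
    choose ak hak using key
    obtain ⟨a, ha⟩ := rf_glue Gk G hGk_le hGcov ak (fun i j => by
      rcases eq_or_ne i j with rfl | hij
      · rfl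
      · have : Subsingleton Γ(X, Gk i ⊓ Gk j) := by
          rw [hdisj i j hij]; infer_instance
        exact Subsingleton.elim _ _)
    refine ⟨a, funext fun k => ?_⟩
    change (c k).app G a = b k
    apply rf_injective_of_le ((c k).preimage_mono (hGk_le k)) (hpre k)
    rw [← app_rf (c k) (hGk_le k), ha k, hak k]

omit [IsReduced X] in
/-- any section over the empty open is a free generator -/
lemma isGen_of_eq_bot {Z : Scheme.{u}} (L : Z.Modules) (O : Z.Opens) (hO : O = ⊥) (e : Γ(L, O)) :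
    IsGen L O e := by
  intro W hW
  have hW' : W = ⊥ := by rw [eq_bot_iff]; exact hW.trans hO.le
  subst hW'
  have : Subsingleton Γ(L, (⊥ : Z.Opens)) := Module.subsingleton Γ(Z, (⊥ : Z.Opens)) _
  exact ⟨fun a b _ => Subsingleton.elim _ _, fun y => ⟨0, Subsingleton.elim _ _⟩⟩

/-- local generators of an invertible module on a closed subscheme, over preimages of opens of the ambient
scheme -/
lemma exists_open_gen {Z X : Scheme.{u}} (c : Z ⟶ X) [IsClosedImmersion c] (L : Z.Modules)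
    (hL : PicF.IsInvertible L) (x : X) :
    ∃ O : X.Opens, x ∈ O ∧ ∃ e : Γ(L, c ⁻¹ᵁ O), IsGen L (c ⁻¹ᵁ O) e := by
  by_cases hx : x ∈ Set.range c
  · obtain ⟨z, rfl⟩ := hx
    obtain ⟨V', hzV', s, hs⟩ := (isInvertible_iff_exists_isGen L).1 hL z
    obtain ⟨O', hO', hOV⟩ := c.isClosedEmbedding.isInducing.isOpen_iff.mp V'.2
    have hOeq : c ⁻¹ᵁ (⟨O', hO'⟩ : X.Opens) = V' := Opens.ext hOV
    refine ⟨⟨O', hO'⟩, ?_, _, hs.of_eq hOeq⟩
    have : z ∈ c ⁻¹ᵁ (⟨O', hO'⟩ : X.Opens) := by rw [hOeq]; exact hzV'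
    exact this
  · have hcl : IsClosed (Set.range c) := c.isClosedEmbedding.isClosed_range
    refine ⟨⟨(Set.range c)ᶜ, hcl.isOpen_compl⟩, hx, 0, isGen_of_eq_bot L _ ?_ _⟩
    rw [eq_bot_iff]
    intro z hz
    exact (hz ⟨z, rfl⟩).elim

include hcov in
/-- **Gluing invertible modules along a finite closed cover with discrete double intersections.** -/
theorem exists_glue_closedCover
    (hdisc : ∀ i j, i ≠ j → DiscreteTopology ↥(Set.range (c i) ∩ Set.range (c j)))
    (L : ∀ k, (Z k).Modules) (hL : ∀ k, PicF.IsInvertible (L k)) :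
    ∃ M : X.Modules, PicF.IsInvertible M ∧
      ∀ k, Nonempty ((Scheme.Modules.pullback (c k)).obj M ≅ L k) := by
  have hS : ∀ k, IsClosed (Set.range (c k)) := fun k => (c k).isClosedEmbedding.isClosed_range
  -- separating neighbourhoods
  have hsep0 : ∀ (x : X) (p : Fin n × Fin n), ∃ Q : X.Opens, x ∈ Q ∧
      ∀ z ∈ Q, p.1 ≠ p.2 → z ∈ Set.range (c p.1) → z ∈ Set.range (c p.2) → z = x := by
    intro x p
    by_cases hp : p.1 = p.2
    · exact ⟨⊤, trivial, fun z _ h => absurd hp h⟩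
    · by_cases hx : x ∈ Set.range (c p.1) ∩ Set.range (c p.2)
      · have := hdisc p.1 p.2 hp
        have hopen : IsOpen ({⟨x, hx⟩} : Set ↥(Set.range (c p.1) ∩ Set.range (c p.2))) :=
          isOpen_discrete _
        obtain ⟨O, hOo, hOeq⟩ := isOpen_induced_iff.mp hopen
        refine ⟨⟨O, hOo⟩, ?_, fun z hz _ h1 h2 => ?_⟩
        · have : (⟨x, hx⟩ : ↥(Set.range (c p.1) ∩ Set.range (c p.2))) ∈ Subtype.val ⁻¹' O := by
            rw [hOeq]; rfl
          exact this
        · have : (⟨z, ⟨h1, h2⟩⟩ : ↥(Set.range (c p.1) ∩ Set.range (c p.2))) ∈ Subtype.val ⁻¹' O := hz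
          rw [hOeq] at this
          exact congrArg Subtype.val this
      · exact ⟨⟨(Set.range (c p.1) ∩ Set.range (c p.2))ᶜ, ((hS _).inter (hS _)).isOpen_compl⟩, hx,
          fun z hz _ h1 h2 => (hz ⟨h1, h2⟩).elim⟩
  choose Q0 hxQ0 hQ0 using hsep0
  choose O hxO e0 he0 using fun (x : X) (k : Fin n) => exists_open_gen (c k) (L k) (hL k) x
  let W : X → X.Opens := fun x =>
    ⟨(⋂ k, (O x k : Set X)) ∩ ⋂ p, (Q0 x p : Set X),
      (isOpen_iInter_of_finite fun k => (O x k).2).inter (isOpen_iInter_of_finite fun p => (Q0 x p).2)⟩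
  have hxW : ∀ x, x ∈ W x := fun x =>
    ⟨Set.mem_iInter.mpr fun k => hxO x k, Set.mem_iInter.mpr fun p => hxQ0 x p⟩
  have hWO : ∀ x k, W x ≤ O x k := fun x k z hz => Set.mem_iInter.mp hz.1 k
  have hWQ : ∀ x p, W x ≤ Q0 x p := fun x p z hz => Set.mem_iInter.mp hz.2 p
  let V : X.Opens := ⟨(⋃ p : {p : Fin n × Fin n // p.1 ≠ p.2},
      Set.range (c p.1.1) ∩ Set.range (c p.1.2))ᶜ,
    (isClosed_iUnion_of_finite fun p => (hS _).inter (hS _)).isOpen_compl⟩
  have hV : ∀ G : X.Opens, G ≤ V →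
      Function.Bijective (fun a : Γ(X, G) => fun k => (c k).app G a) := by
    intro G hG
    refine bijective_app_fam c hcov G (fun z hz i j hi hj => ?_)
    by_contra hij
    exact hG hz (Set.mem_iUnion.mpr ⟨⟨(i, j), hij⟩, hi, hj⟩)
  have hpair : ∀ x x' : X, x ≠ x' → W x ⊓ W x' ≤ V := by
    intro x x' hne z hz hzT
    obtain ⟨p, hp1, hp2⟩ := Set.mem_iUnion.mp hzT
    have h1 := hQ0 x p.1 z (hWQ x p.1 hz.1) p.2 hp1 hp2
    have h2 := hQ0 x' p.1 z (hWQ x' p.1 hz.2) p.2 hp1 hp2
    exact hne (h1.symm.trans h2)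
  have hW : ⨆ x, W x = ⊤ := by
    rw [eq_top_iff]
    intro x _
    exact Opens.mem_iSup.mpr ⟨x, hxW x⟩
  exact exists_descent_of_atlas_fam c V hV W hpair L
    (fun k x => rs (L k) ((c k).preimage_mono (hWO x k)) (e0 x k))
    (fun k x => (he0 x k).mono ((c k).preimage_mono (hWO x k))) hW

end ClosedCover

end Groth.Agent.Lib.ClosedCoverPic42
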