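import Mathlib.Algebra.Homology.DerivedCategory.Ext.MapBijective

/-!
# A natural comparison of `Ext` groups along an exact functor preserving injectives (helper23)

`F : C ⥤ D` exact additive, `u : X' ⟶ F X`.  `theta F u Y n : Ext X Y n →+ Ext X' (F Y) n` applies
`F` and precomposes with `u`.  It is natural in `Y`, compatible with connecting maps, and if it is
bijective in degree `0` for all `Y` and `F` preserves injectives, it is bijective in all degrees.
-/

set_option autoImplicit false
universe w w' v v' u u'

namespace Groth.Agent.Lib.ExtCompare23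

open CategoryTheory Limits Abelian

variable {C : Type u} [Category.{v} C] [Abelian C]
variable {D : Type u'} [Category.{v'} D] [Abelian D]
variable (F : C ⥤ D) [F.Additive] [PreservesFiniteLimits F] [PreservesFiniteColimits F]
variable [HasExt.{w} C] [HasExt.{w'} D]

/-- The comparison map: apply the exact functor `F`, then precompose with `u`. -/
noncomputable def theta {X : C} {X' : D} (u : X' ⟶ F.obj X) (Y : C) (n : ℕ) :
    Ext.{w} X Y n →+ Ext.{w'} X' (F.obj Y) n :=
  ((Ext.mk₀ u).precomp (F.obj Y) (zero_add n)).comp (F.mapExtAddHom X Y n)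

lemma theta_apply {X : C} {X' : D} (u : X' ⟶ F.obj X) (Y : C) (n : ℕ) (x : Ext.{w} X Y n) :
    theta F u Y n x = (Ext.mk₀ u).comp (x.mapExactFunctor F) (zero_add n) := rfl

lemma theta_comp_mk₀ {X : C} {X' : D} (u : X' ⟶ F.obj X) {Y Y' : C} (g : Y ⟶ Y') (n : ℕ)
    (x : Ext.{w} X Y n) :
    theta F u Y' n (x.comp (Ext.mk₀ g) (add_zero n)) =
      (theta F u Y n x).comp (Ext.mk₀ (F.map g)) (add_zero n) := by
  rw [theta_apply, theta_apply, Ext.mapExactFunctor_comp, Ext.mapExactFunctor_mk₀, Ext.comp_assoc]
  omega

lemma theta_comp_extClass {X : C} {X' : D} (u : X' ⟶ F.obj X) {S : ShortComplex C}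
    (hS : S.ShortExact) (n : ℕ) (x : Ext.{w} X S.X₃ n) :
    theta F u S.X₁ (n + 1) (x.comp hS.extClass rfl) =
      (theta F u S.X₃ n x).comp (hS.map_of_exact F).extClass rfl := by
  rw [theta_apply, theta_apply, Ext.mapExactFunctor_comp, Ext.mapExactFunctor_extClass]
  exact (Ext.comp_assoc (Ext.mk₀ u) (x.mapExactFunctor F) (hS.map_of_exact F).extClass
    (zero_add n) rfl (by omega)).symm

attribute [local instance] Ext.subsingleton_of_injective in
theorem theta_bijective [EnoughInjectives C] [F.PreservesInjectiveObjects] {X : C} {X' : D}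
    (u : X' ⟶ F.obj X) (h0 : ∀ Y : C, Function.Bijective (theta F u Y 0)) (n : ℕ) :
    ∀ Y : C, Function.Bijective (theta F u Y n) := by
  induction n with
  | zero => exact h0
  | succ n hn =>
    intro Y
    let I : InjectivePresentation Y := Classical.arbitrary _
    let S := ShortComplex.mk _ _ (cokernel.condition I.f)
    have : Injective S.X₂ := I.injective
    have : Injective (S.map F).X₂ := Functor.PreservesInjectiveObjects.injective_obj I.injective
    have hS : S.ShortExact := { exact := ShortComplex.exact_cokernel I.f }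
    exact AddMonoidHom.bijective_of_surjective_of_bijective_of_right_exact _ _ _ _
      (theta F u S.X₂ n) (theta F u S.X₃ n) (theta F u S.X₁ (n + 1))
      (by ext x; exact (theta_comp_mk₀ F u S.g n x).symm)
      (by ext x; exact (theta_comp_extClass F u hS n x).symm)
      ((ShortComplex.ab_exact_iff_function_exact _).mp
        (Ext.covariant_sequence_exact₃' X hS n (n + 1) rfl))
      ((ShortComplex.ab_exact_iff_function_exact _).mp
        (Ext.covariant_sequence_exact₃' X' (hS.map_of_exact F) n (n + 1) rfl))
      (hn _).surjective (hn _)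
      (fun x₁ ↦ Ext.covariant_sequence_exact₁ _ hS x₁ (by subsingleton) rfl)
      (fun y₁ ↦ Ext.covariant_sequence_exact₁ _ (hS.map_of_exact F) y₁ (by subsingleton) rfl)

end Groth.Agent.Lib.ExtCompare23
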