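import Groth.Prelude.Def_CohPull
import Groth.Agent.Lib.ExtCompare23
import Mathlib.Topology.Sheaves.LocallySurjective
import Mathlib.Topology.Sheaves.Flasque

/-!
# Cohomology and closed embeddings (helper23)
-/

set_option autoImplicit false
universe u

open CategoryTheory CategoryTheory.Limits TopologicalSpace Opposite

namespace Groth.Agent.Lib.ClosedEmbCoh23

variable {X Y : TopCat.{u}}

/-- The direct image of abelian sheaves along a closed embedding preserves epimorphisms. -/
theorem epi_push_map (f : X ⟶ Y) (hf : Topology.IsClosedEmbedding f) {F G : CohTop.Ab X}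
    (φ : F ⟶ G) [hφe : Epi φ] : Epi ((CohTop.push f).map φ) := by
  have hφ : TopCat.Presheaf.IsLocallySurjective φ.hom :=
    (TopCat.Sheaf.isLocallySurjective_iff_epi (X := X) (C := AddCommGrpCat.{u}) (F := F) (G := G) φ).mpr
      hφe
  rw [TopCat.Presheaf.isLocallySurjective_iff] at hφ
  refine (TopCat.Sheaf.isLocallySurjective_iff_epi (X := Y) (C := AddCommGrpCat.{u})
    (F := (CohTop.push f).obj F) (G := (CohTop.push f).obj G) ((CohTop.push f).map φ)).mp ?_
  rw [TopCat.Presheaf.isLocallySurjective_iff]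
  intro U t y hy
  by_cases hyr : y ∈ Set.range f
  · obtain ⟨x, rfl⟩ := hyr
    obtain ⟨W, hWU, ⟨s, hs⟩, hxW⟩ := hφ ((Opens.map f).obj U) t x hy
    obtain ⟨V₀, hV₀open, hV₀⟩ := hf.isInducing.isOpen_iff.mp W.isOpen
    have hVW : (Opens.map f).obj ((⟨V₀, hV₀open⟩ : Opens Y) ⊓ U) = W := by
      ext z
      constructor
      · rintro ⟨h1, -⟩
        have : z ∈ f ⁻¹' V₀ := h1
        rw [hV₀] at this
        exact this
      · intro hz
        refine ⟨?_, hWU hz⟩
        have : z ∈ (W : Set X) := hz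
        rw [← hV₀] at this
        exact this
    subst hVW
    refine ⟨(⟨V₀, hV₀open⟩ : Opens Y) ⊓ U, inf_le_right, ⟨s, hs⟩, ?_⟩
    exact hxW
  · have hopen : IsOpen (Set.range f)ᶜ := hf.isClosed_range.isOpen_compl
    refine ⟨(⟨(Set.range f)ᶜ, hopen⟩ : Opens Y) ⊓ U, inf_le_right, ⟨0, ?_⟩, ⟨hyr, hy⟩⟩
    have hbot : (Opens.map f).obj ((⟨(Set.range f)ᶜ, hopen⟩ : Opens Y) ⊓ U) = ⊥ := by
      ext z
      simp only [Opens.map_coe, Opens.coe_inf, Opens.coe_mk, Set.preimage_inter, Set.mem_inter_iff,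
        Set.mem_preimage, Set.mem_compl_iff, Set.mem_range, exists_apply_eq_apply, not_true_eq_false,
        false_and, Opens.coe_bot, Set.mem_empty_iff_false]
    have hsub : Subsingleton (G.obj.obj (op ((Opens.map f).obj
        ((⟨(Set.range f)ᶜ, hopen⟩ : Opens Y) ⊓ U)))) :=
      AddCommGrpCat.subsingleton_of_isZero (TopCat.Sheaf.isTerminalOfEqEmpty G hbot).isZero
    exact @Subsingleton.elim _ hsub _ _

/-- An additive left exact functor between abelian categories which preserves epimorphisms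
preserves finite colimits. -/
theorem preservesFiniteColimits_of_epi {C D : Type*} [Category C] [Abelian C] [Category D] [Abelian D]
    (F : C ⥤ D) [F.Additive] [PreservesFiniteLimits F]
    (h : ∀ {A B : C} (g : A ⟶ B), Epi g → Epi (F.map g)) : PreservesFiniteColimits F := by
  rw [Functor.preservesFiniteColimits_iff_forall_exact_map_and_epi]
  intro S hS
  have := hS.epi_g
  exact ⟨((Functor.preservesFiniteLimits_iff_forall_exact_map_and_mono F).1 inferInstance S hS).1,
    h S.g inferInstance⟩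

theorem preservesFiniteLimits_push (f : X ⟶ Y) : PreservesFiniteLimits (CohTop.push f) := by
  have : PreservesLimitsOfSize.{0, 0} (CohTop.push f) :=
    (CohPull.invPushAdj f).rightAdjoint_preservesLimits
  exact PreservesLimitsOfSize.preservesFiniteLimits _

theorem preservesFiniteColimits_push (f : X ⟶ Y) (hf : Topology.IsClosedEmbedding f) :
    PreservesFiniteColimits (CohTop.push f) := by
  have := preservesFiniteLimits_push f
  exact preservesFiniteColimits_of_epi (CohTop.push f) (fun g hg => epi_push_map f hf g)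

theorem preservesInjectiveObjects_push (f : X ⟶ Y) : (CohTop.push f).PreservesInjectiveObjects :=
  Functor.preservesInjectiveObjects_of_adjunction_of_preservesMonomorphisms (CohPull.invPushAdj f)

/-- The canonical morphism `ℤ_Y ⟶ f_* ℤ_X` (the section `1`). -/
noncomputable def unitZ (f : X ⟶ Y) :
    CohTop.const Y (ULift.{u} ℤ) ⟶ (CohTop.push f).obj (CohTop.const X (ULift.{u} ℤ)) :=
  ((CohPull.adjZ Y).homEquiv _ _).symm (CohPull.oneSec X)

theorem homEquiv_unitZ (f : X ⟶ Y) :
    (CohPull.adjZ Y).homEquiv _ _ (unitZ f) = CohPull.oneSec X :=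
  Equiv.apply_symm_apply _ _

theorem homEquiv_unitZ_comp (f : X ⟶ Y) {N : CohTop.Ab X}
    (g : CohTop.const X (ULift.{u} ℤ) ⟶ N) :
    (CohPull.adjZ Y).homEquiv _ _ (unitZ f ≫ (CohTop.push f).map g) =
      (CohPull.adjZ X).homEquiv _ _ g := by
  have h1 := Adjunction.homEquiv_naturality_right (CohPull.adjZ Y) (unitZ f) ((CohTop.push f).map g)
  have h2 := homEquiv_unitZ f
  have h3 := Adjunction.homEquiv_naturality_right (CohPull.adjZ X)
    (𝟙 (CohTop.const X (ULift.{u} ℤ))) g
  rw [Category.id_comp] at h3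
  exact h1.trans ((congrArg (fun t => t ≫ ((sheafSections (Opens.grothendieckTopology Y)
    AddCommGrpCat.{u}).obj (op ⊤)).map ((CohTop.push f).map g)) h2).trans h3.symm)

/-- `g ↦ unitZ f ≫ f_* g` is a bijection `Hom(ℤ_X, N) → Hom(ℤ_Y, f_* N)`. -/
theorem bijective_unitZ_comp (f : X ⟶ Y) (N : CohTop.Ab X) :
    Function.Bijective (fun g : CohTop.const X (ULift.{u} ℤ) ⟶ N =>
      unitZ f ≫ (CohTop.push f).map g) := by
  constructor
  · intro g1 g2 h
    have h' := congrArg ((CohPull.adjZ Y).homEquiv _ _) h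
    simp only [homEquiv_unitZ_comp] at h'
    exact ((CohPull.adjZ X).homEquiv _ _).injective h'
  · intro k
    refine ⟨((CohPull.adjZ X).homEquiv _ _).symm ((CohPull.adjZ Y).homEquiv _ _ k), ?_⟩
    apply ((CohPull.adjZ Y).homEquiv _ _).injective
    exact (homEquiv_unitZ_comp f _).trans (Equiv.apply_symm_apply _ _)

section Cmp

open Groth.Agent.Lib.ExtCompare23 Abelian

variable (f : X ⟶ Y) [PreservesFiniteLimits (CohTop.push f)] [PreservesFiniteColimits (CohTop.push f)]

/-- The comparison map `H^n(X, N) → H^n(Y, f_* N)`: apply the exact functor `f_*` to an `Ext` class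
and precompose with `ℤ_Y ⟶ f_* ℤ_X`. -/
noncomputable def cmp (N : CohTop.Ab X) (n : ℕ) :
    Sheaf.H.{u} N n →+ Sheaf.H.{u} ((CohTop.push f).obj N) n :=
  theta (CohTop.push f) (unitZ f) N n

theorem cmp_natural {N N' : CohTop.Ab X} (g : N ⟶ N') (n : ℕ) (x : Sheaf.H.{u} N n) :
    cmp f N' n (Sheaf.H.map g n x) = Sheaf.H.map ((CohTop.push f).map g) n (cmp f N n x) :=
  theta_comp_mk₀ (CohTop.push f) (unitZ f) g n x

theorem cmp_zero_bijective (N : CohTop.Ab X) : Function.Bijective (cmp f N 0) := by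
  have h : ∀ g : CohTop.const X (ULift.{u} ℤ) ⟶ N,
      cmp f N 0 (Ext.mk₀ g) = Ext.mk₀ (unitZ f ≫ (CohTop.push f).map g) := by
    intro g
    rw [cmp, theta_apply, Ext.mapExactFunctor_mk₀, Ext.mk₀_comp_mk₀]
  constructor
  · intro x1 x2 hx
    obtain ⟨g1, rfl⟩ := (Ext.mk₀_bijective _ _).2 x1
    obtain ⟨g2, rfl⟩ := (Ext.mk₀_bijective _ _).2 x2
    rw [h, h] at hx
    rw [(bijective_unitZ_comp f N).1 ((Ext.mk₀_bijective _ _).1 hx)]
  · intro y
    obtain ⟨k, rfl⟩ := (Ext.mk₀_bijective _ _).2 y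
    obtain ⟨g, hg⟩ := (bijective_unitZ_comp f N).2 k
    exact ⟨Ext.mk₀ g, by rw [h]; exact congrArg Ext.mk₀ hg⟩

theorem cmp_bijective [(CohTop.push f).PreservesInjectiveObjects] (N : CohTop.Ab X) (n : ℕ) :
    Function.Bijective (cmp f N n) :=
  theta_bijective (CohTop.push f) (unitZ f) (fun N' => cmp_zero_bijective f N') n N

end Cmp

end Groth.Agent.Lib.ClosedEmbCoh23
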