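import Groth.Agent.Lib.ClosedEmbCoh23
import Groth.Prelude.Def_Coh
import Groth.Agent.Lib.ModStalk
import Mathlib.AlgebraicGeometry.Morphisms.ClosedImmersion
import Mathlib.AlgebraicGeometry.Modules.Sheaf

/-!
# Cohomology of `O`-modules along a closed immersion of schemes (helper23)

For a closed immersion `i : Z ⟶ X`: the natural comparison map
`cmpMod i N n : H^n(Z, N) → H^n(X, i_* N)` is bijective (`cmpMod_bijective`) and natural in `N`
(`cmpMod_natural`); `i_*` on `O`-modules preserves epimorphisms and finite colimits.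
-/

set_option autoImplicit false
universe u

open CategoryTheory CategoryTheory.Limits TopologicalSpace Opposite AlgebraicGeometry

namespace Groth.Agent.Lib.ClosedImmCoh23

open Groth.Agent.Lib.ClosedEmbCoh23

variable {Z X : Scheme.{u}} (i : Z ⟶ X) [IsClosedImmersion i]

instance : PreservesFiniteLimits (CohTop.push i.base) := preservesFiniteLimits_push _

instance : PreservesFiniteColimits (CohTop.push i.base) :=
  preservesFiniteColimits_push _ i.isClosedEmbedding

instance : (CohTop.push i.base).PreservesInjectiveObjects := preservesInjectiveObjects_push _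

/-- The comparison map `H^n(Z, N) → H^n(X, i_* N)` for a closed immersion `i`. -/
noncomputable def cmpMod (N : Z.Modules) (n : ℕ) :
    Coh.HH Z N n →+ Coh.HH X ((Scheme.Modules.pushforward i).obj N) n :=
  cmp i.base (Coh.toAb N) n

theorem cmpMod_natural {N N' : Z.Modules} (φ : N ⟶ N') (n : ℕ) (x : Coh.HH Z N n) :
    cmpMod i N' n (Sheaf.H.map ((SheafOfModules.toSheaf Z.ringCatSheaf).map φ) n x) =
      Sheaf.H.map ((SheafOfModules.toSheaf X.ringCatSheaf).map
        ((Scheme.Modules.pushforward i).map φ)) n (cmpMod i N n x) :=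
  cmp_natural i.base ((SheafOfModules.toSheaf Z.ringCatSheaf).map φ) n x

theorem cmpMod_bijective (N : Z.Modules) (n : ℕ) : Function.Bijective (cmpMod i N n) :=
  cmp_bijective i.base (Coh.toAb N) n

/-- The comparison as an additive equivalence. -/
noncomputable def cmpEquiv (N : Z.Modules) (n : ℕ) :
    Coh.HH Z N n ≃+ Coh.HH X ((Scheme.Modules.pushforward i).obj N) n :=
  AddEquiv.ofBijective (cmpMod i N n) (cmpMod_bijective i N n)

theorem epi_pushforward_map {N N' : Z.Modules} (φ : N ⟶ N') [hφ : Epi φ] :
    Epi ((Scheme.Modules.pushforward i).map φ) := by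
  have hφ' : @Epi (SheafOfModules.{u} Z.ringCatSheaf) _ N N' φ := hφ
  have h1 : Epi ((SheafOfModules.toSheaf Z.ringCatSheaf).map φ) :=
    Groth.Agent.Lib.ModStalk.epi_toSheaf_map Z.ringCatSheaf φ
  have h2 : Epi ((CohTop.push i.base).map ((SheafOfModules.toSheaf Z.ringCatSheaf).map φ)) :=
    epi_push_map i.base i.isClosedEmbedding _
  exact (SheafOfModules.toSheaf X.ringCatSheaf).epi_of_epi_map h2

instance : PreservesFiniteColimits (Scheme.Modules.pushforward i) :=
  preservesFiniteColimits_of_epi _ (fun g _ => epi_pushforward_map i g)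

end Groth.Agent.Lib.ClosedImmCoh23
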