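import Mathlib.AlgebraicGeometry.Modules.Sheaf
import Groth.Agent.Lib.ModStalkLin
import Groth.Agent.Lib.H4ModHom

/-!
# Skyscraper `O_X`-modules and the stalk/skyscraper adjunction (helper81)

For a scheme `X` and a point `x`:
* `stalkMod x : X.Modules ⥤ ModuleCat (X.presheaf.stalk x)` (objects `M.presheaf.stalk x`, maps helper63's `stalkLin`);
* `skyObj x N : X.Modules` for an `O_{X,x}`-module `N`: sections over `U` are the functions
  `PLift (x ∈ U) → N` (so `N` if `x ∈ U`, zero otherwise; no if-then-else), with `toFn`/`ofFn`,
  `skyObj_smul`, `skyObj_map`; `ev`/`evLin : (skyObj x N)_x → N` with `ev_germ`;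
* `skyMod x : ModuleCat (X.presheaf.stalk x) ⥤ X.Modules`, `skyMap`;
* `stalkSkyAdj x : stalkMod x ⊣ skyMod x` (unit: section ↦ germ, counit: `evLin`).
-/

set_option autoImplicit false
universe u
open CategoryTheory CategoryTheory.Limits AlgebraicGeometry TopologicalSpace Opposite

namespace Groth.Agent.Lib.SkyMod81

variable {X : Scheme.{u}} (x : X)

section Sky

variable (N : Type u) [AddCommGroup N] [Module (X.presheaf.stalk x) N]

/-- Sections of the skyscraper over `U`. -/
abbrev SkySec (U : Opens X) : Type u := PLift (x ∈ U) → N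

/-- The germ at `x` of a function on `U ∋ x`, with the types the skyscraper uses. -/
noncomputable def gm (U : Opens X) (h : PLift (x ∈ U)) : Γ(X, U) →+* X.presheaf.stalk x :=
  (X.presheaf.germ U x h.down).hom

theorem gm_res {U V : Opens X} (i : V ≤ U) (h : PLift (x ∈ V)) (r : Γ(X, U)) :
    gm x V h (X.presheaf.map (homOfLE i).op r) = gm x U ⟨i h.down⟩ r :=
  TopCat.Presheaf.germ_res_apply X.presheaf (homOfLE i) x h.down r

/-- The module structure on the sections of the skyscraper. -/
noncomputable instance skyModule (U : Opens X) : Module Γ(X, U) (SkySec x N U) where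
  smul r s := fun h => gm x U h r • s h
  one_smul s := by
    funext h
    change gm x U h 1 • s h = s h
    rw [map_one, one_smul]
  mul_smul r r' s := by
    funext h
    change gm x U h (r * r') • s h = gm x U h r • (gm x U h r' • s h)
    rw [map_mul, mul_smul]
  smul_zero r := by
    funext h
    exact smul_zero _
  smul_add r s s' := by
    funext h
    exact smul_add _ _ _
  add_smul r r' s := by
    funext h
    change gm x U h (r + r') • s h = gm x U h r • s h + gm x U h r' • s h
    rw [map_add, add_smul]
  zero_smul s := by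
    funext h
    change gm x U h 0 • s h = 0
    rw [map_zero, zero_smul]

theorem sky_smul_apply (U : Opens X) (r : Γ(X, U)) (s : SkySec x N U) (h : PLift (x ∈ U)) :
    (r • s) h = gm x U h r • s h := rfl

/-- The abelian presheaf underlying the skyscraper module. -/
noncomputable def skyAb : (Opens X)ᵒᵖ ⥤ Ab.{u} where
  obj U := AddCommGrpCat.of (SkySec x N U.unop)
  map {U V} f := AddCommGrpCat.ofHom
    { toFun := fun s h => s ⟨f.unop.le h.down⟩
      map_zero' := rfl
      map_add' := fun _ _ => rfl }
  map_id _ := rfl
  map_comp _ _ := rfl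

noncomputable instance (U : (Opens X)ᵒᵖ) :
    Module (X.ringCatSheaf.obj.obj U) ((skyAb x N).obj U) :=
  skyModule x N U.unop

/-- The skyscraper presheaf of modules. -/
noncomputable def skyPre : PresheafOfModules.{u} X.ringCatSheaf.obj :=
  PresheafOfModules.ofPresheaf (skyAb x N) (by
    intro U V f r s
    funext h
    exact congrArg (· • s ⟨f.unop.le h.down⟩) (gm_res x f.unop.le h r).symm)

end Sky

end Groth.Agent.Lib.SkyMod81

namespace Groth.Agent.Lib.SkyMod81

variable {X : Scheme.{u}} (x : X) (N : Type u) [AddCommGroup N] [Module (X.presheaf.stalk x) N]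

theorem skyAb_map_apply {U V : (Opens X)ᵒᵖ} (f : U ⟶ V) (s : SkySec x N U.unop)
    (h : PLift (x ∈ V.unop)) :
    ((skyAb x N).map f).hom s h = s ⟨f.unop.le h.down⟩ := rfl

theorem isSheaf_skyAb : TopCat.Presheaf.IsSheaf (skyAb x N) := by
  rw [TopCat.Presheaf.isSheaf_iff_isSheafUniqueGluing]
  intro ι U sf hsf
  -- the glued section
  have key : ∀ (h : PLift (x ∈ iSup U)), ∃ i, x ∈ U i := fun h => by
    have := h.down
    simpa [Opens.mem_iSup] using this
  let s : SkySec x N (iSup U) := fun h => sf (key h).choose ⟨(key h).choose_spec⟩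
  have hind : ∀ (i j : ι) (hi : x ∈ U i) (hj : x ∈ U j), sf i ⟨hi⟩ = sf j ⟨hj⟩ := by
    intro i j hi hj
    have := congrFun (hsf i j) ⟨(⟨hi, hj⟩ : x ∈ U i ⊓ U j)⟩
    exact this
  refine ⟨s, ?_, ?_⟩
  · intro i
    funext h
    exact hind _ _ _ _
  · intro t ht
    funext h
    have := congrFun (ht (key h).choose) ⟨(key h).choose_spec⟩
    exact this

end Groth.Agent.Lib.SkyMod81

namespace Groth.Agent.Lib.SkyMod81

open Groth.Agent.Lib.ModStalkLin

variable {X : Scheme.{u}} (x : X)

section Obj

variable (N : Type u) [AddCommGroup N] [Module (X.presheaf.stalk x) N]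

/-- The skyscraper `O_X`-module at `x` with stalk `N`. -/
noncomputable def skyObj : X.Modules :=
  (⟨skyPre x N, isSheaf_skyAb x N⟩ : SheafOfModules.{u} X.ringCatSheaf)

theorem skyObj_presheaf : (skyObj x N).presheaf = skyAb x N := rfl

/-- Sections of the skyscraper are functions. -/
noncomputable def toFn (U : Opens X) (s : Γ(skyObj x N, U)) : SkySec x N U := s

/-- Functions are sections of the skyscraper. -/
noncomputable def ofFn (U : Opens X) (s : SkySec x N U) : Γ(skyObj x N, U) := s

theorem skyObj_smul (U : Opens X) (r : Γ(X, U)) (s : Γ(skyObj x N, U)) (h : PLift (x ∈ U)) :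
    toFn x N U (r • s) h = gm x U h r • toFn x N U s h := rfl

theorem skyObj_map {U V : Opens X} (i : V ≤ U) (s : Γ(skyObj x N, U)) (h : PLift (x ∈ V)) :
    toFn x N V ((skyObj x N).presheaf.map (homOfLE i).op s) h = toFn x N U s ⟨i h.down⟩ := rfl

/-- Evaluation of germs of sections of the skyscraper. -/
noncomputable def ev : (skyObj x N).presheaf.stalk x →+ N :=
  (colimit.desc ((OpenNhds.inclusion x).op ⋙ (skyObj x N).presheaf)
    { pt := AddCommGrpCat.of N
      ι := { app := fun U => AddCommGrpCat.ofHom
              { toFun := fun s => toFn x N U.unop.1 s ⟨U.unop.2⟩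
                map_zero' := rfl
                map_add' := fun _ _ => rfl }
             naturality := fun U V f => rfl } }).hom

theorem ev_germ (U : Opens X) (h : x ∈ U) (s : Γ(skyObj x N, U)) :
    ev x N ((skyObj x N).presheaf.germ U x h s) = toFn x N U s ⟨h⟩ := by
  have := colimit.ι_desc
    { pt := AddCommGrpCat.of N
      ι := { app := fun U => AddCommGrpCat.ofHom
              { toFun := fun s => toFn x N U.unop.1 s ⟨U.unop.2⟩
                map_zero' := rfl
                map_add' := fun _ _ => rfl }
             naturality := fun U V f => rfl } : Cocone ((OpenNhds.inclusion x).op ⋙ (skyObj x N).presheaf) }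
    (op ⟨U, h⟩)
  exact ConcreteCategory.congr_hom this s

theorem ev_smul (r : X.presheaf.stalk x) (m : (skyObj x N).presheaf.stalk x) :
    ev x N (r • m) = r • ev x N m := by
  obtain ⟨U, hxU, r', rfl⟩ := TopCat.Presheaf.exists_germ_eq X.presheaf r
  obtain ⟨V, hxV, m', rfl⟩ := TopCat.Presheaf.exists_germ_eq (skyObj x N).presheaf m
  have hxW : x ∈ U ⊓ V := ⟨hxU, hxV⟩
  rw [← TopCat.Presheaf.germ_res_apply X.presheaf (homOfLE (inf_le_left : U ⊓ V ≤ U)) x hxW r',
    ← TopCat.Presheaf.germ_res_apply (skyObj x N).presheaf (homOfLE (inf_le_right : U ⊓ V ≤ V)) x hxW m',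
    ← Groth.Agent.Lib.QCohStalk.germ_smul, ev_germ, ev_germ, skyObj_smul]
  rfl

/-- Evaluation as a linear map. -/
noncomputable def evLin : (skyObj x N).presheaf.stalk x →ₗ[X.presheaf.stalk x] N where
  toFun := ev x N
  map_add' := map_add _
  map_smul' := ev_smul x N

end Obj

end Groth.Agent.Lib.SkyMod81

namespace Groth.Agent.Lib.SkyMod81

open Groth.Agent.Lib.ModStalkLin Groth.Agent.Lib.H4ModHom

variable {X : Scheme.{u}} (x : X)

section Functors

/-- The stalk functor with values in modules over the local ring. -/
noncomputable def stalkMod : X.Modules ⥤ ModuleCat.{u} (X.presheaf.stalk x) where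
  obj M := ModuleCat.of (X.presheaf.stalk x) (M.presheaf.stalk x)
  map φ := ModuleCat.ofHom (stalkLin φ x)
  map_id M := by
    rw [stalkLin_id]; rfl
  map_comp φ ψ := by
    rw [stalkLin_comp]; rfl

theorem stalkMod_map_apply {M M' : X.Modules} (φ : M ⟶ M') (m : M.presheaf.stalk x) :
    ((stalkMod x).map φ).hom m = stalkLin φ x m := rfl

variable {N N' : Type u} [AddCommGroup N] [Module (X.presheaf.stalk x) N]
  [AddCommGroup N'] [Module (X.presheaf.stalk x) N']

/-- Functoriality of the skyscraper. -/
noncomputable def skyMap (g : N →ₗ[X.presheaf.stalk x] N') : skyObj x N ⟶ skyObj x N' :=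
  homOfSections (fun U s => ofFn x N' U (fun h => g (toFn x N U s h)))
    (fun U a b => by
      funext h
      exact map_add g _ _)
    (fun U r a => by
      funext h
      change g (gm x U h r • toFn x N U a h) = gm x U h r • g (toFn x N U a h)
      rw [map_smul])
    (fun {U V} i a => rfl)

theorem skyMap_app (g : N →ₗ[X.presheaf.stalk x] N') (U : Opens X) (s : Γ(skyObj x N, U))
    (h : PLift (x ∈ U)) :
    toFn x N' U ((skyMap x g).app U s) h = g (toFn x N U s h) := rfl

end Functors

/-- The skyscraper functor. -/
noncomputable def skyMod : ModuleCat.{u} (X.presheaf.stalk x) ⥤ X.Modules where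
  obj N := skyObj x N
  map g := skyMap x g.hom
  map_id N := by
    apply Scheme.Modules.hom_ext; intro U; ext s; rfl
  map_comp g g' := by
    apply Scheme.Modules.hom_ext; intro U; ext s; rfl

end Groth.Agent.Lib.SkyMod81

namespace Groth.Agent.Lib.SkyMod81

open Groth.Agent.Lib.ModStalkLin Groth.Agent.Lib.H4ModHom

variable {X : Scheme.{u}} (x : X)

/-- The unit of the stalk/skyscraper adjunction: a section goes to its germ. -/
noncomputable def unitApp (M : X.Modules) : M ⟶ skyObj x (M.presheaf.stalk x) :=
  homOfSections (fun U s => ofFn x _ U (fun h => M.presheaf.germ U x h.down s))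
    (fun U a b => by
      funext h
      exact map_add _ _ _)
    (fun U r a => by
      funext h
      exact Groth.Agent.Lib.QCohStalk.germ_smul M U x h.down r a)
    (fun {U V} i a => by
      funext h
      exact (TopCat.Presheaf.germ_res_apply M.presheaf (homOfLE i) x h.down a).symm)

theorem unitApp_app (M : X.Modules) (U : Opens X) (s : Γ(M, U)) (h : PLift (x ∈ U)) :
    toFn x _ U ((unitApp x M).app U s) h = M.presheaf.germ U x h.down s := rfl

/-- The stalk/skyscraper adjunction for `O_X`-modules. -/
noncomputable def stalkSkyAdj : stalkMod x ⊣ skyMod x :=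
  Adjunction.mkOfUnitCounit
    { unit :=
        { app := fun M => unitApp x M
          naturality := fun M M' φ => by
            apply Scheme.Modules.hom_ext; intro U; ext s
            funext h
            exact (stalkLin_germ φ x U h.down s).symm }
      counit :=
        { app := fun N => ModuleCat.ofHom (evLin x N)
          naturality := fun N N' g => by
            ext m
            obtain ⟨U, hxU, s, rfl⟩ := TopCat.Presheaf.exists_germ_eq (skyObj x N).presheaf m
            change ev x N' (stalkLin (skyMap x g.hom) x ((skyObj x N).presheaf.germ U x hxU s)) =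
              g.hom (ev x N ((skyObj x N).presheaf.germ U x hxU s))
            rw [stalkLin_germ, ev_germ, ev_germ]
            rfl }
      left_triangle := by
        ext M m
        obtain ⟨U, hxU, s, rfl⟩ := TopCat.Presheaf.exists_germ_eq M.presheaf m
        change ev x _ (stalkLin (unitApp x M) x (M.presheaf.germ U x hxU s)) = M.presheaf.germ U x hxU s
        rw [stalkLin_germ, ev_germ]
        rfl
      right_triangle := by
        ext N U s
        funext h
        exact ev_germ x N U h.down s }

end Groth.Agent.Lib.SkyMod81
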