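import Mathlib.AlgebraicGeometry.Modules.Sheaf
import Mathlib.AlgebraicGeometry.Morphisms.Flat
import Mathlib.Algebra.Category.ModuleCat.ChangeOfRings
import Mathlib.RingTheory.Flat.FaithfullyFlat.Basic
import Mathlib.RingTheory.Flat.FaithfullyFlat.Algebra
import Mathlib.RingTheory.RingHom.Flat
import Mathlib.CategoryTheory.Adjunction.Mates
import Mathlib.Algebra.Homology.ShortComplex.ExactFunctor
import Mathlib.CategoryTheory.Adjunction.Additive
import Groth.Agent.Lib.SkyMod81
import Groth.Agent.Lib.ModStalkIso

/-!
# Stalk of the pullback of an ARBITRARY `O`-module; exactness of `f^*` for flat `f` (helper81)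

For `f : X ⟶ Y` and `x : X` (no quasi-coherence anywhere):
* `pushSkyIso f x : skyMod x ⋙ pushforward f ≅ restrictScalars (f.stalkMap x) ⋙ skyMod (f x)`;
* `pullbackStalkIso f x : pullback f ⋙ stalkMod x ≅ stalkMod (f x) ⋙ extendScalars (f.stalkMap x).hom`
  (NATURAL iso `(f^*M)_x ≅ O_{X,x} ⊗ M_{f x}`, by uniqueness of left adjoints);
* `stalkMod_map_pullback`, `stalkLin_pullback_injective`, `stalkLin_eq_zero_of_pullback`;
* `mono_pullback_of_flat`, instances `preservesMonomorphisms_pullback_of_flat`, `additive_pullback`,
  `preservesFiniteLimits_pullback_of_flat` (flat `f`: `f^*` exact on all modules);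
* `faithful_pullback_of_flat_of_surjective`;
* general: `preservesFiniteLimits_of_preservesMonomorphisms`, `eq_zero_of_stalkLin_eq_zero`,
  `injective_extendScalars_map`, `eq_zero_of_extendScalars_map_eq_zero`.
-/

set_option autoImplicit false
universe u
open CategoryTheory CategoryTheory.Limits AlgebraicGeometry TopologicalSpace Opposite

namespace Groth.Agent.Lib.PullbackStalk81

open Groth.Agent.Lib.SkyMod81 Groth.Agent.Lib.ModStalkLin Groth.Agent.Lib.H4ModHom

variable {X Y : Scheme.{u}} (f : X ⟶ Y) (x : X)

/-- The pushforward of a skyscraper is the skyscraper of the restriction of scalars. -/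
noncomputable def pushSkyObjIso (N : ModuleCat.{u} (X.presheaf.stalk x)) :
    (Scheme.Modules.pushforward f).obj (skyObj x N) ≅
      skyObj (f x) ((ModuleCat.restrictScalars (f.stalkMap x).hom).obj N) :=
  isoOfSections
    (fun V s => ofFn (f x) ((ModuleCat.restrictScalars (f.stalkMap x).hom).obj N) V
      (fun h => toFn x N (f ⁻¹ᵁ V) s ⟨h.down⟩))
    (fun V s => ofFn x N (f ⁻¹ᵁ V)
      (fun h => toFn (f x) ((ModuleCat.restrictScalars (f.stalkMap x).hom).obj N) V s ⟨h.down⟩))
    (fun V a => rfl) (fun V b => rfl)
    (fun V a b => rfl)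
    (fun V r a => by
      funext h
      change gm x (f ⁻¹ᵁ V) ⟨h.down⟩ (f.app V r) • toFn x N (f ⁻¹ᵁ V) a ⟨h.down⟩ =
        (f.stalkMap x).hom (gm (f x) V h r) • toFn x N (f ⁻¹ᵁ V) a ⟨h.down⟩
      congr 1
      exact (Scheme.Hom.germ_stalkMap_apply f V x h.down r).symm)
    (fun {U V} i a => rfl)

/-- Naturality of `pushSkyObjIso`. -/
noncomputable def pushSkyIso :
    skyMod x ⋙ Scheme.Modules.pushforward f ≅
      ModuleCat.restrictScalars (f.stalkMap x).hom ⋙ skyMod (f x) :=
  NatIso.ofComponents (fun N => pushSkyObjIso f x N) (by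
    intro N N' g
    apply Scheme.Modules.hom_ext; intro V; ext s
    rfl)

/-- The two composite adjunctions. -/
noncomputable def adjPull : Scheme.Modules.pullback f ⋙ stalkMod x ⊣ skyMod x ⋙ Scheme.Modules.pushforward f :=
  (Scheme.Modules.pullbackPushforwardAdjunction f).comp (stalkSkyAdj x)

noncomputable def adjExt :
    stalkMod (f x) ⋙ ModuleCat.extendScalars (f.stalkMap x).hom ⊣
      ModuleCat.restrictScalars (f.stalkMap x).hom ⋙ skyMod (f x) :=
  (stalkSkyAdj (f x)).comp (ModuleCat.extendRestrictScalarsAdj (f.stalkMap x).hom)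

/-- **Stalk of the pullback** of an arbitrary `O_Y`-module: naturally,
`(f^* M)_x ≅ O_{X,x} ⊗_{O_{Y,f x}} M_{f x}`. -/
noncomputable def pullbackStalkIso :
    Scheme.Modules.pullback f ⋙ stalkMod x ≅
      stalkMod (f x) ⋙ ModuleCat.extendScalars (f.stalkMap x).hom :=
  ((conjugateIsoEquiv (adjExt f x) (adjPull f x)).symm (pushSkyIso f x).symm)

end Groth.Agent.Lib.PullbackStalk81

namespace Groth.Agent.Lib.PullbackStalk81

open Groth.Agent.Lib.SkyMod81 Groth.Agent.Lib.ModStalkLin

section Alg

theorem injective_extendScalars_map {R S : Type u} [CommRing R] [CommRing S] (f : R →+* S)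
    (hf : f.Flat) {M M' : ModuleCat.{u} R} (l : M ⟶ M') (hl : Function.Injective l.hom) :
    Function.Injective ((ModuleCat.extendScalars.{u, u, u} f).map l).hom := by
  letI := f.toAlgebra
  haveI : Module.Flat R S := hf
  change Function.Injective (LinearMap.baseChange S l.hom)
  rw [LinearMap.baseChange_eq_ltensor]
  exact Module.Flat.lTensor_preserves_injective_linearMap l.hom hl

end Alg

variable {X Y : Scheme.{u}} (f : X ⟶ Y)

/-- Naturality of the stalk formula, as a conjugation. -/
theorem stalkMod_map_pullback (x : X) {M M' : Y.Modules} (φ : M ⟶ M') :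
    (stalkMod x).map ((Scheme.Modules.pullback f).map φ) =
      (pullbackStalkIso f x).hom.app M ≫
        (ModuleCat.extendScalars (f.stalkMap x).hom).map ((stalkMod (f x)).map φ) ≫
          (pullbackStalkIso f x).inv.app M' := by
  have := (pullbackStalkIso f x).hom.naturality φ
  simp only [Functor.comp_map] at this
  rw [← Category.assoc, ← this, Category.assoc, Iso.hom_inv_id_app, Category.comp_id]

/-- Pullback along a morphism with flat stalk map at `x` preserves injectivity on the stalk at `x`. -/
theorem stalkLin_pullback_injective (x : X) (hf : (f.stalkMap x).hom.Flat) {M M' : Y.Modules}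
    (φ : M ⟶ M') (hφ : Function.Injective (stalkLin φ (f x))) :
    Function.Injective (stalkLin ((Scheme.Modules.pullback f).map φ) x) := by
  have h1 : Function.Injective ((stalkMod x).map ((Scheme.Modules.pullback f).map φ)).hom := by
    rw [stalkMod_map_pullback]
    have hinj := injective_extendScalars_map (f.stalkMap x).hom hf ((stalkMod (f x)).map φ) hφ
    have e1 : Function.Injective ((pullbackStalkIso f x).hom.app M).hom :=
      ((pullbackStalkIso f x).app M).toLinearEquiv.injective
    have e2 : Function.Injective ((pullbackStalkIso f x).inv.app M').hom :=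
      ((pullbackStalkIso f x).symm.app M').toLinearEquiv.injective
    exact e2.comp (hinj.comp e1)
  exact h1

/-- **Pullback of `O`-modules along a flat morphism preserves monomorphisms** (arbitrary modules). -/
theorem mono_pullback_of_flat [Flat f] {M M' : Y.Modules} (φ : M ⟶ M') [Mono φ] :
    Mono ((Scheme.Modules.pullback f).map φ) := by
  apply Groth.Agent.Lib.ModStalkIso.mono_of_stalk_injective
  intro x
  exact stalkLin_pullback_injective f x (Flat.stalkMap f x) φ (stalkLin_injective_of_mono φ (f x))

instance preservesMonomorphisms_pullback_of_flat [Flat f] :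
    (Scheme.Modules.pullback f).PreservesMonomorphisms where
  preserves φ _ := mono_pullback_of_flat f φ

end Groth.Agent.Lib.PullbackStalk81

namespace Groth.Agent.Lib.PullbackStalk81

section General

variable {A B : Type*} [Category A] [Category B] [Abelian A] [Abelian B]

/-- A right exact additive functor between abelian categories which preserves monomorphisms is
exact. -/
theorem preservesFiniteLimits_of_preservesMonomorphisms (F : A ⥤ B) [F.Additive]
    [PreservesFiniteColimits F] [F.PreservesMonomorphisms] : PreservesFiniteLimits F := by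
  have h : ∀ (S : ShortComplex A), S.ShortExact → (S.map F).Exact ∧ Mono (F.map S.f) := by
    intro S hS
    refine ⟨?_, ?_⟩
    · have h0 : ∀ (S : ShortComplex A), S.ShortExact → (S.map F).Exact ∧ Epi (F.map S.g) :=
        ((Functor.preservesFiniteColimits_tfae F).out 3 0 rfl rfl).mp
          (inferInstance : PreservesFiniteColimits F)
      exact (h0 S hS).1
    · have := hS.mono_f
      infer_instance
  exact ((Functor.preservesFiniteLimits_tfae F).out 0 3 rfl rfl).mp h

end General

variable {X Y : Scheme.{u}} (f : X ⟶ Y)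

instance additive_pullback : (Scheme.Modules.pullback f).Additive :=
  (Scheme.Modules.pullbackPushforwardAdjunction f).left_adjoint_additive

/-- **The pullback of `O`-modules along a flat morphism is exact** (on all modules). -/
instance preservesFiniteLimits_pullback_of_flat [Flat f] :
    PreservesFiniteLimits (Scheme.Modules.pullback f) := by
  haveI : PreservesFiniteColimits (Scheme.Modules.pullback f) :=
    ⟨fun J _ _ => (Scheme.Modules.pullbackPushforwardAdjunction f).leftAdjoint_preservesColimits.1⟩
  exact preservesFiniteLimits_of_preservesMonomorphisms _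

end Groth.Agent.Lib.PullbackStalk81

namespace Groth.Agent.Lib.PullbackStalk81

open Groth.Agent.Lib.SkyMod81 Groth.Agent.Lib.ModStalkLin

variable {X Y : Scheme.{u}} (f : X ⟶ Y)

/-- A morphism of modules all of whose stalk maps vanish is zero. -/
theorem eq_zero_of_stalkLin_eq_zero {M N : X.Modules} (φ : M ⟶ N)
    (h : ∀ x : X, stalkLin φ x = 0) : φ = 0 := by
  ext U s
  refine TopCat.Presheaf.section_ext
    ((Groth.Agent.Lib.ModStalk.toSheafAb X).obj N) U _ _ (fun x hx => ?_)
  have h1 := stalkLin_germ φ x U hx s
  rw [h x] at h1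
  refine h1.symm.trans ?_
  change (0 : N.presheaf.stalk x) = N.presheaf.germ U x hx ((0 : M ⟶ N).app U s)
  have h0 : (0 : M ⟶ N).app U s = 0 := rfl
  rw [h0, map_zero]

theorem stalkLin_zero {M N : X.Modules} (x : X) : stalkLin (0 : M ⟶ N) x = 0 := by
  refine LinearMap.ext fun m => ?_
  change (Groth.Agent.Lib.ModStalk.stalkFunctor x).map (0 : M ⟶ N) m = 0
  rw [Functor.map_zero]
  rfl

theorem eq_zero_of_extendScalars_map_eq_zero {R S : Type u} [CommRing R] [CommRing S] (g : R →+* S)
    (hg : g.FaithfullyFlat) {M M' : ModuleCat.{u} R} (l : M ⟶ M')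
    (hl : (ModuleCat.extendScalars.{u, u, u} g).map l = 0) : l = 0 := by
  letI := g.toAlgebra
  haveI : Module.FaithfullyFlat R S := hg
  have h1 : LinearMap.baseChange S l.hom = 0 := congrArg ModuleCat.Hom.hom hl
  have h2 : LinearMap.lTensor S l.hom = 0 := by
    refine LinearMap.ext fun a => ?_
    have := LinearMap.congr_fun h1 a
    rwa [LinearMap.baseChange_eq_ltensor] at this
  have := (Module.FaithfullyFlat.zero_iff_lTensor_zero R S l.hom).mpr h2
  exact ModuleCat.hom_ext this

/-- If the stalk map of `f` at `x` is faithfully flat and `f^*φ` vanishes on the stalk at `x`,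
then `φ` vanishes on the stalk at `f x`. -/
theorem stalkLin_eq_zero_of_pullback (x : X) (hf : (f.stalkMap x).hom.FaithfullyFlat)
    {M M' : Y.Modules} (φ : M ⟶ M')
    (h : stalkLin ((Scheme.Modules.pullback f).map φ) x = 0) : stalkLin φ (f x) = 0 := by
  have h1 : (stalkMod x).map ((Scheme.Modules.pullback f).map φ) = 0 :=
    ModuleCat.hom_ext h
  rw [stalkMod_map_pullback] at h1
  have h2 : (ModuleCat.extendScalars (f.stalkMap x).hom).map ((stalkMod (f x)).map φ) = 0 := by
    have := congrArg (fun t => (pullbackStalkIso f x).inv.app M ≫ t ≫ (pullbackStalkIso f x).hom.app M') h1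
    simpa using this
  have h3 := eq_zero_of_extendScalars_map_eq_zero _ hf _ h2
  exact congrArg ModuleCat.Hom.hom h3

/-- **The pullback of `O`-modules along a flat surjective morphism is faithful.** -/
theorem faithful_pullback_of_flat_of_surjective [Flat f] [Surjective f] :
    (Scheme.Modules.pullback f).Faithful := by
  refine ⟨fun {M M'} φ ψ h => ?_⟩
  rw [← sub_eq_zero]
  apply eq_zero_of_stalkLin_eq_zero
  intro y
  obtain ⟨x, rfl⟩ := ‹Surjective f›.surj y
  apply stalkLin_eq_zero_of_pullback f x
  · algebraize [(f.stalkMap x).hom]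
    exact @Module.FaithfullyFlat.of_flat_of_isLocalHom _ _ _ _ _ _ _
      (Flat.stalkMap f x) (f.toLRSHom.prop x)
  · rw [Functor.map_sub, h, sub_self, stalkLin_zero]

end Groth.Agent.Lib.PullbackStalk81
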