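/-
helper81: the stalk iso of a pullback on pulled-back sections: pullbackStalkIso f x (germ_x (pb e)) = 1 ⊗ germ_{f x} e.
-/
import Groth.Agent.Lib.PullbackStalk81
import Groth.Agent.Lib.H78PullSec

set_option autoImplicit false
set_option linter.style.haveILetI false
universe u
open CategoryTheory CategoryTheory.Limits AlgebraicGeometry TopologicalSpace Opposite ChangeOfRings

namespace Groth.Agent.Lib.PullTensor81

open Groth.Agent.Lib.SkyMod81 Groth.Agent.Lib.ModStalkLin Groth.Agent.Lib.PullbackStalk81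
  Groth.Agent.Lib.H78PullSec

variable {X Y : Scheme.{u}} (f : X ⟶ Y) (x : X)

theorem pullbackStalkIso_germ_pb (M : Y.Modules) (V : Y.Opens) (hx : f x ∈ V) (e : Γ(M, V)) :
    ((pullbackStalkIso f x).hom.app M).hom
        (((Scheme.Modules.pullback f).obj M).presheaf.germ (f ⁻¹ᵁ V) x hx (pb f M e)) =
      (1 : X.presheaf.stalk x) ⊗ₜ[Y.presheaf.stalk (f x), (f.stalkMap x).hom]
        (M.presheaf.germ V (f x) hx e) := by
  have h := unit_conjugateEquiv_symm (adjExt f x) (adjPull f x) (pushSkyIso f x).symm.hom M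
  have h2 := congrArg (fun ψ => toFn x _ (f ⁻¹ᵁ V) (Scheme.Modules.Hom.app ψ V e) ⟨hx⟩) h
  exact h2.symm

end Groth.Agent.Lib.PullTensor81
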