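/-
helper81: the comparison morphism θ : f^*(M ⊗ N) ⟶ f^*M ⊗ f^*N for O-modules on schemes (any f, any modules), with
θ (pb (tmul m n)) = tmul (pb m) (pb n); tools: Pairing.hom_app_tmul, tensorMod_hom_ext.
-/
import Groth.Agent.Lib.PullTensor81
import Groth.Agent.Lib.H4TensorPair
import Groth.Agent.Lib.H78TensorGen

set_option autoImplicit false
set_option linter.style.haveILetI false
universe u
open CategoryTheory CategoryTheory.Limits AlgebraicGeometry TopologicalSpace Opposite

namespace Groth.Agent.Lib.PullTensor81

open Groth.Agent.Lib.H4TensorPair Groth.Agent.Lib.H78TensorGen Groth.Agent.Lib.H78PullSec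

section Gen

variable {X : Scheme.{u}} {L L' N : X.Modules}

theorem pairing_hom_app_tmul (β : Pairing L L' N) (V : X.Opens) (a : Γ(L, V)) (b : Γ(L', V)) :
    β.hom.app V (tmul a b) = β.toFun V a b := by
  have h : (adj X).unit.app (CohB1.tensorPre L L') ≫ (Scheme.Modules.toPresheafOfModules X).map β.hom =
      β.preHom :=
    (Adjunction.homEquiv_unit (adj X) _ _ β.hom).symm.trans
      (((adj X).homEquiv (show X.PresheafOfModules from CohB1.tensorPre L L') N).apply_symm_apply
        β.preHom)
  have h2 := congrArg (fun ψ => (ψ.app (op V)).hom (ptmul a b)) h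
  exact h2

/-- morphisms out of a tensor product are determined by their values on pure tensors -/
theorem tensorMod_hom_ext {P : X.Modules} (g g' : CohB1.tensorMod L L' ⟶ P)
    (h : ∀ (V : X.Opens) (a : Γ(L, V)) (b : Γ(L', V)), g.app V (tmul a b) = g'.app V (tmul a b)) :
    g = g' := by
  have key : (adj X).unit.app (CohB1.tensorPre L L') ≫ (Scheme.Modules.toPresheafOfModules X).map g =
      (adj X).unit.app (CohB1.tensorPre L L') ≫ (Scheme.Modules.toPresheafOfModules X).map g' := by
    ext U : 1
    exact ModuleCat.MonoidalCategory.tensor_ext (M₁ := (CohB1.toPMod L).obj U)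
      (M₂ := (CohB1.toPMod L').obj U) (fun a b => h U.unop a b)
  apply ((adj X).homEquiv (show X.PresheafOfModules from CohB1.tensorPre L L') P).injective
  exact (Adjunction.homEquiv_unit (adj X) _ _ g).trans
    (key.trans (Adjunction.homEquiv_unit (adj X) _ _ g').symm)

end Gen

section Theta

variable {X Y : Scheme.{u}} (f : X ⟶ Y) (M N : Y.Modules)

/-- the pairing `M × N → f_*(f^*M ⊗ f^*N)`, `(a, b) ↦ f^♯a ⊗ f^♯b` -/
noncomputable def pullPairing :
    Pairing M N ((Scheme.Modules.pushforward f).obj
      (CohB1.tensorMod ((Scheme.Modules.pullback f).obj M) ((Scheme.Modules.pullback f).obj N))) where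
  toFun U a b := toPush f _ U (tmul (pb f M a) (pb f N b))
  add_left U a a' b := by
    show tmul (pb f M (a + a')) (pb f N b) = _
    rw [pb_add]
    exact tmul_add_left _ _ _
  add_right U a b b' := by
    show tmul (pb f M a) (pb f N (b + b')) = _
    rw [pb_add]
    exact tmul_add_right _ _ _
  smul_left U r a b := by
    show tmul (pb f M (r • a)) (pb f N b) = _
    rw [pb_smul]
    exact smul_tmul (f.app U r) _ _
  smul_right U r a b := by
    show tmul (pb f M a) (pb f N (r • b)) = _
    rw [pb_smul]
    exact tmul_smul (f.app U r) _ _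
  map {U V} h a b := by
    show rs (CohB1.tensorMod ((Scheme.Modules.pullback f).obj M) ((Scheme.Modules.pullback f).obj N))
      (f.preimage_mono h) (tmul (pb f M a) (pb f N b)) = tmul (pb f M (rs M h a)) (pb f N (rs N h b))
    rw [tmul_rs, pb_rs, pb_rs]

/-- the comparison `f^*(M ⊗ N) ⟶ f^*M ⊗ f^*N` -/
noncomputable def theta :
    (Scheme.Modules.pullback f).obj (CohB1.tensorMod M N) ⟶
      CohB1.tensorMod ((Scheme.Modules.pullback f).obj M) ((Scheme.Modules.pullback f).obj N) :=
  ((Scheme.Modules.pullbackPushforwardAdjunction f).homEquiv _ _).symm (pullPairing f M N).hom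

theorem theta_pb_tmul (V : Y.Opens) (a : Γ(M, V)) (b : Γ(N, V)) :
    (theta f M N).app (f ⁻¹ᵁ V) (pb f _ (tmul a b)) = tmul (pb f M a) (pb f N b) := by
  have h : (Scheme.Modules.pullbackPushforwardAdjunction f).unit.app (CohB1.tensorMod M N) ≫
      (Scheme.Modules.pushforward f).map (theta f M N) = (pullPairing f M N).hom :=
    (Adjunction.homEquiv_unit (Scheme.Modules.pullbackPushforwardAdjunction f) _ _ (theta f M N)).symm.trans
      (((Scheme.Modules.pullbackPushforwardAdjunction f).homEquiv _ _).apply_symm_apply _)
  have h2 := congrArg (fun ψ => Scheme.Modules.Hom.app ψ V (tmul a b)) h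
  exact h2.trans (pairing_hom_app_tmul (pullPairing f M N) V a b)

/-- morphisms out of a pullback are determined by their values on pulled-back sections -/
theorem pullback_hom_ext {A : Y.Modules} {Z : X.Modules} (g g' : (Scheme.Modules.pullback f).obj A ⟶ Z)
    (h : ∀ (V : Y.Opens) (s : Γ(A, V)), g.app (f ⁻¹ᵁ V) (pb f A s) = g'.app (f ⁻¹ᵁ V) (pb f A s)) :
    g = g' := by
  apply ((Scheme.Modules.pullbackPushforwardAdjunction f).homEquiv A Z).injective
  have key : (Scheme.Modules.pullbackPushforwardAdjunction f).unit.app A ≫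
      (Scheme.Modules.pushforward f).map g =
      (Scheme.Modules.pullbackPushforwardAdjunction f).unit.app A ≫
      (Scheme.Modules.pushforward f).map g' := by
    apply Scheme.Modules.hom_ext
    intro V
    ext s
    exact h V s
  exact (Adjunction.homEquiv_unit (Scheme.Modules.pullbackPushforwardAdjunction f) _ _ g).trans
    (key.trans (Adjunction.homEquiv_unit (Scheme.Modules.pullbackPushforwardAdjunction f) _ _ g').symm)

end Theta

end Groth.Agent.Lib.PullTensor81
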