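/-
helper81: preSt_induction / tensorStalk_induction (the stalk of tensorMod is additively generated by germs of pure tensors),
tensorMap g (sheafification of a map of presheaf tensor products), sheafifyMod_map_unitT, tensorStalkEquiv_naturality.
-/
import Groth.Agent.Lib.StalkTensor81B

set_option autoImplicit false
universe u
open CategoryTheory CategoryTheory.Limits MonoidalCategory Opposite TopologicalSpace TensorProduct
  AlgebraicGeometry

namespace Groth.Agent.Lib.StalkTensor81

open Groth.Agent.Lib.OXModTensorW Groth.Agent.Lib.StalkFlatTensor66 Groth.Agent.Lib.H78TensorGen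
  Groth.Agent.Lib.ModStalkLin

variable {X : Scheme.{u}} (M N : X.Modules) (x : X)

/-- the stalk of the presheaf tensor product is additively generated by germs of pure tensors -/
theorem preSt_induction {C : PreSt M N x → Prop} (h0 : C 0) (hadd : ∀ a b, C a → C b → C (a + b))
    (hgen : ∀ (U : X.Opens) (hx : x ∈ U) (m : Γ(M, U)) (n : Γ(N, U)),
      C (gm (X := X.toTopCat) (R := X.presheaf) (tp M N) x hx (ptmul m n))) (z : PreSt M N x) : C z := by
  obtain ⟨U, hxU, t, rfl⟩ := exists_gm_eq (X := X.toTopCat) (R := X.presheaf) (P := tp M N) x z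
  have key : ∀ t : TS (X := X.toTopCat) (R := X.presheaf) (CohB1.toPMod M) (CohB1.toPMod N) U,
      C (gm (X := X.toTopCat) (R := X.presheaf) (tp M N) x hxU t) := by
    intro t
    induction t using TensorProduct.induction_on with
    | zero =>
      have e : gm (X := X.toTopCat) (R := X.presheaf) (tp M N) x hxU 0 = 0 := gm_zero x hxU
      exact cast (congrArg C e.symm) h0
    | tmul m n => exact hgen U hxU m n
    | add a b ha hb =>
      have e : gm (X := X.toTopCat) (R := X.presheaf) (tp M N) x hxU
          ((a : (tp M N).obj (op U)) + (b : (tp M N).obj (op U))) =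
          gm (X := X.toTopCat) (R := X.presheaf) (tp M N) x hxU a +
            gm (X := X.toTopCat) (R := X.presheaf) (tp M N) x hxU b := gm_add x hxU _ _
      exact cast (congrArg C e.symm) (hadd _ _ ha hb)
  exact key t

/-- the stalk of the tensor product is additively generated by germs of pure tensors -/
theorem tensorStalk_induction {C : (CohB1.tensorMod M N).presheaf.stalk x → Prop} (h0 : C 0)
    (hadd : ∀ a b, C a → C b → C (a + b))
    (hgen : ∀ (U : X.Opens) (hx : x ∈ U) (m : Γ(M, U)) (n : Γ(N, U)),
      C ((CohB1.tensorMod M N).presheaf.germ U x hx (tmul m n)))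
    (z : (CohB1.tensorMod M N).presheaf.stalk x) : C z := by
  obtain ⟨w, rfl⟩ := unitStalk_surjective M N x z
  induction w using preSt_induction with
  | h0 => rw [map_zero]; exact h0
  | hadd a b ha hb => rw [map_add]; exact hadd _ _ ha hb
  | hgen U hx m n =>
    rw [unitStalk_gm]
    exact hgen U hx m n

variable {M N} {M' N' : X.Modules}

/-- the map of tensor products induced by a map of presheaf tensor products -/
noncomputable def tensorMap (g : tpre M N ⟶ tpre M' N') : CohB1.tensorMod M N ⟶ CohB1.tensorMod M' N' :=
  (CohB1.sheafifyMod X).map g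

/-- naturality of the sheafification unit on sections -/
theorem sheafifyMod_map_unitT (g : tpre M N ⟶ tpre M' N') (U : X.Opens)
    (p : (tpre M N).obj (op U)) :
    (tensorMap g).app U (((unitT M N).app (op U)).hom p) =
      ((unitT M' N').app (op U)).hom ((g.app (op U)).hom p) := by
  have h := (H78AmpleUnit.adj X).unit.naturality g
  have h2 := congrArg (fun k => (k.app (op U)).hom p) h
  exact h2.symm

/-- naturality of `tensorStalkEquiv` -/
theorem tensorStalkEquiv_naturality (φ : M ⟶ M') (ψ : N ⟶ N')
    (g : tpre M N ⟶ tpre M' N')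
    (hg : ∀ (U : X.Opens) (m : Γ(M, U)) (n : Γ(N, U)),
      (g.app (op U)).hom (ptmul m n) = ptmul (φ.app U m) (ψ.app U n))
    (z : (CohB1.tensorMod M N).presheaf.stalk x) :
    tensorStalkEquiv M' N' x (stalkLin (tensorMap g) x z) =
      TensorProduct.map (stalkLin φ x) (stalkLin ψ x) (tensorStalkEquiv M N x z) := by
  let L : (CohB1.tensorMod M N).presheaf.stalk x →ₗ[X.presheaf.stalk x]
      (M'.presheaf.stalk x ⊗[X.presheaf.stalk x] N'.presheaf.stalk x) :=
    (tensorStalkEquiv M' N' x).toLinearMap ∘ₗ stalkLin (tensorMap g) x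
  let L' : (CohB1.tensorMod M N).presheaf.stalk x →ₗ[X.presheaf.stalk x]
      (M'.presheaf.stalk x ⊗[X.presheaf.stalk x] N'.presheaf.stalk x) :=
    TensorProduct.map (stalkLin φ x) (stalkLin ψ x) ∘ₗ (tensorStalkEquiv M N x).toLinearMap
  change L z = L' z
  induction z using tensorStalk_induction with
  | h0 => rw [map_zero, map_zero]
  | hadd a b ha hb => rw [map_add, map_add, ha, hb]
  | hgen U hx m n =>
    change tensorStalkEquiv M' N' x (stalkLin (tensorMap g) x
        ((CohB1.tensorMod M N).presheaf.germ U x hx (tmul m n))) =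
      TensorProduct.map (stalkLin φ x) (stalkLin ψ x)
        (tensorStalkEquiv M N x ((CohB1.tensorMod M N).presheaf.germ U x hx (tmul m n)))
    rw [stalkLin_germ, tensorStalkEquiv_germ_tmul, TensorProduct.map_tmul, stalkLin_germ,
      stalkLin_germ]
    have : (tensorMap g).app U (tmul m n) = tmul (φ.app U m) (ψ.app U n) := by
      rw [H78TensorGen.tmul, sheafifyMod_map_unitT, hg]
      rfl
    rw [this, tensorStalkEquiv_germ_tmul]

end Groth.Agent.Lib.StalkTensor81
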