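/-
helper81: stalkMapₗ_eq / stalkFunctor_map (DerSch.stalkFunctor vs stalkLin), tensorBi_map_app / tensorBi_obj_map (rfl unfoldings of DCoh.tensorBi),
stalkTensorIso x M N : stalk (tensorBi M N) ≅ stalk M ⊗ stalk N in ModuleCat O_x, with naturality_left/right.
-/
import Groth.Agent.Lib.StalkTensor81C
import Groth.Agent.Lib.SkyMod81
import Groth.Prelude.Def_DerSch
import Groth.Prelude.Def_DCoh4

set_option autoImplicit false
universe u
open CategoryTheory CategoryTheory.Limits MonoidalCategory Opposite TopologicalSpace TensorProduct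
  AlgebraicGeometry

namespace Groth.Agent.Lib.StalkTensor81

open Groth.Agent.Lib.OXModTensorW Groth.Agent.Lib.StalkFlatTensor66 Groth.Agent.Lib.H78TensorGen
  Groth.Agent.Lib.ModStalkLin

variable {X : Scheme.{u}} (x : X)

theorem stalkMapₗ_eq {M N : X.Modules} (φ : M ⟶ N) : Algz.stalkMapₗ φ x = stalkLin φ x := by
  ext m
  obtain ⟨U, hxU, s, rfl⟩ := TopCat.Presheaf.exists_germ_eq M.presheaf m
  rw [stalkLin_germ]
  exact DerSch.stalkFunctor_map_germ x φ U hxU s

theorem stalkFunctor_map {M N : X.Modules} (φ : M ⟶ N) :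
    (DerSch.stalkFunctor X x).map φ = ModuleCat.ofHom (stalkLin φ x) := by
  change ModuleCat.ofHom (Algz.stalkMapₗ φ x) = _
  rw [stalkMapₗ_eq]

example (M N : X.Modules) : (DCoh.tensorBi.obj M).obj N = CohB1.tensorMod M N := rfl

end Groth.Agent.Lib.StalkTensor81

namespace Groth.Agent.Lib.StalkTensor81

open Groth.Agent.Lib.OXModTensorW Groth.Agent.Lib.StalkFlatTensor66 Groth.Agent.Lib.H78TensorGen
  Groth.Agent.Lib.ModStalkLin

variable {X : Scheme.{u}} (x : X)

/-- left whiskering on presheaf tensor products -/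
noncomputable def preWhiskerRight {M M' : X.Modules} (φ : M ⟶ M') (N : X.Modules) :
    tpre M N ⟶ tpre M' N :=
  (show CohB1.toPMod M ⟶ CohB1.toPMod M' from φ.val) ▷ CohB1.toPMod N

/-- right whiskering on presheaf tensor products -/
noncomputable def preWhiskerLeft (M : X.Modules) {N N' : X.Modules} (ψ : N ⟶ N') :
    tpre M N ⟶ tpre M N' :=
  CohB1.toPMod M ◁ (show CohB1.toPMod N ⟶ CohB1.toPMod N' from ψ.val)

theorem tensorBi_map_app {M M' : X.Modules} (φ : M ⟶ M') (N : X.Modules) :
    (DCoh.tensorBi.map φ).app N = tensorMap (preWhiskerRight φ N) := rfl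

theorem tensorBi_obj_map (M : X.Modules) {N N' : X.Modules} (ψ : N ⟶ N') :
    (DCoh.tensorBi.obj M).map ψ = tensorMap (preWhiskerLeft M ψ) := rfl

theorem preWhiskerRight_ptmul {M M' : X.Modules} (φ : M ⟶ M') (N : X.Modules) (U : X.Opens)
    (m : Γ(M, U)) (n : Γ(N, U)) :
    ((preWhiskerRight φ N).app (op U)).hom (ptmul m n) = ptmul (φ.app U m) n := rfl

theorem preWhiskerLeft_ptmul (M : X.Modules) {N N' : X.Modules} (ψ : N ⟶ N') (U : X.Opens)
    (m : Γ(M, U)) (n : Γ(N, U)) :
    ((preWhiskerLeft M ψ).app (op U)).hom (ptmul m n) = ptmul m (ψ.app U n) := rfl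

end Groth.Agent.Lib.StalkTensor81

namespace Groth.Agent.Lib.StalkTensor81

open Groth.Agent.Lib.OXModTensorW Groth.Agent.Lib.StalkFlatTensor66 Groth.Agent.Lib.H78TensorGen
  Groth.Agent.Lib.ModStalkLin

variable {X : Scheme.{u}} (x : X)

/-- the stalk of the tensor product, as an isomorphism of modules over the local ring -/
noncomputable def stalkTensorIso (M N : X.Modules) :
    (DerSch.stalkFunctor X x).obj ((DCoh.tensorBi.obj M).obj N) ≅
      ((curriedTensor (ModuleCat.{u} (X.presheaf.stalk x))).obj ((DerSch.stalkFunctor X x).obj M)).obj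
        ((DerSch.stalkFunctor X x).obj N) :=
  (tensorStalkEquiv M N x).toModuleIso

theorem stalkTensorIso_naturality_left {M M' : X.Modules} (φ : M ⟶ M') (N : X.Modules) :
    (DerSch.stalkFunctor X x).map ((DCoh.tensorBi.map φ).app N) ≫ (stalkTensorIso x M' N).hom =
      (stalkTensorIso x M N).hom ≫
        ((curriedTensor (ModuleCat.{u} (X.presheaf.stalk x))).map
          ((DerSch.stalkFunctor X x).map φ)).app ((DerSch.stalkFunctor X x).obj N) := by
  rw [stalkFunctor_map, stalkFunctor_map, tensorBi_map_app]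
  ext z
  change tensorStalkEquiv M' N x (stalkLin (tensorMap (preWhiskerRight φ N)) x z) =
    LinearMap.rTensor _ (stalkLin φ x) (tensorStalkEquiv M N x z)
  refine (tensorStalkEquiv_naturality x φ (𝟙 N) (preWhiskerRight φ N)
    (fun U m n => preWhiskerRight_ptmul φ N U m n) z).trans ?_
  rw [stalkLin_id]
  rfl

theorem stalkTensorIso_naturality_right (M : X.Modules) {N N' : X.Modules} (ψ : N ⟶ N') :
    (DerSch.stalkFunctor X x).map ((DCoh.tensorBi.obj M).map ψ) ≫ (stalkTensorIso x M N').hom =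
      (stalkTensorIso x M N).hom ≫
        ((curriedTensor (ModuleCat.{u} (X.presheaf.stalk x))).obj
          ((DerSch.stalkFunctor X x).obj M)).map ((DerSch.stalkFunctor X x).map ψ) := by
  rw [stalkFunctor_map, stalkFunctor_map, tensorBi_obj_map]
  ext z
  change tensorStalkEquiv M N' x (stalkLin (tensorMap (preWhiskerLeft M ψ)) x z) =
    LinearMap.lTensor _ (stalkLin ψ x) (tensorStalkEquiv M N x z)
  refine (tensorStalkEquiv_naturality x (𝟙 M) ψ (preWhiskerLeft M ψ)
    (fun U m n => preWhiskerLeft_ptmul M ψ U m n) z).trans ?_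
  rw [stalkLin_id]
  rfl

end Groth.Agent.Lib.StalkTensor81
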