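/-
helper81: naturality of θ : f^*(M ⊗ N) ⟶ f^*M ⊗ f^*N in both variables (for DCoh.tensorBi).
-/
import Groth.Agent.Lib.PullTensor81B
import Groth.Agent.Lib.StalkTensor81D

set_option autoImplicit false
set_option linter.style.haveILetI false
universe u
open CategoryTheory CategoryTheory.Limits AlgebraicGeometry TopologicalSpace Opposite

namespace Groth.Agent.Lib.PullTensor81

open Groth.Agent.Lib.H4TensorPair Groth.Agent.Lib.H78TensorGen Groth.Agent.Lib.H78PullSec
  Groth.Agent.Lib.StalkTensor81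

section Bi

variable {X : Scheme.{u}}

theorem tensorBi_map_app_tmul {M M' : X.Modules} (φ : M ⟶ M') (N : X.Modules) (V : X.Opens)
    (a : Γ(M, V)) (b : Γ(N, V)) :
    ((DCoh.tensorBi.map φ).app N).app V (tmul a b) = tmul (φ.app V a) b := by
  rw [tensorBi_map_app]
  exact (sheafifyMod_map_unitT (preWhiskerRight φ N) V (ptmul a b)).trans
    (congrArg _ (preWhiskerRight_ptmul φ N V a b))

theorem tensorBi_obj_map_tmul (M : X.Modules) {N N' : X.Modules} (ψ : N ⟶ N') (V : X.Opens)
    (a : Γ(M, V)) (b : Γ(N, V)) :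
    ((DCoh.tensorBi.obj M).map ψ).app V (tmul a b) = tmul a (ψ.app V b) := by
  rw [tensorBi_obj_map]
  exact (sheafifyMod_map_unitT (preWhiskerLeft M ψ) V (ptmul a b)).trans
    (congrArg _ (preWhiskerLeft_ptmul M ψ V a b))

end Bi

section Nat

variable {X Y : Scheme.{u}} (f : X ⟶ Y)

/-- morphisms out of `f^*(M ⊗ N)` are determined by their values on `pb (tmul a b)` -/
theorem pullback_tensor_hom_ext {M N : Y.Modules} {Z : X.Modules}
    (g g' : (Scheme.Modules.pullback f).obj (CohB1.tensorMod M N) ⟶ Z)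
    (h : ∀ (V : Y.Opens) (a : Γ(M, V)) (b : Γ(N, V)),
      g.app (f ⁻¹ᵁ V) (pb f _ (tmul a b)) = g'.app (f ⁻¹ᵁ V) (pb f _ (tmul a b))) :
    g = g' := by
  apply ((Scheme.Modules.pullbackPushforwardAdjunction f).homEquiv (CohB1.tensorMod M N) Z).injective
  have key : (Scheme.Modules.pullbackPushforwardAdjunction f).unit.app (CohB1.tensorMod M N) ≫
      (Scheme.Modules.pushforward f).map g =
      (Scheme.Modules.pullbackPushforwardAdjunction f).unit.app (CohB1.tensorMod M N) ≫
      (Scheme.Modules.pushforward f).map g' := by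
    apply tensorMod_hom_ext
    intro V a b
    exact h V a b
  exact (Adjunction.homEquiv_unit (Scheme.Modules.pullbackPushforwardAdjunction f) _ _ g).trans
    (key.trans (Adjunction.homEquiv_unit (Scheme.Modules.pullbackPushforwardAdjunction f) _ _ g').symm)

theorem theta_naturality_left {M M' : Y.Modules} (φ : M ⟶ M') (N : Y.Modules) :
    (Scheme.Modules.pullback f).map ((DCoh.tensorBi.map φ).app N) ≫ theta f M' N =
      theta f M N ≫ (DCoh.tensorBi.map ((Scheme.Modules.pullback f).map φ)).app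
        ((Scheme.Modules.pullback f).obj N) := by
  apply pullback_tensor_hom_ext
  intro V a b
  change (theta f M' N).app (f ⁻¹ᵁ V) (((Scheme.Modules.pullback f).map ((DCoh.tensorBi.map φ).app N)).app
      (f ⁻¹ᵁ V) (pb f _ (tmul a b))) =
    ((DCoh.tensorBi.map ((Scheme.Modules.pullback f).map φ)).app ((Scheme.Modules.pullback f).obj N)).app
      (f ⁻¹ᵁ V) ((theta f M N).app (f ⁻¹ᵁ V) (pb f _ (tmul a b)))
  have e1 : ((Scheme.Modules.pullback f).map ((DCoh.tensorBi.map φ).app N)).app (f ⁻¹ᵁ V)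
      (pb f _ (tmul a b)) = pb f _ (tmul (φ.app V a) b) :=
    (pb_map f ((DCoh.tensorBi.map φ).app N) (tmul a b)).trans
      (congrArg (pb f _) (tensorBi_map_app_tmul φ N V a b))
  have e2 : ((DCoh.tensorBi.map ((Scheme.Modules.pullback f).map φ)).app
      ((Scheme.Modules.pullback f).obj N)).app (f ⁻¹ᵁ V) (tmul (pb f M a) (pb f N b)) =
      tmul (pb f M' (φ.app V a)) (pb f N b) :=
    (tensorBi_map_app_tmul ((Scheme.Modules.pullback f).map φ) _ (f ⁻¹ᵁ V) (pb f M a) (pb f N b)).trans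
      (congrArg (fun z => tmul z (pb f N b)) (pb_map f φ a))
  exact ((congrArg (fun z => (theta f M' N).app (f ⁻¹ᵁ V) z) e1).trans
    (theta_pb_tmul f M' N V (φ.app V a) b)).trans
    (((congrArg (fun z => ((DCoh.tensorBi.map ((Scheme.Modules.pullback f).map φ)).app
      ((Scheme.Modules.pullback f).obj N)).app (f ⁻¹ᵁ V) z) (theta_pb_tmul f M N V a b)).trans e2).symm)

theorem theta_naturality_right (M : Y.Modules) {N N' : Y.Modules} (ψ : N ⟶ N') :
    (Scheme.Modules.pullback f).map ((DCoh.tensorBi.obj M).map ψ) ≫ theta f M N' =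
      theta f M N ≫ (DCoh.tensorBi.obj ((Scheme.Modules.pullback f).obj M)).map
        ((Scheme.Modules.pullback f).map ψ) := by
  apply pullback_tensor_hom_ext
  intro V a b
  change (theta f M N').app (f ⁻¹ᵁ V) (((Scheme.Modules.pullback f).map ((DCoh.tensorBi.obj M).map ψ)).app
      (f ⁻¹ᵁ V) (pb f _ (tmul a b))) =
    ((DCoh.tensorBi.obj ((Scheme.Modules.pullback f).obj M)).map ((Scheme.Modules.pullback f).map ψ)).app
      (f ⁻¹ᵁ V) ((theta f M N).app (f ⁻¹ᵁ V) (pb f _ (tmul a b)))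
  have e1 : ((Scheme.Modules.pullback f).map ((DCoh.tensorBi.obj M).map ψ)).app (f ⁻¹ᵁ V)
      (pb f _ (tmul a b)) = pb f _ (tmul a (ψ.app V b)) :=
    (pb_map f ((DCoh.tensorBi.obj M).map ψ) (tmul a b)).trans
      (congrArg (pb f _) (tensorBi_obj_map_tmul M ψ V a b))
  have e2 : ((DCoh.tensorBi.obj ((Scheme.Modules.pullback f).obj M)).map
      ((Scheme.Modules.pullback f).map ψ)).app (f ⁻¹ᵁ V) (tmul (pb f M a) (pb f N b)) =
      tmul (pb f M a) (pb f N' (ψ.app V b)) :=
    (tensorBi_obj_map_tmul _ ((Scheme.Modules.pullback f).map ψ) (f ⁻¹ᵁ V) (pb f M a) (pb f N b)).trans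
      (congrArg (fun z => tmul (pb f M a) z) (pb_map f ψ b))
  exact ((congrArg (fun z => (theta f M N').app (f ⁻¹ᵁ V) z) e1).trans
    (theta_pb_tmul f M N' V a (ψ.app V b))).trans
    (((congrArg (fun z => ((DCoh.tensorBi.obj ((Scheme.Modules.pullback f).obj M)).map
      ((Scheme.Modules.pullback f).map ψ)).app (f ⁻¹ᵁ V) z) (theta_pb_tmul f M N V a b)).trans e2).symm)

end Nat

end Groth.Agent.Lib.PullTensor81
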