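/-
helper66: naturality of the associator of helper42's `MonLoc.LocData` in all three variables.
-/
import Groth.Agent.Lib.MonLoc

universe v₁ v₂ u₁ u₂
open CategoryTheory MonoidalCategory

namespace Groth.Agent.Lib.MonLoc.LocData

variable {C : Type u₁} {D : Type u₂} [Category.{v₁} C] [Category.{v₂} D] [MonoidalCategory C]
    [SymmetricCategory C] (L : LocData C D)

lemma associator_hom_naturality {M M' N N' K K' : D} (f : M ⟶ M') (g : N ⟶ N') (h : K ⟶ K') :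
    L.tensMap (L.tensMap f g) h ≫ (L.associator M' N' K').hom =
      (L.associator M N K).hom ≫ L.tensMap f (L.tensMap g h) := by
  have := L.isIso_whiskerRight (L.η (L.fg.obj M ⊗ L.fg.obj N)) (L.fg.obj K)
  have := L.isIso_whiskerRight (L.η (L.fg.obj M' ⊗ L.fg.obj N')) (L.fg.obj K')
  have hη₁ : L.η (L.fg.obj M ⊗ L.fg.obj N) ≫ L.fg.map (L.a.map (L.fg.map f ⊗ₘ L.fg.map g)) =
      (L.fg.map f ⊗ₘ L.fg.map g) ≫ L.η (L.fg.obj M' ⊗ L.fg.obj N') :=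
    (L.adj.unit.naturality (L.fg.map f ⊗ₘ L.fg.map g)).symm
  have hη₂ : L.η (L.fg.obj N ⊗ L.fg.obj K) ≫ L.fg.map (L.a.map (L.fg.map g ⊗ₘ L.fg.map h)) =
      (L.fg.map g ⊗ₘ L.fg.map h) ≫ L.η (L.fg.obj N' ⊗ L.fg.obj K') :=
    (L.adj.unit.naturality (L.fg.map g ⊗ₘ L.fg.map h)).symm
  have h1 : L.a.map (L.η (L.fg.obj M ⊗ L.fg.obj N) ▷ L.fg.obj K) ≫
      L.a.map (L.fg.map (L.a.map (L.fg.map f ⊗ₘ L.fg.map g)) ⊗ₘ L.fg.map h) =
      L.a.map ((L.fg.map f ⊗ₘ L.fg.map g) ⊗ₘ L.fg.map h) ≫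
        L.a.map (L.η (L.fg.obj M' ⊗ L.fg.obj N') ▷ L.fg.obj K') := by
    rw [← Functor.map_comp, ← Functor.map_comp, ← tensorHom_id, ← tensorHom_id,
      tensorHom_comp_tensorHom, tensorHom_comp_tensorHom, hη₁, Category.id_comp, Category.comp_id]
  have h2 : L.a.map ((L.fg.map f ⊗ₘ L.fg.map g) ⊗ₘ L.fg.map h) ≫
      L.a.map (α_ (L.fg.obj M') (L.fg.obj N') (L.fg.obj K')).hom =
      L.a.map (α_ (L.fg.obj M) (L.fg.obj N) (L.fg.obj K)).hom ≫
        L.a.map (L.fg.map f ⊗ₘ (L.fg.map g ⊗ₘ L.fg.map h)) := by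
    rw [← Functor.map_comp, ← Functor.map_comp, associator_naturality]
  have h3 : L.a.map (L.fg.map f ⊗ₘ (L.fg.map g ⊗ₘ L.fg.map h)) ≫
      L.a.map (L.fg.obj M' ◁ L.η (L.fg.obj N' ⊗ L.fg.obj K')) =
      L.a.map (L.fg.obj M ◁ L.η (L.fg.obj N ⊗ L.fg.obj K)) ≫
        L.a.map (L.fg.map f ⊗ₘ L.fg.map (L.a.map (L.fg.map g ⊗ₘ L.fg.map h))) := by
    rw [← Functor.map_comp, ← Functor.map_comp, ← id_tensorHom, ← id_tensorHom,
      tensorHom_comp_tensorHom, tensorHom_comp_tensorHom, hη₂, Category.id_comp, Category.comp_id]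
  simp only [associator, tensMap, Iso.trans_hom, Iso.symm_hom, asIso_inv, Functor.mapIso_hom,
    asIso_hom]
  rw [← cancel_epi (L.a.map (L.η (L.fg.obj M ⊗ L.fg.obj N) ▷ L.fg.obj K)), ← Category.assoc, h1,
    Category.assoc, IsIso.hom_inv_id_assoc]
  simp only [Category.assoc, IsIso.hom_inv_id_assoc]
  rw [← Category.assoc, h2, Category.assoc, h3]

end Groth.Agent.Lib.MonLoc.LocData
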