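import Mathlib

/-!
# Stalks of closed immersions

For a closed immersion `i : Y ⟶ X`, an affine open `U ∋ i y`, the kernel of the (surjective) stalk
map `𝒪_{X, i y} → 𝒪_{Y, y}` is the extension of the ideal `i.ker.ideal U` along the germ map.
-/

set_option autoImplicit false
universe u
open CategoryTheory AlgebraicGeometry TopologicalSpace

namespace Groth.Agent.Lib.ClosedImmStalk

theorem mem_basicOpen_iff_notMem_primeIdealOf {X : Scheme.{u}} (V : X.Opens) (hV : IsAffineOpen V)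
    (x : X) (hx : x ∈ V) (f : Γ(X, V)) :
    x ∈ X.basicOpen f ↔ f ∉ (hV.primeIdealOf ⟨x, hx⟩).asIdeal := by
  have h1 : hV.primeIdealOf ⟨x, hx⟩ ∈ hV.fromSpec ⁻¹ᵁ X.basicOpen f ↔ x ∈ X.basicOpen f := by
    change hV.fromSpec (hV.primeIdealOf ⟨x, hx⟩) ∈ X.basicOpen f ↔ _
    rw [hV.fromSpec_primeIdealOf ⟨x, hx⟩]
  rw [← h1, hV.fromSpec_preimage_basicOpen]
  rfl

theorem ker_stalkMap_eq_map {X Y : Scheme.{u}} (i : Y ⟶ X) [IsClosedImmersion i]
    (U : X.affineOpens) (y : Y) (hy : i y ∈ U.1) :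
    RingHom.ker (i.stalkMap y).hom =
      (i.ker.ideal U).map (X.presheaf.germ U.1 (i y) hy).hom := by
  have hU : IsAffineOpen U.1 := U.2
  have hV : IsAffineOpen (i ⁻¹ᵁ U.1) := hU.preimage i
  have hyV : y ∈ i ⁻¹ᵁ U.1 := hy
  apply le_antisymm
  · intro s hs
    rw [RingHom.mem_ker] at hs
    let alg : Algebra Γ(X, U.1) (X.presheaf.stalk (i y)) :=
      X.presheaf.algebra_section_stalk ⟨i y, hy⟩
    have hloc : IsLocalization.AtPrime (X.presheaf.stalk (i y))
        (hU.primeIdealOf ⟨i y, hy⟩).asIdeal := hU.isLocalization_stalk ⟨i y, hy⟩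
    let algY : Algebra Γ(Y, i ⁻¹ᵁ U.1) (Y.presheaf.stalk y) :=
      Y.presheaf.algebra_section_stalk ⟨y, hyV⟩
    have hlocY : IsLocalization.AtPrime (Y.presheaf.stalk y)
        (hV.primeIdealOf ⟨y, hyV⟩).asIdeal := hV.isLocalization_stalk ⟨y, hyV⟩
    obtain ⟨⟨a, g⟩, hag⟩ := IsLocalization.surj (hU.primeIdealOf ⟨i y, hy⟩).asIdeal.primeCompl s
    simp only at hag
    have halg : ∀ t, algebraMap Γ(X, U.1) (X.presheaf.stalk (i y)) t =
        (X.presheaf.germ U.1 (i y) hy).hom t := fun t => rfl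
    have halgY : ∀ t, algebraMap Γ(Y, i ⁻¹ᵁ U.1) (Y.presheaf.stalk y) t =
        (Y.presheaf.germ (i ⁻¹ᵁ U.1) y hyV).hom t := fun t => rfl
    -- the germ of `i.app U a` vanishes
    have h0 : (Y.presheaf.germ (i ⁻¹ᵁ U.1) y hyV).hom ((i.app U.1).hom a) = 0 := by
      have := Scheme.Hom.germ_stalkMap_apply i U.1 y hy a
      rw [← this]
      have h1 : (X.presheaf.germ U.1 (i y) hy).hom a = s * (X.presheaf.germ U.1 (i y) hy).hom g := by
        rw [← halg, ← halg, hag]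
      change (i.stalkMap y).hom ((X.presheaf.germ U.1 (i y) hy).hom a) = 0
      rw [h1, map_mul, hs, zero_mul]
    rw [← halgY, IsLocalization.map_eq_zero_iff (hV.primeIdealOf ⟨y, hyV⟩).asIdeal.primeCompl] at h0
    obtain ⟨⟨h', hh'⟩, hh0⟩ := h0
    obtain ⟨h, rfl⟩ := i.app_surjective U.1 hU h'
    simp only at hh0
    -- `h ∉ p`
    have hh : h ∈ (hU.primeIdealOf ⟨i y, hy⟩).asIdeal.primeCompl := by
      change h ∉ (hU.primeIdealOf ⟨i y, hy⟩).asIdeal
      rw [← mem_basicOpen_iff_notMem_primeIdealOf U.1 hU (i y) hy h]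
      have hq : (i.app U.1).hom h ∉ (hV.primeIdealOf ⟨y, hyV⟩).asIdeal := hh'
      rw [← mem_basicOpen_iff_notMem_primeIdealOf (i ⁻¹ᵁ U.1) hV y hyV, ← Scheme.preimage_basicOpen] at hq
      exact hq
    have hmem : h * a ∈ i.ker.ideal U := by
      rw [Scheme.Hom.ker_apply, RingHom.mem_ker, map_mul]
      exact hh0
    have hunit : IsUnit ((X.presheaf.germ U.1 (i y) hy).hom (h * g)) := by
      rw [← halg]
      exact IsLocalization.map_units _ (⟨h * g, mul_mem hh g.2⟩ :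
        (hU.primeIdealOf ⟨i y, hy⟩).asIdeal.primeCompl)
    have hs' : s * (X.presheaf.germ U.1 (i y) hy).hom (h * g) =
        (X.presheaf.germ U.1 (i y) hy).hom (h * a) := by
      rw [map_mul, map_mul, ← halg a, ← hag, halg]
      ring
    have : s = (X.presheaf.germ U.1 (i y) hy).hom (h * a) * ↑hunit.unit⁻¹ := by
      rw [← hs', mul_assoc]
      simp
    rw [this]
    exact Ideal.mul_mem_right _ _ (Ideal.mem_map_of_mem _ hmem)
  · rw [Ideal.map_le_iff_le_comap]
    intro a ha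
    rw [Scheme.Hom.ker_apply, RingHom.mem_ker] at ha
    rw [Ideal.mem_comap, RingHom.mem_ker]
    have := Scheme.Hom.germ_stalkMap_apply i U.1 y hy a
    change (i.stalkMap y).hom ((X.presheaf.germ U.1 (i y) hy).hom a) = 0
    erw [this]
    erw [ha]
    simp

end Groth.Agent.Lib.ClosedImmStalk
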