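import Groth.Agent.Lib.UnitBaseChange
import Groth.Agent.Lib.H90OXModPush
import Groth.Agent.Lib.H90OXModAffineIso
import Groth.Agent.Lib.SupportTensor
import Groth.Prelude.Def_ClSub2
import Groth.Prelude.Def_Coh
import Mathlib.AlgebraicGeometry.Morphisms.ClosedImmersion

set_option autoImplicit false
set_option linter.style.haveILetI false
universe u
open CategoryTheory AlgebraicGeometry TopologicalSpace Opposite TensorProduct

namespace Groth.Agent.Lib.ClosedImmersionPush

section Alg
variable {A B M N : Type*} [CommRing A] [CommRing B] [Algebra A B]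
  [AddCommGroup M] [Module A M] [AddCommGroup N] [Module A N] [Module B N] [IsScalarTower A B N]

theorem bijective_of_isBaseChange_of_killed (hs : Function.Surjective (algebraMap A B))
    (hk : ∀ a ∈ RingHom.ker (algebraMap A B), ∀ m : M, a • m = 0)
    (θ : M →ₗ[A] N) (hθ : IsBaseChange B θ) : Function.Bijective θ := by
  constructor
  · -- injective
    rw [injective_iff_map_eq_zero]
    intro m hm
    have hsurj : Function.Surjective (Algebra.ofId A B) := hs
    let e1 : (A ⧸ RingHom.ker (Algebra.ofId A B)) ≃ₗ[A] B :=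
      (Ideal.quotientKerAlgEquivOfSurjective hsurj).toLinearEquiv
    let E : B ⊗[A] M ≃ₗ[A] M ⧸ (RingHom.ker (Algebra.ofId A B) • (⊤ : Submodule A M)) :=
      TensorProduct.congr e1.symm (LinearEquiv.refl A M) ≪≫ₗ
        TensorProduct.quotTensorEquivQuotSMul M (RingHom.ker (Algebra.ofId A B))
    have h1 : (1 : B) ⊗ₜ[A] m = 0 := by
      have := hθ.equiv_symm_apply m
      rw [hm, map_zero] at this
      exact this.symm
    have h2 : E ((1 : B) ⊗ₜ[A] m) = Submodule.Quotient.mk m := by
      have : e1.symm 1 = Ideal.Quotient.mk _ 1 := by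
        rw [LinearEquiv.symm_apply_eq]
        simp [e1]
      simp only [E, LinearEquiv.trans_apply, TensorProduct.congr_tmul, LinearEquiv.refl_apply, this]
      rw [TensorProduct.quotTensorEquivQuotSMul_mk_tmul, one_smul]
    rw [h1, map_zero] at h2
    have h3 : m ∈ RingHom.ker (Algebra.ofId A B) • (⊤ : Submodule A M) :=
      (Submodule.Quotient.mk_eq_zero _).mp h2.symm
    have h4 : RingHom.ker (Algebra.ofId A B) • (⊤ : Submodule A M) = ⊥ := by
      rw [eq_bot_iff]
      apply Submodule.smul_le.mpr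
      intro a ha n _
      rw [Submodule.mem_bot]
      exact hk a ha n
    rw [h4, Submodule.mem_bot] at h3
    exact h3
  · -- surjective
    intro n
    induction n using hθ.inductionOn with
    | zero => exact ⟨0, map_zero _⟩
    | tmul m => exact ⟨m, rfl⟩
    | smul b n hn =>
      obtain ⟨m, rfl⟩ := hn
      obtain ⟨a, rfl⟩ := hs b
      exact ⟨a • m, by rw [map_smul, algebraMap_smul]⟩
    | add n₁ n₂ h1 h2 =>
      obtain ⟨m₁, rfl⟩ := h1
      obtain ⟨m₂, rfl⟩ := h2
      exact ⟨m₁ + m₂, map_add _ _ _⟩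

end Alg

section Geom

open Scheme.Modules Groth.Agent.Lib.UnitBaseChange

variable {Z X : Scheme.{u}} (i : Z ⟶ X) [IsClosedImmersion i]

set_option backward.isDefEq.respectTransparency false in
/-- For a closed immersion `i` and a quasi-coherent module `F` killed by the ideal of `i`, the unit
`F ⟶ i_* i^* F` is an isomorphism. -/
theorem isIso_unit_of_killedByIdeal (F : X.Modules) [F.IsQuasicoherent]
    (hk : ClSub.KilledByIdeal i.ker F) :
    IsIso ((pullbackPushforwardAdjunction i).unit.app F) := by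
  haveI : ((pushforward i).obj ((Scheme.Modules.pullback i).obj F)).IsQuasicoherent :=
    Groth.Agent.Lib.H90OXModPush.isQuasicoherent_pushforward i _
  refine (Groth.Agent.Lib.H90OXModAffineIso.isIso_iff_forall_affine (N := F)
    (N' := (pushforward i).obj ((Scheme.Modules.pullback i).obj F)) _).mpr ?_
  intro V
  have hV : IsAffineOpen V.1 := V.2
  have hU : IsAffineOpen (i ⁻¹ᵁ V.1) := hV.preimage i
  have hle : i ⁻¹ᵁ V.1 ≤ i ⁻¹ᵁ V.1 := le_rfl
  letI : Algebra Γ(X, V.1) Γ(Z, i ⁻¹ᵁ V.1) := (i.appLE V.1 (i ⁻¹ᵁ V.1) hle).hom.toAlgebra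
  letI : Module Γ(X, V.1) Γ((Scheme.Modules.pullback i).obj F, i ⁻¹ᵁ V.1) :=
    Module.compHom _ (i.appLE V.1 (i ⁻¹ᵁ V.1) hle).hom
  haveI : IsScalarTower Γ(X, V.1) Γ(Z, i ⁻¹ᵁ V.1)
      Γ((Scheme.Modules.pullback i).obj F, i ⁻¹ᵁ V.1) := .of_algebraMap_smul fun _ _ => rfl
  have hθ := isBaseChange_unitSec i F hU hV hle
  have ef : i.appLE V.1 (i ⁻¹ᵁ V.1) hle = i.app V.1 := Scheme.Hom.appLE_eq_app _
  have hAeq : algebraMap Γ(X, V.1) Γ(Z, i ⁻¹ᵁ V.1) = (i.app V.1).hom := by
    rw [← ef]; rfl
  have hbij := bijective_of_isBaseChange_of_killed (A := Γ(X, V.1)) (B := Γ(Z, i ⁻¹ᵁ V.1))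
    (by rw [hAeq]; exact i.app_surjective V.1 hV)
    (fun a ha m => by
      refine hk V a ?_ m
      rw [Scheme.Hom.ker_apply]
      rw [hAeq] at ha
      exact ha) (unitSec i F hle) hθ
  have hfun : ∀ m, unitSec i F hle m =
      ((pullbackPushforwardAdjunction i).unit.app F).app V.1 m := by
    intro m
    rw [unitSec_apply]
    have : (homOfLE hle).op = 𝟙 (op (i ⁻¹ᵁ V.1)) := rfl
    rw [this, CategoryTheory.Functor.map_id]
    rfl
  constructor
  · intro a b hab
    apply hbij.1
    exact ((hfun a).trans hab).trans (hfun b).symm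
  · intro y
    obtain ⟨m, hm⟩ := hbij.2 y
    exact ⟨m, (hfun m).symm.trans hm⟩

/-- A quasi-coherent module of finite type killed by the ideal of a closed immersion `i` is the
pushforward of a quasi-coherent module of finite type. -/
theorem exists_iso_pushforward_of_killedByIdeal (F : X.Modules) (hF : Coh.IsCoh F)
    (hk : ClSub.KilledByIdeal i.ker F) :
    ∃ G : Z.Modules, Coh.IsCoh G ∧ Nonempty ((Scheme.Modules.pushforward i).obj G ≅ F) := by
  haveI : F.IsQuasicoherent := hF.1
  haveI : F.IsFiniteType := hF.2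
  haveI := isIso_unit_of_killedByIdeal i F hk
  refine ⟨(Scheme.Modules.pullback i).obj F, ⟨inferInstance,
    Groth.Agent.Lib.SupportTensor.isFiniteType_pullback i F⟩,
    ⟨(asIso ((pullbackPushforwardAdjunction i).unit.app F)).symm⟩⟩

end Geom

end Groth.Agent.Lib.ClosedImmersionPush
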