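import Mathlib.RingTheory.Ideal.KrullsHeightTheorem
import Mathlib.RingTheory.Ideal.MinimalPrime.Noetherian
import Mathlib.AlgebraicGeometry.Noetherian

/-!
# helper53: closed points of locally Noetherian schemes
(namespace `Groth.Agent.Lib.ClosedPt53`)

* `not_lt_lt_of_forall_mem`: in a Noetherian domain, if a nonzero element lies in all nonzero primes then there
  is no chain `⊥ < P < Q` of primes (Stacks 00PF-type: Goldman domains have dimension ≤ 1).
* `exists_isClosed_specializes`: every point of a locally Noetherian scheme specializes to a closed point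
  (Stacks 02IL).
-/

set_option autoImplicit false
set_option maxHeartbeats 400000
set_option linter.unusedSectionVars false
set_option linter.style.haveILetI false
universe u

namespace Groth.Agent.Lib.ClosedPt53

theorem not_lt_lt_of_forall_mem {C : Type*} [CommRing C] [IsDomain C] [IsNoetherianRing C] (g : C)
    (hg : g ≠ 0) (hall : ∀ q : Ideal C, q.IsPrime → q ≠ ⊥ → g ∈ q) (P Q : Ideal C)
    [hP' : P.IsPrime] [hQ' : Q.IsPrime] (hP : P ≠ ⊥) (hPQ : P < Q) : False := by
  have key : ∀ (p q : Ideal C) [p.IsPrime] [q.IsPrime], p ≠ ⊥ → p < q → (2 : ℕ∞) ≤ q.height := by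
    intro p q _ _ hp hpq
    have h1 : (⊥ : Ideal C).height + 1 ≤ p.height :=
      Ideal.height_add_one_le_of_lt_of_isPrime (bot_lt_iff_ne_bot.mpr hp)
    have h2 := Ideal.height_add_one_le_of_lt_of_isPrime hpq
    calc (2 : ℕ∞) = 0 + 1 + 1 := by norm_num
      _ ≤ (⊥ : Ideal C).height + 1 + 1 := by gcongr; exact zero_le
      _ ≤ p.height + 1 := by gcongr
      _ ≤ q.height := h2
  have h2Q := key P Q hP hPQ
  set I : Ideal C := Ideal.span {g} with hI
  have hfin : I.minimalPrimes.Finite := Ideal.finite_minimalPrimes_of_isNoetherianRing C I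
  have hht : ∀ p ∈ I.minimalPrimes, p.height ≤ 1 := fun p hp =>
    Ideal.height_le_one_of_isPrincipal_of_mem_minimalPrimes I p hp
  have hIP : I ≤ P := by
    rw [hI, Ideal.span_le, Set.singleton_subset_iff]
    exact hall P hP' hP
  obtain ⟨p₀, hp₀, -⟩ := Ideal.exists_minimalPrimes_le hIP
  have hnot : ¬ ((Q : Set C) ⊆ ⋃ p ∈ (↑hfin.toFinset : Set (Ideal C)), ((fun p => p) p : Ideal C)) := by
    intro hsub
    rw [Ideal.subset_union_prime ⊥ ⊥ (fun p hp _ _ => ((hfin.mem_toFinset).mp hp).1.1)] at hsub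
    obtain ⟨p, hp, hQp⟩ := hsub
    have h3 := (Ideal.height_mono hQp).trans (hht p ((hfin.mem_toFinset).mp hp))
    have : (2 : ℕ∞) ≤ 1 := h2Q.trans h3
    norm_num at this
  obtain ⟨h, hhQ, hhn⟩ := Set.not_subset.mp hnot
  have hhn' : ∀ p ∈ I.minimalPrimes, h ∉ p := by
    intro p hp hhp
    apply hhn
    simp only [Set.mem_iUnion]
    exact ⟨p, (hfin.mem_toFinset).mpr hp, hhp⟩
  have hh0 : h ≠ 0 := by
    rintro rfl
    exact hhn' p₀ hp₀ (zero_mem _)
  have hhQ' : Ideal.span {h} ≤ Q := by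
    rw [Ideal.span_le, Set.singleton_subset_iff]
    exact hhQ
  obtain ⟨q, hq, hqQ⟩ := Ideal.exists_minimalPrimes_le hhQ'
  haveI hqprime : q.IsPrime := hq.1.1
  have hqht : q.height ≤ 1 := Ideal.height_le_one_of_isPrincipal_of_mem_minimalPrimes _ q hq
  have hhq : h ∈ q := hq.1.2 (Ideal.subset_span rfl)
  have hq0 : q ≠ ⊥ := by
    intro h0
    rw [h0] at hhq
    exact hh0 ((Ideal.mem_bot).mp hhq)
  have hgq : g ∈ q := hall q hqprime hq0
  have hIq : I ≤ q := by
    rw [hI, Ideal.span_le, Set.singleton_subset_iff]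
    exact hgq
  obtain ⟨p, hp, hpq⟩ := Ideal.exists_minimalPrimes_le hIq
  haveI hpprime : p.IsPrime := hp.1.1
  have hp0 : p ≠ ⊥ := by
    intro h0
    have : g ∈ p := hp.1.2 (Ideal.subset_span rfl)
    rw [h0] at this
    exact hg ((Ideal.mem_bot).mp this)
  have hpq' : p = q := by
    by_contra hne
    have := key p q hp0 (lt_of_le_of_ne hpq hne)
    have : (2 : ℕ∞) ≤ 1 := this.trans hqht
    norm_num at this
  exact hhn' p hp (hpq' ▸ hhq)

end Groth.Agent.Lib.ClosedPt53
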