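import Groth.Agent.Lib.ClosedPt53
import Mathlib.AlgebraicGeometry.AffineScheme
import Mathlib.AlgebraicGeometry.Properties

/-!
# helper53: closed points of locally Noetherian schemes, part 2
(namespace `Groth.Agent.Lib.ClosedPt53`)

* `exists_prime_gt_not_mem`: Noetherian ring `B`, primes `P' < P < Q`, `g ∉ P'`: some prime `q > P'` misses `g`.
* `exists_specializes_ne_mem_open`: the same on `PrimeSpectrum B`, for an open neighbourhood of `p`.
* `exists_isClosed_specializes`: every point of a locally Noetherian scheme specializes to a closed point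
  (Stacks 02IL).
-/

set_option autoImplicit false
set_option maxHeartbeats 400000
set_option linter.unusedSectionVars false
set_option linter.style.haveILetI false
universe u

open AlgebraicGeometry TopologicalSpace

namespace Groth.Agent.Lib.ClosedPt53

theorem exists_prime_gt_not_mem {B : Type*} [CommRing B] [IsNoetherianRing B] (P' P Q : Ideal B)
    [hP' : P'.IsPrime] [hP : P.IsPrime] [hQ : Q.IsPrime] (h1 : P' < P) (h2 : P < Q) (g : B)
    (hg : g ∉ P') : ∃ q : Ideal B, q.IsPrime ∧ P' < q ∧ g ∉ q := by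
  by_contra hcon
  push Not at hcon
  set f := Ideal.Quotient.mk P' with hf
  have hsurj : Function.Surjective f := Ideal.Quotient.mk_surjective
  have hker : RingHom.ker f = P' := Ideal.mk_ker
  have hcm : ∀ I : Ideal B, P' ≤ I → Ideal.comap f (Ideal.map f I) = I := by
    intro I hI
    rw [Ideal.comap_map_of_surjective f hsurj, ← RingHom.ker_eq_comap_bot, hker]
    exact sup_eq_left.mpr hI
  haveI : (Ideal.map f P).IsPrime :=
    Ideal.map_isPrime_of_surjective hsurj (by rw [hker]; exact h1.le)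
  haveI : (Ideal.map f Q).IsPrime :=
    Ideal.map_isPrime_of_surjective hsurj (by rw [hker]; exact (h1.trans h2).le)
  have hPne : Ideal.map f P ≠ ⊥ := by
    intro h0
    have := hcm P h1.le
    rw [h0, ← RingHom.ker_eq_comap_bot, hker] at this
    exact absurd this h1.ne
  have hPQ : Ideal.map f P < Ideal.map f Q := by
    refine lt_of_le_of_ne (Ideal.map_mono h2.le) ?_
    intro h0
    have e1 := hcm P h1.le
    have e2 := hcm Q (h1.trans h2).le
    rw [h0, e2] at e1
    exact absurd e1.symm h2.ne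
  refine not_lt_lt_of_forall_mem (C := B ⧸ P') (f g) ?_ ?_ (Ideal.map f P) (Ideal.map f Q) hPne hPQ
  · intro h0
    exact hg (Ideal.Quotient.eq_zero_iff_mem.mp h0)
  · intro q hq hq0
    haveI := hq
    have hle : P' ≤ Ideal.comap f q := by
      intro b hb
      rw [Ideal.mem_comap]
      have : f b = 0 := Ideal.Quotient.eq_zero_iff_mem.mpr hb
      rw [this]
      exact zero_mem _
    have hne : P' ≠ Ideal.comap f q := by
      intro h0
      apply hq0
      rw [← Ideal.map_comap_of_surjective f hsurj q, ← h0]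
      exact Ideal.map_quotient_self P'
    exact hcon (Ideal.comap f q) inferInstance (lt_of_le_of_ne hle hne)

theorem exists_specializes_ne_mem_open {B : Type*} [CommRing B] [IsNoetherianRing B]
    (p q r : PrimeSpectrum B) (hpq : p ⤳ q) (hqr : q ⤳ r) (hne1 : p ≠ q) (hne2 : q ≠ r)
    (O : Set (PrimeSpectrum B)) (hO : IsOpen O) (hp : p ∈ O) :
    ∃ q', p ⤳ q' ∧ q' ≠ p ∧ q' ∈ O := by
  obtain ⟨_, ⟨g, rfl⟩, hpg, hgO⟩ :=
    PrimeSpectrum.isTopologicalBasis_basic_opens.exists_subset_of_mem_open hp hO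
  have h1 : p.asIdeal < q.asIdeal :=
    (PrimeSpectrum.asIdeal_lt_asIdeal p q).mpr
      (lt_of_le_of_ne ((PrimeSpectrum.le_iff_specializes p q).mpr hpq) hne1)
  have h2 : q.asIdeal < r.asIdeal :=
    (PrimeSpectrum.asIdeal_lt_asIdeal q r).mpr
      (lt_of_le_of_ne ((PrimeSpectrum.le_iff_specializes q r).mpr hqr) hne2)
  obtain ⟨q', hq', hlt, hgq'⟩ := exists_prime_gt_not_mem p.asIdeal q.asIdeal r.asIdeal h1 h2 g hpg
  refine ⟨⟨q', hq'⟩, ?_, ?_, ?_⟩
  · rw [← PrimeSpectrum.le_iff_specializes]
    exact (PrimeSpectrum.asIdeal_le_asIdeal _ _).mp hlt.le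
  · intro h0
    rw [← h0] at hlt
    exact lt_irrefl _ hlt
  · exact hgO hgq'

theorem exists_isClosed_specializes (X : Scheme.{u}) [IsLocallyNoetherian X] (x : X) :
    ∃ z : X, IsClosed ({z} : Set X) ∧ x ⤳ z := by
  obtain ⟨U, hU, hxU, -⟩ :=
    Opens.isBasis_iff_nbhd.mp X.isBasis_affineOpens (show x ∈ (⊤ : X.Opens) from trivial)
  haveI : CompactSpace ↥U := isCompact_iff_compactSpace.mp hU.isCompact
  obtain ⟨x', hx'S, hx'c⟩ := IsClosed.exists_closed_singleton
    (isClosed_closure (s := {(⟨x, hxU⟩ : ↥U)})) ⟨_, subset_closure rfl⟩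
  have hxx' : x ⤳ x'.1 := by
    have := specializes_iff_mem_closure.mpr hx'S
    exact (subtype_specializes_iff _ _).mp this
  have hx'U : ∀ u : X, u ∈ U → x'.1 ⤳ u → u = x'.1 := by
    intro u hu hs
    have h1 : x' ⤳ (⟨u, hu⟩ : ↥U) := (subtype_specializes_iff _ _).mpr hs
    have h2 := specializes_iff_mem_closure.mp h1
    rw [hx'c.closure_eq] at h2
    exact congrArg Subtype.val h2
  by_cases hc : IsClosed ({x'.1} : Set X)
  · exact ⟨x'.1, hc, hxx'⟩
  obtain ⟨y, hx'y, hyne⟩ : ∃ y : X, x'.1 ⤳ y ∧ y ≠ x'.1 := by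
    by_contra hall
    push Not at hall
    apply hc
    rw [← closure_eq_iff_isClosed]
    refine subset_antisymm ?_ subset_closure
    intro y hy
    exact hall y (specializes_iff_mem_closure.mpr hy)
  have hyc : IsClosed ({y} : Set X) := by
    by_contra hyc
    obtain ⟨w, hyw, hwne⟩ : ∃ w : X, y ⤳ w ∧ w ≠ y := by
      by_contra hall
      push Not at hall
      apply hyc
      rw [← closure_eq_iff_isClosed]
      refine subset_antisymm ?_ subset_closure
      intro w hw
      exact hall w (specializes_iff_mem_closure.mpr hw)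
    obtain ⟨W, hW, hwW, -⟩ :=
      Opens.isBasis_iff_nbhd.mp X.isBasis_affineOpens (show w ∈ (⊤ : X.Opens) from trivial)
    have hyW : y ∈ W := hyw.mem_open W.2 hwW
    have hx'W : x'.1 ∈ W := hx'y.mem_open W.2 hyW
    haveI : IsNoetherianRing Γ(X, W) := IsLocallyNoetherian.component_noetherian ⟨W, hW⟩
    have he : Topology.IsOpenEmbedding hW.fromSpec := hW.fromSpec.isOpenEmbedding
    have hr : Set.range hW.fromSpec = (W : Set X) := hW.range_fromSpec
    obtain ⟨p, hp⟩ : x'.1 ∈ Set.range hW.fromSpec := by rw [hr]; exact hx'W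
    obtain ⟨q, hq⟩ : y ∈ Set.range hW.fromSpec := by rw [hr]; exact hyW
    obtain ⟨r, hr'⟩ : w ∈ Set.range hW.fromSpec := by rw [hr]; exact hwW
    have hpq : p ⤳ q := by
      rw [← he.toIsInducing.specializes_iff, hp, hq]; exact hx'y
    have hqr : q ⤳ r := by
      rw [← he.toIsInducing.specializes_iff, hq, hr']; exact hyw
    have hne1 : p ≠ q := by
      rintro rfl
      exact hyne (hq.symm.trans hp)
    have hne2 : q ≠ r := by
      rintro rfl
      exact hwne (hr'.symm.trans hq)
    obtain ⟨q', hpq', hq'ne, hq'O⟩ := exists_specializes_ne_mem_open p q r hpq hqr hne1 hne2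
      (hW.fromSpec ⁻¹' (U : Set X)) (U.2.preimage he.continuous) (by
        change hW.fromSpec p ∈ (U : Set X)
        rw [hp]; exact x'.2)
    have h3 : x'.1 ⤳ hW.fromSpec q' := by
      rw [← hp]; exact (he.toIsInducing.specializes_iff).mpr hpq'
    have h4 := hx'U _ hq'O h3
    rw [← hp] at h4
    exact hq'ne (he.injective h4)
  exact ⟨y, hyc, hxx'.trans hx'y⟩

end Groth.Agent.Lib.ClosedPt53
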