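import Mathlib


set_option autoImplicit false
universe u
open CategoryTheory CategoryTheory.Limits AlgebraicGeometry Topology TopologicalSpace Opposite

namespace Groth.Agent.Lib.ClosedPtIntegral

/-- A morphism from a one-point scheme whose composite to the base is integral has closed image point. -/
theorem isClosed_singleton_of_integral {T U B : Scheme.{u}} [Subsingleton ↥T] (c : T ⟶ U) (π : U ⟶ B)
    [IsIntegralHom (c ≫ π)] (t : ↥T) : IsClosed ({c t} : Set ↥U) := by
  rw [← closure_subset_iff_isClosed]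
  intro u' hu'
  rw [← specializes_iff_mem_closure] at hu'
  obtain ⟨_, ⟨(O : U.Opens), hO, rfl⟩, hu'O, -⟩ :=
    U.isBasis_affineOpens.exists_subset_of_mem_open (Set.mem_univ u') isOpen_univ
  have huO : c t ∈ O := hu'.mem_open O.2 hu'O
  have hrange : Set.range c ⊆ Set.range O.ι := by
    rintro _ ⟨z, rfl⟩
    rw [Subsingleton.elim z t, Scheme.Opens.range_ι]
    exact huO
  let c₀ : T ⟶ O.toScheme := IsOpenImmersion.lift O.ι c hrange
  have hc₀ : c₀ ≫ O.ι = c := IsOpenImmersion.lift_fac _ _ _
  have : IsAffine O.toScheme := hO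
  have h1 : IsIntegralHom (c₀ ≫ (O.ι ≫ π)) := by
    rw [← Category.assoc, hc₀]; infer_instance
  have h2 : IsIntegralHom c₀ := IsIntegralHom.of_comp c₀ (O.ι ≫ π)
  have h3 : IsClosed (Set.range c₀) := c₀.isClosedMap.isClosed_range
  have h4 : Set.range c₀ = {c₀ t} := by
    ext z
    simp only [Set.mem_range, Set.mem_singleton_iff]
    constructor
    · rintro ⟨y, rfl⟩; rw [Subsingleton.elim y t]
    · rintro rfl; exact ⟨t, rfl⟩
  rw [h4] at h3
  obtain ⟨o', ho'⟩ : ∃ o' : ↥O.toScheme, O.ι o' = u' := by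
    have : u' ∈ Set.range O.ι := by rw [Scheme.Opens.range_ι]; exact hu'O
    exact this
  have e1 : O.ι (c₀ t) = c t := by rw [← Scheme.Hom.comp_apply, hc₀]
  have h5 : c₀ t ⤳ o' := by
    rw [← O.ι.isOpenEmbedding.isInducing.specializes_iff, e1, ho']
    exact hu'
  have h6 : o' ∈ closure {c₀ t} := specializes_iff_mem_closure.1 h5
  rw [h3.closure_eq, Set.mem_singleton_iff] at h6
  rw [Set.mem_singleton_iff, ← e1, ← h6, ho']

end Groth.Agent.Lib.ClosedPtIntegral
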