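import Groth.Agent.Lib.ClosedPushExact17
import Groth.Agent.Lib.H78GlobGen
import Groth.Agent.S0484
import Mathlib

/-!
# Direct image along a closed immersion has a right adjoint (helper83)

* `isGrothendieckAbelian_modules` : `X.Modules` is a Grothendieck abelian category (from S0484);
* `pushStalkIso` : `i_* ⋙ stalk_{i z} ≅ stalk_z` for `i` with inducing base map;
* `isIso_sigmaComparison` : `i_*` commutes with coproducts when `i.base` is a closed embedding;
* `preservesColimits_pushforward` : `i_*` preserves all (small) colimits (closed embedding);
* `isLeftAdjoint_pushforward` : `i_*` is a left adjoint (special adjoint functor theorem).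
-/

set_option autoImplicit false
set_option linter.style.haveILetI false
universe u
open CategoryTheory CategoryTheory.Limits AlgebraicGeometry TopologicalSpace Opposite

namespace Groth.Agent.Lib.ClosedPushAdj83

open Groth.Agent.Lib.PushStalk Groth.Agent.Lib.ModStalk Groth.Agent.Lib.ModStalkIso
  Groth.Agent.Lib.ClosedPushExact17

section Abstract

universe v₁ v₂ v₃ u₁ u₂ u₃ w

variable {C : Type u₁} [Category.{v₁} C] {D : Type u₂} [Category.{v₂} D] {E : Type u₃}
  [Category.{v₃} E] (G : C ⥤ D) (S : D ⥤ E) {β : Type w} (f : β → C)
  [HasCoproduct f] [HasCoproduct fun b => G.obj (f b)]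
  [HasCoproduct fun b => S.obj (G.obj (f b))] [HasCoproduct fun b => (G ⋙ S).obj (f b)]

lemma sigmaComparison_comp :
    sigmaComparison S (fun b => G.obj (f b)) ≫ S.map (sigmaComparison G f) =
      sigmaComparison (G ⋙ S) f := by
  apply Sigma.hom_ext
  intro b
  rw [ι_comp_sigmaComparison_assoc, ← S.map_comp, ι_comp_sigmaComparison]
  exact (ι_comp_sigmaComparison (G ⋙ S) f b).symm

lemma isIso_map_sigmaComparison [PreservesColimit (Discrete.functor f) (G ⋙ S)]
    [PreservesColimit (Discrete.functor fun b => G.obj (f b)) S] :
    IsIso (S.map (sigmaComparison G f)) := by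
  have h := sigmaComparison_comp G S f
  haveI : IsIso (sigmaComparison S (fun b => G.obj (f b)) ≫ S.map (sigmaComparison G f)) := by
    rw [h]; infer_instance
  exact IsIso.of_isIso_comp_left (sigmaComparison S (fun b => G.obj (f b))) _

end Abstract

/-- `X.Modules` is a Grothendieck abelian category. -/
instance isGrothendieckAbelian_modules (X : Scheme.{u}) : IsGrothendieckAbelian.{u} X.Modules :=
  Groth.Agent.S0484.result (Opens.grothendieckTopology X) X.ringCatSheaf

variable {Z X : Scheme.{u}} (i : Z ⟶ X)

/-- `i_* ⋙ stalk_{i z} ≅ stalk_z` for `i` with inducing base map. -/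
noncomputable def pushStalkIso (hi : Topology.IsInducing i.base) (z : Z) :
    Scheme.Modules.pushforward i ⋙ stalkFunctor (i z) ≅ stalkFunctor z :=
  NatIso.ofComponents
    (fun M => (AddEquiv.ofBijective (pushStalkHom i M z)
      (pushStalkHom_bijective i M hi z)).toAddCommGrpIso)
    (fun {M N} φ => by
      ext ξ
      exact pushStalkHom_naturality i φ z ξ)

/-- `i_*` commutes with coproducts when `i.base` is a closed embedding. -/
theorem isIso_sigmaComparison (hi : Topology.IsClosedEmbedding i.base) {κ : Type u}
    (M : κ → Z.Modules) : IsIso (sigmaComparison (Scheme.Modules.pushforward i) M) := by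
  apply isIso_of_stalk_bijective
  intro y
  suffices h : IsIso ((stalkFunctor y).map (sigmaComparison (Scheme.Modules.pushforward i) M)) from
    ConcreteCategory.bijective_of_isIso _
  by_cases hy : y ∈ Set.range i
  · obtain ⟨z, rfl⟩ := hy
    haveI : PreservesColimit (Discrete.functor M)
        (Scheme.Modules.pushforward i ⋙ stalkFunctor (i z)) :=
      preservesColimit_of_natIso _ (pushStalkIso i hi.isInducing z).symm
    exact isIso_map_sigmaComparison (Scheme.Modules.pushforward i) (stalkFunctor (i z)) M
  · have hy' : y ∉ closure (Set.range i) := by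
      rwa [hi.isClosed_range.closure_eq]
    have hz : ∀ N : Z.Modules, IsZero ((stalkFunctor y).obj ((Scheme.Modules.pushforward i).obj N)) :=
      fun N => by
        haveI : Subsingleton ↑((stalkFunctor y).obj ((Scheme.Modules.pushforward i).obj N)) :=
          subsingleton_stalk_push_of_notMem_closure_range i N y hy'
        exact AddCommGrpCat.isZero_of_subsingleton _
    have htarget := hz (∐ M)
    have hsource : IsZero ((stalkFunctor y).obj
        (∐ fun a => (Scheme.Modules.pushforward i).obj (M a))) := by
      have h0 : IsZero (∐ fun a => (stalkFunctor y).obj ((Scheme.Modules.pushforward i).obj (M a))) := by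
        rw [IsZero.iff_id_eq_zero]
        apply Sigma.hom_ext
        intro a
        exact (hz (M a)).eq_of_src _ _
      exact h0.of_iso (PreservesCoproduct.iso (stalkFunctor y)
        (fun a => (Scheme.Modules.pushforward i).obj (M a)))
    exact ⟨0, hsource.eq_of_src _ _, htarget.eq_of_tgt _ _⟩

/-- `i_*` preserves all small colimits when `i.base` is a closed embedding. -/
theorem preservesColimits_pushforward (hi : Topology.IsClosedEmbedding i.base) :
    PreservesColimitsOfSize.{u, u} (Scheme.Modules.pushforward i) := by
  haveI := preservesFiniteColimits_pushforward i hi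
  haveI : ∀ J : Type u, PreservesColimitsOfShape (Discrete J) (Scheme.Modules.pushforward i) :=
    fun J => ⟨fun {K} => by
      haveI : IsIso (sigmaComparison (Scheme.Modules.pushforward i) (fun j => K.obj ⟨j⟩)) :=
        isIso_sigmaComparison i hi _
      have h1 : PreservesColimit (Discrete.functor fun j => K.obj ⟨j⟩)
          (Scheme.Modules.pushforward i) :=
        PreservesCoproduct.of_iso_comparison (Scheme.Modules.pushforward i) (fun j => K.obj ⟨j⟩)
      have h2 : PreservesColimit (Discrete.functor (K.obj ∘ Discrete.mk))
          (Scheme.Modules.pushforward i) := h1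
      exact preservesColimit_of_iso_diagram _ Discrete.natIsoFunctor.symm⟩
  exact preservesColimits_of_preservesCoequalizers_and_coproducts _

/-- `i_*` is a left adjoint when `i.base` is a closed embedding. -/
theorem isLeftAdjoint_pushforward (hi : Topology.IsClosedEmbedding i.base) :
    (Scheme.Modules.pushforward i).IsLeftAdjoint := by
  haveI := preservesColimits_pushforward i hi
  obtain ⟨G, hG⟩ := (inferInstance : HasSeparator Z.Modules)
  exact isLeftAdjoint_of_preservesColimits_of_isSeparating (P := ObjectProperty.singleton G) hG _

end Groth.Agent.Lib.ClosedPushAdj83
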