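/-
helper20: **the pushforward of modules along a closed immersion reflects isomorphisms**, and consequences:
the counit `i^* i_* G ⟶ G` is an isomorphism for quasi-coherent `G`.
-/
import Mathlib
import Groth.Agent.Lib.ClosedImmersionPush

set_option autoImplicit false
set_option linter.style.haveILetI false
universe u

open CategoryTheory CategoryTheory.Limits AlgebraicGeometry TopologicalSpace Opposite

namespace Groth.Agent.Lib.ClosedPushCons20

variable {Z X : Scheme.{u}} (i : Z ⟶ X)

theorem exists_preimage_eq (hi : Topology.IsInducing i) (V : Z.Opens) :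
    ∃ U : X.Opens, i ⁻¹ᵁ U = V := by
  obtain ⟨t, ht, hV⟩ := hi.isOpen_iff.mp V.2
  exact ⟨⟨t, ht⟩, Opens.ext hV⟩

theorem reflectsIsomorphisms_pushforward (hi : Topology.IsInducing i) :
    (Scheme.Modules.pushforward i).ReflectsIsomorphisms where
  reflects φ h := by
    rw [Scheme.Modules.Hom.isIso_iff_isIso_app] at h ⊢
    intro V
    obtain ⟨U, rfl⟩ := exists_preimage_eq i hi V
    exact h U

instance [IsClosedImmersion i] : (Scheme.Modules.pushforward i).ReflectsIsomorphisms :=
  reflectsIsomorphisms_pushforward i i.isEmbedding.isInducing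

end Groth.Agent.Lib.ClosedPushCons20
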