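import Groth.Prelude.Def_CohTop
import Mathlib.Topology.Sheaves.LocallySurjective
import Mathlib.Algebra.Homology.ShortComplex.ExactFunctor
import Mathlib.Algebra.Category.Grp.Zero

/-!
# Exact functors have no higher derived functors; pushforward along closed embeddings is exact

* `isZero_rightDerived_succ_of_exact` : `R^{q+1} F = 0` for an additive exact functor `F`.
* `preservesFiniteColimits_of_preservesEpi` : additive + left exact + preserves epis ⇒ right exact.
* `epi_push` : `CohTop.push f` preserves epimorphisms when `f` is a closed embedding.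
* `preservesFiniteLimits_push`, `preservesFiniteColimits_push`.
-/

set_option autoImplicit false
universe u
open CategoryTheory CategoryTheory.Limits
open CohTop

namespace Groth.Agent.Lib.H60ExactDerived

section General

universe v₁ u₁ v₂ u₂

/-- Higher right derived functors of an exact functor vanish. -/
lemma isZero_rightDerived_succ_of_exact {C : Type u₁} [Category.{v₁} C] [Abelian C]
    [HasInjectiveResolutions C] {D : Type u₂} [Category.{v₂} D] [Abelian D]
    (F : C ⥤ D) [F.Additive] [hl : PreservesFiniteLimits F] [hc : PreservesFiniteColimits F]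
    (X : C) (q : ℕ) : IsZero ((F.rightDerived (q + 1)).obj X) := by
  have hF : F.PreservesHomology := by
    have h := (Functor.exact_tfae F).out 3 2
    exact h.mp ⟨hl, hc⟩
  let I := injectiveResolution X
  refine IsZero.of_iso ?_ (I.isoRightDerivedObj F (q + 1))
  have hex : (I.cocomplex.sc (q + 1)).Exact := I.cocomplex_exactAt_succ q
  have hex' : (((F.mapHomologicalComplex _).obj I.cocomplex).sc (q + 1)).Exact := hex.map F
  exact (HomologicalComplex.exactAt_iff_isZero_homology _ _).mp hex'

/-- An additive left exact functor preserving epimorphisms is right exact. -/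
lemma preservesFiniteColimits_of_preservesEpi {C : Type u₁} [Category.{v₁} C] [Abelian C]
    {D : Type u₂} [Category.{v₂} D] [Abelian D]
    (F : C ⥤ D) [F.Additive] [hl : PreservesFiniteLimits F]
    (hepi : ∀ {X Y : C} (f : X ⟶ Y), Epi f → Epi (F.map f)) : PreservesFiniteColimits F := by
  rw [Functor.preservesFiniteColimits_iff_forall_exact_map_and_epi]
  intro S hS
  have := hS.epi_g
  exact ⟨(((Functor.preservesFiniteLimits_iff_forall_exact_map_and_mono F).mp hl) S hS).1,
    hepi S.g inferInstance⟩

end General

open TopologicalSpace Opposite in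
/-- Direct image along a closed embedding preserves epimorphisms of abelian sheaves. -/
lemma epi_push {X Y : TopCat.{u}} (f : X ⟶ Y) (hf : Topology.IsClosedEmbedding f)
    {F G : CohTop.Ab X} (φ : F ⟶ G) (hφ : Epi φ) : Epi ((CohTop.push f).map φ) := by
  have hφ' : TopCat.Presheaf.IsLocallySurjective φ.hom :=
    (TopCat.Sheaf.isLocallySurjective_iff_epi (F := F) (G := G) φ).mpr hφ
  refine (TopCat.Sheaf.isLocallySurjective_iff_epi
    (F := (CohTop.push f).obj F) (G := (CohTop.push f).obj G) ((CohTop.push f).map φ)).mp ?_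
  rw [TopCat.Presheaf.isLocallySurjective_iff] at hφ' ⊢
  intro V t y hyV
  by_cases hy : y ∈ Set.range f
  · obtain ⟨x, rfl⟩ := hy
    obtain ⟨U', hU'V, ⟨s', hs'⟩, hxU'⟩ := hφ' ((Opens.map f).obj V) t x hyV
    obtain ⟨W', hW'open, hW'⟩ := hf.isInducing.isOpen_iff.mp U'.2
    let W : Opens Y := ⟨W', hW'open⟩ ⊓ V
    have hW'' : ∀ z : X, f z ∈ W' ↔ z ∈ U' := fun z => Set.ext_iff.mp hW' z
    have hWU' : (Opens.map f).obj W = U' := by
      ext z
      change (f z ∈ W' ∧ f z ∈ V) ↔ z ∈ U'
      constructor
      · rintro ⟨h1, -⟩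
        exact (hW'' z).mp h1
      · intro hz
        exact ⟨(hW'' z).mpr hz, hU'V hz⟩
    refine ⟨W, inf_le_right, ⟨F.obj.map (eqToHom hWU').op s', ?_⟩, ?_⟩
    · change φ.hom.app (op ((Opens.map f).obj W)) (F.obj.map (eqToHom hWU').op s') =
        G.obj.map ((Opens.map f).map (homOfLE (inf_le_right : W ≤ V))).op t
      have hnat := congrArg (fun ψ => ψ s')
        (congrArg ConcreteCategory.hom (φ.hom.naturality (eqToHom hWU').op))
      simp only [ConcreteCategory.comp_apply] at hnat
      refine hnat.trans ?_
      rw [hs']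
      change G.obj.map (eqToHom hWU').op (G.obj.map (homOfLE hU'V).op t) = _
      rw [← ConcreteCategory.comp_apply, ← Functor.map_comp]
      rfl
    · exact ⟨(hW'' x).mpr hxU', hyV⟩
  · let W : Opens Y := V ⊓ ⟨(Set.range f)ᶜ, hf.isClosed_range.isOpen_compl⟩
    have hWbot : (Opens.map f).obj W = ⊥ := by
      ext z
      change (f z ∈ V ∧ f z ∉ Set.range f) ↔ z ∈ (⊥ : Opens X)
      constructor
      · rintro ⟨-, h⟩
        exact absurd ⟨z, rfl⟩ h
      · intro h
        exact absurd h (by simp)
    have hsub : Subsingleton (G.obj.obj (op ((Opens.map f).obj W))) :=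
      AddCommGrpCat.subsingleton_of_isZero
        (TopCat.Sheaf.isTerminalOfEqEmpty (C := AddCommGrpCat.{u}) G hWbot).isZero
    exact ⟨W, inf_le_left, ⟨0, @Subsingleton.elim _ hsub _ _⟩, hyV, hy⟩

lemma preservesFiniteLimits_push {X Y : TopCat.{u}} (f : X ⟶ Y) :
    PreservesFiniteLimits (CohTop.push f) := by
  have : (CohTop.push f).IsRightAdjoint :=
    (TopCat.Sheaf.pullbackPushforwardAdjunction AddCommGrpCat.{u} f).isRightAdjoint
  infer_instance

lemma preservesFiniteColimits_push {X Y : TopCat.{u}} (f : X ⟶ Y)
    (hf : Topology.IsClosedEmbedding f) : PreservesFiniteColimits (CohTop.push f) :=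
  haveI := preservesFiniteLimits_push f
  preservesFiniteColimits_of_preservesEpi (CohTop.push f) (fun φ hφ => epi_push f hf φ hφ)

end Groth.Agent.Lib.H60ExactDerived
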