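import Groth.Agent.Lib.PushStalk
import Groth.Agent.Lib.ModStalkIso
import Groth.Agent.Lib.H60ExactDerived

/-!
# Direct image along a closed embedding is exact on `O`-modules (helper17)

* `pushStalkHom_naturality` : naturality of `PushStalk.pushStalkHom` in the module;
* `epi_pushforward_map` : `f_*` preserves epimorphisms when `f.base` is a closed embedding;
* `preservesFiniteLimits_pushforward`, `preservesFiniteColimits_pushforward` (closed embedding);
* instances for closed immersions.
-/

set_option autoImplicit false
universe u
open CategoryTheory CategoryTheory.Limits AlgebraicGeometry TopologicalSpace Opposite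

namespace Groth.Agent.Lib.ClosedPushExact17

open Groth.Agent.Lib.PushStalk Groth.Agent.Lib.ModStalk Groth.Agent.Lib.ModStalkIso

variable {Z X : Scheme.{u}} (f : Z ⟶ X)

theorem pushStalkHom_naturality {M N : Z.Modules} (φ : M ⟶ N) (z : Z)
    (ξ : ((Scheme.Modules.pushforward f).obj M).presheaf.stalk (f z)) :
    pushStalkHom f N z ((stalkFunctor (f z)).map ((Scheme.Modules.pushforward f).map φ) ξ) =
      (stalkFunctor z).map φ (pushStalkHom f M z ξ) := by
  obtain ⟨V, hzV, s, rfl⟩ :=
    TopCat.Presheaf.exists_germ_eq ((Scheme.Modules.pushforward f).obj M).presheaf ξ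
  rw [pushStalkHom_germ]
  rw [stalkFunctor_map, stalkFunctor_map]
  erw [TopCat.Presheaf.stalkFunctor_map_germ_apply, TopCat.Presheaf.stalkFunctor_map_germ_apply]
  exact pushStalkHom_germ f N z V hzV _

/-- Direct image along a morphism whose underlying map is a closed embedding preserves
epimorphisms of `O`-modules. -/
theorem epi_pushforward_map (hf : Topology.IsClosedEmbedding f.base) {M N : Z.Modules}
    (φ : M ⟶ N) [Epi φ] : Epi ((Scheme.Modules.pushforward f).map φ) := by
  apply epi_of_stalk_surjective
  intro y
  by_cases hy : y ∈ Set.range f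
  · obtain ⟨z, rfl⟩ := hy
    intro η
    obtain ⟨η', hη'⟩ := (pushStalkHom_bijective f N hf.isInducing z).2
      ((pushStalkHom f N z) η)
    obtain ⟨ξ, hξ⟩ := stalk_surjective_of_epi φ z (pushStalkHom f N z η)
    obtain ⟨ξ', hξ'⟩ := (pushStalkHom_bijective f M hf.isInducing z).2 ξ
    refine ⟨ξ', ?_⟩
    apply (pushStalkHom_bijective f N hf.isInducing z).1
    rw [pushStalkHom_naturality, hξ', hξ]
  · have hy' : y ∉ closure (Set.range f) := by
      rwa [hf.isClosed_range.closure_eq]
    have hs : Subsingleton ((stalkFunctor y).obj ((Scheme.Modules.pushforward f).obj N)) :=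
      subsingleton_stalk_push_of_notMem_closure_range f N y hy'
    intro η
    exact ⟨0, hs.elim _ _⟩

theorem preservesFiniteColimits_pushforward (hf : Topology.IsClosedEmbedding f.base) :
    PreservesFiniteColimits (Scheme.Modules.pushforward f) :=
  Groth.Agent.Lib.H60ExactDerived.preservesFiniteColimits_of_preservesEpi _
    (fun φ _ => epi_pushforward_map f hf φ)

noncomputable instance preservesFiniteColimits_pushforward_of_isClosedImmersion
    [IsClosedImmersion f] : PreservesFiniteColimits (Scheme.Modules.pushforward f) :=
  preservesFiniteColimits_pushforward f f.isClosedEmbedding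

end Groth.Agent.Lib.ClosedPushExact17
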