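import Groth.Agent.Lib.FlatAmp2
import Groth.Agent.Lib.DPeelTop
import Groth.Agent.Lib.DDevissage

/-!
# Calculus of flat amplitude in `D(A)`, part 3: dévissage

Namespace `Groth.Agent.Lib.FlatAmp`.

* `bounded_termwise_devissage`: (any abelian category) an extension-closed property of objects of
  `D(C)` which holds for zero objects and all `K^i[-i]` holds for `Q K` when `K` is bounded.
* `hasTorAmplitudeIn_iff_pa`, the instance that `PA P a b` is closed under isomorphisms.
* `pa_fl_of_terms`, `pa_fl_of_homology`: flat amplitude from the terms / the cohomology modules.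
-/

set_option autoImplicit false
universe u

open CategoryTheory CategoryTheory.Limits Category

namespace Groth.Agent.Lib.FlatAmp

open Groth.Agent.Lib.DRingPCoh21 Groth.Agent.Lib.DRingPerfAmp Groth.Agent.Lib.PCohAmp

section General

variable {C : Type*} [Category C] [Abelian C] [HasDerivedCategory C]

open DerivedCategory Pretriangulated

instance (P : ObjectProperty C) (a b : ℤ) : (PA P a b).IsClosedUnderIsomorphisms :=
  ⟨fun e h => pa_of_iso e h⟩

/-- Termwise dévissage for bounded complexes. -/
theorem bounded_termwise_devissage (W : ObjectProperty (DerivedCategory C))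
    [W.IsClosedUnderIsomorphisms]
    (hext : ∀ T ∈ distTriang (DerivedCategory C), W T.obj₁ → W T.obj₃ → W T.obj₂)
    (hzero : ∀ Z : DerivedCategory C, IsZero Z → W Z)
    (K : CochainComplex C ℤ) (c d : ℤ) (hK : ∀ i : ℤ, i < c ∨ d < i → IsZero (K.X i))
    (hterms : ∀ (i : ℤ) (X : C), Nonempty (X ≅ K.X i) → W ((singleFunctor C i).obj X)) :
    W (Q.obj K) := by
  suffices ∀ (k : ℕ) (K : CochainComplex C ℤ) (d : ℤ), (∀ i : ℤ, i < c ∨ d < i → IsZero (K.X i)) →
      d < c + k → (∀ (i : ℤ) (X : C), Nonempty (X ≅ K.X i) →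
        W ((singleFunctor C i).obj X)) → W (Q.obj K) by
    obtain ⟨k, hk⟩ : ∃ k : ℕ, d < c + k := ⟨(d - c + 1).toNat, by lia⟩
    exact this k K d hK hk hterms
  intro k
  induction k with
  | zero =>
    intro K d hK hd _
    have hE : IsZero K := by
      rw [IsZero.iff_id_eq_zero]
      ext i : 1
      exact (hK i (by simp at hd; lia)).eq_of_src _ _
    exact hzero _ (Q.map_isZero hE)
  | succ k ih =>
    intro K d hK hd hterms
    obtain ⟨K', T, hT, ⟨e₁⟩, ⟨e₂⟩, ⟨e₃⟩, h0, hiso⟩ :=
      Groth.Agent.Lib.DPeelTop.exists_peel_top K d (fun i hi => hK i (Or.inr hi))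
    refine W.prop_of_iso e₂ (hext T hT ?_ ?_)
    · exact W.prop_of_iso e₁.symm (hterms d (K.X d) ⟨Iso.refl _⟩)
    · refine W.prop_of_iso e₃.symm (ih K' (d - 1) (fun i hi => ?_) (by push_cast at hd; lia) ?_)
      · rcases hi with hi | hi
        · by_cases hid : i < d
          · obtain ⟨e'⟩ := hiso i hid
            exact (hK i (Or.inl hi)).of_iso e'
          · exact h0 i (by lia)
        · exact h0 i (by lia)
      · intro i X ⟨e⟩
        by_cases hid : i < d
        · obtain ⟨e'⟩ := hiso i hid
          exact hterms i X ⟨e ≪≫ e'⟩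
        · have hX : IsZero X := (h0 i (by lia)).of_iso e
          exact hzero _ ((singleFunctor C i).map_isZero hX)

end General

variable (A : Type u) [CommRing A]

attribute [local instance] HasDerivedCategory.standard

lemma hasTorAmplitudeIn_iff_pa (a b : ℤ) (K : Dual.D A) :
    DRing.HasTorAmplitudeIn A a b K ↔ PA (FL A) a b K := by
  constructor
  · rintro ⟨E, h1, h2, h3⟩
    exact ⟨E, h2, h1, h3⟩
  · rintro ⟨E, h1, h2, h3⟩
    exact ⟨E, h2, h1, h3⟩

/-- `X[-j]` has flat amplitude in `[a, b]` if `X[0]` has flat amplitude in `[a - j, b - j]`. -/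
lemma pa_single_shift {P : ObjectProperty (ModuleCat.{u} A)} {a b j : ℤ} (X : ModuleCat.{u} A)
    (h : PA P (a - j) (b - j) ((DerivedCategory.singleFunctor (ModuleCat.{u} A) 0).obj X)) :
    PA P a b ((DerivedCategory.singleFunctor (ModuleCat.{u} A) j).obj X) := by
  have h1 := pa_shift h (-j)
  have e : ((DerivedCategory.singleFunctor (ModuleCat.{u} A) 0).obj X)⟦-j⟧ ≅
      (DerivedCategory.singleFunctor (ModuleCat.{u} A) j).obj X :=
    ((DerivedCategory.singleFunctors (ModuleCat.{u} A)).shiftIso (-j) j 0 (by simp)).app X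
  exact pa_mono (by lia) (by lia) (pa_of_iso e h1)

/-- flat amplitude from the terms of a bounded complex -/
theorem pa_fl_of_terms (a b : ℤ) (K : CochainComplex (ModuleCat.{u} A) ℤ) (c d : ℤ)
    (hcd : ∀ i : ℤ, i < c ∨ d < i → IsZero (K.X i))
    (hK : ∀ i : ℤ, PA (FL A) (a - i) (b - i)
      ((DerivedCategory.singleFunctor (ModuleCat.{u} A) 0).obj (K.X i))) :
    PA (FL A) a b (DerivedCategory.Q.obj K) := by
  refine bounded_termwise_devissage (PA (FL A) a b) (fun T hT => pa_fl_ext A a b T hT)
    (fun Z hZ => pa_of_isZero A a b hZ) K c d hcd ?_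
  rintro i X ⟨e⟩
  exact pa_single_shift A X
    (pa_of_iso ((DerivedCategory.singleFunctor (ModuleCat.{u} A) 0).mapIso e.symm) (hK i))

/-- flat amplitude from the cohomology modules of a cohomologically bounded object -/
theorem pa_fl_of_homology (a b : ℤ) (K : DerivedCategory (ModuleCat.{u} A)) (c d : ℤ)
    (hcd : ∀ i : ℤ, i < c ∨ d < i →
      IsZero ((DerivedCategory.homologyFunctor (ModuleCat.{u} A) i).obj K))
    (hK : ∀ i : ℤ, PA (FL A) (a - i) (b - i)
      ((DerivedCategory.singleFunctor (ModuleCat.{u} A) 0).obj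
        ((DerivedCategory.homologyFunctor (ModuleCat.{u} A) i).obj K))) :
    PA (FL A) a b K := by
  have h1 : K.IsGE c := by
    rw [DerivedCategory.isGE_iff]
    exact fun i hi => hcd i (Or.inl hi)
  have h2 : K.IsLE d := by
    rw [DerivedCategory.isLE_iff]
    exact fun i hi => hcd i (Or.inr hi)
  exact Groth.Agent.Lib.DDevissage.devissage (PA (FL A) a b)
    (fun T hT => pa_fl_ext A a b T hT) (fun Z hZ => pa_of_isZero A a b hZ) K c d
    (fun j _ _ => pa_single_shift A _ (hK j))

end Groth.Agent.Lib.FlatAmp
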