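import Groth.Agent.Lib.CohLocal
import Groth.Agent.Lib.ModStalk
import Groth.Agent.Lib.ModPullback
import Mathlib.Algebra.Homology.DerivedCategory.TStructure

/-!
# Perfect complexes on Noetherian schemes have coherent cohomology and are bounded
-/

set_option autoImplicit false
universe u

open CategoryTheory CategoryTheory.Limits AlgebraicGeometry TopologicalSpace Opposite
attribute [local instance] HasDerivedCategory.standard

namespace Groth.Agent.Lib.PerfectCoh

open Groth.Agent.Lib.CohLocal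

variable {X : Scheme.{u}}

/-- A module whose restrictions to the members of an open cover vanish is zero. -/
theorem isZero_of_forall_restrict (M : X.Modules)
    (h : ∀ x : X, ∃ V : X.Opens, x ∈ V ∧ IsZero (M.restrict V.ι)) : IsZero M := by
  refine Groth.Agent.Lib.ModPullback.isZero_of_forall_subsingleton_stalk M fun y => ?_
  obtain ⟨V, hyV, hV⟩ := h y
  exact Groth.Agent.Lib.ModStalk.subsingleton_stalk_of_isZero_restrict M V hV y hyV

/-- The cohomology sheaf of the class of a complex is its homology. -/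
noncomputable def HDIso (F : CochainComplex X.Modules ℤ) (i : ℤ) :
    DCoh.HD (DCoh.toD X F) i ≅ F.homology i :=
  (DerivedCategory.homologyFunctorFactors X.Modules i).app F

/-- If `E ≅ Q F` and `Q (F|_V) ≅ Q P` then `H^i(E)|_V ≅ H^i(P)`. -/
theorem nonempty_restrict_HD_iso {E : DCoh.D X} {F : CochainComplex X.Modules ℤ}
    (e : DCoh.toD X F ≅ E) (V : X.Opens) (P : CochainComplex (V : Scheme.{u}).Modules ℤ)
    (e' : DerivedCategory.Q.obj ((DCoh.restrictCx V).obj F) ≅ DerivedCategory.Q.obj P) (i : ℤ) :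
    Nonempty ((DCoh.HD E i).restrict V.ι ≅ P.homology i) := by
  have e1 : DCoh.HD E i ≅ F.homology i :=
    (DerivedCategory.homologyFunctor X.Modules i).mapIso e.symm ≪≫ HDIso F i
  have e2 : (F.homology i).restrict V.ι ≅ P.homology i :=
    (restrictHomologyIso V F i).symm ≪≫ (HDIso ((DCoh.restrictCx V).obj F) i).symm ≪≫
      (DerivedCategory.homologyFunctor (V : Scheme.{u}).Modules i).mapIso e' ≪≫ HDIso P i
  exact ⟨(Scheme.Modules.restrictFunctor V.ι).mapIso e1 ≪≫ e2⟩

theorem isZero_homology_of_vanishesOutside {Y : Scheme.{u}} (P : CochainComplex Y.Modules ℤ)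
    {a b : ℤ} (h : DCoh.VanishesOutside P a b) (i : ℤ) (hi : i < a ∨ b < i) :
    IsZero (P.homology i) :=
  ShortComplex.isZero_homology_of_isZero_X₂ _ (h i hi)

/-- **Perfect objects on a Noetherian scheme have coherent cohomology and are bounded.** -/
theorem isCohD_and_bounded_of_isPerfect [IsNoetherian X] (E : DCoh.D X) (hE : DCoh.IsPerfect E) :
    DCoh.IsCohD E ∧ ∃ a b : ℤ, E.IsGE a ∧ E.IsLE b := by
  let F : CochainComplex X.Modules ℤ := DerivedCategory.Q.objPreimage E
  let e : DCoh.toD X F ≅ E := DerivedCategory.Q.objObjPreimageIso E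
  have key : ∀ x : X, ∃ (V : X.Opens) (P : CochainComplex (V : Scheme.{u}).Modules ℤ) (a b : ℤ),
      x ∈ V ∧ DCoh.IsStrictlyPerfect P ∧ DCoh.VanishesOutside P a b ∧
      ∀ i, Nonempty ((DCoh.HD E i).restrict V.ι ≅ P.homology i) := by
    intro x
    obtain ⟨V, hxV, hV⟩ := hE x
    obtain ⟨P, hP, ⟨e'⟩⟩ := hV F ⟨e⟩
    obtain ⟨a, b, hab⟩ := hP.1
    exact ⟨V, P, a, b, hxV, hP, hab, fun i => nonempty_restrict_HD_iso e V P e' i⟩
  choose V P a b hxV hP hab hiso using key
  refine ⟨fun i => ?_, ?_⟩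
  · refine isCoh_of_forall_restrict_opens _ fun x => ⟨V x, hxV x, ?_⟩
    obtain ⟨ei⟩ := hiso x i
    exact isCoh_of_iso ei.symm (isCoh_homology_of_isStrictlyPerfect (P x) (hP x) i)
  · obtain ⟨t, ht⟩ := CompactSpace.elim_nhds_subcover (fun x => (V x : Set X))
      (fun x => (V x).isOpen.mem_nhds (hxV x))
    obtain ⟨B, hB⟩ := (t.image b).exists_le
    obtain ⟨A, hA⟩ := (t.image fun x => -a x).exists_le
    have hcov : ∀ y : X, ∃ x ∈ t, y ∈ V x := by
      intro y
      have : y ∈ ⋃ x ∈ t, (V x : Set X) := ht ▸ Set.mem_univ y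
      simpa using this
    refine ⟨-A, B, ?_, ?_⟩
    · rw [DerivedCategory.isGE_iff]
      intro i hi
      refine isZero_of_forall_restrict _ fun y => ?_
      obtain ⟨x, hxt, hyx⟩ := hcov y
      obtain ⟨ei⟩ := hiso x i
      have hAx : -a x ≤ A := hA _ (Finset.mem_image_of_mem _ hxt)
      exact ⟨V x, hyx, (isZero_homology_of_vanishesOutside (P x) (hab x) i
        (Or.inl (by omega))).of_iso ei⟩
    · rw [DerivedCategory.isLE_iff]
      intro i hi
      refine isZero_of_forall_restrict _ fun y => ?_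
      obtain ⟨x, hxt, hyx⟩ := hcov y
      obtain ⟨ei⟩ := hiso x i
      have hBx : b x ≤ B := hB _ (Finset.mem_image_of_mem _ hxt)
      exact ⟨V x, hyx, (isZero_homology_of_vanishesOutside (P x) (hab x) i
        (Or.inr (by omega))).of_iso ei⟩

end Groth.Agent.Lib.PerfectCoh
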