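import Groth.Agent.Lib.PseudoCohD
import Mathlib.Algebra.Homology.Double
import Mathlib.Algebra.Homology.SingleHomology

/-!
# Pseudo-coherence of a module placed in degree `0`
-/

set_option autoImplicit false
universe u

open CategoryTheory CategoryTheory.Limits AlgebraicGeometry

namespace Groth.Agent.Lib.PseudoCohSingle

section Abstract

variable {C : Type*} [Category C] [Abelian C]

lemma isIso_of_isZero {A B : C} (hA : IsZero A) (hB : IsZero B) (f : A ⟶ B) : IsIso f :=
  ⟨⟨0, hA.eq_of_src _ _, hB.eq_of_src _ _⟩⟩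

omit [Abelian C] in
lemma epi_of_isZero_tgt {A B : C} (hB : IsZero B) (f : A ⟶ B) : Epi f :=
  ⟨fun _ _ _ => hB.eq_of_src _ _⟩

lemma isZero_homology_of_isZero_X (E : CochainComplex C ℤ) (i : ℤ) (h : IsZero (E.X i)) :
    IsZero (E.homology i) :=
  ShortComplex.isZero_homology_of_isZero_X₂ _ h

variable {E : CochainComplex C ℤ} {F : C} (π : E.X 0 ⟶ F)
  (hπ : E.d (-1) 0 ≫ π = 0)

/-- The chain map `E ⟶ F[0]` defined by `π : E^0 ⟶ F`. -/
noncomputable def toSingle : E ⟶ (HomologicalComplex.single C (ComplexShape.up ℤ) 0).obj F :=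
  HomologicalComplex.mkHomToSingle π (fun i hi => by
    have : i = -1 := by
      have h : i + 1 = 0 := hi
      omega
    subst this
    exact hπ)

lemma isIso_homologyMap_toSingle_of_ne (i : ℤ) (hi : i ≠ 0) (hE : IsZero (E.X i)) :
    IsIso (HomologicalComplex.homologyMap (toSingle π hπ) i) :=
  isIso_of_isZero (isZero_homology_of_isZero_X E i hE)
    (HomologicalComplex.isZero_single_obj_homology _ _ _ _ hi) _

lemma epi_homologyMap_toSingle_of_ne (i : ℤ) (hi : i ≠ 0) :
    Epi (HomologicalComplex.homologyMap (toSingle π hπ) i) :=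
  epi_of_isZero_tgt (HomologicalComplex.isZero_single_obj_homology _ _ _ _ hi) _

lemma toSingle_f_zero : (toSingle π hπ).f 0 =
    π ≫ (HomologicalComplex.singleObjXSelf (ComplexShape.up ℤ) 0 F).inv :=
  HomologicalComplex.mkHomToSingle_f _ _

/-- If `E^{-1} ⟶ E^0 ⟶ F ⟶ 0` is exact and `E^1 = 0`, then `E ⟶ F[0]` is an isomorphism on
`H^0`. -/
lemma isIso_homologyMap_toSingle_zero (h1 : IsZero (E.X 1))
    (hex : (ShortComplex.mk (E.d (-1) 0) π hπ).Exact) [Epi π] :
    IsIso (HomologicalComplex.homologyMap (toSingle π hπ) 0) := by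
  rw [← quasiIsoAt_iff_isIso_homologyMap,
    quasiIsoAt_iff' (toSingle π hπ) (-1) 0 1 (by simp) (by simp),
    ShortComplex.quasiIso_iff_of_zeros' _ (h1.eq_of_tgt _ _) rfl rfl]
  constructor
  · let e : ShortComplex.mk (E.d (-1) 0) π hπ ≅
        ShortComplex.mk (E.d (-1) 0) ((toSingle π hπ).f 0) (by
          rw [toSingle_f_zero, reassoc_of% hπ, zero_comp]) :=
      ShortComplex.isoMk (Iso.refl _) (Iso.refl _)
        (HomologicalComplex.singleObjXSelf (ComplexShape.up ℤ) 0 F).symm (by simp)
        (by simp [toSingle_f_zero])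
    exact ShortComplex.exact_of_iso e hex
  · change Epi ((toSingle π hπ).f 0)
    rw [toSingle_f_zero]
    exact epi_comp _ _

/-- If `π : E^0 ⟶ F` is an epimorphism and `E^1 = 0`, then `E ⟶ F[0]` is an epimorphism on
`H^0`. -/
lemma epi_homologyMap_toSingle_zero (h1 : IsZero (E.X 1)) [Epi π] :
    Epi (HomologicalComplex.homologyMap (toSingle π hπ) 0) := by
  let L := (HomologicalComplex.single C (ComplexShape.up ℤ) 0).obj F
  have hnat := HomologicalComplex.homologyπ_naturality (toSingle π hπ) 0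
  have h1' : IsZero (E.X ((ComplexShape.up ℤ).next 0)) := by
    rw [CochainComplex.next]
    simpa using h1
  have hE : IsIso (E.iCycles 0) :=
    ShortComplex.isIso_iCycles _ (h1'.eq_of_tgt _ _)
  have hL : IsIso (L.iCycles 0) := ShortComplex.isIso_iCycles _ rfl
  have hc : HomologicalComplex.cyclesMap (toSingle π hπ) 0 =
      E.iCycles 0 ≫ (toSingle π hπ).f 0 ≫ inv (L.iCycles 0) := by
    rw [← Category.assoc, IsIso.eq_comp_inv, HomologicalComplex.cyclesMap_i]
  have h0 : Epi ((toSingle π hπ).f 0) := by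
    rw [toSingle_f_zero]
    exact epi_comp _ _
  have h2 : Epi (HomologicalComplex.cyclesMap (toSingle π hπ) 0) := by
    rw [hc]
    have : Epi ((toSingle π hπ).f 0 ≫ inv (L.iCycles 0)) := epi_comp _ _
    exact epi_comp _ _
  have h3 : Epi (E.homologyπ 0 ≫ HomologicalComplex.homologyMap (toSingle π hπ) 0) := by
    rw [hnat]
    exact epi_comp _ _
  exact epi_of_epi (E.homologyπ 0) _

end Abstract

section Scheme

attribute [local instance] HasDerivedCategory.standard

open Groth.Agent.Lib.RestrictExact Groth.Agent.Lib.FinLocFree Groth.Agent.Lib.PerfectLocal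
  Groth.Agent.Lib.PerfectD Groth.Agent.Lib.PseudoCohD Groth.Agent.Lib.PCohStupid
  Groth.Agent.Lib.CyclesRetract

variable {X : Scheme.{u}}

/-- Finite type is invariant under isomorphisms. -/
theorem isFT_of_iso {M N : X.Modules} (e : M ≅ N) (h : CohB1.IsFT M) : CohB1.IsFT N := by
  obtain ⟨σ, hσ⟩ := h.exists_localGeneratorsData
  let σ' : SheafOfModules.LocalGeneratorsData.{u} (R := X.ringCatSheaf) N :=
    { I := σ.I, X := σ.X, coversTop := σ.coversTop,
      generators := fun i => (σ.generators i).ofEpi (e.hom.over (σ.X i)) }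
  have hσ' : σ'.IsFiniteType := by
    constructor
    intro i
    have := hσ.isFiniteType i
    exact inferInstanceAs ((σ.generators i).ofEpi (e.hom.over (σ.X i))).IsFiniteType
  change SheafOfModules.IsFiniteType (R := X.ringCatSheaf) N
  constructor
  exact ⟨σ', hσ'⟩

/-- `H^0(F[0]) = F`. -/
noncomputable def HDinDIso (F : X.Modules) : DCoh.HD (DCoh.inD X F) 0 ≅ F :=
  (DerivedCategory.homologyFunctorFactors _ 0).app
      ((HomologicalComplex.single X.Modules (ComplexShape.up ℤ) 0).obj F) ≪≫
    HomologicalComplex.singleObjHomologySelfIso _ _ _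

theorem isZero_HD_inD (F : X.Modules) (i : ℤ) (hi : i ≠ 0) :
    IsZero (DCoh.HD (DCoh.inD X F) i) :=
  IsZero.of_iso (HomologicalComplex.isZero_single_obj_homology _ _ _ _ hi)
    ((DerivedCategory.homologyFunctorFactors _ i).app
      ((HomologicalComplex.single X.Modules (ComplexShape.up ℤ) 0).obj F))

/-- The restriction of `F[0]` is `(F|_V)[0]`. -/
noncomputable def restrictInDIso (F : X.Modules) (V : X.Opens) :
    (DCoh.restrictD V.ι).obj (DCoh.inD X F) ≅ DerivedCategory.Q.obj
      ((HomologicalComplex.single (V : Scheme.{u}).Modules (ComplexShape.up ℤ) 0).obj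
        (F.restrict V.ι)) :=
  (Scheme.Modules.restrictFunctor V.ι).mapDerivedCategoryFactors.app
      ((HomologicalComplex.single X.Modules (ComplexShape.up ℤ) 0).obj F) ≪≫
    DerivedCategory.Q.mapIso ((HomologicalComplex.singleMapHomologicalComplex
      (Scheme.Modules.restrictFunctor V.ι) (ComplexShape.up ℤ) 0).app F)

theorem pcOn_inD_of_chainMap (m : ℤ) (F : X.Modules) (V : X.Opens)
    (E : CochainComplex (V : Scheme.{u}).Modules ℤ) (hE : DCoh.IsStrictlyPerfect E)
    (φ : E ⟶ (HomologicalComplex.single (V : Scheme.{u}).Modules (ComplexShape.up ℤ) 0).obj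
      (F.restrict V.ι))
    (hiso : ∀ i : ℤ, m < i → IsIso (HomologicalComplex.homologyMap φ i))
    (hepi : Epi (HomologicalComplex.homologyMap φ m)) : PCOn m (DCoh.inD X F) V.ι := by
  refine ⟨E, DerivedCategory.Q.map φ ≫ (restrictInDIso F V).inv, hE, fun i hi => ?_, ?_⟩
  · have := (isIso_homologyFunctor_map_Q_iff φ i).2 (hiso i hi)
    rw [Functor.map_comp]
    infer_instance
  · have := (epi_homologyFunctor_map_Q_iff φ m).2 hepi
    rw [Functor.map_comp]
    exact epi_comp _ _

theorem isStrictlyPerfect_single {Y : Scheme.{u}} (M : Y.Modules) (hM : FlatMod.IsFinLocFree M) :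
    DCoh.IsStrictlyPerfect
      ((HomologicalComplex.single Y.Modules (ComplexShape.up ℤ) 0).obj M) := by
  refine ⟨⟨0, 0, fun i hi => HomologicalComplex.isZero_single_obj_X _ _ _ _ (by omega)⟩,
    fun i => ?_⟩
  by_cases hi : i = 0
  · subst hi
    exact isFinLocFree_of_iso
      (HomologicalComplex.singleObjXSelf (ComplexShape.up ℤ) 0 M).symm hM
  · exact isFinLocFree_of_isZero (HomologicalComplex.isZero_single_obj_X _ _ _ _ hi)

theorem isStrictlyPerfect_double {Y : Scheme.{u}} {A B : Y.Modules} (ρ : A ⟶ B)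
    (hA : FlatMod.IsFinLocFree A) (hB : FlatMod.IsFinLocFree B) :
    DCoh.IsStrictlyPerfect (HomologicalComplex.double ρ
      (show (ComplexShape.up ℤ).Rel (-1) 0 by simp)) := by
  refine ⟨⟨-1, 0, fun i hi => HomologicalComplex.isZero_double_X _ _ _ (by omega) (by omega)⟩,
    fun i => ?_⟩
  by_cases hi : i = -1
  · subst hi
    exact isFinLocFree_of_iso (HomologicalComplex.doubleXIso₀ ρ _).symm hA
  · by_cases hi' : i = 0
    · subst hi'
      exact isFinLocFree_of_iso (HomologicalComplex.doubleXIso₁ ρ _ (by decide)).symm hB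
    · exact isFinLocFree_of_isZero (HomologicalComplex.isZero_double_X _ _ _ hi hi')

/-- A module of finite type, placed in degree `0`, is `0`-pseudo-coherent. -/
theorem isPseudoCoherentD_zero_of_isFT (F : X.Modules) (hF : CohB1.IsFT F) :
    DCoh.IsPseudoCoherentD 0 (DCoh.inD X F) := by
  rw [isPseudoCoherentD_iff_pcOn]
  intro x
  haveI : F.IsFiniteType := hF
  obtain ⟨ι, U, gen, hU, hfin⟩ := Groth.Agent.Lib.ModStalk.exists_isOpenCover_generatingSections F
  obtain ⟨i, hxi⟩ := hU.exists_mem x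
  have := hfin i
  have hI : Finite (gen i).I := inferInstance
  let π₁ : (SheafOfModules.free (R := (U i : Scheme.{u}).ringCatSheaf) (gen i).I :
      (U i : Scheme.{u}).Modules) ⟶ F.restrict (U i).ι := (gen i).π
  have hepi : Epi π₁ := (gen i).epi
  let p : FlatMod.freeMod (U i : Scheme.{u}) (Nat.card (gen i).I) ⟶ F.restrict (U i).ι :=
    (Groth.Agent.Lib.LocFreePres.freeIsoFreeModOfEquiv (Finite.equivFin (gen i).I)).inv ≫ π₁
  have hp : Epi p := epi_comp' inferInstance hepi
  let E := (HomologicalComplex.single (U i : Scheme.{u}).Modules (ComplexShape.up ℤ) 0).obj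
    (FlatMod.freeMod (U i : Scheme.{u}) (Nat.card (gen i).I))
  let π : E.X 0 ⟶ F.restrict (U i).ι :=
    (HomologicalComplex.singleObjXSelf (ComplexShape.up ℤ) 0 _).hom ≫ p
  have hπe : Epi π := epi_comp _ _
  have hπ : E.d (-1) 0 ≫ π = 0 := by
    have : E.d (-1) 0 = 0 := rfl
    rw [this, zero_comp]
  refine ⟨U i, hxi, pcOn_inD_of_chainMap 0 F (U i) E
    (isStrictlyPerfect_single _ (isFinLocFree_freeMod _ _)) (toSingle π hπ) (fun j hj => ?_) ?_⟩
  · exact isIso_homologyMap_toSingle_of_ne π hπ j (by omega)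
      (HomologicalComplex.isZero_single_obj_X _ _ _ _ (by omega))
  · exact epi_homologyMap_toSingle_zero π hπ
      (HomologicalComplex.isZero_single_obj_X _ _ _ _ (by omega))

/-- A finitely presented module, placed in degree `0`, is `(-1)`-pseudo-coherent. -/
theorem isPseudoCoherentD_neg_one_of_isFP (F : X.Modules) (hF : CohB1.IsFP F) :
    DCoh.IsPseudoCoherentD (-1) (DCoh.inD X F) := by
  rw [isPseudoCoherentD_iff_pcOn]
  intro x
  obtain ⟨W, hxW, P, hP⟩ := Groth.Agent.Lib.LocFreePres.exists_finite_presentation_restrict F hF x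
  obtain ⟨m, p, π₀, hπ₀, ρ, hρπ, hex⟩ := Groth.Agent.Lib.LocFreePres.exists_maps_of_presentation P
  have hrel : (ComplexShape.up ℤ).Rel (-1) 0 := by simp
  have hne : (-1 : ℤ) ≠ 0 := by decide
  let E := HomologicalComplex.double ρ hrel
  let π : E.X 0 ⟶ F.restrict W.ι := (HomologicalComplex.doubleXIso₁ ρ hrel hne).hom ≫ π₀
  have hπe : Epi π := epi_comp _ _
  have hd : E.d (-1) 0 = (HomologicalComplex.doubleXIso₀ ρ hrel).hom ≫ ρ ≫
      (HomologicalComplex.doubleXIso₁ ρ hrel hne).inv := HomologicalComplex.double_d ρ hrel hne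
  have hπ : E.d (-1) 0 ≫ π = 0 := by
    simp only [hd, π, Category.assoc, Iso.inv_hom_id_assoc, hρπ, comp_zero]
  have hex' : (ShortComplex.mk (E.d (-1) 0) π hπ).Exact := by
    let e : ShortComplex.mk ρ π₀ hρπ ≅ ShortComplex.mk (E.d (-1) 0) π hπ :=
      ShortComplex.isoMk (HomologicalComplex.doubleXIso₀ ρ hrel).symm
        (HomologicalComplex.doubleXIso₁ ρ hrel hne).symm (Iso.refl _)
        (by simp [hd]) (by simp [π])
    exact ShortComplex.exact_of_iso e hex
  have h1 : IsZero (E.X 1) := HomologicalComplex.isZero_double_X _ _ _ (by decide) (by decide)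
  refine ⟨W, hxW, pcOn_inD_of_chainMap (-1) F W E
    (isStrictlyPerfect_double ρ (isFinLocFree_freeMod _ _) (isFinLocFree_freeMod _ _))
    (toSingle π hπ) (fun j hj => ?_) ?_⟩
  · by_cases hj0 : j = 0
    · subst hj0
      exact isIso_homologyMap_toSingle_zero π hπ h1 hex'
    · exact isIso_homologyMap_toSingle_of_ne π hπ j hj0
        (HomologicalComplex.isZero_double_X _ _ _ (by omega) hj0)
  · exact epi_homologyMap_toSingle_of_ne π hπ (-1) (by decide)

end Scheme

end Groth.Agent.Lib.PseudoCohSingle
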