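import Groth.Agent.Lib.PseudoCohTriangle
import Groth.Agent.Lib.PseudoCohSingle

/-!
# Direct summands of pseudo-coherent objects of `D(O_X)` are pseudo-coherent
-/

set_option autoImplicit false
universe u

open CategoryTheory CategoryTheory.Limits AlgebraicGeometry

namespace Groth.Agent.Lib.PseudoCohSummand

attribute [local instance] HasDerivedCategory.standard

open Groth.Agent.Lib.RestrictExact Groth.Agent.Lib.FinLocFree Groth.Agent.Lib.PerfectLocal
  Groth.Agent.Lib.PerfectD Groth.Agent.Lib.FlatBaseChangeD Groth.Agent.Lib.PseudoCohD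
  Groth.Agent.Lib.PseudoCohTriangle Groth.Agent.Lib.PseudoCohSingle

section Basic

variable {X : Scheme.{u}}

/-- `PCOn` for a restricted object. -/
theorem pcOn_restrictD_iff (m : ℤ) (K : DCoh.D X) {Y Z : Scheme.{u}} (j : Y ⟶ X)
    [IsOpenImmersion j] (k : Z ⟶ Y) [IsOpenImmersion k] :
    PCOn m ((DCoh.restrictD j).obj K) k ↔ PCOn m K (k ≫ j) := by
  rw [pcOn_iff, pcOn_iff]
  constructor
  · rintro ⟨E, α, hE, hα⟩
    exact ⟨E, α ≫ (restrictDCompIso k j _ rfl).hom.app K, hE,
      hα.comp (QIsoAbove.of_iso _ ((restrictDCompIso k j _ rfl).app K))⟩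
  · rintro ⟨E, α, hE, hα⟩
    exact ⟨E, α ≫ (restrictDCompIso k j _ rfl).inv.app K, hE,
      hα.comp (QIsoAbove.of_iso _ ((restrictDCompIso k j _ rfl).app K).symm)⟩

theorem isPseudoCoherentD_restrict {m : ℤ} {K : DCoh.D X} (hK : DCoh.IsPseudoCoherentD m K)
    (V : X.Opens) : DCoh.IsPseudoCoherentD m ((DCoh.restrictD V.ι).obj K) := by
  apply isPseudoCoherentD_of_forall_pcOn
  intro y
  obtain ⟨V', hyV', hV'⟩ := (isPseudoCoherentD_iff_pcOn m K).1 hK y.1
  let W : (V : Scheme.{u}).Opens := V.ι ⁻¹ᵁ V'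
  have hyW : y ∈ W := hyV'
  refine ⟨W, W.ι, inferInstance, ⟨⟨y, hyW⟩, rfl⟩, ?_⟩
  rw [pcOn_restrictD_iff]
  have hsub : Set.range (W.ι ≫ V.ι) ⊆ Set.range V'.ι := by
    rintro _ ⟨z, rfl⟩
    exact ⟨⟨_, z.2⟩, rfl⟩
  let e : (W : Scheme.{u}) ⟶ V' := IsOpenImmersion.lift V'.ι (W.ι ≫ V.ι) hsub
  have he : e ≫ V'.ι = W.ι ≫ V.ι := IsOpenImmersion.lift_fac _ _ _
  have : IsOpenImmersion (e ≫ V'.ι) := by rw [he]; infer_instance
  have : IsOpenImmersion e := IsOpenImmersion.of_comp e V'.ι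
  exact pcOn_comp hV' e _ he

theorem isPseudoCoherentD_of_locally {m : ℤ} {K : DCoh.D X}
    (h : ∀ x : X, ∃ V : X.Opens, x ∈ V ∧ DCoh.IsPseudoCoherentD m ((DCoh.restrictD V.ι).obj K)) :
    DCoh.IsPseudoCoherentD m K := by
  apply isPseudoCoherentD_of_forall_pcOn
  intro x
  obtain ⟨V, hxV, hV⟩ := h x
  obtain ⟨W, hxW, hW⟩ := (isPseudoCoherentD_iff_pcOn m _).1 hV ⟨x, hxV⟩
  rw [pcOn_restrictD_iff] at hW
  exact ⟨W, W.ι ≫ V.ι, inferInstance, ⟨⟨⟨x, hxV⟩, hxW⟩, rfl⟩, hW⟩

theorem isPseudoCoherentD_of_le {m m' : ℤ} (h : m ≤ m') {K : DCoh.D X}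
    (hK : DCoh.IsPseudoCoherentD m K) : DCoh.IsPseudoCoherentD m' K := by
  rw [isPseudoCoherentD_iff_pcOn] at hK ⊢
  intro x
  obtain ⟨V, hxV, hV⟩ := hK x
  obtain ⟨E, α, hE, hα⟩ := (pcOn_iff m K V.ι).1 hV
  exact ⟨V, hxV, (pcOn_iff m' K V.ι).2 ⟨E, α, hE, hα.of_le h⟩⟩

/-- A strictly perfect complex is `m`-pseudo-coherent for every `m`. -/
theorem isPseudoCoherentD_Q_of_isStrictlyPerfect (m : ℤ) {E : CochainComplex X.Modules ℤ}
    (hE : DCoh.IsStrictlyPerfect E) : DCoh.IsPseudoCoherentD m (DerivedCategory.Q.obj E) := by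
  rw [isPseudoCoherentD_iff_pcOn]
  intro x
  refine ⟨⊤, trivial, (pcOn_iff _ _ _).2 ⟨(resCx (⊤ : X.Opens).ι).obj E,
    (Scheme.Modules.restrictFunctor (⊤ : X.Opens).ι).mapDerivedCategoryFactors.inv.app E,
    isStrictlyPerfect_resCx _ hE, ?_⟩⟩
  exact QIsoAbove.of_iso m
    ((Scheme.Modules.restrictFunctor (⊤ : X.Opens).ι).mapDerivedCategoryFactors.symm.app E)

open Pretriangulated in
theorem isPseudoCoherentD_biprod {m : ℤ} {K L : DCoh.D X} [HasBinaryBiproduct K L]
    (hK : DCoh.IsPseudoCoherentD m K) (hL : DCoh.IsPseudoCoherentD m L) :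
    DCoh.IsPseudoCoherentD m (K ⊞ L) :=
  isPseudoCoherentD_obj₂ m (binaryBiproductTriangle K L) (binaryBiproductTriangle_distinguished K L)
    hK hL

end Basic

section Homology

variable {Y : Scheme.{u}}

theorem isZero_homology_restrictD {X : Scheme.{u}} (K : DCoh.D X) (V : X.Opens) (i : ℤ)
    (h : IsZero ((DerivedCategory.homologyFunctor _ i).obj K)) :
    IsZero ((DerivedCategory.homologyFunctor _ i).obj ((DCoh.restrictD V.ι).obj K)) :=
  IsZero.of_iso ((Scheme.Modules.restrictFunctor V.ι).map_isZero h)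
    ((mapDerivedCategoryHomologyIso (Scheme.Modules.restrictFunctor V.ι) i).app K)

theorem isZero_homology_fst {K L : DCoh.D Y} [HasBinaryBiproduct K L] (i : ℤ)
    (h : IsZero ((DerivedCategory.homologyFunctor _ i).obj (K ⊞ L))) :
    IsZero ((DerivedCategory.homologyFunctor _ i).obj K) :=
  IsZero.of_mono ((DerivedCategory.homologyFunctor _ i).map (biprod.inl : K ⟶ K ⊞ L)) h

theorem isZero_homology_snd {K L : DCoh.D Y} [HasBinaryBiproduct K L] (i : ℤ)
    (h : IsZero ((DerivedCategory.homologyFunctor _ i).obj (K ⊞ L))) :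
    IsZero ((DerivedCategory.homologyFunctor _ i).obj L) :=
  IsZero.of_mono ((DerivedCategory.homologyFunctor _ i).map (biprod.inr : L ⟶ K ⊞ L)) h

theorem isZero_homology_biprod {K L : DCoh.D Y} [HasBinaryBiproduct K L] (i : ℤ)
    (hK : IsZero ((DerivedCategory.homologyFunctor _ i).obj K))
    (hL : IsZero ((DerivedCategory.homologyFunctor _ i).obj L)) :
    IsZero ((DerivedCategory.homologyFunctor _ i).obj (K ⊞ L)) := by
  rw [IsZero.iff_id_eq_zero, ← CategoryTheory.Functor.map_id, ← biprod.total, Functor.map_add,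
    Functor.map_comp, Functor.map_comp,
    hK.eq_of_tgt ((DerivedCategory.homologyFunctor _ i).map (biprod.fst : K ⊞ L ⟶ K)) 0,
    hL.eq_of_tgt ((DerivedCategory.homologyFunctor _ i).map (biprod.snd : K ⊞ L ⟶ L)) 0]
  simp

open Pretriangulated DerivedCategory in
theorem isZero_homology_obj₃ {T : Triangle (DCoh.D Y)} (hT : T ∈ distTriang (DCoh.D Y)) {n : ℤ}
    (hβ : QIsoAbove n T.mor₁) (i : ℤ) (hi : n ≤ i) :
    IsZero ((DerivedCategory.homologyFunctor _ i).obj T.obj₃) := by
  have h1 : Epi ((DerivedCategory.homologyFunctor _ i).map T.mor₁) := by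
    rcases eq_or_lt_of_le hi with rfl | h
    · exact hβ.2
    · have := hβ.1 i h
      infer_instance
  have h2 : Mono ((DerivedCategory.homologyFunctor _ (i + 1)).map T.mor₁) := by
    have := hβ.1 (i + 1) (by omega)
    infer_instance
  exact (HomologySequence.exact₃ T hT i (i + 1) rfl).isZero_of_both_zeros
    ((HomologySequence.epi_homologyMap_mor₁_iff T hT i).1 h1)
    ((HomologySequence.mono_homologyMap_mor₁_iff T hT i (i + 1) rfl).1 h2)

end Homology

section Main

open Pretriangulated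
open scoped ZeroObject

/-- A product indexed by `WalkingPair` is the biproduct of the two components. -/
noncomputable def piIsoBiprod {C : Type*} [Category C] [HasZeroMorphisms C]
    (f : WalkingPair → C) [HasProduct f] [HasBinaryBiproduct (f .left) (f .right)] :
    ∏ᶜ f ≅ f .left ⊞ f .right := by
  have : HasLimit (pair ((Discrete.functor f).obj ⟨WalkingPair.left⟩)
      ((Discrete.functor f).obj ⟨WalkingPair.right⟩)) :=
    inferInstanceAs (HasLimit (pair (f .left) (f .right)))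
  exact HasLimit.isoOfNatIso (diagramIsoPair (Discrete.functor f)) ≪≫
    (biprod.isoProd (f .left) (f .right)).symm

theorem isStrictlyPerfect_zero (Y : Scheme.{u}) :
    DCoh.IsStrictlyPerfect (0 : CochainComplex Y.Modules ℤ) :=
  ⟨⟨0, 0, fun i _ => (HomologicalComplex.eval _ _ i).map_isZero (isZero_zero _)⟩,
    fun i => Groth.Agent.Lib.CyclesRetract.isFinLocFree_of_isZero
      ((HomologicalComplex.eval _ _ i).map_isZero (isZero_zero _))⟩

theorem isPseudoCoherentD_of_isZero_homology {Y : Scheme.{u}} (m : ℤ) (K : DCoh.D Y)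
    (hz : ∀ i : ℤ, m ≤ i → IsZero ((DerivedCategory.homologyFunctor _ i).obj K)) :
    DCoh.IsPseudoCoherentD m K := by
  rw [isPseudoCoherentD_iff_pcOn]
  intro x
  refine ⟨⊤, trivial, (pcOn_iff _ _ _).2 ⟨0, 0, isStrictlyPerfect_zero _, fun i hi => ?_, ?_⟩⟩
  · exact isIso_of_isZero ((DerivedCategory.homologyFunctor _ i).map_isZero
      (DerivedCategory.Q.map_isZero (isZero_zero _)))
      (isZero_homology_restrictD K ⊤ i (hz i (by omega))) _
  · exact epi_of_isZero_tgt (isZero_homology_restrictD K ⊤ m (hz m le_rfl)) _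

theorem summand_aux (m : ℤ) (d : ℕ) :
    ∀ {Y : Scheme.{u}} (K L : DCoh.D Y) [HasBinaryBiproduct K L],
      DCoh.IsPseudoCoherentD m (K ⊞ L) →
      (∀ i : ℤ, m + d ≤ i → IsZero ((DerivedCategory.homologyFunctor _ i).obj (K ⊞ L))) →
      DCoh.IsPseudoCoherentD m K := by
  induction d with
  | zero =>
    intro Y K L _ _ hz
    exact isPseudoCoherentD_of_isZero_homology m K
      (fun i hi => isZero_homology_fst i (hz i (by simpa using hi)))
  | succ d ih =>
    intro Y K L _ hpc hz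
    apply isPseudoCoherentD_of_locally
    intro y
    have hpcn : DCoh.IsPseudoCoherentD (m + d) (K ⊞ L) := isPseudoCoherentD_of_le (by omega) hpc
    obtain ⟨V, hyV, hV⟩ := (isPseudoCoherentD_iff_pcOn (m + d) _).1 hpcn y
    obtain ⟨E, α, hE, hα⟩ := (pcOn_iff (m + d) _ V.ι).1 hV
    refine ⟨V, hyV, ?_⟩
    let rD := DCoh.restrictD V.ι
    have hzM : ∀ i : ℤ, m + d < i →
        IsZero ((DerivedCategory.homologyFunctor _ i).obj (rD.obj (K ⊞ L))) := fun i hi =>
      isZero_homology_restrictD _ V i (hz i (by push_cast; omega))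
    have hzE : ∀ i : ℤ, m + d < i →
        IsZero ((DerivedCategory.homologyFunctor _ i).obj (DerivedCategory.Q.obj E)) :=
      fun i hi => by
        have := hα.1 i hi
        exact IsZero.of_iso (hzM i hi) (asIso ((DerivedCategory.homologyFunctor _ i).map α))
    have key : ∀ (A : DCoh.D Y) (p : K ⊞ L ⟶ A) (s : A ⟶ K ⊞ L), s ≫ p = 𝟙 A →
        QIsoAbove (m + d) (α ≫ rD.map p) := by
      intro A p s hsp
      have hsplit : ∀ i : ℤ, (DerivedCategory.homologyFunctor _ i).map (rD.map s) ≫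
          (DerivedCategory.homologyFunctor _ i).map (rD.map p) = 𝟙 _ := fun i => by
        rw [← Functor.map_comp, ← Functor.map_comp, hsp, CategoryTheory.Functor.map_id,
          CategoryTheory.Functor.map_id]
      refine ⟨fun i hi => ?_, ?_⟩
      · have : Mono ((DerivedCategory.homologyFunctor _ i).map (rD.map s)) :=
          mono_of_mono_fac (hsplit i)
        exact isIso_of_isZero (hzE i hi)
          (IsZero.of_mono ((DerivedCategory.homologyFunctor _ i).map (rD.map s)) (hzM i hi)) _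
      · have := hα.2
        have : Epi ((DerivedCategory.homologyFunctor _ (m + d)).map (rD.map p)) :=
          epi_of_epi_fac (hsplit (m + d))
        rw [Functor.map_comp]
        exact epi_comp _ _
    have hβK := key K biprod.fst biprod.inl biprod.inl_fst
    have hβL := key L biprod.snd biprod.inr biprod.inr_snd
    obtain ⟨K', u, v, hT₁⟩ := distinguished_cocone_triangle (α ≫ rD.map (biprod.fst : K ⊞ L ⟶ K))
    obtain ⟨L', u', v', hT₂⟩ := distinguished_cocone_triangle (α ≫ rD.map (biprod.snd : K ⊞ L ⟶ L))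
    let T₁ := Triangle.mk (α ≫ rD.map (biprod.fst : K ⊞ L ⟶ K)) u v
    let T₂ := Triangle.mk (α ≫ rD.map (biprod.snd : K ⊞ L ⟶ L)) u' v'
    let T : WalkingPair → Triangle (DCoh.D (V : Scheme.{u})) := fun j => WalkingPair.casesOn j T₁ T₂
    have hT : ∀ j, T j ∈ distTriang _ := by
      rintro (_ | _)
      · exact hT₁
      · exact hT₂
    have hP := productTriangle_distinguished T hT
    let e₁ : (productTriangle T).obj₁ ≅ DerivedCategory.Q.obj E ⊞ DerivedCategory.Q.obj E :=
      piIsoBiprod (fun j => (T j).obj₁)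
    let e₂ : (productTriangle T).obj₂ ≅ rD.obj K ⊞ rD.obj L :=
      piIsoBiprod (fun j => (T j).obj₂)
    let e₃ : (productTriangle T).obj₃ ≅ K' ⊞ L' :=
      piIsoBiprod (fun j => (T j).obj₃)
    have hQE : ∀ k : ℤ, DCoh.IsPseudoCoherentD k (DerivedCategory.Q.obj E) := fun k =>
      isPseudoCoherentD_Q_of_isStrictlyPerfect k hE
    have h₁ : DCoh.IsPseudoCoherentD (m + 1) (productTriangle T).obj₁ :=
      isPseudoCoherentD_of_iso e₁.symm (isPseudoCoherentD_biprod (hQE _) (hQE _))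
    have : PreservesBinaryBiproduct K L (DCoh.restrictD V.ι) :=
      preservesBinaryBiproduct_of_preservesBiproduct _ K L
    have h₂ : DCoh.IsPseudoCoherentD m (productTriangle T).obj₂ :=
      isPseudoCoherentD_of_iso ((DCoh.restrictD V.ι).mapBiprod K L ≪≫ e₂.symm) (isPseudoCoherentD_restrict hpc V)
    have h₃ := isPseudoCoherentD_obj₃ m _ hP h₁ h₂
    have h₃' : DCoh.IsPseudoCoherentD m (K' ⊞ L') := isPseudoCoherentD_of_iso e₃ h₃
    have hzK' := isZero_homology_obj₃ hT₁ hβK
    have hzL' := isZero_homology_obj₃ hT₂ hβL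
    have hK' : DCoh.IsPseudoCoherentD m K' :=
      ih K' L' h₃' (fun i hi => isZero_homology_biprod i (hzK' i hi) (hzL' i hi))
    exact isPseudoCoherentD_obj₂ m T₁ hT₁ (hQE m) hK'

variable {X : Scheme.{u}}

theorem isPseudoCoherentD_fst {m : ℤ} {K L : DCoh.D X} [HasBinaryBiproduct K L]
    (h : DCoh.IsPseudoCoherentD m (K ⊞ L)) : DCoh.IsPseudoCoherentD m K := by
  apply isPseudoCoherentD_of_locally
  intro x
  obtain ⟨V, hxV, hV⟩ := (isPseudoCoherentD_iff_pcOn m _).1 h x
  obtain ⟨E, α, hE, hα⟩ := (pcOn_iff m _ V.ι).1 hV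
  obtain ⟨⟨a, b, hab⟩, -⟩ := hE
  refine ⟨V, hxV, ?_⟩
  let rD := DCoh.restrictD V.ι
  have hz : ∀ i : ℤ, max b m < i →
      IsZero ((DerivedCategory.homologyFunctor _ i).obj (rD.obj (K ⊞ L))) := fun i hi => by
    have := hα.1 i (lt_of_le_of_lt (le_max_right b m) hi)
    refine IsZero.of_iso ?_ (asIso ((DerivedCategory.homologyFunctor _ i).map α)).symm
    exact IsZero.of_iso (isZero_homology_of_isZero_X E i
      (hab i (Or.inr (lt_of_le_of_lt (le_max_left b m) hi))))
      ((DerivedCategory.homologyFunctorFactors _ i).app E)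
  have : PreservesBinaryBiproduct K L (DCoh.restrictD V.ι) :=
    preservesBinaryBiproduct_of_preservesBiproduct _ K L
  let e : rD.obj (K ⊞ L) ≅ rD.obj K ⊞ rD.obj L := (DCoh.restrictD V.ι).mapBiprod K L
  have hm : m ≤ max b m := le_max_right b m
  refine summand_aux m (max b m + 1 - m).toNat (rD.obj K) (rD.obj L)
    (isPseudoCoherentD_of_iso e (isPseudoCoherentD_restrict h V)) (fun i hi => ?_)
  rw [Int.toNat_of_nonneg (by omega)] at hi
  exact IsZero.of_iso (hz i (by omega)) ((DerivedCategory.homologyFunctor _ i).mapIso e.symm)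

theorem isPseudoCoherentD_snd {m : ℤ} {K L : DCoh.D X} [HasBinaryBiproduct K L]
    (h : DCoh.IsPseudoCoherentD m (K ⊞ L)) : DCoh.IsPseudoCoherentD m L :=
  isPseudoCoherentD_fst (K := L) (L := K) (isPseudoCoherentD_of_iso (biprod.braiding K L) h)

end Main

end Groth.Agent.Lib.PseudoCohSummand
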