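import Groth.Agent.Lib.SingleLift
import Groth.Agent.Lib.PseudoCohSummand
import Groth.Agent.Lib.PerfectCoh
import Groth.Agent.Lib.H90OXModExt
import Groth.Agent.Lib.H90CohRestrict
import Groth.Agent.Lib.FreeModSch

/-!
# Pseudo-coherence on Noetherian schemes (Stacks 08E8)

On a locally Noetherian scheme, an object of `D(O_X)` which is bounded above and whose cohomology
sheaves `H^i` are coherent for `i ≥ m` is `m`-pseudo-coherent; conversely, on a Noetherian scheme
an `m`-pseudo-coherent object with quasi-coherent cohomology has coherent `H^i` for `i ≥ m` and is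
bounded above.
-/

set_option autoImplicit false
universe u

open CategoryTheory CategoryTheory.Limits AlgebraicGeometry TopologicalSpace Opposite
attribute [local instance] HasDerivedCategory.standard

namespace Groth.Agent.Lib.PseudoCohNoeth

open Groth.Agent.Lib.H90OXModSections

variable {X : Scheme.{u}}

section Coh

/-- Extensions of coherent modules are coherent. -/
theorem isCoh_of_shortExact {S : ShortComplex X.Modules} (hS : S.ShortExact)
    (h₁ : Coh.IsCoh S.X₁) (h₃ : Coh.IsCoh S.X₃) : Coh.IsCoh S.X₂ := by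
  haveI : S.X₁.IsQuasicoherent := h₁.1
  haveI : S.X₃.IsQuasicoherent := h₃.1
  haveI : S.X₂.IsQuasicoherent := Groth.Agent.Lib.H90OXModExt.isQuasicoherent_of_shortExact hS
  rw [Groth.Agent.Lib.H90OXModAffineFT.isCoh_iff_forall_affine]
  refine ⟨inferInstance, fun U => ?_⟩
  haveI := Groth.Agent.Lib.CohFinite.finite_sections_of_isCoh S.X₁ h₁ U.2
  haveI := Groth.Agent.Lib.CohFinite.finite_sections_of_isCoh S.X₃ h₃ U.2
  haveI := hS.mono_f
  refine Module.Finite.of_exact (f := appLin S.f U.1) (g := appLin S.g U.1) ?_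
    (Groth.Agent.Lib.H90OXModExt.surjective_appLin_of_shortExact hS U.2)
  intro y
  constructor
  · intro hy
    exact (Groth.Agent.Lib.IdealMod.sections_exact hS.exact U.1).2 y hy
  · rintro ⟨t, rfl⟩
    exact Groth.Agent.Lib.H90OXModExt.appLin_comp_eq_zero U.1 t

/-- Five-term criterion: if `A₁ ⟶ A₂ ⟶ B ⟶ C₁ ⟶ C₂` is exact with `A₂`, `C₁` coherent and `A₁`,
`C₂` quasi-coherent, then `B` is coherent (locally Noetherian base). -/
theorem isCoh_of_exact₅ [IsLocallyNoetherian X] {A₁ A₂ B C₁ C₂ : X.Modules}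
    (f₁ : A₁ ⟶ A₂) (f₂ : A₂ ⟶ B) (g₁ : B ⟶ C₁) (g₂ : C₁ ⟶ C₂)
    (w₁ : f₁ ≫ f₂ = 0) (w₂ : f₂ ≫ g₁ = 0) (w₃ : g₁ ≫ g₂ = 0)
    (e₁ : (ShortComplex.mk f₁ f₂ w₁).Exact) (e₂ : (ShortComplex.mk f₂ g₁ w₂).Exact)
    (e₃ : (ShortComplex.mk g₁ g₂ w₃).Exact)
    [A₁.IsQuasicoherent] (hA₂ : Coh.IsCoh A₂) (hC₁ : Coh.IsCoh C₁) [C₂.IsQuasicoherent] :
    Coh.IsCoh B := by
  -- the kernel of `g₁` is the cokernel of `f₁`
  have hcok : Coh.IsCoh (cokernel f₁) := Groth.Agent.Lib.H90OXModExact.isCoh_cokernel f₁ hA₂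
  have hker : Coh.IsCoh (kernel g₂) := Groth.Agent.Lib.H90OXModExact.isCoh_kernel g₂ hC₁
  let a : cokernel f₁ ⟶ kernel g₁ :=
    cokernel.desc f₁ (kernel.lift g₁ f₂ w₂) (by
      rw [← cancel_mono (kernel.ι g₁), Category.assoc, kernel.lift_ι, w₁, zero_comp])
  have ha1 : cokernel.π f₁ ≫ a = kernel.lift g₁ f₂ w₂ := cokernel.π_desc _ _ _
  have ha2 : a ≫ kernel.ι g₁ = cokernel.desc f₁ f₂ w₁ := by
    rw [← cancel_epi (cokernel.π f₁), ← Category.assoc, ha1, kernel.lift_ι, cokernel.π_desc]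
  haveI : Epi (kernel.lift g₁ f₂ w₂) := (ShortComplex.exact_iff_epi_kernel_lift _).1 e₂
  haveI : Mono (cokernel.desc f₁ f₂ w₁) := (ShortComplex.exact_iff_mono_cokernel_desc _).1 e₁
  haveI : Epi a := epi_of_epi_fac ha1
  haveI : Mono a := mono_of_mono_fac ha2
  haveI : IsIso a := isIso_of_mono_of_epi a
  have hkg₁ : Coh.IsCoh (kernel g₁) := Groth.Agent.Lib.H90CohRestrict.isCoh_of_iso (asIso a) hcok
  let q : B ⟶ kernel g₂ := kernel.lift g₂ g₁ w₃
  haveI : Epi q := (ShortComplex.exact_iff_epi_kernel_lift _).1 e₃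
  have hq : kernel.ι g₁ ≫ q = 0 := by
    rw [← cancel_mono (kernel.ι g₂), Category.assoc, kernel.lift_ι, kernel.condition, zero_comp]
  have hS : (ShortComplex.mk (kernel.ι g₁) q hq).ShortExact :=
    { exact := by
        let φ : ShortComplex.mk (kernel.ι g₁) q hq ⟶
            ShortComplex.mk (kernel.ι g₁) g₁ (kernel.condition g₁) :=
          { τ₁ := 𝟙 _, τ₂ := 𝟙 _, τ₃ := kernel.ι g₂, comm₁₂ := by simp,
            comm₂₃ := by simp [q] }
        haveI : Epi φ.τ₁ := inferInstanceAs (Epi (𝟙 _))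
        haveI : IsIso φ.τ₂ := inferInstanceAs (IsIso (𝟙 _))
        haveI : Mono φ.τ₃ := inferInstanceAs (Mono (kernel.ι g₂))
        exact (ShortComplex.exact_iff_of_epi_of_isIso_of_mono φ).2
          (ShortComplex.exact_kernel g₁) }
  exact isCoh_of_shortExact hS hkg₁ hker

end Coh

section Triangle

open Pretriangulated DerivedCategory

variable {Y : Scheme.{u}}

/-- Coherence of the cohomology of the third vertex of a distinguished triangle. -/
theorem isCoh_homology_obj₃ [IsLocallyNoetherian Y] {T : Triangle (DCoh.D Y)}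
    (hT : T ∈ distTriang (DCoh.D Y)) (i : ℤ)
    (h₁ : Coh.IsQCoh (DCoh.HD T.obj₁ i)) (h₂ : Coh.IsCoh (DCoh.HD T.obj₂ i))
    (h₃ : Coh.IsCoh (DCoh.HD T.obj₁ (i + 1))) (h₄ : Coh.IsQCoh (DCoh.HD T.obj₂ (i + 1))) :
    Coh.IsCoh (DCoh.HD T.obj₃ i) := by
  haveI : (DCoh.HD T.obj₁ i).IsQuasicoherent := h₁
  haveI : (DCoh.HD T.obj₂ (i + 1)).IsQuasicoherent := h₄
  exact isCoh_of_exact₅ _ _ _ _ _ _ _ (HomologySequence.exact₂ T hT i)
    (HomologySequence.exact₃ T hT i (i + 1) rfl) (HomologySequence.exact₁ T hT i (i + 1) rfl) h₂ h₃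

end Triangle

section Generator

open Groth.Agent.Lib.FinLocFree Groth.Agent.Lib.PCohStupid

/-- A module of finite type is locally a quotient of a finite free module. -/
theorem exists_epi_freeMod_of_isFT (F : X.Modules) (hF : CohB1.IsFT F) (x : X) :
    ∃ (U : X.Opens) (n : ℕ) (p : FlatMod.freeMod (U : Scheme.{u}) n ⟶ F.restrict U.ι),
      x ∈ U ∧ Epi p := by
  haveI : F.IsFiniteType := hF
  obtain ⟨ι, U, gen, hU, hfin⟩ := Groth.Agent.Lib.ModStalk.exists_isOpenCover_generatingSections F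
  obtain ⟨i, hxi⟩ := hU.exists_mem x
  have := hfin i
  have hI : Finite (gen i).I := inferInstance
  let π₁ : (SheafOfModules.free (R := (U i : Scheme.{u}).ringCatSheaf) (gen i).I :
      (U i : Scheme.{u}).Modules) ⟶ F.restrict (U i).ι := (gen i).π
  have hepi : Epi π₁ := (gen i).epi
  exact ⟨U i, Nat.card (gen i).I,
    (Groth.Agent.Lib.LocFreePres.freeIsoFreeModOfEquiv (Finite.equivFin (gen i).I)).inv ≫ π₁,
    hxi, epi_comp' inferInstance hepi⟩

variable {Y : Scheme.{u}}

/-- If `O^r ⟶ H^b(K)` is an epimorphism, then locally there is a morphism `O^r[-b] ⟶ K` in the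
derived category inducing an epimorphism on `H^b`. -/
theorem exists_generator (K : DCoh.D Y) (b : ℤ) {r : ℕ}
    (p : FlatMod.freeMod Y r ⟶ DCoh.HD K b) [Epi p] (y : Y) :
    ∃ (V : Y.Opens) (φ : DerivedCategory.Q.obj ((HomologicalComplex.single
        (V : Scheme.{u}).Modules (ComplexShape.up ℤ) b).obj (FlatMod.freeMod (V : Scheme.{u}) r)) ⟶
        (DCoh.restrictD V.ι).obj K),
      y ∈ V ∧ Epi ((DerivedCategory.homologyFunctor _ b).map φ) := by
  let F := DerivedCategory.Q.objPreimage K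
  let iF : DerivedCategory.Q.obj F ≅ K := DerivedCategory.Q.objObjPreimageIso K
  let e₁ : DCoh.HD K b ≅ F.homology b :=
    (DerivedCategory.homologyFunctor Y.Modules b).mapIso iF.symm ≪≫
      Groth.Agent.Lib.PerfectCoh.HDIso F b
  obtain ⟨V, ψ, hyV, hψ⟩ :=
    Groth.Agent.Lib.FreeModSch.exists_lift_freeMod (F.homologyπ b) (p ≫ e₁.hom) y
  let FV : CochainComplex (V : Scheme.{u}).Modules ℤ := (DCoh.restrictCx V).obj F
  let u : FlatMod.freeMod (V : Scheme.{u}) r ⟶ (F.cycles b).restrict V.ι :=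
    (restrictFreeModIso V.ι r).inv ≫ ψ
  let s : FlatMod.freeMod (V : Scheme.{u}) r ⟶ FV.X b :=
    u ≫ (Scheme.Modules.restrictFunctor V.ι).map (F.iCycles b)
  have hs : ∀ k, (ComplexShape.up ℤ).Rel b k → s ≫ FV.d b k = 0 := by
    intro k hk
    change (u ≫ (Scheme.Modules.restrictFunctor V.ι).map (F.iCycles b)) ≫
      (Scheme.Modules.restrictFunctor V.ι).map (F.d b k) = 0
    rw [Category.assoc, ← Functor.map_comp, F.iCycles_d, Functor.map_zero, comp_zero]
  let φ₀ := HomologicalComplex.mkHomFromSingle s hs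
  have hepi₀ : Epi (HomologicalComplex.homologyMap φ₀ b) := by
    rw [Groth.Agent.Lib.SingleLift.homologyMap_mkHomFromSingle]
    let e_c : FV.cycles b ≅ (F.cycles b).restrict V.ι :=
      (F.sc b).mapCyclesIso (Scheme.Modules.restrictFunctor V.ι)
    let e_h : FV.homology b ≅ (F.homology b).restrict V.ι :=
      (F.sc b).mapHomologyIso (Scheme.Modules.restrictFunctor V.ι)
    have h1 : e_c.inv ≫ FV.iCycles b =
        (Scheme.Modules.restrictFunctor V.ι).map (F.iCycles b) := by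
      rw [Iso.inv_comp_eq]
      exact ((F.sc b).mapCyclesIso_hom_iCycles (Scheme.Modules.restrictFunctor V.ι)).symm
    have h2 : e_c.inv ≫ FV.homologyπ b =
        (Scheme.Modules.restrictFunctor V.ι).map (F.homologyπ b) ≫ e_h.inv := by
      rw [Iso.inv_comp_eq, ← Category.assoc, Iso.eq_comp_inv]
      exact Groth.Agent.Lib.SingleLift.mapCyclesIso_hom_map_homologyπ
        (Scheme.Modules.restrictFunctor V.ι) (F.sc b)
    have hl : FV.liftCycles s ((ComplexShape.up ℤ).next b) rfl (by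
        by_cases h : (ComplexShape.up ℤ).Rel b ((ComplexShape.up ℤ).next b)
        · exact hs _ h
        · rw [FV.shape _ _ h, comp_zero]) = u ≫ e_c.inv := by
      rw [← cancel_mono (FV.iCycles b), HomologicalComplex.liftCycles_i, Category.assoc, h1]
    rw [hl, Category.assoc, h2]
    have h3 : u ≫ (Scheme.Modules.restrictFunctor V.ι).map (F.homologyπ b) =
        (restrictFreeModIso V.ι r).inv ≫
          (Scheme.Modules.restrictFunctor V.ι).map (p ≫ e₁.hom) := by
      rw [Category.assoc, hψ]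
    rw [← Category.assoc u, h3]
    haveI : Epi ((Scheme.Modules.restrictFunctor V.ι).map (p ≫ e₁.hom)) := by
      haveI : Epi (p ≫ e₁.hom) := epi_comp _ _
      infer_instance
    exact epi_comp' inferInstance (epi_comp' (epi_comp' inferInstance inferInstance) inferInstance)
  have hepi : Epi ((DerivedCategory.homologyFunctor _ b).map (DerivedCategory.Q.map φ₀)) :=
    (epi_homologyFunctor_map_Q_iff φ₀ b).2 hepi₀
  refine ⟨V, DerivedCategory.Q.map φ₀ ≫
    ((Scheme.Modules.restrictFunctor V.ι).mapDerivedCategoryFactors.app F).inv ≫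
    (DCoh.restrictD V.ι).map iF.hom, hyV, ?_⟩
  rw [Functor.map_comp]
  exact epi_comp _ _

end Generator

section Main

open Pretriangulated DerivedCategory Groth.Agent.Lib.PseudoCohTriangle
  Groth.Agent.Lib.PseudoCohSummand Groth.Agent.Lib.FlatBaseChangeD Groth.Agent.Lib.PerfectLocal
  Groth.Agent.Lib.CyclesRetract Groth.Agent.Lib.FinLocFree

variable {Y : Scheme.{u}}

theorem isCoh_HD_restrictD (K : DCoh.D Y) (V : Y.Opens) (i : ℤ) (h : Coh.IsCoh (DCoh.HD K i)) :
    Coh.IsCoh (DCoh.HD ((DCoh.restrictD V.ι).obj K) i) :=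
  Groth.Agent.Lib.H90CohRestrict.isCoh_of_iso
    ((mapDerivedCategoryHomologyIso (Scheme.Modules.restrictFunctor V.ι) i).app K).symm
    (Groth.Agent.Lib.H90CohRestrict.isCoh_restrict V.ι _ h)

/-- A finite locally free module placed in a single degree is a strictly perfect complex. -/
theorem isStrictlyPerfect_single' (b : ℤ) (M : Y.Modules) (hM : FlatMod.IsFinLocFree M) :
    DCoh.IsStrictlyPerfect
      ((HomologicalComplex.single Y.Modules (ComplexShape.up ℤ) b).obj M) := by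
  refine ⟨⟨b, b, fun i hi => HomologicalComplex.isZero_single_obj_X _ _ _ _ (by omega)⟩,
    fun i => ?_⟩
  by_cases hi : i = b
  · subst hi
    exact isFinLocFree_of_iso
      (HomologicalComplex.singleObjXSelf (ComplexShape.up ℤ) i M).symm hM
  · exact isFinLocFree_of_isZero (HomologicalComplex.isZero_single_obj_X _ _ _ _ hi)

theorem isZero_HD_single (b : ℤ) (M : Y.Modules) (i : ℤ) (hi : i ≠ b) :
    IsZero (DCoh.HD (DerivedCategory.Q.obj
      ((HomologicalComplex.single Y.Modules (ComplexShape.up ℤ) b).obj M)) i) :=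
  IsZero.of_iso (HomologicalComplex.isZero_single_obj_homology _ _ _ _ hi)
    ((DerivedCategory.homologyFunctorFactors _ i).app
      ((HomologicalComplex.single Y.Modules (ComplexShape.up ℤ) b).obj M))

theorem isCoh_HD_of_isStrictlyPerfect [IsLocallyNoetherian Y] {E : CochainComplex Y.Modules ℤ}
    (hE : DCoh.IsStrictlyPerfect E) (i : ℤ) :
    Coh.IsCoh (DCoh.HD (DerivedCategory.Q.obj E) i) :=
  Groth.Agent.Lib.H90CohRestrict.isCoh_of_iso (Groth.Agent.Lib.PerfectCoh.HDIso E i).symm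
    (Groth.Agent.Lib.CohLocal.isCoh_homology_of_isStrictlyPerfect E hE i)

/-- Induction on `b - m`. -/
theorem pc_of_coh_aux (n : ℕ) : ∀ {Y : Scheme.{u}} [IsLocallyNoetherian Y] (K : DCoh.D Y)
    (b m : ℤ), b - m < n → (∀ i : ℤ, b < i → IsZero (DCoh.HD K i)) →
    (∀ i : ℤ, m ≤ i → Coh.IsCoh (DCoh.HD K i)) → DCoh.IsPseudoCoherentD m K := by
  induction n with
  | zero =>
    intro Y _ K b m hbm hz hcoh
    exact isPseudoCoherentD_of_isZero_homology m K (fun i hi => hz i (by omega))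
  | succ n ih =>
    intro Y _ K b m hbm hz hcoh
    by_cases hlt : b < m
    · exact isPseudoCoherentD_of_isZero_homology m K (fun i hi => hz i (by omega))
    have hmb : m ≤ b := not_lt.mp hlt
    apply isPseudoCoherentD_of_locally
    intro y
    obtain ⟨U, r, p, hyU, hp⟩ := exists_epi_freeMod_of_isFT (DCoh.HD K b) (hcoh b hmb).2 y
    refine ⟨U, hyU, ?_⟩
    have hzU : ∀ i : ℤ, b < i → IsZero (DCoh.HD ((DCoh.restrictD U.ι).obj K) i) :=
      fun i hi => isZero_homology_restrictD K U i (hz i hi)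
    have hcohU : ∀ i : ℤ, m ≤ i → Coh.IsCoh (DCoh.HD ((DCoh.restrictD U.ι).obj K) i) :=
      fun i hi => isCoh_HD_restrictD K U i (hcoh i hi)
    let p' : FlatMod.freeMod (U : Scheme.{u}) r ⟶ DCoh.HD ((DCoh.restrictD U.ι).obj K) b :=
      p ≫ ((mapDerivedCategoryHomologyIso (Scheme.Modules.restrictFunctor U.ι) b).app K).inv
    haveI : Epi p' := epi_comp _ _
    apply isPseudoCoherentD_of_locally
    intro z
    obtain ⟨V, φ, hzV, hφ⟩ := exists_generator ((DCoh.restrictD U.ι).obj K) b p' z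
    refine ⟨V, hzV, ?_⟩
    have hzV' : ∀ i : ℤ, b < i →
        IsZero (DCoh.HD ((DCoh.restrictD V.ι).obj ((DCoh.restrictD U.ι).obj K)) i) :=
      fun i hi => isZero_homology_restrictD _ V i (hzU i hi)
    have hcohV : ∀ i : ℤ, m ≤ i →
        Coh.IsCoh (DCoh.HD ((DCoh.restrictD V.ι).obj ((DCoh.restrictD U.ι).obj K)) i) :=
      fun i hi => isCoh_HD_restrictD _ V i (hcohU i hi)
    have hSP : DCoh.IsStrictlyPerfect ((HomologicalComplex.single (V : Scheme.{u}).Modules
        (ComplexShape.up ℤ) b).obj (FlatMod.freeMod (V : Scheme.{u}) r)) :=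
      isStrictlyPerfect_single' b _ (isFinLocFree_freeMod _ _)
    obtain ⟨C, g, h, hT⟩ := distinguished_cocone_triangle φ
    have hzC : ∀ i : ℤ, b - 1 < i → IsZero (DCoh.HD C i) := by
      intro i hi
      refine (HomologySequence.exact₃ _ hT i (i + 1) rfl).isZero_of_both_zeros ?_ ?_
      · rcases eq_or_lt_of_le (show b ≤ i by omega) with rfl | hbi
        · exact (HomologySequence.epi_homologyMap_mor₁_iff _ hT b).1 hφ
        · exact (hzV' i hbi).eq_of_src _ _
      · exact (isZero_HD_single b _ (i + 1) (by omega)).eq_of_tgt _ _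
    have hcohC : ∀ i : ℤ, m ≤ i → Coh.IsCoh (DCoh.HD C i) := fun i hi =>
      isCoh_homology_obj₃ hT i (isCoh_HD_of_isStrictlyPerfect hSP i).1 (hcohV i hi)
        (isCoh_HD_of_isStrictlyPerfect hSP (i + 1)) (hcohV (i + 1) (by omega)).1
    have hC : DCoh.IsPseudoCoherentD m C := ih C (b - 1) m (by omega) hzC hcohC
    exact isPseudoCoherentD_obj₂ m _ hT (isPseudoCoherentD_Q_of_isStrictlyPerfect m hSP) hC

/-- On a locally Noetherian scheme, a bounded above object with coherent `H^i` for `i ≥ m` is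
`m`-pseudo-coherent. -/
theorem isPseudoCoherentD_of_isCoh_HD [IsLocallyNoetherian Y] (K : DCoh.D Y) (b m : ℤ)
    (hz : ∀ i : ℤ, b < i → IsZero (DCoh.HD K i))
    (hcoh : ∀ i : ℤ, m ≤ i → Coh.IsCoh (DCoh.HD K i)) : DCoh.IsPseudoCoherentD m K :=
  pc_of_coh_aux ((b - m).toNat + 1) K b m (by omega) hz hcoh

open Groth.Agent.Lib.PseudoCohD in
/-- On a locally Noetherian scheme, an `m`-pseudo-coherent object with quasi-coherent cohomology
has coherent `H^i` for `i ≥ m`. -/
theorem isCoh_HD_of_isPseudoCoherentD [IsLocallyNoetherian Y] (m : ℤ) (K : DCoh.D Y)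
    (hq : DCoh.IsQCohD K) (hK : DCoh.IsPseudoCoherentD m K) (i : ℤ) (hi : m ≤ i) :
    Coh.IsCoh (DCoh.HD K i) := by
  refine Groth.Agent.Lib.CohLocal.isCoh_of_forall_restrict_opens _ fun x => ?_
  obtain ⟨V, hxV, E, α, hE, hiso, hepi⟩ := (isPseudoCoherentD_iff_pcOn m K).1 hK x
  refine ⟨V, hxV, ?_⟩
  have hEc : Coh.IsCoh (E.homology i) :=
    Groth.Agent.Lib.CohLocal.isCoh_homology_of_isStrictlyPerfect E hE i
  haveI : (DCoh.HD K i).IsQuasicoherent := hq i
  rcases eq_or_lt_of_le hi with rfl | hlt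
  · haveI := hepi
    exact Groth.Agent.Lib.H90OXModExact.isCoh_of_epi (homologyComp α m) hEc inferInstance
  · haveI := hiso i hlt
    exact Groth.Agent.Lib.H90CohRestrict.isCoh_of_iso (asIso (homologyComp α i)) hEc

open Groth.Agent.Lib.PseudoCohD in
/-- On a quasi-compact scheme, a pseudo-coherent object is bounded above. -/
theorem exists_isLE_of_isPseudoCoherentD [CompactSpace Y] (m : ℤ) (K : DCoh.D Y)
    (hK : DCoh.IsPseudoCoherentD m K) : ∃ b : ℤ, K.IsLE b := by
  have key : ∀ x : Y, ∃ (V : Y.Opens) (b : ℤ), x ∈ V ∧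
      ∀ i : ℤ, b < i → IsZero ((DCoh.HD K i).restrict V.ι) := by
    intro x
    obtain ⟨V, hxV, E, α, hE, hiso, hepi⟩ := (isPseudoCoherentD_iff_pcOn m K).1 hK x
    obtain ⟨a, b, hab⟩ := hE.1
    refine ⟨V, max b m, hxV, fun i hi => ?_⟩
    haveI := hiso i (by omega)
    exact IsZero.of_iso (Groth.Agent.Lib.PerfectCoh.isZero_homology_of_vanishesOutside E hab i
      (Or.inr (by omega))) (asIso (homologyComp α i)).symm
  choose V b hxV hV using key
  obtain ⟨t, ht⟩ := CompactSpace.elim_nhds_subcover (fun x => (V x : Set Y))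
    (fun x => (V x).isOpen.mem_nhds (hxV x))
  obtain ⟨B, hB⟩ := (t.image b).exists_le
  refine ⟨B, ?_⟩
  rw [DerivedCategory.isLE_iff]
  intro i hi
  refine Groth.Agent.Lib.PerfectCoh.isZero_of_forall_restrict _ fun y => ?_
  have hy : y ∈ ⋃ x ∈ t, (V x : Set Y) := ht ▸ Set.mem_univ y
  obtain ⟨x, hxt, hyx⟩ : ∃ x ∈ t, y ∈ V x := by simpa using hy
  have hBx : b x ≤ B := hB _ (Finset.mem_image_of_mem _ hxt)
  exact ⟨V x, hyx, hV x i (by omega)⟩

/-- **Stacks 08E8**: pseudo-coherence on a Noetherian scheme in terms of cohomology sheaves. -/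
theorem isPseudoCoherentD_iff_isCoh_HD [IsNoetherian Y] (K : DCoh.D Y) (hq : DCoh.IsQCohD K)
    (m : ℤ) :
    DCoh.IsPseudoCoherentD m K ↔
      (∀ i : ℤ, m ≤ i → Coh.IsCoh (DCoh.HD K i)) ∧ ∃ b : ℤ, K.IsLE b := by
  constructor
  · intro hpc
    exact ⟨fun i hi => isCoh_HD_of_isPseudoCoherentD m K hq hpc i hi,
      exists_isLE_of_isPseudoCoherentD m K hpc⟩
  · rintro ⟨hcoh, b, hb⟩
    exact isPseudoCoherentD_of_isCoh_HD K b m
      (fun i hi => (DerivedCategory.isLE_iff K b).1 hb i hi) hcoh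

end Main

end Groth.Agent.Lib.PseudoCohNoeth
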