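import Groth.Agent.Lib.ClosedPushExact17
import Groth.Agent.Lib.PushRestrict
import Groth.Agent.Lib.PseudoCohNoeth
import Groth.Agent.Lib.H90DevFilt
import Groth.Agent.Lib.FlatAmp3
import Groth.Agent.Lib.FinLocFree2
import Groth.Agent.Lib.SupportTensor
import Groth.Agent.Lib.LocalFlex
import Groth.Agent.Lib.PseudoCohSingle

/-!
# Pseudo-coherence and direct image along a closed immersion (helper17)
-/

set_option autoImplicit false
universe u
open CategoryTheory CategoryTheory.Limits AlgebraicGeometry TopologicalSpace Opposite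
attribute [local instance] HasDerivedCategory.standard

namespace Groth.Agent.Lib.ClosedPushPC17

open Groth.Agent.Lib.ClosedPushExact17 Groth.Agent.Lib.PerfectD Groth.Agent.Lib.PseudoCohD
  Groth.Agent.Lib.PseudoCohTriangle Groth.Agent.Lib.PseudoCohSummand
  Groth.Agent.Lib.FlatBaseChangeD Groth.Agent.Lib.RestrictExact

variable {Z X : Scheme.{u}}

/-- Direct image along a closed immersion, on derived categories. -/
noncomputable abbrev pushD (i : Z ⟶ X) [IsClosedImmersion i] : DCoh.D Z ⥤ DCoh.D X :=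
  (Scheme.Modules.pushforward i).mapDerivedCategory

/-- Base change of `i_*` to an open of the target, on derived categories. -/
noncomputable def pushRestrictD (i : Z ⟶ X) [IsClosedImmersion i] (V : X.Opens) :
    pushD i ⋙ DCoh.restrictD V.ι ≅ DCoh.restrictD (i ⁻¹ᵁ V).ι ⋙ pushD (i ∣_ V) :=
  mapDerivedCategoryCompIso (Scheme.Modules.pushforward i) (Scheme.Modules.restrictFunctor V.ι)
      (Scheme.Modules.restrictFunctor (i ⁻¹ᵁ V).ι ⋙ Scheme.Modules.pushforward (i ∣_ V))
      (Groth.Agent.Lib.PushRestrict.pushRestrictIso i V) ≪≫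
    (mapDerivedCategoryCompIso (Scheme.Modules.restrictFunctor (i ⁻¹ᵁ V).ι)
      (Scheme.Modules.pushforward (i ∣_ V))
      (Scheme.Modules.restrictFunctor (i ⁻¹ᵁ V).ι ⋙ Scheme.Modules.pushforward (i ∣_ V))
      (Iso.refl _)).symm

theorem qIsoAbove_pushD (i : Z ⟶ X) [IsClosedImmersion i] {m : ℤ} {K L : DCoh.D Z} {α : K ⟶ L}
    (hα : QIsoAbove m α) : QIsoAbove m ((pushD i).map α) := by
  refine ⟨fun j hj => ?_, ?_⟩
  · have := hα.1 j hj
    exact isIso_homology_map (Scheme.Modules.pushforward i) α j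
  · have := hα.2
    exact epi_homology_map (Scheme.Modules.pushforward i) α m

/-- `H^j(i_* E) ≅ i_* H^j(E)`. -/
noncomputable def HDpushDIso (i : Z ⟶ X) [IsClosedImmersion i] (E : DCoh.D Z) (j : ℤ) :
    DCoh.HD ((pushD i).obj E) j ≅ (Scheme.Modules.pushforward i).obj (DCoh.HD E j) :=
  (mapDerivedCategoryHomologyIso (Scheme.Modules.pushforward i) j).app E

theorem isZero_HD_pushD_iff (i : Z ⟶ X) [IsClosedImmersion i] (E : DCoh.D Z) (j : ℤ) :
    IsZero (DCoh.HD ((pushD i).obj E) j) ↔ IsZero (DCoh.HD E j) := by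
  constructor
  · intro h
    exact Groth.Agent.Lib.H90DevFilt.isZero_of_isZero_pushforward i
      (h.of_iso (HDpushDIso i E j).symm)
  · intro h
    exact ((Scheme.Modules.pushforward i).map_isZero h).of_iso (HDpushDIso i E j)

open Pretriangulated in
/-- If `K'` is `m`-pseudo-coherent and `α : K' ⟶ K` is an isomorphism on `H^j`, `j > m`, and an
epimorphism on `H^m`, then `K` is `m`-pseudo-coherent. -/
theorem isPseudoCoherentD_of_qIsoAbove {Y : Scheme.{u}} {m : ℤ} {K' K : DCoh.D Y} (α : K' ⟶ K)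
    (hα : QIsoAbove m α) (hK' : DCoh.IsPseudoCoherentD m K') : DCoh.IsPseudoCoherentD m K := by
  obtain ⟨C, β, γ, hT⟩ := distinguished_cocone_triangle α
  have hC : DCoh.IsPseudoCoherentD m C :=
    isPseudoCoherentD_of_isZero_homology m C
      (fun j hj => isZero_homology_obj₃ (T := Triangle.mk α β γ) hT hα j hj)
  exact isPseudoCoherentD_obj₂ m (Triangle.mk α β γ) hT hK' hC

section Copower

variable {C : Type*} [Category C] [Preadditive C] [HasBinaryBiproducts C] [HasFiniteCoproducts C]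

/-- A property stable under isomorphisms and binary biproducts and containing the zero objects is
stable under finite copowers. -/
theorem prop_copower (R : C → Prop) (hiso : ∀ {A B : C}, (A ≅ B) → R A → R B)
    (hzero : ∀ A : C, IsZero A → R A) (hbi : ∀ A B : C, R A → R B → R (A ⊞ B)) (A : C)
    (hA : R A) (n : ℕ) : R (∐ fun _ : Fin n => A) := by
  induction n with
  | zero =>
    apply hzero
    rw [IsZero.iff_id_eq_zero]
    exact Sigma.hom_ext _ _ (fun i => i.elim0)
  | succ n ih =>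
    have h1 : R (∐ fun _ : Fin 1 => A) := by
      refine hiso ?_ hA
      exact (coproductUniqueIso (fun _ : Fin 1 => A)).symm
    exact hiso (Groth.Agent.Lib.FinLocFree2.copowerAddIso A n 1) (hbi _ _ ih h1)

end Copower

section PCMod

variable {Y : Scheme.{u}}

/-- `M`, placed in degree `0`, is pseudo-coherent. -/
def PCMod (M : Y.Modules) : Prop := ∀ m : ℤ, DCoh.IsPseudoCoherentD m (DCoh.inD Y M)

theorem pcMod_of_iso {M N : Y.Modules} (e : M ≅ N) (h : PCMod M) : PCMod N := fun m =>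
  isPseudoCoherentD_of_iso ((DerivedCategory.singleFunctor Y.Modules 0).mapIso e) (h m)

theorem pcMod_of_isZero {M : Y.Modules} (h : IsZero M) : PCMod M := fun m =>
  isPseudoCoherentD_of_isZero_homology m _ (fun j _ =>
    (DerivedCategory.homologyFunctor _ j).map_isZero
      ((DerivedCategory.singleFunctor Y.Modules 0).map_isZero h))

theorem pcMod_biprod {M N : Y.Modules} (hM : PCMod M) (hN : PCMod N) : PCMod (M ⊞ N) := fun m => by
  have : PreservesBinaryBiproduct M N (DerivedCategory.singleFunctor Y.Modules 0) :=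
    preservesBinaryBiproduct_of_preservesBiproduct _ _ _
  exact isPseudoCoherentD_of_iso ((DerivedCategory.singleFunctor Y.Modules 0).mapBiprod M N).symm
    (isPseudoCoherentD_biprod (hM m) (hN m))

theorem pcMod_copower {M : Y.Modules} (hM : PCMod M) (n : ℕ) :
    PCMod (∐ fun _ : Fin n => M) :=
  prop_copower PCMod (fun e h => pcMod_of_iso e h) (fun _ h => pcMod_of_isZero h)
    (fun _ _ hA hB => pcMod_biprod hA hB) M hM n

/-- `(M[0])|_V ≅ (M|_V)[0]`. -/
noncomputable def restrictInDIso (M : Y.Modules) (V : Y.Opens) :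
    (DCoh.restrictD V.ι).obj (DCoh.inD Y M) ≅ DCoh.inD (V : Scheme.{u}) (M.restrict V.ι) :=
  ((Scheme.Modules.restrictFunctor V.ι).mapDerivedCategorySingleFunctor 0).app M

theorem pcMod_restrict {M : Y.Modules} (h : PCMod M) (V : Y.Opens) : PCMod (M.restrict V.ι) :=
  fun m => isPseudoCoherentD_of_iso (restrictInDIso M V) (isPseudoCoherentD_restrict (h m) V)

theorem pcMod_of_locally {M : Y.Modules}
    (h : ∀ y : Y, ∃ V : Y.Opens, y ∈ V ∧ PCMod (M.restrict V.ι)) : PCMod M := fun m =>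
  isPseudoCoherentD_of_locally (fun y => by
    obtain ⟨V, hyV, hV⟩ := h y
    exact ⟨V, hyV, isPseudoCoherentD_of_iso (restrictInDIso M V).symm (hV m)⟩)

theorem pcMod_single {M : Y.Modules} (h : PCMod M) (j m : ℤ) :
    DCoh.IsPseudoCoherentD m ((DerivedCategory.singleFunctor Y.Modules j).obj M) := by
  have e : ((DerivedCategory.singleFunctor Y.Modules 0).obj M)⟦-j⟧ ≅
      (DerivedCategory.singleFunctor Y.Modules j).obj M :=
    ((DerivedCategory.singleFunctors Y.Modules).shiftIso (-j) j 0 (by omega)).app M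
  exact isPseudoCoherentD_of_iso e (isPseudoCoherentD_shift (h (-j + m)) (-j) m rfl)

end PCMod

section Push

variable (i : Z ⟶ X) [IsClosedImmersion i]

theorem pcMod_push_copower {A : Z.Modules} (hA : PCMod ((Scheme.Modules.pushforward i).obj A))
    (n : ℕ) : PCMod ((Scheme.Modules.pushforward i).obj (∐ fun _ : Fin n => A)) := by
  refine prop_copower (fun M => PCMod ((Scheme.Modules.pushforward i).obj M))
    (fun e h => pcMod_of_iso ((Scheme.Modules.pushforward i).mapIso e) h)
    (fun _ h => pcMod_of_isZero ((Scheme.Modules.pushforward i).map_isZero h))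
    (fun A B hA hB => ?_) A hA n
  have : PreservesBinaryBiproduct A B (Scheme.Modules.pushforward i) :=
    preservesBinaryBiproduct_of_preservesBiproduct _ _ _
  exact pcMod_of_iso ((Scheme.Modules.pushforward i).mapBiprod A B).symm (pcMod_biprod hA hB)

/-- The restriction of a direct image to the complement of the image vanishes. -/
theorem isZero_restrict_push_compl (F : Z.Modules) (V : X.Opens)
    (hV : ∀ x ∈ V, x ∉ Set.range i) :
    IsZero (((Scheme.Modules.pushforward i).obj F).restrict V.ι) := by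
  apply Groth.Agent.Lib.ModPullback.isZero_of_forall_subsingleton_stalk
  intro y
  rw [Groth.Agent.Lib.ModStalk.subsingleton_stalk_restrict_iff]
  apply Groth.Agent.Lib.PushStalk.subsingleton_stalk_push_of_notMem_closure_range
  rw [i.isClosedEmbedding.isClosed_range.closure_eq]
  exact hV _ y.2

theorem pcMod_push_of_isFinLocFree
    (hO : PCMod ((Scheme.Modules.pushforward i).obj (Coh.structureModule Z)))
    {F : Z.Modules} (hF : FlatMod.IsFinLocFree F) :
    PCMod ((Scheme.Modules.pushforward i).obj F) := by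
  apply pcMod_of_locally
  intro x
  by_cases hx : x ∈ Set.range i
  · obtain ⟨z, rfl⟩ := hx
    obtain ⟨VZ, hzVZ, n, hV⟩ := Groth.Agent.Lib.PerfectLocal.exists_forall_restrict_iso_freeMod hF z
    obtain ⟨t, ht, htV⟩ := i.isEmbedding.isInducing.isOpen_iff.mp VZ.2
    let V : X.Opens := ⟨t, ht⟩
    have hVV : i ⁻¹ᵁ V = VZ := Opens.ext htV
    have hzV : i z ∈ V := by
      change z ∈ i ⁻¹ᵁ V
      rw [hVV]
      exact hzVZ
    refine ⟨V, hzV, ?_⟩
    have hle : (i ⁻¹ᵁ V).ι.opensRange ≤ VZ := by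
      rw [Scheme.Opens.opensRange_ι, hVV]
    obtain ⟨e1⟩ := hV (i ⁻¹ᵁ V).ι hle
    let e2 := Groth.Agent.Lib.FinLocFree.restrictFreeModIso (i ⁻¹ᵁ V).ι (Y := Z) n
    let e : ((Scheme.Modules.pushforward i).obj (FlatMod.freeMod Z n)).restrict V.ι ≅
        ((Scheme.Modules.pushforward i).obj F).restrict V.ι :=
      (Groth.Agent.Lib.PushRestrict.pushRestrictIso i V).app (FlatMod.freeMod Z n) ≪≫
        (Scheme.Modules.pushforward (i ∣_ V)).mapIso (e2 ≪≫ e1.symm) ≪≫
        ((Groth.Agent.Lib.PushRestrict.pushRestrictIso i V).app F).symm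
    exact pcMod_of_iso e (pcMod_restrict (pcMod_push_copower i hO n) V)
  · have hopen : IsOpen (Set.range i)ᶜ := i.isClosedEmbedding.isClosed_range.isOpen_compl
    refine ⟨⟨(Set.range i)ᶜ, hopen⟩, hx, ?_⟩
    exact pcMod_of_isZero (isZero_restrict_push_compl i F _ (fun y hy => hy))

/-- The direct image of a strictly perfect complex along a closed immersion with pseudo-coherent
`i_* O_Z` is pseudo-coherent. -/
theorem isPseudoCoherentD_pushCx_of_isStrictlyPerfect
    (hO : PCMod ((Scheme.Modules.pushforward i).obj (Coh.structureModule Z)))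
    {P : CochainComplex Z.Modules ℤ} (hP : DCoh.IsStrictlyPerfect P) (m : ℤ) :
    DCoh.IsPseudoCoherentD m (DerivedCategory.Q.obj
      (((Scheme.Modules.pushforward i).mapHomologicalComplex (ComplexShape.up ℤ)).obj P)) := by
  obtain ⟨⟨a, b, hab⟩, hfree⟩ := hP
  let W : ObjectProperty (DCoh.D X) := fun K => ∀ m : ℤ, DCoh.IsPseudoCoherentD m K
  haveI : W.IsClosedUnderIsomorphisms := ⟨fun e h m => isPseudoCoherentD_of_iso e (h m)⟩
  have hW : W (DerivedCategory.Q.obj
      (((Scheme.Modules.pushforward i).mapHomologicalComplex (ComplexShape.up ℤ)).obj P)) := by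
    refine Groth.Agent.Lib.FlatAmp.bounded_termwise_devissage W
      (fun T hT h1 h3 m => isPseudoCoherentD_obj₂ m T hT (h1 m) (h3 m))
      (fun K hK m => isPseudoCoherentD_of_isZero_homology m K
        (fun j _ => (DerivedCategory.homologyFunctor _ j).map_isZero hK))
      _ a b (fun j hj => (Scheme.Modules.pushforward i).map_isZero (hab j hj))
      (fun j M ⟨e⟩ m => ?_)
    exact pcMod_single (pcMod_of_iso e.symm (pcMod_push_of_isFinLocFree i hO (hfree j))) j m
  exact hW m

/-- The hypothesis "`i_* O_Z` is pseudo-coherent" restricts to opens of the target. -/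
theorem pcMod_push_structure_restrict
    (hO : PCMod ((Scheme.Modules.pushforward i).obj (Coh.structureModule Z))) (V : X.Opens) :
    PCMod ((Scheme.Modules.pushforward (i ∣_ V)).obj
      (Coh.structureModule (i ⁻¹ᵁ V : Scheme.{u}))) := by
  let e : ((Scheme.Modules.pushforward i).obj (Coh.structureModule Z)).restrict V.ι ≅
      (Scheme.Modules.pushforward (i ∣_ V)).obj (Coh.structureModule (i ⁻¹ᵁ V : Scheme.{u})) :=
    (Groth.Agent.Lib.PushRestrict.pushRestrictIso i V).app (Coh.structureModule Z) ≪≫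
      (Scheme.Modules.pushforward (i ∣_ V)).mapIso (Scheme.Modules.restrictUnitIso (i ⁻¹ᵁ V).ι)
  exact pcMod_of_iso e (pcMod_restrict hO V)

/-- (⇒) of S1102: the direct image of an `m`-pseudo-coherent object along a closed immersion with
pseudo-coherent `i_* O_Z` is `m`-pseudo-coherent. -/
theorem isPseudoCoherentD_pushD
    (hO : PCMod ((Scheme.Modules.pushforward i).obj (Coh.structureModule Z)))
    {E : DCoh.D Z} {m : ℤ} (hE : DCoh.IsPseudoCoherentD m E) :
    DCoh.IsPseudoCoherentD m ((pushD i).obj E) := by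
  apply isPseudoCoherentD_of_locally
  intro x
  by_cases hx : x ∈ Set.range i
  · obtain ⟨z, rfl⟩ := hx
    obtain ⟨W, hzW, hW⟩ := (isPseudoCoherentD_iff_pcOn m E).1 hE z
    obtain ⟨t, ht, htW⟩ := i.isEmbedding.isInducing.isOpen_iff.mp W.2
    let V : X.Opens := ⟨t, ht⟩
    have hVW : i ⁻¹ᵁ V = W := Opens.ext htW
    have hzV : i z ∈ V := by
      change z ∈ i ⁻¹ᵁ V
      rw [hVW]
      exact hzW
    refine ⟨V, hzV, ?_⟩
    obtain ⟨P, α, hP, hα⟩ := (pcOn_iff m E (i ⁻¹ᵁ V).ι).1 (pcOn_inf hW hVW.le)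
    have h1 : DCoh.IsPseudoCoherentD m ((pushD (i ∣_ V)).obj (DerivedCategory.Q.obj P)) :=
      isPseudoCoherentD_of_iso
        ((Scheme.Modules.pushforward (i ∣_ V)).mapDerivedCategoryFactors.app P).symm
        (isPseudoCoherentD_pushCx_of_isStrictlyPerfect (i ∣_ V)
          (pcMod_push_structure_restrict i hO V) hP m)
    have h2 := isPseudoCoherentD_of_qIsoAbove _ (qIsoAbove_pushD (i ∣_ V) hα) h1
    exact isPseudoCoherentD_of_iso ((pushRestrictD i V).app E).symm h2
  · have hopen : IsOpen (Set.range i)ᶜ := i.isClosedEmbedding.isClosed_range.isOpen_compl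
    refine ⟨⟨(Set.range i)ᶜ, hopen⟩, hx, ?_⟩
    apply isPseudoCoherentD_of_isZero_homology
    intro j _
    let V : X.Opens := ⟨(Set.range i)ᶜ, hopen⟩
    have e : DCoh.HD ((DCoh.restrictD V.ι).obj ((pushD i).obj E)) j ≅
        ((Scheme.Modules.pushforward i).obj (DCoh.HD E j)).restrict V.ι :=
      (mapDerivedCategoryHomologyIso (Scheme.Modules.restrictFunctor V.ι) j).app _ ≪≫
        (Scheme.Modules.restrictFunctor V.ι).mapIso (HDpushDIso i E j)
    exact (isZero_restrict_push_compl i (DCoh.HD E j) V (fun y hy => hy)).of_iso e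

end Push

section Descent

variable {Y : Scheme.{u}}

/-- A quotient of a module of finite type is of finite type. -/
theorem isFT_of_epi {M N : Y.Modules} (p : M ⟶ N) [Epi p] (hM : CohB1.IsFT M) : CohB1.IsFT N := by
  apply Groth.Agent.Lib.LocalFlex.isFT_of_forall_exists_epi
  intro y
  obtain ⟨U, n, q, hyU, hq⟩ := Groth.Agent.Lib.PseudoCohNoeth.exists_epi_freeMod_of_isFT M hM y
  have : Epi ((Scheme.Modules.restrictFunctor U.ι).map p) := inferInstance
  exact ⟨U, U.ι, inferInstance, n, q ≫ (Scheme.Modules.restrictFunctor U.ι).map p,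
    ⟨⟨y, hyU⟩, rfl⟩, epi_comp _ _⟩

variable (i : Z ⟶ X) [IsClosedImmersion i]

/-- Direct image along a closed immersion reflects epimorphisms. -/
theorem epi_of_epi_pushforward_map {A B : Z.Modules} (φ : A ⟶ B)
    [Epi ((Scheme.Modules.pushforward i).map φ)] : Epi φ := by
  apply Preadditive.epi_of_isZero_cokernel
  apply Groth.Agent.Lib.H90DevFilt.isZero_of_isZero_pushforward i
  exact (isZero_cokernel_of_epi ((Scheme.Modules.pushforward i).map φ)).of_iso
    (PreservesCokernel.iso (Scheme.Modules.pushforward i) φ)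

/-- Finite type descends along the direct image of a closed immersion. -/
theorem isFT_of_isFT_pushforward {N : Z.Modules}
    (h : CohB1.IsFT ((Scheme.Modules.pushforward i).obj N)) : CohB1.IsFT N := by
  let adj := Scheme.Modules.pullbackPushforwardAdjunction i
  have h1 : adj.unit.app ((Scheme.Modules.pushforward i).obj N) ≫
      (Scheme.Modules.pushforward i).map (adj.counit.app N) = 𝟙 _ :=
    adj.right_triangle_components N
  haveI : Epi ((Scheme.Modules.pushforward i).map (adj.counit.app N)) :=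
    (IsSplitEpi.mk' ⟨_, h1⟩).epi
  haveI : Epi (adj.counit.app N) := epi_of_epi_pushforward_map i _
  haveI : ((Scheme.Modules.pushforward i).obj N).IsFiniteType := h
  exact isFT_of_epi (adj.counit.app N)
    (Groth.Agent.Lib.SupportTensor.isFiniteType_pullback i _)

end Descent

section Generator

/-- The free module of rank `r` placed in degree `b`. -/
noncomputable abbrev sgl (Y : Scheme.{u}) (b : ℤ) (r : ℕ) : CochainComplex Y.Modules ℤ :=
  (HomologicalComplex.single Y.Modules (ComplexShape.up ℤ) b).obj (FlatMod.freeMod Y r)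

noncomputable def restrictSglIso {Y₁ Y₂ : Scheme.{u}} (k : Y₂ ⟶ Y₁) [IsOpenImmersion k]
    (b : ℤ) (r : ℕ) :
    (DCoh.restrictD k).obj (DerivedCategory.Q.obj (sgl Y₁ b r)) ≅
      DerivedCategory.Q.obj (sgl Y₂ b r) :=
  (Scheme.Modules.restrictFunctor k).mapDerivedCategoryFactors.app (sgl Y₁ b r) ≪≫
    DerivedCategory.Q.mapIso
      ((HomologicalComplex.singleMapHomologicalComplex (Scheme.Modules.restrictFunctor k)
        (ComplexShape.up ℤ) b).app (FlatMod.freeMod Y₁ r) ≪≫
      (HomologicalComplex.single Y₂.Modules (ComplexShape.up ℤ) b).mapIso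
        (Groth.Agent.Lib.FinLocFree.restrictFreeModIso k r))

theorem generator_comp {Y : Scheme.{u}} (K : DCoh.D Y) {Y₁ : Scheme.{u}} (j₁ : Y₁ ⟶ Y)
    [IsOpenImmersion j₁] (b : ℤ) (r : ℕ)
    (φ : DerivedCategory.Q.obj (sgl Y₁ b r) ⟶ (DCoh.restrictD j₁).obj K)
    (hφ : Epi ((DerivedCategory.homologyFunctor _ b).map φ)) {Y₂ : Scheme.{u}} (k : Y₂ ⟶ Y₁)
    [IsOpenImmersion k] (j₂ : Y₂ ⟶ Y) [IsOpenImmersion j₂] (h : k ≫ j₁ = j₂) :
    ∃ φ' : DerivedCategory.Q.obj (sgl Y₂ b r) ⟶ (DCoh.restrictD j₂).obj K,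
      Epi ((DerivedCategory.homologyFunctor _ b).map φ') := by
  refine ⟨(restrictSglIso k b r).inv ≫ (DCoh.restrictD k).map φ ≫
    (restrictDCompIso k j₁ j₂ h).hom.app K, ?_⟩
  have := epi_homology_map (Scheme.Modules.restrictFunctor k) φ b
  rw [Functor.map_comp, Functor.map_comp]
  exact epi_comp' inferInstance (epi_comp' this inferInstance)

end Generator

section Converse

open Pretriangulated

theorem pc_of_pushD_aux (n : ℕ) : ∀ {Z X : Scheme.{u}} (i : Z ⟶ X) [IsClosedImmersion i],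
    PCMod ((Scheme.Modules.pushforward i).obj (Coh.structureModule Z)) →
    ∀ (E : DCoh.D Z) (m b : ℤ), b < m + n → (∀ j : ℤ, b < j → IsZero (DCoh.HD E j)) →
    DCoh.IsPseudoCoherentD m ((pushD i).obj E) → DCoh.IsPseudoCoherentD m E := by
  induction n with
  | zero =>
    intro Z X i _ _ E m b hb hz _
    exact isPseudoCoherentD_of_isZero_homology m E (fun j hj => hz j (by omega))
  | succ n ih =>
    intro Z X i _ hO E m b hb hz hK
    by_cases hb' : b < m + n
    · exact ih i hO E m b hb' hz hK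
    apply isPseudoCoherentD_of_locally
    intro z
    have hKb : DCoh.IsPseudoCoherentD b ((pushD i).obj E) :=
      isPseudoCoherentD_of_le (by omega) hK
    have hzK : ∀ j : ℤ, b < j → IsZero (DCoh.HD ((pushD i).obj E) j) :=
      fun j hj => (isZero_HD_pushD_iff i E j).2 (hz j hj)
    have hFT := isFT_HD_of_isPseudoCoherentD b _ hKb hzK
    have hFT' : CohB1.IsFT (DCoh.HD E b) :=
      isFT_of_isFT_pushforward i
        (Groth.Agent.Lib.PseudoCohSingle.isFT_of_iso (HDpushDIso i E b) hFT)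
    obtain ⟨U, r, p, hzU, hp⟩ :=
      Groth.Agent.Lib.PseudoCohNoeth.exists_epi_freeMod_of_isFT (DCoh.HD E b) hFT' z
    let eU : (DCoh.HD E b).restrict U.ι ≅ DCoh.HD ((DCoh.restrictD U.ι).obj E) b :=
      ((mapDerivedCategoryHomologyIso (Scheme.Modules.restrictFunctor U.ι) b).app E).symm
    haveI : Epi (p ≫ eU.hom) := epi_comp _ _
    obtain ⟨V', φ, hzV', hφ⟩ := Groth.Agent.Lib.PseudoCohNoeth.exists_generator
      ((DCoh.restrictD U.ι).obj E) b (p ≫ eU.hom) ⟨z, hzU⟩
    let U₂ : Z.Opens := U.ι ''ᵁ V'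
    have hzU₂ : z ∈ U₂ := ⟨⟨z, hzU⟩, hzV', rfl⟩
    obtain ⟨t, ht, htU₂⟩ := i.isEmbedding.isInducing.isOpen_iff.mp U₂.2
    let V : X.Opens := ⟨t, ht⟩
    have hVU : i ⁻¹ᵁ V = U₂ := Opens.ext htU₂
    have hzW : z ∈ i ⁻¹ᵁ V := by rw [hVU]; exact hzU₂
    have hsub : Set.range (i ⁻¹ᵁ V).ι ⊆ Set.range (V'.ι ≫ U.ι) := by
      rintro _ ⟨w, rfl⟩
      have hw : (i ⁻¹ᵁ V).ι w ∈ U₂ := by rw [← hVU]; exact w.2
      obtain ⟨u, hu, hu'⟩ := hw
      exact ⟨⟨u, hu⟩, hu'⟩
    let k : (i ⁻¹ᵁ V : Scheme.{u}) ⟶ (V' : Scheme.{u}) :=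
      IsOpenImmersion.lift (V'.ι ≫ U.ι) (i ⁻¹ᵁ V).ι hsub
    have hk : k ≫ (V'.ι ≫ U.ι) = (i ⁻¹ᵁ V).ι := IsOpenImmersion.lift_fac _ _ _
    haveI : IsOpenImmersion (k ≫ (V'.ι ≫ U.ι)) := by rw [hk]; infer_instance
    haveI : IsOpenImmersion k := IsOpenImmersion.of_comp k (V'.ι ≫ U.ι)
    have hφ₁ : Epi ((DerivedCategory.homologyFunctor _ b).map
        (φ ≫ (restrictDCompIso V'.ι U.ι (V'.ι ≫ U.ι) rfl).hom.app E)) := by
      rw [Functor.map_comp]
      exact epi_comp _ _
    obtain ⟨φ', hφ'⟩ := generator_comp E (V'.ι ≫ U.ι) b r _ hφ₁ k (i ⁻¹ᵁ V).ι hk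
    obtain ⟨C, β, γ, hT⟩ := distinguished_cocone_triangle φ'
    have hzE' : ∀ j : ℤ, b < j → IsZero (DCoh.HD ((DCoh.restrictD (i ⁻¹ᵁ V).ι).obj E) j) :=
      fun j hj => isZero_homology_restrictD E _ j (hz j hj)
    have hqi : QIsoAbove b φ' := by
      refine ⟨fun j hj => ?_, hφ'⟩
      exact Groth.Agent.Lib.PseudoCohSingle.isIso_of_isZero
        (Groth.Agent.Lib.PseudoCohNoeth.isZero_HD_single b _ j (by omega)) (hzE' j hj) _
    have hzC : ∀ j : ℤ, b ≤ j → IsZero (DCoh.HD C j) :=
      fun j hj => isZero_homology_obj₃ (T := Triangle.mk φ' β γ) hT hqi j hj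
    have hO' := pcMod_push_structure_restrict i hO V
    have hsp : DCoh.IsStrictlyPerfect (sgl (i ⁻¹ᵁ V : Scheme.{u}) b r) :=
      Groth.Agent.Lib.PseudoCohNoeth.isStrictlyPerfect_single' b _
        (Groth.Agent.Lib.PerfectLocal.isFinLocFree_freeMod _ r)
    have h₁ : DCoh.IsPseudoCoherentD (m + 1)
        ((pushD (i ∣_ V)).obj (DerivedCategory.Q.obj (sgl (i ⁻¹ᵁ V : Scheme.{u}) b r))) :=
      isPseudoCoherentD_of_iso
        ((Scheme.Modules.pushforward (i ∣_ V)).mapDerivedCategoryFactors.app _).symm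
        (isPseudoCoherentD_pushCx_of_isStrictlyPerfect (i ∣_ V) hO' hsp (m + 1))
    have h₂ : DCoh.IsPseudoCoherentD m
        ((pushD (i ∣_ V)).obj ((DCoh.restrictD (i ⁻¹ᵁ V).ι).obj E)) :=
      isPseudoCoherentD_of_iso ((pushRestrictD i V).app E) (isPseudoCoherentD_restrict hK V)
    have h₃ : DCoh.IsPseudoCoherentD m ((pushD (i ∣_ V)).obj C) :=
      isPseudoCoherentD_obj₃ m ((pushD (i ∣_ V)).mapTriangle.obj (Triangle.mk φ' β γ))
        ((pushD (i ∣_ V)).map_distinguished _ hT) h₁ h₂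
    have hC : DCoh.IsPseudoCoherentD m C :=
      ih (i ∣_ V) hO' C m (b - 1) (by omega) (fun j hj => hzC j (by omega)) h₃
    exact ⟨i ⁻¹ᵁ V, hzW, isPseudoCoherentD_obj₂ m (Triangle.mk φ' β γ) hT
      (isPseudoCoherentD_Q_of_isStrictlyPerfect m hsp) hC⟩

/-- (⇐) of S1102. -/
theorem isPseudoCoherentD_of_pushD {Z X : Scheme.{u}} (i : Z ⟶ X) [IsClosedImmersion i]
    (hO : PCMod ((Scheme.Modules.pushforward i).obj (Coh.structureModule Z)))
    {E : DCoh.D Z} {m : ℤ} (hK : DCoh.IsPseudoCoherentD m ((pushD i).obj E)) :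
    DCoh.IsPseudoCoherentD m E := by
  apply isPseudoCoherentD_of_locally
  intro z
  obtain ⟨V, hxV, hV⟩ := (isPseudoCoherentD_iff_pcOn m _).1 hK (i z)
  obtain ⟨P, α, hP, hα⟩ := (pcOn_iff m _ V.ι).1 hV
  obtain ⟨⟨a, c, hac⟩, _⟩ := hP
  refine ⟨i ⁻¹ᵁ V, hxV, ?_⟩
  have hzK : ∀ j : ℤ, max c m < j →
      IsZero (DCoh.HD ((DCoh.restrictD V.ι).obj ((pushD i).obj E)) j) := by
    intro j hj
    have := hα.1 j (by omega)
    have h0 : IsZero (DCoh.HD (DerivedCategory.Q.obj P) j) :=
      (Groth.Agent.Lib.PerfectCoh.isZero_homology_of_vanishesOutside P hac j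
        (Or.inr (by omega))).of_iso (Groth.Agent.Lib.PerfectCoh.HDIso P j)
    exact h0.of_iso (asIso ((DerivedCategory.homologyFunctor _ j).map α)).symm
  have hzE : ∀ j : ℤ, max c m < j →
      IsZero (DCoh.HD ((DCoh.restrictD (i ⁻¹ᵁ V).ι).obj E) j) := by
    intro j hj
    rw [← isZero_HD_pushD_iff (i ∣_ V)]
    exact (hzK j hj).of_iso
      ((DerivedCategory.homologyFunctor _ j).mapIso ((pushRestrictD i V).app E).symm)
  exact pc_of_pushD_aux (max c m - m + 1).toNat (i ∣_ V) (pcMod_push_structure_restrict i hO V)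
    _ m (max c m) (by omega) hzE
    (isPseudoCoherentD_of_iso ((pushRestrictD i V).app E) (isPseudoCoherentD_restrict hK V))

end Converse

end Groth.Agent.Lib.ClosedPushPC17
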