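import Groth.Agent.Lib.RelPCComp17

/-!
# Direct image along a closed immersion and pseudo-coherence, with indices (helper17)

For a closed immersion `i : Z ⟶ X` and `E ∈ D^{≤ b}(O_Z)`:
* `isPseudoCoherentD_pushD_idx`: if `i_* O_Z` is `(m - b)`-pseudo-coherent and `E` is
  `m`-pseudo-coherent, then `i_* E` is `m`-pseudo-coherent;
* `isPseudoCoherentD_of_pushD_idx`: if `i_* O_Z` is `(m + 1 - b)`-pseudo-coherent and `i_* E` is
  `m`-pseudo-coherent, then `E` is `m`-pseudo-coherent.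
-/

set_option autoImplicit false
universe u
open CategoryTheory CategoryTheory.Limits AlgebraicGeometry TopologicalSpace Opposite
  Pretriangulated
attribute [local instance] HasDerivedCategory.standard

namespace Groth.Agent.Lib.ClosedPushPCIdx17

open Groth.Agent.Lib.ClosedPushExact17 Groth.Agent.Lib.PerfectD Groth.Agent.Lib.PseudoCohD
  Groth.Agent.Lib.PseudoCohTriangle Groth.Agent.Lib.PseudoCohSummand
  Groth.Agent.Lib.FlatBaseChangeD Groth.Agent.Lib.RestrictExact Groth.Agent.Lib.ClosedPushPC17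
  Groth.Agent.Lib.PseudoCohHomology17

section PCa

variable {Y : Scheme.{u}}

/-- `M`, placed in degree `0`, is `a`-pseudo-coherent. -/
def PCa (a : ℤ) (M : Y.Modules) : Prop := DCoh.IsPseudoCoherentD a (DCoh.inD Y M)

theorem pca_of_iso {a : ℤ} {M N : Y.Modules} (e : M ≅ N) (h : PCa a M) : PCa a N :=
  isPseudoCoherentD_inD_of_iso e h

theorem pca_of_le {a a' : ℤ} (h : a ≤ a') {M : Y.Modules} (hM : PCa a M) : PCa a' M :=
  isPseudoCoherentD_of_le h hM

theorem pca_of_isZero {a : ℤ} {M : Y.Modules} (h : IsZero M) : PCa a M :=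
  isPseudoCoherentD_of_isZero_homology a _ (fun j _ =>
    (DerivedCategory.homologyFunctor _ j).map_isZero
      ((DerivedCategory.singleFunctor Y.Modules 0).map_isZero h))

theorem pca_biprod {a : ℤ} {M N : Y.Modules} (hM : PCa a M) (hN : PCa a N) : PCa a (M ⊞ N) := by
  have : PreservesBinaryBiproduct M N (DerivedCategory.singleFunctor Y.Modules 0) :=
    preservesBinaryBiproduct_of_preservesBiproduct _ _ _
  exact isPseudoCoherentD_of_iso ((DerivedCategory.singleFunctor Y.Modules 0).mapBiprod M N).symm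
    (isPseudoCoherentD_biprod hM hN)

theorem pca_restrict {a : ℤ} {M : Y.Modules} (h : PCa a M) (V : Y.Opens) :
    PCa a (M.restrict V.ι) :=
  isPseudoCoherentD_of_iso (restrictInDIso M V) (isPseudoCoherentD_restrict h V)

end PCa

section Push

variable {Z X : Scheme.{u}} (i : Z ⟶ X) [IsClosedImmersion i]

theorem pca_push_copower {a : ℤ} {A : Z.Modules}
    (hA : PCa a ((Scheme.Modules.pushforward i).obj A)) (n : ℕ) :
    PCa a ((Scheme.Modules.pushforward i).obj (∐ fun _ : Fin n => A)) := by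
  refine prop_copower (fun M => PCa a ((Scheme.Modules.pushforward i).obj M))
    (fun e h => pca_of_iso ((Scheme.Modules.pushforward i).mapIso e) h)
    (fun _ h => pca_of_isZero ((Scheme.Modules.pushforward i).map_isZero h))
    (fun A B hA hB => ?_) A hA n
  have : PreservesBinaryBiproduct A B (Scheme.Modules.pushforward i) :=
    preservesBinaryBiproduct_of_preservesBiproduct _ _ _
  exact pca_of_iso ((Scheme.Modules.pushforward i).mapBiprod A B).symm (pca_biprod hA hB)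

theorem pca_push_structure_restrict {a : ℤ}
    (hO : PCa a ((Scheme.Modules.pushforward i).obj (Coh.structureModule Z))) (V : X.Opens) :
    PCa a ((Scheme.Modules.pushforward (i ∣_ V)).obj
      (Coh.structureModule (i ⁻¹ᵁ V : Scheme.{u}))) := by
  let e : ((Scheme.Modules.pushforward i).obj (Coh.structureModule Z)).restrict V.ι ≅
      (Scheme.Modules.pushforward (i ∣_ V)).obj (Coh.structureModule (i ⁻¹ᵁ V : Scheme.{u})) :=
    (Groth.Agent.Lib.PushRestrict.pushRestrictIso i V).app (Coh.structureModule Z) ≪≫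
      (Scheme.Modules.pushforward (i ∣_ V)).mapIso (Scheme.Modules.restrictUnitIso (i ⁻¹ᵁ V).ι)
  exact pca_of_iso e (pca_restrict hO V)

/-- The direct image of a free module placed in degree `b`. -/
theorem isPseudoCoherentD_pushD_sgl {m b : ℤ}
    (hO : PCa (m - b) ((Scheme.Modules.pushforward i).obj (Coh.structureModule Z))) (r : ℕ) :
    DCoh.IsPseudoCoherentD m ((pushD i).obj (DerivedCategory.Q.obj (sgl Z b r))) := by
  have h1 : PCa (m - b) ((Scheme.Modules.pushforward i).obj (FlatMod.freeMod Z r)) :=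
    pca_push_copower i hO r
  have h2 := isPseudoCoherentD_single_of (j := b) (m := m) h1
  let e : (pushD i).obj (DerivedCategory.Q.obj (sgl Z b r)) ≅
      (DerivedCategory.singleFunctor X.Modules b).obj
        ((Scheme.Modules.pushforward i).obj (FlatMod.freeMod Z r)) :=
    (pushD i).mapIso ((DerivedCategory.singleFunctorIsoCompQ Z.Modules b).app _).symm ≪≫
      ((Scheme.Modules.pushforward i).mapDerivedCategorySingleFunctor b).app _
  exact isPseudoCoherentD_of_iso e.symm h2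

end Push

section Generator

/-- Around a point of `Z`, an object of `D^{≤ b}` with `H^b` of finite type receives a map from a
free module in degree `b` which is onto on `H^b`, on the preimage of an open of `X`. -/
theorem exists_local_generator {Z X : Scheme.{u}} (i : Z ⟶ X) [IsClosedImmersion i]
    (E : DCoh.D Z) (b : ℤ) (hz : ∀ j : ℤ, b < j → IsZero (DCoh.HD E j))
    (hFT : CohB1.IsFT (DCoh.HD E b)) (z : Z) :
    ∃ (V : X.Opens) (r : ℕ) (C : DCoh.D (i ⁻¹ᵁ V : Scheme.{u}))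
      (φ' : DerivedCategory.Q.obj (sgl (i ⁻¹ᵁ V : Scheme.{u}) b r) ⟶
        (DCoh.restrictD (i ⁻¹ᵁ V).ι).obj E) (β : (DCoh.restrictD (i ⁻¹ᵁ V).ι).obj E ⟶ C)
      (γ : C ⟶ (DerivedCategory.Q.obj (sgl (i ⁻¹ᵁ V : Scheme.{u}) b r))⟦(1 : ℤ)⟧),
      z ∈ i ⁻¹ᵁ V ∧ Triangle.mk φ' β γ ∈ distTriang _ ∧
        ∀ j : ℤ, b ≤ j → IsZero (DCoh.HD C j) := by
  obtain ⟨U, r, p, hzU, hp⟩ :=
    Groth.Agent.Lib.PseudoCohNoeth.exists_epi_freeMod_of_isFT (DCoh.HD E b) hFT z
  let eU : (DCoh.HD E b).restrict U.ι ≅ DCoh.HD ((DCoh.restrictD U.ι).obj E) b :=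
    ((mapDerivedCategoryHomologyIso (Scheme.Modules.restrictFunctor U.ι) b).app E).symm
  haveI : Epi (p ≫ eU.hom) := epi_comp _ _
  obtain ⟨V', φ, hzV', hφ⟩ := Groth.Agent.Lib.PseudoCohNoeth.exists_generator
    ((DCoh.restrictD U.ι).obj E) b (p ≫ eU.hom) ⟨z, hzU⟩
  let U₂ : Z.Opens := U.ι ''ᵁ V'
  have hzU₂ : z ∈ U₂ := ⟨⟨z, hzU⟩, hzV', rfl⟩
  obtain ⟨t, ht, htU₂⟩ := i.isEmbedding.isInducing.isOpen_iff.mp U₂.2
  let V : X.Opens := ⟨t, ht⟩
  have hVU : i ⁻¹ᵁ V = U₂ := Opens.ext htU₂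
  have hzW : z ∈ i ⁻¹ᵁ V := by rw [hVU]; exact hzU₂
  have hsub : Set.range (i ⁻¹ᵁ V).ι ⊆ Set.range (V'.ι ≫ U.ι) := by
    rintro _ ⟨w, rfl⟩
    have hw : (i ⁻¹ᵁ V).ι w ∈ U₂ := by rw [← hVU]; exact w.2
    obtain ⟨u, hu, hu'⟩ := hw
    exact ⟨⟨u, hu⟩, hu'⟩
  let k : (i ⁻¹ᵁ V : Scheme.{u}) ⟶ (V' : Scheme.{u}) :=
    IsOpenImmersion.lift (V'.ι ≫ U.ι) (i ⁻¹ᵁ V).ι hsub
  have hk : k ≫ (V'.ι ≫ U.ι) = (i ⁻¹ᵁ V).ι := IsOpenImmersion.lift_fac _ _ _
  haveI : IsOpenImmersion (k ≫ (V'.ι ≫ U.ι)) := by rw [hk]; infer_instance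
  haveI : IsOpenImmersion k := IsOpenImmersion.of_comp k (V'.ι ≫ U.ι)
  have hφ₁ : Epi ((DerivedCategory.homologyFunctor _ b).map
      (φ ≫ (restrictDCompIso V'.ι U.ι (V'.ι ≫ U.ι) rfl).hom.app E)) := by
    rw [Functor.map_comp]
    exact epi_comp _ _
  obtain ⟨φ', hφ'⟩ := generator_comp E (V'.ι ≫ U.ι) b r _ hφ₁ k (i ⁻¹ᵁ V).ι hk
  obtain ⟨C, β, γ, hT⟩ := distinguished_cocone_triangle φ'
  have hzE' : ∀ j : ℤ, b < j → IsZero (DCoh.HD ((DCoh.restrictD (i ⁻¹ᵁ V).ι).obj E) j) :=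
    fun j hj => isZero_homology_restrictD E _ j (hz j hj)
  have hqi : QIsoAbove b φ' := by
    refine ⟨fun j hj => ?_, hφ'⟩
    exact Groth.Agent.Lib.PseudoCohSingle.isIso_of_isZero
      (Groth.Agent.Lib.PseudoCohNoeth.isZero_HD_single b _ j (by omega)) (hzE' j hj) _
  have hzC : ∀ j : ℤ, b ≤ j → IsZero (DCoh.HD C j) :=
    fun j hj => isZero_homology_obj₃ (T := Triangle.mk φ' β γ) hT hqi j hj
  exact ⟨V, r, C, φ', β, γ, hzW, hT, hzC⟩

end Generator

section Main

theorem isStrictlyPerfect_sgl (Y : Scheme.{u}) (b : ℤ) (r : ℕ) :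
    DCoh.IsStrictlyPerfect (sgl Y b r) :=
  Groth.Agent.Lib.PseudoCohNoeth.isStrictlyPerfect_single' b _
    (Groth.Agent.Lib.PerfectLocal.isFinLocFree_freeMod _ r)

theorem pc_pushD_idx_aux (n : ℕ) : ∀ {Z X : Scheme.{u}} (i : Z ⟶ X) [IsClosedImmersion i]
    (E : DCoh.D Z) (m b : ℤ), b < m + n → (∀ j : ℤ, b < j → IsZero (DCoh.HD E j)) →
    PCa (m - b) ((Scheme.Modules.pushforward i).obj (Coh.structureModule Z)) →
    DCoh.IsPseudoCoherentD m E → DCoh.IsPseudoCoherentD m ((pushD i).obj E) := by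
  induction n with
  | zero =>
    intro Z X i _ E m b hb hz _ _
    exact isPseudoCoherentD_of_isZero_homology m _
      (fun j hj => (isZero_HD_pushD_iff i E j).2 (hz j (by omega)))
  | succ n ih =>
    intro Z X i _ E m b hb hz hO hE
    by_cases hb' : b < m + n
    · exact ih i E m b hb' hz hO hE
    apply isPseudoCoherentD_of_locally
    intro x
    by_cases hx : x ∈ Set.range i
    · obtain ⟨z, rfl⟩ := hx
      have hEb : DCoh.IsPseudoCoherentD b E := isPseudoCoherentD_of_le (by omega) hE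
      have hFT := isFT_HD_of_isPseudoCoherentD b _ hEb hz
      obtain ⟨V, r, C, φ', β, γ, hzV, hT, hzC⟩ := exists_local_generator i E b hz hFT z
      have hO' := pca_push_structure_restrict i hO V
      have hsp := isStrictlyPerfect_sgl (i ⁻¹ᵁ V : Scheme.{u}) b r
      have hC : DCoh.IsPseudoCoherentD m C :=
        isPseudoCoherentD_obj₃ m (Triangle.mk φ' β γ) hT
          (isPseudoCoherentD_Q_of_isStrictlyPerfect (m + 1) hsp) (isPseudoCoherentD_restrict hE _)
      have h₃ : DCoh.IsPseudoCoherentD m ((pushD (i ∣_ V)).obj C) :=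
        ih (i ∣_ V) C m (b - 1) (by omega) (fun j hj => hzC j (by omega))
          (pca_of_le (by omega) hO') hC
      have h₁ : DCoh.IsPseudoCoherentD m
          ((pushD (i ∣_ V)).obj (DerivedCategory.Q.obj (sgl (i ⁻¹ᵁ V : Scheme.{u}) b r))) :=
        isPseudoCoherentD_pushD_sgl (i ∣_ V) hO' r
      have h₂ : DCoh.IsPseudoCoherentD m
          ((pushD (i ∣_ V)).obj ((DCoh.restrictD (i ⁻¹ᵁ V).ι).obj E)) :=
        isPseudoCoherentD_obj₂ m ((pushD (i ∣_ V)).mapTriangle.obj (Triangle.mk φ' β γ))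
          ((pushD (i ∣_ V)).map_distinguished _ hT) h₁ h₃
      exact ⟨V, hzV, isPseudoCoherentD_of_iso ((pushRestrictD i V).app E).symm h₂⟩
    · let V₀ : X.Opens := ⟨(Set.range i)ᶜ, i.isClosedEmbedding.isClosed_range.isOpen_compl⟩
      exact ⟨V₀, hx, Groth.Agent.Lib.RelPCMoves17.isPseudoCoherentD_restrict_compl_pushD i E m V₀
        (fun y hy => hy)⟩

/-- Direct image of an `m`-pseudo-coherent object of `D^{≤ b}` along a closed immersion with
`(m - b)`-pseudo-coherent structure sheaf. -/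
theorem isPseudoCoherentD_pushD_idx {Z X : Scheme.{u}} (i : Z ⟶ X) [IsClosedImmersion i]
    (E : DCoh.D Z) (m b : ℤ) (hz : ∀ j : ℤ, b < j → IsZero (DCoh.HD E j))
    (hO : PCa (m - b) ((Scheme.Modules.pushforward i).obj (Coh.structureModule Z)))
    (hE : DCoh.IsPseudoCoherentD m E) : DCoh.IsPseudoCoherentD m ((pushD i).obj E) :=
  pc_pushD_idx_aux (b - m + 1).toNat i E m b (by omega) hz hO hE

theorem pc_of_pushD_idx_aux (n : ℕ) : ∀ {Z X : Scheme.{u}} (i : Z ⟶ X) [IsClosedImmersion i]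
    (E : DCoh.D Z) (m b : ℤ), b < m + n → (∀ j : ℤ, b < j → IsZero (DCoh.HD E j)) →
    PCa (m + 1 - b) ((Scheme.Modules.pushforward i).obj (Coh.structureModule Z)) →
    DCoh.IsPseudoCoherentD m ((pushD i).obj E) → DCoh.IsPseudoCoherentD m E := by
  induction n with
  | zero =>
    intro Z X i _ E m b hb hz _ _
    exact isPseudoCoherentD_of_isZero_homology m E (fun j hj => hz j (by omega))
  | succ n ih =>
    intro Z X i _ E m b hb hz hO hK
    by_cases hb' : b < m + n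
    · exact ih i E m b hb' hz hO hK
    apply isPseudoCoherentD_of_locally
    intro z
    have hKb : DCoh.IsPseudoCoherentD b ((pushD i).obj E) :=
      isPseudoCoherentD_of_le (by omega) hK
    have hzK : ∀ j : ℤ, b < j → IsZero (DCoh.HD ((pushD i).obj E) j) :=
      fun j hj => (isZero_HD_pushD_iff i E j).2 (hz j hj)
    have hFT := isFT_HD_of_isPseudoCoherentD b _ hKb hzK
    have hFT' : CohB1.IsFT (DCoh.HD E b) :=
      isFT_of_isFT_pushforward i
        (Groth.Agent.Lib.PseudoCohSingle.isFT_of_iso (HDpushDIso i E b) hFT)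
    obtain ⟨V, r, C, φ', β, γ, hzV, hT, hzC⟩ := exists_local_generator i E b hz hFT' z
    have hO' := pca_push_structure_restrict i hO V
    have hsp := isStrictlyPerfect_sgl (i ⁻¹ᵁ V : Scheme.{u}) b r
    have h₁ : DCoh.IsPseudoCoherentD (m + 1)
        ((pushD (i ∣_ V)).obj (DerivedCategory.Q.obj (sgl (i ⁻¹ᵁ V : Scheme.{u}) b r))) :=
      isPseudoCoherentD_pushD_sgl (i ∣_ V) hO' r
    have h₂ : DCoh.IsPseudoCoherentD m
        ((pushD (i ∣_ V)).obj ((DCoh.restrictD (i ⁻¹ᵁ V).ι).obj E)) :=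
      isPseudoCoherentD_of_iso ((pushRestrictD i V).app E) (isPseudoCoherentD_restrict hK V)
    have h₃ : DCoh.IsPseudoCoherentD m ((pushD (i ∣_ V)).obj C) :=
      isPseudoCoherentD_obj₃ m ((pushD (i ∣_ V)).mapTriangle.obj (Triangle.mk φ' β γ))
        ((pushD (i ∣_ V)).map_distinguished _ hT) h₁ h₂
    have hC : DCoh.IsPseudoCoherentD m C :=
      ih (i ∣_ V) C m (b - 1) (by omega) (fun j hj => hzC j (by omega))
        (pca_of_le (by omega) hO') h₃
    exact ⟨i ⁻¹ᵁ V, hzV, isPseudoCoherentD_obj₂ m (Triangle.mk φ' β γ) hT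
      (isPseudoCoherentD_Q_of_isStrictlyPerfect m hsp) hC⟩

/-- Descent of `m`-pseudo-coherence for objects of `D^{≤ b}` along a closed immersion with
`(m + 1 - b)`-pseudo-coherent structure sheaf. -/
theorem isPseudoCoherentD_of_pushD_idx {Z X : Scheme.{u}} (i : Z ⟶ X) [IsClosedImmersion i]
    (E : DCoh.D Z) (m b : ℤ) (hz : ∀ j : ℤ, b < j → IsZero (DCoh.HD E j))
    (hO : PCa (m + 1 - b) ((Scheme.Modules.pushforward i).obj (Coh.structureModule Z)))
    (hK : DCoh.IsPseudoCoherentD m ((pushD i).obj E)) : DCoh.IsPseudoCoherentD m E :=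
  pc_of_pushD_idx_aux (b - m + 1).toNat i E m b (by omega) hz hO hK

end Main

end Groth.Agent.Lib.ClosedPushPCIdx17
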