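import Groth.Agent.Lib.H90OXModPush
import Groth.Agent.Lib.ClosedPushExact17

/-!
# Quasi-coherence descends along the direct image of a closed immersion (helper17)

* `isLocalizingOn_of_pushforward` : if `f_* N` is localizing on `V` and `Γ(Y, V) → Γ(Z, f⁻¹V)` is
  surjective then `N` is localizing on `f⁻¹V`;
* `isQuasicoherent_of_pushforward` : `c` a closed immersion and `c_* N` quasi-coherent ⇒ `N`
  quasi-coherent.
-/

set_option autoImplicit false
universe u
open CategoryTheory CategoryTheory.Limits AlgebraicGeometry TopologicalSpace Opposite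

namespace Groth.Agent.Lib.ClosedPushQCoh17

open Groth.Agent.Lib.QCohStalk Groth.Agent.Lib.AssPush Groth.Agent.Lib.H90OXModPush

variable {Z Y : Scheme.{u}}

theorem isLocalizingOn_of_pushforward (f : Z ⟶ Y) (N : Z.Modules) (V : Y.Opens)
    (hsurj : Function.Surjective (f.app V))
    (h : IsLocalizingOn ((Scheme.Modules.pushforward f).obj N) V) :
    IsLocalizingOn N (f ⁻¹ᵁ V) := by
  constructor
  · intro b t
    obtain ⟨g, rfl⟩ := hsurj b
    have hD : f ⁻¹ᵁ (Y.basicOpen g) = Z.basicOpen (f.app V g) := Scheme.preimage_basicOpen f g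
    obtain ⟨n, s, hs⟩ := h.surj g (show Γ((Scheme.Modules.pushforward f).obj N, Y.basicOpen g) from
      res N hD.le t)
    refine ⟨n, (show Γ(N, f ⁻¹ᵁ V) from s), ?_⟩
    apply res_injective_of_eq N hD
    have hs' : (f.app (Y.basicOpen g) (resO Y (Y.basicOpen_le g) g ^ n)) • res N hD.le t =
        res N (f.preimage_mono (Y.basicOpen_le g)) (show Γ(N, f ⁻¹ᵁ V) from s) := hs
    rw [res_smul, res_res, ← hs', map_pow, app_resO, ← resO_pow, resO_resO, resO_pow]
  · intro b s hs
    obtain ⟨g, rfl⟩ := hsurj b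
    have hD : f ⁻¹ᵁ (Y.basicOpen g) = Z.basicOpen (f.app V g) := Scheme.preimage_basicOpen f g
    have hs' : res ((Scheme.Modules.pushforward f).obj N) (Y.basicOpen_le g)
        (show Γ((Scheme.Modules.pushforward f).obj N, V) from s) = 0 := by
      have h2 : res N hD.le (res N (Z.basicOpen_le (f.app V g)) s) = 0 := by
        rw [hs, res_zero]
      rw [res_res] at h2
      exact h2
    obtain ⟨n, hn⟩ := h.inj g _ hs'
    refine ⟨n, ?_⟩
    have hn' : (f.app V (g ^ n)) • s = 0 := hn
    rw [map_pow] at hn'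
    exact hn'

/-- If the direct image of `N` along a closed immersion is quasi-coherent then so is `N`. -/
theorem isQuasicoherent_of_pushforward (c : Z ⟶ Y) [IsClosedImmersion c] (N : Z.Modules)
    [hq : ((Scheme.Modules.pushforward c).obj N).IsQuasicoherent] : N.IsQuasicoherent := by
  refine isQuasicoherent_of_isLocalizingOn_cover N (fun V : Y.affineOpens => c ⁻¹ᵁ V.1) ?_
    (fun V => V.2.preimage c) (fun V => ?_)
  · rw [eq_top_iff]
    intro z _
    have : c z ∈ (⊤ : Y.Opens) := trivial
    rw [← AlgebraicGeometry.iSup_affineOpens_eq_top Y] at this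
    obtain ⟨V, hV⟩ := Opens.mem_iSup.mp this
    exact Opens.mem_iSup.mpr ⟨V, hV⟩
  · exact isLocalizingOn_of_pushforward c N V.1 (c.app_surjective V.1 V.2)
      (isLocalizingOn_of_isQuasicoherent _ V.2)

end Groth.Agent.Lib.ClosedPushQCoh17
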