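import Groth.Agent.Lib.TFinEps
import Mathlib.CategoryTheory.Sites.Grothendieck
import Mathlib.CategoryTheory.Sites.Sheaf

/-!
# The closed topology attached to a subterminal sheaf

For a sheaf `U` on a small site `(C, J)`, the closed topology `closedTopology J U` is the topology
whose covering sieves of `V` are the sieves `T` such that `T` together with all arrows whose source
carries a section of `U` is `J`-covering.
-/

set_option autoImplicit false
open CategoryTheory CategoryTheory.Limits Opposite
universe u
open ToposFin

namespace Groth.Agent.Lib.ClosedTop
open Groth.Agent.Lib.TFin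

variable {C : Type u} [SmallCategory C] (J : GrothendieckTopology C) (U : Sheaf J (Type u))

/-- The sieve of arrows whose source carries a section of `U`. -/
def openSieve (V : C) : Sieve V where
  arrows W _ := Nonempty (sec U W)
  downward_closed := by
    rintro W W' f ⟨s⟩ g
    exact ⟨res g s⟩

lemma openSieve_apply {V W : C} (f : W ⟶ V) : openSieve J U V f ↔ Nonempty (sec U W) := Iff.rfl

/-- The closed topology. -/
def closedTopology : GrothendieckTopology C where
  sieves V := {T | T ⊔ openSieve J U V ∈ J V}
  top_mem' V := by
    show (⊤ : Sieve V) ⊔ openSieve J U V ∈ J V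
    rw [top_sup_eq]
    exact J.top_mem V
  pullback_stable' V V' T f hT := by
    show T.pullback f ⊔ openSieve J U V' ∈ J V'
    refine J.superset_covering ?_ (J.pullback_stable f hT)
    intro W g hg
    rcases (Sieve.union_apply _).1 hg with h | h
    · exact (Sieve.union_apply _).2 (Or.inl h)
    · exact (Sieve.union_apply _).2 (Or.inr h)
  transitive' V S hS R hR := by
    show R ⊔ openSieve J U V ∈ J V
    refine J.transitive hS _ ?_
    intro W f hf
    rcases (Sieve.union_apply _).1 hf with h | h
    · refine J.superset_covering ?_ (hR h)
      intro W' g hg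
      rcases (Sieve.union_apply _).1 hg with h' | h'
      · exact (Sieve.union_apply _).2 (Or.inl h')
      · exact (Sieve.union_apply _).2 (Or.inr h')
    · refine J.superset_covering ?_ (J.top_mem W)
      intro W' g _
      obtain ⟨s⟩ := h
      exact (Sieve.union_apply _).2 (Or.inr ⟨res g s⟩)

lemma mem_closedTopology_iff {V : C} (T : Sieve V) :
    T ∈ closedTopology J U V ↔ T ⊔ openSieve J U V ∈ J V := Iff.rfl

lemma le_closedTopology : J ≤ closedTopology J U := by
  intro V T hT
  exact J.superset_covering le_sup_left hT

lemma bot_mem_closedTopology {V : C} (s : sec U V) : (⊥ : Sieve V) ∈ closedTopology J U V := by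
  rw [mem_closedTopology_iff]
  refine J.superset_covering ?_ (J.top_mem V)
  intro W g _
  exact (Sieve.union_apply _).2 (Or.inr ⟨res g s⟩)

end Groth.Agent.Lib.ClosedTop
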