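import Groth.Prelude.Def_SGA4a
import Mathlib.CategoryTheory.Adhesive.Basic
import Mathlib.CategoryTheory.Comma.Over.Pullback

/-!
# Open and closed parts in an adhesive category with a subterminal object

`U` is a subterminal object of an adhesive category `E` with binary products. For an object `X` we
study `X_c := U ⨿_{U × X} X` (the closed part of `X`).
-/

set_option autoImplicit false
set_option linter.unusedSectionVars false
open CategoryTheory CategoryTheory.Limits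
universe v u

namespace Groth.Agent.Lib.OpenClosed

variable {E : Type v} [Category.{u} E] [HasBinaryProducts E] [HasTerminal E]

section Basic

variable {U : E}

lemma hom_to_open_ext (hU : Mono (terminal.from U)) {T : E} (a b : T ⟶ U) : a = b :=
  (cancel_mono (terminal.from U)).1 (Subsingleton.elim _ _)

lemma mono_prod_snd (hU : Mono (terminal.from U)) (X : E) : Mono (prod.snd : U ⨯ X ⟶ X) :=
  ⟨fun a b h => by
    apply prod.hom_ext
    · exact hom_to_open_ext hU _ _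
    · exact h⟩

/-- The basic cartesian square relating `U × X` and `U × X'`. -/
lemma isPullback_prod_map (hU : Mono (terminal.from U)) {X X' : E} (m : X ⟶ X') :
    IsPullback (prod.snd : U ⨯ X ⟶ X) (prod.map (𝟙 U) m) m (prod.snd : U ⨯ X' ⟶ X') := by
  refine ⟨⟨(prod.map_snd _ _).symm⟩, ⟨PullbackCone.IsLimit.mk _
    (fun s => prod.lift (s.snd ≫ prod.fst) s.fst) ?_ ?_ ?_⟩⟩
  · intro s
    exact prod.lift_snd _ _
  · intro s
    apply prod.hom_ext
    · exact hom_to_open_ext hU _ _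
    · rw [Category.assoc, prod.map_snd, prod.lift_snd_assoc]
      exact s.condition
  · intro s l h1 _
    apply prod.hom_ext
    · exact hom_to_open_ext hU _ _
    · rw [prod.lift_snd]
      exact h1

/-- Two morphisms into an object of the closed complement agree as soon as their source maps
to `U`. -/
lemma hom_ext_of_closedCompl {Z : E} (hZ : IsIso (prod.fst : U ⨯ Z ⟶ U)) {T : E} (t : T ⟶ U)
    (a b : T ⟶ Z) : a = b := by
  have h : prod.lift t a = prod.lift t b := by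
    rw [← cancel_mono (prod.fst : U ⨯ Z ⟶ U), prod.lift_fst, prod.lift_fst]
  have h2 := congrArg (fun q => q ≫ (prod.snd : U ⨯ Z ⟶ Z)) h
  simp only [prod.lift_snd] at h2
  exact h2

end Basic

section Adhesive

variable [Adhesive E] [HasPushouts E] {U : E}

/-- The closed part of `X`. -/
noncomputable abbrev Xc (U X : E) : E := pushout (prod.fst : U ⨯ X ⟶ U) (prod.snd : U ⨯ X ⟶ X)

lemma isPushout_closed (X : E) :
    IsPushout (prod.snd : U ⨯ X ⟶ X) (prod.fst : U ⨯ X ⟶ U)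
      (pushout.inr (prod.fst : U ⨯ X ⟶ U) (prod.snd : U ⨯ X ⟶ X))
      (pushout.inl (prod.fst : U ⨯ X ⟶ U) (prod.snd : U ⨯ X ⟶ X)) :=
  (IsPushout.of_hasPushout _ _).flip

lemma isPullback_closed (hU : Mono (terminal.from U)) (X : E) :
    IsPullback (prod.snd : U ⨯ X ⟶ X) (prod.fst : U ⨯ X ⟶ U)
      (pushout.inr (prod.fst : U ⨯ X ⟶ U) (prod.snd : U ⨯ X ⟶ X))
      (pushout.inl (prod.fst : U ⨯ X ⟶ U) (prod.snd : U ⨯ X ⟶ X)) :=
  have := mono_prod_snd hU X
  Adhesive.isPullback_of_isPushout_of_mono_left (isPushout_closed X)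

/-- The square `X → X_c` over `X' → X'_c` is cartesian iff `m` restricts to an isomorphism over
`U`. -/
theorem isPullback_iff_isIso (hU : Mono (terminal.from U)) {X X' : E} (m : X ⟶ X')
    (k : Xc U X ⟶ Xc U X')
    (hk₁ : pushout.inl (prod.fst : U ⨯ X ⟶ U) (prod.snd : U ⨯ X ⟶ X) ≫ k =
      pushout.inl (prod.fst : U ⨯ X' ⟶ U) (prod.snd : U ⨯ X' ⟶ X'))
    (hk₂ : pushout.inr (prod.fst : U ⨯ X ⟶ U) (prod.snd : U ⨯ X ⟶ X) ≫ k =
      m ≫ pushout.inr (prod.fst : U ⨯ X' ⟶ U) (prod.snd : U ⨯ X' ⟶ X')) :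
    IsPullback m (pushout.inr (prod.fst : U ⨯ X ⟶ U) (prod.snd : U ⨯ X ⟶ X))
        (pushout.inr (prod.fst : U ⨯ X' ⟶ U) (prod.snd : U ⨯ X' ⟶ X')) k ↔
      IsIso (prod.map (𝟙 U) m) := by
  have hmono := mono_prod_snd hU X'
  constructor
  · intro hpb
    -- pasting
    have h1 : IsPullback ((prod.snd : U ⨯ X ⟶ X) ≫ m) (prod.fst : U ⨯ X ⟶ U)
        (pushout.inr (prod.fst : U ⨯ X' ⟶ U) (prod.snd : U ⨯ X' ⟶ X'))
        (pushout.inl (prod.fst : U ⨯ X ⟶ U) (prod.snd : U ⨯ X ⟶ X) ≫ k) :=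
      (isPullback_closed hU X).paste_horiz hpb
    have h2 : IsPullback (prod.map (𝟙 U) m ≫ (prod.snd : U ⨯ X' ⟶ X')) (prod.fst : U ⨯ X ⟶ U)
        (pushout.inr (prod.fst : U ⨯ X' ⟶ U) (prod.snd : U ⨯ X' ⟶ X'))
        (𝟙 U ≫ pushout.inl (prod.fst : U ⨯ X' ⟶ U) (prod.snd : U ⨯ X' ⟶ X')) := by
      rw [prod.map_snd, Category.id_comp, ← hk₁]
      exact h1
    have h3 : IsPullback (prod.map (𝟙 U) m) (prod.fst : U ⨯ X ⟶ U) (prod.fst : U ⨯ X' ⟶ U)
        (𝟙 U) :=
      IsPullback.of_right h2 (by simp) (isPullback_closed hU X')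
    exact h3.isIso_fst_of_isIso
  · intro hiso
    have hVK := Adhesive.van_kampen (isPushout_closed (U := U) X')
    have key := hVK (prod.snd : U ⨯ X ⟶ X) (prod.fst : U ⨯ X ⟶ U)
      (pushout.inr (prod.fst : U ⨯ X ⟶ U) (prod.snd : U ⨯ X ⟶ X))
      (pushout.inl (prod.fst : U ⨯ X ⟶ U) (prod.snd : U ⨯ X ⟶ X))
      (prod.map (𝟙 U) m) m (𝟙 U) k
      (isPullback_prod_map hU m)
      (IsPullback.of_vert_isIso ⟨by simp⟩)
      ⟨hk₂⟩ ⟨by rw [hk₁, Category.id_comp]⟩ ⟨pushout.condition.symm⟩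
    exact (key.1 (isPushout_closed X)).1.flip

end Adhesive

end Groth.Agent.Lib.OpenClosed
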