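import Groth.Agent.Lib.ClosedTop
import Groth.Agent.Lib.OpenClosed
import Mathlib.CategoryTheory.Sites.LeftExact

/-!
# Sheaves for the closed topology are the objects of the closed complement
-/

set_option autoImplicit false
open CategoryTheory CategoryTheory.Limits Opposite
universe u
open ToposFin

namespace Groth.Agent.Lib.ClosedTop
open Groth.Agent.Lib.TFin Groth.Agent.Lib.TFinEps Groth.Agent.Lib.OpenClosed

variable {C : Type u} [SmallCategory C] (J : GrothendieckTopology C) (U : Sheaf J (Type u))

/-- Sectionwise description of the closed complement: over every object carrying a section of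
`U`, the sheaf has exactly one section. -/
def IsTrivialOver (X : Sheaf J (Type u)) : Prop :=
  ∀ V : C, Nonempty (sec U V) → Nonempty (sec X V) ∧ Subsingleton (sec X V)

variable {J U}

lemma isTrivialOver_of_closedCompl {X : Sheaf J (Type u)}
    (hX : IsIso (prod.fst : U ⨯ X ⟶ U)) : IsTrivialOver J U X := by
  rintro V ⟨s⟩
  refine ⟨⟨ap (inv (prod.fst : U ⨯ X ⟶ U) ≫ prod.snd) s⟩, ⟨fun x x' => ?_⟩⟩
  have h := hom_ext_of_closedCompl hX (homOfSec J s) (homOfSec J x) (homOfSec J x')
  have h2 := congrArg (fun t => ap t (etaSec J V (𝟙 V))) h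
  simp only [ap_homOfSec, res_id] at h2
  exact h2

lemma closedCompl_of_isTrivialOver (hU : Mono (terminal.from U)) {X : Sheaf J (Type u)}
    (hX : IsTrivialOver J U X) : IsIso (prod.fst : U ⨯ X ⟶ U) := by
  let z : U ⟶ X := ⟨{
    app := fun V => TypeCat.ofHom (fun s => (hX V.unop ⟨s⟩).1.some)
    naturality := by
      intro V W f
      refine ConcreteCategory.hom_ext _ _ (fun s => ?_)
      have := (hX W.unop ⟨U.obj.map f s⟩).2
      exact Subsingleton.elim _ _ }⟩
  refine ⟨prod.lift (𝟙 U) z, ?_, prod.lift_fst _ _⟩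
  apply prod.hom_ext
  · exact hom_to_open_ext hU _ _
  · rw [Category.assoc, prod.lift_snd, Category.id_comp]
    apply hom_ext_sec
    intro V w
    have := (hX V ⟨ap (prod.fst : U ⨯ X ⟶ U) w⟩).2
    exact Subsingleton.elim _ _

theorem closedCompl_iff_isTrivialOver (hU : Mono (terminal.from U)) (X : Sheaf J (Type u)) :
    SGA4.closedCompl U X ↔ IsTrivialOver J U X :=
  ⟨isTrivialOver_of_closedCompl, closedCompl_of_isTrivialOver hU⟩

/-- A `J`-sheaf which is trivial over `U` is a sheaf for the closed topology. -/
theorem isSheaf_closedTopology_of_isTrivialOver {X : Sheaf J (Type u)}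
    (hX : IsTrivialOver J U X) : Presheaf.IsSheaf (closedTopology J U) X.obj := by
  classical
  rw [isSheaf_iff_isSheaf_of_type]
  have hXJ : Presieve.IsSheaf J X.obj := (isSheaf_iff_isSheaf_of_type _ _).1 X.property
  intro V T hT
  have hT' : T ⊔ openSieve J U V ∈ J V := hT
  intro x hx
  have hxs := (Presieve.compatible_iff_sieveCompatible x).1 hx
  -- the extended family
  let y : Presieve.FamilyOfElements X.obj (T ⊔ openSieve J U V).arrows := fun Y f hf =>
    if h : T f then x f h else
      (hX Y (((Sieve.union_apply f).1 hf).resolve_left h)).1.some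
  have hy : y.Compatible := by
    rw [Presieve.compatible_iff_sieveCompatible]
    intro Y Z f g hf
    by_cases h : T f
    · have h' : T (g ≫ f) := T.downward_closed h g
      simp only [y, dif_pos h, dif_pos h']
      exact hxs f g h
    · have hn : Nonempty (sec U Y) := ((Sieve.union_apply f).1 hf).resolve_left h
      obtain ⟨s⟩ := hn
      have := (hX Z ⟨res g s⟩).2
      exact Subsingleton.elim _ _
  refine ⟨(hXJ _ hT').amalgamate y hy, ?_, ?_⟩
  · intro Y f hf
    have := (hXJ _ hT').valid_glue hy f ((Sieve.union_apply f).2 (Or.inl hf))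
    rw [this]
    simp only [y, dif_pos hf]
  · intro t ht
    apply (hXJ _ hT').isSeparatedFor.ext
    intro Y f hf
    by_cases h : T f
    · rw [(hXJ _ hT').valid_glue hy f hf, ht f h]
      simp only [y, dif_pos h]
    · have hn : Nonempty (sec U Y) := ((Sieve.union_apply f).1 hf).resolve_left h
      have := (hX Y hn).2
      exact Subsingleton.elim _ _

/-- A sheaf for the closed topology is trivial over `U`. -/
theorem isTrivialOver_of_isSheaf_closedTopology {X : Sheaf J (Type u)}
    (hX : Presheaf.IsSheaf (closedTopology J U) X.obj) : IsTrivialOver J U X := by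
  rw [isSheaf_iff_isSheaf_of_type] at hX
  rintro V ⟨s⟩
  have hbot := hX _ (bot_mem_closedTopology J U s)
  let x : Presieve.FamilyOfElements X.obj (⊥ : Sieve V).arrows := fun Y f hf => hf.elim
  have hx : x.Compatible := by
    intro Y₁ Y₂ Z g₁ g₂ f₁ f₂ h₁ _ _
    exact h₁.elim
  refine ⟨⟨hbot.amalgamate x hx⟩, ⟨fun a b => ?_⟩⟩
  apply hbot.isSeparatedFor.ext
  intro Y f hf
  exact hf.elim

end Groth.Agent.Lib.ClosedTop
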