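import Groth.Agent.Lib.OpenClosed
import Mathlib.CategoryTheory.Adjunction.Basic
import Mathlib.CategoryTheory.Limits.Shapes.KernelPair

/-!
# The closed part is the reflection into the closed complement
-/

set_option autoImplicit false
set_option linter.unusedSectionVars false
open CategoryTheory CategoryTheory.Limits
universe v u

namespace Groth.Agent.Lib.OpenClosed

variable {E : Type v} [Category.{u} E] [HasBinaryProducts E] [HasTerminal E]
  [Adhesive E] [HasPushouts E] {U : E}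

/-- The closed part of `X` lies in the closed complement of `U`. -/
theorem closedCompl_Xc (hU : Mono (terminal.from U)) (X : E) :
    IsIso (prod.fst : U ⨯ Xc U X ⟶ U) := by
  have hmono := mono_prod_snd hU X
  have hVK := Adhesive.van_kampen (isPushout_closed (U := U) X)
  have front2 : IsPullback
      (prod.lift (𝟙 U) (pushout.inl (prod.fst : U ⨯ X ⟶ U) (prod.snd : U ⨯ X ⟶ X)))
      (𝟙 U) (prod.snd : U ⨯ Xc U X ⟶ Xc U X)
      (pushout.inl (prod.fst : U ⨯ X ⟶ U) (prod.snd : U ⨯ X ⟶ X)) := by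
    refine ⟨⟨by rw [prod.lift_snd, Category.id_comp]⟩,
      ⟨PullbackCone.IsLimit.mk _ (fun s => s.snd) ?_ ?_ ?_⟩⟩
    · intro s
      apply prod.hom_ext
      · exact hom_to_open_ext hU _ _
      · rw [Category.assoc, prod.lift_snd]
        exact s.condition.symm
    · intro s
      exact Category.comp_id _
    · intro s l _ h2
      rw [← h2, Category.comp_id]
  have key := hVK (𝟙 (U ⨯ X)) (prod.fst : U ⨯ X ⟶ U)
    (prod.map (𝟙 U) (pushout.inr (prod.fst : U ⨯ X ⟶ U) (prod.snd : U ⨯ X ⟶ X)))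
    (prod.lift (𝟙 U) (pushout.inl (prod.fst : U ⨯ X ⟶ U) (prod.snd : U ⨯ X ⟶ X)))
    (𝟙 (U ⨯ X)) (prod.snd : U ⨯ X ⟶ X) (𝟙 U) (prod.snd : U ⨯ Xc U X ⟶ Xc U X)
    (IsKernelPair.id_of_mono _)
    (IsPullback.id_vert _)
    ⟨prod.map_snd _ _⟩ ⟨by rw [prod.lift_snd, Category.id_comp]⟩
    ⟨by
      apply prod.hom_ext
      · rw [Category.id_comp, prod.map_fst, Category.assoc, prod.lift_fst]
      · rw [Category.id_comp, prod.map_snd, Category.assoc, prod.lift_snd]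
        exact pushout.condition.symm⟩
  have hpo := key.2 ⟨(isPullback_prod_map hU _).flip, front2⟩
  have hiso : IsIso (prod.lift (𝟙 U)
      (pushout.inl (prod.fst : U ⨯ X ⟶ U) (prod.snd : U ⨯ X ⟶ X))) :=
    hpo.isIso_inr_of_isIso
  have hcomp : prod.lift (𝟙 U) (pushout.inl (prod.fst : U ⨯ X ⟶ U) (prod.snd : U ⨯ X ⟶ X)) ≫
      (prod.fst : U ⨯ Xc U X ⟶ U) = 𝟙 U := prod.lift_fst _ _
  have : IsIso (prod.lift (𝟙 U)
      (pushout.inl (prod.fst : U ⨯ X ⟶ U) (prod.snd : U ⨯ X ⟶ X)) ≫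
      (prod.fst : U ⨯ Xc U X ⟶ U)) := by rw [hcomp]; infer_instance
  exact IsIso.of_isIso_comp_left (prod.lift (𝟙 U)
    (pushout.inl (prod.fst : U ⨯ X ⟶ U) (prod.snd : U ⨯ X ⟶ X))) _

/-- The universal property of the closed part. -/
theorem existsUnique_desc_closed {X Z : E} (hZ : IsIso (prod.fst : U ⨯ Z ⟶ U)) (f : X ⟶ Z) :
    ∃! φ : Xc U X ⟶ Z,
      pushout.inr (prod.fst : U ⨯ X ⟶ U) (prod.snd : U ⨯ X ⟶ X) ≫ φ = f := by
  refine ⟨pushout.desc (inv (prod.fst : U ⨯ Z ⟶ U) ≫ prod.snd) f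
    (hom_ext_of_closedCompl hZ prod.fst _ _), pushout.inr_desc _ _ _, ?_⟩
  intro φ hφ
  apply pushout.hom_ext
  · exact hom_ext_of_closedCompl hZ (𝟙 U) _ _
  · rw [hφ, pushout.inr_desc]

section Reflector

variable (hU : Mono (terminal.from U))
  (L : E ⥤ (SGA4.closedCompl U).FullSubcategory) (adj : L ⊣ (SGA4.closedCompl U).ι)
include hU

/-- The closed part of `X` is the value of any reflector into the closed complement. -/
theorem exists_iso_reflector (X : E) :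
    ∃ e : Xc U X ≅ ((SGA4.closedCompl U).ι).obj (L.obj X),
      pushout.inr (prod.fst : U ⨯ X ⟶ U) (prod.snd : U ⨯ X ⟶ X) ≫ e.hom = adj.unit.app X := by
  have hLX : IsIso (prod.fst : U ⨯ ((SGA4.closedCompl U).ι).obj (L.obj X) ⟶ U) :=
    (L.obj X).property
  let η : X ⟶ ((SGA4.closedCompl U).ι).obj (L.obj X) := adj.unit.app X
  obtain ⟨φ, hφ, -⟩ := existsUnique_desc_closed hLX η
  let Y : (SGA4.closedCompl U).FullSubcategory := ⟨Xc U X, closedCompl_Xc hU X⟩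
  let ψ : L.obj X ⟶ Y := (adj.homEquiv X Y).symm
    (pushout.inr (prod.fst : U ⨯ X ⟶ U) (prod.snd : U ⨯ X ⟶ X))
  have hψ : η ≫ ((SGA4.closedCompl U).ι).map ψ =
      pushout.inr (prod.fst : U ⨯ X ⟶ U) (prod.snd : U ⨯ X ⟶ X) :=
    (adj.homEquiv_unit X Y ψ).symm.trans ((adj.homEquiv X Y).apply_symm_apply _)
  refine ⟨⟨φ, ((SGA4.closedCompl U).ι).map ψ, ?_, ?_⟩, hφ⟩
  · obtain ⟨χ, -, hχ⟩ := existsUnique_desc_closed (closedCompl_Xc hU X)
      (pushout.inr (prod.fst : U ⨯ X ⟶ U) (prod.snd : U ⨯ X ⟶ X))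
    have e1 : pushout.inr (prod.fst : U ⨯ X ⟶ U) (prod.snd : U ⨯ X ⟶ X) ≫
        φ ≫ ((SGA4.closedCompl U).ι).map ψ =
        pushout.inr (prod.fst : U ⨯ X ⟶ U) (prod.snd : U ⨯ X ⟶ X) := by
      rw [reassoc_of% hφ, hψ]
    rw [hχ (φ ≫ ((SGA4.closedCompl U).ι).map ψ) e1, hχ (𝟙 _) (Category.comp_id _)]
  · obtain ⟨θ, hθ⟩ := ((SGA4.closedCompl U).ι).map_surjective
      (((SGA4.closedCompl U).ι).map ψ ≫ φ)
    have h1 : θ = 𝟙 (L.obj X) := by
      apply (adj.homEquiv X (L.obj X)).injective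
      rw [adj.homEquiv_unit X _ θ, adj.homEquiv_unit X _ (𝟙 _), hθ,
        CategoryTheory.Functor.map_id]
      show η ≫ ((SGA4.closedCompl U).ι).map ψ ≫ φ = η ≫ 𝟙 _
      rw [reassoc_of% hψ, hφ, Category.comp_id]
    rw [← hθ, h1, CategoryTheory.Functor.map_id]

end Reflector

end Groth.Agent.Lib.OpenClosed
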