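import Groth.Agent.Lib.ClosedTop2
import Groth.Agent.Lib.OpenClosed2
import Mathlib.CategoryTheory.Adjunction.Restrict
import Mathlib.CategoryTheory.Sites.Sheafification
import Mathlib.CategoryTheory.Sites.Limits

/-!
# The closed complement is a left exact reflective subcategory
-/

set_option autoImplicit false
open CategoryTheory CategoryTheory.Limits Opposite
universe u
open ToposFin

namespace Groth.Agent.Lib.ClosedTop
open Groth.Agent.Lib.TFin Groth.Agent.Lib.TFinEps Groth.Agent.Lib.OpenClosed

variable {C : Type u} [SmallCategory C] (J : GrothendieckTopology C) (U : Sheaf J (Type u))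

/-- Objects of the closed complement, viewed as sheaves for the closed topology. -/
def toClosedSheaf :
    (SGA4.closedCompl U).FullSubcategory ⥤ Sheaf (closedTopology J U) (Type u) where
  obj Z := ⟨Z.obj.obj,
    isSheaf_closedTopology_of_isTrivialOver (isTrivialOver_of_closedCompl Z.property)⟩
  map f := ⟨f.hom.hom⟩

/-- `toClosedSheaf` is fully faithful. -/
def toClosedSheafFullyFaithful : (toClosedSheaf J U).FullyFaithful where
  preimage g := ObjectProperty.homMk ⟨g.hom⟩

/-- Sheafification for the closed topology, as an endofunctor of `J`-sheaves. -/
noncomputable def closedReflection : Sheaf J (Type u) ⥤ Sheaf J (Type u) where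
  obj X := ⟨((presheafToSheaf (closedTopology J U) (Type u)).obj X.obj).obj, by
    rw [isSheaf_iff_isSheaf_of_type]
    exact Presieve.isSheaf_of_le _ (le_closedTopology J U)
      ((isSheaf_iff_isSheaf_of_type _ _).1
        ((presheafToSheaf (closedTopology J U) (Type u)).obj X.obj).property)⟩
  map f := ⟨((presheafToSheaf (closedTopology J U) (Type u)).map f.hom).hom⟩
  map_id X := by
    ext : 1
    simp
  map_comp f g := by
    ext : 1
    simp

variable {U} in
lemma closedCompl_closedReflection (hU : Mono (terminal.from U)) (X : Sheaf J (Type u)) :
    SGA4.closedCompl U ((closedReflection J U).obj X) :=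
  closedCompl_of_isTrivialOver hU (isTrivialOver_of_isSheaf_closedTopology
    (X := (closedReflection J U).obj X)
    ((presheafToSheaf (closedTopology J U) (Type u)).obj X.obj).property)

variable {U} in
/-- The reflector onto the closed complement. -/
noncomputable def closedReflector (hU : Mono (terminal.from U)) :
    Sheaf J (Type u) ⥤ (SGA4.closedCompl U).FullSubcategory :=
  (SGA4.closedCompl U).lift (closedReflection J U) (closedCompl_closedReflection J hU)

variable {U} in
/-- The reflector is left adjoint to the inclusion. -/
noncomputable def closedReflectorAdj (hU : Mono (terminal.from U)) :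
    closedReflector J hU ⊣ (SGA4.closedCompl U).ι :=
  (sheafificationAdjunction (closedTopology J U) (Type u)).restrictFullyFaithful
    (fullyFaithfulSheafToPresheaf J (Type u)) (toClosedSheafFullyFaithful J U)
    (L := closedReflector J hU) (R := (SGA4.closedCompl U).ι)
    (NatIso.ofComponents (fun X => Iso.refl _)) (NatIso.ofComponents (fun X => Iso.refl _))

end Groth.Agent.Lib.ClosedTop
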