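import Groth.Agent.Lib.ClosedTop3
import Mathlib.CategoryTheory.Sites.LeftExact
import Mathlib.CategoryTheory.Limits.Preserves.Finite

/-!
# The reflector onto the closed complement is left exact
-/

set_option autoImplicit false
open CategoryTheory CategoryTheory.Limits Opposite
universe u
open ToposFin

namespace Groth.Agent.Lib.ClosedTop
open Groth.Agent.Lib.TFin Groth.Agent.Lib.TFinEps Groth.Agent.Lib.OpenClosed

variable {C : Type u} [SmallCategory C] (J : GrothendieckTopology C) {U : Sheaf J (Type u)}

instance : (toClosedSheaf J U).Full := (toClosedSheafFullyFaithful J U).full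

instance : (toClosedSheaf J U).Faithful := (toClosedSheafFullyFaithful J U).faithful

noncomputable def closedReflectorCompIso (hU : Mono (terminal.from U)) :
    closedReflector J hU ⋙ toClosedSheaf J U ≅
      sheafToPresheaf J (Type u) ⋙ presheafToSheaf (closedTopology J U) (Type u) :=
  NatIso.ofComponents (fun X => Iso.refl _)

theorem preservesFiniteLimits_closedReflector (hU : Mono (terminal.from U)) :
    PreservesFiniteLimits (closedReflector J hU) := by
  have : PreservesFiniteLimits
      (sheafToPresheaf J (Type u) ⋙ presheafToSheaf (closedTopology J U) (Type u)) :=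
    comp_preservesFiniteLimits _ _
  have : PreservesFiniteLimits (closedReflector J hU ⋙ toClosedSheaf J U) :=
    preservesFiniteLimits_of_natIso (closedReflectorCompIso J hU).symm
  exact preservesFiniteLimits_of_reflects_of_preserves (closedReflector J hU) (toClosedSheaf J U)

/-- The closed complement of an open of a sheaf topos is a left exact reflective subcategory,
with reflection the pushout `U ⨿_{U × X} X`. -/
theorem closedCompl_lex_reflective (hU : Mono (terminal.from U)) :
    ∃ (L : Sheaf J (Type u) ⥤ (SGA4.closedCompl U).FullSubcategory)
      (_ : L ⊣ (SGA4.closedCompl U).ι),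
      PreservesFiniteLimits L ∧
      ∀ X : Sheaf J (Type u), Nonempty (((SGA4.closedCompl U).ι).obj (L.obj X) ≅
        pushout (prod.fst : U ⨯ X ⟶ U) (prod.snd : U ⨯ X ⟶ X)) := by
  refine ⟨closedReflector J hU, closedReflectorAdj J hU,
    preservesFiniteLimits_closedReflector J hU, fun X => ?_⟩
  obtain ⟨e, -⟩ := exists_iso_reflector hU (closedReflector J hU) (closedReflectorAdj J hU) X
  exact ⟨e.symm⟩

end Groth.Agent.Lib.ClosedTop
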