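import Groth.Agent.Lib.Sib65Ext

/-!
# Countability of the bounded derived category of a countable abelian category
-/

universe w v u

open CategoryTheory Category Limits DerivedCategory Pretriangulated

namespace Groth.Agent.Lib.Sib65

/-- The middle term of an "exact sequence" of types with countable ends is countable. -/
lemma countable_of_exact {X Y Z : Type*} [AddGroup Y] (f : X → Y) (g : Y → Z)
    (h : ∀ y y', g y = g y' → ∃ x, y = f x + y') [Countable X] [Countable Z] : Countable Y := by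
  classical
  let s : Z → Y := fun z => if hz : ∃ y, g y = z then hz.choose else 0
  have hs : ∀ y, g (s (g y)) = g y := fun y => by
    have hz : ∃ y', g y' = g y := ⟨y, rfl⟩
    simp only [s, dif_pos hz]
    exact hz.choose_spec
  have hsurj : Function.Surjective (fun p : Z × X => f p.2 + s p.1) := by
    intro y
    obtain ⟨x, hx⟩ := h y (s (g y)) (hs y).symm
    exact ⟨(g y, x), hx.symm⟩
  exact hsurj.countable

section

variable {C : Type*} [Category C]

lemma countable_hom_of_iso_left {X X' Y : C} (e : X ≅ X') [Countable (X' ⟶ Y)] :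
    Countable (X ⟶ Y) :=
  Function.Injective.countable (f := fun x : X ⟶ Y => e.inv ≫ x) (fun x x' h => by
    simpa using h)

lemma countable_hom_of_iso_right {X Y Y' : C} (e : Y ≅ Y') [Countable (X ⟶ Y')] :
    Countable (X ⟶ Y) :=
  Function.Injective.countable (f := fun x : X ⟶ Y => x ≫ e.hom) (fun x x' h => by
    simpa using h)

end

section

variable {C : Type*} [Category C] [Preadditive C] [HasZeroObject C] [HasShift C ℤ]
  [∀ n : ℤ, (shiftFunctor C n).Additive] [Pretriangulated C]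

lemma countable_hom_of_triangle_left (T : Triangle C) (hT : T ∈ distTriang C) (L : C)
    [Countable (T.obj₃ ⟶ L)] [Countable (T.obj₁ ⟶ L)] : Countable (T.obj₂ ⟶ L) := by
  refine countable_of_exact (fun x : T.obj₃ ⟶ L => T.mor₂ ≫ x) (fun y : T.obj₂ ⟶ L => T.mor₁ ≫ y) ?_
  intro y y' hyy'
  obtain ⟨x, hx⟩ := Triangle.yoneda_exact₂ T hT (y - y') (by
    rw [Preadditive.comp_sub, hyy', sub_self])
  exact ⟨x, by rw [← hx, sub_add_cancel]⟩

lemma countable_hom_of_triangle_right (T : Triangle C) (hT : T ∈ distTriang C) (W : C)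
    [Countable (W ⟶ T.obj₁)] [Countable (W ⟶ T.obj₃)] : Countable (W ⟶ T.obj₂) := by
  refine countable_of_exact (fun x : W ⟶ T.obj₁ => x ≫ T.mor₁) (fun y : W ⟶ T.obj₂ => y ≫ T.mor₂) ?_
  intro y y' hyy'
  obtain ⟨x, hx⟩ := Triangle.coyoneda_exact₂ T hT (y - y') (by
    rw [Preadditive.sub_comp, hyy', sub_self])
  exact ⟨x, by rw [← hx, sub_add_cancel]⟩

end

variable {A : Type u} [Category.{v} A] [Abelian A] [HasDerivedCategory.{w} A]

section Hom

variable (hhom : ∀ X Y : A, Countable (X ⟶ Y))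
  (en : ℕ → A) (hen : ∀ X : A, ∃ n : ℕ, Nonempty (X ≅ en n))

include hhom hen in
theorem countable_σ_hom_aux : ∀ (q : ℕ) (s t : ℤ) (_ : t = s + q) (N M : A),
    Countable ((σ A s).obj N ⟶ (σ A t).obj M) := by
  intro q
  induction q with
  | zero =>
    intro s t ht N M
    obtain rfl : t = s := by simpa using ht
    have := hhom N M
    exact Function.Injective.countable (f := fun e => (σ A t).preimage e)
      (fun e e' h => by
        have := congrArg (σ A t).map h
        simpa using this)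
  | succ q ih =>
    intro s t ht N M
    classical
    -- index type: epimorphisms from the chosen representatives
    let I := Σ n : ℕ, {p : en n ⟶ N // Epi p}
    have : ∀ n, Countable (en n ⟶ N) := fun n => hhom _ _
    have hI : Countable I := inferInstance
    have hex : ∀ i : I, ∃ (P : A) (ι : P ⟶ en i.1)
        (δ : (σ A s).obj N ⟶ ((σ A s).obj P)⟦(1 : ℤ)⟧),
        Triangle.mk ((σ A s).map ι) ((σ A s).map i.2.1) δ ∈
          distTriang (DerivedCategory.Bounded A) := fun i => by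
      have := i.2.2
      exact exists_ses_triangle s i.2.1
    choose P ι δ hT using hex
    have hfib : ∀ i : I, Countable (((σ A s).obj (P i))⟦(1 : ℤ)⟧ ⟶ (σ A t).obj M) := fun i => by
      have := ih (s + 1) t (by push_cast at ht; omega) (P i) M
      exact countable_hom_of_iso_left (σShift s (s + 1) rfl (P i)).symm
    let Φ : (Σ i : I, (((σ A s).obj (P i))⟦(1 : ℤ)⟧ ⟶ (σ A t).obj M)) →
        ((σ A s).obj N ⟶ (σ A t).obj M) := fun x => δ x.1 ≫ x.2
    have hΦ : Function.Surjective Φ := by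
      intro e
      have := σ_isLE t (-t) (by omega) M
      obtain ⟨N', p', hp', h0⟩ := exists_epi_σ_map_comp_eq_zero s (-s) (by omega) e (-t)
        (by push_cast at ht; omega)
      obtain ⟨n, ⟨θ⟩⟩ := hen N'
      have hp : Epi (θ.inv ≫ p') := epi_comp _ _
      let i : I := ⟨n, ⟨θ.inv ≫ p', hp⟩⟩
      have h0' : (σ A s).map (θ.inv ≫ p') ≫ e = 0 := by
        rw [Functor.map_comp, assoc, h0, comp_zero]
      obtain ⟨e', he'⟩ : ∃ e' : ((σ A s).obj (P i))⟦(1 : ℤ)⟧ ⟶ (σ A t).obj M, e = δ i ≫ e' :=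
        Triangle.yoneda_exact₃ _ (hT i) e h0'
      exact ⟨⟨i, e'⟩, he'.symm⟩
    exact hΦ.countable

include hhom hen in
theorem countable_σ_hom (s t : ℤ) (N M : A) :
    Countable ((σ A s).obj N ⟶ (σ A t).obj M) := by
  by_cases hst : t < s
  · have := σ_isLE s (-s) (by omega) N
    have : Subsingleton ((σ A s).obj N ⟶ (σ A t).obj M) :=
      ⟨fun e e' => by
        rw [hom_to_σ_eq_zero _ t (-t) (by omega) M (-s) (by omega) e,
          hom_to_σ_eq_zero _ t (-t) (by omega) M (-s) (by omega) e']⟩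
    infer_instance
  · exact countable_σ_hom_aux hhom en hen (t - s).toNat s t (by omega) N M

include hhom hen in
theorem countable_σ_hom_to (N : A) (s : ℤ) (L : DerivedCategory.Bounded A) :
    Countable ((σ A s).obj N ⟶ L) := by
  revert N s
  refine bounded_induction (fun L => ∀ (N : A) (s : ℤ), Countable ((σ A s).obj N ⟶ L))
    ?_ ?_ ?_ L
  · intro L hL N s
    have : Subsingleton ((σ A s).obj N ⟶ L) := ⟨fun e e' => hL.eq_of_tgt _ _⟩
    infer_instance
  · intro L b _ _ N s
    obtain ⟨M, ⟨θ⟩⟩ := exists_iso_σ L (-b) b (by omega)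
    have := countable_σ_hom hhom en hen s (-b) N M
    exact countable_hom_of_iso_right θ
  · intro L a b s' _ h _ _ N' g C w ξ hT _ _ _ hC N s
    have h1 : Countable ((σ A s).obj N ⟶ (Triangle.mk g w ξ).obj₃) := hC N s
    have h2 : Countable ((σ A s).obj N ⟶ (Triangle.mk g w ξ).obj₁) :=
      countable_σ_hom hhom en hen s s' N N'
    exact countable_hom_of_triangle_right (Triangle.mk g w ξ) hT ((σ A s).obj N)

include hhom hen in
theorem countable_hom (K L : DerivedCategory.Bounded A) : Countable (K ⟶ L) := by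
  revert L
  refine bounded_induction (fun K => ∀ L : DerivedCategory.Bounded A, Countable (K ⟶ L))
    ?_ ?_ ?_ K
  · intro K hK L
    have : Subsingleton (K ⟶ L) := ⟨fun e e' => hK.eq_of_src _ _⟩
    infer_instance
  · intro K b _ _ L
    obtain ⟨M, ⟨θ⟩⟩ := exists_iso_σ K (-b) b (by omega)
    have := countable_σ_hom_to hhom en hen M (-b) L
    exact countable_hom_of_iso_left θ
  · intro K a b s _ h _ _ N g C w ξ hT _ _ _ hC L
    have h1 : Countable ((Triangle.mk g w ξ).obj₃ ⟶ L) := hC L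
    have h2 : Countable ((Triangle.mk g w ξ).obj₁ ⟶ L) := countable_σ_hom_to hhom en hen N s L
    exact countable_hom_of_triangle_left (Triangle.mk g w ξ) hT L

end Hom

section Obj

open ZeroObject

variable (en : ℕ → A)

/-- A chosen object completing `ξ : X ⟶ Z⟦1⟧` to a distinguished triangle `Z ⟶ Y ⟶ X ⟶ Z⟦1⟧`. -/
noncomputable def cone₂ {X Z : DerivedCategory.Bounded A} (ξ : X ⟶ Z⟦(1 : ℤ)⟧) :
    DerivedCategory.Bounded A :=
  (distinguished_cocone_triangle₂ ξ).choose

lemma cone₂_spec {X Z : DerivedCategory.Bounded A} (ξ : X ⟶ Z⟦(1 : ℤ)⟧) :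
    ∃ (f : Z ⟶ cone₂ ξ) (g : cone₂ ξ ⟶ X),
      Triangle.mk f g ξ ∈ distTriang (DerivedCategory.Bounded A) :=
  (distinguished_cocone_triangle₂ ξ).choose_spec

/-- The countable sets of representatives, by number of cone steps. -/
noncomputable def reps : ℕ → Set (DerivedCategory.Bounded A)
  | 0 => {0} ∪ Set.range (fun p : ℤ × ℕ => (σ A p.1).obj (en p.2))
  | n + 1 => reps n ∪ ⋃ X ∈ reps n, ⋃ (s : ℤ), ⋃ (j : ℕ),
      Set.range (fun ξ : X ⟶ ((σ A s).obj (en j))⟦(1 : ℤ)⟧ => cone₂ ξ)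

lemma reps_zero : reps en 0 =
    {(0 : DerivedCategory.Bounded A)} ∪ Set.range (fun p : ℤ × ℕ => (σ A p.1).obj (en p.2)) := rfl

lemma reps_succ (n : ℕ) : reps en (n + 1) =
    reps en n ∪ ⋃ X ∈ reps en n, ⋃ (s : ℤ), ⋃ (j : ℕ),
      Set.range (fun ξ : X ⟶ ((σ A s).obj (en j))⟦(1 : ℤ)⟧ => cone₂ ξ) := rfl

lemma reps_countable (hc : ∀ K L : DerivedCategory.Bounded A, Countable (K ⟶ L)) (n : ℕ) :
    (reps en n).Countable := by
  induction n with
  | zero =>
    rw [reps_zero]
    exact (Set.countable_singleton _).union (Set.countable_range _)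
  | succ n ih =>
    rw [reps_succ]
    refine ih.union (ih.biUnion fun X _ => ?_)
    refine Set.countable_iUnion fun s => Set.countable_iUnion fun j => ?_
    have := hc X (((σ A s).obj (en j))⟦(1 : ℤ)⟧)
    exact Set.countable_range _

variable (hen : ∀ X : A, ∃ n : ℕ, Nonempty (X ≅ en n))

include hen in
theorem exists_mem_reps (K : DerivedCategory.Bounded A) :
    ∃ (n : ℕ) (X : DerivedCategory.Bounded A), X ∈ reps en n ∧ Nonempty (K ≅ X) := by
  refine bounded_induction (fun K => ∃ (n : ℕ) (X : DerivedCategory.Bounded A),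
    X ∈ reps en n ∧ Nonempty (K ≅ X)) ?_ ?_ ?_ K
  · intro K hK
    refine ⟨0, 0, ?_, ⟨hK.iso (isZero_zero _)⟩⟩
    rw [reps_zero]
    exact Or.inl rfl
  · intro K b _ _
    obtain ⟨M, ⟨θ⟩⟩ := exists_iso_σ K (-b) b (by omega)
    obtain ⟨j, ⟨φ⟩⟩ := hen M
    refine ⟨0, (σ A (-b)).obj (en j), ?_, ⟨θ ≪≫ (σ A (-b)).mapIso φ⟩⟩
    rw [reps_zero]
    exact Or.inr ⟨(-b, j), rfl⟩
  · intro K a b s _ h _ _ N g C w ξ hT _ _ _ hC
    obtain ⟨n, X, hX, ⟨θ⟩⟩ := hC
    obtain ⟨j, ⟨φ⟩⟩ := hen N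
    let ξ' : X ⟶ ((σ A s).obj (en j))⟦(1 : ℤ)⟧ := θ.inv ≫ ξ ≫ ((σ A s).map φ.hom)⟦(1 : ℤ)⟧'
    obtain ⟨f', g', hT'⟩ := cone₂_spec ξ'
    refine ⟨n + 1, cone₂ ξ', ?_, ?_⟩
    · rw [reps_succ]
      refine Or.inr ?_
      simp only [Set.mem_iUnion, Set.mem_range]
      exact ⟨X, hX, s, j, ξ', rfl⟩
    · have e := isoTriangleOfIso₁₃ (Triangle.mk g w ξ) (Triangle.mk f' g' ξ') hT hT'
        ((σ A s).mapIso φ) θ (by
          show ξ ≫ ((σ A s).map φ.hom)⟦(1 : ℤ)⟧' = θ.hom ≫ ξ'
          simp only [ξ', Iso.hom_inv_id_assoc])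
      exact ⟨Triangle.π₂.mapIso e⟩

include hen in
theorem exists_enumeration (hc : ∀ K L : DerivedCategory.Bounded A, Countable (K ⟶ L)) :
    ∃ e : ℕ → DerivedCategory.Bounded A, ∀ K : DerivedCategory.Bounded A,
      ∃ n : ℕ, Nonempty (K ≅ e n) := by
  have hcount : (⋃ n, reps en n).Countable := Set.countable_iUnion (reps_countable en hc)
  have hne : (⋃ n, reps en n).Nonempty :=
    ⟨0, Set.mem_iUnion.mpr ⟨0, by rw [reps_zero]; exact Or.inl rfl⟩⟩
  obtain ⟨f, hf⟩ := hcount.exists_eq_range hne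
  refine ⟨f, fun K => ?_⟩
  obtain ⟨n, X, hX, hKX⟩ := exists_mem_reps en hen K
  have hX' : X ∈ Set.range f := by
    rw [← hf]
    exact Set.mem_iUnion.mpr ⟨n, hX⟩
  obtain ⟨m, rfl⟩ := hX'
  exact ⟨m, hKX⟩

end Obj

end Groth.Agent.Lib.Sib65
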