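import Mathlib.AlgebraicTopology.AlternatingFaceMapComplex
import Mathlib.Algebra.Homology.Homotopy
import Mathlib.Algebra.Homology.Single
set_option autoImplicit false
universe v u
open CategoryTheory CategoryTheory.Limits
open Simplicial

namespace Groth.Agent.Lib.CoExtraDeg

variable {A : Type u} [Category.{v} A] [Preadditive A] [HasZeroObject A]

/-- A coaugmented cosimplicial object with an extra codegeneracy. -/
structure Data (Y : CosimplicialObject A) (P : A) where
  ε : P ⟶ Y.obj ⦋0⦌
  hε : ε ≫ Y.δ (0 : Fin 2) = ε ≫ Y.δ (1 : Fin 2)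
  t' : Y.obj ⦋0⦌ ⟶ P
  t : ∀ n : ℕ, Y.obj ⦋n + 1⦌ ⟶ Y.obj ⦋n⦌
  ε_t' : ε ≫ t' = 𝟙 P
  δ₁_t₀ : Y.δ (1 : Fin 2) ≫ t 0 = t' ≫ ε
  δ₀_t : ∀ n : ℕ, Y.δ (0 : Fin (n + 2)) ≫ t n = 𝟙 _
  δ_t : ∀ (n : ℕ) (i : Fin (n + 2)), Y.δ i.succ ≫ t (n + 1) = t n ≫ Y.δ i

variable {Y : CosimplicialObject A} {P : A} (D : Data Y P)

open AlgebraicTopology

omit [HasZeroObject A] in
lemma obj_d (n : ℕ) : (AlternatingCofaceMapComplex.obj Y).d n (n + 1) =
    AlternatingCofaceMapComplex.objD Y n := by
  simp [AlternatingCofaceMapComplex.obj]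

set_option backward.isDefEq.respectTransparency false in
lemma Data.ε_d : D.ε ≫ (AlternatingCofaceMapComplex.obj Y).d 0 1 = 0 := by
  rw [obj_d (Y := Y) 0]
  simp only [AlternatingCofaceMapComplex.objD, Fin.sum_univ_succ, Fin.sum_univ_zero]
  simp [← sub_eq_add_neg, Preadditive.comp_sub, D.hε]

set_option backward.isDefEq.respectTransparency false in
noncomputable def Data.homotopyEquiv :
    HomotopyEquiv ((CochainComplex.single₀ A).obj P) (AlternatingCofaceMapComplex.obj Y) where
  hom := (CochainComplex.fromSingle₀Equiv _ _).symm ⟨D.ε, D.ε_d⟩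
  inv := (CochainComplex.toSingle₀Equiv _ _).symm D.t'
  homotopyHomInvId := Homotopy.ofEq (by
    apply (CochainComplex.toSingle₀Equiv _ _).injective
    simp only [CochainComplex.toSingle₀Equiv_apply, HomologicalComplex.comp_f,
      CochainComplex.toSingle₀Equiv_symm_apply_f_zero,
      CochainComplex.fromSingle₀Equiv_symm_apply_f_zero, HomologicalComplex.id_f]
    exact D.ε_t')
  homotopyInvHomId :=
    { hom i j := if h : j + 1 = i then eqToHom (by subst h; rfl) ≫ (-D.t j) else 0
      zero i j hij := by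
        rw [dif_neg]
        exact hij
      comm i := by
        cases i with
        | zero =>
          rw [Homotopy.prevD_zero_cochainComplex, Homotopy.dNext_cochainComplex]
          simp only [dite_true, eqToHom_refl, Category.id_comp, obj_d, add_zero,
            HomologicalComplex.comp_f, CochainComplex.toSingle₀Equiv_symm_apply_f_zero,
            CochainComplex.fromSingle₀Equiv_symm_apply_f_zero, HomologicalComplex.id_f]
          simp only [AlternatingCofaceMapComplex.objD, Fin.sum_univ_succ, Fin.sum_univ_zero]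
          simp [Preadditive.add_comp, D.δ₀_t, D.δ₁_t₀]
          change D.t' ≫ D.ε = D.t' ≫ D.ε + -𝟙 (Y ^⦋0⦌) + 𝟙 (Y ^⦋0⦌)
          abel
        | succ i =>
          rw [Homotopy.prevD_succ_cochainComplex, Homotopy.dNext_cochainComplex]
          simp only [dite_true, eqToHom_refl, Category.id_comp, obj_d,
            HomologicalComplex.comp_f,
            CochainComplex.toSingle₀Equiv_symm_apply_f_succ, zero_comp, HomologicalComplex.id_f]
          change 0 = _ + _ + 𝟙 (Y ^⦋i + 1⦌)
          simp only [AlternatingCofaceMapComplex.objD]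
          rw [Fin.sum_univ_succ (n := i + 2)]
          simp [Preadditive.sum_comp, Preadditive.comp_sum, D.δ₀_t, D.δ_t, pow_succ] }

end Groth.Agent.Lib.CoExtraDeg
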