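import Groth.Agent.Lib.CoactInertia55b

/-!
# Freeness of a finite group scheme action from triviality of inertia at closed points (helper55)

`E = B ⊗ A`; `Jfix` the ideal of `E` generated by `ρ b - b ⊗ 1` (the stabiliser scheme in `X × G`),
`dEl a = 1 ⊗ a - ε(a)`.  The action is free iff `dEl a ∈ Jfix` for all `a`.

* `free_of_dEl_mem` : `dEl a ∈ Jfix` for all `a` gives freeness on affine test rings;
* `dEl_mem_sup_of_triv` : trivial inertia at `B → B ⧸ 𝔫` gives `dEl a ∈ Jfix ⊔ 𝔫 E`;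
* `dEl_mem_of_forall_maximal` : Nakayama glueing over the maximal ideals of `B` (`A` finite).
-/

set_option autoImplicit false
universe u
open TensorProduct

noncomputable section

namespace Groth.Agent.Lib.CoactFree55
open Groth.Agent.Lib.CoactTrans55 Groth.Agent.Lib.CoactInertia55 Groth.Agent.Lib.FinInv55

variable (R A B : Type u) [CommRing R] [CommRing A] [CommRing B] [HopfAlgebra R A] [Algebra R B]
  [HopfRep.Comod R A B] [GLin.IsCoactAlg R A B]

/-- The ideal of the stabiliser scheme in `B ⊗ A`. -/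
def Jfix : Ideal (B ⊗[R] A) :=
  Ideal.span (Set.range fun b : B => GLin.coactAlgHom R A B b - b ⊗ₜ[R] (1 : A))

variable {R A} in
/-- `1 ⊗ a - ε(a)`. -/
def dEl (a : A) : B ⊗[R] A :=
  (1 : B) ⊗ₜ[R] a - algebraMap R (B ⊗[R] A) (CoalgebraStruct.counit (R := R) a)

variable {R A B}

theorem lift_Jfix {Γ : Type u} [CommRing Γ] [Algebra R Γ] (ξ : B →ₐ[R] Γ) (gm : A →ₐ[R] Γ)
    (h : CoactTrans55.trans ξ gm = ξ) (z : B ⊗[R] A) (hz : z ∈ Jfix R A B) :
    Algebra.TensorProduct.lift ξ gm (fun _ _ => Commute.all _ _) z = 0 := by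
  have hle : Jfix R A B ≤ RingHom.ker
      (Algebra.TensorProduct.lift ξ gm (fun _ _ => Commute.all _ _)) := by
    rw [Jfix, Ideal.span_le]
    rintro _ ⟨b, rfl⟩
    rw [SetLike.mem_coe, RingHom.mem_ker, map_sub, Algebra.TensorProduct.lift_tmul, map_one,
      mul_one, sub_eq_zero]
    exact AlgHom.congr_fun h b
  exact hle hz

/-- If `dEl a ∈ Jfix` for all `a` the action is free (on affine test rings). -/
theorem free_of_dEl_mem (hd : ∀ a : A, dEl B a ∈ Jfix R A B)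
    (Γ : Type u) [CommRing Γ] [Algebra R Γ] (ξ : B →ₐ[R] Γ) (gm : A →ₐ[R] Γ)
    (h : CoactTrans55.trans ξ gm = ξ) : gm = unitPt R A Γ := by
  ext a
  have h1 := lift_Jfix ξ gm h _ (hd a)
  rw [dEl, map_sub, Algebra.TensorProduct.lift_tmul, map_one, one_mul, AlgHom.commutes,
    sub_eq_zero] at h1
  rw [h1]
  rfl

/-- Auxiliary form of `dEl_mem_sup_of_triv` with an abstract model `Γ` of `(κ ⊗ A) ⧸ φ(Jfix)`. -/
theorem dEl_mem_sup_of_triv_aux (𝔫 : Ideal B) (Γ : Type u) [CommRing Γ] [Algebra R Γ]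
    (q : (B ⧸ 𝔫) ⊗[R] A →ₐ[R] Γ)
    (hq : RingHom.ker q = Ideal.map
      (Algebra.TensorProduct.map (Ideal.Quotient.mkₐ R 𝔫) (AlgHom.id R A)) (Jfix R A B))
    (ht : ∀ (et : (B ⧸ 𝔫) →ₐ[R] Γ) (gm : A →ₐ[R] Γ),
      CoactTrans55.trans (et.comp (Ideal.Quotient.mkₐ R 𝔫)) gm =
        et.comp (Ideal.Quotient.mkₐ R 𝔫) → gm = unitPt R A Γ)
    (a : A) : dEl B a ∈ Jfix R A B ⊔ Ideal.map (algebraMap B (B ⊗[R] A)) 𝔫 := by
  let x : B →ₐ[R] B ⧸ 𝔫 := Ideal.Quotient.mkₐ R 𝔫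
  have hxs : Function.Surjective x := Ideal.Quotient.mkₐ_surjective R 𝔫
  let φ : B ⊗[R] A →ₐ[R] (B ⧸ 𝔫) ⊗[R] A := Algebra.TensorProduct.map x (AlgHom.id R A)
  have hφs : Function.Surjective φ :=
    Algebra.TensorProduct.map_surjective x (AlgHom.id R A) hxs (fun a => ⟨a, rfl⟩)
  have hq0 : ∀ z, q z = 0 ↔ z ∈ Ideal.map φ (Jfix R A B) := fun z => by
    rw [← RingHom.mem_ker, hq]
  let et : (B ⧸ 𝔫) →ₐ[R] Γ := q.comp Algebra.TensorProduct.includeLeft
  let gm : A →ₐ[R] Γ := q.comp Algebra.TensorProduct.includeRight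
  have hlift : Algebra.TensorProduct.lift (et.comp x) gm (fun _ _ => Commute.all _ _) =
      q.comp φ := by
    apply Algebra.TensorProduct.ext'
    intro b a
    rw [Algebra.TensorProduct.lift_tmul]
    change q ((x b) ⊗ₜ[R] (1 : A)) * q ((1 : B ⧸ 𝔫) ⊗ₜ[R] a) = q ((x b) ⊗ₜ[R] a)
    rw [← map_mul, Algebra.TensorProduct.tmul_mul_tmul, mul_one, one_mul]
  have h1 : CoactTrans55.trans (et.comp x) gm = et.comp x := by
    ext b
    rw [CoactTrans55.trans, AlgHom.comp_apply, hlift]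
    have hm : φ (GLin.coactAlgHom R A B b - b ⊗ₜ[R] (1 : A)) ∈ Ideal.map φ (Jfix R A B) :=
      Ideal.mem_map_of_mem _ (Ideal.subset_span ⟨b, rfl⟩)
    have h2 := (hq0 _).2 hm
    rw [map_sub, map_sub, sub_eq_zero] at h2
    rw [AlgHom.comp_apply, h2]
    rfl
  have h3 := ht et gm h1
  have h4 : φ (dEl B a) ∈ Ideal.map φ (Jfix R A B) := by
    rw [← hq0, dEl, map_sub, map_sub, sub_eq_zero, AlgHom.commutes, AlgHom.commutes]
    exact AlgHom.congr_fun h3 a
  obtain ⟨j, hj, hjφ⟩ := (Ideal.mem_map_iff_of_surjective φ hφs).1 h4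
  have h5 : dEl B a - j ∈ RingHom.ker φ := by
    rw [RingHom.mem_ker, map_sub, hjφ, sub_self]
  have hker : RingHom.ker φ = Ideal.map (algebraMap B (B ⊗[R] A)) 𝔫 := by
    have := Algebra.TensorProduct.rTensor_ker (R := R) (S := R) (C := A) x hxs
    have hk : RingHom.ker x = 𝔫 := Ideal.Quotient.mkₐ_ker R 𝔫
    rw [hk] at this
    exact this
  rw [hker] at h5
  have e : dEl B a = j + (dEl B a - j) := by ring
  rw [e]
  exact Submodule.add_mem_sup hj h5

/-- Trivial inertia at the point `B → B ⧸ 𝔫` gives `dEl a ∈ Jfix + 𝔫 E`. -/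
theorem dEl_mem_sup_of_triv (𝔫 : Ideal B)
    (ht : ∀ (Γ : Type u) [CommRing Γ] [Algebra R Γ] (et : (B ⧸ 𝔫) →ₐ[R] Γ) (gm : A →ₐ[R] Γ),
      CoactTrans55.trans (et.comp (Ideal.Quotient.mkₐ R 𝔫)) gm =
        et.comp (Ideal.Quotient.mkₐ R 𝔫) → gm = unitPt R A Γ)
    (a : A) : dEl B a ∈ Jfix R A B ⊔ Ideal.map (algebraMap B (B ⊗[R] A)) 𝔫 :=
  dEl_mem_sup_of_triv_aux 𝔫
    (((B ⧸ 𝔫) ⊗[R] A) ⧸ Ideal.map
      (Algebra.TensorProduct.map (Ideal.Quotient.mkₐ R 𝔫) (AlgHom.id R A)) (Jfix R A B))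
    (Ideal.Quotient.mkₐ R _) (Ideal.Quotient.mkₐ_ker R _) (ht _) a

theorem epsR_Jfix (z : B ⊗[R] A) (hz : z ∈ Jfix R A B) :
    epsR (k := R) (A := A) (R := B) z = 0 := by
  have hle : Jfix R A B ≤ RingHom.ker (epsR (k := R) (A := A) (R := B)) := by
    rw [Jfix, Ideal.span_le]
    rintro _ ⟨b, rfl⟩
    rw [SetLike.mem_coe, RingHom.mem_ker, map_sub, epsR_coact]
    simp [epsR]
  exact hle hz

open scoped Pointwise in
/-- Nakayama glueing over the maximal ideals of `B`. -/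
theorem dEl_mem_of_forall_maximal [Module.Finite R A]
    (h : ∀ (𝔫 : Ideal B), 𝔫.IsMaximal → ∀ a : A,
      dEl B a ∈ Jfix R A B ⊔ Ideal.map (algebraMap B (B ⊗[R] A)) 𝔫) :
    ∀ a : A, dEl B a ∈ Jfix R A B := by
  let M' : Submodule B (B ⊗[R] A) :=
    (Jfix R A B).restrictScalars B ⊔ Submodule.span B {(1 : B ⊗[R] A)}
  have hJM : ∀ j ∈ Jfix R A B, j ∈ M' := fun j hj =>
    Submodule.mem_sup_left (by exact hj)
  have h1M : ∀ b : B, b • (1 : B ⊗[R] A) ∈ M' := fun b =>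
    Submodule.mem_sup_right (Submodule.smul_mem _ _ (Submodule.subset_span rfl))
  have htop : M' = ⊤ := by
    by_contra hne
    have h𝔞 : M'.colon (⊤ : Submodule B (B ⊗[R] A)) ≠ ⊤ := by
      intro h1
      apply hne
      rw [eq_top_iff]
      intro e _
      have h2 : (1 : B) ∈ M'.colon (⊤ : Submodule B (B ⊗[R] A)) := h1 ▸ Submodule.mem_top
      have h3 := Submodule.mem_colon.1 h2 e Submodule.mem_top
      rwa [one_smul] at h3
    obtain ⟨𝔫, h𝔫, hle⟩ := Ideal.exists_le_maximal _ h𝔞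
    have hsup : (⊤ : Submodule B (B ⊗[R] A)) ≤ M' ⊔ 𝔫 • (⊤ : Submodule B (B ⊗[R] A)) := by
      intro z _
      induction z using TensorProduct.induction_on with
      | zero => exact zero_mem _
      | add x y hx hy => exact add_mem (hx Submodule.mem_top) (hy Submodule.mem_top)
      | tmul b a =>
        have e1 : b ⊗ₜ[R] a = b • ((1 : B) ⊗ₜ[R] a) := by
          rw [TensorProduct.smul_tmul', smul_eq_mul, mul_one]
        rw [e1]
        apply Submodule.smul_mem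
        have e2 : (1 : B) ⊗ₜ[R] a = dEl B a +
            (algebraMap R B (CoalgebraStruct.counit (R := R) a)) • (1 : B ⊗[R] A) := by
          rw [dEl, Algebra.TensorProduct.algebraMap_apply, Algebra.TensorProduct.one_def,
            TensorProduct.smul_tmul', smul_eq_mul, mul_one]
          ring
        rw [e2]
        obtain ⟨j, hj, n, hn, hjn⟩ := Submodule.mem_sup.1 (h 𝔫 h𝔫 a)
        rw [← hjn, add_assoc, add_comm n, ← add_assoc]
        refine Submodule.add_mem_sup (add_mem (hJM j hj) (h1M _)) ?_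
        rw [Ideal.smul_top_eq_map]
        exact hn
    obtain ⟨r, hr1, hr2⟩ := Submodule.exists_sub_one_mem_and_smul_le_of_fg_of_le_sup
      (Module.Finite.fg_top (R := B) (M := B ⊗[R] A)) le_rfl hsup
    have hr𝔞 : r ∈ M'.colon (⊤ : Submodule B (B ⊗[R] A)) := Submodule.mem_colon_iff_le.2 hr2
    have h1 : (1 : B) ∈ 𝔫 := by
      have := 𝔫.sub_mem (hle hr𝔞) hr1
      simpa using this
    exact h𝔫.ne_top ((Ideal.eq_top_iff_one _).2 h1)
  intro a
  have h1 : (1 : B) ⊗ₜ[R] a ∈ M' := htop ▸ Submodule.mem_top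
  obtain ⟨j, hj, s, hs, hjs⟩ := Submodule.mem_sup.1 h1
  obtain ⟨b, rfl⟩ := Submodule.mem_span_singleton.1 hs
  have hj' : j ∈ Jfix R A B := hj
  have h2 := congrArg (epsR (k := R) (A := A) (R := B)) hjs
  rw [map_add, epsR_Jfix j hj', zero_add, map_smul, map_one, smul_eq_mul, mul_one] at h2
  have h3 : epsR (k := R) (A := A) (R := B) ((1 : B) ⊗ₜ[R] a) =
      algebraMap R B (CoalgebraStruct.counit (R := R) a) := by
    simp [epsR, Algebra.ofId_apply]
  rw [h3] at h2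
  have h4 : dEl B a = j := by
    rw [dEl, ← hjs, h2, Algebra.TensorProduct.algebraMap_apply, Algebra.TensorProduct.one_def,
      TensorProduct.smul_tmul', smul_eq_mul, mul_one]
    ring
  rw [h4]
  exact hj'

end Groth.Agent.Lib.CoactFree55
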