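import Groth.Agent.Lib.CoactFree55

/-!
# Trivial inertia at a point spreads to a basic open neighbourhood in the quotient (helper55)

`A` finite projective Hopf algebra over `R`, `B` a comodule algebra, `C = B^A`, `x : B → K` a
field-valued point with trivial inertia.  Then there is `f ∈ C` with `x f ≠ 0` and
`f • dEl a ∈ Jfix` for all `a` (`exists_invariant_smul_dEl_mem`): the action is free over `D(f) ⊆ Spec C`.

* `exists_prime_over` : lying over for `C ⊆ B` relative to an ideal `𝔞` of `B`, via the norm;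
* `smul_dEl_mem_of_mem_annihilator`, `subsingleton_tensor_of_triv` : the module
  `N₂ = (E ⧸ Jfix) ⧸ B·1` and its fibres.
-/

set_option autoImplicit false
universe u
open TensorProduct

noncomputable section

namespace Groth.Agent.Lib.CoactFree55
open Groth.Agent.Lib.CoactTrans55 Groth.Agent.Lib.CoactInertia55 Groth.Agent.Lib.FinInv55
open Groth.Agent.Lib.NormProj55 Groth.Agent.Lib.CoactNorm55

variable {R A B : Type u} [CommRing R] [CommRing A] [CommRing B] [HopfAlgebra R A] [Algebra R B]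
  [HopfRep.Comod R A B] [GLin.IsCoactAlg R A B]

section LyingOver

variable {N : ℕ} (a : Fin N → A) (g : Fin N → A →ₗ[R] R) (hag : ∀ x : A, ∑ i, g i x • a i = x)

include hag in
/-- Lying over via the norm: an ideal `𝔞` of `B` whose invariant elements are killed by the
field-valued point `x` lies in a prime `𝔫` whose invariant elements are exactly those killed by `x`. -/
theorem exists_prime_over {K : Type u} [Field K] [Algebra R K] (x : B →ₐ[R] K) (𝔞 : Ideal B)
    (h𝔞 : ∀ c ∈ GLin.invariants R A B, c ∈ 𝔞 → x c = 0) :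
    ∃ 𝔫 : Ideal B, 𝔫.IsPrime ∧ 𝔞 ≤ 𝔫 ∧ ∀ c ∈ GLin.invariants R A B, (c ∈ 𝔫 ↔ x c = 0) := by
  let qB : Ideal B := Ideal.span {c | c ∈ GLin.invariants R A B ∧ x c = 0}
  let S : Submonoid B :=
    { carrier := {c | c ∈ GLin.invariants R A B ∧ x c ≠ 0}
      mul_mem' := fun {c d} hc hd => ⟨mul_mem hc.1 hd.1, by
        rw [map_mul]; exact mul_ne_zero hc.2 hd.2⟩
      one_mem' := ⟨one_mem _, by rw [map_one]; exact one_ne_zero⟩ }
  let θ : B →ₐ[R] K ⊗[R] A :=
    (Algebra.TensorProduct.map x (AlgHom.id R A)).comp (GLin.coactAlgHom R A B)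
  have hθC : ∀ c ∈ GLin.invariants R A B, θ c = x c ⊗ₜ[R] (1 : A) := by
    intro c hc
    have h1 : GLin.coactAlgHom R A B c = c ⊗ₜ[R] (1 : A) :=
      (GLin.mem_invariants_iff R A B c).1 hc
    change Algebra.TensorProduct.map x (AlgHom.id R A) (GLin.coactAlgHom R A B c) = _
    rw [h1, Algebra.TensorProduct.map_tmul, map_one]
  have hθq : ∀ β ∈ qB, θ β = 0 := by
    have hle : qB ≤ RingHom.ker θ := by
      rw [Ideal.span_le]
      rintro c ⟨hc, hxc⟩
      rw [SetLike.mem_coe, RingHom.mem_ker, hθC c hc, hxc, zero_tmul]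
    exact fun β hβ => hle hβ
  have hdisj : Disjoint ((𝔞 ⊔ qB : Ideal B) : Set B) (S : Set B) := by
    rw [Set.disjoint_left]
    rintro s hsI ⟨hsC, hxs⟩
    obtain ⟨α, hα, β, hβ, rfl⟩ := Submodule.mem_sup.1 hsI
    have h1 : θ α = x (α + β) ⊗ₜ[R] (1 : A) := by
      rw [← hθC _ hsC, map_add, hθq β hβ, add_zero]
    have h2 : x (NmCoact a g α) = Nm a g K (θ α) := by
      rw [NmCoact, ← Nm_map]
      rfl
    have h3 : NmCoact a g α ∈ 𝔞 := by
      obtain ⟨c, hc⟩ := Ideal.mem_span_singleton'.1 (NmCoact_mem_span a g hag α)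
      rw [← hc]
      exact 𝔞.mul_mem_left _ hα
    have h4 : x (NmCoact a g α) = 0 := h𝔞 _ (NmCoact_mem_invariants a g hag α) h3
    have h5 : IsUnit (x (α + β) ⊗ₜ[R] (1 : A) : K ⊗[R] A) :=
      (IsUnit.mk0 _ hxs).map (Algebra.TensorProduct.includeLeft : K →ₐ[R] K ⊗[R] A)
    have h6 := isUnit_Nm a g K hag h5
    rw [← h1, ← h2, h4] at h6
    exact not_isUnit_zero h6
  obtain ⟨𝔫, h𝔫, hle, hd⟩ := Ideal.exists_le_prime_disjoint _ S hdisj
  refine ⟨𝔫, h𝔫, le_trans le_sup_left hle, fun c hc => ⟨fun hcn => ?_, fun hxc => ?_⟩⟩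
  · by_contra hxc
    exact Set.disjoint_left.1 hd hcn ⟨hc, hxc⟩
  · exact hle (Submodule.mem_sup_right (Ideal.subset_span ⟨hc, hxc⟩))

end LyingOver

section Fibre

variable (R A B) in
/-- `E ⧸ Jfix`, the coordinate ring of the stabiliser scheme. -/
abbrev Qfix := (B ⊗[R] A) ⧸ Jfix R A B

variable (R A B) in
/-- The `B`-span of `1` in `Qfix`. -/
def oneSpan : Submodule B (Qfix R A B) := Submodule.span B {1}

variable (R A B) in
/-- `Qfix ⧸ B·1`; it vanishes iff the action is free. -/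
abbrev N2 := Qfix R A B ⧸ oneSpan R A B

theorem smul_dEl_mem_of_mem_annihilator (r : B) (hr : r ∈ Module.annihilator B (N2 R A B))
    (a : A) : r • dEl B a ∈ Jfix R A B := by
  have h1 : r • (oneSpan R A B).mkQ (Ideal.Quotient.mkₐ B (Jfix R A B) ((1 : B) ⊗ₜ[R] a)) = 0 :=
    Module.mem_annihilator.1 hr _
  rw [← map_smul, ← map_smul, Submodule.mkQ_apply, Submodule.Quotient.mk_eq_zero] at h1
  obtain ⟨b, hb⟩ := Submodule.mem_span_singleton.1 h1
  have h2 : Ideal.Quotient.mkₐ B (Jfix R A B)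
      (b • (1 : B ⊗[R] A) - r • ((1 : B) ⊗ₜ[R] a)) = 0 := by
    rw [map_sub, map_smul, map_one, hb, sub_self]
  have h3 : b • (1 : B ⊗[R] A) - r • ((1 : B) ⊗ₜ[R] a) ∈ Jfix R A B :=
    Ideal.Quotient.eq_zero_iff_mem.1 h2
  have h4 := epsR_Jfix _ h3
  have h5 : epsR (k := R) (A := A) (R := B) ((1 : B) ⊗ₜ[R] a) =
      algebraMap R B (CoalgebraStruct.counit (R := R) a) := by
    simp [epsR, Algebra.ofId_apply]
  rw [map_sub, map_smul, map_smul, map_one, h5, smul_eq_mul, mul_one, smul_eq_mul, sub_eq_zero]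
    at h4
  have h6 : r • dEl B a = -(b • (1 : B ⊗[R] A) - r • ((1 : B) ⊗ₜ[R] a)) := by
    rw [dEl, h4, smul_sub, Algebra.TensorProduct.algebraMap_apply, Algebra.TensorProduct.one_def,
      TensorProduct.smul_tmul', TensorProduct.smul_tmul', TensorProduct.smul_tmul', smul_eq_mul,
      smul_eq_mul, smul_eq_mul, mul_one, mul_one]
    ring
  rw [h6]
  exact neg_mem h3

theorem finite_N2 [Module.Finite R A] : Module.Finite B (N2 R A B) := by
  haveI : Module.Finite B (Qfix R A B) :=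
    Module.Finite.of_surjective (Ideal.Quotient.mkₐ B (Jfix R A B)).toLinearMap
      (Ideal.Quotient.mkₐ_surjective B _)
  exact Module.Finite.of_surjective (oneSpan R A B).mkQ (Submodule.mkQ_surjective _)

/-- Auxiliary: the universal test with an abstract model `Γ` of `κ(𝔫) ⊗[B] Qfix`. -/
theorem triv_aux (𝔫 : Ideal B) [𝔫.IsPrime] (Γ : Type u) [CommRing Γ] [Algebra R Γ]
    (et : 𝔫.ResidueField →ₐ[R] Γ) (sg : Qfix R A B →ₐ[R] Γ)
    (hsg : ∀ b : B, sg (algebraMap B (Qfix R A B) b) = et (algebraMap B 𝔫.ResidueField b))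
    (ht : ∀ (et : 𝔫.ResidueField →ₐ[R] Γ) (gm : A →ₐ[R] Γ),
      CoactTrans55.trans (et.comp (IsScalarTower.toAlgHom R B 𝔫.ResidueField)) gm =
        et.comp (IsScalarTower.toAlgHom R B 𝔫.ResidueField) → gm = unitPt R A Γ)
    (a : A) :
    sg (Ideal.Quotient.mkₐ B (Jfix R A B) ((1 : B) ⊗ₜ[R] a)) =
      algebraMap R Γ (CoalgebraStruct.counit (R := R) a) := by
  let xn : B →ₐ[R] 𝔫.ResidueField := IsScalarTower.toAlgHom R B 𝔫.ResidueField
  let mq : B ⊗[R] A →ₐ[B] Qfix R A B := Ideal.Quotient.mkₐ B (Jfix R A B)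
  let gm : A →ₐ[R] Γ := sg.comp ((mq.restrictScalars R).comp Algebra.TensorProduct.includeRight)
  have hlift : ∀ e : B ⊗[R] A,
      Algebra.TensorProduct.lift (et.comp xn) gm (fun _ _ => Commute.all _ _) e = sg (mq e) := by
    intro e
    induction e using TensorProduct.induction_on with
    | zero => simp
    | add x y hx hy => simp only [map_add, hx, hy]
    | tmul b a =>
      rw [Algebra.TensorProduct.lift_tmul]
      change et (algebraMap B 𝔫.ResidueField b) * sg (mq ((1 : B) ⊗ₜ[R] a)) = sg (mq (b ⊗ₜ[R] a))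
      rw [← hsg, ← map_mul]
      congr 1
      have e1 : b ⊗ₜ[R] a = b • ((1 : B) ⊗ₜ[R] a) := by
        rw [TensorProduct.smul_tmul', smul_eq_mul, mul_one]
      rw [e1, map_smul]
      exact (Algebra.smul_def b _).symm
  have h1 : CoactTrans55.trans (et.comp xn) gm = et.comp xn := by
    ext b
    rw [CoactTrans55.trans, AlgHom.comp_apply, hlift]
    have hm : mq (GLin.coactAlgHom R A B b - b ⊗ₜ[R] (1 : A)) = 0 :=
      Ideal.Quotient.eq_zero_iff_mem.2 (Ideal.subset_span ⟨b, rfl⟩)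
    rw [map_sub, sub_eq_zero] at hm
    rw [hm, ← hlift, Algebra.TensorProduct.lift_tmul, map_one, mul_one]
  exact AlgHom.congr_fun (ht et gm h1) a

/-- Trivial inertia at the residue field point of a prime `𝔫` kills the fibre of `N2` at `𝔫`. -/
theorem subsingleton_tensor_of_triv (𝔫 : Ideal B) [𝔫.IsPrime]
    (ht : ∀ (Γ : Type u) [CommRing Γ] [Algebra R Γ] (et : 𝔫.ResidueField →ₐ[R] Γ)
      (gm : A →ₐ[R] Γ),
      CoactTrans55.trans (et.comp (IsScalarTower.toAlgHom R B 𝔫.ResidueField)) gm =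
        et.comp (IsScalarTower.toAlgHom R B 𝔫.ResidueField) → gm = unitPt R A Γ) :
    Subsingleton (𝔫.ResidueField ⊗[B] N2 R A B) := by
  let mq : B ⊗[R] A →ₐ[B] Qfix R A B := Ideal.Quotient.mkₐ B (Jfix R A B)
  have h2 : ∀ a : A, (1 : 𝔫.ResidueField) ⊗ₜ[B] mq ((1 : B) ⊗ₜ[R] a) =
      algebraMap R (𝔫.ResidueField ⊗[B] Qfix R A B) (CoalgebraStruct.counit (R := R) a) :=
    fun a => triv_aux 𝔫 (𝔫.ResidueField ⊗[B] Qfix R A B)
      ((Algebra.TensorProduct.includeLeft :
        𝔫.ResidueField →ₐ[𝔫.ResidueField] 𝔫.ResidueField ⊗[B] Qfix R A B).restrictScalars R)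
      ((Algebra.TensorProduct.includeRight :
        Qfix R A B →ₐ[B] 𝔫.ResidueField ⊗[B] Qfix R A B).restrictScalars R)
      (fun b => by
        change (1 : 𝔫.ResidueField) ⊗ₜ[B] (algebraMap B (Qfix R A B) b) =
          (algebraMap B 𝔫.ResidueField b) ⊗ₜ[B] (1 : Qfix R A B)
        rw [Algebra.algebraMap_eq_smul_one, Algebra.algebraMap_eq_smul_one,
          TensorProduct.smul_tmul])
      (ht _) a
  have key : ∀ (c : 𝔫.ResidueField) (a : A),
      c ⊗ₜ[B] (oneSpan R A B).mkQ (mq ((1 : B) ⊗ₜ[R] a)) =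
        (0 : 𝔫.ResidueField ⊗[B] N2 R A B) := by
    intro c a
    have h3 := h2 a
    have h4 : c ⊗ₜ[B] mq ((1 : B) ⊗ₜ[R] a) =
        c ⊗ₜ[B] ((algebraMap R B (CoalgebraStruct.counit (R := R) a)) • (1 : Qfix R A B)) := by
      have := congrArg (fun z => (c ⊗ₜ[B] (1 : Qfix R A B)) * z) h3
      simp only [Algebra.TensorProduct.tmul_mul_tmul, mul_one, one_mul] at this
      rw [this, Algebra.algebraMap_eq_smul_one, mul_smul_comm, mul_one,
        TensorProduct.smul_tmul', ← algebraMap_smul B (CoalgebraStruct.counit (R := R) a) c,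
        TensorProduct.smul_tmul]
    have h5 := congrArg ((oneSpan R A B).mkQ.lTensor 𝔫.ResidueField) h4
    rw [LinearMap.lTensor_tmul, LinearMap.lTensor_tmul, map_smul] at h5
    have h6 : (oneSpan R A B).mkQ (1 : Qfix R A B) = 0 := by
      rw [Submodule.mkQ_apply, Submodule.Quotient.mk_eq_zero]
      exact Submodule.subset_span rfl
    rw [h5, h6, smul_zero, tmul_zero]
  refine ⟨fun w₁ w₂ => ?_⟩
  suffices h : ∀ w : 𝔫.ResidueField ⊗[B] N2 R A B, w = 0 by rw [h w₁, h w₂]
  intro w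
  induction w using TensorProduct.induction_on with
  | zero => rfl
  | add x y hx hy => rw [hx, hy, add_zero]
  | tmul c n =>
    obtain ⟨q, rfl⟩ := Submodule.mkQ_surjective (oneSpan R A B) n
    obtain ⟨e, rfl⟩ := Ideal.Quotient.mkₐ_surjective B (Jfix R A B) q
    induction e using TensorProduct.induction_on with
    | zero => simp
    | add x y hx hy => rw [map_add, map_add, tmul_add, hx, hy, add_zero]
    | tmul b a =>
      have e1 : b ⊗ₜ[R] a = b • ((1 : B) ⊗ₜ[R] a) := by
        rw [TensorProduct.smul_tmul', smul_eq_mul, mul_one]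
      rw [e1, map_smul, map_smul, ← TensorProduct.smul_tmul]
      exact key _ a

end Fibre

section Spread

open CategoryTheory CategoryTheory.Limits AlgebraicGeometry Opposite MonoidalCategory
  CartesianMonoidalCategory MonObj CoactBr

/-- Trivial inertia at a field-valued point `x` spreads: there is an invariant `f` with `x f ≠ 0`
over whose locus the action is free, i.e. `f • dEl a ∈ Jfix` for all `a`. -/
theorem exists_invariant_smul_dEl_mem [Module.Finite R A] [Module.Projective R A]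
    {K : Type u} [Field K] [Algebra R K] (x : B →ₐ[R] K)
    (htriv : ∀ (T : Over (Spec (CommRingCat.of R))) (h : T ⟶ sp R K) (g : T ⟶ sp R A),
      lift g (h ≫ pt x) ≫ (action R A B).act = h ≫ pt x → g = 1) :
    ∃ f ∈ GLin.invariants R A B, x f ≠ 0 ∧ ∀ a : A, f • dEl B a ∈ Jfix R A B := by
  by_contra hcon
  push_neg at hcon
  obtain ⟨N, a, g, hag⟩ := exists_coords R A
  have h𝔞 : ∀ c ∈ GLin.invariants R A B, c ∈ Module.annihilator B (N2 R A B) → x c = 0 := by
    intro c hc hcann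
    by_contra hxc
    obtain ⟨a', ha'⟩ := hcon c hc hxc
    exact ha' (smul_dEl_mem_of_mem_annihilator c hcann a')
  obtain ⟨𝔫, h𝔫, hle, hiff⟩ := exists_prime_over a g hag x _ h𝔞
  haveI := h𝔫
  -- the residue field point at `𝔫` lies in the same fibre
  have hq : RingHom.ker (x.toRingHom.comp (GLin.invariants R A B).val.toRingHom) =
      RingHom.ker ((IsScalarTower.toAlgHom R B 𝔫.ResidueField).toRingHom.comp
        (GLin.invariants R A B).val.toRingHom) := by
    ext c
    rw [RingHom.mem_ker, RingHom.mem_ker]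
    change x (c : B) = 0 ↔ algebraMap B 𝔫.ResidueField (c : B) = 0
    rw [Ideal.algebraMap_residueField_eq_zero, hiff _ c.2]
  have ht : ∀ (Γ : Type u) [CommRing Γ] [Algebra R Γ] (et : 𝔫.ResidueField →ₐ[R] Γ)
      (gm : A →ₐ[R] Γ),
      CoactTrans55.trans (et.comp (IsScalarTower.toAlgHom R B 𝔫.ResidueField)) gm =
        et.comp (IsScalarTower.toAlgHom R B 𝔫.ResidueField) → gm = unitPt R A Γ := by
    intro Γ _ _ et gm hgm
    exact fix_affine_of (IsScalarTower.toAlgHom R B 𝔫.ResidueField)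
      (fun T h g hg => inertia_trivial_transfer x _ hq htriv T h g hg) Γ et gm hgm
  haveI := subsingleton_tensor_of_triv 𝔫 ht
  haveI := finite_N2 (R := R) (A := A) (B := B)
  have hsupp : (⟨𝔫, h𝔫⟩ : PrimeSpectrum B) ∈ Module.support B (N2 R A B) :=
    Module.mem_support_iff_of_finite.2 hle
  rw [Module.mem_support_iff_nontrivial_residueField_tensorProduct] at hsupp
  exact not_subsingleton _ ‹Subsingleton (𝔫.ResidueField ⊗[B] N2 R A B)›

end Spread

end Groth.Agent.Lib.CoactFree55
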