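import Groth.Agent.Lib.CoactFree55b

/-!
# Inertia at a point versus freeness over a flat neighbourhood of its image in the quotient (helper55)

Scheme-level halves of S14982:
* `inertia_trivial_of_free_over` : if the action is free over some `Y' → Spec B^A` whose image
  contains the image `y` of `x`, the inertia at `x` is trivial;
* `free_over_away` : if `f ∈ B^A` satisfies `f • dEl a ∈ Jfix` for all `a`, the action is free over
  `Spec (B^A)_f`.
-/

set_option autoImplicit false
universe u
open CategoryTheory CategoryTheory.Limits AlgebraicGeometry Opposite MonoidalCategory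
  CartesianMonoidalCategory MonObj
open TensorProduct CoactBr

noncomputable section

namespace Groth.Agent.Lib.CoactFree55
open Groth.Agent.Lib.CoactPts55 Groth.Agent.Lib.CoactTrans55 Groth.Agent.Lib.CoactInertia55
open Groth.Agent.Lib.CommonField55

attribute [local instance] Groth.Agent.Lib.CoactPts55.algΓ

variable {R A B : Type u} [CommRing R] [CommRing A] [CommRing B] [HopfAlgebra R A] [Algebra R B]
  [HopfRep.Comod R A B] [GLin.IsCoactAlg R A B]

/-- A point of `G` fixing a point of `X` gives the algebraic fixing relation on global sections. -/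
theorem trans_evPt_of_fix (T : Over (Spec (CommRingCat.of R))) (ζ : T ⟶ sp R B) (g : T ⟶ sp R A)
    (hg : lift g ζ ≫ (action R A B).act = ζ) :
    CoactTrans55.trans (evPt ζ) (evPt g) = evPt ζ := by
  rw [act_fix_iff] at hg
  have hh := eq_can_pt ζ
  have hg' := eq_can_pt g
  have h1 : ra ζ g = can T ≫ pt (CoactTrans55.trans (evPt ζ) (evPt g)) := by
    conv_lhs => rw [hh, hg', ← comp_ra, ra_pt_pt]
    rfl
  rw [h1] at hg
  conv_rhs at hg => rw [hh]
  exact can_pt_injective hg

theorem eq_one_of_evPt (T : Over (Spec (CommRingCat.of R))) (g : T ⟶ sp R A)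
    (h : evPt g = unitPt R A Γ(T.left, ⊤)) : g = 1 := by
  rw [eq_can_pt g, h, unitPt, ← one_eq_pt, MonObj.comp_one]

/-- Freeness over the basic open `D(f)`, `f` invariant with `f • dEl a ∈ Jfix`. -/
theorem free_of_isUnit (f : B) (hf : ∀ a : A, f • dEl B a ∈ Jfix R A B)
    (T : Over (Spec (CommRingCat.of R))) (ζ : T ⟶ sp R B) (hu : IsUnit (evPt ζ f))
    (g : T ⟶ sp R A) (hg : lift g ζ ≫ (action R A B).act = ζ) : g = 1 := by
  apply eq_one_of_evPt
  have h1 := trans_evPt_of_fix T ζ g hg
  ext a
  have h2 := lift_Jfix (evPt ζ) (evPt g) h1 _ (hf a)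
  have e1 : f • dEl B a = (f ⊗ₜ[R] (1 : A)) * dEl B a := by
    rw [Algebra.smul_def]
    rfl
  rw [e1, map_mul, Algebra.TensorProduct.lift_tmul, map_one, _root_.mul_one] at h2
  have h3 := hu.mul_right_eq_zero.1 h2
  rw [dEl, map_sub, Algebra.TensorProduct.lift_tmul, map_one, _root_.one_mul, AlgHom.commutes,
    sub_eq_zero] at h3
  rw [h3]
  rfl

/-- If the composite of `ζ` with the quotient map factors through `Spec (B^A)_f`, then `f` is
invertible along `ζ`. -/
theorem isUnit_evPt_of_factor (f : GLin.invariants R A B)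
    (T : Over (Spec (CommRingCat.of R))) (ζ : T ⟶ sp R B)
    (t : T.left ⟶ Spec (CommRingCat.of (Localization.Away f)))
    (ht : t ≫ Spec.map (CommRingCat.ofHom (algebraMap (GLin.invariants R A B)
        (Localization.Away f))) =
      ζ.left ≫ Spec.map (CommRingCat.ofHom (GLin.invariants R A B).val.toRingHom)) :
    IsUnit (evPt ζ (f : B)) := by
  have h1 := congrArg (fun m => m.appTop
    ((Scheme.ΓSpecIso (CommRingCat.of (GLin.invariants R A B))).inv f)) ht
  simp only at h1
  have e1 := appTop_comp_specMap t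
    (CommRingCat.ofHom (algebraMap (GLin.invariants R A B) (Localization.Away f))) f
  have e2 := appTop_comp_specMap (X := T.left) (K := CommRingCat.of B)
    (A := CommRingCat.of (GLin.invariants R A B)) ζ.left
    (CommRingCat.ofHom (GLin.invariants R A B).val.toRingHom) f
  have h2 : evPt ζ (f : B) = t.appTop ((Scheme.ΓSpecIso (CommRingCat.of (Localization.Away f))).inv
      (algebraMap (GLin.invariants R A B) (Localization.Away f) f)) :=
    (e2.symm.trans (h1.symm.trans e1))
  rw [h2]
  have hu : IsUnit (algebraMap (GLin.invariants R A B) (Localization.Away f) f) :=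
    IsLocalization.Away.algebraMap_isUnit f
  exact (hu.map (Scheme.ΓSpecIso (CommRingCat.of (Localization.Away f))).inv.hom).map t.appTop.hom

/-- `(⇒)` of S14982, scheme side: freeness over the basic open `Spec (B^A)_f`. -/
theorem free_over_away (f : GLin.invariants R A B) (hf : ∀ a : A, (f : B) • dEl B a ∈ Jfix R A B)
    (T : Over (Spec (CommRingCat.of R))) (ζ : T ⟶ sp R B)
    (hex : ∃ t : T.left ⟶ Spec (CommRingCat.of (Localization.Away f)),
      t ≫ Spec.map (CommRingCat.ofHom (algebraMap (GLin.invariants R A B)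
        (Localization.Away f))) =
      ζ.left ≫ Spec.map (CommRingCat.ofHom (GLin.invariants R A B).val.toRingHom))
    (g : T ⟶ sp R A) (hg : lift g ζ ≫ (action R A B).act = ζ) : g = 1 := by
  obtain ⟨t, ht⟩ := hex
  exact free_of_isUnit (f : B) hf T ζ (isUnit_evPt_of_factor f T ζ t ht) g hg

/-- `(⇐)` of S14982: freeness over some `Y' → Spec B^A` whose image contains the image of `x` forces the
inertia at `x` to be trivial.  (Neither flatness nor finite presentation of `Y'` is used.) -/
theorem inertia_trivial_of_free_over {K : Type u} [Field K] [Algebra R K] (x : B →ₐ[R] K)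
    (Y' : Scheme.{u}) (c : Y' ⟶ Spec (CommRingCat.of (GLin.invariants R A B)))
    (hy : ∃ y' : Y', c.base y' =
      (Spec.map (CommRingCat.ofHom (x.toRingHom.comp (GLin.invariants R A B).val.toRingHom))).base
        (IsLocalRing.closedPoint K))
    (hfree : ∀ (T : Over (Spec (CommRingCat.of R))) (ζ : T ⟶ sp R B),
      (∃ t : T.left ⟶ Y', t ≫ c =
        ζ.left ≫ Spec.map (CommRingCat.ofHom (GLin.invariants R A B).val.toRingHom)) →
      ∀ g : T ⟶ sp R A, lift g ζ ≫ (action R A B).act = ζ → g = 1)
    (T : Over (Spec (CommRingCat.of R))) (h : T ⟶ sp R K) (g : T ⟶ sp R A)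
    (hg : lift g (h ≫ pt x) ≫ (action R A B).act = h ≫ pt x) : g = 1 := by
  refine fix_affinize x ?_ T h g hg
  intro Γ _ _ et gm hgm
  obtain ⟨y', hy'⟩ := hy
  obtain ⟨D, j, _, p, hp⟩ := Scheme.exists_Spec_apply_eq y'
  let φ : CommRingCat.of (GLin.invariants R A B) ⟶ D := Spec.preimage (j ≫ c)
  have hφ : Spec.map φ = j ≫ c := Spec.map_preimage _
  let f₁ : GLin.invariants R A B →+* K := x.toRingHom.comp (GLin.invariants R A B).val.toRingHom
  let f₂ : GLin.invariants R A B →+* p.asIdeal.ResidueField :=
    (algebraMap D p.asIdeal.ResidueField).comp φ.hom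
  have hker : RingHom.ker f₁ = RingHom.ker f₂ := by
    have e1 : ((Spec.map φ).base p).asIdeal = RingHom.ker f₂ := by
      change Ideal.comap φ.hom p.asIdeal = _
      rw [← RingHom.comap_ker, Ideal.ker_algebraMap_residueField]
    have e2 : ((Spec.map (CommRingCat.ofHom f₁)).base (IsLocalRing.closedPoint K)).asIdeal =
        RingHom.ker f₁ := by
      change Ideal.comap f₁ (IsLocalRing.maximalIdeal K) = _
      rw [IsLocalRing.maximalIdeal_eq_bot, RingHom.ker_eq_comap_bot]
    rw [← e1, ← e2, hφ, Scheme.Hom.comp_base, TopCat.comp_app, hp, hy']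
  obtain ⟨Ω, _, _, j₁, j₂, hj⟩ := exists_common_field f₁ f₂ hker
  obtain ⟨Γ', _, io, et', hio, het'⟩ := exists_pushout j₁ et.toRingHom
  letI : Algebra R Γ' := (io.comp (algebraMap R Γ)).toAlgebra
  let I : Γ →ₐ[R] Γ' := { io with commutes' := fun r => rfl }
  let ψ : D ⟶ CommRingCat.of Γ' :=
    CommRingCat.ofHom (et'.comp (j₂.comp (algebraMap D p.asIdeal.ResidueField)))
  have ht : ∃ t : (sp R Γ').left ⟶ Y', t ≫ c =
      (pt ((I.comp et).comp x)).left ≫
        Spec.map (CommRingCat.ofHom (GLin.invariants R A B).val.toRingHom) := by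
    refine ⟨Spec.map ψ ≫ j, ?_⟩
    change (Spec.map ψ ≫ j) ≫ c =
      Spec.map (CommRingCat.ofHom ((I.comp et).comp x).toRingHom) ≫
        Spec.map (CommRingCat.ofHom (GLin.invariants R A B).val.toRingHom)
    rw [Category.assoc, ← hφ, ← Spec.map_comp, ← Spec.map_comp]
    congr 1
    ext c'
    have h1 := RingHom.congr_fun hj c'
    have h2 := RingHom.congr_fun het' (f₁ c')
    simp only [RingHom.comp_apply] at h1 h2
    change et' (j₂ (f₂ c')) = io (et (f₁ c'))
    rw [← h1, h2]
    rfl
  have hfix : lift (pt (I.comp gm)) (pt ((I.comp et).comp x)) ≫ (action R A B).act =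
      pt ((I.comp et).comp x) := by
    rw [act_fix_iff, ra_pt_pt]
    congr 1
    change CoactTrans55.trans ((I.comp et).comp x) (I.comp gm) = _
    rw [AlgHom.comp_assoc, ← comp_trans, hgm]
  have h1 := hfree (sp R Γ') _ ht (pt (I.comp gm)) hfix
  rw [one_eq_pt] at h1
  have e6 := pt_injective h1
  ext a'
  apply hio
  exact AlgHom.congr_fun e6 a'

end Groth.Agent.Lib.CoactFree55
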