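import Groth.Agent.Lib.UnivPt38
import Groth.Prelude.Def_CoactBr

/-!
# Points of `Spec B`, `Spec A` with values in arbitrary `R`-schemes; formal right-action calculus (helper55)

Over a commutative ring `R` (the `Field` versions are helper38's `PeterWeyl38d`):
* `can T : T ⟶ sp R Γ(T)`, `evPt x : B →ₐ[R] Γ(T)`, `eq_can_pt : x = can T ≫ pt (evPt x)`,
  `evPt_can_pt`.
* `ra ζ k = lift ζ k ≫ ract R A B` (the point `ζ` of `X` moved by the point `k` of `G`), with
  `ra_one`, `ra_ra`, `comp_ra`, `ra_cancel`, `act_eq`, `conj_fix_iff`.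
* `fix_affinize`: a statement "every point of `G` fixing `ζ ∘ h` is `1`" may be tested on affine `T`.
-/

set_option autoImplicit false
universe u
open CategoryTheory CategoryTheory.Limits AlgebraicGeometry Opposite MonoidalCategory
  CartesianMonoidalCategory MonObj
open TensorProduct

noncomputable section

namespace Groth.Agent.Lib.CoactPts55
open Groth.Agent.Lib.UnivPt38

section Pts
variable {k : Type u} [CommRing k] (T : Over (Spec (CommRingCat.of k)))

/-- The `k`-algebra structure on the global functions of a `k`-scheme. -/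
@[reducible] def algΓ : Algebra k Γ(T.left, ⊤) := (algK T).toAlgebra

attribute [local instance] algΓ

/-- The canonical morphism to the affinization, over `Spec k`. -/
def can : T ⟶ CoactBr.sp k Γ(T.left, ⊤) :=
  homOf (B := Γ(T.left, ⊤)) T (RingHom.id _) (fun _ => rfl)

theorem can_appTop (b : Γ(T.left, ⊤)) :
    (can T).left.appTop ((Scheme.ΓSpecIso (CommRingCat.of Γ(T.left, ⊤))).inv b) = b :=
  homOf_appTop (B := Γ(T.left, ⊤)) T (RingHom.id _) (fun _ => rfl) b

variable {T} {A : Type u} [CommRing A] [Algebra k A]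

/-- The algebra map `A → Γ(T)` of a `T`-valued point of `Spec A`. -/
def evPt (x : T ⟶ CoactBr.sp k A) : A →ₐ[k] Γ(T.left, ⊤) where
  toRingHom := ((Scheme.ΓSpecIso (CommRingCat.of A)).inv ≫ x.left.appTop).hom
  commutes' := by
    intro a
    change x.left.appTop ((Scheme.ΓSpecIso (CommRingCat.of A)).inv (algebraMap k A a)) = algK T a
    have h := algK_comp x a
    rw [← h]
    congr 1
    exact (algK_specOver (k := k) (B := A) a).symm

theorem evPt_apply (x : T ⟶ CoactBr.sp k A) (a : A) :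
    evPt x a = x.left.appTop ((Scheme.ΓSpecIso (CommRingCat.of A)).inv a) := rfl

theorem appTop_comp_specMap {X : Scheme.{u}} {K A : CommRingCat.{u}} (f : X ⟶ Spec K) (φ : A ⟶ K)
    (a : A) :
    (f ≫ Spec.map φ).appTop ((Scheme.ΓSpecIso A).inv a) =
      f.appTop ((Scheme.ΓSpecIso K).inv (φ a)) := by
  rw [GmPts.appTop_comp_apply, specMap_appTop_ΓSpecIso_inv]

theorem appTop_can_pt (φ : A →ₐ[k] Γ(T.left, ⊤)) (a : A) :
    (can T ≫ CoactBr.pt φ).left.appTop ((Scheme.ΓSpecIso (CommRingCat.of A)).inv a) = φ a :=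
  (appTop_comp_specMap (X := T.left) (K := CommRingCat.of Γ(T.left, ⊤)) (A := CommRingCat.of A)
    (can T).left (CommRingCat.ofHom φ.toRingHom) a).trans (can_appTop T (φ a))

theorem evPt_can_pt (φ : A →ₐ[k] Γ(T.left, ⊤)) : evPt (can T ≫ CoactBr.pt φ) = φ :=
  AlgHom.ext fun a => appTop_can_pt φ a

theorem eq_toSpecΓ_comp {X : Scheme.{u}} {R : CommRingCat.{u}} (y : X ⟶ Spec R) :
    y = X.toSpecΓ ≫ Spec.map ((Scheme.ΓSpecIso R).inv ≫ y.appTop) := by
  rw [Spec.map_comp, ← Category.assoc, ← Scheme.toSpecΓ_naturality, Category.assoc,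
    toSpecΓ_SpecMap_ΓSpecIso_inv, Category.comp_id]

/-- Every point factors through the affinization. -/
theorem eq_can_pt (x : T ⟶ CoactBr.sp k A) : x = can T ≫ CoactBr.pt (evPt x) := by
  apply Over.OverMorphism.ext
  have h1 := eq_toSpecΓ_comp (X := T.left) (R := CommRingCat.of A) x.left
  refine h1.trans ?_
  change _ = (T.left.toSpecΓ ≫ Spec.map (CommRingCat.ofHom (RingHom.id _))) ≫
    Spec.map (CommRingCat.ofHom (evPt x).toRingHom)
  rw [Category.assoc, ← Spec.map_comp]
  rfl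

/-- Two algebra maps `A → Γ(T)` giving the same `T`-point are equal. -/
theorem can_pt_injective {φ ψ : A →ₐ[k] Γ(T.left, ⊤)}
    (h : can T ≫ CoactBr.pt φ = can T ≫ CoactBr.pt ψ) : φ = ψ := by
  rw [← evPt_can_pt φ, ← evPt_can_pt ψ, h]

end Pts

section Ra

open CoactBr

variable {R A B : Type u} [CommRing R] [CommRing A] [CommRing B] [HopfAlgebra R A] [Algebra R B]
  [HopfRep.Comod R A B] [GLin.IsCoactAlg R A B]
  {T T' : Over (Spec (CommRingCat.of R))}

/-- The point `ζ` of `X = Spec B` moved (on the right) by the point `k` of `G = Spec A`. -/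
def ra (ζ : T ⟶ sp R B) (k : T ⟶ sp R A) : T ⟶ sp R B := lift ζ k ≫ ract R A B

theorem ra_one (ζ : T ⟶ sp R B) : ra ζ (1 : T ⟶ sp R A) = ζ := lift_one_ract ζ

theorem ra_ra (ζ : T ⟶ sp R B) (k l : T ⟶ sp R A) : ra (ra ζ k) l = ra ζ (k * l) :=
  lift_ract_ract ζ k l

theorem act_eq (k : T ⟶ sp R A) (ζ : T ⟶ sp R B) :
    lift k ζ ≫ (action R A B).act = ra ζ k⁻¹ := lift_action_act k ζ

theorem comp_ra (f : T' ⟶ T) (ζ : T ⟶ sp R B) (k : T ⟶ sp R A) :
    f ≫ ra ζ k = ra (f ≫ ζ) (f ≫ k) := by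
  rw [ra, ra, ← Category.assoc, comp_lift]

theorem ra_cancel {ζ ζ' : T ⟶ sp R B} (k : T ⟶ sp R A) (h : ra ζ k = ra ζ' k) : ζ = ζ' := by
  have h2 := congrArg (fun z => ra z k⁻¹) h
  simp only [ra_ra, mul_inv_cancel, ra_one] at h2
  exact h2

theorem ra_pt_pt {K : Type u} [CommRing K] [Algebra R K] (x : B →ₐ[R] K) (g : A →ₐ[R] K) :
    ra (pt x) (pt g) =
      pt ((Algebra.TensorProduct.lift x g fun _ _ => .all _ _).comp (GLin.coactAlgHom R A B)) :=
  lift_pt_ract x g

/-- `k` fixes `ζ` iff the conjugate `c⁻¹ k c` fixes `ζ · c` (left action form, as in the statements). -/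
theorem conj_fix_iff (ζ : T ⟶ sp R B) (k c : T ⟶ sp R A) :
    lift k ζ ≫ (action R A B).act = ζ ↔
      lift (c⁻¹ * k * c) (ra ζ c) ≫ (action R A B).act = ra ζ c := by
  rw [act_eq, act_eq, ra_ra]
  have e : c * (c⁻¹ * k * c)⁻¹ = k⁻¹ * c := by group
  rw [e, ← ra_ra]
  constructor
  · intro h
    rw [h]
  · intro h
    exact ra_cancel c h

/-- A point fixes `ζ` for the left action iff it does for the right action. -/
theorem act_fix_iff (ζ : T ⟶ sp R B) (k : T ⟶ sp R A) :
    lift k ζ ≫ (action R A B).act = ζ ↔ ra ζ k = ζ := by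
  rw [act_eq]
  constructor
  · intro h
    have h2 := congrArg (fun z => ra z k) h
    simp only [ra_ra, inv_mul_cancel, ra_one] at h2
    exact h2.symm
  · intro h
    have h2 := congrArg (fun z => ra z k⁻¹) h
    simp only [ra_ra, mul_inv_cancel, ra_one] at h2
    exact h2.symm

end Ra

end Groth.Agent.Lib.CoactPts55
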