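import Groth.Agent.Lib.CoactTrans55
import Groth.Agent.Lib.CoactPts55

/-!
# Inertia group schemes at geometric points of one fibre of the quotient are conjugate (helper55)

`conj_inertia`: for `A` finite projective, two `K`-points (`K` algebraically closed) of `Spec B`
agreeing on `B^A`, there is a `K`-point `g` of `G` conjugating the inertia at `x₂` onto that at `x₁`.
-/

set_option autoImplicit false
universe u
open CategoryTheory CategoryTheory.Limits AlgebraicGeometry Opposite MonoidalCategory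
  CartesianMonoidalCategory MonObj
open TensorProduct CoactBr

noncomputable section

namespace Groth.Agent.Lib.CoactInertia55
open Groth.Agent.Lib.CoactPts55 Groth.Agent.Lib.CoactTrans55 Groth.Agent.Lib.NormProj55

variable {R A B : Type u} [CommRing R] [CommRing A] [CommRing B] [HopfAlgebra R A] [Algebra R B]
  [HopfRep.Comod R A B] [GLin.IsCoactAlg R A B]

/-- If `x₂ = x₁ · g₀`, then `g₀` conjugates the inertia at `x₂` onto the inertia at `x₁`. -/
theorem conj_of_translate {K : Type u} [CommRing K] [Algebra R K] (x₁ x₂ : B →ₐ[R] K)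
    (g₀ : A →ₐ[R] K) (h₂ : x₂ = trans x₁ g₀)
    (T : Over (Spec (CommRingCat.of R))) (h : T ⟶ sp R K) (k : T ⟶ sp R A) :
    lift k (h ≫ pt x₁) ≫ (action R A B).act = h ≫ pt x₁ ↔
      lift ((h ≫ pt g₀)⁻¹ * k * (h ≫ pt g₀)) (h ≫ pt x₂) ≫ (action R A B).act = h ≫ pt x₂ := by
  have e : h ≫ pt x₂ = ra (h ≫ pt x₁) (h ≫ pt g₀) := by
    rw [← comp_ra, ra_pt_pt, h₂]
    rfl
  rw [e]
  exact conj_fix_iff _ _ _

theorem conj_inertia [Module.Finite R A] [Module.Projective R A]
    {K : Type u} [Field K] [IsAlgClosed K] [Algebra R K] (x₁ x₂ : B →ₐ[R] K)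
    (hx : ∀ c ∈ GLin.invariants R A B, x₁ c = x₂ c) :
    ∃ g : sp R K ⟶ sp R A,
      ∀ (T : Over (Spec (CommRingCat.of R))) (h : T ⟶ sp R K) (k : T ⟶ sp R A),
        lift k (h ≫ pt x₁) ≫ (action R A B).act = h ≫ pt x₁ ↔
          lift ((h ≫ g)⁻¹ * k * (h ≫ g)) (h ≫ pt x₂) ≫ (action R A B).act = h ≫ pt x₂ := by
  obtain ⟨N, a, g, hag⟩ := exists_coords R A
  obtain ⟨g₀, hg₀⟩ := exists_translate a g hag x₁ x₂ hx
  exact ⟨pt g₀, fun T h k => conj_of_translate x₁ x₂ g₀ hg₀ T h k⟩

/-- Two `R`-algebra maps agree on the invariants when these are `R`. -/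
theorem agree_of_surjective (hC : Function.Surjective (algebraMap R (GLin.invariants R A B)))
    {K : Type u} [CommRing K] [Algebra R K] (x₁ x₂ : B →ₐ[R] K) :
    ∀ c ∈ GLin.invariants R A B, x₁ c = x₂ c := by
  intro c hc
  obtain ⟨r, hr⟩ := hC ⟨c, hc⟩
  have hr' : algebraMap R B r = c := congrArg Subtype.val hr
  rw [← hr', AlgHom.commutes, AlgHom.commutes]

end Groth.Agent.Lib.CoactInertia55
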