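import Mathlib

/-!
# A common algebraically closed overfield, and pushing a ring out along a field extension (helper55)

* `exists_common_field`: two ring maps `f₁ : C → K₁`, `f₂ : C → K₂` into fields with the same kernel
  admit an algebraically closed field `Ω` with `j₁ : K₁ → Ω`, `j₂ : K₂ → Ω`, `j₁ ∘ f₁ = j₂ ∘ f₂`.
* `exists_pushout`: for `j : K → Ω` a map of fields and `η : K → Γ` a ring map there are
  `ι : Γ → Γ'` injective and `η' : Ω → Γ'` with `η' ∘ j = ι ∘ η`.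
Mathlib only.
-/

set_option autoImplicit false
universe u

open TensorProduct

namespace Groth.Agent.Lib.CommonField55

theorem exists_common_field {C K₁ K₂ : Type u} [CommRing C] [Field K₁] [Field K₂]
    (f₁ : C →+* K₁) (f₂ : C →+* K₂) (h : RingHom.ker f₁ = RingHom.ker f₂) :
    ∃ (Ω : Type u) (_ : Field Ω) (_ : IsAlgClosed Ω) (j₁ : K₁ →+* Ω) (j₂ : K₂ →+* Ω),
      j₁.comp f₁ = j₂.comp f₂ := by
  let q : Ideal C := RingHom.ker f₁
  have h1 : ∀ a ∈ q, f₁ a = 0 := fun a ha => ha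
  have h2 : ∀ a ∈ q, f₂ a = 0 := fun a ha => by
    have : a ∈ RingHom.ker f₂ := h ▸ ha
    exact this
  letI : Algebra (C ⧸ q) K₁ := (Ideal.Quotient.lift q f₁ h1).toAlgebra
  letI : Algebra (C ⧸ q) K₂ := (Ideal.Quotient.lift q f₂ h2).toAlgebra
  have i1 : Function.Injective (algebraMap (C ⧸ q) K₁) :=
    RingHom.lift_injective_of_ker_le_ideal q h1 le_rfl
  have i2 : Function.Injective (algebraMap (C ⧸ q) K₂) :=
    RingHom.lift_injective_of_ker_le_ideal q h2 (le_of_eq h.symm)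
  haveI : Nontrivial (K₁ ⊗[C ⧸ q] K₂) :=
    Algebra.TensorProduct.nontrivial_of_algebraMap_injective_of_isDomain (C ⧸ q) K₁ K₂ i1 i2
  obtain ⟨M, hM⟩ := Ideal.exists_maximal (K₁ ⊗[C ⧸ q] K₂)
  letI : Field ((K₁ ⊗[C ⧸ q] K₂) ⧸ M) := Ideal.Quotient.field M
  refine ⟨AlgebraicClosure ((K₁ ⊗[C ⧸ q] K₂) ⧸ M), inferInstance, inferInstance,
    (algebraMap _ _).comp ((Ideal.Quotient.mk M).comp
      (Algebra.TensorProduct.includeLeft : K₁ →ₐ[C ⧸ q] K₁ ⊗[C ⧸ q] K₂).toRingHom),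
    (algebraMap _ _).comp ((Ideal.Quotient.mk M).comp
      (Algebra.TensorProduct.includeRight : K₂ →ₐ[C ⧸ q] K₁ ⊗[C ⧸ q] K₂).toRingHom), ?_⟩
  ext c
  simp only [RingHom.comp_apply, AlgHom.toRingHom_eq_coe, RingHom.coe_coe,
    Algebra.TensorProduct.includeLeft_apply, Algebra.TensorProduct.includeRight_apply]
  congr 2
  have e1 : f₁ c = algebraMap (C ⧸ q) K₁ (Ideal.Quotient.mk q c) := rfl
  have e2 : f₂ c = algebraMap (C ⧸ q) K₂ (Ideal.Quotient.mk q c) := rfl
  rw [e1, e2, Algebra.algebraMap_eq_smul_one, Algebra.algebraMap_eq_smul_one,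
    TensorProduct.smul_tmul]

theorem exists_pushout {K Ω Γ : Type u} [Field K] [Field Ω] [CommRing Γ] (j : K →+* Ω)
    (η : K →+* Γ) :
    ∃ (Γ' : Type u) (_ : CommRing Γ') (ι : Γ →+* Γ') (η' : Ω →+* Γ'),
      Function.Injective ι ∧ η'.comp j = ι.comp η := by
  letI : Algebra K Ω := j.toAlgebra
  letI : Algebra K Γ := η.toAlgebra
  refine ⟨Ω ⊗[K] Γ, inferInstance,
    (Algebra.TensorProduct.includeRight : Γ →ₐ[K] Ω ⊗[K] Γ).toRingHom,
    (Algebra.TensorProduct.includeLeft : Ω →ₐ[K] Ω ⊗[K] Γ).toRingHom, ?_, ?_⟩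
  · exact Algebra.TensorProduct.includeRight_injective (algebraMap K Ω).injective
  · ext κ
    simp only [RingHom.comp_apply, AlgHom.toRingHom_eq_coe, RingHom.coe_coe,
      Algebra.TensorProduct.includeLeft_apply, Algebra.TensorProduct.includeRight_apply]
    have e1 : j κ = algebraMap K Ω κ := rfl
    have e2 : η κ = algebraMap K Γ κ := rfl
    rw [e1, e2, Algebra.algebraMap_eq_smul_one, Algebra.algebraMap_eq_smul_one,
      TensorProduct.smul_tmul]

end Groth.Agent.Lib.CommonField55
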