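import Groth.Agent.Lib.CoactInertia55
import Groth.Agent.Lib.CommonField55

/-!
# Triviality of inertia is constant along a fibre of the quotient (helper55)

* `fix_affinize`: triviality of the inertia at `x : B → K` may be tested on affine test schemes,
  i.e. on `R`-algebras `Γ` with `et : K → Γ`, `gm : A → Γ`.
* `fix_affine_of`: conversely.
* `inertia_trivial_transfer`: for `A` finite projective and two field-valued points `x₁`, `x₂` whose
  restrictions to `B^A` have the same kernel, trivial inertia at `x₁` implies trivial inertia at `x₂`.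
-/

set_option autoImplicit false
universe u
open CategoryTheory CategoryTheory.Limits AlgebraicGeometry Opposite MonoidalCategory
  CartesianMonoidalCategory MonObj
open TensorProduct CoactBr

noncomputable section

namespace Groth.Agent.Lib.CoactInertia55
open Groth.Agent.Lib.CoactPts55 Groth.Agent.Lib.CoactTrans55 Groth.Agent.Lib.NormProj55
open Groth.Agent.Lib.CommonField55

variable {R A B : Type u} [CommRing R] [CommRing A] [CommRing B] [HopfAlgebra R A] [Algebra R B]
  [HopfRep.Comod R A B] [GLin.IsCoactAlg R A B]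

theorem comp_trans {K K' : Type u} [CommRing K] [Algebra R K] [CommRing K'] [Algebra R K']
    (φ : K →ₐ[R] K') (x : B →ₐ[R] K) (g : A →ₐ[R] K) :
    φ.comp (CoactTrans55.trans x g) = CoactTrans55.trans (φ.comp x) (φ.comp g) := by
  ext b
  simp only [CoactTrans55.trans, AlgHom.comp_apply]
  generalize GLin.coactAlgHom R A B b = y
  induction y using TensorProduct.induction_on with
  | zero => simp
  | add x y hx hy => simp only [map_add, hx, hy]
  | tmul b a => simp

/-- The unit point with values in `Γ`. -/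
abbrev unitPt (R A : Type u) [CommRing R] [CommRing A] [HopfAlgebra R A]
    (Γ : Type u) [CommRing Γ] [Algebra R Γ] : A →ₐ[R] Γ :=
  (Algebra.ofId R Γ).comp (Bialgebra.counitAlgHom R A)

/-- Reduction to affine test schemes. -/
theorem fix_affinize {K : Type u} [CommRing K] [Algebra R K] (x : B →ₐ[R] K)
    (haff : ∀ (Γ : Type u) [CommRing Γ] [Algebra R Γ] (et : K →ₐ[R] Γ) (gm : A →ₐ[R] Γ),
      CoactTrans55.trans (et.comp x) gm = et.comp x → gm = unitPt R A Γ)
    (T : Over (Spec (CommRingCat.of R))) (h : T ⟶ sp R K) (g : T ⟶ sp R A)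
    (hg : lift g (h ≫ pt x) ≫ (action R A B).act = h ≫ pt x) : g = 1 := by
  rw [act_fix_iff] at hg
  letI := algΓ T
  have hh := eq_can_pt h
  have hg' := eq_can_pt g
  have h1 : ra (h ≫ pt x) g = can T ≫ pt (CoactTrans55.trans ((evPt h).comp x) (evPt g)) := by
    conv_lhs => rw [hh, hg', Category.assoc, ← pt_comp, ← comp_ra, ra_pt_pt]
    rfl
  have h2 : h ≫ pt x = can T ≫ pt ((evPt h).comp x) := by
    conv_lhs => rw [hh, Category.assoc, ← pt_comp]
  rw [h1, h2] at hg
  have h3 := haff _ (evPt h) (evPt g) (can_pt_injective hg)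
  rw [hg', h3, unitPt, ← one_eq_pt, MonObj.comp_one]

/-- The converse: the scheme-theoretic condition gives the condition on affine test schemes. -/
theorem fix_affine_of {K : Type u} [CommRing K] [Algebra R K] (x : B →ₐ[R] K)
    (h₁ : ∀ (T : Over (Spec (CommRingCat.of R))) (h : T ⟶ sp R K) (g : T ⟶ sp R A),
      lift g (h ≫ pt x) ≫ (action R A B).act = h ≫ pt x → g = 1)
    (Γ : Type u) [CommRing Γ] [Algebra R Γ] (et : K →ₐ[R] Γ) (gm : A →ₐ[R] Γ)
    (hgm : CoactTrans55.trans (et.comp x) gm = et.comp x) : gm = unitPt R A Γ := by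
  have h2 := h₁ (sp R Γ) (pt et) (pt gm) (by
    rw [act_fix_iff, ← pt_comp, ra_pt_pt]
    exact congrArg pt hgm)
  rw [one_eq_pt] at h2
  exact pt_injective h2

/-- Trivial inertia at one field-valued point of a fibre of `Spec B → Spec B^A` implies trivial
inertia at every field-valued point of that fibre (`A` finite projective). -/
theorem inertia_trivial_transfer [Module.Finite R A] [Module.Projective R A]
    {K₁ K₂ : Type u} [Field K₁] [Algebra R K₁] [Field K₂] [Algebra R K₂]
    (x₁ : B →ₐ[R] K₁) (x₂ : B →ₐ[R] K₂)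
    (hq : RingHom.ker (x₁.toRingHom.comp (GLin.invariants R A B).val.toRingHom) =
      RingHom.ker (x₂.toRingHom.comp (GLin.invariants R A B).val.toRingHom))
    (h₁ : ∀ (T : Over (Spec (CommRingCat.of R))) (h : T ⟶ sp R K₁) (g : T ⟶ sp R A),
      lift g (h ≫ pt x₁) ≫ (action R A B).act = h ≫ pt x₁ → g = 1)
    (T : Over (Spec (CommRingCat.of R))) (h : T ⟶ sp R K₂) (g : T ⟶ sp R A)
    (hg : lift g (h ≫ pt x₂) ≫ (action R A B).act = h ≫ pt x₂) : g = 1 := by
  refine fix_affinize x₂ ?_ T h g hg
  intro Γ _ _ et gm hgm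
  -- a common algebraically closed field
  obtain ⟨Ω, _, _, j₁, j₂, hj⟩ := exists_common_field _ _ hq
  have hj' : ∀ c ∈ GLin.invariants R A B, j₁ (x₁ c) = j₂ (x₂ c) := fun c hc =>
    RingHom.congr_fun hj ⟨c, hc⟩
  letI : Algebra R Ω := (j₁.comp (algebraMap R K₁)).toAlgebra
  let J₁ : K₁ →ₐ[R] Ω := { j₁ with commutes' := fun r => rfl }
  have hJ₂ : ∀ r : R, j₂ (algebraMap R K₂ r) = algebraMap R Ω r := by
    intro r
    have := hj' (algebraMap R B r) (Subalgebra.algebraMap_mem _ r)
    rw [AlgHom.commutes, AlgHom.commutes] at this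
    exact this.symm
  let J₂ : K₂ →ₐ[R] Ω := { j₂ with commutes' := hJ₂ }
  -- push `Γ` out along `K₂ → Ω`
  obtain ⟨Γ', _, io, et', hio, het'⟩ := exists_pushout j₂ et.toRingHom
  letI : Algebra R Γ' := (io.comp (algebraMap R Γ)).toAlgebra
  let I : Γ →ₐ[R] Γ' := { io with commutes' := fun r => rfl }
  have hH' : ∀ r : R, et' (algebraMap R Ω r) = algebraMap R Γ' r := by
    intro r
    rw [← hJ₂ r]
    have := RingHom.congr_fun het' (algebraMap R K₂ r)
    simp only [RingHom.comp_apply] at this
    rw [this]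
    change io (et (algebraMap R K₂ r)) = io (algebraMap R Γ r)
    rw [AlgHom.commutes]
  let H' : Ω →ₐ[R] Γ' := { et' with commutes' := hH' }
  have hHJ : H'.comp J₂ = I.comp et := AlgHom.ext fun κ => RingHom.congr_fun het' κ
  -- transitivity over `Ω`
  obtain ⟨N, a, g, hag⟩ := exists_coords R A
  obtain ⟨g₀, hg₀⟩ := exists_translate a g hag (J₁.comp x₁) (J₂.comp x₂) (fun c hc => hj' c hc)
  -- the three points with values in `Γ'`
  set k : sp R Γ' ⟶ sp R A := pt (I.comp gm) with hk
  set c : sp R Γ' ⟶ sp R A := pt (H'.comp g₀) with hc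
  set ζ : sp R Γ' ⟶ sp R B := pt (H'.comp J₁) ≫ pt x₁ with hζ
  have e1 : ra ζ c = pt (I.comp (et.comp x₂)) := by
    rw [hζ, hc, ← pt_comp, ra_pt_pt]
    congr 1
    change CoactTrans55.trans (H'.comp (J₁.comp x₁)) (H'.comp g₀) = _
    rw [← comp_trans, ← hg₀, ← AlgHom.comp_assoc, hHJ, AlgHom.comp_assoc]
  have e2 : ra (ra ζ c) k = ra ζ c := by
    rw [e1, hk, ra_pt_pt]
    congr 1
    change CoactTrans55.trans (I.comp (et.comp x₂)) (I.comp gm) = _
    rw [← comp_trans, hgm]
  have e3 : ra ζ (c * k * c⁻¹) = ζ := by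
    have := congrArg (fun z => ra z c⁻¹) e2
    simp only [ra_ra, mul_inv_cancel, ra_one] at this
    exact this
  have e4 : c * k * c⁻¹ = 1 := h₁ (sp R Γ') (pt (H'.comp J₁)) _ ((act_fix_iff _ _).2 e3)
  have e5 : k = 1 := by
    have h5 : c * k = c := mul_inv_eq_one.1 e4
    exact mul_eq_left.1 h5
  rw [hk, one_eq_pt] at e5
  have e6 := pt_injective e5
  ext a'
  apply hio
  have := AlgHom.congr_fun e6 a'
  exact this

end Groth.Agent.Lib.CoactInertia55
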