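import Groth.Agent.Lib.FinInv55a
import Groth.Prelude.Def_GLin

/-!
# Invariants of a finite group scheme action: integrality (helper55)

`k` a commutative ring, `A` a commutative Hopf algebra over `k` which is finite free as a `k`-module
with basis `b`, `R` a commutative `k`-algebra with a coaction `ρ : R → R ⊗ A` which is an algebra
map.  For `r : R` the characteristic polynomial `P` of multiplication by `ρ r` on the free
`R`-module `R ⊗ A` has coefficients in the invariants `R^A` (`charpolyCoact_coeff_mem`) and kills
`r` (`aeval_charpolyCoact`), so `R` is integral over `R^A` (`isIntegral_invariants`).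
-/

set_option autoImplicit false
universe u v w w' w''

open TensorProduct Polynomial

namespace Groth.Agent.Lib.FinInv55

section BaseChange

variable {k : Type u} [CommRing k] {A : Type v} [CommRing A] [Algebra k A]
  {ι : Type w'} [Fintype ι] [DecidableEq ι] (b : Module.Basis ι k A)

/-- The basis `1 ⊗ b i` of `R ⊗ A` over `R`. -/
noncomputable abbrev bR (R : Type w) [CommRing R] [Algebra k R] : Module.Basis ι R (R ⊗[k] A) :=
  Algebra.TensorProduct.basis R b

theorem repr_map {R : Type w} [CommRing R] [Algebra k R] {R' : Type w''} [CommRing R'] [Algebra k R']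
    (φ : R →ₐ[k] R') (z : R ⊗[k] A) (i : ι) :
    (bR b R').repr (Algebra.TensorProduct.map φ (AlgHom.id k A) z) i = φ ((bR b R).repr z i) := by
  induction z using TensorProduct.induction_on with
  | zero => simp
  | add x y hx hy => simp only [map_add, Finsupp.add_apply, hx, hy]
  | tmul r a =>
    rw [Algebra.TensorProduct.map_tmul, Algebra.TensorProduct.basis_repr_tmul,
      Algebra.TensorProduct.basis_repr_tmul]
    simp

/-- The matrix of left multiplication commutes with base change. -/
theorem leftMulMatrix_map {R : Type w} [CommRing R] [Algebra k R] {R' : Type w''} [CommRing R']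
    [Algebra k R'] (φ : R →ₐ[k] R') (y : R ⊗[k] A) :
    Algebra.leftMulMatrix (bR b R') (Algebra.TensorProduct.map φ (AlgHom.id k A) y) =
      (Algebra.leftMulMatrix (bR b R) y).map φ := by
  ext i j
  have hb : Algebra.TensorProduct.map φ (AlgHom.id k A) (bR b R j) = bR b R' j := by
    rw [Algebra.TensorProduct.basis_apply, Algebra.TensorProduct.basis_apply,
      Algebra.TensorProduct.map_tmul, map_one, AlgHom.id_apply]
  rw [Matrix.map_apply, Algebra.leftMulMatrix_eq_repr_mul, Algebra.leftMulMatrix_eq_repr_mul,
    ← repr_map b φ, map_mul (Algebra.TensorProduct.map φ (AlgHom.id k A)), hb]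

/-- The characteristic polynomial of multiplication by `y` on `R ⊗ A`. -/
noncomputable def cp {R : Type w} [CommRing R] [Algebra k R] (y : R ⊗[k] A) : R[X] :=
  (Algebra.leftMulMatrix (bR b R) y).charpoly

theorem cp_map {R : Type w} [CommRing R] [Algebra k R] {R' : Type w''} [CommRing R']
    [Algebra k R'] (φ : R →ₐ[k] R') (y : R ⊗[k] A) :
    cp b (Algebra.TensorProduct.map φ (AlgHom.id k A) y) = (cp b y).map (φ : R →+* R') := by
  rw [cp, cp, leftMulMatrix_map]
  exact Matrix.charpoly_map _ (φ : R →+* R')

/-- The characteristic polynomial is invariant under algebra automorphisms. -/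
theorem cp_algEquiv {R : Type w} [CommRing R] [Algebra k R] (e : R ⊗[k] A ≃ₐ[R] R ⊗[k] A)
    (y : R ⊗[k] A) : cp b (e y) = cp b y := by
  haveI : Module.Free R (R ⊗[k] A) := Module.Free.of_basis (bR b R)
  haveI : Module.Finite R (R ⊗[k] A) := Module.Finite.of_basis (bR b R)
  rw [cp, cp, Algebra.leftMulMatrix_apply, Algebra.leftMulMatrix_apply,
    LinearMap.charpoly_toMatrix, LinearMap.charpoly_toMatrix]
  have h : Algebra.lmul R (R ⊗[k] A) (e y) = e.toLinearEquiv.conj (Algebra.lmul R (R ⊗[k] A) y) := by
    ext t
    simp [LinearEquiv.conj_apply]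
  rw [h, LinearEquiv.charpoly_conj]

theorem cp_monic {R : Type w} [CommRing R] [Algebra k R] (y : R ⊗[k] A) : (cp b y).Monic :=
  Matrix.charpoly_monic _

/-- Cayley–Hamilton. -/
theorem aeval_cp {R : Type w} [CommRing R] [Algebra k R] (y : R ⊗[k] A) :
    aeval y (cp b y) = 0 := by
  apply Algebra.leftMulMatrix_injective (bR b R)
  rw [← Polynomial.aeval_algHom_apply, map_zero]
  exact Matrix.aeval_self_charpoly _

end BaseChange

section Coaction

variable {k : Type u} [CommRing k] {A : Type v} [CommRing A] [HopfAlgebra k A]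
  {ι : Type w'} [Fintype ι] [DecidableEq ι] (b : Module.Basis ι k A)
  {R : Type w} [CommRing R] [Algebra k R] [HopfRep.Comod k A R] [GLin.IsCoactAlg k A R]

/-- `(id ⊗ ε) : R ⊗ A → R` as an `R`-algebra map. -/
noncomputable def epsR : R ⊗[k] A →ₐ[R] R :=
  Algebra.TensorProduct.lift (AlgHom.id R R)
    ((Algebra.ofId k R).comp (Bialgebra.counitAlgHom k A)) (fun _ _ => Commute.all _ _)

theorem epsR_eq (z : R ⊗[k] A) :
    epsR z = TensorProduct.rid k R ((CoalgebraStruct.counit (R := k) (A := A)).lTensor R z) := by
  induction z using TensorProduct.induction_on with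
  | zero => simp
  | add x y hx hy => simp only [map_add, hx, hy]
  | tmul r a => simp [epsR, Algebra.ofId_apply, Algebra.smul_def, mul_comm]

theorem epsR_coact (r : R) : epsR (GLin.coactAlgHom k A R r) = r := by
  rw [epsR_eq, GLin.coactAlgHom_apply]
  have h := LinearMap.congr_fun (HopfRep.Comod.counit_comp (k := k) (A := A) (V := R)) r
  simp only [LinearMap.coe_comp, Function.comp_apply, LinearMap.flip_apply,
    TensorProduct.mk_apply] at h
  rw [h]
  simp

omit [Fintype ι] [DecidableEq ι] in
theorem lift_shear (r' : R) (t : A ⊗[k] A) :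
    ((r' ⊗ₜ[k] (1 : A)) ⊗ₜ[k] (1 : A) : (R ⊗[k] A) ⊗[k] A) *
      Algebra.TensorProduct.lift ((incL k A (R ⊗[k] A)).comp (incR k A R)) (incR k A (R ⊗[k] A))
        (fun _ _ => Commute.all _ _) t =
    (TensorProduct.assoc k R A A).symm (r' ⊗ₜ[k] t) := by
  induction t using TensorProduct.induction_on with
  | zero => simp
  | add x y hx hy => simp only [map_add, mul_add, TensorProduct.tmul_add, hx, hy]
  | tmul a a' =>
    simp [Algebra.TensorProduct.tmul_mul_tmul]

/-- Translating `(ι ⊗ id)(z)` by the universal point is `(id ⊗ Δ)(z)`. -/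
theorem Theta_map_incL (z : R ⊗[k] A) :
    Theta (incR k A R) (Algebra.TensorProduct.map (incL k A R) (AlgHom.id k A) z) =
      (TensorProduct.assoc k R A A).symm
        ((CoalgebraStruct.comul (R := k) (A := A)).lTensor R z) := by
  induction z using TensorProduct.induction_on with
  | zero => simp
  | add x y hx hy => simp only [map_add, hx, hy]
  | tmul r' a =>
    rw [Algebra.TensorProduct.map_tmul, AlgHom.id_apply, incL_apply, Theta_tmul, shearHom,
      WithConv.ofConv_toConv, AlgHom.convMul_apply, LinearMap.lTensor_tmul]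
    exact lift_shear r' _

/-- The two base changes of `ρ r` are translates of each other. -/
theorem Theta_coact (r : R) :
    Theta (incR k A R) (Algebra.TensorProduct.map (incL k A R) (AlgHom.id k A)
      (GLin.coactAlgHom k A R r)) =
    Algebra.TensorProduct.map (GLin.coactAlgHom k A R) (AlgHom.id k A)
      (GLin.coactAlgHom k A R r) := by
  rw [Theta_map_incL, GLin.coactAlgHom_apply]
  have h := LinearMap.congr_fun (HopfRep.Comod.coassoc (k := k) (A := A) (V := R)) r
  simp only [LinearMap.coe_comp, Function.comp_apply, LinearEquiv.coe_coe] at h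
  rw [← h, LinearEquiv.symm_apply_apply]
  generalize HopfRep.Comod.coact (k := k) (A := A) r = z
  induction z using TensorProduct.induction_on with
  | zero => simp
  | add x y hx hy => simp only [map_add, hx, hy]
  | tmul r' a => simp

/-- The characteristic polynomial of multiplication by `ρ r`. -/
noncomputable def charpolyCoact (r : R) : R[X] := cp b (GLin.coactAlgHom k A R r)

theorem charpolyCoact_monic (r : R) : (charpolyCoact b r).Monic := cp_monic b _

theorem aeval_charpolyCoact (r : R) : aeval r (charpolyCoact b r) = 0 := by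
  have h := aeval_cp b (GLin.coactAlgHom k A R r)
  have h2 := congrArg (epsR (k := k) (A := A) (R := R)) h
  rw [← Polynomial.aeval_algHom_apply, epsR_coact, map_zero] at h2
  exact h2

theorem charpolyCoact_map (r : R) :
    (charpolyCoact b r).map ((GLin.coactAlgHom k A R : R →ₐ[k] R ⊗[k] A) : R →+* R ⊗[k] A) =
      (charpolyCoact b r).map ((incL k A R : R →ₐ[k] R ⊗[k] A) : R →+* R ⊗[k] A) := by
  rw [charpolyCoact, ← cp_map, ← cp_map, ← Theta_coact, ← thetaEquiv_apply, cp_algEquiv]

theorem charpolyCoact_coeff_mem (r : R) (n : ℕ) :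
    (charpolyCoact b r).coeff n ∈ GLin.invariants k A R := by
  rw [GLin.mem_invariants_iff]
  have h := congrArg (fun p => p.coeff n) (charpolyCoact_map b r)
  simp only [Polynomial.coeff_map] at h
  exact h

include b in
/-- `R` is integral over the invariants. -/
theorem isIntegral_invariants (r : R) : IsIntegral (GLin.invariants k A R) r := by
  rcases subsingleton_or_nontrivial R with hR | hR
  · exact ⟨1, Polynomial.monic_one, Subsingleton.elim _ _⟩
  have hl : charpolyCoact b r ∈ Polynomial.lifts (algebraMap (GLin.invariants k A R) R) := by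
    rw [Polynomial.lifts_iff_coeff_lifts]
    intro n
    exact ⟨⟨_, charpolyCoact_coeff_mem b r n⟩, rfl⟩
  obtain ⟨q, hq, -, hqm⟩ := Polynomial.lifts_and_degree_eq_and_monic hl (charpolyCoact_monic b r)
  refine ⟨q, hqm, ?_⟩
  rw [← Polynomial.eval_map, hq]
  exact aeval_charpolyCoact b r

end Coaction

end Groth.Agent.Lib.FinInv55
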