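import Groth.Agent.Lib.NormProj55
import Groth.Agent.Lib.FinInv55b

/-!
# Norms of a coaction of a finite projective Hopf algebra (helper55)

`A` a commutative Hopf algebra over `k` with a projective coordinate system `(a, g)` (i.e. finite
projective as a `k`-module), `B` a commutative comodule algebra.  `NmCoact a g f : B` is the norm of
`ρ f ∈ B ⊗ A` over `B`.  It is invariant (`NmCoact_mem_invariants`), a multiple of `f`
(`NmCoact_mem_span`) and commutes with comodule algebra maps (`NmCoact_map`).
-/

set_option autoImplicit false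
universe u v w w'

open TensorProduct

namespace Groth.Agent.Lib.CoactNorm55

open Groth.Agent.Lib.NormProj55 Groth.Agent.Lib.FinInv55

variable {k : Type u} [CommRing k] {A : Type v} [CommRing A] [HopfAlgebra k A]
  {N : ℕ} (a : Fin N → A) (g : Fin N → A →ₗ[k] k)
  {B : Type w} [CommRing B] [Algebra k B] [HopfRep.Comod k A B] [GLin.IsCoactAlg k A B]

/-- The norm of `ρ f`. -/
noncomputable def NmCoact (f : B) : B := Nm a g B (GLin.coactAlgHom k A B f)

variable (hag : ∀ x : A, ∑ i, g i x • a i = x)

include hag in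
theorem NmCoact_mem_span (f : B) : NmCoact a g f ∈ Ideal.span ({f} : Set B) := by
  have h := Nm_mem_span a g B hag (epsR (k := k) (A := A) (R := B)) (GLin.coactAlgHom k A B f)
  rwa [epsR_coact] at h

include hag in
theorem NmCoact_mem_invariants (f : B) : NmCoact a g f ∈ GLin.invariants k A B := by
  rw [GLin.mem_invariants_iff]
  have h1 : HopfRep.Comod.coact (k := k) (A := A) (NmCoact a g f) =
      Nm a g (B ⊗[k] A) (Algebra.TensorProduct.map (GLin.coactAlgHom k A B) (AlgHom.id k A)
        (GLin.coactAlgHom k A B f)) := by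
    rw [Nm_map]
    rfl
  have h2 : (NmCoact a g f) ⊗ₜ[k] (1 : A) =
      Nm a g (B ⊗[k] A) (Algebra.TensorProduct.map (incL k A B) (AlgHom.id k A)
        (GLin.coactAlgHom k A B f)) := by
    rw [Nm_map]
    rfl
  rw [h1, h2, ← Theta_coact, ← thetaEquiv_apply, Nm_algEquiv a g _ hag]

theorem NmCoact_map {B' : Type w'} [CommRing B'] [Algebra k B'] [HopfRep.Comod k A B']
    [GLin.IsCoactAlg k A B'] (φ : B →ₐ[k] B')
    (hφ : ∀ b, Algebra.TensorProduct.map φ (AlgHom.id k A) (GLin.coactAlgHom k A B b) =
      GLin.coactAlgHom k A B' (φ b)) (f : B) :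
    φ (NmCoact a g f) = NmCoact a g (φ f) := by
  rw [NmCoact, NmCoact, ← Nm_map, hφ]

end Groth.Agent.Lib.CoactNorm55
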