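import Mathlib

/-!
# General position and a unit criterion (helper55)

* `exists_general_position`: over an infinite field, finitely many surjective linear maps
  `T i : E → F` (`F` of dimension `n`) admit `y : Fin n → E` with every `T i ∘ y` linearly independent.
* `isUnit_of_forall_algHom_ne_zero`: in a finite-dimensional commutative algebra over an algebraically
  closed field an element not killed by any `k`-point is a unit.
Mathlib only.
-/

set_option autoImplicit false
universe u v w

namespace Groth.Agent.Lib.CoinvFree55

section GP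

variable {k : Type u} [Field k] [Infinite k] {E : Type v} [AddCommGroup E] [Module k E]
  {F : Type w} [AddCommGroup F] [Module k F] [FiniteDimensional k F]
  {ι : Type*} [Finite ι] (T : ι → E →ₗ[k] F) (hT : ∀ i, Function.Surjective (T i))

include hT in
theorem exists_general_position_aux (m : ℕ) (hm : m ≤ Module.finrank k F) :
    ∃ y : Fin m → E, ∀ i, LinearIndependent k (fun j => T i (y j)) := by
  induction m with
  | zero => exact ⟨Fin.elim0, fun i => linearIndependent_empty_type⟩
  | succ m ih =>
    obtain ⟨y, hy⟩ := ih (Nat.le_of_succ_le hm)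
    let p : ι → Subspace k E := fun i =>
      (Submodule.span k (Set.range fun j => T i (y j))).comap (T i)
    have hne : ⋃ i, (p i : Set E) ≠ Set.univ := by
      intro hcov
      obtain ⟨i, hi⟩ := Subspace.exists_eq_top_of_iUnion_eq_univ hcov
      have hspan : Submodule.span k (Set.range fun j => T i (y j)) = ⊤ := by
        rw [eq_top_iff]
        intro f _
        obtain ⟨e, rfl⟩ := hT i f
        have : e ∈ p i := by rw [hi]; trivial
        exact this
      have h1 : (Set.range fun j => T i (y j)).finrank k ≤ Fintype.card (Fin m) :=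
        finrank_range_le_card _
      rw [Set.finrank, hspan, finrank_top, Fintype.card_fin] at h1
      omega
    obtain ⟨e, he⟩ : ∃ e, e ∉ ⋃ i, (p i : Set E) := by
      by_contra h
      push_neg at h
      exact hne (Set.eq_univ_of_forall h)
    refine ⟨Fin.snoc y e, fun i => ?_⟩
    have h2 : (fun j => T i ((Fin.snoc y e : Fin (m + 1) → E) j)) =
        Fin.snoc (fun j => T i (y j)) (T i e) := by
      ext j
      refine Fin.lastCases ?_ (fun j => ?_) j <;> simp
    rw [h2, linearIndependent_fin_snoc]
    refine ⟨hy i, fun hmem => he ?_⟩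
    simp only [Set.mem_iUnion]
    exact ⟨i, hmem⟩

include hT in
theorem exists_general_position :
    ∃ y : Fin (Module.finrank k F) → E, ∀ i, LinearIndependent k (fun j => T i (y j)) :=
  exists_general_position_aux T hT _ le_rfl

end GP

section Unit

variable {k : Type u} [Field k] [IsAlgClosed k] {A : Type v} [CommRing A] [Algebra k A]
  [Module.Finite k A]

theorem exists_algHom_ker_eq (m : Ideal A) [hm : m.IsMaximal] :
    ∃ x : A →ₐ[k] k, RingHom.ker x = m := by
  letI : Field (A ⧸ m) := Ideal.Quotient.field m
  have hbij : Function.Bijective (algebraMap k (A ⧸ m)) :=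
    IsAlgClosed.algebraMap_bijective_of_isIntegral
  let e : k ≃ₐ[k] (A ⧸ m) := AlgEquiv.ofBijective (Algebra.ofId k (A ⧸ m)) hbij
  refine ⟨(e.symm : (A ⧸ m) →ₐ[k] k).comp (Ideal.Quotient.mkₐ k m), ?_⟩
  ext a
  simp [RingHom.mem_ker, Ideal.Quotient.eq_zero_iff_mem]

theorem isUnit_of_forall_algHom_ne_zero (d : A) (h : ∀ x : A →ₐ[k] k, x d ≠ 0) : IsUnit d := by
  by_contra hd
  obtain ⟨m, hm, hdm⟩ := exists_max_ideal_of_mem_nonunits hd
  obtain ⟨x, hx⟩ := exists_algHom_ker_eq (k := k) m
  exact h x (by rw [← RingHom.mem_ker, hx]; exact hdm)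

end Unit

end Groth.Agent.Lib.CoinvFree55
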