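import Groth.Agent.Lib.TensorComod55
import Groth.Agent.Lib.CoinvFree55a

/-!
# Transitivity of a finite locally free group scheme on geometric fibres of the quotient (helper55)

`A` a commutative Hopf algebra over `R`, finite projective as a module (coordinate system `(a, g)`),
`B` a commutative comodule algebra, `K` an algebraically closed field over `R`.  Two `K`-points
`x₁ x₂ : B → K` which agree on the invariants `B^A` are translates of one another:
`x₂ = (x₁ ⊗ g₀) ∘ ρ` for some `g₀ : A → K` (`exists_translate`).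

The proof: base change to `K ⊗ B`; the norm `Nm (ρ f)` of any `f ∈ K ⊗ B` lies in the image of
`K ⊗ B^A` (universal polynomial ring trick + flatness, `NmS_mem_range`), is a multiple of `f`, and
specialises along `x₁` to the norm of `(x₁ ⊗ id)(ρ f) ∈ K ⊗ A`; prime avoidance.
-/

set_option autoImplicit false
universe u v w w'

open TensorProduct

namespace Groth.Agent.Lib.CoactTrans55

open Groth.Agent.Lib.NormProj55 Groth.Agent.Lib.CoactNorm55 Groth.Agent.Lib.TensorComod55
open Groth.Agent.Lib.CoinvFree55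

section NmS

variable {R : Type u} [CommRing R] {A : Type v} [CommRing A] [HopfAlgebra R A]
  {N : ℕ} (a : Fin N → A) (g : Fin N → A →ₗ[R] R)
  {B : Type w} [CommRing B] [Algebra R B] [HopfRep.Comod R A B] [GLin.IsCoactAlg R A B]
  (S : Type w') [CommRing S] [Algebra R S]

/-- The norm of `ρ f` for `f ∈ S ⊗ B`. -/
noncomputable def NmS (f : S ⊗[R] B) : S ⊗[R] B := Nm a g (S ⊗[R] B) (rhoP R A B S f)

variable (hag : ∀ x : A, ∑ i, g i x • a i = x)

include hag in
theorem NmS_mem_span (f : S ⊗[R] B) : NmS a g S f ∈ Ideal.span ({f} : Set (S ⊗[R] B)) := by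
  letI := comodP R A B S
  haveI := isCoactAlgP R A B S
  exact NmCoact_mem_span a g hag f

include hag in
theorem rhoP_NmS (f : S ⊗[R] B) : rhoP R A B S (NmS a g S f) = NmS a g S f ⊗ₜ[R] (1 : A) := by
  letI := comodP R A B S
  haveI := isCoactAlgP R A B S
  have h := NmCoact_mem_invariants a g hag f
  rw [GLin.mem_invariants_iff] at h
  exact h

theorem NmS_map {S' : Type*} [CommRing S'] [Algebra R S'] (ψ : S →ₐ[R] S') (f : S ⊗[R] B) :
    Algebra.TensorProduct.map ψ (AlgHom.id R B) (NmS a g S f) =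
      NmS a g S' (Algebra.TensorProduct.map ψ (AlgHom.id R B) f) := by
  rw [NmS, NmS, ← Nm_map, map_rhoP]

include hag in
/-- The norm of any element of `S ⊗ B` comes from `S ⊗ B^A`. -/
theorem NmS_mem_range (f : S ⊗[R] B) :
    NmS a g S f ∈ LinearMap.range ((GLin.invariants R A B).val.toLinearMap.lTensor S) := by
  let P := MvPolynomial S R
  let ψ : P →ₐ[R] S := MvPolynomial.aeval id
  have hψ : Function.Surjective ψ := fun s => ⟨MvPolynomial.X s, MvPolynomial.aeval_X id s⟩
  have hsurj : Function.Surjective (Algebra.TensorProduct.map ψ (AlgHom.id R B)) :=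
    Algebra.TensorProduct.map_surjective ψ (AlgHom.id R B) hψ (fun b => ⟨b, rfl⟩)
  have key : ∀ w : P ⊗[R] (GLin.invariants R A B),
      (GLin.invariants R A B).val.toLinearMap.lTensor S (ψ.toLinearMap.rTensor _ w) =
        Algebra.TensorProduct.map ψ (AlgHom.id R B)
          ((GLin.invariants R A B).val.toLinearMap.lTensor P w) := by
    intro w
    induction w using TensorProduct.induction_on with
    | zero => simp
    | add x y hx hy => simp only [map_add, hx, hy]
    | tmul p c => simp
  obtain ⟨F, rfl⟩ := hsurj f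
  rw [← NmS_map]
  obtain ⟨w, hw⟩ := mem_range_of_flat R A B P (NmS a g P F) (rhoP_NmS a g P hag F)
  rw [← hw]
  exact ⟨ψ.toLinearMap.rTensor _ w, key w⟩

end NmS

section Trans

variable {R : Type u} [CommRing R] {A : Type v} [CommRing A] [HopfAlgebra R A]
  {N : ℕ} (a : Fin N → A) (g : Fin N → A →ₗ[R] R) (hag : ∀ x : A, ∑ i, g i x • a i = x)
  {B : Type w} [CommRing B] [Algebra R B] [HopfRep.Comod R A B] [GLin.IsCoactAlg R A B]
  {K : Type w'} [CommRing K] [Algebra R K]

/-- The extension of a `K`-point of `B` to `K ⊗ B`. -/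
noncomputable def extK (x : B →ₐ[R] K) : K ⊗[R] B →ₐ[R] K :=
  Algebra.TensorProduct.lift (AlgHom.id R K) x (fun _ _ => Commute.all _ _)

theorem extK_tmul (x : B →ₐ[R] K) (κ : K) (b : B) : extK x (κ ⊗ₜ[R] b) = κ * x b := by
  simp [extK]

/-- The translate `x · g₀ = (x ⊗ g₀) ∘ ρ` of a point. -/
noncomputable def trans (x : B →ₐ[R] K) (g₀ : A →ₐ[R] K) : B →ₐ[R] K :=
  (Algebra.TensorProduct.lift x g₀ (fun _ _ => Commute.all _ _)).comp (GLin.coactAlgHom R A B)

theorem extK_trans (x : B →ₐ[R] K) (g₀ : A →ₐ[R] K) (f : K ⊗[R] B) :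
    extK (trans x g₀) f =
      Algebra.TensorProduct.lift (AlgHom.id R K) g₀ (fun _ _ => Commute.all _ _)
        (Algebra.TensorProduct.map (extK x) (AlgHom.id R A) (rhoP R A B K f)) := by
  induction f using TensorProduct.induction_on with
  | zero => simp
  | add x y hx hy => simp only [map_add, hx, hy]
  | tmul κ b =>
    rw [extK_tmul, rhoP_tmul, trans, AlgHom.comp_apply]
    generalize GLin.coactAlgHom R A B b = y
    induction y using TensorProduct.induction_on with
    | zero => simp
    | add x y hx hy => simp only [tmul_add, map_add, mul_add, hx, hy]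
    | tmul b a => simp [extK_tmul, mul_assoc]

end Trans

section Main

variable {R : Type u} [CommRing R] {A : Type v} [CommRing A] [HopfAlgebra R A] [Module.Finite R A]
  {N : ℕ} (a : Fin N → A) (g : Fin N → A →ₗ[R] R) (hag : ∀ x : A, ∑ i, g i x • a i = x)
  {B : Type w} [CommRing B] [Algebra R B] [HopfRep.Comod R A B] [GLin.IsCoactAlg R A B]
  {K : Type w'} [Field K] [IsAlgClosed K] [Algebra R K]

include hag in
/-- Transitivity on geometric fibres of the quotient. -/
theorem exists_translate (x₁ x₂ : B →ₐ[R] K)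
    (h : ∀ c ∈ GLin.invariants R A B, x₁ c = x₂ c) :
    ∃ g₀ : A →ₐ[R] K, x₂ = trans x₁ g₀ := by
  classical
  have hagree : ∀ z ∈ LinearMap.range ((GLin.invariants R A B).val.toLinearMap.lTensor K),
      extK x₁ z = extK x₂ z := by
    rintro _ ⟨w, rfl⟩
    induction w using TensorProduct.induction_on with
    | zero => simp
    | add x y hx hy => simp only [map_add, hx, hy]
    | tmul κ c =>
      rw [LinearMap.lTensor_tmul, extK_tmul, extK_tmul]
      change κ * x₁ (c : B) = κ * x₂ (c : B)
      rw [h c c.2]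
  let ι := (K ⊗[R] A) →ₐ[K] K
  let g₀ : ι → (A →ₐ[R] K) := fun y =>
    (y.restrictScalars R).comp Algebra.TensorProduct.includeRight
  have hy : ∀ (y : ι) (z : K ⊗[R] A),
      y z = Algebra.TensorProduct.lift (AlgHom.id R K) (g₀ y) (fun _ _ => Commute.all _ _) z := by
    intro y z
    induction z using TensorProduct.induction_on with
    | zero => simp
    | add x y hx hy => simp only [map_add, hx, hy]
    | tmul κ a =>
      have e : κ ⊗ₜ[R] a = κ • ((1 : K) ⊗ₜ[R] a) := by rw [smul_tmul', smul_eq_mul, mul_one]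
      have e2 : y (κ ⊗ₜ[R] a) = κ * y ((1 : K) ⊗ₜ[R] a) := by
        conv_lhs => rw [e, map_smul, smul_eq_mul]
      rw [e2, Algebra.TensorProduct.lift_tmul]
      rfl
  have hkey : ∀ f ∈ RingHom.ker (extK x₂), ∃ y : ι, f ∈ RingHom.ker (extK (trans x₁ (g₀ y))) := by
    intro f hf
    have h1 : extK x₂ (NmS a g K f) = 0 := by
      obtain ⟨c, hc⟩ := Ideal.mem_span_singleton'.1 (NmS_mem_span a g K hag f)
      rw [← hc, map_mul, (RingHom.mem_ker).1 hf, mul_zero]
    have h2 : extK x₁ (NmS a g K f) = 0 := by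
      rw [hagree _ (NmS_mem_range a g K hag f), h1]
    have h3 : Nm a g K (Algebra.TensorProduct.map (extK x₁) (AlgHom.id R A) (rhoP R A B K f)) = 0 := by
      rw [Nm_map, ← h2]
      rfl
    have h4 : ¬ IsUnit (Algebra.TensorProduct.map (extK x₁) (AlgHom.id R A) (rhoP R A B K f)) := by
      intro hu
      have := isUnit_Nm a g K hag hu
      rw [h3] at this
      exact not_isUnit_zero this
    by_contra hcon
    push_neg at hcon
    apply h4
    apply isUnit_of_forall_algHom_ne_zero (k := K)
    intro y hy0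
    apply hcon y
    rw [RingHom.mem_ker, extK_trans, ← hy, hy0]
  haveI : Fintype ι := Fintype.ofFinite ι
  obtain ⟨y₀, -⟩ := hkey 0 (zero_mem _)
  have hsub : ((RingHom.ker (extK x₂) : Ideal (K ⊗[R] B)) : Set (K ⊗[R] B)) ⊆
      ⋃ y ∈ ((Finset.univ : Finset ι) : Set ι),
        ((RingHom.ker (extK (trans x₁ (g₀ y))) : Ideal (K ⊗[R] B)) : Set (K ⊗[R] B)) := by
    intro f hf
    obtain ⟨y, hy⟩ := hkey f hf
    exact Set.mem_biUnion (Finset.mem_coe.2 (Finset.mem_univ y)) hy
  obtain ⟨y, -, hle⟩ := (Ideal.subset_union_prime y₀ y₀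
    (fun i _ _ _ => RingHom.ker_isPrime _)).1 hsub
  refine ⟨g₀ y, ?_⟩
  ext b
  have hmem : ((1 : K) ⊗ₜ[R] b - (x₂ b) ⊗ₜ[R] (1 : B)) ∈ RingHom.ker (extK x₂) := by
    rw [RingHom.mem_ker, map_sub, extK_tmul, extK_tmul, map_one, one_mul, mul_one, sub_self]
  have h5 := hle hmem
  rw [RingHom.mem_ker, map_sub, extK_tmul, extK_tmul, map_one, one_mul, mul_one, sub_eq_zero] at h5
  exact h5.symm

end Main

end Groth.Agent.Lib.CoactTrans55
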