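import Groth.Agent.Lib.ComodHom
import Mathlib.Algebra.DirectSum.Decomposition
import Mathlib.Algebra.DirectSum.Module

/-!
# Decomposition of comodules along a direct sum decomposition of the coalgebra (helper18)

`R` a commutative ring, `C` an `R`-coalgebra which is the internal direct sum of subcoalgebras
`D i`.  Every right comodule `V` is the internal direct sum of the subcomodules
`V_i = ρ⁻¹(V ⊗ D i)`, and `ρ(V_i) ⊆ V_i ⊗ D_i`.
-/

set_option autoImplicit false
universe u v w w'

open TensorProduct

namespace Groth.Agent.Lib.CoalgDecomp18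

open Groth.Agent.Lib.Comod

section Proj

variable {R : Type u} {C : Type v} [CommRing R] [AddCommGroup C] [Module R C]
  {ι : Type w} (D : ι → Submodule R C)

/-- A system of projections onto the members of a family of submodules. -/
structure ProjSystem (p : ι → C →ₗ[R] C) : Prop where
  mem : ∀ i c, p i c ∈ D i
  self : ∀ i, ∀ d ∈ D i, p i d = d
  other : ∀ i j, i ≠ j → ∀ d ∈ D i, p j d = 0
  sum : ∀ c, ∃ s : Finset ι, ∀ s', s ⊆ s' → ∑ i ∈ s', p i c = c

theorem exists_projSystem (hind : iSupIndep D) (htop : iSup D = ⊤) :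
    ∃ p : ι → C →ₗ[R] C, ProjSystem D p := by
  classical
  have hint : DirectSum.IsInternal D :=
    DirectSum.isInternal_submodule_of_iSupIndep_of_iSup_eq_top hind htop
  let _ : DirectSum.Decomposition D := hint.chooseDecomposition
  refine ⟨fun i => (D i).subtype ∘ₗ DirectSum.component R ι (fun i => D i) i ∘ₗ
    (DirectSum.decomposeLinearEquiv D).toLinearMap, ?_, ?_, ?_, ?_⟩
  · intro i c
    exact Subtype.property _
  · intro i d hd
    exact DirectSum.decompose_of_mem_same D hd
  · intro i j hij d hd
    exact DirectSum.decompose_of_mem_ne D hd hij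
  · intro c
    refine ⟨(DirectSum.decompose D c).support, fun s' hs' => ?_⟩
    have h := DirectSum.sum_support_decompose D c
    have h2 : ∑ i ∈ (DirectSum.decompose D c).support, ((DirectSum.decompose D c) i : C) =
        ∑ i ∈ s', ((DirectSum.decompose D c) i : C) := by
      apply Finset.sum_subset hs'
      intro i _ hi
      rw [DFinsupp.notMem_support_iff] at hi
      rw [hi]
      rfl
    rw [h2] at h
    exact h

end Proj

section Decomp

variable {R : Type u} {C : Type v} [CommRing R] [AddCommGroup C] [Module R C] [Coalgebra R C]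
  {ι : Type w} {D : ι → Submodule R C} {p : ι → C →ₗ[R] C}
  {V : Type w'} [AddCommGroup V] [Module R V] [HopfRep.Comod R C V]

/-- Contraction of the left factor of `C ⊗ C`. -/
noncomputable def lcontr (φ : C →ₗ[R] R) : C ⊗[R] C →ₗ[R] C :=
  (TensorProduct.lid R C).toLinearMap ∘ₗ φ.rTensor C

omit [Coalgebra R C] in
@[simp] theorem lcontr_tmul (φ : C →ₗ[R] R) (a b : C) : lcontr φ (a ⊗ₜ[R] b) = φ a • b := by
  simp [lcontr]

omit [Coalgebra R C] [HopfRep.Comod R C V] in
theorem contr_lTensor (φ : C →ₗ[R] R) {C' : Type*} [AddCommGroup C'] [Module R C']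
    (g : C' →ₗ[R] C) (y : V ⊗[R] C') :
    contr V φ (g.lTensor V y) = contr V (φ ∘ₗ g) y := by
  induction y using TensorProduct.induction_on with
  | zero => simp
  | add x y hx hy => simp only [map_add, hx, hy]
  | tmul v c => simp

omit [Coalgebra R C] [HopfRep.Comod R C V] in
theorem rTensor_contr_assoc_symm (φ : C →ₗ[R] R) (z : V ⊗[R] (C ⊗[R] C)) :
    (contr V φ).rTensor C ((TensorProduct.assoc R V C C).symm z) = (lcontr φ).lTensor V z := by
  induction z using TensorProduct.induction_on with
  | zero => simp
  | add x y hx hy => simp only [map_add, hx, hy]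
  | tmul v t =>
    induction t using TensorProduct.induction_on with
    | zero => simp
    | add x y hx hy => simp only [TensorProduct.tmul_add, map_add, hx, hy]
    | tmul a b => simp [TensorProduct.smul_tmul]

/-- `(act φ ⊗ id) ∘ ρ = (id ⊗ (φ ⊗ id)Δ) ∘ ρ`. -/
theorem rTensor_act_coact (φ : C →ₗ[R] R) (v : V) :
    (act V φ).rTensor C (HopfRep.Comod.coact (k := R) (A := C) v) =
      (lcontr φ ∘ₗ CoalgebraStruct.comul (R := R) (A := C)).lTensor V
        (HopfRep.Comod.coact (k := R) (A := C) v) := by
  have h := LinearMap.congr_fun (HopfRep.Comod.coassoc (k := R) (A := C) (V := V)) v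
  simp only [LinearMap.coe_comp, LinearEquiv.coe_coe, Function.comp_apply] at h
  rw [act, LinearMap.rTensor_comp, LinearMap.comp_apply, LinearMap.lTensor_comp,
    LinearMap.comp_apply, ← h, ← rTensor_contr_assoc_symm, LinearEquiv.symm_apply_apply]

variable (hp : ProjSystem D p)
  (hD : ∀ i, ∀ d ∈ D i, CoalgebraStruct.comul (R := R) d ∈
    LinearMap.range (TensorProduct.map (D i).subtype (D i).subtype))
  (htop : iSup D = ⊤)

include hp in
omit [Coalgebra R C] in
theorem p_comp_subtype_self (i : ι) : p i ∘ₗ (D i).subtype = (D i).subtype := by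
  apply LinearMap.ext
  intro d
  exact hp.self i d d.2

include hp in
omit [Coalgebra R C] in
theorem p_comp_subtype_other {i j : ι} (hij : i ≠ j) : p j ∘ₗ (D i).subtype = 0 := by
  apply LinearMap.ext
  intro d
  exact hp.other i j hij d d.2

include hp hD htop in
theorem rTensor_p_comul (j : ι) (c : C) :
    (p j).rTensor C (CoalgebraStruct.comul (R := R) c) = CoalgebraStruct.comul (R := R) (p j c) := by
  classical
  have hc : c ∈ iSup D := by rw [htop]; exact Submodule.mem_top
  refine Submodule.iSup_induction D (motive := fun c =>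
    (p j).rTensor C (CoalgebraStruct.comul (R := R) c) = CoalgebraStruct.comul (R := R) (p j c))
    hc ?_ ?_ ?_
  · intro i d hd
    obtain ⟨y, hy⟩ := hD i d hd
    by_cases hij : i = j
    · subst hij
      rw [hp.self i d hd, ← hy, LinearMap.rTensor, ← LinearMap.comp_apply,
        ← TensorProduct.map_comp, LinearMap.id_comp, p_comp_subtype_self hp]
    · rw [hp.other i j hij d hd, map_zero, ← hy, LinearMap.rTensor, ← LinearMap.comp_apply,
        ← TensorProduct.map_comp, p_comp_subtype_other hp hij, TensorProduct.map_zero_left,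
        LinearMap.zero_apply]
  · simp
  · intro x y hx hy
    simp only [map_add, hx, hy]

include hp hD htop in
theorem lTensor_p_comul (j : ι) (c : C) :
    (p j).lTensor C (CoalgebraStruct.comul (R := R) c) = CoalgebraStruct.comul (R := R) (p j c) := by
  classical
  have hc : c ∈ iSup D := by rw [htop]; exact Submodule.mem_top
  refine Submodule.iSup_induction D (motive := fun c =>
    (p j).lTensor C (CoalgebraStruct.comul (R := R) c) = CoalgebraStruct.comul (R := R) (p j c))
    hc ?_ ?_ ?_
  · intro i d hd
    obtain ⟨y, hy⟩ := hD i d hd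
    by_cases hij : i = j
    · subst hij
      rw [hp.self i d hd, ← hy, LinearMap.lTensor, ← LinearMap.comp_apply,
        ← TensorProduct.map_comp, LinearMap.id_comp, p_comp_subtype_self hp]
    · rw [hp.other i j hij d hd, map_zero, ← hy, LinearMap.lTensor, ← LinearMap.comp_apply,
        ← TensorProduct.map_comp, p_comp_subtype_other hp hij, TensorProduct.map_zero_right,
        LinearMap.zero_apply]
  · simp
  · intro x y hx hy
    simp only [map_add, hx, hy]

include hp hD htop in
theorem slice_counit_comp_p (j : ι) :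
    slice (CoalgebraStruct.counit (R := R) (A := C) ∘ₗ p j) = p j := by
  apply LinearMap.ext
  intro c
  rw [slice, LinearMap.comp_apply, ← contr_lTensor, lTensor_p_comul hp hD htop, contr,
    LinearMap.comp_apply, Coalgebra.lTensor_counit_comul]
  simp

include hp hD htop in
theorem lslice_counit_comp_p (j : ι) :
    lcontr (CoalgebraStruct.counit (R := R) (A := C) ∘ₗ p j) ∘ₗ
      CoalgebraStruct.comul (R := R) (A := C) = p j := by
  apply LinearMap.ext
  intro c
  rw [LinearMap.comp_apply, lcontr, LinearMap.comp_apply, LinearMap.rTensor_comp,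
    LinearMap.comp_apply, rTensor_p_comul hp hD htop, Coalgebra.rTensor_counit_comul]
  simp

variable (V) in
/-- The projection of a comodule attached to the `j`-th projection of the coalgebra. -/
noncomputable def proj (p : ι → C →ₗ[R] C) (j : ι) : V →ₗ[R] V :=
  act V (CoalgebraStruct.counit (R := R) (A := C) ∘ₗ p j)

variable (V) in
/-- The `i`-th piece `ρ⁻¹(V ⊗ D i)`. -/
noncomputable def piece (D : ι → Submodule R C) (i : ι) : Submodule R V :=
  (LinearMap.range (LinearMap.lTensor V (D i).subtype)).comap
    (HopfRep.Comod.coact (k := R) (A := C) (V := V))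

include hp hD htop in
theorem coact_proj (j : ι) (v : V) :
    HopfRep.Comod.coact (k := R) (A := C) (proj V p j v) =
      (p j).lTensor V (HopfRep.Comod.coact (k := R) (A := C) v) := by
  rw [proj, act_apply, coact_contr_coact, slice_counit_comp_p hp hD htop]

include hp hD htop in
theorem rTensor_proj_coact (j : ι) (v : V) :
    (proj V p j).rTensor C (HopfRep.Comod.coact (k := R) (A := C) v) =
      (p j).lTensor V (HopfRep.Comod.coact (k := R) (A := C) v) := by
  rw [proj, rTensor_act_coact, lslice_counit_comp_p hp hD htop]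

include hp hD htop in
theorem proj_mem_piece (j : ι) (v : V) : proj V p j v ∈ piece V D j := by
  change HopfRep.Comod.coact (k := R) (A := C) (proj V p j v) ∈
    LinearMap.range (LinearMap.lTensor V (D j).subtype)
  rw [coact_proj hp hD htop]
  refine ⟨((p j).codRestrict (D j) (hp.mem j)).lTensor V
    (HopfRep.Comod.coact (k := R) (A := C) v), ?_⟩
  rw [← LinearMap.comp_apply, ← LinearMap.lTensor_comp]
  rfl

include hp in
theorem proj_of_mem_piece_self {i : ι} {v : V} (hv : v ∈ piece V D i) : proj V p i v = v := by
  have hv' : HopfRep.Comod.coact (k := R) (A := C) v ∈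
    LinearMap.range (LinearMap.lTensor V (D i).subtype) := hv
  obtain ⟨y, hy⟩ := hv'
  rw [proj, act_apply, ← hy, contr_lTensor, LinearMap.comp_assoc, p_comp_subtype_self hp,
    ← contr_lTensor, hy, ← act_apply, act_counit]

include hp in
theorem proj_of_mem_piece_other {i j : ι} (hij : i ≠ j) {v : V} (hv : v ∈ piece V D i) :
    proj V p j v = 0 := by
  have hv' : HopfRep.Comod.coact (k := R) (A := C) v ∈
    LinearMap.range (LinearMap.lTensor V (D i).subtype) := hv
  obtain ⟨y, hy⟩ := hv'
  rw [proj, act_apply, ← hy, contr_lTensor, LinearMap.comp_assoc, p_comp_subtype_other hp hij,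
    LinearMap.comp_zero]
  simp [contr]

include hp in
omit [Coalgebra R C] [HopfRep.Comod R C V] in
theorem exists_finset_sum_lTensor (x : V ⊗[R] C) :
    ∃ s : Finset ι, ∀ s', s ⊆ s' → ∑ i ∈ s', (p i).lTensor V x = x := by
  classical
  induction x using TensorProduct.induction_on with
  | zero => exact ⟨∅, fun s' _ => by simp⟩
  | tmul v c =>
    obtain ⟨s, hs⟩ := hp.sum c
    refine ⟨s, fun s' hs' => ?_⟩
    simp only [LinearMap.lTensor_tmul]
    rw [← TensorProduct.tmul_sum, hs s' hs']
  | add x y hx hy =>
    obtain ⟨s₁, h₁⟩ := hx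
    obtain ⟨s₂, h₂⟩ := hy
    refine ⟨s₁ ∪ s₂, fun s' hs' => ?_⟩
    simp only [map_add]
    rw [Finset.sum_add_distrib, h₁ s' (Finset.union_subset_left hs'),
      h₂ s' (Finset.union_subset_right hs')]

include hp in
theorem exists_finset_sum_proj (v : V) : ∃ s : Finset ι, ∑ i ∈ s, proj V p i v = v := by
  obtain ⟨s, hs⟩ := exists_finset_sum_lTensor (V := V) hp
    (HopfRep.Comod.coact (k := R) (A := C) v)
  refine ⟨s, ?_⟩
  have h := congrArg (contr V (CoalgebraStruct.counit (R := R) (A := C))) (hs s subset_rfl)
  rw [map_sum, ← act_apply, act_counit] at h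
  refine Eq.trans (Finset.sum_congr rfl fun i _ => ?_) h
  rw [contr_lTensor]
  rfl

include hp hD htop in
/-- The coaction of `V_i` lands in `V_i ⊗ D_i`. -/
theorem coact_mem_of_mem_piece {i : ι} {v : V} (hv : v ∈ piece V D i) :
    HopfRep.Comod.coact (k := R) (A := C) v ∈
      LinearMap.range (TensorProduct.map (piece V D i).subtype (D i).subtype) := by
  have h1 : (p i).lTensor V (HopfRep.Comod.coact (k := R) (A := C) v) =
      HopfRep.Comod.coact (k := R) (A := C) v := by
    rw [← coact_proj hp hD htop, proj_of_mem_piece_self hp hv]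
  have h2 : (proj V p i).rTensor C (HopfRep.Comod.coact (k := R) (A := C) v) =
      HopfRep.Comod.coact (k := R) (A := C) v := by
    rw [rTensor_proj_coact hp hD htop, h1]
  refine ⟨TensorProduct.map ((proj V p i).codRestrict (piece V D i) (proj_mem_piece hp hD htop i))
    ((p i).codRestrict (D i) (hp.mem i)) (HopfRep.Comod.coact (k := R) (A := C) v), ?_⟩
  rw [← LinearMap.comp_apply, ← TensorProduct.map_comp]
  have e1 : (piece V D i).subtype ∘ₗ (proj V p i).codRestrict (piece V D i)
      (proj_mem_piece hp hD htop i) = proj V p i := rfl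
  have e2 : (D i).subtype ∘ₗ (p i).codRestrict (D i) (hp.mem i) = p i := rfl
  rw [e1, e2]
  have e3 : TensorProduct.map (proj V p i) (p i) =
      (proj V p i).rTensor C ∘ₗ (p i).lTensor V := by
    rw [LinearMap.rTensor, LinearMap.lTensor, ← TensorProduct.map_comp, LinearMap.comp_id,
      LinearMap.id_comp]
  rw [e3, LinearMap.comp_apply, h1, h2]

include hp hD htop in
/-- **Decomposition of a comodule along a decomposition of the coalgebra into subcoalgebras.** -/
theorem decomposition :
    (∀ i, HopfRep.IsSubcomod (k := R) (A := C) (piece V D i)) ∧ iSupIndep (piece V D) ∧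
      (⨆ i, piece V D i) = ⊤ ∧
      ∀ i, ∀ v ∈ piece V D i, HopfRep.Comod.coact (k := R) (A := C) v ∈
        LinearMap.range (TensorProduct.map (piece V D i).subtype (D i).subtype) := by
  refine ⟨fun i v hv => ?_, fun i => ?_, ?_, fun i v hv => coact_mem_of_mem_piece hp hD htop hv⟩
  · obtain ⟨y, hy⟩ := coact_mem_of_mem_piece hp hD htop hv
    refine ⟨(D i).subtype.lTensor (piece V D i) y, ?_⟩
    rw [← LinearMap.comp_apply, LinearMap.rTensor_comp_lTensor]
    exact hy
  · rw [Submodule.disjoint_def]
    intro v hv1 hv2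
    rw [← proj_of_mem_piece_self hp hv1]
    have hle : (⨆ (j) (_ : j ≠ i), piece V D j) ≤ LinearMap.ker (proj V p i) :=
      iSup₂_le fun j hj u hu => proj_of_mem_piece_other hp hj hu
    exact hle hv2
  · rw [eq_top_iff]
    intro v _
    obtain ⟨s, hs⟩ := exists_finset_sum_proj (V := V) hp v
    rw [← hs]
    refine Submodule.sum_mem _ fun i _ => ?_
    exact (le_iSup (piece V D) i) (proj_mem_piece hp hD htop i v)

end Decomp

end Groth.Agent.Lib.CoalgDecomp18
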