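import Groth.Agent.Lib.ComodHom
import Mathlib.RingTheory.Coalgebra.Hom
import Mathlib.RingTheory.Flat.Basic

/-!
# Comodules pushed forward along a coalgebra map (helper18)

For `i : C →ₗc[k] D` and a right `C`-comodule `V`, `pushComod i c` is `V` as a `D`-comodule with
coaction `(id ⊗ i) ∘ ρ`.  Over a field and for injective `i`, subcomodules agree.
(The prelude's `GLin.comodAlong` is the same construction for bialgebra maps between commutative
bialgebras; this one is for plain coalgebras.)
-/

set_option autoImplicit false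
universe u v v' w

open TensorProduct

namespace Groth.Agent.Lib.CoalgPush

open Groth.Agent.Lib.Comod

section
variable {k : Type u} [CommRing k]
  {C : Type v} [AddCommGroup C] [Module k C]
  {D : Type v'} [AddCommGroup D] [Module k D]
  {V : Type w} [AddCommGroup V] [Module k V]

lemma contr_lTensor' (φ : D →ₗ[k] k) (f : C →ₗ[k] D) (x : V ⊗[k] C) :
    contr V φ (f.lTensor V x) = contr V (φ ∘ₗ f) x := by
  induction x using TensorProduct.induction_on with
  | zero => simp
  | add x y hx hy => simp only [map_add, hx, hy]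
  | tmul v c => simp

/-- naturality of the associator w.r.t. a linear map of the coefficient modules -/
lemma lTensor_map_assoc (ι : C →ₗ[k] D) :
    (TensorProduct.map ι ι).lTensor V ∘ₗ (TensorProduct.assoc k V C C).toLinearMap =
      (TensorProduct.assoc k V D D).toLinearMap ∘ₗ TensorProduct.map (ι.lTensor V) ι := by
  ext v c c'
  simp

variable [Coalgebra k C] [Coalgebra k D]

/-- The comodule pushed forward along a coalgebra map. -/
@[reducible] def pushComod (i : C →ₗc[k] D) (c : HopfRep.Comod k C V) : HopfRep.Comod k D V where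
  coact := (i : C →ₗ[k] D).lTensor V ∘ₗ c.coact
  coassoc := by
    apply LinearMap.ext
    intro v
    have hc := LinearMap.congr_fun c.coassoc v
    simp only [LinearMap.coe_comp, LinearEquiv.coe_coe, Function.comp_apply] at hc ⊢
    have e2 : ((i : C →ₗ[k] D).lTensor V ∘ₗ c.coact).rTensor D ∘ₗ (i : C →ₗ[k] D).lTensor V =
        TensorProduct.map ((i : C →ₗ[k] D).lTensor V) (i : C →ₗ[k] D) ∘ₗ c.coact.rTensor C := by
      ext a b
      simp
    have e3 := LinearMap.congr_fun e2 (c.coact v)
    simp only [LinearMap.coe_comp, Function.comp_apply] at e3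
    rw [e3]
    have e1 := LinearMap.congr_fun (lTensor_map_assoc (V := V) (i : C →ₗ[k] D))
      (c.coact.rTensor C (c.coact v))
    simp only [LinearMap.coe_comp, LinearEquiv.coe_coe, Function.comp_apply] at e1
    rw [← e1, hc, ← LinearMap.comp_apply, ← LinearMap.lTensor_comp, CoalgHomClass.map_comp_comul,
      LinearMap.lTensor_comp, LinearMap.comp_apply]
  counit_comp := by
    rw [← LinearMap.comp_assoc, ← LinearMap.lTensor_comp, CoalgHomClass.counit_comp]
    exact c.counit_comp

theorem pushComod_coact (i : C →ₗc[k] D) (c : HopfRep.Comod k C V) :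
    (pushComod i c).coact = (i : C →ₗ[k] D).lTensor V ∘ₗ c.coact := rfl

theorem act_pushComod (i : C →ₗc[k] D) (c : HopfRep.Comod k C V) (ψ : D →ₗ[k] k) (v : V) :
    @act k D _ _ _ _ V _ _ (pushComod i c) ψ v =
      @act k C _ _ _ _ V _ _ c (ψ ∘ₗ (i : C →ₗ[k] D)) v := by
  show contr V ψ ((pushComod i c).coact v) = contr V (ψ ∘ₗ (i : C →ₗ[k] D)) (c.coact v)
  rw [pushComod_coact, LinearMap.comp_apply, contr_lTensor']

end

section Field
variable {k : Type u} [Field k]
  {C : Type v} [AddCommGroup C] [Module k C] [Coalgebra k C]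
  {D : Type v'} [AddCommGroup D] [Module k D] [Coalgebra k D]
  {V : Type w} [AddCommGroup V] [Module k V]

theorem isSubcomod_pushComod (i : C →ₗc[k] D) (c : HopfRep.Comod k C V) {W : Submodule k V}
    (hW : @HopfRep.IsSubcomod k C _ _ _ _ V _ _ c W) :
    @HopfRep.IsSubcomod k D _ _ _ _ V _ _ (pushComod i c) W := by
  let _ := c
  rw [isSubcomod_iff_act] at hW
  let _ := pushComod i c
  rw [isSubcomod_iff_act]
  intro ψ v hv
  rw [act_pushComod]
  exact hW _ v hv

theorem isSubcomod_pushComod_iff (i : C →ₗc[k] D) (hi : Function.Injective i)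
    (c : HopfRep.Comod k C V) (W : Submodule k V) :
    @HopfRep.IsSubcomod k D _ _ _ _ V _ _ (pushComod i c) W ↔
      @HopfRep.IsSubcomod k C _ _ _ _ V _ _ c W := by
  refine ⟨fun hW => ?_, isSubcomod_pushComod i c⟩
  let _ := pushComod i c
  rw [isSubcomod_iff_act] at hW
  let _ := c
  rw [isSubcomod_iff_act]
  intro ψ v hv
  obtain ⟨g, hg⟩ := LinearMap.exists_leftInverse_of_injective (i : C →ₗ[k] D)
    (LinearMap.ker_eq_bot.2 hi)
  have := hW (ψ ∘ₗ g) v hv
  rw [act_pushComod, LinearMap.comp_assoc, hg, LinearMap.comp_id] at this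
  exact this

end Field

end Groth.Agent.Lib.CoalgPush
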