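import Mathlib.Algebra.Homology.QuasiIso
import Mathlib.Algebra.Homology.HomologicalComplexAbelian
import Mathlib.Algebra.Homology.Embedding.CochainComplex
import Mathlib.Algebra.Homology.ShortComplex.ShortExact
import Mathlib.CategoryTheory.Preadditive.Injective.Basic

/-!
# Dualizing cochain complexes: `opN` / `unopN` (helper25)

`opN K` (resp. `unopN L`) is the cochain complex in `Cᵒᵖ` (resp. `C`) with `X i = op (K.X (-i))`.
Both are contravariant; `unopOpIso : unopN (opN K) ≅ K` is natural; `unopNMap` preserves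
quasi-isomorphisms; strict boundedness is exchanged (`IsStrictlyLE n ↔ IsStrictlyGE (-n)`).
Used to deduce statements about projective resolutions from their injective duals.
-/

set_option autoImplicit false
universe u v
open CategoryTheory Limits Opposite

namespace Groth.Agent.Lib.CochainOp

section defs

variable {C : Type u} [Category.{v} C] [Preadditive C]

/-- From a cochain complex in `Cᵒᵖ` to one in `C`, negating the indices. -/
def unopN (L : CochainComplex Cᵒᵖ ℤ) : CochainComplex C ℤ where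
  X i := unop (L.X (-i))
  d i j := (L.d (-j) (-i)).unop
  shape i j hij := by
    rw [L.shape _ _ (by simp only [ComplexShape.up_Rel] at hij ⊢; omega)]
    rfl
  d_comp_d' i j k _ _ := by
    rw [← unop_comp, L.d_comp_d]
    rfl

@[simp] lemma unopN_X (L : CochainComplex Cᵒᵖ ℤ) (i : ℤ) : (unopN L).X i = unop (L.X (-i)) := rfl
@[simp] lemma unopN_d (L : CochainComplex Cᵒᵖ ℤ) (i j : ℤ) :
    (unopN L).d i j = (L.d (-j) (-i)).unop := rfl

/-- Functoriality of `unopN` (contravariant). -/
def unopNMap {K L : CochainComplex Cᵒᵖ ℤ} (f : K ⟶ L) : unopN L ⟶ unopN K where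
  f i := (f.f (-i)).unop
  comm' i j _ := by
    dsimp
    rw [← unop_comp, ← unop_comp, f.comm]

@[simp] lemma unopNMap_f {K L : CochainComplex Cᵒᵖ ℤ} (f : K ⟶ L) (i : ℤ) :
    (unopNMap f).f i = (f.f (-i)).unop := rfl

lemma unopNMap_comp {K L M : CochainComplex Cᵒᵖ ℤ} (f : K ⟶ L) (g : L ⟶ M) :
    unopNMap (f ≫ g) = unopNMap g ≫ unopNMap f := by
  ext i
  simp

lemma unopNMap_zero {K L : CochainComplex Cᵒᵖ ℤ} : unopNMap (0 : K ⟶ L) = 0 := by
  ext i
  rfl

/-- From a cochain complex in `C` to one in `Cᵒᵖ`, negating the indices. -/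
def opN (K : CochainComplex C ℤ) : CochainComplex Cᵒᵖ ℤ where
  X i := op (K.X (-i))
  d i j := (K.d (-j) (-i)).op
  shape i j hij := by
    rw [K.shape _ _ (by simp only [ComplexShape.up_Rel] at hij ⊢; omega)]
    rfl
  d_comp_d' i j k _ _ := by
    rw [← op_comp, K.d_comp_d]
    rfl

@[simp] lemma opN_X (K : CochainComplex C ℤ) (i : ℤ) : (opN K).X i = op (K.X (-i)) := rfl
@[simp] lemma opN_d (K : CochainComplex C ℤ) (i j : ℤ) :
    (opN K).d i j = (K.d (-j) (-i)).op := rfl

/-- Functoriality of `opN` (contravariant). -/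
def opNMap {K L : CochainComplex C ℤ} (f : K ⟶ L) : opN L ⟶ opN K where
  f i := (f.f (-i)).op
  comm' i j _ := by
    dsimp
    rw [← op_comp, ← op_comp, f.comm]

@[simp] lemma opNMap_f {K L : CochainComplex C ℤ} (f : K ⟶ L) (i : ℤ) :
    (opNMap f).f i = (f.f (-i)).op := rfl

lemma opNMap_comp {K L M : CochainComplex C ℤ} (f : K ⟶ L) (g : L ⟶ M) :
    opNMap (f ≫ g) = opNMap g ≫ opNMap f := by
  ext i
  simp

lemma opNMap_zero {K L : CochainComplex C ℤ} : opNMap (0 : K ⟶ L) = 0 := by
  ext i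
  rfl

/-- `unopN (opN K) ≅ K`. -/
def unopOpIso (K : CochainComplex C ℤ) : unopN (opN K) ≅ K :=
  HomologicalComplex.Hom.isoOfComponents (fun i => K.XIsoOfEq (neg_neg i)) (by
    intro i j _
    dsimp
    simp)

lemma unopOpIso_hom_naturality {K L : CochainComplex C ℤ} (f : K ⟶ L) :
    unopNMap (opNMap f) ≫ (unopOpIso L).hom = (unopOpIso K).hom ≫ f := by
  ext i
  dsimp [unopOpIso]
  exact HomologicalComplex.XIsoOfEq_hom_naturality f (neg_neg i)

end defs

section abelian

variable {C : Type u} [Category.{v} C] [Abelian C]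

lemma quasiIsoAt_unopNMap {K L : CochainComplex Cᵒᵖ ℤ} (f : K ⟶ L) (i : ℤ)
    (h : QuasiIsoAt f (-i)) : QuasiIsoAt (unopNMap f) i := by
  have h1 : (ComplexShape.up ℤ).prev (-i) = -(i + 1) := by
    rw [CochainComplex.prev]
    omega
  have h2 : (ComplexShape.up ℤ).next (-i) = -(i - 1) := by
    rw [CochainComplex.next]
    omega
  have h3 : (ComplexShape.up ℤ).prev i = i - 1 := CochainComplex.prev _ _
  have h4 : (ComplexShape.up ℤ).next i = i + 1 := CochainComplex.next _ _
  rw [quasiIsoAt_iff' f (-(i + 1)) (-i) (-(i - 1)) h1 h2] at h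
  rw [quasiIsoAt_iff' (unopNMap f) (i - 1) i (i + 1) h3 h4]
  have := ShortComplex.quasiIso_unopMap
    ((HomologicalComplex.shortComplexFunctor' Cᵒᵖ (ComplexShape.up ℤ)
      (-(i + 1)) (-i) (-(i - 1))).map f)
  exact this

lemma quasiIso_unopNMap {K L : CochainComplex Cᵒᵖ ℤ} (f : K ⟶ L) [QuasiIso f] :
    QuasiIso (unopNMap f) := by
  rw [quasiIso_iff]
  intro i
  exact quasiIsoAt_unopNMap f i inferInstance

lemma isStrictlyLE_unopN (L : CochainComplex Cᵒᵖ ℤ) (n : ℤ) [L.IsStrictlyGE (-n)] :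
    (unopN L).IsStrictlyLE n := by
  rw [CochainComplex.isStrictlyLE_iff]
  intro i hi
  exact (CochainComplex.isZero_of_isStrictlyGE L (-n) (-i) (by omega)).unop

lemma isStrictlyGE_opN (K : CochainComplex C ℤ) (n : ℤ) [K.IsStrictlyLE n] :
    (opN K).IsStrictlyGE (-n) := by
  rw [CochainComplex.isStrictlyGE_iff]
  intro i hi
  exact (CochainComplex.isZero_of_isStrictlyLE K n (-i) (by omega)).op

end abelian

end Groth.Agent.Lib.CochainOp
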