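import Groth.Agent.Lib.ComodHom

/-!
# Comodule theory VII (helper41): the induced (free) comodule `Hoch.Ind`, `Hoch.toInd`
-/

set_option autoImplicit false
universe u v w

open TensorProduct

namespace Groth.Agent.Lib.Comod

section Ind

variable {k : Type u} {A : Type v} [CommRing k] [AddCommGroup A] [Module k A] [Coalgebra k A]
  {V : Type w} [AddCommGroup V] [Module k V] [HopfRep.Comod k A V]

/-- The coaction `V → V ⊗ A` is a map of comodules into the free comodule. -/
theorem isComodHom_toInd : Hoch.IsComodHom A (Hoch.toInd k A V) := by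
  unfold Hoch.IsComodHom
  apply LinearMap.ext
  intro v
  have h := LinearMap.congr_fun (HopfRep.Comod.coassoc (k := k) (A := A) (V := V)) v
  simp only [LinearMap.coe_comp, LinearEquiv.coe_coe, Function.comp_apply] at h
  simp only [LinearMap.coe_comp, Function.comp_apply]
  show (TensorProduct.assoc k V A A).symm ((CoalgebraStruct.comul (R := k) (A := A)).lTensor V
      (HopfRep.Comod.coact (k := k) (A := A) v)) =
    (HopfRep.Comod.coact (k := k) (A := A) (V := V)).rTensor A
      (HopfRep.Comod.coact (k := k) (A := A) v)
  rw [← h, LinearEquiv.symm_apply_apply]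

theorem counit_toInd (v : V) : Hoch.Ind.counit k A V (Hoch.toInd k A V v) = v := by
  have h := LinearMap.congr_fun (HopfRep.Comod.counit_comp (k := k) (A := A) (V := V)) v
  simp only [LinearMap.coe_comp, Function.comp_apply, LinearMap.flip_apply,
    TensorProduct.mk_apply] at h
  show (TensorProduct.rid k V) ((CoalgebraStruct.counit (R := k) (A := A)).lTensor V
    (HopfRep.Comod.coact (k := k) (A := A) v)) = v
  rw [h]
  simp

theorem toInd_injective : Function.Injective (Hoch.toInd k A V) := by
  intro x y hxy
  rw [← counit_toInd (k := k) (A := A) x, ← counit_toInd (k := k) (A := A) y, hxy]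

end Ind

end Groth.Agent.Lib.Comod

namespace Groth.Agent.Lib.Comod

section IndAct

variable {k : Type u} {A : Type v} [CommRing k] [AddCommGroup A] [Module k A] [Coalgebra k A]
  {P : Type w} [AddCommGroup P] [Module k P]

omit [Coalgebra k A] in
theorem contr_assoc_symm_tmul (φ : A →ₗ[k] k) (p : P) (t : A ⊗[k] A) :
    contr (P ⊗[k] A) φ ((TensorProduct.assoc k P A A).symm (p ⊗ₜ[k] t)) = p ⊗ₜ[k] contr A φ t := by
  induction t using TensorProduct.induction_on with
  | zero => simp
  | add x y hx hy => simp only [TensorProduct.tmul_add, map_add, hx, hy]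
  | tmul a b => simp [TensorProduct.tmul_smul]

/-- The dual-algebra action on the free comodule `P ⊗ A` is `id ⊗ slice φ`. -/
theorem act_ind (φ : A →ₗ[k] k) (x : Hoch.Ind k A P) :
    act (Hoch.Ind k A P) φ x = ((slice φ).lTensor P : P ⊗[k] A →ₗ[k] P ⊗[k] A) x := by
  show contr (P ⊗[k] A) φ (Hoch.Ind.coactAux k A P x) = (slice φ).lTensor P x
  induction x using TensorProduct.induction_on with
  | zero => simp
  | add x y hx hy => simp only [map_add, hx, hy]
  | tmul p a =>
    rw [Hoch.Ind.coactAux_tmul, contr_assoc_symm_tmul, LinearMap.lTensor_tmul, slice,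
      LinearMap.comp_apply]

end IndAct

end Groth.Agent.Lib.Comod
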