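import Groth.Agent.Lib.ComodSimple18
import Groth.Agent.Lib.ComodInd
import Mathlib.LinearAlgebra.Dual.Lemmas
import Mathlib.LinearAlgebra.Dual.Basis
import Mathlib.RingTheory.Finiteness.Lattice

/-!
# Coefficient spaces of comodules (helper18)

Over a field `k`, for a right comodule `V` over a coalgebra `C`:
* `lcontr ψ : V ⊗ C → C` (contract the left factor with a functional `ψ` on `V`);
* `mem_range_lTensor_subtype_iff`: `x ∈ V ⊗ D` iff all left contractions of `x` lie in `D`;
* `mem_range_map_subtype_iff`: `(U ⊗ C) ∩ (V ⊗ D) = U ⊗ D`;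
* `cfm ψ : V → C`, the matrix coefficient map `v ↦ (ψ ⊗ id)(ρ v)`, a comodule map to the regular
  comodule;
* `cf V`, the coefficient space `Σ_ψ range (cfm ψ)`: the least `D` with `ρ(V) ⊆ V ⊗ D`; it is a
  subcoalgebra, nonzero when `V` is, finite-dimensional when `V` is, invariant under isomorphism;
* simple comodule ⇒ simple coefficient coalgebra, and consequences.
-/

set_option autoImplicit false
universe u v w w' w''

open TensorProduct

namespace Groth.Agent.Lib.CoeffSpace

open Groth.Agent.Lib.Comod Groth.Agent.Lib.ComodSimple18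

section LContr

variable {k : Type u} {C : Type v} [Field k] [AddCommGroup C] [Module k C]
  {V : Type w} [AddCommGroup V] [Module k V] {W : Type w'} [AddCommGroup W] [Module k W]

/-- Contraction of the left factor with a functional. -/
noncomputable def lcontr (ψ : V →ₗ[k] k) : V ⊗[k] C →ₗ[k] C :=
  (TensorProduct.lid k C).toLinearMap ∘ₗ ψ.rTensor C

@[simp] theorem lcontr_tmul (ψ : V →ₗ[k] k) (v : V) (c : C) :
    lcontr ψ (v ⊗ₜ[k] c) = ψ v • c := by
  simp [lcontr]

theorem lcontr_rTensor (ψ : W →ₗ[k] k) (f : V →ₗ[k] W) (x : V ⊗[k] C) :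
    lcontr ψ (f.rTensor C x) = lcontr (ψ ∘ₗ f) x := by
  induction x using TensorProduct.induction_on with
  | zero => simp
  | add x y hx hy => simp only [map_add, hx, hy]
  | tmul v c => simp

theorem lcontr_lTensor {C' : Type*} [AddCommGroup C'] [Module k C'] (ψ : V →ₗ[k] k)
    (g : C →ₗ[k] C') (x : V ⊗[k] C) :
    lcontr ψ (g.lTensor V x) = g (lcontr ψ x) := by
  induction x using TensorProduct.induction_on with
  | zero => simp
  | add x y hx hy => simp only [map_add, hx, hy]
  | tmul v c => simp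

theorem lcontr_add (ψ ψ' : V →ₗ[k] k) (x : V ⊗[k] C) :
    lcontr (ψ + ψ') x = lcontr ψ x + lcontr ψ' x := by
  induction x using TensorProduct.induction_on with
  | zero => simp
  | add x y hx hy => simp only [map_add, hx, hy]; abel
  | tmul v c => simp [add_smul]

theorem lcontr_smul (a : k) (ψ : V →ₗ[k] k) (x : V ⊗[k] C) :
    lcontr (a • ψ) x = a • lcontr ψ x := by
  induction x using TensorProduct.induction_on with
  | zero => simp
  | add x y hx hy => simp only [map_add, hx, hy, smul_add]
  | tmul v c => simp [mul_smul]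

theorem lcontr_mem_of_mem_range (D : Submodule k C) (ψ : V →ₗ[k] k) {x : V ⊗[k] C}
    (hx : x ∈ LinearMap.range (D.subtype.lTensor V)) : lcontr ψ x ∈ D := by
  obtain ⟨y, rfl⟩ := hx
  rw [lcontr_lTensor]
  exact (lcontr ψ y).2

/-- Over a field, a tensor lies in the image of `V ⊗ D` iff all its left contractions lie in
`D`. -/
theorem mem_range_lTensor_subtype_iff (D : Submodule k C) (x : V ⊗[k] C) :
    x ∈ LinearMap.range (D.subtype.lTensor V) ↔ ∀ ψ : V →ₗ[k] k, lcontr ψ x ∈ D := by
  classical
  refine ⟨fun hx ψ => lcontr_mem_of_mem_range D ψ hx, fun h => ?_⟩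
  let b := Module.Basis.ofVectorSpace k V
  let coef := TensorProduct.equivFinsuppOfBasisLeft (N := C) b x
  have hcoef : ∀ i, coef i = lcontr (b.coord i) x := fun i =>
    TensorProduct.equivFinsuppOfBasisLeft_apply b x i
  have hsum : x = coef.sum fun i m => b i ⊗ₜ[k] m := by
    rw [← TensorProduct.equivFinsuppOfBasisLeft_symm_apply, LinearEquiv.symm_apply_apply]
  rw [hsum, Finsupp.sum]
  refine Submodule.sum_mem _ fun i _ => ?_
  exact ⟨b i ⊗ₜ[k] (⟨coef i, by rw [hcoef]; exact h _⟩ : D), by simp⟩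

/-- `(U ⊗ C) ∩ (V ⊗ D) = U ⊗ D` over a field. -/
theorem mem_range_map_subtype_iff (U : Submodule k V) (D : Submodule k C) (x : V ⊗[k] C) :
    x ∈ LinearMap.range (TensorProduct.map U.subtype D.subtype) ↔
      x ∈ LinearMap.range (U.subtype.rTensor C) ∧ x ∈ LinearMap.range (D.subtype.lTensor V) := by
  constructor
  · rintro ⟨y, rfl⟩
    refine ⟨⟨D.subtype.lTensor U y, ?_⟩, ⟨U.subtype.rTensor D y, ?_⟩⟩
    · rw [← LinearMap.comp_apply, LinearMap.rTensor_comp_lTensor]
    · rw [← LinearMap.comp_apply, LinearMap.lTensor_comp_rTensor]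
  · rintro ⟨⟨y, rfl⟩, h2⟩
    have hy : y ∈ LinearMap.range (D.subtype.lTensor U) := by
      rw [mem_range_lTensor_subtype_iff]
      intro ψ'
      obtain ⟨ψ, hψ⟩ := LinearMap.exists_extend ψ'
      rw [← hψ, ← lcontr_rTensor]
      exact lcontr_mem_of_mem_range D ψ h2
    obtain ⟨z, rfl⟩ := hy
    exact ⟨z, by rw [← LinearMap.comp_apply, LinearMap.rTensor_comp_lTensor]⟩

end LContr

section Cf

variable {k : Type u} {C : Type v} [Field k] [AddCommGroup C] [Module k C] [Coalgebra k C]
  {V : Type w} [AddCommGroup V] [Module k V] [HopfRep.Comod k C V]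
  {W : Type w'} [AddCommGroup W] [Module k W] [HopfRep.Comod k C W]

omit [Coalgebra k C] [HopfRep.Comod k C V] in
theorem apply_lcontr (φ : C →ₗ[k] k) (ψ : V →ₗ[k] k) (y : V ⊗[k] C) :
    φ (lcontr ψ y) = ψ (contr V φ y) := by
  induction y using TensorProduct.induction_on with
  | zero => simp
  | add x y hx hy => simp only [map_add, hx, hy]
  | tmul v c => simp [contr, mul_comm]

omit [Coalgebra k C] [HopfRep.Comod k C V] in
theorem lcontr_assoc_tmul (ψ : V →ₗ[k] k) (y : V ⊗[k] C) (c : C) :
    lcontr ψ (TensorProduct.assoc k V C C (y ⊗ₜ[k] c)) = lcontr ψ y ⊗ₜ[k] c := by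
  induction y using TensorProduct.induction_on with
  | zero => simp
  | add x y hx hy => simp only [TensorProduct.add_tmul, map_add, hx, hy]
  | tmul v c' => simp [TensorProduct.smul_tmul']

variable (C) in
/-- The matrix coefficient map `v ↦ (ψ ⊗ id)(ρ v)` attached to a functional `ψ`. -/
noncomputable def cfm (ψ : V →ₗ[k] k) : V →ₗ[k] C :=
  lcontr ψ ∘ₗ HopfRep.Comod.coact (k := k) (A := C)

theorem cfm_apply (ψ : V →ₗ[k] k) (v : V) :
    cfm C ψ v = lcontr ψ (HopfRep.Comod.coact (k := k) (A := C) v) := rfl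

theorem counit_cfm (ψ : V →ₗ[k] k) (v : V) :
    CoalgebraStruct.counit (R := k) (A := C) (cfm C ψ v) = ψ v := by
  rw [cfm_apply, apply_lcontr, ← act_apply, act_counit]

/-- The matrix coefficient maps are comodule maps to the regular comodule. -/
theorem isComodHom_cfm (ψ : V →ₗ[k] k) : Hoch.IsComodHom C (cfm C ψ) := by
  apply LinearMap.ext
  intro v
  have hco := LinearMap.congr_fun (HopfRep.Comod.coassoc (k := k) (A := C) (V := V)) v
  simp only [LinearMap.coe_comp, Function.comp_apply, LinearEquiv.coe_coe] at hco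
  change CoalgebraStruct.comul (R := k) (cfm C ψ v) = _
  rw [cfm_apply, ← lcontr_lTensor, ← hco]
  simp only [LinearMap.coe_comp, Function.comp_apply]
  generalize HopfRep.Comod.coact (k := k) (A := C) v = z
  induction z using TensorProduct.induction_on with
  | zero => simp
  | add x y hx hy => simp only [map_add, hx, hy]
  | tmul v' c => simp [lcontr_assoc_tmul, cfm_apply]

theorem cfm_comp {f : V →ₗ[k] W} (hf : Hoch.IsComodHom C f) (ψ : W →ₗ[k] k) :
    cfm C ψ ∘ₗ f = cfm C (ψ ∘ₗ f) := by
  apply LinearMap.ext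
  intro v
  have h := LinearMap.congr_fun hf v
  simp only [LinearMap.coe_comp, Function.comp_apply] at h
  rw [LinearMap.comp_apply, cfm_apply, h, lcontr_rTensor, cfm_apply]

/-- A comodule map to the regular comodule is the matrix coefficient map of its composition with
the counit. -/
theorem eq_cfm_counit {f : V →ₗ[k] C} (hf : Hoch.IsComodHom C f) :
    f = cfm C (CoalgebraStruct.counit (R := k) (A := C) ∘ₗ f) := by
  apply LinearMap.ext
  intro v
  have h := LinearMap.congr_fun hf v
  simp only [LinearMap.coe_comp, Function.comp_apply] at h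
  change CoalgebraStruct.comul (R := k) (f v) = _ at h
  rw [cfm_apply, ← lcontr_rTensor, ← h, lcontr]
  simp

variable (k C V) in
/-- The coefficient space of a comodule. -/
noncomputable def cf : Submodule k C := ⨆ ψ : V →ₗ[k] k, LinearMap.range (cfm C ψ)

theorem cfm_mem_cf (ψ : V →ₗ[k] k) (v : V) : cfm C ψ v ∈ cf k C V :=
  (le_iSup (fun ψ : V →ₗ[k] k => LinearMap.range (cfm C ψ)) ψ) ⟨v, rfl⟩

/-- `ρ(V) ⊆ V ⊗ D` iff the coefficient space is contained in `D`. -/
theorem coact_mem_iff_cf_le (D : Submodule k C) :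
    (∀ v : V, HopfRep.Comod.coact (k := k) (A := C) v ∈ LinearMap.range (D.subtype.lTensor V)) ↔
      cf k C V ≤ D := by
  constructor
  · intro h
    refine iSup_le fun ψ => ?_
    rintro _ ⟨v, rfl⟩
    exact lcontr_mem_of_mem_range D ψ (h v)
  · intro h v
    rw [mem_range_lTensor_subtype_iff]
    intro ψ
    exact h (cfm_mem_cf ψ v)

theorem coact_mem_cf (v : V) :
    HopfRep.Comod.coact (k := k) (A := C) v ∈ LinearMap.range ((cf k C V).subtype.lTensor V) :=
  (coact_mem_iff_cf_le _).2 le_rfl v

theorem isLeast_cf : IsLeast {D' : Submodule k C | ∀ e : V,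
    HopfRep.Comod.coact (k := k) (A := C) e ∈ LinearMap.range (LinearMap.lTensor V D'.subtype)}
    (cf k C V) :=
  ⟨coact_mem_cf, fun _ hD => (coact_mem_iff_cf_le _).1 hD⟩

theorem eq_cf_of_isLeast {D : Submodule k C} (hD : IsLeast {D' : Submodule k C | ∀ e : V,
    HopfRep.Comod.coact (k := k) (A := C) e ∈ LinearMap.range (LinearMap.lTensor V D'.subtype)} D) :
    D = cf k C V :=
  hD.unique isLeast_cf

/-- A subspace `B` of a coalgebra is a subcoalgebra. -/
def IsSubcoalg (B : Submodule k C) : Prop :=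
  ∀ b ∈ B, CoalgebraStruct.comul (R := k) b ∈
    LinearMap.range (TensorProduct.map B.subtype B.subtype)

/-- `D` is a simple subcoalgebra. -/
def IsSimpleSubcoalg (D : Submodule k C) : Prop :=
  D ≠ ⊥ ∧ IsSubcoalg D ∧ ∀ B : Submodule k C, B ≤ D → IsSubcoalg B → B = ⊥ ∨ B = D

/-- The coefficient space is a subcoalgebra. -/
theorem isSubcoalg_cf : IsSubcoalg (cf k C V) := by
  intro b hb
  refine Submodule.iSup_induction _ (motive := fun b => CoalgebraStruct.comul (R := k) b ∈
    LinearMap.range (TensorProduct.map (cf k C V).subtype (cf k C V).subtype)) hb ?_ ?_ ?_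
  · rintro ψ _ ⟨v, rfl⟩
    have h := LinearMap.congr_fun (isComodHom_cfm (C := C) ψ) v
    simp only [LinearMap.coe_comp, Function.comp_apply] at h
    change CoalgebraStruct.comul (R := k) (cfm C ψ v) = _ at h
    rw [h]
    obtain ⟨y, hy⟩ := coact_mem_cf (k := k) (C := C) v
    rw [← hy]
    refine ⟨TensorProduct.map ((cfm C ψ).codRestrict (cf k C V) (cfm_mem_cf ψ)) LinearMap.id y, ?_⟩
    rw [← LinearMap.comp_apply, ← LinearMap.comp_apply, ← TensorProduct.map_comp,
      LinearMap.rTensor, LinearMap.lTensor, ← TensorProduct.map_comp]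
    rfl
  · simp
  · intro x y hx hy
    rw [map_add]
    exact Submodule.add_mem _ hx hy

/-- The coefficient space of a nonzero comodule is nonzero. -/
theorem cf_ne_bot [Nontrivial V] : cf k C V ≠ ⊥ := by
  intro h
  obtain ⟨v, hv⟩ := exists_ne (0 : V)
  apply hv
  rw [← Module.forall_dual_apply_eq_zero_iff k v]
  intro ψ
  have hmem := cfm_mem_cf (C := C) ψ v
  rw [h, Submodule.mem_bot] at hmem
  rw [← counit_cfm (C := C), hmem, map_zero]

/-- Isomorphic comodules have the same coefficient space. -/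
theorem cf_le_of_surjective {f : V →ₗ[k] W} (hf : Hoch.IsComodHom C f)
    (hsurj : Function.Surjective f) : cf k C W ≤ cf k C V := by
  refine iSup_le fun ψ => ?_
  rintro _ ⟨w, rfl⟩
  obtain ⟨v, rfl⟩ := hsurj w
  rw [← LinearMap.comp_apply, cfm_comp hf]
  exact cfm_mem_cf _ v

theorem cf_le_of_injective {f : V →ₗ[k] W} (hf : Hoch.IsComodHom C f)
    (hinj : Function.Injective f) : cf k C V ≤ cf k C W := by
  refine iSup_le fun ψ => ?_
  rintro _ ⟨v, rfl⟩
  obtain ⟨g, hg⟩ := f.exists_leftInverse_of_injective (LinearMap.ker_eq_bot.2 hinj)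
  have : ψ = (ψ ∘ₗ g) ∘ₗ f := by rw [LinearMap.comp_assoc, hg, LinearMap.comp_id]
  rw [this, ← cfm_comp hf, LinearMap.comp_apply]
  exact cfm_mem_cf _ _

theorem cf_eq_of_equiv (e : V ≃ₗ[k] W) (he : Hoch.IsComodHom C (e : V →ₗ[k] W)) :
    cf k C V = cf k C W :=
  le_antisymm (cf_le_of_injective he e.injective) (cf_le_of_surjective he e.surjective)

/-- The image of a comodule map to the regular comodule lies in the coefficient space. -/
theorem range_le_cf {f : V →ₗ[k] C} (hf : Hoch.IsComodHom C f) :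
    LinearMap.range f ≤ cf k C V := by
  rintro _ ⟨v, rfl⟩
  rw [eq_cfm_counit hf]
  exact cfm_mem_cf _ v

end Cf

section Finite

variable {k : Type u} {C : Type v} [Field k] [AddCommGroup C] [Module k C] [Coalgebra k C]
  {V : Type w} [AddCommGroup V] [Module k V] [HopfRep.Comod k C V]

/-- `lcontr` as a linear map in the functional. -/
noncomputable def lcontrL (x : V ⊗[k] C) : (V →ₗ[k] k) →ₗ[k] C where
  toFun ψ := lcontr ψ x
  map_add' ψ ψ' := lcontr_add ψ ψ' x
  map_smul' a ψ := lcontr_smul a ψ x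

/-- The coefficient space of a finite-dimensional comodule is finite-dimensional. -/
theorem finite_cf [Module.Finite k V] : Module.Finite k (cf k C V) := by
  classical
  let b := Module.finBasis k V
  have heq : cf k C V = ⨆ i, LinearMap.range (cfm C (b.coord i)) := by
    apply le_antisymm
    · refine iSup_le fun ψ => ?_
      rintro _ ⟨v, rfl⟩
      have h1 : cfm C ψ v = lcontrL (HopfRep.Comod.coact (k := k) (A := C) v) ψ := rfl
      rw [h1, ← b.sum_dual_apply_smul_coord ψ, map_sum]
      refine Submodule.sum_mem _ fun i _ => ?_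
      rw [map_smul]
      refine Submodule.smul_mem _ _ ?_
      exact (le_iSup (fun i => LinearMap.range (cfm C (b.coord i))) i) ⟨v, rfl⟩
    · exact iSup_le fun i => le_iSup (fun ψ : V →ₗ[k] k => LinearMap.range (cfm C ψ)) (b.coord i)
  rw [heq]
  infer_instance

end Finite

section Simple

variable {k : Type u} {C : Type v} [Field k] [AddCommGroup C] [Module k C] [Coalgebra k C]
  {V : Type w} [AddCommGroup V] [Module k V] [HopfRep.Comod k C V]

/-- A subcoalgebra is a subcomodule of the regular comodule. -/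
theorem isSubcomod_of_isSubcoalg {B : Submodule k C} (hB : IsSubcoalg B) :
    HopfRep.IsSubcomod (k := k) (A := C) B := by
  intro b hb
  obtain ⟨y, hy⟩ := hB b hb
  refine ⟨B.subtype.lTensor B y, ?_⟩
  rw [← LinearMap.comp_apply, LinearMap.rTensor_comp_lTensor]
  exact hy

/-- For a subcomodule `E` of the regular comodule: `Δ e ∈ E ⊗ D'` iff `ρ_E e ∈ E ⊗ D'`. -/
theorem comul_mem_range_map_iff {E : Submodule k C} (D' : Submodule k C)
    (hE : HopfRep.IsSubcomod (k := k) (A := C) E) (e : E) :
    CoalgebraStruct.comul (R := k) (e : C) ∈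
        LinearMap.range (TensorProduct.map E.subtype D'.subtype) ↔
      (ComodSub.Comod.restr (HopfRep.Comod.regular k C) E hE).coact e ∈
        LinearMap.range (LinearMap.lTensor E D'.subtype) := by
  have hco := ComodSub.restr_coact_coe (HopfRep.Comod.regular k C) E hE e
  change _ = CoalgebraStruct.comul (R := k) (e : C) at hco
  constructor
  · rintro ⟨y, hy⟩
    refine ⟨y, ?_⟩
    apply Module.Flat.rTensor_preserves_injective_linearMap (M := C) E.subtype
      E.injective_subtype
    rw [hco, ← hy, ← LinearMap.comp_apply, LinearMap.rTensor_comp_lTensor]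
  · rintro ⟨y, hy⟩
    refine ⟨y, ?_⟩
    rw [← hco, ← hy, ← LinearMap.comp_apply, LinearMap.rTensor_comp_lTensor]

/-- The coefficient space of a subcomodule of the regular comodule lying in a subcoalgebra `B`
is contained in `B`. -/
theorem cf_restr_le {B E : Submodule k C} (hB : IsSubcoalg B)
    (hE : HopfRep.IsSubcomod (k := k) (A := C) E) (hEB : E ≤ B) :
    @cf k C _ _ _ _ E _ _ (ComodSub.Comod.restr (HopfRep.Comod.regular k C) E hE) ≤ B := by
  let _ := ComodSub.Comod.restr (HopfRep.Comod.regular k C) E hE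
  rw [← coact_mem_iff_cf_le]
  intro e
  rw [← comul_mem_range_map_iff B hE e]
  obtain ⟨y, hy⟩ := hB e (hEB e.2)
  rw [mem_range_map_subtype_iff]
  refine ⟨hE e e.2, ⟨B.subtype.rTensor B y, ?_⟩⟩
  rw [← LinearMap.comp_apply, LinearMap.lTensor_comp_rTensor]
  exact hy

/-- A subcomodule of the regular comodule is contained in its coefficient space. -/
theorem le_cf_restr {E : Submodule k C} (hE : HopfRep.IsSubcomod (k := k) (A := C) E) :
    E ≤ @cf k C _ _ _ _ E _ _ (ComodSub.Comod.restr (HopfRep.Comod.regular k C) E hE) := by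
  let _ := ComodSub.Comod.restr (HopfRep.Comod.regular k C) E hE
  have h := range_le_cf (V := E) (f := E.subtype)
    (ComodSub.isComodHom_subtype (HopfRep.Comod.regular k C) E hE)
  rwa [Submodule.range_subtype] at h

/-- The coefficient space of a simple comodule is a simple subcoalgebra. -/
theorem isSimpleSubcoalg_cf (hV : HopfRep.IsSimpleComod k C V) :
    IsSimpleSubcoalg (cf k C V) := by
  have := hV.1
  refine ⟨cf_ne_bot, isSubcoalg_cf, fun B hBD hB => ?_⟩
  by_cases hB0 : B = ⊥
  · exact Or.inl hB0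
  right
  obtain ⟨E', hE'B, hE'⟩ := exists_simpleSub_le (HopfRep.Comod.regular k C) B
    (isSubcomod_of_isSubcoalg hB) hB0
  let cE' : HopfRep.Comod k C E' := ComodSub.Comod.restr (HopfRep.Comod.regular k C) E' hE'.1
  have hsimple : HopfRep.IsSimpleComod k C E' :=
    isSimpleComod_restr_of_minimal (HopfRep.Comod.regular k C) E' hE'.1 hE'.2.1 hE'.2.2
  have hsub : Hoch.IsComodHom C E'.subtype :=
    ComodSub.isComodHom_subtype (HopfRep.Comod.regular k C) E' hE'.1
  have hne : E'.subtype ≠ 0 := by
    intro h0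
    apply hE'.2.1
    rw [eq_bot_iff]
    intro x hx
    have : E'.subtype ⟨x, hx⟩ = 0 := by rw [h0]; rfl
    simpa using this
  obtain ⟨ψ, e, he⟩ := exists_iso_of_le_iSup_range (K := fun _ : (V →ₗ[k] k) => V)
    (fun _ => hV) (fun ψ => cfm C ψ) (fun ψ => isComodHom_cfm ψ) hsimple E'.subtype hsub hne
    (by rw [Submodule.range_subtype]; exact hE'B.trans hBD)
  apply le_antisymm hBD
  rw [← cf_eq_of_equiv e he]
  exact cf_restr_le hB hE'.1 hE'B

/-- A nonzero subcomodule of the regular comodule contained in a simple subcoalgebra `D` has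
coefficient space `D`. -/
theorem cf_restr_eq_of_isSimpleSubcoalg {D E : Submodule k C} (hD : IsSimpleSubcoalg D)
    (hE : HopfRep.IsSubcomod (k := k) (A := C) E) (hE0 : E ≠ ⊥) (hED : E ≤ D) :
    @cf k C _ _ _ _ E _ _ (ComodSub.Comod.restr (HopfRep.Comod.regular k C) E hE) = D := by
  let _ := ComodSub.Comod.restr (HopfRep.Comod.regular k C) E hE
  have : Nontrivial E := Submodule.nontrivial_iff_ne_bot.2 hE0
  rcases hD.2.2 _ (cf_restr_le hD.2.1 hE hED) isSubcoalg_cf with h | h
  · exact absurd h cf_ne_bot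
  · exact h

end Simple

section Soc

variable {k : Type u} {C : Type v} [Field k] [AddCommGroup C] [Module k C] [Coalgebra k C]
  {V : Type w} [AddCommGroup V] [Module k V] [cV : HopfRep.Comod k C V]
  {W : Type w'} [AddCommGroup W] [Module k W] [cW : HopfRep.Comod k C W]

variable (k C V) in
/-- The socle: the sum of all simple subcomodules. -/
noncomputable def soc : Submodule k V :=
  ⨆ E : {E : Submodule k V // IsSimpleSub cV E}, (E.1 : Submodule k V)

theorem le_soc {E : Submodule k V} (hE : IsSimpleSub cV E) : E ≤ soc k C V :=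
  le_iSup (fun E : {E : Submodule k V // IsSimpleSub cV E} => (E.1 : Submodule k V)) ⟨E, hE⟩

/-- A comodule which is the sum of its simple subcomodules is semisimple. -/
theorem isSemisimpleComod_of_soc_eq_top (h : soc k C V = ⊤) : HopfRep.IsSemisimpleComod k C V := by
  intro U hU
  obtain ⟨T, _, hcompl⟩ := exists_set_iSupIndep_isCompl_of_simple cV
    (fun E : {E : Submodule k V // IsSimpleSub cV E} => (E.1 : Submodule k V))
    (fun E => E.2.1) (fun E => E.2.2) h U hU
  exact ⟨_, isSubcomod_iSup fun j : T => j.1.2.1, hcompl⟩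

theorem soc_eq_top_of_isSemisimpleComod (h : HopfRep.IsSemisimpleComod k C V) :
    soc k C V = ⊤ :=
  iSup_simpleSub_eq_top cV h

/-- The image of a simple subcomodule under a comodule map lies in the socle. -/
theorem map_le_soc {f : W →ₗ[k] V} (hf : Hoch.IsComodHom C f) {E : Submodule k W}
    (hE : IsSimpleSub cW E) : E.map f ≤ soc k C V := by
  let cE : HopfRep.Comod k C E := ComodSub.Comod.restr cW E hE.1
  have hsimple : HopfRep.IsSimpleComod k C E :=
    isSimpleComod_restr_of_minimal cW E hE.1 hE.2.1 hE.2.2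
  have hsub : Hoch.IsComodHom C E.subtype := ComodSub.isComodHom_subtype cW E hE.1
  have hg : Hoch.IsComodHom C (f ∘ₗ E.subtype) := isComodHom_comp' hsub hf
  have hrange : LinearMap.range (f ∘ₗ E.subtype) = E.map f := by
    rw [LinearMap.range_comp, Submodule.range_subtype]
  by_cases h0 : f ∘ₗ E.subtype = 0
  · rw [← hrange, h0, LinearMap.range_zero]
    exact bot_le
  · rw [← hrange]
    exact le_soc (isSimpleSub_range hsimple hg (injective_of_simple hsimple hg h0))

theorem map_soc_le {f : W →ₗ[k] V} (hf : Hoch.IsComodHom C f) :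
    (soc k C W).map f ≤ soc k C V := by
  rw [soc, Submodule.map_iSup]
  exact iSup_le fun E => map_le_soc hf E.2

/-- A comodule covered by images of comodules which are sums of simple subcomodules is a sum of
simple subcomodules. -/
theorem soc_eq_top_of_iSup_range {ι : Sort*} {K : ι → Type w'} [∀ i, AddCommGroup (K i)]
    [∀ i, Module k (K i)] [∀ i, HopfRep.Comod k C (K i)] (hK : ∀ i, soc k C (K i) = ⊤)
    (g : ∀ i, K i →ₗ[k] V) (hg : ∀ i, Hoch.IsComodHom C (g i))
    (hsum : (⨆ i, LinearMap.range (g i)) = ⊤) : soc k C V = ⊤ := by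
  rw [eq_top_iff, ← hsum]
  refine iSup_le fun i => ?_
  rw [← Submodule.map_top, ← hK i]
  exact map_soc_le (hg i)

/-- A comodule admitting an injective comodule map to a semisimple comodule is semisimple. -/
theorem isSemisimpleComod_of_injective {f : W →ₗ[k] V} (hf : Hoch.IsComodHom C f)
    (hinj : Function.Injective f) (hV : HopfRep.IsSemisimpleComod k C V) :
    HopfRep.IsSemisimpleComod k C W := by
  intro U hU
  obtain ⟨U', hU', hcompl⟩ := hV _ (isSubcomod_map hf hU)
  refine ⟨U'.comap f, isSubcomod_comap hf hU', ?_, ?_⟩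
  · rw [disjoint_iff, eq_bot_iff]
    rintro x ⟨hxU, hxU'⟩
    have h3 : f x ∈ U.map f ⊓ U' := ⟨⟨x, hxU, rfl⟩, hxU'⟩
    rw [hcompl.inf_eq_bot, Submodule.mem_bot] at h3
    rw [Submodule.mem_bot]
    exact hinj (by rw [h3, map_zero])
  · rw [codisjoint_iff, eq_top_iff]
    intro w _
    have hw : f w ∈ U.map f ⊔ U' := by rw [hcompl.sup_eq_top]; exact Submodule.mem_top
    obtain ⟨a, ⟨a', ha', rfl⟩, b, hb, hab⟩ := Submodule.mem_sup.mp hw
    have hb' : w - a' ∈ U'.comap f := by
      change f (w - a') ∈ U'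
      rw [map_sub, ← hab, add_sub_cancel_left]
      exact hb
    have : w = a' + (w - a') := by abel
    rw [this]
    exact Submodule.add_mem_sup ha' hb'

end Soc

section Ind

variable {k : Type u} {C : Type v} [Field k] [AddCommGroup C] [Module k C] [Coalgebra k C]
  {P : Type w} [AddCommGroup P] [Module k P]

/-- `c ↦ p ⊗ c` as a map from the regular comodule to the induced comodule. -/
noncomputable def insInd (p : P) : C →ₗ[k] Hoch.Ind k C P :=
  (Hoch.Ind.equiv k C P).toLinearMap ∘ₗ TensorProduct.mk k P C p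

theorem isComodHom_insInd (p : P) : Hoch.IsComodHom C (insInd (k := k) (C := C) p) := by
  apply LinearMap.ext
  intro c
  simp only [LinearMap.coe_comp, Function.comp_apply]
  change (TensorProduct.assoc k P C C).symm (p ⊗ₜ[k] CoalgebraStruct.comul (R := k) c) =
    (insInd (k := k) (C := C) p).rTensor C (CoalgebraStruct.comul (R := k) c)
  generalize CoalgebraStruct.comul (R := k) c = t
  induction t using TensorProduct.induction_on with
  | zero => simp only [TensorProduct.tmul_zero, map_zero]; rfl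
  | add x y hx hy => simp only [TensorProduct.tmul_add, map_add, hx, hy]; rfl
  | tmul a b => rfl

omit [Coalgebra k C] in
theorem iSup_range_insInd : (⨆ p : P, LinearMap.range (insInd (k := k) (C := C) p)) = ⊤ := by
  rw [eq_top_iff]
  intro x _
  induction x using TensorProduct.induction_on with
  | zero => exact Submodule.zero_mem _
  | add x y hx hy => exact Submodule.add_mem _ (hx Submodule.mem_top) (hy Submodule.mem_top)
  | tmul p c => exact (le_iSup (fun p : P => LinearMap.range (insInd (k := k) (C := C) p)) p) ⟨c, rfl⟩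

/-- If the regular comodule is a sum of simple subcomodules, every comodule is semisimple. -/
theorem isSemisimpleComod_of_soc_regular_eq_top (h : soc k C C = ⊤)
    (V : Type w) [AddCommGroup V] [Module k V] [HopfRep.Comod k C V] :
    HopfRep.IsSemisimpleComod k C V := by
  have hInd : soc k C (Hoch.Ind k C V) = ⊤ :=
    soc_eq_top_of_iSup_range (K := fun _ : V => C) (fun _ => h) (fun p => insInd p)
      (fun p => isComodHom_insInd p) iSup_range_insInd
  exact isSemisimpleComod_of_injective (isComodHom_toInd (k := k) (A := C) (V := V))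
    toInd_injective (isSemisimpleComod_of_soc_eq_top hInd)

end Ind

section Cosemisimple

variable {k : Type u} {C : Type v} [Field k] [AddCommGroup C] [Module k C] [Coalgebra k C]
  {V : Type w} [AddCommGroup V] [Module k V] [cV : HopfRep.Comod k C V]
  {W : Type w'} [AddCommGroup W] [Module k W] [cW : HopfRep.Comod k C W]

/-- The coefficient space of a simple comodule lies in the socle of the regular comodule. -/
theorem cf_le_soc (hV : HopfRep.IsSimpleComod k C V) : cf k C V ≤ soc k C C := by
  refine iSup_le fun ψ => ?_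
  by_cases h0 : cfm C ψ = 0
  · rw [h0, LinearMap.range_zero]
    exact bot_le
  · exact le_soc (isSimpleSub_range hV (isComodHom_cfm ψ)
      (injective_of_simple hV (isComodHom_cfm ψ) h0))

/-- A simple subcoalgebra lies in the socle of the regular comodule. -/
theorem le_soc_of_isSimpleSubcoalg {D : Submodule k C} (hD : IsSimpleSubcoalg D) :
    D ≤ soc k C C := by
  obtain ⟨E, hED, hE⟩ := exists_simpleSub_le (HopfRep.Comod.regular k C) D
    (isSubcomod_of_isSubcoalg hD.2.1) hD.1
  let cE : HopfRep.Comod k C E := ComodSub.Comod.restr (HopfRep.Comod.regular k C) E hE.1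
  have hsimple : HopfRep.IsSimpleComod k C E :=
    isSimpleComod_restr_of_minimal (HopfRep.Comod.regular k C) E hE.1 hE.2.1 hE.2.2
  rw [← cf_restr_eq_of_isSimpleSubcoalg hD hE.1 hE.2.1 hED]
  exact cf_le_soc hsimple

/-- A simple subcomodule of the regular comodule contained in a sum of simple subcoalgebras has
one of them as its coefficient space. -/
theorem exists_cf_eq_of_le_iSup {ι : Type*} (D : ι → Submodule k C)
    (hD : ∀ i, IsSimpleSubcoalg (D i)) {E : Submodule k C}
    (hE : IsSimpleSub (HopfRep.Comod.regular k C) E) (hle : E ≤ ⨆ i, D i) :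
    ∃ i, @cf k C _ _ _ _ E _ _ (ComodSub.Comod.restr (HopfRep.Comod.regular k C) E hE.1) = D i := by
  have hpick : ∀ i, ∃ F : Submodule k C, F ≤ D i ∧ IsSimpleSub (HopfRep.Comod.regular k C) F :=
    fun i => exists_simpleSub_le (HopfRep.Comod.regular k C) (D i)
      (isSubcomod_of_isSubcoalg (hD i).2.1) (hD i).1
  choose F hFle hF using hpick
  let cE : HopfRep.Comod k C E := ComodSub.Comod.restr (HopfRep.Comod.regular k C) E hE.1
  have hEsimple : HopfRep.IsSimpleComod k C E :=
    isSimpleComod_restr_of_minimal (HopfRep.Comod.regular k C) E hE.1 hE.2.1 hE.2.2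
  let cF : ∀ x : (Σ i, (F i →ₗ[k] k)), HopfRep.Comod k C (F x.1) := fun x =>
    ComodSub.Comod.restr (HopfRep.Comod.regular k C) (F x.1) (hF x.1).1
  have hFsimple : ∀ x : (Σ i, (F i →ₗ[k] k)), HopfRep.IsSimpleComod k C (F x.1) := fun x =>
    isSimpleComod_restr_of_minimal (HopfRep.Comod.regular k C) (F x.1) (hF x.1).1 (hF x.1).2.1
      (hF x.1).2.2
  have hcf : ∀ i, @cf k C _ _ _ _ (F i) _ _
      (ComodSub.Comod.restr (HopfRep.Comod.regular k C) (F i) (hF i).1) = D i := fun i =>
    cf_restr_eq_of_isSimpleSubcoalg (hD i) (hF i).1 (hF i).2.1 (hFle i)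
  have hsub : Hoch.IsComodHom C E.subtype :=
    ComodSub.isComodHom_subtype (HopfRep.Comod.regular k C) E hE.1
  have hne : E.subtype ≠ 0 := by
    intro h0
    apply hE.2.1
    rw [eq_bot_iff]
    intro x hx
    have : E.subtype ⟨x, hx⟩ = 0 := by rw [h0]; rfl
    simpa using this
  have hle' : LinearMap.range E.subtype ≤
      ⨆ x : (Σ i, (F i →ₗ[k] k)), LinearMap.range (cfm C x.2) := by
    rw [Submodule.range_subtype]
    refine hle.trans (iSup_le fun i => ?_)
    rw [← hcf i]
    exact iSup_le fun ψ =>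
      le_iSup (fun x : (Σ i, (F i →ₗ[k] k)) => LinearMap.range (cfm C x.2)) ⟨i, ψ⟩
  obtain ⟨x, e, he⟩ := exists_iso_of_le_iSup_range (K := fun x : (Σ i, (F i →ₗ[k] k)) => F x.1)
    hFsimple (fun x => cfm C x.2) (fun x => isComodHom_cfm x.2) hEsimple E.subtype hsub hne hle'
  exact ⟨x.1, (cf_eq_of_equiv e he).trans (hcf x.1)⟩

/-- Distinct simple subcoalgebras are independent. -/
theorem iSupIndep_of_isSimpleSubcoalg {ι : Type*} (D : ι → Submodule k C)
    (hD : ∀ i, IsSimpleSubcoalg (D i)) (hinj : Function.Injective D) : iSupIndep D := by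
  intro i
  rw [disjoint_iff]
  by_contra hne
  have hsub : ∀ j, HopfRep.IsSubcomod (k := k) (A := C) (D j) := fun j =>
    isSubcomod_of_isSubcoalg (hD j).2.1
  have hX : HopfRep.IsSubcomod (k := k) (A := C) (D i ⊓ ⨆ (j) (_ : j ≠ i), D j) :=
    isSubcomod_inf (hsub i) (isSubcomod_iSup fun j => isSubcomod_iSup fun _ => hsub j)
  obtain ⟨E, hEX, hE⟩ := exists_simpleSub_le (HopfRep.Comod.regular k C) _ hX hne
  have h1 := cf_restr_eq_of_isSimpleSubcoalg (hD i) hE.1 hE.2.1 (hEX.trans inf_le_left)
  have hle : E ≤ ⨆ j : {j // j ≠ i}, D j.1 := by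
    refine (hEX.trans inf_le_right).trans ?_
    rw [iSup_subtype']
  obtain ⟨j, hj⟩ := exists_cf_eq_of_le_iSup (fun j : {j // j ≠ i} => D j.1) (fun j => hD j.1) hE hle
  exact j.2 (hinj (hj.symm.trans h1))

/-- Simple comodules with comparable coefficient spaces are isomorphic. -/
theorem exists_iso_of_cf_le (hV : HopfRep.IsSimpleComod k C V) (hW : HopfRep.IsSimpleComod k C W)
    (h : cf k C W ≤ cf k C V) : ∃ e : V ≃ₗ[k] W, Hoch.IsComodHom C (e : V →ₗ[k] W) := by
  have := hW.1
  have hex : ∃ ψ' : W →ₗ[k] k, cfm C ψ' ≠ 0 := by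
    by_contra hcon
    push Not at hcon
    apply cf_ne_bot (k := k) (C := C) (V := W)
    rw [eq_bot_iff]
    refine iSup_le fun ψ => ?_
    rw [hcon ψ, LinearMap.range_zero]
  obtain ⟨ψ', hψ'⟩ := hex
  have hle : LinearMap.range (cfm C ψ') ≤ ⨆ ψ : V →ₗ[k] k, LinearMap.range (cfm C ψ) :=
    (range_le_cf (isComodHom_cfm ψ')).trans h
  obtain ⟨_, e, he⟩ := exists_iso_of_le_iSup_range (K := fun _ : (V →ₗ[k] k) => V)
    (fun _ => hV) (fun ψ => cfm C ψ) (fun ψ => isComodHom_cfm ψ) hW (cfm C ψ')
    (isComodHom_cfm ψ') hψ' hle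
  exact ⟨e.symm, isComodHom_symm e he⟩

/-- There are no nonzero comodule maps between comodules with coefficients in distinct simple
subcoalgebras. -/
theorem eq_zero_of_cf_le {D₁ D₂ : Submodule k C} (hD₁ : IsSimpleSubcoalg D₁)
    (hD₂ : IsSimpleSubcoalg D₂) (hne : D₁ ≠ D₂) (hV : cf k C V ≤ D₁) (hW : cf k C W ≤ D₂)
    {φ : V →ₗ[k] W} (hφ : Hoch.IsComodHom C φ) : φ = 0 := by
  by_contra hφ0
  have hR : HopfRep.IsSubcomod (k := k) (A := C) (LinearMap.range φ) := isSubcomod_range hφ
  let cR : HopfRep.Comod k C (LinearMap.range φ) := ComodSub.Comod.restr cW _ hR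
  have hφ' : Hoch.IsComodHom C (φ.codRestrict (LinearMap.range φ) fun v => ⟨v, rfl⟩) :=
    isComodHom_codRestrict cW _ hR φ hφ _
  have hsurj : Function.Surjective (φ.codRestrict (LinearMap.range φ) fun v => ⟨v, rfl⟩) := by
    rintro ⟨_, v, rfl⟩
    exact ⟨v, rfl⟩
  have h1 : cf k C (LinearMap.range φ) ≤ D₁ := (cf_le_of_surjective hφ' hsurj).trans hV
  have h2 : cf k C (LinearMap.range φ) ≤ D₂ :=
    (cf_le_of_injective (ComodSub.isComodHom_subtype cW _ hR)
      (LinearMap.range φ).injective_subtype).trans hW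
  have hnt : Nontrivial (LinearMap.range φ) := by
    rw [Submodule.nontrivial_iff_ne_bot]
    intro h0
    exact hφ0 (LinearMap.range_eq_bot.1 h0)
  have h0 : cf k C (LinearMap.range φ) ≠ ⊥ := cf_ne_bot
  rcases hD₁.2.2 _ h1 isSubcoalg_cf with h | h
  · exact h0 h
  rcases hD₂.2.2 _ h2 isSubcoalg_cf with h' | h'
  · exact h0 h'
  exact hne (h.symm.trans h')

/-- The regular comodule of a coalgebra with `cf V = ⊤` for a simple comodule `V` is a direct
sum of copies of `V`. -/
theorem exists_indep_family_of_cf_eq_top (hV : HopfRep.IsSimpleComod k C V)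
    (htop : cf k C V = ⊤) :
    ∃ (ι : Type v) (f : ι → (V →ₗ[k] C)),
      (∀ i, Hoch.IsComodHom C (f i) ∧ Function.Injective (f i)) ∧
        iSupIndep (fun i => LinearMap.range (f i)) ∧ (⨆ i, LinearMap.range (f i)) = ⊤ := by
  classical
  let 𝒮 := {S : Submodule k C // ∃ ψ : V →ₗ[k] k, cfm C ψ ≠ 0 ∧ LinearMap.range (cfm C ψ) = S}
  have hspec : ∀ s : 𝒮, cfm C s.2.choose ≠ 0 ∧ LinearMap.range (cfm C s.2.choose) = s.1 :=
    fun s => s.2.choose_spec
  have hsimple : ∀ s : 𝒮, IsSimpleSub (HopfRep.Comod.regular k C) s.1 := fun s => by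
    rw [← (hspec s).2]
    exact isSimpleSub_range hV (isComodHom_cfm _)
      (injective_of_simple hV (isComodHom_cfm _) (hspec s).1)
  have hsum : (⨆ s : 𝒮, (s.1 : Submodule k C)) = ⊤ := by
    rw [eq_top_iff, ← htop]
    refine iSup_le fun ψ => ?_
    by_cases h0 : cfm C ψ = 0
    · rw [h0, LinearMap.range_zero]
      exact bot_le
    · exact le_iSup (fun s : 𝒮 => (s.1 : Submodule k C)) ⟨_, ψ, h0, rfl⟩
  obtain ⟨J, hJ, hcompl⟩ := exists_set_iSupIndep_isCompl_of_simple (HopfRep.Comod.regular k C)
    (fun s : 𝒮 => (s.1 : Submodule k C)) (fun s => (hsimple s).1) (fun s => (hsimple s).2) hsum ⊥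
    isSubcomod_bot
  refine ⟨J, fun j => cfm C j.1.2.choose, fun j => ⟨isComodHom_cfm _,
    injective_of_simple hV (isComodHom_cfm _) (hspec j.1).1⟩, ?_, ?_⟩
  · have : (fun j : J => LinearMap.range (cfm C j.1.2.choose)) = fun j : J => (j.1.1 : Submodule k C) :=
      funext fun j => (hspec j.1).2
    rw [this]
    exact hJ
  · have : (fun j : J => LinearMap.range (cfm C j.1.2.choose)) = fun j : J => (j.1.1 : Submodule k C) :=
      funext fun j => (hspec j.1).2
    rw [this]
    have := hcompl.sup_eq_top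
    rwa [bot_sup_eq] at this

end Cosemisimple

end Groth.Agent.Lib.CoeffSpace
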