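import Groth.Agent.Lib.ComodSS
import Mathlib.Order.CompactlyGenerated.Intervals

/-!
# Comodule theory XII (helper41): semisimplicity of arbitrary comodules, retractions

* `exists_rel_compl_of_isSemisimpleComod_restr`: relative complements inside a subcomodule whose
  induced comodule is semisimple.
* `isSemisimpleComod_of_forall_finite`: if all finite-dimensional subcomodules are semisimple, the
  comodule is semisimple.
* `exists_retraction_of_isSemisimpleComod`: an injective comodule map into a semisimple comodule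
  has a comodule retraction.
-/

set_option autoImplicit false
universe u v w w'

open TensorProduct

namespace Groth.Agent.Lib.Comod

section Rel

variable {k : Type u} {C : Type v} [Field k] [AddCommGroup C] [Module k C] [Coalgebra k C]
  {M : Type w} [AddCommGroup M] [Module k M]

/-- Relative complements inside a subcomodule `X` whose induced comodule is semisimple. -/
theorem exists_rel_compl_of_isSemisimpleComod_restr (c : HopfRep.Comod k C M)
    (X : Submodule k M) (hX : @HopfRep.IsSubcomod k C _ _ _ _ M _ _ c X)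
    (hss : @HopfRep.IsSemisimpleComod k C _ _ _ _ X _ _ (ComodSub.Comod.restr c X hX))
    (U : Submodule k M) (hU : @HopfRep.IsSubcomod k C _ _ _ _ M _ _ c U) (hUX : U ≤ X) :
    ∃ W : Submodule k M, @HopfRep.IsSubcomod k C _ _ _ _ M _ _ c W ∧ W ≤ X ∧ U ⊓ W = ⊥ ∧
      U ⊔ W = X := by
  have hsub := ComodSub.isComodHom_subtype c X hX
  have hU0 : @HopfRep.IsSubcomod k C _ _ _ _ X _ _ (ComodSub.Comod.restr c X hX)
      (U.comap X.subtype) := by
    let _ := c
    let _ := ComodSub.Comod.restr c X hX
    exact isSubcomod_comap hsub hU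
  obtain ⟨W0, hW0, hcompl⟩ := hss _ hU0
  have hW : @HopfRep.IsSubcomod k C _ _ _ _ M _ _ c (W0.map X.subtype) := by
    let _ := c
    let _ := ComodSub.Comod.restr c X hX
    exact isSubcomod_map hsub hW0
  have hUmap : (U.comap X.subtype).map X.subtype = U := by
    rw [Submodule.map_comap_subtype]
    exact inf_eq_right.mpr hUX
  refine ⟨W0.map X.subtype, hW, ?_, ?_, ?_⟩
  · exact (Submodule.map_subtype_le X W0)
  · rw [← hUmap, ← Submodule.map_inf _ X.injective_subtype, hcompl.inf_eq_bot, Submodule.map_bot]
  · rw [← hUmap, ← Submodule.map_sup, hcompl.sup_eq_top, Submodule.map_subtype_top]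

/-- If all finite-dimensional subcomodules are semisimple, the comodule is semisimple. -/
theorem isSemisimpleComod_of_forall_finite (c : HopfRep.Comod k C M)
    (h : ∀ (X : Submodule k M) (hX : @HopfRep.IsSubcomod k C _ _ _ _ M _ _ c X),
      Module.Finite k X →
        @HopfRep.IsSemisimpleComod k C _ _ _ _ X _ _ (ComodSub.Comod.restr c X hX)) :
    @HopfRep.IsSemisimpleComod k C _ _ _ _ M _ _ c := by
  let ι := {X : Submodule k M // @HopfRep.IsSubcomod k C _ _ _ _ M _ _ c X ∧ Module.Finite k X}
  let f : ι → Submodule (DualAlg k C) (AsDualMod c) := fun i => toDualSub c i.1 i.2.1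
  have h1 : ∀ i ∈ (Set.univ : Set ι), ComplementedLattice (Set.Iic (f i)) := by
    intro i _
    rw [Set.Iic.complementedLattice_iff]
    intro b hb
    have hbX : ofDualSub c b ≤ i.1 := by
      rw [← ofDualSub_toDualSub c i.1 i.2.1, ofDualSub_le_iff]
      exact hb
    obtain ⟨W, hW, hWX, hinf, hsup⟩ := exists_rel_compl_of_isSemisimpleComod_restr c i.1 i.2.1
      (h i.1 i.2.1 i.2.2) (ofDualSub c b) (isSubcomod_ofDualSub c b) hbX
    refine ⟨toDualSub c W hW, ?_, ?_, ?_⟩
    · rw [← ofDualSub_le_iff c, ofDualSub_toDualSub, ofDualSub_toDualSub]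
      exact hWX
    · apply ofDualSub_injective c
      rw [ofDualSub_inf, ofDualSub_toDualSub, ofDualSub_bot, hinf]
    · apply ofDualSub_injective c
      rw [ofDualSub_sup, ofDualSub_toDualSub, ofDualSub_toDualSub, hsup]
  have h2 : ⨆ i ∈ (Set.univ : Set ι), f i = ⊤ := by
    apply ofDualSub_injective c
    rw [ofDualSub_top, eq_top_iff]
    intro x _
    let _ := c
    obtain ⟨X, hfin, hxX, hX⟩ := exists_finite_subcomod_mem (k := k) (C := C) (V := M) x
    have hle : f ⟨X, hX, hfin⟩ ≤ ⨆ i ∈ (Set.univ : Set ι), f i :=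
      le_biSup f (Set.mem_univ (⟨X, hX, hfin⟩ : ι))
    have : x ∈ ofDualSub c (f ⟨X, hX, hfin⟩) := by
      rw [ofDualSub_toDualSub]
      exact hxX
    exact (ofDualSub_le_iff c).mpr hle this
  have hcl : ComplementedLattice (Submodule (DualAlg k C) (AsDualMod c)) :=
    complementedLattice_of_complementedLattice_Iic h1 h2
  intro W hW
  obtain ⟨W', hW'⟩ := exists_isCompl (toDualSub c W hW)
  refine ⟨ofDualSub c W', isSubcomod_ofDualSub c W', ?_⟩
  have := (isCompl_ofDualSub c).mpr hW'
  rwa [ofDualSub_toDualSub] at this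

end Rel

section Retraction

variable {k : Type u} {C : Type v} [Field k] [AddCommGroup C] [Module k C] [Coalgebra k C]
  {V : Type w} [AddCommGroup V] [Module k V] {W : Type w'} [AddCommGroup W] [Module k W]

/-- An injective comodule map into a semisimple comodule has a comodule retraction. -/
theorem exists_retraction_of_isSemisimpleComod (cV : HopfRep.Comod k C V)
    (cW : HopfRep.Comod k C W) (f : V →ₗ[k] W)
    (hf : @Hoch.IsComodHom k _ C _ _ _ V _ _ cV W _ _ cW f) (hinj : Function.Injective f)
    (hss : @HopfRep.IsSemisimpleComod k C _ _ _ _ W _ _ cW) :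
    ∃ r : W →ₗ[k] V, @Hoch.IsComodHom k _ C _ _ _ W _ _ cW V _ _ cV r ∧ r ∘ₗ f = LinearMap.id := by
  let _ := cV
  let _ := cW
  have hR : HopfRep.IsSubcomod (k := k) (A := C) (LinearMap.range f) := isSubcomod_range hf
  obtain ⟨Q, hQ, hcompl⟩ := hss _ hR
  let e : V ≃ₗ[k] LinearMap.range f := LinearEquiv.ofInjective f hinj
  let pr : W →ₗ[k] LinearMap.range f := Submodule.projectionOnto _ _ hcompl
  have hrf : ∀ v : V, e.symm (pr (f v)) = v := by
    intro v
    have : pr (f v) = e v := by
      have := Submodule.projectionOnto_apply_left hcompl (e v)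
      exact this
    rw [this, LinearEquiv.symm_apply_apply]
  refine ⟨e.symm.toLinearMap ∘ₗ pr, ?_, ?_⟩
  · apply isComodHom_of_act_comm
    intro φ x
    -- decompose `x = f v + q`
    have hx : x ∈ LinearMap.range f ⊔ Q := by
      rw [hcompl.sup_eq_top]
      exact Submodule.mem_top
    obtain ⟨y, ⟨v, rfl⟩, q, hq, rfl⟩ := Submodule.mem_sup.mp hx
    have hq0 : ∀ q' ∈ Q, pr q' = 0 := fun q' hq' =>
      (Submodule.projectionOnto_apply_of_mem_right hcompl hq')
    have hactq : act W φ q ∈ Q := act_mem_of_isSubcomod hQ φ hq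
    rw [LinearMap.comp_apply, LinearEquiv.coe_coe, map_add, hq0 q hq, add_zero, hrf,
      LinearMap.comp_apply, LinearEquiv.coe_coe, map_add, map_add, hq0 _ hactq, add_zero,
      IsComodHom.act_comm hf, hrf]
  · apply LinearMap.ext
    intro v
    exact hrf v

end Retraction

end Groth.Agent.Lib.Comod
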