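import Mathlib.RingTheory.HopfAlgebra.Convolution
import Mathlib.RingTheory.Bialgebra.TensorProduct
import Mathlib.RingTheory.HopfAlgebra.Basic

/-!
# Hopf algebras (helper41): the antipode of a commutative Hopf algebra reverses comultiplication

`comul_antipode`: `Δ (S a) = (S ⊗ S) (τ (Δ a))`, proved through the group of `A ⊗ A`-valued points
(`(g h)⁻¹ = h⁻¹ g⁻¹` for the two coordinate points).
-/

set_option autoImplicit false
universe u v

open TensorProduct WithConv

namespace Groth.Agent.Lib.HopfAntipode

variable {k : Type u} [CommRing k] {A : Type v} [CommRing A] [HopfAlgebra k A]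

theorem lift_comp_antipode_apply (t : A ⊗[k] A) :
    Algebra.TensorProduct.lift
        ((Algebra.TensorProduct.includeRight : A →ₐ[k] A ⊗[k] A).comp
          (HopfAlgebra.antipodeAlgHom k A))
        ((Algebra.TensorProduct.includeLeft : A →ₐ[k] A ⊗[k] A).comp
          (HopfAlgebra.antipodeAlgHom k A))
        (fun _ _ => Commute.all _ _) t =
      TensorProduct.map (HopfAlgebraStruct.antipode k (A := A)) (HopfAlgebraStruct.antipode k (A := A))
        (TensorProduct.comm k A A t) := by
  induction t using TensorProduct.induction_on with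
  | zero => simp
  | add x y hx hy => simp only [map_add, hx, hy]
  | tmul x y =>
    simp [Algebra.TensorProduct.tmul_mul_tmul]

/-- The antipode of a commutative Hopf algebra reverses the comultiplication. -/
theorem comul_antipode (a : A) :
    CoalgebraStruct.comul (R := k) (HopfAlgebraStruct.antipode k a) =
      TensorProduct.map (HopfAlgebraStruct.antipode k (A := A)) (HopfAlgebraStruct.antipode k (A := A))
        (TensorProduct.comm k A A (CoalgebraStruct.comul (R := k) a)) := by
  let g : WithConv (A →ₐ[k] A ⊗[k] A) := toConv Algebra.TensorProduct.includeLeft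
  let h : WithConv (A →ₐ[k] A ⊗[k] A) := toConv Algebra.TensorProduct.includeRight
  have h1 : g * h = toConv (Bialgebra.comulAlgHom k A) := by
    apply WithConv.ofConv_injective
    apply AlgHom.ext
    intro x
    have := AlgHom.convMul_apply g h x
    rw [show (g * h).ofConv x = (g * h) x from rfl, this]
    have hl : Algebra.TensorProduct.lift g.ofConv h.ofConv (fun _ _ => Commute.all _ _) =
        AlgHom.id k (A ⊗[k] A) := by
      apply Algebra.TensorProduct.ext <;> ext <;> simp [g, h]
    rw [hl]
    rfl
  have h2 : (g * h)⁻¹ = h⁻¹ * g⁻¹ := mul_inv_rev g h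
  rw [h1] at h2
  have h3 := congrArg (fun f : WithConv (A →ₐ[k] A ⊗[k] A) => f a) h2
  have h4 : (h⁻¹ * g⁻¹) a = _ := AlgHom.convMul_apply h⁻¹ g⁻¹ a
  rw [h4] at h3
  have h5 := lift_comp_antipode_apply (k := k) (CoalgebraStruct.comul (R := k) a)
  exact h3.trans h5

end Groth.Agent.Lib.HopfAntipode
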