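import Groth.Agent.Lib.ComodFP
import Groth.Agent.Lib.ComodSS2
import Groth.Agent.Lib.HopfAntipode

/-!
# Comodule theory XVI (helper41): integrals and semisimplicity

* `FPat`, `exists_isCompl_of_FPat`: universe-generic versions of `ComodFP.FP`,
  `ComodFP.exists_isCompl_of_FP`.
* `antipode_antipode`: `S ∘ S = id` for a commutative Hopf algebra.
* `slice_comp_antipode_of_isComodHom`: a comodule map `α : A → k` gives the opposite-sided
  integral `β = α ∘ S`: `Σ a₁ β(a₂) = β(a) 1`.
* `act_mem_fixedPts_of_slice`, `fpat_of_integral`, `isSemisimpleComod_of_integral`.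
-/

set_option autoImplicit false
universe u v w

open TensorProduct

namespace Groth.Agent.Lib.ComodFP2

open Groth.Agent.Lib.Comod Groth.Agent.Lib.ComodHomFix

variable {k : Type u} [Field k] {A : Type v} [CommRing A] [HopfAlgebra k A]

/-- The fixed-vector property, for comodules in the universe `w`. -/
def FPat (k : Type u) [Field k] (A : Type v) [CommRing A] [HopfAlgebra k A] : Prop :=
  ∀ (X : Type w) [AddCommGroup X] [Module k X] [HopfRep.Comod k A X], Module.Finite k X →
    ∀ π : X →ₗ[k] k, Function.Surjective π →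
      LinearMap.rTensor A π ∘ₗ HopfRep.Comod.coact (k := k) (A := A) (V := X) =
        (TensorProduct.mk k k A).flip (1 : A) ∘ₗ π →
      ∃ x ∈ HopfRep.fixedPts k A X, π x ≠ 0

section Main

variable {V : Type w} [AddCommGroup V] [Module k V] [Module.Finite k V]
  (c : HopfRep.Comod k A V) (W : Submodule k V)
  (hW : @HopfRep.IsSubcomod k A _ _ _ _ V _ _ c W)

/-- The maps `V → W` restricting to a scalar on `W`. -/
def scalarOn : Submodule k (V →ₗ[k] W) where
  carrier := {h | ∃ r : k, h ∘ₗ W.subtype = r • LinearMap.id}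
  add_mem' := by
    rintro h h' ⟨r, hr⟩ ⟨r', hr'⟩
    exact ⟨r + r', by rw [LinearMap.add_comp, hr, hr', add_smul]⟩
  zero_mem' := ⟨0, by rw [LinearMap.zero_comp, zero_smul]⟩
  smul_mem' := by
    rintro a h ⟨r, hr⟩
    exact ⟨a * r, by rw [LinearMap.smul_comp, hr, smul_smul]⟩

omit [Module.Finite k V] in
theorem contr_twistHom_id (φ : A →ₗ[k] k) :
    contr W φ ∘ₗ twistHom (ComodSub.Comod.restr c W hW) (ComodSub.Comod.restr c W hW)
      (LinearMap.id : W →ₗ[k] W) = φ 1 • LinearMap.id := by
  rw [twistHom_eq_of_isComodHom _ _ (isComodHom_id' (ComodSub.Comod.restr c W hW))]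
  apply LinearMap.ext
  intro w
  simp

/-- The action of the dual algebra on `Hom(V, W)` followed by restriction to `W`. -/
theorem act_homComod_comp_subtype (φ : A →ₗ[k] k) (h : V →ₗ[k] W) (r : k)
    (hr : h ∘ₗ W.subtype = r • LinearMap.id) :
    (@act k A _ _ _ _ (V →ₗ[k] W) _ _ (homComod c (ComodSub.Comod.restr c W hW)) φ h) ∘ₗ
      W.subtype = (φ 1 * r) • LinearMap.id := by
  rw [act_homComod, LinearMap.comp_assoc,
    ← twistHom_comp c (ComodSub.Comod.restr c W hW) (ComodSub.Comod.restr c W hW) W.subtype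
      (ComodSub.isComodHom_subtype c W hW) h, hr, twistHom_smul, LinearMap.comp_smul,
    contr_twistHom_id, smul_smul, mul_comm]

theorem isSubcomod_scalarOn :
    @HopfRep.IsSubcomod k A _ _ _ _ (V →ₗ[k] W) _ _
      (homComod c (ComodSub.Comod.restr c W hW)) (scalarOn W) := by
  let _ := homComod c (ComodSub.Comod.restr c W hW)
  rw [isSubcomod_iff_act]
  rintro φ h ⟨r, hr⟩
  exact ⟨φ 1 * r, act_homComod_comp_subtype c W hW φ h r hr⟩

end Main

section Final

variable {V : Type w} [AddCommGroup V] [Module k V] [Module.Finite k V]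
  (c : HopfRep.Comod k A V) (W : Submodule k V)
  (hW : @HopfRep.IsSubcomod k A _ _ _ _ V _ _ c W)

omit [Module.Finite k V] in
theorem act_trivial (φ : A →ₗ[k] k) (t : k) :
    @act k A _ _ _ _ k _ _ (HopfRep.Comod.trivial k A k) φ t = φ 1 • t := by
  show contr k φ (t ⊗ₜ[k] (1 : A)) = φ 1 • t
  rw [contr_tmul]

include hW in
/-- The fixed-vector property implies that subcomodules of finite-dimensional comodules have
complementary subcomodules. -/
theorem exists_isCompl_of_FPat (hFP : FPat.{u, v, w} k A) :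
    ∃ W' : Submodule k V, @HopfRep.IsSubcomod k A _ _ _ _ V _ _ c W' ∧ IsCompl W W' := by
  by_cases hW0 : W = ⊥
  · refine ⟨⊤, ?_, by rw [hW0]; exact isCompl_bot_top⟩
    let _ := c
    exact isSubcomod_top
  obtain ⟨w₀, hw₀W, hw₀⟩ := (Submodule.ne_bot_iff W).mp hW0
  have hw₀' : (⟨w₀, hw₀W⟩ : W) ≠ 0 := fun h => hw₀ (congrArg Subtype.val h)
  obtain ⟨ξ, hξ⟩ := Module.Projective.exists_dual_eq_one k hw₀'
  set cW := ComodSub.Comod.restr c W hW with hcW
  set cHom := homComod c cW with hcHom
  have hH' := isSubcomod_scalarOn c W hW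
  set cH' := ComodSub.Comod.restr cHom (scalarOn W) hH' with hcH'
  -- the functional `π`
  let π : scalarOn W →ₗ[k] k :=
    ξ ∘ₗ (LinearMap.applyₗ w₀ : (V →ₗ[k] W) →ₗ[k] W) ∘ₗ (scalarOn W).subtype
  have hπ : ∀ (h : scalarOn W) (r : k), h.1 ∘ₗ W.subtype = r • LinearMap.id → π h = r := by
    intro h r hr
    have h1 : h.1 w₀ = r • (⟨w₀, hw₀W⟩ : W) := by
      have := LinearMap.congr_fun hr ⟨w₀, hw₀W⟩
      simpa using this
    show ξ (h.1 w₀) = r
    rw [h1, map_smul, hξ, smul_eq_mul, mul_one]
  -- surjectivity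
  obtain ⟨r₀, hr₀⟩ := LinearMap.exists_leftInverse_of_injective W.subtype
    (LinearMap.ker_eq_bot.mpr W.injective_subtype)
  have hr₀mem : r₀ ∈ scalarOn W := ⟨1, by rw [hr₀, one_smul]⟩
  have hπsurj : Function.Surjective π := by
    intro t
    refine ⟨t • ⟨r₀, hr₀mem⟩, ?_⟩
    rw [map_smul, hπ ⟨r₀, hr₀mem⟩ 1 (by rw [hr₀, one_smul]), smul_eq_mul, mul_one]
  -- comodule map to the trivial comodule
  have hπhom : @Hoch.IsComodHom k _ A _ _ _ (scalarOn W) _ _ cH' k _ _
      (HopfRep.Comod.trivial k A k) π := by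
    let _ := cH'
    let _ := HopfRep.Comod.trivial k A k
    apply isComodHom_of_act_comm
    intro φ h
    obtain ⟨r, hr⟩ := h.2
    have hsub := ComodSub.isComodHom_subtype cHom (scalarOn W) hH'
    have hact : ((act (scalarOn W) φ h : scalarOn W) : V →ₗ[k] W) =
        @act k A _ _ _ _ (V →ₗ[k] W) _ _ cHom φ h.1 := by
      have := @IsComodHom.act_comm k A _ _ _ _ (scalarOn W) _ _ cH' (V →ₗ[k] W) _ _ cHom
        (scalarOn W).subtype hsub φ h
      exact this.symm
    have h2 : π (act (scalarOn W) φ h) = φ 1 * r := by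
      apply hπ
      rw [hact]
      exact act_homComod_comp_subtype c W hW φ h.1 r hr
    rw [h2, hπ h r hr]
    exact act_trivial φ r
  have hπeq : LinearMap.rTensor A π ∘ₗ cH'.coact = (TensorProduct.mk k k A).flip (1 : A) ∘ₗ π :=
    hπhom.symm
  obtain ⟨x, hxfix, hxne⟩ := @hFP (scalarOn W) _ _ cH' inferInstance π hπsurj hπeq
  obtain ⟨r, hr⟩ := x.2
  have hxr : π x = r := hπ x r hr
  -- `x` is fixed in `Hom(V, W)`, hence a comodule map
  have hxfix' : x.1 ∈ @HopfRep.fixedPts k A _ _ _ (V →ₗ[k] W) _ _ cHom := by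
    have h1 := ComodSub.restr_coact_coe cHom (scalarOn W) hH' x
    have h2 : cH'.coact x = x ⊗ₜ[k] (1 : A) := hxfix
    rw [h2, LinearMap.rTensor_tmul] at h1
    exact h1.symm
  have hxhom := (mem_fixedPts_homComod_iff c cW x.1).mp hxfix'
  have hr0 : r ≠ 0 := by rw [← hxr]; exact hxne
  refine exists_isCompl_of_retraction c W hW (r⁻¹ • x.1) (isComodHom_smul' c cW r⁻¹ hxhom) ?_
  intro w
  have := LinearMap.congr_fun hr w
  simp only [LinearMap.comp_apply, Submodule.subtype_apply, LinearMap.smul_apply,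
    LinearMap.id_apply] at this
  rw [LinearMap.smul_apply, this, smul_smul, inv_mul_cancel₀ hr0, one_smul]

end Final

section Antipode

variable {k : Type u} [CommRing k] {A : Type v} [CommRing A] [HopfAlgebra k A]

open WithConv

/-- The antipode of a commutative Hopf algebra is an involution. -/
theorem antipode_antipode (a : A) :
    HopfAlgebraStruct.antipode k (HopfAlgebraStruct.antipode k a) = a := by
  let g : WithConv (A →ₐ[k] A) := toConv (AlgHom.id k A)
  have h1 : g⁻¹ = toConv (HopfAlgebra.antipodeAlgHom k A) := by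
    show toConv ((AlgHom.id k A).comp (HopfAlgebra.antipodeAlgHom k A)) = _
    rw [AlgHom.id_comp]
  have h2 : (g⁻¹)⁻¹ =
      toConv ((HopfAlgebra.antipodeAlgHom k A).comp (HopfAlgebra.antipodeAlgHom k A)) := by
    rw [h1]
    rfl
  rw [inv_inv] at h2
  have := congrArg (fun f : WithConv (A →ₐ[k] A) => f.ofConv a) h2
  exact this.symm

/-- `x ⊗ y ↦ α x • y`. -/
noncomputable def lcontr (α : A →ₗ[k] k) : A ⊗[k] A →ₗ[k] A :=
  (TensorProduct.lid k A).toLinearMap ∘ₗ α.rTensor A

@[simp] theorem lcontr_tmul (α : A →ₗ[k] k) (x y : A) : lcontr α (x ⊗ₜ[k] y) = α x • y := by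
  simp [lcontr]

theorem antipode_lcontr_map_comm (α : A →ₗ[k] k) (t : A ⊗[k] A) :
    HopfAlgebraStruct.antipode k (lcontr α
      (TensorProduct.map (HopfAlgebraStruct.antipode k (A := A))
        (HopfAlgebraStruct.antipode k (A := A)) (TensorProduct.comm k A A t))) =
      contr A (α ∘ₗ HopfAlgebraStruct.antipode k (A := A)) t := by
  induction t using TensorProduct.induction_on with
  | zero => simp
  | add x y hx hy => simp only [map_add, hx, hy]
  | tmul x y => simp [antipode_antipode]

/-- A comodule map `α` from the regular comodule to the trivial comodule `k` gives the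
opposite-sided integral `β = α ∘ S`: `Σ a₁ β(a₂) = β(a) 1`. -/
theorem slice_comp_antipode_of_isComodHom (α : A →ₗ[k] k)
    (hα : @Hoch.IsComodHom k _ A _ _ _ A _ _ _ k _ _ (HopfRep.Comod.trivial k A k) α) (a : A) :
    slice (α ∘ₗ HopfAlgebraStruct.antipode k (A := A)) a =
      (α (HopfAlgebraStruct.antipode k a)) • (1 : A) := by
  have h1 : ∀ b : A, lcontr α (CoalgebraStruct.comul (R := k) b) = α b • (1 : A) := by
    intro b
    have h := LinearMap.congr_fun hα b
    have h' : (α b) ⊗ₜ[k] (1 : A) = α.rTensor A (CoalgebraStruct.comul (R := k) b) := h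
    show TensorProduct.lid k A (α.rTensor A (CoalgebraStruct.comul (R := k) b)) = _
    rw [← h', TensorProduct.lid_tmul]
  have h2 := h1 (HopfAlgebraStruct.antipode k a)
  rw [Groth.Agent.Lib.HopfAntipode.comul_antipode] at h2
  have h3 := congrArg (HopfAlgebraStruct.antipode k (A := A)) h2
  rw [antipode_lcontr_map_comm, map_smul, HopfAlgebra.antipode_one] at h3
  exact h3

end Antipode

section Integral

variable {k : Type u} [Field k] {A : Type v} [CommRing A] [HopfAlgebra k A]

/-- If `Σ a₁ β(a₂) = β(a) 1`, the Reynolds operator `x ↦ Σ x₀ β(x₁)` takes values in the fixed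
vectors. -/
theorem act_mem_fixedPts_of_slice (β : A →ₗ[k] k)
    (hβ : ∀ a : A, slice β a = β a • (1 : A))
    {X : Type w} [AddCommGroup X] [Module k X] [HopfRep.Comod k A X] (x : X) :
    act X β x ∈ HopfRep.fixedPts k A X := by
  show HopfRep.Comod.coact (k := k) (A := A) (act X β x) = act X β x ⊗ₜ[k] (1 : A)
  rw [act_apply, coact_contr_coact]
  generalize HopfRep.Comod.coact (k := k) (A := A) x = t
  induction t using TensorProduct.induction_on with
  | zero => simp
  | add x y hx hy => simp only [map_add, hx, hy, TensorProduct.add_tmul]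
  | tmul y a =>
    rw [LinearMap.lTensor_tmul, hβ, contr_tmul, TensorProduct.tmul_smul, TensorProduct.smul_tmul']

/-- An integral gives the fixed-vector property in every universe. -/
theorem fpat_of_integral (α : A →ₗ[k] k)
    (hα : @Hoch.IsComodHom k _ A _ _ _ A _ _ _ k _ _ (HopfRep.Comod.trivial k A k) α)
    (h1 : α 1 = 1) : FPat.{u, v, w} k A := by
  intro X _ _ _ _ π hπ hπeq
  obtain ⟨x, hx⟩ := hπ 1
  set β : A →ₗ[k] k := α ∘ₗ HopfAlgebraStruct.antipode k (A := A) with hβdef
  have hβ : ∀ a : A, slice β a = β a • (1 : A) := fun a =>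
    slice_comp_antipode_of_isComodHom α hα a
  refine ⟨act X β x, act_mem_fixedPts_of_slice β hβ x, ?_⟩
  rw [act_apply, ← contr_rTensor]
  have h2 := LinearMap.congr_fun hπeq x
  simp only [LinearMap.comp_apply] at h2
  rw [h2, hx]
  show contr k β ((1 : k) ⊗ₜ[k] (1 : A)) ≠ 0
  rw [contr_tmul, hβdef, LinearMap.comp_apply, HopfAlgebra.antipode_one, h1]
  simp

/-- An integral makes every comodule semisimple. -/
theorem isSemisimpleComod_of_integral (α : A →ₗ[k] k)
    (hα : @Hoch.IsComodHom k _ A _ _ _ A _ _ _ k _ _ (HopfRep.Comod.trivial k A k) α)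
    (h1 : α 1 = 1) (V : Type w) [AddCommGroup V] [Module k V] [c : HopfRep.Comod k A V] :
    HopfRep.IsSemisimpleComod k A V := by
  apply isSemisimpleComod_of_forall_finite c
  intro X hX hfin W hW
  exact exists_isCompl_of_FPat (ComodSub.Comod.restr c X hX) W hW
    (fpat_of_integral.{u, v, w} α hα h1)

end Integral

end Groth.Agent.Lib.ComodFP2
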