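import Groth.Agent.Lib.H8CM2

/-!
# Ideal depth under change of rings (helper8)

For a ring map `A → B` of Noetherian rings and a module `M` over both (scalar tower), finite over
both: `depth_A(a, M) = depth_B(aB, M)`.
-/

set_option autoImplicit false
set_option linter.unusedSectionVars false
universe u

namespace Groth.Agent.Lib.H8DepthBC

open RingTheory.Sequence Pointwise Module Groth.Agent.Lib.DepthBasic
  Groth.Agent.Lib.DepthRees LocCoh Groth.Agent.Lib.H8CM

variable {A B : Type u} [CommRing A] [CommRing B] [Algebra A B]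

section basic

variable (M : Type u) [AddCommGroup M] [Module B M] [Module A M] [IsScalarTower A B M]

/-- `(aB)M = M` iff `aM = M`. -/
theorem map_smul_top_eq_top_iff (a : Ideal A) :
    (a.map (algebraMap A B)) • (⊤ : Submodule B M) = ⊤ ↔ a • (⊤ : Submodule A M) = ⊤ := by
  have h := Ideal.smul_restrictScalars (R := A) a (⊤ : Submodule B M)
  rw [Submodule.restrictScalars_top] at h
  rw [← h, ← Submodule.restrictScalars_top A B M]
  exact (Submodule.restrictScalars_injective A B M).eq_iff.symm

/-- Elements of `aB` kill whatever `a` kills. -/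
theorem smul_eq_zero_of_mem_map {a : Ideal A} {m : M} (h : ∀ x ∈ a, x • m = 0) {z : B}
    (hz : z ∈ a.map (algebraMap A B)) : z • m = 0 := by
  have hle : a.map (algebraMap A B) ≤ (Submodule.span B {m}).annihilator := by
    rw [Ideal.map_le_iff_le_comap]
    intro x hx
    rw [Ideal.mem_comap, Submodule.mem_annihilator_span_singleton, algebraMap_smul]
    exact h x hx
  exact (Submodule.mem_annihilator_span_singleton _ _).mp (hle hz)

theorem isSMulRegular_algebraMap_iff (x : A) :
    IsSMulRegular M (algebraMap A B x) ↔ IsSMulRegular M x := by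
  unfold IsSMulRegular
  have : (fun m : M ↦ algebraMap A B x • m) = fun m : M ↦ x • m := by
    funext m; exact algebraMap_smul B x m
  rw [this]

/-- The `A`-linear identification `M/xM ≃ M/φ(x)M`. -/
noncomputable def quotSMulTopEquiv (x : A) :
    QuotSMulTop x M ≃ₗ[A] QuotSMulTop (algebraMap A B x) M :=
  (Submodule.quotEquivOfEq _ _ (by
    ext m
    simp only [Submodule.restrictScalars_mem, Submodule.mem_smul_pointwise_iff_exists,
      Submodule.mem_top, true_and, algebraMap_smul])).trans
    (Submodule.Quotient.restrictScalarsEquiv A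
      ((algebraMap A B x) • (⊤ : Submodule B M)))

end basic

section main

variable [IsNoetherianRing A] [IsNoetherianRing B]

/-- If `aB` contains an `M`-regular element then so does `a`. -/
theorem exists_isSMulRegular_mem_of_map (M : Type u) [AddCommGroup M] [Module B M] [Module A M]
    [IsScalarTower A B M] [Module.Finite A M] (a : Ideal A) {y : B}
    (hy : y ∈ a.map (algebraMap A B)) (hreg : IsSMulRegular M y) :
    ∃ x ∈ a, IsSMulRegular M x := by
  apply exists_isSMulRegular_mem_of_forall_not_le (M := M) a
  intro P hP hle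
  obtain ⟨hprime, m, hm⟩ := isAssociatedPrime_iff.mp hP
  have hm0 : m ≠ 0 := by
    rintro rfl
    apply hprime.ne_top
    rw [hm, Ideal.eq_top_iff_one, Submodule.mem_colon_singleton]
    simp
  have hkill : ∀ x ∈ a, x • m = 0 := by
    intro x hx
    have := hle hx
    rwa [hm, Submodule.mem_colon_singleton, Submodule.mem_bot] at this
  have := smul_eq_zero_of_mem_map M hkill hy
  exact hm0 (hreg (by simpa using this))

theorem le_idealDepth_of_le_idealDepth_map (a : Ideal A) (n : ℕ) :
    ∀ (M : Type u) [AddCommGroup M] [Module B M] [Module A M] [IsScalarTower A B M]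
      [Module.Finite A M] [Module.Finite B M], a • (⊤ : Submodule A M) ≠ ⊤ →
      (n : ℕ∞) ≤ idealDepth (a.map (algebraMap A B)) M → (n : ℕ∞) ≤ idealDepth a M := by
  induction n with
  | zero => intro M _ _ _ _ _ _ _ _; simp
  | succ n ih =>
    intro M _ _ _ _ _ _ hIA hle
    have hIB : (a.map (algebraMap A B)) • (⊤ : Submodule B M) ≠ ⊤ :=
      fun h ↦ hIA ((map_smul_top_eq_top_iff M a).mp h)
    obtain ⟨ys, hlen, hmem, hreg⟩ := (natCast_le_idealDepth_iff _ M hIB (n + 1)).mp hle
    obtain ⟨y, ys', rfl⟩ := List.exists_cons_of_length_eq_add_one hlen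
    rw [isWeaklyRegular_cons_iff] at hreg
    obtain ⟨x, hxa, hxreg⟩ := exists_isSMulRegular_mem_of_map M a
      (hmem y List.mem_cons_self) hreg.1
    have hx'mem : algebraMap A B x ∈ a.map (algebraMap A B) := Ideal.mem_map_of_mem _ hxa
    have hx'reg : IsSMulRegular M (algebraMap A B x) := (isSMulRegular_algebraMap_iff M x).mpr hxreg
    have hB := idealDepth_quotSMulTop_add_one (a.map (algebraMap A B)) M hIB hx'mem hx'reg
    have hA := idealDepth_quotSMulTop_add_one a M hIA hxa hxreg
    have hn : (n : ℕ∞) ≤ idealDepth (a.map (algebraMap A B)) (QuotSMulTop (algebraMap A B x) M) := by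
      rw [← hB] at hle
      push_cast at hle
      exact (ENat.add_le_add_iff_right ENat.one_ne_top).mp hle
    have hIA' : a • (⊤ : Submodule A (QuotSMulTop (algebraMap A B x) M)) ≠ ⊤ := by
      intro h
      exact smul_top_quotSMulTop_ne_top hxa hIA
        ((smul_top_eq_top_iff_of_equiv a (quotSMulTopEquiv M x)).mp h)
    have h1 := ih (QuotSMulTop (algebraMap A B x) M) hIA' hn
    rw [← idealDepth_eq_of_equiv a (quotSMulTopEquiv M x)] at h1
    rw [← hA]
    push_cast
    exact add_le_add_left h1 1

/-- **Depth is independent of the base ring**: for `A → B` Noetherian and `M` finite over both,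
`depth_A(a, M) = depth_B(aB, M)`. -/
theorem idealDepth_eq_idealDepth_map (a : Ideal A) (M : Type u) [AddCommGroup M] [Module B M]
    [Module A M] [IsScalarTower A B M] [Module.Finite A M] [Module.Finite B M] :
    idealDepth a M = idealDepth (a.map (algebraMap A B)) M := by
  by_cases hIA : a • (⊤ : Submodule A M) = ⊤
  · have hIB := (map_smul_top_eq_top_iff (B := B) M a).mpr hIA
    unfold idealDepth
    rw [if_pos hIA, if_pos hIB]
  · have hIB : (a.map (algebraMap A B)) • (⊤ : Submodule B M) ≠ ⊤ :=
      fun h ↦ hIA ((map_smul_top_eq_top_iff M a).mp h)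
    refine ENat.eq_of_forall_natCast_le_iff fun n ↦ ⟨fun h ↦ ?_, fun h ↦ ?_⟩
    · obtain ⟨rs, hlen, hmem, hreg⟩ := (natCast_le_idealDepth_iff a M hIA n).mp h
      rw [natCast_le_idealDepth_iff _ M hIB n]
      refine ⟨rs.map (algebraMap A B), by simp [hlen], ?_,
        (isWeaklyRegular_map_algebraMap_iff B M rs).mpr hreg⟩
      intro r hr
      obtain ⟨r0, hr0, rfl⟩ := List.mem_map.mp hr
      exact Ideal.mem_map_of_mem _ (hmem r0 hr0)
    · exact le_idealDepth_of_le_idealDepth_map a n M hIA h

end main

end Groth.Agent.Lib.H8DepthBC
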