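import Groth.Agent.Lib.H8LocTrans2
import Groth.Agent.Lib.H8DepthBC
import Groth.Agent.Lib.FTDim
import Groth.Agent.Lib.SerreSk

/-!
# Dimension and depth of a module finite over a subring (helper8)

* `supportDim_localization_eq_height`: `dim M_p` is the height of `p` in the poset `Supp M`.
* `isIntegral_quotient_annihilator`: if a `B`-module `M` is finite over `A`, then
  `B / ann_B M` is integral over `A`.
* `depth_eq_iInf_of_isLocalRing`, `supportDim_eq_iSup_of_isLocalRing`: for `A` local,
  `depth_A M = inf depth M_q` and `dim_A M = sup dim M_q`, over the primes `q` of `B` over the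
  maximal ideal of `A` in the support of `M` (EGA IV 5.4.? / 0.16.4.8, local case).
-/

set_option autoImplicit false
set_option linter.unusedSectionVars false
universe u v

namespace Groth.Agent.Lib.H8Fin

open IsLocalRing Module LocCoh Groth.Agent.Lib.H8CM

section height

variable {R : Type u} [CommRing R] (p : Ideal R) [p.IsPrime]
  (M : Type v) [AddCommGroup M] [Module R M]

/-- `dim M_p` is the height of `p` in the support of `M`. -/
theorem supportDim_localization_eq_height
    (hP : (⟨p, inferInstance⟩ : PrimeSpectrum R) ∈ Module.support R M) :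
    Module.supportDim (Localization.AtPrime p) (LocalizedModule p.primeCompl M) =
      ((Order.height (⟨⟨p, inferInstance⟩, hP⟩ : Module.support R M) : ℕ∞) : WithBot ℕ∞) := by
  set P : Module.support R M := ⟨⟨p, inferInstance⟩, hP⟩ with hPdef
  apply le_antisymm
  · rw [Order.height_eq_krullDim_Iic]
    unfold Module.supportDim
    have hle : ∀ q : PrimeSpectrum (Localization.AtPrime p),
        (PrimeSpectrum.comap (algebraMap R (Localization.AtPrime p)) q).asIdeal ≤ p := by
      intro q
      have := (IsLocalization.disjoint_under_iff p.primeCompl (Localization.AtPrime p)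
        q.asIdeal).mpr q.2.ne_top
      intro x hx
      by_contra hxp
      exact Set.disjoint_left.mp this hxp hx
    refine Order.krullDim_le_of_strictMono
      (fun q => (⟨⟨PrimeSpectrum.comap (algebraMap R (Localization.AtPrime p)) q.1,
        SerreSk.comap_mem_support_of_mem_support p M q.1 q.2⟩, hle q.1⟩ : Set.Iic P)) ?_
    intro a b hab
    refine lt_of_le_of_ne ?_ ?_
    · exact Ideal.comap_mono (le_of_lt hab)
    · intro h
      have h' : PrimeSpectrum.comap (algebraMap R (Localization.AtPrime p)) a.1 =
          PrimeSpectrum.comap (algebraMap R (Localization.AtPrime p)) b.1 := by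
        simpa using congrArg (fun z : Set.Iic P => z.1.1) h
      have := PrimeSpectrum.localization_comap_injective (Localization.AtPrime p) p.primeCompl h'
      exact hab.ne (Subtype.ext this)
  · rw [Order.height_eq_krullDim_Iic]
    unfold Module.supportDim
    have hex : ∀ q : Set.Iic P, ∃ q' : PrimeSpectrum (Localization.AtPrime p),
        q' ∈ Module.support (Localization.AtPrime p) (LocalizedModule p.primeCompl M) ∧
        PrimeSpectrum.comap (algebraMap R (Localization.AtPrime p)) q' = q.1.1 :=
      fun q ↦ SerreSk.exists_mem_support_localization p M q.1.1 q.1.2 q.2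
    choose f hf1 hf2 using hex
    refine Order.krullDim_le_of_strictMono (fun q => (⟨f q, hf1 q⟩ :
      Module.support (Localization.AtPrime p) (LocalizedModule p.primeCompl M))) ?_
    intro a b hab
    have hab' : a.1.1.asIdeal < b.1.1.asIdeal := hab
    have ha : (f a).asIdeal = Ideal.map (algebraMap R (Localization.AtPrime p)) a.1.1.asIdeal := by
      rw [← hf2 a]
      exact (IsLocalization.map_under p.primeCompl (Localization.AtPrime p) (f a).asIdeal).symm
    have hb : (f b).asIdeal = Ideal.map (algebraMap R (Localization.AtPrime p)) b.1.1.asIdeal := by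
      rw [← hf2 b]
      exact (IsLocalization.map_under p.primeCompl (Localization.AtPrime p) (f b).asIdeal).symm
    refine lt_of_le_of_ne ?_ ?_
    · change (f a).asIdeal ≤ (f b).asIdeal
      rw [ha, hb]
      exact Ideal.map_mono hab'.le
    · intro h
      have h1 : f a = f b := congrArg Subtype.val h
      have h2 : a.1.1 = b.1.1 := by rw [← hf2 a, ← hf2 b, h1]
      exact hab'.ne (congrArg PrimeSpectrum.asIdeal h2)

end height

section integral

variable (A B : Type u) [CommRing A] [CommRing B] [Algebra A B]
  (M : Type u) [AddCommGroup M] [Module B M] [Module A M] [IsScalarTower A B M]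

/-- The `A`-algebra map `B / ann_B M → End_A M`. -/
noncomputable def quotToEnd : (B ⧸ Module.annihilator B M) →ₐ[A] Module.End A M :=
  Ideal.Quotient.liftₐ (Module.annihilator B M) (Algebra.lsmul A A M) (by
    intro b hb
    ext m
    simpa using Module.mem_annihilator.mp hb m)

theorem quotToEnd_injective : Function.Injective (quotToEnd A B M) := by
  rw [injective_iff_map_eq_zero]
  intro x hx
  obtain ⟨b, rfl⟩ := Ideal.Quotient.mk_surjective x
  rw [Ideal.Quotient.eq_zero_iff_mem, Module.mem_annihilator]
  intro m
  have := LinearMap.congr_fun hx m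
  simpa [quotToEnd] using this

/-- If `M` is finite over `A`, then `B / ann_B M` is integral over `A`. -/
theorem isIntegral_quotient_annihilator [Module.Finite A M] :
    Algebra.IsIntegral A (B ⧸ Module.annihilator B M) :=
  Algebra.IsIntegral.of_injective (quotToEnd A B M) (quotToEnd_injective A B M)

theorem comap_annihilator :
    (Module.annihilator B M).comap (algebraMap A B) = Module.annihilator A M := by
  ext a
  rw [Ideal.mem_comap, Module.mem_annihilator, Module.mem_annihilator]
  simp only [algebraMap_smul]

/-- `dim_A M = dim_B M` for a `B`-module finite over `A`. -/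
theorem supportDim_eq_of_finite [Module.Finite A M] :
    Module.supportDim A M = Module.supportDim B M := by
  haveI : Module.Finite B M := Module.Finite.of_restrictScalars_finite A B M
  rw [Module.supportDim_eq_ringKrullDim_quotient_annihilator,
    Module.supportDim_eq_ringKrullDim_quotient_annihilator]
  haveI := isIntegral_quotient_annihilator A B M
  have e : (A ⧸ Module.annihilator A M) ≃+*
      (A ⧸ (Module.annihilator B M).comap (algebraMap A B)) :=
    Ideal.quotEquivOfEq (comap_annihilator A B M).symm
  rw [ringKrullDim_eq_of_ringEquiv e]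
  haveI : Algebra.IsIntegral (A ⧸ (Module.annihilator B M).comap (algebraMap A B))
      (B ⧸ Module.annihilator B M) := Algebra.IsIntegral.tower_top (R := A)
  exact FTDim.ringKrullDim_eq_of_isIntegral_of_injective
    (Ideal.algebraMap_quotient_injective)

end integral

section local_

variable (A B : Type u) [CommRing A] [CommRing B] [IsNoetherianRing A] [IsNoetherianRing B]
  [Algebra A B] [IsLocalRing A]
  (M : Type u) [AddCommGroup M] [Module B M] [Module A M] [IsScalarTower A B M]
  [Module.Finite A M]

/-- The primes of `B` over the maximal ideal of `A` in the support of `M`. -/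
def overMax : Set (PrimeSpectrum B) :=
  {q | q.asIdeal.comap (algebraMap A B) = maximalIdeal A ∧ q ∈ Module.support B M}

/-- Every prime in the support of `M` over `B` lies below one over the maximal ideal of `A`. -/
theorem exists_le_mem_overMax (P : PrimeSpectrum B) (hP : P ∈ Module.support B M) :
    ∃ Q ∈ overMax A B M, P ≤ Q := by
  haveI : Module.Finite B M := Module.Finite.of_restrictScalars_finite A B M
  haveI := isIntegral_quotient_annihilator A B M
  have hPann : Module.annihilator B M ≤ P.asIdeal := by
    rw [Module.support_eq_zeroLocus, PrimeSpectrum.mem_zeroLocus] at hP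
    exact hP
  -- a maximal ideal of `B / ann` containing the image of `P`
  have hne : Ideal.map (Ideal.Quotient.mk (Module.annihilator B M)) P.asIdeal ≠ ⊤ := by
    intro htop
    have h1 := Ideal.comap_map_of_surjective (Ideal.Quotient.mk (Module.annihilator B M))
      Ideal.Quotient.mk_surjective P.asIdeal
    rw [htop, Ideal.comap_top, ← RingHom.ker_eq_comap_bot, Ideal.mk_ker,
      sup_eq_left.mpr hPann] at h1
    exact P.2.ne_top h1.symm
  obtain ⟨𝔐, h𝔐max, h𝔐le⟩ := Ideal.exists_le_maximal _ hne
  haveI := h𝔐max
  have hcm : (𝔐.comap (algebraMap A (B ⧸ Module.annihilator B M))).IsMaximal :=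
    Ideal.isMaximal_comap_of_isIntegral_of_isMaximal 𝔐
  let Q : PrimeSpectrum B :=
    ⟨𝔐.comap (Ideal.Quotient.mk (Module.annihilator B M)), inferInstance⟩
  refine ⟨Q, ⟨?_, ?_⟩, ?_⟩
  · change (𝔐.comap (Ideal.Quotient.mk (Module.annihilator B M))).comap (algebraMap A B) = _
    rw [Ideal.comap_comap]
    exact IsLocalRing.eq_maximalIdeal hcm
  · rw [Module.support_eq_zeroLocus, PrimeSpectrum.mem_zeroLocus]
    intro b hb
    change Ideal.Quotient.mk (Module.annihilator B M) b ∈ 𝔐
    rw [Ideal.Quotient.eq_zero_iff_mem.mpr hb]
    exact zero_mem _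
  · change P.asIdeal ≤ 𝔐.comap (Ideal.Quotient.mk (Module.annihilator B M))
    rw [← Ideal.map_le_iff_le_comap]
    exact h𝔐le

/-- **Depth of a module finite over a local ring**: `depth_A M = inf depth M_q` over the primes
`q` of `B` over the maximal ideal of `A` in the support of `M`. -/
theorem depth_eq_iInf_of_isLocalRing :
    depth A M = ⨅ q ∈ overMax A B M,
      depth (Localization.AtPrime q.asIdeal) (LocalizedModule q.asIdeal.primeCompl M) := by
  haveI : Module.Finite B M := Module.Finite.of_restrictScalars_finite A B M
  have h1 : depth A M = idealDepth ((maximalIdeal A).map (algebraMap A B)) M :=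
    Groth.Agent.Lib.H8DepthBC.idealDepth_eq_idealDepth_map (maximalIdeal A) M
  rw [h1, idealDepth_eq_iInf_depth_localizedModule]
  apply le_antisymm
  · refine le_iInf₂ fun q hq ↦ ?_
    refine iInf₂_le q ?_
    rw [Ideal.map_le_iff_le_comap, hq.1]
  · refine le_iInf₂ fun q hq ↦ ?_
    by_cases hsupp : q ∈ Module.support B M
    · refine iInf₂_le q ⟨?_, hsupp⟩
      rw [Ideal.map_le_iff_le_comap] at hq
      have hne : q.asIdeal.comap (algebraMap A B) ≠ ⊤ := (Ideal.comap_isPrime _ _).ne_top
      exact ((maximalIdeal.isMaximal A).eq_of_le hne hq).symm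
    · rw [Module.mem_support_iff, not_nontrivial_iff_subsingleton] at hsupp
      rw [depth_eq_top_of_subsingleton]
      exact le_top

/-- **Dimension of a module finite over a local ring**: `dim_A M = sup dim M_q` over the primes
`q` of `B` over the maximal ideal of `A` in the support of `M`. -/
theorem supportDim_eq_iSup_of_isLocalRing :
    Module.supportDim A M = ⨆ q ∈ overMax A B M,
      Module.supportDim (Localization.AtPrime q.asIdeal)
        (LocalizedModule q.asIdeal.primeCompl M) := by
  rw [supportDim_eq_of_finite A B M]
  apply le_antisymm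
  · unfold Module.supportDim
    rw [Order.krullDim_eq_iSup_height]
    refine iSup_le fun P ↦ ?_
    obtain ⟨Q, hQ, hPQ⟩ := exists_le_mem_overMax A B M P.1 P.2
    have h1 : Order.height P ≤ Order.height (⟨Q, hQ.2⟩ : Module.support B M) :=
      Order.height_mono hPQ
    have h2 := supportDim_localization_eq_height Q.asIdeal M hQ.2
    unfold Module.supportDim at h2
    calc ((Order.height P : ℕ∞) : WithBot ℕ∞)
        ≤ ((Order.height (⟨Q, hQ.2⟩ : Module.support B M) : ℕ∞) : WithBot ℕ∞) :=
          WithBot.coe_le_coe.mpr h1
      _ = _ := h2.symm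
      _ ≤ _ := le_iSup₂ (f := fun (q : PrimeSpectrum B) (_ : q ∈ overMax A B M) ↦
          Order.krullDim (Module.support (Localization.AtPrime q.asIdeal)
            (LocalizedModule q.asIdeal.primeCompl M))) Q hQ
  · refine iSup₂_le fun q hq ↦ ?_
    rw [supportDim_localization_eq_height q.asIdeal M hq.2]
    exact Order.height_le_krullDim _

end local_

end Groth.Agent.Lib.H8Fin
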