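/-
helper90: the annihilator of a finite module commutes with localization.
-/
import Mathlib

set_option autoImplicit false
open TensorProduct

namespace Groth.Agent.Lib.H90AnnLoc

variable {A : Type*} [CommRing A] (S : Submonoid A) (A' : Type*) [CommRing A'] [Algebra A A']
  [IsLocalization S A'] {M M' : Type*} [AddCommGroup M] [Module A M] [AddCommGroup M']
  [Module A M'] [Module A' M'] [IsScalarTower A A' M'] (g : M →ₗ[A] M') [IsLocalizedModule S g]

include S g in
omit [IsLocalization S A'] in
theorem map_annihilator_le :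
    (Module.annihilator A M).map (algebraMap A A') ≤ Module.annihilator A' M' := by
  rw [Ideal.map_le_iff_le_comap]
  intro a ha
  rw [Ideal.mem_comap, Module.mem_annihilator]
  intro m'
  obtain ⟨⟨m, s⟩, h⟩ := IsLocalizedModule.surj S g m'
  rw [algebraMap_smul]
  apply IsLocalizedModule.smul_injective g s
  dsimp only at h ⊢
  rw [smul_comm, h, ← map_smul, Module.mem_annihilator.mp ha m, map_zero, smul_zero]

include S g in
theorem annihilator_eq_map [Module.Finite A M] :
    Module.annihilator A' M' = (Module.annihilator A M).map (algebraMap A A') := by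
  apply le_antisymm _ (map_annihilator_le S A' g)
  intro b hb
  rw [Module.mem_annihilator] at hb
  obtain ⟨⟨a, s⟩, hab⟩ := IsLocalization.surj S b
  dsimp only at hab
  obtain ⟨G, hG⟩ := (Module.finite_def (R := A) (M := M)).mp inferInstance
  classical
  have h1 : ∀ m : M, ∃ t : S, t • (a • m) = 0 := by
    intro m
    have : g (a • m) = 0 := by
      rw [map_smul, ← algebraMap_smul A' a (g m), ← hab, mul_smul, hb, ]
    have h2 : g (a • m) = g 0 := by rw [this, map_zero]
    obtain ⟨t, ht⟩ := (IsLocalizedModule.eq_iff_exists S g).mp h2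
    exact ⟨t, by rw [ht, smul_zero]⟩
  choose t ht using h1
  let T : S := ∏ m ∈ G, t m
  have hT : ((T : A) * a) ∈ Module.annihilator A M := by
    rw [← Submodule.annihilator_top, ← hG, Submodule.mem_annihilator_span]
    rintro ⟨m, hm⟩
    change ((T : A) * a) • m = 0
    obtain ⟨c, hc⟩ : ∃ c : S, T = c * t m := by
      refine ⟨∏ m' ∈ G.erase m, t m', ?_⟩
      rw [mul_comm]
      exact (Finset.mul_prod_erase G t hm).symm
    rw [hc, mul_smul, Submonoid.coe_mul, mul_smul]
    have := ht m
    rw [Submonoid.smul_def] at this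
    rw [this, smul_zero]
  have hu : IsUnit (algebraMap A A' ((T : A) * s)) := by
    rw [← Submonoid.coe_mul]
    exact IsLocalization.map_units A' (T * s)
  obtain ⟨u, hu'⟩ := hu
  have hb' : b = algebraMap A A' ((T : A) * a) * ↑u⁻¹ := by
    rw [Units.eq_mul_inv_iff_mul_eq, hu', map_mul, map_mul, ← hab]
    ring
  rw [hb']
  exact Ideal.mul_mem_right _ _ (Ideal.mem_map_of_mem _ hT)

end Groth.Agent.Lib.H90AnnLoc
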