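import Groth.Agent.Lib.RectDepth33b
import Groth.Agent.Lib.H90AnnLoc
import Groth.Agent.Lib.H26CMDim
import Groth.Agent.Lib.H8CMOpen
import Groth.Agent.Lib.H8Fin
import Groth.Agent.Lib.H8DepthBC2
import Groth.Agent.Lib.H8LocTrans
import Mathlib

/-!
# Openness of the codepth loci for quotients of regular rings (helper33)

* `supportDim_add_height`: over a regular ring `R`, for a finite module `M` and a prime `P` in its
  support: `ht (ann(M) R_P) + dim M_P = dim R_P`.
* `isOpen_setOf_supportDim_le_depth_add`: over a regular ring the set of primes `P` with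
  `dim M_P ≤ depth M_P + n` is open (EGA IV 6.11.2 in the regular case).
* `depth_localization_eq_of_surjective`, `supportDim_localization_eq_of_surjective`: for a surjection
  `R → A`, an `A`-module `M` and a prime `p` of `A` with preimage `P`, depth and dimension of `M_p` over
  `A_p` agree with those of `M_P` over `R_P`.
* `isOpen_setOf_supportDim_le_depth_add_of_surjective`: the quotient version.
-/

set_option autoImplicit false
universe u

open Groth.Agent.Lib

namespace Groth.Agent.Lib.CodepthOpen33

section Ring

variable (R : Type u) [CommRing R] [IsRegularRing R] (M : Type u) [AddCommGroup M] [Module R M]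
  [Module.Finite R M]

/-- For `P` in the support of `M`: `ht (ann(M) R_P) + dim M_P = dim R_P`, all natural numbers. -/
theorem supportDim_add_height (P : Ideal R) [P.IsPrime] (hP : Module.annihilator R M ≤ P) :
    ∃ c δ d : ℕ,
      ((Module.annihilator R M).map (algebraMap R (Localization.AtPrime P))).height = c ∧
      Module.supportDim (Localization.AtPrime P) (LocalizedModule P.primeCompl M) = δ ∧
      ringKrullDim (Localization.AtPrime P) = d ∧ c + δ = d := by
  have hreg : IsRegularLocalRing (Localization.AtPrime P) :=
    IsRegularRing.isRegularLocalRing_localization P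
  have hCM : LocCoh.IsCohenMacaulayLocalRing (Localization.AtPrime P) :=
    H8CM.isCMLocalRing_of_isRegularLocalRing
  set J := (Module.annihilator R M).map (algebraMap R (Localization.AtPrime P)) with hJ
  have hJtop : J ≠ ⊤ := H8CMOpen.map_ne_top _ P hP
  obtain ⟨c, hc⟩ := ENat.ne_top_iff_exists.mp (Ideal.height_ne_top hJtop)
  obtain ⟨d, hd⟩ := CMFlat33.exists_nat_ringKrullDim (Localization.AtPrime P)
  have hann : Module.annihilator (Localization.AtPrime P) (LocalizedModule P.primeCompl M) = J :=
    H90AnnLoc.annihilator_eq_map P.primeCompl (Localization.AtPrime P)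
      (LocalizedModule.mkLinearMap P.primeCompl M)
  have hsd : Module.supportDim (Localization.AtPrime P) (LocalizedModule P.primeCompl M) =
      ringKrullDim (Localization.AtPrime P ⧸ J) := by
    rw [Module.supportDim_eq_ringKrullDim_quotient_annihilator, hann]
  have hnt : Nontrivial (Localization.AtPrime P ⧸ J) := Ideal.Quotient.nontrivial_iff.mpr hJtop
  have hloc : IsLocalRing (Localization.AtPrime P ⧸ J) := CMComp33.isLocalRing_quotient J hJtop
  obtain ⟨δ, hδ⟩ := CMFlat33.exists_nat_ringKrullDim (Localization.AtPrime P ⧸ J)
  refine ⟨c, δ, d, hc.symm, by rw [hsd, hδ], hd, ?_⟩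
  exact H26CMDim.height_add_quotient_dim d hd J c δ hc.symm hδ

/-- Over a regular ring, the set of primes `P` with `dim M_P ≤ depth M_P + n` is open. -/
theorem isOpen_setOf_supportDim_le_depth_add (n : ℕ) :
    IsOpen {P : PrimeSpectrum R |
      Module.supportDim (Localization.AtPrime P.asIdeal)
          (LocalizedModule P.asIdeal.primeCompl M) ≤
        ((LocCoh.depth (Localization.AtPrime P.asIdeal)
          (LocalizedModule P.asIdeal.primeCompl M) : ℕ∞) : WithBot ℕ∞) + (n : WithBot ℕ∞)} := by
  classical
  have htriv : ∀ Q : PrimeSpectrum R, Q ∉ Module.support R M →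
      Module.supportDim (Localization.AtPrime Q.asIdeal)
          (LocalizedModule Q.asIdeal.primeCompl M) ≤
        ((LocCoh.depth (Localization.AtPrime Q.asIdeal)
          (LocalizedModule Q.asIdeal.primeCompl M) : ℕ∞) : WithBot ℕ∞) + (n : WithBot ℕ∞) := by
    intro Q hQ
    have : Subsingleton (LocalizedModule Q.asIdeal.primeCompl M) :=
      Module.notMem_support_iff.mp hQ
    rw [Module.supportDim_eq_bot_of_subsingleton]
    exact bot_le
  have htop : ∀ k : ℕ, ((⊤ : ℕ∞) : WithBot ℕ∞) + (k : WithBot ℕ∞) = ((⊤ : ℕ∞) : WithBot ℕ∞) := by
    intro k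
    rw [show (k : WithBot ℕ∞) = ((k : ℕ∞) : WithBot ℕ∞) from rfl, ← WithBot.coe_add, top_add]
  rw [isOpen_iff_forall_mem_open]
  intro P₀ hP₀
  by_cases hsupp : P₀ ∈ Module.support R M
  swap
  · refine ⟨(Module.support R M)ᶜ, fun Q hQ => htriv Q hQ, ?_, hsupp⟩
    rw [Module.support_eq_zeroLocus]
    exact (PrimeSpectrum.isClosed_zeroLocus _).isOpen_compl
  · set I := Module.annihilator R M with hIdef
    have hI : ∀ Q : PrimeSpectrum R, Q ∈ Module.support R M → I ≤ Q.asIdeal :=
      fun Q hQ => Module.annihilator_le_of_mem_support hQ
    obtain ⟨c, δ, d, hc, hδ, hd, hsum⟩ := supportDim_add_height R M P₀.asIdeal (hI P₀ hsupp)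
    have hW := RectDepth33.isOpen_setOf_dim_lt_depth_add R M
      (fun p _ => IsRegularRing.isRegularLocalRing_localization p) (n + c + 1)
    set W : Set (PrimeSpectrum R) := {p | ringKrullDim (Localization.AtPrime p.asIdeal) <
      ((LocCoh.depth (Localization.AtPrime p.asIdeal)
        (LocalizedModule p.asIdeal.primeCompl M) : ℕ∞) : WithBot ℕ∞) +
          ((n + c + 1 : ℕ) : WithBot ℕ∞)} with hWdef
    set bad : Set (Ideal R) := {q | q ∈ I.minimalPrimes ∧ ¬ q ≤ P₀.asIdeal} with hbad
    have hbadfin : bad.Finite :=
      (Ideal.finite_minimalPrimes_of_isNoetherianRing R I).subset fun _ h => h.1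
    refine ⟨W ∩ ⋂ q ∈ bad, (PrimeSpectrum.zeroLocus (q : Set R))ᶜ, ?_, ?_, ?_⟩
    · rintro Q ⟨hQW, hQbad⟩
      by_cases hQs : Q ∈ Module.support R M
      swap
      · exact htriv Q hQs
      · obtain ⟨c', δ', d', hc', hδ', hd', hsum'⟩ :=
          supportDim_add_height R M Q.asIdeal (hI Q hQs)
        have hcond : ∀ q ∈ I.minimalPrimes, q ≤ Q.asIdeal → q ≤ P₀.asIdeal := by
          intro q hq hle
          by_contra hnot
          have hmem : q ∈ bad := ⟨hq, hnot⟩
          have := Set.mem_iInter₂.mp hQbad q hmem
          apply this
          rw [PrimeSpectrum.mem_zeroLocus, SetLike.coe_subset_coe]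
          exact hle
        have hle := H8CMOpen.height_map_le_height_map I Q.asIdeal P₀.asIdeal (hI Q hQs) hcond
        rw [hc, hc'] at hle
        have hcc : c ≤ c' := by exact_mod_cast hle
        rw [hWdef] at hQW
        simp only [Set.mem_ofPred_eq] at hQW ⊢
        rw [hd'] at hQW
        rw [hδ']
        rcases eq_or_ne (LocCoh.depth (Localization.AtPrime Q.asIdeal)
          (LocalizedModule Q.asIdeal.primeCompl M)) ⊤ with hdep | hdep
        · rw [hdep, htop]
          exact WithBot.coe_le_coe.mpr le_top
        · obtain ⟨e, he⟩ := ENat.ne_top_iff_exists.mp hdep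
          rw [← he] at hQW ⊢
          have h1 : d' < e + (n + c + 1) := by exact_mod_cast hQW
          have h2 : δ' ≤ e + n := by omega
          exact_mod_cast h2
    · refine hW.inter (hbadfin.isOpen_biInter fun q _ => ?_)
      exact (PrimeSpectrum.isClosed_zeroLocus _).isOpen_compl
    · refine ⟨?_, Set.mem_iInter₂.mpr fun q hq => ?_⟩
      · rw [hWdef]
        simp only [Set.mem_ofPred_eq] at hP₀ ⊢
        rw [hd]
        rw [hδ] at hP₀
        rcases eq_or_ne (LocCoh.depth (Localization.AtPrime P₀.asIdeal)
          (LocalizedModule P₀.asIdeal.primeCompl M)) ⊤ with hdep | hdep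
        · rw [hdep, htop]
          exact WithBot.coe_lt_coe.mpr (ENat.natCast_lt_top d)
        · obtain ⟨e, he⟩ := ENat.ne_top_iff_exists.mp hdep
          rw [← he] at hP₀ ⊢
          have h1 : δ ≤ e + n := by exact_mod_cast hP₀
          have h2 : d < e + (n + c + 1) := by omega
          exact_mod_cast h2
      · intro hmem
        rw [PrimeSpectrum.mem_zeroLocus, SetLike.coe_subset_coe] at hmem
        exact hq.2 hmem

end Ring

section Transport

variable {R A : Type u} [CommRing R] [CommRing A] [Algebra R A]

theorem algebraMapSubmonoid_primeCompl (hs : Function.Surjective (algebraMap R A)) (p : Ideal A)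
    [p.IsPrime] :
    Algebra.algebraMapSubmonoid A (p.comap (algebraMap R A)).primeCompl = p.primeCompl := by
  ext a
  constructor
  · rintro ⟨r, hr, rfl⟩
    exact hr
  · intro ha
    obtain ⟨r, rfl⟩ := hs a
    exact ⟨r, ha, rfl⟩

/-- For a surjection `R → A` of Noetherian rings, a finite `A`-module `M` and a prime `p` of `A` with
preimage `P`: depth and dimension of `M_p` over `A_p` agree with those of `M_P` over `R_P`. -/
theorem depth_supportDim_localization_eq_of_surjective [IsNoetherianRing R]
    (hs : Function.Surjective (algebraMap R A))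
    (M : Type u) [AddCommGroup M] [Module A M] [Module R M] [IsScalarTower R A M]
    [Module.Finite A M] (p : Ideal A) [p.IsPrime] :
    LocCoh.depth (Localization.AtPrime p) (LocalizedModule p.primeCompl M) =
      LocCoh.depth (Localization.AtPrime (p.comap (algebraMap R A)))
        (LocalizedModule (p.comap (algebraMap R A)).primeCompl M) ∧
    Module.supportDim (Localization.AtPrime p) (LocalizedModule p.primeCompl M) =
      Module.supportDim (Localization.AtPrime (p.comap (algebraMap R A)))
        (LocalizedModule (p.comap (algebraMap R A)).primeCompl M) := by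
  have hAN : IsNoetherianRing A := isNoetherianRing_of_surjective R A (algebraMap R A) hs
  let φ : Localization.AtPrime (p.comap (algebraMap R A)) →+* Localization.AtPrime p :=
    Localization.localRingHom (p.comap (algebraMap R A)) p (algebraMap R A) rfl
  let _ : Algebra (Localization.AtPrime (p.comap (algebraMap R A))) (Localization.AtPrime p) :=
    φ.toAlgebra
  have hloc : IsLocalHom (algebraMap (Localization.AtPrime (p.comap (algebraMap R A)))
      (Localization.AtPrime p)) :=
    Localization.isLocalHom_localRingHom _ p (algebraMap R A) rfl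
  have hφsurj : Function.Surjective (algebraMap (Localization.AtPrime (p.comap (algebraMap R A)))
      (Localization.AtPrime p)) := by
    intro x
    obtain ⟨a, t, rfl⟩ := IsLocalization.exists_mk'_eq p.primeCompl x
    obtain ⟨r, rfl⟩ := hs a
    obtain ⟨t', ht⟩ := t
    obtain ⟨s, rfl⟩ := hs t'
    refine ⟨IsLocalization.mk' _ r (⟨s, ht⟩ : (p.comap (algebraMap R A)).primeCompl), ?_⟩
    exact Localization.localRingHom_mk' _ p (algebraMap R A) rfl r ⟨s, ht⟩
  let _ : Module (Localization.AtPrime (p.comap (algebraMap R A)))
      (LocalizedModule p.primeCompl M) := Module.compHom _ φ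
  have hst1 : IsScalarTower (Localization.AtPrime (p.comap (algebraMap R A)))
      (Localization.AtPrime p) (LocalizedModule p.primeCompl M) :=
    ⟨fun x y z => by
      change (φ x * y) • z = φ x • (y • z)
      rw [mul_smul]⟩
  have hst3 : IsScalarTower R (Localization.AtPrime (p.comap (algebraMap R A)))
      (LocalizedModule p.primeCompl M) :=
    ⟨fun r x z => by
      change φ (r • x) • z = r • (φ x • z)
      rw [Algebra.smul_def, map_mul, Localization.localRingHom_to_map, mul_smul,
        algebraMap_smul, algebraMap_smul]⟩
  have hfin : Module.Finite (Localization.AtPrime (p.comap (algebraMap R A)))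
      (LocalizedModule p.primeCompl M) := by
    have h1 : Module.Finite (Localization.AtPrime (p.comap (algebraMap R A)))
        (Localization.AtPrime p) :=
      Module.Finite.of_surjective (Algebra.linearMap _ _) hφsurj
    exact Module.Finite.trans (Localization.AtPrime p) _
  have hd1 := H8DepthBC.depth_eq_depth_of_isLocalHom
    (A := Localization.AtPrime (p.comap (algebraMap R A))) (B := Localization.AtPrime p)
    (LocalizedModule p.primeCompl M)
  have hs1 := H8Fin.supportDim_eq_of_finite (Localization.AtPrime (p.comap (algebraMap R A)))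
    (Localization.AtPrime p) (LocalizedModule p.primeCompl M)
  have hloc' : IsLocalizedModule (p.comap (algebraMap R A)).primeCompl
      ((LocalizedModule.mkLinearMap p.primeCompl M).restrictScalars R) := by
    have h : IsLocalizedModule (Algebra.algebraMapSubmonoid A
        (p.comap (algebraMap R A)).primeCompl) (LocalizedModule.mkLinearMap p.primeCompl M) := by
      rw [algebraMapSubmonoid_primeCompl hs p]
      infer_instance
    exact IsLocalizedModule.restrictScalars (p.comap (algebraMap R A)).primeCompl _
  have hd2 := H8LocTrans.depth_eq_of_isLocalizedModule (p.comap (algebraMap R A))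
    (Localization.AtPrime (p.comap (algebraMap R A)))
    ((LocalizedModule.mkLinearMap p.primeCompl M).restrictScalars R)
  have hs2 := H8LocTrans.supportDim_eq_of_isLocalizedModule (p.comap (algebraMap R A))
    (Localization.AtPrime (p.comap (algebraMap R A)))
    ((LocalizedModule.mkLinearMap p.primeCompl M).restrictScalars R)
  exact ⟨hd1.symm.trans hd2, hs1.symm.trans hs2⟩

/-- Quotient version: `A` a quotient of a regular ring `R`, `M` a finite `A`-module. The set of primes
`p` of `A` with `dim M_p ≤ depth M_p + n` is open. -/
theorem isOpen_setOf_supportDim_le_depth_add_of_surjective [IsRegularRing R]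
    (hs : Function.Surjective (algebraMap R A))
    (M : Type u) [AddCommGroup M] [Module A M] [Module.Finite A M] (n : ℕ) :
    IsOpen {p : PrimeSpectrum A |
      Module.supportDim (Localization.AtPrime p.asIdeal)
          (LocalizedModule p.asIdeal.primeCompl M) ≤
        ((LocCoh.depth (Localization.AtPrime p.asIdeal)
          (LocalizedModule p.asIdeal.primeCompl M) : ℕ∞) : WithBot ℕ∞) + (n : WithBot ℕ∞)} := by
  let _ : Module R M := Module.compHom M (algebraMap R A)
  have hst : IsScalarTower R A M :=
    ⟨fun r a z => by
      change (r • a) • z = algebraMap R A r • (a • z)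
      rw [Algebra.smul_def, mul_smul]⟩
  have hfinA : Module.Finite R A := Module.Finite.of_surjective (Algebra.linearMap R A) hs
  have hfinM : Module.Finite R M := Module.Finite.trans A M
  have hopen := isOpen_setOf_supportDim_le_depth_add R M n
  have hcont : Continuous (PrimeSpectrum.comap (algebraMap R A)) :=
    PrimeSpectrum.continuous_comap (algebraMap R A)
  convert hopen.preimage hcont using 1
  ext p
  obtain ⟨h1, h2⟩ := depth_supportDim_localization_eq_of_surjective hs M p.asIdeal
  simp only [Set.mem_ofPred_eq, Set.mem_preimage]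
  rw [h1, h2]
  rfl

end Transport

end Groth.Agent.Lib.CodepthOpen33
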