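import Mathlib.RingTheory.DiscreteValuationRing.Basic
import Mathlib.RingTheory.Valuation.ValuationSubring
import Mathlib.RingTheory.KrullDimension.Basic
import Mathlib.RingTheory.Localization.FractionRing
import Mathlib.RingTheory.LocalRing.RingHom.Basic
import Mathlib.RingTheory.Noetherian.Basic

/-!
# Subrings of a field coming from local domains (helper13)

Ring-theoretic preparations for "finitely many codimension-one points of an integral separated
scheme lie in an affine open".
-/

set_option autoImplicit false
universe u

namespace Groth.Agent.Lib.CodimOne13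

/-- The image of `R` in its fraction field `K`, as a subring. -/
abbrev img (R : Type*) (K : Type*) [Field K] [CommRing R] [Algebra R K] : Subring K :=
  (algebraMap R K).range

variable (R : Type*) (K : Type*) [Field K] [CommRing R] [Algebra R K] [IsFractionRing R K]

/-- `R ≃ img R K`. -/
noncomputable def toImg : R ≃+* img R K :=
  RingEquiv.ofBijective (algebraMap R K).rangeRestrict
    ⟨fun _ _ h => IsFractionRing.injective R K (congrArg Subtype.val h),
      (algebraMap R K).rangeRestrict_surjective⟩

@[simp]
theorem coe_toImg (a : R) : ((toImg R K a : img R K) : K) = algebraMap R K a := rfl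

theorem isFractionRing_img : IsFractionRing (img R K) K := by
  apply IsFractionRing.of_field
  intro z
  obtain ⟨a, b, -, rfl⟩ := IsFractionRing.div_surjective R z
  exact ⟨toImg R K a, toImg R K b, rfl⟩

theorem isNoetherianRing_img [IsNoetherianRing R] : IsNoetherianRing (img R K) :=
  isNoetherianRing_of_ringEquiv R (toImg R K)

theorem ringKrullDim_img : ringKrullDim (img R K) = ringKrullDim R :=
  (ringKrullDim_eq_of_ringEquiv (toImg R K)).symm

theorem isLocalRing_img [IsLocalRing R] : IsLocalRing (img R K) :=
  (toImg R K).isLocalRing

variable {R K}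

/-- The map from `R` to a valuation subring containing its image. -/
noncomputable def toVal (O : ValuationSubring K) (h : img R K ≤ O.toSubring) : R →+* O :=
  (algebraMap R K).codRestrict O (fun a => h ⟨a, rfl⟩)

@[simp]
theorem coe_toVal (O : ValuationSubring K) (h : img R K ≤ O.toSubring) (a : R) :
    ((toVal O h a : O) : K) = algebraMap R K a := rfl

/-- A one-dimensional local domain contained in a valuation ring of its fraction field which is
not a field is dominated by it. -/
theorem isLocalHom_toVal [IsDomain R] [IsLocalRing R] (hdim : ringKrullDim R ≤ 1)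
    (O : ValuationSubring K) (hO : ¬ IsField O) (h : img R K ≤ O.toSubring) :
    IsLocalHom (toVal O h) := by
  have hinj : Function.Injective (algebraMap R K) := IsFractionRing.injective R K
  set P : Ideal R := (IsLocalRing.maximalIdeal O).comap (toVal O h) with hPdef
  have hprime : P.IsPrime := Ideal.comap_isPrime _ _
  have hne : P ≠ ⊥ := by
    intro hbot
    apply hO
    refine ⟨⟨0, 1, zero_ne_one⟩, mul_comm, fun {z} hz => ?_⟩
    obtain ⟨a, b, hb, hab⟩ := IsFractionRing.div_surjective R (z : K)
    have hb0 : algebraMap R K b ≠ 0 := by
      intro h0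
      exact (mem_nonZeroDivisors_iff_ne_zero.mp hb) (hinj (by rw [h0, map_zero]))
    have ha0 : a ≠ 0 := by
      rintro rfl
      rw [map_zero, zero_div] at hab
      exact hz (Subtype.ext hab.symm)
    have haP : a ∉ P := by rw [hbot]; exact ha0
    have hunit : IsUnit (toVal O h a) := by
      by_contra hnu
      exact haP ((IsLocalRing.mem_maximalIdeal _).mpr hnu)
    obtain ⟨w, hw⟩ := hunit.exists_right_inv
    refine ⟨toVal O h b * w, Subtype.ext ?_⟩
    have hw' : algebraMap R K a * (w : K) = 1 := congrArg Subtype.val hw
    have ha0' : algebraMap R K a ≠ 0 := fun h0 => ha0 (hinj (by rw [h0, map_zero]))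
    change (z : K) * (algebraMap R K b * (w : K)) = 1
    rw [← hab]
    field_simp
    linear_combination hw'
  have hdim' : Ring.KrullDimLE 1 R := Ring.krullDimLE_iff.mpr hdim
  have hmax : P.IsMaximal := Ideal.isMaximal_of_isPrime_of_ne_bot P hne
  have hP : P = IsLocalRing.maximalIdeal R := IsLocalRing.eq_maximalIdeal hmax
  constructor
  intro a ha
  by_contra hna
  have : a ∈ P := by rw [hP]; exact (IsLocalRing.mem_maximalIdeal a).mpr hna
  exact (IsLocalRing.mem_maximalIdeal _).mp this ha

end Groth.Agent.Lib.CodimOne13
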