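import Groth.Agent.Lib.KrullAkizuki
import Mathlib.RingTheory.Valuation.LocalSubring
import Mathlib.RingTheory.Ideal.KrullsHeightTheorem
import Mathlib.RingTheory.DiscreteValuationRing.TFAE
import Mathlib.RingTheory.EssentialFiniteness
import Mathlib.RingTheory.FiniteType

/-!
# Existence of discrete valuation rings dominating Noetherian local rings (helper85)

Stacks 00PH: a Noetherian local ring `R` mapping to a field `L` essentially of finite type over `R`,
with some element of the maximal ideal not killed, is dominated by a discrete valuation subring of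
`L`.

* `isDiscreteValuationRing_of_isNoetherianRing`: a Noetherian valuation subring `≠ ⊤` is a DVR.
* `isNoetherianRing_valuationSubring_of_le`: a valuation subring of `L` containing a Noetherian
  domain of dimension `≤ 1` whose fractions exhaust `L` is Noetherian (Krull–Akizuki).
* `exists_dvr_dominating`: the main result.
-/

set_option autoImplicit false

namespace Groth.Agent.Lib.DvrDominating

open IsLocalRing

/-- A Noetherian valuation subring which is not the whole field is a discrete valuation ring. -/
theorem isDiscreteValuationRing_of_isNoetherianRing {L : Type*} [Field L] (V : ValuationSubring L)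
    [IsNoetherianRing V] (hV : V ≠ ⊤) : IsDiscreteValuationRing V := by
  have hnf : ¬ IsField V := by
    intro hf
    apply hV
    rw [eq_top_iff]
    intro x _
    rcases V.mem_or_inv_mem x with h | h
    · exact h
    · by_cases hx : x = 0
      · rw [hx]; exact V.zero_mem
      · have hne : (⟨x⁻¹, h⟩ : V) ≠ 0 := by
          intro h0
          exact inv_ne_zero hx (congrArg Subtype.val h0)
        obtain ⟨y, hy⟩ := hf.mul_inv_cancel hne
        have hy' : x⁻¹ * (y : L) = 1 := congrArg Subtype.val hy
        have : (y : L) = x := by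
          field_simp at hy'
          exact hy'
        rw [← this]
        exact y.2
  have hvr : ValuationRing V := inferInstance
  exact ((IsDiscreteValuationRing.TFAE V hnf).out 0 1).mpr hvr

/-- Krull–Akizuki for valuation rings: a valuation subring of `L` containing a Noetherian domain of
dimension `≤ 1` whose fractions exhaust `L` is Noetherian. -/
theorem isNoetherianRing_valuationSubring_of_le {L : Type*} [Field L] (R' : Subring L)
    [IsNoetherianRing R'] [Ring.KrullDimLE 1 R']
    (hfrac : ∀ z : L, ∃ x ∈ R', ∃ y ∈ R', z = x / y) (V : ValuationSubring L)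
    (hle : R' ≤ V.toSubring) : IsNoetherianRing V := by
  have : IsFractionRing R' L := IsFractionRing.of_field R' L (fun z => by
    obtain ⟨x, hx, y, hy, rfl⟩ := hfrac z
    exact ⟨⟨x, hx⟩, ⟨y, hy⟩, rfl⟩)
  let _ : Algebra R' V := (Subring.inclusion hle).toAlgebra
  have : IsScalarTower R' V L := IsScalarTower.of_algebraMap_eq (fun _ => rfl)
  exact Groth.Agent.Lib.KrullAkizuki.isNoetherianRing_of_between (R := R') (K := L) (L := L)
    (A := V) Subtype.val_injective

/-- Core step: given a finitely generated subalgebra `S ⊆ L` over a Noetherian local ring `R`,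
an element `a ∈ S`, `a ≠ 0`, which is a non-unit of some valuation ring containing `S` and such that
`𝔪_R S ⊆ a S`, and such that the fractions of `S` exhaust `L`, there is a DVR of `L` dominating
`R`. -/
theorem exists_dvr_of_subalgebra (R : Type*) [CommRing R] [IsNoetherianRing R] [IsLocalRing R]
    {L : Type*} [Field L] [Algebra R L] (S : Subalgebra R L) (hSfg : S.FG)
    (W : ValuationSubring L) (hSW : ∀ s ∈ S, s ∈ W) (a : L) (haS : a ∈ S) (ha0 : a ≠ 0)
    (haW : ∀ w ∈ W, a * w ≠ 1)
    (hm : ∀ t ∈ maximalIdeal R, ∃ s ∈ S, algebraMap R L t = a * s)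
    (hfrac : ∀ z : L, ∃ x ∈ S, ∃ y ∈ S, z = x / y) :
    ∃ V : ValuationSubring L, IsDiscreteValuationRing V ∧
      ∃ h : ∀ r, algebraMap R L r ∈ V, IsLocalHom ((algebraMap R L).codRestrict V.toSubring h) := by
  have hft : Algebra.FiniteType R S := (Subalgebra.fg_iff_finiteType S).mp hSfg
  have hSn : IsNoetherianRing S := Algebra.FiniteType.isNoetherianRing R S
  let aS : S := ⟨a, haS⟩
  let I : Ideal S := Ideal.span {aS}
  have hI : I ≠ ⊤ := by
    intro hI
    rw [Ideal.span_singleton_eq_top] at hI
    obtain ⟨s, hs⟩ := hI.exists_right_inv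
    have : a * (s : L) = 1 := congrArg Subtype.val hs
    exact haW s (hSW s s.2) this
  obtain ⟨q, hq⟩ := Ideal.nonempty_minimalPrimes hI
  have hqp : q.IsPrime := hq.1.1
  have hqh : q.height ≤ 1 := Ideal.height_le_one_of_isPrincipal_of_mem_minimalPrimes I q hq
  have haq : aS ∈ q := hq.1.2 (Ideal.subset_span rfl)
  -- the local ring `S_q` inside `L`
  let q' : Ideal S.toSubring := q
  have hq'p : q'.IsPrime := hqp
  let R' : LocalSubring L := LocalSubring.ofPrime S.toSubring q'
  have hSR' : S.toSubring ≤ R'.toSubring := LocalSubring.le_ofPrime S.toSubring q'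
  have hSn' : IsNoetherianRing S.toSubring := hSn
  have hR'n : IsNoetherianRing R'.toSubring :=
    IsLocalization.isNoetherianRing q'.primeCompl R'.toSubring hSn'
  have hR'd : Ring.KrullDimLE 1 R'.toSubring := by
    rw [Ring.krullDimLE_iff, IsLocalization.AtPrime.ringKrullDim_eq_height q' R'.toSubring]
    exact_mod_cast hqh
  have hR'f : ∀ z : L, ∃ x ∈ R'.toSubring, ∃ y ∈ R'.toSubring, z = x / y := by
    intro z
    obtain ⟨x, hx, y, hy, e⟩ := hfrac z
    exact ⟨x, hSR' hx, y, hSR' hy, e⟩
  obtain ⟨V, hV1, hV2⟩ := R'.exists_le_valuationSubring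
  have hVn : IsNoetherianRing V :=
    isNoetherianRing_valuationSubring_of_le R'.toSubring hR'f V hV1
  -- `a` is a non-unit of `R'`
  have haR' : ¬ IsUnit (⟨a, hSR' haS⟩ : R'.toSubring) := by
    have h1 : algebraMap S.toSubring R'.toSubring aS ∈ maximalIdeal R'.toSubring :=
      (IsLocalization.AtPrime.to_map_mem_maximal_iff R'.toSubring q' aS).mpr haq
    exact h1
  have hnu : ∀ x : R'.toSubring, ¬ IsUnit x → ¬ IsUnit (Subring.inclusion hV1 x) :=
    fun x hx hu => hx (hV2.map_nonunit x hu)
  have hVtop : V ≠ ⊤ := by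
    intro hVt
    apply hnu _ haR'
    have hinv : a⁻¹ ∈ V := by rw [hVt]; trivial
    refine IsUnit.of_mul_eq_one ⟨a⁻¹, hinv⟩ ?_
    apply Subtype.ext
    show a * a⁻¹ = 1
    exact mul_inv_cancel₀ ha0
  have hdvr : IsDiscreteValuationRing V := isDiscreteValuationRing_of_isNoetherianRing V hVtop
  have hmem : ∀ r, algebraMap R L r ∈ V := fun r => hV1 (hSR' (S.algebraMap_mem r))
  refine ⟨V, hdvr, hmem, ⟨fun r hr => ?_⟩⟩
  by_contra hru
  have hrm : r ∈ maximalIdeal R := (IsLocalRing.mem_maximalIdeal r).mpr hru
  obtain ⟨s, hsS, hs⟩ := hm r hrm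
  have hnon : ¬ IsUnit (⟨algebraMap R L r, hSR' (S.algebraMap_mem r)⟩ : R'.toSubring) := by
    have h1 : (⟨algebraMap R L r, hSR' (S.algebraMap_mem r)⟩ : R'.toSubring) =
        ⟨a, hSR' haS⟩ * ⟨s, hSR' hsS⟩ := Subtype.ext hs
    rw [h1]
    intro hu
    exact haR' (isUnit_of_mul_isUnit_left hu)
  exact hnu _ hnon hr

/-- **Stacks 00PH.** Let `R` be a Noetherian local ring and `L` a field essentially of finite type
over `R` such that some element of the maximal ideal of `R` is not killed in `L`. Then there is a
discrete valuation subring of `L` containing the image of `R` and dominating it. -/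
theorem exists_dvr_dominating (R : Type*) [CommRing R] [IsNoetherianRing R] [IsLocalRing R]
    (L : Type*) [Field L] [Algebra R L] [hess : Algebra.EssFiniteType R L]
    (hR : ∃ t ∈ maximalIdeal R, algebraMap R L t ≠ 0) :
    ∃ V : ValuationSubring L, IsDiscreteValuationRing V ∧
      ∃ h : ∀ r, algebraMap R L r ∈ V, IsLocalHom ((algebraMap R L).codRestrict V.toSubring h) := by
  classical
  obtain ⟨W, hW, hWloc⟩ := IsLocalRing.exists_factor_valuationRing (algebraMap R L)
  obtain ⟨σ, hσ⟩ := (Algebra.essFiniteType_iff R L).mp hess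
  let σ' : Finset L := σ.image (fun y => if y ∈ W then y else y⁻¹)
  have hσ'W : ∀ y ∈ σ', y ∈ W := by
    intro y hy
    obtain ⟨y0, -, rfl⟩ := Finset.mem_image.mp hy
    by_cases h : y0 ∈ W
    · simp only [h, if_true]
    · simpa [h] using (W.mem_or_inv_mem y0).resolve_left h
  obtain ⟨G, hG⟩ := (isNoetherianRing_iff_ideal_fg R).mp inferInstance (maximalIdeal R)
  have hGm : ∀ g ∈ G, g ∈ maximalIdeal R := fun g hg => hG ▸ Ideal.subset_span hg
  -- some generator is not killed
  obtain ⟨g1, hg1G, hg1⟩ : ∃ g ∈ G, algebraMap R L g ≠ 0 := by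
    by_contra hcon
    push Not at hcon
    obtain ⟨t, ht, ht0⟩ := hR
    apply ht0
    have hle : maximalIdeal R ≤ RingHom.ker (algebraMap R L) := by
      rw [← hG, Ideal.span_le]
      intro g hg
      exact hcon g hg
    exact hle ht
  obtain ⟨g0, hg0G, hg0max⟩ := Finset.exists_max_image G
    (fun g => W.valuation (algebraMap R L g)) ⟨g1, hg1G⟩
  set a : L := algebraMap R L g0 with ha
  have ha0 : a ≠ 0 := by
    intro h0
    have h1 := hg0max g1 hg1G
    rw [h0, map_zero] at h1
    exact hg1 ((map_eq_zero _).mp (le_antisymm h1 zero_le))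
  let τ : Finset L := G.image (fun g => algebraMap R L g / a)
  have hτW : ∀ y ∈ τ, y ∈ W := by
    intro y hy
    obtain ⟨g, hg, rfl⟩ := Finset.mem_image.mp hy
    rw [← W.valuation_le_one_iff, map_div₀]
    exact div_le_one_of_le₀ (hg0max g hg) zero_le
  let S : Subalgebra R L := Algebra.adjoin R ((σ' ∪ τ : Finset L) : Set L)
  have hSfg : S.FG := Subalgebra.fg_adjoin_finset _
  have hSW : ∀ s ∈ S, s ∈ W := by
    intro s hs
    induction hs using Algebra.adjoin_induction with
    | mem x hx =>
      rcases Finset.mem_union.mp (Finset.mem_coe.mp hx) with h | h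
      · exact hσ'W x h
      · exact hτW x h
    | algebraMap r => exact hW r
    | add x y _ _ hx hy => exact W.add_mem _ _ hx hy
    | mul x y _ _ hx hy => exact W.mul_mem _ _ hx hy
  have haS : a ∈ S := S.algebraMap_mem g0
  have haW : ∀ w ∈ W, a * w ≠ 1 := by
    intro w hw hcon
    have hu : IsUnit ((algebraMap R L).codRestrict W.toSubring hW g0) := by
      refine IsUnit.of_mul_eq_one ⟨w, hw⟩ ?_
      apply Subtype.ext
      exact hcon
    have := hWloc.map_nonunit g0 hu
    exact (IsLocalRing.mem_maximalIdeal g0).mp (hGm g0 hg0G) this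
  have hm : ∀ t ∈ maximalIdeal R, ∃ s ∈ S, algebraMap R L t = a * s := by
    intro t ht
    rw [← hG] at ht
    induction ht using Submodule.span_induction with
    | mem g hg =>
      refine ⟨algebraMap R L g / a, Algebra.subset_adjoin ?_, ?_⟩
      · exact Finset.mem_coe.mpr (Finset.mem_union_right _ (Finset.mem_image_of_mem _ hg))
      · field_simp
    | zero => exact ⟨0, S.zero_mem, by simp⟩
    | add x y _ _ hx hy =>
      obtain ⟨s1, hs1, e1⟩ := hx
      obtain ⟨s2, hs2, e2⟩ := hy
      exact ⟨s1 + s2, S.add_mem hs1 hs2, by rw [map_add, e1, e2, mul_add]⟩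
    | smul r x _ hx =>
      obtain ⟨s1, hs1, e1⟩ := hx
      refine ⟨algebraMap R L r * s1, S.mul_mem (S.algebraMap_mem r) hs1, ?_⟩
      rw [smul_eq_mul, map_mul, e1]
      ring
  have hfrac : ∀ z : L, ∃ x ∈ S, ∃ y ∈ S, z = x / y := by
    let F : Subfield L := Subfield.closure (S : Set L)
    have hSF : ∀ s ∈ S, s ∈ F := fun s hs => Subfield.subset_closure hs
    have hadj : ∀ x ∈ Algebra.adjoin R (σ : Set L), x ∈ F := by
      intro x hx
      induction hx using Algebra.adjoin_induction with
      | mem y hy =>
        by_cases h : y ∈ W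
        · apply hSF
          refine Algebra.subset_adjoin (Finset.mem_coe.mpr (Finset.mem_union_left _ ?_))
          refine Finset.mem_image.mpr ⟨y, hy, by simp [h]⟩
        · have : y⁻¹ ∈ F := by
            apply hSF
            refine Algebra.subset_adjoin (Finset.mem_coe.mpr (Finset.mem_union_left _ ?_))
            refine Finset.mem_image.mpr ⟨y, hy, by simp [h]⟩
          simpa using F.inv_mem this
      | algebraMap r => exact hSF _ (S.algebraMap_mem r)
      | add x y _ _ hx hy => exact F.add_mem hx hy
      | mul x y _ _ hx hy => exact F.mul_mem hx hy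
    intro z
    obtain ⟨t, ht, htu, hzt⟩ := hσ z
    have hzF : z ∈ F := by
      have h1 : z = z * t / t := by
        field_simp [htu.ne_zero]
      rw [h1]
      exact F.div_mem (hadj _ hzt) (hadj _ ht)
    obtain ⟨x, hx, y, hy, e⟩ := Subfield.mem_closure_iff.mp hzF
    have hcl : Subring.closure (S : Set L) = S.toSubring := Subring.closure_eq S.toSubring
    rw [hcl] at hx hy
    exact ⟨x, hx, y, hy, e.symm⟩
  exact exists_dvr_of_subalgebra R S hSfg W hSW a haS ha0 haW hm hfrac

end Groth.Agent.Lib.DvrDominating
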