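import Groth.Agent.Lib.CodimOne13a
import Groth.Agent.S7663
import Mathlib.AlgebraicGeometry.FunctionField
import Mathlib.AlgebraicGeometry.Stalk
import Mathlib.AlgebraicGeometry.Morphisms.Separated

/-!
# Codimension one points of an integral separated scheme (helper13)

`sup_eq_top`: for distinct points `x ≠ y` of an integral separated scheme whose local rings have
dimension `≤ 1` (and `O_x` Noetherian of dimension one), the images of `O_x` and `O_y` in the
function field generate it as a ring (valuative criterion + Krull–Akizuki, `S7663`).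
-/

set_option autoImplicit false
universe u

namespace Groth.Agent.Lib.CodimOne13

open AlgebraicGeometry CategoryTheory TopologicalSpace Opposite IsLocalRing

theorem isDominant_SpecMap_of_injective {R S : CommRingCat.{u}} (φ : R ⟶ S)
    (h : Function.Injective φ.hom) : IsDominant (Spec.map φ) := by
  constructor
  change DenseRange (PrimeSpectrum.comap φ.hom)
  rw [PrimeSpectrum.denseRange_comap_iff_ker_le_nilRadical,
    (RingHom.injective_iff_ker_eq_bot _).mp h]
  exact bot_le

variable {Y : Scheme.{u}} [IsIntegral Y]

/-- The local ring at `x` as a subring of the function field. -/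
noncomputable abbrev stalkSub (x : Y) : Subring Y.functionField :=
  img (Y.presheaf.stalk x) Y.functionField

/-- `Spec K → Spec O_x → Y` is the canonical map from the generic point. -/
theorem SpecMap_algebraMap_fromSpecStalk (x : Y) :
    Spec.map (CommRingCat.ofHom (algebraMap (Y.presheaf.stalk x) Y.functionField)) ≫
      Y.fromSpecStalk x = Y.fromSpecStalk (genericPoint Y) :=
  Scheme.SpecMap_stalkSpecializes_fromSpecStalk ((genericPoint_spec Y).specializes trivial)

theorem sup_eq_top [Y.IsSeparated] {x y : Y} [IsNoetherianRing (Y.presheaf.stalk x)]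
    (hx : ringKrullDim (Y.presheaf.stalk x) = 1) (hy : ringKrullDim (Y.presheaf.stalk y) ≤ 1)
    (hxy : x ≠ y) : stalkSub x ⊔ stalkSub y = ⊤ := by
  by_contra hne
  have f1 := isFractionRing_img (Y.presheaf.stalk x) Y.functionField
  have f2 := isFractionRing_img (Y.presheaf.stalk y) Y.functionField
  have n1 := isNoetherianRing_img (Y.presheaf.stalk x) Y.functionField
  have d1 : ringKrullDim (stalkSub x) = 1 :=
    (ringKrullDim_img (Y.presheaf.stalk x) Y.functionField).trans hx
  obtain ⟨O, hDVR, hAx, hAy⟩ :=
    (Groth.Agent.S7663.result Y.functionField (stalkSub x) (stalkSub y) d1).mp hne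
  have hOnf : ¬ IsField O := IsDiscreteValuationRing.not_isField O
  have lx : IsLocalHom (toVal O hAx) := isLocalHom_toVal hx.le O hOnf hAx
  have ly : IsLocalHom (toVal O hAy) := isLocalHom_toVal hy O hOnf hAy
  let φx : Spec (.of O) ⟶ Y := Spec.map (CommRingCat.ofHom (toVal O hAx)) ≫ Y.fromSpecStalk x
  let φy : Spec (.of O) ⟶ Y := Spec.map (CommRingCat.ofHom (toVal O hAy)) ≫ Y.fromSpecStalk y
  let ιK : Spec Y.functionField ⟶ Spec (.of O) :=
    Spec.map (CommRingCat.ofHom (algebraMap O Y.functionField))
  have : IsDominant ιK := isDominant_SpecMap_of_injective _ Subtype.val_injective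
  have hx' : ιK ≫ φx = Y.fromSpecStalk (genericPoint Y) := by
    rw [← SpecMap_algebraMap_fromSpecStalk x, ← Category.assoc, ← Spec.map_comp]
    rfl
  have hy' : ιK ≫ φy = Y.fromSpecStalk (genericPoint Y) := by
    rw [← SpecMap_algebraMap_fromSpecStalk y, ← Category.assoc, ← Spec.map_comp]
    rfl
  have heq : φx = φy := ext_of_isDominant ιK (hx'.trans hy'.symm)
  have cx : φx (closedPoint O) = x := by
    change Y.fromSpecStalk x (PrimeSpectrum.comap (toVal O hAx) (closedPoint O)) = x
    rw [IsLocalRing.comap_closedPoint]
    exact Scheme.fromSpecStalk_closedPoint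
  have cy : φy (closedPoint O) = y := by
    change Y.fromSpecStalk y (PrimeSpectrum.comap (toVal O hAy) (closedPoint O)) = y
    rw [IsLocalRing.comap_closedPoint]
    exact Scheme.fromSpecStalk_closedPoint
  exact hxy (cx.symm.trans ((congrArg (fun f : Spec (.of O) ⟶ Y => f (closedPoint O)) heq).trans cy))

end Groth.Agent.Lib.CodimOne13
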