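import Groth.Agent.Lib.GlueDimOne2
import Mathlib.RingTheory.Localization.Ideal
import Mathlib.RingTheory.Localization.Finiteness
import Mathlib.RingTheory.Spectrum.Prime.Topology
import Mathlib.RingTheory.Spectrum.Maximal.Basic

/-!
# Structure of the glueing `A ⊓ B` of two semilocal one-dimensional domains (helper19)
-/

set_option autoImplicit false
universe u
open CategoryTheory CategoryTheory.Limits AlgebraicGeometry

namespace Groth.Agent.Lib.GlueDimOne

section generic

variable {R S : Type*} [CommRing R] [CommRing S] [IsDomain S] [Algebra R S]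

/-- A nonzero prime of `R` avoiding `f` contains every `g` whose image lies in all maximal
ideals of the one-dimensional domain `S = R[1/f]`. -/
theorem mem_of_away_radical (f : R) [IsLocalization.Away f S] [Ring.KrullDimLE 1 S]
    (hinj : Function.Injective (algebraMap R S)) (p : Ideal R) (hp : p.IsPrime) (hp0 : p ≠ ⊥)
    (hf : f ∉ p) (g : R) (hg : ∀ m : Ideal S, m.IsMaximal → algebraMap R S g ∈ m) : g ∈ p := by
  have hd : Disjoint (Submonoid.powers f : Set R) (p : Set R) := by
    rw [Set.disjoint_left]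
    rintro _ ⟨n, rfl⟩ hn
    exact hf (hp.mem_of_pow_mem n hn)
  have hP := IsLocalization.isPrime_of_isPrime_disjoint (Submonoid.powers f) S p hp hd
  have hc := IsLocalization.under_map_of_isPrime_disjoint (Submonoid.powers f) S hp hd
  have hP0 : p.map (algebraMap R S) ≠ ⊥ := by
    intro h
    apply hp0
    rw [← hc, h]
    exact (RingHom.injective_iff_ker_eq_bot _).mp hinj
  have hmax := hP.isMaximal_of_ne_bot hP0
  have := hg _ hmax
  rw [← hc]
  exact this

/-- A nonzero prime of `R` avoiding `f` and containing `g` with `f + g = 1` is maximal when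
`S = R[1/f]` is a one-dimensional domain. -/
theorem isMaximal_of_away (f : R) [IsLocalization.Away f S] [Ring.KrullDimLE 1 S]
    (hinj : Function.Injective (algebraMap R S)) (p : Ideal R) (hp : p.IsPrime) (hp0 : p ≠ ⊥)
    (hf : f ∉ p) (g : R) (hg : g ∈ p) (hfg : f + g = 1) : p.IsMaximal := by
  have hd : Disjoint (Submonoid.powers f : Set R) (p : Set R) := by
    rw [Set.disjoint_left]
    rintro _ ⟨n, rfl⟩ hn
    exact hf (hp.mem_of_pow_mem n hn)
  have hP := IsLocalization.isPrime_of_isPrime_disjoint (Submonoid.powers f) S p hp hd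
  have hc := IsLocalization.under_map_of_isPrime_disjoint (Submonoid.powers f) S hp hd
  have hP0 : p.map (algebraMap R S) ≠ ⊥ := by
    intro h
    apply hp0
    rw [← hc, h]
    exact (RingHom.injective_iff_ker_eq_bot _).mp hinj
  have hmax := hP.isMaximal_of_ne_bot hP0
  obtain ⟨q, hq, hpq⟩ := Ideal.exists_le_maximal p hp.ne_top
  have hfq : f ∉ q := by
    intro h
    apply hq.ne_top
    rw [Ideal.eq_top_iff_one, ← hfg]
    exact q.add_mem h (hpq hg)
  have hdq : Disjoint (Submonoid.powers f : Set R) (q : Set R) := by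
    rw [Set.disjoint_left]
    rintro _ ⟨n, rfl⟩ hn
    exact hfq (hq.isPrime.mem_of_pow_mem n hn)
  have hQ := IsLocalization.isPrime_of_isPrime_disjoint (Submonoid.powers f) S q hq.isPrime hdq
  have hcq := IsLocalization.under_map_of_isPrime_disjoint (Submonoid.powers f) S hq.isPrime hdq
  have hPQ : p.map (algebraMap R S) = q.map (algebraMap R S) :=
    hmax.eq_of_le hQ.ne_top (Ideal.map_mono hpq)
  have : p = q := by rw [← hc, ← hcq, hPQ]
  rw [this]
  exact hq

end generic

variable {K : Type u} [Field K]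

theorem Good.finite_primeSpectrum {A : Subring K} (hA : Good A) : Finite (PrimeSpectrum A) := by
  have := hA.sl
  have := hA.dim
  let f : Option (MaximalSpectrum A) → PrimeSpectrum A := fun o =>
    match o with
    | none => ⟨⊥, Ideal.isPrime_bot⟩
    | some M => ⟨M.asIdeal, M.isMaximal.isPrime⟩
  refine Finite.of_surjective f ?_
  intro p
  by_cases hp : p.asIdeal = ⊥
  · exact ⟨none, PrimeSpectrum.ext hp.symm⟩
  · exact ⟨some ⟨p.asIdeal, p.isPrime.isMaximal_of_ne_bot hp⟩, rfl⟩

/-- **Structure of the glueing**: `A ⊓ B` is again a semilocal one-dimensional Noetherian domain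
with fraction field `K`. -/
theorem good_inf (A B : Subring K) [IsNoetherianRing A] [IsNoetherianRing B]
    (hA : Good A) (hB : Good B) {y z : K} (hyz : y + z = 1) (hy : y ∈ radK B) (hz : z ∈ radK A) :
    Good (A ⊓ B) ∧ IsNoetherianRing (A ⊓ B : Subring K) := by
  obtain ⟨hy0, hz0, hyA, hyB, hzA, hzB, hyi, hzi, hBabs, hAabs⟩ :=
    glue_hyps_of_radK hA hB hyz hy hz
  have := hA.dim
  have := hB.dim
  have := hA.frac
  have := hB.frac
  let _ : Algebra (A ⊓ B : Subring K) A := (Subring.inclusion (inf_le_left : A ⊓ B ≤ A)).toAlgebra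
  let _ : Algebra (A ⊓ B : Subring K) B := (Subring.inclusion (inf_le_right : A ⊓ B ≤ B)).toAlgebra
  have hRA : IsLocalization.Away (⟨y, hyA, hyB⟩ : (A ⊓ B : Subring K)) A :=
    isLocalization_away_of_le (A ⊓ B) A inf_le_left y ⟨hyA, hyB⟩ hy0 hyi
      (fun a ha => (hBabs a).imp fun N hN => ⟨A.mul_mem ha (A.pow_mem hyA N), hN⟩)
  have hRB : IsLocalization.Away (⟨z, hzA, hzB⟩ : (A ⊓ B : Subring K)) B :=
    isLocalization_away_of_le (A ⊓ B) B inf_le_right z ⟨hzA, hzB⟩ hz0 hzi
      (fun a ha => (hAabs a).imp fun N hN => ⟨hN, B.mul_mem ha (B.pow_mem hzB N)⟩)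
  have hinjA : Function.Injective (algebraMap (A ⊓ B : Subring K) A) :=
    Subring.inclusion_injective _
  have hinjB : Function.Injective (algebraMap (A ⊓ B : Subring K) B) :=
    Subring.inclusion_injective _
  have hsum : (⟨y, hyA, hyB⟩ : (A ⊓ B : Subring K)) + ⟨z, hzA, hzB⟩ = 1 := by
    ext; simp [hyz]
  have hsum' : (⟨z, hzA, hzB⟩ : (A ⊓ B : Subring K)) + ⟨y, hyA, hyB⟩ = 1 := by
    rw [add_comm]; exact hsum
  -- dimension
  have hdim : Ring.KrullDimLE 1 (A ⊓ B : Subring K) := by
    apply Ring.KrullDimLE.mk₁'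
    intro p hp0 hp
    by_cases hyp : (⟨y, hyA, hyB⟩ : (A ⊓ B : Subring K)) ∈ p
    · have hzp : (⟨z, hzA, hzB⟩ : (A ⊓ B : Subring K)) ∉ p := by
        intro h
        apply hp.ne_top
        rw [Ideal.eq_top_iff_one, ← hsum]
        exact p.add_mem hyp h
      exact isMaximal_of_away (S := B) _ hinjB p hp hp0 hzp _ hyp hsum'
    · have hzp : (⟨z, hzA, hzB⟩ : (A ⊓ B : Subring K)) ∈ p :=
        mem_of_away_radical (S := A) _ hinjA p hp hp0 hyp _ (fun m hm => hz.2 m hm)
      exact isMaximal_of_away (S := A) _ hinjA p hp hp0 hyp _ hzp hsum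
  -- not a field
  have hnf : ¬ IsField (A ⊓ B : Subring K) := by
    intro hf
    obtain ⟨b, hb⟩ := hf.mul_inv_cancel (a := (⟨y, hyA, hyB⟩ : (A ⊓ B : Subring K)))
      (fun h => hy0 (congrArg Subtype.val h))
    have hbK : y * (b : K) = 1 := congrArg Subtype.val hb
    obtain ⟨M, hM⟩ := Ideal.exists_maximal B
    have h1 := hy.2 M hM
    have h2 : (⟨y, hy.1⟩ : B) * ⟨(b : K), b.2.2⟩ = 1 := Subtype.ext hbK
    apply hM.ne_top
    rw [Ideal.eq_top_iff_one, ← h2]
    exact M.mul_mem_right _ h1
  -- fraction field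
  have hfrac : IsFractionRing (A ⊓ B : Subring K) K := by
    apply IsFractionRing.of_field
    intro k
    obtain ⟨a, c, hc, rfl⟩ := IsFractionRing.div_surjective (A := A) k
    have hc0 : (c : K) ≠ 0 := fun h => nonZeroDivisors.ne_zero hc (Subtype.ext h)
    obtain ⟨N₁, h₁⟩ := hB.absorb hy (a : K)
    obtain ⟨N₂, h₂⟩ := hB.absorb hy (c : K)
    have hyN : y ^ (max N₁ N₂) ≠ 0 := pow_ne_zero _ hy0
    refine ⟨⟨(a : K) * y ^ (max N₁ N₂), A.mul_mem a.2 (A.pow_mem hyA _), h₁ _ (le_max_left _ _)⟩,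
      ⟨(c : K) * y ^ (max N₁ N₂), A.mul_mem c.2 (A.pow_mem hyA _), h₂ _ (le_max_right _ _)⟩, ?_⟩
    show (a : K) / (c : K) = ((a : K) * y ^ (max N₁ N₂)) / ((c : K) * y ^ (max N₁ N₂))
    rw [mul_div_mul_right _ _ hyN]
  -- finiteness of the spectrum
  have hfinP : Finite (PrimeSpectrum (A ⊓ B : Subring K)) := by
    have hfA := hA.finite_primeSpectrum
    have hfB := hB.finite_primeSpectrum
    have e1 := PrimeSpectrum.localization_away_comap_range A
      (⟨y, hyA, hyB⟩ : (A ⊓ B : Subring K))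
    have e2 := PrimeSpectrum.localization_away_comap_range B
      (⟨z, hzA, hzB⟩ : (A ⊓ B : Subring K))
    have hcov : (Set.univ : Set (PrimeSpectrum (A ⊓ B : Subring K))) =
        Set.range (PrimeSpectrum.comap (algebraMap (A ⊓ B : Subring K) A)) ∪
          Set.range (PrimeSpectrum.comap (algebraMap (A ⊓ B : Subring K) B)) := by
      rw [e1, e2]
      ext p
      simp only [Set.mem_univ, Set.mem_union, true_iff]
      by_contra hcon
      rw [not_or] at hcon
      have h1 : (⟨y, hyA, hyB⟩ : (A ⊓ B : Subring K)) ∈ p.asIdeal := by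
        by_contra h; exact hcon.1 h
      have h2 : (⟨z, hzA, hzB⟩ : (A ⊓ B : Subring K)) ∈ p.asIdeal := by
        by_contra h; exact hcon.2 h
      apply p.isPrime.ne_top
      rw [Ideal.eq_top_iff_one, ← hsum]
      exact p.asIdeal.add_mem h1 h2
    rw [← Set.finite_univ_iff, hcov]
    exact (Set.finite_range _).union (Set.finite_range _)
  have hsl : Finite (MaximalSpectrum (A ⊓ B : Subring K)) :=
    Finite.of_injective MaximalSpectrum.toPrimeSpectrum MaximalSpectrum.toPrimeSpectrum_injective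
  -- Noetherian
  have hnoeth : IsNoetherianRing (A ⊓ B : Subring K) := by
    rw [isNoetherianRing_iff_ideal_fg]
    intro I
    apply Ideal.fg_of_localizationSpan
      ({(⟨y, hyA, hyB⟩ : (A ⊓ B : Subring K)), ⟨z, hzA, hzB⟩} : Set (A ⊓ B : Subring K))
    · rw [Ideal.eq_top_iff_one, ← hsum]
      exact Ideal.add_mem _ (Ideal.subset_span (by simp)) (Ideal.subset_span (by simp))
    · rintro ⟨g, hg⟩
      rcases hg with rfl | rfl
      · have : IsNoetherianRing (Localization.Away (⟨y, hyA, hyB⟩ : (A ⊓ B : Subring K))) :=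
          isNoetherianRing_of_ringEquiv A
            (IsLocalization.algEquiv (Submonoid.powers (⟨y, hyA, hyB⟩ : (A ⊓ B : Subring K)))
              A (Localization.Away (⟨y, hyA, hyB⟩ : (A ⊓ B : Subring K)))).toRingEquiv
        exact IsNoetherian.noetherian _
      · have : IsNoetherianRing (Localization.Away (⟨z, hzA, hzB⟩ : (A ⊓ B : Subring K))) :=
          isNoetherianRing_of_ringEquiv B
            (IsLocalization.algEquiv (Submonoid.powers (⟨z, hzA, hzB⟩ : (A ⊓ B : Subring K)))
              B (Localization.Away (⟨z, hzA, hzB⟩ : (A ⊓ B : Subring K)))).toRingEquiv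
        exact IsNoetherian.noetherian _
  exact ⟨⟨hfrac, hdim, hnf, hsl⟩, hnoeth⟩

/-- Valuation subrings containing the glueing contain one of the two pieces. -/
theorem dom_inf (A B : Subring K) (hA : Good A) (hB : Good B) {y z : K} (hyz : y + z = 1)
    (hy : y ∈ radK B) (hz : z ∈ radK A) (V : ValuationSubring K)
    (hV : A ⊓ B ≤ V.toSubring) : A ≤ V.toSubring ∨ B ≤ V.toSubring := by
  obtain ⟨hy0, hz0, hyA, hyB, hzA, hzB, hyi, hzi, hBabs, hAabs⟩ :=
    glue_hyps_of_radK hA hB hyz hy hz
  have hyV : y ∈ V := hV ⟨hyA, hyB⟩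
  have hzV : z ∈ V := hV ⟨hzA, hzB⟩
  have hzy : 1 - y = z := by rw [← hyz]; ring
  by_cases hy1 : V.valuation y < 1
  · have hz1 : V.valuation z = 1 := by
      rw [← hzy]; exact Valuation.map_one_sub_of_lt _ hy1
    have hzi' := inv_mem_of_val_eq_one V hz1
    right
    intro b hb
    obtain ⟨N, hN⟩ := hAabs b
    exact mem_of_mul_pow_mem V hz0 hzi' N (hV ⟨hN, B.mul_mem hb (B.pow_mem hzB N)⟩)
  · have hy1' : V.valuation y = 1 :=
      le_antisymm ((V.valuation_le_one_iff y).mpr hyV) (not_lt.mp hy1)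
    have hyi' := inv_mem_of_val_eq_one V hy1'
    left
    intro a ha
    obtain ⟨N, hN⟩ := hBabs a
    exact mem_of_mul_pow_mem V hy0 hyi' N (hV ⟨A.mul_mem ha (A.pow_mem hyA N), hN⟩)

/-- If no nontrivial valuation subring contains both `R` and `B`, they generate `K`. -/
theorem sup_eq_top_of_dom (R B : Subring K) [IsFractionRing R K]
    (h : ∀ V : ValuationSubring K, R ≤ V.toSubring → B ≤ V.toSubring → V = ⊤) : R ⊔ B = ⊤ := by
  by_contra hne
  obtain ⟨k, hk⟩ : ∃ k : K, k ∉ R ⊔ B := by
    by_contra hcon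
    push Not at hcon
    exact hne (eq_top_iff.mpr fun k _ => hcon k)
  obtain ⟨a, c, hc, rfl⟩ := IsFractionRing.div_surjective (A := R) k
  have hc0 : (c : K) ≠ 0 := fun h => nonZeroDivisors.ne_zero hc (Subtype.ext h)
  have hcC : (c : K) ∈ R ⊔ B := (le_sup_left : R ≤ R ⊔ B) c.2
  have haC : (a : K) ∈ R ⊔ B := (le_sup_left : R ≤ R ⊔ B) a.2
  have hI : Ideal.span {(⟨c, hcC⟩ : (R ⊔ B : Subring K))} ≠ ⊤ := by
    intro htop
    rw [Ideal.span_singleton_eq_top] at htop
    obtain ⟨d, hd⟩ := htop.exists_right_inv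
    have hdK : (c : K) * (d : K) = 1 := congrArg Subtype.val hd
    apply hk
    have : algebraMap R K a / algebraMap R K c = (a : K) * (d : K) := by
      show (a : K) / (c : K) = _
      field_simp
      rw [mul_assoc, hdK, mul_one]
    rw [this]
    exact (R ⊔ B).mul_mem haC d.2
  obtain ⟨V, hV1, hV2⟩ := exists_valuationSubring_of_ideal' (R ⊔ B) _ hI
  have hVtop : V ≠ ⊤ :=
    ne_top_of_val_lt_one V hc0 (hV2 ⟨c, hcC⟩ (Ideal.subset_span rfl))
  exact hVtop (h V (le_sup_left.trans hV1) (le_sup_right.trans hV1))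

/-- The glueing invariant for a finite family of subrings. -/
structure Glued {ι : Type} (A : ι → Subring K) (R : Subring K) (hle : ∀ i, R ≤ A i) : Prop where
  good : Good R
  noeth : IsNoetherianRing R
  dom : ∀ V : ValuationSubring K, R ≤ V.toSubring → ∃ i, A i ≤ V.toSubring
  oi : ∀ i, IsOpenImmersion (Spec.map (CommRingCat.ofHom (Subring.inclusion (hle i))))
  cover : ∀ p : PrimeSpectrum R, ∃ i, ∃ q : PrimeSpectrum (A i),
    PrimeSpectrum.comap (Subring.inclusion (hle i)) q = p
  uniq : ∀ p : PrimeSpectrum R, p.asIdeal.IsMaximal → ∀ (i j : ι) (qi : PrimeSpectrum (A i))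
    (qj : PrimeSpectrum (A j)), PrimeSpectrum.comap (Subring.inclusion (hle i)) qi = p →
    PrimeSpectrum.comap (Subring.inclusion (hle j)) qj = p → i = j

theorem Glued.congr {ι : Type} {A : ι → Subring K} {R R' : Subring K} (h : R = R')
    {hle : ∀ i, R ≤ A i} (hG : Glued A R hle) (hle' : ∀ i, R' ≤ A i) : Glued A R' hle' := by
  subst h
  exact hG

theorem glued_base (A : Fin 1 → Subring K) (R : Subring K) (hR : R = A 0) (hle : ∀ i, R ≤ A i)
    (hgood : Good (A 0)) (hnoeth : IsNoetherianRing (A 0)) : Glued A R hle := by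
  subst hR
  refine ⟨hgood, hnoeth, fun V hV => ⟨0, hV⟩, ?_, ?_, ?_⟩
  · intro i
    obtain rfl : i = 0 := Subsingleton.elim _ _
    have : Subring.inclusion (hle 0) = RingHom.id _ := by ext; rfl
    rw [this]
    have : CommRingCat.ofHom (RingHom.id (A 0)) = 𝟙 (CommRingCat.of (A 0)) := rfl
    rw [this, Spec.map_id]
    infer_instance
  · intro p
    refine ⟨0, p, ?_⟩
    have : Subring.inclusion (hle 0) = RingHom.id _ := by ext; rfl
    rw [this]
    rfl
  · intro p _ i j _ _ _ _
    exact Subsingleton.elim _ _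

theorem comap_inclusion_comp {R S T : Subring K} (h₁ : R ≤ S) (h₂ : S ≤ T)
    (q : PrimeSpectrum T) :
    PrimeSpectrum.comap (Subring.inclusion (h₁.trans h₂)) q =
      PrimeSpectrum.comap (Subring.inclusion h₁) (PrimeSpectrum.comap (Subring.inclusion h₂) q) :=
  rfl

theorem comap_inclusion_irrel {R T : Subring K} (h h' : R ≤ T) (q : PrimeSpectrum T) :
    PrimeSpectrum.comap (Subring.inclusion h) q = PrimeSpectrum.comap (Subring.inclusion h') q :=
  rfl

set_option maxHeartbeats 1000000 in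
theorem glued_step {n : ℕ} (A : Fin (n + 2) → Subring K) (R : Subring K)
    (hle : ∀ i : Fin (n + 1), R ≤ A i.castSucc)
    (hG : Glued (fun i : Fin (n + 1) => A i.castSucc) R hle)
    (hB : Good (A (Fin.last _))) (hBn : IsNoetherianRing (A (Fin.last _)))
    (hgen : ∀ i : Fin (n + 1), A i.castSucc ⊔ A (Fin.last _) = ⊤)
    (hle' : ∀ i, R ⊓ A (Fin.last _) ≤ A i) : Glued A (R ⊓ A (Fin.last _)) hle' := by
  have hR := hG.good
  have := hG.noeth
  have := hR.frac
  have := hB.frac
  have := hR.dim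
  have := hB.dim
  -- `R` and `B` generate `K`
  have hsup : R ⊔ A (Fin.last _) = ⊤ := by
    apply sup_eq_top_of_dom
    intro V hRV hBV
    obtain ⟨i, hi⟩ := hG.dom V hRV
    have h1 : A i.castSucc ⊔ A (Fin.last _) ≤ V.toSubring := sup_le hi hBV
    rw [hgen i] at h1
    rw [eq_top_iff]
    intro k _
    exact h1 (Subring.mem_top k)
  obtain ⟨y, z, hyz, hy, hz⟩ := exists_radK_add_radK R (A (Fin.last _)) hR hB hsup
  obtain ⟨hgood', hnoeth'⟩ := good_inf R (A (Fin.last _)) hR hB hyz hy hz
  obtain ⟨hy0, hz0, hyA, hyB, hzA, hzB, hyi, hzi, hBabs, hAabs⟩ :=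
    glue_hyps_of_radK hR hB hyz hy hz
  obtain ⟨hoi1, hoi2, -, -⟩ :=
    glue R (A (Fin.last _)) y z hyz hy0 hz0 hyA hyB hzA hzB hyi hzi hBabs hAabs
  let _ : Algebra (R ⊓ A (Fin.last _) : Subring K) R :=
    (Subring.inclusion (inf_le_left : R ⊓ A (Fin.last _) ≤ R)).toAlgebra
  let _ : Algebra (R ⊓ A (Fin.last _) : Subring K) (A (Fin.last _)) :=
    (Subring.inclusion (inf_le_right : R ⊓ A (Fin.last _) ≤ A (Fin.last _))).toAlgebra
  have hRA : IsLocalization.Away (⟨y, hyA, hyB⟩ : (R ⊓ A (Fin.last _) : Subring K)) R :=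
    isLocalization_away_of_le _ R inf_le_left y ⟨hyA, hyB⟩ hy0 hyi
      (fun a ha => (hBabs a).imp fun N hN => ⟨R.mul_mem ha (R.pow_mem hyA N), hN⟩)
  have hRB : IsLocalization.Away (⟨z, hzA, hzB⟩ : (R ⊓ A (Fin.last _) : Subring K))
      (A (Fin.last _)) :=
    isLocalization_away_of_le _ (A (Fin.last _)) inf_le_right z ⟨hzA, hzB⟩ hz0 hzi
      (fun a ha => (hAabs a).imp fun N hN =>
        ⟨hN, (A (Fin.last _)).mul_mem ha ((A (Fin.last _)).pow_mem hzB N)⟩)
  have hsum : (⟨y, hyA, hyB⟩ : (R ⊓ A (Fin.last _) : Subring K)) + ⟨z, hzA, hzB⟩ = 1 := by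
    ext; simp [hyz]
  have e1 := PrimeSpectrum.localization_away_comap_range R
    (⟨y, hyA, hyB⟩ : (R ⊓ A (Fin.last _) : Subring K))
  have e2 := PrimeSpectrum.localization_away_comap_range (A (Fin.last _))
    (⟨z, hzA, hzB⟩ : (R ⊓ A (Fin.last _) : Subring K))
  have hinjc : Function.Injective (PrimeSpectrum.comap
      (Subring.inclusion (inf_le_left : R ⊓ A (Fin.last _) ≤ R))) :=
    PrimeSpectrum.localization_comap_injective R
      (Submonoid.powers (⟨y, hyA, hyB⟩ : (R ⊓ A (Fin.last _) : Subring K)))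
  -- a maximal ideal in the image of `Spec B` contains `y`
  have claimA : ∀ p : PrimeSpectrum (R ⊓ A (Fin.last _) : Subring K), p.asIdeal.IsMaximal →
      ∀ q : PrimeSpectrum (A (Fin.last _)),
        PrimeSpectrum.comap (Subring.inclusion (hle' (Fin.last _))) q = p →
        (⟨y, hyA, hyB⟩ : (R ⊓ A (Fin.last _) : Subring K)) ∈ p.asIdeal := by
    intro p hp q hq
    have hq0 : q.asIdeal ≠ ⊥ := by
      intro h0
      apply hgood'.nf
      rw [Ring.isField_iff_maximal_bot]
      have : p.asIdeal = ⊥ := by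
        rw [← hq]
        show Ideal.comap _ q.asIdeal = ⊥
        rw [h0]
        exact (RingHom.injective_iff_ker_eq_bot _).mp (Subring.inclusion_injective _)
      rw [← this]; exact hp
    have hqmax := q.isPrime.isMaximal_of_ne_bot hq0
    have := hy.2 _ hqmax
    rw [← hq]
    exact this
  -- a prime in the image of an old `Spec A_j` avoids `y`
  have claimB : ∀ (j : Fin (n + 1)) (q : PrimeSpectrum (A j.castSucc)),
      (⟨y, hyA, hyB⟩ : (R ⊓ A (Fin.last _) : Subring K)) ∉
        (PrimeSpectrum.comap (Subring.inclusion (hle' j.castSucc)) q).asIdeal := by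
    intro j q hmem
    have h1 : (⟨y, hle j hyA⟩ : A j.castSucc) ∈ q.asIdeal := hmem
    have h2 : (⟨y, hle j hyA⟩ : A j.castSucc) * ⟨y⁻¹, hle j hyi⟩ = 1 := by
      ext; simp [hy0]
    apply q.isPrime.ne_top
    rw [Ideal.eq_top_iff_one, ← h2]
    exact q.asIdeal.mul_mem_right _ h1
  refine ⟨hgood', hnoeth', ?_, ?_, ?_, ?_⟩
  · -- dom
    intro V hV
    rcases dom_inf R (A (Fin.last _)) hR hB hyz hy hz V hV with h | h
    · obtain ⟨i, hi⟩ := hG.dom V h
      exact ⟨i.castSucc, hi⟩
    · exact ⟨Fin.last _, h⟩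
  · -- open immersions
    intro i
    refine Fin.lastCases ?_ (fun j => ?_) i
    · exact hoi2
    · have h1 := hG.oi j
      have h2 : Subring.inclusion (hle' j.castSucc) =
          (Subring.inclusion (hle j)).comp
            (Subring.inclusion (inf_le_left : R ⊓ A (Fin.last _) ≤ R)) := by
        ext; rfl
      rw [h2, CommRingCat.ofHom_comp, Spec.map_comp]
      infer_instance
  · -- cover
    intro p
    by_cases hyp : (⟨y, hyA, hyB⟩ : (R ⊓ A (Fin.last _) : Subring K)) ∈ p.asIdeal
    · have hzp : p ∈ (PrimeSpectrum.basicOpen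
          (⟨z, hzA, hzB⟩ : (R ⊓ A (Fin.last _) : Subring K)) : Set _) := by
        intro h
        apply p.isPrime.ne_top
        rw [Ideal.eq_top_iff_one, ← hsum]
        exact p.asIdeal.add_mem hyp h
      rw [← e2] at hzp
      obtain ⟨q, hq⟩ := hzp
      exact ⟨Fin.last _, q, hq⟩
    · have hyp' : p ∈ (PrimeSpectrum.basicOpen
          (⟨y, hyA, hyB⟩ : (R ⊓ A (Fin.last _) : Subring K)) : Set _) := hyp
      rw [← e1] at hyp'
      obtain ⟨q, hq⟩ := hyp'
      obtain ⟨j, q', hq'⟩ := hG.cover q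
      refine ⟨j.castSucc, q', ?_⟩
      rw [← hq, ← hq']
      rfl
  · -- uniqueness at closed points
    intro p hp i j
    refine Fin.lastCases ?_ (fun i' => ?_) i <;> refine Fin.lastCases ?_ (fun j' => ?_) j
    · intro _ _ _ _; rfl
    · intro qi qj hqi hqj
      exact absurd (claimA p hp qi hqi) (hqj ▸ claimB j' qj)
    · intro qi qj hqi hqj
      exact absurd (claimA p hp qj hqj) (hqi ▸ claimB i' qi)
    · intro qi qj hqi hqj
      have hp0 : p.asIdeal ≠ ⊥ := by
        intro h0
        apply hgood'.nf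
        rw [Ring.isField_iff_maximal_bot, ← h0]
        exact hp
      have hq1 : PrimeSpectrum.comap (Subring.inclusion (inf_le_left : R ⊓ A (Fin.last _) ≤ R))
          (PrimeSpectrum.comap (Subring.inclusion (hle i')) qi) = p := hqi
      have hq2 : PrimeSpectrum.comap (Subring.inclusion (inf_le_left : R ⊓ A (Fin.last _) ≤ R))
          (PrimeSpectrum.comap (Subring.inclusion (hle j')) qj) = p := hqj
      have heq := hinjc (hq1.trans hq2.symm)
      have hq0 : (PrimeSpectrum.comap (Subring.inclusion (hle i')) qi).asIdeal ≠ ⊥ := by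
        intro h0
        apply hp0
        rw [← hq1]
        show Ideal.comap _ (PrimeSpectrum.comap (Subring.inclusion (hle i')) qi).asIdeal = ⊥
        rw [h0]
        exact (RingHom.injective_iff_ker_eq_bot _).mp (Subring.inclusion_injective _)
      have hqmax := (PrimeSpectrum.comap (Subring.inclusion (hle i')) qi).isPrime.isMaximal_of_ne_bot
        hq0
      have := hG.uniq _ hqmax i' j' qi qj rfl heq.symm
      rw [this]

theorem iInf_fin_succ_eq {n : ℕ} (A : Fin (n + 2) → Subring K) :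
    (⨅ i, A i) = (⨅ i : Fin (n + 1), A i.castSucc) ⊓ A (Fin.last _) := by
  apply le_antisymm
  · exact le_inf (le_iInf fun i => iInf_le A i.castSucc) (iInf_le A _)
  · refine le_iInf fun i => ?_
    refine Fin.lastCases ?_ (fun j => ?_) i
    · exact inf_le_right
    · exact inf_le_left.trans (iInf_le (fun i : Fin (n + 1) => A i.castSucc) j)

/-- **Glueing finitely many semilocal one-dimensional domains** (Stacks 09N2-style). -/
theorem glued_iInf : ∀ (n : ℕ) (A : Fin (n + 1) → Subring K), (∀ i, IsNoetherianRing (A i)) →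
    (∀ i, Good (A i)) → (∀ i j, i ≠ j → A i ⊔ A j = ⊤) → Glued A (⨅ i, A i) (iInf_le A)
  | 0, A, hN, hG, _ => by
    refine glued_base (A : Fin 1 → Subring K) _ ?_ _ (hG 0) (hN 0)
    apply le_antisymm (iInf_le A 0)
    refine le_iInf fun i => ?_
    obtain rfl : i = 0 := Subsingleton.elim (α := Fin 1) _ _
    exact le_rfl
  | n + 1, A, hN, hG, hgen => by
    have ih := glued_iInf n (fun i : Fin (n + 1) => A i.castSucc) (fun i => hN _) (fun i => hG _)
      (fun i j hij => hgen _ _ (fun h => hij (Fin.castSucc_injective _ h)))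
    have hle' : ∀ i, (⨅ i : Fin (n + 1), A i.castSucc) ⊓ A (Fin.last _) ≤ A i := by
      intro i
      rw [← iInf_fin_succ_eq]
      exact iInf_le A i
    have key := glued_step A (⨅ i : Fin (n + 1), A i.castSucc)
      (iInf_le (fun i : Fin (n + 1) => A i.castSucc)) ih (hG _) (hN _)
      (fun i => hgen _ _ (Fin.castSucc_lt_last i).ne) hle'
    exact key.congr (iInf_fin_succ_eq A).symm _

theorem Good.ringKrullDim_eq_one {A : Subring K} (hA : Good A) : ringKrullDim A = 1 := by
  have h1 : ringKrullDim A ≤ 1 := by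
    have := hA.dim
    rw [Ring.krullDimLE_iff] at this
    exact this
  have h0 : ¬ ringKrullDim A ≤ 0 := by
    intro h
    have : Ring.KrullDimLE 0 A := by rw [Ring.krullDimLE_iff]; exact h
    exact hA.nf Ring.KrullDimLE.isField_of_isDomain
  apply le_antisymm h1
  by_contra hcon
  apply h0
  have h2 : ringKrullDim A < 1 := lt_of_le_of_ne h1 (fun h => hcon h.ge)
  revert h2
  generalize ringKrullDim A = x
  intro h2
  induction x using WithBot.recBotCoe with
  | bot => exact bot_le
  | coe x =>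
    have h3 : x < 1 := by exact_mod_cast h2
    have h4 : x = 0 := Order.lt_one_iff.mp h3
    rw [h4]
    rfl

end Groth.Agent.Lib.GlueDimOne
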