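import Groth.Agent.Lib.CodimOne13b
import Groth.Agent.Lib.AffNbhd13c
import Groth.Agent.S7665
import Mathlib.AlgebraicGeometry.Gluing

/-!
# Finitely many codimension one points of an integral separated scheme lie in an affine open
(helper13) — the case of pairwise distinct points with one-dimensional Noetherian local rings.
-/

set_option autoImplicit false
universe u

namespace Groth.Agent.Lib.CodimOne13

open AlgebraicGeometry CategoryTheory TopologicalSpace Opposite IsLocalRing Limits

theorem isIso_stalkMap_of_eq {X Z : Scheme.{u}} {f g : X ⟶ Z} (h : f = g) (x : X)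
    [IsIso (g.stalkMap x)] : IsIso (f.stalkMap x) := by
  subst h; infer_instance

theorem isIso_stalkMap_fromSpecStalk {Y : Scheme.{u}} (x : Y)
    (p : Spec (Y.presheaf.stalk x)) (hp : p = closedPoint (Y.presheaf.stalk x)) :
    IsIso ((Y.fromSpecStalk x).stalkMap p) := by
  subst hp
  have h1 : IsIso (Scheme.stalkClosedPointTo (Y.fromSpecStalk x)) := by
    rw [Scheme.stalkClosedPointTo_fromSpecStalk]; infer_instance
  unfold Scheme.stalkClosedPointTo at h1
  exact IsIso.of_isIso_comp_right _ (stalkClosedPointIso _).hom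

variable {Y : Scheme.{u}} [IsIntegral Y]

theorem exists_isAffineOpen_of_dim_eq_one [Y.IsSeparated] {r : ℕ} (hr : 1 ≤ r) (x : Fin r → Y)
    (hinj : Function.Injective x) (hN : ∀ i, IsNoetherianRing (Y.presheaf.stalk (x i)))
    (hd : ∀ i, ringKrullDim (Y.presheaf.stalk (x i)) = 1) :
    ∃ U : Y.Opens, IsAffineOpen U ∧ ∀ i, x i ∈ U := by
  classical
  let A : Fin r → Subring Y.functionField := fun i => stalkSub (x i)
  have iN : ∀ i, IsNoetherianRing (A i) := fun i =>
    isNoetherianRing_img (Y.presheaf.stalk (x i)) Y.functionField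
  have iF : ∀ i, IsFractionRing (A i) Y.functionField := fun i =>
    isFractionRing_img (Y.presheaf.stalk (x i)) Y.functionField
  have iL : ∀ i, IsLocalRing (A i) := fun i =>
    isLocalRing_img (Y.presheaf.stalk (x i)) Y.functionField
  have hdim : ∀ i, ringKrullDim (A i) = 1 := fun i =>
    (ringKrullDim_img (Y.presheaf.stalk (x i)) Y.functionField).trans (hd i)
  have hsl : ∀ i, Finite (MaximalSpectrum (A i)) := fun i => inferInstance
  have hgen : ∀ i j, i ≠ j → A i ⊔ A j = ⊤ := fun i j hij =>
    sup_eq_top (hd i) (hd j).le (hinj.ne hij)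
  obtain ⟨-, -, -, -, hopen, hcov, -⟩ :=
    Groth.Agent.S7665.result Y.functionField r hr A hdim hsl hgen
  let ι : ∀ i, Spec (.of (A i)) ⟶ Spec (.of ↥(⨅ i, A i)) := fun i =>
    Spec.map (CommRingCat.ofHom (Subring.inclusion (iInf_le A i)))
  have hcov' : ∀ z : Spec (.of ↥(⨅ i, A i)), ∃ i y, ι i y = z := by
    intro z
    have : z ∈ ⋃ i, Set.range (ι i) := by
      have h := hcov
      change (⋃ i, Set.range (ι i)) = Set.univ at h
      rw [h]; trivial
    obtain ⟨i, y, hy⟩ := Set.mem_iUnion.mp this
    exact ⟨i, y, hy⟩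
  let 𝒰 : (Spec (.of ↥(⨅ i, A i))).OpenCover :=
    Scheme.Cover.mkOfCovers (Fin r) (fun i => Spec (.of (A i))) ι hcov' (fun i => hopen i)
  -- the maps to `Y`
  let φ : ∀ i, Spec (.of (A i)) ⟶ Y := fun i =>
    Spec.map (CommRingCat.ofHom (toImg (Y.presheaf.stalk (x i)) Y.functionField).toRingHom) ≫
      Y.fromSpecStalk (x i)
  have hφK : ∀ i, Spec.map (CommRingCat.ofHom (A i).subtype) ≫ φ i =
      Y.fromSpecStalk (genericPoint Y) := by
    intro i
    rw [← SpecMap_algebraMap_fromSpecStalk (x i), ← Category.assoc, ← Spec.map_comp]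
    rfl
  have hφ : ∀ i j : Fin r,
      pullback.fst (ι i) (ι j) ≫ φ i = pullback.snd (ι i) (ι j) ≫ φ j := by
    intro i j
    have : IsOpenImmersion (ι j) := hopen j
    have : IsOpenImmersion (pullback.fst (ι i) (ι j)) := inferInstance
    have : IsReduced (pullback (ι i) (ι j)) :=
      isReduced_of_isOpenImmersion (pullback.fst (ι i) (ι j))
    let ιP : Spec Y.functionField ⟶ pullback (ι i) (ι j) :=
      pullback.lift (Spec.map (CommRingCat.ofHom (A i).subtype))
        (Spec.map (CommRingCat.ofHom (A j).subtype)) (by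
          rw [← Spec.map_comp, ← Spec.map_comp]; rfl)
    have hdom : IsDominant ιP := by
      constructor
      intro p
      rw [(pullback.fst (ι i) (ι j)).isOpenEmbedding.isInducing.closure_eq_preimage_closure_image]
      have hd1 : IsDominant (Spec.map (CommRingCat.ofHom (A i).subtype)) :=
        isDominant_SpecMap_of_injective _ Subtype.val_injective
      have hsub : Set.range (Spec.map (CommRingCat.ofHom (A i).subtype)) ⊆
          (pullback.fst (ι i) (ι j)) '' Set.range ιP := by
        rintro _ ⟨z, rfl⟩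
        refine ⟨ιP z, ⟨z, rfl⟩, ?_⟩
        rw [← Scheme.Hom.comp_apply, pullback.lift_fst]
        rfl
      exact closure_mono hsub (hd1.denseRange _)
    exact ext_of_isDominant ιP ((pullback.lift_fst_assoc _ _ _ _).trans
      ((hφK i).trans ((hφK j).symm.trans (pullback.lift_snd_assoc _ _ _ _).symm)))
  let f : Spec (.of ↥(⨅ i, A i)) ⟶ Y := 𝒰.glueMorphisms φ (fun i j => hφ i j)
  have hf : ∀ i : Fin r, ι i ≫ f = φ i := fun i => 𝒰.ι_glueMorphisms φ _ i
  let t : Fin r → Spec (.of ↥(⨅ i, A i)) := fun i => ι i (closedPoint (A i))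
  have hc : ∀ i, Spec.map (CommRingCat.ofHom
      (toImg (Y.presheaf.stalk (x i)) Y.functionField).toRingHom) (closedPoint (A i)) =
      closedPoint (Y.presheaf.stalk (x i)) := by
    intro i
    have : IsLocalHom (toImg (Y.presheaf.stalk (x i)) Y.functionField).toRingHom := by
      constructor
      intro a ha
      have := (toImg (Y.presheaf.stalk (x i)) Y.functionField).symm.toRingHom.isUnit_map ha
      simpa using this
    exact IsLocalRing.comap_closedPoint _
  have hft : ∀ i, f (t i) = x i := by
    intro i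
    change f (ι i (closedPoint (A i))) = x i
    rw [← Scheme.Hom.comp_apply, hf i]
    have h2 : (φ i) (closedPoint (A i)) = Y.fromSpecStalk (x i) (Spec.map (CommRingCat.ofHom
        (toImg (Y.presheaf.stalk (x i)) Y.functionField).toRingHom) (closedPoint (A i))) := rfl
    rw [h2, hc i]
    exact Scheme.fromSpecStalk_closedPoint
  have hiso : ∀ i, IsIso (f.stalkMap (t i)) := by
    intro i
    have h1 : IsIso ((ι i ≫ f).stalkMap (closedPoint (A i))) := by
      have : IsIso ((φ i).stalkMap (closedPoint (A i))) := by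
        rw [Scheme.Hom.stalkMap_comp]
        have h3 := isIso_stalkMap_fromSpecStalk (x i) _ (hc i)
        have h4 : IsIso (CommRingCat.ofHom
            (toImg (Y.presheaf.stalk (x i)) Y.functionField).toRingHom) :=
          (toImg (Y.presheaf.stalk (x i)) Y.functionField).toCommRingCatIso.isIso_hom
        have h5 : IsIso (Spec.map (CommRingCat.ofHom
            (toImg (Y.presheaf.stalk (x i)) Y.functionField).toRingHom)) := inferInstance
        have h6 : IsIso ((Spec.map (CommRingCat.ofHom
            (toImg (Y.presheaf.stalk (x i)) Y.functionField).toRingHom)).stalkMap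
              (closedPoint (A i))) := inferInstance
        exact @IsIso.comp_isIso _ _ _ _ _ _ _ h3 h6
      exact isIso_stalkMap_of_eq (hf i) _
    have : IsOpenImmersion (ι i) := hopen i
    have h2 : IsIso (f.stalkMap (ι i (closedPoint (A i))) ≫
        (ι i).stalkMap (closedPoint (A i))) := by
      rw [← Scheme.Hom.stalkMap_comp]; exact h1
    exact IsIso.of_isIso_comp_right (f.stalkMap (ι i (closedPoint (A i))))
      ((ι i).stalkMap (closedPoint (A i)))
  have hT : ∀ ξ ξ' : Spec (.of ↥(⨅ i, A i)),
      closure ({ξ} : Set (Spec (.of ↥(⨅ i, A i)))) ∈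
        irreducibleComponents (Spec (.of ↥(⨅ i, A i))) →
      closure ({ξ'} : Set (Spec (.of ↥(⨅ i, A i)))) ∈
        irreducibleComponents (Spec (.of ↥(⨅ i, A i))) → f ξ = f ξ' → ξ = ξ' := by
    intro ξ ξ' h1 h2 _
    have : IrreducibleSpace (Spec (.of ↥(⨅ i, A i))) :=
      inferInstanceAs (IrreducibleSpace (PrimeSpectrum ↥(⨅ i, A i)))
    rw [irreducibleComponents_eq_singleton, Set.mem_singleton_iff] at h1 h2
    exact (inseparable_iff_closure_eq.mpr (h1.trans h2.symm)).eq
  obtain ⟨U, hU, hUt⟩ := Groth.Agent.Lib.AffNbhd13c.exists_isAffineOpen_of_isIso_stalkMap hT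
    (Finset.univ.image t) (by
      intro p hp
      obtain ⟨i, -, rfl⟩ := Finset.mem_image.mp hp
      exact hiso i)
  exact ⟨U, hU, fun i => hft i ▸ hUt (t i) (Finset.mem_image_of_mem t (Finset.mem_univ i))⟩

end Groth.Agent.Lib.CodimOne13
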