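import Groth.Agent.Lib.CodimOne13c
import Mathlib.RingTheory.KrullDimension.LocalRing

/-!
# Finitely many points of codimension ≤ 1 of an integral separated scheme lie in an affine open
(helper13) — Stacks, Varieties, Lemma "finite-in-codim-1".
-/

set_option autoImplicit false
universe u

namespace Groth.Agent.Lib.CodimOne13

open AlgebraicGeometry CategoryTheory TopologicalSpace Opposite IsLocalRing Limits

theorem dim_eq_one_of_not_isField {R : Type*} [CommRing R] [IsDomain R]
    (h : ringKrullDim R ≤ 1) (hn : ¬ IsField R) : ringKrullDim R = 1 := by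
  have : ¬ ringKrullDim R ≤ 0 := fun h0 => by
    have : Ring.KrullDimLE 0 R := Ring.krullDimLE_iff.mpr h0
    exact hn Ring.KrullDimLE.isField_of_isDomain
  exact le_antisymm h (Order.succ_le_of_lt (lt_of_not_ge this))

variable {Y : Scheme.{u}} [IsIntegral Y]

theorem not_isField_stalk_of_ne_genericPoint {x : Y} (hx : x ≠ genericPoint Y) :
    ¬ IsField (Y.presheaf.stalk x) := by
  intro hF
  apply hx
  have hm : maximalIdeal (Y.presheaf.stalk x) = ⊥ := isField_iff_maximalIdeal_eq.mp hF
  have hη : genericPoint Y ∈ Set.range (Y.fromSpecStalk x) := by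
    rw [Scheme.range_fromSpecStalk]
    exact (genericPoint_spec Y).specializes trivial
  obtain ⟨p, hp⟩ := hη
  have hpc : p = closedPoint (Y.presheaf.stalk x) := by
    apply PrimeSpectrum.ext
    have h1 : p.asIdeal ≤ maximalIdeal (Y.presheaf.stalk x) := le_maximalIdeal p.2.ne_top
    rw [hm, le_bot_iff] at h1
    rw [h1]
    exact hm.symm
  rw [← hp, hpc]
  exact Scheme.fromSpecStalk_closedPoint.symm

theorem exists_isAffineOpen_of_dim_le_one [Y.IsSeparated] (s : Finset Y)
    (hs : ∀ x ∈ s, IsNoetherianRing (Y.presheaf.stalk x) ∧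
      ringKrullDim (Y.presheaf.stalk x) ≤ 1) :
    ∃ U : Y.Opens, IsAffineOpen U ∧ ∀ x ∈ s, x ∈ U := by
  classical
  let s' : Finset Y := s.filter (· ≠ genericPoint Y)
  by_cases hs' : s' = ∅
  · obtain ⟨_, ⟨U, hU, rfl⟩, hηU, -⟩ := Y.isBasis_affineOpens.exists_subset_of_mem_open
      (Set.mem_univ (genericPoint Y)) isOpen_univ
    refine ⟨U, hU, fun x hx => ?_⟩
    by_cases hxη : x = genericPoint Y
    · rw [hxη]; exact hηU
    · have : x ∈ s' := Finset.mem_filter.mpr ⟨hx, hxη⟩
      rw [hs'] at this
      exact absurd this (Finset.notMem_empty x)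
  · have hr : 1 ≤ s'.card := Finset.card_pos.mpr (Finset.nonempty_iff_ne_empty.mpr hs')
    let e := s'.equivFin.symm
    let x : Fin s'.card → Y := fun i => (e i).1
    have hxmem : ∀ i, x i ∈ s ∧ x i ≠ genericPoint Y := fun i =>
      Finset.mem_filter.mp (e i).2
    have hinj : Function.Injective x := fun i j h => e.injective (Subtype.ext h)
    obtain ⟨U, hU, hxU⟩ := exists_isAffineOpen_of_dim_eq_one hr x hinj
      (fun i => (hs _ (hxmem i).1).1)
      (fun i => dim_eq_one_of_not_isField (hs _ (hxmem i).1).2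
        (not_isField_stalk_of_ne_genericPoint (hxmem i).2))
    refine ⟨U, hU, fun y hy => ?_⟩
    by_cases hyη : y = genericPoint Y
    · rw [hyη]
      obtain ⟨z, hz⟩ := Finset.nonempty_iff_ne_empty.mpr hs'
      have hzU : z ∈ U := by
        have := hxU (e.symm ⟨z, hz⟩)
        simpa [x] using this
      exact ((genericPoint_spec Y).mem_open_set_iff U.2).mpr ⟨z, trivial, hzU⟩
    · have hy' : y ∈ s' := Finset.mem_filter.mpr ⟨hy, hyη⟩
      have := hxU (e.symm ⟨y, hy'⟩)
      simpa [x] using this

end Groth.Agent.Lib.CodimOne13
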