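import Groth.Agent.Lib.CodimOne13d
import Groth.Agent.Lib.AffComp13c

/-!
# Finitely many points of codimension ≤ 1 lie in an affine open (helper13) — Stacks 09NN

`exists_isAffineOpen_of_codim_le_one`: on a separated scheme whose quasi-compact opens have
finitely many irreducible components, any finite set of points with Noetherian local rings of
dimension `≤ 1` lies in an affine open.
-/

set_option autoImplicit false
universe u

namespace Groth.Agent.Lib.CodimOne13

open AlgebraicGeometry CategoryTheory TopologicalSpace Opposite IsLocalRing Limits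
open Groth.Agent.Lib.AffComp13

variable {X : Scheme.{u}}

theorem irreducibleSpace_RS (C : Closeds X) (hC : IsIrreducible (C : Set X)) :
    IrreducibleSpace (RS C) := by
  obtain ⟨c, hc⟩ := hC.1
  obtain ⟨y0, -⟩ := exists_rι_eq C hc
  have hne : Nonempty (RS C) := ⟨y0⟩
  refine { toNonempty := hne, isPreirreducible_univ := ?_ }
  rintro u v hu hv ⟨a, -, hau⟩ ⟨b, -, hbv⟩
  obtain ⟨u', hu', rfl⟩ := (rι C).isClosedEmbedding.isInducing.isOpen_iff.mp hu
  obtain ⟨v', hv', rfl⟩ := (rι C).isClosedEmbedding.isInducing.isOpen_iff.mp hv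
  obtain ⟨z, hzC, hzu, hzv⟩ := hC.2 u' v' hu' hv' ⟨rι C a, rι_mem C a, hau⟩
    ⟨rι C b, rι_mem C b, hbv⟩
  obtain ⟨y, rfl⟩ := exists_rι_eq C hzC
  exact ⟨y, trivial, hzu, hzv⟩

theorem isSeparated_RS [X.IsSeparated] (C : Closeds X) : (RS C).IsSeparated :=
  ⟨by rw [← terminal.comp_from (rι C)]; infer_instance⟩

/-- The case of finitely many irreducible components. -/
theorem exists_isAffineOpen_of_finite_irreducibleComponents [X.IsSeparated]
    (hX : (irreducibleComponents X).Finite) (s : Finset X)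
    (hs : ∀ x ∈ s, IsNoetherianRing (X.presheaf.stalk x) ∧
      ringKrullDim (X.presheaf.stalk x) ≤ 1) :
    ∃ U : X.Opens, IsAffineOpen U ∧ ∀ x ∈ s, x ∈ U := by
  classical
  let sC : Finset (Closeds X) := hX.toFinset.attach.image fun Z =>
    ⟨Z.1, isClosed_of_mem_irreducibleComponents Z.1 (hX.mem_toFinset.mp Z.2)⟩
  have hsC : ∀ x : X, ∃ C ∈ sC, x ∈ C := by
    intro x
    obtain ⟨Z, hZ, hxZ⟩ := exists_mem_irreducibleComponents_subset_of_isIrreducible {x}
      isIrreducible_singleton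
    refine ⟨⟨Z, isClosed_of_mem_irreducibleComponents Z hZ⟩, ?_, hxZ rfl⟩
    exact Finset.mem_image.mpr ⟨⟨Z, hX.mem_toFinset.mpr hZ⟩, Finset.mem_attach _ _, rfl⟩
  have hh : ∀ C ∈ sC, ∃ U : X.Opens, IsAffineOpen (rι C ⁻¹ᵁ U) ∧ (s : Set X) ∩ C ⊆ U := by
    intro C hC
    have hCirr : IsIrreducible (C : Set X) := by
      obtain ⟨Z, -, rfl⟩ := Finset.mem_image.mp hC
      exact (hX.mem_toFinset.mp Z.2).1
    have := irreducibleSpace_RS C hCirr
    have : IsIntegral (RS C) := isIntegral_of_irreducibleSpace_of_isReduced _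
    have := isSeparated_RS C
    have hfin : ((rι C) ⁻¹' (s : Set X)).Finite :=
      s.finite_toSet.preimage (rι_injective C).injOn
    obtain ⟨V, hV, hsV⟩ := exists_isAffineOpen_of_dim_le_one hfin.toFinset (by
      intro z hz
      rw [Set.Finite.mem_toFinset] at hz
      obtain ⟨hN, hd⟩ := hs _ hz
      have hsurj : Function.Surjective ((rι C).stalkMap z) := (rι C).stalkMap_surjective z
      exact ⟨isNoetherianRing_of_surjective _ _ ((rι C).stalkMap z).hom hsurj,
        (ringKrullDim_le_of_surjective ((rι C).stalkMap z).hom hsurj).trans hd⟩)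
    obtain ⟨O, hO, hOV⟩ := (rι C).isClosedEmbedding.isInducing.isOpen_iff.mp V.2
    refine ⟨⟨O, hO⟩, ?_, ?_⟩
    · have : rι C ⁻¹ᵁ ⟨O, hO⟩ = V := Opens.ext hOV
      rw [this]; exact hV
    · rintro t ⟨htS, htC⟩
      obtain ⟨z, rfl⟩ := exists_rι_eq C htC
      have hz : z ∈ V := hsV z (by rw [Set.Finite.mem_toFinset]; exact htS)
      have : z ∈ (rι C) ⁻¹' O := by rw [hOV]; exact hz
      exact this
  obtain ⟨U, hU, hTU⟩ := exists_isAffineOpen_of_cover (s : Set X) s.finite_toSet sC hsC hh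
  exact ⟨U, hU, fun x hx => hTU hx⟩

end Groth.Agent.Lib.CodimOne13
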