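import Groth.Agent.Lib.CodimZeroNbhd46
import Groth.Agent.Lib.AlgSpFibreEmb46
import Groth.Agent.Lib.AlgSpGenericPt
import Groth.Agent.Lib.AlgSpDecentPt91b
import Groth.Agent.Lib.H86AlgSpOpen
import Groth.Agent.Lib.H86ZarGlue
import Groth.Agent.Lib.AlgSpQC
import Groth.Agent.Lib.AlgSpDim91
import Groth.Agent.Lib.DimZeroTop
import Groth.Agent.S10196

/-!
# Codimension-zero points of quasi-separated algebraic spaces have affine open neighbourhoods;
quasi-separated algebraic spaces of dimension zero are schemes (helper46)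
-/

set_option autoImplicit false
universe u
open CategoryTheory CategoryTheory.Limits AlgebraicGeometry Opposite

namespace Groth.Agent.Lib.CodimZeroNbhd46

open AlgSp

variable {S : Scheme.{u}}

/-- A codimension-zero point of a quasi-separated algebraic space over a quasi-separated scheme has an
affine open neighbourhood. -/
theorem exists_affine_open_nbhd [QuasiSeparatedSpace S]
    (X : AlgSp.Space S) (hqs : AlgSp.IsQuasiSeparatedSp X.obj) (x : AlgSp.Points X.obj)
    (hx : AlgSp.HasAt (fun U u => ringKrullDim ↥(U.presheaf.stalk u) = 0) X.obj x) :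
    ∃ (M : Over S) (f : (yon S).obj M ⟶ X.obj), IsAffine M.left ∧ RepWith @IsOpenImmersion f ∧
      x ∈ Set.range (Points.map f) := by
  have hdec : IsDecent X.obj :=
    Groth.Agent.Lib.AlgSpDecentPt91.isDecent_of_isQuasiSeparatedSp X.property hqs
  obtain ⟨p, hp, hm, hq⟩ := hdec x
  obtain ⟨U, a, u, ha, hUaff, hu, huniq⟩ :=
    Groth.Agent.Lib.AlgSpFibreEmb46.exists_affine_chart_unique X p hq
  have hxu : Points.ofPt a u = x := hu.trans hp
  obtain ⟨U₀, a₀, u₀, ha₀, hu₀, hdim⟩ := hx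
  have h0 : ∀ u' : ↥U₀.left, u' ⤳ u₀ → u' = u₀ :=
    (Groth.Agent.Lib.AlgSpGenericPt.ringKrullDim_stalk_eq_zero_iff u₀).1 hdim
  have h1 : ∀ x' : Points X.obj, x' ⤳ x → x' = x := by
    rw [← hu₀]
    exact (Groth.Agent.Lib.AlgSpGenericPt.forall_generization_eq_iff_chart X hdec a₀ ha₀ u₀).2 h0
  have h2 : ∀ u' : ↥U.left, u' ⤳ u → u' = u :=
    (Groth.Agent.Lib.AlgSpGenericPt.forall_generization_eq_iff_chart X hdec a ha u).1
      (by rw [hxu]; exact h1)
  have hu0 : closure {u} ∈ irreducibleComponents ↥U.left := by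
    obtain ⟨T, hT, hgen⟩ := (Groth.Agent.Lib.AlgSpGenericPt.exists_component_generic_iff u).2 h2
    rw [hgen.def]
    exact hT
  have hqc : RepWith @QuasiCompact a :=
    Groth.Agent.Lib.AlgSpDecentPt91.repWith_quasiCompact_of_isQuasiSeparatedSp hqs
      (inferInstance : QuasiCompact U.hom) a ha.1
  have sqR := ha.rep.isPullback' a
  obtain ⟨W, j, R', s', t', w, hj, hWaff, hjw, hR', hfin⟩ :=
    exists_affine_invariant a ha hqc sqR u hu0 (fun u' hu' => huniq u' (hu'.trans hu))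
  have hb : RepWith @Etale ((yon S).map j ≫ a) := by
    have hj' : RepWith @Etale ((yon S).map j) :=
      (AlgSp.repWith_yon_map_iff _ _).2 (inferInstance : Etale j.left)
    exact MorphismProperty.comp_mem _ _ _ hj' ha
  have hopen : IsOpen (Set.range (Points.ofPt ((yon S).map j ≫ a))) :=
    (Groth.Agent.Lib.AlgSpQC.isOpenMap_ofPt_of_repWith_etale hb).isOpen_range
  let X' : AlgSp.Space S :=
    ⟨Groth.Agent.Lib.H86AlgSpOpen.openSub X.obj (Set.range (Points.ofPt ((yon S).map j ≫ a))),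
      Groth.Agent.Lib.H86AlgSpOpen.isAlgSpace_openSub X.property hopen⟩
  let jj : X' ⟶ X := ObjectProperty.homMk (Groth.Agent.Lib.H86AlgSpOpen.openSubι X.obj _)
  have hjj : RepWith @IsOpenImmersion jj.hom := Groth.Agent.Lib.H86AlgSpOpen.openSubι_repWith hopen
  have hrange : Set.range (Points.map jj.hom) = Set.range (Points.ofPt ((yon S).map j ≫ a)) :=
    Groth.Agent.Lib.H86AlgSpOpen.range_map_openSubι
  obtain ⟨b', hb'j, hb'e, hb's, hpres⟩ :=
    Groth.Agent.S10196.result ((yon S).map j ≫ a) hb jj hjj hrange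
  have hP := (hpres R' s' t' hR').isPullback
  obtain ⟨M, e, q, hMaff, -⟩ := Groth.Agent.Lib.FinEtQuot46.exists_iso_of_chart b' hb'e hb's hP
  refine ⟨M, e.hom ≫ jj.hom, hMaff, MorphismProperty.RespectsIso.precomp _ e.hom _ hjj, ?_⟩
  have hx' : x ∈ Set.range (Points.map jj.hom) := by
    rw [hrange]
    exact ⟨w, by rw [Groth.Agent.Lib.AlgSpPoints.ofPt_yon_map_comp, hjw, hxu]⟩
  obtain ⟨y, hy⟩ := hx'
  refine ⟨Points.map e.inv y, ?_⟩
  rw [← Points.map_comp, ← Category.assoc, e.inv_hom_id, Category.id_comp, hy]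

/-- In a scheme of dimension `≤ 0` there are no non-trivial specializations. -/
theorem eq_of_specializes_of_dim_le_zero {Y : Scheme.{u}} (h : topologicalKrullDim ↥Y ≤ 0)
    {y' y : ↥Y} (hs : y' ⤳ y) : y' = y := by
  obtain ⟨V, hV, hyV, -⟩ := exists_isAffineOpen_mem_and_subset (x := y) (U := ⊤) trivial
  have : T2Space (V : Set ↥Y) := Groth.Agent.Lib.DimZeroTop.t2Space_of_isAffineOpen h hV
  have hy'V : y' ∈ V := hs.mem_open V.2 hyV
  have hs' : (⟨y', hy'V⟩ : (V : Set ↥Y)) ⤳ ⟨y, hyV⟩ :=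
    Topology.IsInducing.subtypeVal.specializes_iff.1 hs
  exact congrArg Subtype.val hs'.eq

/-- Every point of an algebraic space of dimension zero has codimension zero. -/
theorem hasAt_codimZero_of_dim_eq_zero (X : AlgSp.Space S) (hd : AlgSp.dim X.obj = 0)
    (x : AlgSp.Points X.obj) :
    AlgSp.HasAt (fun U u => ringKrullDim ↥(U.presheaf.stalk u) = 0) X.obj x := by
  obtain ⟨U₀, a₀, u₀, ha₀, hu₀⟩ := Groth.Agent.Lib.AlgSpGenericPt.exists_chart X x
  have hdim : topologicalKrullDim ↥U₀.left ≤ 0 := by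
    rw [← hd]
    exact Groth.Agent.Lib.AlgSpDim91.topologicalKrullDim_le_dim a₀ ha₀
  refine ⟨U₀, a₀, u₀, ha₀, hu₀, ?_⟩
  change ringKrullDim ↥(U₀.left.presheaf.stalk u₀) = 0
  rw [Groth.Agent.Lib.AlgSpGenericPt.ringKrullDim_stalk_eq_zero_iff]
  intro u' hu'
  exact eq_of_specializes_of_dim_le_zero hdim hu'

/-- A quasi-separated algebraic space of dimension zero over a quasi-separated scheme is a scheme. -/
theorem exists_iso_yon_of_dim_eq_zero [QuasiSeparatedSpace S]
    (X : AlgSp.Space S) (hqs : AlgSp.IsQuasiSeparatedSp X.obj) (hd : AlgSp.dim X.obj = 0) :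
    ∃ (Y : Over S) (_ : (yon S).obj Y ≅ X.obj), True := by
  obtain ⟨U₀, a₀, ha₀e, ha₀s⟩ := X.property.atlas
  have key : ∀ u : ↥U₀.left, ∃ (M : Over S) (f : (yon S).obj M ⟶ X.obj), IsAffine M.left ∧
      RepWith @IsOpenImmersion f ∧ Points.ofPt a₀ u ∈ Set.range (Points.map f) := fun u =>
    exists_affine_open_nbhd X hqs _ (hasAt_codimZero_of_dim_eq_zero X hd _)
  choose M f hM hf hmem using key
  have hsurj : ∀ x : Points X.obj, ∃ u, x ∈ Set.range (Points.map (f u)) := by
    intro x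
    obtain ⟨u, rfl⟩ := Groth.Agent.Lib.AlgSpQC.surjective_ofPt_of_repWith_surjective ha₀s x
    exact ⟨u, hmem u⟩
  obtain ⟨Y, e, -⟩ := Groth.Agent.Lib.H86ZarGlue.exists_iso_yon_of_openCover f hf hsurj
  exact ⟨Y, e, trivial⟩

end Groth.Agent.Lib.CodimZeroNbhd46
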