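import Groth.Prelude.Def_MoreMor
import Mathlib.RingTheory.QuasiFinite.Basic
import Mathlib.AlgebraicGeometry.Morphisms.QuasiFinite
import Mathlib.AlgebraicGeometry.ResidueField
import Mathlib.FieldTheory.SeparableDegree
import Mathlib.FieldTheory.IsAlgClosed.AlgebraicClosure

/-!
# Fibre integrals via geometric points

For `π : U ⟶ V` with finite residue field extensions and a geometric point `yb : Spec K ⟶ V`
(`K` algebraically closed), the fibre integral `∫_π w` at `yb(pt)` is the sum of `w` over the
lifts `Spec K ⟶ U` of `yb`.  This makes base change of fibre integrals a formal consequence of the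
universal property of the fibre product.
-/

set_option autoImplicit false
set_option linter.style.haveILetI false
universe u
open CategoryTheory AlgebraicGeometry CategoryTheory.Limits IsLocalRing

namespace Groth.Agent.Lib.H59GeomPoints

/-- local hom, quasi-finite ⇒ residue field extension finite -/
theorem finite_residueField_of_quasiFinite {A B : Type*} [CommRing A] [CommRing B] [IsLocalRing A]
    [IsLocalRing B] (φ : A →+* B) [IsLocalHom φ] (h : φ.QuasiFinite) :
    letI := (IsLocalRing.ResidueField.map φ).toAlgebra
    Module.Finite (IsLocalRing.ResidueField A) (IsLocalRing.ResidueField B) := by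
  letI := φ.toAlgebra
  letI := (IsLocalRing.ResidueField.map φ).toAlgebra
  haveI : Algebra.QuasiFinite A B := h
  letI : Algebra A (IsLocalRing.ResidueField B) := ((IsLocalRing.residue B).comp φ).toAlgebra
  haveI : IsScalarTower A B (IsLocalRing.ResidueField B) := IsScalarTower.of_algebraMap_eq fun _ => rfl
  haveI : IsScalarTower A (IsLocalRing.ResidueField A) (IsLocalRing.ResidueField B) :=
    IsScalarTower.of_algebraMap_eq fun _ => rfl
  haveI : Algebra.QuasiFinite A (IsLocalRing.ResidueField B) :=
    Algebra.QuasiFinite.of_surjective_algHom (IsScalarTower.toAlgHom A B (IsLocalRing.ResidueField B))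
      IsLocalRing.residue_surjective
  haveI : Algebra.QuasiFinite (IsLocalRing.ResidueField A) (IsLocalRing.ResidueField B) :=
    .of_restrictScalars A _ _
  exact Module.Finite.of_quasiFinite

/-- A locally quasi-finite morphism has finite residue field extensions. -/
theorem finite_residueFieldMap {U V : Scheme.{u}} (π : U ⟶ V) [LocallyQuasiFinite π] (x : U) :
    letI := (π.residueFieldMap x).hom.toAlgebra
    Module.Finite (V.residueField (π x)) (U.residueField x) :=
  finite_residueField_of_quasiFinite (π.stalkMap x).hom (π.quasiFiniteAt x)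

section

variable {U V : Scheme.{u}} (π : U ⟶ V) (K : Type u) [Field K]

/-- The lifts of a `K`-point of `V` to `U`. -/
abbrev Lifts (yb : Spec (.of K) ⟶ V) : Type u := {ub : Spec (.of K) ⟶ U // ub ≫ π = yb}

/-- The residue field map of a `K`-point. -/
noncomputable abbrev pointMap {X : Scheme.{u}} (xb : Spec (.of K) ⟶ X) :
    X.residueField (xb (closedPoint K)) ⟶ .of K :=
  X.descResidueField (Scheme.stalkClosedPointTo xb)

variable {K}

theorem comp_eq_iff (ub : Spec (.of K) ⟶ U) (yb : Spec (.of K) ⟶ V) :
    ub ≫ π = yb ↔ ∃ e : π (ub (closedPoint K)) = yb (closedPoint K),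
      π.residueFieldMap (ub (closedPoint K)) ≫ pointMap K ub =
        (V.residueFieldCongr e).hom ≫ pointMap K yb := by
  rw [← (Scheme.SpecToEquivOfField K V).injective.eq_iff, Scheme.SpecToEquivOfField_eq_iff]
  have key : Scheme.descResidueField (Scheme.stalkClosedPointTo (ub ≫ π)) =
      π.residueFieldMap (ub (closedPoint K)) ≫ pointMap K ub :=
    Scheme.descResidueField_stalkClosedPointTo_comp π ub
  constructor
  · rintro ⟨e, h⟩
    exact ⟨e, key.symm.trans h⟩
  · rintro ⟨e, h⟩
    exact ⟨e, key.trans h⟩

/-- The type of points of the fibre with a compatible residue field embedding. -/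
abbrev FibEmb (yb : Spec (.of K) ⟶ V) : Type u :=
  Σ (u : {u : U // π u = yb (closedPoint K)}),
    {ψ : U.residueField u.1 ⟶ .of K //
      π.residueFieldMap u.1 ≫ ψ = (V.residueFieldCongr u.2).hom ≫ pointMap K yb}

/-- Lifts of a `K`-point correspond to points of the fibre with a compatible embedding of the
residue field. -/
noncomputable def liftsEquiv (yb : Spec (.of K) ⟶ V) : Lifts π K yb ≃ FibEmb π yb :=
  (Equiv.subtypeEquiv (p := fun ub : Spec (.of K) ⟶ U => ub ≫ π = yb)
    (q := fun p : (Σ u : U, U.residueField u ⟶ .of K) => ∃ e : π p.1 = yb (closedPoint K),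
      π.residueFieldMap p.1 ≫ p.2 = (V.residueFieldCongr e).hom ≫ pointMap K yb)
    (Scheme.SpecToEquivOfField K U) (fun ub => comp_eq_iff π ub yb)).trans
    { toFun := fun p => ⟨⟨p.1.1, p.2.fst⟩, ⟨p.1.2, p.2.snd⟩⟩
      invFun := fun q => ⟨⟨q.1.1, q.2.1⟩, ⟨q.1.2, q.2.2⟩⟩
      left_inv := fun _ => rfl
      right_inv := fun _ => rfl }

theorem liftsEquiv_fst (yb : Spec (.of K) ⟶ V) (ub : Lifts π K yb) :
    ((liftsEquiv π yb ub).1 : U) = ub.1 (closedPoint K) := rfl

/-- Compatible embeddings of the residue field at a point of the fibre are algebra maps. -/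
noncomputable def embEquiv (yb : Spec (.of K) ⟶ V) (u : {u : U // π u = yb (closedPoint K)}) :
    letI := (π.residueFieldMap u.1).hom.toAlgebra
    letI : Algebra (V.residueField (π u.1)) K :=
      ((V.residueFieldCongr u.2).hom ≫ pointMap K yb).hom.toAlgebra
    {ψ : U.residueField u.1 ⟶ .of K //
      π.residueFieldMap u.1 ≫ ψ = (V.residueFieldCongr u.2).hom ≫ pointMap K yb} ≃
    (U.residueField u.1 →ₐ[V.residueField (π u.1)] K) :=
  letI := (π.residueFieldMap u.1).hom.toAlgebra
  letI : Algebra (V.residueField (π u.1)) K :=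
    ((V.residueFieldCongr u.2).hom ≫ pointMap K yb).hom.toAlgebra
  { toFun := fun ψ => { ψ.1.hom with
      commutes' := fun r => congrArg (fun f : V.residueField (π u.1) ⟶ .of K => f.hom r) ψ.2 }
    invFun := fun ψ => ⟨CommRingCat.ofHom ψ.toRingHom, by
      ext r; exact ψ.commutes r⟩
    left_inv := fun _ => rfl
    right_inv := fun _ => rfl }

/-- The number of compatible embeddings at a point of the fibre is the separable degree. -/
theorem card_emb [IsAlgClosed K] (yb : Spec (.of K) ⟶ V) (u : {u : U // π u = yb (closedPoint K)})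
    (hfin : letI := (π.residueFieldMap u.1).hom.toAlgebra
      Module.Finite (V.residueField (π u.1)) (U.residueField u.1)) :
    Nat.card {ψ : U.residueField u.1 ⟶ .of K //
      π.residueFieldMap u.1 ≫ ψ = (V.residueFieldCongr u.2).hom ≫ pointMap K yb} =
    (letI := (π.residueFieldMap u.1).hom.toAlgebra;
      Field.finSepDegree (V.residueField (π u.1)) (U.residueField u.1)) := by
  letI := (π.residueFieldMap u.1).hom.toAlgebra
  letI : Algebra (V.residueField (π u.1)) K :=
    ((V.residueFieldCongr u.2).hom ≫ pointMap K yb).hom.toAlgebra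
  haveI : Module.Finite (V.residueField (π u.1)) (U.residueField u.1) := hfin
  rw [Field.finSepDegree_eq_of_isAlgClosed (V.residueField (π u.1)) (U.residueField u.1) K]
  exact Nat.card_congr (embEquiv π yb u)

/-- There are finitely many compatible embeddings at a point of the fibre. -/
theorem finite_emb (yb : Spec (.of K) ⟶ V) (u : {u : U // π u = yb (closedPoint K)})
    (hfin : letI := (π.residueFieldMap u.1).hom.toAlgebra
      Module.Finite (V.residueField (π u.1)) (U.residueField u.1)) :
    Finite {ψ : U.residueField u.1 ⟶ .of K //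
      π.residueFieldMap u.1 ≫ ψ = (V.residueFieldCongr u.2).hom ≫ pointMap K yb} := by
  letI := (π.residueFieldMap u.1).hom.toAlgebra
  letI : Algebra (V.residueField (π u.1)) K :=
    ((V.residueFieldCongr u.2).hom ≫ pointMap K yb).hom.toAlgebra
  haveI : Module.Finite (V.residueField (π u.1)) (U.residueField u.1) := hfin
  haveI : Finite (U.residueField u.1 →ₐ[V.residueField (π u.1)] K) :=
    (minpoly.AlgHom.fintype _ _ _).finite
  exact Finite.of_equiv _ (embEquiv π yb u).symm

/-- If the fibre is finite (and residue field extensions are finite), there are finitely many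
lifts. -/
theorem finite_lifts (yb : Spec (.of K) ⟶ V)
    (hfib : (π ⁻¹' {yb (closedPoint K)}).Finite)
    (hfin : ∀ u : U, letI := (π.residueFieldMap u).hom.toAlgebra
      Module.Finite (V.residueField (π u)) (U.residueField u)) :
    Finite (Lifts π K yb) := by
  haveI : Finite {u : U // π u = yb (closedPoint K)} := hfib.to_subtype
  haveI : ∀ u : {u : U // π u = yb (closedPoint K)},
      Finite {ψ : U.residueField u.1 ⟶ .of K //
        π.residueFieldMap u.1 ≫ ψ = (V.residueFieldCongr u.2).hom ≫ pointMap K yb} :=
    fun u => finite_emb π yb u (hfin u.1)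
  exact Finite.of_equiv _ (liftsEquiv π yb).symm

/-- Every point of the fibre carries a compatible embedding. -/
theorem nonempty_emb [IsAlgClosed K] (yb : Spec (.of K) ⟶ V) (u : {u : U // π u = yb (closedPoint K)})
    (hfin : letI := (π.residueFieldMap u.1).hom.toAlgebra
      Module.Finite (V.residueField (π u.1)) (U.residueField u.1)) :
    Nonempty {ψ : U.residueField u.1 ⟶ .of K //
      π.residueFieldMap u.1 ≫ ψ = (V.residueFieldCongr u.2).hom ≫ pointMap K yb} := by
  letI := (π.residueFieldMap u.1).hom.toAlgebra
  letI : Algebra (V.residueField (π u.1)) K :=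
    ((V.residueFieldCongr u.2).hom ≫ pointMap K yb).hom.toAlgebra
  haveI : Module.Finite (V.residueField (π u.1)) (U.residueField u.1) := hfin
  let ψ : U.residueField u.1 →ₐ[V.residueField (π u.1)] K := IsAlgClosed.lift
  exact ⟨⟨CommRingCat.ofHom ψ.toRingHom, by ext r; exact ψ.commutes r⟩⟩

/-- The fibre integral at a geometric point is the sum over the lifts of that point. -/
theorem fibreIntegral_eq_sum_lifts [IsAlgClosed K]
    (hfin : ∀ u : U, letI := (π.residueFieldMap u).hom.toAlgebra
      Module.Finite (V.residueField (π u)) (U.residueField u))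
    (yb : Spec (.of K) ⟶ V) [Finite (Lifts π K yb)] (w : U → ℤ) :
    MoreMor.fibreIntegral π w (yb (closedPoint K)) =
      ∑ᶠ ub : Lifts π K yb, w (ub.1 (closedPoint K)) := by
  classical
  haveI hS : Finite (FibEmb π yb) := Finite.of_equiv _ (liftsEquiv π yb)
  haveI hF : Finite {u : U // π u = yb (closedPoint K)} := by
    refine Finite.of_surjective (fun q : FibEmb π yb => q.1) fun u => ?_
    obtain ⟨ψ⟩ := nonempty_emb π yb u (hfin u.1)
    exact ⟨⟨u, ψ⟩, rfl⟩
  haveI hE : ∀ u : {u : U // π u = yb (closedPoint K)},
      Finite {ψ : U.residueField u.1 ⟶ .of K //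
        π.residueFieldMap u.1 ≫ ψ = (V.residueFieldCongr u.2).hom ≫ pointMap K yb} := fun u =>
    Finite.of_injective (fun ψ => (⟨u, ψ⟩ : FibEmb π yb)) fun a b hab => by
      simpa using hab
  letI := Fintype.ofFinite {u : U // π u = yb (closedPoint K)}
  letI : ∀ u : {u : U // π u = yb (closedPoint K)},
      Fintype {ψ : U.residueField u.1 ⟶ .of K //
        π.residueFieldMap u.1 ≫ ψ = (V.residueFieldCongr u.2).hom ≫ pointMap K yb} := fun u =>
    Fintype.ofFinite _
  rw [← finsum_comp_equiv (liftsEquiv π yb).symm]
  unfold MoreMor.fibreIntegral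
  rw [finsum_eq_sum_of_fintype, finsum_eq_sum_of_fintype, Fintype.sum_sigma]
  refine Finset.sum_congr rfl fun u _ => ?_
  have h1 : ∀ ψ, w (((liftsEquiv π yb).symm ⟨u, ψ⟩).1 (closedPoint K)) = w u.1 := by
    intro ψ
    have := liftsEquiv_fst π yb ((liftsEquiv π yb).symm ⟨u, ψ⟩)
    rw [Equiv.apply_symm_apply] at this
    rw [← this]
  simp only [h1, Finset.sum_const, Finset.card_univ, nsmul_eq_mul]
  rw [← Nat.card_eq_fintype_card, card_emb π yb u (hfin u.1), mul_comm]

end

end Groth.Agent.Lib.H59GeomPoints
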