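import Mathlib.RingTheory.ZariskisMainTheorem
import Mathlib.RingTheory.Artinian.Ring
import Mathlib.RingTheory.TensorProduct.Basic
import Mathlib.LinearAlgebra.Dimension.Constructions
import Mathlib.LinearAlgebra.TensorProduct.Submodule
import Mathlib.Algebra.Algebra.Subalgebra.Tower

/-!
# Uniform bound for the fibres of a quasi-finite algebra near a prime (from Zariski's main theorem)
-/

set_option autoImplicit false
set_option linter.style.haveILetI false
universe u

open TensorProduct

namespace Groth.Agent.Lib.H86ZMTBound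

/-- base change to a field of a module generated by `e` elements has dimension at most `e` -/
theorem finrank_baseChange_le {A : Type*} [CommRing A] {M : Type*} [AddCommGroup M] [Module A M]
    {e : ℕ} (s : Fin e → M) (hs : Submodule.span A (Set.range s) = ⊤)
    (L : Type*) [Field L] [Algebra A L] :
    Module.Finite L (L ⊗[A] M) ∧ Module.finrank L (L ⊗[A] M) ≤ e := by
  have h1 : Submodule.span L (Set.range fun i => (1 : L) ⊗ₜ[A] s i) = ⊤ := by
    have := Submodule.baseChange_span (R := A) L (Set.range s)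
    rw [hs, Submodule.baseChange_top] at this
    rw [this]
    congr 1
    ext x
    simp
  haveI : Module.Finite L (L ⊗[A] M) := ⟨by rw [← h1]; exact Submodule.fg_span (Set.finite_range _)⟩
  refine ⟨inferInstance, ?_⟩
  have h2 := finrank_range_le_card (R := L) (fun i => (1 : L) ⊗ₜ[A] s i)
  rw [Set.finrank, h1, finrank_top, Fintype.card_fin] at h2
  exact h2

/-- surjectivity of the base change of a localization map away from one element, over a field, when the source is
module finite -/
theorem surjective_baseChange_away {A S' R : Type u} [CommRing A] [CommRing S'] [CommRing R]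
    [Algebra A S'] [Algebra A R] [Algebra S' R] [IsScalarTower A S' R] (r₀ : S')
    [IsLocalization.Away r₀ R] [Module.Finite A S'] (L : Type u) [Field L] [Algebra A L] :
    Function.Surjective (Algebra.TensorProduct.map (AlgHom.id L L) (IsScalarTower.toAlgHom A S' R)) := by
  set θ := Algebra.TensorProduct.map (AlgHom.id L L) (IsScalarTower.toAlgHom A S' R) with hθ
  haveI : Module.Finite L (L ⊗[A] S') := inferInstance
  haveI : IsArtinianRing (L ⊗[A] S') := IsArtinianRing.of_finite L _
  obtain ⟨n, y, hy⟩ := IsArtinian.exists_pow_succ_smul_dvd ((1 : L) ⊗ₜ[A] r₀) (1 : L ⊗[A] S')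
  -- the inverse of `r₀` in `R`
  let u : R := IsLocalization.Away.invSelf r₀
  have hu : algebraMap S' R r₀ * u = 1 := IsLocalization.Away.mul_invSelf r₀
  have hρ : θ ((1 : L) ⊗ₜ[A] r₀) = (1 : L) ⊗ₜ[A] (algebraMap S' R r₀) := by
    simp [hθ]
  have hρu : θ ((1 : L) ⊗ₜ[A] r₀) * ((1 : L) ⊗ₜ[A] u) = 1 := by
    rw [hρ, Algebra.TensorProduct.tmul_mul_tmul, hu, mul_one]
    rfl
  have hυ : (1 : L) ⊗ₜ[A] u ∈ θ.range := by
    refine ⟨y, ?_⟩
    have h1 := congrArg θ hy
    simp only [smul_eq_mul, map_mul, map_pow, mul_one] at h1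
    -- θρ^(n+1) * θ y = θρ^n
    have h2 : θ y = θ y * (θ ((1 : L) ⊗ₜ[A] r₀) * ((1 : L) ⊗ₜ[A] u)) ^ (n + 1) := by
      rw [hρu, one_pow, mul_one]
    rw [mul_pow] at h2
    have h3 : θ y * (θ ((1 : L) ⊗ₜ[A] r₀) ^ (n + 1) * ((1 : L) ⊗ₜ[A] u) ^ (n + 1)) =
        (θ ((1 : L) ⊗ₜ[A] r₀) ^ (n + 1) * θ y) * ((1 : L) ⊗ₜ[A] u) ^ (n + 1) := by ring
    rw [h3, h1, pow_succ ((1 : L) ⊗ₜ[A] u) n, ← mul_assoc, ← mul_pow, hρu, one_pow, one_mul] at h2
    exact h2
  intro x
  show x ∈ θ.range
  induction x using TensorProduct.induction_on with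
  | zero => exact zero_mem _
  | add a b ha hb => exact add_mem ha hb
  | tmul l x =>
    obtain ⟨k, a, hk⟩ := IsLocalization.Away.surj r₀ x
    -- x * r₀^k = a
    have hx : x = algebraMap S' R a * u ^ k := by
      rw [← hk, mul_assoc, ← mul_pow, hu, one_pow, mul_one]
    have : l ⊗ₜ[A] x = θ (l ⊗ₜ[A] a) * ((1 : L) ⊗ₜ[A] u) ^ k := by
      rw [hx, Algebra.TensorProduct.tmul_pow, one_pow]
      simp [hθ, Algebra.TensorProduct.tmul_mul_tmul]
    rw [this]
    exact mul_mem ⟨_, rfl⟩ (pow_mem hυ k)

/-- **Uniform bound near a quasi-finite prime.**  For a finite type `A`-algebra `B` quasi-finite at the prime `p`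
there are `r ∉ p` and `e` such that every base change of `B[1/r]` to a field has dimension at most `e`. -/
theorem exists_bound_of_quasiFiniteAt {A B : Type u} [CommRing A] [CommRing B] [Algebra A B]
    [Algebra.FiniteType A B] (p : Ideal B) [p.IsPrime] [Algebra.QuasiFiniteAt A p] :
    ∃ r : B, r ∉ p ∧ ∃ e : ℕ, ∀ (R : Type u) [CommRing R] [Algebra A R] [Algebra B R]
      [IsScalarTower A B R] [IsLocalization.Away r R] (L : Type u) [Field L] [Algebra A L],
      Module.Finite L (L ⊗[A] R) ∧ Module.finrank L (L ⊗[A] R) ≤ e := by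
  obtain ⟨S', hfg, r₀, hr₀, hbij⟩ :=
    Algebra.QuasiFiniteAt.exists_fg_and_exists_notMem_and_awayMap_bijective (R := A) p
  haveI : Module.Finite A S' := ⟨(Submodule.fg_top _).mpr hfg⟩
  obtain ⟨e, s, hs⟩ := Module.Finite.exists_fin (R := A) (M := S')
  refine ⟨r₀.1, hr₀, e, ?_⟩
  intro R _ _ _ _ _ L _ _
  haveI : IsScalarTower A S' R := IsScalarTower.of_algebraMap_eq (S := S') (fun a => by
    show algebraMap A R a = algebraMap B R (S'.val (algebraMap A S' a))
    rw [IsScalarTower.algebraMap_apply A B R]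
    rfl)
  haveI hlocB : IsLocalization (Submonoid.powers (S'.val.toRingHom r₀)) R :=
    (inferInstance : IsLocalization.Away (r₀ : B) R)
  haveI hloc : IsLocalization.Away r₀ R := by
    let f₁ : Localization.Away r₀ ≃+* Localization.Away (S'.val.toRingHom r₀) :=
      RingEquiv.ofBijective _ hbij
    let f₂ : Localization.Away (S'.val.toRingHom r₀) ≃ₐ[B] R :=
      IsLocalization.algEquiv (Submonoid.powers (S'.val.toRingHom r₀)) _ _
    let f : Localization.Away r₀ ≃ₐ[S'] R :=
      AlgEquiv.ofRingEquiv (f := f₁.trans f₂.toRingEquiv) (fun x => by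
        show f₂ (Localization.awayMap S'.val.toRingHom r₀ (algebraMap S' _ x)) = algebraMap B R (S'.val x)
        rw [Localization.awayMap, IsLocalization.Away.map, IsLocalization.map_eq]
        exact f₂.commutes _)
    exact IsLocalization.isLocalization_of_algEquiv (Submonoid.powers r₀) f
  obtain ⟨hfin, hle⟩ := finrank_baseChange_le s hs L
  have hsurj := surjective_baseChange_away (A := A) (S' := S') (R := R) r₀ L
  haveI := hfin
  let θ := Algebra.TensorProduct.map (AlgHom.id L L) (IsScalarTower.toAlgHom A S' R)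
  exact ⟨Module.Finite.of_surjective θ.toLinearMap hsurj,
    (LinearMap.finrank_le_finrank_of_surjective (f := θ.toLinearMap) hsurj).trans hle⟩

end Groth.Agent.Lib.H86ZMTBound
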