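import Groth.Agent.Lib.H86FinDeg4
import Groth.Agent.Lib.H86ZMTBound
import Mathlib.AlgebraicGeometry.Morphisms.QuasiFinite

/-!
# Local boundedness of the fibres of a locally quasi-finite morphism
-/

set_option autoImplicit false
set_option linter.style.haveILetI false
universe u
open CategoryTheory CategoryTheory.Limits AlgebraicGeometry TensorProduct

namespace Groth.Agent.Lib.H86FinDeg

open Groth.Agent.Lib.H86ZMTBound

/-- every point of the source of a locally quasi-finite morphism locally of finite type has an open neighbourhood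
on which the fibres over field valued points have uniformly bounded degree -/
theorem exists_open_bddFib {W U : Scheme.{u}} (g : W ⟶ U) [LocallyOfFiniteType g]
    [LocallyQuasiFinite g] (w : ↥W) :
    ∃ D : W.Opens, w ∈ D ∧ ∃ e : ℕ, BddFib e (D.ι ≫ g) := by
  obtain ⟨U', hU', hgw, -⟩ := exists_isAffineOpen_mem_and_subset (X := U) (x := g w)
    (U := ⊤) trivial
  obtain ⟨W', hW', hw, hle0⟩ := exists_isAffineOpen_mem_and_subset (X := W) (x := w)
    (U := g ⁻¹ᵁ U') hgw
  have hle : W' ≤ g ⁻¹ᵁ U' := hle0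
  letI algAB : Algebra Γ(U, U') Γ(W, W') := (g.appLE U' W' hle).hom.toAlgebra
  haveI hft : Algebra.FiniteType Γ(U, U') Γ(W, W') :=
    HasRingHomProperty.appLE @LocallyOfFiniteType g inferInstance ⟨U', hU'⟩ ⟨W', hW'⟩ hle
  haveI hqf : Algebra.QuasiFinite Γ(U, U') Γ(W, W') :=
    HasRingHomProperty.appLE @LocallyQuasiFinite g inferInstance ⟨U', hU'⟩ ⟨W', hW'⟩ hle
  let pw := hW'.primeIdealOf ⟨w, hw⟩
  haveI : Algebra.QuasiFiniteAt Γ(U, U') pw.asIdeal := inferInstance
  obtain ⟨r, hr, e, he⟩ := exists_bound_of_quasiFiniteAt (A := Γ(U, U')) (B := Γ(W, W')) pw.asIdeal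
  have hD : IsAffineOpen (W.basicOpen r) := hW'.basicOpen r
  have hDW' : W.basicOpen r ≤ W' := W.basicOpen_le r
  have hwD : w ∈ W.basicOpen r := by
    have h1 : pw ∈ hW'.fromSpec ⁻¹ᵁ W.basicOpen r := by
      rw [hW'.fromSpec_preimage_basicOpen]
      exact hr
    have h2 : hW'.fromSpec pw = w := hW'.fromSpec_primeIdealOf ⟨w, hw⟩
    rw [← h2]
    exact h1
  refine ⟨W.basicOpen r, hwD, e, ?_⟩
  have hDU' : W.basicOpen r ≤ g ⁻¹ᵁ U' := hDW'.trans hle
  have key : Spec.map (g.appLE U' (W.basicOpen r) hDU') ≫ hU'.fromSpec = hD.fromSpec ≫ g :=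
    IsAffineOpen.SpecMap_appLE_fromSpec g hU' hD hDU'
  have e1 : (W.basicOpen r).ι ≫ g =
      hD.isoSpec.hom ≫ (Spec.map (g.appLE U' (W.basicOpen r) hDU') ≫ hU'.fromSpec) := by
    rw [key, ← Category.assoc, hD.isoSpec_hom_fromSpec]
  rw [e1]
  apply BddFib.iso_comp
  apply BddFib.comp_openImmersion
  apply bddFib_SpecMap
  intro L _ ψ
  letI algL : Algebra Γ(U, U') L := ψ.toAlgebra
  letI algAR : Algebra Γ(U, U') Γ(W, W.basicOpen r) := (g.appLE U' (W.basicOpen r) hDU').hom.toAlgebra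
  haveI : IsScalarTower Γ(U, U') Γ(W, W') Γ(W, W.basicOpen r) := by
    refine IsScalarTower.of_algebraMap_eq' ?_
    show (g.appLE U' (W.basicOpen r) hDU').hom =
      (W.presheaf.map (homOfLE hDW').op).hom.comp (g.appLE U' W' hle).hom
    rw [← CommRingCat.hom_comp]
    exact congrArg CommRingCat.Hom.hom (Scheme.Hom.appLE_map g hle (homOfLE hDW').op).symm
  haveI : IsLocalization.Away r Γ(W, W.basicOpen r) := hW'.isLocalization_basicOpen r
  exact he Γ(W, W.basicOpen r) L

end Groth.Agent.Lib.H86FinDeg
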