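import Groth.Agent.Lib.DenseOpenSch46
import Groth.Agent.Lib.EtaleDegStrat
import Groth.Agent.Lib.SpectralBaire
import Groth.Agent.S1427
import Groth.Agent.S1418

/-!
# Dense open subschemes: étale charts with finite fibres (helper46)

* `exists_affine_open_of_bdd`: affine étale chart whose relation has finite fibres and bounded
  geometric degree: some point has an affine open neighbourhood in the quotient.
* `exists_affine_open_of_finite_fibres`: the same without the bound (Baire argument on the degree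
  stratification).
-/

set_option autoImplicit false
universe u
open CategoryTheory CategoryTheory.Limits AlgebraicGeometry Opposite IsLocalRing

namespace Groth.Agent.Lib.DenseOpenSch46

open AlgSp Groth.Agent.Lib.FinEtQuot46 Groth.Agent.Lib.AlgSpDecentSpec
  Groth.Agent.Lib.RelRestrict46 Groth.Agent.Lib.H59GeomPoints Groth.Agent.Lib.H59NGeom
  Groth.Agent.Lib.RelDegree46 Groth.Agent.Lib.CodimZeroNbhd46 Groth.Agent.Lib.AlgSpPoints
  Groth.Agent.Lib.EtaleDegStrat

variable {S : Scheme.{u}} {U R : Over S} {s t : R ⟶ U}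

/-- Affine étale chart whose relation has finite fibres and bounded geometric degree: some point has
an affine open neighbourhood in the quotient. -/
theorem exists_affine_open_of_bdd (X : AlgSp.Space S) [IsAffine U.left] (a : (yon S).obj U ⟶ X.obj)
    (ha : RepWith @Etale a) (hR : IsPullback ((yon S).map t) ((yon S).map s) a a)
    (hfin : ∀ u : ↥U.left, (s.left ⁻¹' {u}).Finite)
    (hbdd : ∃ C : ℤ, ∀ u : ↥U.left, MoreMor.fibreIntegral s.left (fun _ => 1) u ≤ C)
    (u₀ : ↥U.left) :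
    ∃ (u : ↥U.left) (M : Over S) (f : (yon S).obj M ⟶ X.obj), IsAffine M.left ∧
      RepWith @IsOpenImmersion f ∧ Points.ofPt a u ∈ Set.range (Points.map f) := by
  have h := isEqvRel_of_isPullback hR
  have hse : Etale s.left := ha.property _ _ _ hR
  have hss : IsSeparated s.left := isSeparated_s h
  have hlqf : LocallyQuasiFinite s.left := Groth.Agent.Lib.H59NGeom.locallyQuasiFinite_of_etale _
  obtain ⟨d, ⟨vd, hvd⟩, hmax⟩ := Int.exists_greatest_of_bdd
    (P := fun z => ∃ v : ↥U.left, MoreMor.fibreIntegral s.left (fun _ => 1) v = z)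
    (by obtain ⟨C, hC⟩ := hbdd; exact ⟨C, fun z ⟨v, hv⟩ => hv ▸ hC v⟩) ⟨_, ⟨u₀, rfl⟩⟩
  have hmax' : ∀ v : ↥U.left, MoreMor.fibreIntegral s.left (fun _ => 1) v ≤ d :=
    fun v => hmax _ ⟨v, rfl⟩
  obtain ⟨hYd, hfinYd⟩ := Groth.Agent.S1428.result s.left hfin (fun _ => 1)
    (isWeighting_one_of_etale _) (fun _ => one_pos) d hmax' ⟨vd, hvd⟩
  obtain ⟨Vd, hVdmem, hfinVd⟩ : ∃ Vd : U.left.Opens,
      (∀ y, y ∈ Vd ↔ MoreMor.fibreIntegral s.left (fun _ => 1) y = d) ∧
        IsFinite (s.left ∣_ Vd) := ⟨⟨_, hYd⟩, fun y => Iff.rfl, hfinYd⟩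
  have hinv : s.left ⁻¹ᵁ Vd = t.left ⁻¹ᵁ Vd := by
    ext r
    change s.left r ∈ Vd ↔ t.left r ∈ Vd
    rw [hVdmem, hVdmem, fibreIntegral_one_eq_of_rel h hfin r]
  have hR₂ := isPullback_restrict hR Vd
  have hfin₂ := isFinite_sW (s := s) (t := t) le_rfl hfinVd hinv
  have ha₂ := repWith_etale_restrict _ ha Vd
  obtain ⟨M, f, hM, hf, hmem⟩ := exists_affine_open_of_finite_rel X _ ha₂ hR₂
    Vd.ι ⟨vd, (hVdmem vd).2 hvd⟩
  refine ⟨vd, M, f, hM, hf, ?_⟩
  rw [ofPt_yon_map_comp] at hmem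
  exact hmem

/-- Affine étale chart whose relation has finite fibres: some point has an affine open
neighbourhood in the quotient. -/
theorem exists_affine_open_of_finite_fibres (X : AlgSp.Space S) [IsAffine U.left]
    (a : (yon S).obj U ⟶ X.obj)
    (ha : RepWith @Etale a) (hR : IsPullback ((yon S).map t) ((yon S).map s) a a)
    (hfin : ∀ u : ↥U.left, (s.left ⁻¹' {u}).Finite) (u₀ : ↥U.left) :
    ∃ (u : ↥U.left) (M : Over S) (f : (yon S).obj M ⟶ X.obj), IsAffine M.left ∧
      RepWith @IsOpenImmersion f ∧ Points.ofPt a u ∈ Set.range (Points.map f) := by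
  have h := isEqvRel_of_isPullback hR
  have hse : Etale s.left := ha.property _ _ _ hR
  have hss : IsSeparated s.left := isSeparated_s h
  have hlqf : LocallyQuasiFinite s.left := Groth.Agent.Lib.H59NGeom.locallyQuasiFinite_of_etale _
  have : Nonempty ↥U.left := ⟨u₀⟩
  -- Baire: the degree is constant on some nonempty compact open
  have hempty : ⋂ k, degGE k s.left = ∅ := by
    rw [Set.eq_empty_iff_forall_notMem]
    intro u hu
    obtain ⟨k, hk⟩ := exists_not_mem_degGE s.left u (hfin u)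
    exact hk (Set.mem_iInter.1 hu k)
  obtain ⟨m, D₀, ⟨d₀, hd₀⟩, hD₀o, hD₀c, hD₀m, hD₀d⟩ :=
    Groth.Agent.Lib.SpectralBaire.exists_isCompact_isOpen_disjoint_succ (fun k => degGE k s.left)
      (fun k => isOpen_degGE k s.left) rfl hempty
  -- an affine open inside
  obtain ⟨D, hDaff, hd₀D, hDD₀⟩ : ∃ D : U.left.Opens, IsAffineOpen D ∧ d₀ ∈ D ∧
      (D : Set ↥U.left) ⊆ D₀ := by
    obtain ⟨D, h1, h2, h3⟩ :=
      (TopologicalSpace.Opens.isBasis_iff_nbhd.1 U.left.isBasis_affineOpens)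
        (show d₀ ∈ (⟨D₀, hD₀o⟩ : U.left.Opens) from hd₀)
    exact ⟨D, h1, h2, h3⟩
  have hcpt : IsCompact (s.left ⁻¹' (D : Set ↥U.left)) :=
    isCompact_preimage m s.left D hDaff.isCompact D.2 (hDD₀.trans hD₀m)
      (Set.disjoint_of_subset_left hDD₀ hD₀d)
  -- the restricted chart
  have hR₁ := isPullback_restrict hR D
  have ha₁ : RepWith @Etale ((yon S).map (restrictOverι U D) ≫ a) := repWith_etale_restrict a ha D
  have hDaff' : IsAffine (restrictOver U D).left := hDaff
  have hge : Etale (sW s t D).left := ha₁.property _ _ _ hR₁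
  have hglqf : LocallyQuasiFinite (sW s t D).left := Groth.Agent.Lib.H59NGeom.locallyQuasiFinite_of_etale _
  have hgfin : ∀ v : ↥(restrictOver U D).left, ((sW s t D).left ⁻¹' {v}).Finite :=
    finite_fibre_sW hfin D
  have hbdd : ∃ C : ℤ, ∀ v : ↥(restrictOver U D).left,
      MoreMor.fibreIntegral (sW s t D).left (fun _ => 1) v ≤ C := by
    have hc : CompactSpace ↥(s.left ⁻¹ᵁ D : Scheme.{u}) := isCompact_iff_compactSpace.1 hcpt
    have hlq : LocallyQuasiFinite (s.left ∣_ D) := inferInstance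
    have : Nonempty ↥(D : Scheme.{u}) := ⟨⟨d₀, hd₀D⟩⟩
    obtain ⟨y₀, hy₀⟩ := Groth.Agent.S1427.result (s.left ∣_ D) (fun _ => 1)
      (isWeighting_one_of_etale _)
    refine ⟨MoreMor.fibreIntegral (s.left ∣_ D) (fun _ => 1) y₀,
      fun v => (fibreIntegral_sW_le D hfin v).trans ?_⟩
    have hres := Groth.Agent.S1418.result s.left hfin (s.left ∣_ D) (s.left ⁻¹ᵁ D).ι D.ι
      (isPullback_morphismRestrict s.left D).flip (fun _ => 1) v
    rw [← hres]
    exact hy₀ v
  obtain ⟨u, M, f, hM, hf, hmem⟩ := exists_affine_open_of_bdd X _ ha₁ hR₁ hgfin hbdd ⟨d₀, hd₀D⟩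
  refine ⟨D.ι u, M, f, hM, hf, ?_⟩
  rw [ofPt_yon_map_comp] at hmem
  exact hmem

end Groth.Agent.Lib.DenseOpenSch46
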