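import Groth.Agent.Lib.DenseOpenSch46
import Groth.Agent.Lib.AffGenericPts46
import Groth.Agent.Lib.H86DimAt

/-!
# The locus of points with an affine open neighbourhood is an open subscheme (helper46)
-/

set_option autoImplicit false
universe u
open CategoryTheory CategoryTheory.Limits AlgebraicGeometry Opposite IsLocalRing

namespace Groth.Agent.Lib.DenseOpenSch46

open AlgSp Groth.Agent.Lib.FinEtQuot46 Groth.Agent.Lib.AlgSpDecentSpec
  Groth.Agent.Lib.RelRestrict46 Groth.Agent.Lib.CodimZeroNbhd46 Groth.Agent.Lib.AlgSpPoints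

variable {S : Scheme.{u}} {U R : Over S} {s t : R ⟶ U}

/-- The points of an algebraic space having an affine open neighbourhood form an open subspace
which is a scheme. -/
theorem exists_open_subscheme_affine_locus (X : AlgSp.Space S) :
    ∃ (X' : AlgSp.Space S) (j : X' ⟶ X), RepWith @IsOpenImmersion j.hom ∧
      X'.obj.obj.IsRepresentable ∧
      ∀ x : Points X.obj, (∃ (M : Over S) (f : (yon S).obj M ⟶ X.obj), IsAffine M.left ∧
        RepWith @IsOpenImmersion f ∧ x ∈ Set.range (Points.map f)) →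
          x ∈ Set.range (Points.map j.hom) := by
  obtain ⟨U, a, -, has⟩ := X.property.atlas
  have hsurj := Groth.Agent.Lib.AlgSpQC.surjective_ofPt_of_repWith_surjective has
  let ι : Type u := {u : ↥U.left // ∃ (M : Over S) (f : (yon S).obj M ⟶ X.obj), IsAffine M.left ∧
    RepWith @IsOpenImmersion f ∧ Points.ofPt a u ∈ Set.range (Points.map f)}
  have hι : ∀ i : ι, ∃ (M : Over S) (f : (yon S).obj M ⟶ X.obj), IsAffine M.left ∧
    RepWith @IsOpenImmersion f ∧ Points.ofPt a i.1 ∈ Set.range (Points.map f) := fun i => i.2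
  choose M f hM hf hmem using hι
  have hopen : ∀ i, IsOpen (Set.range (Points.map (f i))) := by
    intro i
    rw [Groth.Agent.Lib.H86AlgSpOpen.range_map_eq_range_ofPt]
    have he : RepWith @Etale (f i) :=
      Groth.Agent.Lib.H69AlgSp.repWith_mono
        (fun _ _ g (_ : IsOpenImmersion g) => (inferInstance : Etale g)) (hf i)
    exact (Groth.Agent.Lib.AlgSpQC.isOpenMap_ofPt_of_repWith_etale he).isOpen_range
  have hΩ : IsOpen (⋃ i, Set.range (Points.map (f i))) := isOpen_iUnion hopen
  let X' : AlgSp.Space S :=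
    ⟨Groth.Agent.Lib.H86AlgSpOpen.openSub X.obj (⋃ i, Set.range (Points.map (f i))),
      Groth.Agent.Lib.H86AlgSpOpen.isAlgSpace_openSub X.property hΩ⟩
  let j : X' ⟶ X := ObjectProperty.homMk (Groth.Agent.Lib.H86AlgSpOpen.openSubι X.obj _)
  have hj : RepWith @IsOpenImmersion j.hom := Groth.Agent.Lib.H86AlgSpOpen.openSubι_repWith hΩ
  have hrange : Set.range (Points.map j.hom) = ⋃ i, Set.range (Points.map (f i)) :=
    Groth.Agent.Lib.H86AlgSpOpen.range_map_openSubι
  have hmono : Mono j.hom := Groth.Agent.Lib.H86AlgSpOpen.openSubι_mono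
  have hfac : ∀ i, ∃ g : (yon S).obj (M i) ⟶ X'.obj, g ≫ j.hom = f i := fun i =>
    Groth.Agent.Lib.H86AlgSpSub.exists_factor_of_range_subset hj (f i) (by
      rw [hrange]
      exact Set.subset_iUnion (fun i => Set.range (Points.map (f i))) i)
  choose g hg using hfac
  have hgo : ∀ i, RepWith @IsOpenImmersion (g i) := fun i =>
    Groth.Agent.Lib.H86AlgSpOpen.repWith_of_comp_mono j.hom (by rw [hg i]; exact hf i)
  have hcov : ∀ y : Points X'.obj, ∃ i, y ∈ Set.range (Points.map (g i)) := by
    intro y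
    have hy : Points.map j.hom y ∈ ⋃ i, Set.range (Points.map (f i)) := by
      rw [← hrange]
      exact ⟨y, rfl⟩
    obtain ⟨i, z, hz⟩ := Set.mem_iUnion.1 hy
    refine ⟨i, z, ?_⟩
    apply Groth.Agent.Lib.H86AlgSpOpen.map_injective_of_mono j.hom
    rw [← Points.map_comp, hg i, hz]
  refine ⟨X', j, hj, Groth.Agent.Lib.H86ZarGlue.isRepresentable_of_openCover g hgo hcov, ?_⟩
  rintro x ⟨M', f', hM', hf', hmem'⟩
  obtain ⟨u, rfl⟩ := hsurj x
  rw [hrange]
  let i : ι := ⟨u, M', f', hM', hf', hmem'⟩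
  exact Set.mem_iUnion.2 ⟨i, hmem i⟩

/-- A point of an étale chart with finite relation whose orbit lies in an affine open has an affine
open neighbourhood in the quotient. -/
theorem exists_affine_open_of_orbit_subset (X : AlgSp.Space S)
    (a : (yon S).obj U ⟶ X.obj) (ha : RepWith @Etale a)
    (hR : IsPullback ((yon S).map t) ((yon S).map s) a a) [IsFinite s.left]
    (u : ↥U.left) (V₀ : U.left.Opens) (hV₀ : IsAffineOpen V₀)
    (horb : ∀ r : ↥R.left, s.left r = u → t.left r ∈ V₀) :
    ∃ (M : Over S) (f : (yon S).obj M ⟶ X.obj), IsAffine M.left ∧ RepWith @IsOpenImmersion f ∧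
      Points.ofPt a u ∈ Set.range (Points.map f) := by
  have h := isEqvRel_of_isPullback hR
  have hse : Etale s.left := ha.property _ _ _ hR
  let G := grpd h
  have : IsFinite G.s := ‹IsFinite s.left›
  have : Etale G.s := hse
  have : Flat G.s := inferInstance
  have : LocallyOfFinitePresentation G.s := inferInstance
  have hGt : G.i ≫ G.s = G.t := G.i_s
  have : IsFinite G.t := by rw [← hGt]; infer_instance
  have : Flat G.t := by rw [← hGt]; infer_instance
  have : LocallyOfFinitePresentation G.t := by rw [← hGt]; infer_instance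
  obtain ⟨W, hWaff, huW, hWinv⟩ := Groth.Agent.S1881.result S G u V₀ hV₀ horb
  have hR₂ := isPullback_restrict hR W
  have hfin₂ : IsFinite (sW s t W).left :=
    isFinite_sW (V := ⊤) le_top (inferInstance : IsFinite (G.s ∣_ ⊤)) hWinv
  have ha₂ : RepWith @Etale ((yon S).map (restrictOverι U W) ≫ a) := repWith_etale_restrict a ha W
  have hW' : IsAffine (restrictOver U W).left := hWaff
  obtain ⟨M, f, hM, hf, hrange⟩ := exists_affine_open_of_affine_chart X _ ha₂ hR₂
  refine ⟨M, f, hM, hf, ?_⟩
  rw [← hrange]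
  refine ⟨(⟨u, huW⟩ : ↥W), ?_⟩
  rw [ofPt_yon_map_comp]
  rfl

/-- Codimension zero is independent of the étale chart. -/
theorem dim_stalk_eq_zero_of_hasAt (X : AlgSp.Space S) (a : (yon S).obj U ⟶ X.obj)
    (ha : RepWith @Etale a) (u : ↥U.left)
    (hx : HasAt (fun U u => ringKrullDim ↥(U.presheaf.stalk u) = 0) X.obj (Points.ofPt a u)) :
    ringKrullDim ↥(U.left.presheaf.stalk u) = 0 :=
  (Groth.Agent.Lib.H86DimAt.hasAt_iff_forall_chart
    (Q := fun U u => ringKrullDim ↥(U.presheaf.stalk u) = 0)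
    (fun s _ w => Groth.Agent.Lib.H86DimAt.ringKrullDim_stalk_iff_of_etale 0 s w)
    X.property _).1 hx U a u ha rfl

/-- A codimension-zero point of the quotient of a quasi-separated scheme by a finite étale
equivalence relation has an affine open neighbourhood. -/
theorem exists_affine_open_of_codimZero (X : AlgSp.Space S) [QuasiSeparatedSpace ↥U.left]
    (a : (yon S).obj U ⟶ X.obj) (ha : RepWith @Etale a)
    (hR : IsPullback ((yon S).map t) ((yon S).map s) a a) [IsFinite s.left]
    (u : ↥U.left)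
    (hx : HasAt (fun U u => ringKrullDim ↥(U.presheaf.stalk u) = 0) X.obj (Points.ofPt a u)) :
    ∃ (M : Over S) (f : (yon S).obj M ⟶ X.obj), IsAffine M.left ∧ RepWith @IsOpenImmersion f ∧
      Points.ofPt a u ∈ Set.range (Points.map f) := by
  have hfib : (s.left ⁻¹' {u}).Finite := s.left.finite_preimage_singleton u
  have horbfin : (t.left '' (s.left ⁻¹' {u})).Finite := hfib.image _
  have hmax : ∀ η ∈ t.left '' (s.left ⁻¹' {u}), ∀ x' : ↥U.left, x' ⤳ η → x' = η := by
    rintro _ ⟨r, hr, rfl⟩
    apply (Groth.Agent.Lib.AlgSpGenericPt.ringKrullDim_stalk_eq_zero_iff _).1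
    apply dim_stalk_eq_zero_of_hasAt X a ha
    have e : Points.ofPt a (t.left r) = Points.ofPt a u := by
      rw [← ofPt_yon_map_comp t a r, hR.w, ofPt_yon_map_comp s a r, hr]
    rw [e]
    exact hx
  obtain ⟨V₀, hV₀, hEV₀⟩ :=
    Groth.Agent.Lib.AffGenericPts46.exists_isAffineOpen_of_finite_of_maximal _ horbfin hmax
  exact exists_affine_open_of_orbit_subset X a ha hR u V₀ hV₀ (fun r hr => hEV₀ ⟨r, hr, rfl⟩)

end Groth.Agent.Lib.DenseOpenSch46
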