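import Groth.Agent.Lib.CodimZeroNbhd46b
import Groth.Agent.Lib.DenseOpenSch46b
import Groth.Agent.Lib.DenseOpenSch46c

/-!
# Codimension-zero points of quasi-separated algebraic spaces over an arbitrary base have affine
open neighbourhoods; decent spaces have many points with affine open neighbourhoods (helper46)
-/

set_option autoImplicit false
universe u
open CategoryTheory CategoryTheory.Limits AlgebraicGeometry Opposite

namespace Groth.Agent.Lib.CodimZeroNbhd46

open AlgSp Groth.Agent.Lib.FinEtQuot46 Groth.Agent.Lib.AlgSpDecentSpec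
  Groth.Agent.Lib.RelRestrict46 Groth.Agent.Lib.AlgSpPoints

variable {S : Scheme.{u}}

/-- `X ×_S Y ⟶ X ×_T Y` is an isomorphism when `S ⟶ T` is a monomorphism. -/
theorem isIso_mapDesc_of_mono {X Y S' T : Scheme.{u}} (f : X ⟶ S') (g : Y ⟶ S') (i : S' ⟶ T)
    [Mono i] : IsIso (pullback.mapDesc f g i) := by
  have h := pullback_map_diagonal_isPullback f g i
  have h1 : IsIso (pullback.diagonal i) := inferInstance
  exact (MorphismProperty.isomorphisms Scheme.{u}).of_isPullback h h1

/-- A fibre product of affine schemes over `T` both of whose structure maps factor through a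
monomorphism from an affine scheme is quasi-compact. -/
theorem compactSpace_pullback_of_factors {X Y S' T : Scheme.{u}} [IsAffine X] [IsAffine Y]
    [IsAffine S'] (f' : X ⟶ S') (g' : Y ⟶ S') (i : S' ⟶ T) [Mono i] :
    CompactSpace ↥(pullback (f' ≫ i) (g' ≫ i)) := by
  have := isIso_mapDesc_of_mono f' g' i
  exact (Scheme.homeoOfIso (asIso (pullback.mapDesc f' g' i))).compactSpace

/-- The product in `Over S` of an affine scheme with itself is quasi-compact when the structure map
factors through an affine open of `S`. -/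
theorem compactSpace_prod_left (V : Over S) [IsAffine V.left] (S' : S.Opens) (hS' : IsAffineOpen S')
    (hV : Set.range V.hom ⊆ S') : CompactSpace ↥(V ⨯ V).left := by
  have hS'aff : IsAffine S'.toScheme := hS'
  have hr : Set.range V.hom ⊆ Set.range S'.ι := by
    rw [Scheme.Opens.range_ι]
    exact hV
  let v' : V.left ⟶ S'.toScheme := IsOpenImmersion.lift S'.ι V.hom hr
  have hv' : v' ≫ S'.ι = V.hom := IsOpenImmersion.lift_fac _ _ _
  have h1 : CompactSpace ↥(pullback (v' ≫ S'.ι) (v' ≫ S'.ι)) :=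
    compactSpace_pullback_of_factors v' v' S'.ι
  rw [hv'] at h1
  exact (Scheme.homeoOfIso (Over.prodLeftIsoPullback V V)).symm.compactSpace

/-- Key scheme-level step, with `s` quasi-compact: an affine invariant neighbourhood on which the
relation is finite. -/
theorem exists_affine_invariant_of_quasiCompact {X : Sp S} {U R : Over S} {s t : R ⟶ U}
    [IsAffine U.left]
    (a : (yon S).obj U ⟶ X) (ha : RepWith @Etale a) (hsq : QuasiCompact s.left)
    (hR : IsPullback ((yon S).map t) ((yon S).map s) a a) (u : ↥U.left)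
    (hu0 : closure {u} ∈ irreducibleComponents ↥U.left)
    (huniq : ∀ u' : ↥U.left, Points.ofPt a u' = Points.ofPt a u → u' = u) :
    ∃ (W : Over S) (j : W ⟶ U) (R' : Over S) (s' t' : R' ⟶ W) (w : ↥W.left),
      IsOpenImmersion j.left ∧ IsAffine W.left ∧ j.left w = u ∧
      IsPullback ((yon S).map t') ((yon S).map s') ((yon S).map j ≫ a) ((yon S).map j ≫ a) ∧
      IsFinite s'.left := by
  have h := isEqvRel_of_isPullback hR
  have hse : Etale s.left := ha.property _ _ _ hR
  have hss : IsSeparated s.left := isSeparated_s h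
  have hlqf : LocallyQuasiFinite s.left := Groth.Agent.Lib.AlgSpBasic.locallyQuasiFinite_of_etale _
  -- the orbit of `u` is trivial
  have fib : ∀ r : ↥R.left, s.left r = u → t.left r = u := by
    intro r hr
    apply huniq
    rw [← ofPt_yon_map_comp t a r, hR.w, ofPt_yon_map_comp s a r, hr]
  -- generic finiteness
  have hfinfib : (s.left.base ⁻¹' {u}).Finite := s.left.finite_preimage_singleton u
  obtain ⟨V, hVaff, huV, hVfin⟩ := (Groth.Agent.S2080.result s.left u hu0).1 hfinfib
  have hVcl : IsClosedMap (s.left ∣_ V) := (s.left ∣_ V).isClosedMap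
  obtain ⟨V', hV', hinv⟩ := exists_invariant_opens h V hVcl
  have huV' : u ∈ V' := (hV' u).2 ⟨huV, fun r hr => by rw [fib r hr]; exact huV⟩
  have hV'V : V' ≤ V := fun v hv => ((hV' v).1 hv).1
  have hfin₁ : IsFinite (sW s t V').left := isFinite_sW hV'V hVfin hinv
  -- the restricted groupoid
  have hR₁ := isPullback_restrict hR V'
  have ha₁ : RepWith @Etale ((yon S).map (restrictOverι U V') ≫ a) := repWith_etale_restrict a ha V'
  have h₁ := isEqvRel_of_isPullback hR₁
  have hse₁ : Etale (sW s t V').left := ha₁.property _ _ _ hR₁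
  let G := grpd h₁
  have : IsFinite G.s := hfin₁
  have : Etale G.s := hse₁
  have : Flat G.s := inferInstance
  have : LocallyOfFinitePresentation G.s := inferInstance
  have hGt : G.i ≫ G.s = G.t := G.i_s
  have : IsFinite G.t := by rw [← hGt]; infer_instance
  have : Flat G.t := by rw [← hGt]; infer_instance
  have : LocallyOfFinitePresentation G.t := by rw [← hGt]; infer_instance
  let u₁ : ↥G.U := (⟨u, huV'⟩ : ↥V')
  obtain ⟨V₀, hV₀, huV₀, -⟩ :=
    (TopologicalSpace.Opens.isBasis_iff_nbhd.1 G.U.isBasis_affineOpens)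
      (show u₁ ∈ (⊤ : G.U.Opens) from trivial)
  have horb : ∀ r : ↥G.R, G.s r = u₁ → G.t r ∈ V₀ := by
    intro r hr
    have h1 : s.left ((relOpens s t V').ι r) = u := by
      have : ((sW s t V').left ≫ V'.ι) r = ((relOpens s t V').ι ≫ s.left) r := by
        rw [sW_left_ι]
      simp only [Scheme.Hom.comp_apply] at this
      rw [← this]
      change V'.ι (G.s r) = u
      rw [hr]
      rfl
    have h2 : t.left ((relOpens s t V').ι r) = u := fib _ h1
    have h3 : V'.ι (G.t r) = u := by
      have : ((tW s t V').left ≫ V'.ι) r = ((relOpens s t V').ι ≫ t.left) r := by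
        rw [tW_left_ι]
      simp only [Scheme.Hom.comp_apply] at this
      exact this.trans h2
    have h4 : G.t r = u₁ := Subtype.ext h3
    rw [h4]
    exact huV₀
  obtain ⟨W, hWaff, hu₁W, hWinv⟩ := Groth.Agent.S1881.result S G u₁ V₀ hV₀ horb
  -- second restriction
  have hR₂ := isPullback_restrict hR₁ W
  have hfin₂ : IsFinite (sW (sW s t V') (tW s t V') W).left :=
    isFinite_sW (V := ⊤) le_top (inferInstance : IsFinite (G.s ∣_ ⊤)) hWinv
  refine ⟨restrictOver (restrictOver U V') W, restrictOverι (restrictOver U V') W ≫ restrictOverι U V',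
    RW (sW s t V') (tW s t V') W, sW (sW s t V') (tW s t V') W, tW (sW s t V') (tW s t V') W,
    (⟨u₁, hu₁W⟩ : ↥W), ?_, hWaff, rfl, ?_, hfin₂⟩
  · change IsOpenImmersion (W.ι ≫ V'.ι)
    exact MorphismProperty.comp_mem @IsOpenImmersion _ _ (inferInstance : IsOpenImmersion W.ι)
      (inferInstance : IsOpenImmersion V'.ι)
  · rw [Functor.map_comp, Category.assoc]
    exact hR₂

/-- A codimension-zero point of a quasi-separated algebraic space (over an arbitrary base) has an
affine open neighbourhood. -/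
theorem exists_affine_open_nbhd_of_isQuasiSeparatedSp
    (X : AlgSp.Space S) (hqs : AlgSp.IsQuasiSeparatedSp X.obj) (x : AlgSp.Points X.obj)
    (hx : AlgSp.HasAt (fun U u => ringKrullDim ↥(U.presheaf.stalk u) = 0) X.obj x) :
    ∃ (M : Over S) (f : (yon S).obj M ⟶ X.obj), IsAffine M.left ∧ RepWith @IsOpenImmersion f ∧
      x ∈ Set.range (Points.map f) := by
  have hdec : IsDecent X.obj :=
    Groth.Agent.Lib.AlgSpDecentPt91.isDecent_of_isQuasiSeparatedSp X.property hqs
  obtain ⟨p, hp, hm, hq⟩ := hdec x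
  obtain ⟨U, a, u, ha, hUaff, hu, huniq⟩ :=
    Groth.Agent.Lib.AlgSpFibreEmb46.exists_affine_chart_unique X p hq
  have hxu : Points.ofPt a u = x := hu.trans hp
  -- shrink the chart so that it lies over an affine open of the base
  obtain ⟨S', hS', huS', -⟩ :=
    (TopologicalSpace.Opens.isBasis_iff_nbhd.1 S.isBasis_affineOpens)
      (show U.hom u ∈ (⊤ : S.Opens) from trivial)
  obtain ⟨V, hVaff, huV, hVS'⟩ :=
    (TopologicalSpace.Opens.isBasis_iff_nbhd.1 U.left.isBasis_affineOpens)
      (show u ∈ U.hom ⁻¹ᵁ S' from huS')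
  have hVaff' : IsAffine (restrictOver U V).left := hVaff
  set a' := (yon S).map (restrictOverι U V) ≫ a with ha'_def
  have ha' : RepWith @Etale a' := repWith_etale_restrict a ha V
  let u' : ↥(restrictOver U V).left := (⟨u, huV⟩ : ↥V)
  have hxu' : Points.ofPt a' u' = x := by
    rw [ha'_def, ofPt_yon_map_comp]
    exact hxu
  have huniq' : ∀ v : ↥(restrictOver U V).left, Points.ofPt a' v = Points.ofPt a' u' → v = u' := by
    intro v hv
    rw [hxu', ha'_def, ofPt_yon_map_comp, ← hp] at hv
    exact Subtype.ext (huniq _ hv)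
  have hdim : ringKrullDim ↥((restrictOver U V).left.presheaf.stalk u') = 0 :=
    Groth.Agent.Lib.DenseOpenSch46.dim_stalk_eq_zero_of_hasAt X a' ha' u' (by rw [hxu']; exact hx)
  have h2 : ∀ v : ↥(restrictOver U V).left, v ⤳ u' → v = u' :=
    (Groth.Agent.Lib.AlgSpGenericPt.ringKrullDim_stalk_eq_zero_iff u').1 hdim
  have hu0 : closure {u'} ∈ irreducibleComponents ↥(restrictOver U V).left := by
    obtain ⟨T, hT, hgen⟩ := (Groth.Agent.Lib.AlgSpGenericPt.exists_component_generic_iff u').2 h2
    rw [hgen.def]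
    exact hT
  have sqR := ha'.rep.isPullback' a'
  -- the relation is quasi-compact
  have hc : CompactSpace ↥(restrictOver U V ⨯ restrictOver U V).left := by
    apply compactSpace_prod_left (restrictOver U V) S' hS'
    rintro _ ⟨v, rfl⟩
    exact hVS' v.2
  have H := Groth.Agent.Lib.H86AlgSpDiag.isPullback_diag_yon sqR
  have hqc1 : QuasiCompact (prod.lift (ha'.rep.fst' a') (ha'.rep.snd a')).left :=
    hqs.property _ _ _ H
  have hcR : CompactSpace ↥(ha'.rep.pullback a').left :=
    QuasiCompact.compactSpace_of_compactSpace (prod.lift (ha'.rep.fst' a') (ha'.rep.snd a')).left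
  have hsq : QuasiCompact (ha'.rep.snd a').left := inferInstance
  obtain ⟨W, j, R', s', t', w, hj, hWaff, hjw, hR', hfin⟩ :=
    exists_affine_invariant_of_quasiCompact a' ha' hsq sqR u' hu0 huniq'
  have hb : RepWith @Etale ((yon S).map j ≫ a') := by
    have hj' : RepWith @Etale ((yon S).map j) :=
      (AlgSp.repWith_yon_map_iff _ _).2 (inferInstance : Etale j.left)
    exact MorphismProperty.comp_mem _ _ _ hj' ha'
  obtain ⟨M, f, hM, hf, hrange⟩ := exists_affine_open_of_affine_chart X _ hb hR'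
  refine ⟨M, f, hM, hf, ?_⟩
  rw [← hrange]
  exact ⟨w, by rw [ofPt_yon_map_comp, hjw, hxu']⟩

/-- In a decent algebraic space, every nonempty open of an étale chart contains a point whose image
has an affine open neighbourhood. -/
theorem exists_affine_open_in_of_isDecent (X : AlgSp.Space S) (hX : AlgSp.IsDecent X.obj)
    {U₀ : Over S} (a₀ : (yon S).obj U₀ ⟶ X.obj) (ha₀e : RepWith @Etale a₀)
    (V₀ : U₀.left.Opens) (v₀ : ↥U₀.left) (hv₀ : v₀ ∈ V₀) :
    ∃ (u : ↥U₀.left) (M : Over S) (f : (yon S).obj M ⟶ X.obj), u ∈ V₀ ∧ IsAffine M.left ∧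
      RepWith @IsOpenImmersion f ∧ Points.ofPt a₀ u ∈ Set.range (Points.map f) := by
  have sqR := ha₀e.rep.isPullback' a₀
  obtain ⟨V, hVaff, hv₀V, hVV₀⟩ : ∃ V : U₀.left.Opens, IsAffineOpen V ∧ v₀ ∈ V ∧ V ≤ V₀ := by
    obtain ⟨V, h1, h2, h3⟩ :=
      (TopologicalSpace.Opens.isBasis_iff_nbhd.1 U₀.left.isBasis_affineOpens) hv₀
    exact ⟨V, h1, h2, h3⟩
  have hR₁ := isPullback_restrict sqR V
  have ha₁ : RepWith @Etale ((yon S).map (restrictOverι U₀ V) ≫ a₀) :=
    repWith_etale_restrict a₀ ha₀e V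
  have hVaff' : IsAffine (restrictOver U₀ V).left := hVaff
  have hfin : ∀ v : ↥(restrictOver U₀ V).left,
      ((sW (ha₀e.rep.snd a₀) (ha₀e.rep.fst' a₀) V).left ⁻¹' {v}).Finite := by
    intro v
    obtain ⟨p, hp, hm, hq⟩ := hX (Points.ofPt ((yon S).map (restrictOverι U₀ V) ≫ a₀) v)
    have hc : CompactSpace ↥(restrictOver U₀ V).left := inferInstance
    have h2 := (Groth.Agent.Lib.AlgSpDecentPt91.finite_fibres_of_mono_point X.property p hq _ ha₁
      _ _ hR₁).2
    refine h2.subset ?_
    intro r hr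
    have hr' : (sW (ha₀e.rep.snd a₀) (ha₀e.rep.fst' a₀) V).left r = v := hr
    simp only [Set.mem_preimage, Set.mem_singleton_iff]
    rw [hR₁.w, ofPt_yon_map_comp, hr', hp]
  obtain ⟨u, M, f, hM, hf, hmem⟩ :=
    Groth.Agent.Lib.DenseOpenSch46.exists_affine_open_of_finite_fibres X _ ha₁ hR₁ hfin ⟨v₀, hv₀V⟩
  refine ⟨V.ι u, M, f, hVV₀ u.2, hM, hf, ?_⟩
  rw [ofPt_yon_map_comp] at hmem
  exact hmem

/-- In a decent algebraic space, every nonempty open set of points contains a point with an affine
open neighbourhood. -/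
theorem exists_mem_open_affine_nbhd_of_isDecent (X : AlgSp.Space S) (hX : AlgSp.IsDecent X.obj)
    (O : Set (Points X.obj)) (hO : IsOpen O) (hne : O.Nonempty) :
    ∃ y ∈ O, ∃ (M : Over S) (f : (yon S).obj M ⟶ X.obj), IsAffine M.left ∧
      RepWith @IsOpenImmersion f ∧ y ∈ Set.range (Points.map f) := by
  obtain ⟨U₀, a₀, ha₀e, ha₀s⟩ := X.property.atlas
  obtain ⟨x, hx⟩ := hne
  obtain ⟨v₀, rfl⟩ := Groth.Agent.Lib.AlgSpQC.surjective_ofPt_of_repWith_surjective ha₀s x
  obtain ⟨u, M, f, huV, hM, hf, hmem⟩ := exists_affine_open_in_of_isDecent X hX a₀ ha₀e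
    ⟨Points.ofPt a₀ ⁻¹' O, (Points.continuous_ofPt a₀).isOpen_preimage _ hO⟩ v₀ hx
  exact ⟨Points.ofPt a₀ u, huV, M, f, hM, hf, hmem⟩

end Groth.Agent.Lib.CodimZeroNbhd46
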