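import Groth.Agent.Lib.ComodHom
import Groth.Agent.Lib.CoeffSpace
import Groth.Prelude.Def_ComodTens
import Groth.Prelude.Def_ComodDual

/-!
# Subquotients from matrix coefficients (helper55)

Explicit-structure API around matrix coefficient maps `coef c ψ : V → A`,
`v ↦ (ψ ⊗ id)(ρ v)`, their behaviour under `ofEquiv`, `tensor`, `prod`, `pi`, and the
criterion: if `W ↪ Q ↞ P` are comodule maps with `range j ≤ range p`, then `W` is a subquotient
of `P`.
-/

set_option autoImplicit false
universe u v w w' w''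

open TensorProduct

namespace Groth.Agent.Lib.CoefSubquot

open Groth.Agent.Lib.Comod Groth.Agent.Lib.CoeffSpace

section G0

variable {k : Type u} [Field k] {A : Type v} [AddCommGroup A] [Module k A] [Coalgebra k A]
  {P : Type w} [AddCommGroup P] [Module k P]
  {W : Type w'} [AddCommGroup W] [Module k W]
  {Q : Type w''} [AddCommGroup Q] [Module k Q]

/-- If `j : W ↪ Q` and `p : P → Q` are comodule maps with `range j ≤ range p`, then `W` is a
subquotient of `P`: the quotient of the subcomodule `p ⁻¹ (range j)`. -/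
theorem exists_subquot_of_range_le (cP : HopfRep.Comod k A P) (σ : HopfRep.Comod k A W)
    (cQ : HopfRep.Comod k A Q)
    (j : W →ₗ[k] Q) (hj : Function.Injective j)
    (hjc : @Hoch.IsComodHom k _ A _ _ _ W _ _ σ Q _ _ cQ j)
    (p : P →ₗ[k] Q) (hpc : @Hoch.IsComodHom k _ A _ _ _ P _ _ cP Q _ _ cQ p)
    (hr : LinearMap.range j ≤ LinearMap.range p) :
    ∃ (E' : Submodule k P) (τ : E' →ₗ[k] E' ⊗[k] A) (q : E' →ₗ[k] W),
      Function.Surjective q ∧ (E'.subtype.rTensor A) ∘ₗ τ = cP.coact ∘ₗ E'.subtype ∧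
      (q.rTensor A) ∘ₗ τ = σ.coact ∘ₗ q := by
  have hrange : @HopfRep.IsSubcomod k A _ _ _ _ Q _ _ cQ (LinearMap.range j) := by
    letI := σ; letI := cQ
    exact isSubcomod_range hjc
  have hE : @HopfRep.IsSubcomod k A _ _ _ _ P _ _ cP ((LinearMap.range j).comap p) := by
    letI := cP; letI := cQ
    exact isSubcomod_comap hpc hrange
  set E' : Submodule k P := (LinearMap.range j).comap p with hE'
  let je : W ≃ₗ[k] LinearMap.range j := LinearEquiv.ofInjective j hj
  let p' : E' →ₗ[k] LinearMap.range j :=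
    (p.domRestrict E').codRestrict (LinearMap.range j) (fun x => x.2)
  let q : E' →ₗ[k] W := je.symm.toLinearMap ∘ₗ p'
  have hq : ∀ x : E', j (q x) = p x := by
    intro x
    have h1 : (je (q x) : Q) = j (q x) := rfl
    have h2 : je (q x) = p' x := by
      change je (je.symm (p' x)) = p' x
      exact je.apply_symm_apply _
    rw [← h1, h2]
    rfl
  have hτ : ∀ x : E', E'.subtype.rTensor A ((ComodSub.Comod.restr cP E' hE).coact x) =
      cP.coact (x : P) := fun x => ComodSub.restr_coact_coe cP E' hE x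
  refine ⟨E', (ComodSub.Comod.restr cP E' hE).coact, q, ?_, ?_, ?_⟩
  · intro w
    obtain ⟨x, hx⟩ := hr ⟨w, rfl⟩
    have hxE : x ∈ E' := by
      rw [hE', Submodule.mem_comap, hx]
      exact ⟨w, rfl⟩
    refine ⟨⟨x, hxE⟩, ?_⟩
    apply hj
    rw [hq]
    exact hx
  · apply LinearMap.ext
    intro x
    exact hτ x
  · apply LinearMap.ext
    intro x
    simp only [LinearMap.coe_comp, Function.comp_apply]
    apply Module.Flat.rTensor_preserves_injective_linearMap (M := A) j hj
    have hjq : j ∘ₗ q = p ∘ₗ E'.subtype := LinearMap.ext fun x => hq x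
    rw [← LinearMap.comp_apply, ← LinearMap.rTensor_comp, hjq, LinearMap.rTensor_comp,
      LinearMap.comp_apply, hτ]
    have h1 := LinearMap.congr_fun hpc (x : P)
    have h2 := LinearMap.congr_fun hjc (q x)
    simp only [LinearMap.coe_comp, Function.comp_apply] at h1 h2
    rw [← h1, ← h2, hq]

end G0

section Coef

variable {k : Type u} [Field k] {A : Type v} [AddCommGroup A] [Module k A] [Coalgebra k A]
  {V : Type w} [AddCommGroup V] [Module k V] {W : Type w'} [AddCommGroup W] [Module k W]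

/-- The matrix coefficient map `v ↦ (ψ ⊗ id)(ρ v)` of an explicitly given comodule structure. -/
noncomputable def coef (c : HopfRep.Comod k A V) (ψ : Module.Dual k V) : V →ₗ[k] A :=
  lcontr ψ ∘ₗ c.coact

theorem coef_apply (c : HopfRep.Comod k A V) (ψ : Module.Dual k V) (v : V) :
    coef c ψ v = lcontr ψ (c.coact v) := rfl

theorem isComodHom_coef (c : HopfRep.Comod k A V) (ψ : Module.Dual k V) :
    @Hoch.IsComodHom k _ A _ _ _ V _ _ c A _ _ (HopfRep.Comod.regular k A) (coef c ψ) := by
  letI := c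
  exact isComodHom_cfm (C := A) ψ

theorem counit_coef (c : HopfRep.Comod k A V) (ψ : Module.Dual k V) (v : V) :
    CoalgebraStruct.counit (R := k) (A := A) (coef c ψ v) = ψ v := by
  letI := c
  exact counit_cfm (C := A) ψ v

theorem coef_ofEquiv (e : V ≃ₗ[k] W) (c : HopfRep.Comod k A V) (ψ : Module.Dual k W) (w : W) :
    coef (ComodTens.Comod.ofEquiv e c) ψ w = coef c (ψ ∘ₗ (e : V →ₗ[k] W)) (e.symm w) := by
  rw [coef_apply, ComodTens.ofEquiv_coact, lcontr_rTensor]
  rfl

theorem coef_ofEquiv' (e : V ≃ₗ[k] W) (c : HopfRep.Comod k A V) (ψ : Module.Dual k V) (v : V) :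
    coef c ψ v = coef (ComodTens.Comod.ofEquiv e c) (ψ ∘ₗ (e.symm : W →ₗ[k] V)) (e v) := by
  rw [coef_ofEquiv, LinearEquiv.symm_apply_apply]
  have : (ψ ∘ₗ (e.symm : W →ₗ[k] V)) ∘ₗ (e : V →ₗ[k] W) = ψ := by
    apply LinearMap.ext
    intro x
    simp only [LinearMap.coe_comp, LinearEquiv.coe_coe, Function.comp_apply,
      LinearEquiv.symm_apply_apply]
  rw [this]

theorem coef_prod_inl (c : HopfRep.Comod k A V) (d : HopfRep.Comod k A W) (ψ : Module.Dual k V)
    (v : V) :
    coef (ComodTens.Comod.prod c d) (ψ ∘ₗ LinearMap.fst k V W) (v, 0) = coef c ψ v := by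
  rw [coef_apply, ComodTens.prod_coact, map_zero, map_zero, add_zero, lcontr_rTensor]
  rfl

theorem coef_prod_inr (c : HopfRep.Comod k A V) (d : HopfRep.Comod k A W) (ψ : Module.Dual k W)
    (w : W) :
    coef (ComodTens.Comod.prod c d) (ψ ∘ₗ LinearMap.snd k V W) (0, w) = coef d ψ w := by
  rw [coef_apply, ComodTens.prod_coact, map_zero, map_zero, zero_add, lcontr_rTensor]
  rfl

end Coef

section Pi

variable {k : Type u} [Field k] {A : Type v} [AddCommGroup A] [Module k A] [Coalgebra k A]
  {ι : Type w'} [Fintype ι] [DecidableEq ι] {X : ι → Type w} [∀ i, AddCommGroup (X i)]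
  [∀ i, Module k (X i)] {Q : Type w''} [AddCommGroup Q] [Module k Q]

theorem isComodHom_single (c : ∀ i, HopfRep.Comod k A (X i)) (i : ι) :
    @Hoch.IsComodHom k _ A _ _ _ (X i) _ _ (c i) (∀ i, X i) _ _ (ComodTens.Comod.pi c)
      (LinearMap.single k X i) := by
  apply LinearMap.ext
  intro x
  exact ComodTens.pi_coact_single c i x

theorem isComodHom_of_pi (c : ∀ i, HopfRep.Comod k A (X i)) (cQ : HopfRep.Comod k A Q)
    (f : (∀ i, X i) →ₗ[k] Q)
    (hf : ∀ i, @Hoch.IsComodHom k _ A _ _ _ (X i) _ _ (c i) Q _ _ cQ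
      (f ∘ₗ LinearMap.single k X i)) :
    @Hoch.IsComodHom k _ A _ _ _ (∀ i, X i) _ _ (ComodTens.Comod.pi c) Q _ _ cQ f := by
  apply LinearMap.pi_ext
  intro i x
  have h := LinearMap.congr_fun (hf i) x
  simp only [LinearMap.coe_comp, Function.comp_apply, LinearMap.coe_single] at h ⊢
  rw [h, ComodTens.pi_coact_single, LinearMap.rTensor_comp]
  rfl

theorem isComodHom_sum {V : Type w} [AddCommGroup V] [Module k V] (cV : HopfRep.Comod k A V)
    (cQ : HopfRep.Comod k A Q) {κ : Type*} (s : Finset κ) (f : κ → V →ₗ[k] Q)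
    (hf : ∀ i ∈ s, @Hoch.IsComodHom k _ A _ _ _ V _ _ cV Q _ _ cQ (f i)) :
    @Hoch.IsComodHom k _ A _ _ _ V _ _ cV Q _ _ cQ (∑ i ∈ s, f i) := by
  classical
  induction s using Finset.induction_on with
  | empty =>
    unfold Hoch.IsComodHom
    simp
  | insert a s ha ih =>
    rw [Finset.sum_insert ha]
    have h1 := hf a (Finset.mem_insert_self a s)
    have h2 := ih fun i hi => hf i (Finset.mem_insert_of_mem hi)
    unfold Hoch.IsComodHom at h1 h2 ⊢
    rw [LinearMap.comp_add, h1, h2, LinearMap.rTensor_add, LinearMap.add_comp]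

/-- Main criterion: a finite-dimensional comodule `W` whose matrix coefficients (with respect to a
separating family `φ` of functionals) are sums of matrix coefficients of the members of a finite
family `X i`, suitably labelled, is a subquotient of the direct sum of the family. -/
theorem exists_subquot_pi (c : ∀ i, HopfRep.Comod k A (X i))
    {W : Type w''} [AddCommGroup W] [Module k W] (σ : HopfRep.Comod k A W)
    {s : ℕ} (φ : Fin s → Module.Dual k W) (hφ : ∀ w : W, (∀ a, φ a w = 0) → w = 0)
    (a : ι → Fin s) (ψ : ∀ i, Module.Dual k (X i))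
    (H : ∀ a₀ : Fin s, LinearMap.range (coef σ (φ a₀)) ≤
      ⨆ (i : ι) (_ : a i = a₀), LinearMap.range (coef (c i) (ψ i))) :
    ∃ (E' : Submodule k (∀ i, X i)) (τ : E' →ₗ[k] E' ⊗[k] A) (q : E' →ₗ[k] W),
      Function.Surjective q ∧
      (E'.subtype.rTensor A) ∘ₗ τ = (ComodTens.Comod.pi c).coact ∘ₗ E'.subtype ∧
      (q.rTensor A) ∘ₗ τ = σ.coact ∘ₗ q := by
  classical
  let cQ : HopfRep.Comod k A (Fin s → A) :=
    ComodTens.Comod.pi (fun _ : Fin s => HopfRep.Comod.regular k A)
  let j : W →ₗ[k] (Fin s → A) :=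
    ∑ a₀ : Fin s, LinearMap.single k (fun _ : Fin s => A) a₀ ∘ₗ coef σ (φ a₀)
  let p : (∀ i, X i) →ₗ[k] (Fin s → A) :=
    ∑ i : ι, LinearMap.single k (fun _ : Fin s => A) (a i) ∘ₗ coef (c i) (ψ i) ∘ₗ LinearMap.proj i
  have hsingle : ∀ a₀ : Fin s, @Hoch.IsComodHom k _ A _ _ _ A _ _ (HopfRep.Comod.regular k A)
      (Fin s → A) _ _ cQ (LinearMap.single k (fun _ : Fin s => A) a₀) :=
    fun a₀ => isComodHom_single (fun _ : Fin s => HopfRep.Comod.regular k A) a₀
  have hjc : @Hoch.IsComodHom k _ A _ _ _ W _ _ σ (Fin s → A) _ _ cQ j := by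
    apply isComodHom_sum
    intro a₀ _
    letI := σ
    letI := cQ
    exact isComodHom_comp' (isComodHom_coef σ (φ a₀)) (hsingle a₀)
  have hp_single : ∀ (i : ι) (y : X i),
      p (Pi.single i y) = Pi.single (a i) (coef (c i) (ψ i) y) := by
    intro i y
    change (∑ i' : ι, LinearMap.single k (fun _ : Fin s => A) (a i') ∘ₗ coef (c i') (ψ i') ∘ₗ
      LinearMap.proj i') (Pi.single i y) = _
    rw [LinearMap.sum_apply, Finset.sum_eq_single i]
    · simp
    · intro i' _ hi'
      simp [Pi.single_eq_of_ne hi']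
    · intro hi
      exact absurd (Finset.mem_univ i) hi
  have hpc : @Hoch.IsComodHom k _ A _ _ _ (∀ i, X i) _ _ (ComodTens.Comod.pi c)
      (Fin s → A) _ _ cQ p := by
    apply isComodHom_of_pi
    intro i
    have : p ∘ₗ LinearMap.single k X i =
        LinearMap.single k (fun _ : Fin s => A) (a i) ∘ₗ coef (c i) (ψ i) := by
      apply LinearMap.ext
      intro y
      exact hp_single i y
    rw [this]
    letI := c i
    letI := cQ
    exact isComodHom_comp' (isComodHom_coef (c i) (ψ i)) (hsingle (a i))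
  have hj_apply : ∀ (w : W) (a₀ : Fin s), j w a₀ = coef σ (φ a₀) w := by
    intro w a₀
    change (∑ a₁ : Fin s, LinearMap.single k (fun _ : Fin s => A) a₁ ∘ₗ coef σ (φ a₁)) w a₀ = _
    rw [LinearMap.sum_apply, Finset.sum_apply, Finset.sum_eq_single a₀]
    · simp
    · intro b _ hb
      simp [Pi.single_eq_of_ne hb.symm]
    · intro h
      exact absurd (Finset.mem_univ a₀) h
  have hj : Function.Injective j := by
    rw [← LinearMap.ker_eq_bot, LinearMap.ker_eq_bot']
    intro w hw
    apply hφ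
    intro a₀
    rw [← counit_coef σ (φ a₀) w, ← hj_apply, hw]
    simp
  have hr : LinearMap.range j ≤ LinearMap.range p := by
    rintro _ ⟨w, rfl⟩
    have hjw : j w = ∑ a₀ : Fin s, Pi.single a₀ (coef σ (φ a₀) w) := by
      change (∑ a₁ : Fin s, LinearMap.single k (fun _ : Fin s => A) a₁ ∘ₗ coef σ (φ a₁)) w = _
      rw [LinearMap.sum_apply]
      rfl
    rw [hjw]
    refine Submodule.sum_mem _ fun a₀ _ => ?_
    have hle : LinearMap.range (coef σ (φ a₀)) ≤
        (LinearMap.range p).comap (LinearMap.single k (fun _ : Fin s => A) a₀) := by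
      refine (H a₀).trans (iSup_le fun i => iSup_le fun hi => ?_)
      rintro _ ⟨y, rfl⟩
      rw [Submodule.mem_comap]
      refine ⟨Pi.single i y, ?_⟩
      rw [hp_single, hi]
      rfl
    exact hle ⟨w, rfl⟩
  exact exists_subquot_of_range_le (ComodTens.Comod.pi c) σ cQ j hj hjc p hpc hr

end Pi

section Bialg

variable {k : Type u} [Field k] {A : Type v} [CommRing A] [Bialgebra k A]
  {V : Type w} [AddCommGroup V] [Module k V] {W : Type w'} [AddCommGroup W] [Module k W]

/-- The product of two functionals, as a functional on the tensor product. -/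
noncomputable def mulDual (φ : Module.Dual k V) (ψ : Module.Dual k W) :
    Module.Dual k (V ⊗[k] W) :=
  LinearMap.mul' k k ∘ₗ TensorProduct.map φ ψ

@[simp] theorem mulDual_tmul (φ : Module.Dual k V) (ψ : Module.Dual k W) (v : V) (w : W) :
    mulDual φ ψ (v ⊗ₜ[k] w) = φ v * ψ w := by
  simp [mulDual]

theorem coef_tensor (c : HopfRep.Comod k A V) (d : HopfRep.Comod k A W) (φ : Module.Dual k V)
    (ψ : Module.Dual k W) (v : V) (w : W) :
    coef (ComodTens.Comod.tensor c d) (mulDual φ ψ) (v ⊗ₜ[k] w) = coef c φ v * coef d ψ w := by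
  rw [coef_apply, ComodTens.tensor_coact_tmul, coef_apply, coef_apply]
  generalize c.coact v = x
  generalize d.coact w = y
  induction x using TensorProduct.induction_on with
  | zero => simp
  | add x₁ x₂ h₁ h₂ => simp only [TensorProduct.add_tmul, map_add, h₁, h₂, add_mul]
  | tmul v' a =>
    induction y using TensorProduct.induction_on with
    | zero => simp
    | add y₁ y₂ h₁ h₂ => simp only [TensorProduct.tmul_add, map_add, h₁, h₂, mul_add]
    | tmul w' b =>
      simp only [AlgebraTensorModule.tensorTensorTensorComm_tmul, TensorProduct.map_tmul,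
        LinearMap.id_apply, LinearMap.mul'_apply, lcontr_tmul, mulDual_tmul]
      rw [smul_mul_smul_comm]

theorem coef_trivial_one :
    coef (HopfRep.Comod.trivial (k := k) (A := A) k) (LinearMap.id : k →ₗ[k] k) (1 : k) =
      (1 : A) := by
  rw [coef_apply]
  change lcontr (LinearMap.id : k →ₗ[k] k) ((1 : k) ⊗ₜ[k] (1 : A)) = 1
  simp

theorem coef_comodAlong {B : Type v} [CommRing B] [Bialgebra k B] (π : A →ₐc[k] B)
    (c : HopfRep.Comod k A V) (ψ : Module.Dual k V) (v : V) :
    coef (GLin.comodAlong π c) ψ v = π (coef c ψ v) := by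
  rw [coef_apply, GLin.comodAlong_coact, coef_apply]
  exact lcontr_lTensor ψ (π : A →ₗ[k] B) (c.coact v)

/-- The coefficient space of a comodule with explicit structure. -/
noncomputable def cfS (c : HopfRep.Comod k A V) : Submodule k A :=
  ⨆ ψ : Module.Dual k V, LinearMap.range (coef c ψ)

theorem coef_mem_cfS (c : HopfRep.Comod k A V) (ψ : Module.Dual k V) (v : V) :
    coef c ψ v ∈ cfS c :=
  (le_iSup (fun ψ => LinearMap.range (coef c ψ)) ψ) ⟨v, rfl⟩

end Bialg

section TPow

variable {k : Type u} [Field k] {A : Type u} [CommRing A] [Bialgebra k A]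
  {E : Type u} [AddCommGroup E] [Module k E] (cE : HopfRep.Comod k A E)

theorem one_mem_cfS_tpow_zero : (1 : A) ∈ cfS (ComodTens.Comod.tpow cE 0) := by
  have h := coef_ofEquiv' (W := TensorPower k 0 E)
    (PiTensorProduct.isEmptyEquiv (Fin 0) (R := k) (s := fun _ : Fin 0 => E)).symm
    (HopfRep.Comod.trivial (k := k) (A := A) k) (LinearMap.id : k →ₗ[k] k) (1 : k)
  rw [coef_trivial_one] at h
  rw [h]
  exact coef_mem_cfS (ComodTens.Comod.tpow cE 0) _ _

theorem mul_mem_cfS_tpow_succ (m : ℕ) {f g : A} (hf : f ∈ cfS (ComodTens.Comod.tpow cE m))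
    (hg : g ∈ cfS cE) : f * g ∈ cfS (ComodTens.Comod.tpow cE (m + 1)) := by
  refine Submodule.iSup_induction _
    (motive := fun f => f * g ∈ cfS (ComodTens.Comod.tpow cE (m + 1))) hf ?_ ?_ ?_
  · rintro φ _ ⟨u, rfl⟩
    refine Submodule.iSup_induction _
      (motive := fun g => coef (ComodTens.Comod.tpow cE m) φ u * g ∈
        cfS (ComodTens.Comod.tpow cE (m + 1))) hg ?_ ?_ ?_
    · rintro ψ _ ⟨v, rfl⟩
      rw [coef_ofEquiv' (W := TensorPower k 1 E)
        (PiTensorProduct.subsingletonEquiv (R := k) (s := fun _ : Fin 1 => E) (0 : Fin 1)).symm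
        cE ψ v, ← coef_tensor,
        coef_ofEquiv' (W := TensorPower k (m + 1) E)
          (TensorPower.mulEquiv (R := k) (M := E) (n := m) (m := 1))]
      exact coef_mem_cfS (ComodTens.Comod.tpow cE (m + 1)) _ _
    · rw [mul_zero]; exact Submodule.zero_mem _
    · intro x y hx hy
      rw [mul_add]; exact Submodule.add_mem _ hx hy
  · rw [zero_mul]; exact Submodule.zero_mem _
  · intro x y hx hy
    rw [add_mul]; exact Submodule.add_mem _ hx hy

/-- If the coefficients of `E` generate `A` as an algebra, the coefficient spaces of the tensor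
powers of `E` exhaust `A`. -/
theorem iSup_cfS_tpow_eq_top (h : Algebra.adjoin k (cfS cE : Set A) = ⊤) :
    ⨆ m, cfS (ComodTens.Comod.tpow cE m) = ⊤ := by
  have key : ∀ x ∈ Algebra.adjoin k (cfS cE : Set A),
      ∀ f ∈ ⨆ m, cfS (ComodTens.Comod.tpow cE m),
      f * x ∈ ⨆ m, cfS (ComodTens.Comod.tpow cE m) := by
    intro x hx
    induction hx using Algebra.adjoin_induction with
    | mem g hg =>
      intro f hf
      refine Submodule.iSup_induction _
        (motive := fun f => f * g ∈ ⨆ m, cfS (ComodTens.Comod.tpow cE m)) hf ?_ ?_ ?_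
      · intro m f hf
        exact (le_iSup (fun m => cfS (ComodTens.Comod.tpow cE m)) (m + 1))
          (mul_mem_cfS_tpow_succ cE m hf hg)
      · rw [zero_mul]; exact Submodule.zero_mem _
      · intro x y hx hy
        rw [add_mul]; exact Submodule.add_mem _ hx hy
    | algebraMap r =>
      intro f hf
      rw [Algebra.algebraMap_eq_smul_one, mul_smul_comm, mul_one]
      exact Submodule.smul_mem _ _ hf
    | add x y _ _ hx hy =>
      intro f hf
      rw [mul_add]
      exact Submodule.add_mem _ (hx f hf) (hy f hf)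
    | mul x y _ _ hx hy =>
      intro f hf
      rw [← mul_assoc]
      exact hy _ (hx f hf)
  rw [eq_top_iff]
  intro x _
  have hx : x ∈ Algebra.adjoin k (cfS cE : Set A) := by
    rw [h]; exact Algebra.mem_top
  have h1 : (1 : A) ∈ ⨆ m, cfS (ComodTens.Comod.tpow cE m) :=
    (le_iSup (fun m => cfS (ComodTens.Comod.tpow cE m)) 0) (one_mem_cfS_tpow_zero cE)
  have := key x hx 1 h1
  rwa [one_mul] at this

/-- **Tannakian generation**: if the matrix coefficients of `E` generate `A` as an algebra, every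
finite-dimensional `A`-comodule is a subquotient of a finite direct sum of tensor powers of
`E`. -/
theorem exists_subquot_tpow (h : Algebra.adjoin k (cfS cE : Set A) = ⊤)
    {W : Type u} [AddCommGroup W] [Module k W] [Module.Finite k W] (σ : HopfRep.Comod k A W) :
    ∃ (b : ℕ) (m : Fin b → ℕ) (E' : Submodule k ((i : Fin b) → TensorPower k (m i) E))
      (τ : E' →ₗ[k] E' ⊗[k] A) (q : E' →ₗ[k] W),
      Function.Surjective q ∧
      (E'.subtype.rTensor A) ∘ₗ τ =
        (ComodTens.Comod.pi fun i : Fin b => ComodTens.Comod.tpow cE (m i)).coact ∘ₗ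
          E'.subtype ∧
      (q.rTensor A) ∘ₗ τ = σ.coact ∘ₗ q := by
  classical
  let s := Module.finrank k W
  let bW : Module.Basis (Fin s) k W := Module.finBasis k W
  let φ : Fin s → Module.Dual k W := fun a => bW.coord a
  have hφ : ∀ w : W, (∀ a, φ a w = 0) → w = 0 := fun w hw =>
    (bW.forall_coord_eq_zero_iff).1 hw
  let R : Submodule k A := ⨆ a₀ : Fin s, LinearMap.range (coef σ (φ a₀))
  have hRfg : R.FG := by
    apply Submodule.fg_iSup
    intro a₀
    rw [LinearMap.range_eq_map]
    exact (Module.Finite.fg_top).map _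
  have hRc : IsCompactElement R := (Submodule.fg_iff_compact R).1 hRfg
  let f : (Σ m : ℕ, Module.Dual k (TensorPower k m E)) → Submodule k A :=
    fun t => LinearMap.range (coef (ComodTens.Comod.tpow cE t.1) t.2)
  have hf : R ≤ ⨆ t, f t := by
    have : ⨆ t, f t = ⊤ := by
      rw [iSup_sigma]
      exact iSup_cfS_tpow_eq_top cE h
    rw [this]
    exact le_top
  obtain ⟨T, hT⟩ := CompleteLattice.IsCompactElement.exists_finset_of_le_iSup _ hRc f hf
  let N := T.card
  let eT : Fin N ≃ T := T.equivFin.symm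
  let m' : Fin N → ℕ := fun l => (eT l).1.1
  let ψ' : ∀ l : Fin N, Module.Dual k (TensorPower k (m' l) E) := fun l => (eT l).1.2
  have hR'' : R ≤ ⨆ l : Fin N, f (eT l).1 := by
    refine hT.trans ?_
    refine iSup_le fun t => iSup_le fun ht => ?_
    have h3 := le_iSup (fun l : Fin N => f (eT l).1) (eT.symm ⟨t, ht⟩)
    have h4 : ((eT (eT.symm ⟨t, ht⟩)).1 : Σ m : ℕ, Module.Dual k (TensorPower k m E)) = t := by
      rw [Equiv.apply_symm_apply]
    exact (le_of_eq (congrArg f h4.symm)).trans h3
  have hR' : R ≤ ⨆ l : Fin N, LinearMap.range (coef (ComodTens.Comod.tpow cE (m' l)) (ψ' l)) :=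
    hR''
  let dec : Fin (s * N) ≃ Fin s × Fin N := finProdFinEquiv.symm
  refine ⟨s * N, fun j => m' (dec j).2, ?_⟩
  refine exists_subquot_pi (fun j : Fin (s * N) => ComodTens.Comod.tpow cE (m' (dec j).2)) σ φ hφ
    (fun j => (dec j).1) (fun j => ψ' (dec j).2) ?_
  intro a₀
  refine (le_iSup (fun a₀ : Fin s => LinearMap.range (coef σ (φ a₀))) a₀).trans
    (hR'.trans (iSup_le fun l => ?_))
  obtain ⟨j, hj⟩ := dec.surjective (a₀, l)
  have h1 : (dec j).1 = a₀ := by rw [hj]
  have h2 : (dec j).2 = l := by rw [hj]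
  subst h1 h2
  exact le_iSup₂_of_le j rfl le_rfl

end TPow

end Groth.Agent.Lib.CoefSubquot
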