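import Groth.Agent.Lib.HenselStep
import Mathlib.FieldTheory.PrimitiveElement
import Mathlib.FieldTheory.Separable
import Mathlib.RingTheory.LocalRing.ResidueField.Basic

/-!
# Lifting separable residue field extensions to henselian local rings (helper22)

Let `T` be a henselian local ring which is an algebra over a field `k`, `E/k` a separable algebraic
field extension and `ι : E →ₐ[k] κ(T)`. Then there is a unique `k`-algebra map `σ : E →ₐ[k] T`
lifting `ι` (`liftHom`, `residue_liftHom`).
-/

namespace Groth.Agent.Lib.CoeffField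

open Polynomial IsLocalRing IntermediateField

variable {k : Type*} [Field k] {T : Type*} [CommRing T] [HenselianLocalRing T] [Algebra k T]
  {E : Type*} [Field E] [Algebra k E] [Algebra.IsSeparable k E]
  (ι : E →ₐ[k] ResidueField T)

omit [HenselianLocalRing T] in
theorem residue_aeval [IsLocalRing T] (b : T) (P : k[X]) :
    residue T (aeval b P) = aeval (residue T b) P :=
  (Polynomial.aeval_algHom_apply (IsScalarTower.toAlgHom k T (ResidueField T)) b P).symm

theorem isUnit_derivative_of_residue (e : E) (b : T) (hb : residue T b = ι e) :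
    IsUnit (aeval b (minpoly k e).derivative) := by
  rw [← residue_ne_zero_iff_isUnit, residue_aeval, hb, Polynomial.aeval_algHom_apply]
  have hsep : (minpoly k e).Separable := Algebra.IsSeparable.isSeparable k e
  exact (map_ne_zero ι).mpr (hsep.aeval_derivative_ne_zero (minpoly.aeval k e))

theorem exists_lift (e : E) :
    ∃ b : T, aeval b (minpoly k e) = 0 ∧ residue T b = ι e := by
  have hint : IsIntegral k e := Algebra.IsSeparable.isIntegral k e
  obtain ⟨a₀, ha₀⟩ := residue_surjective (ι e)
  set F : T[X] := (minpoly k e).map (algebraMap k T) with hF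
  have h1 : F.eval a₀ ∈ maximalIdeal T := by
    rw [hF, Polynomial.eval_map_algebraMap, ← residue_eq_zero_iff, residue_aeval, ha₀,
      Polynomial.aeval_algHom_apply, minpoly.aeval, map_zero]
  have h2 : IsUnit (F.derivative.eval a₀) := by
    rw [hF, Polynomial.derivative_map, Polynomial.eval_map_algebraMap]
    exact isUnit_derivative_of_residue ι e a₀ ha₀
  obtain ⟨b, hb, hb'⟩ := HenselianLocalRing.is_henselian F ((minpoly.monic hint).map _) a₀ h1 h2
  refine ⟨b, ?_, ?_⟩
  · rw [IsRoot.def, hF, Polynomial.eval_map_algebraMap] at hb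
    exact hb
  · rw [← ha₀, ← sub_eq_zero, ← map_sub, residue_eq_zero_iff]
    exact hb'

/-- The lift of `e` to `T`. -/
noncomputable def liftElt (e : E) : T := (exists_lift ι e).choose

theorem aeval_liftElt (e : E) : aeval (liftElt ι e) (minpoly k e) = 0 :=
  (exists_lift ι e).choose_spec.1

theorem residue_liftElt (e : E) : residue T (liftElt ι e) = ι e :=
  (exists_lift ι e).choose_spec.2

theorem eq_liftElt (e : E) (b : T) (hb : aeval b (minpoly k e) = 0) (hb' : residue T b = ι e) :
    b = liftElt ι e := by
  set F : T[X] := (minpoly k e).map (algebraMap k T) with hF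
  refine HenselStep.root_unique F ?_ ?_ ?_ ?_
  · rw [IsRoot.def, hF, Polynomial.eval_map_algebraMap]
    exact aeval_liftElt ι e
  · rw [IsRoot.def, hF, Polynomial.eval_map_algebraMap]
    exact hb
  · rw [hF, Polynomial.derivative_map, Polynomial.eval_map_algebraMap]
    exact isUnit_derivative_of_residue ι e _ (residue_liftElt ι e)
  · rw [← residue_eq_zero_iff, map_sub, hb', residue_liftElt, sub_self]

theorem liftElt_aeval (θ : E) (P : k[X]) :
    liftElt ι (aeval θ P) = aeval (liftElt ι θ) P := by
  symm
  apply eq_liftElt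
  · rw [← Polynomial.aeval_comp]
    have hdvd : minpoly k θ ∣ (minpoly k (aeval θ P)).comp P := by
      apply minpoly.dvd
      rw [Polynomial.aeval_comp, minpoly.aeval]
    obtain ⟨Q, hQ⟩ := hdvd
    rw [hQ, map_mul, aeval_liftElt, zero_mul]
  · rw [residue_aeval, residue_liftElt, Polynomial.aeval_algHom_apply]

theorem liftElt_algebraMap (c : k) : liftElt ι (algebraMap k E c) = algebraMap k T c := by
  have h := liftElt_aeval ι (0 : E) (Polynomial.C c)
  rwa [Polynomial.aeval_C, Polynomial.aeval_C] at h

omit [HenselianLocalRing T] [Algebra k T] ι in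
/-- Two elements of a separable algebraic extension are polynomials in a common element. -/
theorem exists_common_primitive (e₁ e₂ : E) :
    ∃ (θ : E) (P₁ P₂ : k[X]), e₁ = aeval θ P₁ ∧ e₂ = aeval θ P₂ := by
  have hi₁ : IsIntegral k e₁ := Algebra.IsSeparable.isIntegral k e₁
  have hi₂ : IsIntegral k e₂ := Algebra.IsSeparable.isIntegral k e₂
  let L : IntermediateField k E := k⟮e₁, e₂⟯
  have hfd : FiniteDimensional k L := finiteDimensional_adjoin_pair hi₁ hi₂
  have hsep : Algebra.IsSeparable k L := Algebra.isSeparable_tower_bot_of_isSeparable k L E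
  obtain ⟨α, hα⟩ := Field.exists_primitive_element k L
  have hαint : IsIntegral k α := Algebra.IsSeparable.isIntegral k α
  have key : ∀ x : L, ∃ P : k[X], (x : E) = aeval (α : E) P := by
    intro x
    have hx : x ∈ k⟮α⟯ := by rw [hα]; trivial
    have hx' : x ∈ k⟮α⟯.toSubalgebra := hx
    rw [adjoin_simple_toSubalgebra_of_isAlgebraic hαint.isAlgebraic,
      Algebra.adjoin_singleton_eq_range_aeval] at hx'
    obtain ⟨P, hP⟩ := hx'
    refine ⟨P, ?_⟩
    have := Polynomial.aeval_algHom_apply L.val α P
    rw [← hP]
    exact this.symm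
  have h₁ : e₁ ∈ L := subset_adjoin k _ (by simp)
  have h₂ : e₂ ∈ L := subset_adjoin k _ (by simp)
  obtain ⟨P₁, hP₁⟩ := key ⟨e₁, h₁⟩
  obtain ⟨P₂, hP₂⟩ := key ⟨e₂, h₂⟩
  exact ⟨α, P₁, P₂, hP₁, hP₂⟩

/-- The lift of `ι` to a `k`-algebra homomorphism `E → T`. -/
noncomputable def liftHom : E →ₐ[k] T where
  toFun := liftElt ι
  map_one' := by
    have := liftElt_algebraMap ι (1 : k)
    rwa [map_one, map_one] at this
  map_zero' := by
    have := liftElt_algebraMap ι (0 : k)
    rwa [map_zero, map_zero] at this
  map_mul' e₁ e₂ := by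
    obtain ⟨θ, P₁, P₂, rfl, rfl⟩ := exists_common_primitive (k := k) e₁ e₂
    rw [← map_mul, liftElt_aeval, liftElt_aeval, liftElt_aeval, map_mul]
  map_add' e₁ e₂ := by
    obtain ⟨θ, P₁, P₂, rfl, rfl⟩ := exists_common_primitive (k := k) e₁ e₂
    rw [← map_add, liftElt_aeval, liftElt_aeval, liftElt_aeval, map_add]
  commutes' c := liftElt_algebraMap ι c

theorem residue_liftHom (e : E) : residue T (liftHom ι e) = ι e := residue_liftElt ι e


/-- Coefficient field: a henselian local `k`-algebra whose residue field is separable algebraic over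
`k` admits a section of the residue map which is compatible with `k`. -/
theorem exists_section (k : Type*) [Field k] (T : Type*) [CommRing T] [HenselianLocalRing T]
    [Algebra k T] [Algebra.IsSeparable k (ResidueField T)] :
    ∃ σ : ResidueField T →+* T, (∀ y, residue T (σ y) = y) ∧
      ∀ c : k, σ (residue T (algebraMap k T c)) = algebraMap k T c := by
  refine ⟨(liftHom (AlgHom.id k (ResidueField T)) : ResidueField T →+* T), fun y => ?_, fun c => ?_⟩
  · exact residue_liftHom (AlgHom.id k (ResidueField T)) y
  · exact (liftHom (AlgHom.id k (ResidueField T))).commutes c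

end Groth.Agent.Lib.CoeffField
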