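/-
helper6: existence of coefficient fields in characteristic `p` for rings whose "maximal ideal"
is killed by Frobenius (e.g. `A ⧸ 𝔪 ^ 2`, or `A ⧸ 𝔪 ^ p`).
Mathlib-only.
-/
import Mathlib

namespace Groth.Agent.Lib.CoeffField6

open Polynomial

section

variable {B k : Type*} [CommRing B] [Field k] (p : ℕ) [Fact p.Prime] [CharP B p]
  (π : B →+* k)

/-- The property of subrings used in the Zorn argument: `π` is injective on `S`. -/
def Good (S : Subring B) : Prop := ∀ x ∈ S, π x = 0 → x = 0

variable {π}

theorem isUnit_of_map_ne_zero (hπ : Function.Surjective π)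
    (hn : ∀ x, π x = 0 → x ^ p = 0) {b : B} (hb : π b ≠ 0) : IsUnit b := by
  obtain ⟨t, ht⟩ := hπ (π b)⁻¹
  have h1 : π (b * t - 1) = 0 := by
    rw [map_sub, map_mul, ht, mul_inv_cancel₀ hb, map_one, sub_self]
  have h2 : IsNilpotent (b * t - 1) := ⟨p, hn _ h1⟩
  have h3 : IsUnit (b * t) := by
    have : b * t = 1 + (b * t - 1) := by ring
    rw [this]
    exact IsNilpotent.isUnit_one_add h2
  exact isUnit_of_mul_isUnit_left h3

theorem charP_of_surjective (hπ : Function.Surjective π) : CharP k p := by
  have h0 : ((p : ℕ) : k) = 0 := by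
    have : ((p : ℕ) : k) = π ((p : ℕ) : B) := by rw [map_natCast]
    rw [this, CharP.cast_eq_zero, map_zero]
  exact (CharP.charP_iff_prime_eq_zero (Fact.out : p.Prime)).mpr h0

/-- Existence of a coefficient field: if `π : B → k` is a surjection of a ring of characteristic
`p` onto a field such that Frobenius kills `ker π`, then `π` has a ring-theoretic section. -/
theorem exists_section (hπ : Function.Surjective π)
    (hn : ∀ x, π x = 0 → x ^ p = 0) :
    ∃ σ : k →+* B, π.comp σ = RingHom.id k := by
  classical
  haveI : CharP k p := charP_of_surjective p hπ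
  have hp : p.Prime := Fact.out
  -- the Frobenius subring is good
  have hgood0 : Good π (frobenius B p).range := by
    rintro _ ⟨a, rfl⟩ h
    rw [frobenius_def] at h ⊢
    rw [map_pow] at h
    exact hn a (pow_eq_zero_iff hp.ne_zero |>.mp h)
  -- Zorn
  obtain ⟨S, hS0, hS⟩ := zorn_le_nonempty₀ {S : Subring B | Good π S} (by
    intro c hc hchain y hy
    refine ⟨sSup c, ?_, fun z hz => le_sSup hz⟩
    intro x hx hx0
    rw [Subring.mem_sSup_of_directedOn ⟨y, hy⟩ hchain.directedOn] at hx
    obtain ⟨T, hT, hxT⟩ := hx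
    exact hc hT x hxT hx0) (frobenius B p).range hgood0
  have hSgood : Good π S := hS.prop
  -- `S` is a domain
  have hinj : Function.Injective (π.comp S.subtype) := by
    rw [injective_iff_map_eq_zero]
    intro x hx
    exact Subtype.ext (hSgood x x.2 hx)
  haveI : IsDomain S := Function.Injective.isDomain _ hinj
  -- the lift of the inclusion to the fraction field
  have hunits : ∀ s : nonZeroDivisors S, IsUnit (S.subtype s) := by
    intro s
    apply isUnit_of_map_ne_zero p hπ hn
    intro h
    exact nonZeroDivisors.ne_zero s.2 (hinj (by rw [map_zero]; exact h))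
  let ι : FractionRing S →+* B := IsLocalization.lift (M := nonZeroDivisors S) hunits
  have hι : ∀ s : S, ι (algebraMap S (FractionRing S) s) = s := fun s =>
    IsLocalization.lift_eq hunits s
  have hπι : Function.Injective (π.comp ι) := RingHom.injective _
  -- the range of `ι` is `S`
  have hrange : ι.range = S := by
    refine hS.eq_of_ge ?_ ?_
    · rintro _ ⟨z, rfl⟩ h
      have : z = 0 := hπι (by rw [map_zero]; exact h)
      rw [this, map_zero]
    · intro s hs
      exact ⟨algebraMap S (FractionRing S) ⟨s, hs⟩, hι ⟨s, hs⟩⟩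
  -- surjectivity of `π` on `S`
  have hsurj : Function.Surjective (π.comp S.subtype) := by
    intro abar
    by_contra hcon
    obtain ⟨a, rfl⟩ := hπ abar
    let _ : Algebra (FractionRing S) k := (π.comp ι).toAlgebra
    have halg : ∀ z, algebraMap (FractionRing S) k z = π (ι z) := fun z => rfl
    have hnot : ∀ z : FractionRing S, π (ι z) ≠ π a := by
      intro z hz
      have : ι z ∈ S := hrange.le ⟨z, rfl⟩
      exact hcon ⟨⟨ι z, this⟩, hz⟩
    have hapS : a ^ p ∈ S := hS0 ⟨a, rfl⟩
    set c : FractionRing S := algebraMap S (FractionRing S) ⟨a ^ p, hapS⟩ with hc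
    have hιc : ι c = a ^ p := hι ⟨a ^ p, hapS⟩
    have hirr : Irreducible (X ^ p - C c) := by
      refine X_pow_sub_C_irreducible_of_prime hp (fun d hd => ?_)
      have h1 : (π (ι d)) ^ p = (π a) ^ p := by
        rw [← map_pow, ← map_pow, hd, hιc, map_pow]
      exact hnot d (frobenius_inj k p h1)
    have hroot : aeval (π a) (X ^ p - C c) = 0 := by
      rw [map_sub, map_pow, aeval_X, aeval_C, halg, hιc, map_pow, sub_self]
    have hmin : minpoly (FractionRing S) (π a) = X ^ p - C c :=
      (minpoly.eq_of_irreducible_of_monic hirr hroot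
        (monic_X_pow_sub_C c hp.ne_zero)).symm
    -- the evaluation subring
    let ev : (FractionRing S)[X] →+* B := eval₂RingHom ι a
    have hev : ∀ f, π (ev f) = aeval (π a) f := by
      intro f
      change π (eval₂ ι a f) = _
      rw [hom_eval₂, aeval_def]
      rfl
    have hgood2 : Good π ev.range := by
      rintro _ ⟨f, rfl⟩ h
      rw [hev] at h
      obtain ⟨g, rfl⟩ := hmin ▸ minpoly.dvd (FractionRing S) (π a) h
      rw [map_mul]
      have : ev (X ^ p - C c) = 0 := by
        change eval₂ ι a (X ^ p - C c) = 0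
        rw [eval₂_sub, eval₂_pow, eval₂_X, eval₂_C, hιc, sub_self]
      rw [this, zero_mul]
    have hle : S ≤ ev.range := by
      intro s hs
      refine ⟨C (algebraMap S (FractionRing S) ⟨s, hs⟩), ?_⟩
      change eval₂ ι a (C _) = s
      rw [eval₂_C, hι]
    have heq : ev.range = S := hS.eq_of_ge hgood2 hle
    have haS : a ∈ S :=
      heq.le ⟨X, by change eval₂ ι a X = a; rw [eval₂_X]⟩
    exact hcon ⟨⟨a, haS⟩, rfl⟩
  let e : S ≃+* k := RingEquiv.ofBijective (π.comp S.subtype) ⟨hinj, hsurj⟩
  refine ⟨S.subtype.comp e.symm.toRingHom, ?_⟩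
  ext x
  change (π.comp S.subtype) (e.symm x) = x
  exact e.apply_symm_apply x

end

end Groth.Agent.Lib.CoeffField6
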