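import Groth.Agent.Lib.CohLocalization
import Groth.Agent.Lib.BaseChangeFive

/-!
# Cohomology on quasi-compact opens commutes with flat base change of coefficients (helper49)

Let `X` be a scheme, `A → B` a flat ring map, `P` an abelian sheaf on `X` with an action of `A`
(`Act A X`), `Q` an abelian sheaf with an action of `B`, and `u : P.F ⟶ Q.F` an `A`-equivariant map
(`Data A B X`).  The groups `P.H q W = H^q(W, P)` are `A`-modules, `Q.H q W` are `B`-modules, and
`D.ρ q W : P.H q W →ₗ[A] Q.H q W` is the map induced by `u`.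

Main theorem `bcAt_of_isCompact`: if `H^{n+1}(U, P) = 0 = H^{n+1}(U, Q)` for all affine opens `U` and
`D.ρ 0 U` is a base change (`IsBaseChange B`) for all affine opens `U`, then `D.ρ q W` is a base change
for every quasi-compact open `W` contained in a quasi-separated open and every `q`
(Mayer–Vietoris induction; `BCAt.sup` is the Mayer–Vietoris step, valid for arbitrary opens).

Also: `induction_qcqs`, an abstract induction principle over quasi-compact opens.
-/

set_option autoImplicit false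
universe u
open CategoryTheory CategoryTheory.Limits AlgebraicGeometry TopologicalSpace Opposite Abelian

namespace Groth.Agent.Lib.CohBC

open Groth.Agent.Lib.MVNat Groth.Agent.Lib.AffVanTop Groth.Agent.Lib.HUInst Groth.Agent.Lib.CohLoc
open Groth.Agent.Lib.BaseChangeFive

section MapH

variable {X : TopCat.{u}}

lemma mapH_eq {F G : CohTop.Ab X} (φ : F ⟶ G) (q : ℕ) (W : Opens X) (x : CohTop.HU F q W) :
    mapH φ q W x = (show Ext _ F q from x).comp (Ext.mk₀ φ) (add_zero q) := rfl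

lemma mapH_id (F : CohTop.Ab X) (q : ℕ) (W : Opens X) (x : CohTop.HU F q W) :
    mapH (𝟙 F) q W x = x := by
  rw [mapH_eq]
  exact Ext.comp_mk₀_id _

lemma mapH_comp {F G K : CohTop.Ab X} (φ : F ⟶ G) (ψ : G ⟶ K) (q : ℕ) (W : Opens X)
    (x : CohTop.HU F q W) : mapH (φ ≫ ψ) q W x = mapH ψ q W (mapH φ q W x) := by
  rw [mapH_eq, mapH_eq, mapH_eq]
  rw [Ext.comp_assoc_of_third_deg_zero, Ext.mk₀_comp_mk₀]

lemma mapH_add {F G : CohTop.Ab X} (φ ψ : F ⟶ G) (q : ℕ) (W : Opens X)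
    (x : CohTop.HU F q W) : mapH (φ + ψ) q W x = mapH φ q W x + mapH ψ q W x := by
  rw [mapH_eq, mapH_eq, mapH_eq, Ext.mk₀_add, Ext.comp_add]
  rfl

lemma mapH_zero {F G : CohTop.Ab X} (q : ℕ) (W : Opens X)
    (x : CohTop.HU F q W) : mapH (0 : F ⟶ G) q W x = 0 := by
  rw [mapH_eq, Ext.mk₀_zero, Ext.comp_zero]
  rfl

/-- endomorphisms of a sheaf act on its cohomology -/
noncomputable def endAct (F : CohTop.Ab X) (q : ℕ) (W : Opens X) :
    End F →+* AddMonoid.End (CohTop.HU F q W) where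
  toFun φ := mapH φ q W
  map_one' := AddMonoidHom.ext (mapH_id F q W)
  map_mul' φ ψ := AddMonoidHom.ext fun x => mapH_comp ψ φ q W x
  map_zero' := AddMonoidHom.ext fun x => mapH_zero q W x
  map_add' φ ψ := AddMonoidHom.ext fun x => mapH_add φ ψ q W x

end MapH

variable {X : Scheme.{u}}

/-- An abelian sheaf on `X` with an action of the ring `R`. -/
structure Act (R : Type u) [CommRing R] (X : Scheme.{u}) where
  /-- the sheaf -/
  F : CohTop.Ab X.toTopCat
  /-- the action -/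
  act : R →+* End F

namespace Act

variable {R : Type u} [CommRing R] (P : Act R X)

/-- `H^q(W, P)`, as a type carrying an `R`-module structure. -/
def H (q : ℕ) (W : X.Opens) : Type u := CohTop.HU P.F q W

noncomputable instance (q : ℕ) (W : X.Opens) : AddCommGroup (P.H q W) :=
  instAddCommGroupHU P.F q W

/-- the action of endomorphisms of the sheaf on `P.H q W` -/
noncomputable def endActH (q : ℕ) (W : X.Opens) : End P.F →+* AddMonoid.End (P.H q W) :=
  endAct P.F q W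

noncomputable instance (q : ℕ) (W : X.Opens) : Module R (P.H q W) :=
  Module.compHom (P.H q W) ((P.endActH q W).comp P.act)

lemma smul_def (q : ℕ) (W : X.Opens) (r : R) (x : P.H q W) :
    r • x = mapH (P.act r : P.F ⟶ P.F) q W x := rfl

/-- restriction, as a linear map -/
noncomputable def resL (q : ℕ) {U V : X.Opens} (h : V ≤ U) : P.H q U →ₗ[R] P.H q V where
  toFun := resH P.F q h
  map_add' := map_add _
  map_smul' r x := resH_mapH (P.act r : P.F ⟶ P.F) q h x

/-- the pair of restriction maps, as a linear map -/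
noncomputable def pairL (q : ℕ) (V₁ V₂ : X.Opens) :
    P.H q (V₁ ⊔ V₂) →ₗ[R] P.H q V₁ × P.H q V₂ :=
  (P.resL q le_sup_left).prod (P.resL q le_sup_right)

/-- the difference of restriction maps, as a linear map -/
noncomputable def diffL (q : ℕ) (V₁ V₂ : X.Opens) :
    P.H q V₁ × P.H q V₂ →ₗ[R] P.H q (V₁ ⊓ V₂) :=
  (P.resL q inf_le_left).comp (LinearMap.fst R _ _) -
    (P.resL q inf_le_right).comp (LinearMap.snd R _ _)

/-- the Mayer–Vietoris connecting map, as a linear map -/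
noncomputable def δL (n : ℕ) (V₁ V₂ : X.Opens) : P.H n (V₁ ⊓ V₂) →ₗ[R] P.H (n + 1) (V₁ ⊔ V₂) where
  toFun := mvδ' P.F n V₁ V₂
  map_add' := map_add _
  map_smul' r x := (mvδ_HUmap _ _ _ (P.act r : P.F ⟶ P.F) n x).symm

lemma pairL_apply (q : ℕ) (V₁ V₂ : X.Opens) (x : P.H q (V₁ ⊔ V₂)) :
    P.pairL q V₁ V₂ x = pairMap P.F q V₁ V₂ x := rfl

lemma diffL_apply (q : ℕ) (V₁ V₂ : X.Opens) (x : P.H q V₁ × P.H q V₂) :
    P.diffL q V₁ V₂ x = diffMap P.F q V₁ V₂ x := rfl

lemma δL_apply (n : ℕ) (V₁ V₂ : X.Opens) (x : P.H n (V₁ ⊓ V₂)) :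
    P.δL n V₁ V₂ x = mvδ' P.F n V₁ V₂ x := rfl

lemma exact_diffL_δL (n : ℕ) (V₁ V₂ : X.Opens) :
    Function.Exact (P.diffL n V₁ V₂) (P.δL n V₁ V₂) := by
  intro y
  constructor
  · intro hy
    obtain ⟨x, hx⟩ := exists_diffMap_eq P.F n V₁ V₂ y hy
    exact ⟨x, hx⟩
  · rintro ⟨x, rfl⟩
    exact mvδ'_diffMap P.F n V₁ V₂ x

lemma exact_δL_pairL (n : ℕ) (V₁ V₂ : X.Opens) :
    Function.Exact (P.δL n V₁ V₂) (P.pairL (n + 1) V₁ V₂) := by
  intro y
  constructor
  · intro hy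
    obtain ⟨x, hx⟩ := exists_mvδ'_eq P.F n V₁ V₂ y hy
    exact ⟨x, hx⟩
  · rintro ⟨x, rfl⟩
    exact pairMap_mvδ' P.F n V₁ V₂ x

lemma exact_pairL_diffL (q : ℕ) (V₁ V₂ : X.Opens) :
    Function.Exact (P.pairL q V₁ V₂) (P.diffL q V₁ V₂) := by
  intro y
  constructor
  · intro hy
    obtain ⟨x, hx⟩ := exists_pairMap_eq P.F q V₁ V₂ y hy
    exact ⟨x, hx⟩
  · rintro ⟨x, rfl⟩
    exact diffMap_pairMap P.F q V₁ V₂ x

lemma injective_pairL_zero (V₁ V₂ : X.Opens) : Function.Injective (P.pairL 0 V₁ V₂) := by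
  rw [injective_iff_map_eq_zero]
  intro x hx
  exact pairMap_eq_zero₀ P.F V₁ V₂ x hx

end Act

/-- An `A`-equivariant morphism from an abelian sheaf with `A`-action to an abelian sheaf with `B`-action. -/
structure Data (A B : Type u) [CommRing A] [CommRing B] [Algebra A B] (X : Scheme.{u}) where
  /-- the source -/
  P : Act A X
  /-- the target -/
  Q : Act B X
  /-- the map -/
  u : P.F ⟶ Q.F
  /-- equivariance -/
  comm : ∀ a : A, (P.act a : P.F ⟶ P.F) ≫ u = u ≫ (Q.act (algebraMap A B a) : Q.F ⟶ Q.F)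

section

variable {A B : Type u} [CommRing A] [CommRing B] [Algebra A B]

noncomputable instance instModuleRestrict (Q : Act B X) (q : ℕ) (W : X.Opens) : Module A (Q.H q W) :=
  Module.compHom (Q.H q W) (algebraMap A B)

instance (Q : Act B X) (q : ℕ) (W : X.Opens) : IsScalarTower A B (Q.H q W) :=
  .of_algebraMap_smul fun _ _ => rfl

namespace Data

variable (D : Data A B X)

/-- the map on cohomology induced by `u`, as an `A`-linear map -/
noncomputable def ρ (q : ℕ) (W : X.Opens) : D.P.H q W →ₗ[A] D.Q.H q W where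
  toFun := mapH D.u q W
  map_add' := map_add _
  map_smul' a x :=
    (mapH_comp (D.P.act a : D.P.F ⟶ D.P.F) D.u q W x).symm.trans
      ((congrArg (fun φ => mapH φ q W x) (D.comm a)).trans
        (mapH_comp D.u (D.Q.act (algebraMap A B a) : D.Q.F ⟶ D.Q.F) q W x))

lemma ρ_apply (q : ℕ) (W : X.Opens) (x : D.P.H q W) : D.ρ q W x = mapH D.u q W x := rfl

lemma ρ_res (q : ℕ) {U V : X.Opens} (h : V ≤ U) (x : D.P.H q U) :
    D.ρ q V (D.P.resL q h x) = D.Q.resL q h (D.ρ q U x) :=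
  (resH_mapH D.u q h x).symm

lemma comm_pair (q : ℕ) (V₁ V₂ : X.Opens) :
    ((D.ρ q V₁).prodMap (D.ρ q V₂)).comp (D.P.pairL q V₁ V₂) =
      ((D.Q.pairL q V₁ V₂).restrictScalars A).comp (D.ρ q (V₁ ⊔ V₂)) := by
  ext x
  · exact D.ρ_res q le_sup_left x
  · exact D.ρ_res q le_sup_right x

lemma comm_diff (q : ℕ) (V₁ V₂ : X.Opens) :
    (D.ρ q (V₁ ⊓ V₂)).comp (D.P.diffL q V₁ V₂) =
      ((D.Q.diffL q V₁ V₂).restrictScalars A).comp ((D.ρ q V₁).prodMap (D.ρ q V₂)) := by
  apply LinearMap.ext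
  intro x
  simp only [Act.diffL, LinearMap.sub_apply, LinearMap.comp_apply, LinearMap.fst_apply,
    LinearMap.snd_apply, LinearMap.restrictScalars_apply, LinearMap.prodMap_apply, map_sub, ρ_res]

lemma comm_δ (n : ℕ) (V₁ V₂ : X.Opens) :
    (D.ρ (n + 1) (V₁ ⊔ V₂)).comp (D.P.δL n V₁ V₂) =
      ((D.Q.δL n V₁ V₂).restrictScalars A).comp (D.ρ n (V₁ ⊓ V₂)) := by
  apply LinearMap.ext
  intro x
  exact mvδ_HUmap _ _ _ D.u n x

/-- `H^q(W, P) → H^q(W, Q)` is a base change along `A → B`, for all `q`. -/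
def BCAt (W : X.Opens) : Prop := ∀ q : ℕ, IsBaseChange B (D.ρ q W)

variable {D}

/-- **Mayer–Vietoris step.** -/
theorem BCAt.sup [Module.Flat A B] {V₁ V₂ : X.Opens} (h₁ : D.BCAt V₁) (h₂ : D.BCAt V₂)
    (h₁₂ : D.BCAt (V₁ ⊓ V₂)) : D.BCAt (V₁ ⊔ V₂) := by
  intro q
  cases q with
  | zero =>
    exact IsBaseChange.of_left_exact B (D.ρ 0 (V₁ ⊔ V₂)) ((D.ρ 0 V₁).prodMap (D.ρ 0 V₂))
      (D.ρ 0 (V₁ ⊓ V₂)) (D.comm_pair 0 V₁ V₂) (D.comm_diff 0 V₁ V₂)
      (IsBaseChange.prodMap _ _ (h₁ 0) (h₂ 0)) (h₁₂ 0)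
      (D.P.exact_pairL_diffL 0 V₁ V₂) (D.P.injective_pairL_zero V₁ V₂)
      (D.Q.exact_pairL_diffL 0 V₁ V₂) (D.Q.injective_pairL_zero V₁ V₂)
  | succ n =>
    exact IsBaseChange.of_five_exact B ((D.ρ n V₁).prodMap (D.ρ n V₂)) (D.ρ n (V₁ ⊓ V₂))
      (D.ρ (n + 1) (V₁ ⊔ V₂)) ((D.ρ (n + 1) V₁).prodMap (D.ρ (n + 1) V₂))
      (D.ρ (n + 1) (V₁ ⊓ V₂))
      (D.comm_diff n V₁ V₂) (D.comm_δ n V₁ V₂) (D.comm_pair (n + 1) V₁ V₂)
      (D.comm_diff (n + 1) V₁ V₂)
      (D.P.exact_diffL_δL n V₁ V₂) (D.P.exact_δL_pairL n V₁ V₂)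
      (D.P.exact_pairL_diffL (n + 1) V₁ V₂)
      (D.Q.exact_diffL_δL n V₁ V₂) (D.Q.exact_δL_pairL n V₁ V₂)
      (D.Q.exact_pairL_diffL (n + 1) V₁ V₂)
      (IsBaseChange.prodMap _ _ (h₁ n) (h₂ n)) (h₁₂ n)
      (IsBaseChange.prodMap _ _ (h₁ (n + 1)) (h₂ (n + 1))) (h₁₂ (n + 1))

theorem bcAt_bot : D.BCAt ⊥ := by
  intro q
  have : Subsingleton (D.P.H q ⊥) :=
    subsingleton_of_forall_eq 0 (HU_eq_zero_of_eq_bot D.P.F q rfl)
  have : Subsingleton (D.Q.H q ⊥) :=
    subsingleton_of_forall_eq 0 (HU_eq_zero_of_eq_bot D.Q.F q rfl)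
  exact isBaseChange_of_subsingleton _

/-- the affine case, from vanishing of higher cohomology and the statement in degree `0` -/
theorem bcAt_of_vanishing {U : X.Opens}
    (hP : ∀ (n : ℕ) (x : CohTop.HU D.P.F (n + 1) U), x = 0)
    (hQ : ∀ (n : ℕ) (x : CohTop.HU D.Q.F (n + 1) U), x = 0)
    (h0 : IsBaseChange B (D.ρ 0 U)) : D.BCAt U := by
  intro q
  cases q with
  | zero => exact h0
  | succ n =>
    have : Subsingleton (D.P.H (n + 1) U) := subsingleton_of_forall_eq 0 (hP n)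
    have : Subsingleton (D.Q.H (n + 1) U) := subsingleton_of_forall_eq 0 (hQ n)
    exact isBaseChange_of_subsingleton _

end Data

end

/-! ### Induction over quasi-compact opens -/

section Induction

variable (P : X.Opens → Prop) (hbot : P ⊥)
  (hsup : ∀ V₁ V₂ : X.Opens, P V₁ → P V₂ → P (V₁ ⊓ V₂) → P (V₁ ⊔ V₂))

include hbot hsup in
theorem induction_finsetSup (C : X.Opens → Prop) (hC : ∀ V, C V → P V)
    (hCinf : ∀ V W, C V → C W → C (V ⊓ W))
    {ι : Type*} (s : Finset ι) (V : ι → X.Opens) (hV : ∀ i ∈ s, C (V i)) :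
    P (s.sup V) := by
  classical
  induction s using Finset.induction_on generalizing V with
  | empty =>
    rw [Finset.sup_empty]
    exact hbot
  | insert a s ha ih =>
    have hPa : C (V a) := hV a (Finset.mem_insert_self a s)
    have hPs : ∀ i ∈ s, C (V i) := fun i hi => hV i (Finset.mem_insert_of_mem hi)
    rw [Finset.sup_insert]
    refine hsup _ _ (hC _ hPa) (ih V hPs) ?_
    rw [Finset.sup_inf_distrib_left]
    exact ih (fun i => V a ⊓ V i) (fun i hi => hCinf _ _ hPa (hPs i hi))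

variable (haff : ∀ U : X.Opens, IsAffineOpen U → P U)

include hbot hsup haff in
theorem induction_of_le_affine {V : X.Opens} (hV : IsAffineOpen V)
    {W : X.Opens} (hWV : W ≤ V) (hW : IsCompact (W : Set X)) : P W := by
  obtain ⟨s, rfl⟩ := Groth.Agent.Lib.AffVan.exists_finset_basicOpen_eq hV hWV hW
  refine induction_finsetSup P hbot hsup (fun W => ∃ f : Γ(X, V), W = X.basicOpen f) ?_ ?_ s _ ?_
  · rintro _ ⟨f, rfl⟩
    exact haff _ (hV.basicOpen f)
  · rintro _ _ ⟨f, rfl⟩ ⟨f', rfl⟩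
    exact ⟨f * f', (X.basicOpen_mul f f').symm⟩
  · intro f _
    exact ⟨f, rfl⟩

include hbot hsup haff in
/-- **Induction principle for quasi-compact opens** inside a quasi-separated open: a property of opens
which holds for `⊥` and for affine opens, and for `V₁ ⊔ V₂` as soon as it holds for `V₁`, `V₂` and
`V₁ ⊓ V₂`, holds for all quasi-compact opens. -/
theorem induction_qcqs {T : X.Opens} (hqs : IsQuasiSeparated (T : Set X)) (W : X.Opens)
    (hW : IsCompact (W : Set X)) (hWT : W ≤ T) : P W := by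
  refine compact_open_induction_on (P := fun W => W ≤ T → P W) W hW (fun _ => hbot) ?_ hWT
  intro W' hW' U hWb hsup'
  have hW'T : W' ≤ T := le_sup_left.trans hsup'
  have hUT : U.1 ≤ T := le_sup_right.trans hsup'
  refine hsup _ _ (hWb hW'T) (haff _ U.2) ?_
  exact induction_of_le_affine P hbot hsup haff U.2 inf_le_right
    (hqs W' U.1 hW'T W'.2 hW' hUT U.1.2 U.2.isCompact)

end Induction

section Main

variable {A B : Type u} [CommRing A] [CommRing B] [Algebra A B] [Module.Flat A B] (D : Data A B X)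

/-- **Cohomology commutes with flat base change of coefficients**, on quasi-compact opens inside a
quasi-separated open. -/
theorem bcAt_of_isCompact
    (hP : ∀ U : X.Opens, IsAffineOpen U → ∀ (n : ℕ) (x : CohTop.HU D.P.F (n + 1) U), x = 0)
    (hQ : ∀ U : X.Opens, IsAffineOpen U → ∀ (n : ℕ) (x : CohTop.HU D.Q.F (n + 1) U), x = 0)
    (h0 : ∀ U : X.Opens, IsAffineOpen U → IsBaseChange B (D.ρ 0 U))
    {T : X.Opens} (hqs : IsQuasiSeparated (T : Set X)) (W : X.Opens)
    (hW : IsCompact (W : Set X)) (hWT : W ≤ T) : D.BCAt W :=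
  induction_qcqs D.BCAt Data.bcAt_bot (fun _ _ h₁ h₂ h₁₂ => h₁.sup h₂ h₁₂)
    (fun U hU => Data.bcAt_of_vanishing (hP U hU) (hQ U hU) (h0 U hU)) hqs W hW hWT

theorem bcAt_top [CompactSpace X] [QuasiSeparatedSpace X]
    (hP : ∀ U : X.Opens, IsAffineOpen U → ∀ (n : ℕ) (x : CohTop.HU D.P.F (n + 1) U), x = 0)
    (hQ : ∀ U : X.Opens, IsAffineOpen U → ∀ (n : ℕ) (x : CohTop.HU D.Q.F (n + 1) U), x = 0)
    (h0 : ∀ U : X.Opens, IsAffineOpen U → IsBaseChange B (D.ρ 0 U)) : D.BCAt ⊤ :=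
  bcAt_of_isCompact D hP hQ h0 (T := ⊤) (isQuasiSeparated_univ_iff.mpr inferInstance) ⊤
    isCompact_univ le_rfl

end Main

end Groth.Agent.Lib.CohBC
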