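import Mathlib.RingTheory.Finiteness.Projective
import Mathlib.RingTheory.IsTensorProduct
import Mathlib.LinearAlgebra.Pi

/-!
# Base change along a finite projective algebra via a dual basis (helper49)

`A → B` with `B` finite projective as an `A`-module has a dual basis `(b_j, l_j)` (`DualBasis`,
`nonempty_dualBasis`).  For a base change `ρ : M → N` along `A → B`, every `y : N` is
`∑ b_j • ρ (p_j)` for a unique tuple `p` fixed by the idempotent matrix `(l_k (b_j))`
(`exists_of_isBaseChange`, `eq_zero_of_isBaseChange`).  Conversely additive maps `T_k : N → M` with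
`∑ b_k • ρ (T_k y) = y` and `T_k (b_j • ρ m) = l_k (b_j) • m` make `ρ` a base change
(`isBaseChange_of_coordinates`).
-/

set_option autoImplicit false
open TensorProduct

namespace Groth.Agent.Lib.FinProjBC

/-- a finite dual basis of the `A`-module `B` -/
structure DualBasis (A B : Type*) [CommRing A] [CommRing B] [Algebra A B] where
  /-- number of generators -/
  n : ℕ
  /-- generators -/
  b : Fin n → B
  /-- coordinate functionals -/
  l : Fin n → (B →ₗ[A] A)
  /-- reconstruction -/
  sum_eq : ∀ x : B, ∑ j, l j x • b j = x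

variable {A B : Type*} [CommRing A] [CommRing B] [Algebra A B]

theorem nonempty_dualBasis [Module.Finite A B] [Module.Projective A B] : Nonempty (DualBasis A B) := by
  obtain ⟨n, f, g, -, -, hfg⟩ := Module.Finite.exists_comp_eq_id_of_projective A B
  refine ⟨⟨n, fun j => f (Pi.single j 1), fun j => (LinearMap.proj j).comp g, fun x => ?_⟩⟩
  have h1 : f (g x) = x := congrArg (fun φ : B →ₗ[A] B => φ x) hfg
  have h2 : g x = ∑ j, (g x) j • (Pi.single j 1 : Fin n → A) := by
    funext k
    simp [Finset.sum_apply, Pi.single_apply]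
  calc ∑ j, ((LinearMap.proj j).comp g) x • f (Pi.single j 1)
      = f (∑ j, (g x) j • (Pi.single j 1 : Fin n → A)) := by
        rw [map_sum]
        exact Finset.sum_congr rfl fun j _ => (map_smul f _ _).symm
    _ = x := by rw [← h2, h1]

variable (d : DualBasis A B)

lemma l_sum (x : B) (k : Fin d.n) : ∑ j, d.l j x * d.l k (d.b j) = d.l k x := by
  conv_rhs => rw [← d.sum_eq x]
  rw [map_sum]
  exact Finset.sum_congr rfl fun j _ => by rw [map_smul, smul_eq_mul]

section

variable {M N : Type*} [AddCommGroup M] [Module A M] [AddCommGroup N] [Module A N] [Module B N]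
  [IsScalarTower A B N]

/-- coordinates on `B ⊗[A] M` -/
noncomputable def tauTensor : B ⊗[A] M →ₗ[A] (Fin d.n → M) :=
  LinearMap.pi fun k => TensorProduct.lift ((LinearMap.lsmul A M).comp (d.l k))

lemma tauTensor_tmul (b : B) (m : M) (k : Fin d.n) :
    tauTensor d (b ⊗ₜ[A] m) k = d.l k b • m := rfl

variable (ρ : M →ₗ[A] N)

/-- the combination map -/
def sigma (p : Fin d.n → M) : N := ∑ j, d.b j • ρ (p j)

lemma sigma_add (p p' : Fin d.n → M) : sigma d ρ (p + p') = sigma d ρ p + sigma d ρ p' := by
  simp only [sigma, Pi.add_apply, map_add, smul_add, Finset.sum_add_distrib]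

variable {ρ} (h : IsBaseChange B ρ)

include h in
lemma sigma_tau (y : N) :
    sigma d ρ (tauTensor d (h.equiv.symm y)) = y := by
  obtain ⟨x, rfl⟩ := h.equiv.surjective y
  rw [LinearEquiv.symm_apply_apply]
  induction x using TensorProduct.induction_on with
  | zero =>
    simp [sigma]
  | tmul b m =>
    rw [h.equiv_tmul]
    simp only [sigma, tauTensor_tmul, map_smul]
    calc ∑ j, d.b j • d.l j b • ρ m = ∑ j, (d.l j b • d.b j) • ρ m :=
          Finset.sum_congr rfl fun j _ => by
            rw [smul_comm, smul_assoc]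
      _ = (∑ j, d.l j b • d.b j) • ρ m := (Finset.sum_smul).symm
      _ = b • ρ m := by rw [d.sum_eq]
  | add x y hx hy =>
    rw [map_add, map_add, sigma_add, hx, hy]

include h in
lemma tau_sigma (p : Fin d.n → M) (k : Fin d.n) :
    tauTensor d (h.equiv.symm (sigma d ρ p)) k = ∑ j, d.l k (d.b j) • p j := by
  have h1 : h.equiv.symm (sigma d ρ p) = ∑ j, d.b j ⊗ₜ[A] p j := by
    apply h.equiv.injective
    rw [LinearEquiv.apply_symm_apply, map_sum]
    exact Finset.sum_congr rfl fun j _ => (h.equiv_tmul _ _).symm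
  rw [h1, map_sum, Finset.sum_apply]
  rfl

include h in
/-- every element of a base change is a `B`-combination of images, with coordinates fixed by the
idempotent matrix -/
theorem exists_of_isBaseChange (y : N) :
    ∃ p : Fin d.n → M, (∀ k, ∑ j, d.l k (d.b j) • p j = p k) ∧ ∑ j, d.b j • ρ (p j) = y := by
  refine ⟨tauTensor d (h.equiv.symm y), fun k => ?_, sigma_tau d h y⟩
  rw [← tau_sigma d h, sigma_tau d h]

include h in
theorem eq_zero_of_isBaseChange (p : Fin d.n → M)
    (hp : ∀ k, ∑ j, d.l k (d.b j) • p j = p k) (h0 : ∑ j, d.b j • ρ (p j) = 0) : p = 0 := by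
  funext k
  rw [← hp k, ← tau_sigma d h]
  change tauTensor d (h.equiv.symm (∑ j, d.b j • ρ (p j))) k = 0
  rw [h0, map_zero, map_zero]
  rfl

variable (ρ)

/-- **Criterion**: coordinate maps `T_k : N → M` exhibit `ρ` as a base change along `A → B`. -/
theorem isBaseChange_of_coordinates (T : Fin d.n → (N →+ M))
    (h1 : ∀ y, ∑ k, d.b k • ρ (T k y) = y)
    (h2 : ∀ j k m, T k (d.b j • ρ m) = d.l k (d.b j) • m) : IsBaseChange B ρ := by
  let L : B ⊗[A] M →ₗ[B] N := ρ.liftBaseChange B
  have hL : ∀ (b : B) (m : M), L (b ⊗ₜ m) = b • ρ m := fun b m =>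
    LinearMap.liftBaseChange_tmul B ρ b m
  let G : N → B ⊗[A] M := fun y => ∑ k, d.b k ⊗ₜ[A] T k y
  have hG_add : ∀ y y', G (y + y') = G y + G y' := by
    intro y y'
    simp only [G, map_add, TensorProduct.tmul_add, Finset.sum_add_distrib]
  have hLG : ∀ y, L (G y) = y := by
    intro y
    simp only [G, map_sum, hL]
    exact h1 y
  have hT : ∀ (b : B) (m : M) (k : Fin d.n), T k (b • ρ m) = d.l k b • m := by
    intro b m k
    have e1 : b • ρ m = ∑ j, d.b j • ρ (d.l j b • m) := by
      conv_lhs => rw [← d.sum_eq b]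
      rw [Finset.sum_smul]
      refine Finset.sum_congr rfl fun j _ => ?_
      rw [map_smul, smul_comm, smul_assoc]
    rw [e1, map_sum]
    calc ∑ j, T k (d.b j • ρ (d.l j b • m)) = ∑ j, (d.l j b * d.l k (d.b j)) • m :=
          Finset.sum_congr rfl fun j _ => by rw [h2, smul_smul, mul_comm]
      _ = (∑ j, d.l j b * d.l k (d.b j)) • m := (Finset.sum_smul).symm
      _ = d.l k b • m := by rw [l_sum]
  have hGL : ∀ x, G (L x) = x := by
    intro x
    induction x using TensorProduct.induction_on with
    | zero =>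
      simp [G]
    | tmul b m =>
      rw [hL]
      simp only [G, hT]
      calc ∑ k, d.b k ⊗ₜ[A] (d.l k b • m) = ∑ k, (d.l k b • d.b k) ⊗ₜ[A] m :=
            Finset.sum_congr rfl fun k _ => by rw [TensorProduct.smul_tmul]
        _ = (∑ k, d.l k b • d.b k) ⊗ₜ[A] m := (TensorProduct.sum_tmul _ _ _).symm
        _ = b ⊗ₜ[A] m := by rw [d.sum_eq]
    | add x y hx hy =>
      rw [map_add, hG_add, hx, hy]
  have hbij : Function.Bijective L :=
    ⟨fun x y hxy => by rw [← hGL x, ← hGL y, hxy], fun y => ⟨G y, hLG y⟩⟩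
  refine IsBaseChange.of_equiv (LinearEquiv.ofBijective L hbij) (fun m => ?_)
  rw [LinearEquiv.ofBijective_apply, hL, one_smul]

end

end Groth.Agent.Lib.FinProjBC
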