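import Groth.Agent.Lib.CohBC
import Groth.Agent.Lib.FinProjBC
import Mathlib.CategoryTheory.Preadditive.Biproducts

/-
# Base change of cohomology along a finite projective ring map (abstract form)

For `D : CohBC.Data A B X` on a scheme `X` (abelian sheaves `P`, `Q` with actions of `A`, `B` and an
`A`-linear map `u : P → Q`) and `B` a finite projective `A`-algebra: if `H⁰(U,P) ⊗_A B → H⁰(U,Q)` is a
base change for every affine open `U`, then `H^q(W,P) ⊗_A B → H^q(W,Q)` is a base change for every open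
`W` and every `q` (`bcAt_of_finite_projective`).  The proof uses a dual basis `(b_j, l_j)` of `B` over `A`:
the sheaf map `θ : K → Q` from the subsheaf `K ⊆ P^n` cut out by the idempotent `(l_i(b_j))` is an
isomorphism (checked on affine opens), and cohomology commutes with the finite biproduct.
No Mayer–Vietoris / quasi-compactness is needed.
-/

set_option autoImplicit false
universe u
open CategoryTheory CategoryTheory.Limits AlgebraicGeometry TopologicalSpace Opposite Abelian

namespace Groth.Agent.Lib.CohBCFinProj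

open Groth.Agent.Lib.CohBC Groth.Agent.Lib.HUInst Groth.Agent.Lib.FlasqueAcyclic
open Groth.Agent.Lib.AffVanTop Groth.Agent.Lib.FinProjBC

section Mk0

variable {X : TopCat.{u}}

/-- degree zero classes on `U` are morphisms out of the free sheaf on `U` (additively, for the instance
constant of `HUInst`) -/
noncomputable def mk0 (F : CohTop.Ab X) (U : Opens X) : (freeSh U ⟶ F) ≃+ CohTop.HU F 0 U :=
  AddEquiv.symm
    { toFun := fun x => Ext.homEquiv₀ (X := freeSh U) (Y := F) x
      invFun := fun φ => Ext.mk₀ φ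
      left_inv := fun x => Ext.homEquiv₀.symm_apply_apply x
      right_inv := fun φ => Ext.homEquiv₀.apply_symm_apply φ
      map_add' := fun x y => (Ext.addEquiv₀ (X := freeSh U) (Y := F)).map_add x y }

lemma mk0_apply (F : CohTop.Ab X) (U : Opens X) (φ : freeSh U ⟶ F) :
    mk0 F U φ = Ext.mk₀ φ := rfl

lemma mapH_mk0 {F G : CohTop.Ab X} (φ : F ⟶ G) (U : Opens X) (ψ : freeSh U ⟶ F) :
    mapH φ 0 U (mk0 F U ψ) = mk0 G U (ψ ≫ φ) := by
  exact Ext.mk₀_comp_mk₀ ψ φ

end Mk0

section Construction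

attribute [local instance] Abelian.hasFiniteBiproducts

variable {A B : Type u} [CommRing A] [CommRing B] [Algebra A B] {X : Scheme.{u}}
  (D : Data A B X) (d : DualBasis A B)

/-- action of `A`, as morphisms -/
noncomputable abbrev actA (r : A) : D.P.F ⟶ D.P.F := D.P.act r

/-- action of `B`, as morphisms -/
noncomputable abbrev actB (s : B) : D.Q.F ⟶ D.Q.F := D.Q.act s

lemma actA_mul (r s : A) : actA D (r * s) = actA D r ≫ actA D s := by
  change (D.P.act (r * s) : D.P.F ⟶ D.P.F) = _
  rw [mul_comm, map_mul]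
  rfl

lemma actB_mul (r s : B) : actB D (r * s) = actB D r ≫ actB D s := by
  change (D.Q.act (r * s) : D.Q.F ⟶ D.Q.F) = _
  rw [mul_comm, map_mul]
  rfl

lemma actA_sum {ι : Type*} (t : Finset ι) (r : ι → A) :
    actA D (∑ i ∈ t, r i) = ∑ i ∈ t, actA D (r i) := by
  change (D.P.act (∑ i ∈ t, r i) : D.P.F ⟶ D.P.F) = _
  rw [map_sum]

lemma actB_sum {ι : Type*} (t : Finset ι) (r : ι → B) :
    actB D (∑ i ∈ t, r i) = ∑ i ∈ t, actB D (r i) := by
  change (D.Q.act (∑ i ∈ t, r i) : D.Q.F ⟶ D.Q.F) = _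
  rw [map_sum]

lemma actA_u (r : A) : actA D r ≫ D.u = D.u ≫ actB D (algebraMap A B r) := D.comm r

/-- `u` followed by multiplication by `b_j` -/
noncomputable def sg (j : Fin d.n) : D.P.F ⟶ D.Q.F := D.u ≫ actB D (d.b j)

lemma sum_actA_sg (j : Fin d.n) :
    ∑ k, actA D (d.l k (d.b j)) ≫ sg D d k = sg D d j := by
  have h1 : ∀ k, actA D (d.l k (d.b j)) ≫ sg D d k =
      D.u ≫ actB D (d.l k (d.b j) • d.b k) := by
    intro k
    rw [sg, ← Category.assoc, actA_u, Category.assoc, ← actB_mul, Algebra.smul_def]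
  rw [Finset.sum_congr rfl fun k _ => h1 k, ← Preadditive.comp_sum, ← actB_sum, d.sum_eq]
  rfl

lemma sum_actA_actA (j m : Fin d.n) :
    ∑ k, actA D (d.l k (d.b j)) ≫ actA D (d.l m (d.b k)) = actA D (d.l m (d.b j)) := by
  rw [Finset.sum_congr rfl fun k _ => (actA_mul D _ _).symm, ← actA_sum, l_sum]

/-- the direct sum of `n` copies of the source -/
noncomputable abbrev Fn : CohTop.Ab X.toTopCat := ⨁ (fun _ : Fin d.n => D.P.F)

/-- the idempotent matrix `(l_k (b_j))` acting on `Fn` -/
noncomputable def eT : Fn D d ⟶ Fn D d :=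
  biproduct.matrix (fun j k => actA D (d.l k (d.b j)))

/-- the combination map `(p_j) ↦ ∑ b_j • u (p_j)` -/
noncomputable def sigmaF : Fn D d ⟶ D.Q.F := biproduct.desc (fun j => sg D d j)

lemma ι_eT (j : Fin d.n) :
    biproduct.ι (fun _ : Fin d.n => D.P.F) j ≫ eT D d =
      biproduct.lift (fun k => actA D (d.l k (d.b j))) :=
  biproduct.ι_matrix _ _

lemma eT_π (k : Fin d.n) :
    eT D d ≫ biproduct.π (fun _ : Fin d.n => D.P.F) k =
      biproduct.desc (fun j => actA D (d.l k (d.b j))) :=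
  biproduct.matrix_π _ _

lemma eT_sigmaF : eT D d ≫ sigmaF D d = sigmaF D d := by
  apply biproduct.hom_ext'
  intro j
  rw [← Category.assoc, ι_eT, sigmaF, biproduct.lift_desc, biproduct.ι_desc, sum_actA_sg]

lemma eT_eT : eT D d ≫ eT D d = eT D d := by
  apply biproduct.hom_ext'
  intro j
  apply biproduct.hom_ext
  intro m
  calc (biproduct.ι (fun _ : Fin d.n => D.P.F) j ≫ eT D d ≫ eT D d) ≫
        biproduct.π (fun _ : Fin d.n => D.P.F) m
      = (biproduct.ι (fun _ : Fin d.n => D.P.F) j ≫ eT D d) ≫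
          (eT D d ≫ biproduct.π (fun _ : Fin d.n => D.P.F) m) := by simp only [Category.assoc]
    _ = ∑ k, actA D (d.l k (d.b j)) ≫ actA D (d.l m (d.b k)) := by
        rw [ι_eT, eT_π, biproduct.lift_desc]
    _ = actA D (d.l m (d.b j)) := sum_actA_actA D d j m
    _ = (biproduct.ι (fun _ : Fin d.n => D.P.F) j ≫ eT D d) ≫
          biproduct.π (fun _ : Fin d.n => D.P.F) m := by
        rw [ι_eT, biproduct.lift_π]

end Construction

section Iso

attribute [local instance] Abelian.hasFiniteBiproducts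

variable {A B : Type u} [CommRing A] [CommRing B] [Algebra A B] {X : Scheme.{u}}

/-- degree zero classes as morphisms out of the free sheaf, for a sheaf with action -/
noncomputable def _root_.Groth.Agent.Lib.CohBC.Act.mk0 {R : Type u} [CommRing R] (P : Act R X)
    (U : X.Opens) : (freeSh (X := X.toTopCat) U ⟶ P.F) ≃+ P.H 0 U :=
  Groth.Agent.Lib.CohBCFinProj.mk0 P.F U

lemma Act.smul_mk0 {R : Type u} [CommRing R] (P : Act R X) (U : X.Opens) (r : R)
    (ψ : freeSh (X := X.toTopCat) U ⟶ P.F) :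
    r • P.mk0 U ψ = P.mk0 U (ψ ≫ (P.act r : P.F ⟶ P.F)) :=
  mapH_mk0 (P.act r : P.F ⟶ P.F) U ψ

variable (D : Data A B X) (d : DualBasis A B)

lemma ρ_mk0 (U : X.Opens) (ψ : freeSh (X := X.toTopCat) U ⟶ D.P.F) :
    D.ρ 0 U (D.P.mk0 U ψ) = D.Q.mk0 U (ψ ≫ D.u) :=
  mapH_mk0 D.u U ψ

lemma smul_ρ_mk0 (U : X.Opens) (j : Fin d.n) (ψ : freeSh (X := X.toTopCat) U ⟶ D.P.F) :
    d.b j • D.ρ 0 U (D.P.mk0 U ψ) = D.Q.mk0 U (ψ ≫ sg D d j) := by
  rw [ρ_mk0, Act.smul_mk0, sg, Category.assoc]

/-- existence of coordinates, in terms of morphisms out of the free sheaf -/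
lemma exists_coords {U : X.Opens} (h0 : IsBaseChange B (D.ρ 0 U))
    (ξ : freeSh (X := X.toTopCat) U ⟶ D.Q.F) :
    ∃ φ : Fin d.n → (freeSh (X := X.toTopCat) U ⟶ D.P.F),
      (∀ k, ∑ j, φ j ≫ actA D (d.l k (d.b j)) = φ k) ∧ ∑ j, φ j ≫ sg D d j = ξ := by
  obtain ⟨x, hx1, hx2⟩ := exists_of_isBaseChange d h0 (D.Q.mk0 U ξ)
  refine ⟨fun j => (D.P.mk0 U).symm (x j), fun k => ?_, ?_⟩
  · apply (D.P.mk0 U).injective
    rw [map_sum, AddEquiv.apply_symm_apply, ← hx1 k]
    refine Finset.sum_congr rfl fun j _ => ?_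
    rw [← Act.smul_mk0, AddEquiv.apply_symm_apply]
  · apply (D.Q.mk0 U).injective
    rw [map_sum, ← hx2]
    refine Finset.sum_congr rfl fun j _ => ?_
    rw [← smul_ρ_mk0, AddEquiv.apply_symm_apply]

/-- uniqueness of coordinates -/
lemma coords_eq_zero {U : X.Opens} (h0 : IsBaseChange B (D.ρ 0 U))
    (φ : Fin d.n → (freeSh (X := X.toTopCat) U ⟶ D.P.F))
    (h1 : ∀ k, ∑ j, φ j ≫ actA D (d.l k (d.b j)) = φ k) (h2 : ∑ j, φ j ≫ sg D d j = 0) :
    φ = 0 := by
  have hx := eq_zero_of_isBaseChange d h0 (fun j => D.P.mk0 U (φ j)) (fun k => ?_) ?_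
  · funext j
    have := congrFun hx j
    exact (D.P.mk0 U).injective (this.trans (map_zero _).symm)
  · rw [← h1 k, map_sum]
    refine Finset.sum_congr rfl fun j _ => ?_
    rw [Act.smul_mk0]
  · rw [Finset.sum_congr rfl fun j _ => smul_ρ_mk0 D d U j (φ j), ← map_sum, h2, map_zero]

/-- the image of the idempotent `eT`, as a kernel -/
noncomputable abbrev K : CohTop.Ab X.toTopCat := kernel (𝟙 (Fn D d) - eT D d)

/-- the inclusion of `K` -/
noncomputable abbrev ιK : K D d ⟶ Fn D d := kernel.ι _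

/-- the comparison map from the image of the idempotent to the target sheaf -/
noncomputable def theta : K D d ⟶ D.Q.F := ιK D d ≫ sigmaF D d

lemma ιK_eT : ιK D d ≫ eT D d = ιK D d := by
  have h := kernel.condition (𝟙 (Fn D d) - eT D d)
  rw [Preadditive.comp_sub, Category.comp_id, sub_eq_zero] at h
  exact h.symm

lemma comp_theta_bijective {U : X.Opens} (h0 : IsBaseChange B (D.ρ 0 U)) :
    Function.Bijective (fun ψ : freeSh (X := X.toTopCat) U ⟶ K D d => ψ ≫ theta D d) := by
  constructor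
  · intro ψ₁ ψ₂ h
    have h' : (ψ₁ - ψ₂) ≫ theta D d = 0 := by
      rw [Preadditive.sub_comp]
      exact sub_eq_zero.mpr h
    rw [← sub_eq_zero]
    generalize ψ₁ - ψ₂ = ψ at h'
    have hφ := coords_eq_zero D d h0
      (fun j => ψ ≫ ιK D d ≫ biproduct.π (fun _ : Fin d.n => D.P.F) j) (fun k => ?_) ?_
    · have h3 : ψ ≫ ιK D d = 0 := by
        apply biproduct.hom_ext
        intro j
        rw [Category.assoc, zero_comp]
        exact congrFun hφ j
      exact zero_of_comp_mono (ιK D d) h3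
    · calc ∑ j, (ψ ≫ ιK D d ≫ biproduct.π (fun _ : Fin d.n => D.P.F) j) ≫
            actA D (d.l k (d.b j))
          = ψ ≫ ιK D d ≫ ∑ j, biproduct.π (fun _ : Fin d.n => D.P.F) j ≫
              actA D (d.l k (d.b j)) := by
            rw [Preadditive.comp_sum, Preadditive.comp_sum]
            exact Finset.sum_congr rfl fun j _ => by simp only [Category.assoc]
        _ = ψ ≫ ιK D d ≫ eT D d ≫ biproduct.π (fun _ : Fin d.n => D.P.F) k := by
            rw [eT_π, biproduct.desc_eq]
        _ = ψ ≫ ιK D d ≫ biproduct.π (fun _ : Fin d.n => D.P.F) k := by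
            rw [← Category.assoc (ιK D d), ιK_eT]
    · calc ∑ j, (ψ ≫ ιK D d ≫ biproduct.π (fun _ : Fin d.n => D.P.F) j) ≫ sg D d j
          = ψ ≫ ιK D d ≫ ∑ j, biproduct.π (fun _ : Fin d.n => D.P.F) j ≫ sg D d j := by
            rw [Preadditive.comp_sum, Preadditive.comp_sum]
            exact Finset.sum_congr rfl fun j _ => by simp only [Category.assoc]
        _ = ψ ≫ theta D d := by
            rw [theta, sigmaF, biproduct.desc_eq]
        _ = 0 := h'
  · intro ξ
    obtain ⟨φ, h1, h2⟩ := exists_coords D d h0 ξ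
    have hΦ : biproduct.lift φ ≫ (𝟙 (Fn D d) - eT D d) = 0 := by
      rw [Preadditive.comp_sub, Category.comp_id, sub_eq_zero]
      apply biproduct.hom_ext
      intro k
      rw [Category.assoc, eT_π, biproduct.lift_desc, biproduct.lift_π, h1]
    refine ⟨kernel.lift _ (biproduct.lift φ) hΦ, ?_⟩
    change kernel.lift _ (biproduct.lift φ) hΦ ≫ ιK D d ≫ sigmaF D d = ξ
    rw [← Category.assoc, kernel.lift_ι, sigmaF, biproduct.lift_desc, h2]

lemma theta_app_bijective {U : X.Opens} (h0 : IsBaseChange B (D.ρ 0 U)) :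
    Function.Bijective ((theta D d).hom.app (op U)) := by
  have h1 : ((theta D d).hom.app (op U) : (K D d).obj.obj (op U) → D.Q.F.obj.obj (op U)) =
      (homEquiv U D.Q.F) ∘ (fun ψ : freeSh (X := X.toTopCat) U ⟶ K D d => ψ ≫ theta D d) ∘
        (homEquiv U (K D d)).symm := by
    funext x
    change _ = homEquiv U D.Q.F ((homEquiv U (K D d)).symm x ≫ theta D d)
    rw [homEquiv_comp, Equiv.apply_symm_apply]
  rw [h1]
  exact (homEquiv U D.Q.F).bijective.comp
    ((comp_theta_bijective D d h0).comp (homEquiv U (K D d)).symm.bijective)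

/-- the comparison map is an isomorphism as soon as `D.ρ 0 U` is a base change on affine opens -/
theorem isIso_theta (h0 : ∀ U : X.Opens, IsAffineOpen U → IsBaseChange B (D.ρ 0 U)) :
    IsIso (theta D d) := by
  refine TopCat.Sheaf.isIso_iff_isIso_basis (B := fun U : X.affineOpens => (U : X.Opens)) ?_
    (fun U => ?_)
  · rw [Subtype.range_coe]
    exact X.isBasis_affineOpens
  · exact (ConcreteCategory.isIso_iff_bijective _).2 (theta_app_bijective D d (h0 U.1 U.2))

end Iso

section Coordinates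

attribute [local instance] Abelian.hasFiniteBiproducts

variable {A B : Type u} [CommRing A] [CommRing B] [Algebra A B] {X : Scheme.{u}}
  (D : Data A B X) (d : DualBasis A B)

/-- `mapH` as an additive map in the morphism of sheaves -/
noncomputable def mapHHom {Y : TopCat.{u}} (F G : CohTop.Ab Y) (q : ℕ) (W : Opens Y) :
    (F ⟶ G) →+ (CohTop.HU F q W →+ CohTop.HU G q W) where
  toFun φ := mapH φ q W
  map_zero' := AddMonoidHom.ext fun x => mapH_zero q W x
  map_add' φ ψ := AddMonoidHom.ext fun x => mapH_add φ ψ q W x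

lemma mapH_sum {Y : TopCat.{u}} {F G : CohTop.Ab Y} (q : ℕ) (W : Opens Y) {ι : Type*}
    (t : Finset ι) (φ : ι → (F ⟶ G)) (x : CohTop.HU F q W) :
    mapH (∑ i ∈ t, φ i) q W x = ∑ i ∈ t, mapH (φ i) q W x := by
  change mapHHom F G q W (∑ i ∈ t, φ i) x = _
  rw [map_sum, AddMonoidHom.finsetSum_apply]
  rfl

lemma mapH_comp3 {Y : TopCat.{u}} {F G K L : CohTop.Ab Y} (a : F ⟶ G) (b : G ⟶ K) (c : K ⟶ L)
    (q : ℕ) (W : Opens Y) (x : CohTop.HU F q W) :
    mapH c q W (mapH b q W (mapH a q W x)) = mapH (a ≫ b ≫ c) q W x := by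
  rw [mapH_comp, mapH_comp]

variable [hθ : IsIso (theta D d)]

/-- the coordinate maps `Q ⟶ P` -/
noncomputable def tau (k : Fin d.n) : D.Q.F ⟶ D.P.F :=
  inv (theta D d) ≫ ιK D d ≫ biproduct.π (fun _ : Fin d.n => D.P.F) k

lemma sum_tau_sg : ∑ k, tau D d k ≫ sg D d k = 𝟙 D.Q.F := by
  calc ∑ k, tau D d k ≫ sg D d k
      = inv (theta D d) ≫ ιK D d ≫
          ∑ k, biproduct.π (fun _ : Fin d.n => D.P.F) k ≫ sg D d k := by
        rw [Preadditive.comp_sum, Preadditive.comp_sum]
        exact Finset.sum_congr rfl fun k _ => by simp only [tau, Category.assoc]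
    _ = inv (theta D d) ≫ theta D d := by
        congr 1
        rw [← biproduct.desc_eq]
        rfl
    _ = 𝟙 _ := IsIso.inv_hom_id _

lemma sigmaF_inv_theta : sigmaF D d ≫ inv (theta D d) ≫ ιK D d = eT D d := by
  have h1 : eT D d ≫ (𝟙 (Fn D d) - eT D d) = 0 := by
    rw [Preadditive.comp_sub, Category.comp_id, eT_eT, sub_self]
  have h2 : kernel.lift _ (eT D d) h1 ≫ theta D d = sigmaF D d := by
    rw [theta, ← Category.assoc, kernel.lift_ι, eT_sigmaF]
  rw [← h2, Category.assoc, IsIso.hom_inv_id_assoc, kernel.lift_ι]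

lemma sg_tau (j k : Fin d.n) : sg D d j ≫ tau D d k = actA D (d.l k (d.b j)) := by
  have h1 : sg D d j = biproduct.ι (fun _ : Fin d.n => D.P.F) j ≫ sigmaF D d := by
    rw [sigmaF, biproduct.ι_desc]
  calc sg D d j ≫ tau D d k
      = biproduct.ι (fun _ : Fin d.n => D.P.F) j ≫
          (sigmaF D d ≫ inv (theta D d) ≫ ιK D d) ≫
            biproduct.π (fun _ : Fin d.n => D.P.F) k := by
        rw [h1, tau]
        simp only [Category.assoc]
    _ = actA D (d.l k (d.b j)) := by
        rw [sigmaF_inv_theta, ← Category.assoc, ι_eT, biproduct.lift_π]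

/-- **Finite projective base change**: if the comparison map `theta` is an isomorphism, then
`H^q(W, P) → H^q(W, Q)` is a base change along `A → B` for EVERY open `W` and every `q`. -/
theorem isBaseChange_ρ (d : DualBasis A B) [hθ : IsIso (theta D d)] (q : ℕ) (W : X.Opens) :
    IsBaseChange B (D.ρ q W) := by
  refine isBaseChange_of_coordinates d (D.ρ q W)
    (fun k => (mapH (tau D d k) q W : D.Q.H q W →+ D.P.H q W)) (fun y => ?_) (fun j k m => ?_)
  · have h1 : ∀ k, d.b k • D.ρ q W (mapH (tau D d k) q W y) =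
        mapH (tau D d k ≫ sg D d k) q W y := fun k =>
      mapH_comp3 (tau D d k) D.u (actB D (d.b k)) q W y
    have h2 : ∑ k, mapH (tau D d k ≫ sg D d k) q W y = y := by
      have h3 := mapH_sum q W Finset.univ (fun k => tau D d k ≫ sg D d k)
        (show CohTop.HU D.Q.F q W from y)
      rw [sum_tau_sg] at h3
      exact h3.symm.trans (mapH_id _ q W y)
    exact (Finset.sum_congr rfl fun k _ => h1 k).trans h2
  · have h1 : mapH (tau D d k) q W (mapH (actB D (d.b j)) q W (mapH D.u q W m)) =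
        mapH (D.u ≫ actB D (d.b j) ≫ tau D d k) q W m :=
      mapH_comp3 D.u (actB D (d.b j)) (tau D d k) q W m
    have h2 : D.u ≫ actB D (d.b j) ≫ tau D d k = actA D (d.l k (d.b j)) := by
      rw [← sg_tau D d j k, sg, Category.assoc]
    rw [h2] at h1
    exact h1

end Coordinates

section Main

variable {A B : Type u} [CommRing A] [CommRing B] [Algebra A B] [Module.Finite A B]
  [Module.Projective A B] {X : Scheme.{u}} (D : Data A B X)

/-- **Cohomology commutes with finite projective base change of coefficients**, on every open and with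
no finiteness hypothesis on the scheme. -/
theorem bcAt_of_finite_projective
    (h0 : ∀ U : X.Opens, IsAffineOpen U → IsBaseChange B (D.ρ 0 U)) (W : X.Opens) : D.BCAt W := by
  obtain ⟨d⟩ := nonempty_dualBasis (A := A) (B := B)
  have hθ : IsIso (theta D d) := isIso_theta D d h0
  exact fun q => isBaseChange_ρ D d q W

end Main

end Groth.Agent.Lib.CohBCFinProj
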