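import Groth.Agent.Lib.FlatBCCohData

/-!
# Flat base change for cohomology of quasi-coherent modules, local form (helper49)

`A → B` flat, `X` quasi-separated over `Spec A`, `g' : X' ⟶ X` with `X' = X ×_A B`, `M` quasi-coherent on `X`.
* `isBaseChange_ρ_zero`: for `U ⊆ X` affine, `Γ(U, M) → Γ(g'⁻¹U, g'^*M)` is a base change along `A → B`
  (phrased for `(bcData A B g' h.w M).ρ 0 U`; from helper42's `isBaseChange_θL_affine`).
* `bcAt_bcData`: for every quasi-compact open `W ⊆ X` and every `q`, the map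
  `H^q(W, M) → H^q(W, g'_* g'^* M)` induced by the unit is a base change along `A → B`
  (`IsBaseChange B ((bcData A B g' h.w M).ρ q W)`); these maps commute with restriction (`Data.ρ_res`).
* `isAffineHom_of_isPullback`.
-/

set_option autoImplicit false
set_option linter.style.haveILetI false
universe u
open CategoryTheory CategoryTheory.Limits AlgebraicGeometry TopologicalSpace Opposite Abelian

namespace Groth.Agent.Lib.FlatBCCoh

open Groth.Agent.Lib.CohBC Groth.Agent.Lib.HUInst Groth.Agent.Lib.HUSec Groth.Agent.Lib.RpushLinear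
open Groth.Agent.Lib.CohLES Groth.Agent.Lib.FlasqueAcyclic Groth.Agent.Lib.AffVanTop
open Groth.Agent.Lib.FlatBCCohData
open Scheme.Modules Groth.Agent.Lib.FlatBaseChangeQcqs Groth.Agent.Lib.UnitBaseChange
open Groth.Agent.Lib.BaseChangeFive Groth.Agent.Lib.QCohStalk

section Affine

variable (A B : Type u) [CommRing A] [CommRing B] [Algebra A B] {X X' : Scheme.{u}}
  [X.Over (Spec (CommRingCat.of A))] [X'.Over (Spec (CommRingCat.of B))] (g' : X' ⟶ X)
  (h : IsPullback g' (X' ↘ Spec (CommRingCat.of B)) (X ↘ Spec (CommRingCat.of A))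
      (Spec.map (CommRingCat.ofHom (algebraMap A B))))
  (M : X.Modules)

/-- restriction between equal opens, as an additive equivalence -/
noncomputable def resAddEquiv {Y : Scheme.{u}} (N : Y.Modules) {U₁ U₂ : Y.Opens} (h₂₁ : U₂ ≤ U₁)
    (h₁₂ : U₁ ≤ U₂) : Γ(N, U₁) ≃+ Γ(N, U₂) where
  toFun := res N h₂₁
  invFun := res N h₁₂
  left_inv x := (Groth.Agent.Lib.QCohStalk.res_res N h₁₂ h₂₁ x).trans
    (Groth.Agent.Lib.QCohStalk.res_self N x)
  right_inv x := (Groth.Agent.Lib.QCohStalk.res_res N h₂₁ h₁₂ x).trans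
    (Groth.Agent.Lib.QCohStalk.res_self N x)
  map_add' x y := map_add (N.presheaf.map (homOfLE h₂₁).op).hom x y

set_option maxHeartbeats 1600000 in
/-- **Degree zero, affine case**: for `U ⊆ X` affine, `Γ(U, M) → Γ(g'⁻¹U, g'^*M)` is a base change along
`A → B`. -/
theorem isBaseChange_ρ_zero [M.IsQuasicoherent] {U : X.Opens} (hU : IsAffineOpen U) :
    IsBaseChange B ((bcData A B g' h.w M).ρ 0 U) := by
  let f := X ↘ Spec (CommRingCat.of A)
  let f' := X' ↘ Spec (CommRingCat.of B)
  let g := Spec.map (CommRingCat.ofHom (algebraMap A B))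
  let V : (Spec (CommRingCat.of A)).Opens := ⊤
  let V' : (Spec (CommRingCat.of B)).Opens := ⊤
  have e : V' ≤ g ⁻¹ᵁ V := fun _ _ => trivial
  have hUV : U ≤ f ⁻¹ᵁ V := fun _ _ => trivial
  let N := (Scheme.Modules.pullback g').obj M
  let U'' : X'.Opens := g' ⁻¹ᵁ U ⊓ f' ⁻¹ᵁ V'
  have hU''1 : U'' ≤ g' ⁻¹ᵁ U := inf_le_left
  have hU''2 : g' ⁻¹ᵁ U ≤ U'' := le_inf le_rfl (fun _ _ => trivial)
  letI algRR' : Algebra Γ(Spec (CommRingCat.of A), V) Γ(Spec (CommRingCat.of B), V') :=
    (g.appLE V V' e).hom.toAlgebra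
  letI modRQ : Module Γ(Spec (CommRingCat.of A), V) (Sec f' V' N U'' inf_le_right) :=
    Module.compHom _ (g.appLE V V' e).hom
  haveI : IsScalarTower Γ(Spec (CommRingCat.of A), V) Γ(Spec (CommRingCat.of B), V')
      (Sec f' V' N U'' inf_le_right) := .of_algebraMap_smul fun _ _ => rfl
  have hθ : IsBaseChange Γ(Spec (CommRingCat.of B), V')
      (θL f g g' f' h M e hUV inf_le_right inf_le_left) :=
    isBaseChange_θL_affine f g g' f' h M e (isAffineOpen_top _) (isAffineOpen_top _) hU hUV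
  let σ : A ≃+* Γ(Spec (CommRingCat.of A), V) :=
    (Scheme.ΓSpecIso (CommRingCat.of A)).symm.commRingCatIsoToRingEquiv
  let τ : B ≃+* Γ(Spec (CommRingCat.of B), V') :=
    (Scheme.ΓSpecIso (CommRingCat.of B)).symm.commRingCatIsoToRingEquiv
  have hστ : ∀ a, τ (algebraMap A B a) =
      algebraMap Γ(Spec (CommRingCat.of A), V) Γ(Spec (CommRingCat.of B), V') (σ a) := by
    intro a
    have h2 := Scheme.ΓSpecIso_inv_naturality (CommRingCat.ofHom (algebraMap A B))
    have h3 : g.appLE V V' e = g.appTop := Scheme.Hom.appLE_eq_app g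
    change (Scheme.ΓSpecIso (CommRingCat.of B)).inv.hom (algebraMap A B a) =
      (g.appLE V V' e).hom ((Scheme.ΓSpecIso (CommRingCat.of A)).inv.hom a)
    rw [h3]
    exact congr($h2 a)
  let D := bcData A B g' h.w M
  let eM : D.P.H 0 U ≃+ Sec f V M U hUV := secAdd (Coh.toAb M) U
  let eN : D.Q.H 0 U ≃+ Sec f' V' N U'' inf_le_right :=
    (secAdd ((Coh.pushAb g').obj (Coh.toAb N)) U).trans (resAddEquiv N hU''1 hU''2)
  refine isBaseChange_of_semilinear σ τ hστ eM ?_ eN ?_ (D.ρ 0 U)
    (θL f g g' f' h M e hUV inf_le_right inf_le_left) ?_ hθ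
  · intro a x
    exact sec_smul_actOver A M U a x
  · intro b y
    have h1 : sec ((Coh.pushAb g').obj (Coh.toAb N)) U (b • y) =
        @HSMul.hSMul (X'.ringCatSheaf.obj.obj (op (g' ⁻¹ᵁ U))) (N.val.obj (op (g' ⁻¹ᵁ U)))
          (N.val.obj (op (g' ⁻¹ᵁ U))) _
          (Coh.resTop X' (op (g' ⁻¹ᵁ U)) (Coh.toGlobal f' b))
          (sec ((Coh.pushAb g').obj (Coh.toAb N)) U y) := by
      refine (sec_HUmap _ U y).trans ?_
      exact Coh.smulAb_app N _ (op (g' ⁻¹ᵁ U)) _
    change res N hU''1 (sec ((Coh.pushAb g').obj (Coh.toAb N)) U (b • y)) =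
      (f'.appLE V' U'' inf_le_right).hom (τ b) •
        (res N hU''1 (sec ((Coh.pushAb g').obj (Coh.toAb N)) U y) : Γ(N, U''))
    rw [h1]
    refine (res_smul N hU''1 _ _).trans ?_
    congr 1
    exact Coh.resTop_comp (op (g' ⁻¹ᵁ U)) (op U'') (homOfLE hU''1).op (Coh.toGlobal f' b)
  · intro x
    change res N hU''1 (sec ((Coh.pushAb g').obj (Coh.toAb N)) U (mapH (unitAb g' M) 0 U x)) =
      unitSecFun g' M inf_le_left (sec (Coh.toAb M) U x)
    exact congrArg (res N hU''1) (sec_HUmap (unitAb g' M) U x)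

include h in
lemma isAffineHom_of_isPullback : IsAffineHom g' :=
  MorphismProperty.of_isPullback (P := @IsAffineHom) h.flip inferInstance

/-- **Flat base change, local form**: for `A → B` flat, `X` quasi-separated over `Spec A`,
`X' = X ×_A B`, `M` quasi-coherent and `W ⊆ X` a quasi-compact open, the maps
`H^q(W, M) → H^q(W, g'_* g'^* M)` are base changes along `A → B`. -/
theorem bcAt_bcData [Module.Flat A B] [QuasiSeparatedSpace X] (hM : Coh.IsQCoh M) (W : X.Opens)
    (hW : IsCompact (W : Set X)) : (bcData A B g' h.w M).BCAt W := by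
  have : M.IsQuasicoherent := hM
  have : IsAffineHom g' := isAffineHom_of_isPullback A B g' h
  have hN : ((Scheme.Modules.pullback g').obj M).IsQuasicoherent := inferInstance
  have hpush : Coh.IsQCoh ((Coh.push g').obj ((Scheme.Modules.pullback g').obj M)) :=
    Groth.Agent.Lib.H90OXModPush.isQuasicoherent_pushforward g' _
  refine bcAt_of_isCompact (bcData A B g' h.w M) ?_ ?_ ?_ (T := ⊤)
    (isQuasiSeparated_univ_iff.mpr inferInstance) W hW le_top
  · intro U hU n x
    exact Groth.Agent.Lib.AffVan.HU_eq_zero_of_isAffineOpen M hM n hU x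
  · intro U hU n x
    exact Groth.Agent.Lib.AffVan.HU_eq_zero_of_isAffineOpen
      ((Coh.push g').obj ((Scheme.Modules.pullback g').obj M)) hpush n hU x
  · intro U hU
    exact isBaseChange_ρ_zero A B g' h M hU

end Affine

end Groth.Agent.Lib.FlatBCCoh
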