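import Mathlib
import Groth.Agent.Lib.H90SnapGeom
import Groth.Agent.Lib.ModPullback

/-!
# Growth of cohomology of twists: a sub-additive Snapper dévissage (helper10)

`X` a Noetherian scheme, `L` an invertible module, `h : X.Modules → ℕ → ℕ → ℕ` (think of
`h G i m = dim_k H^i(X, G ⊗ L^m)`) such that
(H0) `h` vanishes on zero objects, (H1) `h` is invariant under isomorphisms,
(H2) along short exact sequences of coherent modules the three "long exact sequence" inequalities hold,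
(H3) `h (G ⊗ L) i m = h G i (m + 1)` for coherent `G`,
(H4) for coherent `G` the numbers `h G i 0` are bounded independently of `i`.
Then for every coherent `F` with `dim Supp F ≤ r` there is `C` with `h F i m ≤ C * (m + 1) ^ r` for all
`i`, `m` (`bd_of_dim`).

The geometric input is helper90's `H90SnapGeom.exists_step_dim` and the dévissage filtration
`filt_atomC_of_isCoh`; the proof is the one of `H90Snapper.snapper` with inequalities.
-/

set_option autoImplicit false
universe u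

open CategoryTheory CategoryTheory.Limits AlgebraicGeometry TopologicalSpace Opposite

namespace Groth.Agent.Lib.CohGrowth

open Groth.Agent.Lib.H90DevCanon Groth.Agent.Lib.H90DevHub Groth.Agent.Lib.H90DevHub2
  Groth.Agent.Lib.ModStalkLin Groth.Agent.Lib.ModStalk Groth.Agent.Lib.H90DevTwo
  Groth.Agent.Lib.H90DevTwo2 Groth.Agent.Lib.H90DevFiltP Groth.Agent.Lib.H90SnapGeom

section Dim

/-- in `WithBot ℕ∞`, `x + 1 ≤ 0` forces `x = ⊥` -/
theorem eq_bot_of_add_one_le_zero {x : WithBot ℕ∞} (h : x + 1 ≤ ((0 : ℕ) : WithBot ℕ∞)) : x = ⊥ := by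
  induction x using WithBot.recBotCoe with
  | bot => rfl
  | coe y =>
    exfalso
    have h1 : y + 1 ≤ (0 : ℕ∞) := by exact_mod_cast h
    simp at h1

theorem le_of_add_one_le_succ {x : WithBot ℕ∞} {r : ℕ}
    (h : x + 1 ≤ ((r + 1 : ℕ) : WithBot ℕ∞)) : x ≤ (r : WithBot ℕ∞) := by
  induction x using WithBot.recBotCoe with
  | bot => exact bot_le
  | coe y =>
    have h1 : y + 1 ≤ ((r : ℕ∞) + 1) := by exact_mod_cast h
    have h2 : y ≤ (r : ℕ∞) := by
      have hy : y ≠ ⊤ := by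
        rintro rfl
        simp at h1
      lift y to ℕ using hy
      have : y + 1 ≤ r + 1 := by exact_mod_cast h1
      exact_mod_cast Nat.le_of_succ_le_succ this
    exact_mod_cast h2

theorem eq_empty_of_topologicalKrullDim_eq_bot {T : Type*} [TopologicalSpace T] (S : Set T)
    (h : topologicalKrullDim S = ⊥) : S = ∅ := by
  by_contra hne
  obtain ⟨s, hs⟩ := Set.nonempty_iff_ne_empty.2 hne
  have : Nonempty (TopologicalSpace.IrreducibleCloseds S) :=
    ⟨⟨closure {⟨s, hs⟩}, isIrreducible_singleton.closure, isClosed_closure⟩⟩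
  have h0 : (0 : WithBot ℕ∞) ≤ topologicalKrullDim S := by
    unfold topologicalKrullDim
    exact Order.krullDim_nonneg
  rw [h] at h0
  simp at h0

end Dim

section Arith

/-- the comparison function: `g 0 m = 0`, `g (r + 1) m = (m + 1) ^ r` -/
def g : ℕ → ℕ → ℕ
  | 0, _ => 0
  | r + 1, m => (m + 1) ^ r

theorem g_le (r m : ℕ) : g r m ≤ (m + 1) ^ r := by
  cases r with
  | zero => simp [g]
  | succ r =>
    simp only [g]
    exact Nat.pow_le_pow_right (Nat.succ_pos m) (Nat.le_succ r)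

theorem g_mono (r : ℕ) {m m' : ℕ} (hm : m ≤ m') : g r m ≤ g r m' := by
  cases r with
  | zero => simp [g]
  | succ r =>
    simp only [g]
    exact Nat.pow_le_pow_left (Nat.succ_le_succ hm) r

/-- `Σ_{t < m} g r t ≤ (m + 1) ^ r`, in the form used below -/
theorem m_mul_g_le (r m : ℕ) : m * g r m ≤ (m + 1) ^ r := by
  cases r with
  | zero => simp [g]
  | succ r =>
    simp only [g]
    calc m * (m + 1) ^ r ≤ (m + 1) * (m + 1) ^ r := Nat.mul_le_mul_right _ (Nat.le_succ m)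
      _ = (m + 1) ^ (r + 1) := by ring

/-- a sequence with `u (m + 1) ≤ u m + D * g r m` is bounded by `u 0 + D * (m + 1) ^ r` -/
theorem bound_of_step (r D : ℕ) (u : ℕ → ℕ) (hu : ∀ m, u (m + 1) ≤ u m + D * g r m) (m : ℕ) :
    u m ≤ u 0 + D * (m + 1) ^ r := by
  have key : ∀ m, u m ≤ u 0 + D * (m * g r m) := by
    intro m
    induction m with
    | zero => simp
    | succ m ih =>
      have h1 := hu m
      have h2 : g r m ≤ g r (m + 1) := g_mono r (Nat.le_succ m)
      have h3 : m * g r m ≤ m * g r (m + 1) := Nat.mul_le_mul_left m h2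
      calc u (m + 1) ≤ u m + D * g r m := h1
        _ ≤ (u 0 + D * (m * g r m)) + D * g r m := by omega
        _ ≤ (u 0 + D * (m * g r (m + 1))) + D * g r (m + 1) := by
            have := Nat.mul_le_mul_left D h3
            have := Nat.mul_le_mul_left D h2
            omega
        _ = u 0 + D * ((m + 1) * g r (m + 1)) := by ring
  have h1 := key m
  have h2 := Nat.mul_le_mul_left D (m_mul_g_le r m)
  omega

end Arith

section Abstract

variable {X : Scheme.{u}} [AlgebraicGeometry.IsNoetherian X] (L : X.Modules)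
  (hL : PicF.IsInvertible L) (h : X.Modules → ℕ → ℕ → ℕ)
  (H0 : ∀ G : X.Modules, IsZero G → ∀ i m, h G i m = 0)
  (H2a : ∀ S : ShortComplex X.Modules, S.ShortExact → Coh.IsCoh S.X₁ → Coh.IsCoh S.X₂ →
    Coh.IsCoh S.X₃ → ∀ i m, h S.X₂ i m ≤ h S.X₁ i m + h S.X₃ i m)
  (H2b : ∀ S : ShortComplex X.Modules, S.ShortExact → Coh.IsCoh S.X₁ → Coh.IsCoh S.X₂ →
    Coh.IsCoh S.X₃ → ∀ i m, h S.X₁ (i + 1) m ≤ h S.X₃ i m + h S.X₂ (i + 1) m)
  (H2b0 : ∀ S : ShortComplex X.Modules, S.ShortExact → Coh.IsCoh S.X₁ → Coh.IsCoh S.X₂ →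
    Coh.IsCoh S.X₃ → ∀ m, h S.X₁ 0 m ≤ h S.X₂ 0 m)
  (H3 : ∀ G : X.Modules, Coh.IsCoh G → ∀ i m, h (CohB1.tensorMod G L) i m = h G i (m + 1))
  (H4 : ∀ G : X.Modules, Coh.IsCoh G → ∃ C, ∀ i, h G i 0 ≤ C)

/-- `h G i m ≤ C * (m + 1) ^ r` uniformly in `i`, `m` -/
def Bd (r : ℕ) (G : X.Modules) : Prop := ∃ C : ℕ, ∀ i m, h G i m ≤ C * (m + 1) ^ r

/-- `h G i m ≤ C * g r m` uniformly in `i`, `m` (zero if `r = 0`, `O(m^(r-1))` otherwise) -/
def BdLt (r : ℕ) (G : X.Modules) : Prop := ∃ C : ℕ, ∀ i m, h G i m ≤ C * g r m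

variable {h}

theorem Bd.bdLt {r : ℕ} {G : X.Modules} (hG : Bd h r G) : BdLt h (r + 1) G := hG

theorem BdLt.bd {r : ℕ} {G : X.Modules} (hG : BdLt h r G) : Bd h r G := by
  obtain ⟨C, hC⟩ := hG
  exact ⟨C, fun i m => (hC i m).trans (Nat.mul_le_mul_left C (g_le r m))⟩

include H0 in
theorem bdLt_of_isZero {G : X.Modules} (hG : IsZero G) (r : ℕ) : BdLt h r G :=
  ⟨0, fun i m => by rw [H0 G hG i m]; exact Nat.zero_le _⟩

include H0 in
theorem bdLt_zero_of_dim {G : X.Modules}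
    (hd : topologicalKrullDim ↥(CohB1.support G) + 1 ≤ ((0 : ℕ) : WithBot ℕ∞)) :
    BdLt h 0 G := by
  have h1 := eq_empty_of_topologicalKrullDim_eq_bot _ (eq_bot_of_add_one_le_zero hd)
  have hz : IsZero G := by
    apply Groth.Agent.Lib.ModPullback.isZero_of_forall_subsingleton_stalk
    intro y
    by_contra hy
    have : y ∈ CohB1.support G := hy
    rw [h1] at this
    exact this
  exact bdLt_of_isZero H0 hz 0

/-- the left term of a short exact sequence is bounded by the other two, in all degrees -/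
theorem left_le (S : ShortComplex X.Modules) {D C : ℕ} {a b : ℕ → ℕ}
    (hD : ∀ i m, h S.X₃ i m ≤ D * a m) (hC : ∀ i m, h S.X₂ i m ≤ C * b m) (i m : ℕ)
    (H2b : ∀ i m, h S.X₁ (i + 1) m ≤ h S.X₃ i m + h S.X₂ (i + 1) m)
    (H2b0 : ∀ m, h S.X₁ 0 m ≤ h S.X₂ 0 m) :
    h S.X₁ i m ≤ D * a m + C * b m := by
  cases i with
  | zero => exact (H2b0 m).trans ((hC 0 m).trans (Nat.le_add_left _ _))
  | succ i => exact (H2b i m).trans (Nat.add_le_add (hD i m) (hC (i + 1) m))

include hL H2a H2b H2b0 H3 H4 in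
/-- the hub case -/
theorem bd_hub (r : ℕ)
    (IH : ∀ G : X.Modules, Coh.IsCoh G →
      topologicalKrullDim ↥(CohB1.support G) + 1 ≤ (r : WithBot ℕ∞) → BdLt h r G)
    (Zc : Closeds X) (hirr : IsIrreducible (Zc : Set X))
    (hdim : topologicalKrullDim ↥(Zc : Set X) ≤ (r : WithBot ℕ∞)) : Bd h r (hub Zc) := by
  obtain ⟨A, pa, pb, hA, hpa, hpb, hT, hca, hcb, hda, hdb⟩ := exists_step_dim Zc hirr L hL
  have := hpa
  have := hpb
  have : A.IsQuasicoherent := hA.1
  obtain ⟨Da, hDa⟩ := IH _ hca (hda.trans hdim)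
  obtain ⟨Db, hDb⟩ := IH _ hcb (hdb.trans hdim)
  obtain ⟨C0, hC0⟩ := H4 (hub Zc) (isCoh_hub Zc)
  have step : ∀ i m, h (hub Zc) i (m + 1) ≤ h (hub Zc) i m + (Da + Db) * g r m := by
    intro i m
    rw [← H3 (hub Zc) (isCoh_hub Zc) i m]
    have e2 := H2a _ (shortExact_cokernel pb) hA hT hcb i m
    have e1 : h A i m ≤ Da * g r m + h (hub Zc) i m := by
      cases i with
      | zero =>
        exact (H2b0 _ (shortExact_cokernel pa) hA (isCoh_hub Zc) hca m).trans (Nat.le_add_left _ _)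
      | succ i =>
        exact (H2b _ (shortExact_cokernel pa) hA (isCoh_hub Zc) hca i m).trans
          (Nat.add_le_add_right (hDa i m) _)
    have e3 := hDb i m
    have e4 : (Da + Db) * g r m = Da * g r m + Db * g r m := by ring
    change h (CohB1.tensorMod (hub Zc) L) i m ≤ _ at e2 ⊢
    change h (CohB1.tensorMod (hub Zc) L) i m ≤ h A i m + h (cokernel pb) i m at e2
    omega
  refine ⟨C0 + (Da + Db), fun i m => ?_⟩
  have h1 := bound_of_step r (Da + Db) (fun m => h (hub Zc) i m) (step i) m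
  have h2 := hC0 i
  have h3 : 1 ≤ (m + 1) ^ r := Nat.one_le_pow _ _ (Nat.succ_pos m)
  calc h (hub Zc) i m ≤ h (hub Zc) i 0 + (Da + Db) * (m + 1) ^ r := h1
    _ ≤ C0 * (m + 1) ^ r + (Da + Db) * (m + 1) ^ r := by
        have : C0 ≤ C0 * (m + 1) ^ r := Nat.le_mul_of_pos_right _ h3
        omega
    _ = (C0 + (Da + Db)) * (m + 1) ^ r := by ring

include hL H2a H2b H2b0 H3 H4 in
/-- the atom case -/
theorem bd_atom (r : ℕ)
    (IH : ∀ G : X.Modules, Coh.IsCoh G →
      topologicalKrullDim ↥(CohB1.support G) + 1 ≤ (r : WithBot ℕ∞) → BdLt h r G)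
    {Zc : Closeds X} {C : X.Modules} (hat : IsAtomC Zc C) (hC : Coh.IsCoh C)
    (hdim : topologicalKrullDim ↥(Zc : Set X) ≤ (r : WithBot ℕ∞)) : Bd h r C := by
  obtain ⟨p, hp⟩ := exists_mono_hub hat
  have := hp
  have : C.IsQuasicoherent := hC.1
  have hd := dim_support_cokernel_hub hat.1 p
    (Groth.Agent.Lib.H90DevFilt.not_isZero_of_isAtom hat.isAtom)
  obtain ⟨C1, hC1⟩ := bd_hub L hL H2a H2b H2b0 H3 H4 r IH Zc hat.1 hdim
  have hck : Coh.IsCoh (cokernel p) :=
    Groth.Agent.Lib.H90OXModExact.isCoh_cokernel p (isCoh_hub Zc)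
  obtain ⟨D, hD⟩ := (IH _ hck (hd.trans hdim)).bd
  refine ⟨D + C1, fun i m => ?_⟩
  have := left_le (h := h) (ShortComplex.mk p (cokernel.π p) (cokernel.condition p))
    (a := fun m => (m + 1) ^ r) (b := fun m => (m + 1) ^ r) hD hC1 i m
    (H2b _ (shortExact_cokernel p) hC (isCoh_hub Zc) hck)
    (H2b0 _ (shortExact_cokernel p) hC (isCoh_hub Zc) hck)
  calc h C i m ≤ D * (m + 1) ^ r + C1 * (m + 1) ^ r := this
    _ = (D + C1) * (m + 1) ^ r := by ring

include hL H0 H2a H2b H2b0 H3 H4 in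
/-- induction along a dévissage filtration -/
theorem bd_of_filt (r : ℕ)
    (IH : ∀ G : X.Modules, Coh.IsCoh G →
      topologicalKrullDim ↥(CohB1.support G) + 1 ≤ (r : WithBot ℕ∞) → BdLt h r G)
    {M : X.Modules} (hF : Filt IsAtomC' M) (hM : Coh.IsCoh M)
    (hdim : topologicalKrullDim ↥(CohB1.support M) ≤ (r : WithBot ℕ∞)) : Bd h r M := by
  induction hF with
  | zero M hz => exact (bdLt_of_isZero H0 hz r).bd
  | step A B f hf hA hAc hB hat ih =>
    have := hf
    have : A.IsQuasicoherent := hAc.1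
    obtain ⟨C1, hC1⟩ := ih hAc
      ((Groth.Agent.Lib.DimDrop.topologicalKrullDim_mono (support_subset_of_mono f)).trans hdim)
    obtain ⟨Zc, hat⟩ := hat
    have hcC : Coh.IsCoh (cokernel f) := Groth.Agent.Lib.H90OXModExact.isCoh_cokernel f hB
    have hsub : (Zc : Set X) ⊆ CohB1.support B :=
      atomC_subset_of_support_subset hat (isClosed_support_of_isFT _ hB.2)
        (support_subset_of_epi (cokernel.π f))
    obtain ⟨C2, hC2⟩ := bd_atom L hL H2a H2b H2b0 H3 H4 r IH hat hcC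
      ((Groth.Agent.Lib.DimDrop.topologicalKrullDim_mono hsub).trans hdim)
    refine ⟨C1 + C2, fun i m => ?_⟩
    have e := H2a _ (shortExact_cokernel f) hAc hB hcC i m
    have e1 := hC1 i m
    have e2 := hC2 i m
    calc h B i m ≤ h A i m + h (cokernel f) i m := e
      _ ≤ C1 * (m + 1) ^ r + C2 * (m + 1) ^ r := Nat.add_le_add e1 e2
      _ = (C1 + C2) * (m + 1) ^ r := by ring

include hL H0 H2a H2b H2b0 H3 H4 in
/-- the inductive statement -/
theorem bdLt_of_dim (r : ℕ) :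
    ∀ G : X.Modules, Coh.IsCoh G →
      topologicalKrullDim ↥(CohB1.support G) + 1 ≤ (r : WithBot ℕ∞) → BdLt h r G := by
  induction r with
  | zero => exact fun G _ hd => bdLt_zero_of_dim H0 hd
  | succ r ih =>
    intro G hG hd
    exact (bd_of_filt L hL H0 H2a H2b H2b0 H3 H4 r ih (filt_atomC_of_isCoh hG) hG
      (le_of_add_one_le_succ hd)).bdLt

include hL H0 H2a H2b H2b0 H3 H4 in
/-- **Sub-additive Snapper.**  For coherent `F` with `dim Supp F ≤ r`: `h F i m ≤ C * (m + 1) ^ r`. -/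
theorem bd_of_dim (F : X.Modules) (hF : Coh.IsCoh F) (r : ℕ)
    (hr : topologicalKrullDim ↥(CohB1.support F) ≤ (r : WithBot ℕ∞)) :
    ∃ C : ℕ, ∀ i m, h F i m ≤ C * (m + 1) ^ r :=
  bd_of_filt L hL H0 H2a H2b H2b0 H3 H4 r (bdLt_of_dim L hL H0 H2a H2b H2b0 H3 H4 r)
    (filt_atomC_of_isCoh hF) hF hr

end Abstract

end Groth.Agent.Lib.CohGrowth
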