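import Groth.Agent.Lib.CohGrowth
import Groth.Agent.Lib.CohLESLinear
import Groth.Agent.Lib.IsoCls13
import Groth.Agent.Lib.TwistEquiv
import Groth.Agent.Lib.H78Dual
import Groth.Agent.Lib.OXModRestrict
import Groth.Agent.Lib.CohFinAmple
import Groth.Agent.Lib.H4Chase
import Groth.Agent.Lib.H90Invertible
import Groth.Agent.Lib.EulerChar54
import Groth.Agent.S0002

/-!
# Growth of the cohomology of twists on a proper scheme over a field (helper10)

`X` proper over a field `k`, `L` ANY invertible module, `F` coherent with `dim Supp F ≤ r`: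
there is `C` with `dim_k H^i(X, F ⊗ L^{⊗ m}) ≤ C * (m + 1) ^ r` for all `i`, `m`
(`exists_bound_finrank_HH_twist`).

Also the linear-algebra inequalities of the long exact cohomology sequence (`hh_mid_le`,
`hh_left_succ_le`, `hh_left_zero_le`, `hh_right_le`) and their twisted forms.
-/

set_option autoImplicit false
universe u
open CategoryTheory CategoryTheory.Limits AlgebraicGeometry CohB1
open Groth.Agent.Lib.OXModTensor Groth.Agent.Lib.TwistEquiv Groth.Agent.Lib.CohLES

namespace Groth.Agent.Lib.CohGrowthHH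

section LinAlg

variable {k : Type*} [Field k] {M N P : Type*} [AddCommGroup M] [AddCommGroup N] [AddCommGroup P]
  [Module k M] [Module k N] [Module k P]

/-- For an exact sequence `M → N → P` of finite-dimensional vector spaces, `dim N ≤ dim M + dim P`. -/
theorem finrank_mid_le [Module.Finite k M] [Module.Finite k N] [Module.Finite k P]
    (f : M →ₗ[k] N) (g : N →ₗ[k] P) (h : LinearMap.range f = LinearMap.ker g) :
    Module.finrank k N ≤ Module.finrank k M + Module.finrank k P := by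
  have h1 := LinearMap.finrank_range_add_finrank_ker g
  have h2 : Module.finrank k (LinearMap.ker g) ≤ Module.finrank k M := by
    rw [← h]
    exact LinearMap.finrank_range_le f
  have h3 : Module.finrank k (LinearMap.range g) ≤ Module.finrank k P :=
    Submodule.finrank_le _
  omega

end LinAlg

variable (k : Type u) [Field k] (X : Scheme.{u})
  [X.Over (Spec (CommRingCat.of k))] [IsProper (X ↘ Spec (CommRingCat.of k))]

theorem finite_HH (M : X.Modules) (hM : Coh.IsCoh M) (n : ℕ) : Module.Finite k (Coh.HH X M n) :=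
  Groth.Agent.S0002.result k X M hM n

/-- `h^n(M) = dim_k H^n(X, M)` -/
noncomputable abbrev hh (M : X.Modules) (n : ℕ) : ℕ := Module.finrank k (Coh.HH X M n)

variable {X}

theorem hh_mid_le {S : ShortComplex X.Modules} (hS : S.ShortExact) (h1 : Coh.IsCoh S.X₁)
    (h2 : Coh.IsCoh S.X₂) (h3 : Coh.IsCoh S.X₃) (n : ℕ) :
    hh k X S.X₂ n ≤ hh k X S.X₁ n + hh k X S.X₃ n := by
  have := finite_HH k X _ h1 n
  have := finite_HH k X _ h2 n
  have := finite_HH k X _ h3 n
  exact finrank_mid_le (mapₗ k S.f n) (mapₗ k S.g n) (range_mapₗ_f_eq_ker k hS n)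

theorem hh_left_succ_le {S : ShortComplex X.Modules} (hS : S.ShortExact) (h1 : Coh.IsCoh S.X₁)
    (h2 : Coh.IsCoh S.X₂) (h3 : Coh.IsCoh S.X₃) (n : ℕ) :
    hh k X S.X₁ (n + 1) ≤ hh k X S.X₃ n + hh k X S.X₂ (n + 1) := by
  have := finite_HH k X _ h1 (n + 1)
  have := finite_HH k X _ h2 (n + 1)
  have := finite_HH k X _ h3 n
  exact finrank_mid_le (δₗ k hS n) (mapₗ k S.f (n + 1)) (range_δₗ_eq_ker k hS n)

theorem hh_left_zero_le {S : ShortComplex X.Modules} (hS : S.ShortExact) (h1 : Coh.IsCoh S.X₁)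
    (h2 : Coh.IsCoh S.X₂) :
    hh k X S.X₁ 0 ≤ hh k X S.X₂ 0 := by
  have := finite_HH k X _ h1 0
  have := finite_HH k X _ h2 0
  exact LinearMap.finrank_le_finrank_of_injective (f := mapₗ k S.f 0) (map_f_injective_zero hS)

theorem hh_right_le {S : ShortComplex X.Modules} (hS : S.ShortExact) (h1 : Coh.IsCoh S.X₁)
    (h2 : Coh.IsCoh S.X₂) (h3 : Coh.IsCoh S.X₃) (n : ℕ) :
    hh k X S.X₃ n ≤ hh k X S.X₂ n + hh k X S.X₁ (n + 1) := by
  have := finite_HH k X _ h1 (n + 1)
  have := finite_HH k X _ h2 n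
  have := finite_HH k X _ h3 n
  exact finrank_mid_le (mapₗ k S.g n) (δₗ k hS n) (range_mapₗ_g_eq_ker k hS n)

theorem hh_congr {M N : X.Modules} (e : M ≅ N) (n : ℕ) : hh k X M n = hh k X N n :=
  LinearEquiv.finrank_eq (mapEquivₗ k e n)

theorem hh_of_isZero {M : X.Modules} (hM : IsZero M) (n : ℕ) : hh k X M n = 0 := by
  have := Groth.Agent.Lib.H4Chase.subsingleton_HH_of_isZero hM (q := n)
  exact Module.finrank_zero_of_subsingleton

/-! ### Twists -/

/-- a tensor inverse of `L^{⊗ n}` -/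
theorem exists_inverse_pow {L : X.Modules} (hL : PicF.IsInvertible L) (n : ℕ) :
    ∃ M' : X.Modules, Nonempty (tensorMod (tensorPow L n) M' ≅ Coh.structureModule X) := by
  obtain ⟨M', -, ⟨e⟩⟩ := Groth.Agent.Lib.H78Dual.exists_tensor_inverse
    (Groth.Agent.Lib.OXModRestrict.isInvertible_tensorPow hL n)
  exact ⟨M', ⟨braiding _ _ ≪≫ e⟩⟩

theorem isCoh_twist {L : X.Modules} (hL : PicF.IsInvertible L) {G : X.Modules} (hG : Coh.IsCoh G)
    (m : ℕ) : Coh.IsCoh (tensorMod G (tensorPow L m)) :=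
  Groth.Agent.Lib.CohFinAmple.isCoh_tensorMod hG
    (Groth.Agent.Lib.H90Invertible.isCoh_of_isInvertible
      (Groth.Agent.Lib.OXModRestrict.isInvertible_tensorPow hL m))

/-- the twisted short exact sequence -/
theorem shortExact_twist {L : X.Modules} (hL : PicF.IsInvertible L) {S : ShortComplex X.Modules}
    (hS : S.ShortExact) (m : ℕ) : (S.map (tensorRightFunctor (tensorPow L m))).ShortExact := by
  obtain ⟨M', ⟨e⟩⟩ := exists_inverse_pow hL m
  exact shortExact_map_tensorRight e hS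

/-- `h G i m = dim_k H^i(X, G ⊗ L^{⊗ m})` -/
noncomputable def tw (L : X.Modules) (G : X.Modules) (i m : ℕ) : ℕ :=
  hh k X (tensorMod G (tensorPow L m)) i

variable {L : X.Modules} (hL : PicF.IsInvertible L)

include hL in
theorem tw_mid_le {S : ShortComplex X.Modules} (hS : S.ShortExact) (h1 : Coh.IsCoh S.X₁)
    (h2 : Coh.IsCoh S.X₂) (h3 : Coh.IsCoh S.X₃) (i m : ℕ) :
    tw k L S.X₂ i m ≤ tw k L S.X₁ i m + tw k L S.X₃ i m :=
  hh_mid_le k (S := S.map (tensorRightFunctor (tensorPow L m))) (shortExact_twist hL hS m)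
    (isCoh_twist hL h1 m) (isCoh_twist hL h2 m) (isCoh_twist hL h3 m) i

include hL in
theorem tw_left_succ_le {S : ShortComplex X.Modules} (hS : S.ShortExact) (h1 : Coh.IsCoh S.X₁)
    (h2 : Coh.IsCoh S.X₂) (h3 : Coh.IsCoh S.X₃) (i m : ℕ) :
    tw k L S.X₁ (i + 1) m ≤ tw k L S.X₃ i m + tw k L S.X₂ (i + 1) m :=
  hh_left_succ_le k (S := S.map (tensorRightFunctor (tensorPow L m))) (shortExact_twist hL hS m)
    (isCoh_twist hL h1 m) (isCoh_twist hL h2 m) (isCoh_twist hL h3 m) i

include hL in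
theorem tw_left_zero_le {S : ShortComplex X.Modules} (hS : S.ShortExact) (h1 : Coh.IsCoh S.X₁)
    (h2 : Coh.IsCoh S.X₂) (m : ℕ) :
    tw k L S.X₁ 0 m ≤ tw k L S.X₂ 0 m :=
  hh_left_zero_le k (S := S.map (tensorRightFunctor (tensorPow L m))) (shortExact_twist hL hS m)
    (isCoh_twist hL h1 m) (isCoh_twist hL h2 m)

include hL in
theorem tw_right_le {S : ShortComplex X.Modules} (hS : S.ShortExact) (h1 : Coh.IsCoh S.X₁)
    (h2 : Coh.IsCoh S.X₂) (h3 : Coh.IsCoh S.X₃) (i m : ℕ) :
    tw k L S.X₃ i m ≤ tw k L S.X₂ i m + tw k L S.X₁ (i + 1) m :=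
  hh_right_le k (S := S.map (tensorRightFunctor (tensorPow L m))) (shortExact_twist hL hS m)
    (isCoh_twist hL h1 m) (isCoh_twist hL h2 m) (isCoh_twist hL h3 m) i

theorem tw_of_isZero {G : X.Modules} (hG : IsZero G) (i m : ℕ) : tw k L G i m = 0 :=
  hh_of_isZero k ((tensorRightFunctor (tensorPow L m)).map_isZero hG) i

open Groth.Agent.Lib.IsoCls13 in
theorem tw_tensor (G : X.Modules) (i m : ℕ) :
    tw k L (tensorMod G L) i m = tw k L G i (m + 1) := by
  have hc : cls (tensorMod (tensorMod G L) (tensorPow L m)) =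
      cls (tensorMod G (tensorPow L (m + 1))) := by
    rw [cls_tensorMod, cls_tensorMod, cls_tensorMod, cls_tensorPow, cls_tensorPow, pow_succ,
      mul_assoc, mul_comm (cls L)]
  obtain ⟨e⟩ := cls_eq_iff.1 hc
  exact hh_congr k e i

theorem exists_bound_zero (G : X.Modules) (hG : Coh.IsCoh G) : ∃ C, ∀ i, tw k L G i 0 ≤ C := by
  have hcs : CompactSpace X := Groth.Agent.Lib.EulerChar54.compactSpace_of_isProper k X
  obtain ⟨t, ht⟩ := Groth.Agent.Lib.EulerChar54.exists_vanishing_bound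
    (X ↘ Spec (CommRingCat.of k))
  refine ⟨(Finset.range t).sum (fun i => tw k L G i 0), fun i => ?_⟩
  by_cases hi : i < t
  · exact Finset.single_le_sum (f := fun i => tw k L G i 0) (fun _ _ => Nat.zero_le _)
      (Finset.mem_range.2 hi)
  · have hq : Coh.IsQCoh (tensorMod G (tensorPow L 0)) :=
      (Groth.Agent.Lib.CohFinAmple.isCoh_tensorMod hG
        (Groth.Agent.Lib.CohFinAmple.isCoh_structureModule X)).1
    have := ht _ hq i (not_lt.1 hi)
    have h0 : tw k L G i 0 = 0 := Module.finrank_zero_of_subsingleton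
    rw [h0]
    exact Nat.zero_le _

include hL in
/-- **Growth of cohomology of twists.** -/
theorem exists_bound_finrank_HH_twist (F : X.Modules) (hF : Coh.IsCoh F) (r : ℕ)
    (hr : topologicalKrullDim ↥(CohB1.support F) ≤ (r : WithBot ℕ∞)) :
    ∃ C : ℕ, ∀ i m : ℕ,
      Module.finrank k (Coh.HH X (tensorMod F (tensorPow L m)) i) ≤ C * (m + 1) ^ r := by
  have hN : AlgebraicGeometry.IsNoetherian X :=
    @AlgebraicGeometry.IsNoetherian.mk X
      (LocallyOfFiniteType.isLocallyNoetherian (X ↘ Spec (CommRingCat.of k)))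
      (Groth.Agent.Lib.EulerChar54.compactSpace_of_isProper k X)
  exact Groth.Agent.Lib.CohGrowth.bd_of_dim L hL (h := tw k L)
    (fun G hG i m => tw_of_isZero k hG i m)
    (fun S hS h1 h2 h3 i m => tw_mid_le k hL hS h1 h2 h3 i m)
    (fun S hS h1 h2 h3 i m => tw_left_succ_le k hL hS h1 h2 h3 i m)
    (fun S hS h1 h2 _ m => tw_left_zero_le k hL hS h1 h2 m)
    (fun G _ i m => tw_tensor k G i m)
    (fun G hG => exists_bound_zero k G hG) F hF r hr

include hL in
/-- **Growth of cohomology of twists, strict form**: if `dim Supp F + 1 ≤ r` then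
`dim_k H^i(X, F ⊗ L^m) ≤ C * g r m` with `g 0 m = 0`, `g (r + 1) m = (m + 1) ^ r`. -/
theorem exists_bound_finrank_HH_twist_lt (F : X.Modules) (hF : Coh.IsCoh F) (r : ℕ)
    (hr : topologicalKrullDim ↥(CohB1.support F) + 1 ≤ (r : WithBot ℕ∞)) :
    ∃ C : ℕ, ∀ i m : ℕ,
      Module.finrank k (Coh.HH X (tensorMod F (tensorPow L m)) i) ≤
        C * Groth.Agent.Lib.CohGrowth.g r m := by
  have hN : AlgebraicGeometry.IsNoetherian X :=
    @AlgebraicGeometry.IsNoetherian.mk X
      (LocallyOfFiniteType.isLocallyNoetherian (X ↘ Spec (CommRingCat.of k)))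
      (Groth.Agent.Lib.EulerChar54.compactSpace_of_isProper k X)
  exact Groth.Agent.Lib.CohGrowth.bdLt_of_dim L hL (h := tw k L)
    (fun G hG i m => tw_of_isZero k hG i m)
    (fun S hS h1 h2 h3 i m => tw_mid_le k hL hS h1 h2 h3 i m)
    (fun S hS h1 h2 h3 i m => tw_left_succ_le k hL hS h1 h2 h3 i m)
    (fun S hS h1 h2 _ m => tw_left_zero_le k hL hS h1 h2 m)
    (fun G _ i m => tw_tensor k G i m)
    (fun G hG => exists_bound_zero k G hG) r F hF hr

/-- `x < r` implies `x + 1 ≤ r` in `WithBot ℕ∞` -/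
theorem add_one_le_of_lt {x : WithBot ℕ∞} {r : ℕ} (h : x < (r : WithBot ℕ∞)) :
    x + 1 ≤ (r : WithBot ℕ∞) := by
  induction x using WithBot.recBotCoe with
  | bot => exact bot_le
  | coe y =>
    have h1 : y < (r : ℕ∞) := by exact_mod_cast h
    have hy : y ≠ ⊤ := ne_top_of_lt h1
    lift y to ℕ using hy
    have h2 : y < r := by exact_mod_cast h1
    have h3 : y + 1 ≤ r := h2
    exact_mod_cast h3

end Groth.Agent.Lib.CohGrowthHH
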