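import Mathlib
import Groth.Agent.Lib.CohGrowth
import Groth.Agent.Lib.IsoCls13

/-!
# Growth of cohomology of twists by words in finitely many invertible modules (helper10)

Multi-parameter version of `Lib/CohGrowth`.  `X` a Noetherian scheme, `N : ι → X.Modules` a finite
family of invertible modules, `Len N m c` : the isomorphism class `c` is a product of `m` classes of
members of the family.  `h : X.Modules → ℕ → Cls X → ℕ` (think of
`h G i c = dim_k H^i(X, G ⊗ P)` for `P` of class `c`) such that, for classes `c` of finite length,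
(H0) `h` vanishes on zero objects, (H2) along short exact sequences of coherent modules the "long exact
sequence" inequalities hold, (H3) `h (G ⊗ N j) i c = h G i (c * cls (N j))` for coherent `G`,
(H4) for coherent `G` the numbers `h G i 1` are bounded independently of `i`.
Then for every coherent `F` with `dim Supp F ≤ r` there is `C` with `h F i c ≤ C * (m + 1) ^ r` for all
`i`, `m` and all `c` of length `m` (`bd_of_dim`).
-/

set_option autoImplicit false
universe u

open CategoryTheory CategoryTheory.Limits AlgebraicGeometry TopologicalSpace Opposite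

namespace Groth.Agent.Lib.CohGrowthMulti

open Groth.Agent.Lib.H90DevCanon Groth.Agent.Lib.H90DevHub Groth.Agent.Lib.H90DevHub2
  Groth.Agent.Lib.ModStalkLin Groth.Agent.Lib.ModStalk Groth.Agent.Lib.H90DevTwo
  Groth.Agent.Lib.H90DevTwo2 Groth.Agent.Lib.H90DevFiltP Groth.Agent.Lib.H90SnapGeom
  Groth.Agent.Lib.IsoCls13 Groth.Agent.Lib.CohGrowth

variable {X : Scheme.{u}}

/-- `Len N m c`: the class `c` is a product of `m` classes of members of the family `N`. -/
inductive Len {ι : Type*} (N : ι → X.Modules) : ℕ → Cls X → Prop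
  | one : Len N 0 1
  | mul {m : ℕ} {c : Cls X} (j : ι) : Len N m c → Len N (m + 1) (c * cls (N j))

theorem Len.pow {ι : Type*} {N : ι → X.Modules} {m : ℕ} {c : Cls X} (hc : Len N m c) (t : ℕ) :
    Len N (t * m) (c ^ t) := by
  have key : ∀ (m' : ℕ) (c' : Cls X), Len N m' c' → ∀ (m : ℕ) (c : Cls X), Len N m c →
      Len N (m' + m) (c' * c) := by
    intro m' c' hc' m c hc
    induction hc with
    | one => simpa using hc'
    | mul j _ ih =>
      rw [← mul_assoc, ← add_assoc]
      exact Len.mul j ih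
  induction t with
  | zero => simpa using Len.one
  | succ t ih =>
    rw [pow_succ, Nat.succ_mul]
    exact key _ _ ih _ _ hc

theorem Len.mul_len {ι : Type*} {N : ι → X.Modules} {m m' : ℕ} {c c' : Cls X}
    (hc' : Len N m' c') (hc : Len N m c) : Len N (m' + m) (c' * c) := by
  induction hc with
  | one => simpa using hc'
  | mul j _ ih =>
    rw [← mul_assoc, ← add_assoc]
    exact Len.mul j ih

section Abstract

variable [AlgebraicGeometry.IsNoetherian X] {ι : Type*} [Fintype ι] (N : ι → X.Modules)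
  (hN : ∀ j, PicF.IsInvertible (N j)) (h : X.Modules → ℕ → Cls X → ℕ)
  (H0 : ∀ G : X.Modules, IsZero G → ∀ i c, h G i c = 0)
  (H2a : ∀ S : ShortComplex X.Modules, S.ShortExact → Coh.IsCoh S.X₁ → Coh.IsCoh S.X₂ →
    Coh.IsCoh S.X₃ → ∀ i m c, Len N m c → h S.X₂ i c ≤ h S.X₁ i c + h S.X₃ i c)
  (H2b : ∀ S : ShortComplex X.Modules, S.ShortExact → Coh.IsCoh S.X₁ → Coh.IsCoh S.X₂ →
    Coh.IsCoh S.X₃ → ∀ i m c, Len N m c → h S.X₁ (i + 1) c ≤ h S.X₃ i c + h S.X₂ (i + 1) c)
  (H2b0 : ∀ S : ShortComplex X.Modules, S.ShortExact → Coh.IsCoh S.X₁ → Coh.IsCoh S.X₂ →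
    Coh.IsCoh S.X₃ → ∀ m c, Len N m c → h S.X₁ 0 c ≤ h S.X₂ 0 c)
  (H3 : ∀ j (G : X.Modules), Coh.IsCoh G → ∀ i c,
    h (CohB1.tensorMod G (N j)) i c = h G i (c * cls (N j)))
  (H4 : ∀ G : X.Modules, Coh.IsCoh G → ∃ C, ∀ i, h G i 1 ≤ C)

/-- `h G i c ≤ C * (m + 1) ^ r` uniformly in `i` and in classes `c` of length `m` -/
def Bd (r : ℕ) (G : X.Modules) : Prop :=
  ∃ C : ℕ, ∀ i m c, Len N m c → h G i c ≤ C * (m + 1) ^ r

/-- `h G i c ≤ C * g r m` uniformly in `i` and in classes `c` of length `m` -/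
def BdLt (r : ℕ) (G : X.Modules) : Prop :=
  ∃ C : ℕ, ∀ i m c, Len N m c → h G i c ≤ C * g r m

variable {N h}

theorem Bd.bdLt {r : ℕ} {G : X.Modules} (hG : Bd N h r G) : BdLt N h (r + 1) G := hG

theorem BdLt.bd {r : ℕ} {G : X.Modules} (hG : BdLt N h r G) : Bd N h r G := by
  obtain ⟨C, hC⟩ := hG
  exact ⟨C, fun i m c hc => (hC i m c hc).trans (Nat.mul_le_mul_left C (g_le r m))⟩

include H0 in
theorem bdLt_of_isZero {G : X.Modules} (hG : IsZero G) (r : ℕ) : BdLt N h r G :=
  ⟨0, fun i m c _ => by rw [H0 G hG i c]; exact Nat.zero_le _⟩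

include H0 in
theorem bdLt_zero_of_dim {G : X.Modules}
    (hd : topologicalKrullDim ↥(CohB1.support G) + 1 ≤ ((0 : ℕ) : WithBot ℕ∞)) :
    BdLt N h 0 G := by
  have h1 := eq_empty_of_topologicalKrullDim_eq_bot _ (eq_bot_of_add_one_le_zero hd)
  have hz : IsZero G := by
    apply Groth.Agent.Lib.ModPullback.isZero_of_forall_subsingleton_stalk
    intro y
    by_contra hy
    have : y ∈ CohB1.support G := hy
    rw [h1] at this
    exact this
  exact bdLt_of_isZero H0 hz 0

include hN H2a H2b H2b0 H3 H4 in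
/-- the hub case -/
theorem bd_hub (r : ℕ)
    (IH : ∀ G : X.Modules, Coh.IsCoh G →
      topologicalKrullDim ↥(CohB1.support G) + 1 ≤ (r : WithBot ℕ∞) → BdLt N h r G)
    (Zc : Closeds X) (hirr : IsIrreducible (Zc : Set X))
    (hdim : topologicalKrullDim ↥(Zc : Set X) ≤ (r : WithBot ℕ∞)) : Bd N h r (hub Zc) := by
  have hstep : ∀ j : ι, ∃ D : ℕ, ∀ i m c, Len N m c →
      h (hub Zc) i (c * cls (N j)) ≤ h (hub Zc) i c + D * g r m := by
    intro j
    obtain ⟨A, pa, pb, hA, hpa, hpb, hT, hca, hcb, hda, hdb⟩ := exists_step_dim Zc hirr (N j) (hN j)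
    have := hpa
    have := hpb
    have : A.IsQuasicoherent := hA.1
    obtain ⟨Da, hDa⟩ := IH _ hca (hda.trans hdim)
    obtain ⟨Db, hDb⟩ := IH _ hcb (hdb.trans hdim)
    refine ⟨Da + Db, fun i m c hc => ?_⟩
    rw [← H3 j (hub Zc) (isCoh_hub Zc) i c]
    have e2 := H2a _ (shortExact_cokernel pb) hA hT hcb i m c hc
    have e1 : h A i c ≤ Da * g r m + h (hub Zc) i c := by
      cases i with
      | zero =>
        exact (H2b0 _ (shortExact_cokernel pa) hA (isCoh_hub Zc) hca m c hc).trans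
          (Nat.le_add_left _ _)
      | succ i =>
        exact (H2b _ (shortExact_cokernel pa) hA (isCoh_hub Zc) hca i m c hc).trans
          (Nat.add_le_add_right (hDa i m c hc) _)
    have e3 := hDb i m c hc
    have e4 : (Da + Db) * g r m = Da * g r m + Db * g r m := by ring
    change h (CohB1.tensorMod (hub Zc) (N j)) i c ≤ _ at e2 ⊢
    change h (CohB1.tensorMod (hub Zc) (N j)) i c ≤ h A i c + h (cokernel pb) i c at e2
    omega
  choose Dj hDj using hstep
  obtain ⟨C0, hC0⟩ := H4 (hub Zc) (isCoh_hub Zc)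
  have hDle : ∀ j, Dj j ≤ Finset.univ.sum Dj := fun j =>
    Finset.single_le_sum (f := Dj) (fun _ _ => Nat.zero_le _) (Finset.mem_univ j)
  have key : ∀ i m c, Len N m c →
      h (hub Zc) i c ≤ C0 + Finset.univ.sum Dj * (m * g r m) := by
    intro i m c hc
    induction hc with
    | one => simpa using hC0 i
    | @mul m c j hc ih =>
      have h1 := hDj j i m c hc
      have h2 : g r m ≤ g r (m + 1) := g_mono r (Nat.le_succ m)
      have h3 : m * g r m ≤ m * g r (m + 1) := Nat.mul_le_mul_left m h2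
      have h4 : Dj j * g r m ≤ Finset.univ.sum Dj * g r (m + 1) :=
        Nat.mul_le_mul (hDle j) h2
      have h5 := Nat.mul_le_mul_left (Finset.univ.sum Dj) h3
      calc h (hub Zc) i (c * cls (N j)) ≤ h (hub Zc) i c + Dj j * g r m := h1
        _ ≤ (C0 + Finset.univ.sum Dj * (m * g r (m + 1))) + Finset.univ.sum Dj * g r (m + 1) := by
            omega
        _ = C0 + Finset.univ.sum Dj * ((m + 1) * g r (m + 1)) := by ring
  refine ⟨C0 + Finset.univ.sum Dj, fun i m c hc => ?_⟩
  have h1 := key i m c hc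
  have h2 := Nat.mul_le_mul_left (Finset.univ.sum Dj) (m_mul_g_le r m)
  have h3 : 1 ≤ (m + 1) ^ r := Nat.one_le_pow _ _ (Nat.succ_pos m)
  calc h (hub Zc) i c ≤ C0 + Finset.univ.sum Dj * (m + 1) ^ r := by omega
    _ ≤ C0 * (m + 1) ^ r + Finset.univ.sum Dj * (m + 1) ^ r := by
        have : C0 ≤ C0 * (m + 1) ^ r := Nat.le_mul_of_pos_right _ h3
        omega
    _ = (C0 + Finset.univ.sum Dj) * (m + 1) ^ r := by ring

include hN H2a H2b H2b0 H3 H4 in
/-- the atom case -/
theorem bd_atom (r : ℕ)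
    (IH : ∀ G : X.Modules, Coh.IsCoh G →
      topologicalKrullDim ↥(CohB1.support G) + 1 ≤ (r : WithBot ℕ∞) → BdLt N h r G)
    {Zc : Closeds X} {C : X.Modules} (hat : IsAtomC Zc C) (hC : Coh.IsCoh C)
    (hdim : topologicalKrullDim ↥(Zc : Set X) ≤ (r : WithBot ℕ∞)) : Bd N h r C := by
  obtain ⟨p, hp⟩ := exists_mono_hub hat
  have := hp
  have : C.IsQuasicoherent := hC.1
  have hd := dim_support_cokernel_hub hat.1 p
    (Groth.Agent.Lib.H90DevFilt.not_isZero_of_isAtom hat.isAtom)
  obtain ⟨C1, hC1⟩ := bd_hub hN H2a H2b H2b0 H3 H4 r IH Zc hat.1 hdim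
  have hck : Coh.IsCoh (cokernel p) :=
    Groth.Agent.Lib.H90OXModExact.isCoh_cokernel p (isCoh_hub Zc)
  obtain ⟨D, hD⟩ := (IH _ hck (hd.trans hdim)).bd
  refine ⟨D + C1, fun i m c hc => ?_⟩
  have hse := shortExact_cokernel p
  have e : h C i c ≤ D * (m + 1) ^ r + C1 * (m + 1) ^ r := by
    cases i with
    | zero =>
      exact ((H2b0 _ hse hC (isCoh_hub Zc) hck m c hc).trans (hC1 0 m c hc)).trans
        (Nat.le_add_left _ _)
    | succ i =>
      exact (H2b _ hse hC (isCoh_hub Zc) hck i m c hc).trans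
        (Nat.add_le_add (hD i m c hc) (hC1 (i + 1) m c hc))
  calc h C i c ≤ D * (m + 1) ^ r + C1 * (m + 1) ^ r := e
    _ = (D + C1) * (m + 1) ^ r := by ring

include hN H0 H2a H2b H2b0 H3 H4 in
/-- induction along a dévissage filtration -/
theorem bd_of_filt (r : ℕ)
    (IH : ∀ G : X.Modules, Coh.IsCoh G →
      topologicalKrullDim ↥(CohB1.support G) + 1 ≤ (r : WithBot ℕ∞) → BdLt N h r G)
    {M : X.Modules} (hF : Filt IsAtomC' M) (hM : Coh.IsCoh M)
    (hdim : topologicalKrullDim ↥(CohB1.support M) ≤ (r : WithBot ℕ∞)) : Bd N h r M := by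
  induction hF with
  | zero M hz => exact (bdLt_of_isZero H0 hz r).bd
  | step A B f hf hA hAc hB hat ih =>
    have := hf
    have : A.IsQuasicoherent := hAc.1
    obtain ⟨C1, hC1⟩ := ih hAc
      ((Groth.Agent.Lib.DimDrop.topologicalKrullDim_mono (support_subset_of_mono f)).trans hdim)
    obtain ⟨Zc, hat⟩ := hat
    have hcC : Coh.IsCoh (cokernel f) := Groth.Agent.Lib.H90OXModExact.isCoh_cokernel f hB
    have hsub : (Zc : Set X) ⊆ CohB1.support B :=
      atomC_subset_of_support_subset hat (isClosed_support_of_isFT _ hB.2)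
        (support_subset_of_epi (cokernel.π f))
    obtain ⟨C2, hC2⟩ := bd_atom hN H2a H2b H2b0 H3 H4 r IH hat hcC
      ((Groth.Agent.Lib.DimDrop.topologicalKrullDim_mono hsub).trans hdim)
    refine ⟨C1 + C2, fun i m c hc => ?_⟩
    have e := H2a _ (shortExact_cokernel f) hAc hB hcC i m c hc
    have e1 := hC1 i m c hc
    have e2 := hC2 i m c hc
    calc h B i c ≤ h A i c + h (cokernel f) i c := e
      _ ≤ C1 * (m + 1) ^ r + C2 * (m + 1) ^ r := Nat.add_le_add e1 e2
      _ = (C1 + C2) * (m + 1) ^ r := by ring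

include hN H0 H2a H2b H2b0 H3 H4 in
/-- the inductive statement -/
theorem bdLt_of_dim (r : ℕ) :
    ∀ G : X.Modules, Coh.IsCoh G →
      topologicalKrullDim ↥(CohB1.support G) + 1 ≤ (r : WithBot ℕ∞) → BdLt N h r G := by
  induction r with
  | zero => exact fun G _ hd => bdLt_zero_of_dim H0 hd
  | succ r ih =>
    intro G hG hd
    exact (bd_of_filt hN H0 H2a H2b H2b0 H3 H4 r ih (filt_atomC_of_isCoh hG) hG
      (le_of_add_one_le_succ hd)).bdLt

include hN H0 H2a H2b H2b0 H3 H4 in
/-- **Multi-parameter sub-additive Snapper.**  For coherent `F` with `dim Supp F ≤ r`: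
`h F i c ≤ C * (m + 1) ^ r` for all classes `c` of length `m`. -/
theorem bd_of_dim (F : X.Modules) (hF : Coh.IsCoh F) (r : ℕ)
    (hr : topologicalKrullDim ↥(CohB1.support F) ≤ (r : WithBot ℕ∞)) :
    ∃ C : ℕ, ∀ i m c, Len N m c → h F i c ≤ C * (m + 1) ^ r :=
  bd_of_filt hN H0 H2a H2b H2b0 H3 H4 r (bdLt_of_dim hN H0 H2a H2b H2b0 H3 H4 r)
    (filt_atomC_of_isCoh hF) hF hr

end Abstract

end Groth.Agent.Lib.CohGrowthMulti
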