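import Groth.Agent.Lib.CohGrowthMulti
import Groth.Agent.Lib.CohGrowthHH

/-!
# Growth of the cohomology of twists by words in finitely many invertible modules (helper10)

`X` proper over a field `k`, `N : ι → X.Modules` a finite family of invertible modules, `F` coherent
with `dim Supp F ≤ r`: there is `C` with `dim_k H^i(X, F ⊗ P) ≤ C * (m + 1) ^ r` for all `i`, `m` and
all `P` whose class is a product of `m` classes of members of `N` (`exists_bound_hc`).

`hc k G i c = dim_k H^i(X, G ⊗ P)` for `P` a representative of the isomorphism class `c`.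
-/

set_option autoImplicit false
universe u
open CategoryTheory CategoryTheory.Limits AlgebraicGeometry CohB1
open Groth.Agent.Lib.OXModTensor Groth.Agent.Lib.TwistEquiv Groth.Agent.Lib.CohLES
open Groth.Agent.Lib.IsoCls13 Groth.Agent.Lib.CohGrowthMulti Groth.Agent.Lib.CohGrowthHH

namespace Groth.Agent.Lib.CohGrowthMultiHH

variable {X : Scheme.{u}}

/-- a representative of an isomorphism class -/
noncomputable def rep (c : Cls X) : X.Modules := Quotient.out c

theorem cls_rep (c : Cls X) : cls (rep c) = c := Quotient.out_eq c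

theorem nonempty_rep_cls_iso (P : X.Modules) : Nonempty (rep (cls P) ≅ P) :=
  cls_eq_iff.1 (cls_rep (cls P))

theorem isInvertible_rep_of_len {ι : Type*} {N : ι → X.Modules}
    (hN : ∀ j, PicF.IsInvertible (N j)) {m : ℕ} {c : Cls X} (hc : Len N m c) :
    PicF.IsInvertible (rep c) := by
  induction hc with
  | one =>
    obtain ⟨e⟩ := nonempty_rep_cls_iso (Coh.structureModule X)
    exact Groth.Agent.Lib.H90Invertible.isInvertible_of_iso e.symm
      (Groth.Agent.Lib.H90Invertible.isInvertible_structureModule X)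
  | @mul m c j _ ih =>
    have h1 : cls (rep (c * cls (N j))) = cls (tensorMod (rep c) (N j)) := by
      rw [cls_rep, cls_tensorMod, cls_rep]
    obtain ⟨e⟩ := cls_eq_iff.1 h1
    exact Groth.Agent.Lib.H90Invertible.isInvertible_of_iso e.symm
      (Groth.Agent.Lib.OXModRestrict.isInvertible_tensorMod ih (hN j))

variable (k : Type u) [Field k]
  [X.Over (Spec (CommRingCat.of k))] [IsProper (X ↘ Spec (CommRingCat.of k))]

/-- `hc k G i c = dim_k H^i(X, G ⊗ P)`, `P` of class `c` -/
noncomputable def hc (G : X.Modules) (i : ℕ) (c : Cls X) : ℕ := hh k X (tensorMod G (rep c)) i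

theorem hc_cls (G P : X.Modules) (i : ℕ) : hc k G i (cls P) = hh k X (tensorMod G P) i := by
  obtain ⟨e⟩ := nonempty_rep_cls_iso P
  exact hh_congr k (tensorModIso (Iso.refl G) e) i

theorem hc_congr {G G' : X.Modules} (e : G ≅ G') (i : ℕ) (c : Cls X) :
    hc k G i c = hc k G' i c :=
  hh_congr k (tensorModIso e (Iso.refl _)) i

theorem hc_structure (i : ℕ) (c : Cls X) :
    hc k (Coh.structureModule X) i c = hh k X (rep c) i :=
  hh_congr k (leftUnitor _) i

theorem hc_structure_cls (i : ℕ) (P : X.Modules) :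
    hc k (Coh.structureModule X) i (cls P) = hh k X P i := by
  rw [hc_cls]
  exact hh_congr k (leftUnitor _) i

theorem isCoh_twist' {P : X.Modules} (hP : PicF.IsInvertible P) {G : X.Modules}
    (hG : Coh.IsCoh G) : Coh.IsCoh (tensorMod G P) :=
  Groth.Agent.Lib.CohFinAmple.isCoh_tensorMod hG
    (Groth.Agent.Lib.H90Invertible.isCoh_of_isInvertible hP)

theorem shortExact_twist' {P : X.Modules} (hP : PicF.IsInvertible P) {S : ShortComplex X.Modules}
    (hS : S.ShortExact) : (S.map (tensorRightFunctor P)).ShortExact := by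
  obtain ⟨M', -, ⟨e⟩⟩ := Groth.Agent.Lib.H78Dual.exists_tensor_inverse hP
  exact shortExact_map_tensorRight (braiding _ _ ≪≫ e) hS

section Inv

variable {c : Cls X} (hinv : PicF.IsInvertible (rep c))

include hinv in
theorem hc_mid_le {S : ShortComplex X.Modules} (hS : S.ShortExact) (h1 : Coh.IsCoh S.X₁)
    (h2 : Coh.IsCoh S.X₂) (h3 : Coh.IsCoh S.X₃) (i : ℕ) :
    hc k S.X₂ i c ≤ hc k S.X₁ i c + hc k S.X₃ i c :=
  hh_mid_le k (S := S.map (tensorRightFunctor (rep c))) (shortExact_twist' hinv hS)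
    (isCoh_twist' hinv h1) (isCoh_twist' hinv h2) (isCoh_twist' hinv h3) i

include hinv in
theorem hc_left_succ_le {S : ShortComplex X.Modules} (hS : S.ShortExact) (h1 : Coh.IsCoh S.X₁)
    (h2 : Coh.IsCoh S.X₂) (h3 : Coh.IsCoh S.X₃) (i : ℕ) :
    hc k S.X₁ (i + 1) c ≤ hc k S.X₃ i c + hc k S.X₂ (i + 1) c :=
  hh_left_succ_le k (S := S.map (tensorRightFunctor (rep c))) (shortExact_twist' hinv hS)
    (isCoh_twist' hinv h1) (isCoh_twist' hinv h2) (isCoh_twist' hinv h3) i

include hinv in
theorem hc_left_zero_le {S : ShortComplex X.Modules} (hS : S.ShortExact) (h1 : Coh.IsCoh S.X₁)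
    (h2 : Coh.IsCoh S.X₂) :
    hc k S.X₁ 0 c ≤ hc k S.X₂ 0 c :=
  hh_left_zero_le k (S := S.map (tensorRightFunctor (rep c))) (shortExact_twist' hinv hS)
    (isCoh_twist' hinv h1) (isCoh_twist' hinv h2)

include hinv in
theorem hc_right_le {S : ShortComplex X.Modules} (hS : S.ShortExact) (h1 : Coh.IsCoh S.X₁)
    (h2 : Coh.IsCoh S.X₂) (h3 : Coh.IsCoh S.X₃) (i : ℕ) :
    hc k S.X₃ i c ≤ hc k S.X₂ i c + hc k S.X₁ (i + 1) c :=
  hh_right_le k (S := S.map (tensorRightFunctor (rep c))) (shortExact_twist' hinv hS)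
    (isCoh_twist' hinv h1) (isCoh_twist' hinv h2) (isCoh_twist' hinv h3) i

end Inv

theorem hc_of_isZero {G : X.Modules} (hG : IsZero G) (i : ℕ) (c : Cls X) : hc k G i c = 0 :=
  hh_of_isZero k ((tensorRightFunctor (rep c)).map_isZero hG) i

theorem hc_tensor (G N : X.Modules) (i : ℕ) (c : Cls X) :
    hc k (tensorMod G N) i c = hc k G i (c * cls N) := by
  have h1 : cls (tensorMod (tensorMod G N) (rep c)) = cls (tensorMod G (rep (c * cls N))) := by
    rw [cls_tensorMod, cls_tensorMod, cls_tensorMod, cls_rep, cls_rep, mul_assoc, mul_comm (cls N)]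
  obtain ⟨e⟩ := cls_eq_iff.1 h1
  exact hh_congr k e i

theorem exists_bound_one (G : X.Modules) (hG : Coh.IsCoh G) : ∃ C, ∀ i, hc k G i 1 ≤ C := by
  have hcs : CompactSpace X := Groth.Agent.Lib.EulerChar54.compactSpace_of_isProper k X
  obtain ⟨t, ht⟩ := Groth.Agent.Lib.EulerChar54.exists_vanishing_bound
    (X ↘ Spec (CommRingCat.of k))
  refine ⟨(Finset.range t).sum (fun i => hc k G i 1), fun i => ?_⟩
  by_cases hi : i < t
  · exact Finset.single_le_sum (f := fun i => hc k G i 1) (fun _ _ => Nat.zero_le _)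
      (Finset.mem_range.2 hi)
  · have hinv : PicF.IsInvertible (rep (1 : Cls X)) := by
      obtain ⟨e⟩ := nonempty_rep_cls_iso (Coh.structureModule X)
      exact Groth.Agent.Lib.H90Invertible.isInvertible_of_iso e.symm
        (Groth.Agent.Lib.H90Invertible.isInvertible_structureModule X)
    have hq : Coh.IsQCoh (tensorMod G (rep (1 : Cls X))) := (isCoh_twist' hinv hG).1
    have := ht _ hq i (not_lt.1 hi)
    have h0 : hc k G i 1 = 0 := Module.finrank_zero_of_subsingleton
    rw [h0]
    exact Nat.zero_le _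

variable {ι : Type*} [Fintype ι] {N : ι → X.Modules} (hN : ∀ j, PicF.IsInvertible (N j))

include hN in
/-- **Growth of cohomology of twists by words.** -/
theorem exists_bound_hc (F : X.Modules) (hF : Coh.IsCoh F) (r : ℕ)
    (hr : topologicalKrullDim ↥(CohB1.support F) ≤ (r : WithBot ℕ∞)) :
    ∃ C : ℕ, ∀ (i m : ℕ) (c : Cls X), Len N m c → hc k F i c ≤ C * (m + 1) ^ r := by
  have hNoeth : AlgebraicGeometry.IsNoetherian X :=
    @AlgebraicGeometry.IsNoetherian.mk X
      (LocallyOfFiniteType.isLocallyNoetherian (X ↘ Spec (CommRingCat.of k)))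
      (Groth.Agent.Lib.EulerChar54.compactSpace_of_isProper k X)
  exact Groth.Agent.Lib.CohGrowthMulti.bd_of_dim hN (h := hc k)
    (fun G hG i c => hc_of_isZero k hG i c)
    (fun S hS h1 h2 h3 i m c hc' => hc_mid_le k (isInvertible_rep_of_len hN hc') hS h1 h2 h3 i)
    (fun S hS h1 h2 h3 i m c hc' =>
      hc_left_succ_le k (isInvertible_rep_of_len hN hc') hS h1 h2 h3 i)
    (fun S hS h1 h2 _ m c hc' => hc_left_zero_le k (isInvertible_rep_of_len hN hc') hS h1 h2)
    (fun j G _ i c => hc_tensor k G (N j) i c)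
    (fun G hG => exists_bound_one k G hG) F hF r hr

include hN in
/-- strict form: if `dim Supp F + 1 ≤ r` then `dim_k H^i(X, F ⊗ P) ≤ C * g r m`. -/
theorem exists_bound_hc_lt (F : X.Modules) (hF : Coh.IsCoh F) (r : ℕ)
    (hr : topologicalKrullDim ↥(CohB1.support F) + 1 ≤ (r : WithBot ℕ∞)) :
    ∃ C : ℕ, ∀ (i m : ℕ) (c : Cls X), Len N m c →
      hc k F i c ≤ C * Groth.Agent.Lib.CohGrowth.g r m := by
  have hNoeth : AlgebraicGeometry.IsNoetherian X :=
    @AlgebraicGeometry.IsNoetherian.mk X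
      (LocallyOfFiniteType.isLocallyNoetherian (X ↘ Spec (CommRingCat.of k)))
      (Groth.Agent.Lib.EulerChar54.compactSpace_of_isProper k X)
  exact Groth.Agent.Lib.CohGrowthMulti.bdLt_of_dim hN (h := hc k)
    (fun G hG i c => hc_of_isZero k hG i c)
    (fun S hS h1 h2 h3 i m c hc' => hc_mid_le k (isInvertible_rep_of_len hN hc') hS h1 h2 h3 i)
    (fun S hS h1 h2 h3 i m c hc' =>
      hc_left_succ_le k (isInvertible_rep_of_len hN hc') hS h1 h2 h3 i)
    (fun S hS h1 h2 _ m c hc' => hc_left_zero_le k (isInvertible_rep_of_len hN hc') hS h1 h2)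
    (fun j G _ i c => hc_tensor k G (N j) i c)
    (fun G hG => exists_bound_one k G hG) r F hF hr

end Groth.Agent.Lib.CohGrowthMultiHH
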