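import Groth.Agent.Lib.CohGrowth

/-!
# Growth of the higher cohomology of twists by a module with a one-sided step (helper10)

Same abstract setting as `CohGrowth` (`h G i m`, think `dim_k H^i(X, G ⊗ L^m)`), with two more inputs:
(H5) `h G (i + 1) m = 0` for coherent `G` with `dim Supp G ≤ 0`;
(H6) for every irreducible closed `Z`, either `h (hub Z) i m = 0` for all `i > d₀`, or there is a
monomorphism `hub Z ⟶ hub Z ⊗ L` whose cokernel has support of dimension `< dim Z` (e.g.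
multiplication by a section of `L` not vanishing at the generic point of `Z`, available when `L` is
globally generated, or when `Z` is not contained in the base locus of `L`).
Then for coherent `F` with `dim Supp F ≤ r` and `i > d₀`: `h F i m ≤ C * g r m`, i.e. the cohomology of
`F ⊗ L^m` in degrees `> d₀` is `O(m^(r-1))` (`bdPos_of_dim`).
-/

set_option autoImplicit false
universe u

open CategoryTheory CategoryTheory.Limits AlgebraicGeometry TopologicalSpace Opposite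

namespace Groth.Agent.Lib.CohGrowthPos

open Groth.Agent.Lib.H90DevCanon Groth.Agent.Lib.H90DevHub Groth.Agent.Lib.H90DevHub2
  Groth.Agent.Lib.ModStalkLin Groth.Agent.Lib.ModStalk Groth.Agent.Lib.H90DevTwo
  Groth.Agent.Lib.H90DevTwo2 Groth.Agent.Lib.H90DevFiltP Groth.Agent.Lib.H90SnapGeom
  Groth.Agent.Lib.CohGrowth


variable {X : Scheme.{u}} [AlgebraicGeometry.IsNoetherian X] (L : X.Modules)
  (hL : PicF.IsInvertible L) (h : X.Modules → ℕ → ℕ → ℕ)
  (H0 : ∀ G : X.Modules, IsZero G → ∀ i m, h G i m = 0)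
  (H2a : ∀ S : ShortComplex X.Modules, S.ShortExact → Coh.IsCoh S.X₁ → Coh.IsCoh S.X₂ →
    Coh.IsCoh S.X₃ → ∀ i m, h S.X₂ i m ≤ h S.X₁ i m + h S.X₃ i m)
  (H2b : ∀ S : ShortComplex X.Modules, S.ShortExact → Coh.IsCoh S.X₁ → Coh.IsCoh S.X₂ →
    Coh.IsCoh S.X₃ → ∀ i m, h S.X₁ (i + 1) m ≤ h S.X₃ i m + h S.X₂ (i + 1) m)
  (H2b0 : ∀ S : ShortComplex X.Modules, S.ShortExact → Coh.IsCoh S.X₁ → Coh.IsCoh S.X₂ →
    Coh.IsCoh S.X₃ → ∀ m, h S.X₁ 0 m ≤ h S.X₂ 0 m)
  (H3 : ∀ G : X.Modules, Coh.IsCoh G → ∀ i m, h (CohB1.tensorMod G L) i m = h G i (m + 1))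
  (H4 : ∀ G : X.Modules, Coh.IsCoh G → ∃ C, ∀ i, h G i 0 ≤ C)
  (H5 : ∀ G : X.Modules, Coh.IsCoh G →
    topologicalKrullDim ↥(CohB1.support G) ≤ ((0 : ℕ) : WithBot ℕ∞) → ∀ i m, h G (i + 1) m = 0)
  (d₀ : ℕ)
  (H6 : ∀ Zc : Closeds X, IsIrreducible (Zc : Set X) →
    (∀ i m, d₀ < i → h (hub Zc) i m = 0) ∨
    ∃ p : hub Zc ⟶ CohB1.tensorMod (hub Zc) L, Mono p ∧ Coh.IsCoh (CohB1.tensorMod (hub Zc) L) ∧
      Coh.IsCoh (cokernel p) ∧
      topologicalKrullDim ↥(CohB1.support (cokernel p)) + 1 ≤ topologicalKrullDim ↥(Zc : Set X))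

/-- `h G i m ≤ C * g r m` uniformly in `i > d₀`, `m` -/
def BdPos (r : ℕ) (G : X.Modules) : Prop := ∃ C : ℕ, ∀ i m, d₀ < i → h G i m ≤ C * g r m

variable {h}

include H0 in
theorem bdPos_of_isZero {G : X.Modules} (hG : IsZero G) (r : ℕ) : BdPos h d₀ r G :=
  ⟨0, fun i m _ => by rw [H0 G hG i m]; exact Nat.zero_le _⟩

include H2a H3 H4 H6 in
/-- the hub case -/
theorem bdPos_hub (r : ℕ)
    (IH : ∀ G : X.Modules, Coh.IsCoh G →
      topologicalKrullDim ↥(CohB1.support G) ≤ (r : WithBot ℕ∞) → BdPos h d₀ r G)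
    (Zc : Closeds X) (hirr : IsIrreducible (Zc : Set X))
    (hdim : topologicalKrullDim ↥(Zc : Set X) ≤ ((r + 1 : ℕ) : WithBot ℕ∞)) :
    BdPos h d₀ (r + 1) (hub Zc) := by
  rcases H6 Zc hirr with hvan | ⟨p, hp, hT, hcQ, hd⟩
  · exact ⟨0, fun i m hi => by rw [hvan i m hi]; exact Nat.zero_le _⟩
  have := hp
  obtain ⟨D, hD⟩ := IH _ hcQ (le_of_add_one_le_succ (hd.trans hdim))
  obtain ⟨C0, hC0⟩ := H4 (hub Zc) (isCoh_hub Zc)
  have step : ∀ i m, d₀ < i → h (hub Zc) i (m + 1) ≤ h (hub Zc) i m + D * g r m := by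
    intro i m hi
    rw [← H3 (hub Zc) (isCoh_hub Zc) i m]
    have e2 := H2a _ (shortExact_cokernel p) (isCoh_hub Zc) hT hcQ i m
    have e3 := hD i m hi
    change h (CohB1.tensorMod (hub Zc) L) i m ≤ h (hub Zc) i m + h (cokernel p) i m
      at e2
    omega
  refine ⟨C0 + D, fun i m hi => ?_⟩
  have h1 := bound_of_step r D (fun m => h (hub Zc) i m) (fun m => step i m hi) m
  have h2 := hC0 i
  have h3 : 1 ≤ (m + 1) ^ r := Nat.one_le_pow _ _ (Nat.succ_pos m)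
  change h (hub Zc) i m ≤ (C0 + D) * (m + 1) ^ r
  calc h (hub Zc) i m ≤ h (hub Zc) i 0 + D * (m + 1) ^ r := h1
    _ ≤ C0 * (m + 1) ^ r + D * (m + 1) ^ r := by
        have : C0 ≤ C0 * (m + 1) ^ r := Nat.le_mul_of_pos_right _ h3
        omega
    _ = (C0 + D) * (m + 1) ^ r := by ring

include hL H0 H2a H2b H2b0 H3 H4 H6 in
/-- the atom case -/
theorem bdPos_atom (r : ℕ)
    (IH : ∀ G : X.Modules, Coh.IsCoh G →
      topologicalKrullDim ↥(CohB1.support G) ≤ (r : WithBot ℕ∞) → BdPos h d₀ r G)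
    {Zc : Closeds X} {C : X.Modules} (hat : IsAtomC Zc C) (hC : Coh.IsCoh C)
    (hdim : topologicalKrullDim ↥(Zc : Set X) ≤ ((r + 1 : ℕ) : WithBot ℕ∞)) :
    BdPos h d₀ (r + 1) C := by
  obtain ⟨p, hp⟩ := exists_mono_hub hat
  have := hp
  have : C.IsQuasicoherent := hC.1
  have hd := dim_support_cokernel_hub hat.1 p
    (Groth.Agent.Lib.H90DevFilt.not_isZero_of_isAtom hat.isAtom)
  obtain ⟨C1, hC1⟩ := bdPos_hub L H2a H3 H4 d₀ H6 r IH Zc hat.1 hdim
  have hck : Coh.IsCoh (cokernel p) :=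
    Groth.Agent.Lib.H90OXModExact.isCoh_cokernel p (isCoh_hub Zc)
  obtain ⟨D, hD⟩ := bd_of_dim L hL H0 H2a H2b H2b0 H3 H4 (cokernel p) hck r
    (le_of_add_one_le_succ (hd.trans hdim))
  refine ⟨D + C1, fun i m hi => ?_⟩
  obtain ⟨i, rfl⟩ : ∃ i', i = i' + 1 := ⟨i - 1, by omega⟩
  have e := H2b _ (shortExact_cokernel p) hC (isCoh_hub Zc) hck i m
  have e1 := hD i m
  have e2 := hC1 (i + 1) m hi
  change h C (i + 1) m ≤ h (cokernel p) i m + h (hub Zc) (i + 1) m at e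
  change h (hub Zc) (i + 1) m ≤ C1 * (m + 1) ^ r at e2
  change h C (i + 1) m ≤ (D + C1) * (m + 1) ^ r
  calc h C (i + 1) m ≤ D * (m + 1) ^ r + C1 * (m + 1) ^ r := by omega
    _ = (D + C1) * (m + 1) ^ r := by ring

include hL H0 H2a H2b H2b0 H3 H4 H6 in
/-- induction along a dévissage filtration -/
theorem bdPos_of_filt (r : ℕ)
    (IH : ∀ G : X.Modules, Coh.IsCoh G →
      topologicalKrullDim ↥(CohB1.support G) ≤ (r : WithBot ℕ∞) → BdPos h d₀ r G)
    {M : X.Modules} (hF : Filt IsAtomC' M) (hM : Coh.IsCoh M)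
    (hdim : topologicalKrullDim ↥(CohB1.support M) ≤ ((r + 1 : ℕ) : WithBot ℕ∞)) :
    BdPos h d₀ (r + 1) M := by
  induction hF with
  | zero M hz => exact bdPos_of_isZero H0 d₀ hz (r + 1)
  | step A B f hf hA hAc hB hat ih =>
    have := hf
    have : A.IsQuasicoherent := hAc.1
    obtain ⟨C1, hC1⟩ := ih hAc
      ((Groth.Agent.Lib.DimDrop.topologicalKrullDim_mono (support_subset_of_mono f)).trans hdim)
    obtain ⟨Zc, hat⟩ := hat
    have hcC : Coh.IsCoh (cokernel f) := Groth.Agent.Lib.H90OXModExact.isCoh_cokernel f hB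
    have hsub : (Zc : Set X) ⊆ CohB1.support B :=
      atomC_subset_of_support_subset hat (isClosed_support_of_isFT _ hB.2)
        (support_subset_of_epi (cokernel.π f))
    obtain ⟨C2, hC2⟩ := bdPos_atom L hL H0 H2a H2b H2b0 H3 H4 d₀ H6 r IH hat hcC
      ((Groth.Agent.Lib.DimDrop.topologicalKrullDim_mono hsub).trans hdim)
    refine ⟨C1 + C2, fun i m hi => ?_⟩
    have e := H2a _ (shortExact_cokernel f) hAc hB hcC i m
    have e1 := hC1 i m hi
    have e2 := hC2 i m hi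
    calc h B i m ≤ h A i m + h (cokernel f) i m := e
      _ ≤ C1 * g (r + 1) m + C2 * g (r + 1) m := Nat.add_le_add e1 e2
      _ = (C1 + C2) * g (r + 1) m := by ring

include hL H0 H2a H2b H2b0 H3 H4 H5 H6 in
/-- **Higher cohomology of twists by a module with one-sided steps grows one degree slower.** -/
theorem bdPos_of_dim (r : ℕ) :
    ∀ G : X.Modules, Coh.IsCoh G →
      topologicalKrullDim ↥(CohB1.support G) ≤ (r : WithBot ℕ∞) → BdPos h d₀ r G := by
  induction r with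
  | zero =>
    intro G hG hd
    refine ⟨0, fun i m hi => ?_⟩
    obtain ⟨i, rfl⟩ : ∃ i', i = i' + 1 := ⟨i - 1, by omega⟩
    rw [H5 G hG hd i m]
    exact Nat.zero_le _
  | succ r ih =>
    intro G hG hd
    exact bdPos_of_filt L hL H0 H2a H2b H2b0 H3 H4 d₀ H6 r ih (filt_atomC_of_isCoh hG) hG hd

end Groth.Agent.Lib.CohGrowthPos
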