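import Groth.Agent.Lib.Conormal81B

/-!
# The conormal sequence for smooth `p` is short exact (helper81)

`injective_psi` (ring level, via formal smoothness lifting to `C/J²`), `mono_of_injective_on_basis`,
`chart_injective`, `mono_conormalMap_of_smooth`, `conormal_sequence_shortExact`.
-/

set_option autoImplicit false
set_option linter.style.haveILetI false
set_option linter.unusedSectionVars false
universe u

open CategoryTheory AlgebraicGeometry TopologicalSpace Opposite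

namespace Groth.Agent.Lib.Conormal81

open Groth.Agent.Lib.OmegaDer81 Groth.Agent.Lib.QCohStalk Groth.Agent.Lib.IdealMod
  Groth.Agent.Lib.UnitBaseChange Groth.Agent.Lib.H90OXModSections

section ringInj

variable {C B A : Type*} [CommRing C] [CommRing B] [CommRing A] [Algebra C B] [Algebra B A]
  [Algebra C A] [IsScalarTower C B A]
  {MJ MI : Type*}
  [AddCommGroup MJ] [Module A MJ]
  [AddCommGroup MI] [Module A MI] [Module B MI] [IsScalarTower B A MI]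
  {T : Type*} [AddCommGroup T] [Module C T]

set_option maxHeartbeats 800000 in
/-- injectivity of `J ⊗ A → I ⊗ A` when `B` is formally smooth over `C` -/
theorem injective_psi [Algebra.FormallySmooth C B]
    (ιJ : T →ₗ[C] C) (hιinj : Function.Injective ιJ)
    (hιJ : ∀ t, algebraMap C A (ιJ t) = 0) (hιJ' : ∀ c, algebraMap C A c = 0 → ∃ t, ιJ t = c)
    (uJ : T →+ MJ) (huJ : ∀ (c : C) (t : T), uJ (c • t) = algebraMap C A c • uJ t)
    (hJ : Submodule.span A (Set.range uJ) = ⊤)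
    (hCA : Function.Surjective (algebraMap C A))
    (uI : RingHom.ker (algebraMap B A) →ₗ[B] MI) (hI : IsBaseChange A uI)
    (ψ : MJ →ₗ[A] MI)
    (hψ : ∀ (t : T) (x : RingHom.ker (algebraMap B A)),
      (x : B) = algebraMap C B (ιJ t) → ψ (uJ t) = uI x) :
    Function.Injective ψ := by
  letI : Module C MJ := Module.compHom MJ (algebraMap C A)
  haveI : IsScalarTower C A MJ := IsScalarTower.of_algebraMap_smul fun _ _ => rfl
  letI : Module B MJ := Module.compHom MJ (algebraMap B A)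
  haveI : IsScalarTower B A MJ := IsScalarTower.of_algebraMap_smul fun _ _ => rfl
  let J : Ideal C := RingHom.ker (algebraMap C A)
  -- `T ≃ J`
  let eJ : T ≃ₗ[C] J := LinearEquiv.ofBijective (ιJ.codRestrict J (fun t => hιJ t))
    ⟨fun a b h => hιinj (congrArg Subtype.val h), fun ⟨c, hc⟩ => by
      obtain ⟨t, ht⟩ := hιJ' c hc
      exact ⟨t, Subtype.ext ht⟩⟩
  have heJ : ∀ t, (eJ t : C) = ιJ t := fun _ => rfl
  let uJl : T →ₗ[C] MJ :=
    { toFun := uJ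
      map_add' := uJ.map_add
      map_smul' := fun c t => huJ c t }
  let θ₀ : J →ₗ[C] MJ := uJl ∘ₗ eJ.symm.toLinearMap
  have hθ₀ : (J • ⊤ : Submodule C J) ≤ LinearMap.ker θ₀ := by
    rw [Submodule.smul_le]
    intro r hr n _
    rw [LinearMap.mem_ker, map_smul]
    change algebraMap C A r • θ₀ n = 0
    rw [(RingHom.mem_ker).mp hr, zero_smul]
  let θc : J.Cotangent →ₗ[C] MJ := Submodule.liftQ (J • ⊤ : Submodule C J) θ₀ hθ₀
  have hθc : ∀ y : J, θc (J.toCotangent y) = θ₀ y := fun y => rfl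
  -- the lift `σ : B → C / J²`
  let g : C ⧸ J ^ 2 →ₐ[C] A := Ideal.Quotient.liftₐ (J ^ 2) (Algebra.ofId C A) (by
    intro a ha
    exact (RingHom.mem_ker).mp (Ideal.pow_le_self two_ne_zero ha))
  have hg_mk : ∀ c : C, g (Ideal.Quotient.mk (J ^ 2) c) = algebraMap C A c := fun c => rfl
  have hg : Function.Surjective g := by
    intro a
    obtain ⟨c, rfl⟩ := hCA a
    exact ⟨Ideal.Quotient.mk (J ^ 2) c, hg_mk c⟩
  have hker : RingHom.ker (g : C ⧸ J ^ 2 →+* A) = J.cotangentIdeal := by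
    ext q
    obtain ⟨c, rfl⟩ := Ideal.Quotient.mk_surjective q
    rw [RingHom.mem_ker, Ideal.mk_mem_cotangentIdeal]
    exact Iff.rfl
  have hg' : IsNilpotent (RingHom.ker (g : C ⧸ J ^ 2 →+* A)) :=
    ⟨2, by rw [hker, Ideal.cotangentIdeal_square]; rfl⟩
  let σ : B →ₐ[C] C ⧸ J ^ 2 :=
    Algebra.FormallySmooth.liftOfSurjective (IsScalarTower.toAlgHom C B A) g hg hg'
  have hσ : ∀ b : B, g (σ b) = algebraMap B A b := fun b =>
    Algebra.FormallySmooth.liftOfSurjective_apply _ g hg hg' b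
  have hmem : ∀ x : RingHom.ker (algebraMap B A), σ x ∈ J.cotangentIdeal := by
    intro x
    rw [← hker, RingHom.mem_ker]
    exact (hσ x).trans x.2
  -- the map `λ : I → MJ`
  let lam : RingHom.ker (algebraMap B A) →ₗ[B] MJ :=
    { toFun := fun x => θc (J.cotangentEquivIdeal.symm ⟨σ x, hmem x⟩)
      map_add' := by
        intro x y
        have : (⟨σ (x + y : RingHom.ker (algebraMap B A)), hmem (x + y)⟩ : J.cotangentIdeal) =
            ⟨σ x, hmem x⟩ + ⟨σ y, hmem y⟩ := Subtype.ext (map_add σ (x : B) (y : B))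
        rw [this, map_add, map_add]
      map_smul' := by
        intro b x
        obtain ⟨c, hc⟩ := Ideal.Quotient.mk_surjective (σ b)
        have h1 : (⟨σ (b • x : RingHom.ker (algebraMap B A)), hmem (b • x)⟩ : J.cotangentIdeal) =
            c • ⟨σ x, hmem x⟩ := by
          apply Subtype.ext
          change σ (b * (x : B)) = c • σ x
          rw [map_mul, ← hc, Algebra.smul_def]
          rfl
        have h2 : algebraMap C A c = algebraMap B A b := by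
          rw [← hσ b, ← hc]; rfl
        rw [h1, map_smul, map_smul, RingHom.id_apply]
        change algebraMap C A c • θc (J.cotangentEquivIdeal.symm ⟨σ x, hmem x⟩) =
          algebraMap B A b • θc (J.cotangentEquivIdeal.symm ⟨σ x, hmem x⟩)
        rw [h2] }
  let ρ : MI →ₗ[A] MJ := hI.lift lam
  have hρ : ∀ m : MJ, ρ (ψ m) = m := by
    intro m
    have hm : m ∈ Submodule.span A (Set.range uJ) := by rw [hJ]; trivial
    induction hm using Submodule.span_induction with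
    | mem y hy =>
      obtain ⟨t, rfl⟩ := hy
      have hx : algebraMap C B (ιJ t) ∈ RingHom.ker (algebraMap B A) := by
        rw [RingHom.mem_ker, ← IsScalarTower.algebraMap_apply]
        exact hιJ t
      rw [hψ t ⟨_, hx⟩ rfl, hI.lift_eq]
      change θc (J.cotangentEquivIdeal.symm ⟨σ (algebraMap C B (ιJ t)), _⟩) = uJ t
      have h3 : (⟨σ (algebraMap C B (ιJ t)), hmem ⟨_, hx⟩⟩ : J.cotangentIdeal) =
          ⟨(J ^ 2).mkQ (ιJ t), Submodule.mem_map_of_mem (hιJ t)⟩ := by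
        apply Subtype.ext
        change σ (algebraMap C B (ιJ t)) = _
        rw [AlgHom.commutes]
        rfl
      rw [h3, Ideal.cotangentEquivIdeal_symm_apply, hθc]
      change uJ (eJ.symm ⟨ιJ t, hιJ t⟩) = uJ t
      congr 1
      rw [LinearEquiv.symm_apply_eq]
      exact Subtype.ext (heJ t).symm
    | zero => rw [map_zero, map_zero]
    | add n₁ n₂ _ _ h₁ h₂ => rw [map_add, map_add, h₁, h₂]
    | smul a n _ hn => rw [map_smul, map_smul, hn]
  intro m m' h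
  rw [← hρ m, ← hρ m', h]

end ringInj


section monoBasis

variable {X : Scheme.{u}}

/-- A morphism of `O_X`-modules which is injective on sections over a basis is a monomorphism. -/
theorem mono_of_injective_on_basis {M N : X.Modules} (φ : M ⟶ N) {ι : Type*} (B : ι → X.Opens)
    (hB : ∀ (O : X.Opens) (z : X), z ∈ O → ∃ c : ι, z ∈ B c ∧ B c ≤ O)
    (h : ∀ c, Function.Injective (φ.app (B c))) : Mono φ := by
  have hall : ∀ U : X.Opens, Function.Injective (φ.app U) := by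
    intro U
    rw [injective_iff_map_eq_zero]
    intro s hs
    apply Groth.Agent.Lib.H90OXModQcqs.res_ext M U (fun c : {c : ι // B c ≤ U} => B c.1)
      (fun c => c.2)
    · intro x hx
      obtain ⟨c, hxc, hcU⟩ := hB U x hx
      exact Opens.mem_iSup.mpr ⟨⟨c, hcU⟩, hxc⟩
    · rintro ⟨c, hc⟩
      apply h c
      rw [hom_app_res', hs]
      have e1 : res N hc (0 : Γ(N, U)) = 0 := res_zero N hc
      have e2 : res M hc (0 : Γ(M, U)) = 0 := res_zero M hc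
      rw [e1, e2, map_zero]
  refine ⟨fun {K} ψ₁ ψ₂ hψ => ?_⟩
  apply Scheme.Modules.hom_ext
  intro U
  ext x
  apply hall U
  have := congrArg (fun χ => (Scheme.Modules.Hom.app χ U) x) hψ
  simpa using this

end monoBasis


section chartInj

variable {Z X Y : Scheme.{u}} (p : X ⟶ Y) (i : Z ⟶ X) (j : Z ⟶ Y)
  [IsImmersion i] [IsImmersion j] [QuasiCompact i] [QuasiCompact j]
  (ψ : (Scheme.Modules.pullback (𝟙 Z)).obj (Omega.conormal j) ⟶ Omega.conormal i)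

set_option backward.isDefEq.respectTransparency false in
set_option maxHeartbeats 1600000 in
theorem chart_injective [Smooth p] (hij : i ≫ p = j)
    (hψ : OmegaSh.IsConormalMap i j p (𝟙 Z) ψ)
    {UX : X.Opens} {UY : Y.Opens} (hX : IsGoodChart i UX) (hY : IsGoodChart j UY)
    (e : UX ≤ p ⁻¹ᵁ UY) (hW : i ⁻¹ᵁ UX = j ⁻¹ᵁ UY) :
    Function.Injective (ψ.app (i ⁻¹ᵁ UX)) := by
  subst hij
  have hWa : IsAffineOpen (i ⁻¹ᵁ UX) := hX.isAffineOpen_preimage
  have hWi : i ⁻¹ᵁ UX = i ⁻¹ᵁ UX := rfl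
  have hWj : (i ≫ p) ⁻¹ᵁ UY = i ⁻¹ᵁ UX := hW.symm
  have h1 : i ⁻¹ᵁ UX ≤ (𝟙 Z) ⁻¹ᵁ (i ⁻¹ᵁ UX) := le_rfl
  letI algCB : Algebra Γ(Y, UY) Γ(X, UX) := (p.appLE UY UX e).hom.toAlgebra
  letI algBA : Algebra Γ(X, UX) Γ(Z, i ⁻¹ᵁ UX) := (i.appLE UX (i ⁻¹ᵁ UX) hWi.ge).hom.toAlgebra
  letI algCA : Algebra Γ(Y, UY) Γ(Z, i ⁻¹ᵁ UX) :=
    ((i ≫ p).appLE UY (i ⁻¹ᵁ UX) hWj.ge).hom.toAlgebra
  haveI : IsScalarTower Γ(Y, UY) Γ(X, UX) Γ(Z, i ⁻¹ᵁ UX) := by
    apply IsScalarTower.of_algebraMap_eq'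
    have := Scheme.Hom.appLE_comp_appLE i p UY UX (i ⁻¹ᵁ UX) e hWi.ge
    exact congrArg CommRingCat.Hom.hom this.symm
  haveI : Algebra.FormallySmooth Γ(Y, UY) Γ(X, UX) := by
    have hsm : RingHom.Smooth (p.appLE UY UX e).hom :=
      HasRingHomProperty.appLE (P := @Smooth) p inferInstance ⟨UY, hY.1⟩ ⟨UX, hX.1⟩ e
    haveI : Algebra.Smooth Γ(Y, UY) Γ(X, UX) := hsm
    infer_instance
  letI : Module Γ(X, UX) Γ((Scheme.Modules.pullback i).obj (ClSub.idealMod i.ker), i ⁻¹ᵁ UX) :=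
    Module.compHom _ (i.appLE UX (i ⁻¹ᵁ UX) hWi.ge).hom
  haveI : IsScalarTower Γ(X, UX) Γ(Z, i ⁻¹ᵁ UX)
      Γ((Scheme.Modules.pullback i).obj (ClSub.idealMod i.ker), i ⁻¹ᵁ UX) :=
    .of_algebraMap_smul fun _ _ => rfl
  obtain ⟨uI, hI, huI⟩ := exists_uI i hX.1 hWa hWi
  have hJ := span_uJ (i ≫ p) hY.1 hWa hWj h1
  have hCA : Function.Surjective (algebraMap Γ(Y, UY) Γ(Z, i ⁻¹ᵁ UX)) :=
    appLE_surjective_of_eq (i ≫ p) hY.app_surjective hWj
  -- the `ψ`-compatibility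
  have hψ' : ∀ (t : Γ(ClSub.idealMod (i ≫ p).ker, UY))
      (x : RingHom.ker (algebraMap Γ(X, UX) Γ(Z, i ⁻¹ᵁ UX))),
      (x : Γ(X, UX)) = algebraMap Γ(Y, UY) Γ(X, UX) (idealFn (i ≫ p).ker UY t) →
      (appLin ψ (i ⁻¹ᵁ UX)) (unitSecFun (𝟙 Z)
        ((Scheme.Modules.pullback (i ≫ p)).obj (ClSub.idealMod (i ≫ p).ker)) h1
        (unitSecFun (i ≫ p) (ClSub.idealMod (i ≫ p).ker) hWj.ge t)) = uI x := by
    intro t x hx
    have hg : (i.app (p ⁻¹ᵁ UY)).hom ((p.app UY).hom (idealFn (i ≫ p).ker UY t)) = 0 := by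
      have h0 := idealFn_mem (i ≫ p).ker ⟨UY, hY.1⟩ t
      rw [Scheme.Hom.ker_apply, RingHom.mem_ker] at h0
      rw [Scheme.Hom.comp_app] at h0
      exact h0
    obtain ⟨s, hs⟩ := exists_idealFn_eq_of_app_eq_zero i (p ⁻¹ᵁ UY) _ hg
    have h₁ : i ⁻¹ᵁ UX ≤ (𝟙 Z) ⁻¹ᵁ ((i ≫ p) ⁻¹ᵁ UY) := hWj.ge
    have h₂ : i ⁻¹ᵁ UX ≤ i ⁻¹ᵁ (p ⁻¹ᵁ UY) := i.preimage_mono e
    have key := hψ.2 UY t s hs (i ⁻¹ᵁ UX) h₁ h₂
    have hL : (appLin ψ (i ⁻¹ᵁ UX)) (unitSecFun (𝟙 Z)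
        ((Scheme.Modules.pullback (i ≫ p)).obj (ClSub.idealMod (i ≫ p).ker)) h1
        (unitSecFun (i ≫ p) (ClSub.idealMod (i ≫ p).ker) hWj.ge t)) =
        (Omega.conormal i).presheaf.map (homOfLE h₁).op
          (ψ.app ((𝟙 Z) ⁻¹ᵁ ((i ≫ p) ⁻¹ᵁ UY))
            (OmegaSh.pullSect (𝟙 Z) (Omega.conormal (i ≫ p)) ((i ≫ p) ⁻¹ᵁ UY)
              (OmegaSh.conormalSect (i ≫ p) UY t))) := by
      rw [appLin_apply, unitSecFun_eq (i ≫ p), unitSecFun_res]
      exact hom_app_res' ψ h₁ _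
    rw [hL, key]
    have hs0 : idealFn i.ker UX (res (ClSub.idealMod i.ker) e s) = x := by
      rw [hx]
      have := idealFn_map i.ker e s
      rw [hs] at this
      exact this
    rw [huI (res (ClSub.idealMod i.ker) e s) x hs0.symm, unitSecFun_res]
    rfl
  have hιJ : ∀ t : Γ(ClSub.idealMod (i ≫ p).ker, UY),
      algebraMap Γ(Y, UY) Γ(Z, i ⁻¹ᵁ UX) (idealFn (i ≫ p).ker UY t) = 0 := fun t =>
    Groth.Agent.Lib.H77OmegaSections.idealFn_mem_ker' (i ≫ p) hY.1 hWj t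
  have hιJ' : ∀ c : Γ(Y, UY), algebraMap Γ(Y, UY) Γ(Z, i ⁻¹ᵁ UX) c = 0 →
      ∃ t : Γ(ClSub.idealMod (i ≫ p).ker, UY), idealFn (i ≫ p).ker UY t = c := by
    intro c hc
    refine ⟨(Groth.Agent.Lib.H77OmegaSections.idealSectionsEquiv' (i ≫ p) hY.1 hWj).symm ⟨c, hc⟩, ?_⟩
    exact congrArg Subtype.val
      ((Groth.Agent.Lib.H77OmegaSections.idealSectionsEquiv' (i ≫ p) hY.1 hWj).apply_symm_apply ⟨c, hc⟩)
  let ιJ : Γ(ClSub.idealMod (i ≫ p).ker, UY) →ₗ[Γ(Y, UY)] Γ(Y, UY) :=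
    { toFun := idealFn (i ≫ p).ker UY
      map_add' := fun s t => idealFn_add _ s t
      map_smul' := fun a s => idealFn_smul _ a s }
  let G := (Scheme.Modules.pullback (i ≫ p)).obj (ClSub.idealMod (i ≫ p).ker)
  let uJ : Γ(ClSub.idealMod (i ≫ p).ker, UY) →+ Γ((Scheme.Modules.pullback (𝟙 Z)).obj G, i ⁻¹ᵁ UX) :=
    AddMonoidHom.mk' (fun t => unitSecFun (𝟙 Z) G h1
        (unitSecFun (i ≫ p) (ClSub.idealMod (i ≫ p).ker) hWj.ge t)) (by
      intro a b
      have e1 : unitSecFun (i ≫ p) (ClSub.idealMod (i ≫ p).ker) hWj.ge (a + b) =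
          unitSecFun (i ≫ p) _ hWj.ge a + unitSecFun (i ≫ p) _ hWj.ge b :=
        map_add (unitSec (i ≫ p) (ClSub.idealMod (i ≫ p).ker) hWj.ge) a b
      rw [e1]
      exact map_add (unitSec (𝟙 Z) G h1) _ _)
  have huJ : ∀ (c : Γ(Y, UY)) (t : Γ(ClSub.idealMod (i ≫ p).ker, UY)),
      uJ (c • t) = algebraMap Γ(Y, UY) Γ(Z, i ⁻¹ᵁ UX) c • uJ t := by
    intro c t
    change unitSecFun (𝟙 Z) G h1 (unitSecFun (i ≫ p) _ hWj.ge (c • t)) = _
    rw [unitSecFun_smul, unitSecFun_smul,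
      Groth.Agent.Lib.H77OmegaSections.id_appLE_apply]
    rfl
  have hinj := injective_psi (C := Γ(Y, UY)) (B := Γ(X, UX)) (A := Γ(Z, i ⁻¹ᵁ UX))
    ιJ (idealFn_injective _ _) hιJ hιJ' uJ huJ hJ hCA uI hI (appLin ψ (i ⁻¹ᵁ UX)) hψ'
  exact hinj

end chartInj

section mainSmooth

variable {Z X Y : Scheme.{u}} (p : X ⟶ Y) (i : Z ⟶ X) (j : Z ⟶ Y)
  [IsImmersion i] [IsImmersion j] [QuasiCompact i] [QuasiCompact j]
  {Ω : X.Modules} (d : OmegaSh.Der p Ω)
  (ψ : (Scheme.Modules.pullback (𝟙 Z)).obj (Omega.conormal j) ⟶ Omega.conormal i)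
  (φ : Omega.conormal i ⟶ (Scheme.Modules.pullback i).obj Ω)

/-- the conormal map `C_{Z/Y} → C_{Z/X}` is a monomorphism when `p : X → Y` is smooth -/
theorem mono_conormalMap_of_smooth [Smooth p] (hij : i ≫ p = j)
    (hψ : OmegaSh.IsConormalMap i j p (𝟙 Z) ψ) : Mono ψ := by
  let ι := {c : X.Opens × Y.Opens // IsGoodChart i c.1 ∧ IsGoodChart j c.2 ∧ c.1 ≤ p ⁻¹ᵁ c.2 ∧
    i ⁻¹ᵁ c.1 = j ⁻¹ᵁ c.2}
  let B : ι → Z.Opens := fun c => i ⁻¹ᵁ c.1.1
  have hcharts : ∀ (O : Z.Opens) (z : Z), z ∈ O → ∃ c : ι, z ∈ B c ∧ B c ≤ O := by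
    intro O z hz
    obtain ⟨UX, UY, hX, hY, e, hW, hzW, hWO⟩ := exists_compatible_charts p i j hij z O hz
    exact ⟨⟨(UX, UY), hX, hY, e, hW⟩, hzW, hWO⟩
  exact mono_of_injective_on_basis ψ B hcharts
    (fun c => chart_injective p i j ψ hij hψ c.2.1 c.2.2.1 c.2.2.2.1 c.2.2.2.2)

/-- **For smooth `p` the conormal sequence `0 → C_{Z/Y} → C_{Z/X} → i^*Ω_{X/Y} → 0` is short exact.** -/
theorem conormal_sequence_shortExact [Smooth p] (hij : i ≫ p = j) (hd : OmegaSh.IsUniversal d)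
    (hψ : OmegaSh.IsConormalMap i j p (𝟙 Z) ψ) (hφ : OmegaSh.IsConormalDiff i d φ) :
    ∃ w : ψ ≫ φ = 0, (ShortComplex.mk ψ φ w).ShortExact := by
  obtain ⟨w, hex, hepi⟩ := conormal_sequence_exact p i j d ψ φ hij hd hψ hφ
  haveI : Mono ψ := mono_conormalMap_of_smooth p i j ψ hij hψ
  haveI : Epi φ := hepi
  exact ⟨w, { exact := hex, mono_f := inferInstanceAs (Mono ψ), epi_g := inferInstanceAs (Epi φ) }⟩

end mainSmooth

end Groth.Agent.Lib.Conormal81
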