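import Mathlib
import Groth.Agent.Lib.H90Invertible
import Groth.Agent.Lib.H90OXModQcqs
import Groth.Agent.Lib.Conormal81C
import Groth.Agent.Lib.ModStalkLin
import Groth.Agent.Lib.H90PushStalkLocal
import Groth.Agent.Lib.H90OXModExact
import Groth.Agent.Lib.H90InvertibleFP
import Groth.Agent.Lib.ModStalk

/-!
# Nonzero maps between invertible modules on an integral scheme (helper90, for K2a / helper54)

* `mono_of_ne_zero`: `X` integral, `N`, `L` invertible, `φ : N ⟶ L` nonzero ⇒ `φ` mono.
* `genericPoint_notMem_support_cokernel`: the cokernel vanishes at the generic point.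
* `isClosed_singleton_of_mem_support_cokernel`: if `dim X ≤ 1`, the support of the cokernel consists of closed points.
-/

set_option autoImplicit false
universe u

open CategoryTheory CategoryTheory.Limits AlgebraicGeometry TopologicalSpace Opposite
open AlgebraicGeometry.Scheme AlgebraicGeometry.Scheme.Modules

namespace Groth.Agent.Lib.H90InvMono

open Groth.Agent.Lib.H90Invertible Groth.Agent.Lib.QCohStalk

variable {X : Scheme.{u}} {N L : X.Modules}

theorem IsGen.self_bijective {W : X.Opens} {t : Γ(L, W)} (ht : IsGen L W t) :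
    Function.Bijective (fun a : Γ(X, W) => a • t) := by
  have h := ht W le_rfl
  have e : L.presheaf.map (homOfLE (le_refl W)).op t = t := by
    change L.presheaf.map (𝟙 _) t = t
    rw [L.presheaf.map_id]; rfl
  rwa [e] at h

theorem IsGen.smul_eq_zero_iff {W : X.Opens} {t : Γ(L, W)} (ht : IsGen L W t) (a : Γ(X, W)) :
    a • t = 0 ↔ a = 0 := by
  constructor
  · intro h
    apply (IsGen.self_bijective ht).1
    change a • t = (0 : Γ(X, W)) • t
    rw [h, zero_smul]
  · rintro rfl
    exact zero_smul _ _

theorem app_res {M M' : X.Modules} (φ : M ⟶ M') {V U : X.Opens} (h : V ≤ U) (s : Γ(M, U)) :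
    φ.app V (res M h s) = res M' h (φ.app U s) := by
  have := ConcreteCategory.congr_hom (φ.mapPresheaf.naturality (homOfLE h).op) s
  rw [ConcreteCategory.comp_apply, ConcreteCategory.comp_apply] at this
  exact this

/-- both modules are trivialised over `W` -/
def Triv (N L : X.Modules) (W : X.Opens) : Prop :=
  ∃ (s : Γ(N, W)) (t : Γ(L, W)), IsGen N W s ∧ IsGen L W t

theorem Triv.mono {W W' : X.Opens} (h : Triv N L W) (hle : W' ≤ W) : Triv N L W' := by
  obtain ⟨s, t, hs, ht⟩ := h
  exact ⟨_, _, hs.mono hle, ht.mono hle⟩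

theorem exists_triv (hN : PicF.IsInvertible N) (hL : PicF.IsInvertible L) (O : X.Opens) (z : X)
    (hz : z ∈ O) : ∃ W : X.Opens, z ∈ W ∧ W ≤ O ∧ Triv N L W := by
  obtain ⟨V₁, hz₁, s, hs⟩ := (isInvertible_iff_exists_isGen N).mp hN z
  obtain ⟨V₂, hz₂, t, ht⟩ := (isInvertible_iff_exists_isGen L).mp hL z
  refine ⟨V₁ ⊓ V₂ ⊓ O, ⟨⟨hz₁, hz₂⟩, hz⟩, inf_le_right, ?_⟩
  exact ⟨_, _, hs.mono (inf_le_left.trans inf_le_left), ht.mono (inf_le_left.trans inf_le_right)⟩

/-- if `φ` kills a generator over a nonempty open, it vanishes on every trivialising open -/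
theorem app_eq_zero_of_triv [IsIntegral X] (φ : N ⟶ L) {W₀ W' : X.Opens} (s₀ : Γ(N, W₀))
    (hs₀ : IsGen N W₀ s₀) (hne : (W₀ : Set X).Nonempty) (h0 : φ.app W₀ s₀ = 0)
    (hW' : Triv N L W') (n : Γ(N, W')) : φ.app W' n = 0 := by
  obtain ⟨s', t', hs', ht'⟩ := hW'
  obtain ⟨c, hc⟩ := (IsGen.self_bijective ht').2 (φ.app W' n)
  change c • t' = φ.app W' n at hc
  suffices c = 0 by rw [← hc, this, zero_smul]
  by_cases hW'e : (W' : Set X).Nonempty
  · have hne' : ((W' ⊓ W₀ : X.Opens) : Set X).Nonempty :=
      nonempty_preirreducible_inter W'.isOpen W₀.isOpen hW'e hne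
    haveI : Nonempty (W' ⊓ W₀ : X.Opens) := hne'.to_subtype
    apply map_injective_of_isIntegral X (homOfLE (inf_le_left : W' ⊓ W₀ ≤ W'))
    rw [map_zero]
    rw [← IsGen.smul_eq_zero_iff (ht'.mono (inf_le_left : W' ⊓ W₀ ≤ W'))]
    have h1 : (X.presheaf.map (homOfLE (inf_le_left : W' ⊓ W₀ ≤ W')).op c) •
        L.presheaf.map (homOfLE (inf_le_left : W' ⊓ W₀ ≤ W')).op t' =
        res L inf_le_left (c • t') := (res_smul L inf_le_left c t').symm
    rw [h1, hc, ← app_res]
    -- `n|_{W''}` is a multiple of `s₀|_{W''}`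
    obtain ⟨d, hd⟩ := (IsGen.self_bijective (hs₀.mono (inf_le_right : W' ⊓ W₀ ≤ W₀))).2
      (res N inf_le_left n)
    change d • N.presheaf.map (homOfLE (inf_le_right : W' ⊓ W₀ ≤ W₀)).op s₀ = res N inf_le_left n at hd
    rw [← hd, Hom.app_smul]
    have h2 : φ.app (W' ⊓ W₀) (N.presheaf.map (homOfLE (inf_le_right : W' ⊓ W₀ ≤ W₀)).op s₀) =
        res L inf_le_right (φ.app W₀ s₀) := app_res φ inf_le_right s₀
    rw [h2, h0, res_zero, smul_zero]
  · have hbot : W' = ⊥ := by
      rw [← Opens.not_nonempty_iff_eq_bot]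
      exact hW'e
    subst hbot
    exact Subsingleton.elim _ _

/-- if `φ` kills a generator over a nonempty open then `φ = 0` -/
theorem eq_zero_of_app_gen_eq_zero [IsIntegral X] (hN : PicF.IsInvertible N)
    (hL : PicF.IsInvertible L) (φ : N ⟶ L) {W₀ : X.Opens} (s₀ : Γ(N, W₀))
    (hs₀ : IsGen N W₀ s₀) (hne : (W₀ : Set X).Nonempty) (h0 : φ.app W₀ s₀ = 0) : φ = 0 := by
  apply Scheme.Modules.hom_ext
  intro U
  ext n
  change φ.app U n = 0
  apply Groth.Agent.Lib.H90OXModQcqs.res_ext L U
    (fun W : {W : X.Opens // W ≤ U ∧ Triv N L W} => W.1) (fun W => W.2.1)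
  · intro z hz
    obtain ⟨W, hzW, hWU, hW⟩ := exists_triv hN hL U z hz
    exact Opens.mem_iSup.mpr ⟨⟨W, hWU, hW⟩, hzW⟩
  · intro W
    rw [res_zero, ← app_res]
    exact app_eq_zero_of_triv φ s₀ hs₀ hne h0 W.2.2 _

theorem injective_app_of_triv [IsIntegral X] (hN : PicF.IsInvertible N)
    (hL : PicF.IsInvertible L) (φ : N ⟶ L) (hφ : φ ≠ 0) {W : X.Opens} (hW : Triv N L W) :
    Function.Injective (φ.app W) := by
  obtain ⟨s, t, hs, ht⟩ := hW
  rw [injective_iff_map_eq_zero]
  intro n hn
  obtain ⟨b, hb⟩ := (IsGen.self_bijective hs).2 n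
  change b • s = n at hb
  suffices b = 0 by rw [← hb, this, zero_smul]
  by_cases hWe : (W : Set X).Nonempty
  · haveI : Nonempty W := hWe.to_subtype
    obtain ⟨a, ha⟩ := (IsGen.self_bijective ht).2 (φ.app W s)
    change a • t = φ.app W s at ha
    have ha0 : a ≠ 0 := by
      rintro rfl
      rw [zero_smul] at ha
      exact hφ (eq_zero_of_app_gen_eq_zero hN hL φ s hs hWe ha.symm)
    rw [← hb, Hom.app_smul, ← ha, smul_smul, IsGen.smul_eq_zero_iff ht] at hn
    exact (mul_eq_zero.mp hn).resolve_right ha0
  · have hbot : W = ⊥ := by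
      rw [← Opens.not_nonempty_iff_eq_bot]
      exact hWe
    subst hbot
    exact Subsingleton.elim _ _

/-- **A nonzero morphism between invertible modules on an integral scheme is a monomorphism.** -/
theorem mono_of_ne_zero [IsIntegral X] (hN : PicF.IsInvertible N) (hL : PicF.IsInvertible L)
    (φ : N ⟶ L) (hφ : φ ≠ 0) : Mono φ :=
  Groth.Agent.Lib.Conormal81.mono_of_injective_on_basis φ
    (fun W : {W : X.Opens // Triv N L W} => W.1)
    (fun O z hz => by
      obtain ⟨W, hzW, hWO, hW⟩ := exists_triv hN hL O z hz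
      exact ⟨⟨W, hW⟩, hzW, hWO⟩)
    (fun W => injective_app_of_triv hN hL φ hφ W.2)

open Groth.Agent.Lib.ModStalkLin Groth.Agent.Lib.H90PushStalkLocal in
/-- at the generic point a nonzero map of invertible modules is surjective on stalks -/
theorem stalkLin_genericPoint_surjective [IsIntegral X] (hN : PicF.IsInvertible N)
    (hL : PicF.IsInvertible L) (φ : N ⟶ L) (hφ : φ ≠ 0) :
    Function.Surjective (stalkLin φ (genericPoint X)) := by
  haveI := mono_of_ne_zero hN hL φ hφ
  have hinj := stalkLin_injective_of_mono φ (genericPoint X)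
  obtain ⟨m, hm⟩ := exists_stalk_bijective_of_isInvertible hN (genericPoint X)
  obtain ⟨l, hl⟩ := exists_stalk_bijective_of_isInvertible hL (genericPoint X)
  obtain ⟨a, ha⟩ := hl.2 (stalkLin φ (genericPoint X) m)
  change a • l = stalkLin φ (genericPoint X) m at ha
  have hK : IsField (X.presheaf.stalk (genericPoint X)) :=
    (inferInstance : Field X.functionField).toIsField
  have ha0 : a ≠ 0 := by
    rintro rfl
    rw [zero_smul] at ha
    have h1 : m = 0 := hinj (by rw [← ha, map_zero])
    have h2 : (1 : X.presheaf.stalk (genericPoint X)) = 0 := hm.1 (by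
      change (1 : X.presheaf.stalk (genericPoint X)) • m = (0 : X.presheaf.stalk (genericPoint X)) • m
      rw [h1, smul_zero, smul_zero])
    exact hK.nontrivial.exists_pair_ne.elim fun x hx => hx.elim fun y hxy => hxy (by
      rw [← mul_one x, ← mul_one y, h2, mul_zero, mul_zero])
  obtain ⟨b, hb⟩ := hK.mul_inv_cancel ha0
  intro y
  obtain ⟨c, hc⟩ := hl.2 y
  change c • l = y at hc
  refine ⟨(c * b) • m, ?_⟩
  rw [LinearMap.map_smul, ← ha, smul_smul, mul_assoc, mul_comm b a, hb, mul_one, hc]

open Groth.Agent.Lib.ModStalkLin in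
/-- **the cokernel of a nonzero map of invertible modules on an integral scheme vanishes at the generic
point** -/
theorem genericPoint_notMem_support_cokernel [IsIntegral X] (hN : PicF.IsInvertible N)
    (hL : PicF.IsInvertible L) (φ : N ⟶ L) (hφ : φ ≠ 0) :
    genericPoint X ∉ CohB1.support (cokernel φ) := by
  intro h
  apply h
  have hs := stalkLin_genericPoint_surjective hN hL φ hφ
  have hπ := stalkLin_surjective_of_epi (cokernel.π φ) (genericPoint X)
  refine ⟨fun x y => ?_⟩
  have key : ∀ z : (cokernel φ).presheaf.stalk (genericPoint X), z = 0 := by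
    intro z
    obtain ⟨l, rfl⟩ := hπ z
    obtain ⟨n, rfl⟩ := hs l
    have : (stalkLin (cokernel.π φ) (genericPoint X)).comp (stalkLin φ (genericPoint X)) = 0 := by
      rw [← stalkLin_comp, cokernel.condition]
      ext w
      change (Groth.Agent.Lib.ModStalk.stalkFunctor (genericPoint X)).map (0 : N ⟶ cokernel φ) w = 0
      rw [Functor.map_zero]
      rfl
    exact LinearMap.congr_fun this n
  rw [key x, key y]

/-- in an irreducible T0 space of Krull dimension `≤ 1`, a closed set missing the generic point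
consists of closed points -/
theorem isClosed_singleton_of_dim_le_one {α : Type*} [TopologicalSpace α] [T0Space α]
    (hdim : topologicalKrullDim α ≤ 1) {Z : Set α} (hZ : IsClosed Z) (ξ : α)
    (hξ : closure ({ξ} : Set α) = Set.univ) (hξZ : ξ ∉ Z) (x : α) (hx : x ∈ Z) :
    IsClosed ({x} : Set α) := by
  by_contra hcl
  have hne : closure ({x} : Set α) ≠ {x} := fun h => hcl (h ▸ isClosed_closure)
  obtain ⟨y, hy, hyx⟩ : ∃ y ∈ closure ({x} : Set α), y ≠ x := by
    by_contra hcon
    push Not at hcon
    apply hne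
    apply Set.Subset.antisymm
    · intro y hy
      rw [Set.mem_singleton_iff]
      exact hcon y hy
    · exact subset_closure
  let C : α → IrreducibleCloseds α := fun z =>
    ⟨closure {z}, isIrreducible_singleton.closure, isClosed_closure⟩
  let T : IrreducibleCloseds α := ⟨Set.univ, by
    rw [← hξ]; exact isIrreducible_singleton.closure, isClosed_univ⟩
  have h1 : C y < C x := by
    refine lt_of_le_of_ne ?_ ?_
    · change closure {y} ⊆ closure {x}
      exact closure_minimal (Set.singleton_subset_iff.mpr hy) isClosed_closure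
    · intro h
      have h' : closure ({y} : Set α) = closure {x} := congrArg (fun D : IrreducibleCloseds α => D.carrier) h
      exact hyx ((inseparable_iff_closure_eq.mpr h').eq)
  have h2 : C x < T := by
    refine lt_of_le_of_ne ?_ ?_
    · change closure {x} ⊆ Set.univ
      exact Set.subset_univ _
    · intro h
      have h' : closure ({x} : Set α) = Set.univ := congrArg (fun D : IrreducibleCloseds α => D.carrier) h
      have : ξ ∈ closure ({x} : Set α) := by rw [h']; trivial
      exact hξZ (closure_minimal (Set.singleton_subset_iff.mpr hx) hZ this)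
  let p : LTSeries (IrreducibleCloseds α) :=
    { length := 2
      toFun := ![C y, C x, T]
      step := by
        intro i
        fin_cases i
        · exact h1
        · exact h2 }
  have hp : (2 : WithBot ℕ∞) ≤ topologicalKrullDim α := by
    have := Order.LTSeries.length_le_krullDim p
    exact_mod_cast this
  have : (2 : WithBot ℕ∞) ≤ 1 := hp.trans hdim
  exact absurd this (by decide)

/-- **the support of the cokernel of a nonzero map of invertible modules on an integral scheme of dimension
`≤ 1` consists of closed points** (hypothesis form of `Groth.Agent.S0047.result`) -/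
theorem isClosed_singleton_of_mem_support_cokernel [IsIntegral X] (hdim : topologicalKrullDim X ≤ 1)
    (hN : PicF.IsInvertible N) (hL : PicF.IsInvertible L) (φ : N ⟶ L) (hφ : φ ≠ 0)
    (hcl : IsClosed (CohB1.support (cokernel φ))) :
    ∀ x ∈ CohB1.support (cokernel φ), IsClosed ({x} : Set X) := fun x hx =>
  isClosed_singleton_of_dim_le_one hdim hcl (genericPoint X) (genericPoint_closure X)
    (genericPoint_notMem_support_cokernel hN hL φ hφ) x hx

/-- the cokernel of a map of invertible modules is coherent -/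
theorem isCoh_cokernel_of_isInvertible (hN : PicF.IsInvertible N) (hL : PicF.IsInvertible L)
    (φ : N ⟶ L) : Coh.IsCoh (cokernel φ) := by
  haveI : N.IsQuasicoherent := (isCoh_of_isInvertible hN).1
  exact Groth.Agent.Lib.H90OXModExact.isCoh_cokernel φ (isCoh_of_isInvertible hL)

/-- packaged form: no closedness hypothesis -/
theorem isClosed_singleton_of_mem_support_cokernel' [IsIntegral X] (hdim : topologicalKrullDim X ≤ 1)
    (hN : PicF.IsInvertible N) (hL : PicF.IsInvertible L) (φ : N ⟶ L) (hφ : φ ≠ 0) :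
    ∀ x ∈ CohB1.support (cokernel φ), IsClosed ({x} : Set X) :=
  isClosed_singleton_of_mem_support_cokernel hdim hN hL φ hφ
    (Groth.Agent.Lib.ModStalk.isClosed_support_of_isFT _ (isCoh_cokernel_of_isInvertible hN hL φ).2)

end Groth.Agent.Lib.H90InvMono
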