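import Groth.Agent.Lib.CohGrowthPos
import Groth.Agent.Lib.CohGrowthHH
import Groth.Agent.Lib.H78GlobGen
import Groth.Agent.Lib.H78PullSec2
import Groth.Agent.Lib.H90QCohLocalization
import Groth.Agent.Lib.H90InvMono
import Groth.Agent.Lib.InvMap54b
import Groth.Agent.Lib.SuppVanish49
import Groth.Agent.Lib.FreeModStalk

/-!
# Higher cohomology of powers of a globally generated invertible module (helper10)

`X` proper over a field, `L` invertible and globally generated, `F` coherent with `dim Supp F ≤ r`: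
`dim_k H^(i+1)(X, F ⊗ L^m) ≤ C * g r m` (`exists_bound_pos`), i.e. `O(m^(r-1))`.

The geometric input (`exists_one_sided_step`): for `Z ⊆ X` irreducible closed there is a section of `L`
not vanishing at the generic point of `Z`; multiplication by it is a monomorphism
`hub Z ⟶ hub Z ⊗ L` with cokernel supported in dimension `< dim Z`.
-/

set_option autoImplicit false
set_option linter.style.haveILetI false
universe u

open CategoryTheory CategoryTheory.Limits AlgebraicGeometry TopologicalSpace Opposite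

namespace Groth.Agent.Lib.CohGrowthPosHH

open Groth.Agent.Lib.H90DevCanon Groth.Agent.Lib.H90DevHub Groth.Agent.Lib.H90DevHub2
  Groth.Agent.Lib.ModStalkLin Groth.Agent.Lib.ModStalk Groth.Agent.Lib.H90DevTwo
  Groth.Agent.Lib.H90DevTwo2 Groth.Agent.Lib.PushStalk Groth.Agent.Lib.H90SnapGeom

variable {X : Scheme.{u}}

/-- the cokernel of a section vanishes on the locus where the section generates -/
theorem notMem_support_cokernel_of_mem_genLocus {P : X.Modules} (s : Coh.structureModule X ⟶ P)
    (y : X) (hy : y ∈ CohB1.genLocus P s) : y ∉ CohB1.support (cokernel s) := by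
  unfold CohB1.genLocus at hy
  obtain ⟨U, hU, hyU⟩ : ∃ U : X.Opens,
      IsIso ((Scheme.Modules.restrictFunctor U.ι).map s) ∧ y ∈ U := Opens.mem_sSup.1 hy
  have h := ((Groth.Agent.Lib.H90QCohLocalization.isIso_restrict_map_iff s U).1 hU).2
  exact fun hs => h hs hyU

/-- a section generating somewhere a module that is nonzero there is nonzero -/
theorem ne_zero_of_mem_genLocus {P : X.Modules} (s : Coh.structureModule X ⟶ P)
    (y : X) (hy : y ∈ CohB1.genLocus P s) : s ≠ 0 := by
  intro h0
  unfold CohB1.genLocus at hy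
  obtain ⟨U, hU', hyU⟩ : ∃ U : X.Opens,
      IsIso ((Scheme.Modules.restrictFunctor U.ι).map s) ∧ y ∈ U := Opens.mem_sSup.1 hy
  rw [h0, Functor.map_zero] at hU'
  have hz : IsZero ((Scheme.Modules.restrictFunctor U.ι).obj (Coh.structureModule X)) := by
    rw [IsZero.iff_id_eq_zero]
    exact ((isIsoZeroEquiv _ _).1 hU').1
  have hsub := (Groth.Agent.Lib.H90QCohLocalization.isZero_restrict_iff _ U).1 hz
  have hmem : y ∈ CohB1.support (Coh.structureModule X) := by
    intro hs
    have : Subsingleton (X.presheaf.stalk y) :=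
      (Groth.Agent.Lib.FreeModStalk.unitStalkEquiv y).toEquiv.subsingleton
    exact not_subsingleton (X.presheaf.stalk y) this
  exact hsub hmem hyU

/-- **Geometric step from a section.**  For an invertible `L` with a section `s` generating `L` at
the generic point of the irreducible closed `Zc`, there is a monomorphism `hub Zc ⟶ hub Zc ⊗ L` whose
cokernel is supported on `Zc` outside the locus where `s` generates `L`. -/
theorem exists_section_step [AlgebraicGeometry.IsNoetherian X] (Zc : Closeds X)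
    (hirr : IsIrreducible (Zc : Set X)) (L : X.Modules) (hL : PicF.IsInvertible L)
    (s : Coh.structureModule X ⟶ L)
    (hs : ∀ ξ : X, closure {ξ} = (Zc : Set X) → ξ ∈ CohB1.genLocus L s) :
    ∃ p : hub Zc ⟶ CohB1.tensorMod (hub Zc) L, Mono p ∧ Coh.IsCoh (CohB1.tensorMod (hub Zc) L) ∧
      Coh.IsCoh (cokernel p) ∧
      CohB1.support (cokernel p) ⊆ (Zc : Set X) \ (CohB1.genLocus L s : Set X) := by
  haveI : IsIntegral (ZZ Zc) := Groth.Agent.Lib.H90DevAtom.isIntegral_subscheme Zc hirr
  haveI : IsLocallyNoetherian (ZZ Zc) := LocallyOfFiniteType.isLocallyNoetherian (iZ Zc)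
  let i := iZ Zc
  let N₀ : (ZZ Zc).Modules := (Scheme.Modules.pullback i).obj L
  have hN₀ : PicF.IsInvertible N₀ := Groth.Agent.Lib.H90Invertible.isInvertible_pullback i hL
  let N : (ZZ Zc).Modules := CohB1.tensorMod (Coh.structureModule (ZZ Zc)) N₀
  have hN : PicF.IsInvertible N :=
    Groth.Agent.Lib.H90Invertible.isInvertible_of_iso (Groth.Agent.Lib.OXModTensor.leftUnitor N₀).symm hN₀
  have hOZ : PicF.IsInvertible (Coh.structureModule (ZZ Zc)) :=
    Groth.Agent.Lib.H90Invertible.isInvertible_structureModule _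
  let z : ZZ Zc := genericPoint (ZZ Zc)
  have hind : Topology.IsInducing i.base := i.isEmbedding.isInducing
  have hξ : closure {i z} = (Zc : Set X) := by
    rw [← range_iZ Zc]
    exact isGenericPoint_image_genericPoint i
  let e0 : Coh.structureModule (ZZ Zc) ≅ (Scheme.Modules.pullback i).obj (Coh.structureModule X) :=
    (Groth.Agent.Lib.H78PullSec.unitIso i).symm
  let sZ : Coh.structureModule (ZZ Zc) ⟶ N₀ := e0.hom ≫ (Scheme.Modules.pullback i).map s
  have hgl : CohB1.genLocus N₀ sZ = i ⁻¹ᵁ CohB1.genLocus L s :=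
    Groth.Agent.Lib.H78PullSec.genLocus_pullback_map i L hL s e0
  have hz : z ∈ CohB1.genLocus N₀ sZ := by rw [hgl]; exact hs (i z) hξ
  have hsZ0 : sZ ≠ 0 := ne_zero_of_mem_genLocus sZ z hz
  let b : Coh.structureModule (ZZ Zc) ⟶ N := sZ ≫ (Groth.Agent.Lib.OXModTensor.leftUnitor N₀).inv
  have hb0 : b ≠ 0 := by
    intro h0
    apply hsZ0
    have : sZ = b ≫ (Groth.Agent.Lib.OXModTensor.leftUnitor N₀).hom := by
      simp only [b, Category.assoc, Iso.inv_hom_id, Category.comp_id]
    rw [this, h0, zero_comp]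
  haveI hbm : Mono b := Groth.Agent.Lib.H90InvMono.mono_of_ne_zero hOZ hN b hb0
  have hbs : ∀ z' : ZZ Zc, z' ∈ CohB1.genLocus N₀ sZ → Function.Surjective (stalkLin b z') := by
    intro z' hz'
    have hsZs : Function.Surjective (stalkLin sZ z') :=
      (Groth.Agent.Lib.InvMap54.not_mem_support_cokernel_iff sZ z').1
        (notMem_support_cokernel_of_mem_genLocus sZ z' hz')
    have : stalkLin b z' = (stalkLin (Groth.Agent.Lib.OXModTensor.leftUnitor N₀).inv z').comp
        (stalkLin sZ z') := stalkLin_comp sZ _ z'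
    rw [this]
    exact (stalkLin_surjective_of_epi _ z').comp hsZs
  let e := Groth.Agent.Lib.ProjFormulaInv.projIso i (Coh.structureModule (ZZ Zc)) L hL
  let pb₀ : hub Zc ⟶ (Scheme.Modules.pushforward i).obj N := (Scheme.Modules.pushforward i).map b
  let pb : hub Zc ⟶ CohB1.tensorMod (hub Zc) L := pb₀ ≫ e.inv
  haveI : Mono pb₀ := inferInstance
  haveI : Mono pb := mono_comp _ _
  have hsb' : ∀ z' : ZZ Zc, z' ∈ CohB1.genLocus N₀ sZ → Function.Surjective (stalkLin pb (i z')) := by
    intro z' hz'
    have hsb₀ : Function.Surjective (stalkLin pb₀ (i z')) :=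
      surjective_stalkLin_pushforward i hind b z' (hbs z' hz')
    have : stalkLin pb (i z') = (stalkLin e.inv (i z')).comp (stalkLin pb₀ (i z')) :=
      stalkLin_comp pb₀ e.inv (i z')
    rw [this]
    exact (stalkLin_surjective_of_epi e.inv (i z')).comp hsb₀
  have hT : Coh.IsCoh (CohB1.tensorMod (hub Zc) L) := by
    refine Groth.Agent.Lib.H90CohRestrict.isCoh_of_iso e.symm ?_
    refine Groth.Agent.Lib.H90OXModPushFinite.isCoh_pushforward (iZ Zc) _ ?_
    exact Groth.Agent.Lib.H90Invertible.isCoh_of_isInvertible hN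
  haveI : (hub Zc).IsQuasicoherent := (isCoh_hub Zc).1
  have hcb : Coh.IsCoh (cokernel pb) := Groth.Agent.Lib.H90OXModExact.isCoh_cokernel pb hT
  refine ⟨pb, inferInstance, hT, hcb, fun y hy => ⟨?_, fun hyU => ?_⟩⟩
  · have h1 : CohB1.support (cokernel pb) ⊆ (Zc : Set X) := by
      refine (support_subset_of_epi (cokernel.π pb)).trans ?_
      refine (support_subset_of_epi e.inv).trans ?_
      rw [← range_iZ Zc]
      exact support_push_subset i N
    exact h1 hy
  · have hyZ : y ∈ Set.range i.base := by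
      rw [range_iZ Zc]
      have h1 : CohB1.support (cokernel pb) ⊆ (Zc : Set X) := by
        refine (support_subset_of_epi (cokernel.π pb)).trans ?_
        refine (support_subset_of_epi e.inv).trans ?_
        rw [← range_iZ Zc]
        exact support_push_subset i N
      exact h1 hy
    obtain ⟨z', rfl⟩ := hyZ
    have hz' : z' ∈ CohB1.genLocus N₀ sZ := by rw [hgl]; exact hyU
    exact notMem_support_cokernel_of_surjective pb (i z') (hsb' z' hz') hy

/-- **One-sided geometric step from a section** generating `L` at the generic point `ξ` of `Zc`. -/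
theorem exists_one_sided_step_of_section [AlgebraicGeometry.IsNoetherian X] (Zc : Closeds X)
    (hirr : IsIrreducible (Zc : Set X)) (L : X.Modules) (hL : PicF.IsInvertible L)
    (s : Coh.structureModule X ⟶ L) (ξ : X) (hξ : IsGenericPoint ξ (Zc : Set X))
    (hs : ξ ∈ CohB1.genLocus L s) :
    ∃ p : hub Zc ⟶ CohB1.tensorMod (hub Zc) L, Mono p ∧ Coh.IsCoh (CohB1.tensorMod (hub Zc) L) ∧
      Coh.IsCoh (cokernel p) ∧
      topologicalKrullDim ↥(CohB1.support (cokernel p)) + 1 ≤ topologicalKrullDim ↥(Zc : Set X) := by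
  have hξ' : closure {ξ} = (Zc : Set X) := hξ.def
  have hξZ : ξ ∈ (Zc : Set X) := by rw [← hξ']; exact subset_closure rfl
  obtain ⟨p, hp, hT, hcb, hsupp⟩ := exists_section_step Zc hirr L hL s (fun ξ' hξ'' => by
      have h1 : IsGenericPoint ξ' (Zc : Set X) := hξ''
      have : ξ' = ξ := h1.eq hξ
      rw [this]; exact hs)
  refine ⟨p, hp, hT, hcb, ?_⟩
  refine Groth.Agent.Lib.DimDrop.topologicalKrullDim_add_one_le_of_ssubset
    (isClosed_support_of_isFT _ hcb.2) hirr (fun y hy => (hsupp hy).1) ?_
  intro h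
  have : ξ ∈ CohB1.support (cokernel p) := h ▸ hξZ
  exact (hsupp this).2 hs

/-- **One-sided geometric step.**  For a globally generated invertible `L` and an irreducible closed
`Zc`, there is a monomorphism `hub Zc ⟶ hub Zc ⊗ L` whose cokernel has support of smaller dimension. -/
theorem exists_one_sided_step [AlgebraicGeometry.IsNoetherian X] (Zc : Closeds X)
    (hirr : IsIrreducible (Zc : Set X)) (L : X.Modules) (hL : PicF.IsInvertible L)
    (hg : Curv2.IsGloballyGenerated L) :
    ∃ p : hub Zc ⟶ CohB1.tensorMod (hub Zc) L, Mono p ∧ Coh.IsCoh (CohB1.tensorMod (hub Zc) L) ∧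
      Coh.IsCoh (cokernel p) ∧
      topologicalKrullDim ↥(CohB1.support (cokernel p)) + 1 ≤ topologicalKrullDim ↥(Zc : Set X) := by
  obtain ⟨ξ, hξ⟩ := QuasiSober.sober hirr Zc.isClosed
  obtain ⟨τ, hτ⟩ := Groth.Agent.Lib.H78GlobGen.exists_sec_mem_genLocus hL hg ξ
  exact exists_one_sided_step_of_section Zc hirr L hL _ ξ hξ hτ

section Proper

open Groth.Agent.Lib.CohGrowthHH Groth.Agent.Lib.CohGrowth CohB1

variable (k : Type u) [Field k]
  [X.Over (Spec (CommRingCat.of k))] [IsProper (X ↘ Spec (CommRingCat.of k))]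

/-- higher cohomology of twists of a module with zero-dimensional support vanishes -/
theorem tw_succ_eq_zero_of_dim_le_zero [AlgebraicGeometry.IsNoetherian X] {L : X.Modules}
    (hL : PicF.IsInvertible L) {G : X.Modules} (hG : Coh.IsCoh G)
    (hd : topologicalKrullDim ↥(CohB1.support G) ≤ ((0 : ℕ) : WithBot ℕ∞)) (i m : ℕ) :
    tw k L G (i + 1) m = 0 := by
  have hP := Groth.Agent.Lib.H90Invertible.isCoh_of_isInvertible
    (Groth.Agent.Lib.OXModRestrict.isInvertible_tensorPow hL m)
  have hsub : CohB1.support (tensorMod G (tensorPow L m)) ⊆ CohB1.support G := by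
    haveI := hG.1
    haveI := hG.2
    haveI := hP.1
    haveI := hP.2
    rw [Groth.Agent.Lib.SupportTensor.support_tensorMod]
    exact Set.inter_subset_left
  have := Groth.Agent.Lib.SuppVanish49.subsingleton_HH_of_support_dim_le
    (tensorMod G (tensorPow L m)) (CohB1.support G) (isClosed_support_of_isFT _ hG.2) hsub 0
    (by exact_mod_cast hd) (i + 1) (Nat.succ_pos i)
  exact Module.finrank_zero_of_subsingleton

/-- cohomology of twists of a module above the dimension of its support vanishes -/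
theorem tw_eq_zero_of_dim_lt [AlgebraicGeometry.IsNoetherian X] {L : X.Modules}
    (hL : PicF.IsInvertible L) {G : X.Modules} (hG : Coh.IsCoh G) (Z : Set X) (hZ : IsClosed Z)
    (hGZ : CohB1.support G ⊆ Z) (d₀ : ℕ)
    (hd : topologicalKrullDim ↥Z ≤ (d₀ : WithBot ℕ∞)) (i m : ℕ) (hi : d₀ < i) :
    tw k L G i m = 0 := by
  have hP := Groth.Agent.Lib.H90Invertible.isCoh_of_isInvertible
    (Groth.Agent.Lib.OXModRestrict.isInvertible_tensorPow hL m)
  have hsub : CohB1.support (tensorMod G (tensorPow L m)) ⊆ Z := by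
    haveI := hG.1
    haveI := hG.2
    haveI := hP.1
    haveI := hP.2
    rw [Groth.Agent.Lib.SupportTensor.support_tensorMod]
    exact Set.inter_subset_left.trans hGZ
  have := Groth.Agent.Lib.SuppVanish49.subsingleton_HH_of_support_dim_le
    (tensorMod G (tensorPow L m)) Z hZ hsub d₀ hd i hi
  exact Module.finrank_zero_of_subsingleton

/-- **Cohomology of twists by powers of an invertible module above the dimension of its base
locus.**  `P` invertible with sections generating it outside a closed set `B` of dimension `≤ d₀`,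
`F` coherent with `dim Supp F ≤ r`: `dim_k H^i(X, F ⊗ P^m) ≤ C * g r m` for `i > d₀`. -/
theorem exists_bound_gt {P : X.Modules} (hP : PicF.IsInvertible P) (B : Set X) (hB : IsClosed B)
    (d₀ : ℕ) (hdB : topologicalKrullDim ↥B ≤ (d₀ : WithBot ℕ∞))
    (hsec : ∀ x : X, x ∉ B → ∃ s : Coh.structureModule X ⟶ P, x ∈ CohB1.genLocus P s)
    (F : X.Modules) (hF : Coh.IsCoh F) (r : ℕ)
    (hr : topologicalKrullDim ↥(CohB1.support F) ≤ (r : WithBot ℕ∞)) :
    ∃ C : ℕ, ∀ i m : ℕ, d₀ < i →
      Module.finrank k (Coh.HH X (tensorMod F (tensorPow P m)) i) ≤ C * g r m := by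
  have hN : AlgebraicGeometry.IsNoetherian X :=
    @AlgebraicGeometry.IsNoetherian.mk X
      (LocallyOfFiniteType.isLocallyNoetherian (X ↘ Spec (CommRingCat.of k)))
      (Groth.Agent.Lib.EulerChar54.compactSpace_of_isProper k X)
  refine Groth.Agent.Lib.CohGrowthPos.bdPos_of_dim P hP (h := tw k P)
    (fun G hG i m => tw_of_isZero k hG i m)
    (fun S hS h1 h2 h3 i m => tw_mid_le k hP hS h1 h2 h3 i m)
    (fun S hS h1 h2 h3 i m => tw_left_succ_le k hP hS h1 h2 h3 i m)
    (fun S hS h1 h2 _ m => tw_left_zero_le k hP hS h1 h2 m)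
    (fun G _ i m => tw_tensor k G i m)
    (fun G hG => exists_bound_zero k G hG)
    (fun G hG hd i m => tw_succ_eq_zero_of_dim_le_zero k hP hG hd i m) d₀ ?_ r F hF hr
  intro Zc hirr
  obtain ⟨ξ, hξ⟩ := QuasiSober.sober hirr Zc.isClosed
  by_cases hξB : ξ ∈ B
  · left
    intro i m hi
    have hZB : (Zc : Set X) ⊆ B := by
      rw [← hξ.def]
      exact hB.closure_subset_iff.2 (Set.singleton_subset_iff.2 hξB)
    exact tw_eq_zero_of_dim_lt k hP (isCoh_hub Zc) (Zc : Set X) Zc.isClosed (support_hub_subset Zc) d₀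
      ((Groth.Agent.Lib.DimDrop.topologicalKrullDim_mono hZB).trans hdB) i m hi
  · right
    obtain ⟨s, hs⟩ := hsec ξ hξB
    exact exists_one_sided_step_of_section Zc hirr P hP s ξ hξ hs

/-- **Higher cohomology of twists by powers of a globally generated invertible module.** -/
theorem exists_bound_pos {L : X.Modules} (hL : PicF.IsInvertible L)
    (hg : Curv2.IsGloballyGenerated L) (F : X.Modules) (hF : Coh.IsCoh F) (r : ℕ)
    (hr : topologicalKrullDim ↥(CohB1.support F) ≤ (r : WithBot ℕ∞)) :
    ∃ C : ℕ, ∀ i m : ℕ,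
      Module.finrank k (Coh.HH X (tensorMod F (tensorPow L m)) (i + 1)) ≤ C * g r m := by
  have h0 : topologicalKrullDim ↥(∅ : Set X) ≤ ((0 : ℕ) : WithBot ℕ∞) := by
    have : topologicalKrullDim ↥(∅ : Set X) = ⊥ := by
      unfold topologicalKrullDim
      rw [Order.krullDim_eq_bot_iff]
      exact ⟨fun c => c.isIrreducible.nonempty.some.2⟩
    rw [this]
    exact bot_le
  obtain ⟨C, hC⟩ := exists_bound_gt k hL ∅ isClosed_empty 0 h0
    (fun x _ => by
      obtain ⟨τ, hτ⟩ := Groth.Agent.Lib.H78GlobGen.exists_sec_mem_genLocus hL hg x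
      exact ⟨_, hτ⟩) F hF r hr
  exact ⟨C, fun i m => hC (i + 1) m (Nat.succ_pos i)⟩

theorem g_le_two_pow_mul (r n : ℕ) (hn : 1 ≤ n) : g r n ≤ 2 ^ r * n ^ (r - 1) := by
  cases r with
  | zero => simp [g]
  | succ r =>
    simp only [g, Nat.add_sub_cancel]
    calc (n + 1) ^ r ≤ (2 * n) ^ r := Nat.pow_le_pow_left (by omega) r
      _ = 2 ^ r * n ^ r := mul_pow 2 n r
      _ ≤ 2 ^ (r + 1) * n ^ r :=
        Nat.mul_le_mul_right _ (Nat.pow_le_pow_right (by norm_num) (Nat.le_succ r))

end Proper

end Groth.Agent.Lib.CohGrowthPosHH
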