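import Groth.Agent.Lib.CohGrowthMulti

/-!
# Growth of cohomology of twists relative to a size function (helper10)

Variant of `CohGrowthMulti.bd_of_dim` in which the exponent of the bound is governed by an arbitrary
monotone "size" `σ : Set X → WithBot ℕ∞` of the support (think `σ S = dim f(S)` for a proper morphism
`f`), provided the geometric steps `A ⟶ hub Z`, `A ⟶ hub Z ⊗ N j` have cokernels of smaller size:
for coherent `F` with `σ (Supp F) ≤ t`, `h F i c ≤ C * (m + 1) ^ t` for all classes `c` of length `m`.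
-/

set_option autoImplicit false
universe u

open CategoryTheory CategoryTheory.Limits AlgebraicGeometry TopologicalSpace Opposite

namespace Groth.Agent.Lib.CohGrowthRel

open Groth.Agent.Lib.H90DevCanon Groth.Agent.Lib.H90DevHub Groth.Agent.Lib.H90DevHub2
  Groth.Agent.Lib.ModStalkLin Groth.Agent.Lib.ModStalk Groth.Agent.Lib.H90DevTwo
  Groth.Agent.Lib.H90DevTwo2 Groth.Agent.Lib.H90DevFiltP Groth.Agent.Lib.H90SnapGeom
  Groth.Agent.Lib.CohGrowth Groth.Agent.Lib.IsoCls13 Groth.Agent.Lib.CohGrowthMulti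

variable {X : Scheme.{u}}

theorem isZero_of_support_eq_empty {G : X.Modules} (h1 : CohB1.support G = ∅) : IsZero G := by
  apply Groth.Agent.Lib.ModPullback.isZero_of_forall_subsingleton_stalk
  intro y
  by_contra hy
  have : y ∈ CohB1.support G := hy
  rw [h1] at this
  exact this

variable [AlgebraicGeometry.IsNoetherian X] {ι : Type*} [Fintype ι] (N : ι → X.Modules)
  (h : X.Modules → ℕ → Cls X → ℕ)
  (H0 : ∀ G : X.Modules, IsZero G → ∀ i c, h G i c = 0)
  (H2a : ∀ S : ShortComplex X.Modules, S.ShortExact → Coh.IsCoh S.X₁ → Coh.IsCoh S.X₂ →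
    Coh.IsCoh S.X₃ → ∀ i m c, Len N m c → h S.X₂ i c ≤ h S.X₁ i c + h S.X₃ i c)
  (H2b : ∀ S : ShortComplex X.Modules, S.ShortExact → Coh.IsCoh S.X₁ → Coh.IsCoh S.X₂ →
    Coh.IsCoh S.X₃ → ∀ i m c, Len N m c → h S.X₁ (i + 1) c ≤ h S.X₃ i c + h S.X₂ (i + 1) c)
  (H2b0 : ∀ S : ShortComplex X.Modules, S.ShortExact → Coh.IsCoh S.X₁ → Coh.IsCoh S.X₂ →
    Coh.IsCoh S.X₃ → ∀ m c, Len N m c → h S.X₁ 0 c ≤ h S.X₂ 0 c)
  (H3 : ∀ j (G : X.Modules), Coh.IsCoh G → ∀ i c,
    h (CohB1.tensorMod G (N j)) i c = h G i (c * cls (N j)))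
  (H4 : ∀ G : X.Modules, Coh.IsCoh G → ∃ C, ∀ i, h G i 1 ≤ C)
  (σ : Set X → WithBot ℕ∞) (σ_mono : ∀ S T : Set X, S ⊆ T → σ S ≤ σ T)
  (σ_bot : ∀ S : Set X, σ S = ⊥ → S = ∅)
  (Hstep : ∀ (j : ι) (Zc : Closeds X), IsIrreducible (Zc : Set X) →
    ∃ (A : X.Modules) (pa : A ⟶ hub Zc) (pb : A ⟶ CohB1.tensorMod (hub Zc) (N j)),
      Coh.IsCoh A ∧ Mono pa ∧ Mono pb ∧ Coh.IsCoh (CohB1.tensorMod (hub Zc) (N j)) ∧
      Coh.IsCoh (cokernel pa) ∧ Coh.IsCoh (cokernel pb) ∧
      topologicalKrullDim ↥(CohB1.support (cokernel pa)) + 1 ≤ topologicalKrullDim ↥(Zc : Set X) ∧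
      topologicalKrullDim ↥(CohB1.support (cokernel pb)) + 1 ≤ topologicalKrullDim ↥(Zc : Set X) ∧
      σ (CohB1.support (cokernel pa)) + 1 ≤ σ (Zc : Set X) ∧
      σ (CohB1.support (cokernel pb)) + 1 ≤ σ (Zc : Set X))

variable {N h}

/-- the inductive hypothesis: modules of support dimension `< r` satisfy the bound governed by `σ` -/
def IHyp (r : ℕ) : Prop :=
  ∀ G : X.Modules, Coh.IsCoh G →
    topologicalKrullDim ↥(CohB1.support G) + 1 ≤ (r : WithBot ℕ∞) →
      ∀ t : ℕ, σ (CohB1.support G) ≤ (t : WithBot ℕ∞) → Bd N h t G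

include H0 σ_bot in
/-- strict form of the inductive hypothesis -/
theorem IHyp.bdLt {r : ℕ} (IH : IHyp (N := N) (h := h) σ r) {G : X.Modules} (hG : Coh.IsCoh G)
    (hd : topologicalKrullDim ↥(CohB1.support G) + 1 ≤ (r : WithBot ℕ∞)) (t : ℕ)
    (hσ : σ (CohB1.support G) + 1 ≤ (t : WithBot ℕ∞)) : BdLt N h t G := by
  cases t with
  | zero =>
    have h1 := σ_bot _ (eq_bot_of_add_one_le_zero hσ)
    exact CohGrowthMulti.bdLt_of_isZero H0 (isZero_of_support_eq_empty h1) 0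
  | succ t => exact (IH G hG hd t (le_of_add_one_le_succ hσ)).bdLt

include H0 H2a H2b H2b0 H3 H4 σ_bot Hstep in
/-- the hub case -/
theorem bd_hub (r : ℕ) (IH : IHyp (N := N) (h := h) σ r) (t : ℕ)
    (Zc : Closeds X) (hirr : IsIrreducible (Zc : Set X))
    (hdim : topologicalKrullDim ↥(Zc : Set X) ≤ (r : WithBot ℕ∞))
    (hσ : σ (Zc : Set X) ≤ (t : WithBot ℕ∞)) : Bd N h t (hub Zc) := by
  have hstep : ∀ j : ι, ∃ D : ℕ, ∀ i m c, Len N m c →
      h (hub Zc) i (c * cls (N j)) ≤ h (hub Zc) i c + D * g t m := by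
    intro j
    obtain ⟨A, pa, pb, hA, hpa, hpb, hT, hca, hcb, hda, hdb, hsa, hsb⟩ := Hstep j Zc hirr
    have := hpa
    have := hpb
    have : A.IsQuasicoherent := hA.1
    obtain ⟨Da, hDa⟩ := IH.bdLt H0 σ σ_bot hca (hda.trans hdim) t (hsa.trans hσ)
    obtain ⟨Db, hDb⟩ := IH.bdLt H0 σ σ_bot hcb (hdb.trans hdim) t (hsb.trans hσ)
    refine ⟨Da + Db, fun i m c hc => ?_⟩
    rw [← H3 j (hub Zc) (isCoh_hub Zc) i c]
    have e2 := H2a _ (shortExact_cokernel pb) hA hT hcb i m c hc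
    have e1 : h A i c ≤ Da * g t m + h (hub Zc) i c := by
      cases i with
      | zero =>
        exact (H2b0 _ (shortExact_cokernel pa) hA (isCoh_hub Zc) hca m c hc).trans
          (Nat.le_add_left _ _)
      | succ i =>
        exact (H2b _ (shortExact_cokernel pa) hA (isCoh_hub Zc) hca i m c hc).trans
          (Nat.add_le_add_right (hDa i m c hc) _)
    have e3 := hDb i m c hc
    have e4 : (Da + Db) * g t m = Da * g t m + Db * g t m := by ring
    change h (CohB1.tensorMod (hub Zc) (N j)) i c ≤ _ at e2 ⊢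
    change h (CohB1.tensorMod (hub Zc) (N j)) i c ≤ h A i c + h (cokernel pb) i c at e2
    omega
  choose Dj hDj using hstep
  obtain ⟨C0, hC0⟩ := H4 (hub Zc) (isCoh_hub Zc)
  have hDle : ∀ j, Dj j ≤ Finset.univ.sum Dj := fun j =>
    Finset.single_le_sum (f := Dj) (fun _ _ => Nat.zero_le _) (Finset.mem_univ j)
  have key : ∀ i m c, Len N m c →
      h (hub Zc) i c ≤ C0 + Finset.univ.sum Dj * (m * g t m) := by
    intro i m c hc
    induction hc with
    | one => simpa using hC0 i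
    | @mul m c j hc ih =>
      have h1 := hDj j i m c hc
      have h2 : g t m ≤ g t (m + 1) := g_mono t (Nat.le_succ m)
      have h3 : m * g t m ≤ m * g t (m + 1) := Nat.mul_le_mul_left m h2
      have h4 : Dj j * g t m ≤ Finset.univ.sum Dj * g t (m + 1) :=
        Nat.mul_le_mul (hDle j) h2
      have h5 := Nat.mul_le_mul_left (Finset.univ.sum Dj) h3
      calc h (hub Zc) i (c * cls (N j)) ≤ h (hub Zc) i c + Dj j * g t m := h1
        _ ≤ (C0 + Finset.univ.sum Dj * (m * g t (m + 1))) + Finset.univ.sum Dj * g t (m + 1) := by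
            omega
        _ = C0 + Finset.univ.sum Dj * ((m + 1) * g t (m + 1)) := by ring
  refine ⟨C0 + Finset.univ.sum Dj, fun i m c hc => ?_⟩
  have h1 := key i m c hc
  have h2 := Nat.mul_le_mul_left (Finset.univ.sum Dj) (m_mul_g_le t m)
  have h3 : 1 ≤ (m + 1) ^ t := Nat.one_le_pow _ _ (Nat.succ_pos m)
  calc h (hub Zc) i c ≤ C0 + Finset.univ.sum Dj * (m + 1) ^ t := by omega
    _ ≤ C0 * (m + 1) ^ t + Finset.univ.sum Dj * (m + 1) ^ t := by
        have : C0 ≤ C0 * (m + 1) ^ t := Nat.le_mul_of_pos_right _ h3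
        omega
    _ = (C0 + Finset.univ.sum Dj) * (m + 1) ^ t := by ring

include H0 H2a H2b H2b0 H3 H4 σ_mono σ_bot Hstep in
/-- the atom case -/
theorem bd_atom (r : ℕ) (IH : IHyp (N := N) (h := h) σ r) (t : ℕ)
    {Zc : Closeds X} {C : X.Modules} (hat : IsAtomC Zc C) (hC : Coh.IsCoh C)
    (hdim : topologicalKrullDim ↥(Zc : Set X) ≤ (r : WithBot ℕ∞))
    (hσ : σ (Zc : Set X) ≤ (t : WithBot ℕ∞)) : Bd N h t C := by
  obtain ⟨p, hp⟩ := exists_mono_hub hat
  have := hp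
  have : C.IsQuasicoherent := hC.1
  have hd := dim_support_cokernel_hub hat.1 p
    (Groth.Agent.Lib.H90DevFilt.not_isZero_of_isAtom hat.isAtom)
  obtain ⟨C1, hC1⟩ := bd_hub H0 H2a H2b H2b0 H3 H4 σ σ_bot Hstep r IH t Zc hat.1 hdim hσ
  have hck : Coh.IsCoh (cokernel p) :=
    Groth.Agent.Lib.H90OXModExact.isCoh_cokernel p (isCoh_hub Zc)
  have hsupp : CohB1.support (cokernel p) ⊆ (Zc : Set X) :=
    (support_subset_of_epi (cokernel.π p)).trans (support_hub_subset Zc)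
  obtain ⟨D, hD⟩ := IH _ hck (hd.trans hdim) t ((σ_mono _ _ hsupp).trans hσ)
  refine ⟨D + C1, fun i m c hc => ?_⟩
  have hse := shortExact_cokernel p
  have e : h C i c ≤ D * (m + 1) ^ t + C1 * (m + 1) ^ t := by
    cases i with
    | zero =>
      exact ((H2b0 _ hse hC (isCoh_hub Zc) hck m c hc).trans (hC1 0 m c hc)).trans
        (Nat.le_add_left _ _)
    | succ i =>
      exact (H2b _ hse hC (isCoh_hub Zc) hck i m c hc).trans
        (Nat.add_le_add (hD i m c hc) (hC1 (i + 1) m c hc))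
  calc h C i c ≤ D * (m + 1) ^ t + C1 * (m + 1) ^ t := e
    _ = (D + C1) * (m + 1) ^ t := by ring

include H0 H2a H2b H2b0 H3 H4 σ_mono σ_bot Hstep in
/-- induction along a dévissage filtration -/
theorem bd_of_filt (r : ℕ) (IH : IHyp (N := N) (h := h) σ r) (t : ℕ)
    {M : X.Modules} (hF : Filt IsAtomC' M) (hM : Coh.IsCoh M)
    (hdim : topologicalKrullDim ↥(CohB1.support M) ≤ (r : WithBot ℕ∞))
    (hσ : σ (CohB1.support M) ≤ (t : WithBot ℕ∞)) : Bd N h t M := by
  induction hF with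
  | zero M hz => exact (CohGrowthMulti.bdLt_of_isZero H0 hz t).bd
  | step A B f hf hA hAc hB hat ih =>
    have := hf
    have : A.IsQuasicoherent := hAc.1
    obtain ⟨C1, hC1⟩ := ih hAc
      ((Groth.Agent.Lib.DimDrop.topologicalKrullDim_mono (support_subset_of_mono f)).trans hdim)
      ((σ_mono _ _ (support_subset_of_mono f)).trans hσ)
    obtain ⟨Zc, hat⟩ := hat
    have hcC : Coh.IsCoh (cokernel f) := Groth.Agent.Lib.H90OXModExact.isCoh_cokernel f hB
    have hsub : (Zc : Set X) ⊆ CohB1.support B :=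
      atomC_subset_of_support_subset hat (isClosed_support_of_isFT _ hB.2)
        (support_subset_of_epi (cokernel.π f))
    obtain ⟨C2, hC2⟩ := bd_atom H0 H2a H2b H2b0 H3 H4 σ σ_mono σ_bot Hstep r IH t hat hcC
      ((Groth.Agent.Lib.DimDrop.topologicalKrullDim_mono hsub).trans hdim)
      ((σ_mono _ _ hsub).trans hσ)
    refine ⟨C1 + C2, fun i m c hc => ?_⟩
    have e := H2a _ (shortExact_cokernel f) hAc hB hcC i m c hc
    have e1 := hC1 i m c hc
    have e2 := hC2 i m c hc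
    calc h B i c ≤ h A i c + h (cokernel f) i c := e
      _ ≤ C1 * (m + 1) ^ t + C2 * (m + 1) ^ t := Nat.add_le_add e1 e2
      _ = (C1 + C2) * (m + 1) ^ t := by ring

include H0 H2a H2b H2b0 H3 H4 σ_mono σ_bot Hstep in
/-- the inductive statement -/
theorem iHyp (r : ℕ) : IHyp (N := N) (h := h) σ r := by
  induction r with
  | zero =>
    intro G _ hd t _
    have h1 := eq_empty_of_topologicalKrullDim_eq_bot _ (eq_bot_of_add_one_le_zero hd)
    exact (CohGrowthMulti.bdLt_of_isZero H0 (isZero_of_support_eq_empty h1) t).bd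
  | succ r ih =>
    intro G hG hd t hσ
    exact bd_of_filt H0 H2a H2b H2b0 H3 H4 σ σ_mono σ_bot Hstep r ih t (filt_atomC_of_isCoh hG) hG
      (le_of_add_one_le_succ hd) hσ

include H0 H2a H2b H2b0 H3 H4 σ_mono σ_bot Hstep in
/-- **Sub-additive Snapper relative to a size function.** -/
theorem bd_of_size (F : X.Modules) (hF : Coh.IsCoh F) (r : ℕ)
    (hr : topologicalKrullDim ↥(CohB1.support F) ≤ (r : WithBot ℕ∞)) (t : ℕ)
    (ht : σ (CohB1.support F) ≤ (t : WithBot ℕ∞)) :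
    ∃ C : ℕ, ∀ i m c, Len N m c → h F i c ≤ C * (m + 1) ^ t :=
  bd_of_filt H0 H2a H2b H2b0 H3 H4 σ σ_mono σ_bot Hstep r
    (iHyp H0 H2a H2b H2b0 H3 H4 σ σ_mono σ_bot Hstep r) t (filt_atomC_of_isCoh hF) hF hr ht

end Groth.Agent.Lib.CohGrowthRel
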