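import Groth.Agent.Lib.CohGrowthMultiHH
import Groth.Agent.Lib.H90InvMono

/-!
# Monomorphisms between invertible modules, on isomorphism classes (helper10)

`InvC c` : the class `c` is invertible;  `SubC c c'` : there is a monomorphism from a module of class
`c` to a module of class `c'`.  `SubC` is transitive, compatible with products of invertible classes
(`SubC.mul`) and powers (`SubC.pow`), and `h^0` is monotone along it (`SubC.h0_le`).
-/

set_option autoImplicit false
universe u
open CategoryTheory CategoryTheory.Limits AlgebraicGeometry CohB1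
open Groth.Agent.Lib.OXModTensor Groth.Agent.Lib.TwistEquiv
open Groth.Agent.Lib.IsoCls13 Groth.Agent.Lib.CohGrowthHH Groth.Agent.Lib.CohGrowthMultiHH

namespace Groth.Agent.Lib.SubCls

variable {X : Scheme.{u}}

/-- tensoring on the right with an invertible module preserves monomorphisms -/
theorem mono_tensorRight {P : X.Modules} (hP : PicF.IsInvertible P) {A B : X.Modules} (f : A ⟶ B)
    [Mono f] : Mono (tensorModMap f (𝟙 P)) := by
  obtain ⟨M', -, ⟨e⟩⟩ := Groth.Agent.Lib.H78Dual.exists_tensor_inverse hP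
  have := isEquivalence_tensorRightFunctor (braiding _ _ ≪≫ e)
  rw [← tensorRightFunctor_map]
  have hra : (tensorRightFunctor P).IsRightAdjoint := inferInstance
  have := Functor.preservesMonomorphisms_of_isRightAdjoint (tensorRightFunctor P)
  exact (tensorRightFunctor P).map_mono f

/-- tensoring on the left with an invertible module preserves monomorphisms -/
theorem mono_tensorLeft {P : X.Modules} (hP : PicF.IsInvertible P) {A B : X.Modules} (f : A ⟶ B)
    [Mono f] : Mono (tensorModMap (𝟙 P) f) := by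
  obtain ⟨M', -, ⟨e⟩⟩ := Groth.Agent.Lib.H78Dual.exists_tensor_inverse hP
  have := isEquivalence_tensorLeftFunctor (braiding _ _ ≪≫ e)
  rw [← tensorLeftFunctor_map]
  have hra : (tensorLeftFunctor P).IsRightAdjoint := inferInstance
  have := Functor.preservesMonomorphisms_of_isRightAdjoint (tensorLeftFunctor P)
  exact (tensorLeftFunctor P).map_mono f

theorem mono_tensorModMap {A A' B B' : X.Modules} (hB : PicF.IsInvertible B)
    (hA' : PicF.IsInvertible A') (f : A ⟶ A') (g : B ⟶ B') [Mono f] [Mono g] :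
    Mono (tensorModMap f g) := by
  have e : tensorModMap f g = tensorModMap f (𝟙 B) ≫ tensorModMap (𝟙 A') g := by
    rw [← tensorModMap_comp, Category.comp_id, Category.id_comp]
  rw [e]
  have := mono_tensorRight hB f
  have := mono_tensorLeft hA' g
  exact mono_comp _ _

/-- the class is invertible -/
def InvC (c : Cls X) : Prop := PicF.IsInvertible (rep c)

/-- there is a monomorphism from a module of class `c` to a module of class `c'` -/
def SubC (c c' : Cls X) : Prop := ∃ j : rep c ⟶ rep c', Mono j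

theorem invC_cls {P : X.Modules} (hP : PicF.IsInvertible P) : InvC (cls P) := by
  obtain ⟨e⟩ := nonempty_rep_cls_iso P
  exact Groth.Agent.Lib.H90Invertible.isInvertible_of_iso e.symm hP

theorem InvC.isInvertible {P : X.Modules} (h : InvC (cls P)) : PicF.IsInvertible P := by
  obtain ⟨e⟩ := nonempty_rep_cls_iso P
  exact Groth.Agent.Lib.H90Invertible.isInvertible_of_iso e h

theorem invC_one : InvC (1 : Cls X) :=
  invC_cls (Groth.Agent.Lib.H90Invertible.isInvertible_structureModule X)

theorem InvC.mul {c c' : Cls X} (h : InvC c) (h' : InvC c') : InvC (c * c') := by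
  have h1 : cls (rep (c * c')) = cls (tensorMod (rep c) (rep c')) := by
    rw [cls_rep, cls_tensorMod, cls_rep, cls_rep]
  obtain ⟨e⟩ := cls_eq_iff.1 h1
  exact Groth.Agent.Lib.H90Invertible.isInvertible_of_iso e.symm
    (Groth.Agent.Lib.OXModRestrict.isInvertible_tensorMod h h')

theorem InvC.pow {c : Cls X} (h : InvC c) (q : ℕ) : InvC (c ^ q) := by
  induction q with
  | zero => rw [pow_zero]; exact invC_one
  | succ q ih => rw [pow_succ]; exact ih.mul h

theorem subC_of_mono {P Q : X.Modules} (j : P ⟶ Q) [Mono j] : SubC (cls P) (cls Q) := by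
  obtain ⟨e⟩ := nonempty_rep_cls_iso P
  obtain ⟨e'⟩ := nonempty_rep_cls_iso Q
  refine ⟨e.hom ≫ j ≫ e'.inv, ?_⟩
  have : Mono (j ≫ e'.inv) := mono_comp _ _
  exact mono_comp _ _

theorem SubC.exists_mono {P Q : X.Modules} (h : SubC (cls P) (cls Q)) : ∃ j : P ⟶ Q, Mono j := by
  obtain ⟨e⟩ := nonempty_rep_cls_iso P
  obtain ⟨e'⟩ := nonempty_rep_cls_iso Q
  obtain ⟨j, hj⟩ := h
  refine ⟨e.inv ≫ j ≫ e'.hom, ?_⟩
  have : Mono (j ≫ e'.hom) := mono_comp _ _
  exact mono_comp _ _

theorem SubC.refl (c : Cls X) : SubC c c := ⟨𝟙 _, @IsIso.mono_of_iso _ _ _ _ (𝟙 _) (IsIso.id _)⟩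

theorem SubC.trans {c c' c'' : Cls X} (h : SubC c c') (h' : SubC c' c'') : SubC c c'' := by
  obtain ⟨j, hj⟩ := h
  obtain ⟨j', hj'⟩ := h'
  exact ⟨j ≫ j', mono_comp _ _⟩

theorem SubC.mul {c₁ c₁' c₂ c₂' : Cls X} (h₁ : SubC c₁ c₁') (h₂ : SubC c₂ c₂') (hinv : InvC c₂)
    (hinv' : InvC c₁') : SubC (c₁ * c₂) (c₁' * c₂') := by
  obtain ⟨j₁, hj₁⟩ := h₁
  obtain ⟨j₂, hj₂⟩ := h₂
  have := mono_tensorModMap hinv hinv' j₁ j₂
  have h := subC_of_mono (tensorModMap j₁ j₂)
  rwa [cls_tensorMod, cls_tensorMod, cls_rep, cls_rep, cls_rep, cls_rep] at h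

theorem SubC.pow {c c' : Cls X} (h : SubC c c') (hc : InvC c) (hc' : InvC c') (q : ℕ) :
    SubC (c ^ q) (c' ^ q) := by
  induction q with
  | zero => rw [pow_zero, pow_zero]; exact SubC.refl 1
  | succ q ih =>
    rw [pow_succ, pow_succ]
    exact ih.mul h hc (hc'.pow q)

variable (k : Type u) [Field k]
  [X.Over (Spec (CommRingCat.of k))] [IsProper (X ↘ Spec (CommRingCat.of k))]

/-- `h^0` is monotone along monomorphisms of invertible classes -/
theorem SubC.h0_le {c c' : Cls X} (h : SubC c c') (hi : InvC c) (hi' : InvC c') :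
    hc k (Coh.structureModule X) 0 c ≤ hc k (Coh.structureModule X) 0 c' := by
  obtain ⟨j, hj⟩ := h
  rw [hc_structure, hc_structure]
  exact hh_left_zero_le k (S := ShortComplex.mk j (cokernel.π j) (cokernel.condition j))
    (Groth.Agent.Lib.H90DevTwo.shortExact_cokernel j)
    (Groth.Agent.Lib.H90Invertible.isCoh_of_isInvertible hi)
    (Groth.Agent.Lib.H90Invertible.isCoh_of_isInvertible hi')

end Groth.Agent.Lib.SubCls
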