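import Groth.Agent.Lib.CohGrowthRel
import Groth.Agent.Lib.CohGrowthPosHH
import Groth.Agent.Lib.CohGrowthMultiHH
import Groth.Agent.Lib.SubCls
import Groth.Agent.Lib.H90CurveH1

/-!
# Growth of cohomology of twists by modules pulled back along a proper morphism (helper10)

`f : Y ⟶ X` a morphism of proper `k`-schemes, `N j` finitely many invertible modules on `Y`, each either
the pullback of a globally generated invertible module on `X` or a tensor inverse of such a pullback.
For coherent `F` on `Y` with `dim f(Supp F) ≤ t`: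
`dim_k H^i(Y, F ⊗ P) ≤ C * (m + 1) ^ t` for all `P` whose class is a word of length `m` in the `N j`
(`exists_bound_rel`).
-/

set_option autoImplicit false
set_option linter.style.haveILetI false
universe u

open CategoryTheory CategoryTheory.Limits AlgebraicGeometry TopologicalSpace Opposite

namespace Groth.Agent.Lib.CohGrowthRelHH

open Groth.Agent.Lib.H90DevCanon Groth.Agent.Lib.H90DevHub Groth.Agent.Lib.H90DevHub2
  Groth.Agent.Lib.ModStalkLin Groth.Agent.Lib.ModStalk Groth.Agent.Lib.H90DevTwo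
  Groth.Agent.Lib.H90DevTwo2 Groth.Agent.Lib.H90SnapGeom
  Groth.Agent.Lib.OXModTensor Groth.Agent.Lib.TwistEquiv CohB1

section Dim

variable {T : Type*} [TopologicalSpace T]

theorem topologicalKrullDim_empty : topologicalKrullDim ↥(∅ : Set T) = ⊥ := by
  unfold topologicalKrullDim
  rw [Order.krullDim_eq_bot_iff]
  exact ⟨fun c => c.isIrreducible.nonempty.some.2⟩

end Dim

variable {X Y : Scheme.{u}}

theorem support_eq_empty_of_isZero {G : Y.Modules} (hG : IsZero G) : CohB1.support G = ∅ := by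
  ext y
  simp only [Set.mem_empty_iff_false, iff_false]
  intro hy
  exact hy (subsingleton_stalk_of_isZero hG y)

theorem support_cokernel_id (A : Y.Modules) : CohB1.support (cokernel (𝟙 A)) = ∅ :=
  support_eq_empty_of_isZero (isZero_cokernel_of_epi (𝟙 A))

/-- the size of a subset of `Y`: the dimension of its image in `X` -/
noncomputable def size (f : Y ⟶ X) (S : Set Y) : WithBot ℕ∞ := topologicalKrullDim ↥(f.base '' S)

theorem size_mono (f : Y ⟶ X) (S S' : Set Y) (h : S ⊆ S') : size f S ≤ size f S' :=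
  Groth.Agent.Lib.DimDrop.topologicalKrullDim_mono (Set.image_mono h)

theorem size_bot (f : Y ⟶ X) (S : Set Y) (h : size f S = ⊥) : S = ∅ := by
  have := Groth.Agent.Lib.CohGrowth.eq_empty_of_topologicalKrullDim_eq_bot _ h
  exact Set.image_eq_empty.1 this

theorem size_empty (f : Y ⟶ X) : size f ∅ = ⊥ := by
  unfold size
  rw [Set.image_empty]
  exact topologicalKrullDim_empty

/-- the size drops on the part of `Zc` lying over the complement of an open of `X` meeting `f(Zc)` -/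
theorem size_drop (f : Y ⟶ X) (hcl : IsClosedMap f.base) (Zc : Closeds Y)
    (hirr : IsIrreducible (Zc : Set Y)) (ξ : Y) (hξ : ξ ∈ (Zc : Set Y)) (U : X.Opens)
    (hU : f.base ξ ∈ U) (S : Set Y) (hS : S ⊆ (Zc : Set Y) \ (f ⁻¹ᵁ U : Set Y)) :
    size f S + 1 ≤ size f (Zc : Set Y) := by
  have hW : IsIrreducible (f.base '' (Zc : Set Y)) := hirr.image _ f.continuous.continuousOn
  have hWc : IsClosed (f.base '' (Zc : Set Y)) := hcl _ Zc.isClosed
  have hW' : IsClosed (f.base '' (Zc : Set Y) ∩ (U : Set X)ᶜ) := hWc.inter U.isOpen.isClosed_compl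
  have hsub : f.base '' S ⊆ f.base '' (Zc : Set Y) ∩ (U : Set X)ᶜ := by
    rintro _ ⟨y, hy, rfl⟩
    exact ⟨⟨y, (hS hy).1, rfl⟩, fun h => (hS hy).2 h⟩
  have hne : f.base '' (Zc : Set Y) ∩ (U : Set X)ᶜ ≠ f.base '' (Zc : Set Y) := by
    intro h
    have h0 : f.base ξ ∈ f.base '' (Zc : Set Y) := ⟨ξ, hξ, rfl⟩
    rw [← h] at h0
    exact h0.2 hU
  have h1 := Groth.Agent.Lib.DimDrop.topologicalKrullDim_add_one_le_of_ssubset hW' hW
    Set.inter_subset_left hne
  have h2 : size f S ≤ topologicalKrullDim ↥(f.base '' (Zc : Set Y) ∩ (U : Set X)ᶜ) :=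
    Groth.Agent.Lib.DimDrop.topologicalKrullDim_mono hsub
  exact (add_le_add_left h2 1).trans h1

section Steps

variable [AlgebraicGeometry.IsNoetherian Y] (f : Y ⟶ X)

/-- the step for the pullback of a globally generated invertible module, with its support -/
theorem exists_step_pullback {P : X.Modules} (hP : PicF.IsInvertible P)
    (hg : Curv2.IsGloballyGenerated P) (Zc : Closeds Y) (hirr : IsIrreducible (Zc : Set Y)) :
    ∃ (p : hub Zc ⟶ tensorMod (hub Zc) ((Scheme.Modules.pullback f).obj P)) (ξ : Y) (U : X.Opens),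
      Mono p ∧ Coh.IsCoh (tensorMod (hub Zc) ((Scheme.Modules.pullback f).obj P)) ∧
      Coh.IsCoh (cokernel p) ∧ ξ ∈ (Zc : Set Y) ∧ f.base ξ ∈ U ∧
      CohB1.support (cokernel p) ⊆ (Zc : Set Y) \ (f ⁻¹ᵁ U : Set Y) := by
  obtain ⟨ξ, hξ⟩ := QuasiSober.sober hirr Zc.isClosed
  have hξ' : closure {ξ} = (Zc : Set Y) := hξ.def
  have hξZ : ξ ∈ (Zc : Set Y) := by rw [← hξ']; exact subset_closure rfl
  obtain ⟨τ, hτ⟩ := Groth.Agent.Lib.H78GlobGen.exists_sec_mem_genLocus hP hg (f.base ξ)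
  let sX : Coh.structureModule X ⟶ P := Groth.Agent.Lib.H90Invertible.ofSection τ
  let e0 : Coh.structureModule Y ≅ (Scheme.Modules.pullback f).obj (Coh.structureModule X) :=
    (Groth.Agent.Lib.H78PullSec.unitIso f).symm
  let sY : Coh.structureModule Y ⟶ (Scheme.Modules.pullback f).obj P :=
    e0.hom ≫ (Scheme.Modules.pullback f).map sX
  have hgl : CohB1.genLocus _ sY = f ⁻¹ᵁ CohB1.genLocus P sX :=
    Groth.Agent.Lib.H78PullSec.genLocus_pullback_map f P hP sX e0
  obtain ⟨p, hp, hT, hcb, hsupp⟩ := Groth.Agent.Lib.CohGrowthPosHH.exists_section_step Zc hirr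
    ((Scheme.Modules.pullback f).obj P) (Groth.Agent.Lib.H90Invertible.isInvertible_pullback f hP) sY
    (fun ξ' hξ'' => by
      have h1 : IsGenericPoint ξ' (Zc : Set Y) := hξ''
      have : ξ' = ξ := h1.eq hξ
      rw [this, hgl]; exact hτ)
  refine ⟨p, ξ, CohB1.genLocus P sX, hp, hT, hcb, hξZ, hτ, ?_⟩
  rw [hgl] at hsupp
  exact hsupp

/-- the dimension and the size of a subset of `Zc` away from `f⁻¹ U` drop -/
theorem drops (hcl : IsClosedMap f.base) (Zc : Closeds Y) (hirr : IsIrreducible (Zc : Set Y))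
    (ξ : Y) (hξ : ξ ∈ (Zc : Set Y)) (U : X.Opens) (hU : f.base ξ ∈ U) {Q : Y.Modules}
    (hQ : Coh.IsCoh Q) (hS : CohB1.support Q ⊆ (Zc : Set Y) \ (f ⁻¹ᵁ U : Set Y)) :
    topologicalKrullDim ↥(CohB1.support Q) + 1 ≤ topologicalKrullDim ↥(Zc : Set Y) ∧
      size f (CohB1.support Q) + 1 ≤ size f (Zc : Set Y) := by
  refine ⟨?_, size_drop f hcl Zc hirr ξ hξ U hU _ hS⟩
  refine Groth.Agent.Lib.DimDrop.topologicalKrullDim_add_one_le_of_ssubset
    (isClosed_support_of_isFT _ hQ.2) hirr (fun y hy => (hS hy).1) ?_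
  intro h
  have : ξ ∈ CohB1.support Q := h ▸ hξ
  exact (hS this).2 hU

/-- the two-sided step for a pullback of a globally generated invertible module -/
theorem exists_step_pos (hcl : IsClosedMap f.base) {P : X.Modules} (hP : PicF.IsInvertible P)
    (hg : Curv2.IsGloballyGenerated P) (Zc : Closeds Y) (hirr : IsIrreducible (Zc : Set Y)) :
    ∃ (A : Y.Modules) (pa : A ⟶ hub Zc)
      (pb : A ⟶ tensorMod (hub Zc) ((Scheme.Modules.pullback f).obj P)),
      Coh.IsCoh A ∧ Mono pa ∧ Mono pb ∧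
      Coh.IsCoh (tensorMod (hub Zc) ((Scheme.Modules.pullback f).obj P)) ∧
      Coh.IsCoh (cokernel pa) ∧ Coh.IsCoh (cokernel pb) ∧
      topologicalKrullDim ↥(CohB1.support (cokernel pa)) + 1 ≤ topologicalKrullDim ↥(Zc : Set Y) ∧
      topologicalKrullDim ↥(CohB1.support (cokernel pb)) + 1 ≤ topologicalKrullDim ↥(Zc : Set Y) ∧
      size f (CohB1.support (cokernel pa)) + 1 ≤ size f (Zc : Set Y) ∧
      size f (CohB1.support (cokernel pb)) + 1 ≤ size f (Zc : Set Y) := by
  obtain ⟨p, ξ, U, hp, hT, hcb, hξZ, hU, hsupp⟩ := exists_step_pullback f hP hg Zc hirr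
  obtain ⟨d1, d2⟩ := drops f hcl Zc hirr ξ hξZ U hU hcb hsupp
  haveI : (hub Zc).IsQuasicoherent := (isCoh_hub Zc).1
  have hc0 : Coh.IsCoh (cokernel (𝟙 (hub Zc))) :=
    Groth.Agent.Lib.H90OXModExact.isCoh_cokernel _ (isCoh_hub Zc)
  refine ⟨hub Zc, 𝟙 _, p, isCoh_hub Zc, inferInstance, hp, hT, hc0, hcb, ?_, d1, ?_, d2⟩
  · rw [support_cokernel_id, topologicalKrullDim_empty]
    exact bot_le
  · rw [support_cokernel_id, size_empty]
    exact bot_le

/-- the two-sided step for a tensor inverse of a pullback of a globally generated invertible module -/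
theorem exists_step_neg (hcl : IsClosedMap f.base) {Q : X.Modules} (hQ : PicF.IsInvertible Q)
    (hg : Curv2.IsGloballyGenerated Q) {M' : Y.Modules} (hM' : PicF.IsInvertible M')
    (e : tensorMod M' ((Scheme.Modules.pullback f).obj Q) ≅ Coh.structureModule Y)
    (Zc : Closeds Y) (hirr : IsIrreducible (Zc : Set Y)) :
    ∃ (A : Y.Modules) (pa : A ⟶ hub Zc) (pb : A ⟶ tensorMod (hub Zc) M'),
      Coh.IsCoh A ∧ Mono pa ∧ Mono pb ∧ Coh.IsCoh (tensorMod (hub Zc) M') ∧
      Coh.IsCoh (cokernel pa) ∧ Coh.IsCoh (cokernel pb) ∧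
      topologicalKrullDim ↥(CohB1.support (cokernel pa)) + 1 ≤ topologicalKrullDim ↥(Zc : Set Y) ∧
      topologicalKrullDim ↥(CohB1.support (cokernel pb)) + 1 ≤ topologicalKrullDim ↥(Zc : Set Y) ∧
      size f (CohB1.support (cokernel pa)) + 1 ≤ size f (Zc : Set Y) ∧
      size f (CohB1.support (cokernel pb)) + 1 ≤ size f (Zc : Set Y) := by
  obtain ⟨p, ξ, U, hp, hT, hcb, hξZ, hU, hsupp⟩ := exists_step_pullback f hQ hg Zc hirr
  haveI := hp
  have hA : Coh.IsCoh (tensorMod (hub Zc) M') :=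
    Groth.Agent.Lib.CohFinAmple.isCoh_tensorMod (isCoh_hub Zc)
      (Groth.Agent.Lib.H90Invertible.isCoh_of_isInvertible hM')
  haveI : (tensorMod (hub Zc) M').IsQuasicoherent := hA.1
  let φ : tensorMod (tensorMod (hub Zc) ((Scheme.Modules.pullback f).obj Q)) M' ≅ hub Zc :=
    associator _ _ _ ≪≫ tensorModIso (Iso.refl _) (braiding _ _ ≪≫ e) ≪≫ rightUnitor _
  haveI := Groth.Agent.Lib.SubCls.mono_tensorRight hM' p
  let pa : tensorMod (hub Zc) M' ⟶ hub Zc := tensorModMap p (𝟙 M') ≫ φ.hom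
  haveI hpa : Mono pa := mono_comp _ _
  have hca : Coh.IsCoh (cokernel pa) := Groth.Agent.Lib.H90OXModExact.isCoh_cokernel pa (isCoh_hub Zc)
  have hc0 : Coh.IsCoh (cokernel (𝟙 (tensorMod (hub Zc) M'))) :=
    Groth.Agent.Lib.H90OXModExact.isCoh_cokernel _ hA
  -- the cokernel of `pa` is `coker p ⊗ M'`
  obtain ⟨M'', -, ⟨e''⟩⟩ := Groth.Agent.Lib.H78Dual.exists_tensor_inverse hM'
  haveI := isEquivalence_tensorRightFunctor (braiding _ _ ≪≫ e'')
  have e1 : cokernel pa ≅ cokernel (tensorModMap p (𝟙 M')) := cokernelCompIsIso _ φ.hom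
  have e2 : (tensorRightFunctor M').obj (cokernel p) ≅ cokernel ((tensorRightFunctor M').map p) :=
    PreservesCokernel.iso (tensorRightFunctor M') p
  have e3 : cokernel ((tensorRightFunctor M').map p) ≅ cokernel (tensorModMap p (𝟙 M')) :=
    cokernelIsoOfEq (tensorRightFunctor_map M' p)
  have hsub : CohB1.support (cokernel pa) ⊆ CohB1.support (cokernel p) := by
    refine (support_subset_of_epi (e2 ≪≫ e3 ≪≫ e1.symm).hom).trans ?_
    exact Groth.Agent.Lib.H90CurveH1.support_tensorMod_subset_left (cokernel p) M'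
  obtain ⟨d1, d2⟩ := drops f hcl Zc hirr ξ hξZ U hU hca (hsub.trans hsupp)
  refine ⟨tensorMod (hub Zc) M', pa, 𝟙 _, hA, hpa, inferInstance, hA, hca, hc0, d1, ?_, d2, ?_⟩
  · rw [support_cokernel_id, topologicalKrullDim_empty]
    exact bot_le
  · rw [support_cokernel_id, size_empty]
    exact bot_le

end Steps

section Proper

open Groth.Agent.Lib.IsoCls13 Groth.Agent.Lib.CohGrowthMulti Groth.Agent.Lib.CohGrowthMultiHH

variable (k : Type u) [Field k]
  [Y.Over (Spec (CommRingCat.of k))] [IsProper (Y ↘ Spec (CommRingCat.of k))]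

/-- **Growth of cohomology of twists by pulled-back modules.** -/
theorem exists_bound_rel (f : Y ⟶ X) (hcl : IsClosedMap f.base) {ι : Type*} [Fintype ι]
    {N : ι → Y.Modules} (hNinv : ∀ j, PicF.IsInvertible (N j))
    (hN : ∀ j, (∃ P : X.Modules, PicF.IsInvertible P ∧ Curv2.IsGloballyGenerated P ∧
        N j = (Scheme.Modules.pullback f).obj P) ∨
      (∃ Q : X.Modules, PicF.IsInvertible Q ∧ Curv2.IsGloballyGenerated Q ∧
        Nonempty (tensorMod (N j) ((Scheme.Modules.pullback f).obj Q) ≅ Coh.structureModule Y)))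
    (F : Y.Modules) (hF : Coh.IsCoh F) (r : ℕ)
    (hr : topologicalKrullDim ↥(CohB1.support F) ≤ (r : WithBot ℕ∞)) (t : ℕ)
    (ht : size f (CohB1.support F) ≤ (t : WithBot ℕ∞)) :
    ∃ C : ℕ, ∀ (i m : ℕ) (c : Cls Y), Len N m c → hc k F i c ≤ C * (m + 1) ^ t := by
  have hNoeth : AlgebraicGeometry.IsNoetherian Y :=
    @AlgebraicGeometry.IsNoetherian.mk Y
      (LocallyOfFiniteType.isLocallyNoetherian (Y ↘ Spec (CommRingCat.of k)))
      (Groth.Agent.Lib.EulerChar54.compactSpace_of_isProper k Y)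
  refine Groth.Agent.Lib.CohGrowthRel.bd_of_size (N := N) (h := hc k)
    (fun G hG i c => hc_of_isZero k hG i c)
    (fun S hS h1 h2 h3 i m c hc' => hc_mid_le k (isInvertible_rep_of_len hNinv hc') hS h1 h2 h3 i)
    (fun S hS h1 h2 h3 i m c hc' =>
      hc_left_succ_le k (isInvertible_rep_of_len hNinv hc') hS h1 h2 h3 i)
    (fun S hS h1 h2 _ m c hc' => hc_left_zero_le k (isInvertible_rep_of_len hNinv hc') hS h1 h2)
    (fun j G _ i c => hc_tensor k G (N j) i c)
    (fun G hG => exists_bound_one k G hG) (size f) (size_mono f) (size_bot f) ?_ F hF r hr t ht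
  intro j Zc hirr
  rcases hN j with ⟨P, hP, hg, hj⟩ | ⟨Q, hQ, hg, ⟨e⟩⟩
  · rw [hj]
    exact exists_step_pos f hcl hP hg Zc hirr
  · exact exists_step_neg f hcl hQ hg (hNinv j) e Zc hirr

end Proper

end Groth.Agent.Lib.CohGrowthRelHH
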