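import Groth.Agent.Lib.CohLocalization

/-!
# The localization formula on preimages of opens of the base

For `f : X ⟶ S` quasi-compact and quasi-separated over a quasi-separated base, `M` quasi-coherent on
`X`, `V ⊆ S` a quasi-compact open and `g` a global function on `S`: the restriction
`H'^q(f⁻¹V, M) → H'^q(f⁻¹(V ⊓ S_g), M)` is the localization at `g` (acting through `f^♯ g`).
-/

set_option autoImplicit false
universe u
open CategoryTheory CategoryTheory.Limits AlgebraicGeometry TopologicalSpace Opposite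

namespace Groth.Agent.Lib.CohLocPush

open Groth.Agent.Lib.LocMap Groth.Agent.Lib.CohLoc Groth.Agent.Lib.HUInst

variable {X S : Scheme.{u}} (f : X ⟶ S) (M : X.Modules)

/-- The pullback of a global function of `S` to `X`, as an element of `Coh.Γtop X`. -/
noncomputable def pullFn (g : Γ(S, ⊤)) : Coh.Γtop X := f.appTop.hom g

lemma preimage_inf_basicOpen (V : S.Opens) (g : Γ(S, ⊤)) :
    f ⁻¹ᵁ V ⊓ X.basicOpen (show Γ(X, ⊤) from pullFn f g) = f ⁻¹ᵁ (V ⊓ S.basicOpen g) := by
  have : X.basicOpen (show Γ(X, ⊤) from pullFn f g) = f ⁻¹ᵁ S.basicOpen g :=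
    (Scheme.preimage_basicOpen_top f g).symm
  rw [this]
  rfl

theorem isLocMap_preimage [QuasiCompact f] [QuasiSeparated f] [QuasiSeparatedSpace S]
    (hM : Coh.IsQCoh M) (V : S.Opens) (hV : IsCompact (V : Set S)) (g : Γ(S, ⊤)) (q : ℕ) :
    IsLocMap (gact M (pullFn f g) q (f ⁻¹ᵁ V)) (gact M (pullFn f g) q (f ⁻¹ᵁ (V ⊓ S.basicOpen g)))
      (resH (Coh.toAb M) q (f.preimage_mono (inf_le_left : V ⊓ S.basicOpen g ≤ V))) := by
  have : QuasiSeparatedSpace X := quasiSeparatedSpace_of_quasiSeparated f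
  have h1 : LocAtG M (pullFn f g) (f ⁻¹ᵁ V) :=
    locAtG_of_isCompact' hM (f ⁻¹ᵁ V) (f.isCompact_preimage hV)
  exact LocAt.congr h1 (preimage_inf_basicOpen f V g) _ q

end Groth.Agent.Lib.CohLocPush
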