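import Groth.Agent.Lib.MVNat

/-!
# An instance constant for the group structure of `CohTop.HU`

The additive group structure of `CohTop.HU A q V` is found by unfolding to an `Ext` group whose
`HasExt` instance is a very large term; every declaration in which the elaborator leaves that term
costs seconds of kernel time. Declaring the instance once as a constant (with high priority), and
re-typing the restriction maps and the maps induced by morphisms of sheaves with it, keeps later
terms small.
-/

set_option autoImplicit false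
universe u
open CategoryTheory TopologicalSpace Opposite

namespace Groth.Agent.Lib.HUInst

variable {X : TopCat.{u}}

noncomputable instance (priority := 2000) instAddCommGroupHU (A : CohTop.Ab X) (q : ℕ)
    (V : Opens X) : AddCommGroup (CohTop.HU A q V) := inferInstance

/-- `CohTop.res`, typed with the instance constant. -/
noncomputable def resH (A : CohTop.Ab X) (q : ℕ) {U V : Opens X} (h : V ≤ U) :
    CohTop.HU A q U →+ CohTop.HU A q V := CohTop.res A q h

lemma resH_apply (A : CohTop.Ab X) (q : ℕ) {U V : Opens X} (h : V ≤ U) (x : CohTop.HU A q U) :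
    resH A q h x = CohTop.res A q h x := rfl

/-- `CohTop.HUmap`, typed with the instance constant. -/
noncomputable def mapH {A A' : CohTop.Ab X} (φ : A ⟶ A') (q : ℕ) (U : Opens X) :
    CohTop.HU A q U →+ CohTop.HU A' q U := CohTop.HUmap φ q U

lemma mapH_apply {A A' : CohTop.Ab X} (φ : A ⟶ A') (q : ℕ) (U : Opens X) (x : CohTop.HU A q U) :
    mapH φ q U x = CohTop.HUmap φ q U x := rfl

lemma resH_resH (A : CohTop.Ab X) (q : ℕ) {U V W : Opens X} (h : V ≤ U) (h' : W ≤ V)
    (α : CohTop.HU A q U) : resH A q h' (resH A q h α) = resH A q (h'.trans h) α :=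
  Groth.Agent.Lib.AffVanTop.res_res A q h h' α

lemma resH_self (A : CohTop.Ab X) (q : ℕ) (U : Opens X) (α : CohTop.HU A q U) :
    resH A q (le_refl U) α = α :=
  Groth.Agent.Lib.AffVanTop.res_self A q U α

lemma resH_mapH {A A' : CohTop.Ab X} (φ : A ⟶ A') (q : ℕ) {U V : Opens X} (h : V ≤ U)
    (α : CohTop.HU A q U) : resH A' q h (mapH φ q U α) = mapH φ q V (resH A q h α) :=
  Groth.Agent.Lib.MVNat.res_HUmap φ q h α

/-- The Mayer–Vietoris connecting map for `V₁ ⊔ V₂`, typed with the instance constant. -/
noncomputable def mvδH (A : CohTop.Ab X) (n : ℕ) (V₁ V₂ : Opens X) :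
    CohTop.HU A n (V₁ ⊓ V₂) →+ CohTop.HU A (n + 1) (V₁ ⊔ V₂) :=
  Groth.Agent.Lib.MVNat.mvδ A (le_sup_left : V₁ ≤ V₁ ⊔ V₂) le_sup_right le_rfl n

end Groth.Agent.Lib.HUInst
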