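import Mathlib.Algebra.Group.Hom.Defs
import Mathlib.Algebra.Group.Prod
import Mathlib.Logic.Function.Iterate
import Mathlib.Tactic.Abel

/-!
# Localization maps of abelian groups with an endomorphism, and their five lemma

`IsLocMap gM gN ρ`: the additive map `ρ : M →+ N` is "the localization of `M` at `g`", where `g` acts
on `M` through `gM` and on `N` through `gN`: `ρ` is equivariant, `gN` is bijective, every element of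
`N` becomes an image after applying `gN` a number of times, and the kernel of `ρ` consists of
elements killed by an iterate of `gM`.

* `IsLocMap.of_five`: the five lemma for such maps.
* `IsLocMap.prod`, `IsLocMap.of_subsingleton`.
-/

set_option autoImplicit false

namespace Groth.Agent.Lib.LocMap

section Basic

variable {M N : Type*} [AddCommGroup M] [AddCommGroup N]

/-- `ρ` is the localization of `M` at the endomorphism `gM` (which corresponds to `gN` on `N`). -/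
structure IsLocMap (gM : M →+ M) (gN : N →+ N) (ρ : M →+ N) : Prop where
  comm : ∀ m, ρ (gM m) = gN (ρ m)
  bij : Function.Bijective gN
  surj : ∀ n, ∃ (k : ℕ) (m : M), (gN^[k]) n = ρ m
  ker : ∀ m, ρ m = 0 → ∃ k : ℕ, (gM^[k]) m = 0

lemma iter_comm' {gM : M →+ M} {gN : N →+ N} {ρ : M →+ N} (h : ∀ m, ρ (gM m) = gN (ρ m))
    (k : ℕ) (m : M) : ρ (gM^[k] m) = gN^[k] (ρ m) := by
  induction k generalizing m with
  | zero => rfl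
  | succ k ih => rw [Function.iterate_succ_apply, Function.iterate_succ_apply, ih, h]

lemma IsLocMap.iter_comm {gM : M →+ M} {gN : N →+ N} {ρ : M →+ N} (h : IsLocMap gM gN ρ)
    (k : ℕ) (m : M) : ρ (gM^[k] m) = gN^[k] (ρ m) :=
  iter_comm' h.comm k m

lemma iter_zero (g : M →+ M) (k : ℕ) : g^[k] 0 = 0 := iterate_map_zero g k

lemma iter_add (g : M →+ M) (k : ℕ) (x y : M) : g^[k] (x + y) = g^[k] x + g^[k] y :=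
  iterate_map_add g k x y

lemma iter_sub (g : M →+ M) (k : ℕ) (x y : M) : g^[k] (x - y) = g^[k] x - g^[k] y :=
  iterate_map_sub g k x y

lemma iter_neg (g : M →+ M) (k : ℕ) (x : M) : g^[k] (-x) = -g^[k] x :=
  iterate_map_neg g k x

lemma iter_iter (g : M →+ M) (k l : ℕ) (x : M) : g^[k] (g^[l] x) = g^[k + l] x :=
  (Function.iterate_add_apply g k l x).symm

lemma iter_eq_zero_of_le (g : M →+ M) {k l : ℕ} (hkl : k ≤ l) {x : M} (hx : g^[k] x = 0) :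
    g^[l] x = 0 := by
  obtain ⟨d, rfl⟩ := Nat.exists_eq_add_of_le hkl
  rw [Nat.add_comm k d, ← iter_iter, hx, iter_zero]

lemma iter_injective {g : M →+ M} (hg : Function.Injective g) (k : ℕ) :
    Function.Injective (g^[k]) := hg.iterate k

lemma IsLocMap.of_subsingleton [Subsingleton M] [Subsingleton N] (gM : M →+ M) (gN : N →+ N)
    (ρ : M →+ N) : IsLocMap gM gN ρ where
  comm _ := Subsingleton.elim _ _
  bij := ⟨fun _ _ _ => Subsingleton.elim _ _, fun n => ⟨n, Subsingleton.elim _ _⟩⟩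
  surj _ := ⟨0, 0, Subsingleton.elim _ _⟩
  ker _ _ := ⟨0, Subsingleton.elim _ _⟩

end Basic

section Prod

variable {M M' N N' : Type*} [AddCommGroup M] [AddCommGroup N] [AddCommGroup M'] [AddCommGroup N']

lemma iter_prodMap (g : M →+ M) (g' : M' →+ M') (k : ℕ) (x : M × M') :
    (g.prodMap g')^[k] x = (g^[k] x.1, g'^[k] x.2) := by
  induction k generalizing x with
  | zero => rfl
  | succ k ih =>
    rw [Function.iterate_succ_apply, ih, Function.iterate_succ_apply, Function.iterate_succ_apply]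
    rfl

lemma IsLocMap.prod {gM : M →+ M} {gN : N →+ N} {ρ : M →+ N} {gM' : M' →+ M'} {gN' : N' →+ N'}
    {ρ' : M' →+ N'} (h : IsLocMap gM gN ρ) (h' : IsLocMap gM' gN' ρ') :
    IsLocMap (gM.prodMap gM') (gN.prodMap gN') (ρ.prodMap ρ') where
  comm m := Prod.ext (h.comm m.1) (h'.comm m.2)
  bij := by
    constructor
    · intro x y hxy
      have h1 := congrArg Prod.fst hxy
      have h2 := congrArg Prod.snd hxy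
      exact Prod.ext (h.bij.1 h1) (h'.bij.1 h2)
    · intro x
      obtain ⟨a, ha⟩ := h.bij.2 x.1
      obtain ⟨b, hb⟩ := h'.bij.2 x.2
      exact ⟨(a, b), Prod.ext ha hb⟩
  surj n := by
    obtain ⟨k, m, hm⟩ := h.surj n.1
    obtain ⟨k', m', hm'⟩ := h'.surj n.2
    refine ⟨k + k', (gM^[k'] m, gM'^[k] m'), ?_⟩
    rw [iter_prodMap]
    refine Prod.ext ?_ ?_
    · change gN^[k + k'] n.1 = ρ (gM^[k'] m)
      rw [h.iter_comm, ← hm, iter_iter, Nat.add_comm k' k]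
    · change gN'^[k + k'] n.2 = ρ' (gM'^[k] m')
      rw [h'.iter_comm, ← hm', iter_iter]
  ker m hm := by
    obtain ⟨k, hk⟩ := h.ker m.1 (congrArg Prod.fst hm)
    obtain ⟨k', hk'⟩ := h'.ker m.2 (congrArg Prod.snd hm)
    refine ⟨k + k', ?_⟩
    rw [iter_prodMap]
    exact Prod.ext (iter_eq_zero_of_le gM (Nat.le_add_right k k') hk)
      (iter_eq_zero_of_le gM' (Nat.le_add_left k' k) hk')

end Prod

section Five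

variable {M₁ M₂ M₃ M₄ M₅ N₁ N₂ N₃ N₄ N₅ : Type*}
  [AddCommGroup M₁] [AddCommGroup M₂] [AddCommGroup M₃] [AddCommGroup M₄] [AddCommGroup M₅]
  [AddCommGroup N₁] [AddCommGroup N₂] [AddCommGroup N₃] [AddCommGroup N₄] [AddCommGroup N₅]

/-- The five lemma for bijectivity of an endomorphism of an exact sequence. -/
theorem bijective_of_five
    (b₁ : N₁ →+ N₂) (b₂ : N₂ →+ N₃) (b₃ : N₃ →+ N₄) (b₄ : N₄ →+ N₅)
    (h₁ : N₁ →+ N₁) (h₂ : N₂ →+ N₂) (h₃ : N₃ →+ N₃) (h₄ : N₄ →+ N₄) (h₅ : N₅ →+ N₅)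
    (zb₁ : ∀ x, b₂ (b₁ x) = 0) (zb₃ : ∀ x, b₄ (b₃ x) = 0)
    (eb₂ : ∀ x, b₂ x = 0 → ∃ y, b₁ y = x)
    (eb₃ : ∀ x, b₃ x = 0 → ∃ y, b₂ y = x)
    (eb₄ : ∀ x, b₄ x = 0 → ∃ y, b₃ y = x)
    (cb₁ : ∀ x, b₁ (h₁ x) = h₂ (b₁ x)) (cb₂ : ∀ x, b₂ (h₂ x) = h₃ (b₂ x))
    (cb₃ : ∀ x, b₃ (h₃ x) = h₄ (b₃ x)) (cb₄ : ∀ x, b₄ (h₄ x) = h₅ (b₄ x))
    (H₁ : Function.Surjective h₁) (H₂ : Function.Bijective h₂) (H₄ : Function.Bijective h₄)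
    (H₅ : Function.Injective h₅) : Function.Bijective h₃ := by
  constructor
  · rw [injective_iff_map_eq_zero]
    intro n hn
    have e1 : b₃ n = 0 := by
      apply H₄.1
      rw [← cb₃, hn, map_zero, map_zero]
    obtain ⟨n₂, rfl⟩ := eb₃ n e1
    have e2 : b₂ (h₂ n₂) = 0 := by rw [cb₂, hn]
    obtain ⟨n₁, hn₁⟩ := eb₂ _ e2
    obtain ⟨n₁', rfl⟩ := H₁ n₁
    have e3 : n₂ = b₁ n₁' := by
      apply H₂.1
      rw [← hn₁, cb₁]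
    rw [e3, zb₁]
  · intro n
    obtain ⟨n₄, hn₄⟩ := H₄.2 (b₃ n)
    have e1 : b₄ n₄ = 0 := by
      apply H₅
      rw [← cb₄, hn₄, zb₃, map_zero]
    obtain ⟨n₃, rfl⟩ := eb₄ n₄ e1
    have e2 : b₃ (n - h₃ n₃) = 0 := by
      rw [map_sub, cb₃, hn₄, sub_self]
    obtain ⟨n₂, hn₂⟩ := eb₃ _ e2
    obtain ⟨n₂', rfl⟩ := H₂.2 n₂
    refine ⟨n₃ + b₂ n₂', ?_⟩
    rw [map_add, ← cb₂, hn₂]
    abel

/-- **Five lemma for localization maps.** -/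
theorem IsLocMap.of_five
    (a₁ : M₁ →+ M₂) (a₂ : M₂ →+ M₃) (a₃ : M₃ →+ M₄) (a₄ : M₄ →+ M₅)
    (b₁ : N₁ →+ N₂) (b₂ : N₂ →+ N₃) (b₃ : N₃ →+ N₄) (b₄ : N₄ →+ N₅)
    (g₁ : M₁ →+ M₁) (g₂ : M₂ →+ M₂) (g₃ : M₃ →+ M₃) (g₄ : M₄ →+ M₄) (g₅ : M₅ →+ M₅)
    (h₁ : N₁ →+ N₁) (h₂ : N₂ →+ N₂) (h₃ : N₃ →+ N₃) (h₄ : N₄ →+ N₄) (h₅ : N₅ →+ N₅)
    (ρ₁ : M₁ →+ N₁) (ρ₂ : M₂ →+ N₂) (ρ₃ : M₃ →+ N₃) (ρ₄ : M₄ →+ N₄) (ρ₅ : M₅ →+ N₅)
    (za₁ : ∀ x, a₂ (a₁ x) = 0)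
    (ea₃ : ∀ x, a₃ x = 0 → ∃ y, a₂ y = x)
    (ea₄ : ∀ x, a₄ x = 0 → ∃ y, a₃ y = x)
    (zb₁ : ∀ x, b₂ (b₁ x) = 0) (zb₃ : ∀ x, b₄ (b₃ x) = 0)
    (eb₂ : ∀ x, b₂ x = 0 → ∃ y, b₁ y = x)
    (eb₃ : ∀ x, b₃ x = 0 → ∃ y, b₂ y = x)
    (eb₄ : ∀ x, b₄ x = 0 → ∃ y, b₃ y = x)
    (ca₂ : ∀ x, a₂ (g₂ x) = g₃ (a₂ x))
    (ca₃ : ∀ x, a₃ (g₃ x) = g₄ (a₃ x)) (ca₄ : ∀ x, a₄ (g₄ x) = g₅ (a₄ x))
    (cb₁ : ∀ x, b₁ (h₁ x) = h₂ (b₁ x)) (cb₂ : ∀ x, b₂ (h₂ x) = h₃ (b₂ x))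
    (cb₃ : ∀ x, b₃ (h₃ x) = h₄ (b₃ x)) (cb₄ : ∀ x, b₄ (h₄ x) = h₅ (b₄ x))
    (s₁ : ∀ x, ρ₂ (a₁ x) = b₁ (ρ₁ x)) (s₂ : ∀ x, ρ₃ (a₂ x) = b₂ (ρ₂ x))
    (s₃ : ∀ x, ρ₄ (a₃ x) = b₃ (ρ₃ x)) (s₄ : ∀ x, ρ₅ (a₄ x) = b₄ (ρ₄ x))
    (L₁ : IsLocMap g₁ h₁ ρ₁) (L₂ : IsLocMap g₂ h₂ ρ₂) (L₄ : IsLocMap g₄ h₄ ρ₄)
    (L₅ : IsLocMap g₅ h₅ ρ₅) (c₃ : ∀ m, ρ₃ (g₃ m) = h₃ (ρ₃ m)) :
    IsLocMap g₃ h₃ ρ₃ where
  comm := c₃
  bij := bijective_of_five b₁ b₂ b₃ b₄ h₁ h₂ h₃ h₄ h₅ zb₁ zb₃ eb₂ eb₃ eb₄ cb₁ cb₂ cb₃ cb₄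
    L₁.bij.2 L₂.bij L₄.bij L₅.bij.1
  surj n := by
    obtain ⟨k, m₄, hm₄⟩ := L₄.surj (b₃ n)
    have e1 : ρ₅ (a₄ m₄) = 0 := by
      rw [s₄, ← hm₄, iter_comm' cb₄, zb₃, iter_zero]
    obtain ⟨l, hl⟩ := L₅.ker (a₄ m₄) e1
    have e2 : a₄ (g₄^[l] m₄) = 0 := by rw [iter_comm' ca₄, hl]
    obtain ⟨m₃, hm₃⟩ := ea₄ _ e2
    have e3 : b₃ (ρ₃ m₃ - h₃^[l + k] n) = 0 := by
      rw [map_sub, ← s₃, hm₃, L₄.iter_comm, ← hm₄, iter_iter, iter_comm' cb₃, sub_self]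
    obtain ⟨n₂, hn₂⟩ := eb₃ _ e3
    obtain ⟨j, m₂, hm₂⟩ := L₂.surj n₂
    refine ⟨j + (l + k), g₃^[j] m₃ - a₂ m₂, ?_⟩
    rw [map_sub, iter_comm' c₃, s₂, ← hm₂, iter_comm' cb₂, hn₂, iter_sub, ← iter_iter]
    abel
  ker m₃ hm₃ := by
    have e1 : ρ₄ (a₃ m₃) = 0 := by rw [s₃, hm₃, map_zero]
    obtain ⟨k, hk⟩ := L₄.ker _ e1
    have e2 : a₃ (g₃^[k] m₃) = 0 := by rw [iter_comm' ca₃, hk]
    obtain ⟨m₂, hm₂⟩ := ea₃ _ e2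
    have e3 : b₂ (ρ₂ m₂) = 0 := by
      rw [← s₂, hm₂, iter_comm' c₃, hm₃, iter_zero]
    obtain ⟨n₁, hn₁⟩ := eb₂ _ e3
    obtain ⟨j, m₁, hm₁⟩ := L₁.surj n₁
    have e4 : ρ₂ (a₁ m₁ - g₂^[j] m₂) = 0 := by
      rw [map_sub, s₁, ← hm₁, L₂.iter_comm, ← hn₁, iter_comm' cb₁, sub_self]
    obtain ⟨l, hl⟩ := L₂.ker _ e4
    refine ⟨l + j + k, ?_⟩
    have e5 := congrArg a₂ hl
    rw [iter_comm' ca₂, map_sub, za₁, iter_comm' ca₂, hm₂, zero_sub, iter_neg, map_zero,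
      neg_eq_zero, iter_iter, iter_iter] at e5
    exact e5

end Five

end Groth.Agent.Lib.LocMap
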