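import Groth.Agent.Lib.HUSec
import Groth.Agent.Lib.LocMap
import Groth.Agent.Lib.AffVanCover
import Groth.Agent.Lib.AssPush
import Groth.Agent.Lib.HUInst

/-!
# Cohomology of quasi-coherent modules commutes with localization

For a scheme `X`, a quasi-coherent module `M`, a global function `g` and a quasi-compact open `W`
contained in a quasi-separated open, the restriction map
`H'^q(W, M) → H'^q(W ⊓ X_g, M)` is the localization at `g` (`LocAt`, in the sense of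
`Groth.Agent.Lib.LocMap.IsLocMap`, where `g` acts through `Coh.smulAb`).
-/

set_option autoImplicit false
universe u
open CategoryTheory CategoryTheory.Limits AlgebraicGeometry TopologicalSpace Opposite

namespace Groth.Agent.Lib.CohLoc

open Groth.Agent.Lib.LocMap Groth.Agent.Lib.MVNat Groth.Agent.Lib.HUSec
open Groth.Agent.Lib.AffVanTop Groth.Agent.Lib.HUInst

variable {X : Scheme.{u}} (M : X.Modules) (g : Coh.Γtop X)

/-- Multiplication by the global function `g` on `H'^q(W, M)`. -/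
noncomputable def gact (q : ℕ) (W : X.Opens) :
    CohTop.HU (Coh.toAb M) q W →+ CohTop.HU (Coh.toAb M) q W :=
  mapH (Coh.smulAb M g) q W

lemma res_gact (q : ℕ) {W W' : X.Opens} (h : W' ≤ W) (α : CohTop.HU (Coh.toAb M) q W) :
    resH (Coh.toAb M) q h (gact M g q W α) =
      gact M g q W' (resH (Coh.toAb M) q h α) :=
  resH_mapH (Coh.smulAb M g) q h α

/-- The restriction `H'^q(W, M) → H'^q(W', M)` is the localization at `g`, for all `q`. -/
def LocAt (W W' : X.Opens) (h : W' ≤ W) : Prop :=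
  ∀ q : ℕ, IsLocMap (gact M g q W) (gact M g q W') (resH (Coh.toAb M) q h)

variable {M g}

lemma LocAt.congr {W W' W'' : X.Opens} {h : W' ≤ W} (hL : LocAt M g W W' h) (e : W' = W'')
    (h' : W'' ≤ W) : LocAt M g W W'' h' := by
  subst e
  exact hL

lemma LocAt.congr_left {W₀ W W' : X.Opens} {h : W' ≤ W} (hL : LocAt M g W W' h) (e : W = W₀)
    (h' : W' ≤ W₀) : LocAt M g W₀ W' h' := by
  subst e
  exact hL

lemma locAt_of_eq_bot {W W' : X.Opens} (h : W' ≤ W) (hW : W = ⊥) : LocAt M g W W' h := by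
  intro q
  have hW' : W' = ⊥ := le_bot_iff.mp (hW ▸ h)
  have : Subsingleton (CohTop.HU (Coh.toAb M) q W) :=
    subsingleton_of_forall_eq 0 (HU_eq_zero_of_eq_bot (Coh.toAb M) q hW)
  have : Subsingleton (CohTop.HU (Coh.toAb M) q W') :=
    subsingleton_of_forall_eq 0 (HU_eq_zero_of_eq_bot (Coh.toAb M) q hW')
  exact IsLocMap.of_subsingleton _ _ _

/-! ### The Mayer–Vietoris step -/

section MV

variable (A : CohTop.Ab X.toTopCat)

/-- The difference of the two restriction maps. -/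
noncomputable def diffMap (q : ℕ) (V₁ V₂ : X.Opens) :
    CohTop.HU A q V₁ × CohTop.HU A q V₂ →+ CohTop.HU A q (V₁ ⊓ V₂) :=
  (resH A q inf_le_left).comp (AddMonoidHom.fst (CohTop.HU A q V₁) (CohTop.HU A q V₂)) -
    (resH A q inf_le_right).comp (AddMonoidHom.snd (CohTop.HU A q V₁) (CohTop.HU A q V₂))

lemma diffMap_apply (q : ℕ) (V₁ V₂ : X.Opens) (x : CohTop.HU A q V₁ × CohTop.HU A q V₂) :
    diffMap A q V₁ V₂ x = resH A q inf_le_left x.1 - resH A q inf_le_right x.2 := rfl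

/-- The pair of the two restriction maps. -/
noncomputable def pairMap (q : ℕ) (V₁ V₂ : X.Opens) :
    CohTop.HU A q (V₁ ⊔ V₂) →+ CohTop.HU A q V₁ × CohTop.HU A q V₂ :=
  (resH A q le_sup_left).prod (resH A q le_sup_right)

lemma pairMap_apply (q : ℕ) (V₁ V₂ : X.Opens) (x : CohTop.HU A q (V₁ ⊔ V₂)) :
    pairMap A q V₁ V₂ x = (resH A q le_sup_left x, resH A q le_sup_right x) := rfl

lemma diffMap_pairMap (q : ℕ) (V₁ V₂ : X.Opens) (x : CohTop.HU A q (V₁ ⊔ V₂)) :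
    diffMap A q V₁ V₂ (pairMap A q V₁ V₂ x) = 0 := by
  rw [diffMap_apply, pairMap_apply]
  dsimp only
  rw [resH_resH, resH_resH, sub_self]

lemma exists_pairMap_eq (q : ℕ) (V₁ V₂ : X.Opens) (x : CohTop.HU A q V₁ × CohTop.HU A q V₂)
    (hx : diffMap A q V₁ V₂ x = 0) : ∃ y, pairMap A q V₁ V₂ y = x := by
  obtain ⟨α, h1, h2⟩ := exists_res_eq A (le_sup_left : V₁ ≤ V₁ ⊔ V₂) le_sup_right le_rfl q x.1 x.2 hx
  exact ⟨α, Prod.ext h1 h2⟩

lemma pairMap_eq_zero₀ (V₁ V₂ : X.Opens) (x : CohTop.HU A 0 (V₁ ⊔ V₂))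
    (hx : pairMap A 0 V₁ V₂ x = 0) : x = 0 :=
  eq_zero_of_res_eq_zero₀ A (le_sup_left : V₁ ≤ V₁ ⊔ V₂) le_sup_right le_rfl x
    (congrArg Prod.fst hx) (congrArg Prod.snd hx)

/-- The Mayer–Vietoris connecting map for `V₁ ⊔ V₂`. -/
noncomputable def mvδ' (n : ℕ) (V₁ V₂ : X.Opens) :
    CohTop.HU A n (V₁ ⊓ V₂) →+ CohTop.HU A (n + 1) (V₁ ⊔ V₂) :=
  mvδH A n V₁ V₂

lemma exists_mvδ'_eq (n : ℕ) (V₁ V₂ : X.Opens) (x : CohTop.HU A (n + 1) (V₁ ⊔ V₂))
    (hx : pairMap A (n + 1) V₁ V₂ x = 0) : ∃ y, mvδ' A n V₁ V₂ y = x :=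
  exists_mvδ_eq A (le_sup_left : V₁ ≤ V₁ ⊔ V₂) le_sup_right le_rfl n x
    (congrArg Prod.fst hx) (congrArg Prod.snd hx)

lemma mvδ'_diffMap (n : ℕ) (V₁ V₂ : X.Opens) (x : CohTop.HU A n V₁ × CohTop.HU A n V₂) :
    mvδ' A n V₁ V₂ (diffMap A n V₁ V₂ x) = 0 :=
  mvδ_res_sub_res A (le_sup_left : V₁ ≤ V₁ ⊔ V₂) le_sup_right le_rfl n x.1 x.2

lemma exists_diffMap_eq (n : ℕ) (V₁ V₂ : X.Opens) (x : CohTop.HU A n (V₁ ⊓ V₂))
    (hx : mvδ' A n V₁ V₂ x = 0) : ∃ y, diffMap A n V₁ V₂ y = x := by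
  obtain ⟨a, b, hab⟩ := exists_of_mvδ_eq_zero A (le_sup_left : V₁ ≤ V₁ ⊔ V₂) le_sup_right le_rfl
    n x hx
  exact ⟨(a, b), hab⟩

lemma pairMap_mvδ' (n : ℕ) (V₁ V₂ : X.Opens) (x : CohTop.HU A n (V₁ ⊓ V₂)) :
    pairMap A (n + 1) V₁ V₂ (mvδ' A n V₁ V₂ x) = 0 :=
  Prod.ext (res_mvδ_left A (le_sup_left : V₁ ≤ V₁ ⊔ V₂) le_sup_right le_rfl n x)
    (res_mvδ_right A (le_sup_left : V₁ ≤ V₁ ⊔ V₂) le_sup_right le_rfl n x)

variable {V₁ V₂ V₁' V₂' : X.Opens} (h₁ : V₁' ≤ V₁) (h₂ : V₂' ≤ V₂)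

lemma pairMap_res (q : ℕ) (x : CohTop.HU A q (V₁ ⊔ V₂)) :
    ((resH A q h₁).prodMap (resH A q h₂)) (pairMap A q V₁ V₂ x) =
      pairMap A q V₁' V₂' (resH A q (sup_le_sup h₁ h₂) x) := by
  refine Prod.ext ?_ ?_
  · change resH A q h₁ (resH A q le_sup_left x) =
      resH A q le_sup_left (resH A q (sup_le_sup h₁ h₂) x)
    rw [resH_resH, resH_resH]
  · change resH A q h₂ (resH A q le_sup_right x) =
      resH A q le_sup_right (resH A q (sup_le_sup h₁ h₂) x)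
    rw [resH_resH, resH_resH]

lemma diffMap_res (q : ℕ) (x : CohTop.HU A q V₁ × CohTop.HU A q V₂) :
    resH A q (inf_le_inf h₁ h₂) (diffMap A q V₁ V₂ x) =
      diffMap A q V₁' V₂' (((resH A q h₁).prodMap (resH A q h₂)) x) := by
  rw [diffMap_apply, diffMap_apply, map_sub, resH_resH, resH_resH]
  change _ = resH A q inf_le_left (resH A q h₁ x.1) -
    resH A q inf_le_right (resH A q h₂ x.2)
  rw [resH_resH, resH_resH]

lemma mvδ'_res (n : ℕ) (x : CohTop.HU A n (V₁ ⊓ V₂)) :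
    resH A (n + 1) (sup_le_sup h₁ h₂) (mvδ' A n V₁ V₂ x) =
      mvδ' A n V₁' V₂' (resH A n (inf_le_inf h₁ h₂) x) :=
  res_mvδ A _ _ _ _ _ _ h₁ h₂ (sup_le_sup h₁ h₂) n x

end MV

section MVg

variable (M g)

lemma pairMap_gact (q : ℕ) (V₁ V₂ : X.Opens) (x : CohTop.HU (Coh.toAb M) q (V₁ ⊔ V₂)) :
    pairMap (Coh.toAb M) q V₁ V₂ (gact M g q (V₁ ⊔ V₂) x) =
      ((gact M g q V₁).prodMap (gact M g q V₂)) (pairMap (Coh.toAb M) q V₁ V₂ x) :=
  Prod.ext (res_gact M g q le_sup_left x) (res_gact M g q le_sup_right x)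

lemma diffMap_gact (q : ℕ) (V₁ V₂ : X.Opens)
    (x : CohTop.HU (Coh.toAb M) q V₁ × CohTop.HU (Coh.toAb M) q V₂) :
    diffMap (Coh.toAb M) q V₁ V₂ (((gact M g q V₁).prodMap (gact M g q V₂)) x) =
      gact M g q (V₁ ⊓ V₂) (diffMap (Coh.toAb M) q V₁ V₂ x) := by
  rw [diffMap_apply, diffMap_apply, map_sub, ← res_gact, ← res_gact]
  rfl

lemma mvδ'_gact (n : ℕ) (V₁ V₂ : X.Opens) (x : CohTop.HU (Coh.toAb M) n (V₁ ⊓ V₂)) :
    mvδ' (Coh.toAb M) n V₁ V₂ (gact M g n (V₁ ⊓ V₂) x) =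
      gact M g (n + 1) (V₁ ⊔ V₂) (mvδ' (Coh.toAb M) n V₁ V₂ x) :=
  (mvδ_HUmap _ _ _ (Coh.smulAb M g) n x).symm

end MVg

theorem LocAt.sup {V₁ V₂ V₁' V₂' : X.Opens} {h₁ : V₁' ≤ V₁} {h₂ : V₂' ≤ V₂}
    (L₁ : LocAt M g V₁ V₁' h₁) (L₂ : LocAt M g V₂ V₂' h₂)
    (L₁₂ : LocAt M g (V₁ ⊓ V₂) (V₁' ⊓ V₂') (inf_le_inf h₁ h₂)) :
    LocAt M g (V₁ ⊔ V₂) (V₁' ⊔ V₂') (sup_le_sup h₁ h₂) := by
  intro q
  cases q with
  | zero =>
    refine IsLocMap.of_five
      (a₁ := (0 : PUnit.{u + 1} →+ PUnit.{u + 1}))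
      (a₂ := (0 : PUnit.{u + 1} →+ CohTop.HU (Coh.toAb M) 0 (V₁ ⊔ V₂)))
      (a₃ := pairMap (Coh.toAb M) 0 V₁ V₂) (a₄ := diffMap (Coh.toAb M) 0 V₁ V₂)
      (b₁ := (0 : PUnit.{u + 1} →+ PUnit.{u + 1}))
      (b₂ := (0 : PUnit.{u + 1} →+ CohTop.HU (Coh.toAb M) 0 (V₁' ⊔ V₂')))
      (b₃ := pairMap (Coh.toAb M) 0 V₁' V₂') (b₄ := diffMap (Coh.toAb M) 0 V₁' V₂')
      (g₁ := 0) (g₂ := 0) (g₃ := gact M g 0 (V₁ ⊔ V₂))
      (g₄ := (gact M g 0 V₁).prodMap (gact M g 0 V₂)) (g₅ := gact M g 0 (V₁ ⊓ V₂))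
      (h₁ := 0) (h₂ := 0) (h₃ := gact M g 0 (V₁' ⊔ V₂'))
      (h₄ := (gact M g 0 V₁').prodMap (gact M g 0 V₂')) (h₅ := gact M g 0 (V₁' ⊓ V₂'))
      (ρ₁ := 0) (ρ₂ := 0) (ρ₃ := resH (Coh.toAb M) 0 (sup_le_sup h₁ h₂))
      (ρ₄ := (resH (Coh.toAb M) 0 h₁).prodMap (resH (Coh.toAb M) 0 h₂))
      (ρ₅ := resH (Coh.toAb M) 0 (inf_le_inf h₁ h₂))
      ?_ ?_ ?_ ?_ ?_ ?_ ?_ ?_ ?_ ?_ ?_ ?_ ?_ ?_ ?_ ?_ ?_ ?_ ?_
      (IsLocMap.of_subsingleton _ _ _) (IsLocMap.of_subsingleton _ _ _)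
      ((L₁ 0).prod (L₂ 0)) (L₁₂ 0) ?_
    · exact fun _ => rfl
    · intro x hx
      exact ⟨PUnit.unit, (pairMap_eq_zero₀ _ V₁ V₂ x hx).symm⟩
    · exact exists_pairMap_eq _ 0 V₁ V₂
    · exact fun _ => rfl
    · exact diffMap_pairMap _ 0 V₁' V₂'
    · exact fun x _ => ⟨PUnit.unit, Subsingleton.elim _ _⟩
    · intro x hx
      exact ⟨PUnit.unit, (pairMap_eq_zero₀ _ V₁' V₂' x hx).symm⟩
    · exact exists_pairMap_eq _ 0 V₁' V₂'
    · exact fun _ => (map_zero _).symm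
    · exact pairMap_gact M g 0 V₁ V₂
    · exact diffMap_gact M g 0 V₁ V₂
    · exact fun _ => Subsingleton.elim _ _
    · exact fun _ => (map_zero _).symm
    · exact pairMap_gact M g 0 V₁' V₂'
    · exact diffMap_gact M g 0 V₁' V₂'
    · exact fun _ => Subsingleton.elim _ _
    · exact fun _ => map_zero _
    · exact fun x => pairMap_res _ h₁ h₂ 0 x
    · exact fun x => diffMap_res _ h₁ h₂ 0 x
    · exact fun x => res_gact M g 0 _ x
  | succ n =>
    refine IsLocMap.of_five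
      (a₁ := diffMap (Coh.toAb M) n V₁ V₂) (a₂ := mvδ' (Coh.toAb M) n V₁ V₂)
      (a₃ := pairMap (Coh.toAb M) (n + 1) V₁ V₂) (a₄ := diffMap (Coh.toAb M) (n + 1) V₁ V₂)
      (b₁ := diffMap (Coh.toAb M) n V₁' V₂') (b₂ := mvδ' (Coh.toAb M) n V₁' V₂')
      (b₃ := pairMap (Coh.toAb M) (n + 1) V₁' V₂') (b₄ := diffMap (Coh.toAb M) (n + 1) V₁' V₂')
      (g₁ := (gact M g n V₁).prodMap (gact M g n V₂)) (g₂ := gact M g n (V₁ ⊓ V₂))
      (g₃ := gact M g (n + 1) (V₁ ⊔ V₂))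
      (g₄ := (gact M g (n + 1) V₁).prodMap (gact M g (n + 1) V₂))
      (g₅ := gact M g (n + 1) (V₁ ⊓ V₂))
      (h₁ := (gact M g n V₁').prodMap (gact M g n V₂')) (h₂ := gact M g n (V₁' ⊓ V₂'))
      (h₃ := gact M g (n + 1) (V₁' ⊔ V₂'))
      (h₄ := (gact M g (n + 1) V₁').prodMap (gact M g (n + 1) V₂'))
      (h₅ := gact M g (n + 1) (V₁' ⊓ V₂'))
      (ρ₁ := (resH (Coh.toAb M) n h₁).prodMap (resH (Coh.toAb M) n h₂))
      (ρ₂ := resH (Coh.toAb M) n (inf_le_inf h₁ h₂))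
      (ρ₃ := resH (Coh.toAb M) (n + 1) (sup_le_sup h₁ h₂))
      (ρ₄ := (resH (Coh.toAb M) (n + 1) h₁).prodMap (resH (Coh.toAb M) (n + 1) h₂))
      (ρ₅ := resH (Coh.toAb M) (n + 1) (inf_le_inf h₁ h₂))
      ?_ ?_ ?_ ?_ ?_ ?_ ?_ ?_ ?_ ?_ ?_ ?_ ?_ ?_ ?_ ?_ ?_ ?_ ?_
      ((L₁ n).prod (L₂ n)) (L₁₂ n)
      ((L₁ (n + 1)).prod (L₂ (n + 1))) (L₁₂ (n + 1)) ?_
    · exact mvδ'_diffMap _ n V₁ V₂
    · exact exists_mvδ'_eq _ n V₁ V₂
    · exact exists_pairMap_eq _ (n + 1) V₁ V₂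
    · exact mvδ'_diffMap _ n V₁' V₂'
    · exact diffMap_pairMap _ (n + 1) V₁' V₂'
    · exact exists_diffMap_eq _ n V₁' V₂'
    · exact exists_mvδ'_eq _ n V₁' V₂'
    · exact exists_pairMap_eq _ (n + 1) V₁' V₂'
    · exact mvδ'_gact M g n V₁ V₂
    · exact pairMap_gact M g (n + 1) V₁ V₂
    · exact diffMap_gact M g (n + 1) V₁ V₂
    · exact diffMap_gact M g n V₁' V₂'
    · exact mvδ'_gact M g n V₁' V₂'
    · exact pairMap_gact M g (n + 1) V₁' V₂'
    · exact diffMap_gact M g (n + 1) V₁' V₂'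
    · exact fun x => diffMap_res _ h₁ h₂ n x
    · exact fun x => mvδ'_res _ h₁ h₂ n x
    · exact fun x => pairMap_res _ h₁ h₂ (n + 1) x
    · exact fun x => diffMap_res _ h₁ h₂ (n + 1) x
    · exact fun x => res_gact M g (n + 1) _ x

/-! ### The affine case -/

section Affine

open Groth.Agent.Lib.QCohStalk Groth.Agent.Lib.AffVanSections

variable (M g)

lemma smulAb_iterate (U : (Opens X)ᵒᵖ) (k : ℕ) (m : (Coh.toAb M).obj.obj U) :
    ((Coh.smulAb M g).hom.app U)^[k] m =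
      @HSMul.hSMul (X.ringCatSheaf.obj.obj U) (M.val.obj U) (M.val.obj U) _
        ((Coh.resTop X U g) ^ k) m := by
  induction k with
  | zero =>
    rw [pow_zero, Function.iterate_zero_apply]
    exact (one_smul (X.ringCatSheaf.obj.obj U) (show M.val.obj U from m)).symm
  | succ k ih =>
    rw [Function.iterate_succ_apply', ih, Coh.smulAb_app, pow_succ', mul_smul]

lemma bijective_smulAb_app_of_isUnit (U : (Opens X)ᵒᵖ) (hu : IsUnit (Coh.resTop X U g)) :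
    Function.Bijective ((Coh.smulAb M g).hom.app U) := by
  have h1 : Function.Bijective (fun m : M.val.obj U => hu.unit • m) := MulAction.bijective hu.unit
  have h2 : ((Coh.smulAb M g).hom.app U : (Coh.toAb M).obj.obj U → (Coh.toAb M).obj.obj U) =
      fun m : M.val.obj U => hu.unit • m := by
    funext m
    rw [Coh.smulAb_app]
    rfl
  rw [h2]
  exact h1

variable {M g} in
/-- **Affine case**: on an affine open `W`, restriction to `W ⊓ X_g` is the localization at `g`. -/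
theorem locAt_of_isAffineOpen (hM : Coh.IsQCoh M) {W : X.Opens} (hW : IsAffineOpen W) :
    LocAt M g W (W ⊓ X.basicOpen (show Γ(X, ⊤) from g)) inf_le_left := by
  intro q
  let f : Γ(X, W) := X.presheaf.map (homOfLE (le_top : W ≤ ⊤)).op g
  have e : X.basicOpen f = W ⊓ X.basicOpen (show Γ(X, ⊤) from g) := X.basicOpen_res _ _
  have hW' : IsAffineOpen (W ⊓ X.basicOpen (show Γ(X, ⊤) from g)) := e ▸ hW.basicOpen f
  cases q with
  | succ n =>
    have : Subsingleton (CohTop.HU (Coh.toAb M) (n + 1) W) :=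
      subsingleton_of_forall_eq 0 (Groth.Agent.Lib.AffVan.HU_eq_zero_of_isAffineOpen M hM n hW)
    have : Subsingleton (CohTop.HU (Coh.toAb M) (n + 1)
        (W ⊓ X.basicOpen (show Γ(X, ⊤) from g))) :=
      subsingleton_of_forall_eq 0 (Groth.Agent.Lib.AffVan.HU_eq_zero_of_isAffineOpen M hM n hW')
    exact IsLocMap.of_subsingleton _ _ _
  | zero =>
    have : M.IsQuasicoherent := hM
    refine isLocMap_zero_of_sections (Coh.smulAb M g) inf_le_left ?_ ?_ ?_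
    · apply bijective_smulAb_app_of_isUnit
      have h1 : IsUnit (X.presheaf.map (homOfLE (X.basicOpen_le (show Γ(X, ⊤) from g))).op g) :=
        RingedSpace.isUnit_res_basicOpen _ _
      have h2 := h1.map (X.presheaf.map (homOfLE (inf_le_right :
        W ⊓ X.basicOpen (show Γ(X, ⊤) from g) ≤ X.basicOpen (show Γ(X, ⊤) from g))).op).hom
      have h3 : (X.presheaf.map (homOfLE (inf_le_right :
          W ⊓ X.basicOpen (show Γ(X, ⊤) from g) ≤ X.basicOpen (show Γ(X, ⊤) from g))).op).hom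
          (X.presheaf.map (homOfLE (X.basicOpen_le (show Γ(X, ⊤) from g))).op g) =
          Coh.resTop X (op (W ⊓ X.basicOpen (show Γ(X, ⊤) from g))) g := by
        change (X.presheaf.map _ ≫ X.presheaf.map _).hom g = _
        rw [← Functor.map_comp]
        rfl
      rw [h3] at h2
      exact h2
    · intro t
      obtain ⟨n, s, hns⟩ := exists_pow_smul_eq_res' M hW f e.symm inf_le_left t
      refine ⟨n, s, ?_⟩
      rw [smulAb_iterate]
      have h3 : Coh.resTop X (op (W ⊓ X.basicOpen (show Γ(X, ⊤) from g))) g =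
          resO X (inf_le_left : W ⊓ X.basicOpen (show Γ(X, ⊤) from g) ≤ W) f := by
        change _ = (X.presheaf.map _ ≫ X.presheaf.map _).hom g
        rw [← Functor.map_comp]
        rfl
      rw [h3]
      exact hns
    · intro s hs
      have hs' : res M (X.basicOpen_le f) s = 0 := by
        have : res M (X.basicOpen_le f) s = res M e.le (res M inf_le_left s) := by
          rw [Groth.Agent.Lib.QCohStalk.res_res]
        rw [this]
        have hs2 : res M (inf_le_left : W ⊓ X.basicOpen (show Γ(X, ⊤) from g) ≤ W) s = 0 := hs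
        rw [hs2]
        exact map_zero (M.presheaf.map (homOfLE e.le).op).hom
      obtain ⟨n, hn⟩ := exists_pow_smul_eq_zero M hW f s hs'
      refine ⟨n, ?_⟩
      rw [smulAb_iterate]
      exact hn

end Affine

/-! ### Induction on quasi-compact opens -/

section Induction

variable (M g)

/-- `W ↦ W ⊓ X_g` is the localization at `g` in all degrees. -/
def LocAtG (W : X.Opens) : Prop :=
  LocAt M g W (W ⊓ X.basicOpen (show Γ(X, ⊤) from g)) inf_le_left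

variable {M g}

lemma locAtG_bot : LocAtG M g ⊥ := locAt_of_eq_bot _ rfl

lemma locAtG_of_isAffineOpen (hM : Coh.IsQCoh M) {W : X.Opens} (hW : IsAffineOpen W) :
    LocAtG M g W := locAt_of_isAffineOpen hM hW

lemma LocAtG.sup {V₁ V₂ : X.Opens} (h1 : LocAtG M g V₁) (h2 : LocAtG M g V₂)
    (h12 : LocAtG M g (V₁ ⊓ V₂)) : LocAtG M g (V₁ ⊔ V₂) := by
  have L₁₂ := LocAt.congr h12 (inf_inf_distrib_right V₁ V₂ (X.basicOpen (show Γ(X, ⊤) from g)))
    (inf_le_inf inf_le_left inf_le_left)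
  exact LocAt.congr (LocAt.sup h1 h2 L₁₂)
    (inf_sup_right V₁ V₂ (X.basicOpen (show Γ(X, ⊤) from g))).symm inf_le_left

/-- Finite unions of members of a class of affine opens stable under intersection. -/
theorem locAtG_finsetSup (hM : Coh.IsQCoh M) (P : X.Opens → Prop)
    (hP : ∀ V, P V → IsAffineOpen V) (hPinf : ∀ V W, P V → P W → P (V ⊓ W))
    {ι : Type*} (s : Finset ι) (V : ι → X.Opens) (hV : ∀ i ∈ s, P (V i)) :
    LocAtG M g (s.sup V) := by
  classical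
  induction s using Finset.induction_on generalizing V with
  | empty =>
    rw [Finset.sup_empty]
    exact locAtG_bot
  | insert a s ha ih =>
    have hPa : P (V a) := hV a (Finset.mem_insert_self a s)
    have hPs : ∀ i ∈ s, P (V i) := fun i hi => hV i (Finset.mem_insert_of_mem hi)
    rw [Finset.sup_insert]
    refine LocAtG.sup (locAtG_of_isAffineOpen hM (hP _ hPa)) (ih V hPs) ?_
    rw [Finset.sup_inf_distrib_left]
    exact ih (fun i => V a ⊓ V i) (fun i hi => hPinf _ _ hPa (hPs i hi))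

/-- Quasi-compact opens inside an affine open. -/
theorem locAtG_of_le_affine (hM : Coh.IsQCoh M) {V : X.Opens} (hV : IsAffineOpen V)
    {W : X.Opens} (hWV : W ≤ V) (hW : IsCompact (W : Set X)) : LocAtG M g W := by
  obtain ⟨s, rfl⟩ := Groth.Agent.Lib.AffVan.exists_finset_basicOpen_eq hV hWV hW
  refine locAtG_finsetSup hM (fun W => ∃ f : Γ(X, V), W = X.basicOpen f) ?_ ?_ s _ ?_
  · rintro _ ⟨f, rfl⟩
    exact hV.basicOpen f
  · rintro _ _ ⟨f, rfl⟩ ⟨f', rfl⟩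
    exact ⟨f * f', (X.basicOpen_mul f f').symm⟩
  · intro f _
    exact ⟨f, rfl⟩

/-- **Localization formula**: for a quasi-compact open `W` contained in a quasi-separated open
`T`, the restriction `H'^q(W, M) → H'^q(W ⊓ X_g, M)` is the localization at `g`. -/
theorem locAtG_of_isCompact (hM : Coh.IsQCoh M) {T : X.Opens}
    (hqs : IsQuasiSeparated (T : Set X)) (W : X.Opens) (hW : IsCompact (W : Set X))
    (hWT : W ≤ T) : LocAtG M g W := by
  refine compact_open_induction_on (P := fun W => W ≤ T → LocAtG M g W) W hW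
    (fun _ => locAtG_bot) ?_ hWT
  intro W' hW' U hWb hsup
  have hW'T : W' ≤ T := le_sup_left.trans hsup
  have hUT : U.1 ≤ T := le_sup_right.trans hsup
  refine (hWb hW'T).sup (locAtG_of_isAffineOpen hM U.2) ?_
  exact locAtG_of_le_affine hM U.2 inf_le_right
    (hqs W' U.1 hW'T W'.2 hW' hUT U.1.2 U.2.isCompact)

theorem locAtG_of_isCompact' [QuasiSeparatedSpace X] (hM : Coh.IsQCoh M) (W : X.Opens)
    (hW : IsCompact (W : Set X)) : LocAtG M g W :=
  locAtG_of_isCompact hM (T := ⊤)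
    (isQuasiSeparated_univ_iff.mpr inferInstance) W hW le_top

end Induction

end Groth.Agent.Lib.CohLoc
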