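import Mathlib.CategoryTheory.Abelian.Injective.Basic
import Mathlib.Algebra.Homology.ShortComplex.ShortExact
import Mathlib.Algebra.Homology.ShortComplex.Exact
import Mathlib.CategoryTheory.Limits.Shapes.Kernels

/-!
# Uniqueness of effaceable δ-functors, natural version (helper49)

`nonempty_natIso`: two sequences of functors `T p`, `S p : A ⥤ B` (`A` abelian with enough injectives)
equipped with connecting morphisms `δ` for short exact sequences, natural with respect to morphisms of
short exact sequences, such that for short exact sequences `0 → X₁ → X₂ → X₃ → 0` with `X₂` injective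
`T 0 X₂ → T 0 X₃ → T 1 X₁ → 0` is exact and `δ : T (p+1) X₃ → T (p+2) X₁` is an isomorphism (same for `S`),
and with `T 0 ≅ S 0`, are naturally isomorphic in each degree. Only Mathlib is imported.
-/

set_option autoImplicit false
set_option linter.unusedSectionVars false
universe v v' u u'

namespace Groth.Agent.Lib.DeltaUniqueNat

open CategoryTheory CategoryTheory.Limits

variable {A : Type u} [Category.{v} A] [Abelian A] [EnoughInjectives A]
  {B : Type u'} [Category.{v'} B] [Abelian B]

/-- the short exact sequence `0 → F → I → Q → 0` with `I` injective -/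
noncomputable def ses (F : A) : ShortComplex A :=
  ShortComplex.mk (Injective.ι F) (cokernel.π (Injective.ι F)) (cokernel.condition _)

lemma ses_shortExact (F : A) : (ses F).ShortExact where
  exact := ShortComplex.exact_cokernel _
  mono_f := inferInstanceAs (Mono (Injective.ι F))
  epi_g := inferInstanceAs (Epi (cokernel.π (Injective.ι F)))

instance (F : A) : Injective (ses F).X₂ := inferInstanceAs (Injective (Injective.under F))

/-- a morphism `F ⟶ F'` extends to a morphism of the chosen short exact sequences -/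
noncomputable def sesMap₂ {F F' : A} (f : F ⟶ F') : Injective.under F ⟶ Injective.under F' :=
  Injective.factorThru (f ≫ Injective.ι F') (Injective.ι F)

lemma sesMap₂_comm {F F' : A} (f : F ⟶ F') : Injective.ι F ≫ sesMap₂ f = f ≫ Injective.ι F' :=
  Injective.comp_factorThru _ _

/-- a morphism `F ⟶ F'` extends to a morphism of the chosen short exact sequences -/
noncomputable def sesMap₃ {F F' : A} (f : F ⟶ F') :
    cokernel (Injective.ι F) ⟶ cokernel (Injective.ι F') :=
  cokernel.map _ _ f (sesMap₂ f) (sesMap₂_comm f)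

/-- a morphism `F ⟶ F'` extends to a morphism of the chosen short exact sequences -/
noncomputable def sesMap {F F' : A} (f : F ⟶ F') : ses F ⟶ ses F' where
  τ₁ := f
  τ₂ := sesMap₂ f
  τ₃ := sesMap₃ f
  comm₁₂ := (sesMap₂_comm f).symm
  comm₂₃ := (cokernel.π_desc _ _ _).symm

lemma sesMap_τ₁ {F F' : A} (f : F ⟶ F') : (sesMap f).τ₁ = f := rfl

/-- one step of the induction: a natural isomorphism `Tp ≅ Sp` and compatible objectwise isomorphisms
`Tq F ≅ Sq F` give a natural isomorphism `Tq ≅ Sq` -/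
theorem step (Tp Tq Sp Sq : A ⥤ B)
    (δT : ∀ F : A, Tp.obj (ses F).X₃ ⟶ Tq.obj F) (δS : ∀ F : A, Sp.obj (ses F).X₃ ⟶ Sq.obj F)
    (natT : ∀ {F F' : A} (f : F ⟶ F'), Tp.map (sesMap f).τ₃ ≫ δT F' = δT F ≫ Tq.map f)
    (natS : ∀ {F F' : A} (f : F ⟶ F'), Sp.map (sesMap f).τ₃ ≫ δS F' = δS F ≫ Sq.map f)
    (epiT : ∀ F, Epi (δT F))
    (e : Tp ≅ Sp)
    (ε : ∀ F : A, Tq.obj F ≅ Sq.obj F)
    (hε : ∀ F : A, δT F ≫ (ε F).hom = e.hom.app _ ≫ δS F) :
    ∃ e' : Tq ≅ Sq, ∀ F : A, e'.hom.app F = (ε F).hom := by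
  refine ⟨NatIso.ofComponents ε ?_, fun F => rfl⟩
  intro F F' f
  have := epiT F
  rw [← cancel_epi (δT F)]
  calc δT F ≫ Tq.map f ≫ (ε F').hom
      = Tp.map (sesMap f).τ₃ ≫ δT F' ≫ (ε F').hom := by rw [← Category.assoc, ← natT, Category.assoc]
    _ = Tp.map (sesMap f).τ₃ ≫ e.hom.app _ ≫ δS F' := by rw [hε]
    _ = e.hom.app _ ≫ Sp.map (sesMap f).τ₃ ≫ δS F' := by
        rw [← Category.assoc, e.hom.naturality, Category.assoc]
    _ = e.hom.app _ ≫ δS F ≫ Sq.map f := by rw [natS]
    _ = δT F ≫ (ε F).hom ≫ Sq.map f := by rw [← Category.assoc, ← hε, Category.assoc]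

/-- **Uniqueness of effaceable δ-functors** (natural isomorphisms in each degree). -/
theorem nonempty_natIso (T S : ℕ → A ⥤ B)
    (δT : ∀ (X : ShortComplex A) (_ : X.ShortExact) (p : ℕ), (T p).obj X.X₃ ⟶ (T (p + 1)).obj X.X₁)
    (δS : ∀ (X : ShortComplex A) (_ : X.ShortExact) (p : ℕ), (S p).obj X.X₃ ⟶ (S (p + 1)).obj X.X₁)
    (natT : ∀ {X X' : ShortComplex A} (hX : X.ShortExact) (hX' : X'.ShortExact) (φ : X ⟶ X') (p : ℕ),
      (T p).map φ.τ₃ ≫ δT X' hX' p = δT X hX p ≫ (T (p + 1)).map φ.τ₁)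
    (natS : ∀ {X X' : ShortComplex A} (hX : X.ShortExact) (hX' : X'.ShortExact) (φ : X ⟶ X') (p : ℕ),
      (S p).map φ.τ₃ ≫ δS X' hX' p = δS X hX p ≫ (S (p + 1)).map φ.τ₁)
    (hT0 : ∀ (X : ShortComplex A) (hX : X.ShortExact), Injective X.X₂ →
      Epi (δT X hX 0) ∧ ∃ w, (ShortComplex.mk ((T 0).map X.g) (δT X hX 0) w).Exact)
    (hT1 : ∀ (X : ShortComplex A) (hX : X.ShortExact), Injective X.X₂ →
      ∀ p : ℕ, IsIso (δT X hX (p + 1)))
    (hS0 : ∀ (X : ShortComplex A) (hX : X.ShortExact), Injective X.X₂ →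
      Epi (δS X hX 0) ∧ ∃ w, (ShortComplex.mk ((S 0).map X.g) (δS X hX 0) w).Exact)
    (hS1 : ∀ (X : ShortComplex A) (hX : X.ShortExact), Injective X.X₂ →
      ∀ p : ℕ, IsIso (δS X hX (p + 1)))
    (e0 : T 0 ≅ S 0) (p : ℕ) : Nonempty (T p ≅ S p) := by
  induction p with
  | zero => exact ⟨e0⟩
  | succ p ih =>
    obtain ⟨e⟩ := ih
    have hepi : ∀ F, Epi (δT (ses F) (ses_shortExact F) p) := by
      intro F
      cases p with
      | zero => exact (hT0 (ses F) (ses_shortExact F) inferInstance).1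
      | succ p =>
        have := hT1 (ses F) (ses_shortExact F) inferInstance p
        infer_instance
    have key : ∀ F : A, ∃ ε : (T (p + 1)).obj F ≅ (S (p + 1)).obj F,
        δT (ses F) (ses_shortExact F) p ≫ ε.hom =
          e.hom.app _ ≫ δS (ses F) (ses_shortExact F) p := by
      intro F
      cases p with
      | zero =>
        obtain ⟨hδT, wT, exT⟩ := hT0 (ses F) (ses_shortExact F) inferInstance
        obtain ⟨hδS, wS, exS⟩ := hS0 (ses F) (ses_shortExact F) inferInstance
        have cT : IsColimit (CokernelCofork.ofπ _ wT) := exT.gIsCokernel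
        have cS : IsColimit (CokernelCofork.ofπ _ wS) := exS.gIsCokernel
        refine ⟨CokernelCofork.mapIsoOfIsColimit cT cS
          (Arrow.isoMk (e.app _) (e.app _) (e.hom.naturality _).symm), ?_⟩
        exact CokernelCofork.π_mapOfIsColimit cT (CokernelCofork.ofπ _ wS) _
      | succ p =>
        have hiT := hT1 (ses F) (ses_shortExact F) inferInstance p
        have hiS := hS1 (ses F) (ses_shortExact F) inferInstance p
        refine ⟨(@asIso _ _ _ _ (δT (ses F) (ses_shortExact F) (p + 1)) hiT).symm ≪≫ e.app _ ≪≫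
          @asIso _ _ _ _ (δS (ses F) (ses_shortExact F) (p + 1)) hiS, ?_⟩
        simp only [Iso.trans_hom, Iso.symm_hom, asIso_inv, asIso_hom, Iso.app_hom]
        exact IsIso.hom_inv_id_assoc _ _
    choose ε hε using key
    obtain ⟨e', -⟩ := step (T p) (T (p + 1)) (S p) (S (p + 1))
      (fun F => δT (ses F) (ses_shortExact F) p) (fun F => δS (ses F) (ses_shortExact F) p)
      (fun f => natT _ _ (sesMap f) p) (fun f => natS _ _ (sesMap f) p) hepi e ε hε
    exact ⟨e'⟩

end Groth.Agent.Lib.DeltaUniqueNat
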