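/-
Groth.Agent.Lib.CohPre5 (helper49): NATURAL (in the sheaf) version of `R^p u_* F ≅ a(V ↦ H^p(u V, F))`:
`nonempty_Rpush_natIso J K u p : Nonempty (CohSite.Rpush J K u p ≅ Sheaf.cohomologyPresheafFunctor J p ⋙ Ef K u)`
where `Ef K u` is restriction along `u` followed by sheafification.  Uses Lib/DeltaUniqueNat and helper25's
natural long exact sequence of right derived functors (Lib/DerivedLES).
-/
import Groth.Agent.Lib.CohPre3
import Groth.Agent.Lib.DeltaUniqueNat
import Groth.Agent.Lib.DerivedLES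

set_option autoImplicit false
set_option linter.unusedVariables false
universe u

namespace Groth.Agent.Lib.CohPresheafDerived

open CategoryTheory Limits Opposite Abelian Groth.Agent.Lib.SiteCoh

section TSide

variable {A : Type*} [Category A] [Abelian A] [EnoughInjectives A]
  {B : Type*} [Category B] [Abelian B] (G : A ⥤ B) [G.Additive]

/-- the natural connecting morphisms of the right derived functors -/
noncomputable def δR (X : ShortComplex A) (hX : X.ShortExact) (p : ℕ) :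
    (G.rightDerived p).obj X.X₃ ⟶ (G.rightDerived (p + 1)).obj X.X₁ :=
  (Groth.Agent.Lib.DerivedLES.derivedLES G).δ X hX p (p + 1) rfl

lemma δR_natural {X X' : ShortComplex A} (hX : X.ShortExact) (hX' : X'.ShortExact) (φ : X ⟶ X')
    (p : ℕ) : (G.rightDerived p).map φ.τ₃ ≫ δR G X' hX' p = δR G X hX p ≫ (G.rightDerived (p + 1)).map φ.τ₁ :=
  (Groth.Agent.Lib.DerivedLES.derivedLES G).δ_natural hX hX' φ p (p + 1) rfl

lemma δR_epi (X : ShortComplex A) (hX : X.ShortExact) (hI : Injective X.X₂) (p : ℕ) :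
    Epi (δR G X hX p) := by
  have hz : IsZero ((G.rightDerived (p + 1)).obj X.X₂) :=
    Functor.isZero_rightDerived_obj_injective_succ G p X.X₂
  exact ((Groth.Agent.Lib.DerivedLES.derivedLES G).exact₁ X hX p (p + 1) rfl).epi_f
    (hz.eq_of_tgt _ _)

lemma δR_mono (X : ShortComplex A) (hX : X.ShortExact) (hI : Injective X.X₂) (p : ℕ) :
    Mono (δR G X hX (p + 1)) := by
  have hz : IsZero ((G.rightDerived (p + 1)).obj X.X₂) :=
    Functor.isZero_rightDerived_obj_injective_succ G p X.X₂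
  exact ((Groth.Agent.Lib.DerivedLES.derivedLES G).exact₃ X hX (p + 1) (p + 1 + 1) rfl).mono_g
    (hz.eq_of_src _ _)

lemma δR_isIso (X : ShortComplex A) (hX : X.ShortExact) (hI : Injective X.X₂) (p : ℕ) :
    IsIso (δR G X hX (p + 1)) := by
  have := δR_epi G X hX hI (p + 1)
  have := δR_mono G X hX hI p
  exact isIso_of_mono_of_epi _

lemma δR_exact (X : ShortComplex A) (hX : X.ShortExact) :
    ∃ w, (ShortComplex.mk ((G.rightDerived 0).map X.g) (δR G X hX 0) w).Exact :=
  ⟨_, (Groth.Agent.Lib.DerivedLES.derivedLES G).exact₃ X hX 0 1 rfl⟩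

end TSide

variable {C : Type u} [SmallCategory C] {J : GrothendieckTopology C}

section ConnNat

variable {X X' : ShortComplex (Sheaf J AddCommGrpCat.{u})} (hX : X.ShortExact) (hX' : X'.ShortExact)
  (φ : X ⟶ X')

lemma connHom_post (p : ℕ) (U : C) (x : Ext.{u} (freeYoneda J U) X.X₃ p) :
    connHom hX' p U (post φ.τ₃ p U x) = post φ.τ₁ (p + 1) U (connHom hX p U x) :=
  (Ext.comp_assoc x (Ext.mk₀ φ.τ₃) hX'.extClass (add_zero p) (zero_add 1) (by omega)).trans
    ((congrArg (fun e => Ext.comp x e (show p + 1 = p + 1 from rfl))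
      (ShortComplex.ShortExact.extClass_naturality hX hX' φ).symm).trans
      (Ext.comp_assoc x hX.extClass (Ext.mk₀ φ.τ₁) rfl (add_zero 1) (by omega)).symm)

lemma conn_natural (p : ℕ) :
    Sp'map φ.τ₃ p ≫ conn hX' p = conn hX p ≫ Sp'map φ.τ₁ (p + 1) :=
  NatTrans.ext (funext fun U => AddCommGrpCat.hom_ext (AddMonoidHom.ext fun x =>
    connHom_post hX hX' φ p U.unop x))

end ConnNat

section Compare

/-- objectwise comparison with Mathlib's cohomology presheaf -/
noncomputable def appIso (p : ℕ) (F : Sheaf J AddCommGrpCat.{u}) :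
    (SpF (J := J) p).obj F ≅ (Sheaf.cohomologyPresheafFunctor.{u} J p).obj F := Sp'Iso F p

lemma nat_elem₁ {F G : Sheaf J AddCommGrpCat.{u}} (φ : F ⟶ G) (p : ℕ) (U : Cᵒᵖ)
    (x : Ext.{u} (freeYoneda J U.unop) F p) :
    (((SpF p).map φ ≫ (appIso p G).hom).app U).hom x = post φ p U.unop x := rfl

lemma nat_elem₂ {F G : Sheaf J AddCommGrpCat.{u}} (φ : F ⟶ G) (p : ℕ) (U : Cᵒᵖ)
    (x : Ext.{u} (freeYoneda J U.unop) F p) :
    (((appIso p F).hom ≫ (Sheaf.cohomologyPresheafFunctor.{u} J p).map φ).app U).hom x =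
      post φ p U.unop x := rfl

lemma appIso_naturality {F G : Sheaf J AddCommGrpCat.{u}} (φ : F ⟶ G) (p : ℕ) :
    (SpF p).map φ ≫ (appIso p G).hom =
      (appIso p F).hom ≫ (Sheaf.cohomologyPresheafFunctor.{u} J p).map φ :=
  NatTrans.ext (funext fun U => AddCommGrpCat.hom_ext (AddMonoidHom.ext fun x =>
    (nat_elem₁ φ p U x).trans (nat_elem₂ φ p U x).symm))

/-- `SpF p` is Mathlib's cohomology presheaf functor (kernel-heavy: about two minutes) -/
noncomputable def SpFIso (p : ℕ) : SpF (J := J) p ≅ Sheaf.cohomologyPresheafFunctor.{u} J p :=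
  NatIso.ofComponents (appIso p) (fun {F G} φ => appIso_naturality φ p)

end Compare

section Push

variable {D : Type u} [SmallCategory D] (J) (K : GrothendieckTopology D) (u : D ⥤ C)
  [u.IsContinuous K J]

/-- restriction along `u` followed by sheafification -/
noncomputable abbrev Ef : (Cᵒᵖ ⥤ AddCommGrpCat.{u}) ⥤ Sheaf K AddCommGrpCat.{u} :=
  (Functor.whiskeringLeft Dᵒᵖ Cᵒᵖ AddCommGrpCat.{u}).obj u.op ⋙ presheafToSheaf K AddCommGrpCat.{u}

instance : (Ef K u).Additive := Functor.additive_of_preserves_binary_products _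

/-- `a (u^p (forget F)) ≅ u_* F` -/
noncomputable def efIso : sheafToPresheaf J AddCommGrpCat.{u} ⋙ Ef K u ≅ CohSite.push J K u :=
  (Functor.isoWhiskerLeft (CohSite.push J K u) (sheafificationNatIso K AddCommGrpCat.{u})).symm ≪≫
    (Functor.rightUnitor _)

instance : PreservesFiniteLimits (CohSite.push J K u) :=
  preservesFiniteLimits_of_natIso (efIso J K u)

/-- the connecting morphisms of the δ-functor `F ↦ a(V ↦ H^p(u V, F))` -/
noncomputable def δE (X : ShortComplex (Sheaf J AddCommGrpCat.{u})) (hX : X.ShortExact) (p : ℕ) :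
    (SpF (J := J) p ⋙ Ef K u).obj X.X₃ ⟶ (SpF (J := J) (p + 1) ⋙ Ef K u).obj X.X₁ :=
  (Ef K u).map (conn hX p)

lemma δE_natural {X X' : ShortComplex (Sheaf J AddCommGrpCat.{u})} (hX : X.ShortExact)
    (hX' : X'.ShortExact) (φ : X ⟶ X') (p : ℕ) :
    (SpF (J := J) p ⋙ Ef K u).map φ.τ₃ ≫ δE J K u X' hX' p =
      δE J K u X hX p ≫ (SpF (J := J) (p + 1) ⋙ Ef K u).map φ.τ₁ :=
  ((Ef K u).map_comp _ _).symm.trans
    ((congrArg (Ef K u).map (conn_natural hX hX' φ p)).trans ((Ef K u).map_comp _ _))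

lemma δE_epi (X : ShortComplex (Sheaf J AddCommGrpCat.{u})) (hX : X.ShortExact)
    (hI : Injective X.X₂) (p : ℕ) : Epi (δE J K u X hX p) := by
  have : Epi (conn hX p) := epi_conn hX p
  exact (Ef K u).map_epi (conn hX p)

lemma δE_isIso (X : ShortComplex (Sheaf J AddCommGrpCat.{u})) (hX : X.ShortExact)
    (hI : Injective X.X₂) (p : ℕ) : IsIso (δE J K u X hX (p + 1)) := by
  have : IsIso (conn hX (p + 1)) := isIso_conn hX p
  exact Functor.map_isIso (Ef K u) (conn hX (p + 1))

lemma δE_exact (X : ShortComplex (Sheaf J AddCommGrpCat.{u})) (hX : X.ShortExact) :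
    ∃ w, (ShortComplex.mk ((SpF (J := J) 0 ⋙ Ef K u).map X.g) (δE J K u X hX 0) w).Exact :=
  ⟨_, (exact_Sp'map_conn hX 0).map (Ef K u)⟩

/-- **`R^p u_*` is the sheafified cohomology presheaf, naturally in the sheaf.** -/
theorem nonempty_Rpush_natIso (p : ℕ) :
    Nonempty (CohSite.Rpush J K u p ≅ Sheaf.cohomologyPresheafFunctor.{u} J p ⋙ Ef K u) := by
  obtain ⟨e⟩ := Groth.Agent.Lib.DeltaUniqueNat.nonempty_natIso
    (fun p => (CohSite.push J K u).rightDerived p) (fun p => SpF (J := J) p ⋙ Ef K u)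
    (fun X hX p => δR (CohSite.push J K u) X hX p)
    (fun X hX p => δE J K u X hX p)
    (fun hX hX' φ p => δR_natural (CohSite.push J K u) hX hX' φ p)
    (fun hX hX' φ p => δE_natural J K u hX hX' φ p)
    (fun X hX hI => ⟨δR_epi _ X hX hI 0, δR_exact _ X hX⟩)
    (fun X hX hI p => δR_isIso _ X hX hI p)
    (fun X hX hI => ⟨δE_epi J K u X hX hI 0, δE_exact J K u X hX⟩)
    (fun X hX hI p => δE_isIso J K u X hX hI p)
    ((CohSite.push J K u).rightDerivedZeroIsoSelf ≪≫ (efIso J K u).symm ≪≫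
      Functor.isoWhiskerRight SpFZeroIso.symm (Ef K u)) p
  exact ⟨e ≪≫ Functor.isoWhiskerRight (SpFIso p) (Ef K u)⟩

end Push

end Groth.Agent.Lib.CohPresheafDerived
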