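import Groth.Agent.Lib.ModStalkLin
import Groth.Agent.Lib.ModStalkCoker
import Groth.Agent.Lib.RelCartier
import Groth.Agent.Lib.LocFreeFP

/-!
# Closure properties of flat `O_X`-modules (`FlatMod.IsFlat`, stalkwise flatness)
-/

set_option autoImplicit false
universe u

open CategoryTheory CategoryTheory.Limits AlgebraicGeometry

namespace Groth.Agent.Lib.FlatModClosure

open Groth.Agent.Lib.ModStalkLin

variable {X : Scheme.{u}}

theorem isFlat_of_iso {M N : X.Modules} (e : M ≅ N) (hM : FlatMod.IsFlat M) :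
    FlatMod.IsFlat N := fun x => by
  have : Module.Flat (X.presheaf.stalk x) (M.presheaf.stalk x) := hM x
  exact Module.Flat.of_linearEquiv (stalkLinEquiv e x).symm

theorem isFlat_of_retract {M N : X.Modules} (s : M ⟶ N) (r : N ⟶ M) (h : s ≫ r = 𝟙 M)
    (hN : FlatMod.IsFlat N) : FlatMod.IsFlat M := fun x => by
  have : Module.Flat (X.presheaf.stalk x) (N.presheaf.stalk x) := hN x
  refine Module.Flat.of_retract (stalkLin s x) (stalkLin r x) ?_
  rw [← stalkLin_comp, h, stalkLin_id]

theorem isFlat_of_isZero {M : X.Modules} (hM : IsZero M) : FlatMod.IsFlat M := fun x => by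
  have h0 : ∀ m : M.presheaf.stalk x, m = 0 := fun m => by
    have h1 : stalkLin (𝟙 M) x m = m := by rw [stalkLin_id]; rfl
    have h2 : stalkLin (𝟙 M) x m = 0 := by
      rw [hM.eq_of_src (𝟙 M) 0, Groth.Agent.Lib.ModStalkCoker.stalkLin_zero]; rfl
    rw [← h1, h2]
  have : Subsingleton (M.presheaf.stalk x) := ⟨fun a b => by rw [h0 a, h0 b]⟩
  change Module.Flat _ _
  infer_instance

theorem isFlat_of_shortExact_mid {S : ShortComplex X.Modules} (hS : S.ShortExact)
    (h₁ : FlatMod.IsFlat S.X₁) (h₃ : FlatMod.IsFlat S.X₃) : FlatMod.IsFlat S.X₂ := fun x => by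
  have : Module.Flat (X.presheaf.stalk x) (S.X₁.presheaf.stalk x) := h₁ x
  have : Module.Flat (X.presheaf.stalk x) (S.X₃.presheaf.stalk x) := h₃ x
  obtain ⟨hi, hex, hp⟩ := stalkLin_exact hS x
  exact Groth.Agent.Lib.RelCartier.flat_of_exact_left_right _ _ hi hp hex

theorem isFlat_of_shortExact_left {S : ShortComplex X.Modules} (hS : S.ShortExact)
    (h₂ : FlatMod.IsFlat S.X₂) (h₃ : FlatMod.IsFlat S.X₃) : FlatMod.IsFlat S.X₁ := fun x => by
  have : Module.Flat (X.presheaf.stalk x) (S.X₂.presheaf.stalk x) := h₂ x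
  have : Module.Flat (X.presheaf.stalk x) (S.X₃.presheaf.stalk x) := h₃ x
  obtain ⟨hi, hex, hp⟩ := stalkLin_exact hS x
  exact Groth.Agent.Lib.RelCartier.flat_of_exact_mid_right _ _ hi hp hex

/-- The kernel of an epimorphism of flat modules is flat. -/
theorem isFlat_kernel_of_epi {E F : X.Modules} (u : E ⟶ F) [Epi u] (hE : FlatMod.IsFlat E)
    (hF : FlatMod.IsFlat F) : FlatMod.IsFlat (kernel u) := by
  let S : ShortComplex X.Modules := ShortComplex.mk (kernel.ι u) u (kernel.condition u)
  have hS : S.ShortExact :=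
    { exact := ShortComplex.exact_of_f_is_kernel _ (kernelIsKernel u)
      mono_f := inferInstanceAs (Mono (kernel.ι u))
      epi_g := inferInstanceAs (Epi u) }
  exact isFlat_of_shortExact_left hS hE hF

theorem isFlat_biprod {M N : X.Modules} (hM : FlatMod.IsFlat M) (hN : FlatMod.IsFlat N) :
    FlatMod.IsFlat (M ⊞ N) := by
  let S : ShortComplex X.Modules :=
    ShortComplex.mk (biprod.inl : M ⟶ M ⊞ N) biprod.snd biprod.inl_snd
  have hS : S.ShortExact := (ShortComplex.Splitting.ofHasBinaryBiproduct M N).shortExact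
  exact isFlat_of_shortExact_mid hS hM hN

theorem isFlat_prod {M N : X.Modules} (hM : FlatMod.IsFlat M) (hN : FlatMod.IsFlat N) :
    FlatMod.IsFlat (M ⨯ N) :=
  isFlat_of_iso (biprod.isoProd M N) (isFlat_biprod hM hN)

theorem isFlat_of_isFinLocFree {M : X.Modules} (h : FlatMod.IsFinLocFree M) :
    FlatMod.IsFlat M := fun x => by
  have := Groth.Agent.Lib.LocFreeFP.free_stalk_of_isFinLocFree h x
  change Module.Flat _ _
  infer_instance

end Groth.Agent.Lib.FlatModClosure
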