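import Groth.Agent.Lib.StalkFlatBridge66
import Groth.Agent.Lib.TwistEquiv
import Groth.Agent.Lib.FlatModClosure
import Mathlib.Algebra.Homology.ShortComplex.ExactFunctor

/-!
# Tensoring with a flat `O_X`-module is exact (helper48, K6/D3)

* `mono_tensorModMap_right`, `mono_tensorModMap_left`: `φ ⊗ 𝟙_E`, `𝟙_E ⊗ φ` are monomorphisms for `φ` mono, `E` flat
  (stalkwise flat, `FlatMod.IsFlat`; e.g. `E` finite locally free).  Built on helper66's `StalkFlatBridge66`.
* `shortExact_map_tensorRight`, `shortExact_map_tensorLeft`: `- ⊗ E`, `E ⊗ -` preserve short exact sequences.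
* `isFlat_of_isFinLocFreeOfRank`.
-/

set_option autoImplicit false
universe u
open CategoryTheory CategoryTheory.Limits AlgebraicGeometry Opposite TopologicalSpace MonoidalCategory

namespace Groth.Agent.Lib.CurveDeg48

open Groth.Agent.Lib.OXModTensor Groth.Agent.Lib.OXModTensorW Groth.Agent.Lib.StalkFlatBridge66
  Groth.Agent.Lib.TwistEquiv Groth.Agent.Lib.MonLoc

variable {X : Scheme.{u}}

theorem isFinLocFree_of_isFinLocFreeOfRank {n : ℕ} {E : X.Modules}
    (hE : FlatMod.IsFinLocFreeOfRank n E) : FlatMod.IsFinLocFree E := fun x => by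
  obtain ⟨U, hxU, h'⟩ := hE x
  exact ⟨U, _, hxU, h'⟩

theorem isFlat_of_isFinLocFreeOfRank {n : ℕ} {E : X.Modules}
    (hE : FlatMod.IsFinLocFreeOfRank n E) : FlatMod.IsFlat E :=
  Groth.Agent.Lib.FlatModClosure.isFlat_of_isFinLocFree (isFinLocFree_of_isFinLocFreeOfRank hE)

/-- `φ ⊗ 𝟙_E` is a monomorphism when `φ` is and `E` is flat -/
theorem mono_tensorModMap_right (E : X.Modules) (hE : FlatMod.IsFlat E) {A B : X.Modules}
    (φ : A ⟶ B) [Mono φ] : Mono (tensorModMap φ (𝟙 E)) := by
  have h := locInj_whiskerRight_of_isFlat E hE φ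
  have h2 := mono_sh_map_of_locInj _ h
  have e : tensorModMap φ (𝟙 E) =
      (sh X).map ((show CohB1.toPMod A ⟶ CohB1.toPMod B from φ.val) ▷ CohB1.toPMod E) := by
    change (sh X).map ((fg X).map φ ⊗ₘ (fg X).map (𝟙 E)) = _
    rw [CategoryTheory.Functor.map_id, tensorHom_id]
    rfl
  rw [e]
  exact h2

/-- `𝟙_E ⊗ φ` is a monomorphism when `φ` is and `E` is flat -/
theorem mono_tensorModMap_left (E : X.Modules) (hE : FlatMod.IsFlat E) {A B : X.Modules}
    (φ : A ⟶ B) [Mono φ] : Mono (tensorModMap (𝟙 E) φ) := by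
  haveI := mono_tensorModMap_right E hE φ
  have h : tensorModMap (𝟙 E) φ =
      (braiding E A).hom ≫ tensorModMap φ (𝟙 E) ≫ (braiding B E).hom := by
    have h1 : tensorModMap φ (𝟙 E) ≫ (braiding B E).hom =
        (braiding A E).hom ≫ tensorModMap (𝟙 E) φ :=
      (locData X).braiding_hom_naturality φ (𝟙 E)
    have h2 : (braiding E A).hom ≫ (braiding A E).hom = 𝟙 _ := by
      change ((locData X).braiding E A).hom ≫ ((locData X).braiding A E).hom = 𝟙 _
      simp only [LocData.braiding, Functor.mapIso_hom]
      rw [← Functor.map_comp, SymmetricCategory.symmetry, CategoryTheory.Functor.map_id]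
    rw [h1, ← Category.assoc, h2, Category.id_comp]
  rw [h]
  infer_instance

/-- `- ⊗ E` preserves short exact sequences when `E` is flat -/
theorem shortExact_map_tensorRight_of_isFlat (E : X.Modules) (hE : FlatMod.IsFlat E)
    {S : ShortComplex X.Modules} (hS : S.ShortExact) :
    (S.map (tensorRightFunctor E)).ShortExact := by
  haveI : (tensorRightFunctor E).Additive := by
    haveI := preservesBinaryBiproducts_of_preservesBinaryCoproducts (tensorRightFunctor E)
    exact Functor.additive_of_preservesBinaryBiproducts _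
  have h0 := ((Functor.preservesFiniteColimits_tfae (tensorRightFunctor E)).out 3 0 rfl rfl).mp
    inferInstance
  obtain ⟨hex, hepi⟩ := h0 S hS
  haveI := hS.mono_f
  haveI : Mono (S.map (tensorRightFunctor E)).f := by
    change Mono ((tensorRightFunctor E).map S.f)
    rw [tensorRightFunctor_map]
    exact mono_tensorModMap_right E hE S.f
  haveI : Epi (S.map (tensorRightFunctor E)).g := hepi
  exact { exact := hex }

/-- `E ⊗ -` preserves short exact sequences when `E` is flat -/
theorem shortExact_map_tensorLeft_of_isFlat (E : X.Modules) (hE : FlatMod.IsFlat E)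
    {S : ShortComplex X.Modules} (hS : S.ShortExact) :
    (S.map (tensorLeftFunctor E)).ShortExact := by
  haveI : (tensorLeftFunctor E).Additive := by
    haveI := preservesBinaryBiproducts_of_preservesBinaryCoproducts (tensorLeftFunctor E)
    exact Functor.additive_of_preservesBinaryBiproducts _
  have h0 := ((Functor.preservesFiniteColimits_tfae (tensorLeftFunctor E)).out 3 0 rfl rfl).mp
    inferInstance
  obtain ⟨hex, hepi⟩ := h0 S hS
  haveI := hS.mono_f
  haveI : Mono (S.map (tensorLeftFunctor E)).f := by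
    change Mono ((tensorLeftFunctor E).map S.f)
    rw [tensorLeftFunctor_map]
    exact mono_tensorModMap_left E hE S.f
  haveI : Epi (S.map (tensorLeftFunctor E)).g := hepi
  exact { exact := hex }

end Groth.Agent.Lib.CurveDeg48
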