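import Groth.Agent.Lib.IntNumCalc13
import Groth.Agent.Lib.EulerLE48

/-!
# Degree of tensor products on proper curves, from Snapper's theorem (helper54; campaign K2a/K3)

Namespace `Groth.Agent.Lib.DegTensor54`.  Hypothesis form: `HS : SnapperHyp` (verbatim S3230), `V : VanHyp`
(Grothendieck vanishing, dischargeable by S0458 as in helper48's `EulerLE48`).

* `euler_tensorMod_of_support_dim_le_zero`: `χ(L ⊗ Q) = χ(Q)` for `L` invertible and `Q` coherent with `dim Supp Q ≤ 0`
  on a proper scheme of dimension `≤ d` over a field;  `euler_tensorMod_of_support_dim_le_zero'` for `Q ⊗ L`;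
  `euler_tensorPow_tensorMod_of_support_dim_le_zero` for `L^n ⊗ Q`.
* `euler_tensorMod_add`: `χ(A ⊗ B) + χ(O) = χ(A) + χ(B)` for invertible `A`, `B` when `dim X ≤ 1`;
  `deg_tensorMod`: `deg (A ⊗ B) = deg A + deg B`;  `deg_tensorPow`: `deg (L^n) = n deg L`;
  `deg_eq_neg_of_iso`: `A ⊗ B ≅ O ⇒ deg B = - deg A`;  `deg_congr`.
-/

set_option autoImplicit false
universe u
open CategoryTheory CategoryTheory.Limits AlgebraicGeometry

namespace Groth.Agent.Lib.DegTensor54

open Groth.Agent.Lib.IsoCls13 Groth.Agent.Lib.IntNumAlg13 Groth.Agent.Lib.EulerLE48 CohB1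

variable (HS : SnapperHyp.{u}) (V : VanHyp.{u}) (k : Type u) [Field k] {X : Scheme.{u}}
  [X.Over (Spec (CommRingCat.of k))] [IsProper (X ↘ Spec (CommRingCat.of k))]

omit [IsProper (X ↘ Spec (CommRingCat.of k))] in
theorem euler_congr {F G : X.Modules} (e : F ≅ G) : Curv2.euler k X F = Curv2.euler k X G := by
  unfold Curv2.euler
  refine finsum_congr fun i => ?_
  rw [(Groth.Agent.Lib.CohLES.mapEquivₗ k e i).finrank_eq]

omit [IsProper (X ↘ Spec (CommRingCat.of k))] in
theorem deg_congr {F G : X.Modules} (e : F ≅ G) (n : ℕ) : Curv2.deg k X F n = Curv2.deg k X G n := by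
  unfold Curv2.deg
  rw [euler_congr k e]

include HS V in
/-- `χ(L ⊗ Q) = χ(Q)` when `Q` is coherent with support of dimension `≤ 0` -/
theorem euler_tensorMod_of_support_dim_le_zero (d : ℕ) (hd : topologicalKrullDim X ≤ d)
    {L Q : X.Modules} (hL : PicF.IsInvertible L) (hQ : Coh.IsCoh Q)
    (hsupp : topologicalKrullDim (CohB1.support Q) ≤ 0) :
    Curv2.euler k X (tensorMod L Q) = Curv2.euler k X Q := by
  have h := lin_prod_one_sub_mul_br_eq_zero HS k d hd (fun _ : Fin 1 => L) (fun _ => hL) hQ
    (r := 0) (by simpa using hsupp) Nat.zero_lt_one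
  rw [Fin.prod_univ_one, sub_mul, one_mul, map_sub, ← br_tensorMod, lin_br, lin_br,
    eulerCharLE_eq_euler k X V d hd, eulerCharLE_eq_euler k X V d hd] at h
  lia

include HS V in
theorem euler_tensorMod_of_support_dim_le_zero' (d : ℕ) (hd : topologicalKrullDim X ≤ d)
    {L Q : X.Modules} (hL : PicF.IsInvertible L) (hQ : Coh.IsCoh Q)
    (hsupp : topologicalKrullDim (CohB1.support Q) ≤ 0) :
    Curv2.euler k X (tensorMod Q L) = Curv2.euler k X Q := by
  rw [euler_congr k (Groth.Agent.Lib.OXModTensor.braiding Q L)]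
  exact euler_tensorMod_of_support_dim_le_zero HS V k d hd hL hQ hsupp

include HS V in
theorem euler_tensorPow_tensorMod_of_support_dim_le_zero (d : ℕ) (hd : topologicalKrullDim X ≤ d)
    {L Q : X.Modules} (hL : PicF.IsInvertible L) (hQ : Coh.IsCoh Q)
    (hsupp : topologicalKrullDim (CohB1.support Q) ≤ 0) (n : ℕ) :
    Curv2.euler k X (tensorMod (tensorPow L n) Q) = Curv2.euler k X Q :=
  euler_tensorMod_of_support_dim_le_zero HS V k d hd
    (Groth.Agent.Lib.H78TensorGen.isInvertible_tensorPow hL n) hQ hsupp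

include HS V in
/-- `χ(A ⊗ B) + χ(O) = χ(A) + χ(B)` for invertible modules on a proper scheme of dimension `≤ 1` -/
theorem euler_tensorMod_add (hd : topologicalKrullDim X ≤ 1) {A B : X.Modules}
    (hA : PicF.IsInvertible A) (hB : PicF.IsInvertible B) :
    Curv2.euler k X (tensorMod A B) + Curv2.euler k X (Coh.structureModule X) =
      Curv2.euler k X A + Curv2.euler k X B := by
  have hd' : topologicalKrullDim X ≤ ((1 : ℕ) : WithBot ℕ∞) := by simpa using hd
  have hO : Coh.IsCoh (Coh.structureModule X) :=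
    Groth.Agent.Lib.H90Invertible.isCoh_of_isInvertible
      (Groth.Agent.Lib.H90Invertible.isInvertible_structureModule X)
  have hsupp : topologicalKrullDim (CohB1.support (Coh.structureModule X)) ≤ ((1 : ℕ) : WithBot ℕ∞) :=
    (Topology.IsInducing.subtypeVal.topologicalKrullDim_le).trans hd'
  have h := lin_prod_one_sub_mul_br_eq_zero HS k 1 hd' (Fin.cons A (fun _ : Fin 1 => B))
    (fun i => by
      refine Fin.cases ?_ (fun j => ?_) i
      · simpa using hA
      · simpa using hB) hO (r := 1) hsupp (by norm_num)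
  rw [Fin.prod_univ_two] at h
  simp only [Fin.cons_zero, Fin.cons_one, br_structureModule, mul_one] at h
  have hid : (1 - br A) * (1 - br B) = 1 - br A - br B + br (tensorMod A B) := by
    rw [br_tensorMod]; ring
  rw [hid, map_add, map_sub, map_sub, ← br_structureModule (X := X), lin_br, lin_br, lin_br, lin_br,
    eulerCharLE_eq_euler k X V 1 hd', eulerCharLE_eq_euler k X V 1 hd', eulerCharLE_eq_euler k X V 1 hd',
    eulerCharLE_eq_euler k X V 1 hd'] at h
  lia

include HS V in
/-- additivity of the degree of invertible modules under tensor product (`dim X ≤ 1`) -/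
theorem deg_tensorMod (hd : topologicalKrullDim X ≤ 1) {A B : X.Modules}
    (hA : PicF.IsInvertible A) (hB : PicF.IsInvertible B) :
    Curv2.deg k X (tensorMod A B) 1 = Curv2.deg k X A 1 + Curv2.deg k X B 1 := by
  have h := euler_tensorMod_add HS V k hd hA hB
  unfold Curv2.deg
  push_cast
  lia

omit [IsProper (X ↘ Spec (CommRingCat.of k))] in
theorem deg_structureModule : Curv2.deg k X (Coh.structureModule X) 1 = 0 := by
  unfold Curv2.deg
  simp

include HS V in
/-- `deg (L^n) = n deg L` -/
theorem deg_tensorPow (hd : topologicalKrullDim X ≤ 1) {L : X.Modules} (hL : PicF.IsInvertible L) (n : ℕ) :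
    Curv2.deg k X (tensorPow L n) 1 = n * Curv2.deg k X L 1 := by
  induction n with
  | zero =>
    change Curv2.deg k X (Coh.structureModule X) 1 = _
    rw [deg_structureModule]
    simp
  | succ n ih =>
    change Curv2.deg k X (tensorMod (tensorPow L n) L) 1 = _
    rw [deg_tensorMod HS V k hd (Groth.Agent.Lib.H78TensorGen.isInvertible_tensorPow hL n) hL, ih]
    push_cast
    ring

include HS V in
/-- the degree of an inverse -/
theorem deg_eq_neg_of_iso (hd : topologicalKrullDim X ≤ 1) {A B : X.Modules}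
    (hA : PicF.IsInvertible A) (hB : PicF.IsInvertible B) (e : tensorMod A B ≅ Coh.structureModule X) :
    Curv2.deg k X B 1 = - Curv2.deg k X A 1 := by
  have h := deg_tensorMod HS V k hd hA hB
  rw [deg_congr k e, deg_structureModule] at h
  lia

end Groth.Agent.Lib.DegTensor54
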