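import Mathlib
import Groth.Agent.Lib.QCohBiproduct
import Groth.Agent.Lib.H90OXModExact

/-!
# Finite sums of coherent subobjects of a quasi-coherent module
-/

set_option autoImplicit false
universe u

open AlgebraicGeometry CategoryTheory CategoryTheory.Limits TopologicalSpace Opposite
open Groth.Agent.Lib.QCohStalk Groth.Agent.Lib.H90OXModSections

namespace Groth.Agent.Lib.H90CohSum

variable {X : Scheme.{u}}

attribute [local instance] CategoryTheory.Abelian.hasFiniteBiproducts

set_option backward.isDefEq.respectTransparency false in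
theorem isCoh_biproduct {ι : Type} [Fintype ι] (P : ι → X.Modules) (h : ∀ i, Coh.IsCoh (P i)) :
    Coh.IsCoh (⨁ P) := by
  classical
  rw [Groth.Agent.Lib.H90OXModAffineFT.isCoh_iff_forall_affine]
  refine ⟨Groth.Agent.Lib.QCohBiproduct.isQuasicoherent_biproduct P fun i => (h i).1, fun U => ?_⟩
  haveI : ∀ i, Module.Finite Γ(X, U.1) Γ(P i, U.1) := fun i =>
    Groth.Agent.Lib.CohFinite.finite_sections_of_isCoh (P i) (h i) U.2
  let f : (∀ i, Γ(P i, U.1)) →ₗ[Γ(X, U.1)] Γ(⨁ P, U.1) :=
    LinearMap.lsum Γ(X, U.1) (fun i => Γ(P i, U.1)) ℕ (fun i => appLin (biproduct.ι P i) U.1)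
  refine Module.Finite.of_surjective f fun x => ?_
  refine ⟨fun i => (biproduct.π P i).app U.1 x, ?_⟩
  simp only [f, LinearMap.lsum_apply, LinearMap.coe_sum, Finset.sum_apply, LinearMap.comp_apply,
    LinearMap.proj_apply, appLin_apply]
  exact (Groth.Agent.Lib.QCohBiproduct.biproduct_decomp P U.1 x).symm

set_option backward.isDefEq.respectTransparency false in
/-- A finite family of coherent modules mapping to a quasi-coherent module `F` factors through a common
coherent subobject of `F`. -/
theorem exists_coh_sum (F : X.Modules) [F.IsQuasicoherent] {ι : Type} [Fintype ι]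
    (P : ι → X.Modules) (j : ∀ i, P i ⟶ F) (h : ∀ i, Coh.IsCoh (P i)) :
    ∃ (E : X.Modules) (i : E ⟶ F), Mono i ∧ Coh.IsCoh E ∧ ∀ k, ∃ l : P k ⟶ E, l ≫ i = j k := by
  have hb := isCoh_biproduct P h
  haveI := hb.1
  let φ : ⨁ P ⟶ F := biproduct.desc j
  refine ⟨Abelian.image φ, Abelian.image.ι φ, inferInstance, ?_, fun k => ?_⟩
  · exact Groth.Agent.Lib.H90OXModExact.isCoh_of_epi (Abelian.factorThruImage φ) hb
      (Groth.Agent.Lib.H90OXModExact.isQuasicoherent_abelianImage φ)
  · refine ⟨biproduct.ι P k ≫ Abelian.factorThruImage φ, ?_⟩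
    rw [Category.assoc, Abelian.image.fac]
    exact biproduct.ι_desc j k

end Groth.Agent.Lib.H90CohSum
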