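import Mathlib.CategoryTheory.Subobject.Limits
import Mathlib.CategoryTheory.Subobject.Lattice
import Mathlib.CategoryTheory.Abelian.Basic
import Mathlib.Algebra.Homology.ShortComplex.ShortExact
import Mathlib.Algebra.Homology.ShortComplex.ExactFunctor

/-!
# Restricting a short exact sequence to a subobject of the middle term (helper48)

In an abelian category, for `0 → F --i--> E --p--> G → 0` short exact and a subobject `P` of `E`, the sequence
`0 → i⁻¹P → P → im(P → G) → 0` is short exact, with `i⁻¹P = (Subobject.pullback i).obj P` and
`im(P → G) = imageSubobject (P.arrow ≫ p)`: `Groth.Agent.Lib.SubobjSES48.shortExact_piece`.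
Also `shortExact_cokernel`: `0 → P → E → coker → 0`.
-/

set_option autoImplicit false
universe v u
open CategoryTheory CategoryTheory.Limits

namespace Groth.Agent.Lib.SubobjSES48

variable {C : Type u} [Category.{v} C] [Abelian C]

variable {F E G : C} (i : F ⟶ E) (p : E ⟶ G)

theorem pullbackπ_comp_zero (w : i ≫ p = 0) (P : Subobject E) :
    Subobject.pullbackπ i P ≫ factorThruImageSubobject (P.arrow ≫ p) = 0 := by
  rw [← cancel_mono (imageSubobject (P.arrow ≫ p)).arrow, Category.assoc, imageSubobject_arrow_comp,
    zero_comp, ← Category.assoc, (Subobject.isPullback i P).w, Category.assoc, w, comp_zero]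

/-- The short complex `i⁻¹P → P → im(P → G)`. -/
noncomputable def pieceSC (w : i ≫ p = 0) (P : Subobject E) : ShortComplex C :=
  ShortComplex.mk (Subobject.pullbackπ i P) (factorThruImageSubobject (P.arrow ≫ p))
    (pullbackπ_comp_zero i p w P)

theorem shortExact_piece (w : i ≫ p = 0) (hS : (ShortComplex.mk i p w).ShortExact)
    (P : Subobject E) : (pieceSC i p w P).ShortExact := by
  haveI : Mono i := hS.mono_f
  have hpb := Subobject.isPullback i P
  haveI : Mono (Subobject.pullbackπ i P) := by
    refine ⟨fun {T} a b hab => ?_⟩
    apply hpb.hom_ext hab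
    rw [← cancel_mono i, Category.assoc, Category.assoc, ← hpb.w, ← Category.assoc, hab,
      Category.assoc]
  haveI : Mono (pieceSC i p w P).f := by change Mono (Subobject.pullbackπ i P); infer_instance
  haveI : Epi (pieceSC i p w P).g := by
    change Epi (factorThruImageSubobject (P.arrow ≫ p)); infer_instance
  refine ShortComplex.ShortExact.mk' ?_ inferInstance inferInstance
  refine ShortComplex.exact_of_f_is_kernel _ ?_
  -- `pullbackπ` is a kernel of `factorThruImageSubobject`
  have hker := hS.fIsKernel
  refine KernelFork.IsLimit.ofι _ _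
    (fun {T} (t : T ⟶ (P : C)) (ht : t ≫ factorThruImageSubobject (P.arrow ≫ p) = 0) =>
      hpb.lift t (KernelFork.IsLimit.lift' hker (t ≫ P.arrow) (by
        change (t ≫ P.arrow) ≫ p = 0
        rw [Category.assoc, ← imageSubobject_arrow_comp (P.arrow ≫ p), ← Category.assoc, ht,
          zero_comp])).1 (by
        have := (KernelFork.IsLimit.lift' hker (t ≫ P.arrow) (by
          change (t ≫ P.arrow) ≫ p = 0
          rw [Category.assoc, ← imageSubobject_arrow_comp (P.arrow ≫ p), ← Category.assoc, ht,
            zero_comp])).2
        exact this.symm))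
    (fun {T} t ht => hpb.lift_fst _ _ _)
    (fun {T} t ht m hm => by
      have hm' : m ≫ Subobject.pullbackπ i P = t := hm
      apply (cancel_mono (Subobject.pullbackπ i P)).mp
      exact hm'.trans (hpb.lift_fst _ _ _).symm)

/-- `0 → P → E → coker → 0`. -/
theorem shortExact_cokernel (P : Subobject E) :
    (ShortComplex.mk P.arrow (cokernel.π P.arrow) (cokernel.condition _)).ShortExact := by
  refine ShortComplex.ShortExact.mk' ?_ inferInstance inferInstance
  exact ShortComplex.exact_of_g_is_cokernel _ (cokernelIsCokernel P.arrow)

end Groth.Agent.Lib.SubobjSES48
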