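import Groth.Prelude.Def_ParBun
import Groth.Agent.Lib.SubobjSES48
import Groth.Agent.Lib.EulerChar54
import Groth.Agent.Lib.TwistEquiv
import Groth.Agent.Lib.H78Dual
import Groth.Agent.Lib.H78TensorGen
import Groth.Agent.Lib.CohFinAmple
import Groth.Agent.Lib.H90Invertible
import Groth.Agent.Lib.H90OXModExact
import Groth.Agent.Lib.H90CohRestrict
import Mathlib.AlgebraicGeometry.Noetherian
import Mathlib.AlgebraicGeometry.Morphisms.FiniteType

/-!
# Parabolic Hilbert functions (helper48): additivity on parabolic extensions (S18524) and the expression through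
the Hilbert polynomials of the quotients `E/E_j` (S18526), in hypothesis form (`H : ProperFinHyp.Hyp`)

* `euler_congr` : `χ` is invariant under isomorphisms.
* `euler_twist_add H` : for `L` invertible and `0 → S₁ → S₂ → S₃ → 0` short exact of coherent modules on `X` proper
  over a field, `χ(S₂(m)) = χ(S₁(m)) + χ(S₃(m))`.
* `isCoh_image_piece`, `isCoh_pullback_piece` : coherence of `im(P → G)` and `i⁻¹P`.
* `induced_pieceX`, `coinduced_pieceX`, `parSum_induced_add_coinduced` : bookkeeping for `ParSh.Str`.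
* `parHilb_add H` (= S18524), `parHilb_eq H` (= S18526).
-/

set_option autoImplicit false
universe u
open CategoryTheory CategoryTheory.Limits AlgebraicGeometry Opposite

namespace Groth.Agent.Lib.ParHilb48

open Groth.Agent.Lib

section General

variable (k : Type u) [Field k] (X : Scheme.{u}) [X.Over (Spec (CommRingCat.of k))]

/-- The Euler characteristic only depends on the isomorphism class. -/
theorem euler_congr {M N : X.Modules} (e : M ≅ N) : Curv2.euler k X M = Curv2.euler k X N := by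
  unfold Curv2.euler
  refine finsum_congr fun i => ?_
  rw [(CohLES.mapEquivₗ k e i).finrank_eq]

variable {X}

/-- Twists of isomorphic modules are isomorphic. -/
noncomputable def twistIso (L : X.Modules) {M N : X.Modules} (e : M ≅ N) (m : ℕ) :
    ShStab.twist X L M m ≅ ShStab.twist X L N m :=
  (TwistEquiv.tensorRightFunctor (CohB1.tensorPow L m)).mapIso e

end General

section Proper

variable (H : ProperFinHyp.Hyp.{u})
variable (k : Type u) [Field k] (X : Scheme.{u}) [X.Over (Spec (CommRingCat.of k))]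
  [IsProper (X ↘ Spec (CommRingCat.of k))]

omit H in
theorem isLocallyNoetherian (k : Type u) [Field k] (X : Scheme.{u}) [X.Over (Spec (CommRingCat.of k))]
    [IsProper (X ↘ Spec (CommRingCat.of k))] : IsLocallyNoetherian X :=
  LocallyOfFiniteType.isLocallyNoetherian (X ↘ Spec (CommRingCat.of k))

include H in
/-- Additivity of the twisted Euler characteristic. -/
theorem euler_twist_add (L : X.Modules) (hL : PicF.IsInvertible L) (S : ShortComplex X.Modules)
    (hS : S.ShortExact) (h₁ : Coh.IsCoh S.X₁) (h₂ : Coh.IsCoh S.X₂) (h₃ : Coh.IsCoh S.X₃) (m : ℕ) :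
    Curv2.euler k X (ShStab.twist X L S.X₂ m) =
      Curv2.euler k X (ShStab.twist X L S.X₁ m) + Curv2.euler k X (ShStab.twist X L S.X₃ m) := by
  have hM : PicF.IsInvertible (CohB1.tensorPow L m) := H78TensorGen.isInvertible_tensorPow hL m
  obtain ⟨M', _, ⟨e⟩⟩ := H78Dual.exists_tensor_inverse hM
  have e' : CohB1.tensorMod (CohB1.tensorPow L m) M' ≅ Coh.structureModule X :=
    OXModTensor.braiding _ _ ≪≫ e
  have hS' := TwistEquiv.shortExact_map_tensorRight e' hS
  have hMc : Coh.IsCoh (CohB1.tensorPow L m) := H90Invertible.isCoh_of_isInvertible hM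
  have c₁ : Coh.IsCoh (CohB1.tensorMod S.X₁ (CohB1.tensorPow L m)) :=
    CohFinAmple.isCoh_tensorMod h₁ hMc
  have c₂ : Coh.IsCoh (CohB1.tensorMod S.X₂ (CohB1.tensorPow L m)) :=
    CohFinAmple.isCoh_tensorMod h₂ hMc
  have c₃ : Coh.IsCoh (CohB1.tensorMod S.X₃ (CohB1.tensorPow L m)) :=
    CohFinAmple.isCoh_tensorMod h₃ hMc
  exact EulerChar54.euler_add H k X
    (S.map (TwistEquiv.tensorRightFunctor (CohB1.tensorPow L m))) hS' c₁ c₂ c₃

end Proper

section Pieces

variable {X : Scheme.{u}} [IsLocallyNoetherian X] {F E G : X.Modules} (i : F ⟶ E) (p : E ⟶ G)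

/-- `im(P → G)` is coherent. -/
theorem isCoh_image_piece (hG : Coh.IsCoh G) (P : Subobject E) (hP : Coh.IsCoh (P : X.Modules)) :
    Coh.IsCoh ((imageSubobject (P.arrow ≫ p) : Subobject G) : X.Modules) := by
  haveI : (P : X.Modules).IsQuasicoherent := hP.1
  haveI : G.IsQuasicoherent := hG.1
  haveI : (cokernel (P.arrow ≫ p)).IsQuasicoherent := H90OXModExact.isQuasicoherent_cokernel _
  haveI : (kernel (cokernel.π (P.arrow ≫ p))).IsQuasicoherent :=
    H90OXModExact.isQuasicoherent_kernel _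
  have e : kernel (cokernel.π (P.arrow ≫ p)) ≅
      ((imageSubobject (P.arrow ≫ p) : Subobject G) : X.Modules) :=
    Abelian.imageIsoImage (P.arrow ≫ p) ≪≫ (imageSubobjectIso (P.arrow ≫ p)).symm
  have hq : ((imageSubobject (P.arrow ≫ p) : Subobject G) : X.Modules).IsQuasicoherent :=
    H90CohRestrict.isQuasicoherent_of_iso e
  exact H90OXModExact.isCoh_of_epi (factorThruImageSubobject (P.arrow ≫ p)) hP hq

/-- `i⁻¹P` is coherent. -/
theorem isCoh_pullback_piece (w : i ≫ p = 0) (hS : (ShortComplex.mk i p w).ShortExact)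
    (hG : Coh.IsCoh G) (P : Subobject E) (hP : Coh.IsCoh (P : X.Modules)) :
    Coh.IsCoh (((Subobject.pullback i).obj P : Subobject F) : X.Modules) := by
  have hS' := SubobjSES48.shortExact_piece i p w hS P
  haveI : (P : X.Modules).IsQuasicoherent := hP.1
  haveI : ((imageSubobject (P.arrow ≫ p) : Subobject G) : X.Modules).IsQuasicoherent :=
    (isCoh_image_piece p hG P hP).1
  have e : kernel (factorThruImageSubobject (P.arrow ≫ p)) ≅
      (((Subobject.pullback i).obj P : Subobject F) : X.Modules) :=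
    IsLimit.conePointUniqueUpToIso (kernelIsKernel _) hS'.fIsKernel
  exact H90CohRestrict.isCoh_of_iso e
    (H90OXModExact.isCoh_kernel (factorThruImageSubobject (P.arrow ≫ p)) hP)

end Pieces

section Str

variable {X : Scheme.{u}} {F E G : X.Modules} (𝓔 : ParSh.Str E)

theorem induced_pieceX (i : F ⟶ E) (j : Fin (𝓔.l + 2)) :
    (𝓔.induced i).pieceX j = (Subobject.pullback i).obj (𝓔.pieceX j) := by
  refine Fin.lastCases ?_ (fun j' => ?_) j
  · exact ((𝓔.induced i).pieceX_last).trans (by rw [𝓔.pieceX_last]; rfl)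
  · exact ((𝓔.induced i).pieceX_castSucc j').trans (by rw [𝓔.pieceX_castSucc]; rfl)

theorem coinduced_pieceX (p : E ⟶ G) [Epi p] (j : Fin (𝓔.l + 2)) :
    (𝓔.coinduced p).pieceX j = imageSubobject ((𝓔.pieceX j).arrow ≫ p) := by
  refine Fin.lastCases ?_ (fun j' => ?_) j
  · exact ((𝓔.coinduced p).pieceX_last).trans (by rw [𝓔.pieceX_last]; rfl)
  · exact ((𝓔.coinduced p).pieceX_castSucc j').trans (by rw [𝓔.pieceX_castSucc]; rfl)

/-- `parSum` in terms of `pieceX` only. -/
theorem parSum_eq (f : X.Modules → ℝ) :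
    𝓔.parSum f = f (𝓔.pieceX (Fin.last (𝓔.l + 1)) : X.Modules) +
      ∑ j : Fin (𝓔.l + 1), 𝓔.wt j *
        (f (𝓔.pieceX j.castSucc : X.Modules) - f (𝓔.pieceX j.succ : X.Modules)) := by
  unfold ParSh.Str.parSum
  rw [𝓔.pieceX_last]
  refine congrArg _ (Finset.sum_congr rfl fun j _ => ?_)
  rw [𝓔.pieceX_castSucc]

theorem parSum_induced_add_coinduced (f : X.Modules → ℝ) (i : F ⟶ E) (p : E ⟶ G) [Epi p]
    (hf : ∀ j : Fin (𝓔.l + 2),
      f (((Subobject.pullback i).obj (𝓔.pieceX j) : Subobject F) : X.Modules) +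
        f ((imageSubobject ((𝓔.pieceX j).arrow ≫ p) : Subobject G) : X.Modules) =
      f (𝓔.pieceX j : X.Modules)) :
    (𝓔.induced i).parSum f + (𝓔.coinduced p).parSum f = 𝓔.parSum f := by
  rw [parSum_eq, parSum_eq, parSum_eq]
  have h1 : ∀ j : Fin (𝓔.l + 2), f ((𝓔.induced i).pieceX j : X.Modules) +
      f ((𝓔.coinduced p).pieceX j : X.Modules) = f (𝓔.pieceX j : X.Modules) := by
    intro j
    rw [induced_pieceX, coinduced_pieceX]
    exact hf j
  change f ((𝓔.induced i).pieceX (Fin.last (𝓔.l + 1)) : X.Modules) +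
      ∑ j : Fin (𝓔.l + 1), 𝓔.wt j * (f ((𝓔.induced i).pieceX j.castSucc : X.Modules) -
        f ((𝓔.induced i).pieceX j.succ : X.Modules)) +
    (f ((𝓔.coinduced p).pieceX (Fin.last (𝓔.l + 1)) : X.Modules) +
      ∑ j : Fin (𝓔.l + 1), 𝓔.wt j * (f ((𝓔.coinduced p).pieceX j.castSucc : X.Modules) -
        f ((𝓔.coinduced p).pieceX j.succ : X.Modules))) = _
  rw [add_add_add_comm, ← Finset.sum_add_distrib, h1]
  refine congrArg _ (Finset.sum_congr rfl fun j _ => ?_)
  rw [← h1 j.castSucc, ← h1 j.succ]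
  ring

end Str

section Main

variable (H : ProperFinHyp.Hyp.{u})
variable (k : Type u) [Field k] (X : Scheme.{u}) [X.Over (Spec (CommRingCat.of k))]
  [IsProper (X ↘ Spec (CommRingCat.of k))]

include H in
/-- S18524 (hypothesis form): parabolic Hilbert functions are additive on parabolic extensions. -/
theorem parHilb_add (L : X.Modules) (hL : CohB1.IsAmple L) {F E G : X.Modules}
    (hG : Coh.IsCoh G)
    (i : F ⟶ E) (p : E ⟶ G) [Epi p] (𝓕 : ParSh.Str F) (𝓔 : ParSh.Str E) (𝓖 : ParSh.Str G)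
    (hext : ParSh.IsParExt i p 𝓕 𝓔 𝓖)
    (hcoh : ∀ j, Coh.IsCoh ((𝓔.piece j : Subobject E) : X.Modules))
    (hbot : Coh.IsCoh ((𝓔.bot : Subobject E) : X.Modules)) (m : ℕ) :
    𝓕.parHilb k X L m + 𝓖.parHilb k X L m = 𝓔.parHilb k X L m := by
  obtain ⟨w, hS, rfl, rfl⟩ := hext
  haveI := isLocallyNoetherian k X
  have hcX : ∀ j, Coh.IsCoh ((𝓔.pieceX j : Subobject E) : X.Modules) := by
    intro j
    refine Fin.lastCases ?_ (fun j' => ?_) j
    · rw [𝓔.pieceX_last]; exact hbot
    · rw [𝓔.pieceX_castSucc]; exact hcoh j'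
  unfold ParSh.Str.parHilb
  refine parSum_induced_add_coinduced 𝓔 _ i p (fun j => ?_)
  have hS' := SubobjSES48.shortExact_piece i p w hS (𝓔.pieceX j)
  have h1 := euler_twist_add H k X L hL.1 (SubobjSES48.pieceSC i p w (𝓔.pieceX j)) hS'
    (isCoh_pullback_piece i p w hS hG _ (hcX j)) (hcX j) (isCoh_image_piece p hG _ (hcX j)) m
  change (Curv2.euler k X (ShStab.twist X L _ m) : ℝ) + (Curv2.euler k X (ShStab.twist X L _ m) : ℝ) =
    (Curv2.euler k X (ShStab.twist X L _ m) : ℝ)
  have h2 : (Curv2.euler k X (ShStab.twist X L ((𝓔.pieceX j : Subobject E) : X.Modules) m) : ℝ) =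
      (Curv2.euler k X (ShStab.twist X L
        (((Subobject.pullback i).obj (𝓔.pieceX j) : Subobject F) : X.Modules) m) : ℝ) +
      (Curv2.euler k X (ShStab.twist X L
        ((imageSubobject ((𝓔.pieceX j).arrow ≫ p) : Subobject G) : X.Modules) m) : ℝ) := by
    exact_mod_cast h1
  exact h2.symm

theorem tele {n : ℕ} (g : Fin (n + 2) → ℝ) :
    ∑ j : Fin (n + 1), (g j.succ - g j.castSucc) = g (Fin.last (n + 1)) - g 0 := by
  rw [Finset.sum_sub_distrib]
  have h1 := Fin.sum_univ_succ g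
  have h2 := Fin.sum_univ_castSucc g
  linarith

include H in
/-- S18526 (hypothesis form): the parabolic Hilbert function through the Hilbert polynomials of `E` and of
the quotients `E/E_j`. -/
theorem parHilb_eq (L : X.Modules) (hL : CohB1.IsAmple L) (E : X.Modules) (hE : Coh.IsCoh E)
    (𝓔 : ParSh.Str E) (hcoh : ∀ j, Coh.IsCoh ((𝓔.pieceX j : Subobject E) : X.Modules))
    (P : Polynomial ℚ) (hP : ShStab.IsHilbPoly k X L E P) (Hq : Fin (𝓔.l + 2) → Polynomial ℚ)
    (hH : ∀ j, ShStab.IsHilbPoly k X L (cokernel (𝓔.pieceX j).arrow) (Hq j)) (m : ℕ) :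
    𝓔.parHilb k X L m =
      ((P.eval (m : ℚ) : ℚ) : ℝ) -
        ∑ j : Fin (𝓔.l + 1), (𝓔.wtX j.succ - 𝓔.wtX j.castSucc) *
          (((Hq j.succ).eval (m : ℚ) : ℚ) : ℝ) := by
  haveI := isLocallyNoetherian k X
  set f : X.Modules → ℝ := fun G => (Curv2.euler k X (ShStab.twist X L G m) : ℝ) with hf
  set Pm : ℝ := ((P.eval (m : ℚ) : ℚ) : ℝ) with hPm
  set Hm : Fin (𝓔.l + 2) → ℝ := fun j => (((Hq j).eval (m : ℚ) : ℚ) : ℝ) with hHm
  have hPE : Pm = f E := by
    rw [hPm, hf, ← hP m]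
    norm_cast
  have hfj : ∀ j, f ((𝓔.pieceX j : Subobject E) : X.Modules) = Pm - Hm j := by
    intro j
    have hS := SubobjSES48.shortExact_cokernel (𝓔.pieceX j)
    haveI : ((𝓔.pieceX j : Subobject E) : X.Modules).IsQuasicoherent := (hcoh j).1
    have hc : Coh.IsCoh (cokernel (𝓔.pieceX j).arrow) :=
      H90OXModExact.isCoh_cokernel (𝓔.pieceX j).arrow hE
    have h1 := euler_twist_add H k X L hL.1 _ hS (hcoh j) hE hc m
    have h2 : f E = f ((𝓔.pieceX j : Subobject E) : X.Modules) +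
        (Curv2.euler k X (ShStab.twist X L (cokernel (𝓔.pieceX j).arrow) m) : ℝ) := by
      change (Curv2.euler k X (ShStab.twist X L E m) : ℝ) =
        (Curv2.euler k X (ShStab.twist X L ((𝓔.pieceX j : Subobject E) : X.Modules) m) : ℝ) +
        (Curv2.euler k X (ShStab.twist X L (cokernel (𝓔.pieceX j).arrow) m) : ℝ)
      exact_mod_cast h1
    have h3 : Hm j = (Curv2.euler k X (ShStab.twist X L (cokernel (𝓔.pieceX j).arrow) m) : ℝ) := by
      rw [hHm]
      change (((Hq j).eval (m : ℚ) : ℚ) : ℝ) = _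
      rw [← hH j m]
      norm_cast
    rw [hPE, h2, h3]; ring
  have hH0 : Hm 0 = 0 := by
    have h0 : 𝓔.pieceX 0 = ⊤ := by
      have : (0 : Fin (𝓔.l + 2)) = (0 : Fin (𝓔.l + 1)).castSucc := rfl
      rw [this, 𝓔.pieceX_castSucc, 𝓔.piece_zero]
    have h1 := hfj 0
    have h2 : f ((𝓔.pieceX 0 : Subobject E) : X.Modules) = f E := by
      rw [h0, hf]
      change (Curv2.euler k X _ : ℝ) = (Curv2.euler k X _ : ℝ)
      rw [euler_congr k X (twistIso L (asIso (⊤ : Subobject E).arrow) m)]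
    rw [h2, ← hPE] at h1
    linarith
  change 𝓔.parSum f = _
  rw [parSum_eq]
  simp only [hfj]
  set g : Fin (𝓔.l + 2) → ℝ := fun j => 𝓔.wtX j * Hm j with hg
  have hterm : ∀ j : Fin (𝓔.l + 1), 𝓔.wt j * (Pm - Hm j.castSucc - (Pm - Hm j.succ)) =
      (g j.succ - g j.castSucc) - (𝓔.wtX j.succ - 𝓔.wtX j.castSucc) * Hm j.succ := by
    intro j
    rw [hg]
    change _ = (𝓔.wtX j.succ * Hm j.succ - 𝓔.wtX j.castSucc * Hm j.castSucc) - _
    rw [𝓔.wtX_castSucc]; ring
  rw [Finset.sum_congr rfl (fun j _ => hterm j), Finset.sum_sub_distrib, tele g]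
  have hgl : g (Fin.last (𝓔.l + 1)) = Hm (Fin.last (𝓔.l + 1)) := by
    rw [hg]; change 𝓔.wtX (Fin.last (𝓔.l + 1)) * _ = _; rw [𝓔.wtX_last, one_mul]
  have hg0 : g 0 = 0 := by
    rw [hg]; change 𝓔.wtX 0 * Hm 0 = 0; rw [hH0, mul_zero]
  rw [hgl, hg0]
  ring

end Main

end Groth.Agent.Lib.ParHilb48
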