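import Groth.Prelude.Def_ShStab
import Groth.Agent.Lib.ParHilb48
import Groth.Agent.Lib.H4Chase
import Groth.Agent.Lib.H78SerreVan
import Groth.Agent.Lib.H78GlobGen2
import Groth.Agent.Lib.H4TwistGamma

/-!
# Hilbert polynomials of coherent modules on a proper scheme over a field (helper48)

Basic calculus of `ShStab.IsHilbPoly k X L E P` (`χ(E ⊗ L^m) = P(m)` for all `m : ℕ`, `χ = Curv2.euler`), in hypothesis
form over `H : ProperFinHyp.Hyp` (finiteness, = S0002).

* `isHilbPoly_unique` : two Hilbert polynomials of the same module are equal.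
* `isHilbPoly_congr` : invariance under isomorphisms.
* `euler_eq_zero_of_isZero`, `isHilbPoly_zero` : the zero module has Hilbert polynomial `0`.
* `isHilbPoly_add H`, `isHilbPoly_sub_left H`, `isHilbPoly_sub_right H` : additivity on short exact sequences.
-/

set_option autoImplicit false
universe u
open CategoryTheory CategoryTheory.Limits AlgebraicGeometry Polynomial

namespace Groth.Agent.Lib.HilbPoly48

open Groth.Agent.Lib

section General

variable (k : Type u) [Field k] (X : Scheme.{u}) [X.Over (Spec (CommRingCat.of k))]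

variable {k X} in
/-- Two Hilbert polynomials of the same module coincide. -/
theorem isHilbPoly_unique {L E : X.Modules} {P P' : ℚ[X]} (h : ShStab.IsHilbPoly k X L E P)
    (h' : ShStab.IsHilbPoly k X L E P') : P = P' := by
  refine Polynomial.eq_of_infinite_eval_eq P P' ?_
  refine Set.infinite_of_injective_forall_mem (f := fun m : ℕ => (m : ℚ)) Nat.cast_injective ?_
  intro m
  change P.eval (m : ℚ) = P'.eval (m : ℚ)
  rw [← h m, ← h' m]

variable {k X} in
/-- Invariance under isomorphisms. -/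
theorem isHilbPoly_congr {L E E' : X.Modules} (e : E ≅ E') {P : ℚ[X]}
    (h : ShStab.IsHilbPoly k X L E P) : ShStab.IsHilbPoly k X L E' P := fun m => by
  rw [← h m, ParHilb48.euler_congr k X (ParHilb48.twistIso L e m)]

/-- The Euler characteristic of a zero module is `0`. -/
theorem euler_eq_zero_of_isZero {E : X.Modules} (hE : IsZero E) : Curv2.euler k X E = 0 := by
  unfold Curv2.euler
  rw [finsum_eq_zero_of_forall_eq_zero]
  intro i
  haveI := H4Chase.subsingleton_HH_of_isZero hE i
  rw [Module.finrank_zero_of_subsingleton]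
  simp

theorem isZero_twist (L : X.Modules) {E : X.Modules} (hE : IsZero E) (m : ℕ) :
    IsZero (ShStab.twist X L E m) :=
  (TwistEquiv.tensorRightFunctor (CohB1.tensorPow L m)).map_isZero hE

/-- The zero module has Hilbert polynomial `0`. -/
theorem isHilbPoly_zero (L : X.Modules) {E : X.Modules} (hE : IsZero E) :
    ShStab.IsHilbPoly k X L E 0 := fun m => by
  rw [euler_eq_zero_of_isZero k X (isZero_twist X L hE m)]
  simp

end General

section Proper

variable (H : ProperFinHyp.Hyp.{u})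
variable (k : Type u) [Field k] (X : Scheme.{u}) [X.Over (Spec (CommRingCat.of k))]
  [IsProper (X ↘ Spec (CommRingCat.of k))]

include H in
/-- Additivity of Hilbert polynomials on short exact sequences. -/
theorem isHilbPoly_add {L : X.Modules} (hL : PicF.IsInvertible L) (S : ShortComplex X.Modules)
    (hS : S.ShortExact) (h₁ : Coh.IsCoh S.X₁) (h₂ : Coh.IsCoh S.X₂) (h₃ : Coh.IsCoh S.X₃)
    {P₁ P₃ : ℚ[X]} (hP₁ : ShStab.IsHilbPoly k X L S.X₁ P₁) (hP₃ : ShStab.IsHilbPoly k X L S.X₃ P₃) :
    ShStab.IsHilbPoly k X L S.X₂ (P₁ + P₃) := fun m => by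
  rw [ParHilb48.euler_twist_add H k X L hL S hS h₁ h₂ h₃ m, eval_add, ← hP₁ m, ← hP₃ m]
  push_cast
  rfl

include H in
theorem isHilbPoly_sub_left {L : X.Modules} (hL : PicF.IsInvertible L) (S : ShortComplex X.Modules)
    (hS : S.ShortExact) (h₁ : Coh.IsCoh S.X₁) (h₂ : Coh.IsCoh S.X₂) (h₃ : Coh.IsCoh S.X₃)
    {P₁ P₂ : ℚ[X]} (hP₁ : ShStab.IsHilbPoly k X L S.X₁ P₁) (hP₂ : ShStab.IsHilbPoly k X L S.X₂ P₂) :
    ShStab.IsHilbPoly k X L S.X₃ (P₂ - P₁) := fun m => by
  have h := ParHilb48.euler_twist_add H k X L hL S hS h₁ h₂ h₃ m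
  rw [eval_sub, ← hP₁ m, ← hP₂ m, h]
  push_cast
  ring

include H in
theorem isHilbPoly_sub_right {L : X.Modules} (hL : PicF.IsInvertible L) (S : ShortComplex X.Modules)
    (hS : S.ShortExact) (h₁ : Coh.IsCoh S.X₁) (h₂ : Coh.IsCoh S.X₂) (h₃ : Coh.IsCoh S.X₃)
    {P₂ P₃ : ℚ[X]} (hP₂ : ShStab.IsHilbPoly k X L S.X₂ P₂) (hP₃ : ShStab.IsHilbPoly k X L S.X₃ P₃) :
    ShStab.IsHilbPoly k X L S.X₁ (P₂ - P₃) := fun m => by
  have h := ParHilb48.euler_twist_add H k X L hL S hS h₁ h₂ h₃ m
  rw [eval_sub, ← hP₂ m, ← hP₃ m, h]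
  push_cast
  ring

end Proper

end Groth.Agent.Lib.HilbPoly48
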