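import Groth.Agent.Lib.CurveDeg48a
import Groth.Agent.Lib.CurveDeg48b
import Groth.Agent.Lib.OXModRestrict
import Groth.Agent.Lib.SupportTensor
import Groth.Agent.Lib.H90InvertibleFP
import Groth.Agent.Lib.FreeModStalk
import Groth.Agent.Lib.EulerChar54
import Groth.Agent.Lib.HilbPoly48
import Groth.Agent.Lib.H90QCohLimits
import Groth.Agent.Lib.H90CohSum
import Groth.Agent.Lib.H90CohCenter
import Groth.Agent.Lib.H90CohRestrict
import Groth.Agent.Lib.DegTensor54
import Mathlib.CategoryTheory.Limits.Constructions.FiniteProductsOfBinaryProducts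

/-!
# Finite powers of a module; tensoring a module with small support by a locally free module (helper48, K6/D3)

`pw n G = ∐_{Fin n} G`.
* `tensorFreeIso : F ⊗ O^n ≅ F^n`, `restrictPwIso : (F^n)|_U ≅ (F|_U)^n`, `restrictTensorFreeIso`.
* `support_pw_subset : Supp (G^n) ⊆ Supp G`.
* `isCoh_pw`, `euler_pw H : χ(G^n) = n χ(G)`.
* `nonempty_tensor_iso_pw`: if `Supp G ⊆ Z ⊆ U`, `Z` closed, and `E|_U ≅ O_U^n` then `G ⊗ E ≅ G^n`.
-/

set_option autoImplicit false
universe u
open CategoryTheory CategoryTheory.Limits AlgebraicGeometry Opposite TopologicalSpace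

namespace Groth.Agent.Lib.CurveDeg48

open Groth.Agent.Lib.OXModTensor Groth.Agent.Lib.OXModRestrict Groth.Agent.Lib.ModStalkLin
  Groth.Agent.Lib.H90DevHub2 Groth.Agent.Lib.FreeModStalk

variable {X : Scheme.{u}}

/-- the `n`-th power `G^n` of a module -/
noncomputable abbrev pw (n : ℕ) (G : X.Modules) : X.Modules := ∐ fun _ : Fin n => G

/-- `F ⊗ O^n ≅ F^n` -/
noncomputable def tensorFreeIso (F : X.Modules) (n : ℕ) :
    CohB1.tensorMod F (FlatMod.freeMod X n) ≅ pw n F :=
  PreservesCoproduct.iso (tensorLeftFunctor F) (fun _ : Fin n => Coh.structureModule X) ≪≫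
    Sigma.mapIso (fun _ => rightUnitor F)

/-- `(F^n)|_U ≅ (F|_U)^n` -/
noncomputable def restrictPwIso {U : Scheme.{u}} (f : U ⟶ X) [IsOpenImmersion f] (F : X.Modules) (n : ℕ) :
    (Scheme.Modules.restrictFunctor f).obj (pw n F) ≅ pw n ((Scheme.Modules.restrictFunctor f).obj F) :=
  PreservesCoproduct.iso (Scheme.Modules.restrictFunctor f) (fun _ : Fin n => F)

/-- if `E|_U ≅ O_U^n` then `(F ⊗ E)|_U ≅ (F^n)|_U` -/
noncomputable def restrictTensorFreeIso {U : Scheme.{u}} (f : U ⟶ X) [IsOpenImmersion f]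
    (F E : X.Modules) (n : ℕ) (e : E.restrict f ≅ FlatMod.freeMod U n) :
    (Scheme.Modules.restrictFunctor f).obj (CohB1.tensorMod F E) ≅
      (Scheme.Modules.restrictFunctor f).obj (pw n F) :=
  restrictTensorIso f F E ≪≫ tensorModIso (Iso.refl _) e ≪≫ tensorFreeIso _ n ≪≫
    (restrictPwIso f F n).symm

/-- the projections of a finite power -/
noncomputable def pwProj (n : ℕ) (G : X.Modules) (j : Fin n) : pw n G ⟶ G :=
  Sigma.desc (fun i => if i = j then 𝟙 G else 0)

lemma ι_pwProj (n : ℕ) (G : X.Modules) (i j : Fin n) :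
    Sigma.ι (fun _ : Fin n => G) i ≫ pwProj n G j = if i = j then 𝟙 G else 0 := by
  simp [pwProj]

lemma sum_pwProj_ι (n : ℕ) (G : X.Modules) :
    ∑ j : Fin n, pwProj n G j ≫ Sigma.ι (fun _ : Fin n => G) j = 𝟙 (pw n G) := by
  apply Sigma.hom_ext
  intro i
  rw [Preadditive.comp_sum, Category.comp_id]
  rw [Finset.sum_eq_single i]
  · rw [← Category.assoc, ι_pwProj, if_pos rfl, Category.id_comp]
  · intro j _ hji
    rw [← Category.assoc, ι_pwProj, if_neg (Ne.symm hji), Limits.zero_comp]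
  · intro h
    exact absurd (Finset.mem_univ i) h

/-- the support of a finite power is contained in the support -/
theorem support_pw_subset (n : ℕ) (G : X.Modules) : CohB1.support (pw n G) ⊆ CohB1.support G := by
  intro x hx
  by_contra hxG
  rw [notMem_support_iff] at hxG
  rw [mem_support_iff] at hx
  obtain ⟨a, b, hab⟩ := hx.exists_pair_ne
  have key : ∀ m : ↑((pw n G).presheaf.stalk x), m = 0 := by
    intro m
    have h1 : stalkLin (𝟙 (pw n G)) x m = m := by rw [stalkLin_id]; rfl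
    rw [← h1, ← sum_pwProj_ι n G, stalkLin_sum, LinearMap.sum_apply]
    apply Finset.sum_eq_zero
    intro j _
    rw [stalkLin_comp]
    change stalkLin (Sigma.ι (fun _ : Fin n => G) j) x (stalkLin (pwProj n G j) x m) = 0
    rw [Subsingleton.elim (stalkLin (pwProj n G j) x m) 0, map_zero]
  exact hab ((key a).trans (key b).symm)

attribute [local instance] CategoryTheory.Abelian.hasFiniteBiproducts in
/-- finite powers of coherent modules are coherent -/
theorem isCoh_pw (n : ℕ) {G : X.Modules} (hG : Coh.IsCoh G) : Coh.IsCoh (pw n G) :=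
  Groth.Agent.Lib.H90CohRestrict.isCoh_of_iso (biproduct.isoCoproduct (fun _ : Fin n => G))
    (Groth.Agent.Lib.H90CohSum.isCoh_biproduct (fun _ : Fin n => G) (fun _ => hG))

/-- `G^0 = 0` -/
theorem isZero_pw_zero (G : X.Modules) : IsZero (pw 0 G) := by
  rw [IsZero.iff_id_eq_zero]
  apply Sigma.hom_ext
  intro i
  exact i.elim0

/-- `G^{n+1} ≅ G ⊞ G^n` -/
noncomputable def pwSuccIso (n : ℕ) (G : X.Modules) : pw (n + 1) G ≅ G ⊞ pw n G :=
  let f : Fin (n + 1) → X.Modules := fun _ => G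
  let c₁ : Cofan (fun i : Fin n => f i.succ) := Cofan.mk (pw n G) (Sigma.ι (fun _ : Fin n => G))
  let t₁ : IsColimit c₁ := coproductIsCoproduct (fun _ : Fin n => G)
  let c₂ : BinaryCofan (f 0) c₁.pt := (BinaryBiproduct.bicone G (pw n G)).toCocone
  let t₂ : IsColimit c₂ := BinaryBiproduct.isColimit G (pw n G)
  (coproductIsCoproduct f).coconePointUniqueUpToIso (extendCofanIsColimit f t₁ t₂)

/-- if `Supp G ⊆ Z ⊆ U` with `Z` closed and `E|_U ≅ O_U^n` then `G ⊗ E ≅ G^n` -/
theorem nonempty_tensor_iso_pw {G E : X.Modules} (hG : Coh.IsCoh G) (hE : Coh.IsCoh E)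
    {Z : Set X} (hZ : IsClosed Z) (hGZ : CohB1.support G ⊆ Z) (U : X.Opens) (hZU : Z ⊆ (U : Set X))
    (n : ℕ) (e : E.restrict U.ι ≅ FlatMod.freeMod (↑U) n) :
    Nonempty (CohB1.tensorMod G E ≅ pw n G) := by
  haveI := hG.1
  haveI := hE.1
  haveI := hG.2
  haveI := hE.2
  refine nonempty_iso_of_restrict_iso hZ ?_ ((support_pw_subset n G).trans hGZ) U hZU
    (restrictTensorFreeIso U.ι G E n e)
  rw [Groth.Agent.Lib.SupportTensor.support_tensorMod G E]
  exact Set.inter_subset_left.trans hGZ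

section Euler

variable (H : Groth.Agent.Lib.ProperFinHyp.Hyp.{u}) (k : Type u) [Field k] (X : Scheme.{u})
  [X.Over (Spec (CommRingCat.of k))] [IsProper (X ↘ (Spec (CommRingCat.of k)))]

include H in
/-- `χ(G^n) = n χ(G)` -/
theorem euler_pw (n : ℕ) {G : X.Modules} (hG : Coh.IsCoh G) :
    Curv2.euler k X (pw n G) = n * Curv2.euler k X G := by
  induction n with
  | zero =>
    rw [Groth.Agent.Lib.HilbPoly48.euler_eq_zero_of_isZero k X (isZero_pw_zero G)]
    simp
  | succ n ih =>
    rw [Groth.Agent.Lib.DegTensor54.euler_congr k (pwSuccIso n G)]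
    have hS := (ShortComplex.Splitting.ofHasBinaryBiproduct G (pw n G)).shortExact
    have := Groth.Agent.Lib.EulerChar54.euler_add H k X _ hS hG
      (Groth.Agent.Lib.H90CohCenter.isCoh_biprod hG (isCoh_pw n hG)) (isCoh_pw n hG)
    rw [this, ih]
    push_cast
    ring

end Euler

end Groth.Agent.Lib.CurveDeg48
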