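import Groth.Agent.Lib.CohRankModel
import Groth.Agent.Lib.CohTwistCompare
import Groth.Agent.Lib.CurveDeg48c

/-!
# Cohomology of twists of a coherent module versus its generic rank (helper10)

`X` integral, proper over a field `k`, `dim X ≤ n`, `F` coherent of generic rank `r`, `N : ι → X.Modules`
finitely many invertible modules.  Then there is `D` with
`|h^i(F ⊗ P) - r * h^i(P)| ≤ D * g n m` for all `i` and all `P` of length `m` in the family
(`exists_bound_rank`).
-/

set_option autoImplicit false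
universe u
open CategoryTheory CategoryTheory.Limits AlgebraicGeometry CohB1
open Groth.Agent.Lib.OXModTensor Groth.Agent.Lib.TwistEquiv Groth.Agent.Lib.CohLES
open Groth.Agent.Lib.IsoCls13 Groth.Agent.Lib.CohGrowthMulti Groth.Agent.Lib.CohGrowthHH
open Groth.Agent.Lib.CohGrowthMultiHH Groth.Agent.Lib.CohTwistCompare
open Groth.Agent.Lib.CurveDeg48
open Groth.Agent.Lib.CohGrowth (g)

namespace Groth.Agent.Lib.CohRankCompare

variable (k : Type u) [Field k] {X : Scheme.{u}}
  [X.Over (Spec (CommRingCat.of k))] [IsProper (X ↘ Spec (CommRingCat.of k))]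

/-- cohomology of a binary biproduct -/
theorem hh_biprod {A B : X.Modules} (hA : Coh.IsCoh A) (hB : Coh.IsCoh B) (i : ℕ) :
    hh k X (A ⊞ B) i = hh k X A i + hh k X B i := by
  have hAB : Coh.IsCoh (A ⊞ B) := Groth.Agent.Lib.H90CohCenter.isCoh_biprod hA hB
  have := finite_HH k X _ hA i
  have := finite_HH k X _ hB i
  have := finite_HH k X _ hAB i
  have hS := (ShortComplex.Splitting.ofHasBinaryBiproduct A B).shortExact
  have hex : LinearMap.range (mapₗ k (biprod.inl : A ⟶ A ⊞ B) i) =
      LinearMap.ker (mapₗ k (biprod.snd : A ⊞ B ⟶ B) i) :=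
    range_mapₗ_f_eq_ker k hS i
  have hinj : Function.Injective (mapₗ k (biprod.inl : A ⟶ A ⊞ B) i) := by
    intro x y hxy
    have h1 : ∀ z : Coh.HH X A i,
        mapₗ k (biprod.fst : A ⊞ B ⟶ A) i (mapₗ k (biprod.inl : A ⟶ A ⊞ B) i z) = z := by
      intro z
      change Groth.Agent.Lib.CohLES.map biprod.fst i (Groth.Agent.Lib.CohLES.map biprod.inl i z) = z
      rw [← Groth.Agent.Lib.CohLES.map_comp, biprod.inl_fst, Groth.Agent.Lib.CohLES.map_id]
    rw [← h1 x, ← h1 y, hxy]
  have hsurj : Function.Surjective (mapₗ k (biprod.snd : A ⊞ B ⟶ B) i) := by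
    intro z
    refine ⟨mapₗ k (biprod.inr : B ⟶ A ⊞ B) i z, ?_⟩
    change Groth.Agent.Lib.CohLES.map biprod.snd i (Groth.Agent.Lib.CohLES.map biprod.inr i z) = z
    rw [← Groth.Agent.Lib.CohLES.map_comp, biprod.inr_snd, Groth.Agent.Lib.CohLES.map_id]
  have h1 := LinearMap.finrank_range_add_finrank_ker (mapₗ k (biprod.snd : A ⊞ B ⟶ B) i)
  rw [LinearMap.range_eq_top.2 hsurj, finrank_top, ← hex,
    LinearMap.finrank_range_of_inj hinj] at h1
  change hh k X B i + hh k X A i = hh k X (A ⊞ B) i at h1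
  omega

/-- cohomology of a finite power -/
theorem hh_pw (n : ℕ) {G : X.Modules} (hG : Coh.IsCoh G) (i : ℕ) :
    hh k X (pw n G) i = n * hh k X G i := by
  induction n with
  | zero =>
    rw [hh_of_isZero k (isZero_pw_zero G)]
    simp
  | succ n ih =>
    rw [hh_congr k (pwSuccIso n G), hh_biprod k hG (isCoh_pw n hG), ih]
    ring

/-- `h^i(O^r ⊗ P) = r h^i(P)` -/
theorem hc_freeMod (r i : ℕ) {c : Cls X} (hinv : PicF.IsInvertible (rep c)) :
    hc k (FlatMod.freeMod X r) i c = r * hc k (Coh.structureModule X) i c := by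
  unfold hc
  have hP : Coh.IsCoh (rep c) := Groth.Agent.Lib.H90Invertible.isCoh_of_isInvertible hinv
  rw [hh_congr k (braiding (FlatMod.freeMod X r) (rep c) ≪≫ tensorFreeIso (rep c) r),
    hh_pw k r hP, hh_congr k (leftUnitor (rep c))]

theorem shortExact_kernel_image {A B : X.Modules} (f : A ⟶ B) :
    (ShortComplex.mk (kernel.ι f) (Abelian.factorThruImage f)
      (by rw [← cancel_mono (Abelian.image.ι f), Category.assoc, Abelian.image.fac,
        kernel.condition, zero_comp])).ShortExact := by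
  refine ShortComplex.ShortExact.mk' ?_ Limits.equalizer.ι_mono inferInstance
  refine ShortComplex.exact_of_f_is_kernel _ ?_
  exact isKernelOfComp (Abelian.image.ι f) f (kernelIsKernel f) _ (Abelian.image.fac _)

theorem shortExact_image_cokernel {A B : X.Modules} (f : A ⟶ B) :
    (ShortComplex.mk (Abelian.image.ι f) (cokernel.π f) (kernel.condition _)).ShortExact := by
  have h1 : Mono (Abelian.image.ι f) := Limits.equalizer.ι_mono
  have h2 : Epi (cokernel.π f) := Limits.coequalizer.π_epi
  exact ShortComplex.ShortExact.mk'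
    (ShortComplex.exact_of_f_is_kernel _ (kernelIsKernel _)) h1 h2

/-- comparison along a map whose kernel and cokernel have small twisted cohomology -/
theorem hc_compare_of_map {c : Cls X} (hinv : PicF.IsInvertible (rep c))
    {A B : X.Modules} (f : A ⟶ B) (hA : Coh.IsCoh A) (hB : Coh.IsCoh B) (i : ℕ) (E : ℕ)
    (hK : ∀ i', hc k (kernel f) i' c ≤ E) (hQ : ∀ i', hc k (cokernel f) i' c ≤ E) :
    hc k B i c ≤ hc k A i c + 2 * E ∧ hc k A i c ≤ hc k B i c + 2 * E := by
  have : IsLocallyNoetherian X :=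
    LocallyOfFiniteType.isLocallyNoetherian (X ↘ Spec (CommRingCat.of k))
  have : A.IsQuasicoherent := hA.1
  have : B.IsQuasicoherent := hB.1
  have hKc : Coh.IsCoh (kernel f) := Groth.Agent.Lib.H90OXModExact.isCoh_kernel f hA
  have hQc : Coh.IsCoh (cokernel f) := Groth.Agent.Lib.H90OXModExact.isCoh_cokernel f hB
  have hQq : (cokernel f).IsQuasicoherent := hQc.1
  have hI : Coh.IsCoh (Abelian.image f) :=
    Groth.Agent.Lib.H90OXModExact.isCoh_kernel (cokernel.π f) hB
  have hS1 := shortExact_kernel_image f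
  have hS2 := shortExact_image_cokernel f
  have e1 := hc_mid_le k hinv hS1 hKc hA hI i
  have e2 := hc_right_le k hinv hS1 hKc hA hI i
  have e3 := hc_mid_le k hinv hS2 hI hB hQc i
  have e4 : hc k (Abelian.image f) i c ≤ E + hc k B i c := by
    cases i with
    | zero =>
      have := hc_left_zero_le k hinv hS2 hI hB
      change hc k (Abelian.image f) 0 c ≤ hc k B 0 c at this
      omega
    | succ i =>
      have := hc_left_succ_le k hinv hS2 hI hB hQc i
      have := hQ i
      change hc k (Abelian.image f) (i + 1) c ≤ hc k (cokernel f) i c + hc k B (i + 1) c at *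
      omega
  have k1 := hK i
  have k2 := hK (i + 1)
  have q1 := hQ i
  change hc k A i c ≤ hc k (kernel f) i c + hc k (Abelian.image f) i c at e1
  change hc k (Abelian.image f) i c ≤ hc k A i c + hc k (kernel f) (i + 1) c at e2
  change hc k B i c ≤ hc k (Abelian.image f) i c + hc k (cokernel f) i c at e3
  constructor <;> omega

variable [IsIntegral X] {ι : Type*} [Fintype ι] {N : ι → X.Modules}
  (hN : ∀ j, PicF.IsInvertible (N j)) (n : ℕ) (hn : topologicalKrullDim X ≤ (n : WithBot ℕ∞))

include hN hn in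
/-- **Rank estimate.** -/
theorem exists_bound_rank (F : X.Modules) (hF : Coh.IsCoh F) (r : ℕ)
    (hr : Module.finrank (X.presheaf.stalk (genericPoint X)) (F.presheaf.stalk (genericPoint X)) = r) :
    ∃ D : ℕ, ∀ (i m : ℕ) (c : Cls X), Len N m c →
      hc k F i c ≤ r * hc k (Coh.structureModule X) i c + D * g n m ∧
        r * hc k (Coh.structureModule X) i c ≤ hc k F i c + D * g n m := by
  have hNoeth : AlgebraicGeometry.IsNoetherian X :=
    @AlgebraicGeometry.IsNoetherian.mk X
      (LocallyOfFiniteType.isLocallyNoetherian (X ↘ Spec (CommRingCat.of k)))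
      (Groth.Agent.Lib.EulerChar54.compactSpace_of_isProper k X)
  obtain ⟨G, a, b, U, hG, hU, hka, hqa, hkb, hqb⟩ :=
    Groth.Agent.Lib.CohRankModel.exists_generic_model X F hF r hr
  have : G.IsQuasicoherent := hG.1
  have hO : Coh.IsCoh (FlatMod.freeMod X r) :=
    isCoh_pw r (Groth.Agent.Lib.CohFinAmple.isCoh_structureModule X)
  have : F.IsQuasicoherent := hF.1
  have : (FlatMod.freeMod X r).IsQuasicoherent := hO.1
  have cka : Coh.IsCoh (kernel a) := Groth.Agent.Lib.H90OXModExact.isCoh_kernel a hG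
  have cqa : Coh.IsCoh (cokernel a) := Groth.Agent.Lib.H90OXModExact.isCoh_cokernel a hO
  have ckb : Coh.IsCoh (kernel b) := Groth.Agent.Lib.H90OXModExact.isCoh_kernel b hG
  have cqb : Coh.IsCoh (cokernel b) := Groth.Agent.Lib.H90OXModExact.isCoh_cokernel b hF
  obtain ⟨D1, hD1⟩ := exists_bound_hc_lt k hN (kernel a) cka n
    ((dim_support_add_one_le cka U hU hka).trans hn)
  obtain ⟨D2, hD2⟩ := exists_bound_hc_lt k hN (cokernel a) cqa n
    ((dim_support_add_one_le cqa U hU hqa).trans hn)
  obtain ⟨D3, hD3⟩ := exists_bound_hc_lt k hN (kernel b) ckb n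
    ((dim_support_add_one_le ckb U hU hkb).trans hn)
  obtain ⟨D4, hD4⟩ := exists_bound_hc_lt k hN (cokernel b) cqb n
    ((dim_support_add_one_le cqb U hU hqb).trans hn)
  refine ⟨2 * (D1 + D2) + 2 * (D3 + D4), fun i m c hc' => ?_⟩
  have hinv := isInvertible_rep_of_len hN hc'
  obtain ⟨a1, a2⟩ := hc_compare_of_map k hinv a hG hO i ((D1 + D2) * g n m)
    (fun i' => (hD1 i' m c hc').trans (Nat.mul_le_mul_right _ (Nat.le_add_right _ _)))
    (fun i' => (hD2 i' m c hc').trans (Nat.mul_le_mul_right _ (Nat.le_add_left _ _)))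
  obtain ⟨b1, b2⟩ := hc_compare_of_map k hinv b hG hF i ((D3 + D4) * g n m)
    (fun i' => (hD3 i' m c hc').trans (Nat.mul_le_mul_right _ (Nat.le_add_right _ _)))
    (fun i' => (hD4 i' m c hc').trans (Nat.mul_le_mul_right _ (Nat.le_add_left _ _)))
  rw [hc_freeMod k r i hinv] at a1 a2
  have e4 : (2 * (D1 + D2) + 2 * (D3 + D4)) * g n m =
      2 * ((D1 + D2) * g n m) + 2 * ((D3 + D4) * g n m) := by ring
  constructor <;> omega

end Groth.Agent.Lib.CohRankCompare
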