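import Groth.Agent.Lib.LocFreeFP
import Groth.Agent.Lib.SemilocalFree
import Groth.Agent.Lib.CohFinite
import Groth.Agent.Lib.H90OXModFP
import Groth.Agent.Lib.H90InvertibleFP
import Mathlib

/-!
# Vector bundles on Dedekind-like schemes, part A (helper67; campaign K6, layer V2)

Namespace `Groth.Agent.Lib.CurveVB67`.

Setting: `X` an integral, locally Noetherian scheme all of whose local rings are principal ideal rings
(`hpid`; e.g. a regular integral curve).

* `TF F` : the stalks of `F` are torsion-free modules (`Module.IsTorsionFree`).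
* `tf_of_mono`, `tf_of_iso`, `tf_of_isFinLocFree`.
* `isFP_of_isCoh` : coherent ⇒ finitely presented on a locally Noetherian scheme.
* `isFinLocFree_of_tf` : coherent + torsion-free ⇒ finite locally free.
* `rk F` : the generic rank (dimension of the stalk at the generic point over the function field).
* `isFinLocFreeOfRank_rk` : finite locally free ⇒ finite locally free of constant rank `rk F`.
* `isFinLocFreeOfRank_of_tf` : coherent + torsion-free ⇒ locally free of rank `rk F`  (**V2**).
* `eq_rk_of_isFinLocFreeOfRank` : the rank of a locally free module of constant rank is `rk`.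
* `rk_add` : generic ranks add in short exact sequences of coherent modules.
-/

set_option autoImplicit false
universe u
open CategoryTheory CategoryTheory.Limits AlgebraicGeometry

namespace Groth.Agent.Lib.CurveVB67

open Groth.Agent.Lib.ModStalkLin

variable {X : Scheme.{u}}

/-- stalkwise torsion-free -/
def TF (F : X.Modules) : Prop :=
  ∀ x : X, Module.IsTorsionFree (X.presheaf.stalk x) (F.presheaf.stalk x)

theorem tf_of_mono {G E : X.Modules} (i : G ⟶ E) [Mono i] (hE : TF E) : TF G := by
  intro x
  have := hE x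
  exact Function.Injective.moduleIsTorsionFree (stalkLin i x) (stalkLin_injective_of_mono i x)
    (fun r m => map_smul _ r m)

theorem tf_of_iso {G E : X.Modules} (e : G ≅ E) (hE : TF E) : TF G := tf_of_mono e.hom hE

theorem tf_of_isFinLocFree [IsIntegral X] {E : X.Modules} (hE : FlatMod.IsFinLocFree E) : TF E := by
  intro x
  have := Groth.Agent.Lib.LocFreeFP.free_stalk_of_isFinLocFree hE x
  infer_instance

theorem isFinLocFree_of_rank {n : ℕ} {E : X.Modules} (h : FlatMod.IsFinLocFreeOfRank n E) :
    FlatMod.IsFinLocFree E := fun x => by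
  obtain ⟨U, hxU, h'⟩ := h x
  exact ⟨U, _, hxU, h'⟩

theorem isCoh_of_rank {n : ℕ} {E : X.Modules} (h : FlatMod.IsFinLocFreeOfRank n E) : Coh.IsCoh E :=
  Groth.Agent.Lib.H90Invertible.isCoh_of_isFinLocFree (isFinLocFree_of_rank h)

theorem isFP_of_isCoh [IsLocallyNoetherian X] {F : X.Modules} (hF : Coh.IsCoh F) : CohB1.IsFP F := by
  rw [Groth.Agent.Lib.H90OXModFP.isFP_iff_forall_affine]
  refine ⟨hF.1, fun U => ?_⟩
  have : IsNoetherianRing Γ(X, U.1) := IsLocallyNoetherian.component_noetherian U
  have : Module.Finite Γ(X, U.1) Γ(F, U.1) :=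
    Groth.Agent.Lib.CohFinite.finite_sections_of_isCoh F hF U.2
  exact Module.finitePresentation_of_finite _ _

section Dedekind

variable [IsIntegral X] [IsLocallyNoetherian X]
  (hpid : ∀ x : X, IsPrincipalIdealRing (X.presheaf.stalk x))

include hpid in
/-- coherent + torsion-free ⇒ finite locally free -/
theorem isFinLocFree_of_tf {F : X.Modules} (hF : Coh.IsCoh F) (htf : TF F) : FlatMod.IsFinLocFree F := by
  apply Groth.Agent.Lib.LocFreeFP.isFinLocFree_of_isFP_of_free F (isFP_of_isCoh hF)
  intro x
  have := hpid x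
  have := htf x
  have := Groth.Agent.Lib.CohFinite.finite_stalk_of_isCoh F hF x
  infer_instance

end Dedekind

section Rank

variable [IsIntegral X]

/-- the generic rank of a module -/
noncomputable def rk (F : X.Modules) : ℕ :=
  Module.finrank (X.presheaf.stalk (genericPoint X)) (F.presheaf.stalk (genericPoint X))

theorem genericPoint_mem (U : X.Opens) {x : X} (hx : x ∈ U) : genericPoint X ∈ U :=
  ((genericPoint_spec X).specializes (Set.mem_univ x)).mem_open U.2 hx

/-- if `F` is free of rank `n` on a nonempty open, `n = rk F` -/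
theorem rk_eq_of_restrict_iso {F : X.Modules} (U : X.Opens) {x : X} (hx : x ∈ U) {n : ℕ}
    (e : F.restrict U.ι ≅ FlatMod.freeMod U n) : rk F = n :=
  Groth.Agent.Lib.SemilocalFree.finrank_stalk_eq_of_restrict_iso U e ⟨genericPoint X, genericPoint_mem U hx⟩

theorem isFinLocFreeOfRank_rk {F : X.Modules} (h : FlatMod.IsFinLocFree F) :
    FlatMod.IsFinLocFreeOfRank (rk F) F := by
  intro x
  obtain ⟨U, n, hxU, ⟨e⟩⟩ := h x
  rw [rk_eq_of_restrict_iso U hxU e]
  exact ⟨U, hxU, ⟨e⟩⟩

theorem eq_rk_of_isFinLocFreeOfRank {n : ℕ} {F : X.Modules} (h : FlatMod.IsFinLocFreeOfRank n F) :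
    n = rk F := by
  obtain ⟨U, hxU, ⟨e⟩⟩ := h (genericPoint X)
  exact (rk_eq_of_restrict_iso U hxU e).symm

theorem rk_congr {F G : X.Modules} (e : F ≅ G) : rk F = rk G :=
  (stalkLinEquiv e (genericPoint X)).finrank_eq

end Rank

section Dedekind2

variable [IsIntegral X] [IsLocallyNoetherian X]
  (hpid : ∀ x : X, IsPrincipalIdealRing (X.presheaf.stalk x))

include hpid in
/-- **V2**: coherent + torsion-free ⇒ finite locally free of constant rank `rk F`. -/
theorem isFinLocFreeOfRank_of_tf {F : X.Modules} (hF : Coh.IsCoh F) (htf : TF F) :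
    FlatMod.IsFinLocFreeOfRank (rk F) F :=
  isFinLocFreeOfRank_rk (isFinLocFree_of_tf hpid hF htf)

include hpid in
/-- a coherent submodule of a finite locally free module is finite locally free of rank `rk`. -/
theorem isFinLocFreeOfRank_of_mono {G E : X.Modules} (i : G ⟶ E) [Mono i] (hG : Coh.IsCoh G)
    (hE : FlatMod.IsFinLocFree E) : FlatMod.IsFinLocFreeOfRank (rk G) G :=
  isFinLocFreeOfRank_of_tf hpid hG (tf_of_mono i (tf_of_isFinLocFree hE))

end Dedekind2

end Groth.Agent.Lib.CurveVB67
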