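import Groth.Agent.Lib.TFunUnit

set_option autoImplicit false
universe u

namespace Groth.Agent.Lib.TFunAcyclic

open CategoryTheory CategoryTheory.Limits MonoidalCategory CohIII TensorProduct Groth.Agent.Lib.TFun
  Groth.Agent.Lib.TFunUnit

variable {A : Type u} [CommRing A]

theorem up_rel (i : ℤ) : (ComplexShape.up ℤ).Rel i (i + 1) := rfl

/-- If `T_q` preserves epimorphisms and `H_q(P) = 0` then `T_q = 0`. -/
theorem isZero_TFun_obj_of_preservesEpi_of_isZero_homology {ι : Type} {c : ComplexShape ι}
    (P : HomologicalComplex (ModuleCat.{u} A) c) (hP : ∀ i, Module.Flat A (P.X i)) (q : ι)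
    (he : (TFun P q).PreservesEpimorphisms) (hH : IsZero (P.homology q)) (M : ModuleCat.{u} A) :
    IsZero ((TFun P q).obj M) := by
  have hz : IsZero ((TFun P q).obj (ModuleCat.of A A)) := hH.of_iso (TUnitIso P q)
  have : Subsingleton ((TFun P q).obj (ModuleCat.of A A)) := ModuleCat.subsingleton_of_isZero hz
  have e := (isoTensorLeftOfPreservesEpi P q hP he).app M
  have hs : Subsingleton ((tensorLeft ((TFun P q).obj (ModuleCat.of A A))).obj M) := by
    show Subsingleton (((TFun P q).obj (ModuleCat.of A A)) ⊗[A] M)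
    infer_instance
  exact (ModuleCat.isZero_of_subsingleton _).of_iso e.symm

/-- A bounded-above cochain complex of flat modules which is acyclic in degrees `> d` has
`T^i = 0` for all `i > d`. -/
theorem isZero_TFun_obj_of_acyclic_above (P : CochainComplex (ModuleCat.{u} A) ℤ)
    (hP : ∀ i, Module.Flat A (P.X i)) (hb : ∃ b : ℤ, ∀ i, b < i → IsZero (P.X i)) (d : ℤ)
    (hac : ∀ p, d < p → IsZero (P.homology p)) :
    ∀ i, d < i → ∀ M : ModuleCat.{u} A, IsZero ((TFun P i).obj M) := by
  obtain ⟨b, hb⟩ := hb
  have key : ∀ n : ℕ, ∀ i : ℤ, b - n < i → d < i → ∀ M : ModuleCat.{u} A,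
      IsZero ((TFun P i).obj M) := by
    intro n
    induction n with
    | zero =>
      intro i hi _ M
      exact isZero_TFun_obj_of_isZero P i (hb i (by simpa using hi)) M
    | succ n ih =>
      intro i hi hdi M
      have hnext : ∀ M, IsZero ((TFun P (i + 1)).obj M) :=
        ih (i + 1) (by push_cast at hi; omega) (by omega)
      have hm : (TFun P (i + 1)).PreservesMonomorphisms := preservesMono_of_isZero_obj _ hnext
      have he : (TFun P i).PreservesEpimorphisms :=
        (preservesEpi_iff_preservesMono P hP i (i + 1) (up_rel i)).mpr hm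
      exact isZero_TFun_obj_of_preservesEpi_of_isZero_homology P hP i he (hac i hdi) M
  intro i hi M
  exact key ((b - i + 1).toNat) i (by omega) hi M

end Groth.Agent.Lib.TFunAcyclic
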