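import Groth.Agent.Lib.TFunBC
import Mathlib.RingTheory.Spectrum.Prime.FreeLocus

set_option autoImplicit false
universe u

namespace Groth.Agent.Lib.TFunBC

open CategoryTheory CategoryTheory.Limits CohIII TensorProduct Groth.Agent.Lib.TFun

variable {A : Type u} [CommRing A]

theorem flat_atPrime_tensor_iff (C : Type u) [AddCommGroup C] [Module A C] [Module.Finite A C]
    (y : PrimeSpectrum A) :
    Module.Flat (Localization.AtPrime y.asIdeal) (Localization.AtPrime y.asIdeal ⊗[A] C) ↔
      y ∈ Module.freeLocus A C := by
  rw [Module.mem_freeLocus_iff_tensor y (Localization.AtPrime y.asIdeal)]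
  constructor
  · intro h
    exact Module.free_of_flat_of_isLocalRing
  · intro h
    infer_instance

variable {ι : Type} {c : ComplexShape ι} (P : HomologicalComplex (ModuleCat.{u} A) c)

/-- The locus where `T_i` (after localizing) preserves monos is the free locus of `C_i`. -/
theorem preservesMono_locus (hP : ∀ i, Module.Flat A (P.X i)) (i : ι) [Module.Finite A (P.X i)] :
    {y : PrimeSpectrum A | (TFun (bcCx (algebraMap A (Localization.AtPrime y.asIdeal)) P)
      i).PreservesMonomorphisms} = Module.freeLocus A (Copc P i) := by
  ext y
  rw [Set.mem_ofPred_eq, preservesMono_bcCx_iff _ P i hP, flat_atPrime_tensor_iff]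

/-- The locus where `T_i` (after localizing) preserves epis is the free locus of `C_j`. -/
theorem preservesEpi_locus (hP : ∀ i, Module.Flat A (P.X i)) (i j : ι) (hij : c.Rel i j)
    [Module.Finite A (P.X j)] :
    {y : PrimeSpectrum A | (TFun (bcCx (algebraMap A (Localization.AtPrime y.asIdeal)) P)
      i).PreservesEpimorphisms} = Module.freeLocus A (Copc P j) := by
  ext y
  rw [Set.mem_ofPred_eq, preservesEpi_bcCx_iff _ P hP i j hij, flat_atPrime_tensor_iff]

/-- Over a domain, the generic point lies in every free locus. -/
theorem bot_mem_freeLocus [IsDomain A] (C : Type u) [AddCommGroup C] [Module A C] :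
    (⟨⊥, Ideal.isPrime_bot⟩ : PrimeSpectrum A) ∈ Module.freeLocus A C := by
  have : IsFractionRing A (Localization.AtPrime (⊥ : Ideal A)) := by
    simpa [Ideal.primeCompl_bot] using Localization.isLocalization (M := (⊥ : Ideal A).primeCompl)
  let : Field (Localization.AtPrime (⊥ : Ideal A)) := IsFractionRing.toField A
  exact Module.Free.of_divisionRing _ _

end Groth.Agent.Lib.TFunBC
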