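import Groth.Agent.Lib.TFunCompare

set_option autoImplicit false
universe u

/-! Base change for the functors `T_q`: for an `A`-algebra `B`, a complex `P` of `A`-modules and a
`B`-module `N`, the underlying `A`-module of `T^B_q(N) = H_q((B ⊗_A P) ⊗_B N)` is
`T_q(N) = H_q(P ⊗_A N)` (`compareIso`). -/

namespace Groth.Agent.Lib.TFunBaseChange

open CategoryTheory CategoryTheory.Limits MonoidalCategory CohIII TensorProduct
  Groth.Agent.Lib.TFunCompare

section Plain

variable (A B : Type u) [CommRing A] [CommRing B] [Algebra A B]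
  (X : Type u) [AddCommGroup X] [Module A X]
  (N : Type u) [AddCommGroup N] [Module A N] [Module B N] [IsScalarTower A B N]

/-- `(B ⊗_A X) ⊗_B N ≃ X ⊗_A N`, `(b ⊗ x) ⊗ n ↦ x ⊗ b n`. -/
noncomputable def tauPlain : (B ⊗[A] X) ⊗[B] N ≃ₗ[A] X ⊗[A] N :=
  ((TensorProduct.comm B (B ⊗[A] X) N ≪≫ₗ
    AlgebraTensorModule.cancelBaseChange A B B N X).restrictScalars A) ≪≫ₗ TensorProduct.comm A N X

theorem tauPlain_tmul (b : B) (x : X) (n : N) :
    tauPlain A B X N ((b ⊗ₜ[A] x) ⊗ₜ[B] n) = x ⊗ₜ[A] (b • n) := by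
  simp [tauPlain]

end Plain

variable {A : Type u} [CommRing A] (B : Type u) [CommRing B] [Algebra A B]

/-- The `A`-module structure on a `B`-module (same as the one of `RB N`). -/
@[reducible] def modA (N : ModuleCat.{u} B) : Module A N := Module.compHom N (algebraMap A B)

theorem towerA (N : ModuleCat.{u} B) : @IsScalarTower A B N _ _ (modA B N).toSMul :=
  @IsScalarTower.mk A B N _ _ (modA B N).toSMul (fun a b n => by
    show (a • b) • n = algebraMap A B a • b • n
    rw [Algebra.smul_def, mul_smul])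

/-- `RB((B ⊗_A X) ⊗_B N) ≃ X ⊗_A RB(N)`. -/
noncomputable def tauEquiv (X : ModuleCat.{u} A) (N : ModuleCat.{u} B) :
    ((RB (A := A) B).obj ((FB (A := A) B).obj X ⊗ N)) ≃ₗ[A]
      (X ⊗[A] ((RB (A := A) B).obj N)) :=
  letI : Module A N := modA B N
  haveI : IsScalarTower A B N := towerA B N
  AddEquiv.toLinearEquiv
    ((TensorProduct.congr (Groth.Agent.Lib.TildePullback.extendScalarsEquiv A B X)
        (LinearEquiv.refl B N)).toAddEquiv.trans
      (tauPlain A B X N).toAddEquiv) (by
    intro a z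
    change (tauPlain A B X N) ((TensorProduct.congr
      (Groth.Agent.Lib.TildePullback.extendScalarsEquiv A B X) (LinearEquiv.refl B N))
        (algebraMap A B a • (show ((FB (A := A) B).obj X ⊗ N : ModuleCat.{u} B) from z))) =
      a • (tauPlain A B X N) ((TensorProduct.congr
      (Groth.Agent.Lib.TildePullback.extendScalarsEquiv A B X) (LinearEquiv.refl B N)) z)
    rw [map_smul, algebraMap_smul, map_smul])

theorem tauEquiv_tmul (X : ModuleCat.{u} A) (N : ModuleCat.{u} B) (b : B) (x : X) (n : N) :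
    tauEquiv B X N (((b ⊗ₜ[A] x : (FB (A := A) B).obj X) ⊗ₜ[B] n :
      ((FB (A := A) B).obj X ⊗ N : ModuleCat.{u} B))) =
      x ⊗ₜ[A] (show (RB (A := A) B).obj N from b • n) := by
  let _ : Module A N := modA B N
  have _ : IsScalarTower A B N := towerA B N
  exact tauPlain_tmul A B X N b x n

theorem tauEquiv_symm_tmul (X : ModuleCat.{u} A) (N : ModuleCat.{u} B) (x : X) (n : N) :
    (tauEquiv B X N).symm (x ⊗ₜ[A] (show (RB (A := A) B).obj N from n)) =
      (((1 : B) ⊗ₜ[A] x : (FB (A := A) B).obj X) ⊗ₜ[B] n :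
      ((FB (A := A) B).obj X ⊗ N : ModuleCat.{u} B)) := by
  rw [LinearEquiv.symm_apply_eq, tauEquiv_tmul, one_smul]

theorem tauEquiv_natural_aux {X Y : ModuleCat.{u} A} (N : ModuleCat.{u} B) (d : X ⟶ Y)
    (w : X ⊗[A] ((RB (A := A) B).obj N)) :
    tauEquiv B Y N (((RB (A := A) B).map (((FB (A := A) B).map d) ▷ N)).hom
      ((tauEquiv B X N).symm w)) = LinearMap.rTensor _ d.hom w := by
  induction w using TensorProduct.induction_on with
  | zero => simp only [map_zero]
  | tmul x n =>
    rw [tauEquiv_symm_tmul]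
    exact tauEquiv_tmul B Y N 1 (d.hom x) n |>.trans (by rw [one_smul]; rfl)
  | add w₁ w₂ h₁ h₂ => rw [map_add, map_add, map_add, map_add, h₁, h₂]

theorem tauEquiv_natural {X Y : ModuleCat.{u} A} (N : ModuleCat.{u} B) (d : X ⟶ Y)
    (z : (RB (A := A) B).obj ((FB (A := A) B).obj X ⊗ N)) :
    tauEquiv B Y N (((RB (A := A) B).map (((FB (A := A) B).map d) ▷ N)).hom z) =
      LinearMap.rTensor _ d.hom (tauEquiv B X N z) := by
  have h := tauEquiv_natural_aux B N d (tauEquiv B X N z)
  rw [LinearEquiv.symm_apply_apply] at h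
  exact h

/-- `τ` as an isomorphism in `ModuleCat A`. -/
noncomputable def tau (X : ModuleCat.{u} A) (N : ModuleCat.{u} B) :
    (RB (A := A) B).obj ((tensorRight N).obj ((FB (A := A) B).obj X)) ≅
      (tensorRight ((RB (A := A) B).obj N)).obj X :=
  (tauEquiv B X N).toModuleIso

theorem tau_naturality {X Y : ModuleCat.{u} A} (N : ModuleCat.{u} B) (d : X ⟶ Y) :
    (RB (A := A) B).map ((tensorRight N).map ((FB (A := A) B).map d)) ≫ (tau B Y N).hom =
      (tau B X N).hom ≫ (tensorRight ((RB (A := A) B).obj N)).map d := by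
  ext z
  exact tauEquiv_natural B N d z

section homology

variable {ι : Type} {c : ComplexShape ι} (P : HomologicalComplex (ModuleCat.{u} A) c) (q : ι)

/-- Termwise `τ` gives an isomorphism of short complexes. -/
noncomputable def scIso (N : ModuleCat.{u} B) :
    ((tensorObj (bcCx (algebraMap A B) P) N).sc q).map (RB (A := A) B) ≅
      (tensorObj P ((RB (A := A) B).obj N)).sc q :=
  ShortComplex.isoMk (tau B _ N) (tau B _ N) (tau B _ N)
    (tau_naturality B N _).symm (tau_naturality B N _).symm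

/-- Base change for `T`: the underlying `A`-module of `T^B_q(N)` is `T_q(N)`. -/
noncomputable def compareIso (N : ModuleCat.{u} B) :
    (RB (A := A) B).obj ((TFun (bcCx (algebraMap A B) P) q).obj N) ≅
      (TFun P q).obj ((RB (A := A) B).obj N) :=
  (((tensorObj (bcCx (algebraMap A B) P) N).sc q).mapHomologyIso (RB (A := A) B)).symm ≪≫
    ShortComplex.homologyMapIso (scIso B P q N)

end homology

end Groth.Agent.Lib.TFunBaseChange
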