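import Mathlib.RingTheory.LocalRing.ResidueField.Ideal
import Mathlib.LinearAlgebra.Dimension.Finrank
import Mathlib.LinearAlgebra.Dimension.Free

set_option autoImplicit false
universe u

namespace Groth.Agent.Lib.SemilinearFinrank

variable {A : Type*} [CommRing A] {κ : Type*} [Field κ] [Algebra A κ]

/-- An additive equivalence between `κ`-vector spaces commuting with the action of the image of
`A → κ` is `κ`-linear, as soon as every element of `κ` is a fraction of elements of `A`. -/
noncomputable def linearEquivOfAddEquiv
    (hκ : ∀ c : κ, ∃ a s : A, algebraMap A κ s ≠ 0 ∧ algebraMap A κ s * c = algebraMap A κ a)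
    {V W : Type*} [AddCommGroup V] [AddCommGroup W] [Module κ V] [Module κ W] (f : V ≃+ W)
    (hf : ∀ (a : A) (v : V), f (algebraMap A κ a • v) = algebraMap A κ a • f v) : V ≃ₗ[κ] W :=
  { f with
    map_smul' := by
      intro c v
      obtain ⟨a, s, hs, hsc⟩ := hκ c
      have h1 : algebraMap A κ s • f (c • v) = algebraMap A κ s • (c • f v) := by
        rw [← hf, smul_smul, hsc, hf, ← hsc, mul_smul]
      exact smul_right_injective W hs h1 }

theorem finrank_eq_of_addEquiv
    (hκ : ∀ c : κ, ∃ a s : A, algebraMap A κ s ≠ 0 ∧ algebraMap A κ s * c = algebraMap A κ a)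
    {V W : Type*} [AddCommGroup V] [AddCommGroup W] [Module κ V] [Module κ W] (f : V ≃+ W)
    (hf : ∀ (a : A) (v : V), f (algebraMap A κ a • v) = algebraMap A κ a • f v) :
    Module.finrank κ V = Module.finrank κ W :=
  (linearEquivOfAddEquiv hκ f hf).finrank_eq

/-- Every element of the residue field `κ(p)` is a fraction of elements of `A`. -/
theorem residueField_fraction {A : Type*} [CommRing A] (p : Ideal A) [p.IsPrime]
    (c : p.ResidueField) :
    ∃ a s : A, algebraMap A p.ResidueField s ≠ 0 ∧
      algebraMap A p.ResidueField s * c = algebraMap A p.ResidueField a := by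
  obtain ⟨x, rfl⟩ := IsLocalRing.residue_surjective (R := Localization.AtPrime p) c
  obtain ⟨a, s, rfl⟩ := IsLocalization.exists_mk'_eq p.primeCompl x
  refine ⟨a, s, ?_, ?_⟩
  · rw [Ne, Ideal.algebraMap_residueField_eq_zero]
    exact s.2
  · rw [IsScalarTower.algebraMap_apply A (Localization.AtPrime p) p.ResidueField,
      IsScalarTower.algebraMap_apply A (Localization.AtPrime p) p.ResidueField a]
    change IsLocalRing.residue _ _ * IsLocalRing.residue _ _ = IsLocalRing.residue _ _
    rw [← map_mul, mul_comm, IsLocalization.mk'_spec]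

end Groth.Agent.Lib.SemilinearFinrank
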