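import Groth.Prelude.Def_ega3
import Groth.Agent.Lib.TildePullback
import Groth.Agent.Lib.Fitting82F
import Mathlib.Algebra.Homology.ShortComplex.ModuleCat
import Mathlib.LinearAlgebra.Dimension.Finite
import Mathlib.LinearAlgebra.FiniteDimensional.Lemmas
import Mathlib.Topology.Semicontinuity.Basic
import Mathlib.RingTheory.Spectrum.Prime.FreeLocus

set_option autoImplicit false
universe u

namespace Groth.Agent.Lib.TFunRank

open CategoryTheory CategoryTheory.Limits CohIII TensorProduct

section field

variable {κ : Type u} [Field κ]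

/-- Dimension count for the homology of a short complex of finite-dimensional vector spaces. -/
theorem finrank_homology_add (S : ShortComplex (ModuleCat.{u} κ)) [FiniteDimensional κ S.X₂] :
    Module.finrank κ S.homology + Module.finrank κ (LinearMap.range S.f.hom) +
      Module.finrank κ (LinearMap.range S.g.hom) = Module.finrank κ S.X₂ := by
  have e : S.homology ≃ₗ[κ] (LinearMap.ker S.g.hom ⧸ LinearMap.range S.moduleCatToCycles) :=
    S.moduleCatHomologyIso.toLinearEquiv
  rw [e.finrank_eq]
  have h1 := Submodule.finrank_quotient_add_finrank (LinearMap.range S.moduleCatToCycles)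
  have hcomp : (LinearMap.ker S.g.hom).subtype ∘ₗ S.moduleCatToCycles = S.f.hom := by
    ext x
    rfl
  have h2 : Module.finrank κ (LinearMap.range S.moduleCatToCycles) =
      Module.finrank κ (LinearMap.range S.f.hom) := by
    have e2 := Submodule.equivMapOfInjective (LinearMap.ker S.g.hom).subtype
      (Submodule.subtype_injective _) (LinearMap.range S.moduleCatToCycles)
    rw [e2.finrank_eq, ← LinearMap.range_comp, hcomp]
  have h3 := LinearMap.finrank_range_add_finrank_ker S.g.hom
  omega

end field

section ext

variable {A : Type u} [CommRing A] (κ : Type u) [Field κ] [Algebra A κ]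

/-- Extension of scalars to a field, as a functor. -/
noncomputable abbrev F : ModuleCat.{u} A ⥤ ModuleCat.{u} κ :=
  ModuleCat.extendScalars (algebraMap A κ)

theorem finrank_F_obj (N : ModuleCat.{u} A) :
    Module.finrank κ ((F κ).obj N) = Module.finrank κ (κ ⊗[A] N) :=
  (Groth.Agent.Lib.TildePullback.extendScalarsEquiv A κ N).finrank_eq

theorem finite_F_obj (N : ModuleCat.{u} A) [Module.Finite A N] :
    Module.Finite κ ((F κ).obj N) :=
  Module.Finite.equiv (Groth.Agent.Lib.TildePullback.extendScalarsEquiv A κ N).symm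

/-- Rank-nullity for the cokernel of a base-changed map. -/
theorem finrank_F_coker_add {X Y : ModuleCat.{u} A} (d : X ⟶ Y) [Module.Finite A Y] :
    Module.finrank κ ((F κ).obj (ModuleCat.of A (Y ⧸ LinearMap.range d.hom))) +
      Module.finrank κ (LinearMap.range ((F κ).map d).hom) =
    Module.finrank κ ((F κ).obj Y) := by
  let q : Y ⟶ ModuleCat.of A (Y ⧸ LinearMap.range d.hom) :=
    ModuleCat.ofHom (LinearMap.range d.hom).mkQ
  have hzero : d ≫ q = 0 := by
    ext x
    exact (Submodule.Quotient.mk_eq_zero _).mpr ⟨x, rfl⟩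
  let T : ShortComplex (ModuleCat.{u} A) := ShortComplex.mk d q hzero
  have hT : T.Exact := by
    rw [ShortComplex.ShortExact.moduleCat_exact_iff_function_exact]
    exact LinearMap.exact_map_mkQ_range d.hom
  have hepi : Epi T.g := (ModuleCat.epi_iff_surjective _).mpr (Submodule.mkQ_surjective _)
  have hpres : PreservesColimitsOfSize.{0, 0} (F (A := A) κ) :=
    (ModuleCat.extendRestrictScalarsAdj (algebraMap A κ)).leftAdjoint_preservesColimits
  have hTF : (T.map (F κ)).Exact :=
    hT.map_of_epi_of_preservesCokernel (F κ) hepi inferInstance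
  have hepi' : Epi ((F κ).map q) := by
    have : (F (A := A) κ).IsLeftAdjoint :=
      (ModuleCat.extendRestrictScalarsAdj.{u, u, u} (algebraMap A κ)).isLeftAdjoint
    exact (F κ).map_epi q
  have hex : Function.Exact ((F κ).map d).hom ((F κ).map q).hom :=
    (ShortComplex.ShortExact.moduleCat_exact_iff_function_exact _).mp hTF
  have hsurj : Function.Surjective ((F κ).map q).hom := (ModuleCat.epi_iff_surjective _).mp hepi'
  have := finite_F_obj κ Y
  have h3 := LinearMap.finrank_range_add_finrank_ker ((F κ).map q).hom
  rw [LinearMap.range_eq_top.mpr hsurj, finrank_top, hex.linearMap_ker_eq] at h3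
  exact h3

end ext

section dRank

variable {A : Type u} [CommRing A] {ι : Type} {c : ComplexShape ι}
variable (P : HomologicalComplex (ModuleCat.{u} A) c) (p : ι)

/-- `d_p(x) + rk P_{next p}(x) = dim C_p(x) + dim C_{next p}(x)` where `C_i = coker(d → P_i)`. -/
theorem dRank_add (x : PrimeSpectrum A) [Module.Finite A (P.X p)]
    [Module.Finite A (P.X (c.next p))] :
    dRank P p x + Module.finrank x.asIdeal.ResidueField
        (x.asIdeal.ResidueField ⊗[A] P.X (c.next p)) =
      Module.finrank x.asIdeal.ResidueField
        (x.asIdeal.ResidueField ⊗[A] (P.X p ⧸ LinearMap.range (P.d (c.prev p) p).hom)) +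
      Module.finrank x.asIdeal.ResidueField
        (x.asIdeal.ResidueField ⊗[A]
          (P.X (c.next p) ⧸ LinearMap.range (P.d p (c.next p)).hom)) := by
  let κ := x.asIdeal.ResidueField
  let S : ShortComplex (ModuleCat.{u} κ) := (bcCx (algebraMap A κ) P).sc p
  have hfin : Module.Finite κ S.X₂ := finite_F_obj κ (P.X p)
  have h1 : dRank P p x + Module.finrank κ (LinearMap.range S.f.hom) +
      Module.finrank κ (LinearMap.range S.g.hom) = Module.finrank κ S.X₂ :=
    finrank_homology_add S
  have h2 := finrank_F_coker_add κ (P.d (c.prev p) p)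
  have h3 := finrank_F_coker_add κ (P.d p (c.next p))
  have e1 := finrank_F_obj κ (ModuleCat.of A (P.X p ⧸ LinearMap.range (P.d (c.prev p) p).hom))
  have e2 := finrank_F_obj κ
    (ModuleCat.of A (P.X (c.next p) ⧸ LinearMap.range (P.d p (c.next p)).hom))
  have e3 := finrank_F_obj κ (P.X (c.next p))
  have hf : Module.finrank κ (LinearMap.range S.f.hom) =
      Module.finrank κ (LinearMap.range ((F κ).map (P.d (c.prev p) p)).hom) := rfl
  have hg : Module.finrank κ (LinearMap.range S.g.hom) =
      Module.finrank κ (LinearMap.range ((F κ).map (P.d p (c.next p))).hom) := rfl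
  have hX : Module.finrank κ S.X₂ = Module.finrank κ ((F κ).obj (P.X p)) := rfl
  change dRank P p x + Module.finrank κ (κ ⊗[A] P.X (c.next p)) =
    Module.finrank κ (κ ⊗[A] (P.X p ⧸ LinearMap.range (P.d (c.prev p) p).hom)) +
    Module.finrank κ (κ ⊗[A] (P.X (c.next p) ⧸ LinearMap.range (P.d p (c.next p)).hom))
  have e1' : Module.finrank κ (κ ⊗[A] (P.X p ⧸ LinearMap.range (P.d (c.prev p) p).hom)) =
      Module.finrank κ ((F κ).obj
        (ModuleCat.of A (P.X p ⧸ LinearMap.range (P.d (c.prev p) p).hom))) := e1.symm
  have e2' : Module.finrank κ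
      (κ ⊗[A] (P.X (c.next p) ⧸ LinearMap.range (P.d p (c.next p)).hom)) =
      Module.finrank κ ((F κ).obj
        (ModuleCat.of A (P.X (c.next p) ⧸ LinearMap.range (P.d p (c.next p)).hom))) := e2.symm
  have e3' : Module.finrank κ (κ ⊗[A] P.X (c.next p)) =
      Module.finrank κ ((F κ).obj (P.X (c.next p))) := e3.symm
  rw [e1', e2', e3']
  omega

end dRank

section usc

variable {A : Type u} [CommRing A]

/-- Fibre dimension of a module at a point of `Spec A`. -/
noncomputable def fibRank (N : Type u) [AddCommGroup N] [Module A N] (x : PrimeSpectrum A) : ℕ :=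
  Module.finrank x.asIdeal.ResidueField (x.asIdeal.ResidueField ⊗[A] N)

/-- The fibre dimension of a finite module is upper semicontinuous (via Fitting ideals). -/
theorem upperSemicontinuous_fibRank (N : Type u) [AddCommGroup N] [Module A N]
    [Module.Finite A N] : UpperSemicontinuous (fibRank (A := A) N) := by
  rw [upperSemicontinuous_iff_isOpen_preimage]
  intro y
  cases y with
  | zero =>
    have : fibRank (A := A) N ⁻¹' Set.Iio 0 = ∅ := by
      ext x
      simp
    rw [this]
    exact isOpen_empty
  | succ k =>
    have : fibRank (A := A) N ⁻¹' Set.Iio (k + 1) =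
        (PrimeSpectrum.zeroLocus (Fitt.ideal A N k : Set A))ᶜ := by
      ext x
      simp only [Set.mem_preimage, Set.mem_Iio, Set.mem_compl_iff, PrimeSpectrum.mem_zeroLocus,
        SetLike.coe_subset_coe]
      rw [Nat.lt_succ_iff]
      exact (Groth.Agent.Lib.Fitting82.not_le_iff_finrank_le k x.asIdeal).symm
    rw [this]
    exact (PrimeSpectrum.isClosed_zeroLocus _).isOpen_compl

/-- The fibre dimension of a finite flat finitely presented module is locally constant. -/
theorem isLocallyConstant_fibRank (N : Type u) [AddCommGroup N] [Module A N]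
    [Module.FinitePresentation A N] [Module.Flat A N] :
    IsLocallyConstant (fibRank (A := A) N) := by
  have h : fibRank (A := A) N = Module.rankAtStalk (R := A) N := by
    funext x
    exact (Module.rankAtStalk_eq x).symm
  rw [h]
  exact Module.isLocallyConstant_rankAtStalk

theorem upperSemicontinuous_of_add_eq {X : Type*} [TopologicalSpace X] (f a b r : X → ℕ)
    (h : ∀ x, f x + r x = a x + b x) (ha : UpperSemicontinuous a) (hb : UpperSemicontinuous b)
    (hr : IsLocallyConstant r) : UpperSemicontinuous f := by
  intro x₀ y hy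
  have h1 : ∀ᶠ x in nhds x₀, a x < a x₀ + 1 := ha x₀ (a x₀ + 1) (Nat.lt_succ_self _)
  have h2 : ∀ᶠ x in nhds x₀, b x < b x₀ + 1 := hb x₀ _ (Nat.lt_succ_self _)
  have h3 : ∀ᶠ x in nhds x₀, r x = r x₀ := hr.eventually_eq x₀
  filter_upwards [h1, h2, h3] with x hx1 hx2 hx3
  have := h x
  have := h x₀
  omega

/-- Upper semicontinuity of `x ↦ dim H_p(P ⊗ κ(x))`. -/
theorem upperSemicontinuous_dRank {ι : Type} {c : ComplexShape ι}
    (P : HomologicalComplex (ModuleCat.{u} A) c) (p : ι) [Module.Finite A (P.X p)]
    [Module.FinitePresentation A (P.X (c.next p))] [Module.Flat A (P.X (c.next p))] :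
    UpperSemicontinuous (dRank P p) :=
  upperSemicontinuous_of_add_eq (dRank P p)
    (fibRank (P.X p ⧸ LinearMap.range (P.d (c.prev p) p).hom))
    (fibRank (P.X (c.next p) ⧸ LinearMap.range (P.d p (c.next p)).hom))
    (fibRank (P.X (c.next p)))
    (fun x => dRank_add P p x)
    (upperSemicontinuous_fibRank _) (upperSemicontinuous_fibRank _)
    (isLocallyConstant_fibRank _)

end usc

end Groth.Agent.Lib.TFunRank
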