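import Groth.Agent.Lib.TFunCompare
import Groth.Agent.Lib.SemilinearFinrank
import Groth.Agent.Lib.TFunRank

set_option autoImplicit false
universe u

namespace Groth.Agent.Lib.TFunCompare

open CategoryTheory CategoryTheory.Limits MonoidalCategory CohIII TensorProduct
open Groth.Agent.Lib.TFun Groth.Agent.Lib.TFunRank

variable {A : Type u} [CommRing A] {ι : Type} {c : ComplexShape ι}
variable (P : HomologicalComplex (ModuleCat.{u} A) c) (q : ι)

/-- If `T_q` is right exact, then `d_q(x) = dim κ(x) ⊗ T_q(A)`. -/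
theorem dRank_eq_fibRank_of_preservesEpi (hP : ∀ i, Module.Flat A (P.X i))
    (he : (TFun P q).PreservesEpimorphisms) (x : PrimeSpectrum A) :
    dRank P q x = fibRank ((TFun P q).obj (ModuleCat.of A A)) x := by
  let κ := x.asIdeal.ResidueField
  let e1 : (RB (A := A) κ).obj ((bcCx (algebraMap A κ) P).homology q) ≃ₗ[A]
      (TFun P q).obj (ModuleCat.of A κ) := (homologyCompare κ P q).toLinearEquiv
  let e2 : (TFun P q).obj (ModuleCat.of A κ) ≃ₗ[A]
      ((TFun P q).obj (ModuleCat.of A A) ⊗[A] κ) :=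
    ((isoTensorLeftOfPreservesEpi P q hP he).app (ModuleCat.of A κ)).toLinearEquiv.symm
  let e3 : ((TFun P q).obj (ModuleCat.of A A) ⊗[A] κ) ≃ₗ[A]
      (κ ⊗[A] (TFun P q).obj (ModuleCat.of A A)) := TensorProduct.comm A _ _
  let f : ((bcCx (algebraMap A κ) P).homology q) ≃+
      (κ ⊗[A] (TFun P q).obj (ModuleCat.of A A)) := (e1 ≪≫ₗ e2 ≪≫ₗ e3).toAddEquiv
  refine Groth.Agent.Lib.SemilinearFinrank.finrank_eq_of_addEquiv (A := A) (κ := κ)
    (Groth.Agent.Lib.SemilinearFinrank.residueField_fraction x.asIdeal) f ?_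
  intro a v
  have h1 : f (algebraMap A κ a • v) = a • f v :=
    (e1 ≪≫ₗ e2 ≪≫ₗ e3).map_smul a v
  rw [h1, algebraMap_smul]

end Groth.Agent.Lib.TFunCompare
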