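import Mathlib.Algebra.Category.ModuleCat.Monoidal.Closed
import Mathlib.Algebra.Category.ModuleCat.Colimits
import Mathlib.Algebra.Category.ModuleCat.Abelian
import Mathlib.CategoryTheory.Linear.LinearFunctor
import Mathlib.CategoryTheory.Limits.Preserves.Shapes.Products
import Mathlib.CategoryTheory.Abelian.Exact
import Mathlib.Algebra.Homology.ShortComplex.ModuleCat
import Mathlib.Algebra.Homology.ShortComplex.ExactFunctor
import Mathlib.LinearAlgebra.TensorProduct.Basis
import Mathlib.LinearAlgebra.TensorProduct.RightExactness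
import Mathlib.LinearAlgebra.FreeModule.Basic

set_option autoImplicit false
universe u

namespace Groth.Agent.Lib.EW

open CategoryTheory CategoryTheory.Limits MonoidalCategory TensorProduct

variable {A : Type u} [CommRing A]

/-- `θ_x : A ⟶ M`, `a ↦ a • x`. -/
noncomputable def theta {M : ModuleCat.{u} A} (x : M) : ModuleCat.of A A ⟶ M :=
  ModuleCat.ofHom (LinearMap.toSpanSingleton A M x)

@[simp]
theorem theta_apply {M : ModuleCat.{u} A} (x : M) (a : A) : (theta x).hom a = a • x := rfl

theorem theta_comp {M N : ModuleCat.{u} A} (x : M) (g : M ⟶ N) : theta x ≫ g = theta (g.hom x) := by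
  ext
  simp [theta]

variable (T : ModuleCat.{u} A ⥤ ModuleCat.{u} A) [T.Additive] [T.Linear A]

/-- The canonical map `t_M : T(A) ⊗ M → T(M)`, `y ⊗ x ↦ T(θ_x)(y)`. -/
noncomputable abbrev tM (M : ModuleCat.{u} A) :
    TensorProduct A (T.obj (ModuleCat.of A A)) M →ₗ[A] T.obj M :=
  TensorProduct.lift (LinearMap.flip
    ((ModuleCat.homLinearEquiv (S := A)).toLinearMap ∘ₗ Functor.mapLinearMap A T ∘ₗ
      (ModuleCat.homLinearEquiv (S := A)).symm.toLinearMap ∘ₗ
        (LinearMap.ringLmapEquivSelf A A M).symm.toLinearMap))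

theorem tM_tmul (M : ModuleCat.{u} A) (y : T.obj (ModuleCat.of A A)) (x : M) :
    tM T M (y ⊗ₜ x) = (T.map (theta x)).hom y := by
  simp only [tM, TensorProduct.lift.tmul, LinearMap.flip_apply]
  rfl

theorem tM_natural {M N : ModuleCat.{u} A} (g : M ⟶ N) :
    (T.map g).hom ∘ₗ tM T M = tM T N ∘ₗ LinearMap.lTensor _ g.hom := by
  apply TensorProduct.ext'
  intro y x
  simp only [LinearMap.coe_comp, Function.comp_apply, LinearMap.lTensor_tmul]
  rw [tM_tmul, tM_tmul, ← theta_comp, Functor.map_comp]
  rfl

theorem tM_natural_apply {M N : ModuleCat.{u} A} (g : M ⟶ N)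
    (z : TensorProduct A (T.obj (ModuleCat.of A A)) M) :
    (T.map g).hom (tM T M z) = tM T N (LinearMap.lTensor _ g.hom z) :=
  LinearMap.congr_fun (tM_natural T g) z

/-- If all `t_M` are bijective, `T` is isomorphic to `T(A) ⊗ -`. -/
noncomputable def isoTensorLeft (h : ∀ M : ModuleCat.{u} A, Function.Bijective (tM T M)) :
    tensorLeft (T.obj (ModuleCat.of A A)) ≅ T :=
  NatIso.ofComponents (fun M => (LinearEquiv.ofBijective (tM T M) (h M)).toModuleIso) (by
    intro M N g
    ext z
    exact (tM_natural_apply T g z).symm)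

/-- If `T` sends an exact sequence `L₁ → L₀ → M → 0` to an exact sequence, and `t` is bijective
on `L₀` and surjective on `L₁`, then `t_M` is bijective. -/
theorem tM_bijective_of_presentation {L₁ L₀ M : ModuleCat.{u} A} (g : L₁ ⟶ L₀) (π : L₀ ⟶ M)
    (hex : Function.Exact g.hom π.hom) (hπ : Function.Surjective π.hom)
    (hTex : Function.Exact (T.map g).hom (T.map π).hom) (hTπ : Function.Surjective (T.map π).hom)
    (h₀ : Function.Bijective (tM T L₀)) (h₁ : Function.Surjective (tM T L₁)) :
    Function.Bijective (tM T M) := by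
  have hlex : Function.Exact (LinearMap.lTensor (T.obj (ModuleCat.of A A)) g.hom)
      (LinearMap.lTensor (T.obj (ModuleCat.of A A)) π.hom) := lTensor_exact _ hex hπ
  have hlsurj : Function.Surjective (LinearMap.lTensor (T.obj (ModuleCat.of A A)) π.hom) :=
    LinearMap.lTensor_surjective _ hπ
  constructor
  · rw [injective_iff_map_eq_zero]
    intro u hu
    obtain ⟨v, rfl⟩ := hlsurj u
    rw [← tM_natural_apply] at hu
    obtain ⟨w, hw⟩ := (hTex _).mp hu
    obtain ⟨v', rfl⟩ := h₁ w
    rw [tM_natural_apply] at hw
    have hv : LinearMap.lTensor _ g.hom v' = v := h₀.1 hw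
    rw [← hv]
    exact hlex.apply_apply_eq_zero v'
  · intro z
    obtain ⟨w, rfl⟩ := hTπ z
    obtain ⟨u, rfl⟩ := h₀.2 w
    exact ⟨_, (tM_natural_apply T π u).symm⟩

/-- Right exact + `t` bijective on free modules implies `t` bijective on all modules. -/
theorem tM_bijective_of_free [PreservesFiniteColimits T]
    (hfree : ∀ L : ModuleCat.{u} A, Module.Free A L → Function.Bijective (tM T L))
    (M : ModuleCat.{u} A) : Function.Bijective (tM T M) := by
  let π : (M →₀ A) →ₗ[A] M := Finsupp.linearCombination A id
  have hπ : Function.Surjective π := Finsupp.linearCombination_id_surjective A M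
  let K := LinearMap.ker π
  let g : (K →₀ A) →ₗ[A] (M →₀ A) := K.subtype ∘ₗ Finsupp.linearCombination A id
  have hg : LinearMap.range g = K := by
    rw [LinearMap.range_comp, LinearMap.range_eq_top.mpr
      (Finsupp.linearCombination_id_surjective A K), Submodule.map_top, Submodule.range_subtype]
  have hex : Function.Exact g π := by
    rw [LinearMap.exact_iff, hg]
  let S : ShortComplex (ModuleCat.{u} A) :=
    ShortComplex.mk (ModuleCat.ofHom g) (ModuleCat.ofHom π) (by
      apply ModuleCat.hom_ext
      apply LinearMap.ext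
      intro x
      exact hex.apply_apply_eq_zero x)
  have hS : S.Exact := ModuleCat.shortComplex_exact S hex
  have hepi : Epi S.g := (ModuleCat.epi_iff_surjective _).mpr hπ
  have htfae : PreservesFiniteColimits T → ∀ (S : ShortComplex (ModuleCat.{u} A)),
      S.Exact ∧ Epi S.g → (S.map T).Exact ∧ Epi (T.map S.g) :=
    ((Functor.preservesFiniteColimits_tfae T).out 3 1).mp
  obtain ⟨hTS, hTepi⟩ := htfae ‹_› S ⟨hS, hepi⟩
  refine tM_bijective_of_presentation T S.f S.g hex hπ
    ((ShortComplex.ShortExact.moduleCat_exact_iff_function_exact (S.map T)).mp hTS)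
    ((ModuleCat.epi_iff_surjective _).mp hTepi)
    (hfree _ (by change Module.Free A (M →₀ A); infer_instance))
    (hfree _ (by change Module.Free A (K →₀ A); infer_instance)).2

section Free

variable {ι : Type u} {L : ModuleCat.{u} A} (b : Module.Basis ι A L)

/-- A free module with basis `b` is the coproduct of copies of `A` along `θ_{b i}`. -/
noncomputable def isColimitBasisCofan :
    IsColimit (Cofan.mk L (fun i : ι => theta (b i)) : Cofan fun _ : ι => ModuleCat.of A A) :=
  Cofan.IsColimit.mk _
    (fun t => ModuleCat.ofHom (b.constr A (fun i => (t.inj i).hom (1 : A))))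
    (by
      intro t i
      apply ModuleCat.hom_ext
      apply LinearMap.ext_ring
      simp [theta])
    (by
      intro t m hm
      apply ModuleCat.hom_ext
      apply b.ext
      intro i
      have := congrArg (fun f => f.hom (1 : A)) (hm i)
      simpa [theta] using this)

include b in
/-- If `T` preserves the coproduct of `ι` copies of `A`, then `t_L` is bijective for `L` free
with basis indexed by `ι`. -/
theorem tM_bijective_of_basis
    [PreservesColimit (Discrete.functor fun _ : ι => ModuleCat.of A A) T] :
    Function.Bijective (tM T L) := by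
  classical
  have hT : IsColimit (Cofan.mk (T.obj L) fun i : ι => T.map (theta (b i)) :
      Cofan fun _ : ι => T.obj (ModuleCat.of A A)) :=
    isColimitCofanMkObjOfIsColimit T _ _ (isColimitBasisCofan b)
  -- the sum map `φ : (ι →₀ T(A)) → T(L)`
  let φ : (ι →₀ T.obj (ModuleCat.of A A)) →ₗ[A] T.obj L :=
    Finsupp.lsum A (fun i => (T.map (theta (b i))).hom)
  let c₂ : Cofan fun _ : ι => T.obj (ModuleCat.of A A) :=
    Cofan.mk (ModuleCat.of A (ι →₀ T.obj (ModuleCat.of A A)))
      (fun i => ModuleCat.ofHom (Finsupp.lsingle i))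
  let ψ : T.obj L ⟶ ModuleCat.of A (ι →₀ T.obj (ModuleCat.of A A)) := Cofan.IsColimit.desc hT c₂.inj
  have hψ : ∀ i, T.map (theta (b i)) ≫ ψ = ModuleCat.ofHom (Finsupp.lsingle i) := fun i =>
    Cofan.IsColimit.fac hT c₂.inj i
  have h1 : ψ.hom ∘ₗ φ = LinearMap.id := by
    apply Finsupp.lhom_ext'
    intro i
    apply LinearMap.ext
    intro y
    have := congrArg (fun f => f.hom y) (hψ i)
    simpa [φ] using this
  have h2 : ψ ≫ ModuleCat.ofHom φ = 𝟙 _ := by
    apply Cofan.IsColimit.hom_ext hT
    intro i
    rw [← Category.assoc]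
    erw [hψ i]
    apply ModuleCat.hom_ext
    apply LinearMap.ext
    intro y
    simp [φ]
  have hφ : Function.Bijective φ := by
    constructor
    · intro x y hxy
      have := congrArg ψ.hom hxy
      have e := LinearMap.congr_fun h1
      have ex := e x
      have ey := e y
      simp only [LinearMap.coe_comp, Function.comp_apply, LinearMap.id_coe, id_eq] at ex ey
      rw [ex, ey] at this
      exact this
    · intro z
      refine ⟨ψ.hom z, ?_⟩
      have := congrArg (fun f => f.hom z) h2
      simpa using this
  -- compare with `t_L` through `κ : (ι →₀ T(A)) ≃ T(A) ⊗ L`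
  let κ := (TensorProduct.equivFinsuppOfBasisRight (M := T.obj (ModuleCat.of A A)) b).symm
  have hκ : tM T L ∘ₗ κ.toLinearMap = φ := by
    apply Finsupp.lhom_ext'
    intro i
    apply LinearMap.ext
    intro y
    simp only [κ, φ, LinearMap.coe_comp, Function.comp_apply, Finsupp.lsingle_apply,
      LinearEquiv.coe_coe, TensorProduct.equivFinsuppOfBasisRight_symm_apply,
      Finsupp.lsum_single]
    rw [Finsupp.sum_single_index (by simp)]
    exact tM_tmul T L y (b i)
  have : tM T L = φ ∘ₗ κ.symm.toLinearMap := by
    rw [← hκ]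
    ext
    simp
  rw [this]
  exact hφ.comp κ.symm.bijective

end Free

/-- `t_L` is bijective for every free `L` when `T` commutes with arbitrary direct sums. -/
theorem tM_bijective_of_free_of_preservesCoproducts
    [∀ J : Type u, PreservesColimitsOfShape (Discrete J) T] (L : ModuleCat.{u} A)
    [Module.Free A L] : Function.Bijective (tM T L) :=
  tM_bijective_of_basis T (Module.Free.chooseBasis A L)

end Groth.Agent.Lib.EW
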