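import Groth.Agent.Lib.TFun
import Groth.Agent.Lib.EW
import Mathlib.Algebra.Homology.ShortComplex.PreservesHomology
import Mathlib.Algebra.Homology.ShortComplex.ExactFunctor

set_option autoImplicit false
universe u

namespace Groth.Agent.Lib.TFun

open CategoryTheory CategoryTheory.Limits MonoidalCategory CohIII TensorProduct

variable {A : Type u} [CommRing A] {ι : Type} {c : ComplexShape ι}

instance preservesFiniteColimits_tensorRight (L : ModuleCat.{u} A) :
    PreservesFiniteColimits (tensorRight L) :=
  preservesFiniteColimits_of_natIso (BraidedCategory.tensorLeftIsoTensorRight L)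

variable (P : HomologicalComplex (ModuleCat.{u} A) c) (p : ι)

/-- For flat `L`, `T_p(L) = H_p(P ⊗ L) ≅ H_p(P) ⊗ L`. -/
noncomputable def alpha (L : ModuleCat.{u} A) [Module.Flat A L] :
    (TFun P p).obj L ≅ P.homology p ⊗ L :=
  (P.sc p).mapHomologyIso (tensorRight L)

theorem TFun_map_eq_of_flat {M N : ModuleCat.{u} A} [Module.Flat A M] [Module.Flat A N]
    (g : M ⟶ N) :
    (TFun P p).map g = (alpha P p M).hom ≫ (P.homology p ◁ g) ≫ (alpha P p N).inv :=
  ShortComplex.homologyMap_mapNatTrans (P.sc p) ((tensoringRight (ModuleCat.{u} A)).map g)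

theorem lTensor_theta_eq {H : Type u} [AddCommGroup H] [Module A H] {L : ModuleCat.{u} A} (x : L)
    (w : H ⊗[A] A) :
    LinearMap.lTensor H (EW.theta x).hom w = (TensorProduct.rid A H w) ⊗ₜ[A] x := by
  induction w using TensorProduct.induction_on with
  | zero => simp
  | tmul n a =>
    simp only [LinearMap.lTensor_tmul, TensorProduct.rid_tmul]
    rw [TensorProduct.smul_tmul]
    rfl
  | add w₁ w₂ h₁ h₂ => rw [map_add, map_add, h₁, h₂, TensorProduct.add_tmul]

instance flat_self : Module.Flat A (ModuleCat.of A A) := inferInstanceAs (Module.Flat A A)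

/-- For flat `L`, `α_L ∘ t_L = (rid ∘ α_A) ⊗ id_L`. -/
theorem alpha_tM (L : ModuleCat.{u} A) [Module.Flat A L]
    (z : (TFun P p).obj (ModuleCat.of A A) ⊗[A] L) :
    (alpha P p L).hom.hom (EW.tM (TFun P p) L z) =
      LinearMap.rTensor L ((TensorProduct.rid A (P.homology p)).toLinearMap ∘ₗ
        (alpha P p (ModuleCat.of A A)).hom.hom) z := by
  induction z using TensorProduct.induction_on with
  | zero => simp
  | tmul y x =>
    rw [EW.tM_tmul, TFun_map_eq_of_flat]
    simp only [ModuleCat.hom_comp, LinearMap.coe_comp, Function.comp_apply, LinearMap.rTensor_tmul,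
      LinearEquiv.coe_coe]
    rw [← lTensor_theta_eq]
    have : (alpha P p L).hom.hom ((alpha P p L).inv.hom
        ((P.homology p ◁ EW.theta x).hom ((alpha P p (ModuleCat.of A A)).hom.hom y))) =
        (P.homology p ◁ EW.theta x).hom ((alpha P p (ModuleCat.of A A)).hom.hom y) := by
      simp
    rw [this]
    rfl
  | add z₁ z₂ h₁ h₂ => rw [map_add, map_add, map_add, h₁, h₂]

/-- For flat `L`, the canonical map `t_L : T_p(A) ⊗ L → T_p(L)` is bijective. -/
theorem tM_bijective_of_flat (L : ModuleCat.{u} A) [Module.Flat A L] :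
    Function.Bijective (EW.tM (TFun P p) L) := by
  let e₁ : (TFun P p).obj (ModuleCat.of A A) ≃ₗ[A] P.homology p :=
    (alpha P p (ModuleCat.of A A)).toLinearEquiv ≪≫ₗ TensorProduct.rid A (P.homology p)
  have h : ∀ z, (alpha P p L).hom.hom (EW.tM (TFun P p) L z) = (LinearEquiv.rTensor L e₁) z := by
    intro z
    rw [alpha_tM]
    rfl
  have hb : Function.Bijective ((alpha P p L).toLinearEquiv ∘ (EW.tM (TFun P p) L)) := by
    have : (alpha P p L).toLinearEquiv ∘ (EW.tM (TFun P p) L) = (LinearEquiv.rTensor L e₁) := by
      funext z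
      exact h z
    rw [this]
    exact (LinearEquiv.rTensor L e₁).bijective
  exact (Function.Bijective.of_comp_iff' (alpha P p L).toLinearEquiv.bijective _).mp hb

section Exactness

variable (hP : ∀ i, Module.Flat A (P.X i))
include hP

/-- `T_p` is half exact. -/
theorem halfExact (S : ShortComplex (ModuleCat.{u} A)) (hS : S.ShortExact) :
    (S.map (TFun P p)).Exact :=
  exact₂ P hP S hS p

theorem preservesFiniteColimits_of_preservesEpi (h : (TFun P p).PreservesEpimorphisms) :
    PreservesFiniteColimits (TFun P p) := by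
  refine ((Functor.preservesFiniteColimits_tfae (TFun P p)).out 0 3).mp ?_
  intro S hS
  have := hS.epi_g
  exact ⟨halfExact P p hP S hS, inferInstance⟩

theorem preservesFiniteLimits_of_preservesMono (h : (TFun P p).PreservesMonomorphisms) :
    PreservesFiniteLimits (TFun P p) := by
  refine ((Functor.preservesFiniteLimits_tfae (TFun P p)).out 0 3).mp ?_
  intro S hS
  have := hS.mono_f
  exact ⟨halfExact P p hP S hS, inferInstance⟩

/-- If `T_p` preserves epimorphisms, all `t_M` are bijective. -/
theorem tM_bijective_of_preservesEpi (h : (TFun P p).PreservesEpimorphisms) (M : ModuleCat.{u} A) :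
    Function.Bijective (EW.tM (TFun P p) M) := by
  have := preservesFiniteColimits_of_preservesEpi P p hP h
  refine EW.tM_bijective_of_free (TFun P p) (fun L hL => ?_) M
  have : Module.Flat A L := inferInstance
  exact tM_bijective_of_flat P p L

/-- If `T_p` preserves epimorphisms then `T_p ≅ T_p(A) ⊗ -`. -/
noncomputable def isoTensorLeftOfPreservesEpi (h : (TFun P p).PreservesEpimorphisms) :
    tensorLeft ((TFun P p).obj (ModuleCat.of A A)) ≅ TFun P p :=
  EW.isoTensorLeft (TFun P p) (tM_bijective_of_preservesEpi P p hP h)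

/-- `T_i` preserves epimorphisms iff `T_j` preserves monomorphisms, when `c.Rel i j`. -/
theorem preservesEpi_iff_preservesMono (i j : ι) (hij : c.Rel i j) :
    (TFun P i).PreservesEpimorphisms ↔ (TFun P j).PreservesMonomorphisms := by
  constructor
  · intro h
    refine ⟨fun {M' M} f hf => ?_⟩
    let S : ShortComplex (ModuleCat.{u} A) := ShortComplex.mk f (cokernel.π f) (cokernel.condition f)
    have hS : S.ShortExact := { exact := ShortComplex.exact_cokernel f }
    have hepi : Epi ((TFun P i).map S.g) := inferInstance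
    have hδ : δ P hP S hS i j hij = 0 := by
      rw [← cancel_epi ((TFun P i).map S.g), comp_δ, comp_zero]
    exact (exact₁ P hP S hS i j hij).mono_g hδ
  · intro h
    refine ⟨fun {M M''} g hg => ?_⟩
    let S : ShortComplex (ModuleCat.{u} A) := ShortComplex.mk (kernel.ι g) g (kernel.condition g)
    have hS : S.ShortExact := { exact := ShortComplex.exact_kernel g }
    have hmono : Mono ((TFun P j).map S.f) := inferInstance
    have hδ : δ P hP S hS i j hij = 0 := by
      rw [← cancel_mono ((TFun P j).map S.f), δ_comp, zero_comp]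
    exact (exact₃ P hP S hS i j hij).epi_f hδ

end Exactness

theorem preservesEpi_tensorLeft (N : ModuleCat.{u} A) : (tensorLeft N).PreservesEpimorphisms :=
  Functor.preservesEpimorphisms_of_adjunction (ihom.adjunction N)

/-- A module `N` with `N ⊗ -` preserving monomorphisms is flat. -/
theorem flat_of_preservesMono_tensorLeft (N : ModuleCat.{u} A)
    (h : (tensorLeft N).PreservesMonomorphisms) : Module.Flat A N := by
  rw [Module.Flat.iff_lTensor_preserves_injective_linearMap]
  intro M M' _ _ _ _ f hf
  have hm : Mono (ModuleCat.ofHom f) := (ModuleCat.mono_iff_injective _).mpr hf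
  have := (tensorLeft N).map_mono (ModuleCat.ofHom f)
  exact (ModuleCat.mono_iff_injective _).mp this

end Groth.Agent.Lib.TFun
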