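import Groth.Agent.Lib.TFunConcrete
import Groth.Agent.Lib.TFunFlat
import Mathlib.RingTheory.Noetherian.Basic
import Mathlib.RingTheory.LocalRing.Module
import Mathlib.RingTheory.TensorProduct.Finite

set_option autoImplicit false
universe u

namespace Groth.Agent.Lib.TFun

open CategoryTheory CategoryTheory.Limits MonoidalCategory CohIII TensorProduct

variable {A : Type u} [CommRing A] {ι : Type} {c : ComplexShape ι}
variable (P : HomologicalComplex (ModuleCat.{u} A) c) (p : ι)

/-- Over a Noetherian ring, `T_p(M)` is finite when `P_p` and `M` are. -/
theorem finite_TFun_obj [IsNoetherianRing A] (hfin : Module.Finite A (P.X p))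
    (M : ModuleCat.{u} A) [Module.Finite A M] : Module.Finite A ((TFun P p).obj M) := by
  have h1 : Module.Finite A (P.X p ⊗[A] M) := inferInstance
  have h2 : IsNoetherian A (P.X p ⊗[A] M) := inferInstance
  have h3 : Module.Finite A (LinearMap.ker (scM P p M).g.hom) := by
    have : IsNoetherian A ↑(scM P p M).X₂ := h2
    exact Module.Finite.of_injective (LinearMap.ker (scM P p M).g.hom).subtype
      (Submodule.subtype_injective _)
  exact Module.Finite.of_surjective (toT P p M) (toT_surjective P p M)

/-- `N ⊗ -` preserves monomorphisms when `N` is flat. -/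
theorem preservesMono_tensorLeft_of_flat (N : ModuleCat.{u} A) [Module.Flat A N] :
    (tensorLeft N).PreservesMonomorphisms := by
  refine ⟨fun {M M'} f hf => ?_⟩
  have hinj : Function.Injective f.hom := (ModuleCat.mono_iff_injective _).mp hf
  refine (ModuleCat.mono_iff_injective _).mpr ?_
  exact Module.Flat.lTensor_preserves_injective_linearMap f.hom hinj

end Groth.Agent.Lib.TFun
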