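import Groth.Agent.Lib.TFunConcrete
import Mathlib.RingTheory.Flat.Basic
import Mathlib.LinearAlgebra.TensorProduct.RightExactness

set_option autoImplicit false
universe u

namespace Groth.Agent.Lib.TFun

open CategoryTheory CategoryTheory.Limits MonoidalCategory CohIII TensorProduct

variable {A : Type u} [CommRing A] {ι : Type} {c : ComplexShape ι}
variable (P : HomologicalComplex (ModuleCat.{u} A) c) (p : ι)

/-- The concrete module of opcycles `P_p / im(d)`. -/
abbrev Copc : Type u := P.X p ⧸ LinearMap.range (P.d (c.prev p) p).hom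

theorem exact_rTensor_mkQ (M : Type u) [AddCommGroup M] [Module A M] :
    Function.Exact (LinearMap.rTensor M (P.d (c.prev p) p).hom)
      (LinearMap.rTensor M (LinearMap.range (P.d (c.prev p) p).hom).mkQ) :=
  rTensor_exact M (LinearMap.exact_map_mkQ_range _) (Submodule.mkQ_surjective _)

/-- `T_p` preserves monomorphisms when the opcycles are flat. -/
theorem preservesMono_of_flat_Copc (h : Module.Flat A (Copc P p)) :
    (TFun P p).PreservesMonomorphisms := by
  refine ⟨fun {M N} g hg => ?_⟩
  have hginj : Function.Injective g.hom := (ModuleCat.mono_iff_injective g).mp hg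
  rw [ModuleCat.mono_iff_injective]
  rw [injective_iff_map_eq_zero]
  intro t ht
  obtain ⟨z, hz, rfl⟩ := exists_cls t
  have h0 : ((TFun P p).map g).hom (cls z hz) = 0 := ht
  rw [map_cls] at h0
  have h0' := (cls_eq_zero_iff _ _).mp h0
  refine (cls_eq_zero_iff _ _).mpr ?_
  have h1 := (exact_rTensor_mkQ P p N _).mpr h0'
  rw [rTensor_lTensor_apply] at h1
  have h3 := (injective_iff_map_eq_zero _).mp
    (Module.Flat.lTensor_preserves_injective_linearMap (M := Copc P p) g.hom hginj) _ h1
  exact (exact_rTensor_mkQ P p M _).mp h3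

/-- If `T_p` preserves monomorphisms (and `P_{next p}` is flat), the opcycles are flat. -/
theorem flat_Copc_of_preservesMono (hnext : Module.Flat A (P.X (c.next p)))
    (h : (TFun P p).PreservesMonomorphisms) : Module.Flat A (Copc P p) := by
  rw [Module.Flat.iff_lTensor_preserves_injective_linearMap]
  intro M N _ _ _ _ g hg
  rw [injective_iff_map_eq_zero]
  intro u hu
  let g' : ModuleCat.of A M ⟶ ModuleCat.of A N := ModuleCat.ofHom g
  have hmono : Mono g' := (ModuleCat.mono_iff_injective g').mpr hg
  obtain ⟨z, rfl⟩ := LinearMap.rTensor_surjective M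
    (Submodule.mkQ_surjective (LinearMap.range (P.d (c.prev p) p).hom)) u
  -- `(1 ⊗ g) z` is a boundary
  have h1 : LinearMap.rTensor N (LinearMap.range (P.d (c.prev p) p).hom).mkQ
      (LinearMap.lTensor (P.X p) g z) = 0 := by
    rw [rTensor_lTensor_apply]
    exact hu
  obtain ⟨y, hy⟩ := (exact_rTensor_mkQ P p N _).mp h1
  -- `z` is a cycle
  have hz : LinearMap.rTensor M (P.d p (c.next p)).hom z = 0 := by
    have h3 : LinearMap.lTensor (P.X (c.next p)) g
        (LinearMap.rTensor M (P.d p (c.next p)).hom z) = 0 := by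
      rw [← rTensor_lTensor_apply, ← hy]
      exact ((tensorObj P (ModuleCat.of A N)).sc p).moduleCat_zero_apply y
    exact (injective_iff_map_eq_zero _).mp
      (Module.Flat.lTensor_preserves_injective_linearMap (M := P.X (c.next p)) g hg) _ h3
  have hT : ((TFun P p).map g').hom (cls (M := ModuleCat.of A M) z hz) = 0 := by
    rw [map_cls]
    exact (cls_eq_zero_iff _ _).mpr ⟨y, hy⟩
  have hinj := (ModuleCat.mono_iff_injective _).mp ((TFun P p).map_mono g')
  have h4 := (injective_iff_map_eq_zero _).mp hinj _ hT
  obtain ⟨y', hy'⟩ := (cls_eq_zero_iff _ _).mp h4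
  exact (exact_rTensor_mkQ P p M _).mpr ⟨y', hy'⟩

/-- `T_p` preserves monomorphisms iff the opcycles `P.opcycles p` are flat. -/
theorem preservesMono_iff_flat_opcycles (hnext : Module.Flat A (P.X (c.next p))) :
    (TFun P p).PreservesMonomorphisms ↔ Module.Flat A (P.opcycles p) := by
  have e : (P.opcycles p) ≃ₗ[A] Copc P p := (P.sc p).moduleCatOpcyclesIso.toLinearEquiv
  rw [Module.Flat.equiv_iff e]
  exact ⟨flat_Copc_of_preservesMono P p hnext, preservesMono_of_flat_Copc P p⟩

end Groth.Agent.Lib.TFun
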