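import Groth.Agent.Lib.FibRankReduced
import Groth.Agent.Lib.TFunOpcycles
import Groth.Agent.Lib.TFunFlat

set_option autoImplicit false
universe u

namespace Groth.Agent.Lib.TFunRank

open CategoryTheory CategoryTheory.Limits CohIII TensorProduct Groth.Agent.Lib.TFun

variable {A : Type u} [CommRing A] {ι : Type} {c : ComplexShape ι}
variable (P : HomologicalComplex (ModuleCat.{u} A) c)

theorem cRank_eq_fibRank_Copc (i : ι) : cRank P i = fibRank (Copc P i) := rfl

/-- If `T_i` is exact, `d_i` is locally constant (Noetherian ring, finite flat terms). -/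
theorem isLocallyConstant_dRank_of_exact [IsNoetherianRing A] (hflat : ∀ i, Module.Flat A (P.X i))
    (hfin : ∀ i, Module.Finite A (P.X i)) (i j : ι) (hij : c.Rel i j)
    (hm : (TFun P i).PreservesMonomorphisms) (he : (TFun P i).PreservesEpimorphisms) :
    IsLocallyConstant (dRank P i) := by
  have hfp : ∀ i, Module.FinitePresentation A (P.X i) :=
    fun i => Module.finitePresentation_of_finite A _
  have hmj : (TFun P j).PreservesMonomorphisms :=
    (preservesEpi_iff_preservesMono P hflat i j hij).mp he
  have f1 : Module.Flat A (Copc P i) := flat_Copc_of_preservesMono P i (hflat _) hm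
  have f2 : Module.Flat A (Copc P j) := flat_Copc_of_preservesMono P j (hflat _) hmj
  have p1 : Module.FinitePresentation A (Copc P i) := Module.finitePresentation_of_finite A _
  have p2 : Module.FinitePresentation A (Copc P j) := Module.finitePresentation_of_finite A _
  have l1 : IsLocallyConstant (cRank P i) := isLocallyConstant_fibRank (Copc P i)
  have l2 : IsLocallyConstant (cRank P j) := isLocallyConstant_fibRank (Copc P j)
  rw [IsLocallyConstant.iff_eventually_eq]
  intro z
  exact eventually_dRank_eq P i j hij z (l1.eventually_eq z) (l2.eventually_eq z)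

/-- Over a reduced Noetherian ring, if `d_i` is locally constant then `T_i` is exact. -/
theorem exact_of_isLocallyConstant_dRank [IsNoetherianRing A] [IsReduced A]
    (hflat : ∀ i, Module.Flat A (P.X i)) (hfin : ∀ i, Module.Finite A (P.X i)) (i j : ι)
    (hij : c.Rel i j) (h : IsLocallyConstant (dRank P i)) :
    (TFun P i).PreservesMonomorphisms ∧ (TFun P i).PreservesEpimorphisms := by
  have hfp : ∀ i, Module.FinitePresentation A (P.X i) :=
    fun i => Module.finitePresentation_of_finite A _
  have l1 : IsLocallyConstant (cRank P i) := by
    rw [IsLocallyConstant.iff_eventually_eq]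
    intro z
    exact (eventually_cRank_eq P i j hij z (h.eventually_eq z)).1
  have l2 : IsLocallyConstant (cRank P j) := by
    rw [IsLocallyConstant.iff_eventually_eq]
    intro z
    exact (eventually_cRank_eq P i j hij z (h.eventually_eq z)).2
  have f1 : Module.Flat A (Copc P i) := flat_of_isLocallyConstant_fibRank (Copc P i) l1
  have f2 : Module.Flat A (Copc P j) := flat_of_isLocallyConstant_fibRank (Copc P j) l2
  exact ⟨preservesMono_of_flat_Copc P i f1,
    (preservesEpi_iff_preservesMono P hflat i j hij).mpr (preservesMono_of_flat_Copc P j f2)⟩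

/-- Over a reduced Noetherian local ring: if `d_i` takes the same value at every minimal prime and at
the closed point, then `T_i` is exact. -/
theorem exact_of_dRank_eq_minimalPrimes [IsNoetherianRing A] [IsLocalRing A] [IsReduced A]
    (hflat : ∀ i, Module.Flat A (P.X i)) (hfin : ∀ i, Module.Finite A (P.X i)) (i j : ι)
    (hij : c.Rel i j)
    (h : ∀ q : PrimeSpectrum A, q.asIdeal ∈ minimalPrimes A →
      dRank P i q = dRank P i (IsLocalRing.closedPoint A)) :
    (TFun P i).PreservesMonomorphisms ∧ (TFun P i).PreservesEpimorphisms := by
  have hfp : ∀ i, Module.FinitePresentation A (P.X i) :=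
    fun i => Module.finitePresentation_of_finite A _
  have key : ∀ q : PrimeSpectrum A, q.asIdeal ∈ minimalPrimes A →
      cRank P i q = cRank P i (IsLocalRing.closedPoint A) ∧
        cRank P j q = cRank P j (IsLocalRing.closedPoint A) := by
    intro q hq
    have hspec : q ⤳ IsLocalRing.closedPoint A :=
      (PrimeSpectrum.le_iff_specializes q _).mp (IsLocalRing.le_maximalIdeal_of_isPrime q.asIdeal)
    have e1 := dRank_add_cRank P i j hij q
    have e2 := dRank_add_cRank P i j hij (IsLocalRing.closedPoint A)
    have e3 : fibRank (P.X j) q = fibRank (P.X j) (IsLocalRing.closedPoint A) :=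
      hspec.mem_open ((isLocallyConstant_fibRank (P.X j)).isOpen_fiber _) rfl
    have e4 := le_of_specializes _ (upperSemicontinuous_cRank P i) hspec
    have e5 := le_of_specializes _ (upperSemicontinuous_cRank P j) hspec
    have e6 := h q hq
    omega
  have f1 : Module.Flat A (Copc P i) :=
    flat_of_fibRank_eq_minimalPrimes (Copc P i) (fun q hq => (key q hq).1)
  have f2 : Module.Flat A (Copc P j) :=
    flat_of_fibRank_eq_minimalPrimes (Copc P j) (fun q hq => (key q hq).2)
  exact ⟨preservesMono_of_flat_Copc P i f1,
    (preservesEpi_iff_preservesMono P hflat i j hij).mpr (preservesMono_of_flat_Copc P j f2)⟩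

end Groth.Agent.Lib.TFunRank
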