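import Groth.Agent.Lib.TFunLocal

set_option autoImplicit false
universe u

namespace Groth.Agent.Lib.TFun

open CategoryTheory CategoryTheory.Limits MonoidalCategory CohIII TensorProduct IsLocalRing

variable {A : Type u} [CommRing A] {ι : Type} {c : ComplexShape ι}
variable (P : HomologicalComplex (ModuleCat.{u} A) c)

/-- A functor whose values are all zero preserves monomorphisms. -/
theorem preservesMono_of_isZero_obj {C D : Type*} [Category C] [Category D] (F : C ⥤ D)
    (h : ∀ X, IsZero (F.obj X)) : F.PreservesMonomorphisms :=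
  ⟨fun {X _} _ _ => ⟨fun {_} g₁ g₂ _ => (h X).eq_of_tgt g₁ g₂⟩⟩

/-- A functor whose values are all zero preserves epimorphisms. -/
theorem preservesEpi_of_isZero_obj {C D : Type*} [Category C] [Category D] (F : C ⥤ D)
    (h : ∀ X, IsZero (F.obj X)) : F.PreservesEpimorphisms :=
  ⟨fun {_ Y} _ _ => ⟨fun {_} g₁ g₂ _ => (h Y).eq_of_src g₁ g₂⟩⟩

variable [IsLocalRing A]

/-- If `T_i(k) = 0` then `T_i(M) = 0` for all `M` (Noetherian local ring, f.g. flat terms). -/
theorem isZero_of_isZero_residue [IsNoetherianRing A] (hP : ∀ i, Module.Flat A (P.X i)) (i j : ι)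
    (hij : c.Rel i j) (hfi : Module.Finite A (P.X i)) (hfj : Module.Finite A (P.X j))
    (hk : IsZero ((TFun P i).obj (ModuleCat.of A (ResidueField A)))) (M : ModuleCat.{u} A) :
    IsZero ((TFun P i).obj M) := by
  have hsub : Subsingleton ((TFun P i).obj (ModuleCat.of A (ResidueField A))) :=
    ModuleCat.subsingleton_of_isZero hk
  have hsurj : Function.Surjective ((TFun P i).map
      (ModuleCat.ofHom (Algebra.linearMap A (ResidueField A)))).hom :=
    fun y => ⟨0, Subsingleton.elim _ _⟩
  have he := preservesEpi_of_surjective_residue P hP i j hij hfi hfj hsurj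
  let e := isoTensorLeftOfPreservesEpi P i hP he
  have h1 : Subsingleton ((TFun P i).obj (ModuleCat.of A A) ⊗[A] (ResidueField A)) :=
    (e.app (ModuleCat.of A (ResidueField A))).toLinearEquiv.toEquiv.subsingleton
  have h2 : Subsingleton ((ResidueField A) ⊗[A] (TFun P i).obj (ModuleCat.of A A)) :=
    (TensorProduct.comm A _ _).toEquiv.subsingleton
  have hfin : Module.Finite A ((TFun P i).obj (ModuleCat.of A A)) :=
    haveI : Module.Finite A (ModuleCat.of A A) := inferInstanceAs (Module.Finite A A)
    finite_TFun_obj P i hfi (ModuleCat.of A A)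
  have h3 : Subsingleton ((TFun P i).obj (ModuleCat.of A A)) :=
    IsLocalRing.subsingleton_tensorProduct.mp h2
  have h4 : Subsingleton ((TFun P i).obj (ModuleCat.of A A) ⊗[A] M) := inferInstance
  have h5 : Subsingleton ((TFun P i).obj M) :=
    haveI : Subsingleton ((tensorLeft ((TFun P i).obj (ModuleCat.of A A))).obj M) := h4
    (e.app M).symm.toLinearEquiv.toEquiv.subsingleton
  exact ModuleCat.isZero_of_subsingleton _

end Groth.Agent.Lib.TFun
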