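import Groth.Agent.Lib.TFunFlat
import Groth.Agent.Lib.TFunLocalVanish
import Groth.Agent.Lib.TFunFinite

set_option autoImplicit false
universe u

/-! `T_q(A) ≅ H_q(P)`, vanishing of `T_q` where `P_q = 0`, and: a bounded-below chain complex of flat
modules whose homology is flat in degrees `≤ N` has exact `T_q` for `q ≤ N`. -/

namespace Groth.Agent.Lib.TFunUnit

open CategoryTheory CategoryTheory.Limits MonoidalCategory CohIII TensorProduct Groth.Agent.Lib.TFun

variable {A : Type u} [CommRing A]

section
variable {ι : Type} {c : ComplexShape ι} (P : HomologicalComplex (ModuleCat.{u} A) c)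

/-- `P ⊗ A ≅ P`. -/
noncomputable def tensorObjUnitIso : tensorObj P (ModuleCat.of A A) ≅ P :=
  HomologicalComplex.Hom.isoOfComponents (fun i => ρ_ (P.X i)) (by
    intro i j _
    exact (rightUnitor_naturality (P.d i j)).symm)

/-- `T_q(A) ≅ H_q(P)`. -/
noncomputable def TUnitIso (q : ι) : (TFun P q).obj (ModuleCat.of A A) ≅ P.homology q :=
  (HomologicalComplex.homologyFunctor _ c q).mapIso (tensorObjUnitIso P)

theorem isZero_TFun_obj_of_isZero (q : ι) (h : IsZero (P.X q)) (M : ModuleCat.{u} A) :
    IsZero ((TFun P q).obj M) := by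
  have h1 : IsZero ((tensorObj P M).X q) :=
    Functor.map_isZero (MonoidalCategory.tensorRight M) h
  exact ShortComplex.isZero_homology_of_isZero_X₂ _ h1

theorem exact_of_isZero (q : ι) (h : IsZero (P.X q)) :
    (TFun P q).PreservesMonomorphisms ∧ (TFun P q).PreservesEpimorphisms :=
  ⟨preservesMono_of_isZero_obj _ (isZero_TFun_obj_of_isZero P q h),
    preservesEpi_of_isZero_obj _ (isZero_TFun_obj_of_isZero P q h)⟩

/-- If `T_q` preserves epimorphisms and `H_q(P)` is flat then `T_q` preserves monomorphisms. -/
theorem preservesMono_of_preservesEpi_of_flat_homology (hP : ∀ i, Module.Flat A (P.X i)) (q : ι)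
    (he : (TFun P q).PreservesEpimorphisms) (hH : Module.Flat A (P.homology q)) :
    (TFun P q).PreservesMonomorphisms := by
  have hfl : Module.Flat A ((TFun P q).obj (ModuleCat.of A A)) :=
    (Module.Flat.equiv_iff (TUnitIso P q).toLinearEquiv).mpr hH
  have e := isoTensorLeftOfPreservesEpi P q hP he
  have hm' : (tensorLeft ((TFun P q).obj (ModuleCat.of A A))).PreservesMonomorphisms :=
    preservesMono_tensorLeft_of_flat _
  exact Functor.PreservesMonomorphisms.of_iso e

end

theorem down_rel (q : ℤ) : (ComplexShape.down ℤ).Rel q (q - 1) := by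
  show q - 1 + 1 = q
  ring

/-- A chain complex of flat modules, zero below `i₀`, with flat homology in degrees `≤ N`, has exact
`T_q` for all `q ≤ N`. -/
theorem exact_upTo_of_flat_homology (P : ChainComplex (ModuleCat.{u} A) ℤ)
    (hP : ∀ i, Module.Flat A (P.X i)) (i₀ : ℤ) (hb : ∀ i < i₀, IsZero (P.X i)) (N : ℤ)
    (hH : ∀ q, i₀ ≤ q → q ≤ N → Module.Flat A (P.homology q)) :
    ∀ q ≤ N, (TFun P q).PreservesMonomorphisms ∧ (TFun P q).PreservesEpimorphisms := by
  have key : ∀ n : ℕ, ∀ q : ℤ, q < i₀ + n → q ≤ N →
      (TFun P q).PreservesMonomorphisms ∧ (TFun P q).PreservesEpimorphisms := by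
    intro n
    induction n with
    | zero =>
      intro q hq _
      exact exact_of_isZero P q (hb q (by simpa using hq))
    | succ n ih =>
      intro q hq hqN
      by_cases hlt : q < i₀
      · exact exact_of_isZero P q (hb q hlt)
      have hprev := (ih (q - 1) (by push_cast at hq; omega) (by omega)).1
      have he : (TFun P q).PreservesEpimorphisms :=
        (preservesEpi_iff_preservesMono P hP q (q - 1) (down_rel q)).mpr hprev
      exact ⟨preservesMono_of_preservesEpi_of_flat_homology P hP q he
        (hH q (not_lt.mp hlt) hqN), he⟩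
  intro q hq
  have hq' : q < i₀ + ((q - i₀ + 1).toNat : ℕ) := by omega
  exact key _ q hq' hq

end Groth.Agent.Lib.TFunUnit
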