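import Groth.Agent.Lib.TFunLocalVanish
import Groth.Agent.Lib.TFunRank3
import Groth.Agent.Lib.TFunCompareRank
import Groth.Agent.Lib.TFunBCLocus
import Groth.Agent.Lib.TFunBaseChange
import Groth.Agent.Lib.TFunAcyclic
import Groth.Agent.Lib.TFunUnit
import Groth.Agent.Lib.TFunFinite

/-!
# K2c: the algebra of the functors `T^i_L` needed by the geometric consumers (helper21)

`L` is a bounded-above cochain complex of finite flat modules over a Noetherian ring `A`, `N i = T^i_L(A)`.
Built on helper84's `TFun*` libraries.
-/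

set_option autoImplicit false
set_option linter.style.haveILetI false
universe u

open CategoryTheory CategoryTheory.Limits MonoidalCategory CohIII TensorProduct

namespace Groth.Agent.Lib.FibreAlg21

open Groth.Agent.Lib.TFun Groth.Agent.Lib.TFunAcyclic Groth.Agent.Lib.TFunRank
  Groth.Agent.Lib.TFunCompare

variable {A : Type u} [CommRing A] (L : CochainComplex (ModuleCat.{u} A) ℤ)

/-- `N i = T^i_L(A)` -/
noncomputable abbrev NN (i : ℤ) : ModuleCat.{u} A := (TFun L i).obj (ModuleCat.of A A)

section Exact

variable (hP : ∀ i, Module.Flat A (L.X i))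
include hP

/-- if `T^i` preserves epimorphisms and monomorphisms then `T^i(A)` is flat -/
theorem flat_NN_of_exact (i : ℤ) (he : (TFun L i).PreservesEpimorphisms)
    (hm : (TFun L i).PreservesMonomorphisms) : Module.Flat A (NN L i) := by
  apply flat_of_preservesMono_tensorLeft
  exact Functor.PreservesMonomorphisms.of_iso (isoTensorLeftOfPreservesEpi L i hP he).symm

/-- if `T^i` preserves epimorphisms and `T^i(A)` is flat then `T^i` preserves monomorphisms -/
theorem preservesMono_of_preservesEpi_of_flat (i : ℤ) (he : (TFun L i).PreservesEpimorphisms)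
    (hfl : Module.Flat A (NN L i)) : (TFun L i).PreservesMonomorphisms := by
  have hm' : (tensorLeft (NN L i)).PreservesMonomorphisms := preservesMono_tensorLeft_of_flat _
  exact Functor.PreservesMonomorphisms.of_iso (isoTensorLeftOfPreservesEpi L i hP he)

/-- if `T^i` preserves epimorphisms and `T^i(A) = 0` then `T^i = 0` -/
theorem isZero_of_preservesEpi_of_subsingleton (i : ℤ) (he : (TFun L i).PreservesEpimorphisms)
    (h0 : Subsingleton (NN L i)) (M : ModuleCat.{u} A) : IsZero ((TFun L i).obj M) := by
  have e := (isoTensorLeftOfPreservesEpi L i hP he).app M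
  have hs : Subsingleton ((tensorLeft (NN L i)).obj M) := by
    show Subsingleton ((NN L i) ⊗[A] M)
    infer_instance
  exact (ModuleCat.isZero_of_subsingleton _).of_iso e.symm

/-- **Descending induction**: if `T^i(A)` is flat for all `i > d` then `T^i` is exact for all `i > d`, and `T^d`
preserves epimorphisms. -/
theorem exact_above_of_flat (hb : ∃ b : ℤ, ∀ i, b < i → IsZero (L.X i)) (d : ℤ)
    (hfl : ∀ i, d < i → Module.Flat A (NN L i)) :
    (∀ i, d < i → (TFun L i).PreservesMonomorphisms ∧ (TFun L i).PreservesEpimorphisms) ∧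
      (TFun L d).PreservesEpimorphisms := by
  obtain ⟨b, hb⟩ := hb
  have key : ∀ n : ℕ, ∀ i : ℤ, b - n < i → d < i →
      (TFun L i).PreservesMonomorphisms ∧ (TFun L i).PreservesEpimorphisms := by
    intro n
    induction n with
    | zero =>
      intro i hi _
      exact Groth.Agent.Lib.TFunUnit.exact_of_isZero L i (hb i (by simpa using hi))
    | succ n ih =>
      intro i hi hdi
      have hm : (TFun L (i + 1)).PreservesMonomorphisms :=
        (ih (i + 1) (by push_cast at hi; omega) (by omega)).1
      have he : (TFun L i).PreservesEpimorphisms :=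
        (preservesEpi_iff_preservesMono L hP i (i + 1) (up_rel i)).mpr hm
      exact ⟨preservesMono_of_preservesEpi_of_flat L hP i he (hfl i hdi), he⟩
  have all : ∀ i, d < i →
      (TFun L i).PreservesMonomorphisms ∧ (TFun L i).PreservesEpimorphisms :=
    fun i hi => key ((b - i + 1).toNat) i (by omega) hi
  exact ⟨all, (preservesEpi_iff_preservesMono L hP d (d + 1) (up_rel d)).mpr
    (all (d + 1) (by omega)).1⟩

end Exact

section Noeth

variable [IsNoetherianRing A] (hP : ∀ i, Module.Flat A (L.X i))
  (hfin : ∀ i, Module.Finite A (L.X i))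
include hP hfin

/-- **(Grauert, algebra)** over a reduced Noetherian ring, if `dRank L p` is locally constant then `T^p(A)` is flat and
`dRank L p = fibRank (T^p(A))`. -/
theorem flat_and_dRank_of_isLocallyConstant [IsReduced A] (p : ℤ)
    (h : IsLocallyConstant (dRank L p)) :
    Module.Flat A (NN L p) ∧ ∀ x, dRank L p x = fibRank (NN L p) x := by
  obtain ⟨hm, he⟩ := exact_of_isLocallyConstant_dRank L hP hfin p (p + 1) (up_rel p) h
  exact ⟨flat_NN_of_exact L hP p he hm, fun x => dRank_eq_fibRank_of_preservesEpi L p hP he x⟩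

/-- if all `T^i(A)` are flat then all `dRank L i` are locally constant -/
theorem isLocallyConstant_dRank_of_flat (hb : ∃ b : ℤ, ∀ i, b < i → IsZero (L.X i))
    (hfl : ∀ i, Module.Flat A (NN L i)) (i : ℤ) : IsLocallyConstant (dRank L i) := by
  obtain ⟨h, -⟩ := exact_above_of_flat L hP hb (i - 1) (fun j _ => hfl j)
  obtain ⟨hm, he⟩ := h i (by omega)
  exact isLocallyConstant_dRank_of_exact L hP hfin i (i + 1) (up_rel i) hm he

omit [IsNoetherianRing A] hfin in
/-- if `T^i(A) = 0` for all `i > 0` (and `T^i = 0` for `i < 0`) then `T^i = 0` for all `i > 0`, `T^0(A)` is flat and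
`dRank L 0 = fibRank (T^0(A))`. -/
theorem of_subsingleton_pos (hb : ∃ b : ℤ, ∀ i, b < i → IsZero (L.X i))
    (hneg : ∀ p : ℤ, p < 0 → ∀ M : ModuleCat.{u} A, IsZero ((TFun L p).obj M))
    (h0 : ∀ i : ℤ, 0 < i → Subsingleton (NN L i)) :
    (∀ i : ℤ, 0 < i → ∀ M : ModuleCat.{u} A, IsZero ((TFun L i).obj M)) ∧
      Module.Flat A (NN L 0) ∧ ∀ x, dRank L 0 x = fibRank (NN L 0) x := by
  obtain ⟨h, he0⟩ := exact_above_of_flat L hP hb 0 (fun i hi => by
    haveI := h0 i hi
    infer_instance)
  have hm0 : (TFun L 0).PreservesMonomorphisms :=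
    (preservesEpi_iff_preservesMono L hP (-1) 0 (by simp)).mp
      (preservesEpi_of_isZero_obj _ (hneg (-1) (by omega)))
  exact ⟨fun i hi M => isZero_of_preservesEpi_of_subsingleton L hP i (h i hi).2 (h0 i hi) M,
    flat_NN_of_exact L hP 0 he0 hm0, fun x => dRank_eq_fibRank_of_preservesEpi L 0 hP he0 x⟩

end Noeth

section Local

open Groth.Agent.Lib.TFunBaseChange Groth.Agent.Lib.TFunBC

/-- restriction of scalars of `N` regarded as a `B`-module is `N` regarded as an `A`-module -/
noncomputable def rbIso (B : Type u) [CommRing B] [Algebra A B] (N : Type u) [AddCommGroup N]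
    [Module A N] [Module B N] [IsScalarTower A B N] :
    (RB (A := A) B).obj (ModuleCat.of B N) ≅ ModuleCat.of A N :=
  let e : ((RB (A := A) B).obj (ModuleCat.of B N)) ≃ₗ[A] N :=
    { toFun := fun n => n
      invFun := fun n => n
      map_add' := fun _ _ => rfl
      map_smul' := fun a n => algebraMap_smul B a (show N from n)
      left_inv := fun _ => rfl
      right_inv := fun _ => rfl }
  e.toModuleIso

theorem isZero_RB_iff (B : Type u) [CommRing B] [Algebra A B] (Z : ModuleCat.{u} B) :
    IsZero ((RB (A := A) B).obj Z) ↔ IsZero Z := by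
  rw [ModuleCat.isZero_iff_subsingleton, ModuleCat.isZero_iff_subsingleton]
  rfl

variable [IsNoetherianRing A] (hP : ∀ i, Module.Flat A (L.X i))
  (hfin : ∀ i, Module.Finite A (L.X i))
include hP hfin

/-- **Local vanishing**: if `T^i_L(κ(x)) = 0` then `T^i` of the localized complex vanishes identically. -/
theorem isZero_bcCx_of_isZero_residue (x : PrimeSpectrum A) (i : ℤ)
    (h : IsZero ((TFun L i).obj (ModuleCat.of A x.asIdeal.ResidueField)))
    (M : ModuleCat.{u} (Localization.AtPrime x.asIdeal)) :
    IsZero ((TFun (bcCx (algebraMap A (Localization.AtPrime x.asIdeal)) L) i).obj M) := by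
  have hP' := flat_bcCx_X (Localization.AtPrime x.asIdeal) L hP
  have hfin' : ∀ j, Module.Finite (Localization.AtPrime x.asIdeal)
      ((bcCx (algebraMap A (Localization.AtPrime x.asIdeal)) L).X j) := by
    intro j
    haveI := hfin j
    exact Module.Finite.equiv
      (Groth.Agent.Lib.TildePullback.extendScalarsEquiv A (Localization.AtPrime x.asIdeal)
        (L.X j)).symm
  have hk : IsZero ((TFun (bcCx (algebraMap A (Localization.AtPrime x.asIdeal)) L) i).obj
      (ModuleCat.of (Localization.AtPrime x.asIdeal)
        (IsLocalRing.ResidueField (Localization.AtPrime x.asIdeal)))) := by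
    rw [← isZero_RB_iff (A := A)]
    refine IsZero.of_iso ?_ (compareIso (Localization.AtPrime x.asIdeal) L i _)
    exact h.of_iso ((TFun L i).mapIso
      (rbIso (Localization.AtPrime x.asIdeal) x.asIdeal.ResidueField))
  exact isZero_of_isZero_residue _ hP' i (i + 1) (up_rel i) (hfin' i) (hfin' (i + 1)) hk M

/-- **Local vanishing, at the level of `T^i(A)`**: if `T^i_L(κ(x)) = 0` then `T^i_L(A)_x = 0`. -/
theorem subsingleton_localizedModule_of_isZero_residue (x : PrimeSpectrum A) (i : ℤ)
    (h : IsZero ((TFun L i).obj (ModuleCat.of A x.asIdeal.ResidueField))) :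
    Subsingleton (LocalizedModule x.asIdeal.primeCompl (NN L i)) := by
  have h1 := isZero_bcCx_of_isZero_residue L hP hfin x i h
    (ModuleCat.of (Localization.AtPrime x.asIdeal) (Localization.AtPrime x.asIdeal))
  have h2 : IsZero ((TFun L i).obj (ModuleCat.of A (Localization.AtPrime x.asIdeal))) :=
    ((isZero_RB_iff (A := A) (Localization.AtPrime x.asIdeal) _).mpr h1).of_iso
      (((TFun L i).mapIso (rbIso (Localization.AtPrime x.asIdeal)
        (Localization.AtPrime x.asIdeal)).symm) ≪≫
        (compareIso (Localization.AtPrime x.asIdeal) L i _).symm)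
  haveI : Module.Flat A (ModuleCat.of A (Localization.AtPrime x.asIdeal)) :=
    inferInstanceAs (Module.Flat A (Localization.AtPrime x.asIdeal))
  have hb := tM_bijective_of_flat L i (ModuleCat.of A (Localization.AtPrime x.asIdeal))
  haveI : Subsingleton ((TFun L i).obj (ModuleCat.of A (Localization.AtPrime x.asIdeal))) :=
    ModuleCat.subsingleton_of_isZero h2
  have h3 : Subsingleton ((NN L i) ⊗[A] (Localization.AtPrime x.asIdeal)) :=
    (Equiv.ofBijective _ hb).subsingleton
  haveI : Subsingleton ((Localization.AtPrime x.asIdeal) ⊗[A] (NN L i)) :=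
    (TensorProduct.comm A _ _).toEquiv.subsingleton
  exact (LocalizedModule.equivTensorProduct x.asIdeal.primeCompl (NN L i)).toEquiv.subsingleton

/-- **Global vanishing**: if `T^i_L(κ(x)) = 0` for all primes `x` then `T^i_L = 0`. -/
theorem isZero_of_forall_isZero_residue (i : ℤ)
    (h : ∀ x : PrimeSpectrum A, IsZero ((TFun L i).obj (ModuleCat.of A x.asIdeal.ResidueField)))
    (M : ModuleCat.{u} A) : IsZero ((TFun L i).obj M) := by
  haveI := hfin (i + 1)
  have hloc := preservesEpi_locus L hP i (i + 1) (up_rel i)
  have huniv : Module.freeLocus A (Copc L (i + 1)) = Set.univ := by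
    rw [← hloc, Set.eq_univ_iff_forall]
    intro x
    exact preservesEpi_of_isZero_obj _ (isZero_bcCx_of_isZero_residue L hP hfin x i (h x))
  haveI : Module.Finite A (Copc L (i + 1)) := inferInstance
  haveI : Module.FinitePresentation A (Copc L (i + 1)) := Module.finitePresentation_of_finite A _
  haveI : Module.Projective A (Copc L (i + 1)) := Module.freeLocus_eq_univ_iff.mp huniv
  have hflat : Module.Flat A (Copc L (i + 1)) := inferInstance
  have he : (TFun L i).PreservesEpimorphisms :=
    (preservesEpi_iff L hP i (i + 1) (up_rel i)).mpr hflat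
  have h0 : Subsingleton (NN L i) := by
    rw [← Module.support_eq_empty_iff (R := A), Set.eq_empty_iff_forall_notMem]
    intro x
    rw [Module.notMem_support_iff]
    exact subsingleton_localizedModule_of_isZero_residue L hP hfin x i (h x)
  exact isZero_of_preservesEpi_of_subsingleton L hP i he h0 M

omit [IsNoetherianRing A] hfin in
/-- **Concentration in one degree**: if `T^{i0-1} = 0 = T^{i0+1}` then `T^{i0}(A)` is flat and
`dRank L i0 = fibRank (T^{i0}(A))`. -/
theorem of_concentrated (i0 : ℤ)
    (hup : ∀ M : ModuleCat.{u} A, IsZero ((TFun L (i0 + 1)).obj M))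
    (hdown : ∀ M : ModuleCat.{u} A, IsZero ((TFun L (i0 - 1)).obj M)) :
    Module.Flat A (NN L i0) ∧ ∀ x, dRank L i0 x = fibRank (NN L i0) x := by
  have he : (TFun L i0).PreservesEpimorphisms :=
    (preservesEpi_iff_preservesMono L hP i0 (i0 + 1) (up_rel i0)).mpr
      (preservesMono_of_isZero_obj _ hup)
  have hm : (TFun L i0).PreservesMonomorphisms :=
    (preservesEpi_iff_preservesMono L hP (i0 - 1) i0 (by simp)).mp
      (preservesEpi_of_isZero_obj _ hdown)
  exact ⟨flat_NN_of_exact L hP i0 he hm, fun x => dRank_eq_fibRank_of_preservesEpi L i0 hP he x⟩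

end Local

section Rank

/-- for a finite flat module, helper84's `fibRank` is Mathlib's `rankAtStalk` -/
theorem fibRank_eq_rankAtStalk (C : Type u) [AddCommGroup C] [Module A C] [Module.Finite A C]
    [Module.Flat A C] (x : PrimeSpectrum A) : fibRank C x = Module.rankAtStalk C x :=
  (Module.rankAtStalk_eq x).symm

end Rank

end Groth.Agent.Lib.FibreAlg21
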