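import Mathlib

/-!
# K2c: transfer of freeness/rank/flatness/vanishing along abstract localizations (helper21, Mathlib only)
-/

set_option autoImplicit false
set_option linter.style.haveILetI false
universe u

namespace Groth.Agent.Lib.FibreLoc21

variable {A : Type u} [CommRing A] (x : PrimeSpectrum A)
  (O : Type u) [CommRing O] [Algebra A O] [IsLocalization.AtPrime O x.asIdeal]
  (N : Type u) [AddCommGroup N] [Module A N]
  (G : Type u) [AddCommGroup G] [Module A G] [Module O G] [IsScalarTower A O G]
  (ℓ : N →ₗ[A] G) [IsLocalizedModule x.asIdeal.primeCompl ℓ]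

/-- the comparison with the standard localization is semilinear -/
theorem iso_smul (r : Localization.AtPrime x.asIdeal)
    (m : LocalizedModule x.asIdeal.primeCompl N) :
    IsLocalizedModule.iso x.asIdeal.primeCompl ℓ (r • m) =
      (IsLocalization.algEquiv x.asIdeal.primeCompl (Localization.AtPrime x.asIdeal) O) r •
        IsLocalizedModule.iso x.asIdeal.primeCompl ℓ m := by
  set σ := IsLocalization.algEquiv x.asIdeal.primeCompl (Localization.AtPrime x.asIdeal) O
  set j := IsLocalizedModule.iso x.asIdeal.primeCompl ℓ
  obtain ⟨a, s, rfl⟩ := IsLocalization.exists_mk'_eq x.asIdeal.primeCompl r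
  have hs : IsUnit (algebraMap A O (s : A)) := IsLocalization.map_units O s
  have h1 : (s : A) • (IsLocalization.mk' (Localization.AtPrime x.asIdeal) a s • m) = a • m := by
    rw [← smul_assoc, Algebra.smul_def, mul_comm, IsLocalization.mk'_spec, algebraMap_smul]
  have h2 : algebraMap A O (s : A) * σ (IsLocalization.mk' (Localization.AtPrime x.asIdeal) a s) =
      algebraMap A O a := by
    rw [← σ.commutes (s : A), ← map_mul, mul_comm, IsLocalization.mk'_spec, σ.commutes]
  have h3 : algebraMap A O (s : A) •
      j (IsLocalization.mk' (Localization.AtPrime x.asIdeal) a s • m) =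
      algebraMap A O (s : A) •
        (σ (IsLocalization.mk' (Localization.AtPrime x.asIdeal) a s) • j m) := by
    rw [algebraMap_smul, ← map_smul, h1, map_smul, smul_smul, h2, algebraMap_smul]
  exact hs.smul_left_cancel.mp h3

variable [Module.Finite A N] [Module.Flat A N]

include ℓ in
/-- **Freeness and rank of a localization of a finite flat module.** -/
theorem free_and_finrank :
    Module.Free O G ∧ Module.finrank O G = Module.rankAtStalk N x := by
  haveI : IsLocalRing O := IsLocalization.AtPrime.isLocalRing O x.asIdeal
  have hbc : IsBaseChange O ℓ := IsLocalizedModule.isBaseChange x.asIdeal.primeCompl O ℓ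
  haveI : Module.Flat O G := Module.Flat.isBaseChange A O N G hbc
  haveI : Module.Finite O G := Module.Finite.of_isLocalizedModule x.asIdeal.primeCompl ℓ
  refine ⟨Module.free_of_flat_of_isLocalRing, ?_⟩
  have h := rank_eq_of_equiv_equiv
    (IsLocalization.algEquiv x.asIdeal.primeCompl (Localization.AtPrime x.asIdeal) O)
    (IsLocalizedModule.iso x.asIdeal.primeCompl ℓ).toAddEquiv
    (IsLocalization.algEquiv x.asIdeal.primeCompl (Localization.AtPrime x.asIdeal) O).bijective
    (iso_smul x O N G ℓ)
  unfold Module.rankAtStalk Module.finrank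
  rw [h]

section Converse

variable {A : Type u} [CommRing A] (N : Type u) [AddCommGroup N] [Module A N]

/-- flatness can be checked on any family of localizations at all primes -/
theorem flat_of_forall_exists_isLocalizedModule
    (h : ∀ x : PrimeSpectrum A, ∃ (G : Type u) (_ : AddCommGroup G) (_ : Module A G)
      (ℓ : N →ₗ[A] G), IsLocalizedModule x.asIdeal.primeCompl ℓ ∧ Module.Flat A G) :
    Module.Flat A N := by
  refine Module.flat_of_localized_maximal N fun P hP => ?_
  obtain ⟨G, _, _, ℓ, hloc, hfl⟩ := h ⟨P, hP.isPrime⟩
  exact Module.Flat.of_linearEquiv (IsLocalizedModule.iso P.primeCompl ℓ)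

/-- vanishing can be checked on any family of localizations at all primes -/
theorem subsingleton_of_forall_exists_isLocalizedModule
    (h : ∀ x : PrimeSpectrum A, ∃ (G : Type u) (_ : AddCommGroup G) (_ : Module A G)
      (ℓ : N →ₗ[A] G), IsLocalizedModule x.asIdeal.primeCompl ℓ ∧ Subsingleton G) :
    Subsingleton N := by
  rw [← Module.support_eq_empty_iff (R := A), Set.eq_empty_iff_forall_notMem]
  intro x
  rw [Module.notMem_support_iff]
  obtain ⟨G, _, _, ℓ, hloc, hs⟩ := h x
  exact (IsLocalizedModule.iso x.asIdeal.primeCompl ℓ).toEquiv.subsingleton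

end Converse

end Groth.Agent.Lib.FibreLoc21
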