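import Groth.Agent.Lib.H90QCohLocalization
import Groth.Agent.Lib.H90OXModExact

/-!
# Stalk-local properties of coherent modules spread out to a neighbourhood (helper90)
-/

set_option autoImplicit false
universe u

open CategoryTheory CategoryTheory.Limits AlgebraicGeometry TopologicalSpace Opposite
open AlgebraicGeometry.Scheme AlgebraicGeometry.Scheme.Modules

namespace Groth.Agent.Lib.H90OXModStalkLocal

open Groth.Agent.Lib.H90QCohLocalization Groth.Agent.Lib.ModStalk

variable {X : Scheme.{u}}

/-- A finite type module with vanishing stalk at `x` vanishes on a neighbourhood of `x`. -/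
theorem exists_isZero_restrict_of_stalk (F : X.Modules) (hF : CohB1.IsFT F) (x : X)
    (h : Subsingleton ↑(F.presheaf.stalk x)) :
    ∃ U : X.Opens, x ∈ U ∧ IsZero ((Scheme.Modules.restrictFunctor U.ι).obj F) := by
  have hcl := isClosed_support_of_isFT F hF
  refine ⟨⟨(CohB1.support F)ᶜ, hcl.isOpen_compl⟩, fun hx => hx h, ?_⟩
  rw [isZero_restrict_iff]
  intro y hy hy'
  exact hy' hy

/-- If `φ_x` is injective then the stalk of `ker φ` at `x` vanishes. -/
theorem subsingleton_stalk_kernel {G F : X.Modules} (φ : G ⟶ F) (x : X)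
    (h : Function.Injective ((stalkFunctor x).map φ)) :
    Subsingleton ↑((kernel φ).presheaf.stalk x) := by
  have hι := stalk_injective_of_mono (kernel.ι φ) x
  have hz : (stalkFunctor x).map (kernel.ι φ) ≫ (stalkFunctor x).map φ = 0 := by
    rw [← Functor.map_comp, kernel.condition, Functor.map_zero]
  have h0 : ∀ k : ↑((kernel φ).presheaf.stalk x), (stalkFunctor x).map (kernel.ι φ) k = 0 := by
    intro k
    apply h
    have := congr($hz k)
    rw [map_zero]
    exact this
  exact ⟨fun a b => hι ((h0 a).trans (h0 b).symm)⟩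

/-- If `φ_x` is surjective then the stalk of `coker φ` at `x` vanishes. -/
theorem subsingleton_stalk_cokernel {G F : X.Modules} (φ : G ⟶ F) (x : X)
    (h : Function.Surjective ((stalkFunctor x).map φ)) :
    Subsingleton ↑((cokernel φ).presheaf.stalk x) := by
  have hπ := stalk_surjective_of_epi (cokernel.π φ) x
  have hz : (stalkFunctor x).map φ ≫ (stalkFunctor x).map (cokernel.π φ) = 0 := by
    rw [← Functor.map_comp, cokernel.condition, Functor.map_zero]
  have h0 : ∀ c : ↑((cokernel φ).presheaf.stalk x), c = 0 := by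
    intro c
    obtain ⟨g, rfl⟩ := hπ c
    obtain ⟨g', rfl⟩ := h g
    exact congr($hz g')
  exact ⟨fun a b => (h0 a).trans (h0 b).symm⟩

/-- Spreading out of vanishing / injectivity / bijectivity at a stalk for coherent modules on a
locally Noetherian scheme. -/
theorem stalk_local_properties [IsLocallyNoetherian X]
    (F G : X.Modules) (hF : Coh.IsCoh F) (hG : Coh.IsCoh G) (φ : G ⟶ F) (x : X) :
    (Subsingleton ↑(F.presheaf.stalk x) →
      ∃ U : X.Opens, x ∈ U ∧ IsZero ((Scheme.Modules.restrictFunctor U.ι).obj F)) ∧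
    (Function.Injective ((stalkFunctor x).map φ) →
      ∃ U : X.Opens, x ∈ U ∧ Mono ((Scheme.Modules.restrictFunctor U.ι).map φ)) ∧
    (Function.Bijective ((stalkFunctor x).map φ) →
      ∃ U : X.Opens, x ∈ U ∧ IsIso ((Scheme.Modules.restrictFunctor U.ι).map φ)) := by
  haveI : F.IsQuasicoherent := hF.1
  haveI : G.IsQuasicoherent := hG.1
  have hK : Coh.IsCoh (kernel φ) := Groth.Agent.Lib.H90OXModExact.isCoh_kernel φ hG
  have hC : Coh.IsCoh (cokernel φ) := Groth.Agent.Lib.H90OXModExact.isCoh_cokernel φ hF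
  refine ⟨fun h => exists_isZero_restrict_of_stalk F hF.2 x h, fun h => ?_, fun h => ?_⟩
  · obtain ⟨U, hxU, hU⟩ := exists_isZero_restrict_of_stalk _ hK.2 x (subsingleton_stalk_kernel φ x h)
    refine ⟨U, hxU, ?_⟩
    let R := Scheme.Modules.restrictFunctor U.ι
    exact Preadditive.mono_of_isZero_kernel _ (hU.of_iso (PreservesKernel.iso R φ).symm)
  · obtain ⟨U₁, hxU₁, hU₁⟩ :=
      exists_isZero_restrict_of_stalk _ hK.2 x (subsingleton_stalk_kernel φ x h.1)
    obtain ⟨U₂, hxU₂, hU₂⟩ :=
      exists_isZero_restrict_of_stalk _ hC.2 x (subsingleton_stalk_cokernel φ x h.2)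
    refine ⟨U₁ ⊓ U₂, ⟨hxU₁, hxU₂⟩, ?_⟩
    rw [isIso_restrict_map_iff]
    rw [isZero_restrict_iff] at hU₁ hU₂
    refine ⟨fun y hy hy' => hU₁ hy hy'.1, fun y hy hy' => hU₂ hy hy'.2⟩

end Groth.Agent.Lib.H90OXModStalkLocal
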