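import Groth.Agent.Lib.FibreStalk21
import Groth.Agent.Lib.FibreAlg21
import Groth.Agent.Lib.FibreLoc21
import Groth.Agent.Lib.LocFreeRank
import Groth.Agent.Lib.H90OXModStalkLocal
import Groth.Agent.S0018

/-!
# K2c: geometric consequences of the fibre dictionary (helper21)
-/

set_option autoImplicit false
set_option linter.style.haveILetI false
universe u

open CategoryTheory CategoryTheory.Limits AlgebraicGeometry Opposite CohIII

namespace Groth.Agent.Lib.FibreGeo21

open Groth.Agent.Lib.FibreOpen21 Groth.Agent.Lib.FibreStalk21 Groth.Agent.Lib.FibreAlg21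
  Groth.Agent.Lib.EndEquivH44 Groth.Agent.Lib.QCohStalk

section LocFree

open Groth.Agent.Lib.ModStalk Groth.Agent.Lib.ModStalkLin Groth.Agent.Lib.FreeModSch
  Groth.Agent.Lib.FreeModStalk Groth.Agent.Lib.LocFreeCrit Groth.Agent.Lib.RestrictStalk
  Groth.Agent.Lib.LocFreeFP Groth.Agent.Lib.LocFreeRank

variable {Y : Scheme.{u}}

/-- the rank of the stalks of a module which is free of rank `n` on an open -/
theorem finrank_stalk_of_restrict_iso {M : Y.Modules} (U : Y.Opens) {n : ℕ}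
    (e : M.restrict U.ι ≅ FlatMod.freeMod U n) (y : U) :
    Module.finrank (Y.presheaf.stalk y.1) (M.presheaf.stalk y.1) = n := by
  have h4 := finrank_restrict_eq U.ι M y
  have h5 : Module.finrank (U.toScheme.presheaf.stalk y)
      ((FlatMod.freeMod U.toScheme n).presheaf.stalk y) = n := by
    rw [Module.finrank_eq_card_basis (stalkBasis (X := U.toScheme) (n := n) y),
      Fintype.card_fin]
  rw [(stalkLinEquiv e y).finrank_eq, h5] at h4
  exact h4.symm

/-- **A finitely presented module with free stalk at `y` is free near `y`, of rank the rank of the stalk.** -/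
theorem exists_restrict_iso_freeMod (G : Y.Modules) (hG : CohB1.IsFP G) (y : Y)
    (hfree : Module.Free (Y.presheaf.stalk y) (G.presheaf.stalk y)) :
    ∃ U : Y.Opens, y ∈ U ∧ Nonempty (G.restrict U.ι ≅
      FlatMod.freeMod (↑U) (Module.finrank (Y.presheaf.stalk y) (G.presheaf.stalk y))) := by
  obtain ⟨n, hn⟩ := exists_locFreeAt_of_isFP_of_free G hG y hfree
  obtain ⟨U, hyU, ⟨e⟩⟩ := hn.exists_restrict_iso
  refine ⟨U, hyU, ?_⟩
  rw [finrank_stalk_of_restrict_iso U e ⟨y, hyU⟩]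
  exact ⟨e⟩

end LocFree

section Package

variable {X Y : Scheme.{u}} (f : X ⟶ Y) {V : Y.Opens}

/-- every prime of `A` is the prime of a point of `V` -/
theorem exists_xV_eq (hV : IsAffineOpen V) (x : PrimeSpectrum (AV V)) :
    ∃ (z : Y) (hz : z ∈ V.ι ''ᵁ ⊤), xV hV z hz = x := by
  refine ⟨((isAffineOpen_W hV).isoSpec.inv x).1, ((isAffineOpen_W hV).isoSpec.inv x).2, ?_⟩
  change (isAffineOpen_W hV).isoSpec.hom ((isAffineOpen_W hV).isoSpec.inv x) = x
  rw [← Scheme.Hom.comp_apply, Iso.inv_hom_id]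
  rfl

/-- the data provided by the fibre dictionary over the affine open `V` -/
structure Package [HasInjectiveResolutions X.Modules] (F : X.Modules) (hV : IsAffineOpen V)
    (L : CochainComplex (ModuleCat.{u} (AV V)) ℤ) : Prop where
  finite : ∀ i, Module.Finite (AV V) (L.X i)
  flat : ∀ i, Module.Flat (AV V) (L.X i)
  bdd : ∃ b : ℤ, ∀ i, b < i → IsZero (L.X i)
  neg : ∀ p : ℤ, p < 0 → ∀ M : ModuleCat.{u} (AV V), IsZero ((TFun L p).obj M)
  rank : ∀ (z : Y) (hz : z ∈ V.ι ''ᵁ ⊤) (p : ℕ),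
    CohIII.fiberRank f F p z = dRank L (p : ℤ) (xV hV z hz)
  vanish : ∀ (z : Y) (hz : z ∈ V.ι ''ᵁ ⊤) (p : ℕ),
    Subsingleton (CohIII.fiberH f F z p) ↔
      IsZero ((TFun L (p : ℤ)).obj (ModuleCat.of (AV V) (xV hV z hz).asIdeal.ResidueField))
  stalk : ∀ (z : Y) (hz : z ∈ V.ι ''ᵁ ⊤) (p : ℕ),
    letI := moduleStalkA ((Coh.Rpush f p).obj F) z hz
    ∃ ℓ : NN L (p : ℤ) →ₗ[AV V] ((Coh.Rpush f p).obj F).presheaf.stalk z,
      IsLocalizedModule (xV hV z hz).asIdeal.primeCompl ℓ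

theorem exists_package [IsProper f] [IsLocallyNoetherian Y] [HasInjectiveResolutions X.Modules]
    (F : X.Modules) (hF : Coh.IsCoh F) (hfl : FlatMod.IsFlatOver f F) (hV : IsAffineOpen V) :
    ∃ L : CochainComplex (ModuleCat.{u} (AV V)) ℤ, Package f F hV L := by
  obtain ⟨L, h1, h2, h3, h4, h5⟩ := exists_model_V f F hF hfl hV
  refine ⟨L, fun i => (h1 i).1, fun i => ?_, h2, h4, fun z hz p => (h5 z hz p).1,
    fun z hz p => (h5 z hz p).2, fun z hz p => ?_⟩
  · haveI := (h1 i).2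
    infer_instance
  · exact exists_isLocalizedModule_stalk f F hF hV L p (h3 p) z hz

namespace Package

variable {f} [HasInjectiveResolutions X.Modules] [IsLocallyNoetherian Y] {F : X.Modules}
  {hV : IsAffineOpen V} {L : CochainComplex (ModuleCat.{u} (AV V)) ℤ}

theorem finite_NN (P : Package f F hV L) (p : ℤ) : Module.Finite (AV V) (NN L p) := by
  haveI := isNoetherianRing_AV hV
  haveI : Module.Finite (AV V) (ModuleCat.of (AV V) (AV V)) :=
    inferInstanceAs (Module.Finite (AV V) (AV V))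
  exact Groth.Agent.Lib.TFun.finite_TFun_obj L p (P.finite p) _

omit [IsLocallyNoetherian Y] in
/-- vanishing of the localization gives vanishing of the stalk -/
theorem subsingleton_stalk (P : Package f F hV L) (z : Y) (hz : z ∈ V.ι ''ᵁ ⊤) (p : ℕ)
    (h : Subsingleton (LocalizedModule (xV hV z hz).asIdeal.primeCompl (NN L (p : ℤ)))) :
    Subsingleton (((Coh.Rpush f p).obj F).presheaf.stalk z) := by
  letI := moduleStalkA ((Coh.Rpush f p).obj F) z hz
  obtain ⟨ℓ, hℓ⟩ := P.stalk z hz p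
  exact (IsLocalizedModule.iso (xV hV z hz).asIdeal.primeCompl ℓ).symm.toEquiv.subsingleton

/-- flatness of `T^p(A)` gives freeness of the stalk, with rank the fibre rank of `T^p(A)` -/
theorem free_stalk (P : Package f F hV L) (z : Y) (hz : z ∈ V.ι ''ᵁ ⊤) (p : ℕ)
    (hfl : Module.Flat (AV V) (NN L (p : ℤ))) :
    Module.Free (Y.presheaf.stalk z) (((Coh.Rpush f p).obj F).presheaf.stalk z) ∧
      Module.finrank (Y.presheaf.stalk z) (((Coh.Rpush f p).obj F).presheaf.stalk z) =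
        Groth.Agent.Lib.TFunRank.fibRank (NN L (p : ℤ)) (xV hV z hz) := by
  letI := moduleStalkA ((Coh.Rpush f p).obj F) z hz
  letI : Algebra (AV V) (Y.presheaf.stalk z) :=
    Y.presheaf.algebra_section_stalk (U := V.ι ''ᵁ ⊤) ⟨z, hz⟩
  haveI : IsLocalization.AtPrime (Y.presheaf.stalk z) (xV hV z hz).asIdeal :=
    (isAffineOpen_W hV).isLocalization_stalk ⟨z, hz⟩
  haveI : IsScalarTower (AV V) (Y.presheaf.stalk z)
      (((Coh.Rpush f p).obj F).presheaf.stalk z) :=
    isScalarTower_sectionStalk ((Coh.Rpush f p).obj F) (U := V.ι ''ᵁ ⊤) ⟨z, hz⟩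
  haveI := P.finite_NN (p : ℤ)
  obtain ⟨ℓ, hℓ⟩ := P.stalk z hz p
  have h := Groth.Agent.Lib.FibreLoc21.free_and_finrank (xV hV z hz) (Y.presheaf.stalk z)
    (NN L (p : ℤ)) (((Coh.Rpush f p).obj F).presheaf.stalk z) ℓ
  rw [fibRank_eq_rankAtStalk]
  exact h

/-- flatness of all stalks over `V` gives flatness of `T^p(A)` -/
theorem flat_NN_of_flat_stalks (P : Package f F hV L) (p : ℕ)
    (h : ∀ (z : Y) (_ : z ∈ V.ι ''ᵁ ⊤), Module.Flat (Y.presheaf.stalk z)
      (((Coh.Rpush f p).obj F).presheaf.stalk z)) :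
    Module.Flat (AV V) (NN L (p : ℤ)) := by
  refine Groth.Agent.Lib.FibreLoc21.flat_of_forall_exists_isLocalizedModule (NN L (p : ℤ))
    fun x => ?_
  obtain ⟨z, hz, rfl⟩ := exists_xV_eq hV x
  letI := moduleStalkA ((Coh.Rpush f p).obj F) z hz
  obtain ⟨ℓ, hℓ⟩ := P.stalk z hz p
  refine ⟨((Coh.Rpush f p).obj F).presheaf.stalk z, inferInstance,
    moduleStalkA ((Coh.Rpush f p).obj F) z hz, ℓ, hℓ, ?_⟩
  letI : Algebra (AV V) (Y.presheaf.stalk z) :=
    Y.presheaf.algebra_section_stalk (U := V.ι ''ᵁ ⊤) ⟨z, hz⟩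
  haveI : IsLocalization.AtPrime (Y.presheaf.stalk z) (xV hV z hz).asIdeal :=
    (isAffineOpen_W hV).isLocalization_stalk ⟨z, hz⟩
  haveI : IsScalarTower (AV V) (Y.presheaf.stalk z)
      (((Coh.Rpush f p).obj F).presheaf.stalk z) :=
    isScalarTower_sectionStalk ((Coh.Rpush f p).obj F) (U := V.ι ''ᵁ ⊤) ⟨z, hz⟩
  haveI : Module.Flat (AV V) (Y.presheaf.stalk z) :=
    IsLocalization.flat (Y.presheaf.stalk z) (xV hV z hz).asIdeal.primeCompl
  haveI := h z hz
  exact Module.Flat.trans (AV V) (Y.presheaf.stalk z) _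

omit [IsLocallyNoetherian Y] in
/-- vanishing of all stalks over `V` gives vanishing of `T^p(A)` -/
theorem subsingleton_NN_of_stalks (P : Package f F hV L) (p : ℕ)
    (h : ∀ (z : Y) (_ : z ∈ V.ι ''ᵁ ⊤),
      Subsingleton (((Coh.Rpush f p).obj F).presheaf.stalk z)) :
    Subsingleton (NN L (p : ℤ)) := by
  refine Groth.Agent.Lib.FibreLoc21.subsingleton_of_forall_exists_isLocalizedModule
    (A := AV V) (NN L (p : ℤ)) fun x => ?_
  obtain ⟨z, hz, rfl⟩ := exists_xV_eq hV x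
  letI := moduleStalkA ((Coh.Rpush f p).obj F) z hz
  obtain ⟨ℓ, hℓ⟩ := P.stalk z hz p
  exact ⟨((Coh.Rpush f p).obj F).presheaf.stalk z, inferInstance,
    moduleStalkA ((Coh.Rpush f p).obj F) z hz, ℓ, hℓ, h z hz⟩

end Package

end Package

end Groth.Agent.Lib.FibreGeo21
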