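import Groth.Agent.Lib.InvEngineB
import Groth.Agent.Lib.FibreGeo21
import Groth.Agent.Lib.CurveVB67A
import Groth.Agent.Lib.FinLocFree
import Groth.Agent.Lib.CohFinAmple
import Groth.Agent.Lib.CurveDeg48c

/-!
# A generic trivialisation of a coherent module on an integral Noetherian scheme (helper10)

`X` integral Noetherian, `F` coherent of generic rank `r` (the dimension of the stalk at the generic
point over the function field).  Then there are a coherent `G` and maps `a : G ⟶ O_X^r`, `b : G ⟶ F`
which are isomorphisms over a nonempty open `U`: kernels and cokernels of `a`, `b` are supported on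
the proper closed subset `X ∖ U` (`exists_generic_model`).
-/

set_option autoImplicit false
set_option linter.style.haveILetI false
universe u
open CategoryTheory CategoryTheory.Limits AlgebraicGeometry Opposite TopologicalSpace

namespace Groth.Agent.Lib.CohRankModel

open Scheme.Modules

theorem exists_generic_model (X : Scheme.{u}) [IsIntegral X] [IsNoetherian X] (F : X.Modules)
    (hF : Coh.IsCoh F) (r : ℕ)
    (hr : Module.finrank (X.presheaf.stalk (genericPoint X)) (F.presheaf.stalk (genericPoint X)) = r) :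
    ∃ (G : X.Modules) (a : G ⟶ FlatMod.freeMod X r) (b : G ⟶ F) (U : X.Opens),
      Coh.IsCoh G ∧ (U : Set X).Nonempty ∧
      CohB1.support (kernel a) ⊆ (U : Set X)ᶜ ∧ CohB1.support (cokernel a) ⊆ (U : Set X)ᶜ ∧
      CohB1.support (kernel b) ⊆ (U : Set X)ᶜ ∧ CohB1.support (cokernel b) ⊆ (U : Set X)ᶜ := by
  have hFP : CohB1.IsFP F := Groth.Agent.Lib.CurveVB67.isFP_of_isCoh hF
  letI : Field (X.presheaf.stalk (genericPoint X)) := (inferInstance : Field X.functionField)
  have hfree : Module.Free (X.presheaf.stalk (genericPoint X)) (F.presheaf.stalk (genericPoint X)) :=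
    Module.Free.of_divisionRing _ _
  obtain ⟨U, hξU, ⟨e⟩⟩ :=
    Groth.Agent.Lib.FibreGeo21.exists_restrict_iso_freeMod F hFP (genericPoint X) hfree
  rw [hr] at e
  have hUne : (U : Set X).Nonempty := ⟨genericPoint X, hξU⟩
  let R := restrictFunctor U.ι
  let O := FlatMod.freeMod X r
  let u : R.obj O ≅ FlatMod.freeMod (↑U : Scheme.{u}) r :=
    Groth.Agent.Lib.FinLocFree.restrictFreeModIso U.ι r
  have hO : Coh.IsCoh O :=
    Groth.Agent.Lib.CurveDeg48.isCoh_pw r (Groth.Agent.Lib.CohFinAmple.isCoh_structureModule X)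
  have hcohF : Coh.IsCoh (F ⊞ O) := Groth.Agent.Lib.H90CohCenter.isCoh_biprod hF hO
  haveI : (F ⊞ O).IsQuasicoherent := hcohF.1
  -- the graph of the trivialisation over `U`
  let i : FlatMod.freeMod (↑U : Scheme.{u}) r ⟶ (F ⊞ O).restrict U.ι :=
    e.inv ≫ R.map biprod.inl + u.inv ≫ R.map biprod.inr
  have hi_fst : i ≫ R.map biprod.fst = e.inv := by
    simp only [i, Preadditive.add_comp, Category.assoc, ← Functor.map_comp, biprod.inl_fst,
      biprod.inr_fst, Functor.map_zero, comp_zero, add_zero]
    rw [R.map_id, Category.comp_id]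
  have hi_snd : i ≫ R.map biprod.snd = u.inv := by
    simp only [i, Preadditive.add_comp, Category.assoc, ← Functor.map_comp, biprod.inl_snd,
      biprod.inr_snd, Functor.map_zero, comp_zero, zero_add]
    rw [R.map_id, Category.comp_id]
  haveI : Mono i := by
    haveI : Mono (i ≫ R.map biprod.snd) := by rw [hi_snd]; infer_instance
    exact mono_of_mono i (R.map biprod.snd)
  have hcohU : Coh.IsCoh (FlatMod.freeMod (↑U : Scheme.{u}) r) :=
    Groth.Agent.Lib.CurveDeg48.isCoh_pw r (Groth.Agent.Lib.CohFinAmple.isCoh_structureModule _)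
  haveI : (FlatMod.freeMod (↑U : Scheme.{u}) r).IsQuasicoherent := hcohU.1
  have hX : ∀ x : X, ∃ V : X.Opens, x ∈ V ∧ NoetherianSpace (V : Set X) :=
    fun x => ⟨⊤, trivial, inferInstance⟩
  obtain ⟨G, i', ε, hmono, hq, hft, hcompat⟩ :=
    Groth.Agent.Lib.H90LocNoeth.exists_finiteType_extension hX U (F ⊞ O) i hcohU.2
  have hRa : R.map (i' ≫ biprod.snd) = ε.hom ≫ u.inv := by
    rw [R.map_comp, ← hcompat, Category.assoc, hi_snd]
  have hRb : R.map (i' ≫ biprod.fst) = ε.hom ≫ e.inv := by
    rw [R.map_comp, ← hcompat, Category.assoc, hi_fst]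
  have isoA : IsIso (R.map (i' ≫ biprod.snd)) := by rw [hRa]; infer_instance
  have isoB : IsIso (R.map (i' ≫ biprod.fst)) := by rw [hRb]; infer_instance
  have hsA := (Groth.Agent.Lib.H90QCohLocalization.isIso_restrict_map_iff (i' ≫ biprod.snd) U).mp isoA
  have hsB := (Groth.Agent.Lib.H90QCohLocalization.isIso_restrict_map_iff (i' ≫ biprod.fst) U).mp isoB
  exact ⟨G, i' ≫ biprod.snd, i' ≫ biprod.fst, U, ⟨hq, hft⟩, hUne, hsA.1, hsA.2, hsB.1, hsB.2⟩

end Groth.Agent.Lib.CohRankModel
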