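import Mathlib
import Groth.Agent.Lib.H90LocNoeth

/-!
# Finite type quasi-coherent subsheaves through a given section
-/

set_option autoImplicit false
universe u

open AlgebraicGeometry CategoryTheory TopologicalSpace
open Groth.Agent.Lib.QCohStalk Groth.Agent.Lib.H90SubSh Groth.Agent.Lib.H90OXModExt

namespace Groth.Agent.Lib.H90QCohSection

variable {X : Scheme.{u}}

set_option backward.isDefEq.respectTransparency false in
/-- On an affine scheme, the subsheaf generated by a global section, as a coherent module. -/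
theorem exists_coh_through_section {Y : Scheme.{u}} [IsAffine Y] (M : Y.Modules) [M.IsQuasicoherent]
    (s : Γ(M, ⊤)) :
    ∃ (G : Y.Modules) (i : G ⟶ M), Mono i ∧ G.IsQuasicoherent ∧ CohB1.IsFT G ∧
      ∃ g : Γ(G, ⊤), i.app ⊤ g = s := by
  have hV : IsAffineOpen (⊤ : Y.Opens) := isAffineOpen_top Y
  let N : Submodule Γ(Y, ⊤) Γ(M, ⊤) := Submodule.span _ {s}
  have hN : N.FG := Submodule.fg_span_singleton s
  let T : SubSh M := SubSh.gen N
  have h1 : Y.basicOpen (1 : Γ(Y, ⊤)) = ⊤ := Y.basicOpen_of_isUnit isUnit_one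
  have hcoh : Coh.IsCoh T.toModules := by
    refine T.isCoh_toModules (fun _ : PUnit.{u+1} => Y.basicOpen (1 : Γ(Y, ⊤))) ?_ ?_ ?_ ?_
    · rw [h1]; exact ciSup_const
    · intro _; rw [h1]; exact hV
    · intro _; exact SubSh.isQCohOn_gen_basicOpen hV N 1
    · intro _
      rw [SubSh.gen_obj_basicOpen hV N 1]
      exact SubSh.spanRes_fg N hN _
  refine ⟨T.toModules, T.ι, inferInstance, hcoh.1, hcoh.2, ?_⟩
  exact (T.mem_range_ι ⊤ s).mpr (SubSh.le_gen N (Submodule.mem_span_singleton_self s))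

set_option backward.isDefEq.respectTransparency false in
/-- If finite type quasi-coherent subsheaves of `F|_U` extend to `F` (`U` affine), then every section
of `F` over `U` lies in a finite type quasi-coherent subsheaf of `F`. -/
theorem exists_subsheaf_through_section (F : X.Modules) [F.IsQuasicoherent]
    {U : X.Opens} (hU : IsAffineOpen U) (s : Γ(F, U))
    (H : ∀ (G : (U : Scheme.{u}).Modules) (i : G ⟶ F.restrict U.ι) [Mono i] [G.IsQuasicoherent]
      (_ : CohB1.IsFT G), ∃ (G' : X.Modules) (i' : G' ⟶ F) (e : G'.restrict U.ι ≅ G), Mono i' ∧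
        G'.IsQuasicoherent ∧ CohB1.IsFT G' ∧
        e.hom ≫ i = (Scheme.Modules.restrictFunctor U.ι).map i') :
    ∃ (G' : X.Modules) (i' : G' ⟶ F), Mono i' ∧ G'.IsQuasicoherent ∧ CohB1.IsFT G' ∧
      ∃ g : Γ(G', U), i'.app U g = s := by
  haveI : IsAffine (U : Scheme.{u}) := hU
  have htop : U.ι ''ᵁ ⊤ = U := U.ι_image_top
  let s' : Γ(F.restrict U.ι, ⊤) := res F htop.le s
  obtain ⟨G, i, hi, hq, hft, g₀, hg₀⟩ := exists_coh_through_section (F.restrict U.ι) s'
  obtain ⟨G', i', e, hi', hq', hft', hcomp⟩ := H G i hft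
  refine ⟨G', i', hi', hq', hft', ?_⟩
  let g₁ : Γ(G', U.ι ''ᵁ ⊤) := e.inv.app ⊤ g₀
  have h1 : i'.app (U.ι ''ᵁ ⊤) g₁ = s' := by
    have h2 : ((Scheme.Modules.restrictFunctor U.ι).map i').app ⊤ (e.inv.app ⊤ g₀) = s' := by
      rw [← hcomp, ← hg₀]
      change i.app ⊤ (e.hom.app ⊤ (e.inv.app ⊤ g₀)) = _
      congr 1
      change (e.inv ≫ e.hom).app ⊤ g₀ = g₀
      rw [e.inv_hom_id]
      rfl
    exact h2
  refine ⟨res G' htop.ge g₁, ?_⟩
  rw [app_res, h1]
  change res F htop.ge (res F htop.le s) = s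
  rw [res_res, res_self]

end Groth.Agent.Lib.H90QCohSection
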