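import Groth.Agent.S0043
import Groth.Agent.S10848
import Groth.Agent.Lib.CohFinAmple
import Groth.Agent.Lib.H78Restrict
import Groth.Agent.Lib.CohLocal
import Groth.Agent.Lib.H90QCohSection
import Groth.Agent.Lib.IdealMod
import Groth.Agent.Lib.CohVanAmple
import Groth.Agent.Lib.H90CohRestrict

/-!
# Arbitrary direct sums of negative powers of an ample module (helper48)

* `subsingleton_H_sigma_family`, `subsingleton_HH_sigma_family` : on a qcqs scheme, `H^p` of an arbitrary coproduct vanishes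
  if `H^p` of every summand does (cohomology commutes with filtered colimits, lead's `FiltColimTop`);
* `epi_sigma_subsheaves` : a quasi-coherent module on a qcqs scheme is a quotient of a coproduct of finite type
  quasi-coherent submodules;
* `exists_epi_sigma_negPow` : `L` ample with inverse `L'`: every quasi-coherent `M` is a quotient of
  `∐_j L'^{⊗ m_j}` with all `m_j ≥ n₀`;
* `isQuasicoherent_sigma_pow` : such coproducts are quasi-coherent;
* `subsingleton_HH_of_ample_qcoh` : if `H^p(X, L'^{⊗m}) = 0` for all `p > 0`, `m ≥ n₀`, then `H^p(X, M) = 0` for every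
  quasi-coherent `M` and every `p > 0`.
-/

set_option autoImplicit false
universe u
open CategoryTheory CategoryTheory.Limits AlgebraicGeometry Opposite TopologicalSpace CohB1
open Groth.Agent.Lib.OXModTensor Groth.Agent.Lib.CohFinAmple Groth.Agent.Lib.CohLES
open Groth.Agent.Lib.FiltColimTop

namespace Groth.Agent.Lib.CohSigmaNeg

/-- On a qcqs space, `H^p` of an arbitrary coproduct vanishes if `H^p` of each summand does. -/
theorem subsingleton_H_sigma_family {X : TopCat.{u}} [CompactSpace X] [QuasiSeparatedSpace X]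
    (hb : Opens.IsBasis (qc X)) {ι : Type u} (A : ι → CohTop.Ab X) (p : ℕ)
    (hA : ∀ j, Subsingleton (Sheaf.H (A j) p)) : Subsingleton (Sheaf.H (∐ A) p) := by
  refine subsingleton_of_forall_eq 0 fun x => ?_
  obtain ⟨S, y, rfl⟩ := H_surj hb _ _
    (CoproductsFromFiniteFiltered.isColimitFiniteSubproductsCocone A) p x
  have : Subsingleton (Sheaf.H ((CoproductsFromFiniteFiltered.liftToFinsetObj
      (Discrete.functor A)).obj S) p) :=
    Groth.Agent.S0043.subsingleton_ext_sigma _ _ p (fun j => hA _)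
  rw [Subsingleton.elim y 0, map_zero]
  rfl

variable {X : Scheme.{u}}

/-- On a qcqs scheme, `H^p` of an arbitrary coproduct of modules vanishes if `H^p` of each summand does. -/
theorem subsingleton_HH_sigma_family [CompactSpace X] [QuasiSeparatedSpace X] {ι : Type u}
    (P : ι → X.Modules) (p : ℕ) (h : ∀ j, Subsingleton (Coh.HH X (P j) p)) :
    Subsingleton (Coh.HH X (∐ P) p) := by
  let e : Coh.toAb (∐ P) ≅ ∐ fun j => Coh.toAb (P j) :=
    PreservesCoproduct.iso (SheafOfModules.toSheaf X.ringCatSheaf) P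
  haveI : CompactSpace X.toTopCat := ‹CompactSpace X›
  haveI : QuasiSeparatedSpace X.toTopCat := ‹QuasiSeparatedSpace X›
  have : Subsingleton (Sheaf.H (∐ fun j => Coh.toAb (P j)) p) :=
    subsingleton_H_sigma_family (X := X.toTopCat) (Groth.Agent.S0043.isBasis_qc X) _ p h
  exact Groth.Agent.S0043.subsingleton_H_of_iso (X := X.toTopCat) e p this

/-- A quasi-coherent module on a qcqs scheme is a quotient of a coproduct of finite type quasi-coherent
submodules. -/
theorem epi_sigma_subsheaves [CompactSpace X] [QuasiSeparatedSpace X] (M : X.Modules)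
    [M.IsQuasicoherent] :
    ∃ (J : Type u) (G : J → X.Modules) (i : ∀ j, G j ⟶ M),
      (∀ j, Coh.IsCoh (G j)) ∧ Epi (Sigma.desc i) := by
  classical
  let J : Type u := Σ U : X.affineOpens, Γ(M, U.1)
  have hsub : ∀ a : J, ∃ (G' : X.Modules) (i' : G' ⟶ M),
      Mono i' ∧ G'.IsQuasicoherent ∧ CohB1.IsFT G' ∧ ∃ g : Γ(G', a.1.1), i'.app a.1.1 g = a.2 := by
    intro a
    refine Groth.Agent.Lib.H90QCohSection.exists_subsheaf_through_section M a.1.2 a.2 ?_
    intro G i _ _ hG
    exact Groth.Agent.S10848.result a.1.1 a.1.2.isCompact M G hG i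
  choose G iG _ hGq hGft g hg using hsub
  refine ⟨J, G, iG, fun a => ⟨hGq a, hGft a⟩, ?_⟩
  refine Groth.Agent.Lib.IdealMod.epi_of_locally_surjective _ ?_
  intro U s x hx
  obtain ⟨V, hV, hxV, hVU⟩ := Opens.isBasis_iff_nbhd.1 X.isBasis_affineOpens hx
  let a : J := ⟨⟨V, hV⟩, M.val.map (homOfLE hVU).op s⟩
  refine ⟨V, hVU, hxV, (Sigma.ι G a).val.app (op V) (g a), ?_⟩
  have h1 : Sigma.ι G a ≫ Sigma.desc iG = iG a := Sigma.ι_desc _ _
  have h2 := congrArg (fun φ : G a ⟶ M => φ.val.app (op V) (g a)) h1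
  exact h2.trans (hg a)

/-- `L` ample with inverse `L'`: every quasi-coherent module is a quotient of a coproduct of powers
`L'^{⊗ m_j}` with all exponents `m_j ≥ n₀`. -/
theorem exists_epi_sigma_negPow {L L' : X.Modules} (hL : CohB1.IsAmple L)
    (e : tensorMod L L' ≅ Coh.structureModule X) (n₀ : ℕ) (M : X.Modules) [M.IsQuasicoherent] :
    ∃ (J : Type u) (m : J → ℕ) (q : (∐ fun j => tensorPow L' (m j)) ⟶ M),
      (∀ j, n₀ ≤ m j) ∧ Epi q := by
  classical
  haveI : CompactSpace X := hL.2.1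
  haveI := Groth.Agent.Lib.H78AmpleBasis.quasiSeparatedSpace_of_isAmple hL
  obtain ⟨J, G, i, hG, hσ⟩ := epi_sigma_subsheaves M
  have hq : ∀ j : J, ∃ (m : ℕ) (K : Type u) (q : (∐ fun _ : K => tensorPow L' m) ⟶ G j),
      n₀ ≤ m ∧ Epi q := by
    intro j
    obtain ⟨m₁, hm⟩ := exists_finite_epi_sigma_pow hL e (G j) (hG j)
    obtain ⟨K, _, q, hq⟩ := hm (max m₁ n₀) (le_max_left _ _)
    exact ⟨max m₁ n₀, K, q, le_max_right _ _, hq⟩
  choose m K q hm hq using hq
  let J' : Type u := Σ j : J, K j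
  let P : J' → X.Modules := fun a => tensorPow L' (m a.1)
  let Q : (∐ P) ⟶ M := Sigma.desc (fun a : J' =>
    (Sigma.ι (fun _ : K a.1 => tensorPow L' (m a.1)) a.2 : tensorPow L' (m a.1) ⟶ _) ≫ q a.1 ≫ i a.1)
  refine ⟨J', fun a => m a.1, Q, fun a => hm a.1, ⟨fun {T} a b hab => ?_⟩⟩
  haveI := hσ
  rw [← cancel_epi (Sigma.desc i)]
  refine Sigma.hom_ext _ _ fun j => ?_
  rw [Sigma.ι_desc_assoc, Sigma.ι_desc_assoc]
  haveI := hq j
  rw [← cancel_epi (q j)]
  refine Sigma.hom_ext _ _ fun k => ?_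
  have h1 : Sigma.ι P ⟨j, k⟩ ≫ Q =
      (Sigma.ι (fun _ : K j => tensorPow L' (m j)) k : tensorPow L' (m j) ⟶ _) ≫ q j ≫ i j :=
    Sigma.ι_desc _ _
  have h2 := congrArg (fun φ => Sigma.ι P ⟨j, k⟩ ≫ φ) hab
  simp only [← Category.assoc] at h2
  rw [h1] at h2
  simpa only [Category.assoc] using h2

/-- A coproduct of tensor powers of an invertible module is quasi-coherent. -/
theorem isQuasicoherent_sigma_pow {L' : X.Modules} (hL' : PicF.IsInvertible L') {J : Type u}
    (m : J → ℕ) : (∐ fun j => tensorPow L' (m j)).IsQuasicoherent := by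
  refine Groth.Agent.Lib.CohLocal.isQuasicoherent_of_forall_restrict_opens _ fun x => ?_
  obtain ⟨V, hxV, ⟨t⟩⟩ := hL' x
  refine ⟨V, hxV, ?_⟩
  let P : J → X.Modules := fun j => tensorPow L' (m j)
  let e1 : (∐ P).restrict V.ι ≅ ∐ fun j => (P j).restrict V.ι :=
    PreservesCoproduct.iso (Scheme.Modules.restrictFunctor V.ι) P
  let e2 : (∐ fun j => (P j).restrict V.ι) ≅ ∐ fun _ : J => Coh.structureModule (↑V) :=
    Sigma.mapIso fun j => Groth.Agent.Lib.H78Restrict.restrictTensorPowIso V.ι L' (m j) ≪≫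
      tensorPowIso t (m j) ≪≫ tensorPowUnit (m j)
  haveI : (SheafOfModules.free J : (V : Scheme.{u}).Modules).IsQuasicoherent := inferInstance
  have h : (∐ fun _ : J => Coh.structureModule (↑V)).IsQuasicoherent :=
    inferInstanceAs (SheafOfModules.free J : (V : Scheme.{u}).Modules).IsQuasicoherent
  exact Groth.Agent.Lib.H90CohRestrict.isQuasicoherent_of_iso (e1 ≪≫ e2).symm

/-- **Vanishing from negative powers, quasi-coherent version.** `L` ample with inverse `L'`; if
`H^p(X, L'^{⊗ m}) = 0` for all `p > 0` and `m ≥ n₀`, then `H^p(X, M) = 0` for every quasi-coherent `M`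
and every `p > 0`. -/
theorem subsingleton_HH_of_ample_qcoh {L L' : X.Modules} (hL : CohB1.IsAmple L)
    (e : tensorMod L L' ≅ Coh.structureModule X) (n₀ : ℕ)
    (h : ∀ n : ℕ, n₀ ≤ n → ∀ p : ℕ, 0 < p → Subsingleton (Coh.HH X (tensorPow L' n) p))
    (M : X.Modules) (hM : M.IsQuasicoherent) (p : ℕ) (hp : 0 < p) : Subsingleton (Coh.HH X M p) := by
  haveI : CompactSpace X := hL.2.1
  haveI := Groth.Agent.Lib.H78AmpleBasis.quasiSeparatedSpace_of_isAmple hL
  have hL' : PicF.IsInvertible L' :=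
    Groth.Agent.Lib.CohVanAmple.isInvertible_of_inverse (braiding L' L ≪≫ e) hL.1
  obtain ⟨d, hd⟩ := Groth.Agent.S0016.result X
  suffices claim : ∀ k p : ℕ, 0 < p → d ≤ p + k → ∀ M : X.Modules, M.IsQuasicoherent →
      Subsingleton (Coh.HH X M p) from claim d p hp (Nat.le_add_left d p) M hM
  intro k
  induction k with
  | zero =>
    intro p _ hdp M hM
    exact hd M hM p (by omega)
  | succ k ih =>
    intro p hp hdp M hM
    haveI := hM
    obtain ⟨J, m, q, hm, hq⟩ := exists_epi_sigma_negPow hL e n₀ M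
    haveI := isQuasicoherent_sigma_pow hL' m
    let S : ShortComplex X.Modules := ShortComplex.mk (kernel.ι q) q (kernel.condition q)
    have hS : S.ShortExact :=
      { exact := ShortComplex.exact_kernel q
        mono_f := equalizer.ι_mono
        epi_g := hq }
    haveI h2 : Subsingleton (Coh.HH X S.X₂ p) :=
      subsingleton_HH_sigma_family _ p (fun j => h (m j) (hm j) p hp)
    haveI h1 : Subsingleton (Coh.HH X S.X₁ (p + 1)) :=
      ih (p + 1) (by omega) (by omega) _ (Groth.Agent.Lib.QCohKernel13.isQuasicoherent_kernel q)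
    exact Groth.Agent.Lib.CohLES.subsingleton_right hS p

end Groth.Agent.Lib.CohSigmaNeg
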