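import Groth.Agent.Lib.CohTwistCompare
import Groth.Prelude.Def_W4c5asymptcohfnACF

/-!
# Cohomology of `L_1^{a_1} ⊗ ⋯ ⊗ L_r^{a_r}`, `a ∈ ℤ^r`: growth and Lipschitz estimates (helper10)

`X` integral, proper over a field `k`, `dim X ≤ n`; `L_j` invertible with inverses `M_j`.  For `a ∈ ℤ^r`
let `zc a` be the class of `⊗ L_j^{a_j⁺} ⊗ ⊗ M_j^{a_j⁻}` (the class of `W4c5asymptcohfn.ztwist X L M a`),
`hZ i a = dim_k H^i(X, zc a)` and `l1 a = Σ |a_j|`.  Then
* `exists_growth` : `hZ i a ≤ C * (l1 a + 1) ^ n`;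
* `exists_lipschitz` : `|hZ i a - hZ i b| ≤ l1 (a - b) * (D * g n (l1 a + l1 (a - b)))`
  (`g 0 m = 0`, `g (n + 1) m = (m + 1) ^ n`).
-/

set_option autoImplicit false
universe u
open CategoryTheory CategoryTheory.Limits AlgebraicGeometry CohB1
open Groth.Agent.Lib.OXModTensor
open Groth.Agent.Lib.IsoCls13 Groth.Agent.Lib.CohGrowthMulti Groth.Agent.Lib.CohGrowthHH
open Groth.Agent.Lib.CohGrowthMultiHH Groth.Agent.Lib.CohTwistCompare
open Groth.Agent.Lib.CohGrowth (g g_mono)

namespace Groth.Agent.Lib.CohTwistLattice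

section Monoid

variable {A : Type*} [CommMonoid A] {r : ℕ} (lam mu : Fin r → A)

/-- `∏ λ_j^{a_j⁺} * ∏ μ_j^{a_j⁻}` -/
def zc (a : Fin r → ℤ) : A :=
  (∏ j, lam j ^ (a j).toNat) * (∏ j, mu j ^ (-(a j)).toNat)

variable (h : ∀ j, lam j * mu j = 1)

/-- `λ_j` as a unit -/
def lu (j : Fin r) : Aˣ := ⟨lam j, mu j, h j, by rw [mul_comm]; exact h j⟩

/-- `∏ λ_j^{a_j}` in the group of units -/
def zu (a : Fin r → ℤ) : Aˣ := ∏ j, lu lam mu h j ^ (a j)

theorem coe_zpow (u : Aˣ) (z : ℤ) :
    ((u ^ z : Aˣ) : A) = (u : A) ^ z.toNat * ((u⁻¹ : Aˣ) : A) ^ (-z).toNat := by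
  obtain ⟨m, rfl | rfl⟩ := z.eq_nat_or_neg
  · have h0 : (-(m : ℤ)).toNat = 0 := by
      rw [Int.toNat_eq_zero]; omega
    rw [h0, Int.toNat_natCast, pow_zero, mul_one, zpow_natCast, Units.val_pow_eq_pow_val]
  · have h0 : (-(m : ℤ)).toNat = 0 := by
      rw [Int.toNat_eq_zero]; omega
    rw [h0, neg_neg, Int.toNat_natCast, pow_zero, one_mul, zpow_neg, zpow_natCast, ← inv_pow,
      Units.val_pow_eq_pow_val]

theorem coe_zu (a : Fin r → ℤ) : ((zu lam mu h a : Aˣ) : A) = zc lam mu a := by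
  unfold zu zc
  rw [Units.coe_prod, ← Finset.prod_mul_distrib]
  refine Finset.prod_congr rfl fun j _ => ?_
  rw [coe_zpow]
  rfl

theorem zu_add (a b : Fin r → ℤ) : zu lam mu h (a + b) = zu lam mu h a * zu lam mu h b := by
  unfold zu
  rw [← Finset.prod_mul_distrib]
  refine Finset.prod_congr rfl fun j _ => ?_
  rw [Pi.add_apply, zpow_add]

theorem zu_single (j : Fin r) : zu lam mu h (Pi.single j 1) = lu lam mu h j := by
  unfold zu
  rw [Finset.prod_eq_single j]
  · simp
  · intro b _ hb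
    rw [Pi.single_eq_of_ne hb, zpow_zero]
  · intro hj
    exact absurd (Finset.mem_univ j) hj

theorem zu_neg (a : Fin r → ℤ) : zu lam mu h (-a) = (zu lam mu h a)⁻¹ := by
  unfold zu
  rw [← Finset.prod_inv_distrib]
  refine Finset.prod_congr rfl fun j _ => ?_
  rw [Pi.neg_apply, zpow_neg]

theorem zu_nsmul (m : ℕ) (a : Fin r → ℤ) : zu lam mu h (m • a) = zu lam mu h a ^ m := by
  unfold zu
  rw [← Finset.prod_pow]
  refine Finset.prod_congr rfl fun j _ => ?_
  rw [Pi.smul_apply, nsmul_eq_mul, mul_comm, zpow_mul, zpow_natCast]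

include h in
theorem zc_add_single (a : Fin r → ℤ) (j : Fin r) :
    zc lam mu (a + Pi.single j 1) = zc lam mu a * lam j := by
  rw [← coe_zu lam mu h, ← coe_zu lam mu h, zu_add, zu_single]
  rfl

include h in
theorem zc_sub_single (a : Fin r → ℤ) (j : Fin r) :
    zc lam mu (a - Pi.single j 1) = zc lam mu a * mu j := by
  rw [← coe_zu lam mu h, ← coe_zu lam mu h, sub_eq_add_neg, zu_add, zu_neg, zu_single]
  rfl

include h in
theorem zc_nsmul (m : ℕ) (a : Fin r → ℤ) : zc lam mu (m • a) = zc lam mu a ^ m := by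
  rw [← coe_zu lam mu h, ← coe_zu lam mu h, zu_nsmul]
  rfl

end Monoid

section L1

variable {r : ℕ}

/-- the `ℓ¹` norm on `ℤ^r` -/
def l1 (a : Fin r → ℤ) : ℕ := ∑ j, (a j).natAbs

theorem l1_eq_zero {a : Fin r → ℤ} (h : l1 a = 0) : a = 0 := by
  funext j
  have := (Finset.sum_eq_zero_iff.1 h) j (Finset.mem_univ j)
  simpa using this

theorem l1_split (a : Fin r → ℤ) (j : Fin r) :
    l1 a = (a j).natAbs + ∑ i ∈ Finset.univ.erase j, (a i).natAbs :=
  (Finset.add_sum_erase _ _ (Finset.mem_univ j)).symm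

theorem l1_sub_le (a b : Fin r → ℤ) : l1 b ≤ l1 a + l1 (a - b) := by
  unfold l1
  rw [← Finset.sum_add_distrib]
  refine Finset.sum_le_sum fun j _ => ?_
  rw [Pi.sub_apply]
  omega

theorem l1_nsmul (m : ℕ) (a : Fin r → ℤ) : l1 (m • a) = m * l1 a := by
  unfold l1
  rw [Finset.mul_sum]
  refine Finset.sum_congr rfl fun j _ => ?_
  rw [Pi.smul_apply, nsmul_eq_mul, Int.natAbs_mul, Int.natAbs_natCast]

/-- moving one step towards the origin in coordinate `j` -/
theorem l1_step (x : Fin r → ℤ) (j : Fin r) (hj : 0 < x j) :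
    l1 (x - Pi.single j 1) + 1 = l1 x := by
  rw [l1_split x j, l1_split (x - Pi.single j 1) j]
  have h1 : ∑ i ∈ Finset.univ.erase j, ((x - Pi.single j 1 : Fin r → ℤ) i).natAbs =
      ∑ i ∈ Finset.univ.erase j, (x i).natAbs := by
    refine Finset.sum_congr rfl fun i hi => ?_
    rw [Pi.sub_apply, Pi.single_eq_of_ne (Finset.ne_of_mem_erase hi), sub_zero]
  rw [h1, Pi.sub_apply, Pi.single_eq_same]
  omega

theorem l1_step' (x : Fin r → ℤ) (j : Fin r) (hj : x j < 0) :
    l1 (x + Pi.single j 1) + 1 = l1 x := by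
  rw [l1_split x j, l1_split (x + Pi.single j 1) j]
  have h1 : ∑ i ∈ Finset.univ.erase j, ((x + Pi.single j 1 : Fin r → ℤ) i).natAbs =
      ∑ i ∈ Finset.univ.erase j, (x i).natAbs := by
    refine Finset.sum_congr rfl fun i hi => ?_
    rw [Pi.add_apply, Pi.single_eq_of_ne (Finset.ne_of_mem_erase hi), add_zero]
  rw [h1, Pi.add_apply, Pi.single_eq_same]
  omega

/-- **Path lemma.** -/
theorem path_bound (f : (Fin r → ℤ) → ℤ) (φ : ℕ → ℕ) (hφ : Monotone φ)
    (hstep : ∀ a j, |f (a + Pi.single j 1) - f a| ≤ φ (l1 a) ∧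
      |f (a - Pi.single j 1) - f a| ≤ φ (l1 a)) (a b : Fin r → ℤ) :
    |f a - f b| ≤ (l1 (a - b) : ℤ) * φ (l1 a + l1 (a - b)) := by
  have key : ∀ (t : ℕ) (b : Fin r → ℤ), l1 (a - b) = t →
      |f a - f b| ≤ (t : ℤ) * φ (l1 a + t) := by
    intro t
    induction t with
    | zero =>
      intro b hb
      have := l1_eq_zero hb
      have hab : a = b := sub_eq_zero.1 this
      rw [hab]
      simp
    | succ t ih =>
      intro b hb
      have hne : ∃ j, (a - b) j ≠ 0 := by
        by_contra hcon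
        push Not at hcon
        have : l1 (a - b) = 0 := Finset.sum_eq_zero fun j _ => by rw [hcon j]; rfl
        omega
      obtain ⟨j, hj⟩ := hne
      have hmono : (φ (l1 a + t) : ℤ) ≤ φ (l1 a + (t + 1)) := by
        exact_mod_cast hφ (by omega)
      have hlb : (φ (l1 b) : ℤ) ≤ φ (l1 a + (t + 1)) := by
        have := l1_sub_le a b
        exact_mod_cast hφ (by omega)
      rcases lt_or_gt_of_ne hj with hlt | hgt
      · -- `a j < b j`: move `b` down
        have e1 : a - (b - Pi.single j 1) = (a - b) + Pi.single j 1 := by abel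
        have h1 : l1 (a - (b - Pi.single j 1)) = t := by
          have := l1_step' (a - b) j hlt
          rw [e1]
          omega
        have h2 := ih _ h1
        have h3 := (hstep b j).2
        have h4 : |f a - f b| ≤ |f a - f (b - Pi.single j 1)| + |f (b - Pi.single j 1) - f b| := by
          have := abs_add_le (f a - f (b - Pi.single j 1)) (f (b - Pi.single j 1) - f b)
          simpa using this
        have h5 : (t : ℤ) * φ (l1 a + t) ≤ (t : ℤ) * φ (l1 a + (t + 1)) :=
          mul_le_mul_of_nonneg_left hmono (by positivity)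
        push_cast
        nlinarith
      · have e1 : a - (b + Pi.single j 1) = (a - b) - Pi.single j 1 := by abel
        have h1 : l1 (a - (b + Pi.single j 1)) = t := by
          have := l1_step (a - b) j hgt
          rw [e1]
          omega
        have h2 := ih _ h1
        have h3 := (hstep b j).1
        have h4 : |f a - f b| ≤ |f a - f (b + Pi.single j 1)| + |f (b + Pi.single j 1) - f b| := by
          have := abs_add_le (f a - f (b + Pi.single j 1)) (f (b + Pi.single j 1) - f b)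
          simpa using this
        have h5 : (t : ℤ) * φ (l1 a + t) ≤ (t : ℤ) * φ (l1 a + (t + 1)) :=
          mul_le_mul_of_nonneg_left hmono (by positivity)
        push_cast
        nlinarith
  exact key _ b rfl

end L1

section Geom

variable {X : Scheme.{u}} {r : ℕ} (L M : Fin r → X.Modules)

theorem len_one {ι : Type*} (N : ι → X.Modules) (t : ι) : Len N 1 (cls (N t)) := by
  have := Len.mul t (Len.one (N := N))
  rwa [one_mul] at this

theorem len_pow {ι : Type*} (N : ι → X.Modules) (t : ι) (e : ℕ) : Len N e (cls (N t) ^ e) := by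
  have := (len_one N t).pow e
  rwa [mul_one] at this

theorem len_prod {ι κ : Type*} (N : ι → X.Modules) (s : Finset κ) (f : κ → ℕ) (c : κ → Cls X)
    (hc : ∀ j ∈ s, Len N (f j) (c j)) : Len N (∑ j ∈ s, f j) (∏ j ∈ s, c j) := by
  classical
  induction s using Finset.induction_on with
  | empty => simpa using Len.one
  | insert j s hj ih =>
    rw [Finset.sum_insert hj, Finset.prod_insert hj]
    exact Len.mul_len (hc j (Finset.mem_insert_self j s))
      (ih fun i hi => hc i (Finset.mem_insert_of_mem hi))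

/-- the class of `ztwist X L M a` has length `l1 a` in the family `L ⊔ M` -/
theorem len_zc (a : Fin r → ℤ) :
    Len (Sum.elim L M) (l1 a) (zc (fun j => cls (L j)) (fun j => cls (M j)) a) := by
  have h1 : Len (Sum.elim L M) (∑ j, (a j).toNat) (∏ j, cls (L j) ^ (a j).toNat) :=
    len_prod _ _ _ _ fun j _ => len_pow (Sum.elim L M) (Sum.inl j) _
  have h2 : Len (Sum.elim L M) (∑ j, (-(a j)).toNat) (∏ j, cls (M j) ^ (-(a j)).toNat) :=
    len_prod _ _ _ _ fun j _ => len_pow (Sum.elim L M) (Sum.inr j) _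
  have h3 := Len.mul_len h1 h2
  have h4 : (∑ j, (a j).toNat) + ∑ j, (-(a j)).toNat = l1 a := by
    unfold l1
    rw [← Finset.sum_add_distrib]
    exact Finset.sum_congr rfl fun j _ => Int.toNat_add_toNat_neg_eq_natAbs (a j)
  rw [h4] at h3
  exact h3

theorem cls_ztwist (a : Fin r → ℤ) :
    cls (W4c5asymptcohfn.ztwist X L M a) = zc (fun j => cls (L j)) (fun j => cls (M j)) a := by
  unfold W4c5asymptcohfn.ztwist zc
  rw [cls_tensorMod, cls_multiTwist, cls_multiTwist]

variable (k : Type u) [Field k]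
  [X.Over (Spec (CommRingCat.of k))] [IsProper (X ↘ Spec (CommRingCat.of k))]

/-- `hZ i a = dim_k H^i(X, L^a)` -/
noncomputable def hZ (i : ℕ) (a : Fin r → ℤ) : ℕ :=
  hc k (Coh.structureModule X) i (zc (fun j => cls (L j)) (fun j => cls (M j)) a)

variable (hL : ∀ j, PicF.IsInvertible (L j)) (hM : ∀ j, ClSub.IsInverseOf (L j) (M j))

include hM in
theorem hZ_nsmul (i m : ℕ) (a : Fin r → ℤ) :
    hZ L M k i (m • a) =
      Module.finrank k (Coh.HH X (tensorPow (W4c5asymptcohfn.ztwist X L M a) m) i) := by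
  unfold hZ
  rw [zc_nsmul _ _ (fun j => cls_eq_of_iso (hM j).some), ← cls_ztwist, ← cls_tensorPow,
    hc_structure_cls]

include hL hM in
theorem isInvertible_sum (t : Fin r ⊕ Fin r) : PicF.IsInvertible (Sum.elim L M t) := by
  cases t with
  | inl j => exact hL j
  | inr j => exact isInvertible_of_isInverseOf (hL j) (hM j)

variable (n : ℕ) (hn : topologicalKrullDim X ≤ (n : WithBot ℕ∞))

include hL hM hn in
/-- **Growth.** -/
theorem exists_growth : ∃ C : ℕ, ∀ (i : ℕ) (a : Fin r → ℤ), hZ L M k i a ≤ C * (l1 a + 1) ^ n := by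
  obtain ⟨C, hC⟩ := exists_bound_hc k (isInvertible_sum L M hL hM) (Coh.structureModule X)
    (Groth.Agent.Lib.CohFinAmple.isCoh_structureModule X) n
    ((topologicalKrullDim_subspace_le X _).trans hn)
  exact ⟨C, fun i a => hC i (l1 a) _ (len_zc L M a)⟩

variable [IsIntegral X]

include hL hM hn in
/-- **Lipschitz estimate.** -/
theorem exists_lipschitz : ∃ D : ℕ, ∀ (i : ℕ) (a b : Fin r → ℤ),
    |(hZ L M k i a : ℤ) - hZ L M k i b| ≤
      (l1 (a - b) : ℤ) * ((D * g n (l1 a + l1 (a - b)) : ℕ) : ℤ) := by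
  obtain ⟨D, hD⟩ := exists_bound_step k (isInvertible_sum L M hL hM) n hn
  refine ⟨D, fun i a b => ?_⟩
  have hlm : ∀ j, cls (L j) * cls (M j) = 1 := fun j => cls_eq_of_iso (hM j).some
  refine path_bound (fun a => (hZ L M k i a : ℤ)) (fun m => D * g n m)
    (fun m m' hmm => Nat.mul_le_mul_left D (g_mono n hmm)) (fun a j => ?_) a b
  constructor
  · obtain ⟨h1, h2⟩ := hD i (l1 a) _ (Sum.inl j) (len_zc L M a)
    change |(hZ L M k i (a + Pi.single j 1) : ℤ) - hZ L M k i a| ≤ _
    unfold hZ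
    rw [zc_add_single _ _ hlm a j, abs_le]
    simp only [Sum.elim_inl] at h1 h2
    constructor <;> push_cast <;> omega
  · obtain ⟨h1, h2⟩ := hD i (l1 a) _ (Sum.inr j) (len_zc L M a)
    change |(hZ L M k i (a - Pi.single j 1) : ℤ) - hZ L M k i a| ≤ _
    unfold hZ
    rw [zc_sub_single _ _ hlm a j, abs_le]
    simp only [Sum.elim_inr] at h1 h2
    constructor <;> push_cast <;> omega

end Geom

end Groth.Agent.Lib.CohTwistLattice
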