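import Mathlib
import Groth.Prelude.Def_EGA41
import Groth.Agent.Lib.MacLane5H44

set_option autoImplicit false
open IsLocalRing

namespace Groth.Agent.Lib.CohenDVR97

/-- A Noetherian local ring whose maximal ideal is generated by a regular element has no zero
divisors. -/
theorem noZeroDivisors_of_maximalIdeal_eq_span {A : Type*} [CommRing A] [IsLocalRing A]
    [IsNoetherianRing A] (π : A) (hπ : maximalIdeal A = Ideal.span {π})
    (hreg : π ∈ nonZeroDivisors A) : NoZeroDivisors A := by
  have hkrull : ⨅ i, (maximalIdeal A) ^ i = ⊥ :=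
    Ideal.iInf_pow_eq_bot_of_isLocalRing _ (maximalIdeal.isMaximal A).ne_top
  have hpow : ∀ i, (maximalIdeal A) ^ i = Ideal.span {π ^ i} := fun i => by
    rw [hπ, Ideal.span_singleton_pow]
  -- every nonzero element is a unit times a power of π
  have key : ∀ a : A, a ≠ 0 → ∃ (n : ℕ) (u : A), IsUnit u ∧ a = π ^ n * u := by
    intro a ha
    have hex : ∃ n, a ∉ (maximalIdeal A) ^ n := by
      by_contra hcon
      push Not at hcon
      apply ha
      have : a ∈ ⨅ i, (maximalIdeal A) ^ i := Ideal.mem_iInf.mpr hcon
      rw [hkrull] at this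
      exact this
    classical
    let n₀ := Nat.find hex
    have hn₀ : a ∉ (maximalIdeal A) ^ n₀ := Nat.find_spec hex
    have hn₀pos : n₀ ≠ 0 := by
      intro h0
      rw [h0, pow_zero, Ideal.one_eq_top] at hn₀
      exact hn₀ trivial
    obtain ⟨m, hm⟩ := Nat.exists_eq_succ_of_ne_zero hn₀pos
    have hmem : a ∈ (maximalIdeal A) ^ m := by
      by_contra hcon
      have := Nat.find_min' hex hcon
      omega
    rw [hpow, Ideal.mem_span_singleton] at hmem
    obtain ⟨u, hu⟩ := hmem
    refine ⟨m, u, ?_, hu⟩
    by_contra hnu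
    have humem : u ∈ maximalIdeal A := (IsLocalRing.mem_maximalIdeal u).mpr hnu
    rw [hπ, Ideal.mem_span_singleton] at humem
    obtain ⟨v, hv⟩ := humem
    apply hn₀
    rw [hm, hpow, Ideal.mem_span_singleton]
    exact ⟨v, by rw [hu, hv, pow_succ]; ring⟩
  refine ⟨fun {a b} hab => ?_⟩
  by_contra hcon
  push Not at hcon
  obtain ⟨i, u, hu, rfl⟩ := key a hcon.1
  obtain ⟨j, v, hv, rfl⟩ := key b hcon.2
  have h1 : π ^ (i + j) * (u * v) = 0 := by
    rw [← hab, pow_add]; ring
  have h2 : π ^ (i + j) ∈ nonZeroDivisors A := pow_mem hreg _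
  have h3 : u * v = 0 := by
    rw [mul_comm] at h1
    exact (mem_nonZeroDivisors_iff_right.mp h2) _ h1
  exact (hu.mul hv).ne_zero h3

section ZLoc

variable (p : ℕ) [hp : (Ideal.span {(p : ℤ)}).IsPrime]

local notation "ZP" => Localization.AtPrime (Ideal.span {(p : ℤ)})

omit hp in
include hp in
lemma p_eq_zero_or_prime : p = 0 ∨ p.Prime := by
  by_cases h0 : p = 0
  · exact Or.inl h0
  · right
    have h0' : (p : ℤ) ≠ 0 := by exact_mod_cast h0
    exact Nat.prime_iff_prime_int.mpr ((Ideal.span_singleton_prime h0').mp hp)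

lemma maximalIdeal_ZP : maximalIdeal ZP = Ideal.span {(p : ZP)} := by
  have h := Localization.AtPrime.map_eq_maximalIdeal (I := Ideal.span {(p : ℤ)})
  rw [Ideal.map_span, Set.image_singleton] at h
  rw [← h]
  simp

lemma map_maximalIdeal_ZP (A : Type*) [CommRing A] [Algebra ZP A] :
    (maximalIdeal ZP).map (algebraMap ZP A) = Ideal.span {(p : A)} := by
  rw [maximalIdeal_ZP, Ideal.map_span, Set.image_singleton, map_natCast]

lemma injective_algebraMap_int_ZP : Function.Injective (algebraMap ℤ ZP) :=
  IsLocalization.injective ZP (M := (Ideal.span {(p : ℤ)}).primeCompl)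
    (fun _ hx => mem_nonZeroDivisors_of_ne_zero (fun h => hx (h ▸ Ideal.zero_mem _)))

/-- for `p = 0`, nonzero elements of `ZP` are units. -/
lemma isUnit_of_ne_zero_of_p_eq_zero (h0 : p = 0) (c : ZP) (hc : c ≠ 0) : IsUnit c := by
  by_contra hnu
  have hmem : c ∈ maximalIdeal ZP := (IsLocalRing.mem_maximalIdeal c).mpr hnu
  rw [maximalIdeal_ZP] at hmem
  have hp0 : ((p : ℕ) : ZP) = 0 := by
    have : ((p : ℕ) : ZP) = ((0 : ℕ) : ZP) := congrArg (fun n : ℕ => (n : ZP)) h0
    simpa using this
  rw [hp0, Ideal.span_singleton_eq_bot.mpr rfl] at hmem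
  exact hc hmem

/-- `A` of characteristic zero (as a domain) makes `ZP → A` injective. -/
lemma injective_algebraMap_ZP (A : Type*) [CommRing A] [IsDomain A] [CharZero A] [Algebra ZP A] :
    Function.Injective (algebraMap ZP A) := by
  rw [injective_iff_map_eq_zero]
  intro c hc
  obtain ⟨⟨a, s⟩, hcs⟩ := IsLocalization.surj (Ideal.span {(p : ℤ)}).primeCompl c
  have h1 : algebraMap ZP A (algebraMap ℤ ZP a) = 0 := by
    rw [← hcs, map_mul, hc, zero_mul]
  have h2 : ((a : ℤ) : A) = 0 := by
    rw [← h1]
    simp
  have ha : a = 0 := by exact_mod_cast h2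
  have hs : algebraMap ℤ ZP (s : ℤ) ≠ 0 := by
    intro h
    have := injective_algebraMap_int_ZP p (h.trans (map_zero _).symm)
    exact s.2 (this ▸ Ideal.zero_mem _)
  rw [ha, map_zero] at hcs
  exact (mul_eq_zero.mp hcs).resolve_right hs

theorem cohenRing_of_cohenAlgebra {A : Type} [CommRing A] [IsLocalRing A]
    [CharP (ResidueField A) p] [Algebra ZP A]
    [IsLocalHom (algebraMap ZP A)] (h : EGA41.IsCohenAlgebra ZP A) : EGA41.IsCohenRingEGA A := by
  obtain ⟨hNP, hNA, hcomp, hflat, hmax, hgr⟩ := h
  rw [map_maximalIdeal_ZP] at hmax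
  rcases p_eq_zero_or_prime p with h0 | hprime
  · left
    have hp0 : ((p : ℕ) : A) = 0 := by
      have : ((p : ℕ) : A) = ((0 : ℕ) : A) := congrArg (fun n : ℕ => (n : A)) h0
      simpa using this
    rw [hp0, Ideal.span_singleton_eq_bot.mpr rfl] at hmax
    refine ⟨IsLocalRing.isField_iff_maximalIdeal_eq.mpr hmax.symm, ?_⟩
    have hc0 : CharP (ResidueField A) 0 := h0 ▸ (inferInstance : CharP (ResidueField A) p)
    have : CharZero (ResidueField A) := CharP.charP_to_charZero _
    exact RingHom.charZero (IsLocalRing.residue A)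
  · right
    -- `p` is regular in `A`
    have hpZP : (p : ZP) ∈ nonZeroDivisors ZP := by
      apply mem_nonZeroDivisors_of_ne_zero
      intro h
      have h' : algebraMap ℤ ZP (p : ℤ) = algebraMap ℤ ZP 0 := by simpa using h
      have := injective_algebraMap_int_ZP p h'
      exact hprime.ne_zero (by exact_mod_cast this)
    have hreg : (p : A) ∈ nonZeroDivisors A := by
      have hsm := Module.Flat.isSMulRegular_of_nonZeroDivisors (M := A) hpZP
      rw [mem_nonZeroDivisors_iff_right]
      intro a ha
      apply hsm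
      simp only [smul_zero]
      rw [Algebra.smul_def, map_natCast, mul_comm]
      exact ha
    have hnzd := noZeroDivisors_of_maximalIdeal_eq_span (p : A) hmax.symm hreg
    have hdom : IsDomain A := { }
    have hnf : ¬ IsField A := by
      intro hf
      have hbot := IsLocalRing.isField_iff_maximalIdeal_eq.mp hf
      rw [← hmax, Ideal.span_singleton_eq_bot] at hbot
      have : (0 : A) ∈ nonZeroDivisors A := hbot ▸ hreg
      exact zero_notMem_nonZeroDivisors this
    have hdvr : IsDiscreteValuationRing A := by
      apply ((IsDiscreteValuationRing.TFAE A hnf).out 0 4).mpr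
      rw [← hmax]
      exact ⟨⟨(p : A), rfl⟩⟩
    exact ⟨hdom, hdvr, hcomp, p, hprime, hmax.symm⟩

lemma isNoetherianRing_ZP : IsNoetherianRing ZP := inferInstance

/-- the residue field of `ZP` is perfect. -/
lemma perfectField_residueField_ZP : PerfectField (ResidueField ZP) := by
  rcases p_eq_zero_or_prime p with h0 | hprime
  · -- characteristic zero
    have hinj : Function.Injective (IsLocalRing.residue ZP) := by
      rw [injective_iff_map_eq_zero]
      intro c hc
      by_contra hne
      have hu := isUnit_of_ne_zero_of_p_eq_zero p h0 c hne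
      have : IsUnit (IsLocalRing.residue ZP c) := hu.map _
      rw [hc] at this
      exact not_isUnit_zero this
    have : CharZero ZP := charZero_of_injective_ringHom (injective_algebraMap_int_ZP p)
    have : CharZero (ResidueField ZP) := charZero_of_injective_ringHom hinj
    exact PerfectField.ofCharZero
  · have hne : Ideal.span {(p : ℤ)} ≠ ⊥ := by
      rw [Ne, Ideal.span_singleton_eq_bot]
      exact_mod_cast hprime.ne_zero
    have hmaxI : (Ideal.span {(p : ℤ)}).IsMaximal := hp.isMaximal hne
    have e1 := IsLocalization.AtPrime.equivQuotMaximalIdeal (Ideal.span {(p : ℤ)}) ZP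
    have e2 := Int.quotientSpanNatEquivZMod p
    have : NeZero p := ⟨hprime.ne_zero⟩
    have hfin : Finite (ResidueField ZP) :=
      Finite.of_equiv (ZMod p) (e2.symm.trans e1).toEquiv
    exact PerfectField.ofFinite

theorem cohenAlgebra_of_cohenRing {A : Type} [CommRing A] [IsLocalRing A]
    [CharP (ResidueField A) p] [Algebra ZP A]
    [IsLocalHom (algebraMap ZP A)] (h : EGA41.IsCohenRingEGA A) : EGA41.IsCohenAlgebra ZP A := by
  have hperf := perfectField_residueField_ZP p
  have hgr : Algebra.IsGeometricallyReduced (ResidueField ZP) (ResidueField A) :=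
    Groth.Agent.Lib.MacLane5H44.isGeometricallyReduced_of_perfectField _ _
  rcases h with ⟨hf, hc0⟩ | ⟨hdom, hdvr, hcomp, q, hq, hm⟩
  · -- field of characteristic zero
    have hmA : maximalIdeal A = ⊥ := (IsLocalRing.isField_iff_maximalIdeal_eq.mp hf)
    have hinj : Function.Injective (IsLocalRing.residue A) := by
      rw [injective_iff_map_eq_zero]
      intro c hc
      have : c ∈ maximalIdeal A := (IsLocalRing.residue_eq_zero_iff c).mp hc
      rw [hmA] at this
      exact this
    have : CharZero (ResidueField A) := charZero_of_injective_ringHom hinj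
    have h0 : p = 0 := CharP.eq (ResidueField A) inferInstance (CharP.ofCharZero _)
    have hp0 : ((p : ℕ) : A) = 0 := by
      have : ((p : ℕ) : A) = ((0 : ℕ) : A) := congrArg (fun n : ℕ => (n : A)) h0
      simpa using this
    let _ := hf.toField
    refine ⟨isNoetherianRing_ZP p, inferInstance, ?_, ?_, ?_, hgr⟩
    · rw [hmA]; infer_instance
    · have : Module.IsTorsionFree ZP A := by
        refine ⟨fun c hc => ?_⟩
        have hc0 : c ≠ 0 := hc.ne_zero
        have hu := isUnit_of_ne_zero_of_p_eq_zero p h0 c hc0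
        exact hu.isSMulRegular A
      infer_instance
    · rw [map_maximalIdeal_ZP, hp0, Ideal.span_singleton_eq_bot.mpr rfl, hmA]
  · -- complete DVR with maximal ideal (q)
    have hqres : ((q : ℕ) : ResidueField A) = 0 := by
      have : (q : A) ∈ maximalIdeal A := by rw [hm]; exact Ideal.mem_span_singleton_self _
      have := (IsLocalRing.residue_eq_zero_iff (q : A)).mpr this
      simpa using this
    have hpq : p = q := by
      have hdvd : p ∣ q := (CharP.cast_eq_zero_iff (ResidueField A) p q).mp hqres
      rcases p_eq_zero_or_prime p with h0 | hprime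
      · rw [h0, zero_dvd_iff] at hdvd
        exact absurd hdvd hq.ne_zero
      · exact (Nat.prime_dvd_prime_iff_eq hprime hq).mp hdvd
    subst hpq
    have hnotfield : maximalIdeal A ≠ ⊥ := IsDiscreteValuationRing.not_a_field A
    -- A has characteristic zero
    have hchar : CharZero A := by
      obtain ⟨ℓ, hℓ⟩ := CharP.exists A
      rcases CharP.char_is_prime_or_zero A ℓ with hℓp | hℓ0
      · exfalso
        have h1 : ((ℓ : ℕ) : A) = 0 := CharP.cast_eq_zero A ℓ
        have h2 : ((ℓ : ℕ) : ResidueField A) = 0 := by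
          have := congrArg (IsLocalRing.residue A) h1
          rwa [map_natCast, map_zero] at this
        have hdvd : p ∣ ℓ := (CharP.cast_eq_zero_iff (ResidueField A) p ℓ).mp h2
        have hpl : p = ℓ := (Nat.prime_dvd_prime_iff_eq hq hℓp).mp hdvd
        apply hnotfield
        rw [hm, hpl, h1, Ideal.span_singleton_eq_bot.mpr rfl]
      · subst hℓ0
        exact CharP.charP_to_charZero A
    have hinj := injective_algebraMap_ZP p A
    refine ⟨isNoetherianRing_ZP p, inferInstance, hcomp, ?_, ?_, hgr⟩
    · have : Module.IsTorsionFree ZP A := by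
        refine ⟨fun c hc => ?_⟩
        have hc0 : c ≠ 0 := hc.ne_zero
        intro a b hab
        simp only [Algebra.smul_def] at hab
        have hne : algebraMap ZP A c ≠ 0 := fun h => hc0 (hinj (h.trans (map_zero _).symm))
        exact mul_left_cancel₀ hne hab
      infer_instance
    · rw [map_maximalIdeal_ZP, hm]

end ZLoc

end Groth.Agent.Lib.CohenDVR97
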