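import Groth.Agent.S0578
import Groth.Agent.S0579
import Groth.Agent.S2456
import Groth.Agent.Lib.CohenRing
import Groth.Agent.Lib.PowerSeriesLift50
import Groth.Agent.Lib.H59PowerSeries
import Groth.Agent.Lib.AdicNoeth

/-!
# Coefficient rings of complete local rings (helper89)

`IsCoeff Λ q`: `Λ` is a complete local principal ideal domain of characteristic zero whose maximal
ideal is generated by the natural number `q`, where `q = 0` (then `Λ` is a field of
characteristic zero) or `q` is prime (then `Λ` is a Cohen ring).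

* `IsCoeff.isField`, `IsCoeff.isCohenRing`;
* `IsCoeff.exists_lift`, `IsCoeff.exists_lift_of_surjective`: ring maps from a coefficient ring lift
  along surjections of complete Noetherian local rings;
* `exists_isCoeff`: every complete Noetherian local ring has a coefficient ring;
* `exists_surjective_of_family`: the induced surjection from a power series ring, with prescribed
  images of the variables;
* `ringHom_ext`: maps out of a power series ring to a separated local ring are determined by the
  images of constants and variables.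
-/

set_option autoImplicit false
universe u

namespace Groth.Agent.Lib.CohenFactor

open IsLocalRing MvPowerSeries

/-- A coefficient ring: field of characteristic zero (`q = 0`) or Cohen ring (`q` prime). -/
structure IsCoeff (Λ : Type u) [CommRing Λ] [IsLocalRing Λ] (q : ℕ) : Prop where
  isDomain : IsDomain Λ
  isPrincipalIdealRing : IsPrincipalIdealRing Λ
  charZero : CharZero Λ
  maximalIdeal_eq : maximalIdeal Λ = Ideal.span {(q : Λ)}
  complete : IsAdicComplete (maximalIdeal Λ) Λ
  hq : q = 0 ∨ q.Prime

namespace IsCoeff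

variable {Λ : Type u} [CommRing Λ] [IsLocalRing Λ] {q : ℕ}

theorem isField (h : IsCoeff Λ 0) : IsField Λ := by
  rw [IsLocalRing.isField_iff_maximalIdeal_eq, h.maximalIdeal_eq, Nat.cast_zero,
    Ideal.span_singleton_eq_bot]

theorem natCast_ne_zero (h : IsCoeff Λ q) (hq : q.Prime) : (q : Λ) ≠ 0 := by
  have := h.charZero
  exact Nat.cast_ne_zero.mpr hq.ne_zero

theorem isDiscreteValuationRing (h : IsCoeff Λ q) (hq : q.Prime) :
    @IsDiscreteValuationRing Λ _ h.isDomain :=
  let _ := h.isDomain
  let _ := h.isPrincipalIdealRing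
  { not_a_field' := by
      rw [h.maximalIdeal_eq, Ne, Ideal.span_singleton_eq_bot]
      exact h.natCast_ne_zero hq }

theorem isCohenRing (h : IsCoeff Λ q) (hq : q.Prime) : CAlg.IsCohenRing Λ :=
  ⟨h.isDomain, h.isDiscreteValuationRing hq, h.complete, q, hq, h.maximalIdeal_eq⟩

theorem isNoetherianRing (h : IsCoeff Λ q) : IsNoetherianRing Λ :=
  let _ := h.isPrincipalIdealRing
  inferInstance

theorem isRegularLocalRing (h : IsCoeff Λ q) : IsRegularLocalRing Λ :=
  let _ := h.isDomain
  let _ := h.isPrincipalIdealRing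
  inferInstance

/-- The Krull dimension of a coefficient ring. -/
theorem ringKrullDim_eq (h : IsCoeff Λ q) :
    ringKrullDim Λ = ((if q = 0 then 0 else 1 : ℕ) : WithBot ℕ∞) := by
  let _ := h.isDomain
  let _ := h.isPrincipalIdealRing
  rcases h.hq with rfl | hq
  · let _ := h.isField.toField
    rw [if_pos rfl]
    exact ringKrullDim_eq_zero_of_field Λ
  · rw [if_neg hq.ne_zero]
    have hnf : ¬ IsField Λ := by
      rw [IsLocalRing.isField_iff_maximalIdeal_eq, h.maximalIdeal_eq, Ideal.span_singleton_eq_bot]
      exact h.natCast_ne_zero hq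
    rw [IsPrincipalIdealRing.ringKrullDim_eq_one Λ hnf]
    rfl

/-- Lifting along quotients of complete Noetherian local rings. -/
theorem exists_lift (h : IsCoeff Λ q) {C : Type u} [CommRing C] [IsLocalRing C]
    [IsNoetherianRing C] [IsAdicComplete (maximalIdeal C) C] (J : Ideal C) (hJ : J ≠ ⊤)
    (u : Λ →+* C ⧸ J) [IsLocalHom u] :
    ∃ v : Λ →+* C, IsLocalHom v ∧ (Ideal.Quotient.mk J).comp v = u := by
  have : Nontrivial (C ⧸ J) := Ideal.Quotient.nontrivial_iff.mpr hJ
  have : IsLocalRing (C ⧸ J) :=
    IsLocalRing.of_surjective' (Ideal.Quotient.mk J) Ideal.Quotient.mk_surjective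
  rcases h.hq with rfl | hq
  · have := h.charZero
    exact Groth.Agent.S2456.result_charZero h.isField J hJ u
  · let _ := h.isDomain
    have := h.isDiscreteValuationRing hq
    exact Groth.Agent.S2456.result_cohen hq h.maximalIdeal_eq J hJ u

/-- Lifting along surjections of complete Noetherian local rings. -/
theorem exists_lift_of_surjective (h : IsCoeff Λ q) {C B : Type u} [CommRing C] [IsLocalRing C]
    [IsNoetherianRing C] [IsAdicComplete (maximalIdeal C) C] [CommRing B] [Nontrivial B]
    (σ : C →+* B) (hσ : Function.Surjective σ) (u : Λ →+* B) [IsLocalHom u] :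
    ∃ v : Λ →+* C, IsLocalHom v ∧ σ.comp v = u := by
  let e : C ⧸ RingHom.ker σ ≃+* B := RingHom.quotientKerEquivOfSurjective hσ
  have he : ∀ c : C, e (Ideal.Quotient.mk _ c) = σ c := fun c => rfl
  have hJ : RingHom.ker σ ≠ ⊤ := RingHom.ker_ne_top σ
  let u' : Λ →+* C ⧸ RingHom.ker σ := e.symm.toRingHom.comp u
  have hu' : ∀ x, u' x = e.symm (u x) := fun x => rfl
  have : IsLocalHom u' := by
    refine ⟨fun x hx => ?_⟩
    rw [hu'] at hx
    have h2 : IsUnit (e (e.symm (u x))) := hx.map e
    rw [RingEquiv.apply_symm_apply] at h2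
    exact (isUnit_map_iff u x).mp h2
  obtain ⟨v, hvloc, hv⟩ := h.exists_lift (RingHom.ker σ) hJ u'
  refine ⟨v, hvloc, ?_⟩
  ext x
  have h1 : Ideal.Quotient.mk _ (v x) = u' x := RingHom.congr_fun hv x
  have h2 := congrArg e h1
  rw [he, hu', RingEquiv.apply_symm_apply] at h2
  exact h2

end IsCoeff

/-- Every complete Noetherian local ring has a coefficient ring. -/
theorem exists_isCoeff (R : Type u) [CommRing R] [IsLocalRing R] [IsNoetherianRing R]
    [IsAdicComplete (maximalIdeal R) R] :
    ∃ (Λ : Type u) (_ : CommRing Λ) (_ : IsLocalRing Λ) (q : ℕ) (v : Λ →+* R),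
      IsCoeff Λ q ∧ CharP (ResidueField R) q ∧ IsLocalHom v ∧
        Function.Surjective ((residue R).comp v) := by
  rcases CharP.char_is_prime_or_zero (ResidueField R) (ringChar (ResidueField R)) with hp | h0
  · have hfact : Fact (ringChar (ResidueField R)).Prime := ⟨hp⟩
    obtain ⟨Λ, _, _, hΛ, ⟨e⟩⟩ := Groth.Agent.S0578.result (ringChar (ResidueField R))
      (ResidueField R)
    obtain ⟨hdom, hdvr, hc, p', hp', hmax'⟩ := hΛ
    have hloc : IsLocalRing (R ⧸ maximalIdeal R) := inferInstanceAs (IsLocalRing (ResidueField R))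
    let u' : Λ →+* R ⧸ maximalIdeal R := e.toRingHom.comp (residue Λ)
    have hu' : ∀ x, u' x = e (residue Λ x) := fun x => rfl
    have hlocu : IsLocalHom u' := by
      refine ⟨fun x hx => ?_⟩
      rw [hu'] at hx
      have h1 : IsUnit (residue Λ x) := by
        have h2 : IsUnit (e.symm (e (residue Λ x))) := hx.map e.symm
        rwa [RingEquiv.symm_apply_apply] at h2
      exact (isUnit_map_iff (residue Λ) x).mp h1
    obtain ⟨v, hvloc, hv⟩ := Groth.Agent.S2456.result_cohen hp' hmax' (maximalIdeal R)
      Ideal.IsPrime.ne_top' u'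
    have hvx : ∀ x, residue R (v x) = e (residue Λ x) := fun x => RingHom.congr_fun hv x
    have hcz : CharZero Λ := Groth.Agent.Lib.CohenRing.charZero hp' hmax'
    have hKp : CharP (ResidueField Λ) p' := Groth.Agent.Lib.CohenRing.charP_residueField hp' hmax'
    refine ⟨Λ, inferInstance, inferInstance, p', v,
      ⟨hdom, inferInstance, hcz, hmax', hc, Or.inr hp'⟩, ?_, hvloc, ?_⟩
    · exact charP_of_injective_ringHom (f := e.toRingHom) e.injective p'
    · intro y
      obtain ⟨a, ha⟩ := residue_surjective (e.symm y)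
      refine ⟨a, ?_⟩
      show residue R (v a) = y
      rw [hvx, ha, RingEquiv.apply_symm_apply]
  · have hchar : CharP (ResidueField R) 0 := h0 ▸ (inferInstance : CharP _ (ringChar _))
    have hcz : CharZero (ResidueField R) := CharP.charP_to_charZero _
    obtain ⟨s, hs⟩ := Groth.Agent.S0579.result R
    have hcK : IsAdicComplete (maximalIdeal (ResidueField R)) (ResidueField R) := by
      rw [IsLocalRing.maximalIdeal_eq_bot]
      infer_instance
    refine ⟨ResidueField R, inferInstance, inferInstance, 0, s,
      ⟨inferInstance, inferInstance, hcz, ?_, hcK, Or.inl rfl⟩, ?_, ?_, ?_⟩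
    · rw [IsLocalRing.maximalIdeal_eq_bot, Nat.cast_zero, Ideal.span_singleton_eq_bot.mpr rfl]
    · exact hchar
    · refine ⟨fun x hx => ?_⟩
      have hx0 : x ≠ 0 := by
        rintro rfl
        rw [map_zero] at hx
        exact not_isUnit_zero hx
      exact isUnit_iff_ne_zero.mpr hx0
    · exact fun y => ⟨y, RingHom.congr_fun hs y⟩

/-- A complete local ring with finitely generated maximal ideal is a quotient of a power series
ring over any complete local ring mapping to it by a local homomorphism which is surjective on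
residue fields; the images of the variables may be prescribed. -/
theorem exists_surjective_of_family (Λ R : Type u) [CommRing Λ] [IsLocalRing Λ] [CommRing R]
    [IsLocalRing R] [IsAdicComplete (maximalIdeal Λ) Λ] [IsAdicComplete (maximalIdeal R) R]
    (v : Λ →+* R) (hv : ∀ a ∈ maximalIdeal Λ, v a ∈ maximalIdeal R)
    (hsurj : Function.Surjective ((residue R).comp v)) {n : ℕ} (b : Fin n → R)
    (hbmem : ∀ i, b i ∈ maximalIdeal R)
    (hb : maximalIdeal R ≤ Ideal.span (Set.range b) ⊔ (maximalIdeal Λ).map v) :
    ∃ f : MvPowerSeries (Fin n) Λ →+* R, Function.Surjective f ∧ (∀ i, f (X i) = b i) ∧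
      ∀ a, f (C a) = v a := by
  let _ : Algebra Λ R := v.toAlgebra
  obtain ⟨ψ, hψX, -⟩ := Groth.Agent.Lib.PowerSeriesLift50.exists_algHom (k := Λ)
    (maximalIdeal R) b hbmem
  have hψC : ∀ a : Λ, ψ (C a) = v a := fun a => ψ.commutes a
  refine ⟨ψ.toRingHom, ?_, hψX, hψC⟩
  have hc : IsAdicComplete (Groth.Agent.Lib.H59PowerSeries.bigIdeal (Fin n) (maximalIdeal Λ))
      (MvPowerSeries (Fin n) Λ) :=
    Groth.Agent.Lib.H59PowerSeries.isAdicComplete_bigIdeal _
  have hmap : (Groth.Agent.Lib.H59PowerSeries.bigIdeal (Fin n) (maximalIdeal Λ)).map ψ.toRingHom =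
      maximalIdeal R := by
    apply le_antisymm
    · rw [Groth.Agent.Lib.H59PowerSeries.bigIdeal, Ideal.map_sup, sup_le_iff]
      constructor
      · rw [Ideal.map_span, Ideal.span_le]
        rintro _ ⟨_, ⟨i, rfl⟩, rfl⟩
        show ψ (X i) ∈ maximalIdeal R
        rw [hψX]
        exact hbmem i
      · rw [Ideal.map_map, Ideal.map_le_iff_le_comap]
        intro a ha
        rw [Ideal.mem_comap]
        show ψ (C a) ∈ maximalIdeal R
        rw [hψC]
        exact hv a ha
    · refine hb.trans ?_
      rw [Groth.Agent.Lib.H59PowerSeries.bigIdeal, Ideal.map_sup]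
      apply sup_le_sup
      · rw [Ideal.span_le]
        rintro _ ⟨i, rfl⟩
        rw [← hψX i]
        apply Ideal.mem_map_of_mem
        exact Ideal.subset_span ⟨i, rfl⟩
      · rw [Ideal.map_map, Ideal.map_le_iff_le_comap]
        intro a ha
        rw [Ideal.mem_comap, ← hψC]
        exact Ideal.mem_map_of_mem _ ha
  have hH : IsHausdorff
      ((Groth.Agent.Lib.H59PowerSeries.bigIdeal (Fin n) (maximalIdeal Λ)).map ψ.toRingHom) R := by
    rw [hmap]
    infer_instance
  apply surjective_of_mk_map_comp_surjective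
    (I := Groth.Agent.Lib.H59PowerSeries.bigIdeal (Fin n) (maximalIdeal Λ)) ψ.toRingHom
  intro y'
  obtain ⟨y, rfl⟩ := Ideal.Quotient.mk_surjective y'
  obtain ⟨a, ha⟩ := hsurj (residue R y)
  refine ⟨C a, ?_⟩
  show Ideal.Quotient.mk _ (ψ (C a)) = Ideal.Quotient.mk _ y
  rw [hψC, Ideal.Quotient.eq, hmap, ← residue_eq_zero_iff, map_sub, sub_eq_zero]
  exact ha

/-- Ring maps from a power series ring in finitely many variables to a separated local ring,
sending the variables into the maximal ideal, are determined by their values on constants and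
variables. -/
theorem ringHom_ext {Λ R : Type*} [CommRing Λ] [CommRing R] [IsLocalRing R]
    [IsHausdorff (maximalIdeal R) R] {n : ℕ} (f g : MvPowerSeries (Fin n) Λ →+* R)
    (hC : ∀ a, f (C a) = g (C a)) (hX : ∀ i, f (X i) = g (X i))
    (hXm : ∀ i, f (X i) ∈ maximalIdeal R) : f = g := by
  ext p
  rw [← sub_eq_zero]
  apply IsHausdorff.haus' (I := maximalIdeal R)
  intro N
  rw [SModEq.zero, smul_eq_mul, Ideal.mul_top]
  have hpoly : ∀ t : MvPolynomial (Fin n) Λ, f (t : MvPowerSeries (Fin n) Λ) = g t := by
    intro t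
    have : f.comp (MvPolynomial.coeToMvPowerSeries.ringHom) =
        g.comp (MvPolynomial.coeToMvPowerSeries.ringHom) := by
      apply MvPolynomial.ringHom_ext
      · intro a
        simp only [RingHom.comp_apply, MvPolynomial.coeToMvPowerSeries.ringHom_apply,
          MvPolynomial.coe_C]
        exact hC a
      · intro i
        simp only [RingHom.comp_apply, MvPolynomial.coeToMvPowerSeries.ringHom_apply,
          MvPolynomial.coe_X]
        exact hX i
    exact RingHom.congr_fun this t
  have hmem : ∀ (h : MvPowerSeries (Fin n) Λ →+* R), (∀ i, h (X i) ∈ maximalIdeal R) →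
      ∀ r ∈ (Ideal.span (Set.range (X : Fin n → MvPowerSeries (Fin n) Λ))) ^ N,
        h r ∈ maximalIdeal R ^ N := by
    intro h hh r hr
    have h1 : (Ideal.span (Set.range (X : Fin n → MvPowerSeries (Fin n) Λ))).map h ≤
        maximalIdeal R := by
      rw [Ideal.map_span, Ideal.span_le]
      rintro _ ⟨_, ⟨i, rfl⟩, rfl⟩
      exact hh i
    have h2 := Ideal.mem_map_of_mem h hr
    rw [Ideal.map_pow] at h2
    exact Ideal.pow_right_mono h1 N h2
  have hsub := Groth.Agent.Lib.H59PowerSeries.sub_truncTotal_mem N p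
  have e1 : f p - g p = f (p - ((truncTotal N p : MvPolynomial (Fin n) Λ) :
      MvPowerSeries (Fin n) Λ)) - g (p - ((truncTotal N p : MvPolynomial (Fin n) Λ) :
      MvPowerSeries (Fin n) Λ)) := by
    rw [map_sub, map_sub, hpoly]
    ring
  rw [e1]
  exact Ideal.sub_mem _ (hmem f hXm _ hsub) (hmem g (fun i => hX i ▸ hXm i) _ hsub)

end Groth.Agent.Lib.CohenFactor
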