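/-
Cohen algebras are formally smooth (EGA 0_IV 19.7.1 for Cohen algebras): the local case.
Author: helper89
-/
import Groth.Agent.Lib.CohenSmooth
import Mathlib.RingTheory.Smooth.Basic
import Mathlib.RingTheory.LocalRing.ResidueField.Basic

set_option autoImplicit false

namespace Groth.Agent.Lib.CohenSmooth

universe u

open IsLocalRing

variable {A B : Type u} [CommRing A] [IsLocalRing A] [CommRing B] [IsLocalRing B]
  [Algebra A B] [IsLocalHom (algebraMap A B)]

/-- If `m_A B = m_B` and the residue field extension is formally smooth, then `B` has the lifting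
property for algebras killed by `m_A`. -/
theorem liftKilled_of_formallySmooth_residueField
    (hmax : (maximalIdeal A).map (algebraMap A B) = maximalIdeal B)
    [Algebra.FormallySmooth (ResidueField A) (ResidueField B)] :
    LiftKilled (maximalIdeal A) B := by
  intro D _ _ N hN hD g
  -- `D` is an algebra over the residue field of `A`
  let ι : ResidueField A →+* D := Ideal.Quotient.lift (maximalIdeal A) (algebraMap A D) hD
  let _ : Algebra (ResidueField A) D := ι.toAlgebra
  have htower : IsScalarTower A (ResidueField A) D := IsScalarTower.of_algebraMap_eq (fun a => rfl)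
  -- `g` kills the maximal ideal of `B`
  have hg0 : ∀ b ∈ maximalIdeal B, g b = 0 := by
    intro b hb
    rw [← hmax] at hb
    have hle : (maximalIdeal A).map (algebraMap A B) ≤ RingHom.ker g.toRingHom := by
      rw [Ideal.map_le_iff_le_comap]
      intro a ha
      rw [Ideal.mem_comap, RingHom.mem_ker]
      show g (algebraMap A B a) = 0
      rw [AlgHom.commutes]
      have : algebraMap A (D ⧸ N) a = Ideal.Quotient.mk N (algebraMap A D a) := rfl
      rw [this, hD a ha, map_zero]
    exact hle hb
  let gbar₀ : ResidueField B →+* D ⧸ N := Ideal.Quotient.lift (maximalIdeal B) g.toRingHom hg0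
  have hgbar₀ : ∀ b : B, gbar₀ (residue B b) = g b := fun b => rfl
  let gbar : ResidueField B →ₐ[ResidueField A] D ⧸ N :=
    { gbar₀ with
      commutes' := by
        intro x
        obtain ⟨a, rfl⟩ := residue_surjective x
        show gbar₀ (algebraMap (ResidueField A) (ResidueField B) (residue A a)) = _
        rw [IsLocalRing.ResidueField.algebraMap_residue, hgbar₀, AlgHom.commutes]
        rfl }
  have hgbar : ∀ b : B, gbar (residue B b) = g b := fun b => rfl
  let l : ResidueField B →ₐ[ResidueField A] D := Algebra.FormallySmooth.lift N ⟨2, hN⟩ gbar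
  have hl : ∀ x, Ideal.Quotient.mk N (l x) = gbar x := fun x =>
    Algebra.FormallySmooth.mk_lift N ⟨2, hN⟩ gbar x
  refine ⟨(l.restrictScalars A).comp (IsScalarTower.toAlgHom A B (ResidueField B)),
    AlgHom.ext fun b => ?_⟩
  show Ideal.Quotient.mk N (l (residue B b)) = g b
  rw [hl, hgbar]

end Groth.Agent.Lib.CohenSmooth
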