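import Mathlib

/-!
# Coherent modules (finite, all finitely generated submodules finitely presented)
-/

set_option autoImplicit false

universe u

namespace Groth.Agent.Lib.CoherentModule

variable {R : Type u} [CommRing R] {N M : Type u}
  [AddCommGroup N] [Module R N] [AddCommGroup M] [Module R M]

/-- Every f.g. submodule is finitely presented. -/
def FGSubFP (R : Type u) [CommRing R] (M : Type u) [AddCommGroup M] [Module R M] : Prop :=
  ∀ P : Submodule R M, P.FG → Module.FinitePresentation R P

lemma fgSubFP_of_injective (f : N →ₗ[R] M) (hf : Function.Injective f) (hM : FGSubFP R M) :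
    FGSubFP R N := by
  intro P hP
  have h1 : (P.map f).FG := hP.map f
  have := hM _ h1
  exact Module.FinitePresentation.of_equiv (Submodule.equivMapOfInjective f hf P).symm

lemma fgSubFP_quotient (Q : Submodule R M) (hQ : Q.FG) (hM : FGSubFP R M) :
    FGSubFP R (M ⧸ Q) := by
  intro P hP
  let P' : Submodule R M := P.comap Q.mkQ
  have hQP' : Q ≤ P' := by
    intro x hx
    change Q.mkQ x ∈ P
    have h0 : Q.mkQ x = 0 := (Submodule.Quotient.mk_eq_zero Q).2 hx
    rw [h0]
    exact P.zero_mem
  have hmap : P'.map Q.mkQ = P := Submodule.map_comap_eq_of_surjective (Submodule.mkQ_surjective Q) P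
  have hP' : P'.FG := by
    apply Submodule.fg_of_fg_map_of_fg_inf_ker Q.mkQ
    · rw [hmap]; exact hP
    · rw [Submodule.ker_mkQ, inf_eq_right.2 hQP']; exact hQ
  have := hM _ hP'
  let l : P' →ₗ[R] P := (Q.mkQ.comp P'.subtype).codRestrict P (fun x => x.2)
  have hl : Function.Surjective l := by
    rintro ⟨y, hy⟩
    obtain ⟨x, rfl⟩ := Submodule.mkQ_surjective Q y
    exact ⟨⟨x, hy⟩, rfl⟩
  have hker : (LinearMap.ker l).FG := by
    have h2 : LinearMap.ker l = Q.comap P'.subtype := by
      ext x
      simp only [LinearMap.mem_ker, Submodule.mem_comap, Submodule.subtype_apply]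
      rw [← Submodule.Quotient.mk_eq_zero Q]
      constructor
      · intro h
        have := congr_arg Subtype.val h
        simpa [l] using this
      · intro h
        apply Subtype.ext
        simpa [l] using h
    rw [h2, ← Module.Finite.iff_fg]
    have : Module.Finite R Q := Module.Finite.iff_fg.2 hQ
    exact Module.Finite.equiv (Submodule.comapSubtypeEquivOfLe hQP').symm
  exact Module.finitePresentation_of_surjective l hl hker

/-- Kernel of a map from a finite module to a module whose f.g. submodules are f.p. is f.g. -/
lemma ker_fg [Module.Finite R N] (hM : FGSubFP R M) (φ : N →ₗ[R] M) : (LinearMap.ker φ).FG := by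
  have h1 : (LinearMap.range φ).FG := by
    rw [LinearMap.range_eq_map]
    exact (Module.Finite.fg_top).map φ
  have := hM _ h1
  have := Module.FinitePresentation.fg_ker φ.rangeRestrict φ.surjective_rangeRestrict
  rwa [LinearMap.ker_rangeRestrict] at this

lemma range_fg [Module.Finite R N] (φ : N →ₗ[R] M) : (LinearMap.range φ).FG := by
  rw [LinearMap.range_eq_map]
  exact (Module.Finite.fg_top).map φ

end Groth.Agent.Lib.CoherentModule
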