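import Mathlib.Algebra.Module.FinitePresentation
import Mathlib.LinearAlgebra.Pi
import Mathlib.LinearAlgebra.FreeModule.Finite.Basic
import Mathlib.LinearAlgebra.Dimension.Free

/-!
# Coherent rings: module theory (helper21)

`R` is coherent when every finitely generated ideal is finitely presented (hypothesis `hR`).

* `Coh R M`: every finitely generated submodule of `M` is finitely presented.
* `coh_of_equiv`, `coh_prod`, `coh_self`, `coh_pi_fin`, `coh_of_finite_free`.
* `fg_ker_of_finite_free`: the kernel of a linear map between finite free modules is finitely generated.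
* `coh_of_finitePresentation`: over a coherent ring finitely presented modules are coherent.
* `fg_ker_of_finitePresentation`: `u : E → M`, `E` finite, `M` finitely presented ⟹ `ker u` f.g.
-/

set_option autoImplicit false
universe u v

namespace Groth.Agent.Lib.CoherentRing21

variable (R : Type u) [CommRing R]

/-- every finitely generated submodule of `M` is finitely presented -/
def Coh (M : Type v) [AddCommGroup M] [Module R M] : Prop :=
  ∀ N : Submodule R M, N.FG → Module.FinitePresentation R N

variable {R}

lemma coh_of_equiv {M M' : Type v} [AddCommGroup M] [Module R M] [AddCommGroup M'] [Module R M']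
    (e : M ≃ₗ[R] M') (h : Coh R M) : Coh R M' := by
  intro N hN
  have h1 : (N.map e.symm.toLinearMap).FG := hN.map _
  have := h _ h1
  exact Module.FinitePresentation.of_equiv (e.symm.submoduleMap N).symm

lemma coh_of_subsingleton (M : Type v) [AddCommGroup M] [Module R M] [Subsingleton M] :
    Coh R M := fun _ _ => inferInstance

/-- a linear map from a finite module to a coherent module has finitely generated kernel -/
lemma fg_ker_of_coh {E M : Type v} [AddCommGroup E] [Module R E] [AddCommGroup M] [Module R M]
    [Module.Finite R E] (hM : Coh R M) (u : E →ₗ[R] M) : (LinearMap.ker u).FG := by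
  have h1 : (LinearMap.range u).FG := by
    rw [LinearMap.range_eq_map]
    exact Module.Finite.fg_top.map u
  have := hM _ h1
  have h2 := Module.FinitePresentation.fg_ker u.rangeRestrict u.surjective_rangeRestrict
  rwa [LinearMap.ker_rangeRestrict] at h2

lemma coh_prod {M M' : Type v} [AddCommGroup M] [Module R M] [AddCommGroup M'] [Module R M']
    (hM : Coh R M) (hM' : Coh R M') : Coh R (M × M') := by
  intro N hN
  have : Module.Finite R N := Module.Finite.of_fg hN
  let l : N →ₗ[R] M' := (LinearMap.snd R M M').domRestrict N
  have h1 : (LinearMap.range l).FG := by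
    rw [LinearMap.range_eq_map]
    exact Module.Finite.fg_top.map l
  have hfp : Module.FinitePresentation R (LinearMap.range l) := hM' _ h1
  have hker : (LinearMap.ker l.rangeRestrict).FG :=
    Module.FinitePresentation.fg_ker l.rangeRestrict l.surjective_rangeRestrict
  -- embed the kernel into `M`
  let j : LinearMap.ker l.rangeRestrict →ₗ[R] M :=
    (LinearMap.fst R M M').comp (N.subtype.comp (LinearMap.ker l.rangeRestrict).subtype)
  have hj : Function.Injective j := by
    intro x y hxy
    have hx : (x.1.1).2 = 0 := by
      have := LinearMap.mem_ker.1 x.2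
      exact congrArg Subtype.val this
    have hy : (y.1.1).2 = 0 := by
      have := LinearMap.mem_ker.1 y.2
      exact congrArg Subtype.val this
    have hxy' : (x.1.1).1 = (y.1.1).1 := hxy
    apply Subtype.ext
    apply Subtype.ext
    exact Prod.ext hxy' (hx.trans hy.symm)
  have h2 : (LinearMap.range j).FG := by
    rw [LinearMap.range_eq_map]
    have : Module.Finite R (LinearMap.ker l.rangeRestrict) := Module.Finite.of_fg hker
    exact Module.Finite.fg_top.map j
  have hfp2 : Module.FinitePresentation R (LinearMap.range j) := hM _ h2
  have hfp3 : Module.FinitePresentation R (LinearMap.ker l.rangeRestrict) := by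
    exact Module.FinitePresentation.of_equiv (R := R) (M := LinearMap.range j)
      (N := LinearMap.ker l.rangeRestrict) (LinearEquiv.ofInjective j hj).symm
  exact Module.finitePresentation_of_ker l.rangeRestrict l.surjective_rangeRestrict

section Coherent

variable (hR : ∀ I : Ideal R, I.FG → Module.FinitePresentation R I)
include hR

lemma coh_self : Coh R R := fun N hN => hR N hN

lemma coh_pi_fin (n : ℕ) : Coh R (Fin n → R) := by
  induction n with
  | zero => exact coh_of_subsingleton _
  | succ n ih =>
    exact coh_of_equiv (Fin.consLinearEquiv R (fun _ : Fin (n + 1) => R))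
      (coh_prod (coh_self hR) ih)

lemma coh_of_finite_free (M : Type u) [AddCommGroup M] [Module R M] [Module.Finite R M]
    [Module.Free R M] : Coh R M := by
  rcases subsingleton_or_nontrivial R with h | h
  · have : Subsingleton M := Module.subsingleton R M
    exact coh_of_subsingleton M
  · let b := Module.finBasis R M
    exact coh_of_equiv b.equivFun.symm (coh_pi_fin hR _)

lemma fg_ker_of_finite_free {E M : Type u} [AddCommGroup E] [Module R E] [AddCommGroup M]
    [Module R M] [Module.Finite R E] [Module.Finite R M] [Module.Free R M] (u : E →ₗ[R] M) :
    (LinearMap.ker u).FG :=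
  fg_ker_of_coh (coh_of_finite_free hR M) u

/-- over a coherent ring, finitely presented modules are coherent -/
lemma coh_of_finitePresentation (M : Type u) [AddCommGroup M] [Module R M]
    [Module.FinitePresentation R M] : Coh R M := by
  intro N hN
  obtain ⟨n, π, hπ⟩ := Module.Finite.exists_fin' R M
  have hk : (LinearMap.ker π).FG := Module.FinitePresentation.fg_ker π hπ
  let N' : Submodule R (Fin n → R) := N.comap π
  have hN' : N'.FG := by
    apply Submodule.fg_of_fg_map_of_fg_inf_ker π
    · rw [Submodule.map_comap_eq_of_surjective hπ]
      exact hN
    · have : N' ⊓ LinearMap.ker π = LinearMap.ker π := by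
        apply inf_eq_right.2
        exact Submodule.comap_mono (f := π) bot_le
      rw [this]
      exact hk
  have hfp : Module.FinitePresentation R N' := coh_pi_fin hR n _ hN'
  -- `N' → N` surjective with kernel `≅ ker π`
  let l : N' →ₗ[R] N := π.restrict (fun x hx => hx)
  have hl : Function.Surjective l := by
    rintro ⟨y, hy⟩
    obtain ⟨x, rfl⟩ := hπ y
    exact ⟨⟨x, hy⟩, rfl⟩
  have hkl : (LinearMap.ker l).FG := by
    have : Module.Finite R (LinearMap.ker π) := Module.Finite.of_fg hk
    -- `ker π → ker l` surjective
    let t : LinearMap.ker π →ₗ[R] LinearMap.ker l :=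
      { toFun := fun x => ⟨⟨x.1, by
            change π x.1 ∈ N
            rw [LinearMap.mem_ker.1 x.2]
            exact N.zero_mem⟩, by
          rw [LinearMap.mem_ker]
          exact Subtype.ext (LinearMap.mem_ker.1 x.2)⟩
        map_add' := fun x y => rfl
        map_smul' := fun c x => rfl }
    have ht : Function.Surjective t := by
      rintro ⟨⟨x, hx⟩, hx'⟩
      have : π x = 0 := congrArg Subtype.val (LinearMap.mem_ker.1 hx')
      exact ⟨⟨x, LinearMap.mem_ker.2 this⟩, rfl⟩
    have := Module.Finite.of_surjective t ht
    exact Module.Finite.iff_fg.1 this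
  exact Module.finitePresentation_of_surjective l hl hkl

lemma fg_ker_of_finitePresentation {E M : Type u} [AddCommGroup E] [Module R E] [AddCommGroup M]
    [Module R M] [Module.Finite R E] [Module.FinitePresentation R M] (u : E →ₗ[R] M) :
    (LinearMap.ker u).FG :=
  fg_ker_of_coh (coh_of_finitePresentation hR M) u

end Coherent

end Groth.Agent.Lib.CoherentRing21
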