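import Groth.Agent.Lib.CoinvFree55a
import Groth.Agent.Lib.FinInv55a

/-!
# A finite commutative Hopf algebra is free over the coinvariants of a quotient (helper55)

`A` a finite-dimensional commutative Hopf algebra over an algebraically closed field `k`, `I` a Hopf
ideal, `H = A ⧸ I`.  `rho I : A → A ⊗ H` is the right coaction; its equalizer with `a ↦ a ⊗ 1` is the
algebra `B` of right `H`-invariants.  `A` is free over `B` of rank `dim H` (Mumford's argument: choose
`y₁,…,y_n` in general position so that `rho (y_i)` is an `A`-basis of `A ⊗ H`; the coefficients of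
`rho a` in this basis are invariant).
-/

set_option autoImplicit false
universe u v
open TensorProduct WithConv

namespace Groth.Agent.Lib.CoinvFree55

open Groth.Agent.Lib.FinInv55

section Defs

variable {k : Type u} [Field k] {A : Type v} [CommRing A] [HopfAlgebra k A] (I : Ideal A)
  [I.IsHopfIdeal k]

/-- The right coaction of `A ⧸ I` on `A`. -/
noncomputable def rho : A →ₐ[k] A ⊗[k] (A ⧸ I) :=
  (Algebra.TensorProduct.map (AlgHom.id k A) (Ideal.Quotient.mkₐ k I)).comp
    (Bialgebra.comulAlgHom k A)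

theorem rho_apply (a : A) :
    rho (k := k) I a = Algebra.TensorProduct.map (AlgHom.id k A) (Ideal.Quotient.mkₐ k I)
      (CoalgebraStruct.comul (R := k) a) := rfl

/-- Evaluate the first factor at a `k`-point. -/
noncomputable def ev (x : A →ₐ[k] k) : A ⊗[k] (A ⧸ I) →ₐ[k] (A ⧸ I) :=
  ((Algebra.TensorProduct.lid k (A ⧸ I)) : k ⊗[k] (A ⧸ I) →ₐ[k] (A ⧸ I)).comp
    (Algebra.TensorProduct.map x (AlgHom.id k (A ⧸ I)))

theorem ev_tmul (x : A →ₐ[k] k) (a : A) (h : A ⧸ I) : ev I x (a ⊗ₜ[k] h) = x a • h := by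
  simp [ev]

theorem shearHom_eq_map (x : A →ₐ[k] k) (a : A) :
    shearHom x a =
      Algebra.TensorProduct.map x (AlgHom.id k A) (CoalgebraStruct.comul (R := k) a) := by
  have h : Algebra.TensorProduct.lift ((incL k A k).comp x) (incR k A k)
      (fun _ _ => Commute.all _ _) = Algebra.TensorProduct.map x (AlgHom.id k A) := by
    ext b <;> simp
  rw [← h]
  exact AlgHom.convMul_apply _ _ a

theorem ev_rho (x : A →ₐ[k] k) (a : A) :
    ev I x (rho I a) = Ideal.Quotient.mk I (Algebra.TensorProduct.lid k A (shearHom x a)) := by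
  rw [rho_apply, shearHom_eq_map]
  generalize CoalgebraStruct.comul (R := k) a = t
  induction t using TensorProduct.induction_on with
  | zero => simp
  | add s t hs ht => simp only [map_add, hs, ht]
  | tmul c d =>
    simp only [Algebra.TensorProduct.map_tmul, ev_tmul, AlgHom.coe_id, id_eq,
      Algebra.TensorProduct.lid_tmul, Ideal.Quotient.mkₐ_eq_mk]
    rw [Algebra.smul_def, Algebra.smul_def, map_mul]
    rfl

theorem ev_rho_surjective (x : A →ₐ[k] k) : Function.Surjective fun a => ev I x (rho I a) := by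
  intro h
  obtain ⟨a', rfl⟩ := Ideal.Quotient.mk_surjective h
  let z : k ⊗[k] A := (thetaEquiv x).symm ((1 : k) ⊗ₜ[k] a')
  refine ⟨Algebra.TensorProduct.lid k A z, ?_⟩
  show ev I x (rho I _) = _
  rw [ev_rho]
  have h1 : (1 : k) ⊗ₜ[k] (Algebra.TensorProduct.lid k A z) = z := by
    have := (Algebra.TensorProduct.lid k A).symm_apply_apply z
    rwa [Algebra.TensorProduct.lid_symm_apply] at this
  have h2 : Theta x ((1 : k) ⊗ₜ[k] (Algebra.TensorProduct.lid k A z)) = (1 : k) ⊗ₜ[k] a' := by
    rw [h1]
    exact (thetaEquiv x).apply_symm_apply _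
  rw [Theta_tmul, ← Algebra.TensorProduct.one_def, one_mul] at h2
  rw [h2, Algebra.TensorProduct.lid_tmul, one_smul]

end Defs

section Det

variable {k : Type u} [Field k] {A : Type v} [CommRing A] [HopfAlgebra k A] (I : Ideal A)
  [I.IsHopfIdeal k] {n : Type*} [Fintype n] [DecidableEq n] (b : Module.Basis n k (A ⧸ I))

theorem repr_ev (x : A →ₐ[k] k) (z : A ⊗[k] (A ⧸ I)) (j : n) :
    b.repr (ev I x z) j = x ((Algebra.TensorProduct.basis A b).repr z j) := by
  induction z using TensorProduct.induction_on with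
  | zero => simp
  | add z w hz hw => simp only [map_add, Finsupp.coe_add, Pi.add_apply, hz, hw]
  | tmul a h =>
    rw [ev_tmul, Algebra.TensorProduct.basis_repr_tmul]
    simp

theorem map_det_ev (x : A →ₐ[k] k) (v : n → A ⊗[k] (A ⧸ I)) :
    x ((Algebra.TensorProduct.basis A b).det v) = b.det (fun j => ev I x (v j)) := by
  rw [Module.Basis.det_apply, Module.Basis.det_apply, AlgHom.map_det]
  congr 1
  ext i j
  simp [Module.Basis.toMatrix_apply, repr_ev]

/-- `rho ⊗ id`. -/
noncomputable def alpha : A ⊗[k] (A ⧸ I) →ₐ[k] (A ⊗[k] (A ⧸ I)) ⊗[k] (A ⧸ I) :=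
  Algebra.TensorProduct.map (rho I) (AlgHom.id k (A ⧸ I))

/-- `id ⊗ Δ_H` (reassociated). -/
noncomputable def beta : A ⊗[k] (A ⧸ I) →ₐ[k] (A ⊗[k] (A ⧸ I)) ⊗[k] (A ⧸ I) :=
  ((Algebra.TensorProduct.assoc k k k A (A ⧸ I) (A ⧸ I)).symm :
      A ⊗[k] ((A ⧸ I) ⊗[k] (A ⧸ I)) →ₐ[k] (A ⊗[k] (A ⧸ I)) ⊗[k] (A ⧸ I)).comp
    (Algebra.TensorProduct.map (AlgHom.id k A) (Bialgebra.comulAlgHom k (A ⧸ I)))

theorem alpha_tmul (a : A) (h : A ⧸ I) : alpha (k := k) I (a ⊗ₜ[k] h) = rho I a ⊗ₜ[k] h := by
  simp [alpha]

theorem beta_tmul (a : A) (h : A ⧸ I) :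
    beta (k := k) I (a ⊗ₜ[k] h) =
      (Algebra.TensorProduct.assoc k k k A (A ⧸ I) (A ⧸ I)).symm
        (a ⊗ₜ[k] CoalgebraStruct.comul (R := k) h) := by
  simp [beta]

theorem repr_alpha (z : A ⊗[k] (A ⧸ I)) (j : n) :
    (Algebra.TensorProduct.basis (A ⊗[k] (A ⧸ I)) b).repr (alpha I z) j =
      rho I ((Algebra.TensorProduct.basis A b).repr z j) := by
  induction z using TensorProduct.induction_on with
  | zero => simp
  | add z w hz hw => simp only [map_add, Finsupp.coe_add, Pi.add_apply, hz, hw]
  | tmul a h =>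
    rw [alpha_tmul, Algebra.TensorProduct.basis_repr_tmul, Algebra.TensorProduct.basis_repr_tmul]
    simp

theorem det_alpha (v : n → A ⊗[k] (A ⧸ I)) :
    (Algebra.TensorProduct.basis (A ⊗[k] (A ⧸ I)) b).det (fun j => alpha I (v j)) =
      rho I ((Algebra.TensorProduct.basis A b).det v) := by
  rw [Module.Basis.det_apply, Module.Basis.det_apply, AlgHom.map_det]
  congr 1
  ext i j
  simp [Module.Basis.toMatrix_apply, repr_alpha]

theorem alpha_smul (c : A) (z : A ⊗[k] (A ⧸ I)) :
    alpha (k := k) I (c • z) = rho (k := k) I c • alpha (k := k) I z := by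
  induction z using TensorProduct.induction_on with
  | zero => simp
  | add z w hz hw => simp only [smul_add, map_add, hz, hw]
  | tmul a h =>
    rw [TensorProduct.smul_tmul', alpha_tmul, alpha_tmul, TensorProduct.smul_tmul', smul_eq_mul,
      smul_eq_mul, map_mul]

theorem beta_smul (c : A) (z : A ⊗[k] (A ⧸ I)) :
    beta (k := k) I (c • z) = (c ⊗ₜ[k] (1 : A ⧸ I)) • beta (k := k) I z := by
  induction z using TensorProduct.induction_on with
  | zero => simp
  | add z w hz hw => simp only [smul_add, map_add, hz, hw]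
  | tmul a h =>
    rw [TensorProduct.smul_tmul', beta_tmul, beta_tmul, smul_eq_mul]
    generalize CoalgebraStruct.comul (R := k) h = s
    induction s using TensorProduct.induction_on with
    | zero => simp
    | add s t hs ht => simp only [TensorProduct.tmul_add, map_add, smul_add, hs, ht]
    | tmul h1 h2 =>
      simp only [Algebra.TensorProduct.assoc_symm_tmul]
      rw [TensorProduct.smul_tmul', smul_eq_mul, Algebra.TensorProduct.tmul_mul_tmul, one_mul]

theorem alpha_rho (a : A) :
    alpha (k := k) I (rho (k := k) I a) = beta (k := k) I (rho (k := k) I a) := by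
  let P : (A ⊗[k] A) ⊗[k] A →ₐ[k] (A ⊗[k] (A ⧸ I)) ⊗[k] (A ⧸ I) :=
    Algebra.TensorProduct.map
      (Algebra.TensorProduct.map (AlgHom.id k A) (Ideal.Quotient.mkₐ k I))
      (Ideal.Quotient.mkₐ k I)
  have h1 : ∀ t : A ⊗[k] A,
      alpha (k := k) I (Algebra.TensorProduct.map (AlgHom.id k A) (Ideal.Quotient.mkₐ k I) t) =
        P ((CoalgebraStruct.comul (R := k) (A := A)).rTensor A t) := by
    intro t
    induction t using TensorProduct.induction_on with
    | zero => simp
    | add s t hs ht => simp only [map_add, hs, ht]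
    | tmul c d =>
      simp only [Algebra.TensorProduct.map_tmul, AlgHom.coe_id, id_eq, alpha_tmul,
        LinearMap.rTensor_tmul, P]
      rfl
  have h2 : ∀ t : A ⊗[k] A,
      beta (k := k) I (Algebra.TensorProduct.map (AlgHom.id k A) (Ideal.Quotient.mkₐ k I) t) =
        P ((TensorProduct.assoc k A A A).symm
          ((CoalgebraStruct.comul (R := k) (A := A)).lTensor A t)) := by
    intro t
    induction t using TensorProduct.induction_on with
    | zero => simp
    | add s t hs ht => simp only [map_add, hs, ht]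
    | tmul c d =>
      simp only [Algebra.TensorProduct.map_tmul, AlgHom.coe_id, id_eq, beta_tmul,
        LinearMap.lTensor_tmul, Ideal.Quotient.mkₐ_eq_mk]
      rw [Bialgebra.Quotient.comul_mk]
      generalize CoalgebraStruct.comul (R := k) d = s
      induction s using TensorProduct.induction_on with
      | zero => simp
      | add s t hs ht => simp only [TensorProduct.tmul_add, map_add, hs, ht]
      | tmul d1 d2 => simp [P]
  rw [rho_apply, h1, h2, Coalgebra.coassoc_symm_apply]

end Det

end Groth.Agent.Lib.CoinvFree55
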