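import Groth.Agent.Lib.CoinvFree55b

/-!
# `A` is free of rank `dim (A/I)` over the right `A/I`-coinvariants (helper55)
-/

set_option autoImplicit false
universe u v
open TensorProduct WithConv

namespace Groth.Agent.Lib.CoinvFree55

section Main

variable {k : Type u} [Field k] {A : Type v} [CommRing A] [HopfAlgebra k A] (I : Ideal A)
  [I.IsHopfIdeal k]

/-- `id ⊗ ε_H : A ⊗ H → A`. -/
noncomputable def epsR : A ⊗[k] (A ⧸ I) →ₐ[k] A :=
  ((Algebra.TensorProduct.rid k k A) : A ⊗[k] k →ₐ[k] A).comp
    (Algebra.TensorProduct.map (AlgHom.id k A) (Bialgebra.counitAlgHom k (A ⧸ I)))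

theorem epsR_tmul (a : A) (h : A ⧸ I) :
    epsR (k := k) I (a ⊗ₜ[k] h) = CoalgebraStruct.counit (R := k) h • a := by
  simp [epsR]

theorem epsR_rho (a : A) : epsR (k := k) I (rho (k := k) I a) = a := by
  have h1 : ∀ t : A ⊗[k] A,
      epsR (k := k) I
          (Algebra.TensorProduct.map (AlgHom.id k A) (Ideal.Quotient.mkₐ k I) t) =
        Algebra.TensorProduct.rid k k A
          ((CoalgebraStruct.counit (R := k) (A := A)).lTensor A t) := by
    intro t
    induction t using TensorProduct.induction_on with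
    | zero => simp
    | add s t hs ht => simp only [map_add, hs, ht]
    | tmul c d =>
      simp only [Algebra.TensorProduct.map_tmul, AlgHom.coe_id, id_eq, epsR_tmul,
        LinearMap.lTensor_tmul, Ideal.Quotient.mkₐ_eq_mk, Algebra.TensorProduct.rid_tmul]
      rfl
  rw [rho_apply, h1, Coalgebra.lTensor_counit_comul]
  simp

theorem epsR_smul (c : A) (z : A ⊗[k] (A ⧸ I)) :
    epsR (k := k) I (c • z) = c * epsR (k := k) I z := by
  induction z using TensorProduct.induction_on with
  | zero => simp
  | add z w hz hw => simp only [smul_add, map_add, hz, hw, mul_add]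
  | tmul a h =>
    rw [TensorProduct.smul_tmul', epsR_tmul, epsR_tmul, smul_eq_mul, mul_smul_comm]

theorem rho_smul_of_mem (c a : A) (hc : rho (k := k) I c = c ⊗ₜ[k] (1 : A ⧸ I)) :
    rho (k := k) I (c * a) = c • rho (k := k) I a := by
  rw [map_mul, hc]
  generalize rho (k := k) I a = z
  induction z using TensorProduct.induction_on with
  | zero => simp
  | add z w hz hw => simp only [smul_add, mul_add, hz, hw]
  | tmul a h =>
    rw [TensorProduct.smul_tmul', Algebra.TensorProduct.tmul_mul_tmul, one_mul, smul_eq_mul]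

variable [IsAlgClosed k] [Module.Finite k A]

/-- The subalgebra of right coinvariants. -/
noncomputable abbrev coinvB : Subalgebra k A :=
  AlgHom.equalizer (rho (k := k) I) (Algebra.TensorProduct.includeLeft : A →ₐ[k] A ⊗[k] (A ⧸ I))

theorem exists_basis :
    ∃ y : Fin (Module.finrank k (A ⧸ I)) → A,
      LinearIndependent (coinvB (k := k) I) y ∧
        ⊤ ≤ Submodule.span (coinvB (k := k) I) (Set.range y) := by
  classical
  let b : Module.Basis (Fin (Module.finrank k (A ⧸ I))) k (A ⧸ I) := Module.finBasis k (A ⧸ I)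
  haveI : Finite (A →ₐ[k] k) := Finite.algHom k A k
  obtain ⟨y, hy⟩ := exists_general_position (k := k) (E := A) (F := A ⧸ I)
    (fun x : A →ₐ[k] k => ((ev I x).comp (rho (k := k) I)).toLinearMap)
    (fun x => ev_rho_surjective I x)
  let eA := Algebra.TensorProduct.basis A b
  let Y : Fin (Module.finrank k (A ⧸ I)) → A ⊗[k] (A ⧸ I) := fun j => rho (k := k) I (y j)
  have hdet : IsUnit (eA.det Y) := by
    apply isUnit_of_forall_algHom_ne_zero (k := k)
    intro x
    rw [map_det_ev]
    have hli : LinearIndependent k fun j => ev I x (Y j) := hy x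
    have hsp : Submodule.span k (Set.range fun j => ev I x (Y j)) = ⊤ :=
      hli.span_eq_top_of_card_eq_finrank' (by simp)
    exact ((Module.Basis.is_basis_iff_det b).1 ⟨hli, hsp⟩).ne_zero
  obtain ⟨hYli, hYsp⟩ := (Module.Basis.is_basis_iff_det eA).2 hdet
  have hdet2 : IsUnit ((Algebra.TensorProduct.basis (A ⊗[k] (A ⧸ I)) b).det
      fun j => alpha (k := k) I (Y j)) := by
    rw [det_alpha]
    exact hdet.map (rho (k := k) I)
  obtain ⟨hαli, -⟩ := (Module.Basis.is_basis_iff_det _).2 hdet2
  have hcoef : ∀ (c : Fin (Module.finrank k (A ⧸ I)) → A) (a : A),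
      rho (k := k) I a = ∑ j, c j • Y j → ∀ j, rho (k := k) I (c j) = c j ⊗ₜ[k] (1 : A ⧸ I) := by
    intro c a hc
    have e1 : alpha (k := k) I (rho (k := k) I a) =
        ∑ j, rho (k := k) I (c j) • alpha (k := k) I (Y j) := by
      rw [hc, map_sum]
      exact Finset.sum_congr rfl fun j _ => alpha_smul I (c j) (Y j)
    have e2 : beta (k := k) I (rho (k := k) I a) =
        ∑ j, (c j ⊗ₜ[k] (1 : A ⧸ I)) • alpha (k := k) I (Y j) := by
      rw [hc, map_sum]
      refine Finset.sum_congr rfl fun j _ => ?_
      rw [beta_smul, alpha_rho]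
    have e5 : ∑ j, rho (k := k) I (c j) • alpha (k := k) I (Y j) =
        ∑ j, (c j ⊗ₜ[k] (1 : A ⧸ I)) • alpha (k := k) I (Y j) := by
      rw [← e1, alpha_rho, e2]
    intro j
    exact Fintype.linearIndependent_iffₛ.1 hαli (fun j => rho (k := k) I (c j))
      (fun j => c j ⊗ₜ[k] (1 : A ⧸ I)) e5 j
  refine ⟨y, ?_, ?_⟩
  · rw [Fintype.linearIndependent_iff]
    intro g hg j
    have h3 : ∑ j, (g j : A) • Y j = 0 := by
      have h4 : rho (k := k) I (∑ j, g j • y j) = 0 := by rw [hg, map_zero]
      rw [map_sum] at h4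
      rw [← h4]
      refine Finset.sum_congr rfl fun j _ => ?_
      have h5 : g j • y j = (g j : A) * y j := rfl
      rw [h5, rho_smul_of_mem I _ _ (g j).2]
    exact Subtype.ext (Fintype.linearIndependent_iff.1 hYli (fun j => (g j : A)) h3 j)
  · intro a _
    have ha : rho (k := k) I a ∈ Submodule.span A (Set.range Y) := by rw [hYsp]; trivial
    obtain ⟨c, hc⟩ := (Submodule.mem_span_range_iff_exists_fun A).1 ha
    have hcB := hcoef c a hc.symm
    have h6 : a = ∑ j, c j * y j := by
      have h7 := congrArg (epsR (k := k) I) hc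
      rw [epsR_rho, map_sum] at h7
      rw [← h7]
      refine Finset.sum_congr rfl fun j _ => ?_
      rw [epsR_smul, epsR_rho]
    rw [h6]
    refine Submodule.sum_mem _ fun j _ => ?_
    have h8 : c j * y j = (⟨c j, hcB j⟩ : coinvB (k := k) I) • y j := rfl
    rw [h8]
    exact Submodule.smul_mem _ _ (Submodule.subset_span ⟨j, rfl⟩)

theorem free_and_finrank :
    Module.Free (coinvB (k := k) I) A ∧
      Module.finrank (coinvB (k := k) I) A = Module.finrank k (A ⧸ I) := by
  obtain ⟨y, hli, hsp⟩ := exists_basis (k := k) I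
  let bs : Module.Basis (Fin (Module.finrank k (A ⧸ I))) (coinvB (k := k) I) A :=
    Module.Basis.mk hli hsp
  haveI : Nontrivial A := by
    by_contra h
    rw [not_nontrivial_iff_subsingleton] at h
    have h01 : (0 : A) = 1 := Subsingleton.elim _ _
    have := congrArg (CoalgebraStruct.counit (R := k) (A := A)) h01
    rw [map_zero, Bialgebra.counit_one] at this
    exact zero_ne_one this
  exact ⟨Module.Free.of_basis bs, by rw [Module.finrank_eq_card_basis bs, Fintype.card_fin]⟩

end Main

end Groth.Agent.Lib.CoinvFree55
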