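import Mathlib

namespace Groth.Agent.Lib.CoinvTorsion

open Module

section Index

variable {R : Type*} [CommRing R] {N : Type*} [AddCommGroup N] [Module R N]

theorem index_range_pow (φ : N →ₗ[R] N) (hφ : Function.Injective φ) (k : ℕ) :
    (LinearMap.range (φ ^ k)).toAddSubgroup.index =
      (LinearMap.range φ).toAddSubgroup.index ^ k := by
  induction k with
  | zero =>
    have : LinearMap.range (φ ^ 0) = ⊤ := by
      rw [pow_zero]; exact LinearMap.range_id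
    rw [this]; simp
  | succ k ih =>
    have hk : Function.Injective (φ ^ k) := by
      rw [Module.End.coe_pow]
      exact hφ.iterate k
    have h1 : (LinearMap.range (φ ^ (k + 1))).toAddSubgroup =
        (LinearMap.range φ).toAddSubgroup.map (φ ^ k).toAddMonoidHom := by
      ext x
      simp only [Submodule.mem_toAddSubgroup, LinearMap.mem_range, AddSubgroup.mem_map,
        LinearMap.toAddMonoidHom_coe, pow_succ, Module.End.mul_apply]
      constructor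
      · rintro ⟨y, rfl⟩
        exact ⟨φ y, ⟨y, rfl⟩, rfl⟩
      · rintro ⟨_, ⟨y, rfl⟩, rfl⟩
        exact ⟨y, rfl⟩
    have h2 : (LinearMap.range (φ ^ k)).toAddSubgroup =
        (⊤ : AddSubgroup N).map (φ ^ k).toAddMonoidHom := by
      ext x
      simp [LinearMap.mem_range]
    have hle : (LinearMap.range φ).toAddSubgroup.map (φ ^ k).toAddMonoidHom ≤
        (⊤ : AddSubgroup N).map (φ ^ k).toAddMonoidHom := AddSubgroup.map_mono le_top
    rw [h1, ← AddSubgroup.relIndex_mul_index hle,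
      AddSubgroup.relIndex_map_map_of_injective _ _ hk, AddSubgroup.relIndex_top_right, ← h2, ih,
      pow_succ, mul_comm]

end Index

section Padic

variable (ℓ : ℕ) [Fact ℓ.Prime]

theorem card_padicInt_quot : Nat.card (ℤ_[ℓ] ⧸ Ideal.span {(ℓ : ℤ_[ℓ])}) = ℓ := by
  rw [← PadicInt.maximalIdeal_eq_span_p, ← PadicInt.ker_toZMod]
  rw [Nat.card_congr (RingHom.quotientKerEquivOfSurjective
    (ZMod.ringHom_surjective (PadicInt.toZMod (p := ℓ)))).toEquiv]
  exact Nat.card_zmod ℓ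

variable {N : Type*} [AddCommGroup N] [Module ℤ_[ℓ] N] [Module.Free ℤ_[ℓ] N]
  [Module.Finite ℤ_[ℓ] N]

theorem card_quot_smul :
    Nat.card (N ⧸ LinearMap.range ((ℓ : ℤ_[ℓ]) • (LinearMap.id : N →ₗ[ℤ_[ℓ]] N))) =
      ℓ ^ finrank ℤ_[ℓ] N := by
  classical
  set c := finrank ℤ_[ℓ] N with hc
  let b : Basis (Fin c) ℤ_[ℓ] N := Module.finBasis ℤ_[ℓ] N
  let e : N ≃ₗ[ℤ_[ℓ]] (Fin c → ℤ_[ℓ]) := b.equivFun
  let S' : Submodule ℤ_[ℓ] (Fin c → ℤ_[ℓ]) :=
    Submodule.pi Set.univ (fun _ => (Ideal.span {(ℓ : ℤ_[ℓ])} : Submodule ℤ_[ℓ] ℤ_[ℓ]))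
  have hmap : (LinearMap.range ((ℓ : ℤ_[ℓ]) • (LinearMap.id : N →ₗ[ℤ_[ℓ]] N))).map
      (e : N →ₗ[ℤ_[ℓ]] (Fin c → ℤ_[ℓ])) = S' := by
    ext x
    simp only [Submodule.mem_map, LinearMap.mem_range, LinearMap.smul_apply, LinearMap.id_coe,
      id_eq, S', Submodule.mem_pi, Set.mem_univ, forall_true_left, Ideal.mem_span_singleton']
    constructor
    · rintro ⟨_, ⟨y, rfl⟩, rfl⟩ i
      refine ⟨e y i, ?_⟩
      simp [mul_comm]
    · intro h
      choose a ha using h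
      refine ⟨_, ⟨e.symm a, rfl⟩, ?_⟩
      ext i
      simp [← ha i, mul_comm]
  have e1 := Submodule.Quotient.equiv _ S' e hmap
  have e2 := Submodule.quotientPi (ι := Fin c) (Ms := fun _ => ℤ_[ℓ])
    (fun _ => (Ideal.span {(ℓ : ℤ_[ℓ])} : Submodule ℤ_[ℓ] ℤ_[ℓ]))
  rw [Nat.card_congr (e1.trans e2).toEquiv, Nat.card_pi]
  simp only [Finset.prod_const, Finset.card_univ, Fintype.card_fin]
  rw [card_padicInt_quot]

end Padic

section Padic2

variable (ℓ : ℕ) [Fact ℓ.Prime]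
variable {N : Type*} [AddCommGroup N] [Module ℤ_[ℓ] N] [Module.Free ℤ_[ℓ] N]
  [Module.Finite ℤ_[ℓ] N]

theorem card_quot_range_of_range_pow (φ : N →ₗ[ℤ_[ℓ]] N) (hφ : Function.Injective φ) (k : ℕ)
    (hk : 0 < k)
    (h : LinearMap.range (φ ^ k) =
      LinearMap.range ((ℓ : ℤ_[ℓ]) • (LinearMap.id : N →ₗ[ℤ_[ℓ]] N))) :
    ∃ r : ℕ, r * k = finrank ℤ_[ℓ] N ∧ Nat.card (N ⧸ LinearMap.range φ) = ℓ ^ r := by
  have hp : ℓ.Prime := Fact.out
  have h1 := index_range_pow φ hφ k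
  rw [h, ← Submodule.cardQuot, Submodule.cardQuot_apply, card_quot_smul, ← Submodule.cardQuot,
    Submodule.cardQuot_apply] at h1
  set I := Nat.card (N ⧸ LinearMap.range φ) with hI
  have hdvd : I ∣ ℓ ^ finrank ℤ_[ℓ] N := by
    rw [h1]
    exact dvd_pow_self I hk.ne'
  obtain ⟨r, _, hr⟩ := (Nat.dvd_prime_pow hp).1 hdvd
  refine ⟨r, ?_, hr⟩
  rw [hr, ← pow_mul] at h1
  exact (Nat.pow_right_injective hp.two_le h1).symm

end Padic2

universe u

theorem aux (ℓ : ℕ) [Fact ℓ.Prime] (M : Type u) [AddCommGroup M] [Module ℤ_[ℓ] M]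
    [Module.Free ℤ_[ℓ] M] [Module.Finite ℤ_[ℓ] M]
    (f Nm P : Module.End ℤ_[ℓ] M) (hfN : f * Nm = 0) (hNf : Nm * f = 0)
    (hN : ∀ x, f x = 0 → Nm x = (ℓ : ℤ_[ℓ]) • x) (hP : (ℓ : ℤ_[ℓ]) • P = Nm)
    (k : ℕ) (hk : 0 < k) (U : M ≃ₗ[ℤ_[ℓ]] M)
    (hU : f ^ k = Nm + (ℓ : ℤ_[ℓ]) • (U : Module.End ℤ_[ℓ] M))
    (hPU : ∀ x, P (U x) = U (P x))
    (c : ℕ) (hc : c = finrank ℤ_[ℓ] M - finrank ℤ_[ℓ] (LinearMap.ker f)) :
    (∀ x ∈ Submodule.torsion ℤ_[ℓ] (M ⧸ LinearMap.range f), (ℓ : ℤ_[ℓ]) • x = 0) ∧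
      ∃ r : ℕ, r * k = c ∧
        Nat.card (Submodule.torsion ℤ_[ℓ] (M ⧸ LinearMap.range f)) = ℓ ^ r := by
  have hℓ0 : (ℓ : ℤ_[ℓ]) ≠ 0 := Nat.cast_ne_zero.2 (Fact.out : ℓ.Prime).ne_zero
  have tf : ∀ (x : M), (ℓ : ℤ_[ℓ]) • x = 0 → x = 0 :=
    fun x hx => (smul_eq_zero.1 hx).resolve_left hℓ0
  have hNmP : ∀ x, Nm x = (ℓ : ℤ_[ℓ]) • P x := by
    intro x; rw [← hP]; rfl
  have hfP : ∀ x, f (P x) = 0 := by
    intro x
    apply tf
    rw [← map_smul, ← hNmP]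
    exact LinearMap.congr_fun hfN x
  have hPf : ∀ x, P (f x) = 0 := by
    intro x
    apply tf
    rw [← hNmP]
    exact LinearMap.congr_fun hNf x
  have hPP : ∀ x, f x = 0 → P x = x := by
    intro x hx
    have h1 := hN x hx
    rw [hNmP] at h1
    have h2 : (ℓ : ℤ_[ℓ]) • (P x - x) = 0 := by rw [smul_sub, h1, sub_self]
    exact sub_eq_zero.1 (tf _ h2)
  have hPidem : ∀ x, P (P x) = P x := fun x => hPP _ (hfP x)
  have hker : LinearMap.ker f = LinearMap.range P := by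
    ext x
    simp only [LinearMap.mem_ker, LinearMap.mem_range]
    constructor
    · intro hx; exact ⟨x, hPP x hx⟩
    · rintro ⟨y, rfl⟩; exact hfP y
  -- the non-invariant part
  set M' := LinearMap.ker P with hM'
  have hfM' : ∀ x ∈ M', f x ∈ M' := fun x _ => LinearMap.mem_ker.2 (hPf x)
  set f' : M' →ₗ[ℤ_[ℓ]] M' := f.restrict hfM' with hf'
  have hf'k : ∀ y : M', (((f' ^ k) y : M') : M) = (ℓ : ℤ_[ℓ]) • U y := by
    intro y
    rw [hf', Module.End.pow_restrict, LinearMap.restrict_apply]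
    simp only
    rw [hU, LinearMap.add_apply, hNmP, LinearMap.mem_ker.1 y.2, smul_zero, zero_add]
    rfl
  have hUM' : ∀ y : M, P y = 0 → P (U y) = 0 := by
    intro y hy; rw [hPU, hy, map_zero]
  have hUM'symm : ∀ y : M, P y = 0 → P (U.symm y) = 0 := by
    intro y hy
    apply U.injective
    rw [← hPU, U.apply_symm_apply, hy, map_zero]
  have hf'inj : Function.Injective f' := by
    have hkinj : Function.Injective (f' ^ k) := by
      rw [← LinearMap.ker_eq_bot, LinearMap.ker_eq_bot']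
      intro y hy
      have h1 := hf'k y
      rw [hy] at h1
      have h2 : U y = 0 := tf _ h1.symm
      have h3 : (y : M) = 0 := by
        have := U.injective (h2.trans (map_zero U).symm)
        exact this
      exact Subtype.ext h3
    have : f' ^ k = f' ^ (k - 1) * f' := by
      rw [← pow_succ, Nat.sub_add_cancel hk]
    rw [this] at hkinj
    exact Function.Injective.of_comp (f := ⇑(f' ^ (k - 1))) hkinj
  have hrange : LinearMap.range (f' ^ k) =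
      LinearMap.range ((ℓ : ℤ_[ℓ]) • (LinearMap.id : M' →ₗ[ℤ_[ℓ]] M')) := by
    ext y
    simp only [LinearMap.mem_range, LinearMap.smul_apply, LinearMap.id_coe, id_eq]
    constructor
    · rintro ⟨z, rfl⟩
      refine ⟨⟨U z, LinearMap.mem_ker.2 (hUM' z z.2)⟩, ?_⟩
      apply Subtype.ext
      rw [hf'k]
      rfl
    · rintro ⟨z, rfl⟩
      refine ⟨⟨U.symm z, LinearMap.mem_ker.2 (hUM'symm z z.2)⟩, ?_⟩
      apply Subtype.ext
      rw [hf'k]
      simp
  obtain ⟨r, hrk, hcard⟩ := card_quot_range_of_range_pow ℓ f' hf'inj k hk hrange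
  -- rank of M'
  have hrank : finrank ℤ_[ℓ] M' = c := by
    have h1 : finrank ℤ_[ℓ] (M ⧸ M') + finrank ℤ_[ℓ] M' = finrank ℤ_[ℓ] M :=
      M'.finrank_quotient_add_finrank
    have h2 : finrank ℤ_[ℓ] (M ⧸ M') = finrank ℤ_[ℓ] (LinearMap.ker f) := by
      rw [hker]
      exact LinearEquiv.finrank_eq P.quotKerEquivRange
    omega
  -- torsion of the quotient
  set ψ : M' →ₗ[ℤ_[ℓ]] (M ⧸ LinearMap.range f) :=
    (LinearMap.range f).mkQ.comp M'.subtype with hψ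
  have hℓrange : ∀ y : M, P y = 0 → (ℓ : ℤ_[ℓ]) • y ∈ LinearMap.range f := by
    intro y hy
    have h1 := hf'k ⟨U.symm y, LinearMap.mem_ker.2 (hUM'symm y hy)⟩
    simp only [LinearEquiv.apply_symm_apply] at h1
    rw [← h1, hf', Module.End.pow_restrict, LinearMap.restrict_apply]
    simp only
    have : k = (k - 1) + 1 := (Nat.sub_add_cancel hk).symm
    rw [this, pow_succ', Module.End.mul_apply]
    exact LinearMap.mem_range_self _ _
  have htors : LinearMap.range ψ = Submodule.torsion ℤ_[ℓ] (M ⧸ LinearMap.range f) := by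
    ext x
    constructor
    · rintro ⟨y, rfl⟩
      rw [Submodule.mem_torsion_iff]
      refine ⟨⟨(ℓ : ℤ_[ℓ]), mem_nonZeroDivisors_of_ne_zero hℓ0⟩, ?_⟩
      show (ℓ : ℤ_[ℓ]) • (LinearMap.range f).mkQ (y : M) = 0
      rw [← map_smul, Submodule.mkQ_apply, Submodule.Quotient.mk_eq_zero]
      exact hℓrange y y.2
    · intro hx
      obtain ⟨y, rfl⟩ := Submodule.mkQ_surjective _ x
      rw [Submodule.mem_torsion_iff] at hx
      obtain ⟨a, ha⟩ := hx
      have ha' : (a : ℤ_[ℓ]) • y ∈ LinearMap.range f := by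
        rw [← Submodule.Quotient.mk_eq_zero, Submodule.Quotient.mk_smul]
        exact ha
      obtain ⟨z, hz⟩ := ha'
      have h1 : P ((a : ℤ_[ℓ]) • y) = 0 := by rw [← hz]; exact hPf z
      rw [map_smul] at h1
      have h2 : P y = 0 := (smul_eq_zero.1 h1).resolve_left (nonZeroDivisors.ne_zero a.2)
      exact ⟨⟨y, LinearMap.mem_ker.2 h2⟩, rfl⟩
  have hkerψ : LinearMap.ker ψ = LinearMap.range f' := by
    ext y
    simp only [LinearMap.mem_ker, LinearMap.mem_range, hψ, LinearMap.comp_apply,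
      Submodule.subtype_apply, Submodule.mkQ_apply, Submodule.Quotient.mk_eq_zero]
    constructor
    · rintro ⟨z, hz⟩
      refine ⟨⟨z - P z, ?_⟩, ?_⟩
      · rw [LinearMap.mem_ker, map_sub, hPidem, sub_self]
      · apply Subtype.ext
        rw [hf', LinearMap.restrict_apply]
        simp only
        rw [map_sub, hfP, sub_zero, hz]
    · rintro ⟨z, rfl⟩
      exact ⟨z, rfl⟩
  refine ⟨?_, r, by rw [hrk, hrank], ?_⟩
  · intro x hx
    rw [← htors] at hx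
    obtain ⟨y, rfl⟩ := hx
    show (ℓ : ℤ_[ℓ]) • (LinearMap.range f).mkQ (y : M) = 0
    rw [← map_smul, Submodule.mkQ_apply, Submodule.Quotient.mk_eq_zero]
    exact hℓrange y y.2
  · rw [← htors, ← Nat.card_congr ψ.quotKerEquivRange.toEquiv, hkerψ]
    exact hcard

section Cases

variable {ℓ : ℕ} [Fact ℓ.Prime] {M : Type u} [AddCommGroup M] [Module ℤ_[ℓ] M]
    [Module.Free ℤ_[ℓ] M] [Module.Finite ℤ_[ℓ] M]

theorem coe_pow_eq_one (A : M ≃ₗ[ℤ_[ℓ]] M) (n : ℕ) (hA : A ^ n = 1) :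
    (A : Module.End ℤ_[ℓ] M) ^ n = 1 := by
  have := congrArg (LinearEquiv.automorphismGroup.toLinearMapMonoidHom (R := ℤ_[ℓ]) (M := M)) hA
  rw [map_pow, map_one] at this
  exact this

theorem end_torsionFree (g : Module.End ℤ_[ℓ] M) (a : ℤ_[ℓ]) (ha : a ≠ 0) (h : a • g = 0) :
    g = 0 := by
  ext x
  have := LinearMap.congr_fun h x
  rw [LinearMap.smul_apply, LinearMap.zero_apply] at this
  exact (smul_eq_zero.1 this).resolve_left ha

end Cases

theorem case_two (M : Type u) [AddCommGroup M] [Module ℤ_[2] M]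
    [Module.Free ℤ_[2] M] [Module.Finite ℤ_[2] M]
    (A : M ≃ₗ[ℤ_[2]] M) (hA : A ^ 2 = 1) (f : Module.End ℤ_[2] M)
    (hf : f = (A : M →ₗ[ℤ_[2]] M) - 1) (B : Module.End ℤ_[2] M) (hB : f = (2 : ℤ_[2]) • B)
    (c : ℕ) (hc : c = Module.finrank ℤ_[2] M - Module.finrank ℤ_[2] (LinearMap.ker f)) :
    (∀ x ∈ Submodule.torsion ℤ_[2] (M ⧸ LinearMap.range f), ((2 : ℕ) : ℤ_[2]) • x = 0) ∧
      ∃ r : ℕ, r * (2 - 1) = c ∧
        Nat.card (Submodule.torsion ℤ_[2] (M ⧸ LinearMap.range f)) = 2 ^ r := by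
  set a : Module.End ℤ_[2] M := (A : M →ₗ[ℤ_[2]] M) with ha
  have ha2 : a ^ 2 = 1 := coe_pow_eq_one A 2 hA
  have hfa : a = f + 1 := by rw [hf]; abel
  have h2 : ((2 : ℕ) : ℤ_[2]) = 2 := by norm_num
  refine aux 2 M f (1 + a) (1 + B) ?_ ?_ ?_ ?_ 1 one_pos (LinearEquiv.neg ℤ_[2]) ?_ ?_ c hc
  · have : f * (1 + a) = a ^ 2 - 1 := by rw [hf]; noncomm_ring
    rw [this, ha2, sub_self]
  · have : (1 + a) * f = a ^ 2 - 1 := by rw [hf]; noncomm_ring
    rw [this, ha2, sub_self]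
  · intro x hx
    have hax : a x = x := by
      have := LinearMap.congr_fun hfa x
      rw [this, LinearMap.add_apply, hx, zero_add]; rfl
    rw [LinearMap.add_apply, hax, h2, two_smul]; rfl
  · rw [h2, smul_add, ← hB, hfa]
    have : (2 : ℤ_[2]) • (1 : Module.End ℤ_[2] M) = 1 + 1 := by rw [two_smul]
    rw [this]; abel
  · rw [pow_one, h2]
    ext x
    simp only [LinearMap.add_apply, LinearMap.smul_apply, LinearEquiv.coe_coe,
      LinearEquiv.neg_apply, hf, LinearMap.sub_apply, Module.End.one_apply, two_smul, ha]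
    abel
  · intro x
    simp [add_comm]

theorem case_three (M : Type u) [AddCommGroup M] [Module ℤ_[3] M]
    [Module.Free ℤ_[3] M] [Module.Finite ℤ_[3] M]
    (A : M ≃ₗ[ℤ_[3]] M) (hA : A ^ 3 = 1) (f : Module.End ℤ_[3] M)
    (hf : f = (A : M →ₗ[ℤ_[3]] M) - 1) (B : Module.End ℤ_[3] M)
    (hB : f ^ 2 = (3 : ℤ_[3]) • B)
    (c : ℕ) (hc : c = Module.finrank ℤ_[3] M - Module.finrank ℤ_[3] (LinearMap.ker f)) :
    (∀ x ∈ Submodule.torsion ℤ_[3] (M ⧸ LinearMap.range f), ((3 : ℕ) : ℤ_[3]) • x = 0) ∧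
      ∃ r : ℕ, r * (3 - 1) = c ∧
        Nat.card (Submodule.torsion ℤ_[3] (M ⧸ LinearMap.range f)) = 3 ^ r := by
  set a : Module.End ℤ_[3] M := (A : M →ₗ[ℤ_[3]] M) with ha
  have ha3 : a ^ 3 = 1 := coe_pow_eq_one A 3 hA
  have hfa : a = f + 1 := by rw [hf]; abel
  have h3 : ((3 : ℕ) : ℤ_[3]) = 3 := by norm_num
  have h30 : (3 : ℤ_[3]) ≠ 0 := by
    rw [← h3]; exact Nat.cast_ne_zero.2 (by norm_num)
  -- B commutes with a
  have hBa : B * a = a * B := by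
    have h1 : (3 : ℤ_[3]) • (B * a - a * B) = 0 := by
      rw [smul_sub, ← smul_mul_assoc, ← mul_smul_comm, ← hB, hf]
      noncomm_ring
    exact sub_eq_zero.1 (end_torsionFree _ 3 h30 h1)
  refine aux 3 M f (1 + a + a ^ 2) (1 + f + B) ?_ ?_ ?_ ?_ 2 (by norm_num)
    ((LinearEquiv.neg ℤ_[3]).trans A) ?_ ?_ c hc
  · have : f * (1 + a + a ^ 2) = a ^ 3 - 1 := by rw [hf]; noncomm_ring
    rw [this, ha3, sub_self]
  · have : (1 + a + a ^ 2) * f = a ^ 3 - 1 := by rw [hf]; noncomm_ring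
    rw [this, ha3, sub_self]
  · intro x hx
    have hax : a x = x := by
      have := LinearMap.congr_fun hfa x
      rw [this, LinearMap.add_apply, hx, zero_add]; rfl
    have hax2 : (a ^ 2) x = x := by
      rw [pow_two, Module.End.mul_apply, hax, hax]
    rw [LinearMap.add_apply, LinearMap.add_apply, hax, hax2, h3]
    have : (3 : ℤ_[3]) = 1 + 1 + 1 := by norm_num
    rw [this, add_smul, add_smul, one_smul]; rfl
  · rw [h3, smul_add, smul_add, ← hB, hf]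
    have : (3 : ℤ_[3]) • (1 : Module.End ℤ_[3] M) = 1 + 1 + 1 := by
      have : (3 : ℤ_[3]) = 1 + 1 + 1 := by norm_num
      rw [this, add_smul, add_smul, one_smul]
    rw [this]
    have h4 : (3 : ℤ_[3]) • (a - 1) = (a - 1) + (a - 1) + (a - 1) := by
      have : (3 : ℤ_[3]) = 1 + 1 + 1 := by norm_num
      rw [this, add_smul, add_smul, one_smul]
    rw [h4]
    noncomm_ring
  · rw [h3]
    have hU : (((LinearEquiv.neg ℤ_[3]).trans A : M ≃ₗ[ℤ_[3]] M) : Module.End ℤ_[3] M) = -a := by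
      ext x
      simp [ha]
    rw [hU, hf]
    have h4 : (3 : ℤ_[3]) • (-a) = -a + -a + -a := by
      have : (3 : ℤ_[3]) = 1 + 1 + 1 := by norm_num
      rw [this, add_smul, add_smul, one_smul]
    rw [h4]
    noncomm_ring
  · intro x
    have h1 : (1 + f + B) * a = a * (1 + f + B) := by
      rw [add_mul, mul_add, hBa, hf]; noncomm_ring
    have h2 := LinearMap.congr_fun h1 x
    simp only [Module.End.mul_apply] at h2
    simp only [LinearEquiv.trans_apply, LinearEquiv.neg_apply]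
    rw [map_neg, map_neg, map_neg]
    exact congrArg Neg.neg h2

theorem main (ℓ : ℕ) [Fact ℓ.Prime]
    (M : Type u) [AddCommGroup M] [Module ℤ_[ℓ] M] [Module.Free ℤ_[ℓ] M] [Module.Finite ℤ_[ℓ] M]
    (A : M ≃ₗ[ℤ_[ℓ]] M) (hA : A ^ ℓ = 1) (f : Module.End ℤ_[ℓ] M) (hf : f = (A : M →ₗ[ℤ_[ℓ]] M) - 1)
    (hcase : (ℓ = 2 ∧ ∃ B : Module.End ℤ_[ℓ] M, f = (2 : ℤ_[ℓ]) • B) ∨
      (ℓ = 2 ∧ ∃ B : Module.End ℤ_[ℓ] M, f ^ 2 = (4 : ℤ_[ℓ]) • B) ∨
      (ℓ = 3 ∧ ∃ B : Module.End ℤ_[ℓ] M, f ^ 2 = (3 : ℤ_[ℓ]) • B))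
    (c : ℕ) (hc : c = Module.finrank ℤ_[ℓ] M - Module.finrank ℤ_[ℓ] (LinearMap.ker f)) :
    (∀ x ∈ Submodule.torsion ℤ_[ℓ] (M ⧸ LinearMap.range f), (ℓ : ℤ_[ℓ]) • x = 0) ∧
      ∃ r : ℕ, r * (ℓ - 1) = c ∧
        Nat.card (Submodule.torsion ℤ_[ℓ] (M ⧸ LinearMap.range f)) = ℓ ^ r := by
  rcases hcase with ⟨rfl, B, hB⟩ | ⟨rfl, B, hB⟩ | ⟨rfl, B, hB⟩
  · exact case_two M A hA f hf B hB c hc
  · refine case_two M A hA f hf (-B) ?_ c hc
    have ha2 : (A : Module.End ℤ_[2] M) ^ 2 = 1 := coe_pow_eq_one A 2 hA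
    have hfa : (A : Module.End ℤ_[2] M) = f + 1 := by rw [hf]; abel
    rw [hfa] at ha2
    have h1 : f ^ 2 + (2 : ℤ_[2]) • f = 0 := by
      have : (f + 1) ^ 2 = f ^ 2 + (f + f) + 1 := by noncomm_ring
      rw [this] at ha2
      rw [two_smul]
      have := sub_eq_zero.2 ha2
      rw [← this]; abel
    have h20 : (2 : ℤ_[2]) ≠ 0 := by
      have : ((2 : ℕ) : ℤ_[2]) ≠ 0 := Nat.cast_ne_zero.2 (by norm_num)
      simpa using this
    have h2 : (2 : ℤ_[2]) • (f + (2 : ℤ_[2]) • B) = 0 := by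
      rw [smul_add, smul_smul, ← h1, hB]
      norm_num
      abel
    have h3 := end_torsionFree _ 2 h20 h2
    rw [smul_neg]
    exact eq_neg_of_add_eq_zero_left h3
  · exact case_three M A hA f hf B hB c hc

end Groth.Agent.Lib.CoinvTorsion
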