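import Groth.Agent.Lib.ColimTensor96

/-!
# Descending properties of `T ⊗[R] S` over `T` through weak filtered colimits `T = colim T_i`
(helper96)

Setting: `(G i → A)` a weak filtered colimit system of `R`-algebras (`IsWeakColimAlg`), `S` an
`R`-algebra of finite type / finite presentation.  If `A ⊗[R] S` over `A` is
surjective / finite / unramified / bijective / smooth / étale then so is `G j ⊗[R] S` over `G j`
for some `j` (which can be chosen to receive a transition from any given `i₀`).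
-/

set_option autoImplicit false
universe u v w

namespace Groth.Agent.Lib.ColimDescentProps96

open TensorProduct Groth.Agent.Lib.ColimTensor96

section Gen

variable {R : Type*} [CommRing R] {S : Type*} [CommRing S] [Algebra R S]

/-- If `s` generates `S` over `R` and an `L`-subalgebra of `L ⊗[R] S` contains all `1 ⊗ c`,
`c ∈ s`, then it is everything. -/
theorem eq_top_of_one_tmul_mem {L : Type*} [CommRing L] [Algebra R L] (s : Set S)
    (hs : Algebra.adjoin R s = ⊤) (U : Subalgebra L (L ⊗[R] S))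
    (hU : ∀ c ∈ s, (1 : L) ⊗ₜ[R] c ∈ U) : U = ⊤ := by
  have h1 : ∀ c : S, (1 : L) ⊗ₜ[R] c ∈ U := by
    intro c
    have hc : c ∈ Algebra.adjoin R s := hs ▸ Algebra.mem_top
    induction hc using Algebra.adjoin_induction with
    | mem x hx => exact hU x hx
    | algebraMap r =>
      have : (1 : L) ⊗ₜ[R] (algebraMap R S r) = algebraMap L (L ⊗[R] S) (algebraMap R L r) := by
        rw [Algebra.TensorProduct.algebraMap_apply, Algebra.algebraMap_self, RingHom.id_apply,
          Algebra.algebraMap_eq_smul_one r, Algebra.algebraMap_eq_smul_one r,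
          TensorProduct.smul_tmul]
      rw [this]
      exact U.algebraMap_mem _
    | add x y _ _ hx hy => rw [TensorProduct.tmul_add]; exact U.add_mem hx hy
    | mul x y _ _ hx hy =>
      have := U.mul_mem hx hy
      rwa [Algebra.TensorProduct.tmul_mul_tmul, one_mul] at this
  rw [eq_top_iff]
  rintro z -
  induction z using TensorProduct.induction_on with
  | zero => exact U.zero_mem
  | tmul l c =>
    have := U.smul_mem (h1 c) l
    rwa [TensorProduct.smul_tmul', smul_eq_mul, mul_one] at this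
  | add x y hx hy => exact U.add_mem hx hy

theorem adjoin_one_tmul_eq_top {L : Type*} [CommRing L] [Algebra R L] (s : Set S)
    (hs : Algebra.adjoin R s = ⊤) :
    Algebra.adjoin L ((fun c : S => (1 : L) ⊗ₜ[R] c) '' s) = ⊤ :=
  eq_top_of_one_tmul_mem s hs _ (fun c hc => Algebra.subset_adjoin ⟨c, hc, rfl⟩)

end Gen

section Descent

variable {R : Type*} [CommRing R] {ι : Type*} {G : ι → Type*} [∀ i, CommRing (G i)]
  [∀ i, Algebra R (G i)] {A : Type*} [CommRing A] [Algebra R A] {g : ∀ i, G i →ₐ[R] A}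
  (S : Type*) [CommRing S] [Algebra R S]

/-- Surjectivity descends. -/
theorem surjective_descent (hW : IsWeakColimAlg G g) [Algebra.FiniteType R S]
    (h : Function.Surjective (algebraMap A (A ⊗[R] S))) (i₀ : ι) :
    ∃ (j : ι) (u : G i₀ →ₐ[R] G j), (g j).comp u = g i₀ ∧
      Function.Surjective (algebraMap (G j) (G j ⊗[R] S)) := by
  classical
  obtain ⟨s, hs⟩ := (Algebra.FiniteType.out : (⊤ : Subalgebra R S).FG)
  choose t ht using fun c : S => h ((1 : A) ⊗ₜ[R] c)
  obtain ⟨j₁, u₁, τ, hu₁, hτ⟩ := hW.lift_fun i₀ (fun c : s => t c)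
  obtain ⟨j₂, u₂, hu₂, hk⟩ := hW.kill_rTensor_finset S j₁
    (Finset.univ.image fun c : s => τ c ⊗ₜ[R] (1 : S) - (1 : G j₁) ⊗ₜ[R] (c : S)) (by
      intro z hz
      obtain ⟨c, -, rfl⟩ := Finset.mem_image.1 hz
      rw [map_sub, LinearMap.rTensor_tmul, LinearMap.rTensor_tmul, AlgHom.toLinearMap_apply,
        AlgHom.toLinearMap_apply, hτ, map_one, sub_eq_zero, ← ht c,
        Algebra.TensorProduct.algebraMap_apply, Algebra.algebraMap_self, RingHom.id_apply])
  refine ⟨j₂, u₂.comp u₁, by rw [← AlgHom.comp_assoc, hu₂, hu₁], ?_⟩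
  rw [Algebra.surjective_algebraMap_iff]
  symm
  apply eq_top_of_one_tmul_mem (s : Set S) hs
  intro c hc
  have := hk _ (Finset.mem_image_of_mem _ (Finset.mem_univ (⟨c, hc⟩ : s)))
  rw [map_sub, LinearMap.rTensor_tmul, LinearMap.rTensor_tmul, AlgHom.toLinearMap_apply,
    AlgHom.toLinearMap_apply, map_one, sub_eq_zero] at this
  rw [Algebra.mem_bot]
  exact ⟨u₂ (τ ⟨c, hc⟩), by
    rw [Algebra.TensorProduct.algebraMap_apply, Algebra.algebraMap_self, RingHom.id_apply, this]⟩

/-- Monic polynomials over `A` lift to monic polynomials over a stage. -/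
theorem lift_monic (hW : IsWeakColimAlg G g) (i₀ : ι) {κ : Type*} [Finite κ]
    (p : κ → Polynomial A) (hp : ∀ t, (p t).Monic) :
    ∃ (j : ι) (u : G i₀ →ₐ[R] G j) (P : κ → Polynomial (G j)), (g j).comp u = g i₀ ∧
      ∀ t, (P t).Monic ∧ (P t).map (g j : G j →+* A) = p t := by
  classical
  obtain ⟨j, u, x, hu, hx⟩ := hW.lift_fun i₀
    (fun q : Σ t : κ, Fin (p t).natDegree => (p q.1).coeff q.2)
  refine ⟨j, u, fun t => Polynomial.X ^ (p t).natDegree +
    ∑ k : Fin (p t).natDegree, Polynomial.C (x ⟨t, k⟩) * Polynomial.X ^ (k : ℕ), hu,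
    fun t => ⟨?_, ?_⟩⟩
  · exact Polynomial.monic_X_pow_add (Polynomial.degree_sum_fin_lt _)
  · rw [Polynomial.map_add, Polynomial.map_pow, Polynomial.map_X, Polynomial.map_sum]
    conv_rhs => rw [(hp t).as_sum]
    congr 1
    rw [Finset.sum_range]
    refine Finset.sum_congr rfl fun k _ => ?_
    rw [Polynomial.map_mul, Polynomial.map_C, Polynomial.map_pow, Polynomial.map_X]
    congr 2
    exact hx ⟨t, k⟩

theorem map_right_comp_algebraMap {L L' : Type*} [CommRing L] [Algebra R L] [CommRing L']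
    [Algebra R L'] (φ : L →ₐ[R] L') :
    ((Algebra.TensorProduct.map φ (AlgHom.id R S) : L ⊗[R] S →ₐ[R] L' ⊗[R] S) :
      L ⊗[R] S →+* L' ⊗[R] S).comp (algebraMap L (L ⊗[R] S)) =
      (algebraMap L' (L' ⊗[R] S)).comp (φ : L →+* L') := by
  ext x
  simp [Algebra.TensorProduct.algebraMap_apply]

theorem map_right_eval₂ {L L' : Type*} [CommRing L] [Algebra R L] [CommRing L']
    [Algebra R L'] (φ : L →ₐ[R] L') (P : Polynomial L) (c : S) :
    φ.toLinearMap.rTensor S (P.eval₂ (algebraMap L (L ⊗[R] S)) ((1 : L) ⊗ₜ[R] c)) =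
      (P.map (φ : L →+* L')).eval₂ (algebraMap L' (L' ⊗[R] S)) ((1 : L') ⊗ₜ[R] c) := by
  rw [← map_id_right_apply, Polynomial.eval₂_map, ← map_right_comp_algebraMap S φ]
  have := Polynomial.hom_eval₂ P (algebraMap L (L ⊗[R] S))
    ((Algebra.TensorProduct.map φ (AlgHom.id R S) : L ⊗[R] S →ₐ[R] L' ⊗[R] S) :
      L ⊗[R] S →+* L' ⊗[R] S) ((1 : L) ⊗ₜ[R] c)
  simpa using this

/-- Module-finiteness descends. -/
theorem finite_descent (hW : IsWeakColimAlg G g) [Algebra.FiniteType R S]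
    (h : Module.Finite A (A ⊗[R] S)) (i₀ : ι) :
    ∃ (j : ι) (u : G i₀ →ₐ[R] G j), (g j).comp u = g i₀ ∧
      Module.Finite (G j) (G j ⊗[R] S) := by
  classical
  obtain ⟨s, hs⟩ := (Algebra.FiniteType.out : (⊤ : Subalgebra R S).FG)
  have hint : ∀ c : S, IsIntegral A ((1 : A) ⊗ₜ[R] c) := fun c => IsIntegral.of_finite A _
  choose p hpm hp using hint
  obtain ⟨j₁, u₁, P, hu₁, hP⟩ := lift_monic hW i₀ (fun c : s => p c) (fun c => hpm c)
  obtain ⟨j₂, u₂, hu₂, hk⟩ := hW.kill_rTensor_finset S j₁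
    (Finset.univ.image fun c : s =>
      (P c).eval₂ (algebraMap (G j₁) (G j₁ ⊗[R] S)) ((1 : G j₁) ⊗ₜ[R] (c : S))) (by
      intro z hz
      obtain ⟨c, -, rfl⟩ := Finset.mem_image.1 hz
      rw [map_right_eval₂, (hP c).2]
      exact hp c)
  refine ⟨j₂, u₂.comp u₁, by rw [← AlgHom.comp_assoc, hu₂, hu₁], ?_⟩
  have hI : ∀ x ∈ (fun c : S => (1 : G j₂) ⊗ₜ[R] c) '' (s : Set S), IsIntegral (G j₂) x := by
    rintro _ ⟨c, hc, rfl⟩
    refine ⟨(P ⟨c, hc⟩).map (u₂ : G j₁ →+* G j₂), (hP ⟨c, hc⟩).1.map _, ?_⟩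
    rw [← map_right_eval₂]
    exact hk _ (Finset.mem_image_of_mem _ (Finset.mem_univ (⟨c, hc⟩ : s)))
  have hfg := fg_adjoin_of_finite ((s.finite_toSet).image _) hI
  rw [adjoin_one_tmul_eq_top (s : Set S) hs, Algebra.top_toSubmodule] at hfg
  exact Module.finite_def.2 hfg

attribute [local instance] Algebra.TensorProduct.rightAlgebra in
/-- Formal unramifiedness descends (for `S` of finite type). -/
theorem formallyUnramified_descent (hW : IsWeakColimAlg G g) [Algebra.FiniteType R S]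
    (h : Algebra.FormallyUnramified A (A ⊗[R] S)) (i₀ : ι) :
    ∃ (j : ι) (u : G i₀ →ₐ[R] G j), (g j).comp u = g i₀ ∧
      Algebra.FormallyUnramified (G j) (G j ⊗[R] S) := by
  classical
  obtain ⟨s, hs⟩ := (Algebra.FiniteType.out : (⊤ : Subalgebra R S).FG)
  have hsub : Subsingleton (A ⊗[R] Ω[S⁄R]) :=
    (KaehlerDifferential.tensorKaehlerEquivBase R A S (A ⊗[R] S)).injective.subsingleton
  obtain ⟨j, u, hu, hk⟩ := hW.kill_rTensor_finset (Ω[S⁄R]) i₀
    (s.image fun c => (1 : G i₀) ⊗ₜ[R] KaehlerDifferential.D R S c)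
    (fun z _ => Subsingleton.elim _ _)
  refine ⟨j, u, hu, ⟨?_⟩⟩
  have hD : ∀ c ∈ s, KaehlerDifferential.D (G j) (G j ⊗[R] S) ((1 : G j) ⊗ₜ[R] c) = 0 := by
    intro c hc
    have h1 := hk _ (Finset.mem_image_of_mem _ hc)
    rw [LinearMap.rTensor_tmul, AlgHom.toLinearMap_apply, map_one] at h1
    have h2 := congrArg (KaehlerDifferential.tensorKaehlerEquivBase R (G j) S (G j ⊗[R] S)) h1
    rw [KaehlerDifferential.tensorKaehlerEquivBase_tmul, one_smul, KaehlerDifferential.map_D,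
      map_zero, Algebra.TensorProduct.right_algebraMap_apply] at h2
    exact h2
  have hD0 : KaehlerDifferential.D (G j) (G j ⊗[R] S) = 0 := by
    apply Derivation.ext_of_adjoin_eq_top _ (adjoin_one_tmul_eq_top (L := G j) (s : Set S) hs)
    rintro _ ⟨c, hc, rfl⟩
    exact hD c hc
  have hsp := KaehlerDifferential.span_range_derivation (G j) (G j ⊗[R] S)
  have hr : Set.range (KaehlerDifferential.D (G j) (G j ⊗[R] S)) ⊆ {0} := by
    rintro _ ⟨x, rfl⟩
    rw [hD0]; rfl
  have hbot : (⊥ : Submodule (G j ⊗[R] S) Ω[(G j ⊗[R] S)⁄(G j)]) = ⊤ := by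
    rw [← hsp, eq_comm, Submodule.span_eq_bot]
    intro x hx
    exact hr hx
  exact (Submodule.subsingleton_iff (G j ⊗[R] S)).1 (subsingleton_of_bot_eq_top hbot)

end Descent

end Groth.Agent.Lib.ColimDescentProps96
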