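import Mathlib

/-!
# Weak filtered colimit systems of algebras and tensor products (helper96)

`IsWeakColimAlg G g`: a family of `R`-algebras `G i` with `R`-algebra maps `g i : G i →ₐ[R] A`,
where a *transition* `i → j` is any `R`-algebra map `h : G i →ₐ[R] G j` with `g j ∘ h = g i`, such
that
* (`dir`) any two indices admit transitions to a common index,
* (`lift`) the `g i` are jointly surjective,
* (`kill`) every element of the kernel of `g i` is killed by a transition.
This is what the hypotheses of S9417–S9423 give (`isWeakColimAlg_of_directed`), without any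
functoriality of the transition maps.

Main results: tensoring with a fixed module commutes with such colimits
(`lift_lTensor`, `kill_lTensor`, `lift_rTensor`, `kill_rTensor`), and the base change
`M ⊗[R] G i → M ⊗[R] A` is again a weak colimit system of `M`-algebras (`baseChange`).
-/

set_option autoImplicit false
universe u v w

namespace Groth.Agent.Lib.ColimTensor96

open TensorProduct

section Defs

variable {R : Type*} [CommRing R] {ι : Type*} (G : ι → Type*) [∀ i, CommRing (G i)]
  [∀ i, Algebra R (G i)] {A : Type*} [CommRing A] [Algebra R A] (g : ∀ i, G i →ₐ[R] A)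

/-- A weak filtered colimit system of `R`-algebras. -/
structure IsWeakColimAlg : Prop where
  nonempty : Nonempty ι
  dir : ∀ i i', ∃ (j : ι) (h : G i →ₐ[R] G j) (h' : G i' →ₐ[R] G j),
    (g j).comp h = g i ∧ (g j).comp h' = g i'
  lift : ∀ a : A, ∃ (i : ι) (x : G i), g i x = a
  kill : ∀ (i : ι) (x : G i), g i x = 0 →
    ∃ (j : ι) (h : G i →ₐ[R] G j), (g j).comp h = g i ∧ h x = 0

variable {G g}

theorem isWeakColimAlg_of_directed [Preorder ι] [IsDirected ι (· ≤ ·)] [Nonempty ι]
    (f : ∀ i j, i ≤ j → (G i →ₐ[R] G j)) (hg : ∀ i j (h : i ≤ j), (g j).comp (f i j h) = g i)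
    (hsurj : ∀ a : A, ∃ i, ∃ x : G i, g i x = a)
    (hker : ∀ i (x : G i), g i x = 0 → ∃ j, ∃ h : i ≤ j, f i j h x = 0) :
    IsWeakColimAlg G g where
  nonempty := inferInstance
  dir i i' := by
    obtain ⟨k, hik, hi'k⟩ := exists_ge_ge i i'
    exact ⟨k, f i k hik, f i' k hi'k, hg _ _ _, hg _ _ _⟩
  lift := hsurj
  kill i x hx := by
    obtain ⟨j, h, hj⟩ := hker i x hx
    exact ⟨j, f i j h, hg _ _ _, hj⟩

theorem IsWeakColimAlg.comp_apply {i j : ι} {h : G i →ₐ[R] G j} (hc : (g j).comp h = g i)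
    (x : G i) : g j (h x) = g i x := by
  rw [← hc]; rfl

/-- Finitely many elements of a kernel are killed by one transition. -/
theorem IsWeakColimAlg.kill_finset (hW : IsWeakColimAlg G g) (i : ι) (T : Finset (G i))
    (hT : ∀ x ∈ T, g i x = 0) :
    ∃ (j : ι) (h : G i →ₐ[R] G j), (g j).comp h = g i ∧ ∀ x ∈ T, h x = 0 := by
  classical
  induction T using Finset.induction_on with
  | empty => exact ⟨i, AlgHom.id R _, AlgHom.comp_id _, by simp⟩
  | insert a T _ ih =>
    obtain ⟨j, h, hh, hk⟩ := ih (fun x hx => hT x (Finset.mem_insert_of_mem hx))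
    have ha : g j (h a) = 0 := by
      rw [IsWeakColimAlg.comp_apply hh]; exact hT a (Finset.mem_insert_self a T)
    obtain ⟨j', h', hh', hj'⟩ := hW.kill j (h a) ha
    refine ⟨j', h'.comp h, ?_, fun x hx => ?_⟩
    · rw [← AlgHom.comp_assoc, hh', hh]
    · rcases Finset.mem_insert.1 hx with rfl | hx
      · exact hj'
      · rw [AlgHom.comp_apply, hk x hx, map_zero]

/-- Finitely many elements of `A` lift to a common stage receiving a transition from a given
stage. -/
theorem IsWeakColimAlg.lift_finset (hW : IsWeakColimAlg G g) (i₀ : ι) (T : Finset A) :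
    ∃ (j : ι) (h : G i₀ →ₐ[R] G j), (g j).comp h = g i₀ ∧ ∀ a ∈ T, ∃ x : G j, g j x = a := by
  classical
  induction T using Finset.induction_on with
  | empty => exact ⟨i₀, AlgHom.id R _, AlgHom.comp_id _, by simp⟩
  | insert a T _ ih =>
    obtain ⟨j, h, hh, hl⟩ := ih
    obtain ⟨i', x', hx'⟩ := hW.lift a
    obtain ⟨k, u, u', hu, hu'⟩ := hW.dir j i'
    refine ⟨k, u.comp h, ?_, fun b hb => ?_⟩
    · rw [← AlgHom.comp_assoc, hu, hh]
    · rcases Finset.mem_insert.1 hb with rfl | hb
      · exact ⟨u' x', by rw [IsWeakColimAlg.comp_apply hu', hx']⟩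
      · obtain ⟨x, hx⟩ := hl b hb
        exact ⟨u x, by rw [IsWeakColimAlg.comp_apply hu, hx]⟩

/-- A finite family of elements of `A` lifts to a stage after a given one. -/
theorem IsWeakColimAlg.lift_fun (hW : IsWeakColimAlg G g) (i₀ : ι) {κ : Type*} [Finite κ]
    (a : κ → A) :
    ∃ (j : ι) (h : G i₀ →ₐ[R] G j) (x : κ → G j), (g j).comp h = g i₀ ∧ ∀ t, g j (x t) = a t := by
  classical
  have := Fintype.ofFinite κ
  obtain ⟨j, h, hh, hl⟩ := hW.lift_finset i₀ (Finset.univ.image a)
  choose x hx using fun t => hl (a t) (Finset.mem_image_of_mem a (Finset.mem_univ t))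
  exact ⟨j, h, x, hh, hx⟩

end Defs

section Tensor

variable {R : Type*} [CommRing R] {ι : Type*} {G : ι → Type*} [∀ i, CommRing (G i)]
  [∀ i, Algebra R (G i)] {A : Type*} [CommRing A] [Algebra R A] {g : ∀ i, G i →ₐ[R] A}

theorem lTensor_comp_eq {M : Type*} [AddCommGroup M] [Module R M] {i j : ι}
    {h : G i →ₐ[R] G j} (hc : (g j).comp h = g i) (z : M ⊗[R] G i) :
    (g j).toLinearMap.lTensor M (h.toLinearMap.lTensor M z) = (g i).toLinearMap.lTensor M z := by
  rw [← hc, AlgHom.comp_toLinearMap, LinearMap.lTensor_comp]; rfl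

/-- Every element of `M ⊗ A` comes from some stage. -/
theorem IsWeakColimAlg.lift_lTensor (hW : IsWeakColimAlg G g) (M : Type*) [AddCommGroup M]
    [Module R M] (w : M ⊗[R] A) :
    ∃ (i : ι) (z : M ⊗[R] G i), (g i).toLinearMap.lTensor M z = w := by
  induction w using TensorProduct.induction_on with
  | zero => exact ⟨hW.nonempty.some, 0, map_zero _⟩
  | tmul m a =>
    obtain ⟨i, x, hx⟩ := hW.lift a
    exact ⟨i, m ⊗ₜ x, by simp [hx]⟩
  | add w₁ w₂ h₁ h₂ =>
    obtain ⟨i₁, z₁, hz₁⟩ := h₁
    obtain ⟨i₂, z₂, hz₂⟩ := h₂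
    obtain ⟨j, u₁, u₂, hu₁, hu₂⟩ := hW.dir i₁ i₂
    refine ⟨j, u₁.toLinearMap.lTensor M z₁ + u₂.toLinearMap.lTensor M z₂, ?_⟩
    rw [map_add, lTensor_comp_eq hu₁, lTensor_comp_eq hu₂, hz₁, hz₂]

private theorem finsuppScalarLeft_nat {X : Type*} [DecidableEq X] {L L' : Type*} [CommRing L]
    [Algebra R L] [CommRing L'] [Algebra R L'] (φ : L →ₐ[R] L') (z : (X →₀ R) ⊗[R] L) (t : X) :
    TensorProduct.finsuppScalarLeft R L' X (φ.toLinearMap.lTensor _ z) t =
      φ (TensorProduct.finsuppScalarLeft R L X z t) := by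
  induction z using TensorProduct.induction_on with
  | zero => simp
  | tmul p n =>
    simp [TensorProduct.finsuppScalarLeft_apply_tmul_apply]
  | add z₁ z₂ h₁ h₂ => simp [h₁, h₂]

/-- Free case of `kill_lTensor`. -/
theorem IsWeakColimAlg.kill_lTensor_free (hW : IsWeakColimAlg G g) (X : Type*) (i : ι)
    (z : (X →₀ R) ⊗[R] G i) (hz : (g i).toLinearMap.lTensor _ z = 0) :
    ∃ (j : ι) (h : G i →ₐ[R] G j), (g j).comp h = g i ∧ h.toLinearMap.lTensor _ z = 0 := by
  classical
  set z' := TensorProduct.finsuppScalarLeft R (G i) X z with hz'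
  have h0 : ∀ x ∈ z'.support.image z', g i x = 0 := by
    intro x hx
    obtain ⟨t, _, rfl⟩ := Finset.mem_image.1 hx
    have := finsuppScalarLeft_nat (g i) z t
    rw [hz, map_zero] at this
    simpa using this.symm
  obtain ⟨j, h, hc, hk⟩ := hW.kill_finset i _ h0
  refine ⟨j, h, hc, ?_⟩
  apply (TensorProduct.finsuppScalarLeft R (G j) X).injective
  rw [map_zero]
  ext t
  rw [finsuppScalarLeft_nat h z t, Finsupp.zero_apply]
  by_cases ht : t ∈ z'.support
  · exact hk _ (Finset.mem_image_of_mem _ ht)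
  · rw [← hz', Finsupp.notMem_support_iff.1 ht, map_zero]

/-- Passing `kill_lTensor` along a surjection `π : F → M`. -/
theorem IsWeakColimAlg.kill_lTensor_of_surjective (hW : IsWeakColimAlg G g) {F M : Type*}
    [AddCommGroup F] [Module R F] [AddCommGroup M] [Module R M] (π : F →ₗ[R] M)
    (hπ : Function.Surjective π)
    (hF : ∀ (i : ι) (z : F ⊗[R] G i), (g i).toLinearMap.lTensor F z = 0 →
      ∃ (j : ι) (h : G i →ₐ[R] G j), (g j).comp h = g i ∧ h.toLinearMap.lTensor F z = 0)
    (i : ι) (z : M ⊗[R] G i) (hz : (g i).toLinearMap.lTensor M z = 0) :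
    ∃ (j : ι) (h : G i →ₐ[R] G j), (g j).comp h = g i ∧ h.toLinearMap.lTensor M z = 0 := by
  have hex : Function.Exact (LinearMap.ker π).subtype π := LinearMap.exact_subtype_ker_map π
  have hexA : Function.Exact ((LinearMap.ker π).subtype.rTensor A) (π.rTensor A) :=
    rTensor_exact A hex hπ
  obtain ⟨zt, hzt⟩ := LinearMap.rTensor_surjective (G i) hπ z
  -- the image in `F ⊗ A` comes from `K ⊗ A`
  have h1 : π.rTensor A ((g i).toLinearMap.lTensor F zt) = 0 := by
    rw [← LinearMap.comp_apply, LinearMap.rTensor_comp_lTensor, ← LinearMap.lTensor_comp_rTensor,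
      LinearMap.comp_apply, hzt, hz]
  obtain ⟨y, hy⟩ := (hexA _).1 h1
  obtain ⟨j₁, yt, hyt⟩ := hW.lift_lTensor (LinearMap.ker π) y
  obtain ⟨j₂, u, u', hu, hu'⟩ := hW.dir i j₁
  have hv0 : (g j₂).toLinearMap.lTensor F (u.toLinearMap.lTensor F zt -
      (LinearMap.ker π).subtype.rTensor (G j₂) (u'.toLinearMap.lTensor (LinearMap.ker π) yt))
      = 0 := by
    rw [map_sub, lTensor_comp_eq hu, ← LinearMap.comp_apply (f := LinearMap.lTensor F _),
      LinearMap.lTensor_comp_rTensor, ← LinearMap.rTensor_comp_lTensor, LinearMap.comp_apply,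
      lTensor_comp_eq hu', hyt, hy, sub_self]
  obtain ⟨j₃, u'', hu'', hk⟩ := hF j₂ _ hv0
  refine ⟨j₃, u''.comp u, by rw [← AlgHom.comp_assoc, hu'', hu], ?_⟩
  rw [map_sub, sub_eq_zero] at hk
  rw [← hzt, ← LinearMap.comp_apply, LinearMap.lTensor_comp_rTensor,
    ← LinearMap.rTensor_comp_lTensor, LinearMap.comp_apply, AlgHom.comp_toLinearMap,
    LinearMap.lTensor_comp, LinearMap.comp_apply, hk,
    ← LinearMap.comp_apply (f := LinearMap.lTensor F _),
    LinearMap.lTensor_comp_rTensor, ← LinearMap.rTensor_comp_lTensor, LinearMap.comp_apply]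
  exact (rTensor_exact (G j₃) hex hπ _).2 ⟨_, rfl⟩

/-- **Tensor products commute with weak filtered colimits (injectivity part)**: an element of
`M ⊗ G i` dying in `M ⊗ A` dies after a transition. -/
theorem IsWeakColimAlg.kill_lTensor (hW : IsWeakColimAlg G g) (M : Type*) [AddCommGroup M]
    [Module R M] (i : ι) (z : M ⊗[R] G i) (hz : (g i).toLinearMap.lTensor M z = 0) :
    ∃ (j : ι) (h : G i →ₐ[R] G j), (g j).comp h = g i ∧ h.toLinearMap.lTensor M z = 0 :=
  hW.kill_lTensor_of_surjective (Finsupp.linearCombination R (id : M → M))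
    (Finsupp.linearCombination_id_surjective R M) (fun i z hz => hW.kill_lTensor_free M i z hz)
    i z hz

theorem comm_rTensor {M : Type*} [AddCommGroup M] [Module R M] {L L' : Type*} [CommRing L]
    [Algebra R L] [CommRing L'] [Algebra R L'] (φ : L →ₐ[R] L') (z : L ⊗[R] M) :
    TensorProduct.comm R L' M (φ.toLinearMap.rTensor M z) =
      φ.toLinearMap.lTensor M (TensorProduct.comm R L M z) := by
  induction z using TensorProduct.induction_on with
  | zero => simp
  | tmul x m => simp
  | add z₁ z₂ h₁ h₂ => simp [h₁, h₂]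

theorem rTensor_comp_eq {M : Type*} [AddCommGroup M] [Module R M] {i j : ι}
    {h : G i →ₐ[R] G j} (hc : (g j).comp h = g i) (z : G i ⊗[R] M) :
    (g j).toLinearMap.rTensor M (h.toLinearMap.rTensor M z) = (g i).toLinearMap.rTensor M z := by
  rw [← hc, AlgHom.comp_toLinearMap, LinearMap.rTensor_comp]; rfl

/-- Every element of `A ⊗ M` comes from some stage. -/
theorem IsWeakColimAlg.lift_rTensor (hW : IsWeakColimAlg G g) (M : Type*) [AddCommGroup M]
    [Module R M] (w : A ⊗[R] M) :
    ∃ (i : ι) (z : G i ⊗[R] M), (g i).toLinearMap.rTensor M z = w := by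
  obtain ⟨i, z, hz⟩ := hW.lift_lTensor M (TensorProduct.comm R A M w)
  refine ⟨i, (TensorProduct.comm R (G i) M).symm z, ?_⟩
  apply (TensorProduct.comm R A M).injective
  rw [comm_rTensor, LinearEquiv.apply_symm_apply, hz]

/-- An element of `G i ⊗ M` dying in `A ⊗ M` dies after a transition. -/
theorem IsWeakColimAlg.kill_rTensor (hW : IsWeakColimAlg G g) (M : Type*) [AddCommGroup M]
    [Module R M] (i : ι) (z : G i ⊗[R] M) (hz : (g i).toLinearMap.rTensor M z = 0) :
    ∃ (j : ι) (h : G i →ₐ[R] G j), (g j).comp h = g i ∧ h.toLinearMap.rTensor M z = 0 := by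
  obtain ⟨j, h, hc, hk⟩ := hW.kill_lTensor M i (TensorProduct.comm R (G i) M z) (by
    rw [← comm_rTensor, hz, map_zero])
  refine ⟨j, h, hc, ?_⟩
  apply (TensorProduct.comm R (G j) M).injective
  rw [comm_rTensor, hk, map_zero]

/-- Finitely many elements of `G i ⊗ M` dying in `A ⊗ M` die after one transition. -/
theorem IsWeakColimAlg.kill_rTensor_finset (hW : IsWeakColimAlg G g) (M : Type*) [AddCommGroup M]
    [Module R M] (i : ι) (T : Finset (G i ⊗[R] M))
    (hT : ∀ z ∈ T, (g i).toLinearMap.rTensor M z = 0) :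
    ∃ (j : ι) (h : G i →ₐ[R] G j), (g j).comp h = g i ∧
      ∀ z ∈ T, h.toLinearMap.rTensor M z = 0 := by
  classical
  induction T using Finset.induction_on with
  | empty => exact ⟨i, AlgHom.id R _, AlgHom.comp_id _, by simp⟩
  | insert a T _ ih =>
    obtain ⟨j, h, hh, hk⟩ := ih (fun x hx => hT x (Finset.mem_insert_of_mem hx))
    have ha : (g j).toLinearMap.rTensor M (h.toLinearMap.rTensor M a) = 0 := by
      rw [rTensor_comp_eq hh]; exact hT a (Finset.mem_insert_self a T)
    obtain ⟨j', h', hh', hj'⟩ := hW.kill_rTensor M j _ ha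
    refine ⟨j', h'.comp h, ?_, fun x hx => ?_⟩
    · rw [← AlgHom.comp_assoc, hh', hh]
    · rw [AlgHom.comp_toLinearMap, LinearMap.rTensor_comp, LinearMap.comp_apply]
      rcases Finset.mem_insert.1 hx with rfl | hx
      · exact hj'
      · rw [hk x hx, map_zero]

theorem map_id_left_apply {M : Type*} [CommRing M] [Algebra R M] {L L' : Type*} [CommRing L]
    [Algebra R L] [CommRing L'] [Algebra R L'] (φ : L →ₐ[R] L') (z : M ⊗[R] L) :
    Algebra.TensorProduct.map (AlgHom.id M M) φ z = φ.toLinearMap.lTensor M z := by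
  induction z using TensorProduct.induction_on with
  | zero => simp
  | tmul x m => simp
  | add z₁ z₂ h₁ h₂ => simp only [map_add, h₁, h₂]

theorem map_id_right_apply {M : Type*} [CommRing M] [Algebra R M] {L L' : Type*} [CommRing L]
    [Algebra R L] [CommRing L'] [Algebra R L'] (φ : L →ₐ[R] L') (z : L ⊗[R] M) :
    Algebra.TensorProduct.map φ (AlgHom.id R M) z = φ.toLinearMap.rTensor M z := by
  induction z using TensorProduct.induction_on with
  | zero => simp
  | tmul x m => simp
  | add z₁ z₂ h₁ h₂ => simp only [map_add, h₁, h₂]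

/-- The base change of a weak colimit system along `R → M` is a weak colimit system of
`M`-algebras. -/
theorem IsWeakColimAlg.baseChange (hW : IsWeakColimAlg G g) (M : Type*) [CommRing M]
    [Algebra R M] :
    IsWeakColimAlg (R := M) (fun i => M ⊗[R] G i)
      (fun i => Algebra.TensorProduct.map (AlgHom.id M M) (g i)) where
  nonempty := hW.nonempty
  dir i i' := by
    obtain ⟨j, h, h', hh, hh'⟩ := hW.dir i i'
    refine ⟨j, Algebra.TensorProduct.map (AlgHom.id M M) h,
      Algebra.TensorProduct.map (AlgHom.id M M) h', ?_, ?_⟩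
    · rw [← Algebra.TensorProduct.map_comp, hh, AlgHom.comp_id]
    · rw [← Algebra.TensorProduct.map_comp, hh', AlgHom.comp_id]
  lift w := by
    obtain ⟨i, z, hz⟩ := hW.lift_lTensor M w
    exact ⟨i, z, by rw [map_id_left_apply, hz]⟩
  kill i z hz := by
    rw [map_id_left_apply] at hz
    obtain ⟨j, h, hc, hk⟩ := hW.kill_lTensor M i z hz
    refine ⟨j, Algebra.TensorProduct.map (AlgHom.id M M) h, ?_, by rw [map_id_left_apply, hk]⟩
    rw [← Algebra.TensorProduct.map_comp, hc, AlgHom.comp_id]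

end Tensor

end Groth.Agent.Lib.ColimTensor96
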