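import Mathlib

/-!
# Commuting involutions

A finite set of pairwise commuting involutions of an `n`-dimensional vector space over a field
with `2 ≠ 0` has at most `2 ^ n` elements (`card_le_two_pow`).
-/

set_option autoImplicit false
universe u v

namespace Groth.Agent.Lib.CommInvol

open Polynomial

section Compress

variable {K : Type u} [Field K] {V : Type v} [AddCommGroup V] [Module K V]

/-- Compression of an endomorphism to a complemented subspace. -/
noncomputable def compress (p q : Submodule K V) (h : IsCompl p q) (s : Module.End K V) :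
    Module.End K p :=
  (p.projectionOnto q h) ∘ₗ s ∘ₗ p.subtype

theorem coe_compress (p q : Submodule K V) (h : IsCompl p q) (s : Module.End K V)
    (hs : ∀ v ∈ p, s v ∈ p) (v : p) : ((compress p q h s v : p) : V) = s v := by
  have : compress p q h s v = p.projectionOnto q h (⟨s v, hs v v.2⟩ : p) := rfl
  rw [this, Submodule.projectionOnto_apply_left]

theorem compress_one (p q : Submodule K V) (h : IsCompl p q) : compress p q h 1 = 1 := by
  apply LinearMap.ext
  intro v
  apply Subtype.ext
  rw [coe_compress p q h 1 (fun v hv => hv)]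
  rfl

theorem compress_mul (p q : Submodule K V) (h : IsCompl p q) (s t : Module.End K V)
    (hs : ∀ v ∈ p, s v ∈ p) (ht : ∀ v ∈ p, t v ∈ p) :
    compress p q h (s * t) = compress p q h s * compress p q h t := by
  apply LinearMap.ext
  intro v
  apply Subtype.ext
  rw [coe_compress p q h (s * t) (fun v hv => hs _ (ht v hv)), Module.End.mul_apply,
    Module.End.mul_apply, coe_compress p q h s hs, coe_compress p q h t ht]

end Compress

/-- A finite set of pairwise commuting involutions of an `n`-dimensional space (`2 ≠ 0`) has at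
most `2 ^ n` elements. -/
theorem card_le_two_pow (K : Type u) [Field K] (h2 : (2 : K) ≠ 0) :
    ∀ (n : ℕ) (V : Type v) [AddCommGroup V] [Module K V] [FiniteDimensional K V],
      Module.finrank K V = n → ∀ S : Finset (Module.End K V), (∀ s ∈ S, s * s = 1) →
      (∀ s ∈ S, ∀ t ∈ S, s * t = t * s) → S.card ≤ 2 ^ n := by
  classical
  intro n
  induction n using Nat.strong_induction_on with
  | _ n ih =>
  intro V _ _ _ hn S hinv hcomm
  rcases Nat.eq_zero_or_pos n with h0 | hpos
  · subst h0
    haveI : Subsingleton V := Module.finrank_zero_iff.mp hn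
    haveI : Subsingleton (Module.End K V) := ⟨fun a b => LinearMap.ext fun v => Subsingleton.elim _ _⟩
    simpa using Finset.card_le_one_of_subsingleton S
  by_cases hA : ∀ s ∈ S, s = 1 ∨ s = -1
  · have hsub : S ⊆ {1, -1} := by
      intro s hs
      rcases hA s hs with h | h <;> simp [h]
    calc S.card ≤ ({1, -1} : Finset (Module.End K V)).card := Finset.card_le_card hsub
      _ ≤ 2 := Finset.card_le_two
      _ ≤ 2 ^ n := by
        calc 2 = 2 ^ 1 := rfl
          _ ≤ 2 ^ n := Nat.pow_le_pow_right (by norm_num) hpos
  push Not at hA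
  obtain ⟨g, hgS, hg1, hg2⟩ := hA
  have hgg : g * g = 1 := hinv g hgS
  have hgg' : ∀ v, g (g v) = v := fun v => by
    have := LinearMap.congr_fun hgg v
    simpa using this
  set p : Submodule K V := LinearMap.ker (g - 1) with hp
  set q : Submodule K V := LinearMap.ker (g + 1) with hq
  have hmemp : ∀ v, v ∈ p ↔ g v = v := fun v => by
    rw [hp, LinearMap.mem_ker, LinearMap.sub_apply, Module.End.one_apply, sub_eq_zero]
  have hmemq : ∀ v, v ∈ q ↔ g v = -v := fun v => by
    rw [hq, LinearMap.mem_ker, LinearMap.add_apply, Module.End.one_apply, add_eq_zero_iff_eq_neg]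
  have hcompl : IsCompl p q := by
    constructor
    · rw [Submodule.disjoint_def]
      intro v hvp hvq
      rw [hmemp] at hvp
      rw [hmemq] at hvq
      have h3 : (2 : K) • v = 0 := by
        rw [two_smul]
        nth_rw 1 [← hvp]
        rw [hvq, neg_add_cancel]
      exact (smul_eq_zero.mp h3).resolve_left h2
    · rw [codisjoint_iff, eq_top_iff]
      intro v _
      rw [Submodule.mem_sup]
      refine ⟨(2 : K)⁻¹ • (v + g v), ?_, (2 : K)⁻¹ • (v - g v), ?_, ?_⟩
      · rw [hmemp, map_smul, map_add, hgg', add_comm]
      · rw [hmemq, map_smul, map_sub, hgg', ← smul_neg, neg_sub]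
      · rw [← smul_add, add_add_sub_cancel, ← two_smul K v, smul_smul, inv_mul_cancel₀ h2, one_smul]
  have hpne : p ≠ ⊥ := by
    intro hbot
    apply hg2
    apply LinearMap.ext
    intro v
    have : v + g v ∈ p := by rw [hmemp, map_add, hgg', add_comm]
    rw [hbot, Submodule.mem_bot] at this
    rw [LinearMap.neg_apply, Module.End.one_apply]
    exact eq_neg_of_add_eq_zero_right this
  have hqne : q ≠ ⊥ := by
    intro hbot
    apply hg1
    apply LinearMap.ext
    intro v
    have : v - g v ∈ q := by rw [hmemq, map_sub, hgg', neg_sub]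
    rw [hbot, Submodule.mem_bot, sub_eq_zero] at this
    rw [Module.End.one_apply]
    exact this.symm
  have hdim : Module.finrank K p + Module.finrank K q = n := by
    rw [← hn]; exact Submodule.finrank_add_eq_of_isCompl hcompl
  have hppos : 0 < Module.finrank K p := by
    rw [Module.finrank_pos_iff]
    exact Submodule.nontrivial_iff_ne_bot.2 hpne
  have hqpos : 0 < Module.finrank K q := by
    rw [Module.finrank_pos_iff]
    exact Submodule.nontrivial_iff_ne_bot.2 hqne
  have hSp : ∀ s ∈ S, ∀ v ∈ p, s v ∈ p := by
    intro s hs v hv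
    rw [hmemp] at hv ⊢
    have := LinearMap.congr_fun (hcomm g hgS s hs) v
    simp only [Module.End.mul_apply] at this
    rw [this, hv]
  have hSq : ∀ s ∈ S, ∀ v ∈ q, s v ∈ q := by
    intro s hs v hv
    rw [hmemq] at hv ⊢
    have := LinearMap.congr_fun (hcomm g hgS s hs) v
    simp only [Module.End.mul_apply] at this
    rw [this, hv, map_neg]
  set cp := compress p q hcompl with hcp
  set cq := compress q p hcompl.symm with hcq
  have hcardp : (S.image cp).card ≤ 2 ^ Module.finrank K p := by
    apply ih (Module.finrank K p) (by omega) p rfl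
    · intro s' hs'
      obtain ⟨s, hs, rfl⟩ := Finset.mem_image.mp hs'
      rw [hcp, ← compress_mul p q hcompl s s (hSp s hs) (hSp s hs), hinv s hs, compress_one]
    · intro s' hs' t' ht'
      obtain ⟨s, hs, rfl⟩ := Finset.mem_image.mp hs'
      obtain ⟨t, ht, rfl⟩ := Finset.mem_image.mp ht'
      rw [hcp, ← compress_mul p q hcompl s t (hSp s hs) (hSp t ht),
        ← compress_mul p q hcompl t s (hSp t ht) (hSp s hs), hcomm s hs t ht]
  have hcardq : (S.image cq).card ≤ 2 ^ Module.finrank K q := by
    apply ih (Module.finrank K q) (by omega) q rfl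
    · intro s' hs'
      obtain ⟨s, hs, rfl⟩ := Finset.mem_image.mp hs'
      rw [hcq, ← compress_mul q p hcompl.symm s s (hSq s hs) (hSq s hs), hinv s hs, compress_one]
    · intro s' hs' t' ht'
      obtain ⟨s, hs, rfl⟩ := Finset.mem_image.mp hs'
      obtain ⟨t, ht, rfl⟩ := Finset.mem_image.mp ht'
      rw [hcq, ← compress_mul q p hcompl.symm s t (hSq s hs) (hSq t ht),
        ← compress_mul q p hcompl.symm t s (hSq t ht) (hSq s hs), hcomm s hs t ht]
  have hinj : Set.InjOn (fun s => (cp s, cq s)) (S : Set (Module.End K V)) := by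
    intro s hs t ht hst
    simp only [Prod.mk.injEq] at hst
    obtain ⟨h1, h2'⟩ := hst
    apply LinearMap.ext
    intro v
    have hv : v ∈ p ⊔ q := by rw [hcompl.sup_eq_top]; exact Submodule.mem_top
    obtain ⟨a, ha, b, hb, rfl⟩ := Submodule.mem_sup.mp hv
    rw [map_add, map_add]
    have e1 : s a = t a := by
      have := congrArg (fun f : Module.End K p => ((f ⟨a, ha⟩ : p) : V)) h1
      simp only [hcp] at this
      rwa [coe_compress p q hcompl s (hSp s hs), coe_compress p q hcompl t (hSp t ht)] at this
    have e2 : s b = t b := by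
      have := congrArg (fun f : Module.End K q => ((f ⟨b, hb⟩ : q) : V)) h2'
      simp only [hcq] at this
      rwa [coe_compress q p hcompl.symm s (hSq s hs),
        coe_compress q p hcompl.symm t (hSq t ht)] at this
    rw [e1, e2]
  calc S.card ≤ ((S.image cp) ×ˢ (S.image cq)).card := by
        apply Finset.card_le_card_of_injOn (fun s => (cp s, cq s)) _ hinj
        intro s hs
        exact Finset.mem_product.mpr ⟨Finset.mem_image_of_mem _ hs, Finset.mem_image_of_mem _ hs⟩
    _ = (S.image cp).card * (S.image cq).card := Finset.card_product _ _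
    _ ≤ 2 ^ Module.finrank K p * 2 ^ Module.finrank K q := Nat.mul_le_mul hcardp hcardq
    _ = 2 ^ n := by rw [← pow_add, hdim]

end Groth.Agent.Lib.CommInvol
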