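import Mathlib
set_option maxHeartbeats 800000
set_option autoImplicit false
set_option linter.style.haveILetI false
universe u

namespace Groth.Agent.Lib.CommonFactor

section kaplansky
variable {R L : Type*} [CommRing R] [IsNoetherianRing R] [CommRing L] [Algebra R L]

theorem isIntegral_of_mul_mem (M : Submodule R L) (hM : M.FG) (h1 : (1 : L) ∈ M) (x : L)
    (hx : ∀ m ∈ M, x * m ∈ M) : IsIntegral R x := by
  let S : Subalgebra R L :=
    { carrier := {y | ∀ m ∈ M, y * m ∈ M}
      mul_mem' := fun {y z} hy hz m hm => by rw [mul_assoc]; exact hy _ (hz _ hm)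
      add_mem' := fun {y z} hy hz m hm => by rw [add_mul]; exact M.add_mem (hy _ hm) (hz _ hm)
      algebraMap_mem' := fun r m hm => by rw [← Algebra.smul_def]; exact M.smul_mem r hm }
  have hle : Subalgebra.toSubmodule S ≤ M := fun y hy => by
    have := hy 1 h1
    rwa [mul_one] at this
  haveI : IsNoetherian R M := isNoetherian_of_fg_of_noetherian M hM
  have hfg : (Subalgebra.toSubmodule S).FG := by
    have h2 := (isNoetherian_def.mp ‹IsNoetherian R M›) ((Subalgebra.toSubmodule S).comap M.subtype)
    have h3 := h2.map M.subtype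
    rwa [Submodule.map_comap_subtype, inf_eq_right.mpr hle] at h3
  exact IsIntegral.of_mem_of_fg S hfg x hx

variable (c : ℕ → R) (u : L)

/-- the partial sums `v_j = c_0 u^j + c_1 u^{j-1} + ... + c_{j-1} u`. -/
noncomputable def vv (j : ℕ) : L := ∑ l ∈ Finset.range j, c l • u ^ (j - l)

omit [IsNoetherianRing R] in
theorem vv_zero : vv c u 0 = 0 := by simp [vv]

omit [IsNoetherianRing R] in
theorem vv_succ (j : ℕ) : vv c u (j + 1) = (vv c u j + algebraMap R L (c j)) * u := by
  unfold vv
  rw [Finset.sum_range_succ, add_mul, Finset.sum_mul]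
  congr 1
  · refine Finset.sum_congr rfl fun l hl => ?_
    have hl' : l < j := Finset.mem_range.mp hl
    rw [smul_mul_assoc, ← pow_succ]
    congr 2
    omega
  · rw [show j + 1 - j = 1 by omega, pow_one, Algebra.smul_def]

theorem isIntegral_vv (n : ℕ) (hrel : ∑ l ∈ Finset.range (n + 1), c l • u ^ (n - l) = 0)
    (j : ℕ) (hj : j ≤ n) : IsIntegral R (vv c u j) := by
  rcases Nat.eq_zero_or_pos j with rfl | hj0
  · rw [vv_zero]; exact isIntegral_zero
  have hn : 0 < n := lt_of_lt_of_le hj0 hj
  let M : Submodule R L := Submodule.span R (Set.range fun i : Fin n => u ^ (i : ℕ))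
  have hmemM : ∀ i, i < n → u ^ i ∈ M := fun i hi => Submodule.subset_span ⟨⟨i, hi⟩, rfl⟩
  refine isIntegral_of_mul_mem M (Submodule.fg_span (Set.finite_range _)) ?_ _ ?_
  · have := hmemM 0 hn
    rwa [pow_zero] at this
  · intro m hm
    induction hm using Submodule.span_induction with
    | zero => rw [mul_zero]; exact M.zero_mem
    | add x y _ _ hx hy => rw [mul_add]; exact M.add_mem hx hy
    | smul r x _ hx => rw [mul_smul_comm]; exact M.smul_mem r hx
    | mem x hx =>
      obtain ⟨⟨i, hi⟩, rfl⟩ := hx
      change vv c u j * u ^ i ∈ M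
      unfold vv
      rw [Finset.sum_mul]
      by_cases hji : j + i < n
      · refine M.sum_mem fun l hl => ?_
        rw [smul_mul_assoc, ← pow_add]
        refine M.smul_mem _ (hmemM _ ?_)
        have := Finset.mem_range.mp hl
        omega
      · push_neg at hji
        -- j + i = n + s
        obtain ⟨s, hs⟩ : ∃ s, j + i = n + s := ⟨j + i - n, by omega⟩
        have h1 : ∑ l ∈ Finset.range j, c l • u ^ (j - l) * u ^ i =
            (∑ l ∈ Finset.range j, c l • u ^ (n - l)) * u ^ s := by
          rw [Finset.sum_mul]
          refine Finset.sum_congr rfl fun l hl => ?_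
          have := Finset.mem_range.mp hl
          rw [smul_mul_assoc, smul_mul_assoc, ← pow_add, ← pow_add]
          congr 2
          omega
        have h2 : ∑ l ∈ Finset.range j, c l • u ^ (n - l) =
            - ∑ l ∈ Finset.Ico j (n + 1), c l • u ^ (n - l) := by
          rw [eq_neg_iff_add_eq_zero, ← hrel]
          simp only [Finset.range_eq_Ico]
          exact Finset.sum_Ico_consecutive _ (Nat.zero_le j) (by omega)
        rw [h1, h2, neg_mul, Finset.sum_mul]
        refine M.neg_mem (M.sum_mem fun l hl => ?_)
        rw [smul_mul_assoc, ← pow_add]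
        refine M.smul_mem _ (hmemM _ ?_)
        have := Finset.mem_Ico.mp hl
        omega

end kaplansky

end Groth.Agent.Lib.CommonFactor
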