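import Mathlib
import Groth.Prelude.Def_CycAlg
import Groth.Agent.Lib.FiniteLengthSupport
set_option maxHeartbeats 400000
set_option autoImplicit false
set_option linter.style.haveILetI false
universe u v
open Pointwise

namespace Groth.Agent.Lib.PerHex3
open IsLocalRing Groth.Agent.Lib.FiniteLengthSupport

variable {R : Type u} [CommRing R] {M : Type v} [AddCommGroup M] [Module R M]

/-- subquotient `X / Y` of a module, for submodules `Y, X`. -/
abbrev sq (X Y : Submodule R M) : Type v := ↥X ⧸ Y.submoduleOf X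

theorem length_sq_chain {X Y Z : Submodule R M} (hZY : Z ≤ Y) (hYX : Y ≤ X) :
    Module.length R (sq X Z) = Module.length R (sq Y Z) + Module.length R (sq X Y) := by
  let f : sq Y Z →ₗ[R] sq X Z := Submodule.mapQ _ _ (Submodule.inclusion hYX) (by
    intro y hy
    exact hy)
  let g : sq X Z →ₗ[R] sq X Y := Submodule.mapQ _ _ LinearMap.id (by
    intro x hx
    exact hZY hx)
  refine Module.length_eq_add_of_exact f g ?_ ?_ ?_
  · rw [← LinearMap.ker_eq_bot, eq_bot_iff]
    intro y hy
    obtain ⟨y, rfl⟩ := Submodule.mkQ_surjective _ y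
    rw [LinearMap.mem_ker] at hy
    change Submodule.Quotient.mk (Submodule.inclusion hYX y) = 0 at hy
    rw [Submodule.Quotient.mk_eq_zero] at hy
    rw [Submodule.mem_bot, Submodule.mkQ_apply, Submodule.Quotient.mk_eq_zero]
    exact hy
  · intro z
    obtain ⟨z, rfl⟩ := Submodule.mkQ_surjective _ z
    exact ⟨Submodule.Quotient.mk z, rfl⟩
  · intro z
    obtain ⟨z, rfl⟩ := Submodule.mkQ_surjective _ z
    change Submodule.Quotient.mk z = 0 ↔ _
    rw [Submodule.Quotient.mk_eq_zero]
    constructor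
    · intro hz
      refine ⟨Submodule.Quotient.mk ⟨z.1, hz⟩, ?_⟩
      rfl
    · rintro ⟨y, hy⟩
      obtain ⟨y, rfl⟩ := Submodule.mkQ_surjective _ y
      change Submodule.Quotient.mk (Submodule.inclusion hYX y) = Submodule.Quotient.mk z at hy
      rw [Submodule.Quotient.eq] at hy
      have h1 : (Submodule.inclusion hYX y - z : ↥X).1 ∈ Z := hy
      have h2 : (z : M) = (y : M) - ((Submodule.inclusion hYX y - z : ↥X) : M) := by
        simp
      show (z : M) ∈ Y
      rw [h2]
      exact Y.sub_mem y.2 (hZY h1)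

section smul
variable {N : Type v} [AddCommGroup N] [Module R N] (x : R)

theorem length_perH_smul_id_zero :
    Module.length R (CycAlg.perH (x • LinearMap.id : N →ₗ[R] N) (0 : N →ₗ[R] N)) =
      Module.length R (LinearMap.ker (LinearMap.lsmul R N x)) := by
  refine (Submodule.quotEquivOfEqBot _ ?_).length_eq
  rw [LinearMap.range_zero]
  ext y
  simp [Submodule.submoduleOf]

theorem length_perH_zero_smul_id :
    Module.length R (CycAlg.perH (0 : N →ₗ[R] N) (x • LinearMap.id : N →ₗ[R] N)) =
      Module.length R (N ⧸ x • (⊤ : Submodule R N)) := by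
  let π : N →ₗ[R] CycAlg.perH (0 : N →ₗ[R] N) (x • LinearMap.id : N →ₗ[R] N) :=
    (Submodule.mkQ _).comp (LinearMap.codRestrict (LinearMap.ker (0 : N →ₗ[R] N)) LinearMap.id
      (fun n => by simp))
  have hπ : Function.Surjective π := by
    intro y
    obtain ⟨⟨n, hn⟩, rfl⟩ := Submodule.mkQ_surjective _ y
    exact ⟨n, rfl⟩
  have hk : LinearMap.ker π = x • (⊤ : Submodule R N) := by
    ext n
    rw [Submodule.mem_smul_pointwise_iff_exists, LinearMap.mem_ker]
    change Submodule.Quotient.mk _ = 0 ↔ _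
    rw [Submodule.Quotient.mk_eq_zero]
    change n ∈ LinearMap.range (x • LinearMap.id : N →ₗ[R] N) ↔ _
    simp
  exact ((Submodule.quotEquivOfEq _ _ hk).symm ≪≫ₗ
    LinearMap.quotKerEquivOfSurjective π hπ).length_eq.symm

end smul

section main
variable (φ ψ : M →ₗ[R] M) (x : R)

theorem length_perH_smul_left_zero (h : CycAlg.IsPeriodic φ ψ) :
    Module.length R (CycAlg.perH (x • φ) ψ) =
      Module.length R (CycAlg.perH φ ψ) +
        Module.length R (LinearMap.ker (LinearMap.lsmul R ↥(LinearMap.range φ) x)) := by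
  have h1 : LinearMap.range ψ ≤ LinearMap.ker φ := by
    rintro _ ⟨n, rfl⟩
    exact LinearMap.congr_fun h.1 n
  have h2 : LinearMap.ker φ ≤ LinearMap.ker (x • φ) := by
    intro m hm
    rw [LinearMap.mem_ker] at hm ⊢
    rw [LinearMap.smul_apply, hm, smul_zero]
  have hc := length_sq_chain h1 h2
  change Module.length R (sq (LinearMap.ker (x • φ)) (LinearMap.range ψ)) = _
  rw [hc]
  congr 1
  let θ : ↥(LinearMap.ker (x • φ)) →ₗ[R] ↥(LinearMap.range φ) :=
    φ.rangeRestrict.comp (LinearMap.ker (x • φ)).subtype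
  have hk : LinearMap.ker θ = (LinearMap.ker φ).submoduleOf (LinearMap.ker (x • φ)) := by
    ext m
    rw [LinearMap.mem_ker]
    change θ m = 0 ↔ (m : M) ∈ LinearMap.ker φ
    rw [LinearMap.mem_ker, Subtype.ext_iff]
    rfl
  have hr : LinearMap.range θ = LinearMap.ker (LinearMap.lsmul R ↥(LinearMap.range φ) x) := by
    ext y
    rw [LinearMap.mem_range, LinearMap.mem_ker, LinearMap.lsmul_apply]
    constructor
    · rintro ⟨m, rfl⟩
      apply Subtype.ext
      have := m.2
      rw [LinearMap.mem_ker, LinearMap.smul_apply] at this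
      exact this
    · intro hy
      obtain ⟨y, ⟨m₀, rfl⟩⟩ := y
      have hy' : x • φ m₀ = 0 := congrArg Subtype.val hy
      refine ⟨⟨m₀, ?_⟩, ?_⟩
      · rw [LinearMap.mem_ker, LinearMap.smul_apply]; exact hy'
      · apply Subtype.ext; rfl
  exact ((Submodule.quotEquivOfEq _ _ hk).symm ≪≫ₗ LinearMap.quotKerEquivRange θ ≪≫ₗ
    LinearEquiv.ofEq _ _ hr).length_eq

theorem length_perH_smul_left_one (h : CycAlg.IsPeriodic φ ψ) :
    Module.length R (CycAlg.perH ψ (x • φ)) =
      Module.length R (↥(LinearMap.range φ) ⧸ x • (⊤ : Submodule R ↥(LinearMap.range φ))) +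
        Module.length R (CycAlg.perH ψ φ) := by
  have h1 : LinearMap.range (x • φ) ≤ LinearMap.range φ := by
    rintro _ ⟨n, rfl⟩
    exact ⟨x • n, by simp⟩
  have h2 : LinearMap.range φ ≤ LinearMap.ker ψ := by
    rintro _ ⟨n, rfl⟩
    exact LinearMap.congr_fun h.2 n
  have hc := length_sq_chain h1 h2
  change Module.length R (sq (LinearMap.ker ψ) (LinearMap.range (x • φ))) = _
  rw [hc]
  congr 1
  have he : (LinearMap.range (x • φ)).submoduleOf (LinearMap.range φ) =
      x • (⊤ : Submodule R ↥(LinearMap.range φ)) := by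
    ext y
    rw [Submodule.mem_smul_pointwise_iff_exists]
    change (y : M) ∈ LinearMap.range (x • φ) ↔ _
    constructor
    · rintro ⟨m, hm⟩
      refine ⟨⟨φ m, LinearMap.mem_range_self φ m⟩, Submodule.mem_top, ?_⟩
      apply Subtype.ext
      rw [← hm]; rfl
    · rintro ⟨z, -, rfl⟩
      obtain ⟨z, ⟨m, rfl⟩⟩ := z
      exact ⟨m, rfl⟩
  exact (Submodule.quotEquivOfEq _ _ he).length_eq

end main

section loc
variable [IsNoetherianRing R] [IsLocalRing R] [Module.Finite R M] {x : R}

theorem eq_maximalIdeal_of_mem_support (hx : Module.supportDim R (M ⧸ x • (⊤ : Submodule R M)) ≤ 0)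
    {q : PrimeSpectrum R} (hq : q ∈ Module.support R M) (hxq : x ∈ q.asIdeal) :
    q.asIdeal = maximalIdeal R := by
  by_contra hne
  have hqm : q < closedPoint R :=
    lt_of_le_of_ne (le_maximalIdeal q.isPrime.ne_top) (fun h => hne (congrArg (·.asIdeal) h))
  have hq' : q ∈ Module.support R (QuotSMulTop x M) := by
    rw [Module.support_quotSMulTop]
    exact ⟨hq, by simpa [PrimeSpectrum.mem_zeroLocus] using hxq⟩
  let a : Module.support R (QuotSMulTop x M) := ⟨q, hq'⟩
  let b : Module.support R (QuotSMulTop x M) :=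
    ⟨closedPoint R, Module.mem_support_mono hqm.le hq'⟩
  have hab : a < b := hqm
  let s : LTSeries (Module.support R (QuotSMulTop x M)) :=
    (RelSeries.singleton _ a).snoc b (by simpa using hab)
  have hs : s.length = 1 := by simp [s]
  have := Order.LTSeries.length_le_krullDim s
  rw [hs] at this
  have : ((1 : ℕ) : WithBot ℕ∞) ≤ 0 := this.trans hx
  norm_num at this

theorem length_lt_top_of_smul_eq_zero
    (hx : Module.supportDim R (M ⧸ x • (⊤ : Submodule R M)) ≤ 0)
    (N : Type v) [AddCommGroup N] [Module R N] [Module.Finite R N]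
    (hsupp : Module.support R N ⊆ Module.support R M) (hN : ∀ n : N, x • n = 0) :
    Module.length R N < ⊤ := by
  rw [lt_top_iff_ne_top, Module.length_ne_top_iff, isFiniteLength_iff_support_subset_closedPoint]
  intro p hp
  apply PrimeSpectrum.ext
  refine eq_maximalIdeal_of_mem_support hx (hsupp hp) ?_
  exact Module.annihilator_le_of_mem_support hp (Module.mem_annihilator.mpr hN)

theorem herbrand_smul_left (φ ψ : M →ₗ[R] M) (hper : CycAlg.IsPeriodic φ ψ)
    (hfin : CycAlg.FinCoh R φ ψ) (x : R)
    (hx : Module.supportDim R (M ⧸ x • (⊤ : Submodule R M)) ≤ 0) :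
    CycAlg.FinCoh R (x • φ) ψ ∧ CycAlg.herbrand R (x • φ) ψ = CycAlg.herbrand R φ ψ -
      CycAlg.herbrand R (0 : ↥(LinearMap.range φ) →ₗ[R] ↥(LinearMap.range φ))
        (x • LinearMap.id) := by
  have e0 := length_perH_smul_left_zero φ ψ x hper
  have e1 := length_perH_smul_left_one φ ψ x hper
  have hsub : Module.support R ↥(LinearMap.range φ) ⊆ Module.support R M :=
    Module.support_subset_of_injective _ (Submodule.subtype_injective _)
  have f0 : Module.length R (LinearMap.ker (LinearMap.lsmul R ↥(LinearMap.range φ) x)) < ⊤ := by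
    apply length_lt_top_of_smul_eq_zero hx _
      ((Module.support_subset_of_injective _ (Submodule.subtype_injective _)).trans hsub)
    rintro ⟨n, hn⟩
    exact Subtype.ext hn
  have f1 : Module.length R
      (↥(LinearMap.range φ) ⧸ x • (⊤ : Submodule R ↥(LinearMap.range φ))) < ⊤ := by
    apply length_lt_top_of_smul_eq_zero hx _
      ((Module.support_subset_of_surjective _ (Submodule.mkQ_surjective _)).trans hsub)
    intro n
    obtain ⟨n, rfl⟩ := Submodule.mkQ_surjective _ n
    rw [Submodule.mkQ_apply, ← Submodule.Quotient.mk_smul, Submodule.Quotient.mk_eq_zero]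
    exact Submodule.smul_mem_pointwise_smul n x ⊤ Submodule.mem_top
  obtain ⟨g0, g1⟩ := hfin
  unfold CycAlg.FinCoh CycAlg.herbrand
  rw [length_perH_smul_id_zero, length_perH_zero_smul_id, e0, e1]
  generalize Module.length R (CycAlg.perH φ ψ) = a at *
  generalize Module.length R (CycAlg.perH ψ φ) = b at *
  generalize Module.length R (LinearMap.ker (LinearMap.lsmul R ↥(LinearMap.range φ) x)) = k at *
  generalize Module.length R
    (↥(LinearMap.range φ) ⧸ x • (⊤ : Submodule R ↥(LinearMap.range φ))) = c at *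
  refine ⟨⟨ENat.add_lt_top.mpr ⟨g0, f0⟩, ENat.add_lt_top.mpr ⟨f1, g1⟩⟩, ?_⟩
  lift a to ℕ using g0.ne
  lift b to ℕ using g1.ne
  lift k to ℕ using f0.ne
  lift c to ℕ using f1.ne
  rw [← Nat.cast_add, ← Nat.cast_add]
  simp only [ENat.toNat_natCast]
  push_cast
  ring

end loc

end Groth.Agent.Lib.PerHex3
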