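import Mathlib
import Groth.Prelude.Def_CycAlg
import Groth.Agent.Lib.PerHex3
set_option maxHeartbeats 400000
set_option autoImplicit false
set_option linter.style.haveILetI false
set_option linter.unusedVariables false
universe u v

namespace Groth.Agent.Lib.PerHex4
open Groth.Agent.Lib.PerHex3

variable {R : Type u} [CommRing R] {M : Type v} [AddCommGroup M] [Module R M]

theorem length_sq_congr_right {X Y Y' : Submodule R M} (h : X ⊓ Y = X ⊓ Y') :
    Module.length R (sq X Y) = Module.length R (sq X Y') := by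
  refine (Submodule.quotEquivOfEq _ _ ?_).length_eq
  ext x
  change (x : M) ∈ Y ↔ (x : M) ∈ Y'
  constructor
  · intro hx
    have : (x : M) ∈ X ⊓ Y := ⟨x.2, hx⟩
    rw [h] at this
    exact this.2
  · intro hx
    have : (x : M) ∈ X ⊓ Y' := ⟨x.2, hx⟩
    rw [← h] at this
    exact this.2

theorem length_sq_inf (X Y : Submodule R M) :
    Module.length R (sq X (X ⊓ Y)) = Module.length R (sq X Y) :=
  length_sq_congr_right (by rw [← inf_assoc, inf_idem])

theorem length_sq_sup (X Y : Submodule R M) :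
    Module.length R (sq (X ⊔ Y) Y) = Module.length R (sq X Y) := by
  rw [← length_sq_inf X Y]
  exact (LinearMap.quotientInfEquivSupQuotient X Y).length_eq.symm

theorem length_sq_eq_zero_of_le {X Y : Submodule R M} (h : X ≤ Y) :
    Module.length R (sq X Y) = 0 := by
  rw [Module.length_eq_zero_iff, Submodule.Quotient.subsingleton_iff, eq_top_iff]
  intro x _
  exact h x.2

/-- kernel/cokernel count for the map of subquotients `X/X' → Y/Y'` induced by `f`. -/
theorem length_sq_map (f : M →ₗ[R] M) {X X' Y Y' : Submodule R M} (hX : X' ≤ X) (hY : Y' ≤ Y)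
    (hXY : X ≤ Y.comap f) (hXY' : X' ≤ Y'.comap f) :
    Module.length R (sq X X') + Module.length R (sq Y (X.map f ⊔ Y')) =
      Module.length R (sq Y Y') + Module.length R (sq (X ⊓ Y'.comap f) X') := by
  have c1 := length_sq_chain (Z := X') (Y := X ⊓ Y'.comap f) (X := X)
    (le_inf hX hXY') inf_le_left
  have hle : X.map f ⊔ Y' ≤ Y := sup_le (Submodule.map_le_iff_le_comap.mpr hXY) hY
  have c2 := length_sq_chain (Z := Y') (Y := X.map f ⊔ Y') (X := Y) le_sup_right hle
  have key : Module.length R (sq X (X ⊓ Y'.comap f)) =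
      Module.length R (sq (X.map f ⊔ Y') Y') := by
    let g0 : ↥X →ₗ[R] ↥(X.map f ⊔ Y') :=
      LinearMap.codRestrict _ (f.comp X.subtype) (fun x =>
        Submodule.mem_sup_left (Submodule.mem_map_of_mem x.2))
    let g : ↥X →ₗ[R] sq (X.map f ⊔ Y') Y' := (Submodule.mkQ _).comp g0
    have hg : Function.Surjective g := by
      intro z
      obtain ⟨⟨z, hz⟩, rfl⟩ := Submodule.mkQ_surjective _ z
      obtain ⟨y, hy, y', hy', rfl⟩ := Submodule.mem_sup.mp hz
      obtain ⟨x, hx, rfl⟩ := hy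
      refine ⟨⟨x, hx⟩, ?_⟩
      change Submodule.Quotient.mk _ = Submodule.Quotient.mk _
      rw [Submodule.Quotient.eq]
      change ((g0 ⟨x, hx⟩ : M) - (f x + y')) ∈ Y'
      have : ((g0 ⟨x, hx⟩ : M) - (f x + y')) = -y' := by
        change f x - (f x + y') = -y'
        abel
      rw [this]
      exact Y'.neg_mem hy'
    have hk : LinearMap.ker g = (X ⊓ Y'.comap f).submoduleOf X := by
      ext x
      rw [LinearMap.mem_ker]
      change Submodule.Quotient.mk (g0 x) = 0 ↔ (x : M) ∈ X ⊓ Y'.comap f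
      rw [Submodule.Quotient.mk_eq_zero]
      change f x ∈ Y' ↔ _
      constructor
      · intro h
        exact ⟨x.2, h⟩
      · intro h
        exact h.2
    exact ((Submodule.quotEquivOfEq _ _ hk).symm ≪≫ₗ
      LinearMap.quotKerEquivOfSurjective g hg).length_eq
  rw [c1, c2, key]
  ring

section nilp
variable (φ : M →ₗ[R] M)

/-- `K i = ker φ^i`. -/
abbrev K (i : ℕ) : Submodule R M := LinearMap.ker (φ ^ i)
/-- `I j = im φ^j`. -/
abbrev I (j : ℕ) : Submodule R M := LinearMap.range (φ ^ j)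

theorem pow_succ_apply (i : ℕ) (m : M) : (φ ^ (i + 1)) m = (φ ^ i) (φ m) := by
  rw [pow_succ]; rfl

theorem pow_succ_apply' (i : ℕ) (m : M) : (φ ^ (i + 1)) m = φ ((φ ^ i) m) := by
  rw [pow_succ']; rfl

theorem pow_add_apply (i j : ℕ) (m : M) : (φ ^ (i + j)) m = (φ ^ i) ((φ ^ j) m) := by
  rw [pow_add]; rfl

theorem mem_K (i : ℕ) (m : M) : m ∈ K φ i ↔ (φ ^ i) m = 0 := LinearMap.mem_ker

theorem I_le_K {i j : ℕ} (h : φ ^ (i + j) = 0) : I φ j ≤ K φ i := by
  rintro _ ⟨y, rfl⟩
  rw [mem_K, ← pow_add_apply, h]; rfl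

theorem K_mono {i j : ℕ} (h : i ≤ j) : K φ i ≤ K φ j := by
  intro m hm
  obtain ⟨k, rfl⟩ := Nat.exists_eq_add_of_le h
  rw [mem_K] at hm ⊢
  rw [add_comm, pow_add_apply, hm, map_zero]

theorem I_anti {i j : ℕ} (h : i ≤ j) : I φ j ≤ I φ i := by
  rintro _ ⟨y, rfl⟩
  obtain ⟨k, rfl⟩ := Nat.exists_eq_add_of_le h
  exact ⟨(φ ^ k) y, (pow_add_apply φ i k y).symm⟩

theorem map_K_le (i : ℕ) : (K φ (i + 1)).map φ ≤ K φ i := by
  rintro _ ⟨m, hm, rfl⟩
  rw [SetLike.mem_coe, mem_K] at hm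
  rw [mem_K, ← pow_succ_apply]; exact hm

/-- relation (A). -/
theorem relA (i j : ℕ) (h : φ ^ (i + j + 1) = 0) :
    Module.length R (sq (K φ (i + 1)) (I φ j)) +
        Module.length R (sq (K φ i) ((K φ (i + 1)).map φ)) =
      Module.length R (sq (K φ i) (I φ (j + 1))) + Module.length R (sq (K φ 1) (I φ j)) := by
  have hX : I φ j ≤ K φ (i + 1) := I_le_K φ (by rw [show i + 1 + j = i + j + 1 by ring]; exact h)
  have hY : I φ (j + 1) ≤ K φ i := I_le_K φ (by rw [show i + (j + 1) = i + j + 1 by ring]; exact h)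
  have hXY : K φ (i + 1) ≤ (K φ i).comap φ := by
    intro m hm
    rw [mem_K] at hm
    rw [Submodule.mem_comap, mem_K, ← pow_succ_apply]; exact hm
  have hXY' : I φ j ≤ (I φ (j + 1)).comap φ := by
    rintro _ ⟨y, rfl⟩
    exact ⟨y, pow_succ_apply' φ j y⟩
  have G := length_sq_map φ hX hY hXY hXY'
  have S1 : (K φ (i + 1)).map φ ⊔ I φ (j + 1) = (K φ (i + 1)).map φ := by
    rw [sup_eq_left]
    rintro _ ⟨y, rfl⟩
    refine ⟨(φ ^ j) y, ?_, (pow_succ_apply' φ j y).symm⟩
    exact hX ⟨y, rfl⟩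
  have S2 : K φ (i + 1) ⊓ (I φ (j + 1)).comap φ = K φ 1 ⊔ I φ j := by
    apply le_antisymm
    · rintro m ⟨hm1, ⟨y, hy⟩⟩
      rw [Submodule.mem_sup]
      refine ⟨m - (φ ^ j) y, ?_, (φ ^ j) y, ⟨y, rfl⟩, by abel⟩
      rw [mem_K, pow_one, map_sub, ← pow_succ_apply' φ j y]
      change (φ ^ (j + 1)) y = φ m at hy
      rw [hy, sub_self]
    · apply sup_le
      · apply le_inf (K_mono φ (by omega))
        intro m hm
        rw [mem_K, pow_one] at hm
        rw [Submodule.mem_comap, hm]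
        exact Submodule.zero_mem _
      · exact le_inf hX hXY'
  rw [S1, S2, length_sq_sup] at G
  exact G

/-- relation (B'). -/
theorem relB (k : ℕ) :
    Module.length R (sq (K φ (k + 1)) ((K φ (k + 2)).map φ)) +
        Module.length R (sq (K φ 1) (I φ k)) =
      Module.length R (sq (K φ 1) (I φ (k + 1))) +
        Module.length R (sq (K φ k) ((K φ (k + 1)).map φ)) := by
  have hX : (K φ (k + 2)).map φ ≤ K φ (k + 1) := map_K_le φ (k + 1)
  have hY : K φ 1 ⊓ I φ (k + 1) ≤ K φ 1 := inf_le_left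
  have hXY : K φ (k + 1) ≤ (K φ 1).comap (φ ^ k) := by
    intro m hm
    rw [mem_K] at hm
    rw [Submodule.mem_comap, mem_K, pow_one, ← pow_succ_apply']; exact hm
  have hXY' : (K φ (k + 2)).map φ ≤ (K φ 1 ⊓ I φ (k + 1)).comap (φ ^ k) := by
    rintro _ ⟨m, hm, rfl⟩
    rw [SetLike.mem_coe, mem_K] at hm
    rw [Submodule.mem_comap]
    refine ⟨?_, ⟨m, pow_succ_apply φ k m⟩⟩
    rw [SetLike.mem_coe, mem_K, pow_one, ← pow_succ_apply, ← pow_succ_apply']
    exact hm
  have G := length_sq_map (φ ^ k) hX hY hXY hXY'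
  have S3 : (K φ (k + 1)).map (φ ^ k) ⊔ (K φ 1 ⊓ I φ (k + 1)) = K φ 1 ⊓ I φ k := by
    apply le_antisymm
    · apply sup_le
      · rintro _ ⟨m, hm, rfl⟩
        exact ⟨hXY hm, ⟨m, rfl⟩⟩
      · exact inf_le_inf_left _ (I_anti φ (by omega))
    · rintro _ ⟨hm1, ⟨y, rfl⟩⟩
      apply Submodule.mem_sup_left
      refine ⟨y, ?_, rfl⟩
      rw [SetLike.mem_coe, mem_K, pow_one] at hm1
      rw [SetLike.mem_coe, mem_K, pow_succ_apply']
      exact hm1
  have S4 : K φ (k + 1) ⊓ (K φ 1 ⊓ I φ (k + 1)).comap (φ ^ k) =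
      K φ k ⊔ (K φ (k + 2)).map φ := by
    apply le_antisymm
    · rintro m ⟨hm1, ⟨-, ⟨y, hy⟩⟩⟩
      change (φ ^ (k + 1)) y = (φ ^ k) m at hy
      rw [Submodule.mem_sup]
      refine ⟨m - φ y, ?_, φ y, ⟨y, ?_, rfl⟩, by abel⟩
      · rw [mem_K, map_sub, ← pow_succ_apply, hy, sub_self]
      · rw [SetLike.mem_coe, mem_K, show k + 2 = (k + 1) + 1 by ring, pow_succ_apply', hy,
          ← pow_succ_apply']
        exact (mem_K φ _ _).mp hm1
    · apply sup_le
      · apply le_inf (K_mono φ (by omega))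
        intro m hm
        rw [mem_K] at hm
        rw [Submodule.mem_comap, hm]
        exact Submodule.zero_mem _
      · exact le_inf hX hXY'
  have S5 : K φ k ⊓ (K φ (k + 2)).map φ = K φ k ⊓ (K φ (k + 1)).map φ := by
    apply le_antisymm
    · rintro _ ⟨hm1, ⟨m, -, rfl⟩⟩
      refine ⟨hm1, ⟨m, ?_, rfl⟩⟩
      rw [SetLike.mem_coe, mem_K, ← pow_succ_apply] at hm1
      exact (mem_K φ _ _).mpr hm1
    · exact inf_le_inf_left _ (Submodule.map_mono (K_mono φ (by omega)))
  rw [S3, S4, length_sq_inf, length_sq_inf, length_sq_sup, length_sq_congr_right S5] at G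
  exact G

variable {φ}

theorem c_lt_top {n : ℕ} (hfin : Module.length R (sq (K φ 1) (I φ (n - 1))) < ⊤) {k : ℕ}
    (hk : k ≤ n - 1) : Module.length R (sq (K φ 1) (I φ k)) < ⊤ := by
  refine lt_of_le_of_lt ?_ hfin
  have hle : (I φ (n - 1)).submoduleOf (K φ 1) ≤ (I φ k).submoduleOf (K φ 1) := fun x hx =>
    I_anti φ hk hx
  exact Module.length_le_of_surjective (Submodule.factor hle) (Submodule.factor_surjective hle)

theorem b_eq_c {n : ℕ} (hfin : Module.length R (sq (K φ 1) (I φ (n - 1))) < ⊤) (k : ℕ)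
    (hk : k ≤ n - 1) : Module.length R (sq (K φ k) ((K φ (k + 1)).map φ)) =
      Module.length R (sq (K φ 1) (I φ k)) := by
  induction k with
  | zero =>
    rw [length_sq_eq_zero_of_le, length_sq_eq_zero_of_le]
    · intro m _
      exact ⟨m, by simp⟩
    · intro m hm
      rw [mem_K, pow_zero] at hm
      rw [show m = 0 from hm]
      exact Submodule.zero_mem _
  | succ k ih =>
    have hk' : k ≤ n - 1 := by omega
    have ihk := ih hk'
    have hc := c_lt_top hfin hk'
    have hB := relB φ k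
    rw [ihk] at hB
    exact ENat.add_left_injective_of_ne_top hc.ne hB

theorem symm_aux {n : ℕ} (hφ : φ ^ n = 0)
    (hfin : Module.length R (sq (K φ 1) (I φ (n - 1))) < ⊤) (i : ℕ) :
    ∀ j, i + j = n → Module.length R (sq (K φ i) (I φ j)) < ⊤ ∧
      Module.length R (sq (K φ i) (I φ j)) = Module.length R (sq (K φ j) (I φ i)) := by
  induction i with
  | zero =>
    intro j _
    have h1 : Module.length R (sq (K φ 0) (I φ j)) = 0 := by
      apply length_sq_eq_zero_of_le
      intro m hm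
      rw [mem_K, pow_zero] at hm
      rw [show m = 0 from hm]
      exact Submodule.zero_mem _
    have h2 : Module.length R (sq (K φ j) (I φ 0)) = 0 := by
      apply length_sq_eq_zero_of_le
      intro m _
      exact ⟨m, by simp⟩
    rw [h1, h2]
    exact ⟨by simp, rfl⟩
  | succ i ih =>
    intro j hij
    obtain ⟨f1, e1⟩ := ih (j + 1) (by omega)
    have A1 := relA φ i j (by rw [show i + j + 1 = n by omega]; exact hφ)
    have A2 := relA φ j i (by rw [show j + i + 1 = n by omega]; exact hφ)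
    rw [b_eq_c hfin i (by omega)] at A1
    rw [b_eq_c hfin j (by omega)] at A2
    have hci := c_lt_top hfin (show i ≤ n - 1 by omega)
    have hcj := c_lt_top hfin (show j ≤ n - 1 by omega)
    constructor
    · refine lt_of_le_of_lt (le_self_add) (A1 ▸ ENat.add_lt_top.mpr ⟨f1, hcj⟩)
    · apply ENat.add_left_injective_of_ne_top hci.ne
      show Module.length R (sq (K φ (i + 1)) (I φ j)) + _ =
        Module.length R (sq (K φ j) (I φ (i + 1))) + _
      rw [A1, e1, A2]

theorem herbrand_pow_eq_zero (φ : M →ₗ[R] M) (n : ℕ) (hn : 0 < n) (hφ : φ ^ n = 0) (hfin : Module.length R (CycAlg.perH φ (φ ^ (n - 1))) < ⊤) (i : ℕ) (hi : i ≤ n) : CycAlg.FinCoh R (φ ^ i) (φ ^ (n - i)) ∧ CycAlg.herbrand R (φ ^ i) (φ ^ (n - i)) = 0 := by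
  have hfin' : Module.length R (sq (K φ 1) (I φ (n - 1))) < ⊤ := by
    have : K φ 1 = LinearMap.ker φ := by rw [K, pow_one]
    rw [this]
    exact hfin
  obtain ⟨f1, e1⟩ := symm_aux hφ hfin' i (n - i) (by omega)
  obtain ⟨f2, e2⟩ := symm_aux hφ hfin' (n - i) i (by omega)
  have key : n - (n - i) = i := by omega
  unfold CycAlg.FinCoh CycAlg.herbrand
  change (Module.length R (sq (K φ i) (I φ (n - i))) < ⊤ ∧
    Module.length R (sq (K φ (n - i)) (I φ i)) < ⊤) ∧
    ((Module.length R (sq (K φ i) (I φ (n - i)))).toNat : ℤ) -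
      ((Module.length R (sq (K φ (n - i)) (I φ i))).toNat : ℤ) = 0
  refine ⟨⟨f1, f2⟩, ?_⟩
  rw [e1, sub_self]

end nilp

end Groth.Agent.Lib.PerHex4
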