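import Mathlib
import Groth.Agent.Lib.PerHex4
set_option maxHeartbeats 800000
set_option autoImplicit false
set_option linter.style.haveILetI false
universe u v

namespace Groth.Agent.Lib.CommonFactor
open Groth.Agent.Lib.PerHex3 Groth.Agent.Lib.PerHex4

section chain
variable {R : Type u} [CommRing R] {M : Type v} [AddCommGroup M] [Module R M]

theorem length_sq_top (Y : Submodule R M) :
    Module.length R (sq (⊤ : Submodule R M) Y) = Module.length R (M ⧸ Y) := by
  refine (Submodule.Quotient.equiv _ _ (Submodule.topEquiv : (⊤ : Submodule R M) ≃ₗ[R] M) ?_).length_eq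
  ext x
  constructor
  · rintro ⟨y, hy, rfl⟩
    exact hy
  · intro hx
    exact ⟨⟨x, trivial⟩, hx, rfl⟩

theorem one_le_length_sq {X Y : Submodule R M} {x : M} (hx : x ∈ X) (hxy : x ∉ Y) :
    1 ≤ Module.length R (sq X Y) := by
  rw [Order.one_le_iff_pos, Module.length_pos_iff]
  refine ⟨⟨Submodule.Quotient.mk ⟨x, hx⟩, 0, ?_⟩⟩
  rw [Ne, Submodule.Quotient.mk_eq_zero]
  exact hxy

theorem exists_coeff (g : ℕ → M) (j N : ℕ) (hjN : j ≤ N) (x : M)
    (hx : x ∈ Submodule.span R (g '' Set.Iio j)) :
    ∃ r : ℕ → R, (∀ l, j ≤ l → r l = 0) ∧ ∑ l ∈ Finset.range N, r l • g l = x := by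
  induction hx using Submodule.span_induction with
  | zero => exact ⟨0, fun _ _ => rfl, by simp⟩
  | add x y _ _ hx hy =>
    obtain ⟨r, hr, hrx⟩ := hx
    obtain ⟨r', hr', hry⟩ := hy
    refine ⟨r + r', fun l hl => by simp [hr l hl, hr' l hl], ?_⟩
    simp only [Pi.add_apply, add_smul, Finset.sum_add_distrib, hrx, hry]
  | smul c x _ hx =>
    obtain ⟨r, hr, hrx⟩ := hx
    refine ⟨c • r, fun l hl => by simp [hr l hl], ?_⟩
    simp only [Pi.smul_apply, smul_eq_mul, mul_smul, ← Finset.smul_sum, hrx]
  | mem x hx =>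
    obtain ⟨l₀, hl₀, rfl⟩ := hx
    have hl₀' : l₀ < j := hl₀
    refine ⟨Pi.single l₀ 1, fun l hl => ?_, ?_⟩
    · rw [Pi.single_apply, if_neg]
      omega
    · rw [Finset.sum_eq_single l₀]
      · simp
      · intro l _ hne
        rw [Pi.single_apply, if_neg hne, zero_smul]
      · intro h
        exact absurd (Finset.mem_range.mpr (by omega)) h

/-- chain lemma: if `g j ∉ Z ⊔ span (g '' Iio j)` for all `j ≤ n`, the length is at least `n+1`. -/
theorem le_length_sq_of_chain (Z : Submodule R M) (g : ℕ → M) (n : ℕ)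
    (h : ∀ j, j ≤ n → g j ∉ Z ⊔ Submodule.span R (g '' Set.Iio j)) :
    ((n + 1 : ℕ) : ℕ∞) ≤
      Module.length R (sq (Z ⊔ Submodule.span R (g '' Set.Iio (n + 1))) Z) := by
  have key : ∀ k, k ≤ n + 1 →
      (k : ℕ∞) ≤ Module.length R (sq (Z ⊔ Submodule.span R (g '' Set.Iio k)) Z) := by
    intro k
    induction k with
    | zero => intro _; simp
    | succ k ih =>
      intro hk
      have hmono : Z ⊔ Submodule.span R (g '' Set.Iio k) ≤
          Z ⊔ Submodule.span R (g '' Set.Iio (k + 1)) :=
        sup_le_sup_left (Submodule.span_mono (Set.image_mono (Set.Iio_subset_Iio (by omega)))) Z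
      rw [length_sq_chain (le_sup_left : Z ≤ Z ⊔ Submodule.span R (g '' Set.Iio k)) hmono]
      have h1 : 1 ≤ Module.length R (sq (Z ⊔ Submodule.span R (g '' Set.Iio (k + 1)))
          (Z ⊔ Submodule.span R (g '' Set.Iio k))) := by
        refine one_le_length_sq (x := g k) ?_ (h k (by omega))
        exact Submodule.mem_sup_right (Submodule.subset_span ⟨k, by simp, rfl⟩)
      push_cast
      exact add_le_add (ih (by omega)) h1
  exact key (n + 1) le_rfl

end chain

section relation
variable {R : Type u} [CommRing R]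

theorem lsmul_injective {a : R} (ha : a ∈ nonZeroDivisors R) :
    Function.Injective (LinearMap.lsmul R R a) := by
  intro x y hxy
  have h : a * (x - y) = 0 := by
    have : a * x = a * y := hxy
    rw [mul_sub, this, sub_self]
  have := (mem_nonZeroDivisors_iff_right.mp ha) (x - y) (by rwa [mul_comm])
  exact sub_eq_zero.mp this

theorem range_lsmul' (a : R) :
    LinearMap.range (LinearMap.lsmul R R a) = Ideal.span {a} := by
  ext x
  rw [LinearMap.mem_range, Ideal.mem_span_singleton']
  constructor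
  · rintro ⟨y, rfl⟩
    exact ⟨y, by simp [mul_comm]⟩
  · rintro ⟨y, rfl⟩
    exact ⟨y, by simp [mul_comm]⟩

/-- `l(W/aW) = l(R/aR)` for a submodule `W ⊆ R` of finite colength and a nonzerodivisor `a`. -/
theorem length_sq_map_lsmul (a : R) (ha : a ∈ nonZeroDivisors R) (W : Submodule R R)
    (hW : Module.length R (sq (⊤ : Submodule R R) W) < ⊤) :
    Module.length R (sq W (W.map (LinearMap.lsmul R R a))) =
      Module.length R (R ⧸ Ideal.span {a}) := by
  set f := LinearMap.lsmul R R a with hf
  have hfinj := lsmul_injective ha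
  have hWle : W.map f ≤ W := by
    rintro _ ⟨w, hw, rfl⟩
    exact W.smul_mem a hw
  have c1 := length_sq_chain (Z := W.map f) (Y := W) (X := ⊤) hWle le_top
  have hmapmono : W.map f ≤ (⊤ : Submodule R R).map f := Submodule.map_mono le_top
  have c2 := length_sq_chain (Z := W.map f) (Y := (⊤ : Submodule R R).map f) (X := ⊤)
    hmapmono le_top
  have c3 := length_sq_map f (X := ⊤) (X' := W) (Y := (⊤ : Submodule R R).map f)
    (Y' := W.map f) le_top hmapmono (Submodule.map_le_iff_le_comap.mp le_rfl)
    (Submodule.map_le_iff_le_comap.mp le_rfl)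
  rw [length_sq_eq_zero_of_le (le_sup_left : (⊤ : Submodule R R).map f ≤ _), add_zero,
    length_sq_eq_zero_of_le (X := ⊤ ⊓ (W.map f).comap f) (Y := W) (by
      rw [Submodule.comap_map_eq_of_injective hfinj]; exact inf_le_right), add_zero] at c3
  rw [c1, ← c3, add_comm] at c2
  have h := ENat.add_right_injective_of_ne_top hW.ne c2
  rw [h, length_sq_top, Submodule.map_top, range_lsmul']

variable [IsLocalRing R] [IsNoetherianRing R] [Ring.KrullDimLE 1 R]

theorem exists_relation (a b : R) (ha : a ∈ nonZeroDivisors R)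
    (ham : a ∈ IsLocalRing.maximalIdeal R) :
    ∃ (n : ℕ) (c : ℕ → R) (k : ℕ), k ≤ n ∧ IsUnit (c k) ∧
      ∑ l ∈ Finset.range (n + 1), c l * (a ^ l * b ^ (n - l)) = 0 := by
  have hordne : Ring.ord R a ≠ ⊤ := Ring.ord_ne_top ha
  obtain ⟨n, hn⟩ := ENat.ne_top_iff_exists.mp hordne
  let g : ℕ → R := fun l => a ^ l * b ^ (n - l)
  let f := LinearMap.lsmul R R a
  let W : Submodule R R := Submodule.span R (g '' Set.Iio (n + 1))
  let Z : Submodule R R := W.map f
  have hZW : Z ≤ W := by
    rintro _ ⟨w, hw, rfl⟩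
    exact W.smul_mem a hw
  have hanW : a ^ n ∈ W := by
    refine Submodule.subset_span ⟨n, by simp, ?_⟩
    simp [g]
  have hWfin : Module.length R (sq (⊤ : Submodule R R) W) < ⊤ := by
    rw [length_sq_top]
    have hle : Ideal.span {a ^ n} ≤ W := (Ideal.span_singleton_le_iff_mem (I := W)).mpr hanW
    refine lt_of_le_of_lt (Module.length_le_of_surjective (Submodule.factor hle)
      (Submodule.factor_surjective hle)) ?_
    exact Ring.ord_lt_top (pow_mem ha n)
  have hlen : Module.length R (sq W Z) = n := by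
    rw [length_sq_map_lsmul a ha W hWfin, hn]
    rfl
  have hsup : Z ⊔ Submodule.span R (g '' Set.Iio (n + 1)) = W := sup_eq_right.mpr hZW
  -- find the dependency
  obtain ⟨j, hjn, hj⟩ : ∃ j, j ≤ n ∧ g j ∈ Z ⊔ Submodule.span R (g '' Set.Iio j) := by
    by_contra hcon
    push Not at hcon
    have := le_length_sq_of_chain Z g n hcon
    rw [hsup, hlen] at this
    have : n + 1 ≤ n := by exact_mod_cast this
    omega
  obtain ⟨z, hz, y, hy, hzy⟩ := Submodule.mem_sup.mp hj
  obtain ⟨w, hw, rfl⟩ := hz
  obtain ⟨s, -, hs⟩ := exists_coeff g (n + 1) (n + 1) le_rfl w hw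
  obtain ⟨r, hr0, hr⟩ := exists_coeff g j (n + 1) (by omega) y hy
  refine ⟨n, fun l => (if l = j then 1 else 0) - r l - a * s l, j, hjn, ?_, ?_⟩
  · simp only [if_true, hr0 j le_rfl, sub_zero]
    have hmem : a * s j ∈ IsLocalRing.maximalIdeal R := Ideal.mul_mem_right _ _ ham
    have := IsLocalRing.isUnit_one_sub_self_of_mem_nonunits _ hmem
    exact this
  · have e1 : ∑ l ∈ Finset.range (n + 1), (if l = j then (1 : R) else 0) * g l = g j := by
      rw [Finset.sum_eq_single j]
      · simp
      · intro l _ hne; rw [if_neg hne, zero_mul]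
      · intro h; exact absurd (Finset.mem_range.mpr (by omega)) h
    have e2 : ∑ l ∈ Finset.range (n + 1), r l * g l = y := by
      rw [← hr]; rfl
    have e3 : ∑ l ∈ Finset.range (n + 1), a * s l * g l = f w := by
      rw [← hs]
      show _ = a * ∑ l ∈ Finset.range (n + 1), s l • g l
      rw [Finset.mul_sum]
      refine Finset.sum_congr rfl fun l _ => ?_
      simp [smul_eq_mul, mul_assoc]
    change ∑ l ∈ Finset.range (n + 1), ((if l = j then 1 else 0) - r l - a * s l) * g l = 0
    simp only [sub_mul, Finset.sum_sub_distrib, e1, e2, e3]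
    rw [← hzy]
    ring

end relation

end Groth.Agent.Lib.CommonFactor
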