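import Mathlib
import Groth.Prelude.Def_CycAlg
import Groth.Agent.Lib.CommonFactor1
import Groth.Agent.Lib.CommonFactor2
set_option maxHeartbeats 1600000
set_option autoImplicit false
set_option linter.style.haveILetI false
universe u v

namespace Groth.Agent.Lib.CommonFactor
open IsLocalRing

section semilocal

/-- A finite algebra over a local ring is semilocal. -/
theorem finite_maximalSpectrum_of_finite (R : Type u) [CommRing R] [IsLocalRing R]
    (E : Type v) [CommRing E] [Algebra R E] [Module.Finite R E] : Finite (MaximalSpectrum E) := by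
  set m := IsLocalRing.maximalIdeal R with hm
  set I := m.map (algebraMap R E) with hI
  letI : Field (R ⧸ m) := Ideal.Quotient.field m
  haveI : Module.Finite (R ⧸ m) (E ⧸ I) := Module.Finite.of_restrictScalars_finite R _ _
  haveI : IsArtinianRing (E ⧸ I) := IsArtinianRing.of_finite (R ⧸ m) (E ⧸ I)
  haveI : Algebra.IsIntegral R E := Algebra.IsIntegral.of_finite R E
  have hsurj : Function.Surjective (Ideal.Quotient.mk I) := Ideal.Quotient.mk_surjective
  let g : MaximalSpectrum (E ⧸ I) → MaximalSpectrum E := fun Q =>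
    ⟨Q.asIdeal.comap (Ideal.Quotient.mk I),
      haveI := Q.isMaximal; Ideal.comap_isMaximal_of_surjective _ hsurj⟩
  refine Finite.of_surjective g ?_
  intro P
  haveI := P.isMaximal
  have hIP : I ≤ P.asIdeal := by
    rw [hI, Ideal.map_le_iff_le_comap]
    have h1 : (P.asIdeal.comap (algebraMap R E)).IsMaximal :=
      Ideal.isMaximal_comap_of_isIntegral_of_isMaximal P.asIdeal
    exact (IsLocalRing.eq_maximalIdeal h1).ge
  have hcm : (P.asIdeal.map (Ideal.Quotient.mk I)).comap (Ideal.Quotient.mk I) = P.asIdeal := by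
    rw [Ideal.comap_map_of_surjective _ hsurj, ← RingHom.ker_eq_comap_bot, Ideal.mk_ker,
      sup_eq_left.2 hIP]
  have hmax : (P.asIdeal.map (Ideal.Quotient.mk I)).IsMaximal := by
    rcases Ideal.map_eq_top_or_isMaximal_of_surjective _ hsurj P.isMaximal with h | h
    · exfalso
      rw [h, Ideal.comap_top] at hcm
      exact P.isMaximal.ne_top hcm.symm
    · exact h
  exact ⟨⟨_, hmax⟩, MaximalSpectrum.ext hcm⟩

end semilocal

section powle
variable {R : Type u} [CommRing R] [IsLocalRing R] [IsNoetherianRing R] [Ring.KrullDimLE 1 R]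

theorem exists_pow_le_span {d : R} (hd : d ∈ nonZeroDivisors R) :
    ∃ N, maximalIdeal R ^ N ≤ Ideal.span {d} := by
  have hfl := isFiniteLength_quotient_span_singleton R hd
  have hart : IsArtinian R (R ⧸ Ideal.span {d}) :=
    (isFiniteLength_iff_isNoetherian_isArtinian.mp hfl).2
  haveI : IsArtinianRing (R ⧸ Ideal.span {d}) := isArtinian_of_tower R hart
  exact exists_maximalIdeal_pow_le_of_isArtinianRing_quotient _

end powle

section core
variable {R : Type u} [CommRing R] [IsLocalRing R] [IsNoetherianRing R] [Ring.KrullDimLE 1 R]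
  {L : Type u} [CommRing L] [Algebra R L] [IsFractionRing R L]

theorem core (a b : R) (ha : a ∈ nonZeroDivisors R) (hb : b ∈ nonZeroDivisors R)
    (e f α β : L) (he : IsIntegral R e) (hf : IsIntegral R f) (hα : IsIntegral R α)
    (hβ : IsIntegral R β) (hef : e + f = 1)
    (h1 : α * algebraMap R L b = e * algebraMap R L a)
    (h2 : β * algebraMap R L a = f * algebraMap R L b) :
    ∃ (R' : Type u) (_ : CommRing R') (_ : Algebra R R'),
      CycAlg.IsFinExt R R' (maximalIdeal R) ∧ ∃ t a' b' : R', t ∈ nonZeroDivisors R' ∧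
        a' ∈ nonZeroDivisors R' ∧ b' ∈ nonZeroDivisors R' ∧ algebraMap R R' a = t * a' ∧
        algebraMap R R' b = t * b' ∧ Ideal.span {a', b'} = ⊤ := by
  classical
  have hinj : Function.Injective (algebraMap R L) := IsFractionRing.injective R L
  have haL : IsUnit (algebraMap R L a) := IsLocalization.map_units L ⟨a, ha⟩
  have hbL : IsUnit (algebraMap R L b) := IsLocalization.map_units L ⟨b, hb⟩
  set aL := algebraMap R L a with haLdef
  set bL := algebraMap R L b with hbLdef
  obtain ⟨ai, hai⟩ := haL.exists_right_inv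
  obtain ⟨bi, hbi⟩ := hbL.exists_right_inv
  let S : Set L := {e, f, α, β}
  let R'' : Subalgebra R L := Algebra.adjoin R S
  have hSfin : S.Finite := by simp [S]
  have hSint : ∀ x ∈ S, IsIntegral R x := by
    intro x hx
    simp only [S, Set.mem_insert_iff, Set.mem_singleton_iff] at hx
    rcases hx with rfl | rfl | rfl | rfl <;> assumption
  have hfg : (Subalgebra.toSubmodule R'').FG := fg_adjoin_of_finite hSfin hSint
  haveI hfin : Module.Finite R R'' := Module.Finite.iff_fg.mpr hfg
  haveI : Finite (MaximalSpectrum R'') := finite_maximalSpectrum_of_finite R R''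
  have heS : e ∈ R'' := Algebra.subset_adjoin (by simp [S])
  have hfS : f ∈ R'' := Algebra.subset_adjoin (by simp [S])
  have hαS : α ∈ R'' := Algebra.subset_adjoin (by simp [S])
  have hβS : β ∈ R'' := Algebra.subset_adjoin (by simp [S])
  -- the invertible submodule
  let J : Submodule R'' L := Submodule.span R'' {aL, bL}
  let J' : Submodule R'' L := Submodule.span R'' {e * bi, f * ai}
  have hJJ' : J * J' = 1 := by
    apply le_antisymm
    · rw [Submodule.mul_le]
      intro x hx y hy
      rw [Submodule.one_eq_range, LinearMap.mem_range]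
      obtain ⟨p, q, rfl⟩ := Submodule.mem_span_pair.mp hx
      obtain ⟨p', q', rfl⟩ := Submodule.mem_span_pair.mp hy
      refine ⟨p * p' * ⟨α, hαS⟩ + p * q' * ⟨f, hfS⟩ + q * p' * ⟨e, heS⟩ + q * q' * ⟨β, hβS⟩, ?_⟩
      simp only [Algebra.linearMap_apply, Subalgebra.algebraMap_apply, Subalgebra.coe_add,
        Subalgebra.coe_mul, Subalgebra.smul_def, smul_eq_mul]
      have e1 : aL * (e * bi) = α := by
        calc aL * (e * bi) = (e * aL) * bi := by ring
          _ = α * (bL * bi) := by rw [← h1]; ring
          _ = α := by rw [hbi, mul_one]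
      have e2 : bL * (f * ai) = β := by
        calc bL * (f * ai) = (f * bL) * ai := by ring
          _ = β * (aL * ai) := by rw [← h2]; ring
          _ = β := by rw [hai, mul_one]
      have e3 : aL * (f * ai) = f := by
        calc aL * (f * ai) = f * (aL * ai) := by ring
          _ = f := by rw [hai, mul_one]
      have e4 : bL * (e * bi) = e := by
        calc bL * (e * bi) = e * (bL * bi) := by ring
          _ = e := by rw [hbi, mul_one]
      linear_combination -(↑p * ↑p') * e1 - (↑q * ↑q') * e2 - (↑p * ↑q') * e3 - (↑q * ↑p') * e4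
    · rw [Submodule.one_le]
      have m1 : bL * (e * bi) ∈ J * J' :=
        Submodule.mul_mem_mul (Submodule.subset_span (by simp)) (Submodule.subset_span (by simp))
      have m2 : aL * (f * ai) ∈ J * J' :=
        Submodule.mul_mem_mul (Submodule.subset_span (by simp)) (Submodule.subset_span (by simp))
      have : (1 : L) = bL * (e * bi) + aL * (f * ai) := by
        calc (1 : L) = e + f := hef.symm
          _ = e * (bL * bi) + f * (aL * ai) := by rw [hai, hbi, mul_one, mul_one]
          _ = _ := by ring
      rw [this]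
      exact Submodule.add_mem _ m1 m2
  let Ju : (Submodule R'' L)ˣ := Units.mkOfMulEqOne J J' hJJ'
  have hker : Ju ∈ (Submodule.unitsToPic R'' L).ker := by
    rw [MonoidHom.mem_ker]
    exact Subsingleton.elim _ _
  rw [Submodule.ker_unitsToPic] at hker
  obtain ⟨t, ht⟩ := hker
  have htJ : Submodule.span R'' {(t : L)} = J := congrArg Units.val ht
  -- extract elements
  have haJ : aL ∈ J := Submodule.subset_span (by simp)
  have hbJ : bL ∈ J := Submodule.subset_span (by simp)
  have htmem : (t : L) ∈ J := htJ ▸ Submodule.mem_span_singleton_self _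
  rw [← htJ] at haJ hbJ
  obtain ⟨a', ha'⟩ := Submodule.mem_span_singleton.mp haJ
  obtain ⟨b', hb'⟩ := Submodule.mem_span_singleton.mp hbJ
  obtain ⟨x, y, hxy⟩ := Submodule.mem_span_pair.mp htmem
  rw [Subalgebra.smul_def, smul_eq_mul] at ha' hb'
  simp only [Subalgebra.smul_def, smul_eq_mul] at hxy
  let T : R'' := x * algebraMap R R'' a + y * algebraMap R R'' b
  have hT : (T : L) = t := by
    simp only [T]
    rw [← hxy]
    rfl
  have hnzd : ∀ z : R'', IsUnit (z : L) → z ∈ nonZeroDivisors R'' := by
    intro z hz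
    rw [mem_nonZeroDivisors_iff_right]
    intro w hw
    have h := congrArg (Subtype.val : R'' → L) hw
    simp only [Subalgebra.coe_mul, Subalgebra.coe_zero] at h
    apply Subtype.ext
    exact (hz.mul_left_eq_zero).mp h
  have ha'u : IsUnit (a' : L) := by
    have : IsUnit ((a' : L) * t) := ha' ▸ haL
    exact isUnit_of_mul_isUnit_left this
  have hb'u : IsUnit (b' : L) := by
    have : IsUnit ((b' : L) * t) := hb' ▸ hbL
    exact isUnit_of_mul_isUnit_left this
  refine ⟨R'', inferInstance, inferInstance, ⟨?_, hfin, ?_⟩, T, a', b',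
    hnzd T (hT ▸ t.isUnit), hnzd a' ha'u, hnzd b' hb'u, ?_, ?_, ?_⟩
  · intro r r' hrr'
    apply hinj
    exact congrArg (Subtype.val : R'' → L) hrr'
  · -- quotient killed by a power of the maximal ideal
    obtain ⟨s, hs⟩ := hfin.fg_top
    obtain ⟨d, hd⟩ := IsLocalization.exist_integer_multiples_of_finset (nonZeroDivisors R)
      (s.image (Subtype.val : R'' → L))
    have hall : ∀ z : R'', ∃ r : R, algebraMap R L r = (d : R) • (z : L) := by
      intro z
      have hz : z ∈ Submodule.span R (s : Set R'') := hs ▸ Submodule.mem_top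
      induction hz using Submodule.span_induction with
      | zero => exact ⟨0, by simp⟩
      | add z w _ _ hz hw =>
        obtain ⟨r, hr⟩ := hz
        obtain ⟨r', hr'⟩ := hw
        exact ⟨r + r', by rw [map_add, hr, hr', Subalgebra.coe_add, smul_add]⟩
      | smul c z _ hz =>
        obtain ⟨r, hr⟩ := hz
        refine ⟨c * r, ?_⟩
        rw [map_mul, hr, Subalgebra.coe_smul, smul_comm, Algebra.smul_def c]
      | mem z hz =>
        obtain ⟨r, hr⟩ := hd z (Finset.mem_image_of_mem _ hz)
        exact ⟨r, hr⟩
    obtain ⟨N, hN⟩ := exists_pow_le_span d.2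
    refine ⟨N, fun r hr z => ?_⟩
    obtain ⟨r', hr'⟩ := Ideal.mem_span_singleton'.mp (hN hr)
    obtain ⟨ρ, hρ⟩ := hall z
    refine ⟨r' * ρ, Subtype.ext ?_⟩
    change algebraMap R L (r' * ρ) = ((r • z : R'') : L)
    rw [map_mul, hρ, Subalgebra.coe_smul, ← hr', mul_smul, Algebra.smul_def r']
  · apply Subtype.ext
    change aL = (T : L) * (a' : L)
    rw [hT, ← ha', mul_comm]
  · apply Subtype.ext
    change bL = (T : L) * (b' : L)
    rw [hT, ← hb', mul_comm]
  · rw [Ideal.eq_top_iff_one, Ideal.mem_span_pair]
    refine ⟨x, y, Subtype.ext ?_⟩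
    simp only [Subalgebra.coe_add, Subalgebra.coe_mul, Subalgebra.coe_one]
    have h3 : ((x : L) * a' + (y : L) * b') * t = 1 * t := by
      rw [one_mul]
      calc ((x : L) * a' + (y : L) * b') * t = (x : L) * (a' * t) + (y : L) * (b' * t) := by ring
        _ = t := by rw [ha', hb', hxy]
    exact t.isUnit.mul_left_injective h3

end core

end Groth.Agent.Lib.CommonFactor
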