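import Mathlib
import Groth.Prelude.Def_CycAlg
import Groth.Agent.Lib.CommonFactor3
set_option maxHeartbeats 1600000
set_option autoImplicit false
set_option linter.style.haveILetI false
universe u v

namespace Groth.Agent.Lib.CommonFactor
open IsLocalRing

section keyid
variable {R L : Type*} [CommRing R] [CommRing L] [Algebra R L]

theorem key_identity (c : ℕ → R) (u ui : L) (hu : u * ui = 1) (n : ℕ)
    (hrel : ∑ l ∈ Finset.range (n + 1), c l • u ^ (n - l) = 0) :
    ∀ i, i ≤ n → vv c u (n - i) + algebraMap R L (c (n - i)) +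
      vv (fun l => c (n - l)) ui (n - (n - i)) = 0 := by
  intro i
  induction i with
  | zero =>
    intro _
    rw [Nat.sub_zero, Nat.sub_self, vv_zero, add_zero]
    rw [Finset.sum_range_succ, Nat.sub_self, pow_zero, ← Algebra.algebraMap_eq_smul_one] at hrel
    exact hrel
  | succ i ih =>
    intro hi
    have ih' := ih (by omega)
    obtain ⟨j, hj⟩ : ∃ j, n - (i + 1) = j := ⟨_, rfl⟩
    have hj1 : n - i = j + 1 := by omega
    have hnj : n - (n - (i + 1)) = i + 1 := by omega
    have hnj1 : n - (n - i) = i := by omega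
    rw [hnj1, hj1] at ih'
    rw [hnj, hj]
    -- T_{j+1} = T_j * u
    have hT : vv c u (j + 1) + algebraMap R L (c (j + 1)) + vv (fun l => c (n - l)) ui i =
        (vv c u j + algebraMap R L (c j) + vv (fun l => c (n - l)) ui (i + 1)) * u := by
      rw [vv_succ c u j, vv_succ (fun l => c (n - l)) ui i]
      have : n - i = j + 1 := hj1
      simp only [this]
      linear_combination (-(vv (fun l => c (n - l)) ui i + algebraMap R L (c (j + 1)))) * hu
    have h0 : (vv c u j + algebraMap R L (c j) + vv (fun l => c (n - l)) ui (i + 1)) * u = 0 := by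
      rw [← hT]; exact ih'
    calc vv c u j + algebraMap R L (c j) + vv (fun l => c (n - l)) ui (i + 1)
        = ((vv c u j + algebraMap R L (c j) + vv (fun l => c (n - l)) ui (i + 1)) * u) * ui := by
          rw [mul_assoc, hu, mul_one]
      _ = 0 := by rw [h0, zero_mul]

end keyid

section main
variable (R : Type u) [CommRing R] [IsNoetherianRing R] [IsLocalRing R]

theorem common_factor (hR : ringKrullDim R = 1) (a b : R) (ha : a ∈ nonZeroDivisors R)
    (hb : b ∈ nonZeroDivisors R) :
    ∃ (R' : Type u) (_ : CommRing R') (_ : Algebra R R'),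
      CycAlg.IsFinExt R R' (maximalIdeal R) ∧ ∃ t a' b' : R', t ∈ nonZeroDivisors R' ∧
        a' ∈ nonZeroDivisors R' ∧ b' ∈ nonZeroDivisors R' ∧ algebraMap R R' a = t * a' ∧
        algebraMap R R' b = t * b' ∧ Ideal.span {a', b'} = ⊤ := by
  haveI : Ring.KrullDimLE 1 R := by
    rw [Ring.KrullDimLE, Order.krullDimLE_iff]
    exact_mod_cast le_of_eq hR
  by_cases hau : IsUnit a
  · refine ⟨R, inferInstance, inferInstance, ⟨fun _ _ h => h, inferInstance, 0, fun r _ x =>
      ⟨r • x, rfl⟩⟩, 1, a, b, one_mem _, ha, hb, by simp, by simp, ?_⟩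
    exact Ideal.eq_top_of_isUnit_mem _ (Ideal.subset_span (by simp)) hau
  let L := FractionRing R
  have haL : IsUnit (algebraMap R L a) := IsLocalization.map_units L ⟨a, ha⟩
  have hbL : IsUnit (algebraMap R L b) := IsLocalization.map_units L ⟨b, hb⟩
  obtain ⟨ai, hai⟩ := haL.exists_right_inv
  obtain ⟨bi, hbi⟩ := hbL.exists_right_inv
  set aL := algebraMap R L a with haLdef
  set bL := algebraMap R L b with hbLdef
  have ham : a ∈ maximalIdeal R := (IsLocalRing.mem_maximalIdeal a).mpr hau
  obtain ⟨n, c, k, hkn, hck, hrelR⟩ := exists_relation a b ha ham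
  let u : L := bL * ai
  let ui : L := aL * bi
  have hu : u * ui = 1 := by
    calc u * ui = (aL * ai) * (bL * bi) := by simp only [u, ui]; ring
      _ = 1 := by rw [hai, hbi, mul_one]
  have hrelL : ∑ l ∈ Finset.range (n + 1), algebraMap R L (c l) * (aL ^ l * bL ^ (n - l)) = 0 := by
    have := congrArg (algebraMap R L) hrelR
    simpa [map_sum, map_mul, map_pow] using this
  have hrelP : ∑ l ∈ Finset.range (n + 1), c l • u ^ (n - l) = 0 := by
    have h0 : (∑ l ∈ Finset.range (n + 1), algebraMap R L (c l) * (aL ^ l * bL ^ (n - l))) * ai ^ n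
        = 0 := by rw [hrelL, zero_mul]
    rw [Finset.sum_mul] at h0
    rw [← h0]
    refine Finset.sum_congr rfl fun l hl => ?_
    have hl' : l ≤ n := Nat.lt_succ_iff.mp (Finset.mem_range.mp hl)
    have hsplit : ai ^ n = ai ^ l * ai ^ (n - l) := by rw [← pow_add]; congr 1; omega
    rw [Algebra.smul_def, hsplit]
    simp only [u, mul_pow]
    have : aL ^ l * ai ^ l = 1 := by rw [← mul_pow, hai, one_pow]
    linear_combination (-(algebraMap R L (c l)) * bL ^ (n - l) * ai ^ (n - l)) * this
  have hrelM : ∑ l ∈ Finset.range (n + 1), (fun l => c (n - l)) l • ui ^ (n - l) = 0 := by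
    have h0 : (∑ l ∈ Finset.range (n + 1), algebraMap R L (c l) * (aL ^ l * bL ^ (n - l))) * bi ^ n
        = 0 := by rw [hrelL, zero_mul]
    rw [Finset.sum_mul] at h0
    have h1 : ∑ l ∈ Finset.range (n + 1), c l • ui ^ l = 0 := by
      rw [← h0]
      refine Finset.sum_congr rfl fun l hl => ?_
      have hl' : l ≤ n := Nat.lt_succ_iff.mp (Finset.mem_range.mp hl)
      have hsplit : bi ^ n = bi ^ l * bi ^ (n - l) := by rw [← pow_add]; congr 1; omega
      rw [Algebra.smul_def, hsplit]
      simp only [ui, mul_pow]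
      have : bL ^ (n - l) * bi ^ (n - l) = 1 := by rw [← mul_pow, hbi, one_pow]
      linear_combination (-(algebraMap R L (c l)) * aL ^ l * bi ^ l) * this
    rw [← Finset.sum_range_reflect] at h1
    rw [← h1]
    refine Finset.sum_congr rfl fun l hl => ?_
    have hl' : l ≤ n := Nat.lt_succ_iff.mp (Finset.mem_range.mp hl)
    have : n + 1 - 1 - l = n - l := by omega
    simp only [this]
  -- integrality
  have hV : ∀ j, j ≤ n → IsIntegral R (vv c u j) := isIntegral_vv c u n hrelP
  have hV' : ∀ j, j ≤ n → IsIntegral R (vv (fun l => c (n - l)) ui j) :=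
    isIntegral_vv (fun l => c (n - l)) ui n hrelM
  have hkey := key_identity c u ui hu n hrelP (n - k) (by omega)
  have hnk : n - (n - k) = k := by omega
  rw [hnk] at hkey
  obtain ⟨q, hq⟩ := hck.exists_right_inv
  -- q = (c k)⁻¹
  let e : L := (-q) • vv c u k
  let f : L := (-q) • vv (fun l => c (n - l)) ui (n - k)
  have hef : e + f = 1 := by
    simp only [e, f]
    rw [← smul_add]
    have : vv c u k + vv (fun l => c (n - l)) ui (n - k) = - algebraMap R L (c k) := by
      linear_combination hkey
    rw [this, Algebra.smul_def, map_neg, neg_mul_neg, ← map_mul, mul_comm, hq, map_one]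
  have he : IsIntegral R e := (hV k hkn).smul _
  have hf : IsIntegral R f := (hV' (n - k) (by omega)).smul _
  -- α = e * ui, β = f * u
  have hα : IsIntegral R (e * ui) := by
    simp only [e]
    rcases Nat.eq_zero_or_pos k with hk0 | hk0
    · rw [hk0, vv_zero, smul_zero, zero_mul]; exact isIntegral_zero
    · obtain ⟨k', rfl⟩ : ∃ k', k = k' + 1 := ⟨k - 1, by omega⟩
      rw [vv_succ, smul_mul_assoc, mul_assoc, hu, mul_one]
      exact ((hV k' (by omega)).add isIntegral_algebraMap).smul _
  have hβ : IsIntegral R (f * u) := by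
    simp only [f]
    rcases Nat.eq_zero_or_pos (n - k) with hk0 | hk0
    · rw [hk0, vv_zero, smul_zero, zero_mul]; exact isIntegral_zero
    · obtain ⟨k', hk'⟩ : ∃ k', n - k = k' + 1 := ⟨n - k - 1, by omega⟩
      rw [hk', vv_succ, smul_mul_assoc, mul_assoc, mul_comm ui u, hu, mul_one]
      exact ((hV' k' (by omega)).add isIntegral_algebraMap).smul _
  refine core a b ha hb e f (e * ui) (f * u) he hf hα hβ hef ?_ ?_
  · -- (e * ui) * bL = e * aL
    have : ui * bL = aL := by
      simp only [ui]
      calc aL * bi * bL = aL * (bL * bi) := by ring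
        _ = aL := by rw [hbi, mul_one]
    rw [mul_assoc, this]
  · have : u * aL = bL := by
      simp only [u]
      calc bL * ai * aL = bL * (aL * ai) := by ring
        _ = bL := by rw [hai, mul_one]
    rw [mul_assoc, this]

end main

end Groth.Agent.Lib.CommonFactor
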