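import Groth.Prelude.Def_HopfRep
import Groth.Prelude.Def_Hoch
import Groth.Prelude.Def_ComodSub
import Mathlib.LinearAlgebra.TensorProduct.Basis
import Mathlib.LinearAlgebra.Basis.VectorSpace
import Mathlib.LinearAlgebra.FiniteDimensional.Basic

/-!
# Comodule theory for `HopfRep.Comod` (helper41)

Basic results on right comodules in the prelude's formulation.
-/

set_option autoImplicit false
universe u v w w'

open TensorProduct

namespace Groth.Agent.Lib.Comod

section Contr

variable {k : Type u} {C : Type v} [CommRing k] [AddCommGroup C] [Module k C]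

/-- Contraction of the right tensor factor with a linear functional. -/
noncomputable def contr (X : Type w) [AddCommGroup X] [Module k X] (φ : C →ₗ[k] k) :
    X ⊗[k] C →ₗ[k] X :=
  (TensorProduct.rid k X).toLinearMap ∘ₗ φ.lTensor X

@[simp] theorem contr_tmul (X : Type w) [AddCommGroup X] [Module k X] (φ : C →ₗ[k] k)
    (x : X) (c : C) : contr X φ (x ⊗ₜ[k] c) = φ c • x := by
  simp [contr]

variable [Coalgebra k C]

/-- `(id ⊗ φ) ∘ Δ : C → C`. -/
noncomputable def slice (φ : C →ₗ[k] k) : C →ₗ[k] C :=
  contr C φ ∘ₗ CoalgebraStruct.comul (R := k) (A := C)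

variable {V : Type w} [AddCommGroup V] [Module k V] [HopfRep.Comod k C V]

theorem lTensor_contr_assoc_rTensor (φ : C →ₗ[k] k) (x : V ⊗[k] C) :
    (contr C φ).lTensor V ((TensorProduct.assoc k V C C)
      ((HopfRep.Comod.coact (k := k) (A := C) (V := V)).rTensor C x)) =
    HopfRep.Comod.coact (k := k) (A := C) (contr V φ x) := by
  induction x using TensorProduct.induction_on with
  | zero => simp
  | add x y hx hy => simp only [map_add, hx, hy]
  | tmul v c =>
    simp only [LinearMap.rTensor_tmul, contr_tmul, map_smul]
    generalize HopfRep.Comod.coact (k := k) (A := C) v = y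
    induction y using TensorProduct.induction_on with
    | zero => simp
    | add x y hx hy => simp only [TensorProduct.add_tmul, map_add, hx, hy, smul_add]
    | tmul w d =>
      simp [TensorProduct.smul_tmul']

/-- Key identity: coaction of a coefficient of `ρ v`. -/
theorem coact_contr_coact (φ : C →ₗ[k] k) (v : V) :
    HopfRep.Comod.coact (k := k) (A := C) (contr V φ (HopfRep.Comod.coact (k := k) (A := C) v)) =
      (slice φ).lTensor V (HopfRep.Comod.coact (k := k) (A := C) v) := by
  rw [← lTensor_contr_assoc_rTensor]
  have h := LinearMap.congr_fun (HopfRep.Comod.coassoc (k := k) (A := C) (V := V)) v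
  simp only [LinearMap.coe_comp, LinearEquiv.coe_coe, Function.comp_apply] at h
  rw [h, slice, LinearMap.lTensor_comp, LinearMap.comp_apply]

end Contr

section LocallyFinite

variable {k : Type u} {C : Type v} [Field k] [AddCommGroup C] [Module k C] [Coalgebra k C]
  {V : Type w} [AddCommGroup V] [Module k V] [HopfRep.Comod k C V]

/-- `⊥` is a subcomodule. -/
theorem isSubcomod_bot : HopfRep.IsSubcomod (k := k) (A := C) (⊥ : Submodule k V) := by
  intro w hw
  rw [Submodule.mem_bot] at hw
  subst hw
  rw [map_zero]
  exact zero_mem _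

/-- `⊤` is a subcomodule. -/
theorem isSubcomod_top : HopfRep.IsSubcomod (k := k) (A := C) (⊤ : Submodule k V) := by
  intro w _
  have hs : Function.Surjective ((⊤ : Submodule k V).subtype.rTensor C) :=
    LinearMap.rTensor_surjective C (fun x => ⟨⟨x, trivial⟩, rfl⟩)
  exact LinearMap.mem_range.2 (hs _)

/-- A span of vectors whose coactions land in `W ⊗ C` is a subcomodule. -/
theorem isSubcomod_span {s : Set V}
    (h : ∀ x ∈ s, HopfRep.Comod.coact (k := k) (A := C) x ∈
      LinearMap.range ((Submodule.span k s).subtype.rTensor C)) :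
    HopfRep.IsSubcomod (k := k) (A := C) (Submodule.span k s) := by
  intro w hw
  induction hw using Submodule.span_induction with
  | mem x hx => exact h x hx
  | zero => rw [map_zero]; exact zero_mem _
  | add x y _ _ hx hy => rw [map_add]; exact add_mem hx hy
  | smul a x _ hx => rw [map_smul]; exact Submodule.smul_mem _ a hx

/-- Every vector of a comodule over a field lies in a finite-dimensional subcomodule. -/
theorem exists_finite_subcomod_mem (v : V) :
    ∃ W : Submodule k V, Module.Finite k W ∧ v ∈ W ∧ HopfRep.IsSubcomod (k := k) (A := C) W := by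
  classical
  let b := Module.Basis.ofVectorSpace k C
  set ρ := HopfRep.Comod.coact (k := k) (A := C) (V := V) with hρ
  let coef := TensorProduct.equivFinsuppOfBasisRight (M := V) b (ρ v)
  have hcoef : ∀ i, coef i = contr V (b.coord i) (ρ v) := fun i =>
    TensorProduct.equivFinsuppOfBasisRight_apply b (ρ v) i
  have hsum : ρ v = coef.sum fun i m => m ⊗ₜ[k] b i := by
    rw [← TensorProduct.equivFinsuppOfBasisRight_symm_apply, LinearEquiv.symm_apply_apply]
  let s : Set V := (fun i => coef i) '' (coef.support : Set _)
  have hsfin : s.Finite := (Finset.finite_toSet _).image _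
  refine ⟨Submodule.span k s, Module.Finite.span_of_finite k hsfin, ?_, ?_⟩
  · -- v = Σ ε(b i) coef i
    have h := LinearMap.congr_fun (HopfRep.Comod.counit_comp (k := k) (A := C) (V := V)) v
    simp only [LinearMap.coe_comp, Function.comp_apply, LinearMap.flip_apply,
      TensorProduct.mk_apply] at h
    have h2 : v = contr V (CoalgebraStruct.counit (R := k) (A := C)) (ρ v) := by
      rw [contr, LinearMap.comp_apply, h]
      simp
    rw [h2, hsum, Finsupp.sum, map_sum]
    refine Submodule.sum_mem _ fun i hi => ?_
    rw [contr_tmul]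
    exact Submodule.smul_mem _ _ (Submodule.subset_span ⟨i, hi, rfl⟩)
  · apply isSubcomod_span
    rintro x ⟨i, _, rfl⟩
    show ρ (coef i) ∈ _
    rw [hcoef i, coact_contr_coact, hsum, Finsupp.sum, map_sum]
    refine Submodule.sum_mem _ fun j hj => ?_
    rw [LinearMap.lTensor_tmul]
    exact ⟨(⟨coef j, Submodule.subset_span ⟨j, hj, rfl⟩⟩ : Submodule.span k s) ⊗ₜ[k]
      (slice (b.coord i) (b j)), by simp⟩

end LocallyFinite

end Groth.Agent.Lib.Comod
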