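import Groth.Agent.Lib.ComodHom
import Groth.Prelude.Def_GLin2

/-!
# Comodule theory III (helper41): comodules pushed along a bialgebra map (`GLin.comodAlong`)
-/

set_option autoImplicit false
universe u v v' w

open TensorProduct

namespace Groth.Agent.Lib.Comod

section Along

variable {k : Type u} [CommRing k] {A : Type v} [CommRing A] [Bialgebra k A]
  {B : Type v'} [CommRing B] [Bialgebra k B] {V : Type w} [AddCommGroup V] [Module k V]

theorem contr_map_id {k : Type u} [CommRing k] {A : Type v} [AddCommGroup A] [Module k A]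
    {B : Type v'} [AddCommGroup B] [Module k B] {V : Type w} [AddCommGroup V] [Module k V]
    (f : A →ₗ[k] B) (ψ : B →ₗ[k] k) (x : V ⊗[k] A) :
    contr V ψ (TensorProduct.map LinearMap.id f x) = contr V (ψ ∘ₗ f) x := by
  induction x using TensorProduct.induction_on with
  | zero => simp
  | add x y hx hy => simp only [map_add, hx, hy]
  | tmul v a => simp

/-- The dual-algebra action for the comodule pushed along `φ`. -/
theorem act_comodAlong (φ : A →ₐc[k] B) (c : HopfRep.Comod k A V) (ψ : B →ₗ[k] k) (v : V) :
    @act k B _ _ _ _ V _ _ (GLin.comodAlong φ c) ψ v =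
      @act k A _ _ _ _ V _ _ c (ψ ∘ₗ (φ : A →ₗ[k] B)) v := by
  show contr V ψ ((GLin.comodAlong φ c).coact v) = contr V (ψ ∘ₗ (φ : A →ₗ[k] B)) (c.coact v)
  rw [GLin.comodAlong_coact, contr_map_id]

/-- A subcomodule stays a subcomodule after pushing along a bialgebra map. -/
theorem isSubcomod_comodAlong {k : Type u} [Field k] {A : Type v} [CommRing A] [Bialgebra k A]
    {B : Type v'} [CommRing B] [Bialgebra k B] {V : Type w} [AddCommGroup V] [Module k V]
    (φ : A →ₐc[k] B) (c : HopfRep.Comod k A V) {W : Submodule k V}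
    (hW : @HopfRep.IsSubcomod k A _ _ _ _ V _ _ c W) :
    @HopfRep.IsSubcomod k B _ _ _ _ V _ _ (GLin.comodAlong φ c) W := by
  let _ := c
  rw [isSubcomod_iff_act] at hW
  let _ := GLin.comodAlong φ c
  rw [isSubcomod_iff_act]
  intro ψ v hv
  rw [act_comodAlong]
  exact hW _ v hv

/-- For an injective bialgebra map over a field, the subcomodules of the pushed comodule are the
subcomodules of the original one. -/
theorem isSubcomod_comodAlong_iff_of_injective {k : Type u} [Field k] {A : Type v} [CommRing A]
    [Bialgebra k A] {B : Type v'} [CommRing B] [Bialgebra k B] {V : Type w} [AddCommGroup V]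
    [Module k V] (φ : A →ₐc[k] B) (hφ : Function.Injective φ) (c : HopfRep.Comod k A V)
    (W : Submodule k V) :
    @HopfRep.IsSubcomod k B _ _ _ _ V _ _ (GLin.comodAlong φ c) W ↔
      @HopfRep.IsSubcomod k A _ _ _ _ V _ _ c W := by
  refine ⟨fun hW => ?_, isSubcomod_comodAlong φ c⟩
  let _ := GLin.comodAlong φ c
  rw [isSubcomod_iff_act] at hW
  let _ := c
  rw [isSubcomod_iff_act]
  intro ψ v hv
  obtain ⟨g, hg⟩ := LinearMap.exists_leftInverse_of_injective (φ : A →ₗ[k] B)
    (LinearMap.ker_eq_bot.2 hφ)
  have := hW (ψ ∘ₗ g) v hv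
  rw [act_comodAlong, LinearMap.comp_assoc, hg, LinearMap.comp_id] at this
  exact this

end Along

end Groth.Agent.Lib.Comod
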