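import Groth.Agent.Lib.ComodHomFix

/-!
# Comodule theory XV (helper41): the fixed-vector criterion for linear reductivity

`exists_isCompl_of_FP`: over a field, if every surjective comodule map from a finite-dimensional
comodule onto the trivial comodule `k` is nonzero on some fixed vector, then every subcomodule
of a finite-dimensional comodule has a complementary subcomodule.
-/

set_option autoImplicit false
universe u v

open TensorProduct

namespace Groth.Agent.Lib.ComodFP

open Groth.Agent.Lib.Comod Groth.Agent.Lib.ComodHomFix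

variable {k : Type u} [Field k] {A : Type v} [CommRing A] [HopfAlgebra k A]

/-- The fixed-vector property. -/
def FP (k : Type u) [Field k] (A : Type v) [CommRing A] [HopfAlgebra k A] : Prop :=
  ∀ (X : Type v) [AddCommGroup X] [Module k X] [HopfRep.Comod k A X], Module.Finite k X →
    ∀ π : X →ₗ[k] k, Function.Surjective π →
      LinearMap.rTensor A π ∘ₗ HopfRep.Comod.coact (k := k) (A := A) (V := X) =
        (TensorProduct.mk k k A).flip (1 : A) ∘ₗ π →
      ∃ x ∈ HopfRep.fixedPts k A X, π x ≠ 0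

section Main

variable {V : Type v} [AddCommGroup V] [Module k V] [Module.Finite k V]
  (c : HopfRep.Comod k A V) (W : Submodule k V)
  (hW : @HopfRep.IsSubcomod k A _ _ _ _ V _ _ c W)

/-- The maps `V → W` restricting to a scalar on `W`. -/
def scalarOn : Submodule k (V →ₗ[k] W) where
  carrier := {h | ∃ r : k, h ∘ₗ W.subtype = r • LinearMap.id}
  add_mem' := by
    rintro h h' ⟨r, hr⟩ ⟨r', hr'⟩
    exact ⟨r + r', by rw [LinearMap.add_comp, hr, hr', add_smul]⟩
  zero_mem' := ⟨0, by rw [LinearMap.zero_comp, zero_smul]⟩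
  smul_mem' := by
    rintro a h ⟨r, hr⟩
    exact ⟨a * r, by rw [LinearMap.smul_comp, hr, smul_smul]⟩

omit [Module.Finite k V] in
theorem contr_twistHom_id (φ : A →ₗ[k] k) :
    contr W φ ∘ₗ twistHom (ComodSub.Comod.restr c W hW) (ComodSub.Comod.restr c W hW)
      (LinearMap.id : W →ₗ[k] W) = φ 1 • LinearMap.id := by
  rw [twistHom_eq_of_isComodHom _ _ (isComodHom_id' (ComodSub.Comod.restr c W hW))]
  apply LinearMap.ext
  intro w
  simp

/-- The action of the dual algebra on `Hom(V, W)` followed by restriction to `W`. -/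
theorem act_homComod_comp_subtype (φ : A →ₗ[k] k) (h : V →ₗ[k] W) (r : k)
    (hr : h ∘ₗ W.subtype = r • LinearMap.id) :
    (@act k A _ _ _ _ (V →ₗ[k] W) _ _ (homComod c (ComodSub.Comod.restr c W hW)) φ h) ∘ₗ
      W.subtype = (φ 1 * r) • LinearMap.id := by
  rw [act_homComod, LinearMap.comp_assoc,
    ← twistHom_comp c (ComodSub.Comod.restr c W hW) (ComodSub.Comod.restr c W hW) W.subtype
      (ComodSub.isComodHom_subtype c W hW) h, hr, twistHom_smul, LinearMap.comp_smul,
    contr_twistHom_id, smul_smul, mul_comm]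

theorem isSubcomod_scalarOn :
    @HopfRep.IsSubcomod k A _ _ _ _ (V →ₗ[k] W) _ _
      (homComod c (ComodSub.Comod.restr c W hW)) (scalarOn W) := by
  let _ := homComod c (ComodSub.Comod.restr c W hW)
  rw [isSubcomod_iff_act]
  rintro φ h ⟨r, hr⟩
  exact ⟨φ 1 * r, act_homComod_comp_subtype c W hW φ h r hr⟩

end Main

section Final

variable {V : Type v} [AddCommGroup V] [Module k V] [Module.Finite k V]
  (c : HopfRep.Comod k A V) (W : Submodule k V)
  (hW : @HopfRep.IsSubcomod k A _ _ _ _ V _ _ c W)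

omit [Module.Finite k V] in
theorem act_trivial (φ : A →ₗ[k] k) (t : k) :
    @act k A _ _ _ _ k _ _ (HopfRep.Comod.trivial k A k) φ t = φ 1 • t := by
  show contr k φ (t ⊗ₜ[k] (1 : A)) = φ 1 • t
  rw [contr_tmul]

include hW in
/-- The fixed-vector property implies that subcomodules of finite-dimensional comodules have
complementary subcomodules. -/
theorem exists_isCompl_of_FP (hFP : FP k A) :
    ∃ W' : Submodule k V, @HopfRep.IsSubcomod k A _ _ _ _ V _ _ c W' ∧ IsCompl W W' := by
  by_cases hW0 : W = ⊥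
  · refine ⟨⊤, ?_, by rw [hW0]; exact isCompl_bot_top⟩
    let _ := c
    exact isSubcomod_top
  obtain ⟨w₀, hw₀W, hw₀⟩ := (Submodule.ne_bot_iff W).mp hW0
  have hw₀' : (⟨w₀, hw₀W⟩ : W) ≠ 0 := fun h => hw₀ (congrArg Subtype.val h)
  obtain ⟨ξ, hξ⟩ := Module.Projective.exists_dual_eq_one k hw₀'
  set cW := ComodSub.Comod.restr c W hW with hcW
  set cHom := homComod c cW with hcHom
  have hH' := isSubcomod_scalarOn c W hW
  set cH' := ComodSub.Comod.restr cHom (scalarOn W) hH' with hcH'
  -- the functional `π`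
  let π : scalarOn W →ₗ[k] k :=
    ξ ∘ₗ (LinearMap.applyₗ w₀ : (V →ₗ[k] W) →ₗ[k] W) ∘ₗ (scalarOn W).subtype
  have hπ : ∀ (h : scalarOn W) (r : k), h.1 ∘ₗ W.subtype = r • LinearMap.id → π h = r := by
    intro h r hr
    have h1 : h.1 w₀ = r • (⟨w₀, hw₀W⟩ : W) := by
      have := LinearMap.congr_fun hr ⟨w₀, hw₀W⟩
      simpa using this
    show ξ (h.1 w₀) = r
    rw [h1, map_smul, hξ, smul_eq_mul, mul_one]
  -- surjectivity
  obtain ⟨r₀, hr₀⟩ := LinearMap.exists_leftInverse_of_injective W.subtype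
    (LinearMap.ker_eq_bot.mpr W.injective_subtype)
  have hr₀mem : r₀ ∈ scalarOn W := ⟨1, by rw [hr₀, one_smul]⟩
  have hπsurj : Function.Surjective π := by
    intro t
    refine ⟨t • ⟨r₀, hr₀mem⟩, ?_⟩
    rw [map_smul, hπ ⟨r₀, hr₀mem⟩ 1 (by rw [hr₀, one_smul]), smul_eq_mul, mul_one]
  -- comodule map to the trivial comodule
  have hπhom : @Hoch.IsComodHom k _ A _ _ _ (scalarOn W) _ _ cH' k _ _
      (HopfRep.Comod.trivial k A k) π := by
    let _ := cH'
    let _ := HopfRep.Comod.trivial k A k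
    apply isComodHom_of_act_comm
    intro φ h
    obtain ⟨r, hr⟩ := h.2
    have hsub := ComodSub.isComodHom_subtype cHom (scalarOn W) hH'
    have hact : ((act (scalarOn W) φ h : scalarOn W) : V →ₗ[k] W) =
        @act k A _ _ _ _ (V →ₗ[k] W) _ _ cHom φ h.1 := by
      have := @IsComodHom.act_comm k A _ _ _ _ (scalarOn W) _ _ cH' (V →ₗ[k] W) _ _ cHom
        (scalarOn W).subtype hsub φ h
      exact this.symm
    have h2 : π (act (scalarOn W) φ h) = φ 1 * r := by
      apply hπ
      rw [hact]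
      exact act_homComod_comp_subtype c W hW φ h.1 r hr
    rw [h2, hπ h r hr]
    exact act_trivial φ r
  have hπeq : LinearMap.rTensor A π ∘ₗ cH'.coact = (TensorProduct.mk k k A).flip (1 : A) ∘ₗ π :=
    hπhom.symm
  obtain ⟨x, hxfix, hxne⟩ := @hFP (scalarOn W) _ _ cH' inferInstance π hπsurj hπeq
  obtain ⟨r, hr⟩ := x.2
  have hxr : π x = r := hπ x r hr
  -- `x` is fixed in `Hom(V, W)`, hence a comodule map
  have hxfix' : x.1 ∈ @HopfRep.fixedPts k A _ _ _ (V →ₗ[k] W) _ _ cHom := by
    have h1 := ComodSub.restr_coact_coe cHom (scalarOn W) hH' x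
    have h2 : cH'.coact x = x ⊗ₜ[k] (1 : A) := hxfix
    rw [h2, LinearMap.rTensor_tmul] at h1
    exact h1.symm
  have hxhom := (mem_fixedPts_homComod_iff c cW x.1).mp hxfix'
  have hr0 : r ≠ 0 := by rw [← hxr]; exact hxne
  refine exists_isCompl_of_retraction c W hW (r⁻¹ • x.1) (isComodHom_smul' c cW r⁻¹ hxhom) ?_
  intro w
  have := LinearMap.congr_fun hr w
  simp only [LinearMap.comp_apply, Submodule.subtype_apply, LinearMap.smul_apply,
    LinearMap.id_apply] at this
  rw [LinearMap.smul_apply, this, smul_smul, inv_mul_cancel₀ hr0, one_smul]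

end Final

section Converse

variable {C : Type v} [AddCommGroup C] [Module k C]

/-- Over a field, tensors in `V ⊗ C` are separated by the contractions. -/
theorem eq_of_forall_contr_eq {V : Type*} [AddCommGroup V] [Module k V] {x y : V ⊗[k] C}
    (h : ∀ φ : C →ₗ[k] k, contr V φ x = contr V φ y) : x = y := by
  classical
  let b := Module.Basis.ofVectorSpace k C
  apply (TensorProduct.equivFinsuppOfBasisRight (M := V) b).injective
  ext i
  rw [TensorProduct.equivFinsuppOfBasisRight_apply, TensorProduct.equivFinsuppOfBasisRight_apply]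
  exact h (b.coord i)

variable {X : Type v} [AddCommGroup X] [Module k X] [HopfRep.Comod k A X]

/-- A semisimple comodule has the fixed-vector property. -/
theorem exists_fixedPt_of_isSemisimpleComod (hss : HopfRep.IsSemisimpleComod k A X)
    (π : X →ₗ[k] k) (hπ : Function.Surjective π)
    (hπc : LinearMap.rTensor A π ∘ₗ HopfRep.Comod.coact (k := k) (A := A) (V := X) =
      (TensorProduct.mk k k A).flip (1 : A) ∘ₗ π) :
    ∃ x ∈ HopfRep.fixedPts k A X, π x ≠ 0 := by
  let cT := HopfRep.Comod.trivial k A k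
  have hπhom : @Hoch.IsComodHom k _ A _ _ _ X _ _ _ k _ _ cT π := hπc.symm
  have hK : HopfRep.IsSubcomod (k := k) (A := A) (LinearMap.ker π) := by
    let _ := cT
    exact isSubcomod_ker hπhom
  obtain ⟨L, hL, hcompl⟩ := hss _ hK
  obtain ⟨x, hx⟩ := hπ 1
  have hxmem : x ∈ LinearMap.ker π ⊔ L := by
    rw [hcompl.sup_eq_top]
    exact Submodule.mem_top
  obtain ⟨κ, hκ, l, hl, rfl⟩ := Submodule.mem_sup.mp hxmem
  have hπl : π l = 1 := by
    rw [map_add, LinearMap.mem_ker.mp hκ, zero_add] at hx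
    exact hx
  refine ⟨l, ?_, by rw [hπl]; exact one_ne_zero⟩
  -- `l` is fixed
  have hinj : ∀ y ∈ L, π y = 0 → y = 0 := by
    intro y hy h0
    have : y ∈ LinearMap.ker π ⊓ L := ⟨LinearMap.mem_ker.mpr h0, hy⟩
    rwa [hcompl.inf_eq_bot, Submodule.mem_bot] at this
  have hact : ∀ φ : A →ₗ[k] k, act X φ l = φ 1 • l := by
    intro φ
    have h1 : act X φ l ∈ L := act_mem_of_isSubcomod hL φ hl
    have h2 : π (act X φ l) = φ 1 • π l := by
      have := @IsComodHom.act_comm k A _ _ _ _ X _ _ _ k _ _ cT π hπhom φ l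
      rw [← this]
      exact act_trivial φ (π l)
    have h3 : act X φ l - φ 1 • l ∈ L := L.sub_mem h1 (L.smul_mem _ hl)
    have h4 : π (act X φ l - φ 1 • l) = 0 := by
      rw [map_sub, h2, map_smul, sub_self]
    exact sub_eq_zero.mp (hinj _ h3 h4)
  show HopfRep.Comod.coact (k := k) (A := A) l = l ⊗ₜ[k] (1 : A)
  apply eq_of_forall_contr_eq
  intro φ
  rw [contr_tmul]
  exact hact φ

end Converse

end Groth.Agent.Lib.ComodFP
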