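import Groth.Agent.Lib.ComodHom
import Mathlib.RingTheory.Coalgebra.GroupLike

/-!
# Comodule theory VI (helper41): diagonalizable = spanned by group-likes; eigenvectors
-/

set_option autoImplicit false
universe u v w

open TensorProduct

namespace Groth.Agent.Lib.Comod

section Diag

variable {k : Type u} {A : Type v} [Field k] [AddCommGroup A] [Module k A] [Coalgebra k A]
  {V : Type w} [AddCommGroup V] [Module k V]

/-- If the group-like elements span the coalgebra, every comodule is spanned by eigenvectors. -/
theorem span_eigenvectors_eq_top_of_span_groupLike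
    (hA : Submodule.span k {a : A | IsGroupLikeElem k a} = ⊤) (c : HopfRep.Comod k A V) :
    Submodule.span k {v : V | ∃ a : A, c.coact v = v ⊗ₜ[k] a} = ⊤ := by
  classical
  let _ := c
  have hspan : ⊤ ≤ Submodule.span k (Set.range (GroupLike.val (R := k) (A := A))) := by
    rw [← hA]
    apply Submodule.span_mono
    intro a ha
    exact ⟨⟨a, ha⟩, rfl⟩
  let b : Module.Basis (GroupLike k A) k A := Module.Basis.mk linearIndep_groupLikeVal hspan
  have hb : ∀ g, b g = g.val := fun g => by simp [b]
  rw [eq_top_iff]
  intro v _
  set ρ := HopfRep.Comod.coact (k := k) (A := A) (V := V) with hρ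
  let coef := TensorProduct.equivFinsuppOfBasisRight (M := V) b (ρ v)
  have hcoef : ∀ i, coef i = contr V (b.coord i) (ρ v) := fun i =>
    TensorProduct.equivFinsuppOfBasisRight_apply b (ρ v) i
  have hsum : ρ v = coef.sum fun i m => m ⊗ₜ[k] b i := by
    rw [← TensorProduct.equivFinsuppOfBasisRight_symm_apply, LinearEquiv.symm_apply_apply]
  have hv : v = contr V (CoalgebraStruct.counit (R := k) (A := A)) (ρ v) := (act_counit v).symm
  have heig : ∀ g, ρ (coef g) = coef g ⊗ₜ[k] g.val := by
    intro g
    have h1 : ρ (coef g) = (slice (b.coord g)).lTensor V (ρ v) := by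
      rw [hcoef g]
      exact coact_contr_coact _ _
    rw [h1]
    conv_lhs => rw [hsum, Finsupp.sum, map_sum]
    have hslice : ∀ h : GroupLike k A, slice (b.coord g) (b h) = if g = h then b h else 0 := by
      intro h
      rw [slice, LinearMap.comp_apply, hb h, h.2.comul_eq_tmul_self, contr_tmul, ← hb h,
        Module.Basis.coord_apply, Module.Basis.repr_self, Finsupp.single_apply]
      split_ifs with h1 h2 h2
      · rw [one_smul]
      · exact absurd h1.symm h2
      · exact absurd h2.symm h1
      · rw [zero_smul]
    simp only [LinearMap.lTensor_tmul, hslice]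
    rw [Finset.sum_eq_single g]
    · rw [if_pos rfl, hb]
    · intro h _ hne
      rw [if_neg (Ne.symm hne), TensorProduct.tmul_zero]
    · intro hg
      rw [Finsupp.notMem_support_iff.1 hg, TensorProduct.zero_tmul]
  rw [hv, hsum, Finsupp.sum, map_sum]
  refine Submodule.sum_mem _ fun g _ => ?_
  rw [contr_tmul]
  exact Submodule.smul_mem _ _ (Submodule.subset_span ⟨g.val, heig g⟩)

end Diag

section Regular

variable {k : Type u} {A : Type v} [Field k] [AddCommGroup A] [Module k A] [Coalgebra k A]

/-- An eigenvector of the regular comodule is a scalar multiple of a group-like element. -/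
theorem mem_span_groupLike_of_comul_eq_tmul {w g : A}
    (h : CoalgebraStruct.comul (R := k) w = w ⊗ₜ[k] g) :
    w ∈ Submodule.span k {a : A | IsGroupLikeElem k a} := by
  by_cases hw : w = 0
  · rw [hw]; exact zero_mem _
  have h1 := LinearMap.congr_fun (Coalgebra.rTensor_counit_comp_comul (R := k) (A := A)) w
  simp only [LinearMap.coe_comp, Function.comp_apply, h, LinearMap.rTensor_tmul,
    TensorProduct.mk_apply] at h1
  have h2 : CoalgebraStruct.counit (R := k) w • g = w := by
    have := congrArg (TensorProduct.lid k A) h1
    simpa using this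
  have hε : CoalgebraStruct.counit (R := k) w ≠ 0 := by
    intro h0
    rw [h0, zero_smul] at h2
    exact hw h2.symm
  have hg : g = (CoalgebraStruct.counit (R := k) w)⁻¹ • w := by
    rw [eq_inv_smul_iff₀ hε]
    exact h2
  have hgl : IsGroupLikeElem k g := by
    constructor
    · rw [hg, map_smul, smul_eq_mul, inv_mul_cancel₀ hε]
    · conv_lhs => rw [hg]
      rw [map_smul, h, TensorProduct.smul_tmul', ← hg]
  rw [← h2]
  exact Submodule.smul_mem _ _ (Submodule.subset_span hgl)

/-- If every finite-dimensional comodule (in the universe of `A`) is spanned by eigenvectors,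
the group-like elements span `A`. -/
theorem span_groupLike_eq_top_of_span_eigenvectors
    (h : ∀ (V : Type v) [AddCommGroup V] [Module k V] [HopfRep.Comod k A V], Module.Finite k V →
      Submodule.span k {v : V | ∃ a : A, HopfRep.Comod.coact (k := k) (A := A) v = v ⊗ₜ[k] a} = ⊤) :
    Submodule.span k {a : A | IsGroupLikeElem k a} = ⊤ := by
  rw [eq_top_iff]
  intro a _
  obtain ⟨W, hfin, haW, hW⟩ := exists_finite_subcomod_mem (k := k) (C := A) (V := A) a
  have hspanW := @h W _ _ (ComodSub.Comod.restr (HopfRep.Comod.regular k A) W hW) hfin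
  have hle : W ≤ Submodule.span k {a : A | IsGroupLikeElem k a} := by
    intro x hx
    have hx' : (⟨x, hx⟩ : W) ∈ (⊤ : Submodule k W) := trivial
    rw [← hspanW] at hx'
    have : ∀ y : W, y ∈ Submodule.span k {v : W | ∃ a : A,
        (ComodSub.Comod.restr (HopfRep.Comod.regular k A) W hW).coact v = v ⊗ₜ[k] a} →
        (y : A) ∈ Submodule.span k {a : A | IsGroupLikeElem k a} := by
      intro y hy
      induction hy using Submodule.span_induction with
      | mem y hy =>
        obtain ⟨g, hg⟩ := hy
        apply mem_span_groupLike_of_comul_eq_tmul (g := g)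
        have := ComodSub.restr_coact_coe (HopfRep.Comod.regular k A) W hW y
        rw [hg, LinearMap.rTensor_tmul] at this
        exact this.symm
      | zero => exact zero_mem _
      | add x y _ _ hx hy => exact add_mem hx hy
      | smul r x _ hx => exact Submodule.smul_mem _ r hx
    exact this _ hx'
  exact hle haW

end Regular

end Groth.Agent.Lib.Comod
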