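import Groth.Agent.Lib.HopfAntipode
import Groth.Prelude.Def_ComodDual

/-!
# Comodule theory XIII (helper41): existence of the contragredient (dual) comodule

For a commutative Hopf algebra `A` over a commutative ring `k` and a comodule structure `c` on a
finite projective `k`-module `V`: `dualComod c` is a comodule structure on `Module.Dual k V` with
`ComodTens.Comod.IsDual c (dualComod c)`.
-/

set_option autoImplicit false
universe u v w

open TensorProduct

namespace Groth.Agent.Lib.ComodDual

variable {k : Type u} [CommRing k] {A : Type v} [CommRing A] [HopfAlgebra k A]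
  {V : Type w} [AddCommGroup V] [Module k V]

local notation "S" => HopfAlgebraStruct.antipode k (A := A)
local notation "Δ" => CoalgebraStruct.comul (R := k) (A := A)
local notation "ε" => CoalgebraStruct.counit (R := k) (A := A)

section Aux

/-- `D₂ (assoc (y ⊗ a)) = (v ↦ D y v ⊗ a)`. -/
theorem dualTensorHom_assoc_tmul (y : Module.Dual k V ⊗[k] A) (a : A) (v : V) :
    dualTensorHom k V (A ⊗[k] A) (TensorProduct.assoc k (Module.Dual k V) A A (y ⊗ₜ[k] a)) v =
      dualTensorHom k V A y v ⊗ₜ[k] a := by
  induction y using TensorProduct.induction_on with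
  | zero => simp
  | add x y hx hy =>
    rw [TensorProduct.add_tmul, map_add, map_add, LinearMap.add_apply, hx, hy, map_add,
      LinearMap.add_apply, TensorProduct.add_tmul]
  | tmul ψ b =>
    rw [TensorProduct.assoc_tmul, dualTensorHom_apply, dualTensorHom_apply,
      TensorProduct.smul_tmul']

/-- Pointwise: `lid (map φ S t) ⊗ a = map S (D (φ ⊗ a)) (comm t)`. -/
theorem lid_map_tmul_eq (φ : Module.Dual k V) (a : A) (t : V ⊗[k] A) :
    TensorProduct.lid k A (TensorProduct.map φ S t) ⊗ₜ[k] a =
      TensorProduct.map S (dualTensorHom k V A (φ ⊗ₜ[k] a)) (TensorProduct.comm k V A t) := by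
  induction t using TensorProduct.induction_on with
  | zero => simp
  | add x y hx hy =>
    rw [map_add, map_add, TensorProduct.add_tmul, hx, hy, map_add, map_add]
  | tmul w s =>
    rw [TensorProduct.map_tmul, TensorProduct.lid_tmul, TensorProduct.comm_tmul,
      TensorProduct.map_tmul, dualTensorHom_apply, TensorProduct.smul_tmul]

end Aux

section Key

variable (c : HopfRep.Comod k A V) (f : Module.Dual k V)

/-- The auxiliary map `(w' ⊗ s') ⊗ s ↦ S s ⊗ f(w') S(s')`. -/
noncomputable def lam : (V ⊗[k] A) ⊗[k] A →ₗ[k] A ⊗[k] A :=
  TensorProduct.map S ((TensorProduct.lid k A).toLinearMap ∘ₗ TensorProduct.map f S) ∘ₗ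
    (TensorProduct.comm k (V ⊗[k] A) A).toLinearMap

theorem lam_tmul (x : V ⊗[k] A) (s : A) :
    lam f (x ⊗ₜ[k] s) = S s ⊗ₜ[k] TensorProduct.lid k A (TensorProduct.map f S x) := by
  simp [lam]

theorem map_dualCoactFun_comm_eq_lam (t : V ⊗[k] A) :
    TensorProduct.map S (ComodTens.dualCoactFun c f) (TensorProduct.comm k V A t) =
      lam f (c.coact.rTensor A t) := by
  induction t using TensorProduct.induction_on with
  | zero => simp
  | add x y hx hy => simp only [map_add, hx, hy]
  | tmul w s =>
    rw [TensorProduct.comm_tmul, TensorProduct.map_tmul, LinearMap.rTensor_tmul, lam_tmul,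
      ComodTens.dualCoactFun_apply]

theorem lam_assoc_symm_tmul (w : V) (u : A ⊗[k] A) :
    lam f ((TensorProduct.assoc k V A A).symm (w ⊗ₜ[k] u)) =
      f w • TensorProduct.map S S (TensorProduct.comm k A A u) := by
  induction u using TensorProduct.induction_on with
  | zero => simp
  | add x y hx hy =>
    rw [TensorProduct.tmul_add, map_add, map_add, hx, hy, map_add, map_add, smul_add]
  | tmul s₁ s₂ =>
    rw [TensorProduct.assoc_symm_tmul, lam_tmul, TensorProduct.map_tmul, TensorProduct.lid_tmul,
      TensorProduct.comm_tmul, TensorProduct.map_tmul, TensorProduct.tmul_smul]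

theorem lam_assoc_symm_lTensor_comul (t : V ⊗[k] A) :
    lam f ((TensorProduct.assoc k V A A).symm ((Δ).lTensor V t)) =
      Δ (TensorProduct.lid k A (TensorProduct.map f S t)) := by
  induction t using TensorProduct.induction_on with
  | zero => simp
  | add x y hx hy => simp only [map_add, hx, hy]
  | tmul w s =>
    rw [LinearMap.lTensor_tmul, lam_assoc_symm_tmul, ← Groth.Agent.Lib.HopfAntipode.comul_antipode,
      TensorProduct.map_tmul, TensorProduct.lid_tmul, map_smul]

/-- The key identity for coassociativity of the dual: `Σ S(v₁) ⊗ F(v₀) = Δ (F v)`. -/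
theorem map_antipode_dualCoactFun (v : V) :
    TensorProduct.map S (ComodTens.dualCoactFun c f) (TensorProduct.comm k V A (c.coact v)) =
      Δ (ComodTens.dualCoactFun c f v) := by
  rw [map_dualCoactFun_comm_eq_lam]
  have h := LinearMap.congr_fun c.coassoc v
  simp only [LinearMap.comp_apply, LinearEquiv.coe_coe] at h
  have h' : c.coact.rTensor A (c.coact v) =
      (TensorProduct.assoc k V A A).symm ((Δ).lTensor V (c.coact v)) := by
    rw [← h, LinearEquiv.symm_apply_apply]
  rw [h', lam_assoc_symm_lTensor_comul, ComodTens.dualCoactFun_apply]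

/-- The key identity for counitality of the dual: `ε (F v) = f v`. -/
theorem counit_dualCoactFun (v : V) :
    ε (ComodTens.dualCoactFun c f v) = f v := by
  have key : ∀ t : V ⊗[k] A, ε (TensorProduct.lid k A (TensorProduct.map f S t)) =
      f (TensorProduct.rid k V ((ε).lTensor V t)) := by
    intro t
    induction t using TensorProduct.induction_on with
    | zero => simp
    | add x y hx hy => simp only [map_add, hx, hy]
    | tmul w s =>
      rw [TensorProduct.map_tmul, TensorProduct.lid_tmul, map_smul, HopfAlgebra.counit_antipode,
        LinearMap.lTensor_tmul, TensorProduct.rid_tmul, map_smul, smul_eq_mul, smul_eq_mul,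
        mul_comm]
  rw [ComodTens.dualCoactFun_apply, key]
  have h := LinearMap.congr_fun c.counit_comp v
  simp only [LinearMap.comp_apply, LinearMap.flip_apply, TensorProduct.mk_apply] at h
  rw [h, TensorProduct.rid_tmul, one_smul]

end Key

section Construction

variable [Module.Finite k V] [Module.Projective k V] (c : HopfRep.Comod k A V)

/-- `f ↦ dualCoactFun c f` as a linear map. -/
noncomputable def dualCoactFunL : Module.Dual k V →ₗ[k] (V →ₗ[k] A) where
  toFun := ComodTens.dualCoactFun c
  map_add' := ComodTens.dualCoactFun_add c
  map_smul' := ComodTens.dualCoactFun_smul c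

/-- The coaction of the contragredient comodule. -/
noncomputable def dualCoact : Module.Dual k V →ₗ[k] Module.Dual k V ⊗[k] A :=
  (LinearEquiv.ofBijective (dualTensorHom k V A) dualTensorHom_bijective).symm.toLinearMap ∘ₗ
    dualCoactFunL c

theorem dualTensorHom_dualCoact (f : Module.Dual k V) :
    dualTensorHom k V A (dualCoact c f) = ComodTens.dualCoactFun c f := by
  have := (LinearEquiv.ofBijective (dualTensorHom k V A) dualTensorHom_bijective).apply_symm_apply
    (ComodTens.dualCoactFun c f)
  exact this

theorem dualTensorHom_assoc_rTensor_dualCoact (x : Module.Dual k V ⊗[k] A) (v : V) :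
    dualTensorHom k V (A ⊗[k] A)
        (TensorProduct.assoc k (Module.Dual k V) A A ((dualCoact c).rTensor A x)) v =
      TensorProduct.map S (dualTensorHom k V A x) (TensorProduct.comm k V A (c.coact v)) := by
  induction x using TensorProduct.induction_on with
  | zero => simp
  | add x y hx hy =>
    rw [map_add, map_add, map_add, LinearMap.add_apply, hx, hy, map_add,
      TensorProduct.map_add_right, LinearMap.add_apply]
  | tmul φ a =>
    rw [LinearMap.rTensor_tmul, dualTensorHom_assoc_tmul, dualTensorHom_dualCoact,
      ComodTens.dualCoactFun_apply, lid_map_tmul_eq]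

/-- The contragredient comodule structure on the dual of a finite projective module. -/
@[reducible] noncomputable def dualComod : HopfRep.Comod k A (Module.Dual k V) where
  coact := dualCoact c
  coassoc := by
    apply LinearMap.ext
    intro f
    apply (dualTensorHom_bijective (R := k) (M := V) (N := A ⊗[k] A)).1
    apply LinearMap.ext
    intro v
    rw [LinearMap.comp_apply, LinearMap.comp_apply, LinearEquiv.coe_coe,
      dualTensorHom_assoc_rTensor_dualCoact, dualTensorHom_dualCoact, map_antipode_dualCoactFun,
      LinearMap.comp_apply]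
    have := LinearMap.congr_fun (dualTensorHom_comp_lTensor (R := k) (M := V) (Δ)) (dualCoact c f)
    rw [LinearMap.comp_apply, LinearMap.comp_apply] at this
    rw [this, dualTensorHom_dualCoact]
    rfl
  counit_comp := by
    apply LinearMap.ext
    intro f
    apply (dualTensorHom_bijective (R := k) (M := V) (N := k)).1
    apply LinearMap.ext
    intro v
    have := LinearMap.congr_fun (dualTensorHom_comp_lTensor (R := k) (M := V) (ε)) (dualCoact c f)
    rw [LinearMap.comp_apply, LinearMap.comp_apply] at this
    rw [LinearMap.comp_apply, this, dualTensorHom_dualCoact, LinearMap.flip_apply,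
      TensorProduct.mk_apply, dualTensorHom_apply]
    show ε (ComodTens.dualCoactFun c f v) = f v • (1 : k)
    rw [counit_dualCoactFun, smul_eq_mul, mul_one]

theorem dualComod_coact : (dualComod c).coact = dualCoact c := rfl

/-- `dualComod c` is the contragredient of `c`. -/
theorem isDual_dualComod : ComodTens.Comod.IsDual c (dualComod c) :=
  fun f => dualTensorHom_dualCoact c f

end Construction

end Groth.Agent.Lib.ComodDual
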