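import Groth.Agent.Lib.ComodHom
import Mathlib.RingTheory.Coalgebra.Convolution
import Mathlib.Order.CompactlyGenerated.Basic

/-!
# Comodule theory IX (helper41): a comodule as a module over the dual (convolution) algebra

`AsDualMod c` is the underlying space of the comodule `(V, c)` with its module structure over
`DualAlg k C = WithConv (C →ₗ[k] k)`; over a field its submodules are the subcomodules.
-/

set_option autoImplicit false
universe u v w

open TensorProduct

namespace Groth.Agent.Lib.Comod

section Lattice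

variable {α : Type u} [CompleteLattice α] [IsModularLattice α] [IsCompactlyGenerated α]

/-- Variant of `exists_sSupIndep_isCompl_sSup_atoms` choosing the atoms inside a given set `T`
of atoms with supremum `⊤`. -/
theorem exists_subset_sSupIndep_isCompl_sSup (T : Set α) (hT : ∀ a ∈ T, IsAtom a)
    (h : sSup T = ⊤) (b : α) :
    ∃ s : Set α, s ⊆ T ∧ sSupIndep s ∧ IsCompl b (sSup s) := by
  have zorn := zorn_subset
    (S := {s : Set α | sSupIndep s ∧ Disjoint b (sSup s) ∧ s ⊆ T})
    fun c hc1 hc2 =>
      ⟨⋃₀ c,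
        ⟨iSupIndep_sUnion_of_directed hc2.directedOn fun s hs => (hc1 hs).1, ?_,
          fun a ⟨s, sc, as⟩ => (hc1 sc).2.2 as⟩,
        fun _ => Set.subset_sUnion_of_mem⟩
  swap
  · rw [sSup_sUnion, ← sSup_image, DirectedOn.disjoint_sSup_right]
    · rintro _ ⟨s, hs, rfl⟩
      exact (hc1 hs).2.1
    · rw [directedOn_image]
      exact hc2.directedOn.mono @fun s t => sSup_le_sSup
  simp_rw [maximal_subset_iff] at zorn
  obtain ⟨s, ⟨s_ind, b_inf_Sup_s, s_sub⟩, s_max⟩ := zorn
  refine ⟨s, s_sub, s_ind, b_inf_Sup_s, ?_⟩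
  rw [codisjoint_iff, eq_top_iff, ← h, sSup_le_iff]
  intro a ha
  have haa : IsAtom a := hT a ha
  rw [← inf_eq_left]
  refine (haa.le_iff.mp inf_le_left).resolve_left fun con => haa.1 ?_
  rw [← con, eq_comm, inf_eq_left]
  refine (le_sSup ?_).trans le_sup_right
  rw [← disjoint_iff] at con
  have a_dis_Sup_s : Disjoint a (sSup s) := con.mono_right le_sup_right
  rw [s_max ⟨fun x hx => ?_, ?_, fun x hx => ?_⟩ Set.subset_union_left]
  · exact Set.mem_union_right _ (Set.mem_singleton _)
  · rw [sSup_union, sSup_singleton]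
    exact b_inf_Sup_s.disjoint_sup_right_of_disjoint_sup_left con.symm
  · rw [Set.mem_union, Set.mem_singleton_iff] at hx
    obtain rfl | xa := eq_or_ne x a
    · simp only [Set.mem_singleton, Set.insert_sdiff_of_mem, Set.union_singleton]
      exact con.mono_right ((sSup_le_sSup Set.sdiff_subset).trans le_sup_right)
    · have h : (s ∪ {a}) \ {x} = s \ {x} ∪ {a} := by
        simp only [Set.union_singleton]
        rw [Set.insert_sdiff_of_notMem]
        rw [Set.mem_singleton_iff]
        exact Ne.symm xa
      rw [h, sSup_union, sSup_singleton]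
      apply
        (s_ind (hx.resolve_right xa)).disjoint_sup_right_of_disjoint_sup_left
          (a_dis_Sup_s.mono_right _).symm
      rw [← sSup_insert, Set.insert_sdiff_singleton, Set.insert_eq_of_mem (hx.resolve_right xa)]
  · rw [Set.mem_union, Set.mem_singleton_iff] at hx
    obtain hx | rfl := hx
    · exact s_sub hx
    · exact ha

end Lattice

section LatticeIdx

variable {α : Type u} [CompleteLattice α] [IsModularLattice α] [IsCompactlyGenerated α]

/-- Indexed version: a family of atoms with supremum `⊤` contains an independent subfamily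
whose supremum is a complement of a given element. -/
theorem exists_set_iSupIndep_isCompl_iSup {ι : Type*} (S : ι → α) (hS : ∀ i, IsAtom (S i))
    (h : ⨆ i, S i = ⊤) (b : α) :
    ∃ J : Set ι, iSupIndep (fun j : J => S j) ∧ IsCompl b (⨆ j : J, S j) := by
  obtain ⟨s, s_sub, s_ind, s_compl⟩ := exists_subset_sSupIndep_isCompl_sSup (Set.range S)
    (by rintro _ ⟨i, rfl⟩; exact hS i) (by rw [sSup_range]; exact h) b
  choose f hf using fun a : s => s_sub a.2
  let f' : s → Set.range f := fun a => ⟨f a, a, rfl⟩
  have hf' : Function.Surjective f' := by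
    rintro ⟨_, a, rfl⟩
    exact ⟨a, rfl⟩
  have hcomp : (fun j : Set.range f => S j) ∘ f' = fun a : s => (a : α) := by
    funext a
    exact hf a
  refine ⟨Set.range f, ?_, ?_⟩
  · apply iSupIndep.comp' (f := f') _ hf'
    rw [hcomp]
    exact (sSupIndep_iff s).mp s_ind
  · have : ⨆ j : Set.range f, S j = sSup s := by
      rw [← hf'.iSup_comp, sSup_eq_iSup']
      exact congrArg iSup hcomp
    rw [this]
    exact s_compl

end LatticeIdx

section DualAlg

variable {k : Type u} {C : Type v} [CommRing k] [AddCommGroup C] [Module k C] [Coalgebra k C]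
  {V : Type w} [AddCommGroup V] [Module k V]

/-- The dual algebra of a coalgebra (convolution product). -/
abbrev DualAlg (k : Type u) (C : Type v) [CommRing k] [AddCommGroup C] [Module k C]
    [Coalgebra k C] : Type (max u v) := WithConv (C →ₗ[k] k)

omit [Coalgebra k C] in
theorem comp_contr_eq (φ ψ : C →ₗ[k] k) (t : C ⊗[k] C) :
    φ (contr C ψ t) = LinearMap.mul' k k (TensorProduct.map φ ψ t) := by
  induction t using TensorProduct.induction_on with
  | zero => simp
  | add x y hx hy => simp only [map_add, hx, hy]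
  | tmul a b => simp [mul_comm]

theorem comp_slice (φ ψ : DualAlg k C) :
    φ.ofConv ∘ₗ slice ψ.ofConv = (φ * ψ).ofConv := by
  apply LinearMap.ext
  intro c
  rw [LinearMap.comp_apply, slice, LinearMap.comp_apply, comp_contr_eq]
  rfl

omit [Coalgebra k C] in
theorem contr_lTensor (X : Type w) [AddCommGroup X] [Module k X] (φ : C →ₗ[k] k)
    (f : C →ₗ[k] C) (x : X ⊗[k] C) : contr X φ (f.lTensor X x) = contr X (φ ∘ₗ f) x := by
  induction x using TensorProduct.induction_on with
  | zero => simp
  | add x y hx hy => simp only [map_add, hx, hy]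
  | tmul v c => simp

variable [HopfRep.Comod k C V]

/-- The action is multiplicative for the convolution product. -/
theorem act_mul (φ ψ : DualAlg k C) (v : V) :
    act V (φ * ψ).ofConv v = act V φ.ofConv (act V ψ.ofConv v) := by
  rw [act_apply, act_apply, act_apply, coact_contr_coact, contr_lTensor, comp_slice]

theorem act_one (v : V) : act V (1 : DualAlg k C).ofConv v = v := by
  have h : (1 : DualAlg k C).ofConv = CoalgebraStruct.counit (R := k) (A := C) := by
    apply LinearMap.ext
    intro c
    simp [LinearMap.convOne_def]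
  rw [h, act_counit]

omit [Coalgebra k C] [HopfRep.Comod k C V] in
theorem contr_add (φ ψ : C →ₗ[k] k) (x : V ⊗[k] C) :
    contr V (φ + ψ) x = contr V φ x + contr V ψ x := by
  simp [contr, LinearMap.lTensor_add]

omit [Coalgebra k C] [HopfRep.Comod k C V] in
theorem contr_smul (a : k) (φ : C →ₗ[k] k) (x : V ⊗[k] C) :
    contr V (a • φ) x = a • contr V φ x := by
  simp [contr, LinearMap.lTensor_smul]

omit [Coalgebra k C] [HopfRep.Comod k C V] in
theorem contr_zero (x : V ⊗[k] C) : contr V (0 : C →ₗ[k] k) x = 0 := by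
  simp [contr]

end DualAlg

section AsDualMod

variable {k : Type u} {C : Type v} [CommRing k] [AddCommGroup C] [Module k C] [Coalgebra k C]
  {V : Type w} [AddCommGroup V] [Module k V]

/-- The underlying space of a comodule, as a module over the dual algebra. -/
def AsDualMod (_c : HopfRep.Comod k C V) : Type w := V

variable (c : HopfRep.Comod k C V)

instance : AddCommGroup (AsDualMod c) := inferInstanceAs (AddCommGroup V)

instance instModuleAsDualMod : Module k (AsDualMod c) := inferInstanceAs (Module k V)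

/-- The identity map `V → AsDualMod c`. -/
def toDualMod : V ≃ₗ[k] AsDualMod c := LinearEquiv.refl k V

noncomputable instance instModuleDualAlg : Module (DualAlg k C) (AsDualMod c) where
  smul φ v := toDualMod c (@act k C _ _ _ _ V _ _ c φ.ofConv ((toDualMod c).symm v))
  one_smul v := @act_one k C _ _ _ _ V _ _ c v
  mul_smul φ ψ v := @act_mul k C _ _ _ _ V _ _ c φ ψ v
  smul_zero φ := map_zero (@act k C _ _ _ _ V _ _ c φ.ofConv)
  smul_add φ v w := map_add (@act k C _ _ _ _ V _ _ c φ.ofConv) v w
  add_smul φ ψ v := by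
    show @act k C _ _ _ _ V _ _ c (φ + ψ).ofConv v = _
    exact contr_add _ _ _
  zero_smul v := by
    show @act k C _ _ _ _ V _ _ c (0 : DualAlg k C).ofConv v = 0
    exact contr_zero _

theorem dualAlg_smul_def (φ : DualAlg k C) (v : AsDualMod c) :
    φ • v = toDualMod c (@act k C _ _ _ _ V _ _ c φ.ofConv ((toDualMod c).symm v)) := rfl

instance : IsScalarTower k (DualAlg k C) (AsDualMod c) where
  smul_assoc a φ v := by
    show @act k C _ _ _ _ V _ _ c (a • φ).ofConv v = a • @act k C _ _ _ _ V _ _ c φ.ofConv v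
    exact contr_smul _ _ _

end AsDualMod

section SubmoduleIso

variable {k : Type u} {C : Type v} [Field k] [AddCommGroup C] [Module k C] [Coalgebra k C]
  {V : Type w} [AddCommGroup V] [Module k V] (c : HopfRep.Comod k C V)

/-- A subcomodule as a submodule over the dual algebra. -/
noncomputable def toDualSub (U : Submodule k V) (hU : @HopfRep.IsSubcomod k C _ _ _ _ V _ _ c U) :
    Submodule (DualAlg k C) (AsDualMod c) where
  carrier := {v | (toDualMod c).symm v ∈ U}
  add_mem' ha hb := U.add_mem ha hb
  zero_mem' := U.zero_mem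
  smul_mem' φ _ hv := @act_mem_of_isSubcomod k C _ _ _ _ V _ _ c U hU φ.ofConv _ hv

/-- A submodule over the dual algebra as a `k`-subspace. -/
noncomputable def ofDualSub (U' : Submodule (DualAlg k C) (AsDualMod c)) : Submodule k V :=
  (U'.restrictScalars k).comap (toDualMod c).toLinearMap

theorem mem_toDualSub {U : Submodule k V} {hU : @HopfRep.IsSubcomod k C _ _ _ _ V _ _ c U}
    {v : AsDualMod c} : v ∈ toDualSub c U hU ↔ (toDualMod c).symm v ∈ U := Iff.rfl

theorem mem_ofDualSub {U' : Submodule (DualAlg k C) (AsDualMod c)} {v : V} :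
    v ∈ ofDualSub c U' ↔ toDualMod c v ∈ U' := Iff.rfl

theorem isSubcomod_ofDualSub (U' : Submodule (DualAlg k C) (AsDualMod c)) :
    @HopfRep.IsSubcomod k C _ _ _ _ V _ _ c (ofDualSub c U') := by
  let _ := c
  rw [isSubcomod_iff_act]
  intro φ v hv
  exact U'.smul_mem (WithConv.toConv φ) hv

theorem ofDualSub_toDualSub (U : Submodule k V)
    (hU : @HopfRep.IsSubcomod k C _ _ _ _ V _ _ c U) : ofDualSub c (toDualSub c U hU) = U := by
  ext v
  rfl

theorem toDualSub_ofDualSub (U' : Submodule (DualAlg k C) (AsDualMod c)) :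
    toDualSub c (ofDualSub c U') (isSubcomod_ofDualSub c U') = U' := by
  ext v
  rfl

theorem ofDualSub_le_iff {U' W' : Submodule (DualAlg k C) (AsDualMod c)} :
    ofDualSub c U' ≤ ofDualSub c W' ↔ U' ≤ W' := Iff.rfl

theorem ofDualSub_injective : Function.Injective (ofDualSub c) := by
  intro U' W' h
  apply le_antisymm
  · rw [← ofDualSub_le_iff c, h]
  · rw [← ofDualSub_le_iff c, h]

theorem ofDualSub_bot : ofDualSub c ⊥ = ⊥ := by
  ext v
  rw [mem_ofDualSub, Submodule.mem_bot, Submodule.mem_bot]
  exact (toDualMod c).map_eq_zero_iff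

theorem ofDualSub_top : ofDualSub c ⊤ = ⊤ := by
  ext v
  simp [mem_ofDualSub]

theorem ofDualSub_inf (U' W' : Submodule (DualAlg k C) (AsDualMod c)) :
    ofDualSub c (U' ⊓ W') = ofDualSub c U' ⊓ ofDualSub c W' := by
  ext v
  rfl

theorem ofDualSub_iSup {ι : Sort*} (U' : ι → Submodule (DualAlg k C) (AsDualMod c)) :
    ofDualSub c (⨆ i, U' i) = ⨆ i, ofDualSub c (U' i) := by
  apply le_antisymm
  · -- the right-hand side is a subcomodule, hence of the form ofDualSub
    have hsub : @HopfRep.IsSubcomod k C _ _ _ _ V _ _ c (⨆ i, ofDualSub c (U' i)) := by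
      let _ := c
      exact isSubcomod_iSup fun i => isSubcomod_ofDualSub c (U' i)
    rw [← ofDualSub_toDualSub c _ hsub, ofDualSub_le_iff]
    apply iSup_le
    intro i
    rw [← ofDualSub_le_iff c, ofDualSub_toDualSub]
    exact le_iSup (fun i => ofDualSub c (U' i)) i
  · apply iSup_le
    intro i
    rw [ofDualSub_le_iff]
    exact le_iSup U' i

theorem ofDualSub_sup (U' W' : Submodule (DualAlg k C) (AsDualMod c)) :
    ofDualSub c (U' ⊔ W') = ofDualSub c U' ⊔ ofDualSub c W' := by
  rw [sup_eq_iSup, ofDualSub_iSup, sup_eq_iSup]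
  congr 1
  ext b
  cases b <;> rfl

theorem ofDualSub_eq_bot_iff {U' : Submodule (DualAlg k C) (AsDualMod c)} :
    ofDualSub c U' = ⊥ ↔ U' = ⊥ := by
  rw [← ofDualSub_bot c]
  exact (ofDualSub_injective c).eq_iff

theorem ofDualSub_eq_top_iff {U' : Submodule (DualAlg k C) (AsDualMod c)} :
    ofDualSub c U' = ⊤ ↔ U' = ⊤ := by
  rw [← ofDualSub_top c]
  exact (ofDualSub_injective c).eq_iff

theorem disjoint_ofDualSub {U' W' : Submodule (DualAlg k C) (AsDualMod c)} :
    Disjoint (ofDualSub c U') (ofDualSub c W') ↔ Disjoint U' W' := by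
  rw [disjoint_iff, disjoint_iff, ← ofDualSub_inf, ofDualSub_eq_bot_iff]

theorem codisjoint_ofDualSub {U' W' : Submodule (DualAlg k C) (AsDualMod c)} :
    Codisjoint (ofDualSub c U') (ofDualSub c W') ↔ Codisjoint U' W' := by
  rw [codisjoint_iff, codisjoint_iff, ← ofDualSub_sup, ofDualSub_eq_top_iff]

theorem isCompl_ofDualSub {U' W' : Submodule (DualAlg k C) (AsDualMod c)} :
    IsCompl (ofDualSub c U') (ofDualSub c W') ↔ IsCompl U' W' := by
  rw [isCompl_iff, isCompl_iff, disjoint_ofDualSub, codisjoint_ofDualSub]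

theorem iSupIndep_ofDualSub {ι : Type*} (U' : ι → Submodule (DualAlg k C) (AsDualMod c)) :
    iSupIndep (fun i => ofDualSub c (U' i)) ↔ iSupIndep U' := by
  unfold iSupIndep
  refine forall_congr' fun i => ?_
  have : (⨆ j, ⨆ (_ : j ≠ i), ofDualSub c (U' j)) = ofDualSub c (⨆ j, ⨆ (_ : j ≠ i), U' j) := by
    rw [ofDualSub_iSup]
    refine iSup_congr fun j => ?_
    rw [ofDualSub_iSup]
  rw [this, disjoint_ofDualSub]

/-- A simple subcomodule gives an atom in the lattice of submodules over the dual algebra. -/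
theorem isAtom_toDualSub (U : Submodule k V) (hU : @HopfRep.IsSubcomod k C _ _ _ _ V _ _ c U)
    (hne : U ≠ ⊥)
    (hsimple : ∀ W' : Submodule k V, @HopfRep.IsSubcomod k C _ _ _ _ V _ _ c W' → W' ≤ U →
      W' = ⊥ ∨ W' = U) : IsAtom (toDualSub c U hU) := by
  constructor
  · intro h
    apply hne
    rw [← ofDualSub_toDualSub c U hU, h, ofDualSub_bot]
  · intro b hb
    rcases hsimple (ofDualSub c b) (isSubcomod_ofDualSub c b)
      (by rw [← ofDualSub_toDualSub c U hU, ofDualSub_le_iff]; exact hb.le) with h | h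
    · exact (ofDualSub_eq_bot_iff c).mp h
    · exfalso
      apply hb.ne
      apply ofDualSub_injective c
      rw [h, ofDualSub_toDualSub]

/-- **Semisimplicity lemma for comodules.** If `V` is a sum of simple subcomodules `S i`, then any
subcomodule `W` has a complement which is a direct sum of some of the `S i`. -/
theorem exists_set_iSupIndep_isCompl_of_simple {ι : Type*}
    (S : ι → Submodule k V) (hS : ∀ i, @HopfRep.IsSubcomod k C _ _ _ _ V _ _ c (S i))
    (hsimple : ∀ i, S i ≠ ⊥ ∧ ∀ W' : Submodule k V,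
      @HopfRep.IsSubcomod k C _ _ _ _ V _ _ c W' → W' ≤ S i → W' = ⊥ ∨ W' = S i)
    (hsum : ⨆ i, S i = ⊤) (W : Submodule k V)
    (hW : @HopfRep.IsSubcomod k C _ _ _ _ V _ _ c W) :
    ∃ J : Set ι, iSupIndep (fun j : J => S j) ∧ IsCompl W (⨆ j : J, S j) := by
  obtain ⟨J, hJ, hcompl⟩ := exists_set_iSupIndep_isCompl_iSup
    (fun i => toDualSub c (S i) (hS i))
    (fun i => isAtom_toDualSub c (S i) (hS i) (hsimple i).1 (hsimple i).2)
    (by
      apply ofDualSub_injective c
      rw [ofDualSub_iSup, ofDualSub_top]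
      simp only [ofDualSub_toDualSub]
      exact hsum)
    (toDualSub c W hW)
  refine ⟨J, ?_, ?_⟩
  · have := (iSupIndep_ofDualSub c (fun j : J => toDualSub c (S j) (hS j))).mpr hJ
    simpa only [ofDualSub_toDualSub] using this
  · have := (isCompl_ofDualSub c).mpr hcompl
    rw [ofDualSub_toDualSub, ofDualSub_iSup] at this
    simpa only [ofDualSub_toDualSub] using this

end SubmoduleIso

end Groth.Agent.Lib.Comod
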