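import Groth.Agent.Lib.ComodSS
import Groth.Prelude.Def_ComodTens
import Mathlib.RingTheory.SimpleModule.Basic

/-!
# Comodule theory XI (helper41): endomorphism algebra of a comodule, direct sums, retractions

* `isComodHom_add/zero`, `isComodHom_inl/inr/fst/snd` (for `ComodTens.Comod.prod`).
* `comodEnd c`: the subalgebra of comodule endomorphisms.
* `exists_mul_mul_eq_of_isSemisimpleRing`: semisimple rings are von Neumann regular.
* `exists_isCompl_of_isSemisimpleRing_end`: if the comodule endomorphisms of `W × V` form a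
  semisimple ring then the subcomodule `W` of `V` has a complementary subcomodule.
-/

set_option autoImplicit false
universe u v w w'

open TensorProduct

namespace Groth.Agent.Lib.Comod

section Hom

variable {k : Type u} {C : Type v} [CommRing k] [AddCommGroup C] [Module k C] [Coalgebra k C]
  {V : Type w} [AddCommGroup V] [Module k V] {W : Type w'} [AddCommGroup W] [Module k W]

theorem isComodHom_add' (c : HopfRep.Comod k C V) (d : HopfRep.Comod k C W) {f g : V →ₗ[k] W}
    (hf : @Hoch.IsComodHom k _ C _ _ _ V _ _ c W _ _ d f)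
    (hg : @Hoch.IsComodHom k _ C _ _ _ V _ _ c W _ _ d g) :
    @Hoch.IsComodHom k _ C _ _ _ V _ _ c W _ _ d (f + g) := by
  unfold Hoch.IsComodHom at *
  rw [LinearMap.comp_add, hf, hg, LinearMap.rTensor_add, LinearMap.add_comp]

theorem isComodHom_zero' (c : HopfRep.Comod k C V) (d : HopfRep.Comod k C W) :
    @Hoch.IsComodHom k _ C _ _ _ V _ _ c W _ _ d (0 : V →ₗ[k] W) := by
  unfold Hoch.IsComodHom
  rw [LinearMap.comp_zero, LinearMap.rTensor_zero, LinearMap.zero_comp]

theorem isComodHom_smul' (c : HopfRep.Comod k C V) (d : HopfRep.Comod k C W) (a : k)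
    {f : V →ₗ[k] W} (hf : @Hoch.IsComodHom k _ C _ _ _ V _ _ c W _ _ d f) :
    @Hoch.IsComodHom k _ C _ _ _ V _ _ c W _ _ d (a • f) := by
  unfold Hoch.IsComodHom at *
  rw [LinearMap.comp_smul, hf, LinearMap.rTensor_smul, LinearMap.smul_comp]

theorem isComodHom_id' (c : HopfRep.Comod k C V) :
    @Hoch.IsComodHom k _ C _ _ _ V _ _ c V _ _ c (LinearMap.id : V →ₗ[k] V) := by
  unfold Hoch.IsComodHom
  rw [LinearMap.rTensor_id]
  rfl

theorem isComodHom_inl (c : HopfRep.Comod k C V) (d : HopfRep.Comod k C W) :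
    @Hoch.IsComodHom k _ C _ _ _ V _ _ c (V × W) _ _ (ComodTens.Comod.prod c d)
      (LinearMap.inl k V W) :=
  LinearMap.coprod_inl _ _

theorem isComodHom_inr (c : HopfRep.Comod k C V) (d : HopfRep.Comod k C W) :
    @Hoch.IsComodHom k _ C _ _ _ W _ _ d (V × W) _ _ (ComodTens.Comod.prod c d)
      (LinearMap.inr k V W) :=
  LinearMap.coprod_inr _ _

theorem isComodHom_fst (c : HopfRep.Comod k C V) (d : HopfRep.Comod k C W) :
    @Hoch.IsComodHom k _ C _ _ _ (V × W) _ _ (ComodTens.Comod.prod c d) V _ _ c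
      (LinearMap.fst k V W) := by
  unfold Hoch.IsComodHom
  apply LinearMap.ext
  rintro ⟨v, w⟩
  rw [LinearMap.comp_apply, LinearMap.comp_apply, ComodTens.prod_coact, map_add,
    ← LinearMap.rTensor_comp_apply, ← LinearMap.rTensor_comp_apply, LinearMap.fst_comp_inl,
    LinearMap.fst_comp_inr, LinearMap.rTensor_id, LinearMap.rTensor_zero]
  simp

theorem isComodHom_snd (c : HopfRep.Comod k C V) (d : HopfRep.Comod k C W) :
    @Hoch.IsComodHom k _ C _ _ _ (V × W) _ _ (ComodTens.Comod.prod c d) W _ _ d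
      (LinearMap.snd k V W) := by
  unfold Hoch.IsComodHom
  apply LinearMap.ext
  rintro ⟨v, w⟩
  rw [LinearMap.comp_apply, LinearMap.comp_apply, ComodTens.prod_coact, map_add,
    ← LinearMap.rTensor_comp_apply, ← LinearMap.rTensor_comp_apply, LinearMap.snd_comp_inl,
    LinearMap.snd_comp_inr, LinearMap.rTensor_id, LinearMap.rTensor_zero]
  simp

/-- The subalgebra of comodule endomorphisms. -/
def comodEnd (c : HopfRep.Comod k C V) : Subalgebra k (Module.End k V) where
  carrier := {α | @Hoch.IsComodHom k _ C _ _ _ V _ _ c V _ _ c α}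
  mul_mem' {α β} hα hβ := by
    let _ := c
    exact isComodHom_comp' hβ hα
  add_mem' {α β} hα hβ := isComodHom_add' c c hα hβ
  algebraMap_mem' r := by
    show @Hoch.IsComodHom k _ C _ _ _ V _ _ c V _ _ c (algebraMap k (Module.End k V) r)
    rw [Algebra.algebraMap_eq_smul_one]
    exact isComodHom_smul' c c r (isComodHom_id' c)

theorem mem_comodEnd (c : HopfRep.Comod k C V) (α : Module.End k V) :
    α ∈ comodEnd c ↔ @Hoch.IsComodHom k _ C _ _ _ V _ _ c V _ _ c α := Iff.rfl

end Hom

section Regular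

/-- Semisimple rings are von Neumann regular. -/
theorem exists_mul_mul_eq_of_isSemisimpleRing {R : Type*} [Ring R] [IsSemisimpleRing R] (a : R) :
    ∃ b : R, a * b * a = a := by
  obtain ⟨J, hJ⟩ := exists_isCompl (Ideal.span {a} : Ideal R)
  have h1 : (1 : R) ∈ Ideal.span {a} ⊔ J := by
    rw [hJ.sup_eq_top]
    exact Submodule.mem_top
  obtain ⟨x, hx, j, hj, hxj⟩ := Submodule.mem_sup.mp h1
  obtain ⟨b, rfl⟩ := Ideal.mem_span_singleton'.mp hx
  refine ⟨b, ?_⟩
  have haj : a * j ∈ Ideal.span {a} ⊓ J := by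
    constructor
    · have : a * j = (1 - a * b) * a := by
        have : j = 1 - b * a := by rw [← hxj]; abel
        rw [this]
        noncomm_ring
      rw [this]
      exact Ideal.mul_mem_left _ _ (Ideal.subset_span rfl)
    · exact Ideal.mul_mem_left _ _ hj
  rw [hJ.inf_eq_bot, Submodule.mem_bot] at haj
  calc a * b * a = a * (b * a + j) - a * j := by noncomm_ring
    _ = a := by rw [hxj, haj, mul_one, sub_zero]

end Regular

section Compl

variable {k : Type u} {C : Type v} [Field k] [AddCommGroup C] [Module k C] [Coalgebra k C]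
  {V : Type w} [AddCommGroup V] [Module k V]

/-- A subcomodule admitting a comodule retraction has a complementary subcomodule. -/
theorem exists_isCompl_of_retraction (c : HopfRep.Comod k C V) (W : Submodule k V)
    (hW : @HopfRep.IsSubcomod k C _ _ _ _ V _ _ c W) (r : V →ₗ[k] W)
    (hr : @Hoch.IsComodHom k _ C _ _ _ V _ _ c W _ _ (ComodSub.Comod.restr c W hW) r)
    (hrW : ∀ w : W, r w = w) :
    ∃ W' : Submodule k V, @HopfRep.IsSubcomod k C _ _ _ _ V _ _ c W' ∧ IsCompl W W' := by
  refine ⟨LinearMap.ker r, ?_, ?_⟩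
  · let _ := c
    let _ := ComodSub.Comod.restr c W hW
    exact isSubcomod_ker hr
  · have := LinearMap.isCompl_of_proj (f := r) hrW
    exact this

/-- If the comodule endomorphisms of `W × V` form a semisimple ring, then the subcomodule `W` of
`V` has a complementary subcomodule. -/
theorem exists_isCompl_of_isSemisimpleRing_end (c : HopfRep.Comod k C V) (W : Submodule k V)
    (hW : @HopfRep.IsSubcomod k C _ _ _ _ V _ _ c W)
    (E : Subalgebra k (Module.End k (W × V)))
    (hE : ∀ α : Module.End k (W × V), α ∈ E ↔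
      @Hoch.IsComodHom k _ C _ _ _ (W × V) _ _
        (ComodTens.Comod.prod (ComodSub.Comod.restr c W hW) c) (W × V) _ _
        (ComodTens.Comod.prod (ComodSub.Comod.restr c W hW) c) α)
    [IsSemisimpleRing E] :
    ∃ W' : Submodule k V, @HopfRep.IsSubcomod k C _ _ _ _ V _ _ c W' ∧ IsCompl W W' := by
  set cW := ComodSub.Comod.restr c W hW with hcW
  set cP := ComodTens.Comod.prod cW c with hcP
  -- the endomorphism `(w, v) ↦ (0, w)`
  let α : Module.End k (W × V) := LinearMap.inr k W V ∘ₗ W.subtype ∘ₗ LinearMap.fst k W V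
  have hα : @Hoch.IsComodHom k _ C _ _ _ (W × V) _ _ cP (W × V) _ _ cP α := by
    have h1 := isComodHom_fst cW c
    have h2 := ComodSub.isComodHom_subtype c W hW
    have h3 := isComodHom_inr cW c
    exact @isComodHom_comp' k _ C _ _ _ (W × V) _ _ cP V _ _ c (W × V) _ _ cP _ _
      (@isComodHom_comp' k _ C _ _ _ (W × V) _ _ cP W _ _ cW V _ _ c _ _ h1 h2) h3
  obtain ⟨β, hβ⟩ := exists_mul_mul_eq_of_isSemisimpleRing (⟨α, (hE α).mpr hα⟩ : E)
  have hβc : @Hoch.IsComodHom k _ C _ _ _ (W × V) _ _ cP (W × V) _ _ cP β.1 := (hE β.1).mp β.2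
  have hβ' : α * β.1 * α = α := congrArg Subtype.val hβ
  -- the retraction
  let r : V →ₗ[k] W := LinearMap.fst k W V ∘ₗ β.1 ∘ₗ LinearMap.inr k W V
  have hr : @Hoch.IsComodHom k _ C _ _ _ V _ _ c W _ _ cW r := by
    have h1 := isComodHom_fst cW c
    have h3 := isComodHom_inr cW c
    exact @isComodHom_comp' k _ C _ _ _ V _ _ c (W × V) _ _ cP W _ _ cW _ _
      (@isComodHom_comp' k _ C _ _ _ V _ _ c (W × V) _ _ cP (W × V) _ _ cP _ _ h3 hβc) h1
  apply exists_isCompl_of_retraction c W hW r hr
  intro w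
  have := LinearMap.congr_fun hβ' (w, 0)
  simp only [Module.End.mul_apply, α, LinearMap.comp_apply, LinearMap.fst_apply,
    LinearMap.inr_apply, Submodule.subtype_apply, Prod.mk.injEq, true_and] at this
  apply Subtype.ext
  exact this

end Compl

end Groth.Agent.Lib.Comod
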