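import Groth.Agent.Lib.ComodHom
import Mathlib.LinearAlgebra.FiniteDimensional.Lemmas
import Mathlib.RingTheory.Artinian.Module

/-!
# Comodule theory IV (helper41): simple subcomodules, sub/quotient correspondences, flags
-/

set_option autoImplicit false
universe u v w

open TensorProduct

namespace Groth.Agent.Lib.Comod

section Simple

variable {k : Type u} {C : Type v} [Field k] [AddCommGroup C] [Module k C] [Coalgebra k C]
  {V : Type w} [AddCommGroup V] [Module k V]

/-- A nonzero finite-dimensional comodule has a minimal nonzero subcomodule. -/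
theorem exists_minimal_subcomod (c : HopfRep.Comod k C V) [Module.Finite k V] [Nontrivial V] :
    ∃ L : Submodule k V, @HopfRep.IsSubcomod k C _ _ _ _ V _ _ c L ∧ L ≠ ⊥ ∧
      ∀ W : Submodule k V, @HopfRep.IsSubcomod k C _ _ _ _ V _ _ c W → W ≤ L → W = ⊥ ∨ W = L := by
  have hwf : WellFoundedLT (Submodule k V) := inferInstance
  let S : Set (Submodule k V) := {W | @HopfRep.IsSubcomod k C _ _ _ _ V _ _ c W ∧ W ≠ ⊥}
  have hS : S.Nonempty := ⟨⊤, isSubcomod_top, top_ne_bot⟩
  obtain ⟨L, hL, hmin⟩ := hwf.wf.has_min S hS
  refine ⟨L, hL.1, hL.2, fun W hW hWL => ?_⟩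
  by_cases hW0 : W = ⊥
  · exact Or.inl hW0
  · right
    by_contra hne
    exact hmin W ⟨hW, hW0⟩ (lt_of_le_of_ne hWL hne)

/-- A minimal nonzero subcomodule, with the restricted structure, is a simple comodule. -/
theorem isSimpleComod_restr_of_minimal (c : HopfRep.Comod k C V) (L : Submodule k V)
    (hL : @HopfRep.IsSubcomod k C _ _ _ _ V _ _ c L) (hne : L ≠ ⊥)
    (hmin : ∀ W : Submodule k V, @HopfRep.IsSubcomod k C _ _ _ _ V _ _ c W → W ≤ L →
      W = ⊥ ∨ W = L) :
    @HopfRep.IsSimpleComod k C _ _ _ _ L _ _ (ComodSub.Comod.restr c L hL) := by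
  refine ⟨Submodule.nontrivial_iff_ne_bot.2 hne, fun W' hW' => ?_⟩
  have hmap : @HopfRep.IsSubcomod k C _ _ _ _ V _ _ c (W'.map L.subtype) := by
    let _ := ComodSub.Comod.restr c L hL
    let _ := c
    exact isSubcomod_map (ComodSub.isComodHom_subtype c L hL) hW'
  rcases hmin _ hmap (Submodule.map_subtype_le L W') with h | h
  · left
    apply Submodule.map_injective_of_injective L.injective_subtype
    rw [h, Submodule.map_bot]
  · right
    rw [eq_top_iff]
    intro x _
    have hx : (x : V) ∈ W'.map L.subtype := by rw [h]; exact x.2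
    obtain ⟨y, hy, hyx⟩ := hx
    have : y = x := Subtype.ext hyx
    rwa [← this]

end Simple

section Finrank

variable {k : Type u} [Field k] {V : Type v} {Q : Type w} [AddCommGroup V] [Module k V]
  [AddCommGroup Q] [Module k Q]

theorem finrank_comap_of_surjective [Module.Finite k V] (f : V →ₗ[k] Q)
    (hf : Function.Surjective f) (U : Submodule k Q) :
    Module.finrank k (U.comap f) = Module.finrank k U + Module.finrank k (LinearMap.ker f) := by
  have h := LinearMap.finrank_range_add_finrank_ker (f.domRestrict (U.comap f))
  rw [LinearMap.range_domRestrict, Submodule.map_comap_eq_of_surjective hf,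
    LinearMap.ker_domRestrict] at h
  have hle : LinearMap.ker f ≤ U.comap f := by
    intro x hx
    rw [Submodule.mem_comap, LinearMap.mem_ker.1 hx]
    exact zero_mem _
  rw [← h, (Submodule.comapSubtypeEquivOfLe hle).finrank_eq]

end Finrank

section Flag

variable {k : Type u} {C : Type v} [Field k] [AddCommGroup C] [Module k C] [Coalgebra k C]

/-- If all simple finite-dimensional comodules (in universe `w`) are one-dimensional, every
finite-dimensional comodule has a full flag of subcomodules. -/
theorem exists_flag
    (hT : ∀ (V : Type w) [AddCommGroup V] [Module k V] [HopfRep.Comod k C V],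
      Module.Finite k V → HopfRep.IsSimpleComod k C V → Module.finrank k V = 1) :
    ∀ (n : ℕ) (V : Type w) [AddCommGroup V] [Module k V] (c : HopfRep.Comod k C V)
      [Module.Finite k V], Module.finrank k V = n →
      ∃ F : ℕ → Submodule k V, Monotone F ∧
        (∀ i, @HopfRep.IsSubcomod k C _ _ _ _ V _ _ c (F i)) ∧
        ∀ i, i ≤ n → Module.finrank k (F i) = i := by
  intro n
  induction n with
  | zero =>
    intro V _ _ c _ hn
    refine ⟨fun _ => ⊥, monotone_const, fun _ => isSubcomod_bot, fun i hi => ?_⟩
    rw [Nat.le_zero.1 hi]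
    simp
  | succ n ih =>
    intro V _ _ c _ hn
    have hnt : Nontrivial V := Module.nontrivial_of_finrank_pos (R := k) (by omega)
    obtain ⟨L, hL, hne, hmin⟩ := exists_minimal_subcomod c
    have hL1 : Module.finrank k L = 1 :=
      @hT L _ _ (ComodSub.Comod.restr c L hL) inferInstance
        (isSimpleComod_restr_of_minimal c L hL hne hmin)
    have hQ : Module.finrank k (V ⧸ L) = n := by
      have := Submodule.finrank_quotient_add_finrank L
      omega
    obtain ⟨G, hGmono, hGsub, hGrank⟩ := ih (V ⧸ L) (ComodSub.Comod.quot c L hL) hQ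
    refine ⟨fun i => match i with
      | 0 => ⊥
      | (j + 1) => (G j).comap L.mkQ, ?_, ?_, ?_⟩
    · apply monotone_nat_of_le_succ
      intro i
      cases i with
      | zero => exact bot_le
      | succ j => exact Submodule.comap_mono (hGmono (Nat.le_succ j))
    · intro i
      cases i with
      | zero => exact isSubcomod_bot
      | succ j =>
        let _ := ComodSub.Comod.quot c L hL
        let _ := c
        exact isSubcomod_comap (ComodSub.isComodHom_mkQ c L hL) (hGsub j)
    · intro i hi
      cases i with
      | zero => simp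
      | succ j =>
        show Module.finrank k ((G j).comap L.mkQ) = j + 1
        rw [finrank_comap_of_surjective L.mkQ (Submodule.mkQ_surjective L), Submodule.ker_mkQ,
          hL1, hGrank j (by omega)]

end Flag

end Groth.Agent.Lib.Comod
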