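import Groth.Agent.Lib.Comod

/-!
# Comodule theory II (helper41): the dual-algebra action, subcomodule criteria, kernels, sums
-/

set_option autoImplicit false
universe u v w w'

open TensorProduct

namespace Groth.Agent.Lib.Comod

section Act

variable {k : Type u} {C : Type v} [CommRing k] [AddCommGroup C] [Module k C] [Coalgebra k C]
  {V : Type w} [AddCommGroup V] [Module k V] [HopfRep.Comod k C V]
  {W : Type w'} [AddCommGroup W] [Module k W] [HopfRep.Comod k C W]

/-- The operator on a comodule given by a functional on the coalgebra: `v ↦ (id ⊗ φ)(ρ v)`. -/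
noncomputable def act (V : Type w) [AddCommGroup V] [Module k V] [HopfRep.Comod k C V]
    (φ : C →ₗ[k] k) : V →ₗ[k] V :=
  contr V φ ∘ₗ HopfRep.Comod.coact (k := k) (A := C)

theorem act_apply (φ : C →ₗ[k] k) (v : V) :
    act V φ v = contr V φ (HopfRep.Comod.coact (k := k) (A := C) v) := rfl

omit [Coalgebra k C] [HopfRep.Comod k C V] [HopfRep.Comod k C W] in
theorem contr_rTensor (f : V →ₗ[k] W) (φ : C →ₗ[k] k) (x : V ⊗[k] C) :
    contr W φ (f.rTensor C x) = f (contr V φ x) := by
  induction x using TensorProduct.induction_on with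
  | zero => simp
  | add x y hx hy => simp only [map_add, hx, hy]
  | tmul v c => simp

/-- Comodule maps commute with the dual-algebra action. -/
theorem IsComodHom.act_comm {f : V →ₗ[k] W} (hf : Hoch.IsComodHom C f) (φ : C →ₗ[k] k) (v : V) :
    act W φ (f v) = f (act V φ v) := by
  have h := LinearMap.congr_fun hf v
  simp only [LinearMap.coe_comp, Function.comp_apply] at h
  rw [act_apply, h, contr_rTensor, act_apply]

/-- The counit acts as the identity. -/
theorem act_counit (v : V) : act V (CoalgebraStruct.counit (R := k) (A := C)) v = v := by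
  have h := LinearMap.congr_fun (HopfRep.Comod.counit_comp (k := k) (A := C) (V := V)) v
  simp only [LinearMap.coe_comp, Function.comp_apply, LinearMap.flip_apply,
    TensorProduct.mk_apply] at h
  rw [act_apply, contr, LinearMap.comp_apply, h]
  simp

omit [Coalgebra k C] [HopfRep.Comod k C V] in
theorem contr_mem_of_mem_range (U : Submodule k V) (φ : C →ₗ[k] k) {x : V ⊗[k] C}
    (hx : x ∈ LinearMap.range (U.subtype.rTensor C)) : contr V φ x ∈ U := by
  obtain ⟨y, rfl⟩ := hx
  rw [contr_rTensor]
  exact (contr U φ y).2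

theorem act_mem_of_isSubcomod {U : Submodule k V} (hU : HopfRep.IsSubcomod (k := k) (A := C) U)
    (φ : C →ₗ[k] k) {v : V} (hv : v ∈ U) : act V φ v ∈ U :=
  contr_mem_of_mem_range U φ (hU v hv)

end Act

section Field

variable {k : Type u} {C : Type v} [Field k] [AddCommGroup C] [Module k C]
  {V : Type w} [AddCommGroup V] [Module k V]

/-- Over a field, a tensor lies in the image of `U ⊗ C` iff all its contractions lie in `U`. -/
theorem mem_range_rTensor_subtype_iff (U : Submodule k V) (x : V ⊗[k] C) :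
    x ∈ LinearMap.range (U.subtype.rTensor C) ↔ ∀ φ : C →ₗ[k] k, contr V φ x ∈ U := by
  classical
  refine ⟨fun hx φ => contr_mem_of_mem_range U φ hx, fun h => ?_⟩
  let b := Module.Basis.ofVectorSpace k C
  let coef := TensorProduct.equivFinsuppOfBasisRight (M := V) b x
  have hcoef : ∀ i, coef i = contr V (b.coord i) x := fun i =>
    TensorProduct.equivFinsuppOfBasisRight_apply b x i
  have hsum : x = coef.sum fun i m => m ⊗ₜ[k] b i := by
    rw [← TensorProduct.equivFinsuppOfBasisRight_symm_apply, LinearEquiv.symm_apply_apply]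
  rw [hsum, Finsupp.sum]
  refine Submodule.sum_mem _ fun i _ => ?_
  exact ⟨(⟨coef i, by rw [hcoef]; exact h _⟩ : U) ⊗ₜ[k] b i, by simp⟩

variable [Coalgebra k C] [HopfRep.Comod k C V]
  {W : Type w'} [AddCommGroup W] [Module k W] [HopfRep.Comod k C W]

/-- Over a field, subcomodules are exactly the subspaces stable under the dual-algebra action. -/
theorem isSubcomod_iff_act (U : Submodule k V) :
    HopfRep.IsSubcomod (k := k) (A := C) U ↔ ∀ φ : C →ₗ[k] k, ∀ v ∈ U, act V φ v ∈ U := by
  constructor
  · intro hU φ v hv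
    exact act_mem_of_isSubcomod hU φ hv
  · intro h v hv
    rw [mem_range_rTensor_subtype_iff]
    intro φ
    exact h φ v hv

theorem isSubcomod_inf {U₁ U₂ : Submodule k V} (h₁ : HopfRep.IsSubcomod (k := k) (A := C) U₁)
    (h₂ : HopfRep.IsSubcomod (k := k) (A := C) U₂) :
    HopfRep.IsSubcomod (k := k) (A := C) (U₁ ⊓ U₂) := by
  rw [isSubcomod_iff_act] at *
  intro φ v hv
  exact ⟨h₁ φ v hv.1, h₂ φ v hv.2⟩

theorem isSubcomod_sup {U₁ U₂ : Submodule k V} (h₁ : HopfRep.IsSubcomod (k := k) (A := C) U₁)
    (h₂ : HopfRep.IsSubcomod (k := k) (A := C) U₂) :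
    HopfRep.IsSubcomod (k := k) (A := C) (U₁ ⊔ U₂) := by
  rw [isSubcomod_iff_act] at *
  intro φ v hv
  obtain ⟨a, ha, b, hb, rfl⟩ := Submodule.mem_sup.1 hv
  rw [map_add]
  exact Submodule.add_mem_sup (h₁ φ a ha) (h₂ φ b hb)

theorem isSubcomod_iSup {ι : Sort*} {U : ι → Submodule k V}
    (h : ∀ i, HopfRep.IsSubcomod (k := k) (A := C) (U i)) :
    HopfRep.IsSubcomod (k := k) (A := C) (⨆ i, U i) := by
  simp only [isSubcomod_iff_act] at *
  intro φ v hv
  induction hv using Submodule.iSup_induction' with
  | mem i x hx => exact Submodule.mem_iSup_of_mem i (h i φ x hx)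
  | zero => rw [map_zero]; exact zero_mem _
  | add x y _ _ hx hy => rw [map_add]; exact add_mem hx hy

theorem isSubcomod_sSup {S : Set (Submodule k V)}
    (h : ∀ U ∈ S, HopfRep.IsSubcomod (k := k) (A := C) U) :
    HopfRep.IsSubcomod (k := k) (A := C) (sSup S) := by
  rw [sSup_eq_iSup']
  exact isSubcomod_iSup fun i => h i.1 i.2

theorem isSubcomod_iInf {ι : Sort*} {U : ι → Submodule k V}
    (h : ∀ i, HopfRep.IsSubcomod (k := k) (A := C) (U i)) :
    HopfRep.IsSubcomod (k := k) (A := C) (⨅ i, U i) := by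
  simp only [isSubcomod_iff_act] at *
  intro φ v hv
  rw [Submodule.mem_iInf] at hv ⊢
  exact fun i => h i φ v (hv i)

/-- The kernel of a comodule map is a subcomodule. -/
theorem isSubcomod_ker {f : V →ₗ[k] W} (hf : Hoch.IsComodHom C f) :
    HopfRep.IsSubcomod (k := k) (A := C) (LinearMap.ker f) := by
  rw [isSubcomod_iff_act]
  intro φ v hv
  rw [LinearMap.mem_ker] at hv ⊢
  rw [← IsComodHom.act_comm hf, hv, map_zero]

/-- The image of a subcomodule under a comodule map is a subcomodule. -/
theorem isSubcomod_map {f : V →ₗ[k] W} (hf : Hoch.IsComodHom C f) {U : Submodule k V}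
    (hU : HopfRep.IsSubcomod (k := k) (A := C) U) :
    HopfRep.IsSubcomod (k := k) (A := C) (U.map f) := by
  rw [isSubcomod_iff_act] at *
  rintro φ _ ⟨v, hv, rfl⟩
  rw [IsComodHom.act_comm hf]
  exact ⟨_, hU φ v hv, rfl⟩

theorem isSubcomod_range {f : V →ₗ[k] W} (hf : Hoch.IsComodHom C f) :
    HopfRep.IsSubcomod (k := k) (A := C) (LinearMap.range f) := by
  rw [← Submodule.map_top]
  exact isSubcomod_map hf isSubcomod_top

/-- The preimage of a subcomodule under a comodule map is a subcomodule. -/
theorem isSubcomod_comap {f : V →ₗ[k] W} (hf : Hoch.IsComodHom C f) {U : Submodule k W}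
    (hU : HopfRep.IsSubcomod (k := k) (A := C) U) :
    HopfRep.IsSubcomod (k := k) (A := C) (U.comap f) := by
  rw [isSubcomod_iff_act] at *
  intro φ v hv
  rw [Submodule.mem_comap] at hv ⊢
  rw [← IsComodHom.act_comm hf]
  exact hU φ _ hv

/-- Over a field, a linear map commuting with the dual-algebra action is a comodule map. -/
theorem isComodHom_of_act_comm {f : V →ₗ[k] W}
    (h : ∀ (φ : C →ₗ[k] k) (v : V), act W φ (f v) = f (act V φ v)) : Hoch.IsComodHom C f := by
  classical
  apply LinearMap.ext
  intro v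
  simp only [LinearMap.coe_comp, Function.comp_apply]
  let b := Module.Basis.ofVectorSpace k C
  apply (TensorProduct.equivFinsuppOfBasisRight (M := W) b).injective
  ext i
  rw [TensorProduct.equivFinsuppOfBasisRight_apply, TensorProduct.equivFinsuppOfBasisRight_apply]
  have := h (b.coord i) v
  rw [act_apply, act_apply, ← contr_rTensor] at this
  exact this

theorem isComodHom_id : Hoch.IsComodHom C (LinearMap.id : V →ₗ[k] V) := by
  unfold Hoch.IsComodHom
  rw [LinearMap.rTensor_id]
  rfl

omit [Field k] in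
theorem isComodHom_comp' {k : Type u} [CommRing k] {C : Type v} [AddCommGroup C] [Module k C]
    [Coalgebra k C] {V : Type w} [AddCommGroup V] [Module k V] [HopfRep.Comod k C V]
    {W : Type w'} [AddCommGroup W] [Module k W] [HopfRep.Comod k C W]
    {X : Type*} [AddCommGroup X] [Module k X] [HopfRep.Comod k C X]
    {f : V →ₗ[k] W} {g : W →ₗ[k] X}
    (hf : Hoch.IsComodHom C f) (hg : Hoch.IsComodHom C g) : Hoch.IsComodHom C (g ∘ₗ f) := by
  unfold Hoch.IsComodHom at *
  rw [← LinearMap.comp_assoc, hg, LinearMap.comp_assoc, hf, ← LinearMap.comp_assoc,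
    LinearMap.rTensor_comp]

theorem isComodHom_sub {f g : V →ₗ[k] W} (hf : Hoch.IsComodHom C f) (hg : Hoch.IsComodHom C g) :
    Hoch.IsComodHom C (f - g) := by
  unfold Hoch.IsComodHom at *
  rw [LinearMap.comp_sub, hf, hg, LinearMap.rTensor_sub, LinearMap.sub_comp]

theorem isComodHom_smul (a : k) {f : V →ₗ[k] W} (hf : Hoch.IsComodHom C f) :
    Hoch.IsComodHom C (a • f) := by
  unfold Hoch.IsComodHom at *
  rw [LinearMap.comp_smul, hf, LinearMap.rTensor_smul, LinearMap.smul_comp]

end Field

end Groth.Agent.Lib.Comod
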