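import Groth.Agent.Lib.ComodDual
import Groth.Agent.Lib.ComodEnd

/-!
# Comodule theory XIV (helper41): fixed vectors of `B ⊗ M^*` are the comodule maps `M → B`

For a commutative Hopf algebra `A`, comodules `M`, `B` and a linear map `h : M → B`:
`twistHom cM cB h : M → B ⊗ A`, `m ↦ Σ ρ_B(h m₀) · S(m₁)`.
* `twistHom_eq_of_isComodHom`, `isComodHom_of_twistHom_eq`: `h` is a comodule map iff
  `twistHom h = h ⊗ 1`.
* `psi_coact`: the coaction of `B ⊗ M^*` (tensor with a contragredient `d`) read in
  `Hom(M, B ⊗ A)` is `twistHom`.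
-/

set_option autoImplicit false
universe u v w w'

open TensorProduct

namespace Groth.Agent.Lib.ComodHomFix

variable {k : Type u} [CommRing k] {A : Type v} [CommRing A] [HopfAlgebra k A]
  {M : Type w} [AddCommGroup M] [Module k M] {B : Type w'} [AddCommGroup B] [Module k B]

local notation "S" => HopfAlgebraStruct.antipode k (A := A)
local notation "Δ" => CoalgebraStruct.comul (R := k) (A := A)
local notation "ε" => CoalgebraStruct.counit (R := k) (A := A)

section Rmul

variable (k A B)

/-- Right multiplication `(b ⊗ a) ⊗ a' ↦ b ⊗ a a'`. -/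
noncomputable def rmul : (B ⊗[k] A) ⊗[k] A →ₗ[k] B ⊗[k] A :=
  (LinearMap.mul' k A).lTensor B ∘ₗ (TensorProduct.assoc k B A A).toLinearMap

variable {k A B}

@[simp] theorem rmul_tmul_tmul (b : B) (a a' : A) :
    rmul k A B ((b ⊗ₜ[k] a) ⊗ₜ[k] a') = b ⊗ₜ[k] (a * a') := by
  simp [rmul]

theorem rmul_tmul_one (y : B ⊗[k] A) : rmul k A B (y ⊗ₜ[k] (1 : A)) = y := by
  induction y using TensorProduct.induction_on with
  | zero => simp
  | add x y hx hy => rw [TensorProduct.add_tmul, map_add, hx, hy]
  | tmul b a => rw [rmul_tmul_tmul, mul_one]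

theorem rmul_tmul_smul_one (y : B ⊗[k] A) (r : k) :
    rmul k A B (y ⊗ₜ[k] (r • (1 : A))) = r • y := by
  rw [TensorProduct.tmul_smul, map_smul, rmul_tmul_one]

theorem rmul_rmul (y : B ⊗[k] A) (a a' : A) :
    rmul k A B (rmul k A B (y ⊗ₜ[k] a) ⊗ₜ[k] a') = rmul k A B (y ⊗ₜ[k] (a * a')) := by
  induction y using TensorProduct.induction_on with
  | zero => simp
  | add x y hx hy => simp only [TensorProduct.add_tmul, map_add, hx, hy]
  | tmul b a₀ => rw [rmul_tmul_tmul, rmul_tmul_tmul, rmul_tmul_tmul, mul_assoc]

end Rmul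

section Twist

variable (cM : HopfRep.Comod k A M) (cB : HopfRep.Comod k A B)

/-- `m ↦ Σ ρ_B(h m₀) · S(m₁)`. -/
noncomputable def twistHom (h : M →ₗ[k] B) : M →ₗ[k] B ⊗[k] A :=
  rmul k A B ∘ₗ TensorProduct.map (cB.coact ∘ₗ h) S ∘ₗ cM.coact

theorem twistHom_apply (h : M →ₗ[k] B) (m : M) :
    twistHom cM cB h m = rmul k A B (TensorProduct.map (cB.coact ∘ₗ h) S (cM.coact m)) := rfl

theorem twistHom_add (h h' : M →ₗ[k] B) :
    twistHom cM cB (h + h') = twistHom cM cB h + twistHom cM cB h' := by
  apply LinearMap.ext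
  intro m
  simp only [twistHom_apply, LinearMap.add_apply, LinearMap.comp_add, TensorProduct.map_add_left,
    map_add]

theorem twistHom_smul (r : k) (h : M →ₗ[k] B) :
    twistHom cM cB (r • h) = r • twistHom cM cB h := by
  apply LinearMap.ext
  intro m
  simp only [twistHom_apply, LinearMap.smul_apply, LinearMap.comp_smul,
    TensorProduct.map_smul_left, map_smul]

/-- (T5) compatibility with precomposition by a comodule map. -/
theorem twistHom_comp {U : Type*} [AddCommGroup U] [Module k U] (cU : HopfRep.Comod k A U)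
    (j : U →ₗ[k] M) (hj : @Hoch.IsComodHom k _ A _ _ _ U _ _ cU M _ _ cM j) (h : M →ₗ[k] B) :
    twistHom cU cB (h ∘ₗ j) = twistHom cM cB h ∘ₗ j := by
  apply LinearMap.ext
  intro u
  have hj' := LinearMap.congr_fun hj u
  simp only [LinearMap.comp_apply] at hj'
  rw [LinearMap.comp_apply, twistHom_apply, twistHom_apply, hj']
  generalize cU.coact u = t
  induction t using TensorProduct.induction_on with
  | zero => simp
  | add x y hx hy => simp only [map_add, hx, hy]
  | tmul u' a => simp

end Twist

section Criterion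

variable (cM : HopfRep.Comod k A M) (cB : HopfRep.Comod k A B)

/-- `rmul ∘ map (h ⊗ id) S` on `assoc.symm (m ⊗ u)`. -/
theorem rmul_map_rTensor_assoc_symm (h : M →ₗ[k] B) (m : M) (u : A ⊗[k] A) :
    rmul k A B (TensorProduct.map (h.rTensor A) S
      ((TensorProduct.assoc k M A A).symm (m ⊗ₜ[k] u))) =
      h m ⊗ₜ[k] LinearMap.mul' k A ((S).lTensor A u) := by
  induction u using TensorProduct.induction_on with
  | zero => simp
  | add x y hx hy =>
    rw [TensorProduct.tmul_add, map_add, map_add, map_add, hx, hy, map_add, map_add,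
      TensorProduct.tmul_add]
  | tmul a b =>
    rw [TensorProduct.assoc_symm_tmul, TensorProduct.map_tmul, LinearMap.rTensor_tmul,
      rmul_tmul_tmul, LinearMap.lTensor_tmul, LinearMap.mul'_apply]

/-- (T3) a comodule map satisfies `twistHom h = h ⊗ 1`. -/
theorem twistHom_eq_of_isComodHom {h : M →ₗ[k] B}
    (hh : @Hoch.IsComodHom k _ A _ _ _ M _ _ cM B _ _ cB h) :
    twistHom cM cB h = (TensorProduct.mk k B A).flip 1 ∘ₗ h := by
  apply LinearMap.ext
  intro m
  have hh' : cB.coact ∘ₗ h = h.rTensor A ∘ₗ cM.coact := hh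
  have key : ∀ t : M ⊗[k] A,
      rmul k A B (TensorProduct.map (h.rTensor A) S
        ((TensorProduct.assoc k M A A).symm ((Δ).lTensor M t))) =
      (TensorProduct.mk k B A).flip 1 (h (TensorProduct.rid k M ((ε).lTensor M t))) := by
    intro t
    induction t using TensorProduct.induction_on with
    | zero => simp
    | add x y hx hy => simp only [map_add, hx, hy]
    | tmul m' a =>
      rw [LinearMap.lTensor_tmul, rmul_map_rTensor_assoc_symm,
        HopfAlgebra.mul_antipode_lTensor_comul_apply, LinearMap.lTensor_tmul,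
        TensorProduct.rid_tmul, map_smul, map_smul, LinearMap.flip_apply, TensorProduct.mk_apply,
        Algebra.algebraMap_eq_smul_one, TensorProduct.tmul_smul]
  have hco := LinearMap.congr_fun cM.coassoc m
  simp only [LinearMap.comp_apply, LinearEquiv.coe_coe] at hco
  have hco' : cM.coact.rTensor A (cM.coact m) =
      (TensorProduct.assoc k M A A).symm ((Δ).lTensor M (cM.coact m)) := by
    rw [← hco, LinearEquiv.symm_apply_apply]
  have hcu := LinearMap.congr_fun cM.counit_comp m
  simp only [LinearMap.comp_apply, LinearMap.flip_apply, TensorProduct.mk_apply] at hcu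
  rw [twistHom_apply, hh']
  have hmap : TensorProduct.map (h.rTensor A ∘ₗ cM.coact) S (cM.coact m) =
      TensorProduct.map (h.rTensor A) S (cM.coact.rTensor A (cM.coact m)) := by
    generalize cM.coact m = t
    induction t using TensorProduct.induction_on with
    | zero => simp
    | add x y hx hy => simp only [map_add, hx, hy]
    | tmul m' a => simp
  rw [hmap, hco', key, hcu, TensorProduct.rid_tmul, one_smul, LinearMap.comp_apply]

/-- `rmul ∘ (rmul ⊗ id) ∘ (map (ρ_B ∘ h) S ⊗ id)` on `assoc.symm (m ⊗ u)`. -/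
theorem rmul_rmul_map_assoc_symm (h : M →ₗ[k] B) (m : M) (u : A ⊗[k] A) :
    rmul k A B ((rmul k A B ∘ₗ TensorProduct.map (cB.coact ∘ₗ h) S).rTensor A
      ((TensorProduct.assoc k M A A).symm (m ⊗ₜ[k] u))) =
      rmul k A B (cB.coact (h m) ⊗ₜ[k] LinearMap.mul' k A ((S).rTensor A u)) := by
  induction u using TensorProduct.induction_on with
  | zero => simp
  | add x y hx hy =>
    rw [TensorProduct.tmul_add, map_add, map_add, map_add, hx, hy, map_add, map_add,
      TensorProduct.tmul_add, map_add]
  | tmul a b =>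
    rw [TensorProduct.assoc_symm_tmul, LinearMap.rTensor_tmul, LinearMap.comp_apply,
      TensorProduct.map_tmul, rmul_rmul, LinearMap.rTensor_tmul, LinearMap.mul'_apply,
      LinearMap.comp_apply]

/-- (T4) a linear map with `twistHom h = h ⊗ 1` is a comodule map. -/
theorem isComodHom_of_twistHom_eq {h : M →ₗ[k] B}
    (hh : twistHom cM cB h = (TensorProduct.mk k B A).flip 1 ∘ₗ h) :
    @Hoch.IsComodHom k _ A _ _ _ M _ _ cM B _ _ cB h := by
  apply LinearMap.ext
  intro m
  rw [LinearMap.comp_apply, LinearMap.comp_apply]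
  -- evaluate `G = rmul ∘ (twistHom h ⊗ id)` at `ρ m` in two ways
  have h1 : ∀ t : M ⊗[k] A, rmul k A B ((twistHom cM cB h).rTensor A t) = h.rTensor A t := by
    intro t
    rw [hh]
    induction t using TensorProduct.induction_on with
    | zero => simp
    | add x y hx hy => simp only [map_add, hx, hy]
    | tmul m' a =>
      rw [LinearMap.rTensor_tmul, LinearMap.comp_apply, LinearMap.flip_apply,
        TensorProduct.mk_apply, rmul_tmul_tmul, one_mul, LinearMap.rTensor_tmul]
  have key : ∀ t : M ⊗[k] A,
      rmul k A B ((rmul k A B ∘ₗ TensorProduct.map (cB.coact ∘ₗ h) S).rTensor A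
        ((TensorProduct.assoc k M A A).symm ((Δ).lTensor M t))) =
      cB.coact (h (TensorProduct.rid k M ((ε).lTensor M t))) := by
    intro t
    induction t using TensorProduct.induction_on with
    | zero => simp
    | add x y hx hy => simp only [map_add, hx, hy]
    | tmul m' a =>
      rw [LinearMap.lTensor_tmul, rmul_rmul_map_assoc_symm,
        HopfAlgebra.mul_antipode_rTensor_comul_apply, Algebra.algebraMap_eq_smul_one,
        rmul_tmul_smul_one, LinearMap.lTensor_tmul, TensorProduct.rid_tmul, map_smul, map_smul]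
  have hco := LinearMap.congr_fun cM.coassoc m
  simp only [LinearMap.comp_apply, LinearEquiv.coe_coe] at hco
  have hco' : cM.coact.rTensor A (cM.coact m) =
      (TensorProduct.assoc k M A A).symm ((Δ).lTensor M (cM.coact m)) := by
    rw [← hco, LinearEquiv.symm_apply_apply]
  have hcu := LinearMap.congr_fun cM.counit_comp m
  simp only [LinearMap.comp_apply, LinearMap.flip_apply, TensorProduct.mk_apply] at hcu
  have h2 : (twistHom cM cB h).rTensor A (cM.coact m) =
      (rmul k A B ∘ₗ TensorProduct.map (cB.coact ∘ₗ h) S).rTensor A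
        (cM.coact.rTensor A (cM.coact m)) := by
    rw [← LinearMap.rTensor_comp_apply]
    rfl
  rw [← h1, h2, hco', key, hcu, TensorProduct.rid_tmul, one_smul]

end Criterion

section Psi

variable (k A M B)

/-- `b ⊗ f ↦ (m ↦ f m • b)`. -/
noncomputable def phi : B ⊗[k] Module.Dual k M →ₗ[k] (M →ₗ[k] B) :=
  dualTensorHom k M B ∘ₗ (TensorProduct.comm k B (Module.Dual k M)).toLinearMap

/-- `(b ⊗ f) ⊗ a ↦ (m ↦ f m • (b ⊗ a))`. -/
noncomputable def psi : (B ⊗[k] Module.Dual k M) ⊗[k] A →ₗ[k] (M →ₗ[k] B ⊗[k] A) :=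
  dualTensorHom k M (B ⊗[k] A) ∘ₗ
    (TensorProduct.assoc k (Module.Dual k M) B A).toLinearMap ∘ₗ
      ((TensorProduct.comm k B (Module.Dual k M)).toLinearMap).rTensor A

variable {k A M B}

@[simp] theorem phi_tmul (b : B) (f : Module.Dual k M) (m : M) :
    phi k M B (b ⊗ₜ[k] f) m = f m • b := by
  simp [phi]

@[simp] theorem psi_tmul (b : B) (f : Module.Dual k M) (a : A) (m : M) :
    psi k A M B ((b ⊗ₜ[k] f) ⊗ₜ[k] a) m = f m • (b ⊗ₜ[k] a) := by
  simp [psi]

/-- (T2) -/
theorem psi_tmul_one (x : B ⊗[k] Module.Dual k M) :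
    psi k A M B (x ⊗ₜ[k] (1 : A)) = (TensorProduct.mk k B A).flip 1 ∘ₗ phi k M B x := by
  induction x using TensorProduct.induction_on with
  | zero => simp
  | add x y hx hy =>
    rw [TensorProduct.add_tmul, map_add, hx, hy, map_add, LinearMap.comp_add]
  | tmul b f =>
    apply LinearMap.ext
    intro m
    rw [psi_tmul, LinearMap.comp_apply, phi_tmul, LinearMap.flip_apply, TensorProduct.mk_apply,
      TensorProduct.smul_tmul']

theorem psi_map_mul_tttComm (y : B ⊗[k] A) (z : Module.Dual k M ⊗[k] A) (m : M) :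
    psi k A M B (TensorProduct.map LinearMap.id (LinearMap.mul' k A)
      (AlgebraTensorModule.tensorTensorTensorComm k k k k B A (Module.Dual k M) A
        (y ⊗ₜ[k] z))) m =
      rmul k A B (y ⊗ₜ[k] dualTensorHom k M A z m) := by
  induction y using TensorProduct.induction_on with
  | zero => simp
  | add y y' hy hy' =>
    simp only [TensorProduct.add_tmul, map_add, LinearMap.add_apply, hy, hy']
  | tmul b a =>
    induction z using TensorProduct.induction_on with
    | zero => simp
    | add z z' hz hz' =>
      simp only [TensorProduct.tmul_add, map_add, LinearMap.add_apply, hz, hz']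
    | tmul g a' =>
      rw [AlgebraTensorModule.tensorTensorTensorComm_tmul, TensorProduct.map_tmul,
        LinearMap.id_apply, LinearMap.mul'_apply, psi_tmul, dualTensorHom_apply,
        TensorProduct.tmul_smul, map_smul, rmul_tmul_tmul]

end Psi

section Main

variable (cM : HopfRep.Comod k A M) (cB : HopfRep.Comod k A B)
  (d : HopfRep.Comod k A (Module.Dual k M)) (hd : ComodTens.Comod.IsDual cM d)

theorem rmul_map_coact_phi (b : B) (f : Module.Dual k M) (t : M ⊗[k] A) :
    rmul k A B (TensorProduct.map (cB.coact ∘ₗ phi k M B (b ⊗ₜ[k] f)) S t) =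
      rmul k A B (cB.coact b ⊗ₜ[k] TensorProduct.lid k A (TensorProduct.map f S t)) := by
  induction t using TensorProduct.induction_on with
  | zero => simp
  | add x y hx hy =>
    simp only [map_add, hx, hy, TensorProduct.tmul_add]
  | tmul m a =>
    rw [TensorProduct.map_tmul, LinearMap.comp_apply, phi_tmul, map_smul,
      TensorProduct.map_tmul, TensorProduct.lid_tmul, TensorProduct.smul_tmul]

include hd in
/-- (T1) the coaction of `B ⊗ M^*`, read in `Hom(M, B ⊗ A)`, is `twistHom`. -/
theorem psi_coact (x : B ⊗[k] Module.Dual k M) :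
    psi k A M B ((ComodTens.Comod.tensor cB d).coact x) = twistHom cM cB (phi k M B x) := by
  induction x using TensorProduct.induction_on with
  | zero => simp [twistHom]
  | add x y hx hy => rw [map_add, map_add, hx, hy, map_add, twistHom_add]
  | tmul b f =>
    apply LinearMap.ext
    intro m
    rw [ComodTens.tensor_coact_tmul, psi_map_mul_tttComm, hd f, ComodTens.dualCoactFun_apply,
      twistHom_apply, rmul_map_coact_phi]

include hd in
/-- A vector of `B ⊗ M^*` is fixed iff the corresponding map `M → B` is a comodule map, provided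
`psi` is injective. -/
theorem mem_fixedPts_iff_isComodHom (hpsi : Function.Injective (psi k A M B))
    (x : B ⊗[k] Module.Dual k M) :
    x ∈ @HopfRep.fixedPts k A _ _ _ (B ⊗[k] Module.Dual k M) _ _ (ComodTens.Comod.tensor cB d) ↔
      @Hoch.IsComodHom k _ A _ _ _ M _ _ cM B _ _ cB (phi k M B x) := by
  have hfix : x ∈ @HopfRep.fixedPts k A _ _ _ (B ⊗[k] Module.Dual k M) _ _
      (ComodTens.Comod.tensor cB d) ↔ (ComodTens.Comod.tensor cB d).coact x = x ⊗ₜ[k] (1 : A) :=
    Iff.rfl
  rw [hfix]
  constructor
  · intro h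
    apply isComodHom_of_twistHom_eq
    rw [← psi_coact cM cB d hd, h, psi_tmul_one]
  · intro h
    apply hpsi
    rw [psi_coact cM cB d hd, psi_tmul_one, twistHom_eq_of_isComodHom cM cB h]

end Main

section HomComod

open Groth.Agent.Lib.Comod

variable [Module.Finite k M] [Module.Projective k M]

theorem phi_bijective : Function.Bijective (phi k M B) :=
  (dualTensorHom_bijective (R := k) (M := M) (N := B)).comp
    (TensorProduct.comm k B (Module.Dual k M)).bijective

theorem psi_injective : Function.Injective (psi k A M B) := by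
  have h1 : Function.Injective (dualTensorHom k M (B ⊗[k] A)) :=
    (dualTensorHom_bijective (R := k) (M := M) (N := B ⊗[k] A)).1
  have h2 : Function.Injective
      ((TensorProduct.assoc k (Module.Dual k M) B A).toLinearMap ∘ₗ
        ((TensorProduct.comm k B (Module.Dual k M)).toLinearMap).rTensor A) := by
    have : ((TensorProduct.comm k B (Module.Dual k M)).toLinearMap).rTensor A =
        ((TensorProduct.comm k B (Module.Dual k M)).rTensor A).toLinearMap := rfl
    rw [this]
    exact (TensorProduct.assoc k (Module.Dual k M) B A).injective.comp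
      ((TensorProduct.comm k B (Module.Dual k M)).rTensor A).injective
  exact h1.comp h2

variable (k M B) in
/-- `phi` as an equivalence (for `M` finite projective). -/
noncomputable def phiEquiv : B ⊗[k] Module.Dual k M ≃ₗ[k] (M →ₗ[k] B) :=
  LinearEquiv.ofBijective (phi k M B) phi_bijective

omit [Module.Finite k M] [Module.Projective k M] in
theorem phi_contr (φ : A →ₗ[k] k) (y : (B ⊗[k] Module.Dual k M) ⊗[k] A) :
    phi k M B (contr (B ⊗[k] Module.Dual k M) φ y) = contr B φ ∘ₗ psi k A M B y := by
  induction y using TensorProduct.induction_on with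
  | zero => simp
  | add x y hx hy => rw [map_add, map_add, hx, hy, map_add, LinearMap.comp_add]
  | tmul x a =>
    induction x using TensorProduct.induction_on with
    | zero => simp
    | add x y hx hy =>
      rw [TensorProduct.add_tmul, map_add, map_add, hx, hy, map_add, LinearMap.comp_add]
    | tmul b f =>
      apply LinearMap.ext
      intro m
      rw [contr_tmul, map_smul, LinearMap.smul_apply, phi_tmul, LinearMap.comp_apply, psi_tmul,
        map_smul, contr_tmul, smul_comm]

variable (cM : HopfRep.Comod k A M) (cB : HopfRep.Comod k A B)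

/-- The comodule structure on `Hom(M, B)` (for `M` finite projective): `B ⊗ M^*` transported. -/
@[reducible] noncomputable def homComod : HopfRep.Comod k A (M →ₗ[k] B) :=
  ComodTens.Comod.ofEquiv (phiEquiv k M B)
    (ComodTens.Comod.tensor cB (Groth.Agent.Lib.ComodDual.dualComod cM))

theorem homComod_coact (h : M →ₗ[k] B) :
    (homComod cM cB).coact h = ((phiEquiv k M B : _ →ₗ[k] _)).rTensor A
      ((ComodTens.Comod.tensor cB (Groth.Agent.Lib.ComodDual.dualComod cM)).coact
        ((phiEquiv k M B).symm h)) := rfl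

omit [Module.Finite k M] [Module.Projective k M] in
/-- Fixed vectors of a transported comodule structure. -/
theorem mem_fixedPts_ofEquiv_iff {X Y : Type*} [AddCommGroup X] [Module k X] [AddCommGroup Y]
    [Module k Y] (e : X ≃ₗ[k] Y) (c : HopfRep.Comod k A X) (y : Y) :
    y ∈ @HopfRep.fixedPts k A _ _ _ Y _ _ (ComodTens.Comod.ofEquiv e c) ↔
      e.symm y ∈ @HopfRep.fixedPts k A _ _ _ X _ _ c := by
  show (ComodTens.Comod.ofEquiv e c).coact y = y ⊗ₜ[k] (1 : A) ↔
    c.coact (e.symm y) = (e.symm y) ⊗ₜ[k] (1 : A)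
  rw [ComodTens.ofEquiv_coact]
  constructor
  · intro hh
    have := congrArg ((e.symm : Y →ₗ[k] X).rTensor A) hh
    rw [← LinearMap.rTensor_comp_apply, LinearMap.rTensor_tmul] at this
    have hid : (e.symm : Y →ₗ[k] X) ∘ₗ (e : X →ₗ[k] Y) = LinearMap.id := by
      apply LinearMap.ext
      intro x
      simp
    rw [hid, LinearMap.rTensor_id, LinearMap.id_apply] at this
    exact this
  · intro hh
    rw [hh, LinearMap.rTensor_tmul]
    congr 1
    exact e.apply_symm_apply y

/-- The fixed vectors of `Hom(M, B)` are the comodule maps. -/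
theorem mem_fixedPts_homComod_iff (h : M →ₗ[k] B) :
    h ∈ @HopfRep.fixedPts k A _ _ _ (M →ₗ[k] B) _ _ (homComod cM cB) ↔
      @Hoch.IsComodHom k _ A _ _ _ M _ _ cM B _ _ cB h := by
  have h0 := mem_fixedPts_iff_isComodHom cM cB (Groth.Agent.Lib.ComodDual.dualComod cM)
    (Groth.Agent.Lib.ComodDual.isDual_dualComod cM) psi_injective ((phiEquiv k M B).symm h)
  have h1 : phi k M B ((phiEquiv k M B).symm h) = h := (phiEquiv k M B).apply_symm_apply h
  rw [h1] at h0
  rw [← h0]
  exact mem_fixedPts_ofEquiv_iff (phiEquiv k M B) _ h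

/-- The dual-algebra action on `Hom(M, B)`. -/
theorem act_homComod (φ : A →ₗ[k] k) (h : M →ₗ[k] B) :
    @act k A _ _ _ _ (M →ₗ[k] B) _ _ (homComod cM cB) φ h =
      contr B φ ∘ₗ twistHom cM cB h := by
  show contr (M →ₗ[k] B) φ ((homComod cM cB).coact h) = _
  rw [homComod_coact, contr_rTensor]
  show phi k M B _ = _
  rw [phi_contr, psi_coact cM cB _ (Groth.Agent.Lib.ComodDual.isDual_dualComod cM)]
  have h1 : phi k M B ((phiEquiv k M B).symm h) = h := (phiEquiv k M B).apply_symm_apply h
  rw [h1]

end HomComod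

end Groth.Agent.Lib.ComodHomFix
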