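import Groth.Agent.Lib.ComodFP2
import Mathlib.RingTheory.HopfAlgebra.TensorProduct
import Mathlib.RingTheory.HopfAlgebra.MonoidAlgebra

/-!
# Comodule theory XVII (helper41): integrals and linear reductivity

* `IsInt k A α`: `α : A → k` is a comodule map from the regular comodule to the trivial comodule
  with `α 1 = 1` (a normalized integral).
* `isInt_iff`: pointwise form `Σ α(a₁) ⊗ a₂ = α(a) ⊗ 1`.
* `isLinearlyReductive_iff_exists_isInt`: over a field, `A` is linearly reductive iff it has a
  normalized integral.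
* `bcFun`, `isInt_bcFun`, `isInt_descend`: base change and descent of integrals (`K ⊗[k] A`).
* `isInt_comp_equiv`: transport along bialgebra isomorphisms.
* `isInt_lapply_one`: the integral of a group algebra.
-/

set_option autoImplicit false
universe u v w

open TensorProduct

namespace Groth.Agent.Lib.ComodIntegral

open Groth.Agent.Lib.Comod Groth.Agent.Lib.ComodFP2

section Def

variable (k : Type u) [CommRing k] (A : Type v) [CommRing A] [HopfAlgebra k A]

/-- A normalized integral. -/
def IsInt (α : A →ₗ[k] k) : Prop :=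
  @Hoch.IsComodHom k _ A _ _ _ A _ _ _ k _ _ (HopfRep.Comod.trivial k A k) α ∧ α 1 = 1

variable {k A}

theorem isInt_iff (α : A →ₗ[k] k) :
    IsInt k A α ↔ (∀ a : A, α.rTensor A (CoalgebraStruct.comul (R := k) a) = α a ⊗ₜ[k] (1 : A)) ∧
      α 1 = 1 := by
  unfold IsInt
  refine and_congr_left fun _ => ?_
  constructor
  · intro h a
    exact (LinearMap.congr_fun h a).symm
  · intro h
    apply LinearMap.ext
    intro a
    exact (h a).symm

end Def

section Field

variable {k : Type u} [Field k] {A : Type v} [CommRing A] [HopfAlgebra k A]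

theorem isLinearlyReductive_of_isInt {α : A →ₗ[k] k} (hα : IsInt k A α) :
    HopfRep.IsLinearlyReductive k A := by
  intro V _ _ _ _
  exact isSemisimpleComod_of_integral α hα.1 hα.2 V

theorem act_regular_one (φ : A →ₗ[k] k) : act A φ (1 : A) = φ 1 • (1 : A) := by
  rw [act_apply]
  show contr A φ (CoalgebraStruct.comul (R := k) (1 : A)) = _
  rw [Bialgebra.comul_one, Algebra.TensorProduct.one_def, contr_tmul]

theorem isSubcomod_span_one :
    HopfRep.IsSubcomod (k := k) (A := A) (Submodule.span k {(1 : A)}) := by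
  rw [isSubcomod_iff_act]
  intro φ v hv
  obtain ⟨r, rfl⟩ := Submodule.mem_span_singleton.mp hv
  rw [map_smul, act_regular_one]
  exact Submodule.smul_mem _ _ (Submodule.smul_mem _ _ (Submodule.mem_span_singleton_self _))

theorem exists_isInt_of_isLinearlyReductive (h : HopfRep.IsLinearlyReductive k A) :
    ∃ α : A →ₗ[k] k, IsInt k A α := by
  have hss : HopfRep.IsSemisimpleComod k A A := by
    apply isSemisimpleComod_of_forall_finite (inferInstance : HopfRep.Comod k A A)
    intro X hX hfin
    exact @h X _ _ (ComodSub.Comod.restr _ X hX) hfin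
  obtain ⟨W, hW, hcompl⟩ := hss _ isSubcomod_span_one
  set U : Submodule k A := Submodule.span k {(1 : A)} with hU
  set P := Submodule.projectionOnto U W hcompl with hP
  set α : A →ₗ[k] k := CoalgebraStruct.counit (R := k) (A := A) ∘ₗ U.subtype ∘ₗ P with hα
  have h1U : (1 : A) ∈ U := Submodule.mem_span_singleton_self _
  have hα1 : α 1 = 1 := by
    have : P 1 = ⟨1, h1U⟩ := Submodule.projectionOnto_apply_left hcompl ⟨1, h1U⟩
    rw [hα, LinearMap.comp_apply, LinearMap.comp_apply, this]
    exact Bialgebra.counit_one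
  refine ⟨α, ?_, hα1⟩
  let _ := HopfRep.Comod.trivial k A k
  apply isComodHom_of_act_comm
  intro φ a
  rw [Groth.Agent.Lib.ComodFP.act_trivial]
  -- decompose `a`
  have hamem : a ∈ U ⊔ W := by
    rw [hcompl.sup_eq_top]
    exact Submodule.mem_top
  obtain ⟨u, hu, w, hw, rfl⟩ := Submodule.mem_sup.mp hamem
  obtain ⟨r, rfl⟩ := Submodule.mem_span_singleton.mp hu
  have hPw : ∀ w' ∈ W, α w' = 0 := by
    intro w' hw'
    have : P w' = 0 := Submodule.projectionOnto_apply_right hcompl ⟨w', hw'⟩
    rw [hα, LinearMap.comp_apply, LinearMap.comp_apply, this, map_zero, map_zero]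
  have hactw : act A φ w ∈ W := act_mem_of_isSubcomod hW φ hw
  rw [map_add, map_add, map_add, hPw w hw, hPw _ hactw, add_zero, add_zero, map_smul, map_smul,
    act_regular_one, map_smul, map_smul, hα1]
  simp [mul_comm]

theorem isLinearlyReductive_iff_exists_isInt :
    HopfRep.IsLinearlyReductive k A ↔ ∃ α : A →ₗ[k] k, IsInt k A α :=
  ⟨exists_isInt_of_isLinearlyReductive, fun ⟨_, hα⟩ => isLinearlyReductive_of_isInt hα⟩

end Field

section BaseChange

variable {k : Type u} [CommRing k] (K : Type w) [CommRing K] [Algebra k K] {A : Type v} [CommRing A]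
  [HopfAlgebra k A]

/-- Base change of a functional: `x ⊗ a ↦ α a • x`. -/
noncomputable def bcFun (α : A →ₗ[k] k) : K ⊗[k] A →ₗ[K] K :=
  (TensorProduct.AlgebraTensorModule.rid k K K).toLinearMap ∘ₗ
    TensorProduct.AlgebraTensorModule.map (LinearMap.id : K →ₗ[K] K) α

@[simp] theorem bcFun_tmul (α : A →ₗ[k] k) (x : K) (a : A) :
    bcFun K α (x ⊗ₜ[k] a) = α a • x := by
  simp [bcFun]

theorem comul_tmul_eq (x : K) (a : A) : CoalgebraStruct.comul (R := K) (x ⊗ₜ[k] a) =
    TensorProduct.AlgebraTensorModule.tensorTensorTensorComm k K k K K K A A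
      (((1 : K) ⊗ₜ[K] x) ⊗ₜ[k] CoalgebraStruct.comul (R := k) a) := by
  rw [TensorProduct.comul_tmul]
  rfl

theorem bcFun_rTensor_ttt (α : A →ₗ[k] k) (x : K) (t : A ⊗[k] A) :
    (bcFun K α).rTensor (K ⊗[k] A)
      (TensorProduct.AlgebraTensorModule.tensorTensorTensorComm k K k K K K A A
        (((1 : K) ⊗ₜ[K] x) ⊗ₜ[k] t)) =
    (1 : K) ⊗ₜ[K] (x ⊗ₜ[k] (TensorProduct.lid k A (α.rTensor A t))) := by
  induction t using TensorProduct.induction_on with
  | zero => simp
  | add x y hx hy => simp only [tmul_add, map_add, hx, hy]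
  | tmul p q =>
    simp only [AlgebraTensorModule.tensorTensorTensorComm_tmul, LinearMap.rTensor_tmul, bcFun_tmul,
      TensorProduct.lid_tmul, TensorProduct.tmul_smul]
    rw [TensorProduct.smul_tmul']

theorem isInt_bcFun {α : A →ₗ[k] k} (hα : IsInt k A α) : IsInt K (K ⊗[k] A) (bcFun K α) := by
  rw [isInt_iff] at hα ⊢
  refine ⟨?_, ?_⟩
  · intro y
    induction y using TensorProduct.induction_on with
    | zero => simp
    | add x y hx hy => simp only [map_add, hx, hy, TensorProduct.add_tmul]
    | tmul x a =>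
      rw [comul_tmul_eq, bcFun_rTensor_ttt, hα.1 a, TensorProduct.lid_tmul, bcFun_tmul,
        Algebra.TensorProduct.one_def, TensorProduct.tmul_smul, TensorProduct.tmul_smul,
        TensorProduct.smul_tmul']
      have hx : x ⊗ₜ[k] (1 : A) = x • ((1 : K) ⊗ₜ[k] (1 : A)) := by
        rw [TensorProduct.smul_tmul', smul_eq_mul, mul_one]
      rw [hx, ← TensorProduct.smul_tmul, smul_comm, smul_eq_mul, mul_one]
  · rw [Algebra.TensorProduct.one_def, bcFun_tmul, hα.2, one_smul]

/-- Descent of an integral along a retraction `r : K → k` of the structure map. -/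
theorem isInt_descend (r : K →ₗ[k] k) (hr : r 1 = 1) {β : K ⊗[k] A →ₗ[K] K}
    (hβ : IsInt K (K ⊗[k] A) β) :
    IsInt k A (r ∘ₗ β.restrictScalars k ∘ₗ TensorProduct.mk k K A 1) := by
  rw [isInt_iff] at hβ ⊢
  set α : A →ₗ[k] k := r ∘ₗ β.restrictScalars k ∘ₗ TensorProduct.mk k K A 1 with hα
  have hαa : ∀ a : A, α a = r (β ((1 : K) ⊗ₜ[k] a)) := fun a => rfl
  let Θ : K ⊗[K] (K ⊗[k] A) →ₗ[k] k ⊗[k] A :=
    r.rTensor A ∘ₗ (TensorProduct.lid K (K ⊗[k] A)).toLinearMap.restrictScalars k
  have hΘ : ∀ (y : K) (z : K) (b : A), Θ (y ⊗ₜ[K] (z ⊗ₜ[k] b)) = r (y * z) ⊗ₜ[k] b := by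
    intro y z b
    simp [Θ, TensorProduct.smul_tmul']
  have key : ∀ t : A ⊗[k] A, Θ (β.rTensor (K ⊗[k] A)
      (TensorProduct.AlgebraTensorModule.tensorTensorTensorComm k K k K K K A A
        (((1 : K) ⊗ₜ[K] (1 : K)) ⊗ₜ[k] t))) = α.rTensor A t := by
    intro t
    induction t using TensorProduct.induction_on with
    | zero => simp
    | add x y hx hy => simp only [tmul_add, map_add, hx, hy]
    | tmul p q =>
      rw [AlgebraTensorModule.tensorTensorTensorComm_tmul, LinearMap.rTensor_tmul, hΘ, mul_one,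
        LinearMap.rTensor_tmul, hαa]
  refine ⟨?_, ?_⟩
  · intro a
    have h1 := hβ.1 ((1 : K) ⊗ₜ[k] a)
    rw [comul_tmul_eq] at h1
    rw [← key, h1, Algebra.TensorProduct.one_def, hΘ, mul_one, hαa]
  · rw [hαa, ← Algebra.TensorProduct.one_def, hβ.2, hr]

end BaseChange

section Transport

variable {k : Type u} [CommRing k] {A : Type v} [CommRing A] [HopfAlgebra k A]
  {B : Type w} [CommRing B] [HopfAlgebra k B]

/-- Integrals transport along bialgebra isomorphisms. -/
theorem isInt_comp_equiv (e : A ≃ₐc[k] B) {β : B →ₗ[k] k} (hβ : IsInt k B β) :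
    IsInt k A (β ∘ₗ (e : A →ₗ[k] B)) := by
  rw [isInt_iff] at hβ ⊢
  have key : ∀ t : A ⊗[k] A, (e.symm : B →ₗ[k] A).lTensor k
      (β.rTensor B (TensorProduct.map (e : A →ₗ[k] B) (e : A →ₗ[k] B) t)) =
      (β ∘ₗ (e : A →ₗ[k] B)).rTensor A t := by
    intro t
    induction t using TensorProduct.induction_on with
    | zero => simp
    | add x y hx hy => simp only [map_add, hx, hy]
    | tmul p q => simp
  refine ⟨?_, ?_⟩
  · intro a
    have h1 : TensorProduct.map (e : A →ₗ[k] B) (e : A →ₗ[k] B) (CoalgebraStruct.comul (R := k) a) =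
        CoalgebraStruct.comul (R := k) (e a) := by
      have := CoalgHomClass.map_comp_comul (R := k) e
      exact LinearMap.congr_fun this a
    rw [← key, h1, hβ.1 (e a), LinearMap.lTensor_tmul]
    have h3 : (e.symm : B →ₗ[k] A) 1 = 1 := map_one e.symm
    rw [h3]
    rfl
  · have h3 : (e : A →ₗ[k] B) 1 = 1 := map_one e
    rw [LinearMap.comp_apply, h3]
    exact hβ.2

end Transport

section GroupAlgebra

variable (K : Type u) [CommRing K] (G : Type v) [CommGroup G]

/-- The coefficient of the identity is a normalized integral of a group algebra. -/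
theorem isInt_lapply_one :
    IsInt K (MonoidAlgebra K G)
      (Finsupp.lapply (1 : G) ∘ₗ (MonoidAlgebra.coeffLinearEquiv K).toLinearMap) := by
  classical
  rw [isInt_iff]
  set α : MonoidAlgebra K G →ₗ[K] K :=
    Finsupp.lapply (1 : G) ∘ₗ (MonoidAlgebra.coeffLinearEquiv K).toLinearMap with hα
  have hαs : ∀ (g : G) (c : K), α (MonoidAlgebra.single g c) = if g = 1 then c else 0 := by
    intro g c
    show (MonoidAlgebra.single g c).coeff 1 = _
    rw [MonoidAlgebra.coeff_single, Finsupp.single_apply]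
  refine ⟨?_, ?_⟩
  · intro y
    induction y using MonoidAlgebra.induction_linear with
    | zero => simp
    | add x y hx hy => simp only [map_add, hx, hy, TensorProduct.add_tmul]
    | single g c =>
      rw [MonoidAlgebra.comul_single]
      show α.rTensor _ (TensorProduct.map (MonoidAlgebra.lsingle g) (MonoidAlgebra.lsingle g)
        ((1 : K) ⊗ₜ[K] c)) = _
      rw [TensorProduct.map_tmul, LinearMap.rTensor_tmul, MonoidAlgebra.lsingle_apply,
        MonoidAlgebra.lsingle_apply, hαs, hαs]
      by_cases hg : g = 1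
      · subst hg
        rw [if_pos rfl, if_pos rfl, MonoidAlgebra.one_def]
        have hc : (MonoidAlgebra.single (1 : G) c : MonoidAlgebra K G) =
            c • MonoidAlgebra.single (1 : G) (1 : K) := by
          rw [MonoidAlgebra.smul_single', mul_one]
        rw [hc, TensorProduct.tmul_smul, TensorProduct.smul_tmul', smul_eq_mul, mul_one]
      · rw [if_neg hg, if_neg hg, TensorProduct.zero_tmul, TensorProduct.zero_tmul]
  · rw [MonoidAlgebra.one_def, hαs, if_pos rfl]

end GroupAlgebra

end Groth.Agent.Lib.ComodIntegral
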