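import Mathlib.LinearAlgebra.Contraction
import Mathlib.RingTheory.Flat.EquationalCriterion
import Mathlib.RingTheory.Finiteness.Cardinality
import Mathlib.Algebra.Module.FinitePresentation

/-!
# `M^* ⊗ N → Hom(M, N)` for `M` finitely presented and `N` flat (helper41)

* `dualTensorHom_injective_of_finite_flat`: injective for `M` finite, `N` flat.
* `dualTensorHom_bijective_of_finitePresentation_flat`: bijective for `M` finitely presented,
  `N` flat.
-/

set_option autoImplicit false
universe u v w

open TensorProduct

namespace Groth.Agent.Lib.DualTensorFlat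

variable (k : Type u) [CommRing k] (M : Type v) [AddCommGroup M] [Module k M]
  (N : Type w) [AddCommGroup N] [Module k N]

theorem dualTensorHom_injective_of_finite_flat [Module.Finite k M] [Module.Flat k N] :
    Function.Injective (dualTensorHom k M N) := by
  obtain ⟨n, p, hp⟩ := Module.Finite.exists_fin' k M
  have h1 : Function.Injective (p.dualMap.rTensor N) :=
    Module.Flat.rTensor_preserves_injective_linearMap _
      (LinearMap.dualMap_injective_of_surjective hp)
  have h2 : Function.Injective (dualTensorHom k (Fin n → k) N) :=
    (dualTensorHom_bijective (R := k) (M := Fin n → k) (N := N)).1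
  have h3 := dualTensorHom_comp_rTensor_dualMap (R := k) (P := N) p
  have h4 : Function.Injective (dualTensorHom k (Fin n → k) N ∘ₗ p.dualMap.rTensor N) := by
    rw [LinearMap.coe_comp]
    exact h2.comp h1
  rw [h3, LinearMap.coe_comp] at h4
  exact Function.Injective.of_comp h4

theorem dualTensorHom_surjective_of_finitePresentation_flat [Module.FinitePresentation k M]
    [Module.Flat k N] : Function.Surjective (dualTensorHom k M N) := by
  intro h
  obtain ⟨n, h₂, h₃, rfl⟩ := Module.Flat.exists_factorization_of_finitePresentation h
  refine ⟨∑ i : Fin n, (Finsupp.lapply i ∘ₗ h₂) ⊗ₜ[k] h₃ (Finsupp.single i 1), ?_⟩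
  apply LinearMap.ext
  intro m
  rw [map_sum, LinearMap.sum_apply]
  simp only [dualTensorHom_apply, LinearMap.comp_apply, Finsupp.lapply_apply]
  have h5 : h₂ m = ∑ i : Fin n, (h₂ m) i • Finsupp.single i (1 : k) := by
    ext j
    simp [Finsupp.single_apply]
  conv_rhs => rw [h5, map_sum]
  refine Finset.sum_congr rfl fun i _ => ?_
  rw [map_smul]

theorem dualTensorHom_bijective_of_finitePresentation_flat [Module.FinitePresentation k M]
    [Module.Flat k N] : Function.Bijective (dualTensorHom k M N) :=
  ⟨dualTensorHom_injective_of_finite_flat k M N,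
    dualTensorHom_surjective_of_finitePresentation_flat k M N⟩

end Groth.Agent.Lib.DualTensorFlat
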