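import Groth.Prelude.Def_ComodSub
import Groth.Agent.Lib.DualTensorFlat

/-!
# The left dual of a finitely presented right comodule over a flat coalgebra (helper41)

* `ev k M P : P ⊗ M^* → Hom(M, P)`, `p ⊗ φ ↦ (m ↦ φ m • p)`, natural in `P`.
* `ldualFunL c : M^* → Hom(M, A)`: `ldualFun c` as a linear map.
* `lcoact c`: the coaction `M^* → A ⊗ M^*` of the left dual (`M` finitely presented, `A` flat).
* `ldual c : LComod k A M^*` and `isLDual_ldual`.
-/

set_option autoImplicit false
universe u v w w'

open TensorProduct ComodSub

namespace Groth.Agent.Lib.ComodLDual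

section Ev

variable (k : Type u) [CommRing k] (M : Type w) [AddCommGroup M] [Module k M]
  (P : Type v) [AddCommGroup P] [Module k P]

/-- `p ⊗ φ ↦ (m ↦ φ m • p)`. -/
noncomputable def ev : P ⊗[k] Module.Dual k M →ₗ[k] (M →ₗ[k] P) :=
  dualTensorHom k M P ∘ₗ (TensorProduct.comm k P (Module.Dual k M)).toLinearMap

variable {k M P}

@[simp] theorem ev_tmul (p : P) (φ : Module.Dual k M) (m : M) :
    ev k M P (p ⊗ₜ[k] φ) m = φ m • p := by
  simp [ev]

theorem ev_eq (x : P ⊗[k] Module.Dual k M) :
    ev k M P x = dualTensorHom k M P (TensorProduct.comm k P (Module.Dual k M) x) := rfl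

theorem ev_rTensor {Q : Type w'} [AddCommGroup Q] [Module k Q] (f : P →ₗ[k] Q)
    (x : P ⊗[k] Module.Dual k M) :
    ev k M Q (f.rTensor (Module.Dual k M) x) = f ∘ₗ ev k M P x := by
  induction x using TensorProduct.induction_on with
  | zero => simp
  | tmul p φ =>
    apply LinearMap.ext
    intro m
    simp
  | add x y hx hy => rw [map_add, map_add, hx, hy, map_add, LinearMap.comp_add]

theorem ev_injective_of_finite_flat [Module.Finite k M] [Module.Flat k P] :
    Function.Injective (ev k M P) := by
  unfold ev
  rw [LinearMap.coe_comp]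
  exact (Groth.Agent.Lib.DualTensorFlat.dualTensorHom_injective_of_finite_flat k M P).comp
    (TensorProduct.comm k P (Module.Dual k M)).injective

end Ev

section LDual

variable {k : Type u} [CommRing k] {A : Type v} [AddCommGroup A] [Module k A] [Coalgebra k A]
  {M : Type w} [AddCommGroup M] [Module k M]

/-- `ldualFun c` as a linear map in the form. -/
noncomputable def ldualFunL (c : HopfRep.Comod k A M) : Module.Dual k M →ₗ[k] (M →ₗ[k] A) where
  toFun g := ldualFun c g
  map_add' g h := by
    apply LinearMap.ext
    intro m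
    simp [ldualFun_apply, LinearMap.rTensor_add]
  map_smul' r g := by
    apply LinearMap.ext
    intro m
    simp [ldualFun_apply, LinearMap.rTensor_smul]

@[simp] theorem ldualFunL_apply (c : HopfRep.Comod k A M) (g : Module.Dual k M) :
    ldualFunL c g = ldualFun c g := rfl

variable [Module.Flat k A] [Module.FinitePresentation k M]

/-- `P ⊗ M^* ≃ Hom(M, P)` for `P` flat and `M` finitely presented. -/
noncomputable def evEquiv (P : Type w') [AddCommGroup P] [Module k P] [Module.Flat k P] :
    P ⊗[k] Module.Dual k M ≃ₗ[k] (M →ₗ[k] P) :=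
  LinearEquiv.ofBijective (ev k M P) (by
    unfold ev
    rw [LinearMap.coe_comp]
    exact (Groth.Agent.Lib.DualTensorFlat.dualTensorHom_bijective_of_finitePresentation_flat
      k M P).comp (TensorProduct.comm k P (Module.Dual k M)).bijective)

@[simp] theorem evEquiv_apply (P : Type w') [AddCommGroup P] [Module k P] [Module.Flat k P]
    (x : P ⊗[k] Module.Dual k M) : evEquiv (k := k) (M := M) P x = ev k M P x := rfl

/-- The coaction of the left dual. -/
noncomputable def lcoact (c : HopfRep.Comod k A M) : Module.Dual k M →ₗ[k] A ⊗[k] Module.Dual k M :=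
  (evEquiv (k := k) (M := M) A).symm.toLinearMap ∘ₗ ldualFunL c

theorem ev_lcoact (c : HopfRep.Comod k A M) (g : Module.Dual k M) :
    ev k M A (lcoact c g) = ldualFun c g := by
  have h := (evEquiv (k := k) (M := M) A).apply_symm_apply (ldualFun c g)
  rw [evEquiv_apply] at h
  exact h

omit [Coalgebra k A] [Module.Flat k A] [Module.FinitePresentation k M] in
theorem ev_assoc_symm_tmul (a : A) (y : A ⊗[k] Module.Dual k M) (m : M) :
    ev k M (A ⊗[k] A) ((TensorProduct.assoc k A A (Module.Dual k M)).symm (a ⊗ₜ[k] y)) m =
      a ⊗ₜ[k] (ev k M A y m) := by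
  induction y using TensorProduct.induction_on with
  | zero => simp
  | tmul b ψ => simp [TensorProduct.tmul_smul]
  | add x y hx hy =>
    rw [TensorProduct.tmul_add, map_add, map_add, LinearMap.add_apply, hx, hy, map_add,
      LinearMap.add_apply, TensorProduct.tmul_add]

omit [Coalgebra k A] [Module.Flat k A] [Module.FinitePresentation k M] in
theorem tmul_lid_rTensor (a : A) (φ : Module.Dual k M) (z : M ⊗[k] A) :
    a ⊗ₜ[k] (TensorProduct.lid k A (φ.rTensor A z)) =
      (ev k M A (a ⊗ₜ[k] φ)).rTensor A z := by
  induction z using TensorProduct.induction_on with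
  | zero => simp
  | tmul m' a' => simp [TensorProduct.smul_tmul]
  | add x y hx hy => simp only [map_add, TensorProduct.tmul_add, hx, hy]

theorem ev_assoc_symm_lTensor_lcoact (c : HopfRep.Comod k A M) (x : A ⊗[k] Module.Dual k M) :
    ev k M (A ⊗[k] A) ((TensorProduct.assoc k A A (Module.Dual k M)).symm
      ((lcoact c).lTensor A x)) = (ev k M A x).rTensor A ∘ₗ c.coact := by
  induction x using TensorProduct.induction_on with
  | zero => simp
  | tmul a φ =>
    apply LinearMap.ext
    intro m
    rw [LinearMap.lTensor_tmul, ev_assoc_symm_tmul, ev_lcoact, ldualFun_apply,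
      tmul_lid_rTensor, LinearMap.comp_apply]
  | add x y hx hy =>
    rw [map_add, map_add, map_add, hx, hy, map_add, LinearMap.rTensor_add, LinearMap.add_comp]

omit [Module.Flat k A] [Module.FinitePresentation k M] in
theorem ldualFun_rTensor_comp_coact (c : HopfRep.Comod k A M) (g : Module.Dual k M) :
    (ldualFun c g).rTensor A ∘ₗ c.coact =
      (CoalgebraStruct.comul (R := k) (A := A)) ∘ₗ ldualFun c g := by
  have h1 : (ldualFun c g).rTensor A =
      (TensorProduct.lid k A).toLinearMap.rTensor A ∘ₗ (g.rTensor A).rTensor A ∘ₗ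
        c.coact.rTensor A := by
    unfold ldualFun
    rw [LinearMap.rTensor_comp, LinearMap.rTensor_comp]
  have h2 : c.coact.rTensor A ∘ₗ c.coact =
      (TensorProduct.assoc k M A A).symm.toLinearMap ∘ₗ
        (CoalgebraStruct.comul (R := k) (A := A)).lTensor M ∘ₗ c.coact := by
    rw [← c.coassoc]
    apply LinearMap.ext
    intro m
    simp
  have h3 : (TensorProduct.lid k A).toLinearMap.rTensor A ∘ₗ (g.rTensor A).rTensor A ∘ₗ
      (TensorProduct.assoc k M A A).symm.toLinearMap ∘ₗ
        (CoalgebraStruct.comul (R := k) (A := A)).lTensor M =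
      (CoalgebraStruct.comul (R := k) (A := A)) ∘ₗ (TensorProduct.lid k A).toLinearMap ∘ₗ
        g.rTensor A := by
    apply TensorProduct.ext'
    intro m a
    simp only [LinearMap.comp_apply, LinearMap.lTensor_tmul, LinearEquiv.coe_coe,
      LinearMap.rTensor_tmul, TensorProduct.lid_tmul, map_smul]
    generalize CoalgebraStruct.comul (R := k) a = z
    induction z using TensorProduct.induction_on with
    | zero => simp
    | tmul a₁ a₂ => simp [TensorProduct.smul_tmul']
    | add x y hx hy => simp only [TensorProduct.tmul_add, map_add, smul_add, hx, hy]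
  rw [h1, LinearMap.comp_assoc, LinearMap.comp_assoc, h2]
  have h5 : (CoalgebraStruct.comul (R := k) (A := A)) ∘ₗ ldualFun c g =
      ((CoalgebraStruct.comul (R := k) (A := A)) ∘ₗ (TensorProduct.lid k A).toLinearMap ∘ₗ
        g.rTensor A) ∘ₗ c.coact := by
    unfold ldualFun
    simp only [LinearMap.comp_assoc]
  rw [h5, ← h3]
  simp only [LinearMap.comp_assoc]

/-- The left dual comodule structure. -/
@[reducible] noncomputable def ldual (c : HopfRep.Comod k A M) : LComod k A (Module.Dual k M) where
  coact := lcoact c
  coassoc := by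
    apply LinearMap.ext
    intro g
    have hinj : Function.Injective
        (ev k M (A ⊗[k] A) ∘ₗ (TensorProduct.assoc k A A (Module.Dual k M)).symm.toLinearMap) := by
      rw [LinearMap.coe_comp]
      exact (ev_injective_of_finite_flat (k := k) (M := M) (P := A ⊗[k] A)).comp
        (TensorProduct.assoc k A A (Module.Dual k M)).symm.injective
    apply hinj
    simp only [LinearMap.comp_apply, LinearEquiv.coe_coe, LinearEquiv.symm_apply_apply]
    rw [ev_assoc_symm_lTensor_lcoact, ev_rTensor, ev_lcoact, ldualFun_rTensor_comp_coact]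
  counit_comp := by
    apply LinearMap.ext
    intro g
    apply ev_injective_of_finite_flat (k := k) (M := M) (P := k)
    rw [LinearMap.comp_apply, ev_rTensor, ev_lcoact]
    apply LinearMap.ext
    intro m
    have h := LinearMap.congr_fun c.counit_comp m
    rw [LinearMap.comp_apply] at h
    rw [LinearMap.comp_apply, ldualFun_apply]
    have h5 : ∀ z : M ⊗[k] A, CoalgebraStruct.counit (R := k) (A := A)
        (TensorProduct.lid k A (g.rTensor A z)) =
        TensorProduct.lid k k (g.rTensor k
          ((CoalgebraStruct.counit (R := k) (A := A)).lTensor M z)) := by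
      intro z
      induction z using TensorProduct.induction_on with
      | zero => simp
      | tmul m' a' => simp
      | add x y hx hy => simp only [map_add, hx, hy]
    rw [h5, h]
    simp

theorem isLDual_ldual (c : HopfRep.Comod k A M) : LComod.IsLDual c (ldual c) := by
  intro g
  exact ev_lcoact c g

end LDual

end Groth.Agent.Lib.ComodLDual
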