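import Groth.Agent.Lib.ComodDualAlg
import Groth.Agent.Lib.ComodFlag
import Groth.Agent.Lib.ComodDiag

/-!
# Comodule theory X (helper41): semisimple comodules, eigenvectors

* `isSemisimpleComod_of_span_eigenvectors`: a comodule spanned by eigenvectors is semisimple.
* `span_eigenvectors_eq_top_of_isSemisimpleComod`: a finite-dimensional semisimple comodule all of
  whose simple subquotients are one-dimensional is spanned by eigenvectors.
-/

set_option autoImplicit false
universe u v w

open TensorProduct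

namespace Groth.Agent.Lib.Comod

section Eigen

variable {k : Type u} {C : Type v} [Field k] [AddCommGroup C] [Module k C] [Coalgebra k C]
  {V : Type w} [AddCommGroup V] [Module k V]

/-- The span of a set of eigenvectors is a subcomodule. -/
theorem isSubcomod_span_of_eigenvectors (c : HopfRep.Comod k C V) (s : Set V)
    (hs : ∀ v ∈ s, ∃ a : C, c.coact v = v ⊗ₜ[k] a) :
    @HopfRep.IsSubcomod k C _ _ _ _ V _ _ c (Submodule.span k s) := by
  let _ := c
  apply isSubcomod_span
  intro x hx
  obtain ⟨a, ha⟩ := hs x hx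
  refine ⟨(⟨x, Submodule.subset_span hx⟩ : Submodule.span k s) ⊗ₜ[k] a, ?_⟩
  rw [LinearMap.rTensor_tmul]
  exact ha.symm

/-- A comodule spanned by eigenvectors is semisimple. -/
theorem isSemisimpleComod_of_span_eigenvectors (c : HopfRep.Comod k C V)
    (h : Submodule.span k {v : V | ∃ a : C, c.coact v = v ⊗ₜ[k] a} = ⊤) :
    @HopfRep.IsSemisimpleComod k C _ _ _ _ V _ _ c := by
  intro W hW
  let ι := {v : V // v ≠ 0 ∧ ∃ a : C, c.coact v = v ⊗ₜ[k] a}
  let S : ι → Submodule k V := fun i => Submodule.span k {i.1}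
  have hS : ∀ i, @HopfRep.IsSubcomod k C _ _ _ _ V _ _ c (S i) := fun i =>
    isSubcomod_span_of_eigenvectors c {i.1} (by
      intro v hv
      rw [Set.mem_singleton_iff] at hv
      rw [hv]
      exact i.2.2)
  have hsimple : ∀ i, S i ≠ ⊥ ∧ ∀ W' : Submodule k V,
      @HopfRep.IsSubcomod k C _ _ _ _ V _ _ c W' → W' ≤ S i → W' = ⊥ ∨ W' = S i := by
    intro i
    have hatom : IsAtom (S i) := nonzero_span_atom i.1 i.2.1
    exact ⟨hatom.1, fun W' _ hle => hatom.le_iff.mp hle⟩
  have hsum : ⨆ i, S i = ⊤ := by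
    rw [eq_top_iff, ← h, Submodule.span_le]
    intro v hv
    by_cases hv0 : v = 0
    · rw [hv0]
      exact zero_mem _
    · exact (le_iSup S ⟨v, hv0, hv⟩) (Submodule.mem_span_singleton_self v)
  obtain ⟨J, _, hcompl⟩ := exists_set_iSupIndep_isCompl_of_simple c S hS hsimple hsum W hW
  refine ⟨⨆ j : J, S j, ?_, hcompl⟩
  let _ := c
  exact isSubcomod_iSup fun j => hS j

/-- In a one-dimensional comodule every vector is an eigenvector. -/
theorem exists_coact_eq_tmul_of_finrank_eq_one (c : HopfRep.Comod k C V)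
    (h1 : Module.finrank k V = 1) (v : V) : ∃ a : C, c.coact v = v ⊗ₜ[k] a := by
  by_cases hv : v = 0
  · exact ⟨0, by rw [hv, map_zero, TensorProduct.tmul_zero]⟩
  have hgen : ∀ w : V, ∃ r : k, r • v = w := (finrank_eq_one_iff_of_nonzero' v hv).mp h1
  have key : ∀ t : V ⊗[k] C, ∃ a : C, t = v ⊗ₜ[k] a := by
    intro t
    induction t using TensorProduct.induction_on with
    | zero => exact ⟨0, (TensorProduct.tmul_zero _ _).symm⟩
    | tmul w b =>
      obtain ⟨r, rfl⟩ := hgen w
      exact ⟨r • b, TensorProduct.smul_tmul r v b⟩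
    | add x y hx hy =>
      obtain ⟨a, rfl⟩ := hx
      obtain ⟨b, rfl⟩ := hy
      exact ⟨a + b, (TensorProduct.tmul_add _ _ _).symm⟩
  exact key _

/-- A finite-dimensional semisimple comodule, over a coalgebra all of whose finite-dimensional
simple comodules are one-dimensional, is spanned by eigenvectors. -/
theorem span_eigenvectors_eq_top_of_isSemisimpleComod
    (hT : ∀ (V : Type w) [AddCommGroup V] [Module k V] [HopfRep.Comod k C V],
      Module.Finite k V → HopfRep.IsSimpleComod k C V → Module.finrank k V = 1)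
    (c : HopfRep.Comod k C V) [Module.Finite k V]
    (hss : @HopfRep.IsSemisimpleComod k C _ _ _ _ V _ _ c) :
    Submodule.span k {v : V | ∃ a : C, c.coact v = v ⊗ₜ[k] a} = ⊤ := by
  set E := Submodule.span k {v : V | ∃ a : C, c.coact v = v ⊗ₜ[k] a} with hE
  have hEsub : @HopfRep.IsSubcomod k C _ _ _ _ V _ _ c E :=
    isSubcomod_span_of_eigenvectors c _ fun v hv => hv
  obtain ⟨W', hW', hcompl⟩ := hss E hEsub
  by_contra hne
  have hW'ne : W' ≠ ⊥ := by
    intro h0
    apply hne
    have := hcompl.sup_eq_top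
    rwa [h0, sup_bot_eq] at this
  -- the complement as a comodule
  let c' : HopfRep.Comod k C W' := ComodSub.Comod.restr c W' hW'
  have : Nontrivial W' := Submodule.nontrivial_iff_ne_bot.2 hW'ne
  obtain ⟨L, hL, hLne, hLmin⟩ := exists_minimal_subcomod c'
  have hsimple := isSimpleComod_restr_of_minimal c' L hL hLne hLmin
  have h1 : Module.finrank k L = 1 :=
    @hT L _ _ (ComodSub.Comod.restr c' L hL) inferInstance hsimple
  obtain ⟨l, hl⟩ := (Submodule.ne_bot_iff L).mp hLne
  obtain ⟨a, ha⟩ := exists_coact_eq_tmul_of_finrank_eq_one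
    (ComodSub.Comod.restr c' L hL) h1 ⟨l, hl.1⟩
  -- transport to `W'` and then to `V`
  have h2 : c'.coact l = l ⊗ₜ[k] a := by
    have := ComodSub.restr_coact_coe c' L hL ⟨l, hl.1⟩
    rw [ha, LinearMap.rTensor_tmul] at this
    exact this.symm
  have h3 : c.coact (l : V) = (l : V) ⊗ₜ[k] a := by
    have := ComodSub.restr_coact_coe c W' hW' l
    rw [h2, LinearMap.rTensor_tmul] at this
    exact this.symm
  have hmemE : (l : V) ∈ E := Submodule.subset_span ⟨a, h3⟩
  have hzero : (l : V) = 0 := by
    have : (l : V) ∈ E ⊓ W' := ⟨hmemE, l.2⟩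
    rwa [hcompl.inf_eq_bot, Submodule.mem_bot] at this
  exact hl.2 (Subtype.ext hzero)

end Eigen

end Groth.Agent.Lib.Comod
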