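import Groth.Agent.Lib.ComodSS2

/-!
# Simple subcomodules, semisimplicity and isotypic arguments (helper18)

Builds on helper41's `Lib/Comod*`.  Everything is over a field `k`, for right comodules over a
coalgebra `C` in the prelude's formulation `HopfRep.Comod`.

* `IsSimpleSub c W` : `W` is a simple subcomodule (nonzero, minimal).
* `exists_simpleSub_le` : a nonzero subcomodule contains a simple subcomodule.
* `iSup_simpleSub_eq_top` : a semisimple comodule is the sum of its simple subcomodules.
* `isSemisimpleComod_of_iSup_range` : a sum of images of simple comodules is semisimple.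
* `schur`, `isComodHom_symm`.
* `exists_iso_of_le_iSup_range` : a simple comodule mapping injectively into a sum of images of
  simple comodules `K i` is isomorphic to some `K i`.
-/

set_option autoImplicit false
universe u v w w' w''

open TensorProduct

namespace Groth.Agent.Lib.ComodSimple18

open Groth.Agent.Lib.Comod

variable {k : Type u} {C : Type v} [Field k] [AddCommGroup C] [Module k C] [Coalgebra k C]

section Basic

variable {V : Type w} [AddCommGroup V] [Module k V] (c : HopfRep.Comod k C V)

/-- `W` is a simple subcomodule of `(V, c)`. -/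
def IsSimpleSub (W : Submodule k V) : Prop :=
  @HopfRep.IsSubcomod k C _ _ _ _ V _ _ c W ∧ W ≠ ⊥ ∧
    ∀ W' : Submodule k V, @HopfRep.IsSubcomod k C _ _ _ _ V _ _ c W' → W' ≤ W → W' = ⊥ ∨ W' = W

/-- A nonzero subcomodule contains a simple subcomodule. -/
theorem exists_simpleSub_le (W : Submodule k V)
    (hW : @HopfRep.IsSubcomod k C _ _ _ _ V _ _ c W) (hne : W ≠ ⊥) :
    ∃ E : Submodule k V, E ≤ W ∧ IsSimpleSub c E := by
  classical
  let _ := c
  obtain ⟨x, hxW, hx0⟩ := Submodule.exists_mem_ne_zero_of_ne_bot hne
  obtain ⟨X, hXfin, hxX, hX⟩ := exists_finite_subcomod_mem (k := k) (C := C) (V := V) x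
  set Y := X ⊓ W with hY
  have hYsub : HopfRep.IsSubcomod (k := k) (A := C) Y := isSubcomod_inf hX hW
  have hYfin : Module.Finite k Y := by
    have : Y ≤ X := inf_le_left
    exact Module.Finite.of_injective (Submodule.inclusion this) (Submodule.inclusion_injective this)
  have hxY : x ∈ Y := ⟨hxX, hxW⟩
  -- minimal dimension among nonzero subcomodules below `Y`
  let P : ℕ → Prop := fun n => ∃ U : Submodule k V, HopfRep.IsSubcomod (k := k) (A := C) U ∧
    U ≠ ⊥ ∧ U ≤ Y ∧ Module.finrank k U = n
  have hP : ∃ n, P n := ⟨_, Y, hYsub, fun h => hx0 (by rw [h] at hxY; simpa using hxY), le_rfl, rfl⟩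
  obtain ⟨U, hU, hU0, hUY, hUn⟩ := Nat.find_spec hP
  have hUfin : Module.Finite k U :=
    Module.Finite.of_injective (Submodule.inclusion hUY) (Submodule.inclusion_injective hUY)
  refine ⟨U, hUY.trans inf_le_right, hU, hU0, fun U' hU' hle => ?_⟩
  by_cases h0 : U' = ⊥
  · exact Or.inl h0
  · right
    have hmin : Nat.find hP ≤ Module.finrank k U' :=
      Nat.find_min' hP ⟨U', hU', h0, hle.trans hUY, rfl⟩
    rw [← hUn] at hmin
    exact Submodule.eq_of_le_of_finrank_le hle hmin

/-- Semisimple comodules correspond to complemented submodule lattices over the dual algebra. -/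
theorem complementedLattice_of_isSemisimpleComod
    (h : @HopfRep.IsSemisimpleComod k C _ _ _ _ V _ _ c) :
    ComplementedLattice (Submodule (DualAlg k C) (AsDualMod c)) := by
  refine ⟨fun U' => ?_⟩
  obtain ⟨W, hW, hcompl⟩ := h (ofDualSub c U') (isSubcomod_ofDualSub c U')
  refine ⟨toDualSub c W hW, ?_⟩
  rw [← isCompl_ofDualSub c, ofDualSub_toDualSub]
  exact hcompl

/-- In a semisimple comodule every subcomodule is a sum of simple subcomodules; in particular the
whole comodule is the sum of its simple subcomodules. -/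
theorem iSup_simpleSub_eq_top (h : @HopfRep.IsSemisimpleComod k C _ _ _ _ V _ _ c) :
    (⨆ W : {W : Submodule k V // IsSimpleSub c W}, (W.1 : Submodule k V)) = ⊤ := by
  let _ := c
  set S := ⨆ W : {W : Submodule k V // IsSimpleSub c W}, (W.1 : Submodule k V) with hS
  have hSsub : HopfRep.IsSubcomod (k := k) (A := C) S := isSubcomod_iSup fun W => W.2.1
  obtain ⟨S', hS', hcompl⟩ := h S hSsub
  by_contra hne
  have hS'ne : S' ≠ ⊥ := by
    intro h0
    apply hne
    have := hcompl.sup_eq_top
    rwa [h0, sup_bot_eq] at this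
  obtain ⟨E, hES', hE⟩ := exists_simpleSub_le c S' hS' hS'ne
  have hES : E ≤ S := le_iSup (fun W : {W : Submodule k V // IsSimpleSub c W} => (W.1 : Submodule k V))
    ⟨E, hE⟩
  have : E ≤ S ⊓ S' := le_inf hES hES'
  rw [hcompl.inf_eq_bot] at this
  exact hE.2.1 (le_bot_iff.mp this)

end Basic

section Hom

variable {V : Type w} [AddCommGroup V] [Module k V] [HopfRep.Comod k C V]
  {W : Type w'} [AddCommGroup W] [Module k W] [HopfRep.Comod k C W]

/-- Schur's lemma: a nonzero comodule map between simple comodules is bijective. -/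
theorem schur (hV : HopfRep.IsSimpleComod k C V) (hW : HopfRep.IsSimpleComod k C W)
    {f : V →ₗ[k] W} (hf : Hoch.IsComodHom C f) (hf0 : f ≠ 0) : Function.Bijective f := by
  have hker := isSubcomod_ker hf
  have hrange := isSubcomod_range hf
  rcases hV.2 _ hker with h | h
  · rcases hW.2 _ hrange with h' | h'
    · exact absurd (LinearMap.range_eq_bot.mp h') hf0
    · exact ⟨LinearMap.ker_eq_bot.mp h, LinearMap.range_eq_top.mp h'⟩
  · exact absurd (LinearMap.ker_eq_top.mp h) hf0

/-- A nonzero comodule map out of a simple comodule is injective. -/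
theorem injective_of_simple (hV : HopfRep.IsSimpleComod k C V)
    {f : V →ₗ[k] W} (hf : Hoch.IsComodHom C f) (hf0 : f ≠ 0) : Function.Injective f := by
  rcases hV.2 _ (isSubcomod_ker hf) with h | h
  · exact LinearMap.ker_eq_bot.mp h
  · exact absurd (LinearMap.ker_eq_top.mp h) hf0

/-- The inverse of a bijective comodule map is a comodule map. -/
theorem isComodHom_symm (e : V ≃ₗ[k] W) (he : Hoch.IsComodHom C (e : V →ₗ[k] W)) :
    Hoch.IsComodHom C (e.symm : W →ₗ[k] V) := by
  apply isComodHom_of_act_comm
  intro φ w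
  apply e.injective
  have h := IsComodHom.act_comm he φ (e.symm w)
  simp only [LinearEquiv.coe_coe, LinearEquiv.apply_symm_apply] at h ⊢
  exact h.symm

/-- The image of a simple comodule under an injective comodule map is a simple subcomodule. -/
theorem isSimpleSub_range (hV : HopfRep.IsSimpleComod k C V)
    {f : V →ₗ[k] W} (hf : Hoch.IsComodHom C f) (hinj : Function.Injective f) :
    IsSimpleSub (inferInstance : HopfRep.Comod k C W) (LinearMap.range f) := by
  have := hV.1
  refine ⟨isSubcomod_range hf, ?_, fun W' hW' hle => ?_⟩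
  · intro h
    obtain ⟨x, hx⟩ := exists_ne (0 : V)
    have : f x = 0 := by
      have : f x ∈ LinearMap.range f := ⟨x, rfl⟩
      rw [h] at this
      simpa using this
    exact hx (hinj (by rw [this, map_zero]))
  · rcases hV.2 _ (isSubcomod_comap hf hW') with h | h
    · left
      rw [eq_bot_iff]
      intro w hw
      obtain ⟨x, rfl⟩ := hle hw
      have : x ∈ W'.comap f := hw
      rw [h] at this
      simp only [Submodule.mem_bot] at this
      rw [this, map_zero]
      exact Submodule.zero_mem _
    · right
      apply le_antisymm hle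
      rintro _ ⟨x, rfl⟩
      have : x ∈ W'.comap f := by rw [h]; exact Submodule.mem_top
      exact this

end Hom


section Sum

variable {V : Type w} [AddCommGroup V] [Module k V] [HopfRep.Comod k C V]
  {ι : Type*} {K : ι → Type w'} [∀ i, AddCommGroup (K i)] [∀ i, Module k (K i)]
  [∀ i, HopfRep.Comod k C (K i)]

/-- A comodule which is the sum of images of simple comodules is semisimple. -/
theorem isSemisimpleComod_of_iSup_range (hK : ∀ i, HopfRep.IsSimpleComod k C (K i))
    (g : ∀ i, K i →ₗ[k] V) (hg : ∀ i, Hoch.IsComodHom C (g i))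
    (hsum : (⨆ i, LinearMap.range (g i)) = ⊤) : HopfRep.IsSemisimpleComod k C V := by
  intro W hW
  let J := {i : ι // g i ≠ 0}
  have hsum' : (⨆ j : J, LinearMap.range (g j.1)) = ⊤ := by
    rw [eq_top_iff, ← hsum]
    refine iSup_le fun i => ?_
    by_cases h0 : g i = 0
    · rw [h0, LinearMap.range_zero]; exact bot_le
    · exact le_iSup (fun j : J => LinearMap.range (g j.1)) ⟨i, h0⟩
  have hsimple : ∀ j : J, IsSimpleSub (inferInstance : HopfRep.Comod k C V)
      (LinearMap.range (g j.1)) := fun j =>
    isSimpleSub_range (hK j.1) (hg j.1) (injective_of_simple (hK j.1) (hg j.1) j.2)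
  obtain ⟨T, _, hcompl⟩ := exists_set_iSupIndep_isCompl_of_simple
    (inferInstance : HopfRep.Comod k C V) (fun j : J => LinearMap.range (g j.1))
    (fun j => (hsimple j).1) (fun j => (hsimple j).2) hsum' W hW
  exact ⟨_, isSubcomod_iSup fun j : T => (hsimple j.1).1, hcompl⟩

variable {S : Type w''} [AddCommGroup S] [Module k S] [HopfRep.Comod k C S]

/-- A simple comodule mapping nontrivially to a sum of images of simple comodules `K i` is
isomorphic to one of the `K i` (case where the sum is everything). -/
theorem exists_iso_of_iSup_range_eq_top (hK : ∀ i, HopfRep.IsSimpleComod k C (K i))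
    (g : ∀ i, K i →ₗ[k] V) (hg : ∀ i, Hoch.IsComodHom C (g i))
    (hsum : (⨆ i, LinearMap.range (g i)) = ⊤)
    (hS : HopfRep.IsSimpleComod k C S) (f : S →ₗ[k] V) (hf : Hoch.IsComodHom C f) (hf0 : f ≠ 0) :
    ∃ (i : ι) (e : S ≃ₗ[k] K i), Hoch.IsComodHom C (e : S →ₗ[k] K i) := by
  have hss := isSemisimpleComod_of_iSup_range hK g hg hsum
  have hinj := injective_of_simple hS hf hf0
  obtain ⟨r, hr, hrf⟩ := exists_retraction_of_isSemisimpleComod
    (inferInstance : HopfRep.Comod k C S) (inferInstance : HopfRep.Comod k C V) f hf hinj hss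
  have hex : ∃ i, r ∘ₗ g i ≠ 0 := by
    by_contra hcon
    push Not at hcon
    have hr0 : r = 0 := by
      apply LinearMap.ext
      intro v
      have hv : v ∈ (⨆ i, LinearMap.range (g i)) := by rw [hsum]; exact Submodule.mem_top
      refine Submodule.iSup_induction _ (motive := fun v => r v = 0) hv ?_ ?_ ?_
      · rintro i _ ⟨x, rfl⟩
        exact LinearMap.congr_fun (hcon i) x
      · exact map_zero r
      · intro x y hx hy
        rw [map_add, hx, hy, add_zero]
    rw [hr0, LinearMap.zero_comp] at hrf
    have := hS.1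
    obtain ⟨x, hx⟩ := exists_ne (0 : S)
    exact hx (LinearMap.congr_fun hrf x).symm
  obtain ⟨i, hi⟩ := hex
  have hcomp : Hoch.IsComodHom C (r ∘ₗ g i) := isComodHom_comp' (hg i) hr
  have hbij := schur (hK i) hS hcomp hi
  let e : K i ≃ₗ[k] S := LinearEquiv.ofBijective (r ∘ₗ g i) hbij
  exact ⟨i, e.symm, isComodHom_symm e hcomp⟩

end Sum


section Restr

variable {V : Type w} [AddCommGroup V] [Module k V] (c : HopfRep.Comod k C V)
  {K : Type w'} [AddCommGroup K] [Module k K] [HopfRep.Comod k C K]

/-- A comodule map with values in a subcomodule `X` is a comodule map into `X` with its induced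
structure. -/
theorem isComodHom_codRestrict (X : Submodule k V)
    (hX : @HopfRep.IsSubcomod k C _ _ _ _ V _ _ c X) (g : K →ₗ[k] V)
    (hg : @Hoch.IsComodHom k _ C _ _ _ K _ _ _ V _ _ c g) (h : ∀ x, g x ∈ X) :
    @Hoch.IsComodHom k _ C _ _ _ K _ _ _ X _ _ (ComodSub.Comod.restr c X hX)
      (g.codRestrict X h) := by
  let _ := c
  let _ := ComodSub.Comod.restr c X hX
  apply isComodHom_of_act_comm
  intro φ x
  apply X.injective_subtype
  have h1 := IsComodHom.act_comm (ComodSub.isComodHom_subtype c X hX) φ (g.codRestrict X h x)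
  have h2 := IsComodHom.act_comm hg φ x
  exact h1.symm.trans h2

end Restr

section SumLe

variable {V : Type w} [AddCommGroup V] [Module k V] [HopfRep.Comod k C V]
  {ι : Type*} {K : ι → Type w'} [∀ i, AddCommGroup (K i)] [∀ i, Module k (K i)]
  [∀ i, HopfRep.Comod k C (K i)]
  {S : Type w''} [AddCommGroup S] [Module k S] [HopfRep.Comod k C S]

/-- A simple comodule mapping nontrivially into a sum of images of simple comodules `K i` is
isomorphic to one of the `K i`. -/
theorem exists_iso_of_le_iSup_range (hK : ∀ i, HopfRep.IsSimpleComod k C (K i))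
    (g : ∀ i, K i →ₗ[k] V) (hg : ∀ i, Hoch.IsComodHom C (g i))
    (hS : HopfRep.IsSimpleComod k C S) (f : S →ₗ[k] V) (hf : Hoch.IsComodHom C f) (hf0 : f ≠ 0)
    (hle : LinearMap.range f ≤ ⨆ i, LinearMap.range (g i)) :
    ∃ (i : ι) (e : S ≃ₗ[k] K i), Hoch.IsComodHom C (e : S →ₗ[k] K i) := by
  set X : Submodule k V := ⨆ i, LinearMap.range (g i) with hXdef
  have hX : HopfRep.IsSubcomod (k := k) (A := C) X := isSubcomod_iSup fun i => isSubcomod_range (hg i)
  let cV : HopfRep.Comod k C V := inferInstance
  let cX : HopfRep.Comod k C X := ComodSub.Comod.restr cV X hX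
  have hgX : ∀ i x, g i x ∈ X := fun i x =>
    (le_iSup (fun i => LinearMap.range (g i)) i) ⟨x, rfl⟩
  have hfX : ∀ x, f x ∈ X := fun x => hle ⟨x, rfl⟩
  let g' : ∀ i, K i →ₗ[k] X := fun i => (g i).codRestrict X (hgX i)
  let f' : S →ₗ[k] X := f.codRestrict X hfX
  have hg' : ∀ i, Hoch.IsComodHom C (g' i) := fun i =>
    isComodHom_codRestrict cV X hX (g i) (hg i) (hgX i)
  have hf' : Hoch.IsComodHom C f' := isComodHom_codRestrict cV X hX f hf hfX
  have hf'0 : f' ≠ 0 := by
    intro h0
    apply hf0
    apply LinearMap.ext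
    intro x
    have := congrArg (fun y : X => (y : V)) (LinearMap.congr_fun h0 x)
    simpa [f'] using this
  have hsum : (⨆ i, LinearMap.range (g' i)) = ⊤ := by
    apply Submodule.map_injective_of_injective X.injective_subtype
    rw [Submodule.map_iSup, Submodule.map_subtype_top]
    have : ∀ i, (LinearMap.range (g' i)).map X.subtype = LinearMap.range (g i) := by
      intro i
      rw [← LinearMap.range_comp]
      congr 1
    simp only [this]
    rfl
  exact exists_iso_of_iSup_range_eq_top hK g' hg' hsum hS f' hf' hf'0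

end SumLe

end Groth.Agent.Lib.ComodSimple18
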