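import Groth.Agent.Lib.ComodInd
import Groth.Agent.Lib.ComodFlag
import Groth.Agent.Lib.ComodAlong

/-!
# Comodule theory VIII (helper41): trigonalizability passes to quotient bialgebras
-/

set_option autoImplicit false
universe u v w

open TensorProduct

namespace Groth.Agent.Lib.Comod

section LinAlg

variable {k : Type u} [Field k] {X : Type v} [AddCommGroup X] [Module k X]

/-- A submodule sitting "simply" inside a chain with steps of dimension at most one has
dimension at most one. -/
theorem finrank_le_one_of_chain (N : ℕ) (Xs : ℕ → Submodule k X)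
    (hfin : ∀ i, Module.Finite k (Xs i)) (h0 : Xs 0 = ⊥) (hmono : Monotone Xs)
    (hstep : ∀ i, Module.finrank k (Xs (i + 1)) ≤ Module.finrank k (Xs i) + 1)
    (V' : Submodule k X) [Module.Finite k V'] (hle : V' ≤ Xs N)
    (hsimple : ∀ i, V' ⊓ Xs i = ⊥ ∨ V' ≤ Xs i) : Module.finrank k V' ≤ 1 := by
  classical
  by_cases hV : V' = ⊥
  · rw [hV]; simp
  have hex : ∃ i, V' ≤ Xs i := ⟨N, hle⟩
  have hi := Nat.find_spec hex
  have hmin := fun j => Nat.find_min hex (m := j)
  set i := Nat.find hex
  have hi0 : i ≠ 0 := by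
    intro h
    rw [h, h0, le_bot_iff] at hi
    exact hV hi
  obtain ⟨j, hj⟩ := Nat.exists_eq_succ_of_ne_zero hi0
  have hdisj : V' ⊓ Xs j = ⊥ := (hsimple j).resolve_right (hmin j (by omega))
  have _ := hfin j
  have _ := hfin (j + 1)
  have h1 := Submodule.finrank_sup_add_finrank_inf_eq V' (Xs j)
  rw [hdisj, finrank_bot, add_zero] at h1
  have h2 : V' ⊔ Xs j ≤ Xs (j + 1) := by
    rw [hj] at hi
    exact sup_le hi (hmono (Nat.le_succ j))
  have h3 := Submodule.finrank_mono h2
  have h4 := hstep j
  omega

theorem finrank_map_add_finrank_inf_ker {Y : Type w} [AddCommGroup Y] [Module k Y]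
    (f : Y →ₗ[k] X) (U : Submodule k Y) [Module.Finite k U] :
    Module.finrank k (U.map f) + Module.finrank k ↥(U ⊓ LinearMap.ker f) = Module.finrank k U := by
  have h := LinearMap.finrank_range_add_finrank_ker (f.domRestrict U)
  rw [LinearMap.range_domRestrict, LinearMap.ker_domRestrict] at h
  rw [← h, ← Submodule.map_comap_subtype, Submodule.finrank_map_subtype_eq]

theorem finrank_map_step {Y : Type w} [AddCommGroup Y] [Module k Y]
    (f : Y →ₗ[k] X) {U U' : Submodule k Y} [Module.Finite k U'] (hU : U ≤ U')
    (h1 : Module.finrank k U' ≤ Module.finrank k U + 1) :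
    Module.finrank k (U'.map f) ≤ Module.finrank k (U.map f) + 1 := by
  have : Module.Finite k U := Module.Finite.of_injective (Submodule.inclusion hU)
    (Submodule.inclusion_injective hU)
  have e1 := finrank_map_add_finrank_inf_ker f U
  have e2 := finrank_map_add_finrank_inf_ker f U'
  have e3 : Module.finrank k ↥(U ⊓ LinearMap.ker f) ≤ Module.finrank k ↥(U' ⊓ LinearMap.ker f) :=
    Submodule.finrank_mono (inf_le_inf_right _ hU)
  omega

end LinAlg

section FiniteSub

variable {k : Type u} {C : Type v} [Field k] [AddCommGroup C] [Module k C] [Coalgebra k C]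
  {V : Type w} [AddCommGroup V] [Module k V] [HopfRep.Comod k C V]

/-- The span of a finite set lies in a finite-dimensional subcomodule. -/
theorem exists_finite_subcomod_span (S : Finset V) :
    ∃ W : Submodule k V, Module.Finite k W ∧ Submodule.span k (S : Set V) ≤ W ∧
      HopfRep.IsSubcomod (k := k) (A := C) W := by
  classical
  induction S using Finset.induction_on with
  | empty =>
    refine ⟨⊥, inferInstance, by simp, isSubcomod_bot⟩
  | insert x S _ ih =>
    obtain ⟨W, hWfin, hSW, hW⟩ := ih
    obtain ⟨W', hW'fin, hxW', hW'⟩ := exists_finite_subcomod_mem (k := k) (C := C) x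
    refine ⟨W ⊔ W', inferInstance, ?_, isSubcomod_sup hW hW'⟩
    rw [Finset.coe_insert, Submodule.span_insert]
    exact sup_le ((Submodule.span_singleton_le_iff_mem _ _).2
      (le_sup_right (a := W) hxW')) (hSW.trans le_sup_left)

/-- A finite-dimensional subspace of a comodule lies in a finite-dimensional subcomodule. -/
theorem exists_finite_subcomod_le (U : Submodule k V) [hU : Module.Finite k U] :
    ∃ W : Submodule k V, Module.Finite k W ∧ U ≤ W ∧ HopfRep.IsSubcomod (k := k) (A := C) W := by
  obtain ⟨S, hS⟩ := Module.Finite.iff_fg.1 hU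
  obtain ⟨W, h1, h2, h3⟩ := exists_finite_subcomod_span (k := k) (C := C) S
  exact ⟨W, h1, hS ▸ h2, h3⟩

end FiniteSub

section Surj

variable {k : Type u} [Field k] {A B : Type v} [CommRing A] [Bialgebra k A] [CommRing B]
  [Bialgebra k B]

/-- `id ⊗ π` on free comodules. -/
noncomputable def indMap (π : A →ₐc[k] B) (P : Type w) [AddCommGroup P] [Module k P] :
    Hoch.Ind k A P →ₗ[k] Hoch.Ind k B P :=
  ((π : A →ₗ[k] B).lTensor P : P ⊗[k] A →ₗ[k] P ⊗[k] B)

theorem indMap_surjective (π : A →ₐc[k] B) (hπ : Function.Surjective π) (P : Type w)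
    [AddCommGroup P] [Module k P] : Function.Surjective (indMap π P) :=
  LinearMap.lTensor_surjective P hπ

theorem map_contr_eq (π : A →ₐc[k] B) (φ : B →ₗ[k] k) (t : A ⊗[k] A) :
    π (contr A (φ ∘ₗ (π : A →ₗ[k] B)) t) =
      contr B φ (TensorProduct.map (π : A →ₗ[k] B) (π : A →ₗ[k] B) t) := by
  induction t using TensorProduct.induction_on with
  | zero => simp
  | add x y hx hy => simp only [map_add, hx, hy]
  | tmul a b => simp

theorem map_slice (π : A →ₐc[k] B) (φ : B →ₗ[k] k) (a : A) :
    π (slice (φ ∘ₗ (π : A →ₗ[k] B)) a) = slice φ (π a) := by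
  rw [slice, LinearMap.comp_apply, map_contr_eq, CoalgHomClass.map_comp_comul_apply, slice,
    LinearMap.comp_apply]

theorem act_indMap (π : A →ₐc[k] B) (P : Type w) [AddCommGroup P] [Module k P]
    (φ : B →ₗ[k] k) (y : Hoch.Ind k A P) :
    act (Hoch.Ind k B P) φ (indMap π P y) =
      indMap π P (act (Hoch.Ind k A P) (φ ∘ₗ (π : A →ₗ[k] B)) y) := by
  rw [act_ind, act_ind]
  show (slice φ).lTensor P (((π : A →ₗ[k] B).lTensor P) y) =
    ((π : A →ₗ[k] B).lTensor P) ((slice (φ ∘ₗ (π : A →ₗ[k] B))).lTensor P y)
  induction y using TensorProduct.induction_on with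
  | zero => simp
  | add x y hx hy => simp only [map_add, hx, hy]
  | tmul p a =>
    simp only [LinearMap.lTensor_tmul]
    exact congrArg (fun z => p ⊗ₜ[k] z) (map_slice π φ a).symm

/-- Trigonalizability passes to quotient bialgebras. -/
theorem isTrigonalizable_of_surjective (π : A →ₐc[k] B) (hπ : Function.Surjective π)
    (hA : HopfRep.IsTrigonalizable k A) : HopfRep.IsTrigonalizable k B := by
  classical
  intro V _ _ c hfin hsimple
  obtain ⟨hnt, hsimple⟩ := hsimple
  -- the free comodules and the maps
  let ρ' : V →ₗ[k] Hoch.Ind k B V := Hoch.toInd k B V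
  have hρ'inj : Function.Injective ρ' := toInd_injective
  have hρ'hom : Hoch.IsComodHom B ρ' := isComodHom_toInd
  let q := indMap π V
  have hq : Function.Surjective q := indMap_surjective π hπ V
  let V' : Submodule k (Hoch.Ind k B V) := LinearMap.range ρ'
  have hV'fin : Module.Finite k V' := inferInstance
  -- simplicity of V' inside X
  have hV'simple : ∀ U : Submodule k (Hoch.Ind k B V),
      HopfRep.IsSubcomod (k := k) (A := B) U → V' ⊓ U = ⊥ ∨ V' ≤ U := by
    intro U hU
    rcases hsimple _ (isSubcomod_comap hρ'hom hU) with h | h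
    · left
      rw [eq_bot_iff]
      rintro x ⟨⟨v, rfl⟩, hxU⟩
      have hv : v ∈ U.comap ρ' := hxU
      rw [h, Submodule.mem_bot] at hv
      rw [hv, map_zero]
      exact zero_mem _
    · right
      rintro x ⟨v, rfl⟩
      have hv : v ∈ U.comap ρ' := by rw [h]; trivial
      exact hv
  -- a finite-dimensional A-subcomodule W of Y mapping onto V'
  obtain ⟨S, hS⟩ := Module.Finite.iff_fg.1 hV'fin
  have hlift : ∀ s : Hoch.Ind k B V, ∃ y : Hoch.Ind k A V, q y = s := fun s => hq s
  choose lift hlift' using hlift
  obtain ⟨W, hWfin, hSW, hW⟩ := exists_finite_subcomod_span (k := k) (C := A)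
    (V := Hoch.Ind k A V) (S.image lift)
  have hV'W : V' ≤ W.map q := by
    rw [← hS, Submodule.span_le]
    intro s hs
    refine ⟨lift s, hSW (Submodule.subset_span ?_), hlift' s⟩
    simp only [Finset.coe_image, Set.mem_image, Finset.mem_coe]
    exact ⟨s, hs, rfl⟩
  -- the flag of W
  obtain ⟨F, hFmono, hFsub, hFrank⟩ := exists_flag (k := k) (C := A)
    (fun U _ _ _ hf hs => hA U hf hs) (Module.finrank k W) W
    (ComodSub.Comod.restr inferInstance W hW) rfl
  let Ws : ℕ → Submodule k (Hoch.Ind k A V) := fun i =>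
    (F (min i (Module.finrank k W))).map W.subtype
  have hWsmono : Monotone Ws := fun i j hij =>
    Submodule.map_mono (hFmono (min_le_min_right _ hij))
  have hWssub : ∀ i, HopfRep.IsSubcomod (k := k) (A := A) (Ws i) := by
    intro i
    let _ := ComodSub.Comod.restr (inferInstance : HopfRep.Comod k A (Hoch.Ind k A V)) W hW
    exact isSubcomod_map (ComodSub.isComodHom_subtype _ W hW) (hFsub _)
  have hWsrank : ∀ i, Module.finrank k (Ws i) = min i (Module.finrank k W) := by
    intro i
    rw [Submodule.finrank_map_subtype_eq]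
    exact hFrank _ (min_le_right _ _)
  have hWsfin : ∀ i, Module.Finite k (Ws i) := fun i => inferInstance
  have hWstop : Ws (Module.finrank k W) = W := by
    have h1 : F (Module.finrank k W) = ⊤ := by
      apply Submodule.eq_top_of_finrank_eq
      rw [hFrank _ le_rfl]
    show (F (min _ _)).map W.subtype = W
    rw [min_self, h1, Submodule.map_top, Submodule.range_subtype]
  -- the image chain in X
  let Xs : ℕ → Submodule k (Hoch.Ind k B V) := fun i => (Ws i).map q
  have hXssub : ∀ i, HopfRep.IsSubcomod (k := k) (A := B) (Xs i) := by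
    intro i
    rw [isSubcomod_iff_act]
    rintro φ _ ⟨y, hy, rfl⟩
    rw [act_indMap]
    exact ⟨_, act_mem_of_isSubcomod (hWssub i) _ hy, rfl⟩
  have hle1 : Module.finrank k V' ≤ 1 := by
    refine finrank_le_one_of_chain (Module.finrank k W) Xs (fun i => inferInstance) ?_
      (fun i j hij => Submodule.map_mono (hWsmono hij)) ?_ V' ?_ (fun i => hV'simple _ (hXssub i))
    · show (Ws 0).map q = ⊥
      have : Ws 0 = ⊥ := by
        have h0 := hWsrank 0
        rw [Nat.zero_min] at h0
        exact Submodule.finrank_eq_zero.1 h0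
      rw [this, Submodule.map_bot]
    · intro i
      apply finrank_map_step q (hWsmono (Nat.le_succ i))
      rw [hWsrank, hWsrank]
      omega
    · show V' ≤ (Ws _).map q
      rw [hWstop]
      exact hV'W
  have h2 : Module.finrank k V' = Module.finrank k V :=
    (LinearEquiv.ofInjective ρ' hρ'inj).finrank_eq.symm
  have h3 : 0 < Module.finrank k V := Module.finrank_pos
  omega

end Surj

end Groth.Agent.Lib.Comod
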