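import Groth.Agent.Lib.ComodFlag

/-!
# Comodule theory V (helper41): fixed points, unipotent filtrations
-/

set_option autoImplicit false
universe u v w

open TensorProduct

namespace Groth.Agent.Lib.Comod

section Fixed

variable {k : Type u} {A : Type v} [Field k] [CommRing A] [Bialgebra k A]
  {V : Type w} [AddCommGroup V] [Module k V]

/-- The fixed points form a subcomodule. -/
theorem isSubcomod_fixedPts (c : HopfRep.Comod k A V) :
    @HopfRep.IsSubcomod k A _ _ _ _ V _ _ c (@HopfRep.fixedPts k A _ _ _ V _ _ c) := by
  intro v hv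
  have hv' : c.coact v = v ⊗ₜ[k] (1 : A) := hv
  rw [hv']
  exact ⟨(⟨v, hv⟩ : @HopfRep.fixedPts k A _ _ _ V _ _ c) ⊗ₜ[k] (1 : A), by simp⟩

omit [Field k] in
theorem range_rTensor_bot {k : Type u} [CommRing k] {A : Type v} [AddCommGroup A] [Module k A]
    {V : Type w} [AddCommGroup V] [Module k V] :
    LinearMap.range ((⊥ : Submodule k V).subtype.rTensor A) = ⊥ := by
  rw [eq_bot_iff]
  rintro _ ⟨y, rfl⟩
  have : y = 0 := by
    induction y using TensorProduct.induction_on with
    | zero => rfl
    | add x y hx hy => rw [hx, hy, add_zero]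
    | tmul w a =>
      have : w = 0 := Subsingleton.elim _ _
      rw [this, TensorProduct.zero_tmul]
  rw [this, map_zero]
  exact zero_mem _

/-- The unipotent filtration statement for a single comodule. -/
def HasUnipFiltration (c : HopfRep.Comod k A V) : Prop :=
  ∃ (m : ℕ) (F : ℕ → Submodule k V), Monotone F ∧ F 0 = ⊥ ∧ F m = ⊤ ∧
    (∀ i, @HopfRep.IsSubcomod k A _ _ _ _ V _ _ c (F i)) ∧
    ∀ i, ∀ v ∈ F (i + 1),
      c.coact v - v ⊗ₜ[k] (1 : A) ∈ LinearMap.range ((F i).subtype.rTensor A)

/-- If every nonzero f.d. comodule has a nonzero fixed vector, every f.d. comodule has a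
filtration with trivial graded pieces. -/
theorem hasUnipFiltration_of_isUnipotent
    (hU : ∀ (V : Type w) [AddCommGroup V] [Module k V] [HopfRep.Comod k A V],
      Module.Finite k V → Nontrivial V → HopfRep.fixedPts k A V ≠ ⊥) :
    ∀ (n : ℕ) (V : Type w) [AddCommGroup V] [Module k V] (c : HopfRep.Comod k A V)
      [Module.Finite k V], Module.finrank k V = n → HasUnipFiltration c := by
  intro n
  induction n using Nat.strong_induction_on with
  | _ n ih =>
    intro V _ _ c _ hn
    by_cases hnt : Nontrivial V
    · -- quotient by the fixed points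
      set L := @HopfRep.fixedPts k A _ _ _ V _ _ c with hLdef
      have hL : @HopfRep.IsSubcomod k A _ _ _ _ V _ _ c L := isSubcomod_fixedPts c
      have hLne : L ≠ ⊥ := @hU V _ _ c inferInstance hnt
      have hLpos : 0 < Module.finrank k L := by
        rw [Module.finrank_pos_iff]
        exact Submodule.nontrivial_iff_ne_bot.2 hLne
      have hQ : Module.finrank k (V ⧸ L) < n := by
        have := Submodule.finrank_quotient_add_finrank L
        omega
      obtain ⟨m, G, hGmono, hG0, hGm, hGsub, hGtriv⟩ :=
        ih _ hQ (V ⧸ L) (ComodSub.Comod.quot c L hL) rfl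
      refine ⟨m + 1, fun i => match i with
        | 0 => ⊥
        | (j + 1) => (G j).comap L.mkQ, ?_, rfl, ?_, ?_, ?_⟩
      · apply monotone_nat_of_le_succ
        intro i
        cases i with
        | zero => exact bot_le
        | succ j => exact Submodule.comap_mono (hGmono (Nat.le_succ j))
      · show (G m).comap L.mkQ = ⊤
        rw [hGm, Submodule.comap_top]
      · intro i
        cases i with
        | zero => exact isSubcomod_bot
        | succ j =>
          let _ := ComodSub.Comod.quot c L hL
          let _ := c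
          exact isSubcomod_comap (ComodSub.isComodHom_mkQ c L hL) (hGsub j)
      · intro i v hv
        cases i with
        | zero =>
          have hv' : v ∈ (G 0).comap L.mkQ := hv
          rw [hG0, Submodule.comap_bot, Submodule.ker_mkQ] at hv'
          have hv'' : c.coact v = v ⊗ₜ[k] (1 : A) := hv'
          rw [hv'', sub_self]
          exact zero_mem _
        | succ j =>
          have hv' : L.mkQ v ∈ G (j + 1) := hv
          have h1 := hGtriv j _ hv'
          show c.coact v - v ⊗ₜ[k] (1 : A) ∈
            LinearMap.range (((G j).comap L.mkQ).subtype.rTensor A)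
          rw [mem_range_rTensor_subtype_iff] at h1 ⊢
          intro φ
          have h2 := h1 φ
          have h3 : (ComodSub.Comod.quot c L hL).coact (L.mkQ v) =
              (L.mkQ).rTensor A (c.coact v) := ComodSub.quot_coact_mk c L hL v
          rw [h3] at h2
          have h4 : (L.mkQ v) ⊗ₜ[k] (1 : A) = (L.mkQ).rTensor A (v ⊗ₜ[k] (1 : A)) := by simp
          rw [h4, ← map_sub, contr_rTensor] at h2
          exact h2
    · -- trivial module
      rw [not_nontrivial_iff_subsingleton] at hnt
      refine ⟨0, fun _ => ⊥, monotone_const, rfl, Subsingleton.elim _ _, fun _ => isSubcomod_bot,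
        fun i v hv => ?_⟩
      have : v = 0 := Subsingleton.elim _ _
      subst this
      simp

/-- A nontrivial comodule with a unipotent filtration has a nonzero fixed vector. -/
theorem fixedPts_ne_bot_of_hasUnipFiltration (c : HopfRep.Comod k A V) [Nontrivial V]
    (h : HasUnipFiltration c) : @HopfRep.fixedPts k A _ _ _ V _ _ c ≠ ⊥ := by
  classical
  obtain ⟨m, F, hmono, hF0, hFm, hsub, htriv⟩ := h
  have hex : ∃ i, F i ≠ ⊥ := ⟨m, by rw [hFm]; exact top_ne_bot⟩
  have hi := Nat.find_spec hex
  have hmin := fun j => Nat.find_min hex (m := j)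
  set i := Nat.find hex
  have hi0 : i ≠ 0 := by
    intro h0
    rw [h0] at hi
    exact hi hF0
  obtain ⟨j, hj⟩ := Nat.exists_eq_succ_of_ne_zero hi0
  have hFj : F j = ⊥ := by
    by_contra hne
    exact hmin j (by omega) hne
  obtain ⟨v, hvF, hv0⟩ := Submodule.exists_mem_ne_zero_of_ne_bot hi
  rw [hj] at hvF
  have h1 := htriv j v hvF
  rw [hFj, range_rTensor_bot, Submodule.mem_bot, sub_eq_zero] at h1
  intro hbot
  have hv : v ∈ @HopfRep.fixedPts k A _ _ _ V _ _ c := h1
  rw [hbot, Submodule.mem_bot] at hv
  exact hv0 hv

end Fixed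

end Groth.Agent.Lib.Comod
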