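import Groth.Agent.Lib.ComodSurj
import Groth.Agent.Lib.ComodUnip

/-!
# Comodule theory (helper41): unipotent Hopf algebras I — quotients and sub-Hopf-algebras

* `eq_zero_of_contr_eq_zero`: a tensor all of whose contractions vanish is zero.
* `coact_eq_tmul_one_of_act`: `ρ v = v ⊗ 1` iff `act φ v = φ 1 • v` for all functionals `φ`.
* `HasUnipFiltration.act_sub_mem`, `hasUnipFiltration_of_act`: unipotent filtrations via `act`.
* `hasUnipFiltration_comodAlong`: unipotent filtrations survive pushing along a bialgebra map.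
* `isUnipotent_of_surjective_of_hasUnipFiltration`: relative criterion for a quotient bialgebra.
* `isUnipotent_of_surjective`: unipotence passes to quotient bialgebras (closed subgroups).
* `isUnipotent_of_injective`: unipotence passes to sub-bialgebras (quotient groups).
-/

set_option autoImplicit false
universe u v w

open TensorProduct

namespace Groth.Agent.Lib.Comod

section Sep

variable {k : Type u} {C : Type v} [Field k] [AddCommGroup C] [Module k C]
  {V : Type w} [AddCommGroup V] [Module k V]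

/-- A tensor in `V ⊗ C` all of whose contractions vanish is zero. -/
theorem eq_zero_of_contr_eq_zero (x : V ⊗[k] C) (h : ∀ φ : C →ₗ[k] k, contr V φ x = 0) :
    x = 0 := by
  have h1 : x ∈ LinearMap.range ((⊥ : Submodule k V).subtype.rTensor C) := by
    rw [mem_range_rTensor_subtype_iff]
    intro φ
    rw [h φ]
    exact zero_mem _
  rw [range_rTensor_bot] at h1
  exact h1

end Sep

section Act

variable {k : Type u} {A : Type v} [Field k] [CommRing A] [Bialgebra k A]
  {V : Type w} [AddCommGroup V] [Module k V]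

/-- A vector is fixed as soon as every functional acts on it through its value at `1`. -/
theorem coact_eq_tmul_one_of_act (c : HopfRep.Comod k A V) (v : V)
    (h : ∀ φ : A →ₗ[k] k, @act k A _ _ _ _ V _ _ c φ v = φ 1 • v) :
    c.coact v = v ⊗ₜ[k] (1 : A) := by
  rw [← sub_eq_zero]
  apply eq_zero_of_contr_eq_zero
  intro φ
  rw [map_sub, contr_tmul, sub_eq_zero]
  exact h φ

theorem act_of_coact_eq_tmul_one (c : HopfRep.Comod k A V) (v : V)
    (h : c.coact v = v ⊗ₜ[k] (1 : A)) (φ : A →ₗ[k] k) :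
    @act k A _ _ _ _ V _ _ c φ v = φ 1 • v := by
  show contr V φ (c.coact v) = _
  rw [h, contr_tmul]

/-- In a unipotent filtration, `act φ v - φ 1 • v` drops one step. -/
theorem HasUnipFiltration.act_sub_mem {c : HopfRep.Comod k A V} {F : ℕ → Submodule k V}
    (htriv : ∀ i, ∀ v ∈ F (i + 1),
      c.coact v - v ⊗ₜ[k] (1 : A) ∈ LinearMap.range ((F i).subtype.rTensor A))
    (i : ℕ) {v : V} (hv : v ∈ F (i + 1)) (φ : A →ₗ[k] k) :
    @act k A _ _ _ _ V _ _ c φ v - φ 1 • v ∈ F i := by
  have h1 := htriv i v hv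
  rw [mem_range_rTensor_subtype_iff] at h1
  have h2 := h1 φ
  rw [map_sub, contr_tmul] at h2
  exact h2

/-- Build a unipotent filtration from the `act` description. -/
theorem hasUnipFiltration_of_act (c : HopfRep.Comod k A V) (m : ℕ) (F : ℕ → Submodule k V)
    (hmono : Monotone F) (h0 : F 0 = ⊥) (hm : F m = ⊤)
    (h : ∀ i, ∀ v ∈ F (i + 1), ∀ φ : A →ₗ[k] k,
      @act k A _ _ _ _ V _ _ c φ v - φ 1 • v ∈ F i) : HasUnipFiltration c := by
  refine ⟨m, F, hmono, h0, hm, ?_, ?_⟩
  · intro i
    let _ := c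
    rw [isSubcomod_iff_act]
    intro φ v hv
    have h1 := h i v (hmono (Nat.le_succ i) hv) φ
    have h2 : act V φ v = (act V φ v - φ 1 • v) + φ 1 • v := by abel
    rw [h2]
    exact add_mem h1 ((F i).smul_mem _ hv)
  · intro i v hv
    rw [mem_range_rTensor_subtype_iff]
    intro φ
    rw [map_sub, contr_tmul]
    exact h i v hv φ

end Act

section Surj

variable {k : Type u} [Field k] {A B : Type v} [CommRing A] [Bialgebra k A] [CommRing B]
  [Bialgebra k B]

/-- A unipotent filtration stays one after pushing the comodule along a bialgebra map. -/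
theorem hasUnipFiltration_comodAlong {V : Type w} [AddCommGroup V] [Module k V]
    (π : A →ₐc[k] B) (c : HopfRep.Comod k A V) (h : HasUnipFiltration c) :
    HasUnipFiltration (GLin.comodAlong π c) := by
  obtain ⟨m, F, hmono, h0, hm, hsub, htriv⟩ := h
  refine hasUnipFiltration_of_act _ m F hmono h0 hm ?_
  intro i v hv φ
  rw [act_comodAlong]
  have h1 := HasUnipFiltration.act_sub_mem htriv i hv (φ ∘ₗ (π : A →ₗ[k] B))
  have h2 : (φ ∘ₗ (π : A →ₗ[k] B)) 1 = φ 1 := by
    rw [LinearMap.comp_apply]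
    congr 1
    exact map_one π
  rw [h2] at h1
  exact h1

/-- Relative criterion: if every finite-dimensional `A`-comodule, pushed along the surjection
`π : A → B`, has a unipotent filtration, then `B` is unipotent. -/
theorem isUnipotent_of_surjective_of_hasUnipFiltration (π : A →ₐc[k] B)
    (hπ : Function.Surjective π)
    (h : ∀ (W : Type v) [AddCommGroup W] [Module k W] (c : HopfRep.Comod k A W)
      [Module.Finite k W], HasUnipFiltration (GLin.comodAlong π c)) :
    HopfRep.IsUnipotent k B := by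
  classical
  intro V _ _ c hfin hnt
  -- the free comodules and the maps
  let ρ' : V →ₗ[k] Hoch.Ind k B V := Hoch.toInd k B V
  have hρ'inj : Function.Injective ρ' := toInd_injective
  have hρ'hom : Hoch.IsComodHom B ρ' := isComodHom_toInd
  let q := indMap π V
  have hq : Function.Surjective q := indMap_surjective π hπ V
  let V' : Submodule k (Hoch.Ind k B V) := LinearMap.range ρ'
  have hV'fin : Module.Finite k V' := inferInstance
  have hV'sub : HopfRep.IsSubcomod (k := k) (A := B) V' := isSubcomod_range hρ'hom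
  have hV'ne : V' ≠ ⊥ := by
    intro hbot
    obtain ⟨v, hv⟩ := exists_ne (0 : V)
    have : ρ' v ∈ V' := ⟨v, rfl⟩
    rw [hbot, Submodule.mem_bot] at this
    exact hv (hρ'inj (this.trans (map_zero ρ').symm))
  -- a finite-dimensional A-subcomodule W of Y mapping onto V'
  obtain ⟨S, hS⟩ := Module.Finite.iff_fg.1 hV'fin
  have hlift : ∀ s : Hoch.Ind k B V, ∃ y : Hoch.Ind k A V, q y = s := fun s => hq s
  choose lift hlift' using hlift
  obtain ⟨W, hWfin, hSW, hW⟩ := exists_finite_subcomod_span (k := k) (C := A)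
    (V := Hoch.Ind k A V) (S.image lift)
  have hV'W : V' ≤ W.map q := by
    rw [← hS, Submodule.span_le]
    intro s hs
    refine ⟨lift s, hSW (Submodule.subset_span ?_), hlift' s⟩
    simp only [Finset.coe_image, Set.mem_image, Finset.mem_coe]
    exact ⟨s, hs, rfl⟩
  -- the unipotent filtration of W over B
  let cW : HopfRep.Comod k A W := ComodSub.Comod.restr inferInstance W hW
  obtain ⟨m, F, hFmono, hF0, hFm, -, hFtriv⟩ := h W cW
  let Xs : ℕ → Submodule k (Hoch.Ind k B V) := fun i => ((F i).map W.subtype).map q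
  have hXs0 : Xs 0 = ⊥ := by
    show ((F 0).map W.subtype).map q = ⊥
    rw [hF0, Submodule.map_bot, Submodule.map_bot]
  have hXsm : V' ≤ Xs m := by
    show V' ≤ ((F m).map W.subtype).map q
    rw [hFm, Submodule.map_top, Submodule.range_subtype]
    exact hV'W
  have hXsstep : ∀ i, ∀ x ∈ Xs (i + 1), ∀ φ : B →ₗ[k] k,
      act (Hoch.Ind k B V) φ x - φ 1 • x ∈ Xs i := by
    rintro i _ ⟨_, ⟨w, hw, rfl⟩, rfl⟩ φ
    have h1 := HasUnipFiltration.act_sub_mem hFtriv i hw φ
    rw [act_comodAlong] at h1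
    have h2 : (W.subtype) (@act k A _ _ _ _ W _ _ cW (φ ∘ₗ (π : A →ₗ[k] B)) w) =
        act (Hoch.Ind k A V) (φ ∘ₗ (π : A →ₗ[k] B)) (W.subtype w) :=
      (IsComodHom.act_comm (ComodSub.isComodHom_subtype _ W hW) _ w).symm
    refine ⟨W.subtype (@act k A _ _ _ _ W _ _ cW (φ ∘ₗ (π : A →ₗ[k] B)) w - φ 1 • w),
      ⟨_, h1, rfl⟩, ?_⟩
    rw [map_sub, map_smul, h2, map_sub, map_smul, act_indMap]
  -- the least step meeting V'
  have hex : ∃ i, V' ⊓ Xs i ≠ ⊥ := ⟨m, by rw [inf_eq_left.2 hXsm]; exact hV'ne⟩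
  have hi := Nat.find_spec hex
  have hmin := fun j => Nat.find_min hex (m := j)
  set i := Nat.find hex
  have hi0 : i ≠ 0 := by
    intro h0
    rw [h0, hXs0, inf_bot_eq] at hi
    exact hi rfl
  obtain ⟨j, hj⟩ := Nat.exists_eq_succ_of_ne_zero hi0
  have hXj : V' ⊓ Xs j = ⊥ := by
    by_contra hne
    exact hmin j (by omega) hne
  obtain ⟨x, hx, hx0⟩ := Submodule.exists_mem_ne_zero_of_ne_bot hi
  rw [hj] at hx
  obtain ⟨⟨v, rfl⟩, hxX⟩ := hx
  have hv0 : v ≠ 0 := by
    rintro rfl
    exact hx0 (map_zero ρ')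
  have hfix : c.coact v = v ⊗ₜ[k] (1 : B) := by
    apply coact_eq_tmul_one_of_act
    intro φ
    have h1 : act (Hoch.Ind k B V) φ (ρ' v) - φ 1 • ρ' v ∈ V' ⊓ Xs j :=
      ⟨sub_mem (act_mem_of_isSubcomod hV'sub φ ⟨v, rfl⟩) (V'.smul_mem _ ⟨v, rfl⟩),
        hXsstep j _ hxX φ⟩
    rw [hXj, Submodule.mem_bot, IsComodHom.act_comm hρ'hom, ← map_smul, ← map_sub] at h1
    have h2 := hρ'inj (h1.trans (map_zero ρ').symm)
    exact sub_eq_zero.1 h2
  intro hbot
  have hv : v ∈ HopfRep.fixedPts k B V := hfix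
  rw [hbot, Submodule.mem_bot] at hv
  exact hv0 hv

/-- Unipotence passes to quotient bialgebras (closed subgroups). -/
theorem isUnipotent_of_surjective (π : A →ₐc[k] B) (hπ : Function.Surjective π)
    (hA : HopfRep.IsUnipotent k A) : HopfRep.IsUnipotent k B := by
  apply isUnipotent_of_surjective_of_hasUnipFiltration π hπ
  intro W _ _ c _
  exact hasUnipFiltration_comodAlong π c
    (hasUnipFiltration_of_isUnipotent (fun V _ _ _ hf hn => hA V hf hn) _ W c rfl)

end Surj

section Inj

variable {k : Type u} [Field k] {A C : Type v} [CommRing A] [Bialgebra k A] [CommRing C]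
  [Bialgebra k C]

/-- Unipotence passes to sub-bialgebras (quotient groups). -/
theorem isUnipotent_of_injective (ψ : C →ₐc[k] A) (hψ : Function.Injective ψ)
    (hA : HopfRep.IsUnipotent k A) : HopfRep.IsUnipotent k C := by
  intro V _ _ c hfin hnt
  have h1 := @hA V _ _ (GLin.comodAlong ψ c) hfin hnt
  obtain ⟨v, hv, hv0⟩ := Submodule.exists_mem_ne_zero_of_ne_bot h1
  have hv' : TensorProduct.map LinearMap.id (ψ : C →ₗ[k] A) (c.coact v) = v ⊗ₜ[k] (1 : A) := hv
  have hinj : Function.Injective (TensorProduct.map (LinearMap.id : V →ₗ[k] V) (ψ : C →ₗ[k] A)) :=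
    Module.Flat.lTensor_preserves_injective_linearMap (M := V) (ψ : C →ₗ[k] A) hψ
  have hfix : c.coact v = v ⊗ₜ[k] (1 : C) := by
    apply hinj
    rw [hv', TensorProduct.map_tmul, LinearMap.id_apply]
    congr 1
    exact (map_one ψ).symm
  intro hbot
  have hv2 : v ∈ HopfRep.fixedPts k C V := hfix
  rw [hbot, Submodule.mem_bot] at hv2
  exact hv0 hv2

end Inj

end Groth.Agent.Lib.Comod
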