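import Groth.Agent.Lib.HopfFlat41b

/-!
# Consequences of Takeuchi faithful flatness (helper41)

* `conv_mul_antipode`: `g * (g ∘ S) = 1` for points of a commutative Hopf algebra.
* `includeLeft_eq_includeRight`: if `f(K⁺) H = H⁺` the two inclusions `H → H ⊗[K] H` agree.
* `surjective_of_faithfullyFlat_of_tmul_comm`: faithfully flat + `s ⊗ 1 = 1 ⊗ s` implies surjective.
* `bijective_of_injective_of_map_augIdeal_eq`: injective bialgebra map with trivial kernel is
  bijective (no finiteness needed).
-/

set_option autoImplicit false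
universe u v w x

namespace Groth.Agent.Lib.HopfFlat41

open TensorProduct WithConv

section

variable {k : Type u} [Field k] {H : Type w} [CommRing H] [HopfAlgebra k H]

/-- For a point `g` of a commutative Hopf algebra, `g ∘ S` is a right inverse for convolution. -/
theorem conv_mul_antipode {T : Type x} [CommRing T] [Algebra k T] (g : H →ₐ[k] T) :
    toConv g * toConv (g.comp (HopfAlgebra.antipodeAlgHom k H)) = 1 := by
  have hH : (Algebra.TensorProduct.lmul' k).comp (Algebra.TensorProduct.map g g) =
      g.comp (Algebra.TensorProduct.lmul' k) := by ext <;> simp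
  trans toConv <| ((Algebra.TensorProduct.lmul' k).comp
      (Algebra.TensorProduct.map g g)).comp
    ((Algebra.TensorProduct.map (.id _ _)
    (HopfAlgebra.antipodeAlgHom k H)).comp (Bialgebra.comulAlgHom k H))
  · rw [AlgHom.comp_assoc, ← AlgHom.comp_assoc (Algebra.TensorProduct.map g g),
      ← Algebra.TensorProduct.map_comp]; rfl
  rw [hH, AlgHom.comp_assoc, WithConv.ext_iff, ← AlgHom.toLinearMap_injective.eq_iff]
  change g.toLinearMap.comp
      (toConv LinearMap.id * toConv (HopfAlgebraStruct.antipode k (A := H))).ofConv =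
    ofConv (1 : WithConv <| H →ₗ[k] T)
  rw [LinearMap.id_mul_antipode]
  ext
  simp

end

section Epi

variable {k : Type u} [Field k] {K : Type v} {H : Type w} [CommRing K] [CommRing H]
  [HopfAlgebra k K] [HopfAlgebra k H] [Algebra K H] [IsScalarTower k K H]

/-- If the kernel of `Spec H → Spec K` is trivial (`K⁺ H = H⁺`), the two inclusions
`H → H ⊗[K] H` agree. -/
theorem includeLeft_eq_includeRight (f : K →ₐc[k] H) (hfa : ∀ a, algebraMap K H a = f a)
    (hker : Ideal.map f (RingHom.ker (Bialgebra.counitAlgHom k K)) =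
      RingHom.ker (Bialgebra.counitAlgHom k H)) :
    (Algebra.TensorProduct.includeLeft : H →ₐ[k] H ⊗[K] H) =
      (Algebra.TensorProduct.includeRight : H →ₐ[K] H ⊗[K] H).restrictScalars k := by
  set i₁ : H →ₐ[k] H ⊗[K] H := Algebra.TensorProduct.includeLeft with hi₁
  set i₂ : H →ₐ[k] H ⊗[K] H :=
    (Algebra.TensorProduct.includeRight : H →ₐ[K] H ⊗[K] H).restrictScalars k with hi₂
  -- `Γ = (i₁ ∘ S) * i₂`
  let Γ : WithConv (H →ₐ[k] H ⊗[K] H) :=
    toConv (i₁.comp (HopfAlgebra.antipodeAlgHom k H)) * toConv i₂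
  have h12 : i₁.comp (f : K →ₐ[k] H) = i₂.comp (f : K →ₐ[k] H) := by
    ext a
    show ((f a) ⊗ₜ[K] (1 : H) : H ⊗[K] H) = (1 : H) ⊗ₜ[K] (f a)
    rw [← hfa, Algebra.algebraMap_eq_smul_one, TensorProduct.smul_tmul]
  -- `Γ ∘ f = 1`
  have hΓf : Γ.ofConv.comp (f : K →ₐ[k] H) = (1 : WithConv (K →ₐ[k] H ⊗[K] H)).ofConv := by
    have h1 := AlgHom.convMul_comp_bialgHom_distrib
      (toConv (i₁.comp (HopfAlgebra.antipodeAlgHom k H))) (toConv i₂) f
    rw [show Γ.ofConv.comp (f : K →ₐ[k] H) = _ from h1]
    have h2 : (i₁.comp (HopfAlgebra.antipodeAlgHom k H)).comp (f : K →ₐ[k] H) =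
        (i₁.comp (f : K →ₐ[k] H)).comp (HopfAlgebra.antipodeAlgHom k K) := by
      ext a
      simp only [AlgHom.comp_apply, HopfAlgebra.antipodeAlgHom_apply]
      congr 1
      exact (bialgHom_antipode f a).symm
    rw [h2, ← h12, conv_antipode_mul]
  -- hence `Γ = 1`
  have hΓ : Γ = 1 := by
    apply WithConv.ofConv_injective
    ext z
    have hz : z - algebraMap k H (CoalgebraStruct.counit (R := k) z) ∈
        RingHom.ker (Bialgebra.counitAlgHom k H) := by
      rw [RingHom.mem_ker, map_sub, Bialgebra.counitAlgHom_apply, AlgHom.commutes]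
      simp
    rw [← hker] at hz
    have hle : Ideal.map f (RingHom.ker (Bialgebra.counitAlgHom k K)) ≤
        RingHom.ker (Γ.ofConv : H →+* H ⊗[K] H) := by
      rw [Ideal.map_le_iff_le_comap]
      intro b hb
      rw [Ideal.mem_comap, RingHom.mem_ker]
      have := AlgHom.congr_fun hΓf b
      rw [AlgHom.comp_apply] at this
      refine this.trans ?_
      rw [RingHom.mem_ker, Bialgebra.counitAlgHom_apply] at hb
      simp [AlgHom.convOne_def, hb]
    have h0 := hle hz
    rw [RingHom.mem_ker, map_sub, sub_eq_zero] at h0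
    refine h0.trans ?_
    simp [AlgHom.convOne_def]
  -- `i₂ = i₁ * Γ = i₁`
  have h3 : toConv i₁ * Γ = toConv i₂ := by
    show toConv i₁ * (toConv (i₁.comp (HopfAlgebra.antipodeAlgHom k H)) * toConv i₂) = _
    rw [← mul_assoc, conv_mul_antipode, one_mul]
  rw [hΓ, mul_one] at h3
  exact WithConv.toConv_injective h3

end Epi

section Surj

/-- A faithfully flat ring map for which the two inclusions into `S ⊗[R] S` agree is surjective. -/
theorem surjective_of_faithfullyFlat_of_tmul_comm {R : Type v} {S : Type w} [CommRing R] [CommRing S]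
    [Algebra R S] [Module.FaithfullyFlat R S]
    (h : ∀ s : S, (s ⊗ₜ[R] (1 : S) : S ⊗[R] S) = (1 : S) ⊗ₜ[R] s) :
    Function.Surjective (algebraMap R S) := by
  have hsurj : Function.Surjective ((Algebra.linearMap R S).lTensor S) := by
    intro t
    induction t using TensorProduct.induction_on with
    | zero => exact ⟨0, map_zero _⟩
    | add x y hx hy =>
      obtain ⟨x', rfl⟩ := hx
      obtain ⟨y', rfl⟩ := hy
      exact ⟨x' + y', map_add _ _ _⟩
    | tmul a a'' =>
      refine ⟨(a * a'') ⊗ₜ[R] (1 : R), ?_⟩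
      rw [LinearMap.lTensor_tmul, Algebra.linearMap_apply, map_one]
      calc ((a * a'') ⊗ₜ[R] (1 : S) : S ⊗[R] S)
          = (a ⊗ₜ[R] (1 : S)) * (a'' ⊗ₜ[R] (1 : S)) := by
            rw [Algebra.TensorProduct.tmul_mul_tmul, mul_one]
        _ = (a ⊗ₜ[R] (1 : S)) * ((1 : S) ⊗ₜ[R] a'') := by rw [h a'']
        _ = a ⊗ₜ[R] a'' := by rw [Algebra.TensorProduct.tmul_mul_tmul, mul_one, one_mul]
  exact (Module.FaithfullyFlat.lTensor_surjective_iff_surjective R S _).1 hsurj

end Surj

section Bij

variable {k : Type u} [Field k] {K : Type v} {H : Type w} [CommRing K] [CommRing H]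
  [HopfAlgebra k K] [HopfAlgebra k H]

/-- An injective bialgebra map of commutative Hopf algebras over a field with trivial kernel
(`f(K⁺) H = H⁺`) is bijective. -/
theorem bijective_of_injective_of_map_augIdeal_eq (f : K →ₐc[k] H) (hinj : Function.Injective f)
    (hker : Ideal.map f (RingHom.ker (Bialgebra.counitAlgHom k K)) =
      RingHom.ker (Bialgebra.counitAlgHom k H)) : Function.Bijective f := by
  refine ⟨hinj, ?_⟩
  let _ : Algebra K H := (f : K →+* H).toAlgebra
  have : IsScalarTower k K H :=
    IsScalarTower.of_algebraMap_eq fun r => (AlgHomClass.commutes f r).symm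
  have hff : Module.FaithfullyFlat K H :=
    faithfullyFlat_of_isBialgMap (isBialgMap_of_bialgHom f fun _ => rfl) hinj
  have h := includeLeft_eq_includeRight f (fun _ => rfl) hker
  exact surjective_of_faithfullyFlat_of_tmul_comm fun s => AlgHom.congr_fun h s

end Bij

end Groth.Agent.Lib.HopfFlat41
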