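import Groth.Agent.Lib.ComodUnip41b
import Groth.Agent.Lib.HopfFlat41c
import Mathlib.RingTheory.HopfAlgebra.Quotient

/-!
# Comodule theory (helper41): unipotent Hopf algebras II — extensions

* `mem_range_algebraMap_of_tmul_comm`: faithfully flat descent for elements.
* `mem_range_of_coinv`: for an injective bialgebra map `f : K → H` of commutative Hopf algebras over
  a field and `J = f(K⁺) H`, the right `H/J`-coinvariants of `H` are exactly the image of `f`.
-/

set_option autoImplicit false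
universe u v w x

open TensorProduct

namespace Groth.Agent.Lib.HopfFlat41

open WithConv

section Descent

/-- Faithfully flat descent for elements: `s ⊗ 1 = 1 ⊗ s` in `S ⊗[R] S` forces `s ∈ R`. -/
theorem mem_range_algebraMap_of_tmul_comm {R : Type v} {S : Type w} [CommRing R] [CommRing S]
    [Algebra R S] [Module.FaithfullyFlat R S] (s : S)
    (h : (s ⊗ₜ[R] (1 : S) : S ⊗[R] S) = (1 : S) ⊗ₜ[R] s) :
    s ∈ Set.range (algebraMap R S) := by
  let P : Submodule R S := LinearMap.range (Algebra.linearMap R S)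
  have h1 : (P.mkQ.lTensor S) (s ⊗ₜ[R] (1 : S)) = 0 := by
    rw [LinearMap.lTensor_tmul]
    have : P.mkQ 1 = 0 := by
      rw [Submodule.mkQ_apply, Submodule.Quotient.mk_eq_zero]
      exact ⟨1, by simp⟩
    rw [this, TensorProduct.tmul_zero]
  rw [h, LinearMap.lTensor_tmul, Module.FaithfullyFlat.one_tmul_eq_zero_iff] at h1
  rw [Submodule.mkQ_apply, Submodule.Quotient.mk_eq_zero] at h1
  obtain ⟨r, hr⟩ := h1
  exact ⟨r, hr⟩

end Descent

section Coinv

variable {k : Type u} [Field k] {K : Type v} {H : Type w} [CommRing K] [CommRing H]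
  [HopfAlgebra k K] [HopfAlgebra k H] [Algebra K H] [IsScalarTower k K H]

/-- If `a` is right coinvariant under `H / f(K⁺)H`, then `a ⊗ 1 = 1 ⊗ a` in `H ⊗[K] H`. -/
theorem includeLeft_eq_includeRight_of_coinv (f : K →ₐc[k] H)
    (hfa : ∀ a, algebraMap K H a = f a) (J : Ideal H)
    (hJ : J = Ideal.map f (RingHom.ker (Bialgebra.counitAlgHom k K))) (a : H)
    (ha : Algebra.TensorProduct.map (AlgHom.id k H) (Ideal.Quotient.mkₐ k J)
      (CoalgebraStruct.comul (R := k) a) = a ⊗ₜ[k] (1 : H ⧸ J)) :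
    (a ⊗ₜ[K] (1 : H) : H ⊗[K] H) = (1 : H) ⊗ₜ[K] a := by
  set i₁ : H →ₐ[k] H ⊗[K] H := Algebra.TensorProduct.includeLeft with hi₁
  set i₂ : H →ₐ[k] H ⊗[K] H :=
    (Algebra.TensorProduct.includeRight : H →ₐ[K] H ⊗[K] H).restrictScalars k with hi₂
  -- `Γ = (i₁ ∘ S) * i₂`
  let Γ : WithConv (H →ₐ[k] H ⊗[K] H) :=
    toConv (i₁.comp (HopfAlgebra.antipodeAlgHom k H)) * toConv i₂
  have h12 : i₁.comp (f : K →ₐ[k] H) = i₂.comp (f : K →ₐ[k] H) := by
    ext a
    show ((f a) ⊗ₜ[K] (1 : H) : H ⊗[K] H) = (1 : H) ⊗ₜ[K] (f a)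
    rw [← hfa, Algebra.algebraMap_eq_smul_one, TensorProduct.smul_tmul]
  -- `Γ ∘ f = 1`
  have hΓf : Γ.ofConv.comp (f : K →ₐ[k] H) = (1 : WithConv (K →ₐ[k] H ⊗[K] H)).ofConv := by
    have h1 := AlgHom.convMul_comp_bialgHom_distrib
      (toConv (i₁.comp (HopfAlgebra.antipodeAlgHom k H))) (toConv i₂) f
    rw [show Γ.ofConv.comp (f : K →ₐ[k] H) = _ from h1]
    have h2 : (i₁.comp (HopfAlgebra.antipodeAlgHom k H)).comp (f : K →ₐ[k] H) =
        (i₁.comp (f : K →ₐ[k] H)).comp (HopfAlgebra.antipodeAlgHom k K) := by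
      ext a
      simp only [AlgHom.comp_apply, HopfAlgebra.antipodeAlgHom_apply]
      congr 1
      exact (bialgHom_antipode f a).symm
    rw [h2, ← h12, conv_antipode_mul]
  -- `Γ` kills `J`
  have hle : J ≤ RingHom.ker (Γ.ofConv : H →+* H ⊗[K] H) := by
    rw [hJ, Ideal.map_le_iff_le_comap]
    intro b hb
    rw [Ideal.mem_comap, RingHom.mem_ker]
    have := AlgHom.congr_fun hΓf b
    rw [AlgHom.comp_apply] at this
    refine this.trans ?_
    rw [RingHom.mem_ker, Bialgebra.counitAlgHom_apply] at hb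
    simp [AlgHom.convOne_def, hb]
  -- `Γ` factors through `H ⧸ J`
  let Γbar : H ⧸ J →ₐ[k] H ⊗[K] H := Ideal.Quotient.liftₐ J Γ.ofConv (fun x hx => hle hx)
  have hΓbar : Γbar.comp (Ideal.Quotient.mkₐ k J) = Γ.ofConv :=
    Ideal.Quotient.liftₐ_comp J Γ.ofConv (fun x hx => hle hx)
  -- `i₂ = i₁ * Γ`
  have h3 : toConv i₁ * Γ = toConv i₂ := by
    show toConv i₁ * (toConv (i₁.comp (HopfAlgebra.antipodeAlgHom k H)) * toConv i₂) = _
    rw [← mul_assoc, conv_mul_antipode, one_mul]
  let Θ : H ⊗[k] (H ⧸ J) →ₐ[k] H ⊗[K] H :=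
    Algebra.TensorProduct.lift i₁ Γbar (fun _ _ => .all _ _)
  have hΘ : Θ.comp (Algebra.TensorProduct.map (AlgHom.id k H) (Ideal.Quotient.mkₐ k J)) =
      Algebra.TensorProduct.lift i₁ Γ.ofConv (fun _ _ => .all _ _) := by
    ext x
    · simp [Θ]
    · simp only [Θ, AlgHom.comp_apply, Algebra.TensorProduct.includeRight_apply,
        Algebra.TensorProduct.map_tmul, map_one, Algebra.TensorProduct.lift_tmul, one_mul,
        AlgHom.coe_restrictScalars']
      exact AlgHom.congr_fun hΓbar x
  have h4 : i₂ a = Θ (Algebra.TensorProduct.map (AlgHom.id k H) (Ideal.Quotient.mkₐ k J)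
      (CoalgebraStruct.comul (R := k) a)) := by
    rw [← AlgHom.comp_apply, hΘ, ← AlgHom.convMul_apply, ofConv_toConv]
    have := congrArg (fun g => g.ofConv a) h3
    exact this.symm
  rw [ha] at h4
  have h5 : Θ (a ⊗ₜ[k] (1 : H ⧸ J)) = i₁ a := by
    simp [Θ]
  rw [h5] at h4
  exact h4.symm

end Coinv

section Coinv2

variable {k : Type u} [Field k] {K : Type v} {H : Type w} [CommRing K] [CommRing H]
  [HopfAlgebra k K] [HopfAlgebra k H]

/-- For an injective bialgebra map `f : K → H` of commutative Hopf algebras over a field and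
`J = f(K⁺) H`, every right `H/J`-coinvariant element of `H` lies in the image of `f`. -/
theorem mem_range_of_coinv (f : K →ₐc[k] H) (hinj : Function.Injective f) (J : Ideal H)
    (hJ : J = Ideal.map f (RingHom.ker (Bialgebra.counitAlgHom k K))) (a : H)
    (ha : Algebra.TensorProduct.map (AlgHom.id k H) (Ideal.Quotient.mkₐ k J)
      (CoalgebraStruct.comul (R := k) a) = a ⊗ₜ[k] (1 : H ⧸ J)) :
    a ∈ Set.range f := by
  let _ : Algebra K H := (f : K →+* H).toAlgebra
  have : IsScalarTower k K H :=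
    IsScalarTower.of_algebraMap_eq fun r => (AlgHomClass.commutes f r).symm
  have hff : Module.FaithfullyFlat K H :=
    faithfullyFlat_of_isBialgMap (isBialgMap_of_bialgHom f fun _ => rfl) hinj
  have h := includeLeft_eq_includeRight_of_coinv f (fun _ => rfl) J hJ a ha
  exact mem_range_algebraMap_of_tmul_comm a h

end Coinv2

end Groth.Agent.Lib.HopfFlat41

namespace Groth.Agent.Lib.Comod

section LContr

variable {k : Type u} [CommRing k] {V : Type w} [AddCommGroup V] [Module k V]

/-- Contraction of the left tensor factor with a linear functional. -/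
noncomputable def lcontr (X : Type x) [AddCommGroup X] [Module k X] (φ : V →ₗ[k] k) :
    V ⊗[k] X →ₗ[k] X :=
  (TensorProduct.lid k X).toLinearMap ∘ₗ φ.rTensor X

@[simp] theorem lcontr_tmul (X : Type x) [AddCommGroup X] [Module k X] (φ : V →ₗ[k] k)
    (v : V) (a : X) : lcontr X φ (v ⊗ₜ[k] a) = φ v • a := by
  simp [lcontr]

/-- Left contraction is natural in the right factor. -/
theorem lcontr_lTensor {X : Type x} [AddCommGroup X] [Module k X] {Y : Type*} [AddCommGroup Y]
    [Module k Y] (f : X →ₗ[k] Y) (φ : V →ₗ[k] k) (t : V ⊗[k] X) :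
    lcontr Y φ (f.lTensor V t) = f (lcontr X φ t) := by
  induction t using TensorProduct.induction_on with
  | zero => simp
  | add x y hx hy => simp only [map_add, hx, hy]
  | tmul v a => simp

theorem lcontr_assoc_tmul {X : Type x} [AddCommGroup X] [Module k X] {Y : Type*} [AddCommGroup Y]
    [Module k Y] (φ : V →ₗ[k] k) (t : V ⊗[k] X) (y : Y) :
    lcontr (X ⊗[k] Y) φ (TensorProduct.assoc k V X Y (t ⊗ₜ[k] y)) = lcontr X φ t ⊗ₜ[k] y := by
  induction t using TensorProduct.induction_on with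
  | zero => simp
  | add x y hx hy => simp only [TensorProduct.add_tmul, map_add, hx, hy]
  | tmul v a => simp [TensorProduct.smul_tmul']

theorem contr_comm {X : Type x} [AddCommGroup X] [Module k X] (φ : V →ₗ[k] k) (t : V ⊗[k] X) :
    contr X φ (TensorProduct.comm k V X t) = lcontr X φ t := by
  induction t using TensorProduct.induction_on with
  | zero => simp
  | add x y hx hy => simp only [map_add, hx, hy]
  | tmul v a => simp

end LContr

section LContrField

variable {k : Type u} [Field k] {V : Type w} [AddCommGroup V] [Module k V]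
  {X : Type x} [AddCommGroup X] [Module k X]

/-- Over a field, a tensor lies in `V ⊗ U` iff all its left contractions lie in `U`. -/
theorem mem_range_lTensor_subtype_iff (U : Submodule k X) (t : V ⊗[k] X) :
    t ∈ LinearMap.range (U.subtype.lTensor V) ↔ ∀ φ : V →ₗ[k] k, lcontr X φ t ∈ U := by
  have h1 : t ∈ LinearMap.range (U.subtype.lTensor V) ↔
      TensorProduct.comm k V X t ∈ LinearMap.range (U.subtype.rTensor V) := by
    constructor
    · rintro ⟨y, rfl⟩
      refine ⟨TensorProduct.comm k V U y, ?_⟩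
      induction y using TensorProduct.induction_on with
      | zero => simp
      | add x y hx hy => simp only [map_add, hx, hy]
      | tmul v a => simp
    · rintro ⟨y, hy⟩
      refine ⟨TensorProduct.comm k U V y, ?_⟩
      apply (TensorProduct.comm k V X).injective
      rw [← hy]
      clear hy
      induction y using TensorProduct.induction_on with
      | zero => simp
      | add x y hx hy => simp only [map_add, hx, hy]
      | tmul a v => simp
  rw [h1, mem_range_rTensor_subtype_iff]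
  constructor
  · intro h φ
    rw [← contr_comm]
    exact h φ
  · intro h φ
    rw [contr_comm]
    exact h φ

/-- Over a field, a tensor lies in the image of `id ⊗ ψ` iff all its left contractions lie in
the range of `ψ`. -/
theorem mem_range_lTensor_iff {Y : Type*} [AddCommGroup Y] [Module k Y] (ψ : Y →ₗ[k] X)
    (t : V ⊗[k] X) :
    t ∈ LinearMap.range (ψ.lTensor V) ↔ ∀ φ : V →ₗ[k] k, lcontr X φ t ∈ LinearMap.range ψ := by
  rw [← mem_range_lTensor_subtype_iff]
  have h1 : ψ = (LinearMap.range ψ).subtype ∘ₗ ψ.rangeRestrict := rfl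
  constructor
  · rintro ⟨y, rfl⟩
    refine ⟨ψ.rangeRestrict.lTensor V y, ?_⟩
    rw [← LinearMap.comp_apply, ← LinearMap.lTensor_comp, ← h1]
  · rintro ⟨y, rfl⟩
    obtain ⟨z, rfl⟩ := LinearMap.lTensor_surjective V (LinearMap.surjective_rangeRestrict ψ) y
    refine ⟨z, ?_⟩
    rw [← LinearMap.comp_apply ((LinearMap.range ψ).subtype.lTensor V), ← LinearMap.lTensor_comp,
      ← h1]

end LContrField

section CoeffRestrict

variable {k : Type u} [Field k] {C : Type v} {A : Type x} [CommRing C] [Bialgebra k C]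
  [CommRing A] [Bialgebra k A] {V : Type w} [AddCommGroup V] [Module k V]

theorem lTensor_map_assoc_rTensor (ψ : C →ₐc[k] A) (ρ' : V →ₗ[k] V ⊗[k] C)
    (ρ : V →ₗ[k] V ⊗[k] A) (h : ∀ v, (ψ : C →ₗ[k] A).lTensor V (ρ' v) = ρ v) (y : V ⊗[k] C) :
    (TensorProduct.map (ψ : C →ₗ[k] A) (ψ : C →ₗ[k] A)).lTensor V
      (TensorProduct.assoc k V C C (ρ'.rTensor C y)) =
    TensorProduct.assoc k V A A (ρ.rTensor A ((ψ : C →ₗ[k] A).lTensor V y)) := by
  induction y using TensorProduct.induction_on with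
  | zero => simp
  | add x y hx hy => simp only [map_add, hx, hy]
  | tmul w d =>
    simp only [LinearMap.rTensor_tmul, LinearMap.lTensor_tmul]
    rw [← h w]
    generalize ρ' w = z
    induction z using TensorProduct.induction_on with
    | zero => simp
    | add x y hx hy => simp only [TensorProduct.add_tmul, map_add, hx, hy]
    | tmul u e => simp

theorem lTensor_map_lTensor_comul (ψ : C →ₐc[k] A) (y : V ⊗[k] C) :
    (TensorProduct.map (ψ : C →ₗ[k] A) (ψ : C →ₗ[k] A)).lTensor V
      ((CoalgebraStruct.comul (R := k) (A := C)).lTensor V y) =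
    (CoalgebraStruct.comul (R := k) (A := A)).lTensor V ((ψ : C →ₗ[k] A).lTensor V y) := by
  induction y using TensorProduct.induction_on with
  | zero => simp
  | add x y hx hy => simp only [map_add, hx, hy]
  | tmul w d =>
    simp only [LinearMap.lTensor_tmul]
    congr 1
    exact CoalgHomClass.map_comp_comul_apply ψ d

theorem lTensor_counit_lTensor (ψ : C →ₐc[k] A) (y : V ⊗[k] C) :
    (CoalgebraStruct.counit (R := k) (A := A)).lTensor V ((ψ : C →ₗ[k] A).lTensor V y) =
      (CoalgebraStruct.counit (R := k) (A := C)).lTensor V y := by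
  induction y using TensorProduct.induction_on with
  | zero => simp
  | add x y hx hy => simp only [map_add, hx, hy]
  | tmul w d =>
    simp only [LinearMap.lTensor_tmul]
    congr 1
    exact CoalgHomClass.counit_comp_apply ψ d

/-- A left inverse of an injective bialgebra map, as a linear map. -/
noncomputable def linLeftInv (ψ : C →ₐc[k] A) (hψ : Function.Injective ψ) : A →ₗ[k] C :=
  Classical.choose (LinearMap.exists_leftInverse_of_injective (ψ : C →ₗ[k] A)
    (LinearMap.ker_eq_bot.2 hψ))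

theorem linLeftInv_comp (ψ : C →ₐc[k] A) (hψ : Function.Injective ψ) :
    (linLeftInv ψ hψ) ∘ₗ (ψ : C →ₗ[k] A) = LinearMap.id :=
  Classical.choose_spec (LinearMap.exists_leftInverse_of_injective (ψ : C →ₗ[k] A)
    (LinearMap.ker_eq_bot.2 hψ))

/-- The candidate coaction over `C`. -/
noncomputable def coeffRestrictCoact (ψ : C →ₐc[k] A) (hψ : Function.Injective ψ)
    (c : HopfRep.Comod k A V) : V →ₗ[k] V ⊗[k] C :=
  (linLeftInv ψ hψ).lTensor V ∘ₗ c.coact

theorem lTensor_coeffRestrictCoact (ψ : C →ₐc[k] A) (hψ : Function.Injective ψ)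
    (c : HopfRep.Comod k A V)
    (h : ∀ v, c.coact v ∈ LinearMap.range ((ψ : C →ₗ[k] A).lTensor V)) (v : V) :
    (ψ : C →ₗ[k] A).lTensor V (coeffRestrictCoact ψ hψ c v) = c.coact v := by
  obtain ⟨y, hy⟩ := h v
  rw [coeffRestrictCoact, LinearMap.comp_apply, ← hy, ← LinearMap.comp_apply
    ((linLeftInv ψ hψ).lTensor V), ← LinearMap.lTensor_comp, linLeftInv_comp,
    LinearMap.lTensor_id, LinearMap.id_apply]

/-- An `A`-comodule whose coefficients lie in the image of the injective bialgebra map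
`ψ : C → A` is a `C`-comodule. -/
@[reducible] noncomputable def coeffRestrict (ψ : C →ₐc[k] A) (hψ : Function.Injective ψ)
    (c : HopfRep.Comod k A V)
    (h : ∀ v, c.coact v ∈ LinearMap.range ((ψ : C →ₗ[k] A).lTensor V)) :
    HopfRep.Comod k C V where
  coact := coeffRestrictCoact ψ hψ c
  coassoc := by
    apply LinearMap.ext
    intro v
    simp only [LinearMap.coe_comp, LinearEquiv.coe_coe, Function.comp_apply]
    have hinj : Function.Injective
        ((TensorProduct.map (ψ : C →ₗ[k] A) (ψ : C →ₗ[k] A)).lTensor V) :=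
      Module.Flat.lTensor_preserves_injective_linearMap _
        (TensorProduct.map_injective_of_flat_flat _ _ hψ hψ)
    apply hinj
    rw [lTensor_map_assoc_rTensor ψ _ c.coact (lTensor_coeffRestrictCoact ψ hψ c h),
      lTensor_map_lTensor_comul, lTensor_coeffRestrictCoact ψ hψ c h]
    have hc := LinearMap.congr_fun c.coassoc v
    simp only [LinearMap.coe_comp, LinearEquiv.coe_coe, Function.comp_apply] at hc
    exact hc
  counit_comp := by
    apply LinearMap.ext
    intro v
    simp only [LinearMap.coe_comp, Function.comp_apply]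
    rw [← lTensor_counit_lTensor ψ, lTensor_coeffRestrictCoact ψ hψ c h]
    exact LinearMap.congr_fun c.counit_comp v

theorem lTensor_coeffRestrict_coact (ψ : C →ₐc[k] A) (hψ : Function.Injective ψ)
    (c : HopfRep.Comod k A V)
    (h : ∀ v, c.coact v ∈ LinearMap.range ((ψ : C →ₗ[k] A).lTensor V)) (v : V) :
    (ψ : C →ₗ[k] A).lTensor V ((coeffRestrict ψ hψ c h).coact v) = c.coact v :=
  lTensor_coeffRestrictCoact ψ hψ c h v

end CoeffRestrict

section KerFixed

variable {k : Type u} [Field k] {C : Type v} {A : Type x} [CommRing C] [HopfAlgebra k C]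
  [CommRing A] [HopfAlgebra k A] {V : Type w} [AddCommGroup V] [Module k V]

/-- `π ∘ ψ = η ∘ ε` for `π : A → A / ψ(C⁺)A`. -/
theorem mk_map_eq_algebraMap_counit (ψ : C →ₐc[k] A) (J : Ideal A)
    (hJ : J = Ideal.map ψ (RingHom.ker (Bialgebra.counitAlgHom k C))) (d : C) :
    Ideal.Quotient.mk J (ψ d) = algebraMap k (A ⧸ J) (CoalgebraStruct.counit (R := k) d) := by
  have h1 : d - algebraMap k C (CoalgebraStruct.counit (R := k) d) ∈
      RingHom.ker (Bialgebra.counitAlgHom k C) := by
    rw [RingHom.mem_ker, map_sub, Bialgebra.counitAlgHom_apply, AlgHom.commutes]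
    simp
  have h2 : ψ (d - algebraMap k C (CoalgebraStruct.counit (R := k) d)) ∈ J := by
    rw [hJ]
    exact Ideal.mem_map_of_mem _ h1
  rw [map_sub, AlgHomClass.commutes] at h2
  have h3 := (Ideal.Quotient.eq_zero_iff_mem).2 h2
  rw [map_sub, sub_eq_zero] at h3
  rw [h3]
  rfl

theorem lTensor_map_assoc_rTensor_quot (J : Ideal A) [J.IsHopfIdeal k]
    (ρ : V →ₗ[k] V ⊗[k] A) (y : V ⊗[k] A) :
    (TensorProduct.map (LinearMap.id : A →ₗ[k] A)
        ((Bialgebra.Quotient.mkBialgHom (R := k) J : A →ₐc[k] A ⧸ J) : A →ₗ[k] A ⧸ J)).lTensor V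
      (TensorProduct.assoc k V A A (ρ.rTensor A y)) =
    TensorProduct.assoc k V A (A ⧸ J) (ρ.rTensor (A ⧸ J)
      (((Bialgebra.Quotient.mkBialgHom (R := k) J : A →ₐc[k] A ⧸ J) : A →ₗ[k] A ⧸ J).lTensor V y)) := by
  induction y using TensorProduct.induction_on with
  | zero => simp
  | add x y hx hy => simp only [map_add, hx, hy]
  | tmul w d =>
    simp only [LinearMap.rTensor_tmul, LinearMap.lTensor_tmul]
    generalize ρ w = z
    induction z using TensorProduct.induction_on with
    | zero => simp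
    | add x y hx hy => simp only [TensorProduct.add_tmul, map_add, hx, hy]
    | tmul u e => simp

/-- The coefficients of a vector fixed by the kernel `Spec (A/J)` are right coinvariants. -/
theorem coinv_lcontr_coact (J : Ideal A) [J.IsHopfIdeal k] (c : HopfRep.Comod k A V) (v : V)
    (hv : (GLin.comodAlong (Bialgebra.Quotient.mkBialgHom (R := k) J) c).coact v =
      v ⊗ₜ[k] (1 : A ⧸ J)) (φ : V →ₗ[k] k) :
    Algebra.TensorProduct.map (AlgHom.id k A) (Ideal.Quotient.mkₐ k J)
      (CoalgebraStruct.comul (R := k) (lcontr A φ (c.coact v))) =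
        lcontr A φ (c.coact v) ⊗ₜ[k] (1 : A ⧸ J) := by
  set π' : A →ₗ[k] A ⧸ J :=
    ((Bialgebra.Quotient.mkBialgHom (R := k) J : A →ₐc[k] A ⧸ J) : A →ₗ[k] A ⧸ J) with hπ'
  have hv' : π'.lTensor V (c.coact v) = v ⊗ₜ[k] (1 : A ⧸ J) := hv
  show TensorProduct.map (LinearMap.id : A →ₗ[k] A) π'
      (CoalgebraStruct.comul (R := k) (lcontr A φ (c.coact v))) = _
  rw [← lcontr_lTensor (CoalgebraStruct.comul (R := k) (A := A)) φ (c.coact v),
    ← lcontr_lTensor (TensorProduct.map (LinearMap.id : A →ₗ[k] A) π') φ]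
  have hc := LinearMap.congr_fun c.coassoc v
  simp only [LinearMap.coe_comp, LinearEquiv.coe_coe, Function.comp_apply] at hc
  rw [← hc, lTensor_map_assoc_rTensor_quot J c.coact (c.coact v), ← hπ', hv',
    LinearMap.rTensor_tmul, lcontr_assoc_tmul]

/-- The coaction of a vector fixed by the kernel has coefficients in the image of `ψ`. -/
theorem coact_mem_range_lTensor_of_fixed (ψ : C →ₐc[k] A) (hψ : Function.Injective ψ)
    (J : Ideal A) [J.IsHopfIdeal k]
    (hJ : J = Ideal.map ψ (RingHom.ker (Bialgebra.counitAlgHom k C)))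
    (c : HopfRep.Comod k A V) (v : V)
    (hv : (GLin.comodAlong (Bialgebra.Quotient.mkBialgHom (R := k) J) c).coact v =
      v ⊗ₜ[k] (1 : A ⧸ J)) :
    c.coact v ∈ LinearMap.range ((ψ : C →ₗ[k] A).lTensor V) := by
  rw [mem_range_lTensor_iff]
  intro φ
  obtain ⟨d, hd⟩ := HopfFlat41.mem_range_of_coinv ψ hψ J hJ _ (coinv_lcontr_coact J c v hv φ)
  exact ⟨d, hd⟩

/-- `contr` intertwines a coalgebra map (universe-general version of `map_contr_eq`). -/
theorem map_contr_eq' (ψ : C →ₐc[k] A) (φ : A →ₗ[k] k) (t : C ⊗[k] C) :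
    ψ (contr C (φ ∘ₗ (ψ : C →ₗ[k] A)) t) =
      contr A φ (TensorProduct.map (ψ : C →ₗ[k] A) (ψ : C →ₗ[k] A) t) := by
  induction t using TensorProduct.induction_on with
  | zero => simp
  | add x y hx hy => simp only [map_add, hx, hy]
  | tmul a b => simp

theorem map_slice' (ψ : C →ₐc[k] A) (φ : A →ₗ[k] k) (d : C) :
    ψ (slice (φ ∘ₗ (ψ : C →ₗ[k] A)) d) = slice φ (ψ d) := by
  rw [slice, LinearMap.comp_apply, map_contr_eq', CoalgHomClass.map_comp_comul_apply, slice,
    LinearMap.comp_apply]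

theorem counit_contr (χ : C →ₗ[k] k) (t : C ⊗[k] C) :
    CoalgebraStruct.counit (R := k) (contr C χ t) =
      χ (TensorProduct.lid k C ((CoalgebraStruct.counit (R := k) (A := C)).rTensor C t)) := by
  induction t using TensorProduct.induction_on with
  | zero => simp
  | add x y hx hy => simp only [map_add, hx, hy]
  | tmul a b => simp [mul_comm]

theorem counit_slice (χ : C →ₗ[k] k) (d : C) :
    CoalgebraStruct.counit (R := k) (slice χ d) = χ d := by
  rw [slice, LinearMap.comp_apply, counit_contr, Coalgebra.rTensor_counit_comul]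
  simp

theorem lTensor_smulRight_one {B : Type*} [Ring B] [Algebra k B] (χ : C →ₗ[k] k)
    (y : V ⊗[k] C) :
    (χ.smulRight (1 : B)).lTensor V y = contr V χ y ⊗ₜ[k] (1 : B) := by
  induction y using TensorProduct.induction_on with
  | zero => simp
  | add x y hx hy => simp only [map_add, hx, hy, TensorProduct.add_tmul]
  | tmul w d => simp [TensorProduct.smul_tmul]

/-- The vectors fixed by the kernel `Spec (A / ψ(C⁺)A)` form a subcomodule (normality). -/
theorem isSubcomod_fixedPts_ker (ψ : C →ₐc[k] A) (hψ : Function.Injective ψ)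
    (J : Ideal A) [J.IsHopfIdeal k]
    (hJ : J = Ideal.map ψ (RingHom.ker (Bialgebra.counitAlgHom k C)))
    (c : HopfRep.Comod k A V) :
    @HopfRep.IsSubcomod k A _ _ _ _ V _ _ c (@HopfRep.fixedPts k (A ⧸ J) _ _ _ V _ _
      (GLin.comodAlong (Bialgebra.Quotient.mkBialgHom (R := k) J) c)) := by
  let _ := c
  rw [isSubcomod_iff_act]
  intro φ v hv
  have hv' : (GLin.comodAlong (Bialgebra.Quotient.mkBialgHom (R := k) J) c).coact v =
      v ⊗ₜ[k] (1 : A ⧸ J) := hv
  obtain ⟨y, hy⟩ := coact_mem_range_lTensor_of_fixed ψ hψ J hJ c v hv'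
  set π' : A →ₗ[k] A ⧸ J :=
    ((Bialgebra.Quotient.mkBialgHom (R := k) J : A →ₐc[k] A ⧸ J) : A →ₗ[k] A ⧸ J) with hπ'
  show π'.lTensor V (c.coact (act V φ v)) = act V φ v ⊗ₜ[k] (1 : A ⧸ J)
  have hkey : π' ∘ₗ slice φ ∘ₗ (ψ : C →ₗ[k] A) =
      (φ ∘ₗ (ψ : C →ₗ[k] A)).smulRight (1 : A ⧸ J) := by
    apply LinearMap.ext
    intro d
    simp only [LinearMap.coe_comp, Function.comp_apply, LinearMap.smulRight_apply]
    show π' (slice φ (ψ d)) = _
    rw [← map_slice']
    show Ideal.Quotient.mk J (ψ (slice (φ ∘ₗ (ψ : C →ₗ[k] A)) d)) = _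
    rw [mk_map_eq_algebraMap_counit ψ J hJ, counit_slice, Algebra.algebraMap_eq_smul_one]
    rfl
  rw [act_apply, coact_contr_coact, ← hy, ← LinearMap.comp_apply ((slice φ).lTensor V),
    ← LinearMap.lTensor_comp, ← LinearMap.comp_apply (π'.lTensor V), ← LinearMap.lTensor_comp,
    hkey, lTensor_smulRight_one]
  congr 1
  show _ = contr V φ (TensorProduct.map LinearMap.id (ψ : C →ₗ[k] A) y)
  rw [contr_map_id]

end KerFixed

section Extension

variable {k : Type u} [Field k] {C A : Type v} [CommRing C] [HopfAlgebra k C]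
  [CommRing A] [HopfAlgebra k A]

/-- Extensions of unipotent by unipotent are unipotent (Hopf-algebra form): if `ψ : C → A` is an
injective bialgebra map, `J = ψ(C⁺) A`, and both `C` and `A / J` are unipotent, so is `A`. -/
theorem isUnipotent_of_extension (ψ : C →ₐc[k] A) (hψ : Function.Injective ψ)
    (J : Ideal A) [J.IsHopfIdeal k]
    (hJ : J = Ideal.map ψ (RingHom.ker (Bialgebra.counitAlgHom k C)))
    (hC : HopfRep.IsUnipotent k C) (hQ : HopfRep.IsUnipotent k (A ⧸ J)) :
    HopfRep.IsUnipotent k A := by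
  intro V _ _ c hfin hnt
  set π : A →ₐc[k] A ⧸ J := Bialgebra.Quotient.mkBialgHom (R := k) J with hπ
  set VN : Submodule k V := @HopfRep.fixedPts k (A ⧸ J) _ _ _ V _ _ (GLin.comodAlong π c)
    with hVN
  have hVNne : VN ≠ ⊥ := @hQ V _ _ (GLin.comodAlong π c) hfin hnt
  have hVNsub : @HopfRep.IsSubcomod k A _ _ _ _ V _ _ c VN :=
    isSubcomod_fixedPts_ker ψ hψ J hJ c
  let c' : HopfRep.Comod k A VN := ComodSub.Comod.restr c VN hVNsub
  have hfix' : ∀ w : VN, (GLin.comodAlong π c').coact w = w ⊗ₜ[k] (1 : A ⧸ J) := by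
    intro w
    apply ComodSub.rTensor_subtype_injective (A := A ⧸ J) VN
    have hw : (GLin.comodAlong π c).coact (w : V) = (w : V) ⊗ₜ[k] (1 : A ⧸ J) := w.2
    rw [LinearMap.rTensor_tmul, Submodule.subtype_apply, ← hw]
    show VN.subtype.rTensor (A ⧸ J) ((π : A →ₗ[k] A ⧸ J).lTensor VN (c'.coact w)) =
      (π : A →ₗ[k] A ⧸ J).lTensor V (c.coact (w : V))
    rw [← ComodSub.restr_coact_coe c VN hVNsub w]
    generalize (ComodSub.Comod.restr c VN hVNsub).coact w = z
    induction z using TensorProduct.induction_on with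
    | zero => simp
    | add x y hx hy => simp only [map_add, hx, hy]
    | tmul u a => simp
  have hrange : ∀ w : VN, c'.coact w ∈ LinearMap.range ((ψ : C →ₗ[k] A).lTensor VN) :=
    fun w => coact_mem_range_lTensor_of_fixed ψ hψ J hJ c' w (hfix' w)
  let c'' : HopfRep.Comod k C VN := coeffRestrict ψ hψ c' hrange
  have hnt' : Nontrivial VN := Submodule.nontrivial_iff_ne_bot.2 hVNne
  have h1 := @hC VN _ _ c'' inferInstance hnt'
  obtain ⟨w, hw, hw0⟩ := Submodule.exists_mem_ne_zero_of_ne_bot h1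
  have hw' : c''.coact w = w ⊗ₜ[k] (1 : C) := hw
  have h2 : c'.coact w = w ⊗ₜ[k] (1 : A) := by
    rw [← lTensor_coeffRestrict_coact ψ hψ c' hrange w, hw', LinearMap.lTensor_tmul]
    congr 1
    exact map_one ψ
  have h3 : c.coact (w : V) = (w : V) ⊗ₜ[k] (1 : A) := by
    rw [← ComodSub.restr_coact_coe c VN hVNsub w, h2, LinearMap.rTensor_tmul]
    rfl
  intro hbot
  have h4 : (w : V) ∈ HopfRep.fixedPts k A V := h3
  rw [hbot, Submodule.mem_bot] at h4
  exact hw0 (Subtype.ext h4)

end Extension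

end Groth.Agent.Lib.Comod
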