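import Groth.Agent.Lib.ComodUnip41c
import Groth.Agent.Lib.ComodDiag

/-!
# Comodule theory (helper41): unipotent Hopf algebras III — trigonalizable groups

* `isGroupLikeElem_of_coact_eq_tmul`: the character of a nonzero eigenvector is group-like.
* `exists_eigenvector_of_isTrigonalizable`: nonzero f.d. comodules of a trigonalizable group
  have an eigenvector.
* `hasUnipFiltration_comodAlong_of_exists_fixed`: relative existence of unipotent filtrations.
* `isHopfIdeal_map_augIdeal`: `ψ(C⁺) A` is a Hopf ideal.
-/

set_option autoImplicit false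
universe u v w x

open TensorProduct

namespace Groth.Agent.Lib.Comod

section Eigen

variable {k : Type u} [Field k] {A : Type v} [CommRing A] [Bialgebra k A]
  {V : Type w} [AddCommGroup V] [Module k V]

/-- Cancel a nonzero vector on the left of a pure tensor. -/
theorem tmul_left_cancel {X : Type x} [AddCommGroup X] [Module k X] {v : V} (hv : v ≠ 0)
    {a b : X} (h : v ⊗ₜ[k] a = v ⊗ₜ[k] b) : a = b := by
  obtain ⟨φ, hφ⟩ : ∃ φ : V →ₗ[k] k, φ v = 1 := by
    obtain ⟨φ, hφ⟩ := LinearMap.exists_extend (p := Submodule.span k {v})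
      ((LinearEquiv.toSpanNonzeroSingleton k V v hv).symm.toLinearMap)
    refine ⟨φ, ?_⟩
    have h1 := LinearMap.congr_fun hφ ⟨v, Submodule.mem_span_singleton_self v⟩
    simp only [LinearMap.coe_comp, Submodule.coe_subtype, Function.comp_apply] at h1
    rw [h1]
    have h2 : (LinearEquiv.toSpanNonzeroSingleton k V v hv) 1 =
        ⟨v, Submodule.mem_span_singleton_self v⟩ := by
      apply Subtype.ext
      simp
    rw [LinearEquiv.coe_coe, ← h2, LinearEquiv.symm_apply_apply]
  have := congrArg (lcontr X φ) h
  simpa [hφ] using this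

/-- The character of a nonzero eigenvector is group-like. -/
theorem isGroupLikeElem_of_coact_eq_tmul (c : HopfRep.Comod k A V) {v : V} (hv : v ≠ 0) {g : A}
    (h : c.coact v = v ⊗ₜ[k] g) : IsGroupLikeElem k g := by
  constructor
  · have h1 := LinearMap.congr_fun c.counit_comp v
    simp only [LinearMap.coe_comp, Function.comp_apply, h, LinearMap.lTensor_tmul,
      LinearMap.flip_apply, TensorProduct.mk_apply] at h1
    exact tmul_left_cancel hv h1
  · have h1 := LinearMap.congr_fun c.coassoc v
    simp only [LinearMap.coe_comp, LinearEquiv.coe_coe, Function.comp_apply, h,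
      LinearMap.rTensor_tmul, LinearMap.lTensor_tmul, TensorProduct.assoc_tmul] at h1
    exact (tmul_left_cancel hv h1).symm

/-- Nonzero finite-dimensional comodules of a trigonalizable group have an eigenvector. -/
theorem exists_eigenvector_of_isTrigonalizable
    (hT : ∀ (V : Type w) [AddCommGroup V] [Module k V] [HopfRep.Comod k A V],
      Module.Finite k V → HopfRep.IsSimpleComod k A V → Module.finrank k V = 1)
    (c : HopfRep.Comod k A V) [Module.Finite k V] [Nontrivial V] :
    ∃ (v : V) (g : A), v ≠ 0 ∧ IsGroupLikeElem k g ∧ c.coact v = v ⊗ₜ[k] g := by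
  obtain ⟨L, hL, hne, hmin⟩ := exists_minimal_subcomod c
  have hsimple := isSimpleComod_restr_of_minimal c L hL hne hmin
  have h1 : Module.finrank k L = 1 := @hT L _ _ (ComodSub.Comod.restr c L hL) inferInstance hsimple
  obtain ⟨v₀, hv₀, hgen⟩ := finrank_eq_one_iff'.1 h1
  have hpure : ∀ t : L ⊗[k] A, ∃ a : A, t = v₀ ⊗ₜ[k] a := by
    intro t
    induction t using TensorProduct.induction_on with
    | zero => exact ⟨0, by simp⟩
    | add x y hx hy =>
      obtain ⟨a, rfl⟩ := hx
      obtain ⟨b, rfl⟩ := hy
      exact ⟨a + b, by rw [TensorProduct.tmul_add]⟩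
    | tmul w a =>
      obtain ⟨r, rfl⟩ := hgen w
      exact ⟨r • a, by rw [TensorProduct.smul_tmul]⟩
  obtain ⟨g, hg⟩ := hpure ((ComodSub.Comod.restr c L hL).coact v₀)
  have h2 : c.coact (v₀ : V) = (v₀ : V) ⊗ₜ[k] g := by
    rw [← ComodSub.restr_coact_coe c L hL v₀, hg, LinearMap.rTensor_tmul]
    rfl
  have hv : (v₀ : V) ≠ 0 := fun h0 => hv₀ (Subtype.ext h0)
  exact ⟨v₀, g, hv, isGroupLikeElem_of_coact_eq_tmul c hv h2, h2⟩

end Eigen

section Relative

variable {k : Type u} [Field k] {A : Type v} {B : Type x} [CommRing A] [Bialgebra k A]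
  [CommRing B] [Bialgebra k B]

/-- Relative existence of unipotent filtrations: if every nonzero finite-dimensional `A`-comodule
contains a nonzero `A`-subcomodule fixed by `Spec B`, then every finite-dimensional `A`-comodule,
viewed over `B`, has a unipotent filtration. -/
theorem hasUnipFiltration_comodAlong_of_exists_fixed (π : A →ₐc[k] B)
    (h : ∀ (W : Type w) [AddCommGroup W] [Module k W] (c : HopfRep.Comod k A W),
      Module.Finite k W → Nontrivial W →
      ∃ L : Submodule k W, L ≠ ⊥ ∧ @HopfRep.IsSubcomod k A _ _ _ _ W _ _ c L ∧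
        ∀ v ∈ L, (GLin.comodAlong π c).coact v = v ⊗ₜ[k] (1 : B)) :
    ∀ (n : ℕ) (W : Type w) [AddCommGroup W] [Module k W] (c : HopfRep.Comod k A W)
      [Module.Finite k W], Module.finrank k W = n → HasUnipFiltration (GLin.comodAlong π c) := by
  intro n
  induction n using Nat.strong_induction_on with
  | _ n ih =>
    intro W _ _ c _ hn
    by_cases hnt : Nontrivial W
    · obtain ⟨L, hLne, hL, hLfix⟩ := h W c inferInstance hnt
      have hLpos : 0 < Module.finrank k L := by
        rw [Module.finrank_pos_iff]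
        exact Submodule.nontrivial_iff_ne_bot.2 hLne
      have hQ : Module.finrank k (W ⧸ L) < n := by
        have := Submodule.finrank_quotient_add_finrank L
        omega
      obtain ⟨m, G, hGmono, hG0, hGm, -, hGtriv⟩ :=
        ih _ hQ (W ⧸ L) (ComodSub.Comod.quot c L hL) rfl
      refine hasUnipFiltration_of_act _ (m + 1) (fun i => match i with
        | 0 => ⊥
        | (j + 1) => (G j).comap L.mkQ) ?_ rfl ?_ ?_
      · apply monotone_nat_of_le_succ
        intro i
        cases i with
        | zero => exact bot_le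
        | succ j => exact Submodule.comap_mono (hGmono (Nat.le_succ j))
      · show (G m).comap L.mkQ = ⊤
        rw [hGm, Submodule.comap_top]
      · intro i v hv φ
        cases i with
        | zero =>
          have hv' : v ∈ (G 0).comap L.mkQ := hv
          rw [hG0, Submodule.comap_bot, Submodule.ker_mkQ] at hv'
          rw [act_of_coact_eq_tmul_one _ v (hLfix v hv') φ, sub_self]
          exact zero_mem _
        | succ j =>
          have hv' : L.mkQ v ∈ G (j + 1) := hv
          have h1 := HasUnipFiltration.act_sub_mem hGtriv j hv' φ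
          show L.mkQ _ ∈ G j
          rw [act_comodAlong] at h1 ⊢
          have h2 := @IsComodHom.act_comm k A _ _ _ _ W _ _ c (W ⧸ L) _ _
            (ComodSub.Comod.quot c L hL) _ (ComodSub.isComodHom_mkQ c L hL)
            (φ ∘ₗ (π : A →ₗ[k] B)) v
          rw [h2] at h1
          rw [map_sub, map_smul]
          exact h1
    · rw [not_nontrivial_iff_subsingleton] at hnt
      refine ⟨0, fun _ => ⊥, monotone_const, rfl, Subsingleton.elim _ _,
        fun _ => @isSubcomod_bot k B _ _ _ _ W _ _ (GLin.comodAlong π c), fun i v hv => ?_⟩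
      have : v = 0 := Subsingleton.elim _ _
      subst this
      simp

end Relative

section HopfIdeal

variable {k : Type u} [Field k] {C : Type v} {A : Type x} [CommRing C] [HopfAlgebra k C]
  [CommRing A] [HopfAlgebra k A]

theorem map_counit_counit_comul (b : C) :
    TensorProduct.map (CoalgebraStruct.counit (R := k) (A := C))
      (CoalgebraStruct.counit (R := k) (A := C)) (CoalgebraStruct.comul (R := k) b) =
      (1 : k) ⊗ₜ[k] CoalgebraStruct.counit (R := k) b := by
  have h1 := Coalgebra.rTensor_counit_comul (R := k) b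
  have h2 := congrArg ((CoalgebraStruct.counit (R := k) (A := C)).lTensor k) h1
  rw [← LinearMap.comp_apply, LinearMap.lTensor_comp_rTensor, LinearMap.lTensor_tmul] at h2
  exact h2

/-- For a bialgebra map `ψ : C → A` of commutative Hopf algebras, `ψ(C⁺) A` is a Hopf ideal. -/
theorem isHopfIdeal_map_augIdeal (ψ : C →ₐc[k] A) :
    (Ideal.map ψ (RingHom.ker (Bialgebra.counitAlgHom k C))).IsHopfIdeal k := by
  set J : Ideal A := Ideal.map ψ (RingHom.ker (Bialgebra.counitAlgHom k C)) with hJ
  have hcounit : J ≤ RingHom.ker (Bialgebra.counitAlgHom k A) := by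
    refine hJ.le.trans (Ideal.map_le_iff_le_comap.2 ?_)
    intro b hb
    rw [RingHom.mem_ker, Bialgebra.counitAlgHom_apply] at hb
    rw [Ideal.mem_comap, RingHom.mem_ker, Bialgebra.counitAlgHom_apply,
      CoalgHomClass.counit_comp_apply, hb]
  let Φ : A →ₐ[k] (A ⧸ J) ⊗[k] (A ⧸ J) :=
    (Algebra.TensorProduct.map (Ideal.Quotient.mkₐ k J) (Ideal.Quotient.mkₐ k J)).comp
      (Bialgebra.comulAlgHom k A)
  have hcomul : J ≤ RingHom.ker (Φ : A →+* (A ⧸ J) ⊗[k] (A ⧸ J)) := by
    refine hJ.le.trans (Ideal.map_le_iff_le_comap.2 ?_)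
    intro b hb
    rw [RingHom.mem_ker, Bialgebra.counitAlgHom_apply] at hb
    rw [Ideal.mem_comap, RingHom.mem_ker]
    show TensorProduct.map (Ideal.Quotient.mkₐ k J).toLinearMap (Ideal.Quotient.mkₐ k J).toLinearMap
      (CoalgebraStruct.comul (R := k) (ψ b)) = 0
    rw [← CoalgHomClass.map_comp_comul_apply ψ b, ← LinearMap.comp_apply,
      ← TensorProduct.map_comp]
    have hπψ : (Ideal.Quotient.mkₐ k J).toLinearMap ∘ₗ (ψ : C →ₗ[k] A) =
        Algebra.linearMap k (A ⧸ J) ∘ₗ CoalgebraStruct.counit (R := k) (A := C) := by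
      apply LinearMap.ext
      intro d
      exact mk_map_eq_algebraMap_counit ψ J hJ d
    rw [hπψ, TensorProduct.map_comp, LinearMap.comp_apply, map_counit_counit_comul, hb,
      TensorProduct.tmul_zero, map_zero]
  have hanti : J ≤ Ideal.comap (HopfAlgebra.antipodeAlgHom k A) J := by
    refine hJ.le.trans (Ideal.map_le_iff_le_comap.2 ?_)
    intro b hb
    rw [RingHom.mem_ker, Bialgebra.counitAlgHom_apply] at hb
    rw [Ideal.mem_comap, Ideal.mem_comap, HopfAlgebra.antipodeAlgHom_apply,
      ← HopfFlat41.bialgHom_antipode ψ b]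
    apply Ideal.mem_map_of_mem
    rw [RingHom.mem_ker, Bialgebra.counitAlgHom_apply, HopfAlgebra.counit_antipode, hb]
  exact
    { counit_eq_zero := fun x hx => hcounit hx
      map_mkQ_comul_eq_zero := fun x hx => hcomul hx
      antipode_mem := fun x hx => hanti hx }

end HopfIdeal

end Groth.Agent.Lib.Comod
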