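import Groth.Agent.Lib.ComodUnip41d

/-!
# Comodule theory (helper41): unipotent Hopf algebras IV — filtrations of the regular comodule

* `fixedPts_ne_bot_of_chain`: chain criterion for fixed vectors.
* `isUnipotent_of_regular_filtration`: a bialgebra whose regular comodule has an exhaustive
  "unipotent" filtration is unipotent (coconnected ⟹ unipotent).
* `isUnipotent_of_adjoin_primitive`: a commutative bialgebra generated by a primitive element is
  unipotent (subgroups of the additive group are unipotent).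
-/

set_option autoImplicit false
universe u v w x

open TensorProduct

namespace Groth.Agent.Lib.Comod

section Chain

variable {k : Type u} [Field k] {B : Type v} [CommRing B] [Bialgebra k B]
  {V : Type w} [AddCommGroup V] [Module k V] {X : Type x} [AddCommGroup X] [Module k X]

/-- Chain criterion: if `V` embeds (as a comodule) in `X`, and `X` carries a chain of subspaces
`Xs` starting at `⊥`, on which functionals act through `φ 1` modulo the previous step, and some
step meets `V` nontrivially, then `V` has a nonzero fixed vector. -/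
theorem fixedPts_ne_bot_of_chain (c : HopfRep.Comod k B V) [HopfRep.Comod k B X]
    (ρ' : V →ₗ[k] X) (hρ'inj : Function.Injective ρ')
    (hρ'hom : @Hoch.IsComodHom k _ B _ _ _ V _ _ c X _ _ _ ρ')
    (Xs : ℕ → Submodule k X) (hXs0 : Xs 0 = ⊥)
    (hXsstep : ∀ i, ∀ x ∈ Xs (i + 1), ∀ φ : B →ₗ[k] k, act X φ x - φ 1 • x ∈ Xs i)
    (hex : ∃ i, LinearMap.range ρ' ⊓ Xs i ≠ ⊥) :
    @HopfRep.fixedPts k B _ _ _ V _ _ c ≠ ⊥ := by
  classical
  let _ := c
  set V' : Submodule k X := LinearMap.range ρ' with hV'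
  have hV'sub : HopfRep.IsSubcomod (k := k) (A := B) V' := isSubcomod_range hρ'hom
  have hi := Nat.find_spec hex
  have hmin := fun j => Nat.find_min hex (m := j)
  set i := Nat.find hex
  have hi0 : i ≠ 0 := by
    intro h0
    rw [h0, hXs0, inf_bot_eq] at hi
    exact hi rfl
  obtain ⟨j, hj⟩ := Nat.exists_eq_succ_of_ne_zero hi0
  have hXj : V' ⊓ Xs j = ⊥ := by
    by_contra hne
    exact hmin j (by omega) hne
  obtain ⟨x, hx, hx0⟩ := Submodule.exists_mem_ne_zero_of_ne_bot hi
  rw [hj] at hx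
  obtain ⟨⟨v, rfl⟩, hxX⟩ := hx
  have hv0 : v ≠ 0 := by
    rintro rfl
    exact hx0 (map_zero ρ')
  have hfix : c.coact v = v ⊗ₜ[k] (1 : B) := by
    apply coact_eq_tmul_one_of_act
    intro φ
    have h1 : act X φ (ρ' v) - φ 1 • ρ' v ∈ V' ⊓ Xs j :=
      ⟨sub_mem (act_mem_of_isSubcomod hV'sub φ ⟨v, rfl⟩) (V'.smul_mem _ ⟨v, rfl⟩),
        hXsstep j _ hxX φ⟩
    rw [hXj, Submodule.mem_bot, IsComodHom.act_comm hρ'hom, ← map_smul, ← map_sub] at h1
    have h2 := hρ'inj (h1.trans (map_zero ρ').symm)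
    exact sub_eq_zero.1 h2
  intro hbot
  have hv : v ∈ HopfRep.fixedPts k B V := hfix
  rw [hbot, Submodule.mem_bot] at hv
  exact hv0 hv

end Chain

section RegFilt

variable {k : Type u} [Field k] {C : Type v} [CommRing C] [Bialgebra k C]

/-- A bialgebra whose regular comodule has an exhaustive filtration `Cs` with `Cs 0 = ⊥` and
`(id ⊗ φ)Δ c ≡ φ(1) c` modulo the previous step is unipotent. -/
theorem isUnipotent_of_regular_filtration (Cs : ℕ → Submodule k C) (h0 : Cs 0 = ⊥)
    (hmono : Monotone Cs) (hexh : ∀ c : C, ∃ n, c ∈ Cs n)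
    (hstep : ∀ n, ∀ c ∈ Cs (n + 1), ∀ φ : C →ₗ[k] k, slice φ c - φ 1 • c ∈ Cs n) :
    HopfRep.IsUnipotent k C := by
  intro V _ _ c hfin hnt
  let Ys : ℕ → Submodule k (V ⊗[k] C) := fun n => LinearMap.range ((Cs n).subtype.lTensor V)
  have hYsmono : Monotone Ys := by
    intro m n hmn t ht
    have ht' : t ∈ LinearMap.range ((Cs m).subtype.lTensor V) := ht
    show t ∈ LinearMap.range ((Cs n).subtype.lTensor V)
    rw [mem_range_lTensor_subtype_iff] at ht' ⊢
    exact fun χ => hmono hmn (ht' χ)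
  have hYsex : ∀ t : V ⊗[k] C, ∃ n, t ∈ Ys n := by
    intro t
    induction t using TensorProduct.induction_on with
    | zero => exact ⟨0, zero_mem _⟩
    | tmul v d =>
      obtain ⟨n, hn⟩ := hexh d
      exact ⟨n, v ⊗ₜ[k] (⟨d, hn⟩ : Cs n), by simp⟩
    | add a b ha hb =>
      obtain ⟨m, hm⟩ := ha
      obtain ⟨n, hn⟩ := hb
      exact ⟨max m n, add_mem (hYsmono (le_max_left m n) hm) (hYsmono (le_max_right m n) hn)⟩
  have hYs0 : Ys 0 = ⊥ := by
    show LinearMap.range ((Cs 0).subtype.lTensor V) = ⊥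
    rw [eq_bot_iff]
    intro t ht
    rw [mem_range_lTensor_subtype_iff] at ht
    rw [Submodule.mem_bot]
    apply (TensorProduct.comm k V C).injective
    rw [map_zero]
    apply eq_zero_of_contr_eq_zero
    intro χ
    have := ht χ
    rw [h0, Submodule.mem_bot] at this
    rw [contr_comm, this]
  have hYsstep : ∀ n, ∀ t ∈ Ys (n + 1), ∀ φ : C →ₗ[k] k,
      (slice φ).lTensor V t - φ 1 • t ∈ Ys n := by
    intro n t ht φ
    have ht' : t ∈ LinearMap.range ((Cs (n + 1)).subtype.lTensor V) := ht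
    show _ ∈ LinearMap.range ((Cs n).subtype.lTensor V)
    rw [mem_range_lTensor_subtype_iff] at ht' ⊢
    intro χ
    rw [map_sub, map_smul, lcontr_lTensor]
    exact hstep n _ (ht' χ) φ
  let Xs : ℕ → Submodule k (Hoch.Ind k C V) := fun n => Ys n
  refine fixedPts_ne_bot_of_chain c (Hoch.toInd k C V) toInd_injective isComodHom_toInd Xs
    hYs0 ?_ ?_
  · intro n t ht φ
    rw [act_ind]
    exact hYsstep n t ht φ
  · obtain ⟨v, hv⟩ := exists_ne (0 : V)
    obtain ⟨n, hn⟩ := hYsex (Hoch.toInd k C V v)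
    refine ⟨n, fun hbot => ?_⟩
    have h1 : Hoch.toInd k C V v ∈ LinearMap.range (Hoch.toInd k C V) ⊓ Xs n := ⟨⟨v, rfl⟩, hn⟩
    rw [hbot, Submodule.mem_bot] at h1
    exact hv (toInd_injective (h1.trans (map_zero _).symm))

end RegFilt

section Primitive

variable {k : Type u} [Field k] {C : Type v} [CommRing C] [Bialgebra k C]

/-- `(id ⊗ φ)Δ(x^i)` for a primitive element `x`. -/
theorem slice_pow_of_primitive (x : C)
    (hx : CoalgebraStruct.comul (R := k) x = x ⊗ₜ[k] (1 : C) + (1 : C) ⊗ₜ[k] x)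
    (φ : C →ₗ[k] k) (i : ℕ) :
    slice φ (x ^ i) = ∑ m ∈ Finset.range (i + 1), (i.choose m) • (φ (x ^ (i - m)) • x ^ m) := by
  rw [slice, LinearMap.comp_apply, Bialgebra.comul_pow, hx, add_pow, map_sum]
  refine Finset.sum_congr rfl fun m _ => ?_
  rw [Algebra.TensorProduct.tmul_pow, Algebra.TensorProduct.tmul_pow, one_pow, one_pow,
    Algebra.TensorProduct.tmul_mul_tmul, _root_.mul_one, _root_.one_mul, ← Nat.cast_comm,
    ← nsmul_eq_mul, map_nsmul, contr_tmul]

/-- A commutative bialgebra generated by a primitive element is unipotent. -/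
theorem isUnipotent_of_adjoin_primitive (x : C)
    (hx : CoalgebraStruct.comul (R := k) x = x ⊗ₜ[k] (1 : C) + (1 : C) ⊗ₜ[k] x)
    (hgen : Algebra.adjoin k {x} = ⊤) : HopfRep.IsUnipotent k C := by
  let Cs : ℕ → Submodule k C := fun n => Submodule.span k ((fun i : ℕ => x ^ i) '' Set.Iio n)
  have hmono : Monotone Cs := fun m n hmn =>
    Submodule.span_mono (Set.image_mono (Set.Iio_subset_Iio hmn))
  have hpow : ∀ m n, m < n → x ^ m ∈ Cs n := fun m n hmn =>
    Submodule.subset_span ⟨m, hmn, rfl⟩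
  apply isUnipotent_of_regular_filtration Cs ?_ hmono ?_ ?_
  · show Submodule.span k ((fun i : ℕ => x ^ i) '' Set.Iio 0) = ⊥
    have : Set.Iio (0 : ℕ) = ∅ := by
      ext i
      simp
    rw [this, Set.image_empty, Submodule.span_empty]
  · intro c
    have hc : c ∈ Algebra.adjoin k {x} := by rw [hgen]; trivial
    rw [Algebra.adjoin_singleton_eq_range_aeval] at hc
    obtain ⟨p, rfl⟩ := hc
    refine ⟨p.natDegree + 1, ?_⟩
    show Polynomial.aeval x p ∈ Cs (p.natDegree + 1)
    rw [Polynomial.aeval_eq_sum_range]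
    refine Submodule.sum_mem _ fun i hi => Submodule.smul_mem _ _ (hpow i _ ?_)
    exact Finset.mem_range.1 hi
  · intro n c hc φ
    let L : C →ₗ[k] C := slice φ - φ 1 • LinearMap.id
    have hL : Cs (n + 1) ≤ (Cs n).comap L := by
      apply Submodule.span_le.2
      rintro _ ⟨i, hi, rfl⟩
      have hi' : i ≤ n := Nat.lt_succ_iff.1 hi
      show slice φ (x ^ i) - φ 1 • x ^ i ∈ Cs n
      rw [slice_pow_of_primitive x hx, Finset.sum_range_succ, Nat.choose_self, one_nsmul,
        Nat.sub_self, pow_zero, add_sub_cancel_right]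
      refine Submodule.sum_mem _ fun m hm => ?_
      exact Submodule.smul_of_tower_mem _ _ (Submodule.smul_mem _ _
        (hpow m n (lt_of_lt_of_le (Finset.mem_range.1 hm) hi')))
    exact hL hc

end Primitive

end Groth.Agent.Lib.Comod
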