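import Groth.Agent.Lib.ComodUnip41b

/-!
# Comodule theory (helper41): unipotent Hopf algebras VI — full flags with trivial quotients

* `exists_unipFlag`: over a unipotent bialgebra every finite-dimensional comodule has a full flag
  of subcomodules `F i` (`finrank (F i) = i`) with trivial action on the successive quotients.
-/

set_option autoImplicit false
universe u v w

open TensorProduct

namespace Groth.Agent.Lib.Comod

section UnipFlag

variable {k : Type u} {A : Type v} [Field k] [CommRing A] [Bialgebra k A]

/-- Full flags with trivial successive quotients for comodules over a unipotent bialgebra. -/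
theorem exists_unipFlag
    (hU : ∀ (V : Type w) [AddCommGroup V] [Module k V] [HopfRep.Comod k A V],
      Module.Finite k V → Nontrivial V → HopfRep.fixedPts k A V ≠ ⊥) :
    ∀ (n : ℕ) (V : Type w) [AddCommGroup V] [Module k V] (c : HopfRep.Comod k A V)
      [Module.Finite k V], Module.finrank k V = n →
      ∃ F : ℕ → Submodule k V, Monotone F ∧
        (∀ i, @HopfRep.IsSubcomod k A _ _ _ _ V _ _ c (F i)) ∧
        (∀ i, i ≤ n → Module.finrank k (F i) = i) ∧
        ∀ i, ∀ v ∈ F (i + 1),
          c.coact v - v ⊗ₜ[k] (1 : A) ∈ LinearMap.range ((F i).subtype.rTensor A) := by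
  intro n
  induction n with
  | zero =>
    intro V _ _ c _ hn
    refine ⟨fun _ => ⊥, monotone_const, fun _ => isSubcomod_bot, fun i hi => ?_, fun i v hv => ?_⟩
    · rw [Nat.le_zero.1 hi]
      simp
    · rw [Submodule.mem_bot] at hv
      subst hv
      simp
  | succ n ih =>
    intro V _ _ c _ hn
    have hnt : Nontrivial V := Module.nontrivial_of_finrank_pos (R := k) (by omega)
    obtain ⟨v₀, hv₀fix, hv₀⟩ := Submodule.exists_mem_ne_zero_of_ne_bot (@hU V _ _ c inferInstance hnt)
    have hv₀' : c.coact v₀ = v₀ ⊗ₜ[k] (1 : A) := hv₀fix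
    set L : Submodule k V := Submodule.span k {v₀} with hLdef
    have hLfix : L ≤ @HopfRep.fixedPts k A _ _ _ V _ _ c :=
      Submodule.span_le.2 (Set.singleton_subset_iff.2 hv₀fix)
    have hL : @HopfRep.IsSubcomod k A _ _ _ _ V _ _ c L := by
      intro w hw
      have hw' : c.coact w = w ⊗ₜ[k] (1 : A) := hLfix hw
      rw [hw']
      exact ⟨(⟨w, hw⟩ : L) ⊗ₜ[k] (1 : A), by simp⟩
    have hL1 : Module.finrank k L = 1 := finrank_span_singleton hv₀
    have hQ : Module.finrank k (V ⧸ L) = n := by
      have := Submodule.finrank_quotient_add_finrank L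
      omega
    obtain ⟨G, hGmono, hGsub, hGrank, hGtriv⟩ := ih (V ⧸ L) (ComodSub.Comod.quot c L hL) hQ
    have hG0 : G 0 = ⊥ := Submodule.finrank_eq_zero.1 (hGrank 0 (Nat.zero_le n))
    refine ⟨fun i => match i with
      | 0 => ⊥
      | (j + 1) => (G j).comap L.mkQ, ?_, ?_, ?_, ?_⟩
    · apply monotone_nat_of_le_succ
      intro i
      cases i with
      | zero => exact bot_le
      | succ j => exact Submodule.comap_mono (hGmono (Nat.le_succ j))
    · intro i
      cases i with
      | zero => exact isSubcomod_bot
      | succ j =>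
        let _ := ComodSub.Comod.quot c L hL
        let _ := c
        exact isSubcomod_comap (ComodSub.isComodHom_mkQ c L hL) (hGsub j)
    · intro i hi
      cases i with
      | zero => simp
      | succ j =>
        show Module.finrank k ((G j).comap L.mkQ) = j + 1
        rw [finrank_comap_of_surjective L.mkQ (Submodule.mkQ_surjective L), Submodule.ker_mkQ,
          hL1, hGrank j (by omega)]
    · intro i v hv
      cases i with
      | zero =>
        have hv' : v ∈ (G 0).comap L.mkQ := hv
        rw [hG0, Submodule.comap_bot, Submodule.ker_mkQ] at hv'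
        have hv'' : c.coact v = v ⊗ₜ[k] (1 : A) := hLfix hv'
        rw [hv'', sub_self]
        exact zero_mem _
      | succ j =>
        have hv' : L.mkQ v ∈ G (j + 1) := hv
        have h1 := hGtriv j _ hv'
        show c.coact v - v ⊗ₜ[k] (1 : A) ∈
          LinearMap.range (((G j).comap L.mkQ).subtype.rTensor A)
        rw [mem_range_rTensor_subtype_iff] at h1 ⊢
        intro φ
        have h2 := h1 φ
        have h3 : (ComodSub.Comod.quot c L hL).coact (L.mkQ v) =
            (L.mkQ).rTensor A (c.coact v) := ComodSub.quot_coact_mk c L hL v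
        rw [h3] at h2
        have h4 : (L.mkQ v) ⊗ₜ[k] (1 : A) = (L.mkQ).rTensor A (v ⊗ₜ[k] (1 : A)) := by simp
        rw [h4, ← map_sub, contr_rTensor] at h2
        exact h2

end UnipFlag

end Groth.Agent.Lib.Comod
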