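/-
helper41 library: primitive elements of Hopf algebras, base change, and triviality of maps
from unipotent to diagonalizable-type groups.
* `eq_zero_of_primitive_of_isDiagonalizable`: a bialgebra over a field spanned by group-likes has no
  nonzero primitive element.
* `theta`, `comul_eq_theta`, `primDefect`, `primDefect_baseChange`: comultiplication of `K ⊗ A` through
  `K ⊗ (A ⊗ A) ≃ (K ⊗ A) ⊗_K (K ⊗ A)`.
* `eq_zero_of_primitive_baseChange` (flat base change) and `eq_zero_of_primitive_of_baseChange` (descent)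
  of "no nonzero primitive elements".
* `Phi_eq_of_hasUnipFiltration`: an `R`-bialgebra map `φ : R ⊗ U → R ⊗ M`, with `R ⊗ M` having no
  nonzero primitives, is trivial on the image of any comodule with a unipotent filtration mapping to `U`.
-/
import Groth.Agent.Lib.ComodIntegral
import Groth.Agent.Lib.ComodUnip
import Mathlib.RingTheory.Coalgebra.GroupLike
import Mathlib.RingTheory.Bialgebra.GroupLike

set_option autoImplicit false
universe u v w

open TensorProduct

namespace Groth.Agent.Lib.HopfPrim41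

section Diag

variable {K : Type u} [Field K] {B : Type v} [CommRing B] [Bialgebra K B]

/-- A bialgebra over a field spanned by its group-like elements has no nonzero primitive element. -/
theorem eq_zero_of_primitive_of_isDiagonalizable (h : HopfRep.IsDiagonalizable K B) (x : B)
    (hx : CoalgebraStruct.comul (R := K) x = x ⊗ₜ[K] (1 : B) + (1 : B) ⊗ₜ[K] x) : x = 0 := by
  classical
  have hspan : ⊤ ≤ Submodule.span K (Set.range (GroupLike.val (R := K) (A := B))) := by
    rw [← h]
    apply Submodule.span_mono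
    intro a ha
    exact ⟨⟨a, ha⟩, rfl⟩
  let b : Module.Basis (GroupLike K B) K B := Module.Basis.mk linearIndep_groupLikeVal hspan
  have hb : ∀ g : GroupLike K B, b g = g.val := fun g => by
    simp [b]
  have hcoef : ∀ i : GroupLike K B, b.coord i x = 0 := by
    intro i
    let F : B ⊗[K] B →ₗ[K] K := LinearMap.mul' K K ∘ₗ TensorProduct.map (b.coord i) (b.coord i)
    have hL1 : F ∘ₗ CoalgebraStruct.comul (R := K) = b.coord i := by
      apply b.ext
      intro j
      have hj : CoalgebraStruct.comul (R := K) (b j) = b j ⊗ₜ[K] b j := by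
        rw [hb]; exact j.isGroupLikeElem_val.comul_eq_tmul_self
      rw [LinearMap.comp_apply, hj]
      simp only [F, LinearMap.comp_apply, TensorProduct.map_tmul, LinearMap.mul'_apply]
      by_cases hij : j = i
      · subst hij; simp
      · have : b.coord i (b j) = 0 := by
          rw [Module.Basis.coord_apply, Module.Basis.repr_self, Finsupp.single_apply, if_neg hij]
        rw [this, mul_zero]
    have h1 : b.coord i 1 * b.coord i 1 = b.coord i 1 := by
      have := LinearMap.congr_fun hL1 1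
      rw [LinearMap.comp_apply, Bialgebra.comul_one, Algebra.TensorProduct.one_def] at this
      simpa [F] using this
    have h2 : b.coord i x * b.coord i 1 + b.coord i 1 * b.coord i x = b.coord i x := by
      have := LinearMap.congr_fun hL1 x
      rw [LinearMap.comp_apply, hx, map_add] at this
      simpa [F] using this
    generalize b.coord i 1 = e at h1 h2
    generalize b.coord i x = c at h2
    have he01 : e = 0 ∨ e = 1 := by
      have : e * (e - 1) = 0 := by rw [mul_sub, h1, mul_one, sub_self]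
      rcases mul_eq_zero.mp this with h0 | h0
      · exact Or.inl h0
      · exact Or.inr (sub_eq_zero.mp h0)
    rcases he01 with h0 | h0
    · rw [h0] at h2; simpa using h2.symm
    · rw [h0, mul_one, one_mul] at h2
      exact add_eq_left.mp h2
  apply b.repr.injective
  ext i
  rw [map_zero, Finsupp.zero_apply]
  exact hcoef i

end Diag


section BaseChange

variable {k : Type u} [CommRing k] (K : Type w) [CommRing K] [Algebra k K] {A : Type v} [CommRing A]
  [HopfAlgebra k A]

/-- `x ⊗ (a ⊗ b) ↦ (1 ⊗ a) ⊗ (x ⊗ b)`: the identification `K ⊗ (A ⊗ A) ≃ (K ⊗ A) ⊗_K (K ⊗ A)`. -/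
noncomputable def theta : K ⊗[k] (A ⊗[k] A) ≃ₗ[k] (K ⊗[k] A) ⊗[K] (K ⊗[k] A) :=
  (TensorProduct.congr ((TensorProduct.lid K K).symm.restrictScalars k)
    (LinearEquiv.refl k (A ⊗[k] A))) ≪≫ₗ
  (TensorProduct.AlgebraTensorModule.tensorTensorTensorComm k K k K K K A A).restrictScalars k

theorem theta_tmul (x : K) (t : A ⊗[k] A) :
    theta K (x ⊗ₜ[k] t) =
      TensorProduct.AlgebraTensorModule.tensorTensorTensorComm k K k K K K A A
        (((1 : K) ⊗ₜ[K] x) ⊗ₜ[k] t) := by
  simp [theta]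

theorem theta_tmul_tmul (x : K) (a b : A) :
    theta K (x ⊗ₜ[k] (a ⊗ₜ[k] b)) = ((1 : K) ⊗ₜ[k] a) ⊗ₜ[K] (x ⊗ₜ[k] b) := by
  rw [theta_tmul]
  simp

theorem comul_eq_theta (y : K ⊗[k] A) :
    CoalgebraStruct.comul (R := K) y =
      theta K ((CoalgebraStruct.comul (R := k) (A := A)).lTensor K y) := by
  induction y using TensorProduct.induction_on with
  | zero => simp
  | add x y hx hy => simp only [map_add, hx, hy]
  | tmul x a =>
    rw [LinearMap.lTensor_tmul, theta_tmul, Groth.Agent.Lib.ComodIntegral.comul_tmul_eq]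

theorem tmul_one_eq_theta (y : K ⊗[k] A) :
    y ⊗ₜ[K] (1 : K ⊗[k] A) =
      theta K (((TensorProduct.mk k A A).flip 1).lTensor K y) := by
  induction y using TensorProduct.induction_on with
  | zero => simp
  | add x y hx hy => simp only [map_add, TensorProduct.add_tmul, hx, hy]
  | tmul x a =>
    rw [LinearMap.lTensor_tmul, LinearMap.flip_apply, TensorProduct.mk_apply, theta_tmul_tmul,
      Algebra.TensorProduct.one_def]
    have h1 : x ⊗ₜ[k] (1 : A) = x • ((1 : K) ⊗ₜ[k] (1 : A)) := by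
      rw [TensorProduct.smul_tmul', smul_eq_mul, mul_one]
    have h2 : x ⊗ₜ[k] a = x • ((1 : K) ⊗ₜ[k] a) := by
      rw [TensorProduct.smul_tmul', smul_eq_mul, mul_one]
    rw [h1, h2, TensorProduct.smul_tmul]

theorem one_tmul_eq_theta (y : K ⊗[k] A) :
    (1 : K ⊗[k] A) ⊗ₜ[K] y =
      theta K ((TensorProduct.mk k A A 1).lTensor K y) := by
  induction y using TensorProduct.induction_on with
  | zero => simp
  | add x y hx hy => simp only [map_add, TensorProduct.tmul_add, hx, hy]
  | tmul x a =>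
    rw [LinearMap.lTensor_tmul, TensorProduct.mk_apply, theta_tmul_tmul,
      Algebra.TensorProduct.one_def]

/-- The "primitivity defect" `a ↦ Δ a - a ⊗ 1 - 1 ⊗ a`. -/
noncomputable def primDefect (k : Type u) [CommRing k] (A : Type v) [CommRing A] [HopfAlgebra k A] :
    A →ₗ[k] A ⊗[k] A :=
  CoalgebraStruct.comul (R := k) (A := A) - (TensorProduct.mk k A A).flip 1 - TensorProduct.mk k A A 1

theorem primDefect_apply (a : A) : primDefect k A a =
    CoalgebraStruct.comul (R := k) a - a ⊗ₜ[k] (1 : A) - (1 : A) ⊗ₜ[k] a := by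
  simp [primDefect]

theorem primDefect_eq_zero_iff (a : A) : primDefect k A a = 0 ↔
    CoalgebraStruct.comul (R := k) a = a ⊗ₜ[k] (1 : A) + (1 : A) ⊗ₜ[k] a := by
  rw [primDefect_apply, sub_sub, sub_eq_zero]

theorem primDefect_baseChange (y : K ⊗[k] A) :
    primDefect K (K ⊗[k] A) y = theta K ((primDefect k A).lTensor K y) := by
  rw [primDefect_apply, comul_eq_theta, tmul_one_eq_theta, one_tmul_eq_theta, ← map_sub, ← map_sub]
  congr 1
  simp only [primDefect, LinearMap.lTensor_sub, LinearMap.sub_apply]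

/-- Flat base change of "no nonzero primitive elements". -/
theorem eq_zero_of_primitive_baseChange [Module.Flat k K]
    (hA : ∀ a : A, CoalgebraStruct.comul (R := k) a = a ⊗ₜ[k] (1 : A) + (1 : A) ⊗ₜ[k] a → a = 0)
    (y : K ⊗[k] A)
    (hy : CoalgebraStruct.comul (R := K) y = y ⊗ₜ[K] (1 : K ⊗[k] A) + (1 : K ⊗[k] A) ⊗ₜ[K] y) :
    y = 0 := by
  have hinj : Function.Injective (primDefect k A) := by
    rw [← LinearMap.ker_eq_bot, eq_bot_iff]
    intro a ha
    rw [LinearMap.mem_ker, primDefect_eq_zero_iff] at ha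
    exact (Submodule.mem_bot k).mpr (hA a ha)
  have h1 : primDefect K (K ⊗[k] A) y = 0 := (primDefect_eq_zero_iff y).mpr hy
  rw [primDefect_baseChange] at h1
  have h2 : (primDefect k A).lTensor K y = 0 := by
    have := (theta K (A := A)).injective (h1.trans (map_zero _).symm)
    exact this
  exact (Module.Flat.lTensor_preserves_injective_linearMap (M := K) _ hinj) (h2.trans (map_zero _).symm)

/-- Descent of "no nonzero primitive elements" along `a ↦ 1 ⊗ a`. -/
theorem eq_zero_of_primitive_of_baseChange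
    (hinj : Function.Injective (fun a : A => (1 : K) ⊗ₜ[k] a))
    (hK : ∀ y : K ⊗[k] A,
      CoalgebraStruct.comul (R := K) y = y ⊗ₜ[K] (1 : K ⊗[k] A) + (1 : K ⊗[k] A) ⊗ₜ[K] y → y = 0)
    (a : A) (ha : CoalgebraStruct.comul (R := k) a = a ⊗ₜ[k] (1 : A) + (1 : A) ⊗ₜ[k] a) : a = 0 := by
  apply hinj
  show (1 : K) ⊗ₜ[k] a = (1 : K) ⊗ₜ[k] (0 : A)
  rw [TensorProduct.tmul_zero]
  apply hK
  rw [← primDefect_eq_zero_iff, primDefect_baseChange, LinearMap.lTensor_tmul,
    (primDefect_eq_zero_iff a).mpr ha, TensorProduct.tmul_zero, map_zero]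

end BaseChange


section Unip

open Groth.Agent.Lib.Comod

variable {k : Type u} [Field k] {U : Type v} [CommRing U] [HopfAlgebra k U]
  {R : Type w} [CommRing R] [Algebra k R] {M : Type v} [CommRing M] [HopfAlgebra k M]

/-- `c ↦ φ (1 ⊗ c)`. -/
noncomputable def Phi (φ : R ⊗[k] U →ₐc[R] R ⊗[k] M) : U →ₗ[k] R ⊗[k] M :=
  ((φ : R ⊗[k] U →ₗ[R] R ⊗[k] M).restrictScalars k) ∘ₗ TensorProduct.mk k R U 1

theorem Phi_apply (φ : R ⊗[k] U →ₐc[R] R ⊗[k] M) (c : U) : Phi φ c = φ ((1 : R) ⊗ₜ[k] c) := rfl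

theorem Phi_one (φ : R ⊗[k] U →ₐc[R] R ⊗[k] M) : Phi φ 1 = 1 := by
  rw [Phi_apply, ← Algebra.TensorProduct.one_def, map_one]

/-- `a ⊗ b ↦ φ (1 ⊗ a) ⊗ φ (1 ⊗ b)`. -/
noncomputable def Psi (φ : R ⊗[k] U →ₐc[R] R ⊗[k] M) :
    U ⊗[k] U →ₗ[k] (R ⊗[k] M) ⊗[R] (R ⊗[k] M) :=
  TensorProduct.mapOfCompatibleSMul R k k (R ⊗[k] M) (R ⊗[k] M) ∘ₗ
    TensorProduct.map (Phi φ) (Phi φ)

theorem Psi_tmul (φ : R ⊗[k] U →ₐc[R] R ⊗[k] M) (a b : U) :
    Psi φ (a ⊗ₜ[k] b) = Phi φ a ⊗ₜ[R] Phi φ b := rfl

theorem comul_Phi (φ : R ⊗[k] U →ₐc[R] R ⊗[k] M) (c : U) :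
    CoalgebraStruct.comul (R := R) (Phi φ c) = Psi φ (CoalgebraStruct.comul (R := k) c) := by
  rw [Phi_apply, ← CoalgHomClass.map_comp_comul_apply, comul_eq_theta, LinearMap.lTensor_tmul]
  generalize CoalgebraStruct.comul (R := k) c = t
  induction t using TensorProduct.induction_on with
  | zero => simp
  | add x y hx hy => simp only [TensorProduct.tmul_add, map_add, hx, hy]
  | tmul a b =>
    rw [theta_tmul_tmul, TensorProduct.map_tmul, Psi_tmul]
    rfl


theorem Phi_eq_of_hasUnipFiltration (φ : R ⊗[k] U →ₐc[R] R ⊗[k] M)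
    (hnp : ∀ y : R ⊗[k] M, CoalgebraStruct.comul (R := R) y =
      y ⊗ₜ[R] (1 : R ⊗[k] M) + (1 : R ⊗[k] M) ⊗ₜ[R] y → y = 0)
    {W : Type*} [AddCommGroup W] [Module k W] (c : HopfRep.Comod k U W)
    (hc : HasUnipFiltration c) (ι : W →ₗ[k] U)
    (hι : ∀ w, CoalgebraStruct.comul (R := k) (ι w) = ι.rTensor U (c.coact w)) (w : W) :
    Phi φ (ι w) = (CoalgebraStruct.counit (R := k) (A := U) (ι w)) • (1 : R ⊗[k] M) := by
  obtain ⟨m, F, hmono, hF0, hFm, hsub, htriv⟩ := hc
  suffices h : ∀ i, ∀ w ∈ F i,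
      Phi φ (ι w) = (CoalgebraStruct.counit (R := k) (A := U) (ι w)) • (1 : R ⊗[k] M) by
    exact h m w (by rw [hFm]; trivial)
  intro i
  induction i with
  | zero =>
    intro w hw
    rw [hF0, Submodule.mem_bot] at hw
    rw [hw, map_zero, map_zero, map_zero, zero_smul]
  | succ i ih =>
    intro w hw
    let G : W ⊗[k] U →ₗ[k] (R ⊗[k] M) ⊗[R] (R ⊗[k] M) := Psi φ ∘ₗ ι.rTensor U
    let η : W ⊗[k] U →ₗ[k] U := (TensorProduct.lid k U).toLinearMap ∘ₗ
      (CoalgebraStruct.counit (R := k) (A := U) ∘ₗ ι).rTensor U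
    have key : ∀ s : ↥(F i) ⊗[k] U, G ((F i).subtype.rTensor U s) =
        (1 : R ⊗[k] M) ⊗ₜ[R] Phi φ (η ((F i).subtype.rTensor U s)) := by
      intro s
      induction s using TensorProduct.induction_on with
      | zero => simp
      | add x y hx hy => simp only [map_add, TensorProduct.tmul_add, hx, hy]
      | tmul u a =>
        rw [LinearMap.rTensor_tmul, Submodule.subtype_apply]
        show Phi φ (ι u.1) ⊗ₜ[R] Phi φ a = _
        rw [ih u.1 u.2]
        simp only [η, LinearMap.comp_apply, LinearMap.rTensor_tmul, LinearEquiv.coe_coe,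
          TensorProduct.lid_tmul, map_smul]
        exact TensorProduct.smul_tmul _ _ _
    have hη : η (c.coact w) = ι w := by
      simp only [η, LinearMap.rTensor_comp, LinearMap.comp_apply, LinearEquiv.coe_coe]
      rw [← hι, Coalgebra.rTensor_counit_comul, TensorProduct.lid_tmul, one_smul]
    have hη1 : η (w ⊗ₜ[k] (1 : U)) = CoalgebraStruct.counit (R := k) (A := U) (ι w) • (1 : U) := by
      simp [η]
    obtain ⟨s, hs⟩ := htriv i w hw
    set x := Phi φ (ι w) with hx
    set e := CoalgebraStruct.counit (R := k) (A := U) (ι w) with he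
    have hΔ : CoalgebraStruct.comul (R := R) x =
        x ⊗ₜ[R] (1 : R ⊗[k] M) + (1 : R ⊗[k] M) ⊗ₜ[R] (x - e • (1 : R ⊗[k] M)) := by
      rw [hx, comul_Phi, hι]
      have hsplit : c.coact w = w ⊗ₜ[k] (1 : U) + (F i).subtype.rTensor U s := by
        rw [hs]; abel
      show G (c.coact w) = _
      have hηs : η ((F i).subtype.rTensor U s) = ι w - e • (1 : U) := by
        rw [hs, map_sub, hη, hη1]
      rw [hsplit, map_add, key s, hηs, map_sub, map_smul, Phi_one]
      show Phi φ (ι w) ⊗ₜ[R] Phi φ 1 + _ = _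
      rw [Phi_one]
    have hprim : x - e • (1 : R ⊗[k] M) = 0 := by
      apply hnp
      have h1 : CoalgebraStruct.comul (R := R) (1 : R ⊗[k] M) =
          (1 : R ⊗[k] M) ⊗ₜ[R] (1 : R ⊗[k] M) := by
        rw [Bialgebra.comul_one]; rfl
      rw [← algebraMap_smul R e (1 : R ⊗[k] M)] at hΔ ⊢
      rw [map_sub, map_smul, hΔ, h1, TensorProduct.sub_tmul, TensorProduct.smul_tmul']
      abel
    exact sub_eq_zero.mp hprim

end Unip

end Groth.Agent.Lib.HopfPrim41
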