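import Groth.Agent.Lib.ComodUnip41e
import Groth.Agent.Lib.HopfPrim41
import Groth.Agent.Lib.ComodSurj
import Mathlib.RingTheory.Flat.Basic
import Mathlib.LinearAlgebra.TensorProduct.RightExactness

/-!
# Comodule theory (helper41): unipotent Hopf algebras and base change

* `unipFilt k C`: the canonical (recursive) unipotent filtration of the regular comodule of a
  bialgebra over a field; it is exhaustive iff `C` is unipotent (`unipFilt_exhaustive`,
  `isUnipotent_of_unipFilt_exhaustive`).
* `comul_sub_mem_comap`: descent of the filtration condition along `H → K ⊗[R] H` for flat `H`.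
* `isUnipotent_baseChange_of_filtration`: a filtration of an `R`-Hopf algebra `H` by
  `R`-submodules with trivial graded pieces makes `κ ⊗[R] H` unipotent for every field `κ` over `R`.
* `isUnipotent_of_isUnipotent_baseChange` / `isUnipotent_baseChange`: unipotence descends and
  ascends along base change.
-/

set_option autoImplicit false
universe u v w x

open TensorProduct

namespace Groth.Agent.Lib.Comod

section Filt

variable (k : Type u) [Field k] (C : Type v) [CommRing C] [Bialgebra k C]

/-- The canonical unipotent filtration of the regular comodule: `F 0 = ⊥` and `F (n+1)` consists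
of the `c` with `(id ⊗ φ)Δ c - φ(1) c ∈ F n` for all functionals `φ`. -/
noncomputable def unipFilt : ℕ → Submodule k C
  | 0 => ⊥
  | (n + 1) => ⨅ φ : C →ₗ[k] k, (unipFilt n).comap (slice φ - φ 1 • LinearMap.id)

variable {k C}

theorem unipFilt_zero : unipFilt k C 0 = ⊥ := rfl

theorem mem_unipFilt_succ {n : ℕ} {c : C} :
    c ∈ unipFilt k C (n + 1) ↔ ∀ φ : C →ₗ[k] k, slice φ c - φ 1 • c ∈ unipFilt k C n := by
  show c ∈ ⨅ φ : C →ₗ[k] k, (unipFilt k C n).comap (slice φ - φ 1 • LinearMap.id) ↔ _
  rw [Submodule.mem_iInf]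
  rfl

theorem unipFilt_le_succ (n : ℕ) : unipFilt k C n ≤ unipFilt k C (n + 1) := by
  induction n with
  | zero => rw [unipFilt_zero]; exact bot_le
  | succ n ih =>
    intro c hc
    rw [mem_unipFilt_succ] at hc ⊢
    exact fun φ => ih (hc φ)

theorem unipFilt_mono : Monotone (unipFilt k C) :=
  monotone_nat_of_le_succ unipFilt_le_succ

/-- Tensor form of the step condition. -/
theorem comul_sub_mem_of_mem_unipFilt_succ {n : ℕ} {c : C} (hc : c ∈ unipFilt k C (n + 1)) :
    CoalgebraStruct.comul (R := k) c - c ⊗ₜ[k] (1 : C) ∈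
      LinearMap.range ((unipFilt k C n).subtype.rTensor C) := by
  rw [mem_range_rTensor_subtype_iff]
  intro φ
  rw [map_sub, contr_tmul]
  exact mem_unipFilt_succ.1 hc φ

/-- If the canonical filtration is exhaustive then `C` is unipotent. -/
theorem isUnipotent_of_unipFilt_exhaustive (h : ∀ c : C, ∃ n, c ∈ unipFilt k C n) :
    HopfRep.IsUnipotent k C :=
  isUnipotent_of_regular_filtration (unipFilt k C) unipFilt_zero unipFilt_mono h
    (fun _ _ hc φ => mem_unipFilt_succ.1 hc φ)

/-- Any filtration with trivial graded pieces (tensor form) is contained in the canonical one. -/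
theorem le_unipFilt_of_step (Cs : ℕ → Submodule k C) (h0 : Cs 0 = ⊥)
    (hstep : ∀ n, ∀ c ∈ Cs (n + 1), CoalgebraStruct.comul (R := k) c - c ⊗ₜ[k] (1 : C) ∈
      LinearMap.range ((Cs n).subtype.rTensor C)) (n : ℕ) : Cs n ≤ unipFilt k C n := by
  induction n with
  | zero => rw [h0]; exact bot_le
  | succ n ih =>
    intro c hc
    rw [mem_unipFilt_succ]
    intro φ
    have h1 := hstep n c hc
    rw [mem_range_rTensor_subtype_iff] at h1
    have h2 := h1 φ
    rw [map_sub, contr_tmul] at h2
    exact ih h2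

/-- For a unipotent bialgebra the canonical filtration is exhaustive. -/
theorem unipFilt_exhaustive (hU : HopfRep.IsUnipotent k C) (c : C) :
    ∃ n, c ∈ unipFilt k C n := by
  classical
  obtain ⟨W, hWfin, hcW, hW⟩ :=
    @exists_finite_subcomod_mem k C _ _ _ _ C _ _ (HopfRep.Comod.regular k C) c
  let cW := ComodSub.Comod.restr (HopfRep.Comod.regular k C) W hW
  obtain ⟨m, F, hmono, hF0, hFm, hsub, htriv⟩ :=
    hasUnipFiltration_of_isUnipotent (k := k) (A := C)
      (fun V _ _ _ hf hn => hU V hf hn) _ ↥W cW rfl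
  have key : ∀ i, ∀ w ∈ F i, (w : C) ∈ unipFilt k C i := by
    intro i
    induction i with
    | zero =>
      intro w hw
      rw [hF0, Submodule.mem_bot] at hw
      rw [hw]
      exact zero_mem _
    | succ i ih =>
      intro w hw
      rw [mem_unipFilt_succ]
      intro φ
      have h1 := HasUnipFiltration.act_sub_mem htriv i hw φ
      have h2 := ih _ h1
      have h3 : ((@act k C _ _ _ _ W _ _ cW φ w : W) : C) = slice φ (w : C) := by
        show W.subtype (contr W φ (cW.coact w)) = contr C φ (CoalgebraStruct.comul (R := k) (w : C))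
        rw [← contr_rTensor, ComodSub.restr_coact_coe]
        rfl
      rw [Submodule.coe_sub, Submodule.coe_smul, h3] at h2
      exact h2
  exact ⟨m, key m ⟨c, hcW⟩ (by rw [hFm]; trivial)⟩

end Filt

section Descent

open Groth.Agent.Lib.HopfPrim41

variable {R : Type u} [CommRing R] (K : Type w) [CommRing K] [Algebra R K]
  {H : Type v} [CommRing H] [HopfAlgebra R H]

/-- `x ↦ 1 ⊗ x : H → K ⊗[R] H`. -/
noncomputable def bcIncl : H →ₗ[R] K ⊗[R] H := TensorProduct.mk R K H 1

@[simp] theorem bcIncl_apply (x : H) : bcIncl K x = (1 : K) ⊗ₜ[R] x := rfl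

theorem comul_bcIncl_sub (x : H) :
    CoalgebraStruct.comul (R := K) ((1 : K) ⊗ₜ[R] x) -
        ((1 : K) ⊗ₜ[R] x) ⊗ₜ[K] (1 : K ⊗[R] H) =
      theta K ((1 : K) ⊗ₜ[R] (CoalgebraStruct.comul (R := R) x - x ⊗ₜ[R] (1 : H))) := by
  rw [comul_eq_theta, tmul_one_eq_theta, ← map_sub, LinearMap.lTensor_tmul,
    LinearMap.lTensor_tmul, ← TensorProduct.tmul_sub]
  rfl

/-- Key computation: after killing `Cs` in the left factor and cancelling the base change,
`theta K (1 ⊗ s)` becomes `((mkQ ∘ bcIncl) ⊗ id) s`. -/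
theorem cancelBaseChange_rTensor_mkQ_theta (Cs : Submodule K (K ⊗[R] H)) (s : H ⊗[R] H) :
    TensorProduct.AlgebraTensorModule.cancelBaseChange R K K ((K ⊗[R] H) ⧸ Cs) H
        ((Cs.mkQ.rTensor (K ⊗[R] H)) (theta K ((1 : K) ⊗ₜ[R] s))) =
      ((Cs.mkQ.restrictScalars R ∘ₗ bcIncl K).rTensor H) s := by
  induction s using TensorProduct.induction_on with
  | zero => simp
  | add a b ha hb => simp only [TensorProduct.tmul_add, map_add, ha, hb]
  | tmul a b =>
    rw [theta_tmul_tmul, LinearMap.rTensor_tmul,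
      TensorProduct.AlgebraTensorModule.cancelBaseChange_tmul, one_smul, LinearMap.rTensor_tmul]
    rfl

/-- Descent of the step condition along `H → K ⊗[R] H` for flat `H`: if
`Δ(1 ⊗ x) - (1 ⊗ x) ⊗ 1 ∈ Cs ⊗ (K ⊗ H)`, then `Δ x - x ⊗ 1 ∈ H' ⊗ H` where `H'` is the preimage
of `Cs` in `H`. -/
theorem comul_sub_mem_comap [Module.Flat R H] (Cs : Submodule K (K ⊗[R] H)) (x : H)
    (hx : CoalgebraStruct.comul (R := K) ((1 : K) ⊗ₜ[R] x) -
        ((1 : K) ⊗ₜ[R] x) ⊗ₜ[K] (1 : K ⊗[R] H) ∈
      LinearMap.range (Cs.subtype.rTensor (K ⊗[R] H))) :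
    CoalgebraStruct.comul (R := R) x - x ⊗ₜ[R] (1 : H) ∈
      LinearMap.range (((Cs.restrictScalars R).comap (bcIncl K)).subtype.rTensor H) := by
  set Hn : Submodule R H := (Cs.restrictScalars R).comap (bcIncl K) with hHn
  set t := CoalgebraStruct.comul (R := R) x - x ⊗ₜ[R] (1 : H) with ht
  have hex : Function.Exact (Hn.subtype.rTensor H) (Hn.mkQ.rTensor H) :=
    rTensor_exact H (LinearMap.exact_subtype_mkQ Hn) (Submodule.mkQ_surjective Hn)
  rw [LinearMap.mem_range]
  refine (hex t).1 ?_
  -- the injective comparison map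
  let g : H →ₗ[R] (K ⊗[R] H) ⧸ Cs := Cs.mkQ.restrictScalars R ∘ₗ bcIncl K
  have hg : Hn ≤ LinearMap.ker g := by
    intro y hy
    rw [LinearMap.mem_ker]
    show Cs.mkQ ((1 : K) ⊗ₜ[R] y) = 0
    rw [Submodule.mkQ_apply, Submodule.Quotient.mk_eq_zero]
    exact hy
  let ibar : (H ⧸ Hn) →ₗ[R] (K ⊗[R] H) ⧸ Cs := Hn.liftQ g hg
  have hibar : Function.Injective ibar := by
    rw [← LinearMap.ker_eq_bot]
    apply Submodule.ker_liftQ_eq_bot
    intro y hy
    rw [LinearMap.mem_ker] at hy
    have hy' : Cs.mkQ ((1 : K) ⊗ₜ[R] y) = 0 := hy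
    rw [Submodule.mkQ_apply, Submodule.Quotient.mk_eq_zero] at hy'
    exact hy'
  have hinj : Function.Injective (ibar.rTensor H) :=
    Module.Flat.rTensor_preserves_injective_linearMap ibar hibar
  apply hinj
  rw [map_zero, ← LinearMap.comp_apply, ← LinearMap.rTensor_comp]
  have hcomp : ibar ∘ₗ Hn.mkQ = g := Submodule.liftQ_mkQ Hn g hg
  rw [hcomp]
  show ((Cs.mkQ.restrictScalars R ∘ₗ bcIncl K).rTensor H) t = 0
  rw [← cancelBaseChange_rTensor_mkQ_theta, ← comul_bcIncl_sub]
  obtain ⟨s, hs⟩ := hx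
  rw [← hs, ← LinearMap.comp_apply, ← LinearMap.rTensor_comp]
  have : Cs.mkQ ∘ₗ Cs.subtype = 0 := by
    ext y
    simp
  rw [this, LinearMap.rTensor_zero, LinearMap.zero_apply, map_zero]

end Descent

section BaseChange

open Groth.Agent.Lib.HopfPrim41

variable {R : Type u} [CommRing R] {H : Type v} [CommRing H] [HopfAlgebra R H]

/-- A filtration of an `R`-Hopf algebra `H` by `R`-submodules with trivial graded pieces makes
`κ ⊗[R] H` unipotent for every field `κ` over `R`. -/
theorem isUnipotent_baseChange_of_filtration (κ : Type w) [Field κ] [Algebra R κ]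
    (Hs : ℕ → Submodule R H) (h0 : Hs 0 = ⊥) (hmono : Monotone Hs) (hexh : ∀ x : H, ∃ n, x ∈ Hs n)
    (hstep : ∀ n, ∀ x ∈ Hs (n + 1), CoalgebraStruct.comul (R := R) x - x ⊗ₜ[R] (1 : H) ∈
      LinearMap.range ((Hs n).subtype.rTensor H)) :
    HopfRep.IsUnipotent κ (κ ⊗[R] H) := by
  let Ds : ℕ → Submodule κ (κ ⊗[R] H) := fun n =>
    Submodule.span κ ((fun x : H => (1 : κ) ⊗ₜ[R] x) '' (Hs n : Set H))
  have hDsmono : Monotone Ds := fun m n hmn =>
    Submodule.span_mono (Set.image_mono (hmono hmn))
  refine isUnipotent_of_regular_filtration Ds ?_ hDsmono ?_ ?_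
  · show Submodule.span κ ((fun x : H => (1 : κ) ⊗ₜ[R] x) '' (Hs 0 : Set H)) = ⊥
    rw [h0, eq_bot_iff, Submodule.span_le]
    rintro _ ⟨y, hy, rfl⟩
    rw [SetLike.mem_coe, Submodule.mem_bot] at hy
    simp [hy]
  · intro d
    induction d using TensorProduct.induction_on with
    | zero => exact ⟨0, zero_mem _⟩
    | tmul c x =>
      obtain ⟨n, hn⟩ := hexh x
      refine ⟨n, ?_⟩
      have h1 : c ⊗ₜ[R] x = c • ((1 : κ) ⊗ₜ[R] x) := by
        rw [TensorProduct.smul_tmul', smul_eq_mul, mul_one]
      rw [h1]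
      exact Submodule.smul_mem _ _ (Submodule.subset_span ⟨x, hn, rfl⟩)
    | add a b ha hb =>
      obtain ⟨m, hm⟩ := ha
      obtain ⟨n, hn⟩ := hb
      exact ⟨max m n, add_mem (hDsmono (le_max_left m n) hm) (hDsmono (le_max_right m n) hn)⟩
  · intro n d hd φ
    have hlin : slice φ d - φ 1 • d =
        (slice φ - φ 1 • LinearMap.id : (κ ⊗[R] H) →ₗ[κ] (κ ⊗[R] H)) d := by
      simp
    rw [hlin]
    have key : ∀ e ∈ Submodule.span κ ((fun x : H => (1 : κ) ⊗ₜ[R] x) '' (Hs (n + 1) : Set H)),
        (slice φ - φ 1 • LinearMap.id : (κ ⊗[R] H) →ₗ[κ] (κ ⊗[R] H)) e ∈ Ds n := by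
      intro e he
      induction he using Submodule.span_induction with
      | zero => rw [map_zero]; exact zero_mem _
      | add a b _ _ ha hb => rw [map_add]; exact add_mem ha hb
      | smul a b _ hb => rw [map_smul]; exact Submodule.smul_mem _ _ hb
      | mem e he =>
        obtain ⟨x, hx, rfl⟩ := he
        obtain ⟨s, hs⟩ := hstep n x hx
        have h1 : (slice φ - φ 1 • LinearMap.id : (κ ⊗[R] H) →ₗ[κ] (κ ⊗[R] H))
            ((1 : κ) ⊗ₜ[R] x) =
            contr (κ ⊗[R] H) φ (CoalgebraStruct.comul (R := κ) ((1 : κ) ⊗ₜ[R] x) -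
              ((1 : κ) ⊗ₜ[R] x) ⊗ₜ[κ] (1 : κ ⊗[R] H)) := by
          rw [map_sub, contr_tmul]
          simp [slice]
        rw [h1, comul_bcIncl_sub, ← hs]
        clear hs h1
        induction s using TensorProduct.induction_on with
        | zero => simp
        | add a b ha hb =>
          simp only [map_add, TensorProduct.tmul_add]
          exact add_mem ha hb
        | tmul y z =>
          rw [LinearMap.rTensor_tmul, theta_tmul_tmul, contr_tmul]
          exact Submodule.smul_mem _ _ (Submodule.subset_span ⟨y.1, y.2, rfl⟩)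
    exact key d hd

/-- Unipotence ascends along base change of fields (and more generally to any field over the
base field). -/
theorem isUnipotent_baseChange {k : Type u} [Field k] {A : Type v} [CommRing A] [HopfAlgebra k A]
    (κ : Type w) [Field κ] [Algebra k κ] (hU : HopfRep.IsUnipotent k A) :
    HopfRep.IsUnipotent κ (κ ⊗[k] A) :=
  isUnipotent_baseChange_of_filtration κ (unipFilt k A) unipFilt_zero unipFilt_mono
    (unipFilt_exhaustive hU) (fun _ _ hx => comul_sub_mem_of_mem_unipFilt_succ hx)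

end BaseChange

section Comap

variable (R : Type u) [CommRing R] (K : Type w) [Field K] [Algebra R K]
  (H : Type v) [CommRing H] [HopfAlgebra R H]

/-- The filtration on an `R`-Hopf algebra `H` induced by the canonical unipotent filtration
of `K ⊗[R] H` (`K` a field over `R`). -/
noncomputable def unipFiltComap (n : ℕ) : Submodule R H :=
  ((unipFilt K (K ⊗[R] H) n).restrictScalars R).comap (bcIncl K)

variable {R H}

theorem unipFiltComap_step [Module.Flat R H] (n : ℕ)
    (x : H) (hx : x ∈ unipFiltComap R K H (n + 1)) :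
    CoalgebraStruct.comul (R := R) x - x ⊗ₜ[R] (1 : H) ∈
      LinearMap.range ((unipFiltComap R K H n).subtype.rTensor H) :=
  comul_sub_mem_comap K (unipFilt K (K ⊗[R] H) n) x
    (comul_sub_mem_of_mem_unipFilt_succ (k := K) (C := K ⊗[R] H) hx)

theorem unipFiltComap_mono : Monotone (unipFiltComap R K H) := fun _ _ hmn _ hx =>
  unipFilt_mono (k := K) (C := K ⊗[R] H) hmn hx

theorem unipFiltComap_zero
    (hinj : Function.Injective (bcIncl (R := R) (H := H) K)) : unipFiltComap R K H 0 = ⊥ := by
  rw [eq_bot_iff]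
  intro x hx
  have hx' : bcIncl K x ∈ unipFilt K (K ⊗[R] H) 0 := hx
  rw [unipFilt_zero, Submodule.mem_bot] at hx'
  rw [Submodule.mem_bot]
  exact hinj (hx'.trans (map_zero _).symm)

/-- If `K ⊗[R] H` is unipotent (`K` a field over `R`, `H` flat with `H → K ⊗ H` injective), then
`κ ⊗[R] H` is unipotent for every field `κ` over `R`. -/
theorem isUnipotent_baseChange_of_isUnipotent_baseChange
    [Module.Flat R H] (hinj : Function.Injective (bcIncl (R := R) (H := H) K))
    (hK : HopfRep.IsUnipotent K (K ⊗[R] H)) (κ : Type x) [Field κ] [Algebra R κ] :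
    HopfRep.IsUnipotent κ (κ ⊗[R] H) :=
  isUnipotent_baseChange_of_filtration κ (unipFiltComap R K H) (unipFiltComap_zero K hinj)
    (unipFiltComap_mono K) (fun x => unipFilt_exhaustive hK (bcIncl K x))
    (unipFiltComap_step K)

/-- Unipotence descends along base change of fields. -/
theorem isUnipotent_of_isUnipotent_baseChange {k : Type u} [Field k] {A : Type v} [CommRing A]
    [HopfAlgebra k A] (K : Type w) [Field K] [Algebra k K]
    (hK : HopfRep.IsUnipotent K (K ⊗[k] A)) : HopfRep.IsUnipotent k A := by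
  have hinj : Function.Injective (bcIncl (R := k) (H := A) K) := by
    have h1 : Function.Injective ((Algebra.linearMap k K).rTensor A) :=
      Module.Flat.rTensor_preserves_injective_linearMap _ (algebraMap k K).injective
    have h2 : bcIncl (R := k) (H := A) K =
        (Algebra.linearMap k K).rTensor A ∘ₗ (TensorProduct.lid k A).symm.toLinearMap := by
      ext a
      simp
    rw [h2]
    exact h1.comp (TensorProduct.lid k A).symm.injective
  refine isUnipotent_of_regular_filtration (unipFiltComap k K A) (unipFiltComap_zero K hinj)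
    (unipFiltComap_mono K) (fun x => unipFilt_exhaustive hK (bcIncl K x)) ?_
  intro n c hc φ
  have h1 := unipFiltComap_step K n c hc
  rw [mem_range_rTensor_subtype_iff] at h1
  have h2 := h1 φ
  rw [map_sub, contr_tmul] at h2
  exact h2

end Comap

end Groth.Agent.Lib.Comod
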