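import Groth.Agent.Lib.ComodHom
import Mathlib.RingTheory.Bialgebra.MonoidAlgebra

/-!
# Weight decomposition of comodules over a group algebra (helper41)

`M` a finite type, `k[M] = AddMonoidAlgebra k M` with its group-like coalgebra structure, `V` a
comodule. `coe a : k[M] → k` the coefficient functional, `wt a = act V (coe a) : V → V` the
projection on the weight space.
* `expand`: `x = Σ a, contr (coe a) x ⊗ single a 1` for `x ∈ V ⊗ k[M]`.
* `coact_eq_sum`: `ρ v = Σ a, wt a v ⊗ single a 1`; `coact_wt`: `ρ (wt a v) = wt a v ⊗ single a 1`;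
  `sum_wt`: `Σ a, wt a v = v`.
-/

set_option autoImplicit false
set_option linter.unusedSectionVars false
universe u v w

open TensorProduct

namespace Groth.Agent.Lib.ComodWeight41

open Groth.Agent.Lib.Comod

variable {k : Type u} [Field k] {M : Type v} [Fintype M] [DecidableEq M]
  {V : Type w} [AddCommGroup V] [Module k V]

/-- The coefficient functional at `a`. -/
noncomputable def coe (a : M) : AddMonoidAlgebra k M →ₗ[k] k :=
  Finsupp.lapply a ∘ₗ (AddMonoidAlgebra.coeffLinearEquiv k).toLinearMap

theorem coe_single (a b : M) (c : k) :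
    coe (k := k) a (AddMonoidAlgebra.single b c) = if b = a then c else 0 := by
  show (AddMonoidAlgebra.single b c).coeff a = _
  rw [AddMonoidAlgebra.coeff_single, Finsupp.single_apply]

theorem eq_sum_coe (y : AddMonoidAlgebra k M) :
    y = ∑ a : M, coe a y • AddMonoidAlgebra.single a (1 : k) := by
  have h : (LinearMap.id : AddMonoidAlgebra k M →ₗ[k] AddMonoidAlgebra k M) =
      ∑ a : M, (LinearMap.toSpanSingleton k _ (AddMonoidAlgebra.single a (1 : k))) ∘ₗ coe a := by
    apply AddMonoidAlgebra.lhom_ext'
    intro b
    apply LinearMap.ext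
    intro c
    simp only [LinearMap.comp_apply, LinearMap.id_apply, AddMonoidAlgebra.lsingle_apply,
      LinearMap.sum_apply, LinearMap.toSpanSingleton_apply, coe_single]
    rw [Finset.sum_eq_single b]
    · simp [AddMonoidAlgebra.smul_single]
    · intro a _ hab
      rw [if_neg (Ne.symm hab), zero_smul]
    · intro hb
      exact absurd (Finset.mem_univ b) hb
  have := LinearMap.congr_fun h y
  simpa using this

/-- Expansion of a tensor along the basis of group-like elements. -/
theorem expand (x : V ⊗[k] AddMonoidAlgebra k M) :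
    x = ∑ a : M, contr V (coe a) x ⊗ₜ[k] AddMonoidAlgebra.single a (1 : k) := by
  induction x using TensorProduct.induction_on with
  | zero => simp
  | add x y hx hy =>
    conv_lhs => rw [hx, hy]
    rw [← Finset.sum_add_distrib]
    refine Finset.sum_congr rfl fun a _ => ?_
    rw [map_add, TensorProduct.add_tmul]
  | tmul v y =>
    conv_lhs => rw [eq_sum_coe y]
    rw [TensorProduct.tmul_sum]
    refine Finset.sum_congr rfl fun a _ => ?_
    rw [contr_tmul, TensorProduct.tmul_smul, TensorProduct.smul_tmul']

variable [AddMonoid M] [HopfRep.Comod k (AddMonoidAlgebra k M) V]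

/-- Projection onto the weight space of `a`. -/
noncomputable def wt (a : M) : V →ₗ[k] V := act V (coe (k := k) a)

theorem coact_eq_sum (v : V) :
    HopfRep.Comod.coact (k := k) (A := AddMonoidAlgebra k M) v =
      ∑ a : M, wt (k := k) a v ⊗ₜ[k] AddMonoidAlgebra.single a (1 : k) :=
  expand _

theorem comul_single_one (b : M) :
    CoalgebraStruct.comul (R := k) (AddMonoidAlgebra.single b (1 : k)) =
      AddMonoidAlgebra.single b (1 : k) ⊗ₜ[k] AddMonoidAlgebra.single b (1 : k) := by
  rw [AddMonoidAlgebra.comul_single]
  simp [AddMonoidAlgebra.lsingle_apply]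

theorem slice_coe_single (a b : M) :
    slice (coe (k := k) a) (AddMonoidAlgebra.single b (1 : k)) =
      if b = a then AddMonoidAlgebra.single b (1 : k) else 0 := by
  rw [slice, LinearMap.comp_apply, comul_single_one, contr_tmul, coe_single]
  split_ifs <;> simp

theorem coact_wt (a : M) (v : V) :
    HopfRep.Comod.coact (k := k) (A := AddMonoidAlgebra k M) (wt (k := k) a v) =
      wt (k := k) a v ⊗ₜ[k] AddMonoidAlgebra.single a (1 : k) := by
  rw [wt, act_apply, coact_contr_coact]
  conv_lhs => rw [coact_eq_sum v]
  rw [map_sum]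
  rw [Finset.sum_eq_single a]
  · rw [LinearMap.lTensor_tmul, slice_coe_single, if_pos rfl]
    rfl
  · intro b _ hba
    rw [LinearMap.lTensor_tmul, slice_coe_single, if_neg hba, TensorProduct.tmul_zero]
  · intro ha
    exact absurd (Finset.mem_univ a) ha

theorem sum_wt (v : V) : ∑ a : M, wt (k := k) a v = v := by
  have h := LinearMap.congr_fun
    (HopfRep.Comod.counit_comp (k := k) (A := AddMonoidAlgebra k M) (V := V)) v
  rw [LinearMap.comp_apply, coact_eq_sum v, map_sum] at h
  simp only [LinearMap.lTensor_tmul, AddMonoidAlgebra.counit_single, LinearMap.flip_apply,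
    TensorProduct.mk_apply] at h
  have h2 := congrArg (TensorProduct.rid k V) h
  rw [map_sum] at h2
  simpa using h2

end Groth.Agent.Lib.ComodWeight41
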