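import Mathlib

/-!
# Lattice index computations (for `CompLat` statements S14805 / S14806)

`M = ℤⁿ`, `S` = sum of coordinates, `D = diag δ` with nonzero entries.
-/

set_option autoImplicit false
open Finset

namespace Groth.Agent.Lib.CompLatIndex

/-- The cardinality of `K ⧸ (P ∩ K)` is the relative index. -/
theorem card_quot_comap {M : Type*} [AddCommGroup M] (K P : Submodule ℤ M) :
    Nat.card (K ⧸ P.comap K.subtype) = P.toAddSubgroup.relIndex K.toAddSubgroup := rfl

variable {n : ℕ}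

/-- sum of coordinates -/
noncomputable abbrev S (n : ℕ) : (Fin n → ℤ) →ₗ[ℤ] ℤ :=
  ∑ i : Fin n, (LinearMap.proj i : (Fin n → ℤ) →ₗ[ℤ] ℤ)

/-- the diagonal map -/
noncomputable abbrev D (δ : Fin n → ℤ) : (Fin n → ℤ) →ₗ[ℤ] (Fin n → ℤ) :=
  Matrix.mulVecLin (Matrix.diagonal δ)

theorem S_apply (x : Fin n → ℤ) : S n x = ∑ i, x i := by
  simp [S, LinearMap.sum_apply]

theorem D_apply (δ x : Fin n → ℤ) (i : Fin n) : D δ x i = δ i * x i := by
  simp [D, Matrix.mulVec_diagonal]

theorem D_injective (δ : Fin n → ℤ) (hδ : ∀ i, δ i ≠ 0) : Function.Injective (D δ) := by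
  intro x y h
  funext i
  have := congrFun h i
  rw [D_apply, D_apply] at this
  exact mul_left_cancel₀ (hδ i) this

theorem S_surjective (hn : 0 < n) : Function.Surjective (S n) := by
  intro z
  refine ⟨Pi.single ⟨0, hn⟩ z, ?_⟩
  rw [S_apply]
  simp

theorem index_range_D (δ : Fin n → ℤ) (hδ : ∀ i, δ i ≠ 0) :
    (LinearMap.range (D δ)).toAddSubgroup.index = (∏ i, δ i).natAbs := by
  have hinj := D_injective δ hδ
  let e : (Fin n → ℤ) ≃ₗ[ℤ] LinearMap.range (D δ) := LinearEquiv.ofInjective (D δ) hinj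
  have h := Submodule.natAbs_det_equiv (LinearMap.range (D δ)) e
  have hcomp : (LinearMap.range (D δ)).subtype ∘ₗ
      AddMonoidHom.toIntLinearMap ((e : (Fin n → ℤ) →+ LinearMap.range (D δ))) = D δ := by
    ext x i
    rfl
  rw [hcomp] at h
  have hdet : LinearMap.det (D δ) = ∏ i, δ i := by
    show LinearMap.det (Matrix.toLin' (Matrix.diagonal δ)) = _
    rw [LinearMap.det_toLin', Matrix.det_diagonal]
  rw [hdet] at h
  rw [h]
  rfl

theorem map_S_range_D (δ : Fin n → ℤ) :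
    ((LinearMap.range (D δ)).toAddSubgroup).map (S n).toAddMonoidHom =
      AddSubgroup.zmultiples (univ.gcd δ) := by
  apply le_antisymm
  · rintro _ ⟨_, ⟨x, rfl⟩, rfl⟩
    show S n (D δ x) ∈ _
    rw [S_apply, AddSubgroup.mem_zmultiples_iff]
    have : univ.gcd δ ∣ ∑ i, D δ x i := by
      refine Finset.dvd_sum fun i _ => ?_
      rw [D_apply]
      exact Dvd.dvd.mul_right (Finset.gcd_dvd (Finset.mem_univ i)) _
    obtain ⟨c, hc⟩ := this
    exact ⟨c, by rw [hc, smul_eq_mul, mul_comm]⟩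
  · rw [AddSubgroup.zmultiples_le]
    obtain ⟨g, hg⟩ := Finset.gcd_eq_sum_mul (univ : Finset (Fin n)) δ
    refine ⟨D δ g, ⟨g, rfl⟩, ?_⟩
    show S n (D δ g) = _
    rw [S_apply, hg]
    exact Finset.sum_congr rfl fun i _ => D_apply δ g i

theorem index_sup_ker_S (hn : 0 < n) (δ : Fin n → ℤ) :
    ((LinearMap.range (D δ)).toAddSubgroup ⊔ (LinearMap.ker (S n)).toAddSubgroup).index =
      (univ.gcd δ).natAbs := by
  have hker : (LinearMap.ker (S n)).toAddSubgroup = (S n).toAddMonoidHom.ker := rfl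
  rw [hker, ← AddSubgroup.comap_map_eq,
    AddSubgroup.index_comap_of_surjective _ (S_surjective hn), map_S_range_D, Int.index_zmultiples]

theorem relIndex_range_D_ker_S (hn : 0 < n) (δ : Fin n → ℤ) (hδ : ∀ i, δ i ≠ 0) :
    (LinearMap.range (D δ)).toAddSubgroup.relIndex (LinearMap.ker (S n)).toAddSubgroup *
      (univ.gcd δ).natAbs = (∏ i, δ i).natAbs := by
  rw [← AddSubgroup.relIndex_sup_left, ← index_sup_ker_S hn δ, ← index_range_D δ hδ]
  exact AddSubgroup.relIndex_mul_index le_sup_left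

/-- `#(ker(SD)/P) · |det D| = gcd(δ) · #(ker S / D(P))` for `P ≤ ker(SD)`. -/
theorem card_mul_eq (hn : 0 < n) (δ : Fin n → ℤ) (hδ : ∀ i, δ i ≠ 0)
    (P : Submodule ℤ (Fin n → ℤ)) (hP : P ≤ LinearMap.ker (S n ∘ₗ D δ)) :
    Nat.card (LinearMap.ker (S n ∘ₗ D δ) ⧸ P.comap (LinearMap.ker (S n ∘ₗ D δ)).subtype) *
        (∏ i, δ i).natAbs =
      (univ.gcd δ).natAbs *
        Nat.card (LinearMap.ker (S n) ⧸ (P.map (D δ)).comap (LinearMap.ker (S n)).subtype) := by
  rw [card_quot_comap, card_quot_comap]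
  set k1 := (LinearMap.ker (S n ∘ₗ D δ)).toAddSubgroup with hk1
  set k0 := (LinearMap.ker (S n)).toAddSubgroup with hk0
  set p := P.toAddSubgroup with hp
  set imD := (LinearMap.range (D δ)).toAddSubgroup with himD
  have hq : (P.map (D δ)).toAddSubgroup = p.map (D δ).toAddMonoidHom := rfl
  have hk : k0 ⊓ imD = k1.map (D δ).toAddMonoidHom := by
    ext y
    constructor
    · rintro ⟨hy0, x, rfl⟩
      exact ⟨x, hy0, rfl⟩
    · rintro ⟨x, hx, rfl⟩
      exact ⟨hx, x, rfl⟩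
  have hpk : p ≤ k1 := hP
  have h1 : p.relIndex k1 =
      (p.map (D δ).toAddMonoidHom).relIndex (k1.map (D δ).toAddMonoidHom) :=
    (AddSubgroup.relIndex_map_map_of_injective p k1 (D_injective δ hδ)).symm
  have h2 : (p.map (D δ).toAddMonoidHom).relIndex (k0 ⊓ imD) * (k0 ⊓ imD).relIndex k0 =
      (p.map (D δ).toAddMonoidHom).relIndex k0 := by
    apply AddSubgroup.relIndex_mul_relIndex
    · rw [hk]
      exact AddSubgroup.map_mono hpk
    · exact inf_le_left
  have h3 : (k0 ⊓ imD).relIndex k0 = imD.relIndex k0 := AddSubgroup.inf_relIndex_left _ _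
  have h4 := relIndex_range_D_ker_S hn δ hδ
  rw [hq, ← h2, h3, hk, ← h1]
  calc p.relIndex k1 * (∏ i, δ i).natAbs
      = p.relIndex k1 * (imD.relIndex k0 * (univ.gcd δ).natAbs) := by rw [h4]
    _ = (univ.gcd δ).natAbs * (p.relIndex k1 * imD.relIndex k0) := by ring

end Groth.Agent.Lib.CompLatIndex
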