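import Groth.Agent.Lib.CompLatIndex

/-!
# Lattice index computations, part 2 (for S14806)

`[ker A : ker A ∩ im D'] = gcd δ'` when `A` has rank `n - 1` and `A δ' = 0`.
-/

set_option autoImplicit false
open Finset

namespace Groth.Agent.Lib.CompLatIndex

variable {n : ℕ}

theorem finrank_ker_of_rank (A : Matrix (Fin n) (Fin n) ℤ) (hn : 0 < n) (hA : A.rank = n - 1) :
    Module.finrank ℤ (LinearMap.ker A.mulVecLin) = 1 := by
  have h := LinearMap.rank_range_add_rank_ker A.mulVecLin
  have h' := congrArg Cardinal.toNat h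
  rw [Cardinal.toNat_add (Module.rank_lt_aleph0 _ _) (Module.rank_lt_aleph0 _ _)] at h'
  have h1 : Cardinal.toNat (Module.rank ℤ (LinearMap.range A.mulVecLin)) = n - 1 := hA
  have h2 : Cardinal.toNat (Module.rank ℤ (Fin n → ℤ)) = n := by
    show Module.finrank ℤ (Fin n → ℤ) = n
    simp
  rw [h1, h2] at h'
  show Cardinal.toNat (Module.rank ℤ (LinearMap.ker A.mulVecLin)) = 1
  omega

/-- The kernel of a rank `n-1` integer matrix killing `δ'` is spanned by `δ' / gcd δ'`; its index
over its intersection with `im D'` is `gcd δ'`. -/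
theorem relIndex_range_D_ker (hn : 0 < n) (δ' : Fin n → ℤ) (hδ' : ∀ i, δ' i ≠ 0)
    (A : Matrix (Fin n) (Fin n) ℤ) (hA : A.rank = n - 1) (hAδ : A.mulVec δ' = 0) :
    (LinearMap.range (D δ')).toAddSubgroup.relIndex (LinearMap.ker A.mulVecLin).toAddSubgroup =
      (univ.gcd δ').natAbs := by
  set g' := univ.gcd δ' with hg'
  have hg0 : g' ≠ 0 := by
    intro h
    rw [hg', Finset.gcd_eq_zero_iff] at h
    exact hδ' ⟨0, hn⟩ (h _ (Finset.mem_univ _))
  set w : Fin n → ℤ := fun i => δ' i / g' with hw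
  have hgw : ∀ i, g' * w i = δ' i := fun i =>
    Int.mul_ediv_cancel' (Finset.gcd_dvd (Finset.mem_univ i))
  have hgw' : g' • w = δ' := funext fun i => by rw [Pi.smul_apply, smul_eq_mul, hgw]
  have hw0 : ∀ i, w i ≠ 0 := by
    intro i h
    have := hgw i
    rw [h, mul_zero] at this
    exact hδ' i this.symm
  -- Bezout
  obtain ⟨c, hc⟩ : ∃ c : Fin n → ℤ, ∑ i, w i * c i = 1 := by
    obtain ⟨c, hc⟩ := Finset.gcd_eq_sum_mul (univ : Finset (Fin n)) δ'
    refine ⟨c, ?_⟩
    apply mul_left_cancel₀ hg0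
    have hc' : g' = ∑ a, δ' a * c a := hc
    rw [mul_one, Finset.mul_sum]
    conv_rhs => rw [hc']
    exact Finset.sum_congr rfl fun i _ => by rw [← mul_assoc, hgw]
  -- `w` is in the kernel
  have hAw : A.mulVec w = 0 := by
    have : g' • A.mulVec w = 0 := by rw [← Matrix.mulVec_smul, hgw', hAδ]
    exact (smul_eq_zero.mp this).resolve_left hg0
  have hwker : w ∈ LinearMap.ker A.mulVecLin := by
    rw [LinearMap.mem_ker, Matrix.mulVecLin_apply, hAw]
  -- every element of the kernel is a multiple of `w`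
  have hfr := finrank_ker_of_rank A hn hA
  have hspan : ∀ x ∈ LinearMap.ker A.mulVecLin, ∃ s : ℤ, x = s • w := by
    intro x hx
    have hdep : ¬ LinearIndependent ℤ
        (![⟨w, hwker⟩, ⟨x, hx⟩] : Fin 2 → LinearMap.ker A.mulVecLin) := by
      intro hli
      have := hli.fintype_card_le_finrank
      rw [hfr] at this
      simp at this
    rw [Fintype.not_linearIndependent_iff] at hdep
    obtain ⟨gg, hsum, hne⟩ := hdep
    rw [Fin.sum_univ_two] at hsum
    have hsum' : gg 0 • w + gg 1 • x = 0 := by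
      have := congrArg Subtype.val hsum
      simpa using this
    have hb : gg 1 ≠ 0 := by
      intro hb
      rw [hb, zero_smul, add_zero] at hsum'
      have ha : gg 0 = 0 := by
        rcases smul_eq_zero.mp hsum' with h | h
        · exact h
        · exact absurd (congrFun h ⟨0, hn⟩) (hw0 _)
      obtain ⟨i, hi⟩ := hne
      fin_cases i
      · exact hi ha
      · exact hi hb
    -- `a = - b * s` with `s = Σ x_i c_i`
    set s := ∑ i, x i * c i with hs
    have hcoord : ∀ i, gg 0 * w i + gg 1 * x i = 0 := fun i => by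
      have := congrFun hsum' i
      simpa using this
    have ha : gg 0 = - gg 1 * s := by
      have h1 : ∑ i, (gg 0 * w i + gg 1 * x i) * c i = 0 :=
        Finset.sum_eq_zero fun i _ => by rw [hcoord, zero_mul]
      have h2 : ∑ i, (gg 0 * w i + gg 1 * x i) * c i =
          gg 0 * ∑ i, w i * c i + gg 1 * ∑ i, x i * c i := by
        rw [Finset.mul_sum, Finset.mul_sum, ← Finset.sum_add_distrib]
        exact Finset.sum_congr rfl fun i _ => by ring
      rw [h2, hc, mul_one] at h1
      linarith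
    refine ⟨s, funext fun i => ?_⟩
    apply mul_left_cancel₀ hb
    have := hcoord i
    rw [ha] at this
    rw [Pi.smul_apply, smul_eq_mul]
    linarith
  -- the parametrisation `k ↦ k • w`
  let φ : ℤ →+ (Fin n → ℤ) :=
    { toFun := fun k => k • w
      map_zero' := zero_smul _ _
      map_add' := fun a b => add_smul a b w }
  have hrange : (LinearMap.ker A.mulVecLin).toAddSubgroup = (⊤ : AddSubgroup ℤ).map φ := by
    ext x
    constructor
    · intro hx
      obtain ⟨s, rfl⟩ := hspan x hx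
      exact ⟨s, trivial, rfl⟩
    · rintro ⟨k, -, rfl⟩
      exact (LinearMap.ker A.mulVecLin).smul_mem k hwker
  have hcomap : (LinearMap.range (D δ')).toAddSubgroup.comap φ = AddSubgroup.zmultiples g' := by
    ext k
    rw [AddSubgroup.mem_zmultiples_iff]
    constructor
    · rintro ⟨x, hx⟩
      have := congrFun hx ⟨0, hn⟩
      rw [D_apply] at this
      change δ' ⟨0, hn⟩ * x ⟨0, hn⟩ = k * w ⟨0, hn⟩ at this
      rw [← hgw, mul_assoc, mul_comm (w _), ← mul_assoc] at this
      refine ⟨x ⟨0, hn⟩, ?_⟩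
      rw [smul_eq_mul, mul_comm]
      exact mul_right_cancel₀ (hw0 _) this
    · rintro ⟨m, rfl⟩
      refine ⟨fun _ => m, funext fun i => ?_⟩
      rw [D_apply]
      change δ' i * m = (m • g') * w i
      rw [smul_eq_mul, mul_assoc, hgw, mul_comm]
  rw [hrange, ← AddSubgroup.relIndex_comap, AddSubgroup.relIndex_top_right, hcomap,
    Int.index_zmultiples]

/-- `#(ker(SD)/im A) · |det D| · |det D'| = gcd δ · gcd δ' · #(ker S / im(D A D'))`. -/
theorem card_mul_eq_twisted (hn : 0 < n) (δ δ' : Fin n → ℤ) (hδ : ∀ i, δ i ≠ 0)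
    (hδ' : ∀ i, δ' i ≠ 0) (A : Matrix (Fin n) (Fin n) ℤ) (hA : A.rank = n - 1)
    (hP : LinearMap.range A.mulVecLin ≤ LinearMap.ker (S n ∘ₗ D δ)) (hAδ : A.mulVec δ' = 0) :
    Nat.card (LinearMap.ker (S n ∘ₗ D δ) ⧸
        (LinearMap.range A.mulVecLin).comap (LinearMap.ker (S n ∘ₗ D δ)).subtype) *
        (∏ i, δ i).natAbs * (∏ i, δ' i).natAbs =
      (univ.gcd δ).natAbs * (univ.gcd δ').natAbs *
        Nat.card (LinearMap.ker (S n) ⧸
          (LinearMap.range (D δ ∘ₗ A.mulVecLin ∘ₗ D δ')).comap (LinearMap.ker (S n)).subtype) := by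
  have h1 := card_mul_eq hn δ hδ (LinearMap.range A.mulVecLin) hP
  rw [h1, card_quot_comap, card_quot_comap]
  set k0 := (LinearMap.ker (S n)).toAddSubgroup with hk0
  set imD' := (LinearMap.range (D δ')).toAddSubgroup with himD'
  set kerA := (LinearMap.ker A.mulVecLin).toAddSubgroup with hkerA
  let f : (Fin n → ℤ) →+ (Fin n → ℤ) := (D δ ∘ₗ A.mulVecLin).toAddMonoidHom
  have hq : ((LinearMap.range A.mulVecLin).map (D δ)).toAddSubgroup = (⊤ : AddSubgroup _).map f := by
    ext y
    constructor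
    · rintro ⟨_, ⟨x, rfl⟩, rfl⟩
      exact ⟨x, trivial, rfl⟩
    · rintro ⟨x, -, rfl⟩
      exact ⟨_, ⟨x, rfl⟩, rfl⟩
  have hq' : (LinearMap.range (D δ ∘ₗ A.mulVecLin ∘ₗ D δ')).toAddSubgroup = imD'.map f := by
    ext y
    constructor
    · rintro ⟨x, rfl⟩
      exact ⟨D δ' x, ⟨x, rfl⟩, rfl⟩
    · rintro ⟨_, ⟨x, rfl⟩, rfl⟩
      exact ⟨x, rfl⟩
  have hfker : f.ker = kerA := by
    ext x
    show D δ (A.mulVecLin x) = 0 ↔ A.mulVecLin x = 0
    constructor
    · intro h
      exact D_injective δ hδ (h.trans (map_zero _).symm)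
    · intro h
      rw [h, map_zero]
  have hqk0 : (⊤ : AddSubgroup _).map f ≤ k0 := by
    rintro _ ⟨x, -, rfl⟩
    exact hP ⟨x, rfl⟩
  have hq'q : imD'.map f ≤ (⊤ : AddSubgroup _).map f := AddSubgroup.map_mono le_top
  have hmul := AddSubgroup.relIndex_mul_relIndex (imD'.map f) ((⊤ : AddSubgroup _).map f) k0
    hq'q hqk0
  have hr : (imD'.map f).relIndex ((⊤ : AddSubgroup _).map f) = (imD' ⊔ kerA).index := by
    rw [AddSubgroup.relIndex_map_map, hfker, top_sup_eq, AddSubgroup.relIndex_top_right]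
  have h2 : imD'.relIndex (imD' ⊔ kerA) * (imD' ⊔ kerA).index = imD'.index :=
    AddSubgroup.relIndex_mul_index le_sup_left
  rw [AddSubgroup.relIndex_sup_left, relIndex_range_D_ker hn δ' hδ' A hA hAδ,
    index_range_D δ' hδ'] at h2
  rw [hq, hq', ← hmul, hr, ← h2]
  ring

end Groth.Agent.Lib.CompLatIndex
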