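import Mathlib

/-!
# Lattice index computations over an arbitrary finite index type

Generalisation of `Lib/CompLatIndex(2)` from `Fin n` to any nonempty `Fintype ι`:
`M = ι → ℤ`, `S` = sum of coordinates, `D δ` = diagonal map with nonzero entries.
-/

set_option autoImplicit false
set_option linter.unusedSectionVars false
open Finset

namespace Groth.Agent.Lib.CompLatIndexGen

theorem card_quot_comap {M : Type*} [AddCommGroup M] (K P : Submodule ℤ M) :
    Nat.card (K ⧸ P.comap K.subtype) = P.toAddSubgroup.relIndex K.toAddSubgroup := rfl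

variable {ι : Type*} [Fintype ι] [DecidableEq ι]

/-- sum of coordinates -/
noncomputable abbrev S (ι : Type*) [Fintype ι] : (ι → ℤ) →ₗ[ℤ] ℤ :=
  ∑ i : ι, (LinearMap.proj i : (ι → ℤ) →ₗ[ℤ] ℤ)

/-- the diagonal map -/
noncomputable abbrev D (δ : ι → ℤ) : (ι → ℤ) →ₗ[ℤ] (ι → ℤ) :=
  Matrix.mulVecLin (Matrix.diagonal δ)

theorem S_apply (x : ι → ℤ) : S ι x = ∑ i, x i := by
  simp [S, LinearMap.sum_apply]

theorem D_apply (δ x : ι → ℤ) (i : ι) : D δ x i = δ i * x i := by
  simp [D, Matrix.mulVec_diagonal]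

theorem D_injective (δ : ι → ℤ) (hδ : ∀ i, δ i ≠ 0) : Function.Injective (D δ) := by
  intro x y h
  funext i
  have := congrFun h i
  rw [D_apply, D_apply] at this
  exact mul_left_cancel₀ (hδ i) this

theorem S_surjective [Nonempty ι] : Function.Surjective (S ι) := by
  intro z
  obtain ⟨i₀⟩ := ‹Nonempty ι›
  refine ⟨Pi.single i₀ z, ?_⟩
  rw [S_apply]
  simp

theorem index_range_D (δ : ι → ℤ) (hδ : ∀ i, δ i ≠ 0) :
    (LinearMap.range (D δ)).toAddSubgroup.index = (∏ i, δ i).natAbs := by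
  have hinj := D_injective δ hδ
  let e : (ι → ℤ) ≃ₗ[ℤ] LinearMap.range (D δ) := LinearEquiv.ofInjective (D δ) hinj
  have h := Submodule.natAbs_det_equiv (LinearMap.range (D δ)) e
  have hcomp : (LinearMap.range (D δ)).subtype ∘ₗ
      AddMonoidHom.toIntLinearMap ((e : (ι → ℤ) →+ LinearMap.range (D δ))) = D δ := by
    ext x i
    rfl
  rw [hcomp] at h
  have hdet : LinearMap.det (D δ) = ∏ i, δ i := by
    show LinearMap.det (Matrix.toLin' (Matrix.diagonal δ)) = _
    rw [LinearMap.det_toLin', Matrix.det_diagonal]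
  rw [hdet] at h
  rw [h]
  rfl

theorem map_S_range_D (δ : ι → ℤ) :
    ((LinearMap.range (D δ)).toAddSubgroup).map (S ι).toAddMonoidHom =
      AddSubgroup.zmultiples (univ.gcd δ) := by
  apply le_antisymm
  · rintro _ ⟨_, ⟨x, rfl⟩, rfl⟩
    show S ι (D δ x) ∈ _
    rw [S_apply, AddSubgroup.mem_zmultiples_iff]
    have : univ.gcd δ ∣ ∑ i, D δ x i := by
      refine Finset.dvd_sum fun i _ => ?_
      rw [D_apply]
      exact Dvd.dvd.mul_right (Finset.gcd_dvd (Finset.mem_univ i)) _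
    obtain ⟨c, hc⟩ := this
    exact ⟨c, by rw [hc, smul_eq_mul, mul_comm]⟩
  · rw [AddSubgroup.zmultiples_le]
    obtain ⟨g, hg⟩ := Finset.gcd_eq_sum_mul (univ : Finset ι) δ
    refine ⟨D δ g, ⟨g, rfl⟩, ?_⟩
    show S ι (D δ g) = _
    rw [S_apply, hg]
    exact Finset.sum_congr rfl fun i _ => D_apply δ g i

theorem index_sup_ker_S [Nonempty ι] (δ : ι → ℤ) :
    ((LinearMap.range (D δ)).toAddSubgroup ⊔ (LinearMap.ker (S ι)).toAddSubgroup).index =
      (univ.gcd δ).natAbs := by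
  have hker : (LinearMap.ker (S ι)).toAddSubgroup = (S ι).toAddMonoidHom.ker := rfl
  rw [hker, ← AddSubgroup.comap_map_eq,
    AddSubgroup.index_comap_of_surjective _ S_surjective, map_S_range_D, Int.index_zmultiples]

theorem relIndex_range_D_ker_S [Nonempty ι] (δ : ι → ℤ) (hδ : ∀ i, δ i ≠ 0) :
    (LinearMap.range (D δ)).toAddSubgroup.relIndex (LinearMap.ker (S ι)).toAddSubgroup *
      (univ.gcd δ).natAbs = (∏ i, δ i).natAbs := by
  rw [← AddSubgroup.relIndex_sup_left, ← index_sup_ker_S δ, ← index_range_D δ hδ]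
  exact AddSubgroup.relIndex_mul_index le_sup_left

/-- `#(ker(SD)/P) · |det D| = gcd(δ) · #(ker S / D(P))` for `P ≤ ker(SD)`. -/
theorem card_mul_eq [Nonempty ι] (δ : ι → ℤ) (hδ : ∀ i, δ i ≠ 0)
    (P : Submodule ℤ (ι → ℤ)) (hP : P ≤ LinearMap.ker (S ι ∘ₗ D δ)) :
    Nat.card (LinearMap.ker (S ι ∘ₗ D δ) ⧸ P.comap (LinearMap.ker (S ι ∘ₗ D δ)).subtype) *
        (∏ i, δ i).natAbs =
      (univ.gcd δ).natAbs *
        Nat.card (LinearMap.ker (S ι) ⧸ (P.map (D δ)).comap (LinearMap.ker (S ι)).subtype) := by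
  rw [card_quot_comap, card_quot_comap]
  set k1 := (LinearMap.ker (S ι ∘ₗ D δ)).toAddSubgroup with hk1
  set k0 := (LinearMap.ker (S ι)).toAddSubgroup with hk0
  set p := P.toAddSubgroup with hp
  set imD := (LinearMap.range (D δ)).toAddSubgroup with himD
  have hq : (P.map (D δ)).toAddSubgroup = p.map (D δ).toAddMonoidHom := rfl
  have hk : k0 ⊓ imD = k1.map (D δ).toAddMonoidHom := by
    ext y
    constructor
    · rintro ⟨hy0, x, rfl⟩
      exact ⟨x, hy0, rfl⟩
    · rintro ⟨x, hx, rfl⟩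
      exact ⟨hx, x, rfl⟩
  have hpk : p ≤ k1 := hP
  have h1 : p.relIndex k1 =
      (p.map (D δ).toAddMonoidHom).relIndex (k1.map (D δ).toAddMonoidHom) :=
    (AddSubgroup.relIndex_map_map_of_injective p k1 (D_injective δ hδ)).symm
  have h2 : (p.map (D δ).toAddMonoidHom).relIndex (k0 ⊓ imD) * (k0 ⊓ imD).relIndex k0 =
      (p.map (D δ).toAddMonoidHom).relIndex k0 := by
    apply AddSubgroup.relIndex_mul_relIndex
    · rw [hk]
      exact AddSubgroup.map_mono hpk
    · exact inf_le_left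
  have h3 : (k0 ⊓ imD).relIndex k0 = imD.relIndex k0 := AddSubgroup.inf_relIndex_left _ _
  have h4 := relIndex_range_D_ker_S δ hδ
  rw [hq, ← h2, h3, hk, ← h1]
  calc p.relIndex k1 * (∏ i, δ i).natAbs
      = p.relIndex k1 * (imD.relIndex k0 * (univ.gcd δ).natAbs) := by rw [h4]
    _ = (univ.gcd δ).natAbs * (p.relIndex k1 * imD.relIndex k0) := by ring

/-- If the kernel of `A` is spanned by `δ' / gcd δ'`, its index over its intersection with
`im D'` is `gcd δ'`. -/
theorem relIndex_range_D_ker [Nonempty ι] (δ' : ι → ℤ) (hδ' : ∀ i, δ' i ≠ 0)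
    (A : Matrix ι ι ℤ) (hAδ : A.mulVec δ' = 0)
    (hspan : ∀ x : ι → ℤ, A.mulVec x = 0 → ∃ s : ℤ, x = s • fun i => δ' i / univ.gcd δ') :
    (LinearMap.range (D δ')).toAddSubgroup.relIndex (LinearMap.ker A.mulVecLin).toAddSubgroup =
      (univ.gcd δ').natAbs := by
  obtain ⟨i₀⟩ := ‹Nonempty ι›
  set g' := univ.gcd δ' with hg'
  have hg0 : g' ≠ 0 := by
    intro h
    rw [hg', Finset.gcd_eq_zero_iff] at h
    exact hδ' i₀ (h _ (Finset.mem_univ _))
  set w : ι → ℤ := fun i => δ' i / g' with hw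
  have hgw : ∀ i, g' * w i = δ' i := fun i =>
    Int.mul_ediv_cancel' (Finset.gcd_dvd (Finset.mem_univ i))
  have hgw' : g' • w = δ' := funext fun i => by rw [Pi.smul_apply, smul_eq_mul, hgw]
  have hw0 : ∀ i, w i ≠ 0 := by
    intro i h
    have := hgw i
    rw [h, mul_zero] at this
    exact hδ' i this.symm
  have hAw : A.mulVec w = 0 := by
    have : g' • A.mulVec w = 0 := by rw [← Matrix.mulVec_smul, hgw', hAδ]
    exact (smul_eq_zero.mp this).resolve_left hg0
  have hwker : w ∈ LinearMap.ker A.mulVecLin := by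
    rw [LinearMap.mem_ker, Matrix.mulVecLin_apply, hAw]
  let φ : ℤ →+ (ι → ℤ) :=
    { toFun := fun k => k • w
      map_zero' := zero_smul _ _
      map_add' := fun a b => add_smul a b w }
  have hrange : (LinearMap.ker A.mulVecLin).toAddSubgroup = (⊤ : AddSubgroup ℤ).map φ := by
    ext x
    constructor
    · intro hx
      have hx' : A.mulVec x = 0 := by
        have := (LinearMap.mem_ker).mp hx
        rwa [Matrix.mulVecLin_apply] at this
      obtain ⟨s, rfl⟩ := hspan x hx'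
      exact ⟨s, trivial, rfl⟩
    · rintro ⟨k, -, rfl⟩
      exact (LinearMap.ker A.mulVecLin).smul_mem k hwker
  have hcomap : (LinearMap.range (D δ')).toAddSubgroup.comap φ = AddSubgroup.zmultiples g' := by
    ext k
    rw [AddSubgroup.mem_zmultiples_iff]
    constructor
    · rintro ⟨x, hx⟩
      have := congrFun hx i₀
      rw [D_apply] at this
      change δ' i₀ * x i₀ = k * w i₀ at this
      rw [← hgw, mul_assoc, mul_comm (w _), ← mul_assoc] at this
      refine ⟨x i₀, ?_⟩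
      rw [smul_eq_mul, mul_comm]
      exact mul_right_cancel₀ (hw0 _) this
    · rintro ⟨m, rfl⟩
      refine ⟨fun _ => m, funext fun i => ?_⟩
      rw [D_apply]
      change δ' i * m = (m • g') * w i
      rw [smul_eq_mul, mul_assoc, hgw, mul_comm]
  rw [hrange, ← AddSubgroup.relIndex_comap, AddSubgroup.relIndex_top_right, hcomap,
    Int.index_zmultiples]

/-- `#(ker(SD)/im A) · |det D| · |det D'| = gcd δ · gcd δ' · #(ker S / im(D A D'))`. -/
theorem card_mul_eq_twisted [Nonempty ι] (δ δ' : ι → ℤ) (hδ : ∀ i, δ i ≠ 0)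
    (hδ' : ∀ i, δ' i ≠ 0) (A : Matrix ι ι ℤ)
    (hP : LinearMap.range A.mulVecLin ≤ LinearMap.ker (S ι ∘ₗ D δ)) (hAδ : A.mulVec δ' = 0)
    (hspan : ∀ x : ι → ℤ, A.mulVec x = 0 → ∃ s : ℤ, x = s • fun i => δ' i / univ.gcd δ') :
    Nat.card (LinearMap.ker (S ι ∘ₗ D δ) ⧸
        (LinearMap.range A.mulVecLin).comap (LinearMap.ker (S ι ∘ₗ D δ)).subtype) *
        (∏ i, δ i).natAbs * (∏ i, δ' i).natAbs =
      (univ.gcd δ).natAbs * (univ.gcd δ').natAbs *
        Nat.card (LinearMap.ker (S ι) ⧸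
          (LinearMap.range (D δ ∘ₗ A.mulVecLin ∘ₗ D δ')).comap (LinearMap.ker (S ι)).subtype) := by
  have h1 := card_mul_eq δ hδ (LinearMap.range A.mulVecLin) hP
  rw [h1, card_quot_comap, card_quot_comap]
  set k0 := (LinearMap.ker (S ι)).toAddSubgroup with hk0
  set imD' := (LinearMap.range (D δ')).toAddSubgroup with himD'
  set kerA := (LinearMap.ker A.mulVecLin).toAddSubgroup with hkerA
  let f : (ι → ℤ) →+ (ι → ℤ) := (D δ ∘ₗ A.mulVecLin).toAddMonoidHom
  have hq : ((LinearMap.range A.mulVecLin).map (D δ)).toAddSubgroup = (⊤ : AddSubgroup _).map f := by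
    ext y
    constructor
    · rintro ⟨_, ⟨x, rfl⟩, rfl⟩
      exact ⟨x, trivial, rfl⟩
    · rintro ⟨x, -, rfl⟩
      exact ⟨_, ⟨x, rfl⟩, rfl⟩
  have hq' : (LinearMap.range (D δ ∘ₗ A.mulVecLin ∘ₗ D δ')).toAddSubgroup = imD'.map f := by
    ext y
    constructor
    · rintro ⟨x, rfl⟩
      exact ⟨D δ' x, ⟨x, rfl⟩, rfl⟩
    · rintro ⟨_, ⟨x, rfl⟩, rfl⟩
      exact ⟨x, rfl⟩
  have hfker : f.ker = kerA := by
    ext x
    show D δ (A.mulVecLin x) = 0 ↔ A.mulVecLin x = 0
    constructor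
    · intro h
      exact D_injective δ hδ (h.trans (map_zero _).symm)
    · intro h
      rw [h, map_zero]
  have hqk0 : (⊤ : AddSubgroup _).map f ≤ k0 := by
    rintro _ ⟨x, -, rfl⟩
    exact hP ⟨x, rfl⟩
  have hq'q : imD'.map f ≤ (⊤ : AddSubgroup _).map f := AddSubgroup.map_mono le_top
  have hmul := AddSubgroup.relIndex_mul_relIndex (imD'.map f) ((⊤ : AddSubgroup _).map f) k0
    hq'q hqk0
  have hr : (imD'.map f).relIndex ((⊤ : AddSubgroup _).map f) = (imD' ⊔ kerA).index := by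
    rw [AddSubgroup.relIndex_map_map, hfker, top_sup_eq, AddSubgroup.relIndex_top_right]
  have h2 : imD'.relIndex (imD' ⊔ kerA) * (imD' ⊔ kerA).index = imD'.index :=
    AddSubgroup.relIndex_mul_index le_sup_left
  rw [AddSubgroup.relIndex_sup_left, relIndex_range_D_ker δ' hδ' A hAδ hspan,
    index_range_D δ' hδ'] at h2
  rw [hq, hq', ← hmul, hr, ← h2]
  ring

end Groth.Agent.Lib.CompLatIndexGen
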