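import Groth.Agent.Lib.CurveVB67D
import Groth.Prelude.Def_ModFun2

/-!
# Vector bundles on curves, part E: slopes of kernels, images and quotients (helper67; campaign K6)

Namespace `Groth.Agent.Lib.CurveVB67`.  `H : ProperFinHyp.Hyp` is the statement of S0002.
Setting (`section Curve`): `X` integral, proper over a field `k`, all local rings principal (`hpid`).

* `isLocallyNoetherian_of_proper`, `isNoetherian_of_proper`, `isAffineHom_ι_of_proper` : the side conditions of parts A–D
  for a scheme proper over a field.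
* `isCoh_image`, `tf_image`, `tf_kernel`.
* `locFree_of_mono` : a coherent submodule `G` of a locally free module is `IsFinLocFreeOfRank (rk G)`.
* `slope_le_of_epi` : a torsion-free nonzero coherent quotient `Q` of a semistable `E` has `μ(E) ≤ μ(Q)`.
* `slope_lt_of_epi` : strict version for a quotient map which is not an isomorphism, `E` stable (proper-submodule sense).
* `not_isZero_of_rank_pos`.
-/

set_option autoImplicit false
universe u
open CategoryTheory CategoryTheory.Limits AlgebraicGeometry

namespace Groth.Agent.Lib.CurveVB67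

open Groth.Agent.Lib.ModStalkLin Groth.Agent.Lib.ProperFinHyp

section Side

theorem isLocallyNoetherian_of_proper (k : Type u) [Field k] (X : Scheme.{u}) [X.Over (Spec (CommRingCat.of k))]
    [IsProper (X ↘ (Spec (CommRingCat.of k)))] : IsLocallyNoetherian X :=
  LocallyOfFiniteType.isLocallyNoetherian (X ↘ Spec (CommRingCat.of k))

theorem compactSpace_of_proper (k : Type u) [Field k] (X : Scheme.{u}) [X.Over (Spec (CommRingCat.of k))]
    [IsProper (X ↘ (Spec (CommRingCat.of k)))] : CompactSpace X :=
  QuasiCompact.compactSpace_of_compactSpace (X ↘ Spec (CommRingCat.of k))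

theorem isNoetherian_of_proper (k : Type u) [Field k] (X : Scheme.{u}) [X.Over (Spec (CommRingCat.of k))]
    [IsProper (X ↘ (Spec (CommRingCat.of k)))] : AlgebraicGeometry.IsNoetherian X := by
  have := isLocallyNoetherian_of_proper k X
  have := compactSpace_of_proper k X
  exact {}

theorem isAffineHom_ι_of_proper (k : Type u) [Field k] (X : Scheme.{u}) [X.Over (Spec (CommRingCat.of k))]
    [IsProper (X ↘ (Spec (CommRingCat.of k)))] (W : X.Opens) (hW : IsAffineOpen W) : IsAffineHom W.ι := by
  have hWaff : IsAffine (W : Scheme.{u}) := hW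
  have : IsAffineHom (W.ι ≫ (X ↘ Spec (CommRingCat.of k))) := inferInstance
  exact IsAffineHom.of_comp W.ι (X ↘ Spec (CommRingCat.of k))

end Side

section General

variable {X : Scheme.{u}}

theorem isCoh_image {E F : X.Modules} (f : E ⟶ F) (hE : Coh.IsCoh E) (hF : Coh.IsCoh F) :
    Coh.IsCoh (Abelian.image f) := by
  have : E.IsQuasicoherent := hE.1
  have : F.IsQuasicoherent := hF.1
  exact Groth.Agent.Lib.H90OXModExact.isCoh_of_epi (Abelian.factorThruImage f) hE
    (Groth.Agent.Lib.H90OXModExact.isQuasicoherent_abelianImage f)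

theorem tf_image {E F : X.Modules} (f : E ⟶ F) (hF : TF F) : TF (Abelian.image f) :=
  tf_of_mono (Abelian.image.ι f) hF

theorem tf_kernel {E F : X.Modules} (f : E ⟶ F) (hE : TF E) : TF (kernel f) :=
  tf_of_mono (kernel.ι f) hE

theorem isZero_image_iff {E F : X.Modules} (f : E ⟶ F) : IsZero (Abelian.image f) ↔ f = 0 := by
  constructor
  · intro h
    rw [← Abelian.image.fac f, h.eq_of_tgt (Abelian.factorThruImage f) 0, zero_comp]
  · intro h
    have h1 : Abelian.factorThruImage f ≫ Abelian.image.ι f = 0 := by rw [Abelian.image.fac, h]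
    have h2 : Abelian.factorThruImage f = 0 := by
      rw [← cancel_mono (Abelian.image.ι f), h1, zero_comp]
    rw [IsZero.iff_id_eq_zero, ← cancel_epi (Abelian.factorThruImage f), h2, zero_comp, comp_zero]

end General

section Curve

variable (H : Hyp.{u}) (k : Type u) [Field k] (X : Scheme.{u}) [X.Over (Spec (CommRingCat.of k))]
  [IsProper (X ↘ (Spec (CommRingCat.of k)))] [IsIntegral X]
  (hpid : ∀ x : X, IsPrincipalIdealRing (X.presheaf.stalk x))

include k hpid in
/-- a coherent submodule of a locally free module is locally free of rank `rk`. -/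
theorem locFree_of_mono {G E : X.Modules} (i : G ⟶ E) [Mono i] (hG : Coh.IsCoh G) {r : ℕ}
    (hE : FlatMod.IsFinLocFreeOfRank r E) : FlatMod.IsFinLocFreeOfRank (rk G) G := by
  have := isLocallyNoetherian_of_proper k X
  exact isFinLocFreeOfRank_of_mono hpid i hG (isFinLocFree_of_rank hE)

omit [IsProper (X ↘ (Spec (CommRingCat.of k)))] in
theorem not_isZero_of_rank_pos {G : X.Modules} {r : ℕ} (hG : FlatMod.IsFinLocFreeOfRank r G) (hr : 0 < r) :
    ¬ IsZero G := by
  intro h
  have := eq_rk_of_isFinLocFreeOfRank hG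
  rw [rk_of_isZero h] at this
  omega

include H hpid in
/-- a torsion-free nonzero coherent quotient of a semistable module has slope `≥`. -/
theorem slope_le_of_epi {E Q : X.Modules} {r : ℕ} (hE : FlatMod.IsFinLocFreeOfRank r E)
    (hss : ModFun.IsSlopeSemistable k X E r) (p : E ⟶ Q) [Epi p] (hQ : Coh.IsCoh Q) :
    Curv2.deg k X E r * (rk Q : ℤ) ≤ Curv2.deg k X Q (rk Q) * (r : ℤ) := by
  have := isLocallyNoetherian_of_proper k X
  have hEc : Coh.IsCoh E := isCoh_of_rank hE
  have : Q.IsQuasicoherent := hQ.1
  have hKc : Coh.IsCoh (kernel p) := Groth.Agent.Lib.H90OXModExact.isCoh_kernel p hEc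
  have hS : (ShortComplex.mk (kernel.ι p) p (kernel.condition p)).ShortExact :=
    { exact := ShortComplex.exact_kernel p }
  have hrk := rk_add _ hS hKc hQ
  have hdeg := deg_rk_add H k X _ hS hKc hEc hQ
  simp only at hrk hdeg
  have hrE : r = rk E := eq_rk_of_isFinLocFreeOfRank hE
  rw [← hrE] at hrk hdeg
  rcases Nat.eq_zero_or_pos (rk (kernel p)) with h0 | hpos
  · have hz : IsZero (kernel p) := isZero_of_tf_of_rk_eq_zero hpid hKc
      (tf_kernel p (tf_of_isFinLocFree (isFinLocFree_of_rank hE))) h0
    have hmono : Mono p := Preadditive.mono_of_isZero_kernel p hz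
    have hiso : IsIso p := isIso_of_mono_of_epi p
    have h1 : rk Q = r := by omega
    have h2 := deg_congr k X (asIso p) r
    rw [h1, h2]
  · have hlf := locFree_of_mono k X hpid (kernel.ι p) hKc hE
    have h1 := hss (kernel p) _ (kernel.ι p) inferInstance hpos hlf
    have h2 : (r : ℤ) = rk (kernel p) + rk Q := by exact_mod_cast hrk
    have h3 : Curv2.deg k X E r * (r : ℤ) =
        Curv2.deg k X (kernel p) (rk (kernel p)) * (r : ℤ) + Curv2.deg k X Q (rk Q) * (r : ℤ) := by
      rw [hdeg]; ring
    have h4 : Curv2.deg k X E r * (r : ℤ) =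
        Curv2.deg k X E r * (rk (kernel p) : ℤ) + Curv2.deg k X E r * (rk Q : ℤ) := by
      rw [h2]; ring
    linarith

include H hpid in
/-- strict version: `E` stable in the sense that proper (non-isomorphic) locally free submodules of positive rank have
strictly smaller slope; `p` an epimorphism onto a nonzero coherent module which is not an isomorphism. -/
theorem slope_lt_of_epi {E Q : X.Modules} {r : ℕ} (hE : FlatMod.IsFinLocFreeOfRank r E)
    (hst : ∀ (G : X.Modules) (r' : ℕ) (i : G ⟶ E), Mono i → 0 < r' → FlatMod.IsFinLocFreeOfRank r' G →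
      (¬ IsIso i) → Curv2.deg k X G r' * (r : ℤ) < Curv2.deg k X E r * (r' : ℤ))
    (p : E ⟶ Q) [Epi p] (hQ : Coh.IsCoh Q) (hQ0 : ¬ IsZero Q) (hp : ¬ IsIso p) :
    Curv2.deg k X E r * (rk Q : ℤ) < Curv2.deg k X Q (rk Q) * (r : ℤ) := by
  have := isLocallyNoetherian_of_proper k X
  have hEc : Coh.IsCoh E := isCoh_of_rank hE
  have : Q.IsQuasicoherent := hQ.1
  have hKc : Coh.IsCoh (kernel p) := Groth.Agent.Lib.H90OXModExact.isCoh_kernel p hEc
  have hS : (ShortComplex.mk (kernel.ι p) p (kernel.condition p)).ShortExact :=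
    { exact := ShortComplex.exact_kernel p }
  have hrk := rk_add _ hS hKc hQ
  have hdeg := deg_rk_add H k X _ hS hKc hEc hQ
  simp only at hrk hdeg
  have hrE : r = rk E := eq_rk_of_isFinLocFreeOfRank hE
  rw [← hrE] at hrk hdeg
  have hpos : 0 < rk (kernel p) := by
    apply rk_pos hpid hKc (tf_kernel p (tf_of_isFinLocFree (isFinLocFree_of_rank hE)))
    intro hz
    have hmono : Mono p := Preadditive.mono_of_isZero_kernel p hz
    exact hp (isIso_of_mono_of_epi p)
  have hlf := locFree_of_mono k X hpid (kernel.ι p) hKc hE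
  have hni : ¬ IsIso (kernel.ι p) := by
    intro hiso
    have h0 : p = 0 := by
      rw [← cancel_epi (kernel.ι p), kernel.condition, comp_zero]
    apply hQ0
    rw [IsZero.iff_id_eq_zero, ← cancel_epi p, h0, zero_comp, comp_zero]
  have h1 := hst (kernel p) _ (kernel.ι p) inferInstance hpos hlf hni
  have h2 : (r : ℤ) = rk (kernel p) + rk Q := by exact_mod_cast hrk
  have h3 : Curv2.deg k X E r * (r : ℤ) =
      Curv2.deg k X (kernel p) (rk (kernel p)) * (r : ℤ) + Curv2.deg k X Q (rk Q) * (r : ℤ) := by
    rw [hdeg]; ring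
  have h4 : Curv2.deg k X E r * (r : ℤ) =
      Curv2.deg k X E r * (rk (kernel p) : ℤ) + Curv2.deg k X E r * (rk Q : ℤ) := by
    rw [h2]; ring
  linarith

end Curve

end Groth.Agent.Lib.CurveVB67
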