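import Groth.Agent.Lib.H4ProjFormula
import Groth.Agent.Lib.H78AtlasIso
import Groth.Agent.Lib.CechPushAffine
import Groth.Agent.Lib.EulerLE48
import Groth.Agent.Lib.GrothVanish
import Groth.Agent.Lib.H90ProperFin

/-!
# helper59: Euler characteristics and closed immersions

* `euler_congr` : `Curv2.euler` is invariant under isomorphisms.
* `euler_pushforward` : `χ(X, g_* M) = χ(Y, M)` for `g : Y ⟶ X` affine over a field, `X` separated, `M` qcoh.
* `euler_tensor_pushforward` : `χ(X, g_* G ⊗ N) = χ(Y, G ⊗ g^* N)` for `N` invertible (projection formula).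
-/

set_option autoImplicit false
universe u
open CategoryTheory CategoryTheory.Limits AlgebraicGeometry

namespace Groth.Agent.Lib.H59EulerClosed

open Groth.Agent.Lib

section Basic

variable (k : Type u) [Field k] {X : Scheme.{u}} [X.Over (Spec (CommRingCat.of k))]

theorem euler_congr {F G : X.Modules} (e : F ≅ G) : Curv2.euler k X F = Curv2.euler k X G := by
  unfold Curv2.euler
  refine finsum_congr fun i => ?_
  rw [(Groth.Agent.Lib.CohLES.mapEquivₗ k e i).finrank_eq]

theorem euler_pushforward {Y : Scheme.{u}} [Y.Over (Spec (CommRingCat.of k))] (g : Y ⟶ X)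
    [g.IsOver (Spec (CommRingCat.of k))] [IsAffineHom g]
    [IsAffineHom (pullback.diagonal (terminal.from X))]
    (M : Y.Modules) [M.IsQuasicoherent] :
    Curv2.euler k X ((Scheme.Modules.pushforward g).obj M) = Curv2.euler k Y M := by
  unfold Curv2.euler
  refine finsum_congr fun i => ?_
  obtain ⟨e⟩ := Groth.Agent.Lib.CechPushAffine.nonempty_linearEquiv_push_of_isAffineHom k g M i
  rw [e.finrank_eq]

/-- **Projection formula for Euler characteristics**: `χ(X, i_* G ⊗ N) = χ(Z, G ⊗ i^* N)` for `i` affine and `N`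
invertible. -/
theorem euler_tensor_pushforward {Z : Scheme.{u}} [Z.Over (Spec (CommRingCat.of k))] (i : Z ⟶ X)
    [i.IsOver (Spec (CommRingCat.of k))] [IsAffineHom i]
    [IsAffineHom (pullback.diagonal (terminal.from X))]
    (G : Z.Modules) [G.IsQuasicoherent] {N : X.Modules} (hN : PicF.IsInvertible N) :
    Curv2.euler k X (CohB1.tensorMod ((Scheme.Modules.pushforward i).obj G) N) =
      Curv2.euler k Z (CohB1.tensorMod G ((Scheme.Modules.pullback i).obj N)) := by
  haveI : ((Scheme.Modules.pullback i).obj N).IsQuasicoherent :=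
    (Groth.Agent.Lib.H90Invertible.isCoh_of_isInvertible
      (Groth.Agent.Lib.H90Invertible.isInvertible_pullback i hN)).1
  haveI := Groth.Agent.Lib.OXModTensorQCoh.isQuasicoherent_tensorMod G
    ((Scheme.Modules.pullback i).obj N)
  rw [euler_congr k (Groth.Agent.Lib.H4ProjFormula.projFormulaIso i G hN), euler_pushforward k i]

end Basic

section TensorPows

open Groth.Agent.Lib.IsoCls13

variable {X : Scheme.{u}}

/-- The class of `Curv2.tensorPows F r L n` in the monoid of isomorphism classes. -/
theorem cls_tensorPows (F : X.Modules) : ∀ (r : ℕ) (L : Fin r → X.Modules) (n : Fin r → ℕ),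
    cls (Curv2.tensorPows F r L n) = cls F * ∏ i, cls (L i) ^ n i
  | 0, _, _ => by simp [Curv2.tensorPows]
  | r + 1, L, n => by
    change cls (CohB1.tensorMod (Curv2.tensorPows F r (fun i => L i.castSucc) (fun i => n i.castSucc))
      (CohB1.tensorPow (L (Fin.last r)) (n (Fin.last r)))) = _
    rw [cls_tensorMod, cls_tensorPows F r, cls_tensorPow, Fin.prod_univ_castSucc, mul_assoc]

theorem isInvertible_tensorPows {F : X.Modules} (hF : PicF.IsInvertible F) :
    ∀ (r : ℕ) (L : Fin r → X.Modules) (_ : ∀ i, PicF.IsInvertible (L i)) (n : Fin r → ℕ),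
      PicF.IsInvertible (Curv2.tensorPows F r L n)
  | 0, _, _, _ => hF
  | r + 1, L, hL, n =>
    Groth.Agent.Lib.H78TensorGen.isInvertible_tensorMod
      (isInvertible_tensorPows hF r (fun i => L i.castSucc) (fun i => hL i.castSucc) _)
      (Groth.Agent.Lib.H78TensorGen.isInvertible_tensorPow (hL (Fin.last r)) (n (Fin.last r)))

/-- Pullback commutes with `Curv2.tensorPows` of invertible modules (up to isomorphism). -/
theorem cls_pullback_tensorPows {Z : Scheme.{u}} (i : Z ⟶ X) {F : X.Modules}
    (hF : PicF.IsInvertible F) :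
    ∀ (r : ℕ) (L : Fin r → X.Modules) (_ : ∀ j, PicF.IsInvertible (L j)) (n : Fin r → ℕ),
      cls ((Scheme.Modules.pullback i).obj (Curv2.tensorPows F r L n)) =
        cls (Curv2.tensorPows ((Scheme.Modules.pullback i).obj F) r
          (fun j => (Scheme.Modules.pullback i).obj (L j)) n)
  | 0, _, _, _ => rfl
  | r + 1, L, hL, n => by
    change cls ((Scheme.Modules.pullback i).obj
      (CohB1.tensorMod (Curv2.tensorPows F r (fun i => L i.castSucc) (fun i => n i.castSucc))
      (CohB1.tensorPow (L (Fin.last r)) (n (Fin.last r))))) =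
      cls (CohB1.tensorMod (Curv2.tensorPows ((Scheme.Modules.pullback i).obj F) r
        (fun j => (Scheme.Modules.pullback i).obj (L j.castSucc)) (fun i => n i.castSucc))
      (CohB1.tensorPow ((Scheme.Modules.pullback i).obj (L (Fin.last r))) (n (Fin.last r))))
    rw [cls_eq_iff.2 (Groth.Agent.Lib.H78AtlasIso.nonempty_pullback_tensorMod_iso i
      (isInvertible_tensorPows hF r (fun i => L i.castSucc) (fun i => hL i.castSucc) _)
      (Groth.Agent.Lib.H78TensorGen.isInvertible_tensorPow (hL (Fin.last r)) (n (Fin.last r)))),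
      cls_tensorMod, cls_tensorMod,
      cls_pullback_tensorPows i hF r (fun i => L i.castSucc) (fun i => hL i.castSucc) _,
      cls_eq_iff.2 (Groth.Agent.Lib.H78AtlasIso.nonempty_pullback_tensorPow_iso i (hL (Fin.last r))
        (n (Fin.last r)))]

end TensorPows

section Twisted

open Groth.Agent.Lib.IsoCls13

variable (k : Type u) [Field k] {X : Scheme.{u}} [X.Over (Spec (CommRingCat.of k))]

theorem euler_eq_of_cls_eq {F G : X.Modules} (h : cls F = cls G) :
    Curv2.euler k X F = Curv2.euler k X G :=
  euler_congr k (cls_eq_iff.1 h).some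

/-- `χ(X, (i_* G) ⊗ L^n) = χ(Z, G ⊗ (i^*L)^n)` for `i` affine and the `L_j` invertible. -/
theorem euler_tensorPows_pushforward {Z : Scheme.{u}} [Z.Over (Spec (CommRingCat.of k))] (i : Z ⟶ X)
    [i.IsOver (Spec (CommRingCat.of k))] [IsAffineHom i]
    [IsAffineHom (pullback.diagonal (terminal.from X))]
    (G : Z.Modules) [G.IsQuasicoherent] (r : ℕ) (L : Fin r → X.Modules)
    (hL : ∀ j, PicF.IsInvertible (L j)) (n : Fin r → ℕ) :
    Curv2.euler k X (Curv2.tensorPows ((Scheme.Modules.pushforward i).obj G) r L n) =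
      Curv2.euler k Z (Curv2.tensorPows G r (fun j => (Scheme.Modules.pullback i).obj (L j)) n) := by
  have hO := Groth.Agent.Lib.H90Invertible.isInvertible_structureModule X
  have hN := isInvertible_tensorPows hO r L hL n
  have h1 : cls (Curv2.tensorPows ((Scheme.Modules.pushforward i).obj G) r L n) =
      cls (CohB1.tensorMod ((Scheme.Modules.pushforward i).obj G)
        (Curv2.tensorPows (Coh.structureModule X) r L n)) := by
    rw [cls_tensorPows, cls_tensorMod, cls_tensorPows, cls_one, one_mul]
  rw [euler_eq_of_cls_eq k h1, euler_tensor_pushforward k i G hN]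
  refine euler_eq_of_cls_eq k ?_
  rw [cls_tensorMod, cls_pullback_tensorPows i hO r L hL n, cls_tensorPows, cls_tensorPows,
    ← cls_eq_of_iso (Groth.Agent.Lib.ModPullback.pullbackUnitIso i)]
  change cls G * (cls (Coh.structureModule Z) * _) = _
  rw [cls_one, one_mul]

end Twisted

end Groth.Agent.Lib.H59EulerClosed
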