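import Groth.Agent.Lib.LocFreeBasis48b
import Groth.Agent.Lib.ProjFormulaInv

/-!
# Projection formula for finite locally free modules (helper48)

For an arbitrary morphism of schemes `f : X ⟶ Y`, every `O_X`-module `G` and every finite locally free
`O_Y`-module `E` of rank `n`: `f_* G ⊗ E ≅ f_* (G ⊗ f^* E)`.

* `Pairing.isIso_hom_of_basis`: one-sided isomorphism criterion for pairings using local bases.
* `isIso_projHom_of_locFree`, `projIsoLF`.
* `pushPullIso`: `f_* O_X ⊗ E ≅ f_* f^* E`.
-/

set_option autoImplicit false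
universe u

open CategoryTheory AlgebraicGeometry TopologicalSpace Opposite MonoidalCategory
open Groth.Agent.Lib.H90Invertible Groth.Agent.Lib.H4TensorPair Groth.Agent.Lib.H78TensorGen
open Groth.Agent.Lib.H78PullSec Groth.Agent.Lib.LocFreeBasis48 Groth.Agent.Lib.ProjFormulaInv

namespace Groth.Agent.Lib.ProjFormulaLF48

section Criterion

variable {X : Scheme.{u}} {M L N : X.Modules} (β : Pairing M L N) {n : ℕ}

theorem preHom_app_bijective_of_basis {V : X.Opens} {s : Fin n → Γ(L, V)} (hs : IsBasis L V s)
    (W : X.Opens) (hW : W ≤ V)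
    (hb : Function.Bijective (fun a : Fin n → Γ(M, W) => ∑ i, β.toFun W (a i) (rs L hW (s i)))) :
    Function.Bijective (β.preHom.app (op W)) := by
  have h1 : Function.Bijective (fun x : Fin n → Γ(M, W) => ∑ i, ptmul (N := L) (x i) (rs L hW (s i))) :=
    ptmul_basis_bijective M (hs.mono hW)
  have h2 : (fun a : Fin n → Γ(M, W) => ∑ i, β.toFun W (a i) (rs L hW (s i))) =
      (fun z => (β.preHom.app (op W)).hom z) ∘
        (fun x : Fin n → Γ(M, W) => ∑ i, ptmul (N := L) (x i) (rs L hW (s i))) := by
    funext a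
    simp only [Function.comp_apply]
    rw [map_sum]
    rfl
  rw [h2] at hb
  exact (Function.Bijective.of_comp_iff _ h1).mp hb

/-- **One-sided isomorphism criterion for pairings, with local bases.** -/
theorem isIso_hom_of_basis
    (hcov : ∀ x : X, ∃ (V : X.Opens) (s : Fin n → Γ(L, V)), x ∈ V ∧ IsBasis L V s ∧
      ∀ (W : X.Opens) (hW : W ≤ V),
        Function.Bijective (fun a : Fin n → Γ(M, W) => ∑ i, β.toFun W (a i) (rs L hW (s i)))) :
    IsIso β.hom := by
  have hloc := locallyBijective_of_small (X := X)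
    (P := (show X.PresheafOfModules from CohB1.tensorPre M L)) (Q := N.val) β.preHom (by
      intro x
      obtain ⟨V, s, hxV, hs, hb⟩ := hcov x
      exact ⟨V, hxV, fun W hW => preHom_app_bijective_of_basis β hs W hW (hb W hW)⟩)
  have h1 : IsIso ((CohB1.sheafifyMod X).map β.preHom) :=
    isIso_sheafifyMod_map _ hloc.1 hloc.2
  have h2 : IsIso ((adj X).counit.app N) := inferInstance
  rw [Pairing.hom_eq]
  exact @IsIso.comp_isIso _ _ _ _ _ _ _ h1 h2

end Criterion

section Projection

variable {X Y : Scheme.{u}} (f : X ⟶ Y) (G : X.Modules) {E : Y.Modules} {n : ℕ}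

/-- The projection formula morphism is an isomorphism when `E` is finite locally free of rank `n`. -/
theorem isIso_projHom_of_locFree (hE : FlatMod.IsFinLocFreeOfRank n E) : IsIso (projHom f G E) := by
  refine isIso_hom_of_basis (n := n) (pairing f G E) (fun y => ?_)
  obtain ⟨V, s, hyV, hs⟩ := exists_isBasis_of_isFinLocFreeOfRank hE y
  refine ⟨V, s, hyV, hs, fun W hW => ?_⟩
  have h1 := tmul_basis_bijective G (isBasis_pb f hs) (f.preimage_mono hW)
  have h2 : (fun a : Fin n → Γ((Scheme.Modules.pushforward f).obj G, W) =>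
      ∑ i, (pairing f G E).toFun W (a i) (rs E hW (s i))) =
      fun x : Fin n → Γ(G, f ⁻¹ᵁ W) => ∑ i, tmul (x i)
        (rs ((Scheme.Modules.pullback f).obj E) (f.preimage_mono hW) (pb f E (s i))) := by
    funext a
    refine Finset.sum_congr rfl (fun i _ => ?_)
    show tmul (ofPush f G W (a i)) (pb f E (rs E hW (s i))) = _
    rw [pb_rs]
    rfl
  rw [h2]
  exact h1

/-- **Projection formula for a finite locally free module**: `f_* G ⊗ E ≅ f_* (G ⊗ f^* E)`. -/
noncomputable def projIsoLF (hE : FlatMod.IsFinLocFreeOfRank n E) :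
    CohB1.tensorMod ((Scheme.Modules.pushforward f).obj G) E ≅
      (Scheme.Modules.pushforward f).obj (CohB1.tensorMod G ((Scheme.Modules.pullback f).obj E)) :=
  haveI := isIso_projHom_of_locFree f G hE
  asIso (projHom f G E)

end Projection

end Groth.Agent.Lib.ProjFormulaLF48
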