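import Groth.Agent.Lib.CurveDeg48g
import Groth.Agent.Lib.ProjFormulaLF48
import Groth.Agent.Lib.H59EulerClosed
import Groth.Agent.Lib.H90OXModExact
import Groth.Agent.Lib.CurveVB67E
import Groth.Agent.Lib.H90InvertiblePullback

/-!
# Degree of the pullback of a finite locally free module along an affine morphism (helper48)

* `AddInv.eq_of_ker_coker_tors`: an additive invariant takes the same value on the source and target of a morphism of
  coherent modules whose kernel and cokernel have support of dimension `≤ 0`.
* `euler_pullback_eq`: `χ(X', f^*E) = χ(X, E ⊗ f_* O_{X'})` for `f` affine, `E` finite locally free of rank `n`.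
* `deg_pullback_eq`: `deg(f^* E) = χ(X, E ⊗ f_*O_{X'}) - n χ(X, f_* O_{X'})`.
-/

set_option autoImplicit false
universe u
open CategoryTheory CategoryTheory.Limits AlgebraicGeometry Opposite TopologicalSpace

namespace Groth.Agent.Lib.CurveDeg48

open Groth.Agent.Lib.OXModTensor

section Inv

variable {X : Scheme.{u}} [IsLocallyNoetherian X]

theorem AddInv.eq_of_ker_coker_tors (A : AddInv X) {M N : X.Modules} (u : M ⟶ N) (hM : Coh.IsCoh M)
    (hN : Coh.IsCoh N) (hk : topologicalKrullDim (CohB1.support (kernel u)) ≤ 0)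
    (hc : topologicalKrullDim (CohB1.support (cokernel u)) ≤ 0) : A.φ M = A.φ N := by
  haveI : M.IsQuasicoherent := hM.1
  haveI : N.IsQuasicoherent := hN.1
  have hS1 : (ShortComplex.mk (kernel.ι u) (Abelian.coimage.π u) (by simp)).ShortExact := by
    have h1 : Mono (kernel.ι u) := inferInstance
    have h2 : Epi (Abelian.coimage.π u) := inferInstanceAs (Epi (cokernel.π (kernel.ι u)))
    exact ShortComplex.ShortExact.mk'
      (ShortComplex.exact_of_g_is_cokernel _ (cokernelIsCokernel _)) h1 h2
  have hS2 : (ShortComplex.mk (Abelian.image.ι u) (cokernel.π u) (by simp)).ShortExact := by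
    have h1 : Mono (Abelian.image.ι u) := inferInstanceAs (Mono (kernel.ι (cokernel.π u)))
    have h2 : Epi (cokernel.π u) := inferInstance
    exact ShortComplex.ShortExact.mk'
      (ShortComplex.exact_of_f_is_kernel _ (kernelIsKernel _)) h1 h2
  have cK : Coh.IsCoh (kernel u) := Groth.Agent.Lib.H90OXModExact.isCoh_kernel u hM
  have cC : Coh.IsCoh (cokernel u) := Groth.Agent.Lib.H90OXModExact.isCoh_cokernel u hN
  have cI : Coh.IsCoh (Abelian.image u) := Groth.Agent.Lib.CurveVB67.isCoh_image u hM hN
  have e : Abelian.coimage u ≅ Abelian.image u := asIso (Abelian.coimageImageComparison u)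
  have cCo : Coh.IsCoh (Abelian.coimage u) := Groth.Agent.Lib.H90CohRestrict.isCoh_of_iso e.symm cI
  have h1 := A.add _ hS1 cK hM cCo
  have h2 := A.add _ hS2 cI hN cC
  have h3 := A.tors _ cK hk
  have h4 := A.tors _ cC hc
  have h5 := A.iso e
  simp only at h1 h2
  rw [h1, h2, h3, h4, h5]
  ring

end Inv

section Pull

variable (k : Type u) [Field k] (X X' : Scheme.{u})
  [X.Over (Spec (CommRingCat.of k))] [X'.Over (Spec (CommRingCat.of k))]
  [IsSeparated (X ↘ (Spec (CommRingCat.of k)))]
  (f : X' ⟶ X) [IsAffineHom f]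
  (hf : f ≫ (X ↘ (Spec (CommRingCat.of k))) = X' ↘ (Spec (CommRingCat.of k)))

include hf in
/-- `χ(X', G) = χ(X, f_* G)` for `f` affine, `G` quasi-coherent -/
theorem euler_pushforward_eq (G : X'.Modules) [G.IsQuasicoherent] :
    Curv2.euler k X ((Scheme.Modules.pushforward f).obj G) = Curv2.euler k X' G := by
  have hover : f.IsOver (Spec (CommRingCat.of k)) := ⟨hf⟩
  have hsep : X.IsSeparated := ⟨by
    rw [← terminal.comp_from (X ↘ (Spec (CommRingCat.of k)))]
    infer_instance⟩
  have haff : IsAffineHom (pullback.diagonal (terminal.from X)) := by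
    have : IsClosedImmersion (pullback.diagonal (terminal.from X)) :=
      IsSeparated.isClosedImmersion_diagonal
    infer_instance
  exact Groth.Agent.Lib.H59EulerClosed.euler_pushforward k f G

/-- `f_* f^* E ≅ E ⊗ f_* O_{X'}` for `E` finite locally free of rank `n` -/
noncomputable def pushPullIso {n : ℕ} {E : X.Modules} (hE : FlatMod.IsFinLocFreeOfRank n E) :
    (Scheme.Modules.pushforward f).obj ((Scheme.Modules.pullback f).obj E) ≅
      CohB1.tensorMod E ((Scheme.Modules.pushforward f).obj (Coh.structureModule X')) :=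
  (Scheme.Modules.pushforward f).mapIso (leftUnitor ((Scheme.Modules.pullback f).obj E)).symm ≪≫
    (Groth.Agent.Lib.ProjFormulaLF48.projIsoLF f (Coh.structureModule X') hE).symm ≪≫
    braiding _ _

include hf in
/-- `χ(X', f^*E) = χ(X, E ⊗ f_* O_{X'})` -/
theorem euler_pullback_eq {n : ℕ} {E : X.Modules} (hE : FlatMod.IsFinLocFreeOfRank n E) :
    Curv2.euler k X' ((Scheme.Modules.pullback f).obj E) =
      Curv2.euler k X (CohB1.tensorMod E ((Scheme.Modules.pushforward f).obj (Coh.structureModule X'))) := by
  have hq : ((Scheme.Modules.pullback f).obj E).IsQuasicoherent :=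
    (Groth.Agent.Lib.H90Invertible.isCoh_of_isFinLocFree (isFinLocFree_of_isFinLocFreeOfRank
      (Groth.Agent.Lib.H90Invertible.isFinLocFreeOfRank_pullback f hE))).1
  rw [← euler_pushforward_eq k X X' f hf ((Scheme.Modules.pullback f).obj E)]
  exact Groth.Agent.Lib.DegTensor54.euler_congr k (pushPullIso X X' f hE)

include hf in
/-- `deg(f^* E) = χ(X, E ⊗ f_*O_{X'}) - n χ(X, f_* O_{X'})` -/
theorem deg_pullback_eq {n : ℕ} {E : X.Modules} (hE : FlatMod.IsFinLocFreeOfRank n E) :
    Curv2.deg k X' ((Scheme.Modules.pullback f).obj E) n =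
      Curv2.euler k X (CohB1.tensorMod E ((Scheme.Modules.pushforward f).obj (Coh.structureModule X'))) -
        n * Curv2.euler k X ((Scheme.Modules.pushforward f).obj (Coh.structureModule X')) := by
  have hq : (Coh.structureModule X').IsQuasicoherent :=
    (Groth.Agent.Lib.H90Invertible.isCoh_of_isInvertible
      (Groth.Agent.Lib.H90Invertible.isInvertible_structureModule X')).1
  unfold Curv2.deg
  rw [euler_pullback_eq k X X' f hf hE, euler_pushforward_eq k X X' f hf (Coh.structureModule X')]

end Pull

end Groth.Agent.Lib.CurveDeg48
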