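import Groth.Agent.Lib.CurveDeg48f
import Groth.Agent.Lib.DegPull48

/-!
# Additive invariants as sums over the irreducible components (helper48; for S1641)

`X` Noetherian of dimension `≤ 1`, `A : AddInv X`.
* `compCloseds Z`, `compPt Z`: the closed set and the generic point of an irreducible component.
* `glen_hub`: the length of `hub Zc` at the generic point of a component `Z` is `1` if `Zc = Z` and `0` otherwise.
* `glen_compPt_ne_top`: coherent modules have finite length at generic points of components.
* `AddInv.eq_sum_glen`: `A.φ M = ∑_Z length(M_{ξ_Z}) · A.φ(hub Z)`.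
-/

set_option autoImplicit false
universe u
open CategoryTheory CategoryTheory.Limits AlgebraicGeometry Opposite TopologicalSpace

namespace Groth.Agent.Lib.CurveDeg48

open Groth.Agent.Lib.H90DevHub2 Groth.Agent.Lib.H90DevHub Groth.Agent.Lib.H90DevCanon

variable {X : Scheme.{u}} [AlgebraicGeometry.IsNoetherian X]

/-- the closed subset underlying an irreducible component -/
def compCloseds (Z : irreducibleComponents X) : Closeds X :=
  ⟨Z.1, isClosed_of_mem_irreducibleComponents Z.1 Z.2⟩

/-- the generic point of an irreducible component -/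
noncomputable def compPt (Z : irreducibleComponents X) : X := Z.2.1.genericPoint

theorem compPt_spec (Z : irreducibleComponents X) : IsGenericPoint (compPt Z) (Z.1 : Set X) := by
  have h := Z.2.1.isGenericPoint_genericPoint_closure
  rwa [(isClosed_of_mem_irreducibleComponents Z.1 Z.2).closure_eq] at h

theorem glen_hub (Zc : Closeds X) (hirrc : IsIrreducible (Zc : Set X)) (Z : irreducibleComponents X) :
    glen (compPt Z) (hub Zc) = if (Zc : Set X) = Z.1 then 1 else 0 := by
  split_ifs with h
  · have hξ : IsGenericPoint (compPt Z) (Zc : Set X) := by rw [h]; exact compPt_spec Z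
    haveI := isSimpleModule_hub hirrc hξ
    exact Module.length_eq_one _ _
  · apply glen_eq_zero_of_notMem_support
    intro hmem
    have hmem' : compPt Z ∈ (Zc : Set X) := support_hub_subset Zc hmem
    apply h
    have h1 : Z.1 ⊆ (Zc : Set X) := by
      rw [← (compPt_spec Z).def]
      exact closure_minimal (Set.singleton_subset_iff.mpr hmem') Zc.isClosed
    exact Set.Subset.antisymm (Z.2.2 hirrc h1) h1

/-- coherent modules have finite length at the generic points of the irreducible components -/
theorem glen_compPt_ne_top (M : X.Modules) (hM : Coh.IsCoh M) (Z : irreducibleComponents X) :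
    glen (compPt Z) M ≠ ⊤ := by
  refine Groth.Agent.Lib.H90DevSubset.devissage_two_of_three_subset X Set.univ
    (fun M => glen (compPt Z) M ≠ ⊤) ?_ ?_ ?_ ?_ M hM (Set.subset_univ _)
  · rintro M N ⟨e⟩ h
    rwa [← glen_congr _ e]
  · intro N hN
    have hs := subsingleton_stalk_of_isZero hN (compPt Z)
    have h0 : glen (compPt Z) N = 0 := Module.length_eq_zero
    rw [h0]
    simp
  · intro S hS h₁ h₂ h₃
    have hl := glen_add (compPt Z) hS
    refine ⟨fun p₁ p₂ => ?_, fun p₁ p₃ => ?_, fun p₂ p₃ => ?_⟩
    · intro h
      rw [h, add_top] at hl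
      exact p₂ hl
    · rw [hl]
      exact WithTop.add_ne_top.mpr ⟨p₁, p₃⟩
    · intro h
      rw [h, top_add] at hl
      exact p₂ hl
  · intro Zc hirrc _ ξ' hgen
    obtain ⟨hs, he⟩ := Groth.Agent.Lib.H90DevSummand.hub_props Zc hirrc ξ' hgen
    refine ⟨hub Zc, isCoh_hub Zc, hs, he, ?_⟩
    rw [glen_hub Zc hirrc Z]
    split_ifs <;> simp

instance finite_irreducibleComponents : Finite (irreducibleComponents X) :=
  TopologicalSpace.NoetherianSpace.finite_irreducibleComponents.to_subtype

/-- the weighted sum of lengths at the generic points of the irreducible components -/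
noncomputable def compSum (A : AddInv X) (M : X.Modules) : ℤ :=
  ∑ᶠ Z : irreducibleComponents X, ((glen (compPt Z) M).toNat : ℤ) * A.φ (hub (compCloseds Z))

theorem compSum_add (A : AddInv X) (S : ShortComplex X.Modules) (hS : S.ShortExact)
    (h₁ : Coh.IsCoh S.X₁) (h₃ : Coh.IsCoh S.X₃) :
    compSum A S.X₂ = compSum A S.X₁ + compSum A S.X₃ := by
  unfold compSum
  rw [← finsum_add_distrib (Set.toFinite _) (Set.toFinite _)]
  refine finsum_congr (fun Z => ?_)
  have hl := glen_add (compPt Z) hS
  have ht : (glen (compPt Z) S.X₂).toNat = (glen (compPt Z) S.X₁).toNat + (glen (compPt Z) S.X₃).toNat := by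
    rw [hl, ENat.toNat_add (glen_compPt_ne_top _ h₁ Z) (glen_compPt_ne_top _ h₃ Z)]
  rw [ht]
  push_cast
  ring

/-- an irreducible closed subset which is not an irreducible component has dimension `≤ 0` when `dim X ≤ 1` -/
theorem dim_le_zero_of_not_component (hdim : topologicalKrullDim X ≤ 1) (Zc : Closeds X)
    (hirrc : IsIrreducible (Zc : Set X)) (hnc : (Zc : Set X) ∉ irreducibleComponents X) :
    topologicalKrullDim ↥(Zc : Set X) ≤ 0 := by
  obtain ⟨u, hu, hsub⟩ := exists_mem_irreducibleComponents_subset_of_isIrreducible (Zc : Set X) hirrc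
  have hne : (Zc : Set X) ≠ u := fun h => hnc (h ▸ hu)
  have h1 := Groth.Agent.Lib.DimDrop.topologicalKrullDim_add_one_le_of_ssubset Zc.isClosed hu.1 hsub hne
  exact le_zero_of_add_one_le_one' ((h1.trans (topologicalKrullDim_subspace_le X u)).trans hdim)

/-- **Additive invariants are sums over the irreducible components** (`dim X ≤ 1`). -/
theorem AddInv.eq_compSum (A : AddInv X) (hdim : topologicalKrullDim X ≤ 1) (M : X.Modules)
    (hM : Coh.IsCoh M) : A.φ M = compSum A M := by
  refine Groth.Agent.Lib.H90DevSubset.devissage_two_of_three_subset X Set.univ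
    (fun M => A.φ M = compSum A M) ?_ ?_ ?_ ?_ M hM (Set.subset_univ _)
  · rintro M N ⟨e⟩ h
    have h1 : compSum A N = compSum A M := by
      unfold compSum
      refine finsum_congr (fun Z => ?_)
      rw [glen_congr _ e]
    rw [← A.iso e, h1]
    exact h
  · intro N hN
    rw [A.zero hN]
    unfold compSum
    have h1 : ∀ Z : irreducibleComponents X,
        ((glen (compPt Z) N).toNat : ℤ) * A.φ (hub (compCloseds Z)) = 0 := by
      intro Z
      have hs := subsingleton_stalk_of_isZero hN (compPt Z)
      have h0 : glen (compPt Z) N = 0 := Module.length_eq_zero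
      rw [h0]
      simp
    simp_rw [h1]
    exact finsum_zero.symm
  · intro S hS h₁ h₂ h₃
    have ha := A.add S hS h₁ h₂ h₃
    have hc := compSum_add A S hS h₁ h₃
    refine ⟨fun p₁ p₂ => ?_, fun p₁ p₃ => ?_, fun p₂ p₃ => ?_⟩
    · linarith
    · linarith
    · linarith
  · intro Zc hirrc _ ξ' hgen
    obtain ⟨hs, he⟩ := Groth.Agent.Lib.H90DevSummand.hub_props Zc hirrc ξ' hgen
    refine ⟨hub Zc, isCoh_hub Zc, hs, he, ?_⟩
    unfold compSum
    simp_rw [glen_hub Zc hirrc]
    by_cases hcomp : (Zc : Set X) ∈ irreducibleComponents X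
    · let Z0 : irreducibleComponents X := ⟨(Zc : Set X), hcomp⟩
      rw [finsum_eq_single _ Z0 (fun Z hZ => by
        have hne : ¬ ((Zc : Set X) = Z.1) := fun h => hZ (Subtype.ext h.symm)
        rw [if_neg hne]
        simp)]
      have h0 : compCloseds Z0 = Zc := TopologicalSpace.Closeds.ext rfl
      rw [if_pos rfl, h0]
      simp
    · have h1 : ∀ Z : irreducibleComponents X,
          ((((if (Zc : Set X) = Z.1 then 1 else 0 : ℕ∞)).toNat : ℕ) : ℤ) * A.φ (hub (compCloseds Z)) = 0 := by
        intro Z
        have hne : ¬ ((Zc : Set X) = Z.1) := fun h => hcomp (h ▸ Z.2)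
        rw [if_neg hne]
        simp
      simp_rw [h1]
      rw [finsum_zero]
      exact A.tors (hub Zc) (isCoh_hub Zc) (by rw [hs]; exact dim_le_zero_of_not_component hdim Zc hirrc hcomp)

end Groth.Agent.Lib.CurveDeg48
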