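import Groth.Agent.Lib.CompSum48
import Groth.Agent.Lib.FreeModStalk
import Groth.Agent.Lib.CartierDim48
import Mathlib.AlgebraicGeometry.IdealSheaf.IrreducibleComponent

/-!
# The degree of a locally free module as a sum over the irreducible components (helper48; = S1641)
-/

set_option autoImplicit false
universe u
open CategoryTheory CategoryTheory.Limits AlgebraicGeometry Opposite TopologicalSpace

namespace Groth.Agent.Lib.CurveDeg48

open Groth.Agent.Lib.H90DevHub2 Groth.Agent.Lib.H90DevHub Groth.Agent.Lib.H90DevCanon
  Groth.Agent.Lib.OXModTensor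

variable (H : Groth.Agent.Lib.ProperFinHyp.Hyp.{u}) (k : Type u) [Field k] (X : Scheme.{u})
  [X.Over (Spec (CommRingCat.of k))] [IsProper (X ↘ (Spec (CommRingCat.of k)))]

/-- the degree of the restriction of `E` to a closed subscheme, as a value of the additive invariant of `E` -/
theorem deg_subscheme_eq (J : X.IdealSheafData) {n : ℕ} {E : X.Modules}
    (hE : FlatMod.IsFinLocFreeOfRank n E) :
    @Curv2.deg k _ J.subscheme ⟨J.subschemeι ≫ (X ↘ (Spec (CommRingCat.of k)))⟩
      ((Scheme.Modules.pullback J.subschemeι).obj E) n =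
      (eulerInv H k X hE).φ ((Scheme.Modules.pushforward J.subschemeι).obj
        (Coh.structureModule J.subscheme)) := by
  letI : J.subscheme.Over (Spec (CommRingCat.of k)) :=
    ⟨J.subschemeι ≫ (X ↘ (Spec (CommRingCat.of k)))⟩
  exact deg_pullback_eq k X J.subscheme J.subschemeι rfl hE

variable [AlgebraicGeometry.IsNoetherian X]

/-- the value of the additive invariant of `E` on the hub of an irreducible component is the degree of the restriction
of `E` to the component with its reduced structure -/
theorem eulerInv_hub_comp (Z : irreducibleComponents X) {n : ℕ} {E : X.Modules}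
    (hE : FlatMod.IsFinLocFreeOfRank n E) :
    (eulerInv H k X hE).φ (hub (compCloseds Z)) =
      @Curv2.deg k _ (X.irreducibleComponentIdeal Z.1 Z.2).radical.subscheme
        ⟨(X.irreducibleComponentIdeal Z.1 Z.2).radical.subschemeι ≫ (X ↘ (Spec (CommRingCat.of k)))⟩
        ((Scheme.Modules.pullback (X.irreducibleComponentIdeal Z.1 Z.2).radical.subschemeι).obj E) n := by
  rw [deg_subscheme_eq H k X _ hE]
  have hJ : (X.irreducibleComponentIdeal Z.1 Z.2).radical =
      Scheme.IdealSheafData.vanishingIdeal (compCloseds Z) := by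
    rw [← Scheme.IdealSheafData.vanishingIdeal_support]
    rfl
  rw [hJ]

include H in
/-- **S1641**: `deg E = ∑_C m_C · deg(E|_C)` over the one-dimensional irreducible components. -/
theorem deg_eq_sum_components (hdim : topologicalKrullDim X ≤ 1)
    (n : ℕ) (E : X.Modules) (hE : FlatMod.IsFinLocFreeOfRank n E) :
    Curv2.deg k X E n = ∑ᶠ Z : irreducibleComponents (X : Type u),
      (if topologicalKrullDim (Z.1 : Set X) = 1 then
        ((Module.length (X.presheaf.stalk Z.2.1.genericPoint) (X.presheaf.stalk Z.2.1.genericPoint)).toNat : ℤ) *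
          @Curv2.deg k _ (X.irreducibleComponentIdeal Z.1 Z.2).radical.subscheme ⟨(X.irreducibleComponentIdeal Z.1 Z.2).radical.subschemeι ≫ (X ↘ (Spec (CommRingCat.of k)))⟩ ((Scheme.Modules.pullback (X.irreducibleComponentIdeal Z.1 Z.2).radical.subschemeι).obj E) n
      else 0) := by
  have hOX := Groth.Agent.Lib.CohFinAmple.isCoh_structureModule X
  have h1 : Curv2.deg k X E n = (eulerInv H k X hE).φ (Coh.structureModule X) := by
    change _ = Curv2.euler k X (CohB1.tensorMod E (Coh.structureModule X)) -
      n * Curv2.euler k X (Coh.structureModule X)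
    rw [Groth.Agent.Lib.DegTensor54.euler_congr k (rightUnitor E)]
    rfl
  rw [h1, (eulerInv H k X hE).eq_compSum hdim _ hOX]
  unfold compSum
  refine finsum_congr (fun Z => ?_)
  have hlen : glen (compPt Z) (Coh.structureModule X) =
      Module.length (X.presheaf.stalk Z.2.1.genericPoint) (X.presheaf.stalk Z.2.1.genericPoint) :=
    ((Groth.Agent.Lib.FreeModStalk.unitStalkEquiv (compPt Z)).length_eq).symm
  split_ifs with hd
  · rw [hlen, eulerInv_hub_comp H k X Z hE]
  · have hle : topologicalKrullDim ↥(Z.1 : Set X) ≤ 1 :=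
      (topologicalKrullDim_subspace_le X Z.1).trans hdim
    have h0 : topologicalKrullDim ↥(Z.1 : Set X) ≤ 0 := by
      by_contra hcon
      exact hd (le_antisymm hle (Groth.Agent.Lib.CartierDim48.one_le_of_not_le_zero hcon))
    have hs : CohB1.support (hub (compCloseds Z)) ⊆ (Z.1 : Set X) := support_hub_subset (compCloseds Z)
    rw [(eulerInv H k X hE).tors _ (isCoh_hub _)
      ((Groth.Agent.Lib.DimDrop.topologicalKrullDim_mono hs).trans h0)]
    simp

end Groth.Agent.Lib.CurveDeg48
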