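import Groth.Agent.Lib.FinSupp31
import Mathlib.Algebra.Homology.DerivedCategory.TStructure
import Mathlib.Algebra.Homology.DerivedCategory.HomologySequence
import Mathlib.CategoryTheory.Triangulated.TStructure.TruncLEGT

/-!
# Dévissage for maps into coproducts in `D(A)` (helper31)

Let `P : D(A)` be an object with `P ∈ D^{≤ 0}` such that maps from `P` into coproducts of (shifted)
objects of the heart are finitely supported (`Base P`).  If the cohomology functors commute with
`ι`-indexed coproducts, then maps from `P` into `ι`-indexed coproducts of uniformly bounded below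
families are finitely supported (`finSupp_of_isGE`).  If moreover `Hom(P, M) = 0` for `M ∈ D^{≤ -m}`
(`m` fixed), the same holds for arbitrary families (`finSupp_of_vanish`).
-/

set_option autoImplicit false

open CategoryTheory CategoryTheory.Limits Pretriangulated DerivedCategory
  DerivedCategory.TStructure

universe w' w v u

namespace Groth.Agent.CompactBdd31

open Groth.Agent.FinSupp31

lemma isZero_sigma {C : Type*} [Category* C] [HasZeroMorphisms C] {ι : Type*} (Z : ι → C)
    [HasCoproduct Z] (h : ∀ i, IsZero (Z i)) : IsZero (∐ Z) := by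
  rw [IsZero.iff_id_eq_zero]
  apply Sigma.hom_ext
  intro i
  exact (h i).eq_of_src _ _

variable {A : Type u} [Category.{v} A] [Abelian A] [HasDerivedCategory.{w} A] {ι : Type w'}
  [HasCoproductsOfShape ι (DerivedCategory A)]
  [∀ n : ℤ, PreservesColimitsOfShape (Discrete ι) (homologyFunctor A n)]

lemma isZero_homology_sigma (Y : ι → DerivedCategory A) (k : ℤ)
    (h : ∀ i, IsZero ((homologyFunctor A k).obj (Y i))) :
    IsZero ((homologyFunctor A k).obj (∐ Y)) := by
  have : HasCoproduct fun i => (homologyFunctor A k).obj (Y i) :=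
    ⟨⟨⟨_, isColimitOfHasCoproductOfPreservesColimit (homologyFunctor A k) Y⟩⟩⟩
  exact IsZero.of_iso (isZero_sigma _ h) (PreservesCoproduct.iso (homologyFunctor A k) Y)

lemma isGE_sigma (Y : ι → DerivedCategory A) (n : ℤ) (h : ∀ i, (Y i).IsGE n) : (∐ Y).IsGE n := by
  rw [isGE_iff]
  intro k hk
  exact isZero_homology_sigma Y k (fun i => isZero_of_isGE (Y i) n k hk)

lemma isLE_sigma (Y : ι → DerivedCategory A) (n : ℤ) (h : ∀ i, (Y i).IsLE n) : (∐ Y).IsLE n := by
  rw [isLE_iff]
  intro k hk
  exact isZero_homology_sigma Y k (fun i => isZero_of_isLE (Y i) n k hk)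

variable (ι) in
/-- maps from `P` into `ι`-indexed coproducts of shifted objects of the heart are finitely
supported -/
def Base (P : DerivedCategory A) : Prop :=
  ∀ (F : ι → A) (p : ℤ), FinSupp (fun i => (singleFunctor A p).obj (F i)) P

variable {P : DerivedCategory A}

omit [∀ n : ℤ, PreservesColimitsOfShape (Discrete ι) (homologyFunctor A n)] in
/-- bounded families -/
theorem finSupp_of_bounded (hbase : Base ι P) (n : ℕ) :
    ∀ (a : ℤ) (Y : ι → DerivedCategory A), (∀ i, (Y i).IsGE a) → (∀ i, (Y i).IsLE (a + n)) →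
      FinSupp Y P := by
  induction n with
  | zero =>
    intro a Y hGE hLE
    have hLE' : ∀ i, (Y i).IsLE a := fun i => by simpa using hLE i
    have e : ∀ i, ∃ (F : A), Nonempty (Y i ≅ (singleFunctor A a).obj F) := fun i =>
      exists_iso_singleFunctor_obj_of_isGE_of_isLE (Y i) a
    choose F e using e
    exact finSupp_of_iso (fun i => (Classical.choice (e i)).symm) (hbase F a)
  | succ n ih =>
    intro a Y hGE hLE
    let T : ι → Triangle (DerivedCategory A) := fun i => (t.triangleLEGE a (a + 1) rfl).obj (Y i)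
    have hT : ∀ i, T i ∈ distTriang _ := fun i => t.triangleLEGE_distinguished a (a + 1) rfl (Y i)
    have h₁ : FinSupp (fun i => (T i).obj₁) P := by
      -- the family `τ_{≤ a} Y i` is concentrated in degree `a`
      have e : ∀ i, ∃ (F : A), Nonempty ((t.truncLE a).obj (Y i) ≅ (singleFunctor A a).obj F) :=
        fun i => by
          have := hGE i
          have h1 : ((t.truncLE a).obj (Y i)).IsGE a := inferInstanceAs (t.IsGE _ a)
          have h2 : ((t.truncLE a).obj (Y i)).IsLE a := inferInstanceAs (t.IsLE _ a)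
          exact exists_iso_singleFunctor_obj_of_isGE_of_isLE _ a
      choose F e using e
      exact finSupp_of_iso (Y' := fun i => (t.truncLE a).obj (Y i))
        (fun i => (Classical.choice (e i)).symm) (hbase F a)
    have h₃ : FinSupp (fun i => (T i).obj₃) P := by
      refine ih (a + 1) (fun i => (t.truncGE (a + 1)).obj (Y i)) (fun i => ?_) (fun i => ?_)
      · exact inferInstanceAs (t.IsGE _ (a + 1))
      · have : t.IsLE (Y i) (a + 1 + n) := by
          have := hLE i
          have h : a + 1 + (n : ℤ) = a + ((n + 1 : ℕ) : ℤ) := by push_cast; ring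
          rw [h]
          exact this
        exact inferInstanceAs (t.IsLE ((t.truncGE (a + 1)).obj (Y i)) (a + 1 + n))
    exact finSupp_obj₂ T hT P h₁ h₃

/-- uniformly bounded below families -/
theorem finSupp_of_isGE (hbase : Base ι P) (hP : P.IsLE 0) (a : ℤ) (Y : ι → DerivedCategory A)
    (hY : ∀ i, (Y i).IsGE a) : FinSupp Y P := by
  let T : ι → Triangle (DerivedCategory A) := fun i => (t.triangleLEGE 0 1 rfl).obj (Y i)
  have hT : ∀ i, T i ∈ distTriang _ := fun i => t.triangleLEGE_distinguished 0 1 rfl (Y i)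
  have h₁ : FinSupp (fun i => (T i).obj₁) P := by
    -- `τ_{≤ 0} Y i` lies in `[min a 0, 0]`
    refine finSupp_of_bounded hbase (-(min a 0)).toNat (min a 0)
      (fun i => (t.truncLE 0).obj (Y i)) (fun i => ?_) (fun i => ?_)
    · have : t.IsGE (Y i) (min a 0) := t.isGE_of_ge (Y i) (min a 0) a (min_le_left _ _)
      exact inferInstanceAs (t.IsGE ((t.truncLE 0).obj (Y i)) (min a 0))
    · have h0 : t.IsLE ((t.truncLE 0).obj (Y i)) 0 := inferInstance
      have h : min a 0 + ((-(min a 0)).toNat : ℤ) = 0 := by
        have : min a 0 ≤ 0 := min_le_right _ _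
        omega
      rw [h]
      exact h0
  have h₃ : FinSupp (fun i => (T i).obj₃) P := by
    refine finSupp_of_forall_eq_zero _ _ (fun f => ?_)
    have hGE : (∐ fun i => (t.truncGE 1).obj (Y i)).IsGE 1 :=
      isGE_sigma _ 1 (fun i => inferInstanceAs (t.IsGE _ 1))
    exact t.zero_of_isLE_of_isGE f 0 1 (by omega) hP hGE
  exact finSupp_obj₂ T hT P h₁ h₃

/-- arbitrary families, when `Hom(P, M) = 0` for `M ∈ D^{≤ -m}` -/
theorem finSupp_of_vanish (hbase : Base ι P) (hP : P.IsLE 0) (m : ℤ)
    (hvan : ∀ (M : DerivedCategory A), M.IsLE (-m) → ∀ f : P ⟶ M, f = 0)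
    (Y : ι → DerivedCategory A) : FinSupp Y P := by
  let T : ι → Triangle (DerivedCategory A) :=
    fun i => (t.triangleLEGE (-m) (-m + 1) rfl).obj (Y i)
  have hT : ∀ i, T i ∈ distTriang _ :=
    fun i => t.triangleLEGE_distinguished (-m) (-m + 1) rfl (Y i)
  have h₁ : FinSupp (fun i => (T i).obj₁) P := by
    refine finSupp_of_forall_eq_zero _ _ (fun f => ?_)
    exact hvan _ (isLE_sigma (fun i => (t.truncLE (-m)).obj (Y i)) (-m)
      (fun i => inferInstanceAs (t.IsLE ((t.truncLE (-m)).obj (Y i)) (-m)))) f
  have h₃ : FinSupp (fun i => (T i).obj₃) P :=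
    finSupp_of_isGE hbase hP (-m + 1) (fun i => (t.truncGE (-m + 1)).obj (Y i))
      (fun i => inferInstanceAs (t.IsGE _ (-m + 1)))
  exact finSupp_obj₂ T hT P h₁ h₃

end Groth.Agent.CompactBdd31
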